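import Groth.Statements.S0020
import Groth.Agent.Lib.Helper3.QCLocal

set_option autoImplicit false
universe u
open Coherent

namespace Groth.Agent.S0020

open CategoryTheory CategoryTheory.Limits AlgebraicGeometry TopologicalSpace Opposite
open Groth.Agent.Lib.Helper3

open AlgebraicGeometry in
/-- On a scheme X, the set of points at which the stalk of a finite type 𝒪_X-module M is nonzero (the
support of M) is closed. -/
theorem result (X : Scheme.{u}) (M : X.Modules) (hM : CohB1.IsFT M) :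
    IsClosed (CohB1.support M) := by
  rw [← isOpen_compl_iff, isOpen_iff_forall_mem_open]
  intro x hx
  have hx' : Subsingleton (M.presheaf.stalk x) := not_not.mp hx
  have : M.IsFiniteType := hM
  obtain ⟨U, hU, hxU, σ, hσ⟩ := QCLocal.exists_affine_generatingSections M x
  have : Finite σ.I := hσ.finite
  let N : (U : Scheme.{u}).Modules := M.restrict U.ι
  let x' : (U : Scheme.{u}) := ⟨x, hxU⟩
  have hx2 : U.ι x' = x := rfl
  have hNx : Subsingleton (N.presheaf.stalk x') := by
    rw [ModBasic.subsingleton_stalk_restrict_iff, hx2]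
    exact hx'
  -- the sections
  let ψ : σ.I → (Coh.structureModule (U : Scheme.{u}) ⟶ N) := fun i =>
    SheafOfModules.ιFree i ≫ σ.π
  have hV : ∀ i, ∃ V : (U : Scheme.{u}).Opens, x' ∈ V ∧
      N.presheaf.map (homOfLE (le_top : V ≤ ⊤)).op ((ψ i).app ⊤ (1 : Γ((U : Scheme.{u}), ⊤))) = 0 := by
    intro i
    have hg : N.presheaf.germ ⊤ x' (Opens.mem_top x') ((ψ i).app ⊤ (1 : Γ((U : Scheme.{u}), ⊤))) =
        N.presheaf.germ ⊤ x' (Opens.mem_top x') 0 := Subsingleton.elim _ _
    obtain ⟨W, hxW, i1, i2, hW⟩ := TopCat.Presheaf.germ_eq (U := ⊤) (V := ⊤) N.presheaf x' (Opens.mem_top x') (Opens.mem_top x') _ _ hg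
    refine ⟨W, hxW, ?_⟩
    rw [map_zero] at hW
    exact hW
  choose V hxV hV0 using hV
  let V' : (U : Scheme.{u}).Opens := ⨅ i, V i
  have hxV' : x' ∈ V' := by
    change x' ∈ ((⨅ i, V i : (U : Scheme.{u}).Opens) : Set (U : Scheme.{u}))
    rw [Opens.coe_iInf, Set.mem_iInter]
    exact hxV
  let F := Scheme.Modules.restrictFunctor V'.ι
  have : PreservesColimitsOfSize.{u, u} F := inferInstance
  have hFπ : F.map σ.π = 0 := by
    apply (isColimitOfPreserves F
      (SheafOfModules.isColimitFreeCofan (R := (U : Scheme.{u}).ringCatSheaf) σ.I)).hom_ext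
    rintro ⟨i⟩
    change F.map (SheafOfModules.ιFree i) ≫ F.map σ.π = F.map (SheafOfModules.ιFree i) ≫ 0
    rw [← F.map_comp, comp_zero]
    apply ModBasic.restrict_map_unit_hom_eq_zero (ψ i) V'
    have hle : V' ≤ V i := iInf_le _ i
    rw [← ModBasic.map_map_apply N hle le_top, hV0 i, map_zero]
  have : Epi (F.map σ.π) := @Functor.map_epi _ _ _ _ (Scheme.Modules.restrictFunctor V'.ι) inferInstance _ _ σ.π σ.epi
  have hz : IsZero (F.obj N) := IsZero.of_epi_eq_zero (F.map σ.π) hFπ
  refine ⟨(U.ι ''ᵁ V' : X.Opens), ?_, (U.ι ''ᵁ V').2, ⟨x', hxV', hx2⟩⟩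
  rintro _ ⟨y, hy, rfl⟩
  change ¬ ¬ Subsingleton (M.presheaf.stalk (U.ι y))
  rw [not_not, ← ModBasic.subsingleton_stalk_restrict_iff]
  have : Subsingleton (N.presheaf.stalk (V'.ι ⟨y, hy⟩)) :=
    ModBasic.subsingleton_stalk_of_isZero_restrict hz ⟨y, hy⟩
  exact this

end Groth.Agent.S0020
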