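import Groth.Statements.S0019
import Groth.Agent.Lib.Helper3.QCPush
import Mathlib.AlgebraicGeometry.Morphisms.Finite

set_option autoImplicit false
universe u
open Coherent

namespace Groth.Agent.S0019

open CategoryTheory CategoryTheory.Limits AlgebraicGeometry TopologicalSpace Opposite
open Groth.Agent.Lib.Helper3

open AlgebraicGeometry in
/-- If f : X → Y is a finite morphism of schemes with Y locally Noetherian and F is a coherent
O_X-module, then the direct image f_*F is a coherent O_Y-module. -/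
theorem result {X Y : Scheme.{u}} (f : X ⟶ Y) [IsFinite f] [IsLocallyNoetherian Y]
    (M : X.Modules) (hM : Coh.IsCoh M) : Coh.IsCoh ((Coh.push f).obj M) := by
  have : M.IsQuasicoherent := hM.1
  have : M.IsFiniteType := hM.2
  have hq : ((Scheme.Modules.pushforward f).obj M).IsQuasicoherent :=
    QCSec.isQuasicoherent_pushforward f M
  refine ⟨hq, ?_⟩
  apply QCProps.isFiniteType_of_charts
  intro y
  obtain ⟨V, hV, hyV⟩ := QCProps.exists_affine_nbhd y
  refine ⟨V, hV, hyV, inferInstance, ?_⟩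
  have hU : IsAffineOpen (f ⁻¹ᵁ V) := hV.preimage f
  have h1 : Module.Finite Γ(X, f ⁻¹ᵁ V) Γ(M, f ⁻¹ᵁ V) := QCProps.finite_sections M hU
  have h2 : (f.app V).hom.Finite := f.finite_app V hV
  letI := (f.app V).hom.toAlgebra
  haveI : Module.Finite Γ(Y, V) Γ(X, f ⁻¹ᵁ V) := h2
  letI : Module Γ(X, f ⁻¹ᵁ V) Γ((Scheme.Modules.pushforward f).obj M, V) :=
    inferInstanceAs (Module Γ(X, f ⁻¹ᵁ V) Γ(M, f ⁻¹ᵁ V))
  haveI : IsScalarTower Γ(Y, V) Γ(X, f ⁻¹ᵁ V) Γ((Scheme.Modules.pushforward f).obj M, V) :=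
    IsScalarTower.of_algebraMap_smul fun _ _ => rfl
  haveI : Module.Finite Γ(X, f ⁻¹ᵁ V) Γ((Scheme.Modules.pushforward f).obj M, V) := h1
  exact Module.Finite.trans Γ(X, f ⁻¹ᵁ V) _

end Groth.Agent.S0019
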