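-- Statement S0392.
import Groth.Statements.S0392
import Groth.Agent.Lib.Helper1.FibreFlat

set_option autoImplicit false
universe u
open FlatMor

namespace Groth.Agent.S0392

open TensorProduct in
/-- Fibrewise criterion of flatness, Noetherian local form: for local homomorphisms R → S → S' of
Noetherian local rings and a nonzero finite S'-module M that is flat over R and whose reduction
modulo the maximal ideal of R is flat over the corresponding fibre ring of S, the ring S is flat
over R and M is flat over S. -/
theorem result {R S S' M : Type u} [CommRing R] [CommRing S] [CommRing S'] [IsLocalRing R] [IsLocalRing S] [IsLocalRing S']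
    [IsNoetherianRing R] [IsNoetherianRing S] [IsNoetherianRing S'] [Algebra R S] [Algebra S S'] [Algebra R S'] [IsScalarTower R S S']
    [IsLocalHom (algebraMap R S)] [IsLocalHom (algebraMap S S')]
    [AddCommGroup M] [Module S' M] [Module S M] [Module R M] [IsScalarTower S S' M] [IsScalarTower R S M]
    [Module.Finite S' M] [Nontrivial M] [Module.Flat R M]
    (h : Module.Flat (S ⧸ ((IsLocalRing.maximalIdeal R).map (algebraMap R S))) ((S ⧸ ((IsLocalRing.maximalIdeal R).map (algebraMap R S))) ⊗[S] M)) :
    Module.Flat R S ∧ Module.Flat S M := by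
  set I : Ideal S := (IsLocalRing.maximalIdeal R).map (algebraMap R S) with hI
  have hI_le : I ≤ IsLocalRing.maximalIdeal S := IsLocalRing.map_maximalIdeal_le _
  have hJ : I.map (algebraMap S S') ≤ Ideal.jacobson ⊥ := by
    rw [IsLocalRing.jacobson_eq_maximalIdeal ⊥ bot_ne_top]
    exact (Ideal.map_mono hI_le).trans (IsLocalRing.map_maximalIdeal_le (algebraMap S S'))
  have h1 := Groth.Agent.Lib.Helper1.FibreFlat.rTensor_subtype_map_injective (S := S) (M := M)
    (IsLocalRing.maximalIdeal R)
  have hSM : Module.Flat S M :=
    Groth.Agent.Lib.Helper8.flat_of_local_criterion_of_finite (B := S') I hJ M h h1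
  refine ⟨?_, hSM⟩
  haveI : Module.FaithfullyFlat S M :=
    Groth.Agent.Lib.Helper1.FibreFlat.faithfullyFlat_of_flat_of_finite (S' := S')
  exact Groth.Agent.Lib.Helper1.FibreFlat.flat_of_faithfullyFlat_module (S := S) (M := M)

end Groth.Agent.S0392
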