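import Groth.Statements.S9358
-- import your own Groth.Agent.* helpers here
import Mathlib
import Groth.Agent.Lib.Helper12.BaseChange2

set_option autoImplicit false
universe u
open FibDim

namespace Groth.Agent.S9358

open AlgebraicGeometry CategoryTheory in
/-- In a cartesian square with f : X → S locally of finite type and base change f' : X' → S', g' : X' →
X, one has dim_{x'}(X'_{f' x'}) = dim_{g' x'}(X_{f (g' x')}) for all x' ∈ X'; hence relative
dimension ≤ d and relative dimension d are preserved by base change. -/
theorem result {X S X' S' : Scheme.{u}} (f : X ⟶ S) [LocallyOfFiniteType f] (g : S' ⟶ S)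
    (g' : X' ⟶ X) (f' : X' ⟶ S') (hsq : IsPullback g' f' f g) (d : ℕ) :
    (∀ x' : ↑X', FlatMor.fibreDimAt f' x' = FlatMor.fibreDimAt f (g'.base x')) ∧
      ((∀ x : ↑X, FlatMor.fibreDimAt f x ≤ d) → ∀ x' : ↑X', FlatMor.fibreDimAt f' x' ≤ d) ∧
        (Cyc.HasRelDim f d → Cyc.HasRelDim f' d) := by
  have key : ∀ x' : ↑X', FlatMor.fibreDimAt f' x' = FlatMor.fibreDimAt f (g'.base x') := by
    intro x'
    have hpb := AlgebraicGeometry.isPullback_fiberToSpecResidueField_of_isPullback hsq (f' x')
    haveI : AlgebraicGeometry.LocallyOfFiniteType (f.fiberToSpecResidueField (g (f' x'))) :=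
      CategoryTheory.MorphismProperty.of_isPullback (P := @AlgebraicGeometry.LocallyOfFiniteType)
        (CategoryTheory.IsPullback.of_hasPullback f (S.fromSpecResidueField (g (f' x'))))
        inferInstance
    have h1 := Groth.Agent.Lib.Helper12.BaseChange.localDim_of_isPullback_field
      (S.residueField (g (f' x'))) (S'.residueField (f' x')) (g.residueFieldMap (f' x')).hom
      (f.fiberToSpecResidueField (g (f' x'))) _ (f'.fiberToSpecResidueField (f' x')) hpb
      (f'.asFiber x')
    unfold FlatMor.fibreDimAt
    refine h1.trans ?_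
    have hy : g (f' x') = f (g' x') := by
      have := congrArg (fun ψ : X' ⟶ S => ψ x') hsq.w
      exact this.symm
    refine Groth.Agent.Lib.Helper12.BaseChange.localDim_fiber_congr f hy _ _ ?_
    rw [AlgebraicGeometry.Scheme.Hom.fiberι_asFiber]
    have h2 : CategoryTheory.Limits.pullback.map f' (S'.fromSpecResidueField (f' x')) f
        (S.fromSpecResidueField (g (f' x'))) g' (Spec.map (g.residueFieldMap (f' x'))) g
        hsq.w.symm (by simp) ≫ f.fiberι (g (f' x')) = f'.fiberι (f' x') ≫ g' := by
      simp only [AlgebraicGeometry.Scheme.Hom.fiberι]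
      exact CategoryTheory.Limits.pullback.lift_fst _ _ _
    have h3 := congrArg (fun ψ : f'.fiber (f' x') ⟶ X => ψ (f'.asFiber x')) h2
    simp only [AlgebraicGeometry.Scheme.Hom.comp_apply,
      AlgebraicGeometry.Scheme.Hom.fiberι_asFiber] at h3
    exact h3
  refine ⟨key, ?_, ?_⟩
  · intro h x'
    rw [key x']
    exact h _
  · intro h y' T hT
    have hpb := AlgebraicGeometry.isPullback_fiberToSpecResidueField_of_isPullback hsq y'
    haveI : AlgebraicGeometry.LocallyOfFiniteType (f.fiberToSpecResidueField (g y')) :=
      CategoryTheory.MorphismProperty.of_isPullback (P := @AlgebraicGeometry.LocallyOfFiniteType)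
        (CategoryTheory.IsPullback.of_hasPullback f (S.fromSpecResidueField (g y')))
        inferInstance
    have h1 := Groth.Agent.Lib.Helper12.BaseChange.dims_irreducibleComponents_of_isPullback_field
      (S.residueField (g y')) (S'.residueField y') (g.residueFieldMap y').hom
      (f.fiberToSpecResidueField (g y')) _ (f'.fiberToSpecResidueField y') hpb
    have h2 : topologicalKrullDim T ∈ (fun T : Set (f'.fiber y') => topologicalKrullDim T) ''
        irreducibleComponents (f'.fiber y') := ⟨T, hT, rfl⟩
    rw [h1] at h2
    obtain ⟨T₀, hT₀, hd⟩ := h2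
    rw [← hd]
    exact h (g y') T₀ hT₀

end Groth.Agent.S9358
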