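import Groth.Statements.S6460
-- import your own Groth.Agent.* helpers here
import Mathlib
import Groth.Agent.Lib.Helper12.DimFun
import Groth.Agent.Lib.Helper12.SchemeDimFT4

set_option autoImplicit false
universe u
open CategoryTheory AlgebraicGeometry
open Cyc

namespace Groth.Agent.S6460
open Groth.Agent.Lib.Helper12 Groth.Agent.Lib.Helper12.SchemeDimFT

/-- In a locally Noetherian scheme every point has an open neighbourhood all of whose maximal
points are generizations of the point. -/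
theorem exists_open_maxPts_specialize (X : Scheme.{u}) [IsLocallyNoetherian X] (x : X) :
    ∃ W : Set X, IsOpen W ∧ x ∈ W ∧ ∀ ξ ∈ W, IsMaxPt ξ → ξ ⤳ x := by
  obtain ⟨U, hU, hxU⟩ := exists_affineOpen_mem X x
  haveI : IsNoetherianRing Γ(X, U) := IsLocallyNoetherian.component_noetherian ⟨U, hU⟩
  set q := hU.primeIdealOf ⟨x, hxU⟩ with hq
  have hfin : (minimalPrimes Γ(X, U)).Finite := minimalPrimes.finite_of_isNoetherianRing _
  have hex : ∀ P ∈ minimalPrimes Γ(X, U), ¬ P ≤ q.asIdeal → ∃ a ∈ P, a ∉ q.asIdeal := by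
    intro P hP hne
    by_contra hcon
    push Not at hcon
    exact hne hcon
  classical
  let aP : Ideal Γ(X, U) → Γ(X, U) := fun P =>
    if h : P ∈ minimalPrimes Γ(X, U) ∧ ¬ P ≤ q.asIdeal then (hex P h.1 h.2).choose else 1
  let s := hfin.toFinset.filter (fun P => ¬ P ≤ q.asIdeal)
  let a := ∏ P ∈ s, aP P
  have ha_notin : a ∉ q.asIdeal := by
    intro hmem
    obtain ⟨P, hPs, hPmem⟩ := (Ideal.IsPrime.prod_mem_iff.mp hmem)
    have hP : P ∈ minimalPrimes Γ(X, U) ∧ ¬ P ≤ q.asIdeal := by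
      simpa [s] using hPs
    have : aP P = (hex P hP.1 hP.2).choose := dif_pos hP
    rw [this] at hPmem
    exact (hex P hP.1 hP.2).choose_spec.2 hPmem
  have ha_in : ∀ P ∈ minimalPrimes Γ(X, U), ¬ P ≤ q.asIdeal → a ∈ P := by
    intro P hP hne
    have hPs : P ∈ s := by simp [s, hP, hne]
    have h1 : aP P ∈ P := by
      have : aP P = (hex P hP hne).choose := dif_pos ⟨hP, hne⟩
      rw [this]
      exact (hex P hP hne).choose_spec.1
    exact Ideal.prod_mem P hPs h1
  refine ⟨(X.basicOpen a : Set X), (X.basicOpen a).2, ?_, ?_⟩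
  · rw [SetLike.mem_coe]
    exact (mem_basicOpen_iff_notMem_primeIdealOf hU ⟨x, hxU⟩ a).mpr ha_notin
  · intro ξ hξ hmax
    have hξU : ξ ∈ U := X.basicOpen_le a hξ
    have hξa : a ∉ (hU.primeIdealOf ⟨ξ, hξU⟩).asIdeal :=
      (mem_basicOpen_iff_notMem_primeIdealOf hU ⟨ξ, hξU⟩ a).mp hξ
    have h0 := (isMaxPt_iff_height_eq_zero hU ⟨ξ, hξU⟩).mp hmax
    rw [Order.height_eq_zero] at h0
    have hmin : (hU.primeIdealOf ⟨ξ, hξU⟩).asIdeal ∈ minimalPrimes Γ(X, U) := by
      refine ⟨⟨(hU.primeIdealOf ⟨ξ, hξU⟩).2, bot_le⟩, ?_⟩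
      rintro P ⟨hPp, -⟩ hPle
      exact @h0 ⟨P, hPp⟩ hPle
    have hle : (hU.primeIdealOf ⟨ξ, hξU⟩).asIdeal ≤ q.asIdeal := by
      by_contra hne
      exact hξa (ha_in _ hmin hne)
    exact (primeIdealOf_le_iff hU ⟨ξ, hξU⟩ ⟨x, hxU⟩).mp hle

/-- (3) ⇒ (1): suppose that for every x ∈ X there is an integer n_x with δ(ξ) = n_x for every generic
point ξ of an irreducible component of X containing x. Then X decomposes into open and closed
subschemes X_n (n ∈ ℤ) such that every irreducible component of X_n has δ-dimension n; stated as the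
existence of a locally constant c : X → ℤ with δ(ξ) = c(ξ) for every point ξ that is maximal under
specialization. (The converse implications are immediate and not stated.) Here a pair (X, δ) with
Cyc.IsSetup plays the role of a scheme locally of finite type over the base (S, δ) (X locally
Noetherian with universally catenary local rings, δ a dimension function). -/
theorem result (X : Scheme.{u}) (δ : X → ℤ) (hX : Cyc.IsSetup X δ) (h3 : ∀ x : X, ∃ n : ℤ, ∀ ξ : X, (∀ ξ' : X, ξ' ⤳ ξ → ξ' = ξ) → ξ ⤳ x → δ ξ = n) : ∃ c : X → ℤ, IsLocallyConstant c ∧ ∀ ξ : X, (∀ ξ' : X, ξ' ⤳ ξ → ξ' = ξ) → δ ξ = c ξ := by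
  haveI : IsLocallyNoetherian X := hX.1
  choose n hn using h3
  refine ⟨n, ?_, ?_⟩
  · rw [IsLocallyConstant.iff_exists_open]
    intro x
    obtain ⟨W, hW, hxW, hWmax⟩ := exists_open_maxPts_specialize X x
    refine ⟨W, hW, hxW, fun x' hx' => ?_⟩
    obtain ⟨ξ', hξ'1, hξ'2⟩ := exists_isMaxPt_specializes x'
    have hξ'W : ξ' ∈ W := hξ'2.mem_open hW hx'
    rw [← hn x' ξ' hξ'1 hξ'2, ← hn x ξ' hξ'1 (hWmax ξ' hξ'W hξ'1)]
  · intro ξ hξ
    exact hn ξ ξ hξ specializes_rfl

end Groth.Agent.S6460
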