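import Groth.Statements.S9350
import Mathlib
import Groth.Agent.Lib.Helper17.PbStalk
import Groth.Agent.Lib.Helper17.FlatMixed

set_option autoImplicit false
universe u
open FlatMod

namespace Groth.Agent.S9350

open AlgebraicGeometry CategoryTheory in
/-- Let h : X → Y be a morphism of S-schemes, q : Y → S, G a quasi-coherent O_Y-module and x ∈ X with h
flat at x. Flatness of G over S at h x is equivalent to flatness of h^*G over S at x. -/
theorem result {X Y S : Scheme.{u}} (h : X ⟶ Y) (q : Y ⟶ S)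
    (G : Y.Modules) (hG : Coh.IsQCoh G) (x : X) (hflat : (h.stalkMap x).hom.Flat) :
    FlatMod.IsFlatOverAt q G (h.base x) ↔ FlatMod.IsFlatOverAt (h ≫ q) ((Scheme.Modules.pullback h).obj G) x := by
  haveI : G.IsQuasicoherent := hG
  unfold FlatMod.IsFlatOverAt
  letI algAB : Algebra (Y.presheaf.stalk (h x)) (X.presheaf.stalk x) :=
    (h.stalkMap x).hom.toAlgebra
  letI modAN : Module (Y.presheaf.stalk (h x))
      (((Scheme.Modules.pullback h).obj G).presheaf.stalk x) :=
    Module.compHom _ (h.stalkMap x).hom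
  obtain ⟨hst, γ, hγ⟩ := Groth.Agent.Lib.Helper17.PbStalk.exists_isBaseChange_stalk h G x
  letI algRA : Algebra (S.presheaf.stalk (q (h x))) (Y.presheaf.stalk (h x)) :=
    (q.stalkMap (h x)).hom.toAlgebra
  letI algRB : Algebra (S.presheaf.stalk (q (h x))) (X.presheaf.stalk x) :=
    ((h ≫ q).stalkMap x).hom.toAlgebra
  haveI tRAB : IsScalarTower (S.presheaf.stalk (q (h x))) (Y.presheaf.stalk (h x))
      (X.presheaf.stalk x) := IsScalarTower.of_algebraMap_eq fun r => by
    change ((h ≫ q).stalkMap x).hom r = (h.stalkMap x).hom ((q.stalkMap (h x)).hom r)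
    rw [Scheme.Hom.stalkMap_comp]
    rfl
  letI modRM : Module (S.presheaf.stalk (q (h x))) (G.presheaf.stalk (h x)) :=
    FlatMod.moduleStalkOver q G (h x)
  letI modRN : Module (S.presheaf.stalk (q (h x)))
      (((Scheme.Modules.pullback h).obj G).presheaf.stalk x) :=
    FlatMod.moduleStalkOver (h ≫ q) _ x
  haveI tRAM : IsScalarTower (S.presheaf.stalk (q (h x))) (Y.presheaf.stalk (h x))
      (G.presheaf.stalk (h x)) :=
    ⟨fun r a m => mul_smul ((q.stalkMap (h x)).hom r) a m⟩
  haveI tRBN : IsScalarTower (S.presheaf.stalk (q (h x))) (X.presheaf.stalk x)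
      (((Scheme.Modules.pullback h).obj G).presheaf.stalk x) :=
    ⟨fun r b n => mul_smul (((h ≫ q).stalkMap x).hom r) b n⟩
  haveI : Module.Flat (Y.presheaf.stalk (h x)) (X.presheaf.stalk x) := hflat
  haveI : IsLocalHom (algebraMap (Y.presheaf.stalk (h x)) (X.presheaf.stalk x)) :=
    inferInstanceAs (IsLocalHom (h.stalkMap x).hom)
  haveI : Module.FaithfullyFlat (Y.presheaf.stalk (h x)) (X.presheaf.stalk x) :=
    Module.FaithfullyFlat.of_flat_of_isLocalHom
  exact (Groth.Agent.Lib.Helper17.FlatMixed.flat_iff_of_isBaseChange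
    (R := S.presheaf.stalk (q (h x))) γ hγ).symm

end Groth.Agent.S9350
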