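import Groth.Statements.S7546
import Groth.Agent.Lib.Helper3.TopIrred
import Mathlib.Topology.LocallyClosed

set_option autoImplicit false
universe u
open ConstrTop

namespace Groth.Agent.S7546

/-- Let X be a topological space, Z ⊆ X irreducible and E ⊆ X a finite union of locally closed subsets
(for instance a constructible set). Then E ∩ Z is dense in Z if and only if E ∩ Z contains a subset
of the form U ∩ Z, U open in X, which is dense in Z. If moreover ξ ∈ Z is a generic point of Z,
these conditions are equivalent to ξ ∈ E. -/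
theorem result {X : Type u} [TopologicalSpace X] (Z : Set X) (hZ : IsIrreducible Z)
    {n : ℕ} (L : Fin n → Set X) (hL : ∀ i, IsLocallyClosed (L i)) (E : Set X) (hE : E = ⋃ i, L i) :
    (Z ⊆ closure (E ∩ Z) ↔ ∃ U : Set X, IsOpen U ∧ U ∩ Z ⊆ E ∧ Z ⊆ closure (U ∩ Z)) ∧
    (∀ ξ : X, ξ ∈ Z → Z ⊆ closure {ξ} → (Z ⊆ closure (E ∩ Z) ↔ ξ ∈ E)) := by
  have hA : Z ⊆ closure (E ∩ Z) ↔ ∃ U : Set X, IsOpen U ∧ U ∩ Z ⊆ E ∧ Z ⊆ closure (U ∩ Z) := by
    constructor
    · intro h
      have h1 : Z ⊆ ⋃ i, closure (L i ∩ Z) := by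
        refine h.trans ?_
        apply closure_minimal
        · rw [hE, Set.iUnion_inter]
          exact Set.iUnion_mono fun i => subset_closure
        · exact isClosed_iUnion_of_finite fun i => isClosed_closure
      obtain ⟨i, hi⟩ := Groth.Agent.Lib.Helper3.TopIrred.exists_subset_of_subset_iUnion
        (fun i => isClosed_closure) hZ h1
      obtain ⟨U, C, hU, hC, hUC⟩ := hL i
      have hZC : Z ⊆ C := by
        refine hi.trans (closure_minimal ?_ hC)
        rw [hUC]
        exact Set.inter_subset_left.trans Set.inter_subset_right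
      have hUZ : U ∩ Z = L i ∩ Z := by
        rw [hUC]
        ext x
        simp only [Set.mem_inter_iff]
        constructor
        · rintro ⟨hxU, hxZ⟩; exact ⟨⟨hxU, hZC hxZ⟩, hxZ⟩
        · rintro ⟨⟨hxU, -⟩, hxZ⟩; exact ⟨hxU, hxZ⟩
      refine ⟨U, hU, ?_, ?_⟩
      · rw [hUZ, hE]
        exact Set.inter_subset_left.trans (Set.subset_iUnion L i)
      · rw [hUZ]; exact hi
    · rintro ⟨U, -, hUE, hZU⟩
      exact hZU.trans (closure_mono (Set.subset_inter hUE Set.inter_subset_right))
  refine ⟨hA, fun ξ hξZ hξ => ⟨fun h => ?_, fun h => ?_⟩⟩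
  · obtain ⟨U, hU, hUE, hZU⟩ := hA.1 h
    have h2 : (U ∩ Z).Nonempty := by
      by_contra hne
      rw [Set.not_nonempty_iff_eq_empty] at hne
      rw [hne, closure_empty] at hZU
      exact hZU hξZ
    obtain ⟨z, hzU, hzZ⟩ := h2
    have h3 : ξ ⤳ z := specializes_iff_mem_closure.2 (hξ hzZ)
    exact hUE ⟨h3.mem_open hU hzU, hξZ⟩
  · refine hξ.trans (closure_mono ?_)
    rintro _ rfl
    exact ⟨h, hξZ⟩

end Groth.Agent.S7546
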