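import Groth.Statements.S8345
-- import your own Groth.Agent.* helpers here

set_option autoImplicit false
universe u
open ConstrTop

namespace Groth.Agent.S8345

theorem aux_forward {X : Type u} [TopologicalSpace X] {s : Set X} (hs : Topology.IsConstructible s) :
    ∃ T : Set (Set X), T.Finite ∧ (∀ Z ∈ T, IsLocallyClosed Z) ∧ s = ⋃₀ T := by
  induction s, hs using BooleanSubalgebra.closure_sdiff_sup_induction with
  | isSublattice =>
    exact ⟨fun s hs t ht ↦ ⟨hs.1.union ht.1, hs.2.union ht.2⟩,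
      fun s hs t ht ↦ ⟨hs.1.inter ht.1, hs.2.inter_isOpen ht.2 ht.1⟩⟩
  | bot_mem => exact ⟨isOpen_empty, .empty⟩
  | top_mem => exact ⟨isOpen_univ, .univ⟩
  | sdiff U hU V hV =>
    refine ⟨{U \ V}, Set.finite_singleton _, ?_, by simp⟩
    intro Z hZ
    rw [Set.mem_singleton_iff] at hZ
    rw [hZ]
    exact ⟨U, Vᶜ, hU.1, hV.1.isClosed_compl, rfl⟩
  | sup s _ t _ hs' ht' =>
    obtain ⟨T₁, hf₁, hl₁, rfl⟩ := hs'
    obtain ⟨T₂, hf₂, hl₂, rfl⟩ := ht'
    refine ⟨T₁ ∪ T₂, hf₁.union hf₂, ?_, (Set.sUnion_union T₁ T₂).symm⟩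
    rintro Z (hZ | hZ)
    · exact hl₁ Z hZ
    · exact hl₂ Z hZ

open TopologicalSpace in
/-- Suppose X is a topological space that is Noetherian. Then a subset s of X is constructible exactly
when s can be written as the union of finitely many locally closed subsets of X. -/
theorem result {X : Type u} [TopologicalSpace X]
    [NoetherianSpace X] (s : Set X) :
    Topology.IsConstructible s ↔
      ∃ (n : ℕ) (Z : Fin n → Set X), (∀ i, IsLocallyClosed (Z i)) ∧ s = ⋃ i, Z i := by
  constructor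
  · intro hs
    obtain ⟨T, hT, hl, rfl⟩ := aux_forward hs
    obtain ⟨n, e⟩ := hT.exists_equiv_fin  
    obtain ⟨e⟩ := e
    refine ⟨n, fun i => (e.symm i : Set X), fun i => hl _ (e.symm i).2, ?_⟩
    ext x
    simp only [Set.mem_sUnion, Set.mem_iUnion]
    constructor
    · rintro ⟨Z, hZ, hx⟩
      exact ⟨e ⟨Z, hZ⟩, by simpa using hx⟩
    · rintro ⟨i, hx⟩
      exact ⟨_, (e.symm i).2, hx⟩
  · rintro ⟨n, Z, hZ, rfl⟩
    refine Topology.IsConstructible.iUnion fun i => ?_
    obtain ⟨U, V, hU, hV, hUV⟩ := hZ i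
    rw [hUV]
    have hret : ∀ W : Set X, IsRetrocompact W := fun W K _ _ => NoetherianSpace.isCompact _
    refine Topology.IsConstructible.inter ((hret U).isConstructible hU) ?_
    have := ((hret Vᶜ).isConstructible hV.isOpen_compl).compl
    rwa [compl_compl] at this

end Groth.Agent.S8345
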