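import Groth.Statements.S9183
import Groth.Agent.Lib.Helper11.GenColim

set_option autoImplicit false
universe u
open CategoryTheory CategoryTheory.Limits
open CAlg

namespace Groth.Agent.S9183

open Groth.Agent.Lib.Helper11

/-- the trivial property. -/
def PT (R : Type u) [CommRing R] : ∀ (C : Type u) [CommRing C] [Algebra R C], Prop :=
  fun _ _ _ => True

theorem hyp_PT (R A : Type u) [CommRing R] [CommRing A] [Algebra R A] :
    GenColim.Hyp R A (PT R) where
  iso _ _ _ _ _ _ _ _ := trivial
  tensor _ _ _ _ _ _ _ _ _ _ := trivial
  quot _ _ _ _ _ _ _ _ := trivial
  claim b := ⟨Polynomial R, inferInstance, inferInstance, Polynomial.aeval b, inferInstance,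
    trivial, Polynomial.X, Polynomial.aeval_X b⟩

/-- Every R-algebra A, with no finiteness assumption, is the colimit of a filtered system of finitely
presented R-algebras. (The published statement asserts that the category of all finitely presented
R-algebras with a map to A is filtered with colimit A; this row states that some small filtered
system of finitely presented R-algebras has colimit A.) -/
theorem result (R A : Type u) [CommRing R] [CommRing A] [Algebra R A] :
    ∃ (I : Type u) (_ : SmallCategory I) (_ : IsFiltered I) (D : I ⥤ Under (CommRingCat.of R))
      (c : Cocone D) (_ : IsColimit c),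
      (∀ i, (D.obj i).hom.hom.FinitePresentation) ∧
      Nonempty (c.pt ≅ Under.mk (CommRingCat.ofHom (algebraMap R A))) := by
  have H := hyp_PT R A
  obtain ⟨hc⟩ := GenColim.isColimit H
  refine ⟨GenColim.Idx R A (PT R), inferInstance, GenColim.isFiltered H, GenColim.F R A (PT R),
    GenColim.cocone R A (PT R), hc, fun j => ?_, ⟨Iso.refl _⟩⟩
  show (algebraMap R j.Q).FinitePresentation
  rw [RingHom.finitePresentation_algebraMap]
  infer_instance

end Groth.Agent.S9183
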