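import Groth.Statements.S3439
import Mathlib.Topology.Spectral.ConstructibleTopology
import Mathlib.AlgebraicGeometry.Properties

set_option autoImplicit false
open CategoryTheory AlgebraicGeometry
universe u
open EGA41

namespace Groth.Agent.S3439

open Topology Set

section Top

variable {Y : Type*} [TopologicalSpace Y]

lemma isOpen_constructibleTopology_of_isConstructible [CompactSpace Y]
    {s : Set Y} (hs : IsConstructible s) :
    IsOpen[constructibleTopology Y] s ∧ IsOpen[constructibleTopology Y] sᶜ := by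
  induction hs using IsConstructible.empty_union_induction with
  | open_retrocompact U hUopen hUcomp =>
    have hc : IsCompact U := hUcomp.isCompact
    refine ⟨hc.isOpen_constructibleTopology_of_isOpen hUopen, ?_⟩
    exact IsCompact.isOpen_constructibleTopology_of_isClosed (by simpa using hc)
      hUopen.isClosed_compl
  | union s hs t ht hs' ht' =>
    refine ⟨@IsOpen.union _ _ _ (constructibleTopology Y) hs'.1 ht'.1, ?_⟩
    rw [compl_union]
    exact @IsOpen.inter _ (constructibleTopology Y) _ _ hs'.2 ht'.2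
  | compl s hs hs' => exact ⟨hs'.2, by rw [compl_compl]; exact hs'.1⟩

lemma exists_constructible_nhd {X : Type*} [TopologicalSpace X]
    [QuasiSeparatedSpace Y] [PrespectralSpace Y]
    {j : Y → X} (hj : IsOpenEmbedding j) {U : Set X} (hU : IsOpen U) {T : Set ↥U}
    (hT : IsLocallyConstructible T) (y : Y) (hy : j y ∈ U) :
    ∃ V T' : Set Y, y ∈ V ∧ IsConstructible V ∧ IsConstructible T' ∧
      ∀ v ∈ V, ∃ h : j v ∈ U, (v ∈ T' ↔ (⟨j v, h⟩ : ↥U) ∈ T) := by
  have hopen : IsOpen (j ⁻¹' U) := hU.preimage hj.continuous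
  obtain ⟨V, ⟨hV₁, hV₂⟩, hyV, hVU⟩ :=
    PrespectralSpace.isTopologicalBasis.mem_nhds_iff.mp (hopen.mem_nhds hy)
  let k : ↥V → ↥U := fun v => ⟨j v.1, hVU v.2⟩
  have hk : IsOpenEmbedding k := by
    rw [← IsOpenEmbedding.of_comp_iff k hU.isOpenEmbedding_subtypeVal]
    exact hj.comp hV₁.isOpenEmbedding_subtypeVal
  have : CompactSpace ↥V := isCompact_iff_compactSpace.mp hV₂
  have : QuasiSeparatedSpace ↥V := hV₁.isOpenEmbedding_subtypeVal.quasiSeparatedSpace
  have : PrespectralSpace ↥V := hV₁.isOpenEmbedding_subtypeVal.prespectralSpace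
  have h1 : IsConstructible (k ⁻¹' T) := (hT.preimage_of_isOpenEmbedding hk).isConstructible
  have h2 : IsConstructible (Subtype.val '' (k ⁻¹' T) : Set Y) :=
    h1.image_of_isOpenEmbedding hV₁.isOpenEmbedding_subtypeVal
      (by simpa using hV₂.isRetrocompact hV₁)
  refine ⟨V, Subtype.val '' (k ⁻¹' T), hyV, hV₂.isConstructible hV₁, h2, ?_⟩
  intro v hv
  refine ⟨hVU hv, ?_⟩
  constructor
  · rintro ⟨v', hv', rfl⟩
    exact hv'
  · intro h
    exact ⟨⟨v, hv⟩, h, rfl⟩

lemma isClosed_preimage_of_isProConstructible {X : Type*} [TopologicalSpace X]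
    [CompactSpace Y] [QuasiSeparatedSpace Y] [PrespectralSpace Y]
    {j : Y → X} (hj : IsOpenEmbedding j) {F : Set X} (hF : ProCons.IsProConstructible F) :
    IsClosed[constructibleTopology Y] (j ⁻¹' F) := by
  rw [← @isOpen_compl_iff _ _ (constructibleTopology Y),
    @isOpen_iff_forall_mem_open _ (constructibleTopology Y)]
  intro y hy
  obtain ⟨U, hU, hxU, S, hS, hFS⟩ := hF (j y)
  have hnot : (⟨j y, hxU⟩ : ↥U) ∉ ⋂₀ S := by
    rw [← hFS]; exact hy
  rw [mem_sInter] at hnot
  push_neg at hnot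
  obtain ⟨T, hTS, hyT⟩ := hnot
  obtain ⟨V, T', hyV, hV, hT', hVT⟩ := exists_constructible_nhd hj hU (hS T hTS) y hxU
  refine ⟨V \ T', ?_, (isOpen_constructibleTopology_of_isConstructible (hV.sdiff hT')).1,
    ⟨hyV, ?_⟩⟩
  · rintro v ⟨hvV, hvT'⟩ hvF
    obtain ⟨h, hiff⟩ := hVT v hvV
    apply hvT'
    rw [hiff]
    have hmem : (⟨j v, h⟩ : ↥U) ∈ Subtype.val ⁻¹' F := hvF
    rw [hFS] at hmem
    exact hmem T hTS
  · intro hyT'
    obtain ⟨h, hiff⟩ := hVT y hyV
    exact hyT (hiff.mp hyT')

lemma isOpen_preimage_of_isIndConstructible {X : Type*} [TopologicalSpace X]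
    [CompactSpace Y] [QuasiSeparatedSpace Y] [PrespectralSpace Y]
    {j : Y → X} (hj : IsOpenEmbedding j) {E : Set X} (hE : ProCons.IsIndConstructible E) :
    IsOpen[constructibleTopology Y] (j ⁻¹' E) := by
  rw [@isOpen_iff_forall_mem_open _ (constructibleTopology Y)]
  intro y hy
  obtain ⟨U, hU, hxU, S, hS, hES⟩ := hE (j y)
  have hmem : (⟨j y, hxU⟩ : ↥U) ∈ ⋃₀ S := by
    rw [← hES]; exact hy
  obtain ⟨T, hTS, hyT⟩ := hmem
  obtain ⟨V, T', hyV, hV, hT', hVT⟩ := exists_constructible_nhd hj hU (hS T hTS) y hxU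
  refine ⟨V ∩ T', ?_, (isOpen_constructibleTopology_of_isConstructible (hV.inter hT')).1,
    ⟨hyV, ?_⟩⟩
  · rintro v ⟨hvV, hvT'⟩
    obtain ⟨h, hiff⟩ := hVT v hvV
    have hmem : (⟨j v, h⟩ : ↥U) ∈ Subtype.val ⁻¹' E := by
      rw [hES]
      exact ⟨T, hTS, hiff.mp hvT'⟩
    exact hmem
  · obtain ⟨h, hiff⟩ := hVT y hyV
    exact hiff.mpr hyT

lemma compactSpace_constructibleTopology [CompactSpace Y] [QuasiSober Y] [PrespectralSpace Y]
    [QuasiSeparatedSpace Y] : @CompactSpace Y (constructibleTopology Y) :=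
  @Function.Surjective.compactSpace (WithConstructibleTopology Y) Y _ (constructibleTopology Y)
    WithTopology.ofTopology (WithTopology.continuous_ofTopology _) _
    (WithTopology.ofTopology_surjective _)

lemma finite_subfamily {Z : Type*} [TopologicalSpace Z] [CompactSpace Z] {ι : Type*}
    (G : ι → Set Z) (hG : ∀ i, IsClosed (G i)) {O : Set Z} (hO : IsOpen O)
    (h : ⋂ i, G i ⊆ O) : ∃ J : Finset ι, ⋂ i ∈ J, G i ⊆ O := by
  obtain ⟨J, hJ⟩ := hO.isClosed_compl.isCompact.elim_finite_subfamily_closed G hG (by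
    rw [← disjoint_iff_inter_eq_empty, disjoint_compl_left_iff_subset]
    exact h)
  refine ⟨J, ?_⟩
  rwa [← disjoint_iff_inter_eq_empty, disjoint_compl_left_iff_subset] at hJ

end Top

/-- Let X be a quasi-compact scheme, E an ind-constructible subset of X and (F_i) a family of
pro-constructible subsets of X whose intersection is contained in E. Then there is a finite set J of
indices such that the intersection of the F_i for i in J is already contained in E. (Taking E = ∅: a
family of pro-constructible subsets with empty intersection has a finite subfamily with empty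
intersection.) -/
theorem result (X : Scheme.{u}) [CompactSpace X] (E : Set X)
    (hE : ProCons.IsIndConstructible E) {ι : Type u} (F : ι → Set X) (hF : ∀ i, ProCons.IsProConstructible (F i))
    (h : ⋂ i, F i ⊆ E) :
    ∃ J : Finset ι, ⋂ i ∈ J, F i ⊆ E := by
  classical
  -- local statement for affine opens
  have key : ∀ W : X.affineOpens, ∃ J : Finset ι,
      ∀ x ∈ (W.1 : Set X), (∀ i ∈ J, x ∈ F i) → x ∈ E := by
    intro W
    haveI : IsAffine (W.1 : Scheme) := W.2
    have hj : IsOpenEmbedding (W.1.ι.base : (W.1 : Scheme) → X) := W.1.ι.isOpenEmbedding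
    obtain ⟨J, hJ⟩ := @finite_subfamily (W.1 : Scheme) (constructibleTopology (W.1 : Scheme))
      compactSpace_constructibleTopology ι (fun i => W.1.ι.base ⁻¹' F i)
      (fun i => isClosed_preimage_of_isProConstructible hj (hF i)) (W.1.ι.base ⁻¹' E)
      (isOpen_preimage_of_isIndConstructible hj hE)
      (by
        intro y hy
        apply h
        simpa using hy)
    refine ⟨J, fun x hx hxF => ?_⟩
    obtain ⟨y, rfl⟩ : x ∈ Set.range W.1.ι.base := by
      rw [Scheme.Opens.range_ι]; exact hx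
    exact hJ (by simpa using hxF)
  choose J hJ using key
  -- a finite affine cover
  have hcov : ∀ x : X, ∃ W : X.affineOpens, x ∈ (W.1 : Set X) := by
    intro x
    obtain ⟨W, hW, hxW, -⟩ := exists_isAffineOpen_mem_and_subset (x := x) (U := ⊤) trivial
    exact ⟨⟨W, hW⟩, hxW⟩
  choose W hW using hcov
  obtain ⟨t, ht⟩ := isCompact_univ.elim_nhds_subcover (fun x => ((W x).1 : Set X))
    (fun x _ => (W x).1.isOpen.mem_nhds (hW x))
  refine ⟨t.biUnion (fun x => J (W x)), ?_⟩
  intro x hx
  obtain ⟨x', hx't, hxW⟩ := Set.mem_iUnion₂.mp (ht.2 (Set.mem_univ x))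
  refine hJ (W x') x hxW (fun i hi => ?_)
  simp only [Set.mem_iInter] at hx
  exact hx i (Finset.mem_biUnion.mpr ⟨x', hx't, hi⟩)

end Groth.Agent.S3439
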