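import Groth.Statements.S4600
import Mathlib

set_option autoImplicit false
universe u
open CategoryTheory CategoryTheory.Limits TensorProduct
open EGA41

namespace Groth.Agent.S4600

theorem exists_stage_of_finite {I : Type u} [SmallCategory I] [IsFiltered I]
    (D : I ⥤ CommRingCat.{u}) (c : Cocone D) (hc : IsColimit c) (s : Set c.pt) (hs : s.Finite) :
    ∃ i : I, s ⊆ Set.range (c.ι.app i).hom := by
  classical
  induction s, hs using Set.Finite.induction_on with
  | empty => exact ⟨IsFiltered.nonempty.some, Set.empty_subset _⟩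
  | @insert a s _ _ ih =>
    obtain ⟨i, hi⟩ := ih
    obtain ⟨j, y, hy⟩ := Concrete.isColimit_exists_rep D hc a
    refine ⟨IsFiltered.max i j, ?_⟩
    rintro x (rfl | hx)
    · refine ⟨(D.map (IsFiltered.rightToMax i j)).hom y, ?_⟩
      have := c.w (IsFiltered.rightToMax i j)
      rw [← hy, ← this]
      rfl
    · obtain ⟨z, rfl⟩ := hi hx
      refine ⟨(D.map (IsFiltered.leftToMax i j)).hom z, ?_⟩
      have := c.w (IsFiltered.leftToMax i j)
      rw [← this]
      rfl


/-- Let (A_i) be a filtered system of rings with colimit A and B a finitely presented A-algebra. Then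
some stage A_i carries a finitely presented algebra B_i with B isomorphic to A ⊗_{A_i} B_i as
A-algebras (existence of an isomorphism; the base change is along the colimit map A_i → A). -/
theorem result {I : Type u} [SmallCategory I] [IsFiltered I]
    (D : I ⥤ CommRingCat.{u}) (c : Cocone D) (hc : IsColimit c) (B : Type u) [CommRing B] [Algebra c.pt B]
    [Algebra.FinitePresentation c.pt B] :
    ∃ (i : I) (Bi : Type u) (_ : CommRing Bi) (_ : Algebra (D.obj i) Bi),
      Algebra.FinitePresentation (D.obj i) Bi ∧
      (letI : Algebra (D.obj i) c.pt := (c.ι.app i).hom.toAlgebra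
       Nonempty (B ≃ₐ[c.pt] (c.pt ⊗[D.obj i] Bi))) := by
  classical
  let P := Algebra.Presentation.ofFinitePresentation c.pt B
  obtain ⟨i, hi⟩ := exists_stage_of_finite D c hc P.coeffs P.finite_coeffs
  letI : Algebra (D.obj i) c.pt := (c.ι.app i).hom.toAlgebra
  letI : Algebra (D.obj i) B := ((algebraMap c.pt B).comp (c.ι.app i).hom).toAlgebra
  haveI : IsScalarTower (D.obj i) c.pt B := IsScalarTower.of_algebraMap_eq' rfl
  haveI : P.HasCoeffs (D.obj i) := ⟨hi⟩
  refine ⟨i, P.ModelOfHasCoeffs (D.obj i), inferInstance, inferInstance, inferInstance, ?_⟩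
  exact ⟨(P.tensorModelOfHasCoeffsEquiv (D.obj i)).symm⟩

end Groth.Agent.S4600
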