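import Groth.Statements.S4541
import Mathlib
import Groth.Agent.Lib.Helper21.PBasisD

set_option autoImplicit false
universe u
open EGA41

namespace Groth.Agent.S4541

/-- Let p be a prime, A a perfect ring of characteristic p and B a reduced A-algebra of characteristic p
which admits a p-basis (x_α) over A. Then B is a formally smooth A-algebra (discrete topologies);
more precisely, for every A-algebra E, every nilpotent ideal R of E, every A-algebra homomorphism v
: B → E/R and every family (z_α) of elements of E lifting the v(x_α), there is a unique A-algebra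
homomorphism w : B → E lifting v with w(x_α) = z_α for all α. (The published statement assumes,
instead of A perfect and B reduced, that the canonical map A^(p) ⊗_A B → B^(p), a ⊗ b ↦ a b^p with
Frobenius-twisted structures, is injective; when A is perfect that condition says exactly that B is
reduced, which is the case stated here. The published statement also treats admissible topological
E; only discrete E is stated.) -/
theorem result (p : ℕ) [Fact p.Prime] {A B : Type u} [CommRing A] [CharP A p]
    [PerfectRing A p] [CommRing B] [Algebra A B] [CharP B p] [IsReduced B]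
    {ι : Type u} (x : ι → B) (hx : EGA41.IsPBasis p A x) :
    Algebra.FormallySmooth A B ∧
    ∀ (E : Type u) [CommRing E] [Algebra A E] (R : Ideal E), IsNilpotent R →
      ∀ (v : B →ₐ[A] E ⧸ R) (z : ι → E), (∀ i, Ideal.Quotient.mk R (z i) = v (x i)) →
        ∃! w : B →ₐ[A] E, (Ideal.Quotient.mkₐ A R).comp w = v ∧ ∀ i, w (x i) = z i := by
  classical
  have hp : p.Prime := Fact.out
  have key : ∀ (N : ℕ) (E : Type u) [CommRing E] [Algebra A E] (R : Ideal E), R ^ N = ⊥ →
      ∀ (v : B →ₐ[A] E ⧸ R) (z : ι → E), (∀ i, Ideal.Quotient.mk R (z i) = v (x i)) →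
        ∃! w : B →ₐ[A] E, (Ideal.Quotient.mkₐ A R).comp w = v ∧ ∀ i, w (x i) = z i := by
    intro N
    induction N using Nat.strong_induction_on with
    | _ N ih =>
      intro E _ _ R hR v z hz
      by_cases hN : N ≤ p
      · have hK : RingHom.ker (Ideal.Quotient.mkₐ A R).toRingHom ^ p = ⊥ := by
          have h1 : RingHom.ker (Ideal.Quotient.mkₐ A R).toRingHom = R := Ideal.Quotient.mkₐ_ker A R
          rw [h1, ← le_bot_iff, ← hR]
          exact Ideal.pow_le_pow_right hN
        exact Groth.Agent.Lib.Helper21.PBasis.step p x hx (Ideal.Quotient.mkₐ A R)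
          (Ideal.Quotient.mkₐ_surjective A R) hK v z hz
      · have hN1 : p < N := not_le.mp hN
        have hp2 : 2 ≤ p := hp.two_le
        have hN' : (N + p - 1) / p < N := by
          rw [Nat.div_lt_iff_lt_mul hp.pos]
          have h1 : N * 2 ≤ N * p := Nat.mul_le_mul_left N hp2
          omega
        have hpN' : N ≤ p * ((N + p - 1) / p) := by
          have := Nat.div_add_mod (N + p - 1) p
          have hmod := Nat.mod_lt (N + p - 1) hp.pos
          omega
        have hle : R ^ p ≤ R := Ideal.pow_le_self hp.ne_zero
        let ρ : E ⧸ R ^ p →ₐ[A] E ⧸ R := Ideal.Quotient.factorₐ A hle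
        have hρ : Function.Surjective ρ := Ideal.Quotient.factor_surjective hle
        have hKρ : RingHom.ker ρ.toRingHom ^ p = ⊥ := by
          have h1 : RingHom.ker ρ.toRingHom = R.map (Ideal.Quotient.mk (R ^ p)) :=
            Ideal.Quotient.factor_ker hle
          rw [h1, ← Ideal.map_pow, Ideal.map_quotient_self]
        obtain ⟨w1, ⟨hw1a, hw1b⟩, hw1u⟩ := Groth.Agent.Lib.Helper21.PBasis.step p x hx ρ hρ hKρ v
          (fun i => Ideal.Quotient.mk (R ^ p) (z i)) (fun i => hz i)
        have hR' : (R ^ p) ^ ((N + p - 1) / p) = ⊥ := by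
          rw [← pow_mul, ← le_bot_iff, ← hR]
          exact Ideal.pow_le_pow_right hpN'
        obtain ⟨w, ⟨hwa, hwb⟩, hwu⟩ := ih _ hN' E (R ^ p) hR' w1 z (fun i => (hw1b i).symm)
        refine ⟨w, ⟨?_, hwb⟩, ?_⟩
        · rw [← hw1a, ← hwa, ← AlgHom.comp_assoc]
          rfl
        · rintro w' ⟨hw'a, hw'b⟩
          apply hwu
          refine ⟨?_, hw'b⟩
          apply hw1u
          refine ⟨?_, fun i => ?_⟩
          · rw [← AlgHom.comp_assoc]
            exact hw'a
          · show Ideal.Quotient.mk (R ^ p) (w' (x i)) = _
            rw [hw'b]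
  constructor
  · apply Algebra.FormallySmooth.of_comp_surjective
    intro E _ _ I hI v
    have hz : ∀ i, ∃ e : E, Ideal.Quotient.mk I e = v (x i) := fun i =>
      Ideal.Quotient.mk_surjective _
    choose z hz using hz
    obtain ⟨w, ⟨hw, -⟩, -⟩ := key 2 E I hI v z hz
    exact ⟨w, hw⟩
  · intro E _ _ R hR v z hz
    obtain ⟨N, hN⟩ := hR
    exact key N E R hN v z hz

end Groth.Agent.S4541
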