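import Groth.Statements.S0542
import Groth.Agent.Lib.Helper15.ComplNoeth

set_option autoImplicit false
universe u
open CAlg

namespace Groth.Agent.S0542

/-- If `I` is a finitely generated ideal of a ring `R` and `R/I` is Noetherian, then the `I`-adic
completion of `R` is a Noetherian ring. (The source also states completeness of the completion along
the extended ideal, which Mathlib already has; only Noetherianity is stated here.) -/
theorem result (R : Type u) [CommRing R] (I : Ideal R)
    (hI : I.FG) [IsNoetherianRing (R ⧸ I)] : IsNoetherianRing (AdicCompletion I R) := by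
  set J := I.map (algebraMap R (AdicCompletion I R)) with hJ
  have hJfg : J.FG := hI.map _
  have hc : IsAdicComplete J (AdicCompletion I R) :=
    (IsAdicComplete.map_algebraMap_iff (I := I) (S := AdicCompletion I R)
      (M := AdicCompletion I R)).mpr (AdicCompletion.isAdicComplete hI)
  have hker : RingHom.ker (AdicCompletion.evalOneₐ I).toRingHom = J :=
    AdicCompletion.ker_evalOneₐ_eq_map I hI
  have e : (AdicCompletion I R ⧸ J) ≃+* R ⧸ I :=
    (Ideal.quotEquivOfEq hker.symm).trans
      (RingHom.quotientKerEquivOfSurjective
        (f := (AdicCompletion.evalOneₐ I).toRingHom) (AdicCompletion.evalOneₐ_surjective I))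
  have : IsNoetherianRing (AdicCompletion I R ⧸ J) := isNoetherianRing_of_ringEquiv _ e.symm
  exact Groth.Agent.Lib.Helper15.CN.isNoetherianRing_of_fg_of_complete J hJfg

end Groth.Agent.S0542
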