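import Groth.Statements.S0563
import Mathlib
import Groth.Agent.Lib.Helper26.RegSeq
import Groth.Agent.S5805

set_option autoImplicit false
universe u
open CategoryTheory
open CAlg

namespace Groth.Agent.S0563

open CategoryTheory in

/-- Over a regular local ring R of Krull dimension d, every R-module has projective dimension at most d
(encoded as `HasProjectiveDimensionLT _ (d + 1)`). -/
theorem result (R : Type u) [CommRing R]
    [IsRegularLocalRing R] (d : ℕ) (hd : ringKrullDim R = d) (M : Type u) [AddCommGroup M]
    [Module R M] : HasProjectiveDimensionLT (ModuleCat.of R M) (d + 1) := by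
  classical
  have hfg : (IsLocalRing.maximalIdeal R).FG := (IsLocalRing.maximalIdeal R).fg_of_isNoetherianRing
  obtain ⟨s, hscard, hsspan⟩ := Submodule.FG.exists_span_finset_card_eq_spanFinrank hfg
  have h1 : ((IsLocalRing.maximalIdeal R).spanFinrank : WithBot ℕ∞) = ringKrullDim R :=
    IsRegularLocalRing.spanFinrank_maximalIdeal
  rw [hd] at h1
  have h2 : (IsLocalRing.maximalIdeal R).spanFinrank = d := by exact_mod_cast h1
  have hcard : s.card = d := hscard.trans h2
  let e := Finset.equivFinOfCardEq hcard
  let x : Fin d → R := fun i => (e.symm i : R)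
  have hrange : Set.range x = (s : Set R) := by
    ext r
    constructor
    · rintro ⟨i, rfl⟩
      exact (e.symm i).2
    · intro hr
      exact ⟨e ⟨r, hr⟩, by simp [x]⟩
  have hx : Ideal.span (Set.range x) = IsLocalRing.maximalIdeal R := by
    rw [hrange]; exact hsspan
  have hreg := Groth.Agent.Lib.Helper26.RegSeq.isRegular_ofFn hd x hx
  have hofList : Ideal.ofList (List.ofFn x) = IsLocalRing.maximalIdeal R := by
    have hset : {r | r ∈ List.ofFn x} = Set.range x := by
      ext r
      rw [Set.mem_setOf_eq, List.mem_ofFn, Set.mem_range]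
    show Ideal.span {r | r ∈ List.ofFn x} = _
    rw [hset, hx]
  have hpd := ModuleCat.projectiveDimension_quotient_eq_length.{u} (List.ofFn x) hreg
  let e1 : Shrink.{u} (R ⧸ Ideal.ofList (List.ofFn x)) ≃ₗ[R] IsLocalRing.ResidueField R :=
    (Shrink.linearEquiv R _).trans (Submodule.quotEquivOfEq _ _ hofList)
  rw [projectiveDimension_eq_of_iso e1.toModuleIso, List.length_ofFn] at hpd
  apply Groth.Agent.S5805.result R d _ M
  rw [← projectiveDimension_lt_iff, hpd]
  exact_mod_cast Nat.lt_succ_self d

end Groth.Agent.S0563
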