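import Groth.Statements.S1585
import Groth.Agent.Lib.Helper12.NormGen
-- import your own Groth.Agent.* helpers here

set_option autoImplicit false
universe u
open CategoryTheory CategoryTheory.Limits AlgebraicGeometry
open Variety

namespace Groth.Agent.S1585

open Groth.Agent.Lib.Helper12

/-- Part (1): and (4), for an integral scheme locally of finite type over a field: the normalization
morphism ν (normalization of X in its function field) is finite, dominant and an isomorphism over a
nonempty open, and the normalization is an integral scheme all of whose local rings are integrally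
closed domains. (The quasi-compactness/quasi-separatedness binders on Spec K(X) → X always hold;
they are needed only to form Mathlib's relative normalization.) -/
theorem result (k : Type u) [Field k] (X : Scheme.{u}) [X.Over (Spec (CommRingCat.of k))] [IsIntegral X] [LocallyOfFiniteType (X ↘ (Spec (CommRingCat.of k)))]
    [QuasiCompact (X.fromSpecStalk (genericPoint X))] [QuasiSeparated (X.fromSpecStalk (genericPoint X))] :
    IsFinite (Curv2.normalizationι X) ∧ IsDominant (Curv2.normalizationι X) ∧
      (∃ V : X.Opens, (V : Set X).Nonempty ∧ IsIso (Curv2.normalizationι X ∣_ V)) ∧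
      IsIntegral (Curv2.normalization X) ∧ Pi1.IsNormalScheme (Curv2.normalization X) := by
  have hN : ∀ U : X.Opens, IsAffineOpen U → (U : Set X).Nonempty → N2.N2' Γ(X, U) :=
    fun U hU hne => NormGen.N2'_sections k (X ↘ Spec (CommRingCat.of k)) hU hne
  have hfin : IsFinite (X.fromSpecStalk (genericPoint X)).fromNormalization :=
    NormGen.isFinite_of_N2' X hN
  have hint : IsIntegral (Curv2.normalization X) :=
    inferInstanceAs (IsIntegral (X.fromSpecStalk (genericPoint X)).normalization)
  refine ⟨hfin, ⟨(NormAff.surjective_fromNormalization X).denseRange⟩, ?_, hint, ?_⟩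
  · obtain ⟨U, hU, hxU⟩ := NormAff.exists_affine_mem X (genericPoint X)
    exact NormGen.exists_isIso_restrict X hU ⟨_, hxU⟩ (hfin.finite_app U hU)
  · intro x'
    exact ⟨inferInstanceAs
      (IsDomain ((X.fromSpecStalk (genericPoint X)).normalization.presheaf.stalk x')),
      NormAff.isIntegrallyClosed_stalk X x'⟩

end Groth.Agent.S1585
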