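import Groth.Statements.S0002
-- import your own Groth.Agent.* helpers here
import Groth.Agent.Lib.Helper23.T2K

set_option autoImplicit false
universe u
open Coh

namespace Groth.Agent.S0002

open CategoryTheory AlgebraicGeometry in
/-- Finiteness of coherent cohomology over an affine base: if A is a Noetherian ring, X is a scheme
proper over Spec A and M is a coherent O_X-module, then each H^n(X, M) is a finite A-module.
(`Coh.IsCoh` is quasi-coherent of finite type, which is coherent here since X is locally
Noetherian.) -/
theorem result (A : Type u) [CommRing A] [IsNoetherianRing A] (X : Scheme.{u})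
    [X.Over (Spec (CommRingCat.of A))] [IsProper (X ↘ Spec (CommRingCat.of A))]
    (M : X.Modules) (hM : Coh.IsCoh M) (n : ℕ) : Module.Finite A (Coh.HH X M n) := by
  exact (Groth.Agent.Lib.Helper23.T2.finClass_HHm_iff A M n).1
    (Groth.Agent.Lib.Helper23.T2.proper_cohomology_finite (X ↘ Spec (CommRingCat.of A)) M hM n)

end Groth.Agent.S0002
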