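import Groth.Statements.S1415
import Mathlib

set_option autoImplicit false
universe u
open FlatMor

namespace Groth.Agent.S1415

open AlgebraicGeometry CategoryTheory Limits TensorProduct

theorem encard_irreducibleComponents_of_discrete (T : Type*) [TopologicalSpace T]
    [DiscreteTopology T] : (irreducibleComponents T).encard = ENat.card T := by
  have h : irreducibleComponents T = Set.range (fun x : T => ({x} : Set T)) := by
    ext s
    constructor
    · intro hs
      obtain ⟨x, rfl⟩ := isIrreducible_iff_singleton.mp hs.1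
      exact ⟨x, rfl⟩
    · rintro ⟨x, rfl⟩
      refine ⟨isIrreducible_singleton, fun t ht hxt => ?_⟩
      obtain ⟨y, rfl⟩ := isIrreducible_iff_singleton.mp ht
      have : x = y := by simpa using hxt (Set.mem_singleton x)
      rw [this]
  rw [h, ← Set.image_univ, Set.singleton_injective.encard_image, Set.encard_univ]

theorem card_connectedComponents_of_discrete (T : Type*) [TopologicalSpace T]
    [DiscreteTopology T] : ENat.card (_root_.ConnectedComponents T) = ENat.card T := by
  refine (ENat.card_congr (Equiv.ofBijective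
    (ConnectedComponents.mk : T → _root_.ConnectedComponents T)
    ⟨?_, ConnectedComponents.surjective_coe⟩)).symm
  intro x y hxy
  have := ConnectedComponents.coe_eq_coe'.mp hxy
  rw [connectedComponent_eq_singleton] at this
  exact this

/-- A finite-dimensional algebra over a field has at most `dim` primes. -/
theorem card_primeSpectrum_le (K : Type*) [Field K] (B : Type*) [CommRing B] [Algebra K B]
    (t : Finset B) (ht : Submodule.span K (t : Set B) = ⊤) :
    ENat.card (PrimeSpectrum B) ≤ t.card := by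
  classical
  haveI : Module.Finite K B := ⟨⟨t, ht⟩⟩
  haveI : IsArtinianRing B := IsArtinianRing.of_finite K B
  haveI : Finite (PrimeSpectrum B) := inferInstance
  letI := Fintype.ofFinite (PrimeSpectrum B)
  haveI hmax : ∀ P : PrimeSpectrum B, P.asIdeal.IsMaximal := fun P =>
    IsArtinianRing.isMaximal_of_isPrime P.asIdeal
  have hcop : Pairwise (Function.onFun IsCoprime (fun P : PrimeSpectrum B => P.asIdeal)) := by
    intro P Q hPQ
    exact Ideal.isCoprime_of_isMaximal (fun h => hPQ (PrimeSpectrum.ext h))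
  have hsurj := Ideal.quotientInfToPiQuotient_surj hcop
  let L : B →ₗ[K] (∀ P : PrimeSpectrum B, B ⧸ P.asIdeal) :=
    LinearMap.pi fun P => (Ideal.Quotient.mkₐ K P.asIdeal).toLinearMap
  have hL : Function.Surjective L := by
    intro w
    obtain ⟨b, hb⟩ := hsurj w
    obtain ⟨b', rfl⟩ := Ideal.Quotient.mk_surjective b
    refine ⟨b', ?_⟩
    rw [← hb]
    rfl
  have h1 := LinearMap.finrank_le_finrank_of_surjective hL
  have h2 : Module.finrank K (∀ P : PrimeSpectrum B, B ⧸ P.asIdeal) =
      ∑ P : PrimeSpectrum B, Module.finrank K (B ⧸ P.asIdeal) := Module.finrank_pi_fintype K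
  have h3 : ∀ P : PrimeSpectrum B, 1 ≤ Module.finrank K (B ⧸ P.asIdeal) := fun P => by
    haveI : Nontrivial (B ⧸ P.asIdeal) := Ideal.Quotient.nontrivial_iff.mpr P.2.ne_top
    exact Module.finrank_pos
  have h4 : Module.finrank K B ≤ t.card := by
    have := finrank_le_of_span_eq_top (R := K) (M := B) (v := fun x : t => (x : B))
      (by simpa using ht)
    simpa using this
  have h5 : Fintype.card (PrimeSpectrum B) ≤ t.card := by
    calc Fintype.card (PrimeSpectrum B) = ∑ _P : PrimeSpectrum B, 1 := by simp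
      _ ≤ ∑ P : PrimeSpectrum B, Module.finrank K (B ⧸ P.asIdeal) :=
          Finset.sum_le_sum fun P _ => h3 P
      _ = _ := h2.symm
      _ ≤ _ := h1
      _ ≤ _ := h4
  rw [ENat.card_eq_coe_fintype_card]
  exact_mod_cast h5

theorem card_pullback_le (R : CommRingCat.{u}) (S' : Type u) [CommRing S'] [Algebra R S']
    (s : Finset S') (hs : Submodule.span R (s : Set S') = ⊤) (K : Type u) [Field K]
    (γ : R ⟶ CommRingCat.of K) :
    ENat.card ↥(pullback (Spec.map γ) (Spec.map (CommRingCat.ofHom (algebraMap R S')))) ≤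
      s.card := by
  classical
  letI : Algebra R K := γ.hom.toAlgebra
  let e := pullbackSpecIso R K S'
  have h1 : ENat.card ↥(pullback (Spec.map γ) (Spec.map (CommRingCat.ofHom (algebraMap R S')))) =
      ENat.card (PrimeSpectrum (K ⊗[R] S')) :=
    ENat.card_congr (Scheme.homeoOfIso e).toEquiv
  rw [h1]
  have hspan : Submodule.span K
      ((s.image (fun a : S' => (1 : K) ⊗ₜ[R] a) : Finset (K ⊗[R] S')) : Set (K ⊗[R] S')) = ⊤ := by
    rw [Finset.coe_image]
    have := Submodule.baseChange_span (R := R) (A := K) (M := S') (s : Set S')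
    rw [hs, Submodule.baseChange_top] at this
    rw [this]
    rfl
  refine (card_primeSpectrum_le K (K ⊗[R] S') _ hspan).trans ?_
  exact_mod_cast Finset.card_image_le

theorem chart_bound {X Y : Scheme.{u}} (f : X ⟶ Y) {R S' : CommRingCat.{u}} (φ' : R ⟶ S')
    (v : Spec R ⟶ Y) [IsOpenImmersion v] {T : Scheme.{u}} (i : T ⟶ Spec S') [IsOpenImmersion i]
    (j : T ⟶ X) [IsOpenImmersion j] (hcomm : j ≫ f = i ≫ Spec.map φ' ≫ v) (n : ℕ)
    (hn : ∀ (K : Type u) [Field K] (γ : R ⟶ CommRingCat.of K),
      ENat.card ↥(pullback (Spec.map γ) (Spec.map φ')) ≤ n)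
    (K : Type u) [Field K] (g : Spec (CommRingCat.of K) ⟶ Y) :
    {z : ↥(pullback g f) | pullback.snd g f z ∈ Set.range j}.encard ≤ n := by
  haveI : Subsingleton ↥(Spec (CommRingCat.of K)) :=
    inferInstanceAs (Subsingleton (PrimeSpectrum K))
  by_cases hne : ∃ z : ↥(pullback g f), pullback.snd g f z ∈ Set.range j
  swap
  · have : {z : ↥(pullback g f) | pullback.snd g f z ∈ Set.range j} = ∅ := by
      ext z
      simp only [Set.mem_setOf_eq, Set.mem_empty_iff_false, iff_false]
      exact fun h => hne ⟨z, h⟩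
    rw [this]
    simp
  obtain ⟨z₀, t₀, ht₀⟩ := hne
  have hrange : Set.range g ⊆ Set.range v := by
    rintro _ ⟨pt, rfl⟩
    have hpt : pt = pullback.fst g f z₀ := Subsingleton.elim _ _
    rw [hpt, ← Scheme.Hom.comp_apply, pullback.condition, Scheme.Hom.comp_apply, ← ht₀,
      ← Scheme.Hom.comp_apply, hcomm]
    exact ⟨(i ≫ Spec.map φ') t₀, by simp [Scheme.Hom.comp_apply]⟩
  let g' : Spec (CommRingCat.of K) ⟶ Spec R := IsOpenImmersion.lift v g hrange
  have hg' : g' ≫ v = g := IsOpenImmersion.lift_fac v g hrange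
  let γ : R ⟶ CommRingCat.of K := Spec.preimage g'
  have hγ : Spec.map γ = g' := Spec.map_preimage g'
  let m₁ : pullback (Spec.map γ) (i ≫ Spec.map φ') ⟶ pullback g f :=
    pullback.map (Spec.map γ) (i ≫ Spec.map φ') g f (𝟙 _) j v
      (by rw [hγ, hg', Category.id_comp]) (by rw [Category.assoc, hcomm])
  have hm₁ : Set.range m₁ = {z : ↥(pullback g f) | pullback.snd g f z ∈ Set.range j} := by
    rw [Scheme.Pullback.range_map]
    ext z
    simp
  let m₂ : pullback (Spec.map γ) (i ≫ Spec.map φ') ⟶ pullback (Spec.map γ) (Spec.map φ') :=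
    pullback.map (Spec.map γ) (i ≫ Spec.map φ') (Spec.map γ) (Spec.map φ') (𝟙 _) i (𝟙 _)
      (by simp) (by simp)
  have hm₂ : Function.Injective m₂ :=
    (Scheme.Hom.isOpenEmbedding m₂).injective
  rw [← hm₁]
  calc (Set.range m₁).encard ≤ ENat.card ↥(pullback (Spec.map γ) (i ≫ Spec.map φ')) := by
        rw [← Set.image_univ]
        exact (Set.encard_image_le _ _).trans (by rw [Set.encard_univ])
    _ ≤ ENat.card ↥(pullback (Spec.map γ) (Spec.map φ')) := ENat.card_le_card_of_injective hm₂
    _ ≤ n := hn K γ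

theorem exists_chart {X Y : Scheme.{u}} (f : X ⟶ Y) [LocallyQuasiFinite f] [LocallyOfFiniteType f]
    (x : X) :
    ∃ (R S' : CommRingCat.{u}) (φ' : R ⟶ S') (n : ℕ) (v : Spec R ⟶ Y) (T : Scheme.{u})
      (i : T ⟶ Spec S') (j : T ⟶ X),
      (∀ (K : Type u) [Field K] (γ : R ⟶ CommRingCat.of K),
        ENat.card ↥(pullback (Spec.map γ) (Spec.map φ')) ≤ n) ∧
      IsOpenImmersion v ∧ IsOpenImmersion i ∧ IsOpenImmersion j ∧ x ∈ Set.range j ∧
      j ≫ f = i ≫ Spec.map φ' ≫ v := by
  obtain ⟨_, ⟨V, hV, rfl⟩, hxV, -⟩ := Y.isBasis_affineOpens.exists_subset_of_mem_open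
    (Set.mem_univ (f x)) isOpen_univ
  obtain ⟨_, ⟨U, hU, rfl⟩, hxU, hUV : U ≤ f ⁻¹ᵁ V⟩ :=
    X.isBasis_affineOpens.exists_subset_of_mem_open hxV (f ⁻¹ᵁ V).2
  replace hV : IsAffineOpen V := hV
  replace hU : IsAffineOpen U := hU
  have hft : (f.appLE V U hUV).hom.FiniteType := f.finiteType_appLE hV hU hUV
  have hqf : (f.appLE V U hUV).hom.QuasiFinite := LocallyQuasiFinite.quasiFinite_appLE hV hU hUV
  algebraize [(f.appLE V U hUV).hom]
  obtain ⟨S', hS', r, hrp, hbij⟩ :=
    Algebra.QuasiFiniteAt.exists_fg_and_exists_notMem_and_awayMap_bijective (R := Γ(Y, V))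
      (hU.primeIdealOf ⟨x, hxU⟩).asIdeal
  obtain ⟨s, hs⟩ := (Submodule.fg_top _).mpr hS'
  let a₁ : S' →+* Localization.Away r := algebraMap _ _
  let a₂ : Γ(X, U) →+* Localization.Away (S'.val.toRingHom r) := algebraMap _ _
  let w : Localization.Away r →+* Localization.Away (S'.val.toRingHom r) :=
    Localization.awayMap S'.val.toRingHom r
  have hw : w.comp a₁ = a₂.comp S'.val.toRingHom := IsLocalization.map_comp _
  haveI : IsIso (CommRingCat.ofHom w) := (ConcreteCategory.isIso_iff_bijective _).mpr hbij
  let φ' : Γ(Y, V) ⟶ CommRingCat.of S' := CommRingCat.ofHom (algebraMap Γ(Y, V) S')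
  let i : Spec (CommRingCat.of (Localization.Away (S'.val.toRingHom r))) ⟶ Spec (CommRingCat.of S') :=
    Spec.map (CommRingCat.ofHom w) ≫ Spec.map (CommRingCat.ofHom a₁)
  let j : Spec (CommRingCat.of (Localization.Away (S'.val.toRingHom r))) ⟶ X :=
    Spec.map (CommRingCat.ofHom a₂) ≫ hU.fromSpec
  have e1 : f.appLE V U hUV ≫ CommRingCat.ofHom a₂ =
      φ' ≫ CommRingCat.ofHom a₁ ≫ CommRingCat.ofHom w := by
    ext z
    have := congrArg (fun h => h (algebraMap Γ(Y, V) S' z)) hw
    exact this.symm
  refine ⟨Γ(Y, V), CommRingCat.of S', φ', s.card, hV.fromSpec, _, i, j, ?_, inferInstance,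
    inferInstance, inferInstance, ?_, ?_⟩
  · intro K _ γ
    exact card_pullback_le Γ(Y, V) S' s hs K γ
  · have hp : hU.primeIdealOf ⟨x, hxU⟩ ∈ Set.range (Spec.map (CommRingCat.ofHom a₂)) := by
      rw [show Set.range (Spec.map (CommRingCat.ofHom a₂)) =
        (PrimeSpectrum.basicOpen (S'.val.toRingHom r) : Set (PrimeSpectrum Γ(X, U))) from
        PrimeSpectrum.localization_away_comap_range _ _]
      exact hrp
    obtain ⟨q, hq⟩ := hp
    refine ⟨q, ?_⟩
    rw [Scheme.Hom.comp_apply, hq]
    exact hU.fromSpec_primeIdealOf ⟨x, hxU⟩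
  · simp only [i, j, Category.assoc]
    rw [← hV.SpecMap_appLE_fromSpec f hU hUV, ← Spec.map_comp_assoc, ← Spec.map_comp_assoc,
      ← Spec.map_comp_assoc, e1]

open AlgebraicGeometry CategoryTheory Limits in
/-- Let f : X → Y be locally quasi-finite. Then (1) for every y the number of irreducible components and
the number of connected components of the geometric fibre over y agree, and (2) if X is
quasi-compact these numbers are bounded by some natural number. -/
theorem result {X Y : Scheme.{u}} (f : X ⟶ Y) [LocallyQuasiFinite f] [LocallyOfFiniteType f] :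
    (∀ y : Y, MoreMor.nGeomIrredComp f y = MoreMor.nGeomConnComp f y) ∧
      (CompactSpace ↑X → ∃ d : ℕ, ∀ y : Y, MoreMor.nGeomConnComp f y ≤ d) := by

  have hdisc : ∀ y : Y, DiscreteTopology ↥(MoreMor.geomFiber f y) := by
    intro y
    haveI : LocallyQuasiFinite (f.fiberToSpecResidueField y) :=
      MorphismProperty.pullback_snd (P := @LocallyQuasiFinite) f (Y.fromSpecResidueField y)
        inferInstance
    haveI : Subsingleton ↥(Spec (CommRingCat.of (SeparableClosure (Y.residueField y)))) :=
      inferInstanceAs (Subsingleton (PrimeSpectrum (SeparableClosure (Y.residueField y))))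
    have h := Scheme.Hom.isDiscrete_preimage_singleton
      (pullback.snd (f.fiberToSpecResidueField y) (Spec.map (CommRingCat.ofHom
        (algebraMap (Y.residueField y) (SeparableClosure (Y.residueField y))))))
      (⊥ : PrimeSpectrum (SeparableClosure (Y.residueField y)))
    exact isDiscrete_univ_iff.mp (h.mono (fun z _ => Subsingleton.elim _ _))
  refine ⟨fun y => ?_, fun hX => ?_⟩
  · haveI := hdisc y
    unfold MoreMor.nGeomIrredComp MoreMor.nGeomConnComp
    rw [encard_irreducibleComponents_of_discrete, card_connectedComponents_of_discrete]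
  · choose R S' φ' n v T i j hn hv hi hj hx hcomm using fun x : X => exists_chart f x
    have hopen : ∀ x, IsOpen (Set.range (j x)) := fun x =>
      haveI := hj x; (j x).isOpenEmbedding.isOpen_range
    obtain ⟨t, ht⟩ := isCompact_univ.elim_finite_subcover (fun x => Set.range (j x)) hopen
      (fun x _ => Set.mem_iUnion.mpr ⟨x, hx x⟩)
    refine ⟨∑ x ∈ t, n x, fun y => ?_⟩
    haveI := hdisc y
    unfold MoreMor.nGeomConnComp
    rw [card_connectedComponents_of_discrete]
    let g : Spec (CommRingCat.of (SeparableClosure (Y.residueField y))) ⟶ Y :=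
      Spec.map (CommRingCat.ofHom
        (algebraMap (Y.residueField y) (SeparableClosure (Y.residueField y)))) ≫
        Y.fromSpecResidueField y
    have hpb : IsPullback (pullback.snd (f.fiberToSpecResidueField y) (Spec.map (CommRingCat.ofHom
        (algebraMap (Y.residueField y) (SeparableClosure (Y.residueField y))))))
        (pullback.fst (f.fiberToSpecResidueField y) (Spec.map (CommRingCat.ofHom
        (algebraMap (Y.residueField y) (SeparableClosure (Y.residueField y))))) ≫ f.fiberι y)
        g f :=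
      IsPullback.paste_vert (IsPullback.of_hasPullback _ _).flip
        (IsPullback.of_hasPullback f (Y.fromSpecResidueField y)).flip
    have h1 : ENat.card ↥(MoreMor.geomFiber f y) ≤ ENat.card ↥(pullback g f) :=
      ENat.card_le_card_of_injective (Scheme.homeoOfIso hpb.isoPullback).injective
    refine h1.trans ?_
    have hcover : (Set.univ : Set ↥(pullback g f)) ⊆
        ⋃ x ∈ t, {z : ↥(pullback g f) | pullback.snd g f z ∈ Set.range (j x)} := by
      intro z _
      have := ht (Set.mem_univ (pullback.snd g f z))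
      simpa using this
    calc ENat.card ↥(pullback g f) = (Set.univ : Set ↥(pullback g f)).encard :=
          (Set.encard_univ _).symm
      _ ≤ (⋃ x ∈ t, {z : ↥(pullback g f) | pullback.snd g f z ∈ Set.range (j x)}).encard :=
          Set.encard_le_encard hcover
      _ ≤ ∑ x ∈ t, ({z : ↥(pullback g f) | pullback.snd g f z ∈ Set.range (j x)}).encard :=
          Finset.set_encard_biUnion_le t _
      _ ≤ ∑ x ∈ t, (n x : ℕ∞) := Finset.sum_le_sum fun x _ => by
          haveI := hv x
          haveI := hi x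
          haveI := hj x
          exact chart_bound f (φ' x) (v x) (i x) (j x) (hcomm x) (n x) (hn x) _ g
      _ = ((∑ x ∈ t, n x : ℕ) : ℕ∞) := by push_cast; rfl

end Groth.Agent.S1415
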