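import Groth.Statements.S1584
import Mathlib
import Groth.Agent.Lib.Helper11.TwoEmb

set_option autoImplicit false
universe u
open CategoryTheory CategoryTheory.Limits AlgebraicGeometry
open Variety

namespace Groth.Agent.S1584

open Groth.Agent.Lib.Helper11.FBaseLib Groth.Agent.Lib.Helper11.FBaseLib2
  Groth.Agent.Lib.Helper11.BcLevels Groth.Agent.Lib.Helper11.TwoEmb

/-- two embeddings of a normal extension differ by an automorphism -/
theorem exists_algEquiv_comp {k K Ω : Type*} [Field k] [Field K] [Field Ω] [Algebra k K]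
    [Algebra k Ω] [Normal k K] (τ τ' : K →ₐ[k] Ω) : ∃ σ : K ≃ₐ[k] K, ∀ x, τ (σ x) = τ' x := by
  let e : K ≃ₐ[k] τ.fieldRange := τ.equivFieldRange
  haveI : Normal k ↥τ.fieldRange := Normal.of_algEquiv e
  have hrange : (τ'.comp (e.symm : ↥τ.fieldRange →ₐ[k] K)).fieldRange = τ.fieldRange :=
    AlgHom.fieldRange_of_normal _
  have H : τ'.fieldRange = τ.fieldRange := by
    rw [← hrange]
    ext y
    constructor
    · intro hy
      obtain ⟨x, rfl⟩ := AlgHom.mem_fieldRange.mp hy
      exact AlgHom.mem_fieldRange.mpr ⟨e x, by simp⟩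
    · intro hy
      obtain ⟨a, rfl⟩ := AlgHom.mem_fieldRange.mp hy
      exact AlgHom.mem_fieldRange.mpr ⟨e.symm a, rfl⟩
  refine ⟨τ'.equivFieldRange.trans ((IntermediateField.equivOfEq H).trans e.symm), fun x => ?_⟩
  have h1 : τ (e.symm (IntermediateField.equivOfEq H (τ'.equivFieldRange x))) =
      ↑(e (e.symm (IntermediateField.equivOfEq H (τ'.equivFieldRange x)))) :=
    (AlgHom.equivFieldRange_apply_coe τ _).symm
  show τ (e.symm (IntermediateField.equivOfEq H (τ'.equivFieldRange x))) = τ' x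
  rw [h1, e.apply_symm_apply]
  rfl

theorem galAct_eq (k : Type u) [Field k] (X : Scheme.{u}) [X.Over (Spec (CommRingCat.of k))]
    (K : Type u) [Field K] [Algebra k K] (σ : K ≃ₐ[k] K) :
    Curv2.galAct k X K σ = bcHom (X ↘ Spec (CommRingCat.of k)) (σ : K →ₐ[k] K) := by
  unfold Curv2.galAct bcHom pullback.map
  congr 1 <;> simp [FBase.bcπ, FBase.bcStr]

/-- Let K be a Galois extension of k (possibly infinite) and X a scheme over k. A closed subset of X_K
which is mapped onto itself by the action of every k-automorphism of K is the inverse image of a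
closed subset of X. -/
theorem result (k : Type u) [Field k] (X : Scheme.{u}) [X.Over (Spec (CommRingCat.of k))] (K : Type u) [Field K] [Algebra k K] [IsGalois k K]
    (T' : Set (Curv2.bc k X K)) (hT' : IsClosed T') (hinv : ∀ σ : K ≃ₐ[k] K, (Curv2.galAct k X K σ).base '' T' = T') :
    ∃ T : Set X, IsClosed T ∧ (Curv2.bcFst k X K).base ⁻¹' T = T' := by

  classical
  let a : X ⟶ Spec (CommRingCat.of k) := X ↘ Spec (CommRingCat.of k)
  let p := FBase.bcπ a K
  haveI : Algebra.IsIntegral k K := inferInstance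
  haveI := isIntegralHom_bcπ a K
  refine ⟨p '' T', p.isClosedMap T' hT', ?_⟩
  apply Set.Subset.antisymm _ (Set.subset_preimage_image _ _)
  rintro y ⟨t, ht, hty⟩
  obtain ⟨Ω, _, _, τ₁, τ₂, z, hz1, hz2⟩ := exists_two_embeddings a K y t hty.symm
  obtain ⟨σ, hσ⟩ := exists_algEquiv_comp τ₂ τ₁
  have hτ : τ₂.comp (σ : K →ₐ[k] K) = τ₁ := AlgHom.ext hσ
  have hy : y = (bcHom a (σ : K →ₐ[k] K)) t := by
    rw [← hz1, ← hz2, bcHom_comp_apply, hτ]
  rw [← hinv σ, galAct_eq]
  exact ⟨t, ht, hy.symm⟩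

end Groth.Agent.S1584
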