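import Groth.Statements.S1670
import Mathlib
import Groth.Agent.S1584

set_option autoImplicit false
universe u
open CategoryTheory CategoryTheory.Limits AlgebraicGeometry
open Variety

namespace Groth.Agent.S1670

open Groth.Agent.Lib.Helper11.FBaseLib Groth.Agent.Lib.Helper11.FBaseLib2
  Groth.Agent.Lib.Helper11.BcLevels Groth.Agent.Lib.Helper11.TwoEmb

theorem main {k : Type u} [Field k] {X : Scheme.{u}} (a : X ⟶ Spec (CommRingCat.of k))
    [LocallyOfFiniteType a] (K : Type u) [Field K] [Algebra k K] [Algebra.IsIntegral k K]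
    [Normal k K] (T : Set X) (hT : T ∈ irreducibleComponents X) :
    {T' : Set ↥(FBase.bc a K) | T' ∈ irreducibleComponents ↥(FBase.bc a K) ∧
      (FBase.bcπ a K) '' T' ⊆ T}.Finite ∧
    (FBase.bcπ a K) ⁻¹' T = ⋃₀ {T' : Set ↥(FBase.bc a K) |
      T' ∈ irreducibleComponents ↥(FBase.bc a K) ∧ (FBase.bcπ a K) '' T' ⊆ T} ∧
    ∀ T' T'' : Set ↥(FBase.bc a K), T' ∈ irreducibleComponents ↥(FBase.bc a K) →
      T'' ∈ irreducibleComponents ↥(FBase.bc a K) → (FBase.bcπ a K) '' T' ⊆ T →
      (FBase.bcπ a K) '' T'' ⊆ T →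
      ∃ σ : K ≃ₐ[k] K, (bcHom a (σ : K →ₐ[k] K)) '' T' = T'' := by
  classical
  set p := FBase.bcπ a K with hp
  set S := {T' : Set ↥(FBase.bc a K) | T' ∈ irreducibleComponents ↥(FBase.bc a K) ∧
      p '' T' ⊆ T} with hS
  haveI : IsIntegralHom p := isIntegralHom_bcπ a K
  haveI : Flat (Spec.map (CommRingCat.ofHom (algebraMap k K))) := by
    rw [Flat.SpecMap_iff]
    show (algebraMap k K).Flat
    rw [RingHom.flat_algebraMap_iff]
    infer_instance
  haveI : Flat p := MorphismProperty.pullback_fst (P := @Flat) a _ inferInstance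
  have hgen : GeneralizingMap p := Flat.generalizingMap p
  have hTcl : IsClosed T := isClosed_of_mem_irreducibleComponents T hT
  obtain ⟨ξ, hξ⟩ := QuasiSober.sober hT.1 hTcl
  have keyG : ∀ T' ∈ S, ∀ η' : ↥(FBase.bc a K), IsGenericPoint η' T' → p η' = ξ := by
    intro T' hT' η' hη'
    have hmem : p η' ∈ T := hT'.2 ⟨η', hη'.mem, rfl⟩
    have hspec : ξ ⤳ p η' := hξ.specializes hmem
    obtain ⟨ζ, hζ, hpζ⟩ := hgen hspec
    have hsub : T' ⊆ closure {ζ} := by
      rw [← hη'.def]
      exact closure_minimal (Set.singleton_subset_iff.mpr hζ.mem_closure) isClosed_closure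
    have hζT' : ζ ∈ T' := hT'.1.2 (isIrreducible_singleton.closure) hsub (subset_closure rfl)
    have h2 : η' ⤳ ζ := hη'.specializes hζT'
    have : ζ = η' := (hζ.antisymm h2).eq
    rw [← this]
    exact hpζ
  have partb : p ⁻¹' T = ⋃₀ S := by
    apply Set.Subset.antisymm
    · intro z hz
      have hspec : ξ ⤳ p z := hξ.specializes hz
      obtain ⟨ζ, hζ, hpζ⟩ := hgen hspec
      obtain ⟨T', hT', hζT'⟩ := exists_mem_irreducibleComponents_subset_of_isIrreducible {ζ}
        isIrreducible_singleton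
      have hT'cl := isClosed_of_mem_irreducibleComponents T' hT'
      have hzT' : z ∈ T' := hT'cl.closure_subset_iff.mpr hζT' hζ.mem_closure
      refine ⟨T', ⟨hT', ?_⟩, hzT'⟩
      have hirr : IsIrreducible (closure (p '' T')) :=
        (hT'.1.image p p.continuous.continuousOn).closure
      have hsubT : T ⊆ closure (p '' T') := by
        rw [← hξ.def]
        exact closure_minimal (Set.singleton_subset_iff.mpr
          (subset_closure ⟨ζ, hζT' rfl, hpζ⟩)) isClosed_closure
      exact subset_closure.trans (hT.2 hirr hsubT)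
    · rintro z ⟨T', hT', hz⟩
      exact hT'.2 ⟨z, hz, rfl⟩
  have partc : ∀ T' T'' : Set ↥(FBase.bc a K), T' ∈ irreducibleComponents ↥(FBase.bc a K) →
      T'' ∈ irreducibleComponents ↥(FBase.bc a K) → p '' T' ⊆ T → p '' T'' ⊆ T →
      ∃ σ : K ≃ₐ[k] K, (bcHom a (σ : K →ₐ[k] K)) '' T' = T'' := by
    intro T' T'' hT' hT'' h1 h2
    obtain ⟨η', hη'⟩ := QuasiSober.sober hT'.1 (isClosed_of_mem_irreducibleComponents T' hT')
    obtain ⟨η'', hη''⟩ := QuasiSober.sober hT''.1 (isClosed_of_mem_irreducibleComponents T'' hT'')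
    have e1 := keyG T' ⟨hT', h1⟩ η' hη'
    have e2 := keyG T'' ⟨hT'', h2⟩ η'' hη''
    obtain ⟨Ω, _, _, τ₁, τ₂, z, hz1, hz2⟩ := exists_two_embeddings a K η'' η' (e2.trans e1.symm)
    obtain ⟨σ, hσ⟩ := Groth.Agent.S1584.exists_algEquiv_comp τ₂ τ₁
    have hτ : τ₂.comp (σ : K →ₐ[k] K) = τ₁ := AlgHom.ext hσ
    have hy : η'' = (bcHom a (σ : K →ₐ[k] K)) η' := by
      rw [← hz1, ← hz2, bcHom_comp_apply, hτ]
    refine ⟨σ, ?_⟩
    haveI := isIntegralHom_bcHom a (σ : K →ₐ[k] K)
    have hcl : IsClosedMap (bcHom a (σ : K →ₐ[k] K)) := (bcHom a (σ : K →ₐ[k] K)).isClosedMap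
    rw [← hη'.def, ← hη''.def, ← hcl.closure_image_eq_of_continuous (bcHom a _).continuous,
      Set.image_singleton, ← hy]
  have parta : S.Finite := by
    obtain ⟨_, ⟨U, hU, rfl⟩, hξU, -⟩ := X.isBasis_affineOpens.exists_subset_of_mem_open
      (Set.mem_univ ξ) isOpen_univ
    replace hU : IsAffineOpen U := hU
    let V : (FBase.bc a K).Opens := p ⁻¹ᵁ U
    have hV : IsAffineOpen V := hU.preimage p
    haveI : IsLocallyNoetherian (FBase.bc a K) := inferInstanceAs
      (IsLocallyNoetherian (pullback a (Spec.map (CommRingCat.ofHom (algebraMap k K)))))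
    haveI : IsNoetherianRing Γ(FBase.bc a K, V) :=
      IsLocallyNoetherian.component_noetherian ⟨V, hV⟩
    haveI : TopologicalSpace.NoetherianSpace ↥V := noetherianSpace_of_isAffineOpen V hV
    have hfin : (irreducibleComponents ↥V).Finite :=
      TopologicalSpace.NoetherianSpace.finite_irreducibleComponents
    let F : Set ↥(FBase.bc a K) → Set ↥V := fun T' => Subtype.val ⁻¹' T'
    have hemb : Topology.IsOpenEmbedding (Subtype.val : ↥V → ↥(FBase.bc a K)) :=
      V.2.isOpenEmbedding_subtypeVal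
    have hmeet : ∀ T' ∈ S, (T' ∩ (V : Set ↥(FBase.bc a K))).Nonempty := by
      intro T' hT'
      obtain ⟨η', hη'⟩ := QuasiSober.sober hT'.1.1 (isClosed_of_mem_irreducibleComponents T' hT'.1)
      refine ⟨η', hη'.mem, ?_⟩
      show p η' ∈ U
      rw [keyG T' hT' η' hη']
      exact hξU
    have hmaps : F '' S ⊆ irreducibleComponents ↥V := by
      rintro _ ⟨T', hT', rfl⟩
      refine preimage_mem_irreducibleComponents hT'.1 hemb ?_
      rw [Subtype.range_coe]
      exact hmeet T' hT'
    have hcl : ∀ T' ∈ S, closure (T' ∩ (V : Set ↥(FBase.bc a K))) = T' := by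
      intro T' hT'
      apply Set.Subset.antisymm
      · exact closure_minimal Set.inter_subset_left
          (isClosed_of_mem_irreducibleComponents T' hT'.1)
      · exact subset_closure_inter_of_isPreirreducible_of_isOpen hT'.1.1.2 V.2 (hmeet T' hT')
    have hinj : Set.InjOn F S := by
      intro T₁ h₁ T₂ h₂ h12
      have h3 : T₁ ∩ (V : Set ↥(FBase.bc a K)) = T₂ ∩ (V : Set ↥(FBase.bc a K)) := by
        have h4 := congrArg (Set.image Subtype.val) h12
        rw [Set.inter_comm T₁, Set.inter_comm T₂,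
          ← Subtype.image_preimage_coe (V : Set ↥(FBase.bc a K)) T₁,
          ← Subtype.image_preimage_coe (V : Set ↥(FBase.bc a K)) T₂]
        exact h4
      rw [← hcl T₁ h₁, ← hcl T₂ h₂, h3]
    exact Set.Finite.of_finite_image (hfin.subset hmaps) hinj
  exact ⟨parta, partb, partc⟩

/-- Let X be locally of finite type over k, K a separable closure of k, and T an irreducible component
of X. Then the inverse image of T in X_K is the union of the finitely many irreducible components of
X_K mapping into T, and these form a single orbit under the action of the k-automorphisms of K on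
X_K. -/
theorem result (k : Type u) [Field k] (X : Scheme.{u}) [X.Over (Spec (CommRingCat.of k))] [LocallyOfFiniteType (X ↘ (Spec (CommRingCat.of k)))]
    (T : Set X) (hT : T ∈ irreducibleComponents (X : Type u)) :
    {T' : Set (Curv2.bc k X (SeparableClosure k)) | T' ∈ irreducibleComponents (Curv2.bc k X (SeparableClosure k) : Type u) ∧
        (Curv2.bcFst k X (SeparableClosure k)).base '' T' ⊆ T}.Finite ∧
      (Curv2.bcFst k X (SeparableClosure k)).base ⁻¹' T = ⋃₀ {T' : Set (Curv2.bc k X (SeparableClosure k)) | T' ∈ irreducibleComponents (Curv2.bc k X (SeparableClosure k) : Type u) ∧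
        (Curv2.bcFst k X (SeparableClosure k)).base '' T' ⊆ T} ∧
      ∀ T' T'' : Set (Curv2.bc k X (SeparableClosure k)), T' ∈ irreducibleComponents (Curv2.bc k X (SeparableClosure k) : Type u) →
        T'' ∈ irreducibleComponents (Curv2.bc k X (SeparableClosure k) : Type u) →
        (Curv2.bcFst k X (SeparableClosure k)).base '' T' ⊆ T → (Curv2.bcFst k X (SeparableClosure k)).base '' T'' ⊆ T →
        ∃ σ : (SeparableClosure k) ≃ₐ[k] (SeparableClosure k), (Curv2.galAct k X (SeparableClosure k) σ).base '' T' = T'' := by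

  have h := main (X ↘ Spec (CommRingCat.of k)) (SeparableClosure k) T hT
  refine ⟨h.1, h.2.1, fun T' T'' h1 h2 h3 h4 => ?_⟩
  obtain ⟨σ, hσ⟩ := h.2.2 T' T'' h1 h2 h3 h4
  refine ⟨σ, ?_⟩
  rw [Groth.Agent.S1584.galAct_eq]
  exact hσ

end Groth.Agent.S1670
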