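import Groth.Statements.S1355
import Mathlib
import Groth.Agent.Lib.Helper11.ConnLevels
import Groth.Agent.Lib.Helper11.EtaleNbhd

set_option autoImplicit false
universe u
open FlatMor

namespace Groth.Agent.S1355

open AlgebraicGeometry CategoryTheory Limits in
theorem level_connected {X S : Scheme.{u}} (f : X ⟶ S) (s : S)
    (h : ∀ (U : Scheme.{u}) (g : U ⟶ S) (u : U), Etale g → g u = s →
      ConnectedSpace ↑((pullback.snd f g).fiber u))
    (L : Type u) [Field L] [Algebra (S.residueField s) L] [FiniteDimensional (S.residueField s) L]
    [Algebra.IsSeparable (S.residueField s) L] :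
    ConnectedSpace ↥(FBase.bc (k := ↑(S.residueField s)) (f.fiberToSpecResidueField s) L) := by
  obtain ⟨U, g, u, hg, θ, hθ, hcompat⟩ :=
    Groth.Agent.Lib.Helper11.EtaleNbhd.exists_etale_nbhd s L
  have hgu : g u = s := by
    have h1 : (Spec.map (CommRingCat.ofHom θ) ≫ U.fromSpecResidueField u ≫ g)
        (IsLocalRing.closedPoint L) =
        (Spec.map (CommRingCat.ofHom (algebraMap (S.residueField s) L)) ≫
          S.fromSpecResidueField s) (IsLocalRing.closedPoint L) := by rw [hcompat]
    rw [Scheme.Hom.comp_apply, Scheme.Hom.comp_apply, Scheme.fromSpecResidueField_apply,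
      Scheme.Hom.comp_apply, Scheme.fromSpecResidueField_apply] at h1
    exact h1
  subst hgu
  have hres : g.residueFieldMap u ≫ CommRingCat.ofHom θ =
      CommRingCat.ofHom (algebraMap (S.residueField (g u)) L) := by
    apply Spec.map_injective
    rw [← cancel_mono (S.fromSpecResidueField (g u)), Spec.map_comp, Category.assoc,
      Scheme.Hom.SpecMap_residueFieldMap_fromSpecResidueField]
    exact hcompat
  haveI hconn : ConnectedSpace ↑((pullback.snd f g).fiber u) := h U g u hg rfl
  obtain ⟨p, hp⟩ : ∃ p, IsPullback p ((pullback.snd f g).fiberToSpecResidueField u)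
      (f.fiberToSpecResidueField (g u)) (Spec.map (g.residueFieldMap u)) :=
    ⟨_, isPullback_fiberToSpecResidueField_of_isPullback (IsPullback.of_hasPullback f g) u⟩
  haveI hiso : IsIso (CommRingCat.ofHom θ) := by
    have : CommRingCat.ofHom θ = (RingEquiv.ofBijective θ hθ).toCommRingCatIso.hom := rfl
    rw [this]; infer_instance
  obtain ⟨θ', hθ'iso, hθ'⟩ : ∃ θ' : Spec (CommRingCat.of L) ⟶ Spec (U.residueField u),
      IsIso θ' ∧ θ' = Spec.map (CommRingCat.ofHom θ) := ⟨_, inferInstance, rfl⟩
  have hfac : Spec.map (CommRingCat.ofHom (algebraMap (S.residueField (g u)) L)) =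
      θ' ≫ Spec.map (g.residueFieldMap u) := by
    have h2 := congrArg Spec.map hres
    rw [Spec.map_comp] at h2
    rw [hθ']
    exact h2.symm
  have hp' : IsPullback p
      ((pullback.snd f g).fiberToSpecResidueField u ≫ inv θ')
      (f.fiberToSpecResidueField (g u))
      (Spec.map (CommRingCat.ofHom (algebraMap (S.residueField (g u)) L))) := by
    refine hp.of_iso (Iso.refl _) (Iso.refl _) (asIso θ').symm
      (Iso.refl _) ?_ ?_ ?_ ?_
    · simp
    · simp
    · simp
    · have h3 : (asIso θ').symm.hom ≫ (θ' ≫ Spec.map (g.residueFieldMap u)) =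
          Spec.map (g.residueFieldMap u) ≫ (Iso.refl _).hom := by simp
      rw [← hfac] at h3
      exact h3.symm
  let e : ((pullback.snd f g).fiber u) ≅
      FBase.bc (k := ↑(S.residueField (g u))) (f.fiberToSpecResidueField (g u)) L :=
    hp'.isoPullback
  exact (Scheme.homeoOfIso e).surjective.connectedSpace (Scheme.homeoOfIso e).continuous

open AlgebraicGeometry CategoryTheory Limits in
/-- Let f : X → S and s a point of S. The fibre of f over s is geometrically connected if and only if
for every étale morphism U → S and every point u over s, the fibre over u of the base change of f to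
U is connected. -/
theorem result {X S : Scheme.{u}} (f : X ⟶ S) (s : S) :
    GeometricallyConnected (f.fiberToSpecResidueField s) ↔
      ∀ (U : Scheme.{u}) (g : U ⟶ S) (u : U), Etale g → g u = s → ConnectedSpace ↑((pullback.snd f g).fiber u) := by

  constructor
  · intro hgc U g u hg hgu
    subst hgu
    have hp := isPullback_fiberToSpecResidueField_of_isPullback (IsPullback.of_hasPullback f g) u
    exact hgc.1 (K := ↑(U.residueField u)) (Spec.map (g.residueFieldMap u)) _ _ hp
  · intro h
    haveI : ConnectedSpace ↥(FBase.bc (k := ↑(S.residueField s)) (f.fiberToSpecResidueField s)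
        (SeparableClosure (S.residueField s))) :=
      Groth.Agent.Lib.Helper11.ConnLevels.connectedSpace_of_levels
        (k := ↑(S.residueField s)) (f.fiberToSpecResidueField s)
        (SeparableClosure (S.residueField s)) (fun L hL => by
          haveI := hL
          exact level_connected f s h ↥L)
    exact Groth.Agent.Lib.Helper11.GeomSep.geometricallyConnected_of_sepClosure
      (k := ↑(S.residueField s)) (f.fiberToSpecResidueField s)

end Groth.Agent.S1355
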