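import Groth.Statements.S9525
import Mathlib
import Groth.Agent.Lib.Helper17.ClImmUnit
import Groth.Agent.Lib.Helper17.StalkExact
import Groth.Agent.Lib.Helper3.ModBasic
import Groth.Agent.Lib.Helper3.AssPoints
import Groth.Agent.Lib.Helper3.QCProps

set_option autoImplicit false
universe u
open Coherent

namespace Groth.Agent.S9525

open CategoryTheory CategoryTheory.Limits AlgebraicGeometry Groth.Agent.Lib.Helper3
  Groth.Agent.Lib.Helper17

theorem isZero_restrict_of_support {X : Scheme.{u}} (U : X.Opens) (M : X.Modules)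
    (h : CohB1.support M ⊆ (↑U : Set X)ᶜ) :
    IsZero ((Scheme.Modules.restrictFunctor U.ι).obj M) := by
  apply QS.isZero_of_subsingleton_stalk
  intro y
  refine (ModBasic.subsingleton_stalk_restrict_iff U.ι M y).2 ?_
  by_contra hns
  exact h hns y.2

theorem exists_open_of_stalk {X : Scheme.{u}} (K : X.Modules) [K.IsQuasicoherent]
    [K.IsFiniteType] (x : X) (hx : Subsingleton (K.presheaf.stalk x)) :
    ∃ U : X.Opens, x ∈ U ∧ CohB1.support K ⊆ (↑U : Set X)ᶜ := by
  have hcl : IsClosed (CohB1.support K) := by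
    rw [← ClImmUnit.support_annData K]
    exact (ClImmUnit.annData K).support.isClosed
  refine ⟨⟨(CohB1.support K)ᶜ, hcl.isOpen_compl⟩, ?_, ?_⟩
  · show x ∈ (CohB1.support K)ᶜ
    exact fun h => h hx
  · intro y hy
    show y ∈ ((CohB1.support K)ᶜ)ᶜ
    exact fun h => h hy

open CategoryTheory CategoryTheory.Limits AlgebraicGeometry in
/-- Let X be a locally Noetherian scheme, F and G coherent O_X-modules, φ : G → F a morphism and x ∈ X.
(1) If F_x = 0 there is an open neighbourhood U of x with F|_U = 0. (2) If the stalk map φ_x : G_x →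
F_x is injective there is an open neighbourhood U of x with φ|_U injective. (4) If φ_x is bijective
there is an open neighbourhood U of x with φ|_U an isomorphism. (Part (3), surjectivity, is the
finite-type statement valid on any ringed space and is not restated.) -/
theorem result (X : Scheme.{u}) [IsLocallyNoetherian X]
    (F G : X.Modules) (hF : Coh.IsCoh F) (hG : Coh.IsCoh G) (φ : G ⟶ F) (x : X) :
    (Subsingleton ↑(F.presheaf.stalk x) →
      ∃ U : X.Opens, x ∈ U ∧ IsZero ((Scheme.Modules.restrictFunctor U.ι).obj F)) ∧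
    (Function.Injective ((TopCat.Presheaf.stalkFunctor _ x).map φ.mapPresheaf).hom →
      ∃ U : X.Opens, x ∈ U ∧ Mono ((Scheme.Modules.restrictFunctor U.ι).map φ)) ∧
    (Function.Bijective ((TopCat.Presheaf.stalkFunctor _ x).map φ.mapPresheaf).hom →
      ∃ U : X.Opens, x ∈ U ∧ IsIso ((Scheme.Modules.restrictFunctor U.ι).map φ)) := by
  obtain ⟨hFq, hFt⟩ := hF
  obtain ⟨hGq, hGt⟩ := hG
  haveI : F.IsQuasicoherent := hFq
  haveI : F.IsFiniteType := hFt
  haveI : G.IsQuasicoherent := hGq
  haveI : G.IsFiniteType := hGt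
  haveI : (kernel φ).IsQuasicoherent := QCProps.isQuasicoherent_kernel φ
  haveI : (kernel φ).IsFiniteType := QCProps.isFiniteType_of_mono (kernel.ι φ)
  haveI : (cokernel φ).IsQuasicoherent := QCProps.isQuasicoherent_cokernel φ
  haveI : (cokernel φ).IsFiniteType := QCProps.isFiniteType_of_epi (cokernel.π φ)
  have hker : Function.Injective ((TopCat.Presheaf.stalkFunctor _ x).map φ.mapPresheaf).hom →
      ∃ U : X.Opens, x ∈ U ∧ CohB1.support (kernel φ) ⊆ (↑U : Set X)ᶜ := by
    intro hinj
    apply exists_open_of_stalk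
    refine ⟨fun a b => ?_⟩
    apply StalkExact.stalkLin_injective (kernel.ι φ) x
    apply hinj
    have h0 : ∀ c, StalkExact.stalkLin φ x (StalkExact.stalkLin (kernel.ι φ) x c) = 0 := by
      intro c
      rw [StalkExact.stalkLin_apply, StalkExact.stalkLin_apply, ← QS.stalkMap_comp_apply,
        kernel.condition, QS.stalkMap_zero_apply]
    exact (h0 a).trans (h0 b).symm
  have hcok : Function.Surjective ((TopCat.Presheaf.stalkFunctor _ x).map φ.mapPresheaf).hom →
      ∃ U : X.Opens, x ∈ U ∧ CohB1.support (cokernel φ) ⊆ (↑U : Set X)ᶜ := by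
    intro hsurj
    apply exists_open_of_stalk
    suffices h0 : ∀ c : (cokernel φ).presheaf.stalk x, c = 0 from
      ⟨fun a b => by rw [h0 a, h0 b]⟩
    intro c
    obtain ⟨m, rfl⟩ := StalkExact.stalkLin_surjective (cokernel.π φ) x c
    obtain ⟨g, rfl⟩ := hsurj m
    have h1 : StalkExact.stalkLin (cokernel.π φ) x (StalkExact.stalkLin φ x g) = 0 := by
      rw [StalkExact.stalkLin_apply, StalkExact.stalkLin_apply, ← QS.stalkMap_comp_apply,
        cokernel.condition, QS.stalkMap_zero_apply]
    exact h1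
  have hmono : ∀ U : X.Opens, CohB1.support (kernel φ) ⊆ (↑U : Set X)ᶜ →
      Mono ((Scheme.Modules.restrictFunctor U.ι).map φ) := by
    intro U h
    rw [Preadditive.mono_iff_isZero_kernel]
    exact IsZero.of_iso (isZero_restrict_of_support U _ h)
      (PreservesKernel.iso (Scheme.Modules.restrictFunctor U.ι) φ).symm
  have hepi : ∀ U : X.Opens, CohB1.support (cokernel φ) ⊆ (↑U : Set X)ᶜ →
      Epi ((Scheme.Modules.restrictFunctor U.ι).map φ) := by
    intro U h
    rw [Preadditive.epi_iff_isZero_cokernel]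
    exact IsZero.of_iso (isZero_restrict_of_support U _ h)
      (PreservesCokernel.iso (Scheme.Modules.restrictFunctor U.ι) φ).symm
  refine ⟨?_, ?_, ?_⟩
  · intro h
    obtain ⟨U, hxU, hU⟩ := exists_open_of_stalk F x h
    exact ⟨U, hxU, isZero_restrict_of_support U F hU⟩
  · intro h
    obtain ⟨U, hxU, hU⟩ := hker h
    exact ⟨U, hxU, hmono U hU⟩
  · intro h
    obtain ⟨U₁, hx₁, hU₁⟩ := hker h.1
    obtain ⟨U₂, hx₂, hU₂⟩ := hcok h.2
    refine ⟨U₁ ⊓ U₂, ⟨hx₁, hx₂⟩, ?_⟩
    haveI := hmono (U₁ ⊓ U₂) (fun y hy hy' => hU₁ hy hy'.1)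
    haveI := hepi (U₁ ⊓ U₂) (fun y hy hy' => hU₂ hy hy'.2)
    exact isIso_of_mono_of_epi _

end Groth.Agent.S9525
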