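import Groth.Statements.S0036
-- import your own Groth.Agent.* helpers here
import Groth.Agent.Lib.Helper23.T2K

set_option autoImplicit false
universe u
open Coherent

namespace Groth.Agent.S0036

open AlgebraicGeometry CategoryTheory in
/-- Let S be locally Noetherian, f : X → S proper and F a coherent O_X-module. Then R^i f_* F is a
coherent O_S-module for all i. (Carries the not-yet-in-Mathlib fact that X.Modules has injective
resolutions as an instance argument.) -/
theorem result {X S : Scheme.{u}} (f : X ⟶ S) [IsProper f]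
    [IsLocallyNoetherian S] [HasInjectiveResolutions X.Modules] (M : X.Modules) (hM : Coh.IsCoh M)
    (i : ℕ) : Coh.IsCoh ((Coh.Rpush f i).obj M) := by
  open Groth.Agent.Lib.Helper23.T2 in
  haveI := hM.1
  refine isCoh_Rpush_of_local f M i (fun W hW => ?_)
  haveI : IsNoetherianRing Γ(S, W) := IsLocallyNoetherian.component_noetherian ⟨W, hW⟩
  have hcoh : Coh.IsCoh ((Scheme.Modules.restrictFunctor (f ⁻¹ᵁ W).ι).obj M) := by
    haveI := hM.2
    exact ⟨Scheme.Modules.isQuasicoherent_restrictFunctor _ _,
      Groth.Agent.Lib.Helper3.QCProps.isFiniteType_restrict _ _⟩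
  have key := proper_cohomology_finite (A := Γ(S, W)) ((f ∣_ W) ≫ hW.isoSpec.hom) _ hcoh i
  have hρ : Coh.toGlobal (A := Γ(S, W)) ((f ∣_ W) ≫ hW.isoSpec.hom) =
      (pushRing (f ∣_ W)).comp (topRing W) := by
    rw [← toGlobal_isoSpec W hW, toGlobal_comp]
  rw [hρ] at key
  exact key

end Groth.Agent.S0036
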