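import Groth.Statements.S9426
import Mathlib
import Groth.Agent.Lib.Helper8.UnivThickEx

set_option autoImplicit false
universe u
open OmegaSh

namespace Groth.Agent.S9426

/-- A formally unramified R-algebra S admits a universal first order thickening: an R-algebra surjection
S' → S with square-zero kernel through which every R-algebra map from S into a square-zero quotient
A/I lifts uniquely to A. -/
theorem result (R : Type u) [CommRing R]
    (S : Type u) [CommRing S] [Algebra R S] [Algebra.FormallyUnramified R S] :
    ∃ (S' : Type u) (_ : CommRing S') (_ : Algebra R S') (π : S' →ₐ[R] S),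
      OmegaSh.IsUnivThickeningRing R S S' π := by
  classical
  let p : MvPolynomial S R →ₐ[R] S := MvPolynomial.aeval id
  have hp : Function.Surjective p := fun s => ⟨MvPolynomial.X s, by simp [p]⟩
  let J : Ideal (MvPolynomial S R) := RingHom.ker p.toRingHom
  let e : (MvPolynomial S R ⧸ J) ≃ₐ[R] S := Ideal.quotientKerAlgEquivOfSurjective hp
  haveI : Algebra.FormallyUnramified R (MvPolynomial S R ⧸ J) :=
    Algebra.FormallyUnramified.of_equiv e.symm
  obtain ⟨J', h, hsurj, hsq, huniv⟩ := Groth.Agent.Lib.Helper8.UnivThickEx.exists_univ R S J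
  refine ⟨MvPolynomial S R ⧸ J', inferInstance, inferInstance,
    e.toAlgHom.comp (Ideal.Quotient.factorₐ R h), ?_, ?_, ?_⟩
  · exact e.surjective.comp hsurj
  · have : RingHom.ker (e.toAlgHom.comp (Ideal.Quotient.factorₐ R h)).toRingHom =
        RingHom.ker (Ideal.Quotient.factorₐ R h).toRingHom := by
      ext x
      simp only [RingHom.mem_ker]
      change e (Ideal.Quotient.factorₐ R h x) = 0 ↔ Ideal.Quotient.factorₐ R h x = 0
      exact map_eq_zero_iff e e.injective
    rw [this]
    exact hsq
  · intro A _ _ I hI a
    obtain ⟨a', ha', hu⟩ := huniv A I hI (a.comp e.toAlgHom)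
    refine ⟨a', ?_, ?_⟩
    · change (Ideal.Quotient.mkₐ R I).comp a' = _
      rw [ha']
      rfl
    · intro a₂ ha₂
      apply hu
      change (Ideal.Quotient.mkₐ R I).comp a₂ = _ at ha₂
      change (Ideal.Quotient.mkₐ R I).comp a₂ = _
      rw [ha₂]
      rfl

end Groth.Agent.S9426
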