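import Groth.Statements.S9273
import Mathlib

set_option autoImplicit false
universe u
open CAlgX

namespace Groth.Agent.S9273

/-- Let A → B and A → A' be ring maps and B' = A' ⊗_A B. If f_1, ..., f_r is an H_1-regular sequence in
B with B/(f_1, ..., f_r) flat over A, then the images of the f_i in B' form an H_1-regular sequence. -/
theorem result (A B A' : Type u) [CommRing A] [CommRing B]
    [CommRing A'] [Algebra A B] [Algebra A A'] (r : ℕ) (f : Fin r → B)
    (hflat : Module.Flat A (B ⧸ Ideal.span (Set.range f))) (hq : CAlgX.IsH1Regular f) :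
    CAlgX.IsH1Regular (fun i => ((1 : A') ⊗ₜ[A] f i : TensorProduct A A' B)) := by
  classical
  intro a' ha'
  set J : Ideal B := Ideal.span (Set.range f) with hJ
  -- the relation map
  let ψ : (Fin r → B) →ₗ[A] B :=
    { toFun := fun a => ∑ i, a i * f i
      map_add' := by intro a b; simp [add_mul, Finset.sum_add_distrib]
      map_smul' := by intro c a; simp [Finset.smul_sum] }
  have hψJ : ∀ a, ψ a ∈ J.restrictScalars A := by
    intro a
    change ∑ i, a i * f i ∈ J
    exact J.sum_mem fun i _ => J.mul_mem_left _ (Ideal.subset_span ⟨i, rfl⟩)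
  let ψ₀ : (Fin r → B) →ₗ[A] (J.restrictScalars A) := ψ.codRestrict _ hψJ
  let ι : (J.restrictScalars A) →ₗ[A] B := (J.restrictScalars A).subtype
  let π : B →ₗ[A] (B ⧸ J) := (Ideal.Quotient.mkₐ A J).toLinearMap
  have hπsurj : Function.Surjective π := Ideal.Quotient.mk_surjective
  have hιinj : Function.Injective ι := Subtype.val_injective
  have hex : Function.Exact ι π := by
    intro b
    constructor
    · intro hb
      have : b ∈ J := Ideal.Quotient.eq_zero_iff_mem.mp hb
      exact ⟨⟨b, this⟩, rfl⟩
    · rintro ⟨⟨b, hb⟩, rfl⟩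
      exact Ideal.Quotient.eq_zero_iff_mem.mpr hb
  have hinj : Function.Injective (ι.lTensor A') :=
    LinearMap.lTensor_injective_of_exact_of_flat π hπsurj ι hιinj hex A'
  have hψ₀surj : Function.Surjective ψ₀ := by
    rintro ⟨b, hb⟩
    obtain ⟨c, hc⟩ := (Ideal.mem_span_range_iff_exists_fun).mp hb
    exact ⟨c, Subtype.ext hc⟩
  have hψeq : ψ = ι ∘ₗ ψ₀ := by
    ext a
    rfl
  -- the element of the tensor product corresponding to `a'`
  let e := TensorProduct.piRight A A A' (fun _ : Fin r => B)
  set t := e.symm a' with ht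
  have hta' : ∀ i, (TensorProduct.piRightHom A A A' (fun _ : Fin r => B) t) i = a' i := by
    intro i
    have : e t = a' := e.apply_symm_apply a'
    exact congrFun this i
  -- the formula for `ψ'`
  have hform : ∀ s : TensorProduct A A' (Fin r → B), ψ.lTensor A' s =
      ∑ i, (TensorProduct.piRightHom A A A' (fun _ : Fin r => B) s) i * ((1 : A') ⊗ₜ[A] f i) := by
    intro s
    induction s using TensorProduct.induction_on with
    | zero => simp
    | tmul x a =>
      simp only [LinearMap.lTensor_tmul, TensorProduct.piRightHom_tmul,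
        Algebra.TensorProduct.tmul_mul_tmul, mul_one]
      change x ⊗ₜ[A] (∑ i, a i * f i) = _
      rw [TensorProduct.tmul_sum]
    | add s₁ s₂ h₁ h₂ =>
      simp only [map_add, Pi.add_apply, add_mul, Finset.sum_add_distrib, h₁, h₂]
  have htker : ψ.lTensor A' t = 0 := by
    rw [hform]
    simp only [hta']
    exact ha'
  have htker₀ : ψ₀.lTensor A' t = 0 := by
    apply hinj
    rw [map_zero, ← LinearMap.comp_apply, ← LinearMap.lTensor_comp, ← hψeq]
    exact htker
  have hex2 := lTensor_exact A' (LinearMap.exact_subtype_ker_map ψ₀) hψ₀surj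
  obtain ⟨s, hs⟩ := (hex2 t).mp htker₀
  -- the target submodule
  set W : Submodule (TensorProduct A A' B) (Fin r → TensorProduct A A' B) :=
    Submodule.span (TensorProduct A A' B)
      {v | ∃ i j : Fin r, v = Pi.single i ((1 : A') ⊗ₜ[A] f j) - Pi.single j ((1 : A') ⊗ₜ[A] f i)}
    with hW
  have hkey : ∀ (x : A') (z : Fin r → B),
      z ∈ Submodule.span B {v : Fin r → B | ∃ i j : Fin r, v = Pi.single i (f j) - Pi.single j (f i)} →
      (fun i => x ⊗ₜ[A] z i) ∈ W := by
    intro x z hz
    induction hz using Submodule.span_induction with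
    | mem z hz =>
      obtain ⟨i, j, rfl⟩ := hz
      have : (fun k => x ⊗ₜ[A] (Pi.single i (f j) - Pi.single j (f i) : Fin r → B) k) =
          (x ⊗ₜ[A] (1 : B)) • (Pi.single i ((1 : A') ⊗ₜ[A] f j) - Pi.single j ((1 : A') ⊗ₜ[A] f i) :
            Fin r → TensorProduct A A' B) := by
        ext k
        simp only [Pi.sub_apply, Pi.smul_apply, smul_eq_mul, TensorProduct.tmul_sub, mul_sub]
        congr 1
        · by_cases hk : k = i
          · subst hk; simp
          · simp [Pi.single_eq_of_ne hk]
        · by_cases hk : k = j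
          · subst hk; simp
          · simp [Pi.single_eq_of_ne hk]
      rw [this]
      exact W.smul_mem _ (Submodule.subset_span ⟨i, j, rfl⟩)
    | zero =>
      have : (fun i => x ⊗ₜ[A] (0 : Fin r → B) i) = (0 : Fin r → TensorProduct A A' B) := by
        ext i; simp
      rw [this]; exact W.zero_mem
    | add z₁ z₂ _ _ h₁ h₂ =>
      have : (fun i => x ⊗ₜ[A] (z₁ + z₂) i) =
          (fun i => x ⊗ₜ[A] z₁ i) + (fun i => x ⊗ₜ[A] z₂ i) := by
        ext i; simp [TensorProduct.tmul_add]
      rw [this]; exact W.add_mem h₁ h₂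
    | smul b z _ h =>
      have : (fun i => x ⊗ₜ[A] (b • z) i) =
          ((1 : A') ⊗ₜ[A] b) • (fun i => x ⊗ₜ[A] z i : Fin r → TensorProduct A A' B) := by
        ext i; simp
      rw [this]; exact W.smul_mem _ h
  have hfinal : ∀ s : TensorProduct A A' (LinearMap.ker ψ₀),
      TensorProduct.piRightHom A A A' (fun _ : Fin r => B)
        ((LinearMap.ker ψ₀).subtype.lTensor A' s) ∈ W := by
    intro s
    induction s using TensorProduct.induction_on with
    | zero => simp
    | tmul x z =>
      simp only [LinearMap.lTensor_tmul, Submodule.subtype_apply, TensorProduct.piRightHom_tmul]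
      apply hkey
      apply hq
      have hz : ψ₀ z.1 = 0 := z.2
      have := congrArg Subtype.val hz
      exact this
    | add s₁ s₂ h₁ h₂ =>
      simp only [map_add]
      exact W.add_mem h₁ h₂
  have := hfinal s
  rw [hs] at this
  have hfun : a' = TensorProduct.piRightHom A A A' (fun _ : Fin r => B) t := by
    ext i; exact (hta' i).symm
  rw [hfun]
  exact this

end Groth.Agent.S9273
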