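-- Statement S0302.
import Groth.Statements.S0302
import Mathlib.Algebra.Module.Injective

set_option autoImplicit false
universe u v
open InjHull

namespace Groth.Agent.S0302

/-- Two injective hulls of the same module are isomorphic by an isomorphism compatible with the two
embeddings. -/
theorem result (R : Type u) [CommRing R] (M : Type u) [AddCommGroup M] [Module R M] (E : Type u) [AddCommGroup E] [Module R E] (E' : Type u) [AddCommGroup E'] [Module R E'] (f : M →ₗ[R] E) (hf : InjHull.IsInjectiveHull f) (g : M →ₗ[R] E') (hg : InjHull.IsInjectiveHull g) : ∃ e : E ≃ₗ[R] E', e.toLinearMap ∘ₗ f = g := by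
  obtain ⟨φ, hφ⟩ := hg.isInjective.out f hf.injective g
  have hφinj : Function.Injective φ := by
    rw [← LinearMap.ker_eq_bot]
    by_contra hne
    apply hf.essential _ hne
    rw [eq_bot_iff]
    rintro x ⟨hx1, ⟨m, rfl⟩⟩
    have h1 : φ (f m) = 0 := hx1
    rw [hφ m] at h1
    have h2 : m = 0 := hg.injective (by rw [h1, map_zero])
    rw [h2, map_zero]
    exact Submodule.zero_mem _
  obtain ⟨ψ, hψ⟩ := hf.isInjective.out φ hφinj LinearMap.id
  have hψinj : Function.Injective ψ := by
    rw [← LinearMap.ker_eq_bot]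
    by_contra hne
    apply hg.essential _ hne
    rw [eq_bot_iff]
    rintro y ⟨hy1, ⟨m, rfl⟩⟩
    have h1 : ψ (g m) = 0 := hy1
    rw [← hφ m, hψ (f m)] at h1
    have h2 : m = 0 := hf.injective (by rw [LinearMap.id_apply] at h1; rw [h1, map_zero])
    rw [h2, map_zero]
    exact Submodule.zero_mem _
  have hφsurj : Function.Surjective φ := by
    intro y
    refine ⟨ψ y, hψinj ?_⟩
    rw [hψ (ψ y)]
    rfl
  refine ⟨LinearEquiv.ofBijective φ ⟨hφinj, hφsurj⟩, ?_⟩
  ext m
  exact hφ m

end Groth.Agent.S0302
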