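import Mathlib
import Groth.Agent.Lib.Helper20.GorCM
import Groth.Agent.S0340
import Groth.Statements.S0341
-- import your own Groth.Agent.* helpers here

set_option autoImplicit false
universe u v
open Goren

namespace Groth.Agent.S0341

/-- A Gorenstein local ring is Cohen–Macaulay. -/
theorem result (A : Type u) [CommRing A] [LocCoh.IsGorensteinLocalRing A] : LocCoh.IsCohenMacaulayLocalRing A := by
  open Groth.Agent.Lib.Helper4 Groth.Agent.Lib.Helper20.GorCM in
  obtain ⟨N₀, hN⟩ := (Groth.Agent.S0340.result A).1 inferInstance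
  obtain ⟨t, ht⟩ := exists_nat_depth (R := A) (M := A)
  have h1 : ringKrullDim A ≤ (t : WithBot ℕ∞) := ringKrullDim_le_depth t ht N₀ hN
  have h2 := depth_le_supportDim (R := A) (M := A)
  rw [Module.supportDim_self_eq_ringKrullDim] at h2
  refine { supportDim_eq_depth := ?_ }
  rw [Module.supportDim_self_eq_ringKrullDim, ht]
  rw [ht] at h2
  exact le_antisymm h1 h2

end Groth.Agent.S0341
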