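import Groth.Statements.S0342
import Groth.Agent.Lib.Helper26.RegularRing

set_option autoImplicit false
universe u v
open Goren

namespace Groth.Agent.S0342

/-- Regular local rings have finite injective dimension over themselves, i.e. are Gorenstein. -/
theorem result (A : Type u) [CommRing A] [IsRegularLocalRing A] : LocCoh.IsGorensteinLocalRing A := by
  obtain ⟨d, hd⟩ := Groth.Agent.Lib.Helper26.SerreReg.exists_nat_ringKrullDim A
  refine { exists_hasInjectiveDimensionLT := ⟨d + 1, ?_⟩ }
  apply CategoryTheory.HasInjectiveDimensionLT.mk
  intro i hi Y e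
  haveI : CategoryTheory.HasProjectiveDimensionLT Y (d + 1) := Groth.Agent.S0563.result A d hd Y
  exact e.eq_zero_of_hasProjectiveDimensionLT (d + 1) hi

end Groth.Agent.S0342
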