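import Groth.Statements.S9766
import Groth.Agent.Lib.Helper4.CMHomSch

set_option autoImplicit false
universe u
open FlatMor

namespace Groth.Agent.S9766

open AlgebraicGeometry CategoryTheory Limits in
/-- For morphisms f : X ⟶ Y, g : Y ⟶ Z and a point x of X whose fibre under f ≫ g is locally Noetherian,
Cohen–Macaulayness of f at x (flat at x with Cohen–Macaulay local ring of the fibre at x) together
with that of g at f x implies that f ≫ g is Cohen–Macaulay at x. The published statement assumes all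
fibres of f, g and g ∘ f locally Noetherian; this row assumes only that the fibre of f ≫ g through x
is, which is all the argument uses. -/
theorem result {X Y Z : Scheme.{u}} (f : X ⟶ Y) (g : Y ⟶ Z) (x : X)
    (hN : IsLocallyNoetherian ((f ≫ g).fiber (g (f x))))
    (hf : MoreMor.IsCMAt f x) (hg : MoreMor.IsCMAt g (f x)) : MoreMor.IsCMAt (f ≫ g) x := by
  rw [Groth.Agent.Lib.Helper4.CMHomSch.isCMAt_iff] at hf hg ⊢
  obtain ⟨hfl, hfcm⟩ := hf
  obtain ⟨hgl, hgcm⟩ := hg
  have hcomp := Groth.Agent.Lib.Helper4.CMHomSch.stalkMap_comp_hom f x g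
  have hNC0 := Groth.Agent.Lib.Helper4.CMHomSch.isNoetherianRing_quot_of_fiber (f ≫ g) x hN
  rw [hcomp] at hNC0 ⊢
  refine ⟨RingHom.Flat.comp hgl hfl, ?_⟩
  have hNB : IsNoetherianRing (Y.presheaf.stalk (f x) ⧸
      (IsLocalRing.maximalIdeal (Z.presheaf.stalk (g (f x)))).map (g.stalkMap (f x)).hom) :=
    by haveI := hgcm; infer_instance
  have hNF : IsNoetherianRing (X.presheaf.stalk x ⧸
      (IsLocalRing.maximalIdeal (Y.presheaf.stalk (f x))).map (f.stalkMap x).hom) :=
    by haveI := hfcm; infer_instance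
  exact (Groth.Agent.Lib.Helper4.CMHom.cm_quot_comp_iff (g.stalkMap (f x)).hom
    (f.stalkMap x).hom hfl hNB hNC0 hNF).mpr ⟨hgcm, hfcm⟩

end Groth.Agent.S9766
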