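import Groth.Statements.S6318
import Mathlib
import Groth.Agent.Lib.Helper10.Resolution

set_option autoImplicit false
universe u
open CategoryTheory
open CAlg

namespace Groth.Agent.S6318

/-- A stage of the construction: a finite module. -/
structure Stage (R : Type u) [CommRing R] where
  /-- the module -/
  Z : ModuleCat.{u} R
  /-- it is finite -/
  fin : Module.Finite R Z

section helpers

variable {R : Type u} [CommRing R]

/-- number of generators -/
noncomputable def Stage.k (s : Stage R) : ℕ :=
  haveI := s.fin
  (Module.Finite.exists_fin' R s.Z).choose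

/-- the chosen surjection -/
noncomputable def Stage.p (s : Stage R) : (Fin s.k → R) →ₗ[R] s.Z :=
  haveI := s.fin
  (Module.Finite.exists_fin' R s.Z).choose_spec.choose

lemma Stage.p_surj (s : Stage R) : Function.Surjective s.p :=
  haveI := s.fin
  (Module.Finite.exists_fin' R s.Z).choose_spec.choose_spec

/-- the next stage: the kernel of the chosen surjection -/
noncomputable def Stage.next [IsNoetherianRing R] (s : Stage R) : Stage R where
  Z := ModuleCat.of R (LinearMap.ker s.p)
  fin := inferInstanceAs (Module.Finite R (LinearMap.ker s.p))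

/-- the sequence of stages -/
noncomputable def stage [IsNoetherianRing R] (s₀ : Stage R) : ℕ → Stage R
  | 0 => s₀
  | n + 1 => (stage s₀ n).next

/-- the differential -/
noncomputable def dmap [IsNoetherianRing R] (s : Stage R) :
    (Fin s.next.k → R) →ₗ[R] (Fin s.k → R) :=
  (LinearMap.ker s.p).subtype ∘ₗ s.next.p

lemma exact_dmap_p [IsNoetherianRing R] (s : Stage R) : Function.Exact (dmap s) s.p := by
  intro y
  constructor
  · intro hy
    obtain ⟨x, hx⟩ := s.next.p_surj (⟨y, hy⟩ : LinearMap.ker s.p)
    refine ⟨x, ?_⟩
    show (LinearMap.ker s.p).subtype (s.next.p x) = y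
    rw [hx]
    rfl
  · rintro ⟨x, rfl⟩
    exact ((LinearMap.ker s.p).subtype (s.next.p x) ∈ LinearMap.ker s.p) |> fun _ =>
      (show ∀ z : LinearMap.ker s.p, s.p ((LinearMap.ker s.p).subtype z) = 0 from
        fun z => z.2) (s.next.p x)

lemma exact_dmap_dmap [IsNoetherianRing R] (s : Stage R) :
    Function.Exact (dmap s.next) (dmap s) := by
  intro y
  have h1 : dmap s y = 0 ↔ s.next.p y = 0 := by
    constructor
    · intro h
      apply Subtype.ext
      exact h
    · intro h
      show (LinearMap.ker s.p).subtype (s.next.p y) = 0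
      rw [h]
      exact map_zero (LinearMap.ker s.p).subtype
  rw [h1]
  exact exact_dmap_p s.next y

end helpers

/-- Let R be a Noetherian ring and M a finite R-module. Then M has a resolution … → F₂ → F₁ → F₀ → M → 0
with every Fᵢ finite free; stated as the existence of a projective resolution of M in the category
of R-modules all of whose terms are finite free. -/
theorem result (R : Type u) [CommRing R] [IsNoetherianRing R] (M : Type u) [AddCommGroup M] [Module R M] [Module.Finite R M] : ∃ F : ProjectiveResolution (ModuleCat.of R M), ∀ n : ℕ, Module.Finite R (F.complex.X n) ∧ Module.Free R (F.complex.X n) := by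
  classical
  let s₀ : Stage R := ⟨ModuleCat.of R M, inferInstanceAs (Module.Finite R M)⟩
  let X : ℕ → ModuleCat.{u} R := fun n => ModuleCat.of R (Fin (stage s₀ n).k → R)
  let d : ∀ n, X (n + 1) ⟶ X n := fun n => ModuleCat.ofHom (dmap (stage s₀ n))
  let ε : X 0 ⟶ ModuleCat.of R M := ModuleCat.ofHom s₀.p
  have hex : ∀ n, Function.Exact (d (n + 1)) (d n) := fun n => exact_dmap_dmap (stage s₀ n)
  have hex0 : Function.Exact (d 0) ε := exact_dmap_p s₀
  have hsurj : Function.Surjective ε := s₀.p_surj
  have sq : ∀ n, d (n + 1) ≫ d n = 0 := by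
    intro n
    apply ModuleCat.hom_ext
    apply LinearMap.ext
    intro x
    exact (hex n).apply_apply_eq_zero x
  have hε0 : d 0 ≫ ε = 0 := by
    apply ModuleCat.hom_ext
    apply LinearMap.ext
    intro x
    exact hex0.apply_apply_eq_zero x
  haveI : ∀ n, Projective (X n) := fun n =>
    ModuleCat.projective_of_categoryTheory_projective (ModuleCat.of R (Fin (stage s₀ n).k → R))
  obtain ⟨P, hP⟩ := Groth.Agent.Lib.Helper10.exists_projectiveResolution R X d sq
    (ModuleCat.of R M) ε hε0 hsurj hex0 hex
  refine ⟨P, fun n => ?_⟩
  rw [hP]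
  show Module.Finite R (Fin (stage s₀ n).k → R) ∧ Module.Free R (Fin (stage s₀ n).k → R)
  exact ⟨inferInstance, inferInstance⟩

end Groth.Agent.S6318
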