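import Groth.Statements.S6315
import Mathlib
import Groth.Agent.S6318

set_option autoImplicit false
universe u
open CategoryTheory
open CAlg

namespace Groth.Agent.S6315

/-- Let R be a Noetherian ring and M, N finite R-modules. Then Tor_pᴿ(M, N) is a finite R-module for all
p. -/
theorem result (R : Type u) [CommRing R] [IsNoetherianRing R] (M N : Type u) [AddCommGroup M] [Module R M] [AddCommGroup N] [Module R N] [Module.Finite R M] [Module.Finite R N] (p : ℕ) : Module.Finite R (((CategoryTheory.Tor (ModuleCat.{u} R) p).obj (ModuleCat.of R M)).obj (ModuleCat.of R N)) := by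
  obtain ⟨F, hF⟩ := Groth.Agent.S6318.result R N
  let G := (MonoidalCategory.tensoringLeft (ModuleCat.{u} R)).obj (ModuleCat.of R M)
  let K := (G.mapHomologicalComplex (ComplexShape.down ℕ)).obj F.complex
  have e1 : (G.leftDerived p).obj (ModuleCat.of R N) ≅ (K.sc p).homology :=
    F.isoLeftDerivedObj G p
  have e2 : (K.sc p).homology ≅ ModuleCat.of R (LinearMap.ker (K.sc p).g.hom ⧸
      LinearMap.range (K.sc p).moduleCatToCycles) := (K.sc p).moduleCatHomologyIso
  haveI : Module.Finite R (F.complex.X p) := (hF p).1
  haveI hfin : Module.Finite R (K.sc p).X₂ := by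
    show Module.Finite R (TensorProduct R M (F.complex.X p))
    infer_instance
  haveI : IsNoetherian R (K.sc p).X₂ := isNoetherian_of_isNoetherianRing_of_finite R _
  haveI : Module.Finite R (LinearMap.ker (K.sc p).g.hom ⧸
      LinearMap.range (K.sc p).moduleCatToCycles) := inferInstance
  exact Module.Finite.equiv ((e1 ≪≫ e2).toLinearEquiv).symm

end Groth.Agent.S6315
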