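import Groth.Statements.S2082
import Mathlib
import Groth.Agent.Lib.Helper7.TorRegGen
import Groth.Agent.Lib.Helper4.RegCM

set_option autoImplicit false
universe u
open CAlg

namespace Groth.Agent.S2082

/-- Take a local homomorphism `R → S` between Noetherian local rings, where `R` is regular, `S` is
Cohen–Macaulay, and `dim S = dim R + dim (S/𝔪_R S)`. Then `S` is flat over `R`. -/
theorem result {R S : Type u} [CommRing R] [CommRing S] [IsRegularLocalRing R]
    [LocCoh.IsCohenMacaulayLocalRing S] [Algebra R S] [IsLocalHom (algebraMap R S)]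
    (hdim : ringKrullDim S = ringKrullDim R +
      ringKrullDim (S ⧸ (IsLocalRing.maximalIdeal R).map (algebraMap R S))) :
    Module.Flat R S := by
  classical
  haveI : IsLocalRing R := inferInstance
  haveI : IsNoetherianRing R := inferInstance
  haveI : IsLocalRing S := inferInstance
  haveI : IsNoetherianRing S := inferInstance
  obtain ⟨d, hd⟩ := Groth.Agent.Lib.Helper4.RegCM.exists_nat_ringKrullDim R
  obtain ⟨x, hxspan, hxreg⟩ := Groth.Agent.Lib.Helper4.RegCM.exists_regular_system R d hd
  have hofList : Ideal.ofList (List.ofFn x) = IsLocalRing.maximalIdeal R := by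
    rw [← hxspan]
    exact congrArg Ideal.span (Set.ext fun r => by simp [List.mem_ofFn])
  have hofListS : Ideal.ofList ((List.ofFn x).map (algebraMap R S)) =
      (IsLocalRing.maximalIdeal R).map (algebraMap R S) := by
    rw [← hofList, Ideal.map_ofList]
  have hmem : ∀ y ∈ (List.ofFn x).map (algebraMap R S), y ∈ IsLocalRing.maximalIdeal S := by
    intro y hy
    have h1 : y ∈ Ideal.ofList ((List.ofFn x).map (algebraMap R S)) := Ideal.subset_span hy
    rw [hofListS] at h1
    have h2 : (IsLocalRing.maximalIdeal R).map (algebraMap R S) ≤ IsLocalRing.maximalIdeal S :=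
      ((IsLocalRing.local_hom_TFAE (algebraMap R S)).out 0 2).1 ‹IsLocalHom (algebraMap R S)›
    exact h2 h1
  have hCM : LocCoh.IsCohenMacaulayModule S S :=
    LocCoh.IsCohenMacaulayLocalRing.supportDim_eq_depth
  have hdim' : Module.supportDim S (S ⧸ Ideal.ofList ((List.ofFn x).map (algebraMap R S)) •
      (⊤ : Submodule S S)) + (((List.ofFn x).map (algebraMap R S)).length : ℕ) =
      Module.supportDim S S := by
    have e : (S ⧸ Ideal.ofList ((List.ofFn x).map (algebraMap R S)) • (⊤ : Submodule S S)) ≃ₗ[S]
        (S ⧸ (IsLocalRing.maximalIdeal R).map (algebraMap R S)) :=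
      Submodule.quotEquivOfEq _ _ (by rw [smul_eq_mul, Ideal.mul_top, hofListS])
    rw [Module.supportDim_eq_of_equiv e, Module.supportDim_quotient_eq_ringKrullDim,
      Module.supportDim_self_eq_ringKrullDim, hdim, hd, List.length_map, List.length_ofFn,
      add_comm]
  have hwS := Groth.Agent.Lib.Helper4.cm_isWeaklyRegular_of_supportDim hCM
    ((List.ofFn x).map (algebraMap R S)) hmem hdim'
  have hw : RingTheory.Sequence.IsWeaklyRegular S (List.ofFn x) :=
    (RingTheory.Sequence.isWeaklyRegular_map_algebraMap_iff S S (List.ofFn x)).1 hwS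
  exact Groth.Agent.Lib.Helper7.flat_of_isWeaklyRegular_of_maximalIdeal (B := S) S (List.ofFn x)
    hofList hxreg.toIsWeaklyRegular hw

end Groth.Agent.S2082
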