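import Groth.Statements.S0843
import Groth.Agent.Lib.Helper7.PnGamma

set_option autoImplicit false
universe u
open Coherent

namespace Groth.Agent.S0843

open CategoryTheory AlgebraicGeometry in
/-- The case q = 0 and d ≥ 0: for a ring R and n, d ≥ 0, the R-module H^0(P^n_R, O(d)) is isomorphic to
the module of homogeneous polynomials of degree d in T_0, …, T_n over R. (The existing degree-zero
row is the case d = 0.) -/
theorem result (R : Type u) [CommRing R] (n d : ℕ) :
    Nonempty (Coh.HH (CohB1.ProjSpace n R) (Twist.twistProjSpace n R (d : ℤ)) 0 ≃ₗ[R]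
      ↥(MvPolynomial.homogeneousSubmodule (Fin (n + 1)) R d)) := by
  classical
  have hT : CategoryTheory.Limits.IsTerminal
      (⊤ : (AlgebraicGeometry.Proj (CohB1.polyGrading n R)).Opens) :=
    CategoryTheory.Limits.isTerminalTop
  let e0 : Coh.HH (CohB1.ProjSpace n R) (Twist.twistProjSpace n R (d : ℤ)) 0 ≃+
      ((Twist.twist (CohB1.polyGrading n R) (d : ℤ)).presheaf.obj (Opposite.op
        (⊤ : (AlgebraicGeometry.Proj (CohB1.polyGrading n R)).Opens))) :=
    Sheaf.H.equiv₀ (Coh.toAb (Twist.twist (CohB1.polyGrading n R) (d : ℤ))) hT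
  let eΦ := AddEquiv.ofBijective (Groth.Agent.Lib.Helper7.PnGamma.PhiHom n R d)
    ⟨Groth.Agent.Lib.Helper7.PnGamma.PhiHom_injective n R d,
      Groth.Agent.Lib.Helper7.PnGamma.PhiHom_surjective n R d⟩
  refine ⟨(e0.trans eΦ.symm).toLinearEquiv (fun r x => ?_)⟩
  apply eΦ.injective
  rw [AddEquiv.trans_apply, AddEquiv.trans_apply, AddEquiv.apply_symm_apply]
  have h1 : eΦ (r • eΦ.symm (e0 x)) =
      Groth.Agent.Lib.Helper7.PnGamma.rhoR n R r • eΦ (eΦ.symm (e0 x)) :=
    Groth.Agent.Lib.Helper7.PnGamma.PhiHom_smul n R d r _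
  rw [h1, AddEquiv.apply_symm_apply]
  have h2 := Sheaf.H.equiv₀_naturality hT
    (Coh.smulAb (Twist.twist (CohB1.polyGrading n R) (d : ℤ))
      (Coh.toGlobal (CohB1.ProjSpace.toSpec n R) r)) x
  refine Eq.trans ?_ (h2.symm.trans ?_)
  · rfl
  · rw [Coh.smulAb_app]
    have h3 : Coh.resTop (AlgebraicGeometry.Proj (CohB1.polyGrading n R)) (Opposite.op ⊤)
        (Coh.toGlobal (CohB1.ProjSpace.toSpec n R) r) =
        Groth.Agent.Lib.Helper7.PnGamma.rhoR n R r := by
      have h4 : (AlgebraicGeometry.Proj (CohB1.polyGrading n R)).ringCatSheaf.obj.map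
          (CategoryTheory.homOfLE (le_top : (⊤ : (AlgebraicGeometry.Proj
            (CohB1.polyGrading n R)).Opens) ≤ ⊤)).op = CategoryTheory.CategoryStruct.id _ :=
        (AlgebraicGeometry.Proj (CohB1.polyGrading n R)).ringCatSheaf.obj.map_id (Opposite.op ⊤)
      change ((AlgebraicGeometry.Proj (CohB1.polyGrading n R)).ringCatSheaf.obj.map _).hom _ = _
      rw [h4]
      rfl
    rw [h3]
    rfl

end Groth.Agent.S0843
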