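import Groth.Statements.S0844
import Groth.Agent.Lib.Helper7.PnH0

set_option autoImplicit false
universe u
open Coherent

namespace Groth.Agent.S0844

open CategoryTheory AlgebraicGeometry in
/-- For a ring R, n ≥ 0, d ∈ ℤ and q ≥ 0, the group H^q(P^n_R, O(d)) is zero unless q = 0 and d ≥ 0, or
q = n and d ≤ -n-1. -/
theorem result (R : Type u) [CommRing R] (n : ℕ) (d : ℤ) (q : ℕ)
    (h₀ : ¬ (q = 0 ∧ 0 ≤ d)) (hn : ¬ (q = n ∧ d ≤ -((n : ℤ) + 1))) :
    Subsingleton (Coh.HH (CohB1.ProjSpace n R) (Twist.twistProjSpace n R d) q) := by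
  change Subsingleton (Coh.HH (AlgebraicGeometry.Proj (CohB1.polyGrading n R))
    (Twist.twist (CohB1.polyGrading n R) d) q)
  rcases Nat.eq_zero_or_pos q with hq | hq
  · subst hq
    have hd : d < 0 := by
      by_contra h
      exact h₀ ⟨rfl, not_lt.mp h⟩
    have hn1 : 1 ≤ n := by
      by_contra h
      have h0 : n = 0 := by omega
      subst h0
      exact hn ⟨rfl, by push_cast; omega⟩
    exact Groth.Agent.Lib.Helper7.PnSections.subsingleton_HH_zero_of_neg d hn1 hd
  · obtain ⟨m, rfl⟩ := Nat.exists_eq_succ_of_ne_zero hq.ne'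
    by_cases hgt : n < m + 1
    · haveI : (Twist.twist (CohB1.polyGrading n R) d).IsQuasicoherent :=
        Groth.Agent.Lib.Helper3.GrTildeSelf.isQuasicoherent_twist d
      exact Groth.Agent.Lib.Helper7.PnCech.subsingleton_HH_of_gt n R _ (m + 1) hgt
    · apply Groth.Agent.Lib.Helper7.PnCech.subsingleton_HH_twist n R d m
      by_cases hlt : m + 1 < n
      · right
        omega
      · left
        have hmn : m + 1 = n := by omega
        by_contra hc
        exact hn ⟨hmn, by omega⟩

end Groth.Agent.S0844
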