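import Groth.Statements.S3584
import Groth.Agent.Lib.Helper3.TwistProj

set_option autoImplicit false
universe u
open CategoryTheory CategoryTheory.Limits AlgebraicGeometry
open EGA2

namespace Groth.Agent.S3584

open Groth.Agent.Lib.Helper3 in

/-- Let S be a graded ring whose irrelevant ideal S_+ is generated by finitely many elements of degree
one. Then the twisting sheaf O_X(1) on X = Proj S is ample (X is quasi-compact and covered by the
affine non-vanishing loci of sections of the positive powers of O_X(1)). -/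
theorem result {R A : Type u} [CommRing R] [CommRing A] [Algebra R A] (𝒜 : ℕ → Submodule R A) [GradedAlgebra 𝒜]
    (s : Finset A) (hs1 : ∀ f ∈ s, f ∈ 𝒜 1)
    (hs : (HomogeneousIdeal.irrelevant 𝒜).toIdeal = Ideal.span (s : Set A)) :
    CohB1.IsAmple (Twist.twist 𝒜 1) := by
  have hcov : ∀ x : Proj 𝒜, ∃ f : s, x ∈ Proj.basicOpen 𝒜 (f : A) := by
    intro x
    apply TwistProj.exists_mem_basicOpen_of_span (fun f : s => (f : A))
    rw [hs]
    apply Ideal.span_mono
    intro a ha
    exact ⟨⟨a, ha⟩, rfl⟩
  have : CompactSpace (Proj 𝒜) :=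
    TwistProj.compactSpace_of_finite_affine_cover (fun f : s => Proj.basicOpen 𝒜 (f : A))
      (fun f => Proj.isAffineOpen_basicOpen 𝒜 (f : A) (hs1 f f.2) Nat.one_pos) hcov
  have h := TwistProj.isAmple_twist_of_cover (𝒜 := 𝒜) Nat.one_pos (fun x => by
    obtain ⟨f, hf⟩ := hcov x
    exact ⟨⟨f, hs1 f f.2⟩, hf⟩)
  exact h

end Groth.Agent.S3584
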