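import Groth.Statements.S4402
import Groth.Agent.Lib.Helper3.TwistMul
import Groth.Agent.Lib.Helper3.TwistProj
import Groth.Agent.Lib.Helper3.GlobGen
import Groth.Agent.Lib.Helper3.FreeSec
import Groth.Agent.Lib.Helper3.InvCoh
import Groth.Agent.S3584

set_option autoImplicit false
universe u
open CategoryTheory CategoryTheory.Limits AlgebraicGeometry
open EGA2

namespace Groth.Agent.S4402

theorem exists_finset_span_eq_top4402 {R N I : Type*} [Ring R] [AddCommGroup N] [Module R N]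
    [Module.Finite R N] (σ : I → N) (h : Submodule.span R (Set.range σ) = ⊤) :
    ∃ T : Finset I, Submodule.span R (σ '' (T : Set I)) = ⊤ := by
  classical
  have hfg : (Submodule.span R (Set.range σ)).FG := h ▸ Module.Finite.fg_top
  obtain ⟨s', hs', heq⟩ := (Submodule.fg_span_iff_fg_span_finset_subset _).mp hfg
  choose f hf using fun m : s' => hs' m.2
  refine ⟨s'.attach.image f, ?_⟩
  rw [eq_top_iff, ← h, heq]
  apply Submodule.span_mono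
  intro m hm
  refine ⟨f ⟨m, hm⟩, ?_, hf ⟨m, hm⟩⟩
  exact Finset.mem_coe.mpr (Finset.mem_image.mpr ⟨⟨m, hm⟩, Finset.mem_attach _ _, rfl⟩)

open Groth.Agent.Lib.Helper3 Groth.Agent.Lib.Helper3.QCSec Groth.Agent.Lib.Helper3.GlobGen in
theorem exists_finite_spanning4402 {X : Scheme.{u}} [CompactSpace X] (G : X.Modules)
    [G.IsQuasicoherent] [G.IsFiniteType] {I : Type u} (σ : I → Γ(G, ⊤)) (hσ : IsSpannedBy G σ) :
    ∃ T : Finset I, IsSpannedBy G (fun i : T => σ i.1) := by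
  classical
  choose U hU hxU hspan using hσ
  have hfin : ∀ x : X, ∃ T : Finset I, Submodule.span Γ(X, U x)
      ((fun i => res G (le_top : U x ≤ ⊤) (σ i)) '' (T : Set I)) = ⊤ := by
    intro x
    have := QCProps.finite_sections G (hU x)
    exact exists_finset_span_eq_top4402 _ (hspan x)
  choose T hT using hfin
  obtain ⟨S, hS⟩ := isCompact_univ.elim_finite_subcover (fun x => ((U x : X.Opens) : Set X))
    (fun x => (U x).2) (fun y _ => Set.mem_iUnion.mpr ⟨y, hxU y⟩)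
  refine ⟨S.biUnion T, fun y => ?_⟩
  obtain ⟨x, hxS, hyx⟩ : ∃ x ∈ S, y ∈ U x := by
    have := hS (Set.mem_univ y)
    simpa using this
  refine ⟨U x, hU x, hyx, ?_⟩
  rw [eq_top_iff, ← hT x]
  apply Submodule.span_mono
  rintro _ ⟨i, hi, rfl⟩
  exact ⟨⟨i, Finset.mem_biUnion.mpr ⟨x, hxS, hi⟩⟩, rfl⟩

section tw4402

open TopologicalSpace Opposite Scheme.Modules
open Groth.Agent.Lib.Helper3 Groth.Agent.Lib.Helper3.QCSec Groth.Agent.Lib.Helper3.InvGen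
  Groth.Agent.Lib.Helper3.InvTensor Groth.Agent.Lib.Helper3.InvMonoidal
  Groth.Agent.Lib.Helper3.TwistBasic Groth.Agent.Lib.Helper3.TwistMul

variable {R A : Type u} [CommRing R] [CommRing A] [Algebra R A] {𝒜 : ℕ → Submodule R A}
  [GradedAlgebra 𝒜]

theorem val_twistCast4402 {m n : ℤ} (h : m = n) (U : (Proj 𝒜).Opens)
    (s : Γ(Twist.twist 𝒜 m, U)) (x : U) :
    val ((twistCast (𝒜 := 𝒜) h).hom.app U s) x = val s x := by
  subst h
  rfl

theorem add_neg4402 (n : ℤ) : n + -n = 0 := by omega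

theorem comp_app4402 {X : Scheme.{u}} {M1 M2 M3 : X.Modules} (f : M1 ⟶ M2) (g : M2 ⟶ M3)
    (V : X.Opens) (z : Γ(M1, V)) :
    (f ≫ g).app V z = g.app V (f.app V z) := rfl

theorem comp3_app4402 {X : Scheme.{u}} {M1 M2 M3 M4 : X.Modules} (f : M1 ⟶ M2) (g : M2 ⟶ M3)
    (k : M3 ⟶ M4) (V : X.Opens) (z : Γ(M1, V)) :
    (f ≫ g ≫ k).app V z = k.app V (g.app V (f.app V z)) := rfl

theorem trans3_hom4402 {C : Type*} [Category C] {W X Y Z : C} (a : W ≅ X) (b : X ≅ Y)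
    (c : Y ≅ Z) : (a ≪≫ b ≪≫ c).hom = a.hom ≫ b.hom ≫ c.hom := rfl

/-- `O(n) ⊗ O(-n) ≅ O` -/
noncomputable def mu4402 (n : ℤ)
    (h : ∀ x : Proj 𝒜, ∃ U : (Proj 𝒜).Opens, x ∈ U ∧ HasUnitFrac (-n) U) (h0 : n + -n = 0) :
    CohB1.tensorMod (Twist.twist 𝒜 n) (Twist.twist 𝒜 (-n)) ≅ Coh.structureModule (Proj 𝒜) :=
  mulIsoRight n (-n) h ≪≫ twistCast h0 ≪≫ (unitIso (𝒜 := 𝒜)).symm

theorem mu_hom4402 (n : ℤ)
    (h : ∀ x : Proj 𝒜, ∃ U : (Proj 𝒜).Opens, x ∈ U ∧ HasUnitFrac (-n) U) (h0 : n + -n = 0) :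
    (mu4402 (𝒜 := 𝒜) n h h0).hom = (mulIsoRight n (-n) h).hom ≫ (twistCast h0).hom ≫
      (unitIso (𝒜 := 𝒜)).symm.hom :=
  (show (mu4402 (𝒜 := 𝒜) n h h0).hom = (mulIsoRight n (-n) h ≪≫ twistCast h0 ≪≫
      (unitIso (𝒜 := 𝒜)).symm).hom from rfl).trans (trans3_hom4402 _ _ _)

theorem mu_frac4402 (n : ℤ)
    (h : ∀ x : Proj 𝒜, ∃ U : (Proj 𝒜).Opens, x ∈ U ∧ HasUnitFrac (-n) U) (h0 : n + -n = 0)
    (V : (Proj 𝒜).Opens) {i j : ℕ} (a : 𝒜 i) (b : 𝒜 j)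
    (ha : ∀ x : V, a.1 ∉ x.1.asHomogeneousIdeal) (hb : ∀ x : V, b.1 ∉ x.1.asHomogeneousIdeal)
    (hd : (i : ℤ) = j + n) (hd' : (j : ℤ) = i + -n) :
    (mu4402 (𝒜 := 𝒜) n h h0).hom.app V
      (tm _ _ V (frac V a b hb n hd) (frac V b a ha (-n) hd')) = ofFun V 1 := by
  have h1 : (mulIsoRight (𝒜 := 𝒜) n (-n) h).hom.app V
      (tm _ _ V (frac V a b hb n hd) (frac V b a ha (-n) hd')) =
      mulSec (frac V a b hb n hd) (frac V b a ha (-n) hd') := mulHom_tm n (-n) V _ _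
  have h2 : (twistCast (𝒜 := 𝒜) h0).hom.app V
      (mulSec (frac V a b hb n hd) (frac V b a ha (-n) hd')) = oneSec V := by
    apply val_ext
    intro x
    rw [val_twistCast4402, val_mulSec, val_frac, val_frac,
      mk_mul_mk_swap (x := x.1) a.1 b.1 (ha x) (hb x)]
    have := x.1.isPrime
    exact (Localization.mk_self (1 : x.1.asHomogeneousIdeal.toIdeal.primeCompl)).symm
  have h3 : (unitIso (𝒜 := 𝒜)).hom.app V (ofFun V 1) = oneSec V := by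
    have := InvAmple.sec_globalHom (Twist.twist 𝒜 0) (oneSec (𝒜 := 𝒜) ⊤) V
    exact this.trans (res_frac _ _ _ _ _ _)
  rw [mu_hom4402, comp3_app4402, h1, h2, ← h3]
  exact iso_inv_hom_app (unitIso (𝒜 := 𝒜)) V _

/-- `(F ⊗ O(n)) ⊗ O(-n) ≅ F` -/
noncomputable def psi4402 (F : (Proj 𝒜).Modules) (n : ℤ)
    (h : ∀ x : Proj 𝒜, ∃ U : (Proj 𝒜).Opens, x ∈ U ∧ HasUnitFrac (-n) U) (h0 : n + -n = 0) :
    CohB1.tensorMod (CohB1.tensorMod F (Twist.twist 𝒜 n)) (Twist.twist 𝒜 (-n)) ≅ F :=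
  assoc F (Twist.twist 𝒜 n) (Twist.twist 𝒜 (-n)) ≪≫
    tensorMapIso (Iso.refl F) (mu4402 n h h0) ≪≫ SecTwist.unitorR F

theorem psi_hom4402 (F : (Proj 𝒜).Modules) (n : ℤ)
    (h : ∀ x : Proj 𝒜, ∃ U : (Proj 𝒜).Opens, x ∈ U ∧ HasUnitFrac (-n) U) (h0 : n + -n = 0) :
    (psi4402 F n h h0).hom = (assoc F (Twist.twist 𝒜 n) (Twist.twist 𝒜 (-n))).hom ≫
      (tensorMapIso (Iso.refl F) (mu4402 n h h0)).hom ≫ (SecTwist.unitorR F).hom :=
  (show (psi4402 F n h h0).hom = (assoc F (Twist.twist 𝒜 n) (Twist.twist 𝒜 (-n)) ≪≫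
    tensorMapIso (Iso.refl F) (mu4402 n h h0) ≪≫ SecTwist.unitorR F).hom from rfl).trans
    (trans3_hom4402 _ _ _)

theorem psi_tm4402 (F : (Proj 𝒜).Modules) (n : ℤ)
    (h : ∀ x : Proj 𝒜, ∃ U : (Proj 𝒜).Opens, x ∈ U ∧ HasUnitFrac (-n) U) (h0 : n + -n = 0)
    (V : (Proj 𝒜).Opens) {i j : ℕ} (a : 𝒜 i) (b : 𝒜 j)
    (ha : ∀ x : V, a.1 ∉ x.1.asHomogeneousIdeal) (hb : ∀ x : V, b.1 ∉ x.1.asHomogeneousIdeal)
    (hd : (i : ℤ) = j + n) (hd' : (j : ℤ) = i + -n) (t : Γ(F, V)) :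
    (psi4402 F n h h0).hom.app V (tm _ _ V (tm F _ V t (frac V a b hb n hd))
      (frac V b a ha (-n) hd')) = t := by
  rw [psi_hom4402, comp3_app4402, assoc_hom_tm, tensorMapIso_hom_tm, mu_frac4402]
  have h1 : (Iso.refl F).hom.app V t = t := rfl
  rw [h1, unitorR_hom_tm, one_smul]

/-- the morphism `O(-n) ⟶ F` defined by a global section of `F ⊗ O(n)` -/
noncomputable def P4402 (F : (Proj 𝒜).Modules) (n : ℤ)
    (h : ∀ x : Proj 𝒜, ∃ U : (Proj 𝒜).Opens, x ∈ U ∧ HasUnitFrac (-n) U) (h0 : n + -n = 0)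
    (τ : Γ(CohB1.tensorMod F (Twist.twist 𝒜 n), ⊤)) : Twist.twist 𝒜 (-n) ⟶ F :=
  (unitorL (Twist.twist 𝒜 (-n))).inv ≫
    tensorMap (InvAmple.globalHom _ τ) (𝟙 (Twist.twist 𝒜 (-n))) ≫ (psi4402 F n h h0).hom

theorem P_smul4402 (F : (Proj 𝒜).Modules) (n : ℤ)
    (h : ∀ x : Proj 𝒜, ∃ U : (Proj 𝒜).Opens, x ∈ U ∧ HasUnitFrac (-n) U) (h0 : n + -n = 0)
    (τ : Γ(CohB1.tensorMod F (Twist.twist 𝒜 n), ⊤)) (V : (Proj 𝒜).Opens) (c : Γ(Proj 𝒜, V))
    (b : Γ(Twist.twist 𝒜 (-n), V)) :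
    (P4402 F n h h0 τ).app V (c • b) = (psi4402 F n h h0).hom.app V
      (tm _ _ V (c • res _ (le_top : V ≤ ⊤) τ) b) := by
  have h1 : (unitorL (Twist.twist 𝒜 (-n))).inv.app V (c • b) =
      tm (Coh.structureModule (Proj 𝒜)) _ V (ofFun V c) b := by
    rw [← unitorL_hom_tm, iso_inv_hom_app]
  have h2 : P4402 F n h h0 τ = (unitorL (Twist.twist 𝒜 (-n))).inv ≫
    tensorMap (InvAmple.globalHom _ τ) (𝟙 (Twist.twist 𝒜 (-n))) ≫ (psi4402 F n h h0).hom := rfl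
  rw [h2, comp3_app4402, h1, tensorMap_tm, app_eq_smul_sec, InvAmple.sec_globalHom]
  rfl

end tw4402

open TopologicalSpace Opposite Scheme.Modules
  Groth.Agent.Lib.Helper3 Groth.Agent.Lib.Helper3.QCSec Groth.Agent.Lib.Helper3.InvGen
  Groth.Agent.Lib.Helper3.InvTensor Groth.Agent.Lib.Helper3.InvMonoidal
  Groth.Agent.Lib.Helper3.TwistBasic Groth.Agent.Lib.Helper3.TwistMul in

/-- Consider a ring S graded in nonnegative degrees, and assume its irrelevant ideal S_+ is generated by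
a finite set of degree-one elements; put X = Proj S. Given any O_X-module F that is quasi-coherent
and of finite type, one can find n₀ so that whenever n ≥ n₀, some k admits an epimorphism onto F
from the direct sum of k copies of O_X(-n). -/
theorem result {R A : Type u} [CommRing R] [CommRing A] [Algebra R A] (𝒜 : ℕ → Submodule R A) [GradedAlgebra 𝒜]
    (s : Finset A) (hs1 : ∀ f ∈ s, f ∈ 𝒜 1)
    (hs : (HomogeneousIdeal.irrelevant 𝒜).toIdeal = Ideal.span (s : Set A))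
    (F : (Proj 𝒜).Modules) (hF : Coh.IsQCoh F) (hFT : CohB1.IsFT F) :
    ∃ n₀ : ℕ, ∀ n : ℕ, n₀ ≤ n →
      ∃ (k : ℕ) (p : (∐ fun _ : Fin k => Twist.twist 𝒜 (-(n : ℤ))) ⟶ F), Epi p := by
  classical
  have hA : CohB1.IsAmple (Twist.twist 𝒜 1) := Groth.Agent.S3584.result 𝒜 s hs1 hs
  have : CompactSpace (Proj 𝒜) := hA.2.1
  have : F.IsQuasicoherent := hF
  have : F.IsFiniteType := hFT
  have hcov' : ∀ x : Proj 𝒜, ∃ f : s, x ∈ Proj.basicOpen 𝒜 (f : A) := by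
    intro x
    apply TwistProj.exists_mem_basicOpen_of_span (fun f : s => (f : A))
    rw [hs]
    apply Ideal.span_mono
    intro a ha
    exact ⟨⟨a, ha⟩, rfl⟩
  have hcov : (⨆ f : 𝒜 1, Proj.basicOpen 𝒜 (f : A)) = ⊤ := by
    rw [eq_top_iff]
    intro x _
    obtain ⟨f, hf⟩ := hcov' x
    exact Opens.mem_iSup.mpr ⟨⟨f, hs1 f f.2⟩, hf⟩
  have hunit : ∀ (d : ℤ) (x : Proj 𝒜), ∃ U : (Proj 𝒜).Opens, x ∈ U ∧ HasUnitFrac d U :=
    fun d x => hasUnitFrac_of_cover_degOne hcov d x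
  obtain ⟨n₀, hn₀⟩ := GlobGen.exists_isSpanned_twist hA F
  refine ⟨n₀, fun n hn => ?_⟩
  -- `G = F ⊗ O(n)` is spanned by finitely many global sections
  have hinv : PicF.IsInvertible (Twist.twist 𝒜 (n : ℤ)) := isInvertible_twist_of_cover _ (hunit _)
  have : (CohB1.tensorMod F (Twist.twist 𝒜 (n : ℤ))).IsQuasicoherent :=
    InvCoh.isQuasicoherent_tensorMod F _ hinv
  have : (CohB1.tensorMod F (Twist.twist 𝒜 (n : ℤ))).IsFiniteType :=
    InvCoh.isFiniteType_tensorMod F _ hinv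
  have h2 : GlobGen.IsSpanned (CohB1.tensorMod F (Twist.twist 𝒜 (n : ℤ))) :=
    (hn₀ n hn).of_iso (tensorMapIso (Iso.refl F) (powIso (hunit 1) n).symm)
  obtain ⟨I, σ, hσ⟩ := h2
  obtain ⟨T, hT⟩ := exists_finite_spanning4402 _ σ hσ
  have hepi : Epi (GlobGen.freeHom _ (fun i : T => σ i.1)) := GlobGen.epi_freeHom _ _ hT
  have hloc := FreeSec.isLocSpannedBy_of_epi (GlobGen.freeHom _ (fun i : T => σ i.1))
  rw [FreeSec.secOfHom_freeHom] at hloc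
  -- the morphism
  let e : T ≃ Fin T.card := T.equivFin
  let pj : Fin T.card → (Twist.twist 𝒜 (-(n : ℤ)) ⟶ F) := fun j =>
    P4402 F (n : ℤ) (hunit _) (add_neg4402 _) (σ (e.symm j).1)
  refine ⟨T.card, Sigma.desc pj, ?_⟩
  apply QCExact.epi_of_locally_surjective
  intro W t x hxW
  obtain ⟨U₁, hxU₁, i, j, a, b, ha, hb, hd⟩ := hunit (n : ℤ) x
  have hd' : (j : ℤ) = i + -(n : ℤ) := by omega
  let V : (Proj 𝒜).Opens := W ⊓ U₁
  have hVU₁ : V ≤ U₁ := inf_le_right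
  let g : Γ(CohB1.tensorMod F (Twist.twist 𝒜 (n : ℤ)), V) :=
    tm F _ V (res F inf_le_left t) (frac V a b (fun y => hb ⟨y.1, hVU₁ y.2⟩) (n : ℤ) hd)
  obtain ⟨V', hV', hxV', hspan⟩ := hloc V g x ⟨hxW, hxU₁⟩
  obtain ⟨c, hc⟩ := (Submodule.mem_span_range_iff_exists_fun _).mp hspan
  have hV'U₁ : V' ≤ U₁ := hV'.trans hVU₁
  have hV'W : V' ≤ W := hV'.trans inf_le_left
  have haV' : ∀ y : V', a.1 ∉ y.1.asHomogeneousIdeal := fun y => ha ⟨y.1, hV'U₁ y.2⟩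
  have hbV' : ∀ y : V', b.1 ∉ y.1.asHomogeneousIdeal := fun y => hb ⟨y.1, hV'U₁ y.2⟩
  have hg : res _ hV' g = tm F _ V' (res F hV'W t) (frac V' a b hbV' (n : ℤ) hd) := by
    change res _ hV' (tm F _ V _ _) = _
    rw [tm_res, res_res, res_frac]
  let em : Γ(Twist.twist 𝒜 (-(n : ℤ)), V') := frac V' b a haV' (-(n : ℤ)) hd'
  refine ⟨V', hV'W, hxV', ∑ i : T, (Sigma.ι (fun _ : Fin T.card => Twist.twist 𝒜 (-(n : ℤ)))
    (e i)).app V' (c i • em), ?_⟩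
  rw [map_sum]
  have h3 : ∀ i : T, (Sigma.desc pj).app V' ((Sigma.ι (fun _ : Fin T.card =>
      Twist.twist 𝒜 (-(n : ℤ))) (e i)).app V' (c i • em)) =
      (psi4402 F (n : ℤ) (hunit _) (add_neg4402 _)).hom.app V'
        (tm _ _ V' (c i • res _ (le_top : V' ≤ ⊤) (σ i.1)) em) := by
    intro i
    have h4 : (Sigma.ι (fun _ : Fin T.card => Twist.twist 𝒜 (-(n : ℤ))) (e i) ≫
        Sigma.desc pj) = pj (e i) := Sigma.ι_desc _ _
    have h5 : pj (e i) = P4402 F (n : ℤ) (hunit _) (add_neg4402 _) (σ i.1) := by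
      change P4402 F (n : ℤ) (hunit _) (add_neg4402 _) (σ (e.symm (e i)).1) = _
      rw [Equiv.symm_apply_apply]
    refine (comp_app4402 (Sigma.ι (fun _ : Fin T.card => Twist.twist 𝒜 (-(n : ℤ))) (e i))
      (Sigma.desc pj) V' (c i • em)).symm.trans ?_
    rw [h4, h5, P_smul4402]
  rw [Finset.sum_congr rfl (fun i _ => h3 i), ← map_sum, ← tm_sum_left, hc, hg]
  exact psi_tm4402 F (n : ℤ) (hunit _) (add_neg4402 _) V' a b haV' hbV' hd hd' _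

end Groth.Agent.S4402
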