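import Groth.Statements.S3557
import Groth.Agent.Lib.Helper6.ProjReduced

set_option autoImplicit false
universe u
open CategoryTheory CategoryTheory.Limits AlgebraicGeometry
open EGA2

namespace Groth.Agent.S3557

/-- Let S be a graded ring which is essentially reduced (S_+ contains no nonzero nilpotent). Then Proj S
is an integral scheme if and only if S is essentially integral, i.e. S_+ is nonzero and the product
of two nonzero elements of S_+ is nonzero. -/
theorem result {R A : Type u} [CommRing R] [CommRing A] [Algebra R A] (𝒜 : ℕ → Submodule R A) [GradedAlgebra 𝒜]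
    (hred : ∀ f ∈ (HomogeneousIdeal.irrelevant 𝒜).toIdeal, IsNilpotent f → f = 0) :
    AlgebraicGeometry.IsIntegral (Proj 𝒜) ↔
      ((∃ f ∈ (HomogeneousIdeal.irrelevant 𝒜).toIdeal, f ≠ 0) ∧
        ∀ f ∈ (HomogeneousIdeal.irrelevant 𝒜).toIdeal, ∀ g ∈ (HomogeneousIdeal.irrelevant 𝒜).toIdeal,
          f * g = 0 → f = 0 ∨ g = 0) := by
  constructor
  · intro hint
    refine ⟨?_, ?_⟩
    · by_contra hcon
      push Not at hcon
      have hemp : IsEmpty (ProjectiveSpectrum 𝒜) :=
        (Groth.Agent.Lib.Helper6.isEmpty_projectiveSpectrum_iff_le_nilradical 𝒜).2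
          (fun f hf => by rw [hcon f hf]; exact zero_mem _)
      exact hemp.false (Nonempty.some (inferInstance : Nonempty (Proj 𝒜)))
    · intro f hf g hg hfg
      by_contra hcon
      push Not at hcon
      obtain ⟨x, hx⟩ := Groth.Agent.Lib.Helper6.exists_mem_basicOpen_of_not_isNilpotent 𝒜 hf
        (fun h => hcon.1 (hred f hf h))
      obtain ⟨y, hy⟩ := Groth.Agent.Lib.Helper6.exists_mem_basicOpen_of_not_isNilpotent 𝒜 hg
        (fun h => hcon.2 (hred g hg h))
      obtain ⟨z, hz1, hz2⟩ := nonempty_preirreducible_inter (Proj.basicOpen 𝒜 f).2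
        (Proj.basicOpen 𝒜 g).2 ⟨x, hx⟩ ⟨y, hy⟩
      have hz : z ∈ Proj.basicOpen 𝒜 (f * g) := by
        rw [Proj.basicOpen_mul]; exact ⟨hz1, hz2⟩
      rw [hfg, Proj.basicOpen_zero] at hz
      exact hz
  · rintro ⟨hne, hdom⟩
    have h1 := Groth.Agent.Lib.Helper6.proj_isReduced 𝒜 hred
    have h2 := Groth.Agent.Lib.Helper6.proj_irreducibleSpace 𝒜 hred hne hdom
    exact isIntegral_of_irreducibleSpace_of_isReduced _

end Groth.Agent.S3557
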