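import Groth.Statements.S5765
import Mathlib.RingTheory.KrullDimension.Module
import Mathlib.RingTheory.Spectrum.Prime.Topology

set_option autoImplicit false
universe u
open EGA41

namespace Groth.Agent.S5765

/-- Let A be a ring, M a finitely generated A-module and p a prime ideal of A. Then dim_{A_p}(M_p) +
dim_A(M/pM) ≤ dim_A(M). -/
theorem result (A : Type u) [CommRing A] (M : Type u)
    [AddCommGroup M] [Module A M] [Module.Finite A M] (p : Ideal A) [p.IsPrime] :
    Module.supportDim (Localization.AtPrime p) (LocalizedModule p.primeCompl M) +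
        Module.supportDim A (M ⧸ (p • (⊤ : Submodule A M))) ≤ Module.supportDim A M := by
  by_cases hp : (⟨p, inferInstance⟩ : PrimeSpectrum A) ∈ Module.support A M
  swap
  · have : Subsingleton (LocalizedModule p.primeCompl M) := Module.notMem_support_iff.mp hp
    rw [Module.supportDim_eq_bot_of_subsingleton, WithBot.bot_add]
    exact bot_le
  let x : Module.support A M := ⟨⟨p, inferInstance⟩, hp⟩
  have h1 : Module.supportDim (Localization.AtPrime p) (LocalizedModule p.primeCompl M) ≤
      ((Order.height x : ℕ∞) : WithBot ℕ∞) := by
    rw [Order.height_eq_krullDim_Iic]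
    unfold Module.supportDim
    have hmem : ∀ q ∈ Module.support (Localization.AtPrime p) (LocalizedModule p.primeCompl M),
        PrimeSpectrum.comap (algebraMap A (Localization.AtPrime p)) q ∈ Module.support A M := by
      intro q hq
      rw [Module.mem_support_iff'] at hq ⊢
      obtain ⟨y, hy⟩ := hq
      induction y using LocalizedModule.induction_on with
      | h m s =>
        refine ⟨m, fun r hr hrm => ?_⟩
        refine hy (algebraMap A (Localization.AtPrime p) r) hr ?_
        rw [algebraMap_smul, LocalizedModule.smul'_mk, hrm, LocalizedModule.zero_mk]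
    have hle : ∀ q : PrimeSpectrum (Localization.AtPrime p),
        (PrimeSpectrum.comap (algebraMap A (Localization.AtPrime p)) q).asIdeal ≤ p := by
      intro q r hr
      have h := ((IsLocalization.isPrime_iff_isPrime_disjoint p.primeCompl
        (Localization.AtPrime p) q.asIdeal).mp q.2).2
      by_contra hrp
      exact Set.disjoint_left.mp h (show r ∈ (p.primeCompl : Set A) from hrp) hr
    refine Order.krullDim_le_of_strictMono (fun q => (⟨⟨PrimeSpectrum.comap _ q.1, hmem q.1 q.2⟩,
      hle q.1⟩ : Set.Iic x)) ?_
    intro q q' hqq'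
    have hle' : PrimeSpectrum.comap (algebraMap A (Localization.AtPrime p)) q.1 ≤
        PrimeSpectrum.comap (algebraMap A (Localization.AtPrime p)) q'.1 :=
      Ideal.comap_mono hqq'.le
    refine lt_of_le_of_ne hle' fun h => ?_
    have h' : PrimeSpectrum.comap (algebraMap A (Localization.AtPrime p)) q.1 =
        PrimeSpectrum.comap (algebraMap A (Localization.AtPrime p)) q'.1 := by
      simpa [Subtype.ext_iff] using h
    have := PrimeSpectrum.localization_comap_injective (Localization.AtPrime p) p.primeCompl h'
    exact hqq'.ne (Subtype.ext this)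
  have h2 : Module.supportDim A (M ⧸ (p • (⊤ : Submodule A M))) ≤
      ((Order.coheight x : ℕ∞) : WithBot ℕ∞) := by
    rw [Order.coheight_eq_krullDim_Ici]
    unfold Module.supportDim
    have hsupp := Module.support_quotient (M := M) p
    have hq : ∀ q ∈ Module.support A (M ⧸ (p • (⊤ : Submodule A M))),
        q ∈ Module.support A M ∧ p ≤ q.asIdeal := by
      intro q hq
      rw [hsupp] at hq
      exact ⟨hq.1, (PrimeSpectrum.mem_zeroLocus _ _).mp hq.2⟩
    exact Order.krullDim_le_of_strictMono (fun q => (⟨⟨q.1, (hq q.1 q.2).1⟩,
      (hq q.1 q.2).2⟩ : Set.Ici x)) (fun q q' hqq' => hqq')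
  have h3 : ((Order.height x + Order.coheight x : ℕ∞) : WithBot ℕ∞) ≤
      Order.krullDim (Module.support A M) := by
    have : Nonempty (Module.support A M) := ⟨x⟩
    rw [Order.krullDim_eq_iSup_height_add_coheight_of_nonempty]
    exact WithBot.coe_le_coe.mpr
      (le_iSup (fun a : Module.support A M => Order.height a + Order.coheight a) x)
  calc _ ≤ ((Order.height x : ℕ∞) : WithBot ℕ∞) + ((Order.coheight x : ℕ∞) : WithBot ℕ∞) :=
        add_le_add h1 h2
    _ = _ := (WithBot.coe_add _ _).symm
    _ ≤ _ := h3

end Groth.Agent.S5765
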