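import Groth.Statements.S5085
import Groth.Agent.Lib.Helper28.MeroBasic

set_option autoImplicit false
universe u
open CategoryTheory CategoryTheory.Limits AlgebraicGeometry TopologicalSpace
open Mero

namespace Groth.Agent.S5085

/-- Let X be a scheme, U an open subset and V an open subset of U which is schematically dense in U (for
every open W ⊆ U, restriction of functions from W to W ∩ V is injective). Then restriction of
sections of the sheaf of meromorphic functions K_X from U to V is injective: the canonical map from
meromorphic functions to pseudo-functions is injective. -/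
theorem result (X : Scheme.{u}) (U V : X.Opens) (hVU : V ≤ U)
    (hV : ∀ W : X.Opens, W ≤ U →
      Function.Injective ⇑(X.presheaf.map (homOfLE (inf_le_left : W ⊓ V ≤ W)).op)) :
    Function.Injective ⇑((Mero.kmod X).presheaf.map (homOfLE hVU).op) := by
  rw [injective_iff_map_eq_zero]
  intro s hs
  apply Groth.Agent.Lib.Helper28.MeroBasic.kmod_ext
  intro x
  change s.1 x = 0
  obtain ⟨W, hxW, hWU, a, b, hab⟩ := Groth.Agent.Lib.Helper28.MeroBasic.kmod_local s x
  -- the numerator vanishes on `W ⊓ V`
  have hres : X.presheaf.map (homOfLE (inf_le_left : W ⊓ V ≤ W)).op a = 0 := by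
    apply Groth.Agent.Lib.Helper28.MeroBasic.section_eq_zero
    intro y hy
    rw [TopCat.Presheaf.germ_res_apply]
    have h1 : s.1 ⟨y, hWU hy.1⟩ = 0 := by
      have h2 : ((Mero.kmod X).presheaf.map (homOfLE hVU).op s).1 ⟨y, hy.2⟩ = 0 := by
        rw [hs]; rfl
      exact h2
    have h3 := hab ⟨y, hy.1⟩
    rw [h1] at h3
    exact (Groth.Agent.Lib.Helper28.MeroBasic.mk_eq_zero_iff _ _).mp h3.symm
  have ha : a = 0 := by
    apply hV W hWU
    rw [hres, map_zero]
  have h4 := hab ⟨x.1, hxW⟩
  rw [ha, map_zero, LocalizedModule.zero_mk] at h4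
  exact h4

end Groth.Agent.S5085
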