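import Groth.Statements.S0217
import Groth.Agent.Lib.Helper28.CurveAff.Reduce

set_option autoImplicit false
universe u
open CategoryTheory CategoryTheory.Limits AlgebraicGeometry TopologicalSpace
open Curves

namespace Groth.Agent.S0217

/-- On a separated scheme whose quasi-compact opens have finitely many irreducible components, any
finite set of points with Noetherian local rings of dimension at most one lies in a common affine
open. -/
theorem result (X : Scheme.{u}) [X.IsSeparated]
    (hirr : ∀ U : X.Opens, IsCompact (U : Set X) → (irreducibleComponents (U : Set X)).Finite)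
    (s : Finset X) (hs : ∀ x ∈ s, IsNoetherianRing (X.presheaf.stalk x) ∧ ringKrullDim (X.presheaf.stalk x) ≤ 1) :
    ∃ U : X.Opens, IsAffineOpen U ∧ ∀ x ∈ s, x ∈ U := by
  classical
  have hex : ∀ x : X, ∃ W : X.Opens, IsAffineOpen W ∧ x ∈ W := fun x => by
    obtain ⟨_, ⟨W, hW, rfl⟩, hx, -⟩ := X.isBasis_affineOpens.exists_subset_of_mem_open
      (Set.mem_univ x) isOpen_univ
    exact ⟨W, hW, hx⟩
  choose W hW hxW using hex
  let U₀ : X.Opens := ⨆ x ∈ s, W x
  have hU₀c : IsCompact (U₀ : Set X) := by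
    have h1 : (U₀ : Set X) = ⋃ x ∈ s, (W x : Set X) := by
      simp only [U₀, TopologicalSpace.Opens.coe_iSup]
    rw [h1]
    exact s.isCompact_biUnion (fun x _ => (hW x).isCompact)
  have hsU₀ : ∀ x ∈ s, x ∈ U₀ := fun x hx => by
    simp only [U₀, TopologicalSpace.Opens.mem_iSup]
    exact ⟨x, hx, hxW x⟩
  haveI : (U₀ : Scheme.{u}).IsSeparated := by
    constructor
    rw [← CategoryTheory.Limits.terminal.comp_from U₀.ι]
    infer_instance
  have hinj : Function.Injective U₀.ι := U₀.ι.isOpenEmbedding.injective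
  let s₀ : Finset (U₀ : Scheme.{u}) := (s.finite_toSet.preimage hinj.injOn).toFinset
  have hs₀ : ∀ z, z ∈ s₀ ↔ U₀.ι z ∈ s := by
    intro z
    simp [s₀]
  obtain ⟨V, hV, hVs⟩ := Groth.Agent.Lib.Helper28.CurveAff.exists_affine_of_finite_components
    (U₀ : Scheme.{u}) (hirr U₀ hU₀c) s₀ (fun z hz => by
      have h1 := hs _ ((hs₀ z).mp hz)
      have hsurj : Function.Surjective (U₀.ι.stalkMap z) :=
        ((CategoryTheory.ConcreteCategory.isIso_iff_bijective _).mp inferInstance).2
      haveI := h1.1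
      exact ⟨isNoetherianRing_of_surjective _ _ _ hsurj,
        (ringKrullDim_le_of_surjective _ hsurj).trans h1.2⟩)
  refine ⟨U₀.ι ''ᵁ V, hV.image_of_isOpenImmersion U₀.ι, fun x hx => ?_⟩
  exact ⟨⟨x, hsU₀ x hx⟩, hVs _ ((hs₀ _).mpr hx), rfl⟩

end Groth.Agent.S0217
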