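import Groth.Statements.S1570
import Groth.Agent.Lib.Helper3.Principal

set_option autoImplicit false
universe u
open CategoryTheory CategoryTheory.Limits AlgebraicGeometry
open Divisors

namespace Groth.Agent.S1570

/-- Let X be locally Noetherian and D a closed subscheme with ideal sheaf I. If for every point x of D
the ideal generated by I in the local ring at x is generated by one nonzerodivisor, then D is an
effective Cartier divisor. -/
theorem result (X : Scheme.{u}) [IsLocallyNoetherian X]
    (D : X.IdealSheafData)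
    (h : ∀ x ∈ D.support, ∀ (U : X.affineOpens) (hx : x ∈ (U : X.Opens)),
      ∃ g : X.presheaf.stalk x, g ∈ nonZeroDivisors (X.presheaf.stalk x) ∧
        (D.ideal U).map (X.presheaf.germ U x hx).hom = Ideal.span {g}) :
    BlowUp.IsEffCartierIdeal D := by
  intro x
  obtain ⟨_, ⟨U, hU, rfl⟩, hxU, -⟩ :=
    X.isBasis_affineOpens.exists_subset_of_mem_open (Set.mem_univ x) isOpen_univ
  let U' : X.affineOpens := ⟨U, hU⟩
  by_cases hxD : x ∈ D.support
  · obtain ⟨g, hg, hgI⟩ := h x hxD U' hxU
    have hNoeth : IsNoetherianRing Γ(X, U) := IsLocallyNoetherian.component_noetherian U'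
    set p := hU.primeIdealOf ⟨x, hxU⟩ with hp
    let _ : Algebra Γ(X, U) (X.presheaf.stalk x) :=
      TopCat.Presheaf.algebra_section_stalk X.presheaf (U := U) ⟨x, hxU⟩
    have hloc : IsLocalization.AtPrime (X.presheaf.stalk x) p.asIdeal :=
      hU.isLocalization_stalk ⟨x, hxU⟩
    obtain ⟨s, hsp, a, haI, hB⟩ := Groth.Agent.Lib.Helper3.exists_away_principal p.asIdeal
      (X.presheaf.stalk x) (D.ideal U') g hg hgI
    have hlocB := hU.isLocalization_basicOpen s
    obtain ⟨h1, h2⟩ := hB Γ(X, X.basicOpen s)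
    refine ⟨X.affineBasicOpen (U := U') s, ?_, algebraMap Γ(X, U) Γ(X, X.basicOpen s) a, h2, ?_⟩
    · -- x ∈ basicOpen s
      change x ∈ X.basicOpen s
      have hpx : hU.fromSpec p = x := hU.fromSpec_primeIdealOf ⟨x, hxU⟩
      rw [← hpx]
      change p ∈ hU.fromSpec ⁻¹ᵁ X.basicOpen s
      rw [hU.fromSpec_preimage_basicOpen]
      exact hsp
    · rw [← D.map_ideal_basicOpen U' s]
      exact h1
  · -- x not in the support
    have hx' : x ∉ X.zeroLocus (U := U) (D.ideal U') := by
      rwa [← Scheme.IdealSheafData.mem_support_iff_of_mem (U := U') hxU]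
    rw [Scheme.mem_zeroLocus_iff] at hx'
    push Not at hx'
    obtain ⟨s, hsI, hxs⟩ := hx'
    refine ⟨X.affineBasicOpen (U := U') s, hxs, 1, one_mem _, ?_⟩
    rw [Ideal.span_singleton_one, ← D.map_ideal_basicOpen U' s]
    change (D.ideal U').map (algebraMap Γ(X, U) Γ(X, X.basicOpen s)) = ⊤
    rw [Ideal.eq_top_iff_one]
    have hsu : IsUnit (algebraMap Γ(X, U) Γ(X, X.basicOpen s) s) := by
      have hlocB := hU.isLocalization_basicOpen s
      exact IsLocalization.Away.algebraMap_isUnit s
    have hmem : algebraMap Γ(X, U) Γ(X, X.basicOpen s) s ∈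
        (D.ideal U').map (algebraMap Γ(X, U) Γ(X, X.basicOpen s)) := Ideal.mem_map_of_mem _ hsI
    have := Ideal.mul_mem_left _ (hsu.unit⁻¹ : Γ(X, X.basicOpen s)ˣ).1 hmem
    rw [IsUnit.val_inv_mul] at this
    exact this

end Groth.Agent.S1570
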