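import Groth.Statements.S4272
import Groth.Agent.Lib.Helper26.AmpleFam
import Groth.Agent.Lib.Helper26.CartierSec
import Groth.Agent.Lib.Helper26.EffCartierUFD


set_option autoImplicit false
universe u
open CategoryTheory CategoryTheory.Limits AlgebraicGeometry
attribute [local instance] HasDerivedCategory.standard
open KSix

namespace Groth.Agent.S4272

open AlgebraicGeometry CategoryTheory Limits TopologicalSpace in
open Groth.Agent.Lib.Helper3 Groth.Agent.Lib.Helper3.InvGen Groth.Agent.Lib.Helper3.InvMonoidal in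
/-- From a dense affine open neighbourhood of `x` whose complement supports an effective Cartier
divisor we get the data of an ample family at `x`. -/
theorem family_at {X : Scheme.{u}} (x : X) (U : X.Opens) (hU : IsAffineOpen U) (hxU : x ∈ U)
    (D : X.IdealSheafData) (hD : BlowUp.IsEffCartierIdeal D)
    (hsupp : (D.support : Set X) = (U : Set X)ᶜ) :
    ∃ (L : X.Modules) (n : ℕ) (s : Coh.structureModule X ⟶ CohB1.tensorPow L n),
      PicF.IsInvertible L ∧ 1 ≤ n ∧ x ∈ CohB1.genLocus (CohB1.tensorPow L n) s ∧
        IsAffineOpen (CohB1.genLocus (CohB1.tensorPow L n) s) := by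
  obtain ⟨M, s, hM, hloc⟩ :=
    Groth.Agent.Lib.Helper26.CartierSec.exists_section_of_effCartier D hD
  have hlocU : CohB1.genLocus M s = U := by
    ext z
    have h1 : z ∈ CohB1.genLocus M s ↔ z ∉ D.support := hloc z
    have h2 : z ∈ D.support ↔ z ∈ (U : Set X)ᶜ := by
      rw [← hsupp]
      rfl
    show z ∈ CohB1.genLocus M s ↔ z ∈ U
    rw [h1, h2]
    exact not_not
  refine ⟨M, 0 + 1, s ≫ (powOne M).hom, hM, le_refl _, ?_, ?_⟩
  · rw [genLocus_comp_iso, hlocU]
    exact hxU
  · rw [genLocus_comp_iso, hlocU]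
    exact hU

theorem dense_of_gen {X : Scheme.{u}} (U : X.Opens) (hgen : ∀ z : X, ∃ η ∈ U, η ⤳ z) :
    Dense (U : Set X) := by
  intro z
  obtain ⟨η, hηU, hsp⟩ := hgen z
  exact closure_mono (Set.singleton_subset_iff.mpr hηU) (specializes_iff_mem_closure.mp hsp)


/-- A separated Noetherian scheme whose local rings are factorial (unique factorisation domains) is
divisorial, i.e. admits an ample family of invertible modules. -/
theorem result (X : Scheme.{u}) [IsNoetherian X] [X.IsSeparated]
    (hfact : ∀ x : X, ∃ _ : IsDomain (X.presheaf.stalk x), UniqueFactorizationMonoid (X.presheaf.stalk x)) :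
    MoreMor.HasAmpleFamily X := by
  refine ⟨inferInstance, fun x => ?_⟩
  obtain ⟨U, hU, hxU, hgen⟩ := Groth.Agent.Lib.Helper26.AmpleFam.exists_dense_affine x
  obtain ⟨D, hD, hsupp⟩ := Groth.Agent.Lib.Helper26.EffCartierUFD.exists_effCartier X U hU
    (dense_of_gen U hgen) (fun z _ => by
      obtain ⟨h1, h2⟩ := hfact z
      exact ⟨h1, h2⟩)
  exact family_at x U hU hxU D hD hsupp

end Groth.Agent.S4272
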