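import Groth.Statements.S4271
import Groth.Agent.Lib.Helper26.AmpleFam
import Groth.Agent.Lib.Helper26.CartierSec
import Groth.Agent.Lib.Helper26.EffCartierUFD2
import Groth.Agent.S2821
import Groth.Agent.S4272


set_option autoImplicit false
universe u
open CategoryTheory CategoryTheory.Limits AlgebraicGeometry
attribute [local instance] HasDerivedCategory.standard
open KSix

namespace Groth.Agent.S4271

/-- The published statement asserts that a separated regular Noetherian scheme is divisorial; stated
here in the following form: a quasi-compact locally Noetherian scheme all of whose local rings are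
regular and whose affine opens have pairwise affine intersections (affine diagonal) admits an ample
family of invertible modules. -/
theorem result (X : Scheme.{u}) [CompactSpace X] [IsLocallyNoetherian X]
    (hreg : ∀ x : X, IsRegularLocalRing (X.presheaf.stalk x))
    (hdiag : ∀ U V : X.Opens, IsAffineOpen U → IsAffineOpen V → IsAffineOpen (U ⊓ V)) : MoreMor.HasAmpleFamily X := by
  haveI : IsNoetherian X := {}
  refine ⟨inferInstance, fun x => ?_⟩
  obtain ⟨U, hU, hxU, hgen⟩ := Groth.Agent.Lib.Helper26.AmpleFam.exists_dense_affine x
  haveI : IsAffineHom U.ι :=
    Groth.Agent.Lib.Helper26.EffCartierUFD.isAffineHom_ι_of_forall_inf X U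
      (fun W hW => hdiag U W hU hW)
  obtain ⟨D, hD, hsupp⟩ := Groth.Agent.Lib.Helper26.EffCartierUFD.exists_effCartier' X U
    (Groth.Agent.S4272.dense_of_gen U hgen) (fun z _ => by
      haveI := hreg z
      exact Groth.Agent.S2821.result _)
  exact Groth.Agent.S4272.family_at x U hU hxU D hD hsupp

end Groth.Agent.S4271
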