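import Groth.Statements.S9325
import Mathlib

set_option autoImplicit false
universe u
open CAlg

namespace Groth.Agent.S9325


set_option maxHeartbeats 800000 in
lemma core {A' B' : Type u} [CommRing A'] [CommRing B'] (π : A' →+* B')
    (hπ : Function.Surjective π)
    (I' J' : Ideal A') (hker : RingHom.ker π = I') {c : ℕ} (f : Fin c → B')
    (hf : CAlgX.IsH1Regular f) (hspan : Ideal.span (Set.range f) = J'.map π) :
    I' ⊓ J' ^ 2 ≤ I' * J' := by
  classical
  have hfi : ∀ i, ∃ F ∈ J', π F = f i := by
    intro i
    have h1 : f i ∈ J'.map π := hspan ▸ Ideal.subset_span ⟨i, rfl⟩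
    rwa [Ideal.mem_map_iff_of_surjective π hπ] at h1
  choose F hFJ hFf using hfi
  set K : Ideal A' := Ideal.span (Set.range F) with hK
  have hKJ : K ≤ J' := Ideal.span_le.mpr (by rintro _ ⟨i, rfl⟩; exact hFJ i)
  have hJ : J' ≤ I' ⊔ K := by
    intro j hj
    have h1 : π j ∈ Ideal.span (Set.range f) := hspan ▸ Ideal.mem_map_of_mem π hj
    obtain ⟨b, hb⟩ := (Ideal.mem_span_range_iff_exists_fun).mp h1
    choose b' hb' using fun i => hπ (b i)
    have h2 : j - ∑ i, b' i * F i ∈ I' := by
      rw [← hker, RingHom.mem_ker, map_sub, map_sum, ← hb, sub_eq_zero]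
      refine Finset.sum_congr rfl fun i _ => ?_
      rw [map_mul, hb', hFf]
    have hsum : ∑ i, b' i * F i ∈ K :=
      Ideal.sum_mem _ fun i _ => Ideal.mul_mem_left _ _ (Ideal.subset_span ⟨i, rfl⟩)
    have h3 : j = (j - ∑ i, b' i * F i) + ∑ i, b' i * F i := by ring
    rw [h3]; exact Submodule.add_mem_sup h2 hsum
  have hQ : ∀ a : Fin c → B',
      a ∈ Submodule.span B' {v | ∃ i j, v = Pi.single i (f j) - Pi.single j (f i)} →
      ∀ G : Fin c → A', (∀ k, π (G k) = a k) → ∑ k, G k * F k ∈ I' * J' := by
    intro a ha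
    induction ha using Submodule.span_induction with
    | mem v hv =>
      obtain ⟨i, j, rfl⟩ := hv
      intro G hG
      have hZ : ∀ k, G k - ((Pi.single i (F j) : Fin c → A') k -
          (Pi.single j (F i) : Fin c → A') k) ∈ I' := by
        intro k
        rw [← hker, RingHom.mem_ker, map_sub, map_sub, hG k]
        simp only [Pi.sub_apply, Pi.single_apply]
        split_ifs <;> simp [hFf]
      have hsplit : ∑ k, G k * F k =
          ∑ k, (G k - ((Pi.single i (F j) : Fin c → A') k -
            (Pi.single j (F i) : Fin c → A') k)) * F k +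
          ∑ k, ((Pi.single i (F j) : Fin c → A') k -
            (Pi.single j (F i) : Fin c → A') k) * F k := by
        rw [← Finset.sum_add_distrib]
        refine Finset.sum_congr rfl fun k _ => ?_
        ring
      have hzero : ∑ k, ((Pi.single i (F j) : Fin c → A') k -
          (Pi.single j (F i) : Fin c → A') k) * F k = 0 := by
        simp only [sub_mul, Finset.sum_sub_distrib, Pi.single_apply, ite_mul, zero_mul,
          Finset.sum_ite_eq', Finset.mem_univ, if_true]
        ring
      rw [hsplit, hzero, add_zero]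
      exact Ideal.sum_mem _ fun k _ => Ideal.mul_mem_mul (hZ k) (hFJ k)
    | zero =>
      intro G hG
      refine Ideal.sum_mem _ fun k _ => Ideal.mul_mem_mul ?_ (hFJ k)
      rw [← hker, RingHom.mem_ker, hG k]; rfl
    | add a a' _ _ iha iha' =>
      intro G hG
      choose G' hG' using fun k => hπ (a k)
      have h1 := iha G' hG'
      have h2 := iha' (fun k => G k - G' k) (fun k => by
        rw [map_sub, hG k, hG' k]; simp)
      have h3 : ∑ k, G k * F k = ∑ k, G' k * F k + ∑ k, (G k - G' k) * F k := by
        rw [← Finset.sum_add_distrib]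
        refine Finset.sum_congr rfl fun k _ => ?_
        ring
      rw [h3]; exact Ideal.add_mem _ h1 h2
    | smul b a _ iha =>
      intro G hG
      obtain ⟨b', rfl⟩ := hπ b
      choose G' hG' using fun k => hπ (a k)
      have h1 := iha G' hG'
      have hZ : ∀ k, G k - b' * G' k ∈ I' := fun k => by
        rw [← hker, RingHom.mem_ker, map_sub, map_mul, hG k, hG' k]; simp
      have h3 : ∑ k, G k * F k = ∑ k, (G k - b' * G' k) * F k + b' * ∑ k, G' k * F k := by
        rw [Finset.mul_sum, ← Finset.sum_add_distrib]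
        refine Finset.sum_congr rfl fun k _ => ?_
        ring
      rw [h3]
      exact Ideal.add_mem _ (Ideal.sum_mem _ fun k _ => Ideal.mul_mem_mul (hZ k) (hFJ k))
        (Ideal.mul_mem_left _ _ h1)
  rintro x ⟨hxI, hxJ2⟩
  have hJ2 : J' ^ 2 ≤ I' * J' ⊔ K * K := by
    rw [pow_two]
    calc J' * J' ≤ (I' ⊔ K) * J' := Ideal.mul_mono_left hJ
      _ = I' * J' ⊔ K * J' := Ideal.sup_mul _ _ _
      _ ≤ I' * J' ⊔ (K * I' ⊔ K * K) :=
          sup_le_sup_left (by rw [← Ideal.mul_sup]; exact Ideal.mul_mono_right hJ) _
      _ ≤ I' * J' ⊔ K * K := by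
          refine sup_le le_sup_left (sup_le ?_ le_sup_right)
          rw [mul_comm]; exact le_sup_of_le_left (Ideal.mul_mono_right hKJ)
  obtain ⟨y, hy, w, hw, rfl⟩ := Submodule.mem_sup.mp (hJ2 hxJ2)
  refine Ideal.add_mem _ hy ?_
  have hw' : w ∈ K • Submodule.span A' (Set.range F) := hw
  obtain ⟨G, hGK, hGw⟩ := (Submodule.mem_ideal_smul_span_iff_exists_sum K F w).mp hw'
  rw [Finsupp.sum_fintype G (fun i c => c • F i) (fun i => zero_smul _ _)] at hGw
  have hwI : w ∈ I' := by
    have h1 : w = (y + w) - y := by ring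
    rw [h1]; exact Ideal.sub_mem _ hxI (Ideal.mul_le_left hy)
  have hrel : ∑ k, π (G k) * f k = 0 := by
    have h1 : π w = 0 := by rw [← RingHom.mem_ker, hker]; exact hwI
    rw [← hGw, map_sum] at h1
    rw [← h1]
    refine Finset.sum_congr rfl fun k _ => ?_
    rw [smul_eq_mul, map_mul, hFf]
  have h4 := hQ (fun k => π (G k)) (hf _ hrel) (fun k => G k) (fun k => rfl)
  rw [← hGw]
  simpa [smul_eq_mul] using h4

/-- Let `A` be a ring and `I ⊆ J` ideals of `A` such that the ideal `J/I` of `A/I` is `H_1`-regular: for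
every prime `𝔮` of `A/I` containing `J/I` there is `g ∉ 𝔮` such that the extension of `J/I` to
`(A/I)_g` is generated by an `H_1`-regular sequence (a finite sequence all of whose linear relations
are combinations of the trivial ones). Then `I ∩ J² = I J`. -/
theorem result {A : Type u} [CommRing A] (I J : Ideal A)
    (hIJ : I ≤ J)
    (h : ∀ (𝔮 : Ideal (A ⧸ I)) [𝔮.IsPrime], J.map (Ideal.Quotient.mk I) ≤ 𝔮 →
      ∃ g : A ⧸ I, g ∉ 𝔮 ∧ ∃ (c : ℕ) (f : Fin c → Localization.Away g),
        CAlgX.IsH1Regular f ∧
          Ideal.span (Set.range f) =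
            (J.map (Ideal.Quotient.mk I)).map (algebraMap (A ⧸ I) (Localization.Away g))) :
    I ⊓ J ^ 2 = I * J := by
  classical
  apply le_antisymm
  · intro x hx
    by_contra hxIJ
    have hne : (I * J).colon ({x} : Set A) ≠ ⊤ := by
      intro htop
      have h1 : (1 : A) ∈ (I * J).colon ({x} : Set A) := by rw [htop]; trivial
      rw [Submodule.mem_colon_singleton, one_smul] at h1
      exact hxIJ h1
    obtain ⟨P, hPmax, hKP⟩ := Ideal.exists_le_maximal _ hne
    haveI hPprime : P.IsPrime := hPmax.isPrime
    by_cases hJP : J ≤ P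
    · have hIP : I ≤ P := hIJ.trans hJP
      have hkerle : RingHom.ker (Ideal.Quotient.mk I) ≤ P := by rw [Ideal.mk_ker]; exact hIP
      haveI : (P.map (Ideal.Quotient.mk I)).IsPrime :=
        Ideal.map_isPrime_of_surjective Ideal.Quotient.mk_surjective hkerle
      obtain ⟨g, hg𝔮, c, f, hf, hspan⟩ := h (P.map (Ideal.Quotient.mk I)) (Ideal.map_mono hJP)
      obtain ⟨g₀, rfl⟩ := Ideal.Quotient.mk_surjective g
      have hg₀P : g₀ ∉ P := fun hg => hg𝔮 (Ideal.mem_map_of_mem _ hg)
      have hle : Submonoid.powers g₀ ≤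
          (Submonoid.powers (Ideal.Quotient.mk I g₀)).comap (Ideal.Quotient.mk I) := by
        rintro _ ⟨n, rfl⟩
        exact ⟨n, by simp [map_pow]⟩
      let π : Localization.Away g₀ →+* Localization.Away (Ideal.Quotient.mk I g₀) :=
        IsLocalization.map (M := Submonoid.powers g₀)
          (T := Submonoid.powers (Ideal.Quotient.mk I g₀)) (S := Localization.Away g₀)
          (Localization.Away (Ideal.Quotient.mk I g₀)) (Ideal.Quotient.mk I) hle
      have hπalg : ∀ a : A, π (algebraMap A (Localization.Away g₀) a) =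
          algebraMap (A ⧸ I) (Localization.Away (Ideal.Quotient.mk I g₀)) (Ideal.Quotient.mk I a) :=
        fun a => IsLocalization.map_eq hle a
      have hπcomp : π.comp (algebraMap A (Localization.Away g₀)) =
          (algebraMap (A ⧸ I) (Localization.Away (Ideal.Quotient.mk I g₀))).comp
            (Ideal.Quotient.mk I) := IsLocalization.map_comp hle
      have hπsurj : Function.Surjective π := by
        intro q
        obtain ⟨⟨b, s⟩, hq⟩ := IsLocalization.surj (Submonoid.powers (Ideal.Quotient.mk I g₀)) q
        obtain ⟨e, he⟩ := s.2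
        have he : Ideal.Quotient.mk I g₀ ^ e = (s : A ⧸ I) := he
        obtain ⟨b, rfl⟩ := Ideal.Quotient.mk_surjective b
        refine ⟨IsLocalization.mk' (Localization.Away g₀) b
          (⟨g₀ ^ e, ⟨e, rfl⟩⟩ : Submonoid.powers g₀), ?_⟩
        have hunit : IsUnit (algebraMap (A ⧸ I) (Localization.Away (Ideal.Quotient.mk I g₀))
            (s : A ⧸ I)) := IsLocalization.map_units _ s
        apply hunit.mul_left_injective
        show π _ * _ = q * _
        rw [hq]
        have h1 : (s : A ⧸ I) = Ideal.Quotient.mk I (g₀ ^ e) := by rw [map_pow]; exact he.symm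
        rw [h1, ← hπalg, ← map_mul, ← hπalg]
        congr 1
        exact IsLocalization.mk'_spec _ b (⟨g₀ ^ e, ⟨e, rfl⟩⟩ : Submonoid.powers g₀)
      have hker : RingHom.ker π = I.map (algebraMap A (Localization.Away g₀)) := by
        apply le_antisymm
        · intro z hz
          rw [RingHom.mem_ker] at hz
          obtain ⟨⟨a, s⟩, hzs⟩ := IsLocalization.surj (Submonoid.powers g₀) z
          have h1 : algebraMap (A ⧸ I) (Localization.Away (Ideal.Quotient.mk I g₀))
              (Ideal.Quotient.mk I a) = 0 := by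
            rw [← hπalg, ← hzs, map_mul, hz, zero_mul]
          obtain ⟨m, hm⟩ := (IsLocalization.map_eq_zero_iff
            (Submonoid.powers (Ideal.Quotient.mk I g₀)) _ _).mp h1
          obtain ⟨e, he⟩ := m.2
          have he' : Ideal.Quotient.mk I g₀ ^ e = (m : A ⧸ I) := he
          have h2 : g₀ ^ e * a ∈ I := by
            rw [← Ideal.Quotient.eq_zero_iff_mem, map_mul, map_pow, he']; exact hm
          have hunit : IsUnit (algebraMap A (Localization.Away g₀) ((s : A) * g₀ ^ e)) := by
            rw [map_mul]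
            exact (IsLocalization.map_units _ s).mul
              (IsLocalization.map_units _ (⟨g₀ ^ e, ⟨e, rfl⟩⟩ : Submonoid.powers g₀))
          rw [← Ideal.mul_unit_mem_iff_mem _ hunit]
          have h3 : z * algebraMap A (Localization.Away g₀) ((s : A) * g₀ ^ e) =
              algebraMap A (Localization.Away g₀) (g₀ ^ e * a) := by
            rw [map_mul, ← mul_assoc, hzs, ← map_mul, mul_comm]
          rw [h3]
          exact Ideal.mem_map_of_mem _ h2
        · rw [Ideal.map_le_iff_le_comap]
          intro a ha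
          rw [Ideal.mem_comap, RingHom.mem_ker, hπalg, Ideal.Quotient.eq_zero_iff_mem.mpr ha,
            map_zero]
      have hspan' : Ideal.span (Set.range f) =
          (J.map (algebraMap A (Localization.Away g₀))).map π := by
        rw [hspan, Ideal.map_map, Ideal.map_map, hπcomp]
      have hcore := core π hπsurj (I.map (algebraMap A (Localization.Away g₀)))
        (J.map (algebraMap A (Localization.Away g₀))) hker f hf hspan'
      have hxmem : algebraMap A (Localization.Away g₀) x ∈
          I.map (algebraMap A (Localization.Away g₀)) ⊓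
            (J.map (algebraMap A (Localization.Away g₀))) ^ 2 := by
        refine ⟨Ideal.mem_map_of_mem _ hx.1, ?_⟩
        rw [← Ideal.map_pow]
        exact Ideal.mem_map_of_mem _ hx.2
      have hx2 := hcore hxmem
      rw [← Ideal.map_mul] at hx2
      obtain ⟨⟨k, s⟩, hks⟩ := (IsLocalization.mem_map_algebraMap_iff (Submonoid.powers g₀)
        (Localization.Away g₀)).mp hx2
      rw [← map_mul] at hks
      obtain ⟨m, hm⟩ := (IsLocalization.eq_iff_exists (Submonoid.powers g₀)
        (Localization.Away g₀)).mp hks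
      have hmem : (m : A) * (s : A) ∈ (I * J).colon ({x} : Set A) := by
        rw [Submodule.mem_colon_singleton, smul_eq_mul]
        have h5 : (m : A) * (s : A) * x = (m : A) * (x * (s : A)) := by ring
        rw [h5, hm]
        exact Ideal.mul_mem_left _ _ k.2
      have hmP := hKP hmem
      obtain ⟨e1, he1⟩ := m.2
      obtain ⟨e2, he2⟩ := s.2
      have he1' : g₀ ^ e1 = (m : A) := he1
      have he2' : g₀ ^ e2 = (s : A) := he2
      rw [← he1', ← he2', ← pow_add] at hmP
      exact hg₀P (hPprime.mem_of_pow_mem _ hmP)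
    · obtain ⟨s, hsJ, hsP⟩ := Set.not_subset.mp hJP
      apply hsP
      apply hKP
      rw [Submodule.mem_colon_singleton, smul_eq_mul]
      have hsx : s * x = x * s := mul_comm _ _
      rw [hsx]
      exact Ideal.mul_mem_mul hx.1 hsJ
  · exact le_inf Ideal.mul_le_left (by rw [pow_two]; exact Ideal.mul_mono_left hIJ)

end Groth.Agent.S9325
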