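import Groth.Statements.S14405
import Mathlib

set_option autoImplicit false
open Polynomial
open HilbNum

namespace Groth.Agent.S14405

section
open Polynomial

/-- backward difference -/
noncomputable def bd (P : ℚ[X]) : ℚ[X] := P - P.comp (X - C 1)

theorem bd_add (P P' : ℚ[X]) : bd (P + P') = bd P + bd P' := by
  unfold bd; rw [add_comp]; ring

theorem bd_eval (P : ℚ[X]) (x : ℚ) : (bd P).eval x = P.eval x - P.eval (x - 1) := by
  unfold bd; simp [eval_comp]

theorem bd_const (P : ℚ[X]) (h : P.natDegree ≤ 0) : bd P = 0 := by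
  rw [eq_C_of_natDegree_le_zero h]; unfold bd; simp

theorem natDegree_X_sub_one : (X - C (1:ℚ)).natDegree = 1 := natDegree_X_sub_C 1

theorem bd_natDegree_le (P : ℚ[X]) (n : ℕ) (h : P.natDegree ≤ n + 1) :
    (bd P).natDegree ≤ n := by
  rcases Nat.lt_or_ge P.natDegree (n + 1) with hlt | hge
  · have h1 : (P.comp (X - C 1)).natDegree ≤ n := by
      have := natDegree_comp_le (p := P) (q := X - C (1:ℚ))
      rw [natDegree_X_sub_one, mul_one] at this
      omega
    unfold bd
    exact (natDegree_sub_le _ _).trans (max_le (by omega) h1)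
  · have hdeg : P.natDegree = n + 1 := le_antisymm h hge
    have hP0 : P ≠ 0 := by
      intro h0; rw [h0, natDegree_zero] at hdeg; omega
    have h1 : (P.comp (X - C 1)).natDegree = P.natDegree := by
      rw [natDegree_comp, natDegree_X_sub_one, mul_one]
    have h2 : (P.comp (X - C 1)).leadingCoeff = P.leadingCoeff := by
      rw [leadingCoeff_comp (by rw [natDegree_X_sub_one]; exact one_ne_zero),
        leadingCoeff_X_sub_C, one_pow, mul_one]
    have hc0 : P.comp (X - C 1) ≠ 0 := by
      intro h0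
      rw [h0, leadingCoeff_zero] at h2
      exact hP0 (leadingCoeff_eq_zero.mp h2.symm)
    have h3 : P.degree = (P.comp (X - C 1)).degree := by
      rw [degree_eq_natDegree hP0, degree_eq_natDegree hc0, h1]
    have h4 := degree_sub_lt h3 hP0 h2.symm
    unfold bd
    by_cases hz : P - P.comp (X - C 1) = 0
    · rw [hz, natDegree_zero]; omega
    · have := (natDegree_lt_natDegree hz h4)
      omega

theorem exists_antidiff : ∀ (n : ℕ) (Q : ℚ[X]), Q.natDegree ≤ n →
    ∃ P : ℚ[X], P.natDegree ≤ n + 1 ∧ bd P = Q := by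
  intro n
  induction n with
  | zero =>
    intro Q hQ
    refine ⟨C (Q.coeff 0) * X, ?_, ?_⟩
    · exact (natDegree_C_mul_le _ _).trans (by rw [natDegree_X])
    · conv_rhs => rw [eq_C_of_natDegree_le_zero hQ]
      unfold bd
      simp only [mul_comp, C_comp, X_comp]
      rw [mul_sub, ← C_mul, mul_one]
      ring
  | succ n ih =>
    intro Q hQ
    set a := Q.coeff (n + 1) with ha
    set M : ℚ[X] := C (a / ((n : ℚ) + 2)) * X ^ (n + 2) with hM
    have hMdeg : M.natDegree ≤ n + 2 :=
      (natDegree_C_mul_le _ _).trans (by rw [natDegree_X_pow])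
    have hbdM := bd_natDegree_le M (n + 1) hMdeg
    have hcoeff : (bd M).coeff (n + 1) = a := by
      unfold bd
      rw [hM]
      have hX : (X - C (1:ℚ)) = X + C (-1) := by rw [C_neg, sub_eq_add_neg]
      simp only [mul_comp, C_comp, pow_comp, X_comp, coeff_sub, coeff_C_mul, coeff_X_pow, hX,
        coeff_X_add_C_pow]
      have h1 : (n + 1 : ℕ) ≠ n + 2 := by omega
      rw [if_neg h1]
      have h2 : (n + 2 - (n + 1) : ℕ) = 1 := by omega
      rw [h2]
      have h3 : ((n + 2).choose (n + 1) : ℚ) = (n : ℚ) + 2 := by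
        rw [show n + 2 = (n + 1) + 1 from rfl, Nat.choose_succ_self_right]
        push_cast; ring
      rw [h3]
      have h4 : (n : ℚ) + 2 ≠ 0 := by positivity
      field_simp
      ring
    have hR : (Q - bd M).natDegree ≤ n := by
      rw [natDegree_le_iff_coeff_eq_zero]
      intro N hN
      rcases Nat.lt_or_ge (n + 1) N with h1 | h1
      · rw [coeff_sub, coeff_eq_zero_of_natDegree_lt (lt_of_le_of_lt hQ h1),
          coeff_eq_zero_of_natDegree_lt (lt_of_le_of_lt hbdM h1), sub_zero]
      · have : N = n + 1 := by omega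
        rw [this, coeff_sub, hcoeff, ← ha, sub_self]
    obtain ⟨P₁, hP₁, hbd⟩ := ih (Q - bd M) hR
    refine ⟨M + P₁, ?_, ?_⟩
    · exact (natDegree_add_le _ _).trans (max_le hMdeg (by omega))
    · rw [bd_add, hbd]; ring

theorem main (φ : ℤ → ℚ) (d : ℕ) (Q : ℚ[X]) (hQ : Q ≠ 0)
    (hd : Q.natDegree = d) (h : ∀ m : ℤ, φ m - φ (m - 1) = Q.eval (m : ℚ)) :
    ∃ P : ℚ[X], P.natDegree = d + 1 ∧ ∀ m : ℤ, φ m = P.eval (m : ℚ) := by
  obtain ⟨P₀, hP₀, hbd⟩ := exists_antidiff d Q hd.le
  have hdeg : P₀.natDegree = d + 1 := by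
    apply le_antisymm hP₀
    by_contra hlt
    rw [not_le] at hlt
    have hle : P₀.natDegree ≤ d := by omega
    rcases Nat.eq_zero_or_pos d with h0 | hpos
    · rw [h0] at hle
      exact hQ (by rw [← hbd, bd_const P₀ hle])
    · obtain ⟨d', rfl⟩ := Nat.exists_eq_succ_of_ne_zero hpos.ne'
      have := bd_natDegree_le P₀ d' hle
      rw [hbd, hd] at this
      omega
  have hψ : ∀ m : ℤ, φ m - P₀.eval (m : ℚ) = φ 0 - P₀.eval 0 := by
    have hstep : ∀ m : ℤ, φ m - P₀.eval (m : ℚ) = φ (m - 1) - P₀.eval ((m - 1 : ℤ) : ℚ) := by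
      intro m
      have h1 := h m
      have h2 := bd_eval P₀ (m : ℚ)
      rw [hbd] at h2
      push_cast
      linarith
    intro m
    induction m using Int.induction_on with
    | zero => simp
    | succ i ih =>
      rw [hstep (i + 1)]
      simpa using ih
    | pred i ih =>
      have := hstep (-i)
      rw [← this]
      exact ih
  refine ⟨P₀ + C (φ 0 - P₀.eval 0), ?_, ?_⟩
  · rw [natDegree_add_C, hdeg]
  · intro m
    rw [eval_add, eval_C]
    linarith [hψ m]

end

/-- Let φ be a function from the integers to the rationals and Q a nonzero polynomial with rational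
coefficients of degree d such that φ(m) - φ(m-1) = Q(m) for every integer m. Then there is a
polynomial P with rational coefficients, of degree d + 1, such that φ(m) = P(m) for every integer m.
(The explicit form of P in the binomial basis is not part of this statement.) -/
theorem result (φ : ℤ → ℚ) (d : ℕ) (Q : ℚ[X]) (hQ : Q ≠ 0)
    (hd : Q.natDegree = d) (h : ∀ m : ℤ, φ m - φ (m - 1) = Q.eval (m : ℚ)) :
    ∃ P : ℚ[X], P.natDegree = d + 1 ∧ ∀ m : ℤ, φ m = P.eval (m : ℚ) := by
  exact main φ d Q hQ hd h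

end Groth.Agent.S14405
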