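-- Statement S0079: quasi-compactness descends along fpqc covers.
import Groth.Statements.S0079

set_option autoImplicit false
universe u
open EtBase

namespace Groth.Agent.S0079
open AlgebraicGeometry CategoryTheory Limits MorphismProperty

/-- Quasi-compactness of a morphism descends along a quasi-compact flat surjective base change: if the
base change of a morphism g along a quasi-compact, flat, surjective morphism to its target is
quasi-compact, then g is quasi-compact. (Stated for a single quasi-compact faithfully flat cover;
combined with Zariski-locality on the target this gives the fpqc-local form.) -/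
theorem result :
    MorphismProperty.DescendsAlong @QuasiCompact (@Surjective ⊓ @Flat ⊓ @QuasiCompact : MorphismProperty Scheme.{u}) := by
  refine IsZariskiLocalAtTarget.descendsAlong_inf_quasiCompact _ _ ?_ ?_
  · rw [inf_comm]
    exact inf_le_inf le_rfl (IsLocalIso.le_of_isZariskiLocalAtSource _)
  intro R S Y φ g ⟨hsurj, _⟩ hfst
  have : QuasiCompact (pullback.fst (Spec.map φ) g) := hfst
  have : Surjective (Spec.map φ) := hsurj
  have h1 : CompactSpace ↥(pullback (Spec.map φ) g) :=
    (quasiCompact_iff_compactSpace (pullback.fst (Spec.map φ) g)).mp inferInstance
  have h2 : Surjective (pullback.snd (Spec.map φ) g) := inferInstance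
  have h3 : CompactSpace Y := by
    constructor
    rw [← Set.range_eq_univ.mpr (pullback.snd (Spec.map φ) g).surjective]
    exact isCompact_range (pullback.snd (Spec.map φ) g).continuous
  exact (quasiCompact_iff_compactSpace g).mpr h3

end Groth.Agent.S0079
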