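-- Statement S0082.
import Groth.Statements.S0082
import Groth.Agent.S0079
import Groth.Agent.S0080

set_option autoImplicit false
open CategoryTheory CategoryTheory.Limits AlgebraicGeometry Opposite
universe u
open EtBase

namespace Groth.Agent.S0082

open MorphismProperty in
/-- Key lemma: affineness of a scheme over an affine base descends along a faithfully flat
base change of affine schemes. -/
theorem isAffine_of_pullback {R S : CommRingCat.{u}} {Y : Scheme.{u}} (φ : R ⟶ S) (g : Y ⟶ Spec R)
    [Surjective (Spec.map φ)] [Flat (Spec.map φ)]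
    [IsAffine (pullback (Spec.map φ) g)] : IsAffine Y := by
  have hQ : (@Surjective ⊓ @Flat ⊓ @QuasiCompact : MorphismProperty Scheme.{u}) (Spec.map φ) :=
    ⟨⟨inferInstance, inferInstance⟩, inferInstance⟩
  have hqc : QuasiCompact g := by
    have := Groth.Agent.S0079.result.{u}
    exact of_pullback_fst_of_descendsAlong (P := @QuasiCompact) (f := Spec.map φ)
      (Q := @Surjective ⊓ @Flat ⊓ @QuasiCompact) hQ inferInstance
  have hqs : QuasiSeparated g := by
    have := Groth.Agent.S0080.result.{u}
    exact of_pullback_fst_of_descendsAlong (P := @QuasiSeparated) (f := Spec.map φ)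
      (Q := @Surjective ⊓ @Flat ⊓ @QuasiCompact) hQ inferInstance
  have : CompactSpace Y := (quasiCompact_iff_compactSpace g).mp hqc
  have : QuasiSeparatedSpace Y := (quasiSeparated_iff_quasiSeparatedSpace g).mp hqs
  have H : IsPullback (pullback.snd (Spec.map φ) g) (pullback.fst (Spec.map φ) g) g (Spec.map φ) :=
    (IsPullback.of_hasPullback _ _).flip
  have hiso : IsIso (pushoutSection H (US := ⊤) (UT := ⊤) (UX := ⊤) (UY := ⊤) le_top le_top
      (by simp)) :=
    isIso_pushoutSection_of_isQuasiSeparated_of_flat_right H _ _ _ (isAffineOpen_top _)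
      (isAffineOpen_top _) isCompact_univ isQuasiSeparated_univ
  have hpo := (isIso_pushoutSection_iff ..).mp hiso
  have e1 : Scheme.Hom.appLE g ⊤ ⊤ le_top = g.appTop := Scheme.Hom.appLE_eq_app g
  have e2 : Scheme.Hom.appLE (Spec.map φ) ⊤ ⊤ le_top = (Spec.map φ).appTop :=
    Scheme.Hom.appLE_eq_app _
  have e3 : Scheme.Hom.appLE (pullback.snd (Spec.map φ) g) ⊤ ⊤ le_top =
      (pullback.snd (Spec.map φ) g).appTop := Scheme.Hom.appLE_eq_app _
  have e4 : Scheme.Hom.appLE (pullback.fst (Spec.map φ) g) ⊤ ⊤ le_top =
      (pullback.fst (Spec.map φ) g).appTop := Scheme.Hom.appLE_eq_app _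
  rw [e1, e2, e3, e4] at hpo
  -- the right square
  have hpb : IsPullback (Spec.map (pullback.fst (Spec.map φ) g).appTop)
      (Spec.map (pullback.snd (Spec.map φ) g).appTop)
      (Spec.map (Spec.map φ).appTop) (Spec.map g.appTop) := hpo.op.map Scheme.Spec
  -- the iso square
  have hisoSq : IsPullback (Spec.map φ) (Spec S).toSpecΓ (Spec R).toSpecΓ
      (Spec.map (Spec.map φ).appTop) :=
    IsPullback.of_vert_isIso ⟨Scheme.toSpecΓ_naturality _⟩
  have hbig := H.paste_vert hisoSq
  rw [Scheme.toSpecΓ_naturality, Scheme.toSpecΓ_naturality] at hbig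
  have hleft : IsPullback (pullback (Spec.map φ) g).toSpecΓ (pullback.snd (Spec.map φ) g)
      (Spec.map (pullback.snd (Spec.map φ) g).appTop) Y.toSpecΓ :=
    IsPullback.of_right hbig.flip (Scheme.toSpecΓ_naturality _).symm hpb
  have hQ' : (@Surjective ⊓ @Flat ⊓ @QuasiCompact : MorphismProperty Scheme.{u})
      (Spec.map (Spec.map φ).appTop) := by
    have h1 : (@Surjective ⊓ @Flat ⊓ @QuasiCompact : MorphismProperty Scheme.{u})
        (Spec.map φ ≫ (Spec R).toSpecΓ) :=
      (MorphismProperty.cancel_right_of_respectsIso _ _ _).mpr hQ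
    rw [Scheme.toSpecΓ_naturality] at h1
    exact (MorphismProperty.cancel_left_of_respectsIso _ _ _).mp h1
  have hQ'' : (@Surjective ⊓ @Flat ⊓ @QuasiCompact : MorphismProperty Scheme.{u})
      (Spec.map (pullback.snd (Spec.map φ) g).appTop) :=
    MorphismProperty.of_isPullback hpb hQ'
  have : IsIso Y.toSpecΓ :=
    (isomorphisms Scheme.{u}).of_isPullback_of_descendsAlong hleft hQ''
      (inferInstanceAs (IsIso (pullback (Spec.map φ) g).toSpecΓ))
  exact ⟨this⟩

/-- If the base change of a morphism of schemes along a quasi-compact, flat, surjective morphism is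
affine, then the morphism itself is affine. (Stated for a single quasi-compact flat surjective base
change; together with Zariski-locality on the target this is fpqc descent for affineness.) -/
theorem result :
    MorphismProperty.DescendsAlong @IsAffineHom (@Surjective ⊓ @Flat ⊓ @QuasiCompact : MorphismProperty Scheme.{u}) := by
  refine IsZariskiLocalAtTarget.descendsAlong_inf_quasiCompact _ _ ?_ ?_
  · rw [inf_comm]
    exact inf_le_inf le_rfl (IsLocalIso.le_of_isZariskiLocalAtSource _)
  intro R S Y φ g ⟨hsurj, hflat⟩ hfst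
  have : IsAffineHom (pullback.fst (Spec.map φ) g) := hfst
  have : Surjective (Spec.map φ) := hsurj
  have : Flat (Spec.map φ) := hflat
  have : IsAffine (pullback (Spec.map φ) g) := isAffine_of_isAffineHom (pullback.fst _ _)
  have : IsAffine Y := isAffine_of_pullback φ g
  infer_instance

end Groth.Agent.S0082
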