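-- Statement S0305.
import Groth.Statements.S0305
import Groth.Agent.Lib.Helper1.InjHullLib
import Mathlib.RingTheory.LocalRing.ResidueField.Ideal

set_option autoImplicit false
universe u v
open InjHull

namespace Groth.Agent.S0305

/-- Let R be a commutative ring, p a prime ideal, and E an injective hull of R/p. Then E is
indecomposable, and E is also an injective hull of the residue field κ(p). -/
theorem result (R : Type u) [CommRing R] (p : Ideal R) [p.IsPrime] (E : Type u) [AddCommGroup E] [Module R E] (f : (R ⧸ p) →ₗ[R] E) (hf : InjHull.IsInjectiveHull f) : InjHull.IsIndecomposable R E ∧ ∃ g : p.ResidueField →ₗ[R] E, InjHull.IsInjectiveHull g := by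
  classical
  constructor
  · -- indecomposable
    refine ⟨?_, ?_⟩
    · obtain ⟨a, b, hab⟩ := exists_pair_ne (R ⧸ p)
      exact ⟨⟨f a, f b, fun h => hab (hf.injective h)⟩⟩
    · intro N N' hNN'
      by_contra hcon
      push Not at hcon
      obtain ⟨hN, hN'⟩ := hcon
      obtain ⟨x, hx, hx0⟩ := Submodule.exists_mem_ne_zero_of_ne_bot (hf.essential N hN)
      obtain ⟨y, hy, hy0⟩ := Submodule.exists_mem_ne_zero_of_ne_bot (hf.essential N' hN')
      obtain ⟨a, rfl⟩ := hx.2
      obtain ⟨b, rfl⟩ := hy.2
      obtain ⟨a', rfl⟩ := Ideal.Quotient.mk_surjective a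
      obtain ⟨b', rfl⟩ := Ideal.Quotient.mk_surjective b
      have ha0 : Ideal.Quotient.mk p a' ≠ 0 := fun h => hx0 (by rw [h, map_zero])
      have hb0 : Ideal.Quotient.mk p b' ≠ 0 := fun h => hy0 (by rw [h, map_zero])
      have hab : Ideal.Quotient.mk p a' * Ideal.Quotient.mk p b' ≠ 0 := mul_ne_zero ha0 hb0
      have h1 : f (Ideal.Quotient.mk p a' * Ideal.Quotient.mk p b') =
          b' • f (Ideal.Quotient.mk p a') := by
        rw [← map_smul]
        congr 1
        rw [mul_comm, ← map_mul, Algebra.smul_def]
        rfl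
      have h2 : f (Ideal.Quotient.mk p a' * Ideal.Quotient.mk p b') =
          a' • f (Ideal.Quotient.mk p b') := by
        rw [← map_smul]
        congr 1
      have h3 : f (Ideal.Quotient.mk p a' * Ideal.Quotient.mk p b') ∈ N ⊓ N' :=
        ⟨h1 ▸ N.smul_mem b' hx.1, h2 ▸ N'.smul_mem a' hy.1⟩
      rw [hNN'.inf_eq_bot, Submodule.mem_bot] at h3
      exact hab (hf.injective (by rw [h3, map_zero]))
  · -- the residue field
    let ι : (R ⧸ p) →ₗ[R] p.ResidueField :=
      (Algebra.linearMap (R ⧸ p) p.ResidueField).restrictScalars R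
    have hιinj : Function.Injective ι := Ideal.injective_algebraMap_quotient_residueField p
    have hι : InjHull.IsEssentialInj ι := by
      rw [Groth.Agent.Lib.Helper1.InjHullLib.isEssentialInj_iff]
      refine ⟨hιinj, fun x hx0 => ?_⟩
      obtain ⟨a, b, hb, rfl⟩ := IsFractionRing.div_surjective (A := R ⧸ p) x
      obtain ⟨b', rfl⟩ := Ideal.Quotient.mk_surjective b
      have hb0 : algebraMap (R ⧸ p) p.ResidueField (Ideal.Quotient.mk p b') ≠ 0 := by
        intro h
        have := (injective_iff_map_eq_zero _).1
          (Ideal.injective_algebraMap_quotient_residueField p) _ h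
        rw [this] at hb
        exact zero_notMem_nonZeroDivisors hb
      have hsm : b' • (algebraMap (R ⧸ p) p.ResidueField a /
          algebraMap (R ⧸ p) p.ResidueField (Ideal.Quotient.mk p b')) =
          algebraMap (R ⧸ p) p.ResidueField a := by
        rw [Algebra.smul_def, IsScalarTower.algebraMap_apply R (R ⧸ p) p.ResidueField]
        change algebraMap (R ⧸ p) p.ResidueField (Ideal.Quotient.mk p b') * _ = _
        field_simp
      refine ⟨b', ?_, ?_⟩
      · rw [hsm]
        intro h0
        apply hx0
        rw [h0, zero_div]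
      · rw [hsm]
        exact ⟨a, rfl⟩
    obtain ⟨g, hg⟩ := hf.isInjective.out ι hιinj f
    exact ⟨g, Groth.Agent.Lib.Helper1.InjHullLib.isInjectiveHull_of_comp ι hι f hf g
      (LinearMap.ext hg)⟩

end Groth.Agent.S0305
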