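-- Statement S0309.
import Groth.Statements.S0309
import Groth.Agent.Lib.Helper1.Matlis

set_option autoImplicit false
universe u v
open Matlis

namespace Groth.Agent.S0309

/-- Over an Artinian local ring with E an injective hull of the residue field, the evaluation map from a
finite module M to its double E-dual Hom(Hom(M, E), E) is bijective. -/
theorem result (R : Type u) [CommRing R] [IsLocalRing R] [IsArtinianRing R] (E : Type u) [AddCommGroup E] [Module R E] (f : IsLocalRing.ResidueField R →ₗ[R] E) (hf : InjHull.IsInjectiveHull f) (M : Type u) [AddCommGroup M] [Module R M] [Module.Finite R M] : Function.Bijective (LinearMap.applyₗ : M →ₗ[R] (M →ₗ[R] E) →ₗ[R] E) := by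
  have hM : IsFiniteLength R M := by
    rw [isFiniteLength_iff_isNoetherian_isArtinian]
    exact ⟨inferInstance, inferInstance⟩
  have h1 : Module.length R (M →ₗ[R] E) = Module.length R M :=
    Groth.Agent.Lib.Helper1.Matlis.length_hom_eq_of_isFiniteLength f hf M hM
  have hM' : IsFiniteLength R (M →ₗ[R] E) := by
    rw [← Module.length_ne_top_iff, h1, Module.length_ne_top_iff]
    exact hM
  have h2 : Module.length R ((M →ₗ[R] E) →ₗ[R] E) = Module.length R (M →ₗ[R] E) :=
    Groth.Agent.Lib.Helper1.Matlis.length_hom_eq_of_isFiniteLength f hf _ hM'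
  have hM'' : IsFiniteLength R ((M →ₗ[R] E) →ₗ[R] E) := by
    rw [← Module.length_ne_top_iff, h2, Module.length_ne_top_iff]
    exact hM'
  have hinj : Function.Injective (LinearMap.applyₗ : M →ₗ[R] (M →ₗ[R] E) →ₗ[R] E) := by
    rw [injective_iff_map_eq_zero]
    intro x hx
    by_contra hne
    obtain ⟨φ, hφ⟩ := Groth.Agent.Lib.Helper1.Matlis.exists_hom_apply_ne_zero f hf M x hne
    exact hφ (LinearMap.congr_fun hx φ)
  refine ⟨hinj, ?_⟩
  obtain ⟨_, _⟩ := isFiniteLength_iff_isNoetherian_isArtinian.1 hM''
  rw [← LinearMap.range_eq_top]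
  by_contra hne
  have h3 := Submodule.length_lt hne
  have h4 : Module.length R (LinearMap.range (LinearMap.applyₗ : M →ₗ[R] (M →ₗ[R] E) →ₗ[R] E))
      = Module.length R M := (LinearEquiv.ofInjective _ hinj).length_eq.symm
  rw [h4, h2, h1] at h3
  exact lt_irrefl _ h3

end Groth.Agent.S0309
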