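-- Statement S0063.
import Groth.Statements.S0063
import Mathlib.AlgebraicGeometry.Morphisms.FormallyUnramified
import Mathlib.AlgebraicGeometry.Morphisms.IsIso

set_option autoImplicit false
open CategoryTheory CategoryTheory.Limits AlgebraicGeometry Opposite
universe u
open EtBase

namespace Groth.Agent.S0063

set_option backward.isDefEq.respectTransparency false in
/-- The equalizer of two morphisms into a scheme with open diagonal is an open immersion. -/
theorem isOpenImmersion_equalizer_ι_left {S : Scheme.{u}} {X Y : Over S}
    [IsOpenImmersion (pullback.diagonal Y.hom)]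
    (f g : X ⟶ Y) : IsOpenImmersion (equalizer.ι f g).left := by
  refine MorphismProperty.of_isPullback
    ((Limits.isPullback_equalizer_prod f g).map (Over.forget _)).flip ?_
  rw [← MorphismProperty.cancel_right_of_respectsIso @IsOpenImmersion _
    (Over.prodLeftIsoPullback Y Y).hom]
  convert! (inferInstance : IsOpenImmersion (pullback.diagonal Y.hom))
  ext1 <;> simp [← Over.comp_left]

/-- Rigidity of maps into an unramified separated scheme — two maps from a connected scheme over the
base that agree at one point, including on residue fields, coincide. -/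
theorem result {X S Y : Scheme.{u}} (π : X ⟶ S)
    [FormallyUnramified π] [LocallyOfFiniteType π] [IsSeparated π]
    (h : Y ⟶ S) [ConnectedSpace Y] (f g : Y ⟶ X) (hf : f ≫ π = h) (hg : g ≫ π = h)
    (y : Y) (hy : Y.fromSpecResidueField y ≫ f = Y.fromSpecResidueField y ≫ g) : f = g := by
  let X' : Over S := Over.mk π
  let Y' : Over S := Over.mk h
  let f' : Y' ⟶ X' := Over.homMk f hf
  let g' : Y' ⟶ X' := Over.homMk g hg
  have hsep : IsSeparated X'.hom := ‹_›
  have hdiag : IsOpenImmersion (pullback.diagonal X'.hom) :=
    inferInstanceAs (IsOpenImmersion (pullback.diagonal π))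
  have hcl : IsClosedImmersion (equalizer.ι f' g').left := inferInstance
  have hop : IsOpenImmersion (equalizer.ι f' g').left := isOpenImmersion_equalizer_ι_left f' g'
  have hy' : y ∈ Set.range (equalizer.ι f' g').left.base := by
    let κ' : Over S := Over.mk (Y.fromSpecResidueField y ≫ h)
    let ι' : κ' ⟶ Y' := Over.homMk (Y.fromSpecResidueField y) rfl
    have hι : ι' ≫ f' = ι' ≫ g' := by ext1; exact hy
    refine ⟨(equalizer.lift ι' hι).left.base (default : Spec (Y.residueField y)), ?_⟩
    rw [← Scheme.Hom.comp_apply, ← Over.comp_left, equalizer.lift_ι]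
    exact Scheme.fromSpecResidueField_apply _ _
  have hclopen : IsClopen (Set.range (equalizer.ι f' g').left.base) :=
    ⟨(Scheme.Hom.isClosedEmbedding _).isClosed_range, (Scheme.Hom.isOpenEmbedding _).isOpen_range⟩
  have huniv : Set.range (equalizer.ι f' g').left.base = Set.univ :=
    IsClopen.eq_univ (α := Y) hclopen ⟨y, hy'⟩
  have hsurj : Surjective (equalizer.ι f' g').left := ⟨Set.range_eq_univ.mp huniv⟩
  have hiso : IsIso (equalizer.ι f' g').left :=
    (isIso_iff_isOpenImmersion_and_surjective _).mpr ⟨hop, hsurj⟩
  rw [← cancel_epi (equalizer.ι f' g').left]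
  exact congr($(equalizer.condition f' g').left)

end Groth.Agent.S0063
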