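import Groth.Statements.S0862
import Groth.Agent.Lib.Helper5.ExtColim
import Groth.Agent.Lib.Helper5.SiteColimSections
import Groth.Agent.Lib.Helper5.CechColim
import Groth.Agent.Lib.Helper13.CechSiteApp
import Groth.Agent.Lib.Helper13.CechInjective

set_option autoImplicit false
universe u
open CategoryTheory
open CohSite

namespace Groth.Agent.S0862

open Opposite CategoryTheory.Limits in
/-- Let C be a site with fibre products, B a class of objects and Cov a class of finite covering
families such that (1) for a family in Cov over U, U and all iterated fibre products of its members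
lie in B, and (2) every covering sieve of a member of B contains a family from Cov. Then for every U
in B, every p and every filtered diagram of abelian sheaves, colim_i H^p(U, F_i) -> H^p(U, colim_i
F_i) is an isomorphism (phrased: H^p(U, -) preserves the colimit). -/
theorem result {C : Type u} [SmallCategory C] [HasPullbacks C]
    (J : GrothendieckTopology C) (B : Set C) (Cov : ∀ (U : C) (ι : Type u), (ι → Over U) → Prop)
    (h1 : ∀ (U : C) (ι : Type u) (Y : ι → Over U), Cov U ι Y → Finite ι ∧ U ∈ B ∧
      Sieve.ofArrows (fun i => (Y i).left) (fun i => (Y i).hom) ∈ J U ∧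
      ∀ (p : ℕ) (a : Fin (p + 1) → ι), (∏ᶜ fun k => Y (a k)).left ∈ B)
    (h2 : ∀ U ∈ B, ∀ T ∈ J U, ∃ (ι : Type u) (Y : ι → Over U), Cov U ι Y ∧ ∀ i, T.arrows (Y i).hom)
    (U : C) (hU : U ∈ B) (p : ℕ) (I : Type u) [SmallCategory I] [IsFiltered I]
    (F : I ⥤ Sheaf J AddCommGrpCat.{u}) :
    PreservesColimit F ((Sheaf.cohomologyPresheafFunctor J p).flip.obj (op U)) := by
  classical
  let M : Sheaf J AddCommGrpCat.{u} := CohCx.freeSheaf J U
  have h0 : ∀ G : I ⥤ Sheaf J AddCommGrpCat.{u},
      Groth.Agent.Lib.Helper5.ExtColim.Surj M G 0 ∧ Groth.Agent.Lib.Helper5.ExtColim.Inj M G 0 := by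
    intro G
    constructor
    · apply Groth.Agent.Lib.Helper5.ExtColim.surj_zero_of_hom
      intro x
      obtain ⟨i, t, ht⟩ := Groth.Agent.Lib.Helper5.SiteColimSections.sections_surj G B Cov h1 h2
        (colimit.cocone G) (colimit.isColimit G) hU (CohFree.evalGen J U _ x)
      refine ⟨i, CohFree.ofSect J U _ t, ?_⟩
      apply (CohFree.homEquivSect J U _).injective
      rw [CohFree.homEquivSect_apply, CohFree.homEquivSect_apply]
      change ((colimit.ι G i).hom.app (op U)).hom
        (CohFree.evalGen J U _ (CohFree.ofSect J U _ t)) = _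
      rw [CohFree.evalGen_ofSect]
      exact ht
    · apply Groth.Agent.Lib.Helper5.ExtColim.inj_zero_of_hom
      intro i y hy
      have hy' : ((colimit.ι G i).hom.app (op U)).hom (CohFree.evalGen J U _ y) = 0 := by
        have := congrArg (CohFree.evalGen J U _) hy
        rw [map_zero] at this
        exact this
      obtain ⟨j, f, hf⟩ := Groth.Agent.Lib.Helper5.SiteColimSections.sections_inj G B Cov h1 h2
        (colimit.cocone G) (colimit.isColimit G) hU i (CohFree.evalGen J U _ y) hy'
      refine ⟨j, f, ?_⟩
      apply (CohFree.homEquivSect J U _).injective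
      rw [map_zero, CohFree.homEquivSect_apply]
      exact hf
  have hb : ∀ E : I ⥤ Sheaf J AddCommGrpCat.{u}, (∀ i, Injective (E.obj i)) →
      ∀ (n : ℕ) (x : Abelian.Ext.{u} M (colimit E) (n + 1)), x = 0 := by
    intro E hE n x
    have hsub := Groth.Agent.Lib.Helper13.CechSiteApp.subsingleton_HU_of_cech B Cov
      (fun V ι Y hY => ⟨(h1 V ι Y hY).2.2.1, (h1 V ι Y hY).2.2.2⟩) h2 (colimit E) ?_ U hU n
    · exact @Subsingleton.elim _ hsub x 0
    · intro V ι Y hY p
      obtain ⟨hfin, -, hcov, hprod⟩ := h1 V ι Y hY
      haveI := hfin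
      rw [← Groth.Agent.Lib.Helper13.CechLow.cechExact_iff]
      refine Groth.Agent.Lib.Helper5.CechColim.cechExact_of_colim Y
        (E ⋙ sheafToPresheaf J _ ⋙ (Functor.whiskeringLeft _ _ _).obj (Over.forget V).op)
        (R := (Over.forget V).op ⋙ (colimit E).obj)
        (fun i => Functor.whiskerLeft (Over.forget V).op (colimit.ι E i).hom) ?_ p ?_ ?_ ?_
      · intro i j f
        have := colimit.w E f
        ext W : 2
        exact NatTrans.congr_app (congrArg (fun φ => φ.hom) this) (op W.unop.left)
      · intro a s
        exact Groth.Agent.Lib.Helper5.SiteColimSections.sections_surj E B Cov h1 h2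
          (colimit.cocone E) (colimit.isColimit E) (hprod _ a) s
      · intro a i t ht
        exact Groth.Agent.Lib.Helper5.SiteColimSections.sections_inj E B Cov h1 h2
          (colimit.cocone E) (colimit.isColimit E) (hprod _ a) i t ht
      · intro i
        haveI := hE i
        exact (Groth.Agent.Lib.Helper13.CechLow.cechExact_iff Y _ p).2
          (Groth.Agent.Lib.Helper13.CechInjective.isZero_cechH_site J (E.obj i) Y p)
  have key := Groth.Agent.Lib.Helper5.ExtColim.main M h0 hb p F
  let e' : Abelian.extFunctorObj.{u} M p ≅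
      (Sheaf.cohomologyPresheafFunctor J p).flip.obj (op U) :=
    NatIso.ofComponents (fun _ => Iso.refl _)
  exact preservesColimit_of_natIso F e'

end Groth.Agent.S0862
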