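import Groth.Statements.S0468
import Groth.Agent.S0862

set_option autoImplicit false
universe u
open CategoryTheory
open CohTop

namespace Groth.Agent.S0468

open TopologicalSpace Opposite CategoryTheory.Limits in
/-- Let X be a space whose compact opens form a basis and are stable under pairwise intersections, U a
compact open and (F_i) a directed system of abelian sheaves. Then colim H^q(U, F_i) → H^q(U, colim
F_i) is an isomorphism; stated as: H^q(U, -) preserves colimits of shape ι for every nonempty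
directed preorder ι. -/
theorem result {X : TopCat.{u}} [PrespectralSpace X] [QuasiSeparatedSpace X]
    (U : Opens X) (hU : IsCompact (U : Set X))
    (ι : Type u) [Preorder ι] [IsDirected ι (· ≤ ·)] [Nonempty ι] (q : ℕ) :
    PreservesColimitsOfShape ι
      ((Sheaf.cohomologyPresheafFunctor (Opens.grothendieckTopology X) q).flip.obj (op U) :
        CohTop.Ab X ⥤ AddCommGrpCat.{u}) := by
  classical
  constructor
  intro F
  let J := Opens.grothendieckTopology X
  let B : Set (Opens X) := {V | IsCompact (V : Set X)}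
  let Cov : ∀ (V : Opens X) (κ : Type u), (κ → Over V) → Prop := fun V κ Y =>
    Finite κ ∧ IsCompact (V : Set X) ∧ (∀ k, IsCompact ((Y k).left : Set X)) ∧
      Sieve.ofArrows (fun i => (Y i).left) (fun i => (Y i).hom) ∈ J V
  refine Groth.Agent.S0862.result J B Cov ?_ ?_ U hU q ι F
  · rintro V κ Y ⟨hfin, hV, hY, hcov⟩
    refine ⟨hfin, hV, hcov, fun p a => ?_⟩
    have hW : (∏ᶜ fun k => Y (a k)).left = ⨅ k, (Y (a k)).left := by
      apply le_antisymm
      · exact le_iInf fun k => leOfHom (Pi.π (fun k => Y (a k)) k).left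
      · have h : (⨅ k, (Y (a k)).left) ≤ V := (iInf_le _ 0).trans (leOfHom (Y (a 0)).hom)
        let Z : Over V := Over.mk (homOfLE h)
        let φ : Z ⟶ ∏ᶜ fun k => Y (a k) :=
          Pi.lift (fun k => Over.homMk (homOfLE (iInf_le _ k)) (Subsingleton.elim _ _))
        exact leOfHom φ.left
    show IsCompact (((∏ᶜ fun k => Y (a k)).left : Opens X) : Set X)
    rw [hW, Opens.coe_iInf, ← Set.sInter_range]
    apply QuasiSeparatedSpace.isCompact_sInter_of_nonempty (Set.finite_range _)
      (Set.range_nonempty _)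
    · rintro _ ⟨k, rfl⟩; exact Or.inl (Y (a k)).left.isOpen
    · rintro _ ⟨k, rfl⟩; exact hY (a k)
  · intro V hV T hT
    have hx : ∀ x : V, ∃ W : Opens X, ∃ hW : W ≤ V, IsCompact (W : Set X) ∧
        T.arrows (homOfLE hW) ∧ (x : X) ∈ W := by
      intro x
      obtain ⟨W, f, hf, hxW⟩ := hT x.1 x.2
      obtain ⟨W', ⟨hW'o, hW'c⟩, hxW', hW'W⟩ :=
        PrespectralSpace.isTopologicalBasis.exists_subset_of_mem_open hxW W.isOpen
      have hle : (⟨W', hW'o⟩ : Opens X) ≤ W := hW'W
      refine ⟨⟨W', hW'o⟩, hle.trans (leOfHom f), hW'c, ?_, hxW'⟩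
      have := T.downward_closed hf (homOfLE hle)
      exact this
    choose W hWV hWc hWT hxW using hx
    obtain ⟨t, ht⟩ := hV.elim_finite_subcover (fun x : V => (W x : Set X))
      (fun x => (W x).isOpen) (fun y hy => Set.mem_iUnion.2 ⟨⟨y, hy⟩, hxW ⟨y, hy⟩⟩)
    refine ⟨t, fun k => Over.mk (homOfLE (hWV k.1)), ⟨inferInstance, hV, fun k => hWc k.1, ?_⟩,
      fun k => hWT k.1⟩
    intro y hy
    obtain ⟨x, hxt, hyx⟩ := Set.mem_iUnion₂.1 (ht hy)
    exact ⟨W x, homOfLE (hWV x), Sieve.ofArrows_mk _ _ (⟨x, hxt⟩ : t), hyx⟩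

end Groth.Agent.S0468
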