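import Groth.Statements.S6267
import Mathlib
-- import your own Groth.Agent.* helpers here

set_option autoImplicit false
universe u
open CAlg
open scoped TensorProduct

namespace Groth.Agent.S6267

section aux
open TensorProduct

variable {R : Type u} [CommRing R]

/-- the multiplication map `I ⊗ N → N` -/
noncomputable abbrev mulMap (I : Ideal R) (N : Type u) [AddCommGroup N] [Module R N] :
    I ⊗[R] N →ₗ[R] N :=
  TensorProduct.lift ((LinearMap.lsmul R N).comp I.subtype)

theorem mulMap_tmul (I : Ideal R) (N : Type u) [AddCommGroup N] [Module R N] (i : I) (n : N) :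
    mulMap I N (i ⊗ₜ[R] n) = (i : R) • n := by
  simp [mulMap]

theorem mulMap_natural (I : Ideal R) {N N' : Type u} [AddCommGroup N] [Module R N]
    [AddCommGroup N'] [Module R N'] (φ : N →ₗ[R] N') (z : I ⊗[R] N) :
    φ (mulMap I N z) = mulMap I N' ((φ.lTensor I) z) := by
  induction z using TensorProduct.induction_on with
  | zero => simp
  | tmul i n => rw [mulMap_tmul, LinearMap.lTensor_tmul, mulMap_tmul, map_smul]
  | add x y hx hy => simp only [map_add, hx, hy]

theorem mulMap_mem (I : Ideal R) (N : Type u) [AddCommGroup N] [Module R N] (z : I ⊗[R] N) :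
    mulMap I N z ∈ I • (⊤ : Submodule R N) := by
  induction z using TensorProduct.induction_on with
  | zero => simp
  | tmul i n => rw [mulMap_tmul]; exact Submodule.smul_mem_smul i.2 Submodule.mem_top
  | add x y hx hy => rw [map_add]; exact Submodule.add_mem _ hx hy

theorem exists_mulMap_eq (I : Ideal R) (N : Type u) [AddCommGroup N] [Module R N] (m : N)
    (hm : m ∈ I • (⊤ : Submodule R N)) : ∃ z, mulMap I N z = m := by
  refine Submodule.smul_induction_on hm ?_ ?_
  · intro i hi n _
    exact ⟨(⟨i, hi⟩ : I) ⊗ₜ[R] n, by rw [mulMap_tmul]⟩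
  · rintro x y ⟨zx, rfl⟩ ⟨zy, rfl⟩
    exact ⟨zx + zy, map_add _ _ _⟩

theorem tmul_one_eq_zero_iff (I : Ideal R) {N : Type u} [AddCommGroup N] [Module R N] (m : N) :
    m ⊗ₜ[R] (1 : R ⧸ I) = 0 ↔ m ∈ I • (⊤ : Submodule R N) := by
  rw [← (TensorProduct.tensorQuotEquivQuotSMul N I).map_eq_zero_iff,
    ← map_one (Ideal.Quotient.mk I), TensorProduct.tensorQuotEquivQuotSMul_tmul_mk, one_smul,
    Submodule.Quotient.mk_eq_zero]

theorem tensor_comm_sq {A B : Type u} [AddCommGroup A] [Module R A] [AddCommGroup B] [Module R B]
    {N P : Type u} [AddCommGroup N] [Module R N] [AddCommGroup P] [Module R P]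
    (φ : A →ₗ[R] B) (i : N →ₗ[R] P) (t : A ⊗[R] N) :
    (i.lTensor B) ((φ.rTensor N) t) = (φ.rTensor P) ((i.lTensor A) t) := by
  rw [← LinearMap.comp_apply, ← LinearMap.comp_apply, LinearMap.lTensor_comp_rTensor,
    LinearMap.rTensor_comp_lTensor]

variable {M M' : Type u} [AddCommGroup M] [Module R M] [AddCommGroup M'] [Module R M']

/-- (a): if `M'` is flat and `M/IM → M'/IM'` is injective for all f.g. `I` then the cokernel is
flat. -/
theorem flat_quotient_of_inj (f : M →ₗ[R] M') [Module.Flat R M']
    (h : ∀ I : Ideal R, I.FG → Function.Injective (f.rTensor (R ⧸ I))) :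
    Module.Flat R (M' ⧸ LinearMap.range f) := by
  rw [Module.Flat.iff_lift_lsmul_comp_subtype_injective]
  intro I hI
  have hgsurj : Function.Surjective (LinearMap.range f).mkQ := Submodule.mkQ_surjective _
  have hgf : (LinearMap.range f).mkQ ∘ₗ f = 0 := by
    ext m
    simp
  have hflat' : Function.Injective (mulMap I M') :=
    Module.Flat.iff_lift_lsmul_comp_subtype_injective.mp inferInstance hI
  show Function.Injective (mulMap I (M' ⧸ LinearMap.range f))
  rw [injective_iff_map_eq_zero]
  intro x hx
  obtain ⟨y, rfl⟩ := LinearMap.lTensor_surjective I hgsurj x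
  rw [← mulMap_natural] at hx
  have hy : mulMap I M' y ∈ LinearMap.range f := by
    rw [Submodule.mkQ_apply, Submodule.Quotient.mk_eq_zero] at hx
    exact hx
  obtain ⟨m, hm⟩ := hy
  have hmI : m ∈ I • (⊤ : Submodule R M) := by
    rw [← tmul_one_eq_zero_iff]
    apply h I hI
    rw [map_zero, LinearMap.rTensor_tmul, hm, tmul_one_eq_zero_iff]
    exact mulMap_mem I M' y
  obtain ⟨z, hz⟩ := exists_mulMap_eq I M m hmI
  have hzy : (f.lTensor I) z = y := by
    apply hflat'
    rw [← mulMap_natural, hz, hm]
  rw [← hzy, ← LinearMap.comp_apply, ← LinearMap.lTensor_comp, hgf]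
  simp

/-- diagram chase -/
theorem chase {C N F Q : Type u} [AddCommGroup C] [Module R C] [AddCommGroup N] [Module R N]
    [AddCommGroup F] [Module R F] [AddCommGroup Q] [Module R Q]
    (f : M →ₗ[R] M') (g : M' →ₗ[R] C) (hexact : Function.Exact f g) (hgsurj : Function.Surjective g)
    (ι : N →ₗ[R] F) (π : F →ₗ[R] Q) (hιπ : Function.Exact ι π) (hπ : Function.Surjective π)
    (hfF : Function.Injective (f.rTensor F)) (hιC : Function.Injective (ι.lTensor C)) :
    Function.Injective (f.rTensor Q) := by
  have hgf : g ∘ₗ f = 0 := by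
    ext m
    exact hexact.apply_apply_eq_zero m
  have hπι : π ∘ₗ ι = 0 := by
    ext v
    exact hιπ.apply_apply_eq_zero v
  rw [injective_iff_map_eq_zero]
  intro x hx
  obtain ⟨y, rfl⟩ := LinearMap.lTensor_surjective M hπ x
  rw [← tensor_comm_sq] at hx
  obtain ⟨w, hw⟩ := (lTensor_exact M' hιπ hπ ((f.rTensor F) y)).mp hx
  have h3 : (g.rTensor N) w = 0 := by
    apply hιC
    rw [map_zero, tensor_comm_sq, hw, ← LinearMap.comp_apply, ← LinearMap.rTensor_comp, hgf]
    simp
  obtain ⟨v, hv⟩ := (rTensor_exact N hexact hgsurj w).mp h3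
  have h4 : (ι.lTensor M) v = y := by
    apply hfF
    rw [← tensor_comm_sq, hv, hw]
  rw [← h4, ← LinearMap.comp_apply, ← LinearMap.lTensor_comp, hπι]
  simp

/-- (b): an injective map with flat cokernel is universally injective. -/
theorem rTensor_injective_of_flat_quotient (f : M →ₗ[R] M') (hf : Function.Injective f)
    [Module.Flat R (M' ⧸ LinearMap.range f)] (Q : Type u) [AddCommGroup Q] [Module R Q] :
    Function.Injective (f.rTensor Q) := by
  classical
  have hgsurj : Function.Surjective (LinearMap.range f).mkQ := Submodule.mkQ_surjective _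
  have hexact : Function.Exact f (LinearMap.range f).mkQ := by
    rw [LinearMap.exact_iff]
    simp
  have hπ : Function.Surjective (Finsupp.linearCombination R (id : Q → Q)) :=
    Finsupp.linearCombination_id_surjective R Q
  have hιπ : Function.Exact (LinearMap.ker (Finsupp.linearCombination R (id : Q → Q))).subtype
      (Finsupp.linearCombination R (id : Q → Q)) := by
    rw [LinearMap.exact_iff]
    simp
  have hfF : Function.Injective (f.rTensor (Q →₀ R)) :=
    Module.Flat.rTensor_preserves_injective_linearMap f hf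
  have hιC : Function.Injective
      ((LinearMap.ker (Finsupp.linearCombination R (id : Q → Q))).subtype.lTensor
        (M' ⧸ LinearMap.range f)) :=
    Module.Flat.lTensor_preserves_injective_linearMap _ (Submodule.injective_subtype _)
  exact chase (N := ↥(LinearMap.ker (Finsupp.linearCombination R (id : Q → Q)))) f
    (LinearMap.range f).mkQ hexact hgsurj
    (LinearMap.ker (Finsupp.linearCombination R (id : Q → Q))).subtype
    (Finsupp.linearCombination R (id : Q → Q)) hιπ hπ hfF hιC

end aux

/-- Let R be a ring and f : M → M' a map of R-modules with M' flat. Then f is universally injective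
exactly when, for each finitely generated ideal I of R, the induced map M ⊗ R/I → M' ⊗ R/I (that is,
M/IM → M'/IM') is injective. -/
theorem result {R : Type u} [CommRing R] {M M' : Type u} [AddCommGroup M] [Module R M] [AddCommGroup M'] [Module R M'] [Module.Flat R M'] (f : M →ₗ[R] M') : CAlgX.UniversallyInjective R f ↔ ∀ I : Ideal R, I.FG → Function.Injective (f.rTensor (R ⧸ I)) := by
  constructor
  · intro h I _
    exact h (R ⧸ I)
  · intro h
    have hflat : Module.Flat R (M' ⧸ LinearMap.range f) := flat_quotient_of_inj f h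
    have hf : Function.Injective f := by
      rw [injective_iff_map_eq_zero]
      intro m hm
      have h0 : m ⊗ₜ[R] (1 : R ⧸ (⊥ : Ideal R)) = 0 := by
        apply h ⊥ Submodule.fg_bot
        rw [map_zero, LinearMap.rTensor_tmul, hm, TensorProduct.zero_tmul]
      rw [tmul_one_eq_zero_iff, Submodule.bot_smul, Submodule.mem_bot] at h0
      exact h0
    intro Q _ _
    exact rTensor_injective_of_flat_quotient f hf Q

end Groth.Agent.S6267
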