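import Groth.Statements.S9515
import Mathlib
import Groth.Agent.Lib.Helper17.Deligne2

set_option autoImplicit false
universe u
open CategoryTheory CategoryTheory.Limits AlgebraicGeometry
attribute [local instance] HasDerivedCategory.standard
open Coherent

namespace Groth.Agent.S9515

/-- Let X be a Noetherian scheme, F a quasi-coherent O_X-module, G a coherent O_X-module and I a
quasi-coherent sheaf of ideals, with U the open complement of the closed subset cut out by I. For
every morphism φ : G|_U → F|_U there are an n ≥ 0 and a morphism ψ : I^n G → F whose restriction to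
U is the restriction of the inclusion I^n G → G followed by φ. (Here I^n G ⊆ G is the submodule
sheaf Dual3.idealMul (I^n) G.) -/
theorem result (X : Scheme.{u}) [IsNoetherian X] (F G : X.Modules)
    (hF : Coh.IsQCoh F) (hG : Coh.IsCoh G) (I : X.IdealSheafData)
    (U : X.Opens) (hU : (U : Set X) = (I.support : Set X)ᶜ)
    (φ : (Scheme.Modules.restrictFunctor U.ι).obj G ⟶
      (Scheme.Modules.restrictFunctor U.ι).obj F) :
    ∃ (n : ℕ) (ψ : (Dual3.idealMul (I ^ n)).obj G ⟶ F),
      (Scheme.Modules.restrictFunctor U.ι).map ψ =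
        (Scheme.Modules.restrictFunctor U.ι).map (Dual3.idealMulι (I ^ n) G) ≫ φ := by
  classical
  haveI := hF
  haveI := hG.1
  haveI := hG.2
  obtain ⟨P₁, q, r, hq, hP₁, hiso, hcomp⟩ :=
    Groth.Agent.Lib.Helper17.Deligne.exists_partial_lift F G hF hG U φ
  haveI := hq
  haveI := hiso
  haveI := hP₁.1
  have hC : Coh.IsCoh (cokernel q) :=
    Groth.Agent.Lib.Helper17.DevBasic.isCoh_cokernel q hP₁.1 hG
  have hsupp : CohB1.support (cokernel q) ⊆ (I.support : Set X) := by
    have := Groth.Agent.Lib.Helper17.Deligne.support_cokernel_subset U q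
    rwa [hU, compl_compl] at this
  obtain ⟨n, hn⟩ := Groth.Agent.Lib.Helper17.Deligne.exists_pow_killed' (cokernel q) hC I hsupp
  have h0 : Dual3.idealMulι (I ^ n) G ≫ cokernel.π q = 0 :=
    Groth.Agent.Lib.Helper17.Deligne.idealMulι_comp_eq_zero (I ^ n) G (cokernel q) hn _
  let l : (Dual3.idealMul (I ^ n)).obj G ⟶ P₁ := Abelian.monoLift q (Dual3.idealMulι (I ^ n) G) h0
  have hl : l ≫ q = Dual3.idealMulι (I ^ n) G := Abelian.monoLift_comp _ _ _
  refine ⟨n, l ≫ r, ?_⟩
  let adj := Scheme.Modules.restrictAdjunction U.ι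
  apply (adj.homEquiv _ _).injective
  rw [Adjunction.homEquiv_unit, Adjunction.homEquiv_unit]
  have hnat1 : adj.unit.app _ ≫ (Scheme.Modules.pushforward U.ι).map
      ((Scheme.Modules.restrictFunctor U.ι).map (l ≫ r)) = (l ≫ r) ≫ adj.unit.app F :=
    (adj.unit.naturality (l ≫ r)).symm
  have hnat2 : adj.unit.app _ ≫ (Scheme.Modules.pushforward U.ι).map
      ((Scheme.Modules.restrictFunctor U.ι).map (Dual3.idealMulι (I ^ n) G)) =
      Dual3.idealMulι (I ^ n) G ≫ adj.unit.app G :=
    (adj.unit.naturality (Dual3.idealMulι (I ^ n) G)).symm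
  rw [hnat1, Functor.map_comp, ← Category.assoc, hnat2, Category.assoc, Category.assoc]
  have hcomp' : r ≫ adj.unit.app F = q ≫ adj.unit.app G ≫ (Scheme.Modules.pushforward U.ι).map φ :=
    hcomp
  rw [hcomp', ← Category.assoc l, hl]

end Groth.Agent.S9515
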