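-- Statement S9384.
import Groth.Statements.S9384
import Mathlib
import Groth.Agent.Lib.Helper1.ConormSeq
import Groth.Agent.Lib.Helper1.QcMono
set_option linter.style.haveILetI false

set_option autoImplicit false
universe u
open OmegaSh

namespace Groth.Agent.S9384

open CategoryTheory CategoryTheory.Limits AlgebraicGeometry TopologicalSpace Opposite
open Groth.Agent.Lib.Helper1

open AlgebraicGeometry CategoryTheory Limits in
/-- Let i : Z → X be a quasi-compact immersion of schemes over S admitting a left inverse g : X → Z over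
S. Then the canonical sequence 0 → C_{Z/X} → i^*Ω_{X/S} → Ω_{Z/S} → 0 is split exact (receptacle
form; the maps are pinned by their values on sections). (The published statement also covers
immersions with only a local left inverse, where the sequence is locally split, and arbitrary
immersions; this row assumes a global left inverse over S and i quasi-compact. The case of a section
s of a morphism p : X → S, where Ω_{S/S} = 0 and the map C_{S/X} → s^*Ω_{X/S} is an isomorphism, is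
the instance Z = S, i = s, g = p.) -/
theorem result {Z X S : Scheme.{u}} (f : X ⟶ S) (i : Z ⟶ X) [IsImmersion i] [QuasiCompact i]
    (g : X ⟶ Z) (hgi : i ≫ g = 𝟙 Z) (hgS : g ≫ i ≫ f = f)
    (ΩX : X.Modules) (dX : OmegaSh.Der f ΩX) (hX : OmegaSh.IsUniversal dX)
    (ΩZ : Z.Modules) (dZ : OmegaSh.Der (i ≫ f) ΩZ) (hZ : OmegaSh.IsUniversal dZ)
    (φ : Omega.conormal i ⟶ (Scheme.Modules.pullback i).obj ΩX) (hφ : OmegaSh.IsConormalDiff i dX φ)
    (c : (Scheme.Modules.pullback i).obj ΩX ⟶ ΩZ) (hc : OmegaSh.IsDiffCompat i dX dZ c) :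
    ∃ w : φ ≫ c = 0, (ShortComplex.mk φ c w).Exact ∧ (∃ r : (Scheme.Modules.pullback i).obj ΩX ⟶ Omega.conormal i, φ ≫ r = 𝟙 _) ∧
      ∃ σ : ΩZ ⟶ (Scheme.Modules.pullback i).obj ΩX, σ ≫ c = 𝟙 _ := by
  haveI qX : ΩX.IsQuasicoherent := DerSmooth.isQuasicoherent f dX hX
  haveI qZ : ΩZ.IsQuasicoherent := DerSmooth.isQuasicoherent (i ≫ f) dZ hZ
  haveI qN : ((Scheme.Modules.pullback i).obj ΩX).IsQuasicoherent :=
    Groth.Agent.Lib.Helper17.PbStalk.isQuasicoherent_pullback i ΩX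
  haveI qC : (Omega.conormal i).IsQuasicoherent :=
    Groth.Agent.Lib.Helper17.PbStalk.isQuasicoherent_pullback i (ClSub.idealMod i.ker)
  have w := ConormSeq.comp_eq_zero f i dX dZ φ hφ c hc
  have hex : (ShortComplex.mk φ c w).Exact := by
    apply ModLocal.exact_of_exact_on_affine_cover
    intro z
    obtain ⟨_, ⟨VS : S.Opens, hVS, rfl⟩, hzVS, -⟩ := S.isBasis_affineOpens.exists_subset_of_mem_open
      (Set.mem_univ (f (i z))) isOpen_univ
    obtain ⟨U, hU, hzU, hUle, hV, hs⟩ := Conorm.exists_good i z (f ⁻¹ᵁ VS) hzVS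
    exact ⟨i ⁻¹ᵁ U, hV, hzU, fun m hm =>
      ConormSeq.exact_on_good f i dX hX dZ hZ φ hφ c hc hU hV hs hVS hUle m hm⟩
  haveI hmono : Mono φ := by
    apply QcMono.mono_of_injective_on_affine_cover
    intro z
    obtain ⟨_, ⟨VS : S.Opens, hVS, rfl⟩, hzVS, -⟩ := S.isBasis_affineOpens.exists_subset_of_mem_open
      (Set.mem_univ (f (i z))) isOpen_univ
    obtain ⟨U, hle, hU, hzU, hUle, hV, hρ⟩ :=
      Conorm.exists_good_with_retraction i g hgi z (f ⁻¹ᵁ VS) hzVS
    have hs : Function.Surjective (i.app U) := fun s => ⟨_, hρ s⟩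
    refine ⟨i ⁻¹ᵁ U, hV, hzU, ?_⟩
    refine ConormSeq.injective_on_good f i dX hX dZ hZ φ hφ c hc hU hV hs hVS hUle
      (g.appLE (i ⁻¹ᵁ U) U hle).hom ?_ hρ
    intro a
    have hgS' : (g ≫ i) ≫ f = f := (Category.assoc _ _ _).trans hgS
    have h1 : f.appLE VS U hUle ≫ i.appLE U (i ⁻¹ᵁ U) le_rfl ≫ g.appLE (i ⁻¹ᵁ U) U hle =
        ((g ≫ i) ≫ f).appLE VS U (by rw [hgS']; exact hUle) := by
      rw [Scheme.Hom.appLE_comp_appLE, Scheme.Hom.appLE_comp_appLE]
    have h2 : ∀ (k : X ⟶ S) (hk : k = f) (e : U ≤ k ⁻¹ᵁ VS), k.appLE VS U e = f.appLE VS U hUle := by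
      intro k hk e
      subst hk
      rfl
    rw [h2 _ hgS', Conorm.appLE_refl] at h1
    exact congr($h1 a)
  obtain ⟨σ, hσ⟩ := ConormSeq.exists_section f i g hgi hgS ΩX dX ΩZ dZ hZ c hc
  refine ⟨w, hex, ?_, σ, hσ⟩
  have hk : (𝟙 _ - c ≫ σ) ≫ (ShortComplex.mk φ c w).g = 0 := by
    change (𝟙 _ - c ≫ σ) ≫ c = 0
    rw [Preadditive.sub_comp, Category.id_comp, Category.assoc, hσ, Category.comp_id, sub_self]
  refine ⟨hex.lift (𝟙 _ - c ≫ σ) hk, ?_⟩
  rw [← cancel_mono φ, Category.assoc]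
  have := hex.lift_f (𝟙 _ - c ≫ σ) hk
  change hex.lift (𝟙 _ - c ≫ σ) hk ≫ φ = _ at this
  rw [this, Preadditive.comp_sub, Category.comp_id, ← Category.assoc, w, zero_comp, sub_zero,
    Category.id_comp]

end Groth.Agent.S9384
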