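-- Statement S9386.
import Groth.Statements.S9386
import Mathlib
import Groth.Agent.Lib.Helper1.OmBC
import Groth.Agent.Lib.Helper1.QcIso

set_option autoImplicit false
set_option linter.style.haveILetI false
universe u
open OmegaSh

namespace Groth.Agent.Lib.Helper1.OmBCApp

open Groth.Agent.Lib.Helper1 TensorProduct
open CategoryTheory CategoryTheory.Limits AlgebraicGeometry TopologicalSpace Opposite

/-- the canonical map is the Mathlib base change equivalence -/
theorem liftBaseChange_bijective_of_isPushout (R S A B : Type u) [CommRing R] [CommRing S]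
    [CommRing A] [CommRing B] [Algebra R S] [Algebra R A] [Algebra S B] [Algebra A B] [Algebra R B]
    [IsScalarTower R A B] [IsScalarTower R S B] [Algebra.IsPushout R S A B] :
    Function.Bijective ((KaehlerDifferential.map R S A B).liftBaseChange B) := by
  have key : ∀ (ω : Ω[A⁄R]) (b : B), (KaehlerDifferential.map R S A B).liftBaseChange B (b ⊗ₜ ω) =
      KaehlerDifferential.tensorKaehlerEquiv R S A B (b ⊗ₜ ω) := by
    intro ω
    have hω : ω ∈ Submodule.span A (Set.range (KaehlerDifferential.D R A)) := by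
      rw [KaehlerDifferential.span_range_derivation]; trivial
    induction hω using Submodule.span_induction with
    | mem y hy =>
      obtain ⟨a, rfl⟩ := hy
      intro b
      rw [LinearMap.liftBaseChange_tmul, KaehlerDifferential.map_D,
        KaehlerDifferential.tensorKaehlerEquiv_tmul_D]
    | zero => intro b; simp only [tmul_zero, map_zero]
    | add y z _ _ hy hz => intro b; simp only [tmul_add, map_add, hy, hz]
    | smul r y _ hy =>
      intro b
      rw [← TensorProduct.smul_tmul]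
      exact hy _
  have : ((KaehlerDifferential.map R S A B).liftBaseChange B : B ⊗[A] Ω[A⁄R] → Ω[B⁄S]) =
      KaehlerDifferential.tensorKaehlerEquiv R S A B := by
    funext z
    induction z using TensorProduct.induction_on with
    | zero => simp only [map_zero]
    | add x y hx hy => simp only [map_add, hx, hy]
    | tmul b ω => exact key ω b
  rw [this]
  exact (KaehlerDifferential.tensorKaehlerEquiv R S A B).bijective

theorem isIso_of_isPullback {X S X' S' : Scheme.{u}} (f : X ⟶ S) (g : S' ⟶ S) (g' : X' ⟶ X)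
    (f' : X' ⟶ S')
    (hsq : IsPullback g' f' f g) (Ω : X.Modules) (d : OmegaSh.Der f Ω) (hd : OmegaSh.IsUniversal d)
    (Ω' : X'.Modules) (d' : OmegaSh.Der f' Ω') (hd' : OmegaSh.IsUniversal d')
    (c : (Scheme.Modules.pullback g').obj Ω ⟶ Ω') (hc : OmegaSh.IsDiffCompat g' d d' c) :
    IsIso c := by
  haveI : Ω.IsQuasicoherent := DerSmooth.isQuasicoherent f d hd
  haveI : Ω'.IsQuasicoherent := DerSmooth.isQuasicoherent f' d' hd'
  haveI : ((Scheme.Modules.pullback g').obj Ω).IsQuasicoherent :=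
    Groth.Agent.Lib.Helper17.PbStalk.isQuasicoherent_pullback g' Ω
  apply QcIso.isIso_of_bijective_on_affine_cover
  intro x'
  -- choose the affine opens
  obtain ⟨_, ⟨V : S.Opens, hV, rfl⟩, hsV, -⟩ := S.isBasis_affineOpens.exists_subset_of_mem_open
    (Set.mem_univ (f (g' x'))) isOpen_univ
  have hs' : g (f' x') ∈ V := by
    have : g (f' x') = f (g' x') := by
      rw [← Scheme.Hom.comp_apply, ← Scheme.Hom.comp_apply, hsq.w]
    rw [this]; exact hsV
  obtain ⟨_, ⟨V' : S'.Opens, hV', rfl⟩, hxV', hV'V⟩ :=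
    S'.isBasis_affineOpens.exists_subset_of_mem_open
      (show f' x' ∈ ((g ⁻¹ᵁ V : S'.Opens) : Set S') from hs') (g ⁻¹ᵁ V).2
  obtain ⟨_, ⟨U : X.Opens, hU, rfl⟩, hxU, hUV⟩ :=
    X.isBasis_affineOpens.exists_subset_of_mem_open
      (show g' x' ∈ ((f ⁻¹ᵁ V : X.Opens) : Set X) from hsV) (f ⁻¹ᵁ V).2
  have eg : V' ≤ g ⁻¹ᵁ V := hV'V
  have ef : U ≤ f ⁻¹ᵁ V := hUV
  let U' : X'.Opens := g' ⁻¹ᵁ U ⊓ f' ⁻¹ᵁ V'
  have hU' : IsAffineOpen U' := by
    have : IsAffine _ := hU
    have : IsAffine _ := hV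
    have : IsAffine _ := hV'
    exact .of_isIso (Scheme.Hom.isPullback_resLE hsq eg ef rfl).isoPullback.hom
  have eg' : U' ≤ g' ⁻¹ᵁ U := inf_le_left
  have ef' : U' ≤ f' ⁻¹ᵁ V' := inf_le_right
  refine ⟨U', hU', ⟨hxU, hxV'⟩, ?_⟩
  -- the pushout square of rings
  have hpo : IsPushout (f.appLE V U ef) (g.appLE V V' eg) (g'.appLE U U' eg') (f'.appLE V' U' ef') :=
    (isIso_pushoutSection_iff hsq eg ef rfl).mp
      (isIso_pushoutSection_of_isAffineOpen hsq eg ef rfl hV hV' hU)
  letI alg₁ : Algebra Γ(S, V) Γ(X, U) := (f.appLE V U ef).hom.toAlgebra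
  letI alg₂ : Algebra Γ(S', V') Γ(X', U') := (f'.appLE V' U' ef').hom.toAlgebra
  letI alg₃ : Algebra Γ(X, U) Γ(X', U') := (g'.appLE U U' eg').hom.toAlgebra
  letI alg₄ : Algebra Γ(S, V) Γ(S', V') := (g.appLE V V' eg).hom.toAlgebra
  letI alg₅ : Algebra Γ(S, V) Γ(X', U') :=
    ((g'.appLE U U' eg').hom.comp (f.appLE V U ef).hom).toAlgebra
  haveI t₁ : IsScalarTower Γ(S, V) Γ(X, U) Γ(X', U') := IsScalarTower.of_algebraMap_eq fun _ => rfl
  haveI t₂ : IsScalarTower Γ(S, V) Γ(S', V') Γ(X', U') :=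
    IsScalarTower.of_algebraMap_eq fun a => congr($(hpo.w) a)
  haveI : Algebra.IsPushout Γ(S, V) Γ(S', V') Γ(X, U) Γ(X', U') :=
    CommRingCat.isPushout_iff_isPushout.mp hpo.flip
  obtain ⟨E, T, hET⟩ := OmBC.exists_equivs (p₁ := f) (p₂ := f') (f := g') (d₁ := d) (d₂ := d') (c := c) hc hd hd' hU hU' hV hV' eg' ef ef' rfl rfl rfl
  have hb := liftBaseChange_bijective_of_isPushout Γ(S, V) Γ(S', V') Γ(X, U) Γ(X', U')
  have : (c.app U' : _ → _) = T ∘ ((KaehlerDifferential.map Γ(S, V) Γ(S', V') Γ(X, U)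
      Γ(X', U')).liftBaseChange Γ(X', U')) ∘ E.symm := by
    funext y
    obtain ⟨z, rfl⟩ := E.surjective y
    rw [hET]
    simp only [Function.comp_apply, AddEquiv.symm_apply_apply]
  rw [this]
  exact T.bijective.comp (hb.comp E.symm.bijective)

end Groth.Agent.Lib.Helper1.OmBCApp

namespace Groth.Agent.S9386

open AlgebraicGeometry CategoryTheory in
/-- For a cartesian square X' = X ×_S S' with projection g' : X' → X, the canonical map g'^*Ω_{X/S} →
Ω_{X'/S'} is an isomorphism (receptacle form: Ω_{X/S}, Ω_{X'/S'} are any modules carrying universal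
derivations and the map is pinned by its values on pulled-back differentials). -/
theorem result {X S X' S' : Scheme.{u}} (f : X ⟶ S) (g : S' ⟶ S) (g' : X' ⟶ X) (f' : X' ⟶ S')
    (hsq : IsPullback g' f' f g) (Ω : X.Modules) (d : OmegaSh.Der f Ω) (hd : OmegaSh.IsUniversal d)
    (Ω' : X'.Modules) (d' : OmegaSh.Der f' Ω') (hd' : OmegaSh.IsUniversal d')
    (c : (Scheme.Modules.pullback g').obj Ω ⟶ Ω') (hc : OmegaSh.IsDiffCompat g' d d' c) : IsIso c := by
  exact Groth.Agent.Lib.Helper1.OmBCApp.isIso_of_isPullback f g g' f' hsq Ω d hd Ω' d' hd' c hc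

end Groth.Agent.S9386
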