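-- Statement S5005.
import Groth.Statements.S5005
import Mathlib
import Groth.Agent.Lib.Helper1.OmSect
import Groth.Agent.Lib.Helper1.DerExists
import Groth.Agent.Lib.Helper17.BaseChangeAff

set_option autoImplicit false
set_option linter.style.haveILetI false
universe u
open CategoryTheory CategoryTheory.Limits AlgebraicGeometry TopologicalSpace
open Nrm16

namespace Groth.Agent.Lib.Helper1.OmUniv

open Groth.Agent.Lib.Helper1 Groth.Agent.Lib.Helper1.DerStruct

variable {X Y : Scheme.{u}} {f : X ⟶ Y}

/-- transport of universality along an isomorphism of receptacles -/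
theorem isUniversal_postcomp_iso {Ω₁ Ω₂ : X.Modules} (d : OmegaSh.Der f Ω₁)
    (hd : OmegaSh.IsUniversal d) (α : Ω₁ ⟶ Ω₂) [IsIso α] :
    OmegaSh.IsUniversal (d.postcomp α.val) := by
  intro F D
  obtain ⟨β', hβ', hu⟩ := hd F D
  refine ⟨inv α ≫ β', ?_, fun β hβ => ?_⟩
  · refine (postcomp_comp d α (inv α ≫ β')).symm.trans ?_
    rw [IsIso.hom_inv_id_assoc]
    exact hβ'
  · have h1 : d.postcomp (α ≫ β).val = D := (postcomp_comp d α β).trans hβ
    rw [← hu _ h1, IsIso.inv_hom_id_assoc]

variable (f) [QuasiSeparated f]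

theorem isUniversal_dOmega : OmegaSh.IsUniversal (OmegaSh.dOmega f) := by
  have hd' := DerExists.isUniversal_dsh f
  obtain ⟨α, hα, -⟩ := hd' (Omega.sheaf f) (OmegaSh.dOmega f)
  haveI : (Omega.sheaf f).IsQuasicoherent :=
    Groth.Agent.Lib.Helper17.PbStalk.isQuasicoherent_pullback (pullback.diagonal f)
      (ClSub.idealMod (pullback.diagonal f).ker)
  haveI : IsIso α := by
    apply Groth.Agent.Lib.Helper17.UnitBC.isIso_of_bijective_on_basis
    intro W x hx
    obtain ⟨_, ⟨V₀ : Y.Opens, hV₀, rfl⟩, hfx, -⟩ := Y.isBasis_affineOpens.exists_subset_of_mem_open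
      (Set.mem_univ (f x)) isOpen_univ
    obtain ⟨_, ⟨U : X.Opens, hU, rfl⟩, hxU, hUW⟩ := X.isBasis_affineOpens.exists_subset_of_mem_open
      (show x ∈ ((W ⊓ f ⁻¹ᵁ V₀ : X.Opens) : Set X) from ⟨hx, hfx⟩) (W ⊓ f ⁻¹ᵁ V₀).2
    have hUW' : U ≤ W := fun y hy => (hUW hy).1
    have h : U ≤ f ⁻¹ᵁ V₀ := fun y hy => (hUW hy).2
    refine ⟨U, hU, hxU, hUW', ?_⟩
    have b1 := DerStruct.toSect_bijective f (DerExists.dsh f) hU hV₀ h hd'
    have b2 := OmSect.toSect_bijective f hU hV₀ h
    have hcomp : ∀ ω, α.app U (DerStruct.toSect f (DerExists.dsh f) V₀ U h ω) =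
        OmAff.toSect f V₀ U h ω := by
      let L : Γ(DerExists.Ωsh f, U) →ₗ[Γ(X, U)] Γ(Omega.sheaf f, U) :=
        { toFun := α.app U
          map_add' := map_add _
          map_smul' := fun r x => Scheme.Modules.Hom.app_smul α r x }
      have key := OmAff.toSect_unique f V₀ U h
        (DerStruct.toSect f (DerExists.dsh f) V₀ U h ≫ ModuleCat.ofHom L) (fun b => by
          change α.app U (DerStruct.toSect f (DerExists.dsh f) V₀ U h
            (CommRingCat.KaehlerDifferential.d b)) = _
          rw [DerStruct.toSect_d]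
          have := congrArg (fun E : OmegaSh.Der f (Omega.sheaf f) => E.app U b) hα
          exact this)
      intro ω
      exact congr($key ω)
    have : (α.app U : Γ(DerExists.Ωsh f, U) → Γ(Omega.sheaf f, U)) =
        (OmAff.toSect f V₀ U h) ∘ (Equiv.ofBijective _ b1).symm := by
      funext y
      obtain ⟨ω, rfl⟩ := b1.2 y
      rw [hcomp]
      change _ = OmAff.toSect f V₀ U h ((Equiv.ofBijective _ b1).symm ((Equiv.ofBijective _ b1) ω))
      rw [Equiv.symm_apply_apply]
    rw [this]
    exact b2.comp (Equiv.bijective _)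
  have := isUniversal_postcomp_iso (DerExists.dsh f) hd' α
  rwa [hα] at this

end Groth.Agent.Lib.Helper1.OmUniv

namespace Groth.Agent.S5005

/-- Let f : X ⟶ Y be a quasi-separated morphism of schemes. The differential d_{X/Y} from the structure
sheaf to the sheaf of differentials (the conormal sheaf of the diagonal) is a universal derivation:
composition with it is a bijection between O_X-linear maps out of the sheaf of differentials into
any O_X-module F and Y-derivations of O_X into F. (The published statement applies to every morphism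
f; this row assumes f quasi-separated, the case in which the differential d_{X/Y} into the conormal
sheaf of the diagonal is constructed here.) -/
theorem result {X Y : Scheme.{u}} (f : X ⟶ Y) [QuasiSeparated f] :
    OmegaSh.IsUniversal (OmegaSh.dOmega f) := by
  exact Groth.Agent.Lib.Helper1.OmUniv.isUniversal_dOmega f

end Groth.Agent.S5005
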