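-- Statement S9783.
import Groth.Statements.S9783
import Mathlib
import Groth.Agent.Lib.Helper1.UTDiff
import Groth.Agent.Lib.Helper1.QcIso

set_option autoImplicit false
universe u
open OmegaSh

namespace Groth.Agent.S9783

open AlgebraicGeometry CategoryTheory Limits in
/-- Let q : X ⟶ S be a morphism, h : Z ⟶ X formally unramified, and (i : Z ⟶ Z', h' : Z' ⟶ X) the
universal first order thickening attached to h. Let d_X : O_X → Ω_X be a universal S-derivation,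
d_{Z'} : O_{Z'} → Ω_{Z'} a universal S-derivation for Z' over S via h' ≫ q, and c : (h')^*Ω_X ⟶
Ω_{Z'} the O_{Z'}-linear map compatible with them (the canonical map c_{h'}). Then the pullback of c
along i, a map h^*Ω_X ⟶ Ω_{Z'} ⊗ O_Z, is an isomorphism. -/
theorem result {Z X S Z' : Scheme.{u}} (h : Z ⟶ X) (q : X ⟶ S) [FormallyUnramified h]
    (i : Z ⟶ Z') (h' : Z' ⟶ X) (hu : OmegaSh.IsUnivThickening h i h')
    (ΩX : X.Modules) (dX : OmegaSh.Der q ΩX) (hdX : OmegaSh.IsUniversal dX)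
    (ΩZ' : Z'.Modules) (dZ' : OmegaSh.Der (h' ≫ q) ΩZ') (hdZ' : OmegaSh.IsUniversal dZ')
    (c : (Scheme.Modules.pullback h').obj ΩX ⟶ ΩZ') (hc : OmegaSh.IsDiffCompat h' dX dZ' c) :
    IsIso ((Scheme.Modules.pullback i).map c) := by
  haveI hci : IsClosedImmersion i := hu.1.1.1
  haveI qcX : ΩX.IsQuasicoherent := Groth.Agent.Lib.Helper1.DerSmooth.isQuasicoherent q dX hdX
  haveI qcZ' : ΩZ'.IsQuasicoherent :=
    Groth.Agent.Lib.Helper1.DerSmooth.isQuasicoherent (h' ≫ q) dZ' hdZ'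
  haveI qc1 : ((Scheme.Modules.pullback h').obj ΩX).IsQuasicoherent :=
    Groth.Agent.Lib.Helper17.PbStalk.isQuasicoherent_pullback h' ΩX
  haveI qc2 : ((Scheme.Modules.pullback i).obj ((Scheme.Modules.pullback h').obj ΩX)).IsQuasicoherent :=
    Groth.Agent.Lib.Helper17.PbStalk.isQuasicoherent_pullback i _
  haveI qc3 : ((Scheme.Modules.pullback i).obj ΩZ').IsQuasicoherent :=
    Groth.Agent.Lib.Helper17.PbStalk.isQuasicoherent_pullback i _
  apply Groth.Agent.Lib.Helper1.QcIso.isIso_of_bijective_on_affine_cover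
  intro z
  obtain ⟨_, ⟨VS : S.Opens, hVS, rfl⟩, hzVS, -⟩ :=
    S.isBasis_affineOpens.exists_subset_of_mem_open
      (Set.mem_univ (q.base (h'.base (i.base z)))) isOpen_univ
  obtain ⟨_, ⟨U : X.Opens, hU, rfl⟩, hzU, eU⟩ :=
    X.isBasis_affineOpens.exists_subset_of_mem_open
      (show h'.base (i.base z) ∈ ((q ⁻¹ᵁ VS : X.Opens) : Set X) from hzVS) (q ⁻¹ᵁ VS).2
  obtain ⟨_, ⟨W' : Z'.Opens, hW', rfl⟩, hzW', e⟩ :=
    Z'.isBasis_affineOpens.exists_subset_of_mem_open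
      (show i.base z ∈ ((h' ⁻¹ᵁ U : Z'.Opens) : Set Z') from hzU) (h' ⁻¹ᵁ U).2
  exact ⟨i ⁻¹ᵁ W', hW'.preimage i, hzW',
    Groth.Agent.Lib.Helper1.UTDiff.bijective_on_good h q i h' hu dX hdX dZ' hdZ' c hc hVS hU eU hW' e⟩

end Groth.Agent.S9783
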