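import Groth.Statements.S1693
import Groth.Agent.Lib.Helper3.IrredComp

set_option autoImplicit false
universe u
open CategoryTheory CategoryTheory.Limits AlgebraicGeometry TopologicalSpace
open SDiv

namespace Groth.Agent.S1693

/-- Let X be a locally Noetherian scheme and Z a closed subset. Then the irreducible components of Z
form a locally finite family of subsets of X. -/
theorem result (X : Scheme.{u}) [IsLocallyNoetherian X] (Z : Set ↥X) (hZ : IsClosed Z) :
    LocallyFinite (fun T : ↥(irreducibleComponents ↥Z) => ((↑) '' (T.1 : Set ↥Z) : Set ↥X)) := by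
  intro x
  obtain ⟨_, ⟨U, hU, rfl⟩, hxU, -⟩ :=
    X.isBasis_affineOpens.exists_subset_of_mem_open (Set.mem_univ x) isOpen_univ
  refine ⟨U, U.2.mem_nhds hxU, ?_⟩
  have : IsNoetherianRing Γ(X, U) := IsLocallyNoetherian.component_noetherian ⟨U, hU⟩
  have hN : NoetherianSpace ↥(U : Set X) := noetherianSpace_of_isAffineOpen U hU
  set V : Set ↥Z := Subtype.val ⁻¹' (U : Set X) with hV
  have hVo : IsOpen V := U.2.preimage continuous_subtype_val
  have hind : Topology.IsInducing (fun v : ↥V => (⟨v.1.1, v.2⟩ : ↥(U : Set X))) := by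
    have : Topology.IsInducing (fun v : ↥V => (v.1.1 : X)) :=
      Topology.IsInducing.subtypeVal.comp Topology.IsInducing.subtypeVal
    exact this.codRestrict (fun v => v.2)
  have hNV : NoetherianSpace ↥V := hind.noetherianSpace
  have hfin := Groth.Agent.Lib.Helper3.finite_irreducibleComponents_inter V hVo
  refine Set.Finite.subset (hfin.preimage Subtype.val_injective.injOn) ?_
  rintro T ⟨y, ⟨z, hzT, rfl⟩, hyU⟩
  exact ⟨T.2, z, hzT, hyU⟩

end Groth.Agent.S1693
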