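-- Statement S0301.
import Groth.Statements.S0301
import Mathlib.Algebra.Module.Injective
import Mathlib.RingTheory.Filtration
import Mathlib.Algebra.Module.Torsion.Basic

set_option autoImplicit false
universe u v
open InjHull

namespace Groth.Agent.S0301

/-- Over a Noetherian ring, the submodule of an injective module consisting of the elements killed by
some power of a given ideal is again injective. -/
theorem result (R : Type u) [CommRing R] [IsNoetherianRing R] (I : Type u) [AddCommGroup I] [Module R I] (hI : Module.Injective R I) (J : Ideal R) : Module.Injective R ↥(⨆ n : ℕ, Submodule.torsionBySet R I ((J ^ n : Ideal R) : Set R)) := by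
  classical
  -- notation
  set T : ℕ → Submodule R I := fun n => Submodule.torsionBySet R I ((J ^ n : Ideal R) : Set R)
    with hTdef
  have hTmono : Monotone T := by
    intro n m hnm
    exact Submodule.torsionBySet_le_torsionBySet_of_subset
      (fun x hx => Ideal.pow_le_pow_right hnm hx)
  have hmemΓ : ∀ x : I, x ∈ (⨆ n : ℕ, T n) ↔ ∃ n, x ∈ T n := fun x =>
    Submodule.mem_iSup_of_directed T hTmono.directed_le
  have hmemT : ∀ (n : ℕ) (x : I), x ∈ T n ↔ ∀ r ∈ J ^ n, r • x = 0 := by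
    intro n x
    rw [Submodule.mem_torsionBySet_iff]
    exact ⟨fun h r hr => h ⟨r, hr⟩, fun h r => h r.1 r.2⟩
  apply Module.Baer.injective
  intro 𝔞 g
  -- Step 1: a uniform exponent
  obtain ⟨T₀, hT₀⟩ := (isNoetherianRing_iff_ideal_fg R).1 inferInstance 𝔞
  have hT₀𝔞 : ∀ a ∈ T₀, a ∈ 𝔞 := fun a ha => hT₀ ▸ Ideal.subset_span ha
  have hex : ∀ a : T₀, ∃ n, ((g ⟨a.1, hT₀𝔞 a.1 a.2⟩ : ↥(⨆ n : ℕ, T n)) : I) ∈ T n := fun a =>
    (hmemΓ _).1 (g ⟨a.1, hT₀𝔞 a.1 a.2⟩).2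
  choose e he using hex
  obtain ⟨n, hn⟩ : ∃ n, ∀ a : T₀, e a ≤ n :=
    ⟨Finset.univ.sup e, fun a => Finset.le_sup (Finset.mem_univ a)⟩
  have hgn : ∀ a : 𝔞, ((g a : ↥(⨆ n : ℕ, T n)) : I) ∈ T n := by
    let K : Submodule R 𝔞 := (T n).comap ((⨆ n : ℕ, T n).subtype ∘ₗ g)
    have hle : 𝔞 ≤ K.map 𝔞.subtype := by
      refine hT₀.symm.le.trans (Ideal.span_le.2 ?_)
      intro a ha
      exact ⟨⟨a, hT₀𝔞 a ha⟩, hTmono (hn ⟨a, ha⟩) (he ⟨a, ha⟩), rfl⟩
    intro a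
    obtain ⟨y, hy, hya⟩ := hle a.2
    have : y = a := Subtype.ext hya
    subst this
    exact hy
  -- Step 2: Artin–Rees
  obtain ⟨k, hk⟩ := Ideal.exists_pow_inf_eq_pow_smul J (M := R) 𝔞
  have hvanish : ∀ a : 𝔞, (a : R) ∈ J ^ (n + k) → g a = 0 := by
    intro a ha
    have h1 : (a : R) ∈ J ^ (n + k) • (⊤ : Submodule R R) ⊓ 𝔞 := by
      refine ⟨?_, a.2⟩
      simpa using ha
    rw [hk (n + k) (by omega), Nat.add_sub_cancel] at h1
    have h2 : J ^ n • (J ^ k • (⊤ : Submodule R R) ⊓ 𝔞) ≤ J ^ n • 𝔞 :=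
      Submodule.smul_mono le_rfl inf_le_right
    have h3 : (a : R) ∈ J ^ n • 𝔞 := h2 h1
    -- elements of `J^n • 𝔞` are killed by `g`
    have key : ∀ x ∈ J ^ n • 𝔞, ∃ hx : x ∈ 𝔞, g ⟨x, hx⟩ = 0 := by
      intro x hx
      refine Submodule.smul_induction_on hx ?_ ?_
      · intro r hr b hb
        refine ⟨𝔞.smul_mem r hb, ?_⟩
        have : (⟨r • b, 𝔞.smul_mem r hb⟩ : 𝔞) = r • ⟨b, hb⟩ := rfl
        rw [this, map_smul]
        apply Subtype.ext
        rw [Submodule.coe_smul, Submodule.coe_zero]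
        exact (hmemT n _).1 (hgn ⟨b, hb⟩) r hr
      · rintro x y ⟨hx, h1⟩ ⟨hy, h2⟩
        refine ⟨𝔞.add_mem hx hy, ?_⟩
        have : (⟨x + y, 𝔞.add_mem hx hy⟩ : 𝔞) = ⟨x, hx⟩ + ⟨y, hy⟩ := rfl
        rw [this, map_add, h1, h2, add_zero]
    obtain ⟨_, h4⟩ := key a h3
    exact h4
  -- Step 3: extend through the quotient by `J ^ (n + k)`
  obtain ⟨m, hm⟩ : ∃ m, m = n + k := ⟨_, rfl⟩
  rw [← hm] at hvanish
  let p : Submodule R 𝔞 := Submodule.comap 𝔞.subtype (J ^ m)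
  have hp : p ≤ LinearMap.ker ((⨆ n : ℕ, T n).subtype ∘ₗ g) := by
    intro a ha
    rw [LinearMap.mem_ker, LinearMap.comp_apply, hvanish a ha, map_zero]
  let gbar : (𝔞 ⧸ p) →ₗ[R] I := p.liftQ ((⨆ n : ℕ, T n).subtype ∘ₗ g) hp
  let ι : (𝔞 ⧸ p) →ₗ[R] (R ⧸ J ^ m) := p.mapQ (J ^ m) 𝔞.subtype le_rfl
  have hι : Function.Injective ι := by
    rw [← LinearMap.ker_eq_bot, eq_bot_iff]
    intro x hx
    obtain ⟨a, rfl⟩ := p.mkQ_surjective x
    have h1 : (J ^ m).mkQ (a : R) = 0 := hx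
    rw [Submodule.mkQ_apply, Submodule.Quotient.mk_eq_zero] at h1
    rw [Submodule.mem_bot, Submodule.mkQ_apply, Submodule.Quotient.mk_eq_zero]
    exact h1
  obtain ⟨ψ, hψ⟩ := hI.out ι hι gbar
  have hy : ψ ((J ^ m).mkQ 1) ∈ T m := by
    rw [hmemT]
    intro r hr
    rw [← map_smul, ← map_smul, smul_eq_mul, mul_one]
    have : (J ^ m).mkQ r = 0 := by
      rw [Submodule.mkQ_apply, Submodule.Quotient.mk_eq_zero]; exact hr
    rw [this, map_zero]
  have hyΓ : ψ ((J ^ m).mkQ 1) ∈ ⨆ n : ℕ, T n := (hmemΓ _).2 ⟨m, hy⟩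
  refine ⟨LinearMap.toSpanSingleton R _ ⟨ψ ((J ^ m).mkQ 1), hyΓ⟩, fun a ha => ?_⟩
  apply Subtype.ext
  rw [LinearMap.toSpanSingleton_apply, Submodule.coe_smul, Submodule.coe_mk, ← map_smul,
    ← map_smul, smul_eq_mul, mul_one]
  have h1 : (J ^ m).mkQ a = ι (p.mkQ ⟨a, ha⟩) := rfl
  rw [h1, hψ]
  rfl

end Groth.Agent.S0301
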