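-- Statement S0311.
import Groth.Statements.S0311
import Groth.Agent.Lib.Helper1.InjHullLib
import Groth.Agent.S0305
import Groth.Agent.S0301

set_option autoImplicit false
universe u v
open Matlis

namespace Groth.Agent.S0311

/-- Over a Noetherian local ring, every element of an injective hull E of the residue field is killed by
some power of the maximal ideal (E is the union of the E[m^n]). (The source also identifies E[m^n]
with an injective hull of the residue field over R/m^n; not stated here.) -/
theorem result (R : Type u) [CommRing R] [IsLocalRing R] [IsNoetherianRing R] (E : Type u) [AddCommGroup E] [Module R E] (f : IsLocalRing.ResidueField R →ₗ[R] E) (hf : InjHull.IsInjectiveHull f) : LocCoh.IsPowerTorsion (IsLocalRing.maximalIdeal R) E := by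
  classical
  have hEinj : Module.Injective R E := hf.isInjective
  have hind : InjHull.IsIndecomposable R E :=
    (Groth.Agent.S0305.result R (IsLocalRing.maximalIdeal R) E f hf).1
  set T : ℕ → Submodule R E := fun n =>
    Submodule.torsionBySet R E ((IsLocalRing.maximalIdeal R ^ n : Ideal R) : Set R) with hTdef
  have hTmono : Monotone T := by
    intro n m hnm
    exact Submodule.torsionBySet_le_torsionBySet_of_subset
      (fun x hx => Ideal.pow_le_pow_right hnm hx)
  have hΓinj : Module.Injective R ↥(⨆ n : ℕ, T n) :=
    Groth.Agent.S0301.result R E hEinj (IsLocalRing.maximalIdeal R)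
  obtain ⟨C, hC⟩ := Groth.Agent.Lib.Helper1.InjHullLib.exists_isCompl_of_injective_submodule
    (⨆ n : ℕ, T n)
  have hne : (⨆ n : ℕ, T n) ≠ ⊥ := by
    intro hbot
    have h1 : f 1 ∈ T 1 := by
      rw [Submodule.mem_torsionBySet_iff]
      rintro ⟨r, hr⟩
      have hr' : r ∈ IsLocalRing.maximalIdeal R := by simpa using hr
      change r • f 1 = 0
      rw [← map_smul]
      have : r • (1 : IsLocalRing.ResidueField R) = 0 := by
        rw [Algebra.smul_def, mul_one]
        exact (IsLocalRing.residue_eq_zero_iff r).2 hr'
      rw [this, map_zero]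
    have h2 : f 1 ∈ ⨆ n : ℕ, T n := (le_iSup T 1) h1
    rw [hbot, Submodule.mem_bot] at h2
    have h3 : (1 : IsLocalRing.ResidueField R) = 0 := hf.injective (by rw [h2, map_zero])
    exact one_ne_zero h3
  have htop : (⨆ n : ℕ, T n) = ⊤ := by
    rcases hind.2 _ C hC with h | h
    · exact absurd h hne
    · have := hC.sup_eq_top
      rwa [h, sup_bot_eq] at this
  intro x
  have hx : x ∈ ⨆ n : ℕ, T n := htop ▸ Submodule.mem_top
  obtain ⟨n, hn⟩ := (Submodule.mem_iSup_of_directed T hTmono.directed_le).1 hx
  refine ⟨n, fun a ha => ?_⟩
  exact (Submodule.mem_torsionBySet_iff _ _).1 hn ⟨a, ha⟩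

end Groth.Agent.S0311
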