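-- Statement S0314.
import Groth.Statements.S0314
import Groth.Agent.Lib.Helper1.Matlis
import Groth.Agent.Lib.Helper1.Melkersson
import Groth.Agent.S0311

set_option autoImplicit false
universe u v
open Matlis

namespace Groth.Agent.S0314

/-- Over a Noetherian local ring an injective hull of the residue field satisfies the descending chain
condition on submodules. -/
theorem result (R : Type u) [CommRing R] [IsLocalRing R] [IsNoetherianRing R] (E : Type u) [AddCommGroup E] [Module R E] (f : IsLocalRing.ResidueField R →ₗ[R] E) (hf : InjHull.IsInjectiveHull f) : IsArtinian R E := by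
  classical
  obtain ⟨S, hS⟩ := (IsNoetherian.noetherian (IsLocalRing.maximalIdeal R) :
    (IsLocalRing.maximalIdeal R).FG)
  have hpt := Groth.Agent.S0311.result R E f hf
  apply Groth.Agent.Lib.Helper1.Melkersson.isArtinian_of_isArtinian_torsionBySet S E
  · intro s hs e
    obtain ⟨n, hn⟩ := hpt e
    refine ⟨n, hn _ (Ideal.pow_mem_pow ?_ n)⟩
    rw [← hS]
    exact Ideal.subset_span hs
  · haveI := Groth.Agent.Lib.Helper1.Matlis.isSimpleModule_residueField (R := R)
    haveI : IsArtinian R (LinearMap.range f) :=
      isArtinian_of_surjective _ f.rangeRestrict f.surjective_rangeRestrict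
    have hle : Submodule.torsionBySet R E (S : Set R) ≤ LinearMap.range f := by
      intro x hx
      apply Groth.Agent.Lib.Helper1.Matlis.mem_range_of_forall_smul_eq_zero f hf x
      intro r hr
      rw [Submodule.torsionBySet_eq_torsionBySet_span, Submodule.mem_torsionBySet_iff] at hx
      exact hx ⟨r, by change r ∈ Submodule.span R (S : Set R); rw [hS]; exact hr⟩
    exact isArtinian_of_injective (Submodule.inclusion hle) (Submodule.inclusion_injective hle)

end Groth.Agent.S0314
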