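import Groth.Statements.S1536
-- import your own Groth.Agent.* helpers here
import Groth.Agent.Lib.Helper23.GeomH0

set_option autoImplicit false
universe u
open CategoryTheory CategoryTheory.Limits AlgebraicGeometry
open Variety

namespace Groth.Agent.S1536

/-- For a proper scheme X over a field k which is geometrically reduced and geometrically connected,
H^0(X, O_X) is one-dimensional over k, i.e. the global functions are the constants. -/
theorem result (k : Type u) [Field k] (X : Scheme.{u}) [X.Over (Spec (CommRingCat.of k))] [IsProper (X ↘ (Spec (CommRingCat.of k)))]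
    [GeometricallyReduced (X ↘ (Spec (CommRingCat.of k)))] [GeometricallyConnected (X ↘ (Spec (CommRingCat.of k)))] :
    Module.finrank k (Coh.HH X (Coh.structureModule X) 0) = 1 := by
  let K := AlgebraicClosure k
  letI : (Curv2.bc k X K).Over (Spec (CommRingCat.of K)) := ⟨Curv2.bcSnd k X K⟩
  have hpb : IsPullback (Curv2.bcFst k X K) ((Curv2.bc k X K) ↘ Spec (CommRingCat.of K))
      (X ↘ Spec (CommRingCat.of k)) (Spec.map (CommRingCat.ofHom (algebraMap k K))) :=
    IsPullback.of_hasPullback _ _
  haveI : IsReduced (Curv2.bc k X K) :=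
    GeometricallyReduced.geometrically_isReduced (f := X ↘ Spec (CommRingCat.of k)) _ _ _ hpb
  haveI : ConnectedSpace (Curv2.bc k X K) :=
    GeometricallyConnected.geometrically_connectedSpace (f := X ↘ Spec (CommRingCat.of k))
      _ _ _ hpb
  haveI : IsProper ((Curv2.bc k X K) ↘ Spec (CommRingCat.of K)) :=
    MorphismProperty.of_isPullback (P := @IsProper) hpb inferInstance
  have h1 := Groth.Agent.Lib.Helper23.GeomH0.finrank_H0_eq_one_of_isAlgClosed K (Curv2.bc k X K)
  have e0 := (Groth.Agent.Lib.Helper23.FBC.HmapEquivK K
    (Groth.Agent.Lib.Helper3.PbBasic.pbUnit (Curv2.bcFst k X K)) 0).finrank_eq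
  have f0 := Groth.Agent.Lib.Helper23.FBC.finrank_eq_of_isProper k K hpb 0
    (Coh.structureModule X)
  rw [← f0, e0, h1]

end Groth.Agent.S1536
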