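import Groth.Statements.S0469
import Groth.Agent.Lib.Helper5.SpecVanish

set_option autoImplicit false
universe u
open CategoryTheory
open CohTop

namespace Groth.Agent.S0469

/-- If X is a spectral space of Krull dimension at most d, then H^p(X, F) = 0 for every abelian sheaf F
and every p > d. -/
theorem result {X : TopCat.{u}} [SpectralSpace X] (d : ℕ) (hd : topologicalKrullDim X ≤ d)
    (F : CohTop.Ab X) (p : ℕ) (hp : d < p) : Subsingleton (CohTop.H F p) := by
  have hX : topologicalKrullDim X < ((d + 1 : ℕ) : WithBot ℕ∞) :=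
    lt_of_le_of_lt hd (by exact_mod_cast Nat.lt_succ_self d)
  refine (Groth.Agent.Lib.Helper13.ProfiniteAcyclic.HEquivHU (Opens.grothendieckTopology X)
    CategoryTheory.Limits.isTerminalTop F p).toEquiv.subsingleton_congr.2 ?_
  exact ⟨fun a b =>
    (Groth.Agent.Lib.Helper5.SpecVanish.P_all (d + 1) X hX F p (by omega) a).trans
      (Groth.Agent.Lib.Helper5.SpecVanish.P_all (d + 1) X hX F p (by omega) b).symm⟩

end Groth.Agent.S0469
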