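import Groth.Statements.S17806
import Groth.Agent.Lib.Helper3.AmpleQA

set_option autoImplicit false
universe u
open CategoryTheory CategoryTheory.Limits AlgebraicGeometry
open Variety

namespace Groth.Agent.S17806

/-- Let V and W be schemes proper over a field k (complete varieties), π : W ⟶ V a finite morphism over
k, and L an ample invertible module on V. Then π^* L is ample on W. (π is not assumed surjective.) -/
theorem result (k : Type u) [Field k]
    {V W : Scheme.{u}} (gV : V ⟶ Spec (CommRingCat.of k)) (gW : W ⟶ Spec (CommRingCat.of k)) [IsProper gV] [IsProper gW]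
    (π : W ⟶ V) (hπ : π ≫ gV = gW) [IsFinite π] (L : V.Modules) (hL : PicF.IsInvertible L) (hamp : CohB1.IsAmple L) :
    CohB1.IsAmple ((Scheme.Modules.pullback π).obj L) := by
  haveI : CompactSpace (Spec (CommRingCat.of k)) := inferInstance
  haveI : CompactSpace W := QuasiCompact.compactSpace_of_compactSpace gW
  apply Groth.Agent.Lib.Helper3.AmpleQA.isAmple_pullback_of_quasiAffine π hamp
  intro A hA
  haveI : IsAffine ((π ⁻¹ᵁ A : W.Opens) : Scheme.{u}) := hA.preimage π
  infer_instance

end Groth.Agent.S17806
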