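import Groth.Statements.S3572
import Groth.Agent.Lib.Helper3.ProjOfSec

set_option autoImplicit false
universe u
open CategoryTheory CategoryTheory.Limits AlgebraicGeometry
open EGA2

namespace Groth.Agent.S3572

open Groth.Agent.Lib.Helper3 in
open QCSec InvGen ProjOfSec SecCoord GrScale ProjPullGen TwistProj in

/-- Existence part of the universal property of projective n-space over an affine base Spec R (the
published statement is for P(E) with E an arbitrary quasi-coherent module; here E is the free module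
of rank n+1, so that P(E) is projective n-space over R): let X be a scheme over R, L an invertible
O_X-module and s_0, …, s_n global sections of L generating L. Then there is an R-morphism r from X
to projective n-space over R and an isomorphism r^*O(1) ≅ L carrying the inverse image of the
coordinate T_i to s_i for every i. -/
theorem result {R : Type u} [CommRing R] (n : ℕ) {X : Scheme.{u}}
    (q : X ⟶ Spec (CommRingCat.of R)) (L : X.Modules) (hL : PicF.IsInvertible L)
    (s : Fin (n + 1) → ProjUP.Γm L) (hs : ProjUP.GeneratedBy L s) :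
    ∃ (r : X ⟶ CohB1.ProjSpace n R) (_ : r ≫ CohB1.ProjSpace.toSpec n R = q)
      (τ : (Scheme.Modules.pullback r).obj (Twist.twistProjSpace n R 1) ≅ L),
      ∀ i, τ.hom.app ⊤ (ProjUP.pullSec r (Twist.twistProjSpace n R 1) (ProjUP.coord n R i)) = s i := by
  classical
  let ι := ULift.{u} (Fin (n + 1))
  let t : ι → MvPolynomial (Fin (n + 1)) R := fun j => MvPolynomial.X j.down
  have ht : ∀ j, t j ∈ CohB1.polyGrading n R 1 := fun j => MvPolynomial.isHomogeneous_X R j.down
  let σ : ι → Γ(L, ⊤) := fun j => s j.down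
  have hcov : ∀ x, ∃ j : ι, x ∈ locus L (σ j) := fun x => by
    obtain ⟨i, hi⟩ := exists_mem_locus hL s hs x
    exact ⟨⟨i⟩, hi⟩
  let ρ : ∀ j : ι, R →+* Γ(X, locus L (σ j)) := fun j =>
    (rresHom X (le_top : locus L (σ j) ≤ ⊤)).comp (ProjUP.toGlobal q)
  let ψ : ∀ j : ι, MvPolynomial (Fin (n + 1)) R →+* Γ(X, locus L (σ j)) := fun j =>
    MvPolynomial.eval₂Hom (ρ j) (fun k => ratio L (σ j) (σ ⟨k⟩))
  have hψ : ∀ j k, ψ j (t k) = ratio L (σ j) (σ k) := fun j k => by
    change MvPolynomial.eval₂Hom (ρ j) (fun k => ratio L (σ j) (σ ⟨k⟩)) (MvPolynomial.X k.down) = _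
    rw [MvPolynomial.eval₂Hom_X']
  have hcoc : ∀ j k, (rresHom X (inf_le_left : locus L (σ j) ⊓ locus L (σ k) ≤
        locus L (σ j))).comp (ψ j) =
      scaleHom (CohB1.polyGrading n R) ((rresHom X (inf_le_right : locus L (σ j) ⊓ locus L (σ k) ≤
        locus L (σ k))).comp (ψ k)) (rres X (inf_le_left : locus L (σ j) ⊓ locus L (σ k) ≤
          locus L (σ j)) (ψ j (t k))) := by
    intro j k
    apply MvPolynomial.ringHom_ext
    · intro c
      rw [scaleHom_of_mem (CohB1.polyGrading n R) _ _ (MvPolynomial.isHomogeneous_C _ c),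
        pow_zero, one_mul, RingHom.comp_apply, RingHom.comp_apply]
      change rres X _ (MvPolynomial.eval₂Hom (ρ j) _ (MvPolynomial.C c)) =
        rres X _ (MvPolynomial.eval₂Hom (ρ k) _ (MvPolynomial.C c))
      rw [MvPolynomial.eval₂Hom_C, MvPolynomial.eval₂Hom_C]
      change rres X _ (rres X _ (ProjUP.toGlobal q c)) = rres X _ (rres X _ (ProjUP.toGlobal q c))
      rw [rres_rres, rres_rres]
    · intro i
      rw [scaleHom_of_mem (CohB1.polyGrading n R) _ _ (MvPolynomial.isHomogeneous_X R i),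
        pow_one, RingHom.comp_apply, RingHom.comp_apply, hψ j k]
      change rres X _ (MvPolynomial.eval₂Hom (ρ j) _ (MvPolynomial.X i)) =
        rres X _ (ratio L (σ j) (σ k)) *
          rres X _ (MvPolynomial.eval₂Hom (ρ k) _ (MvPolynomial.X i))
      rw [MvPolynomial.eval₂Hom_X', MvPolynomial.eval₂Hom_X']
      exact ratio_chain L (σ j) (σ k) (σ ⟨i⟩) inf_le_left inf_le_right
  refine ⟨ProjOfSec.hom L t ht σ hcov ψ hψ hcoc, ?_, ?_⟩
  · refine ProjOfSec.hom_toSpec L t ht σ hcov ψ hψ hcoc q (fun j c => ?_)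
    change MvPolynomial.eval₂Hom (ρ j) _ (MvPolynomial.C c) = _
    rw [MvPolynomial.eval₂Hom_C]
    rfl
  · obtain ⟨τ, hτ⟩ := ProjOfSec.exists_iso L t ht σ hcov ψ hψ hcoc
    exact ⟨τ, fun i => hτ ⟨i⟩⟩

end Groth.Agent.S3572
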