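import Groth.Statements.S1576
import Groth.Agent.Lib.Helper3.AssPoints
import Groth.Agent.Lib.Helper3.QCPush
import Mathlib.RingTheory.Ideal.AssociatedPrime.Finiteness

set_option autoImplicit false
universe u
open CategoryTheory CategoryTheory.Limits AlgebraicGeometry
open Divisors

namespace Groth.Agent.S1576

open TopologicalSpace Opposite
open Groth.Agent.Lib.Helper3

/-- Let X be locally Noetherian and F coherent. Then the associated points of F lying in any
quasi-compact open subset form a finite set. -/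
theorem result (X : Scheme.{u}) [IsLocallyNoetherian X]
    (F : X.Modules) (hF : Coh.IsCoh F) (U : X.Opens) (hU : IsCompact (U : Set X)) :
    {x : X | x ∈ U ∧ Curv2.IsAssPoint F x}.Finite := by
  haveI : F.IsQuasicoherent := hF.1
  haveI : F.IsFiniteType := hF.2
  obtain ⟨ι, hι, W, hWa, hWU, hcov⟩ := QCSec.exists_finite_affine_cover U hU
  have hsub : {x : X | x ∈ U ∧ Curv2.IsAssPoint F x} ⊆
      ⋃ i, {x : X | x ∈ W i ∧ Curv2.IsAssPoint F x} := by
    rintro x ⟨hxU, hx⟩
    obtain ⟨i, hi⟩ := Opens.mem_iSup.mp (hcov hxU)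
    exact Set.mem_iUnion.mpr ⟨i, hi, hx⟩
  refine (Set.finite_iUnion (fun i => ?_)).subset hsub
  have hN : IsNoetherianRing Γ(X, W i) := IsLocallyNoetherian.component_noetherian ⟨W i, hWa i⟩
  have hfin : Module.Finite Γ(X, W i) Γ(F, W i) := QCProps.finite_sections F (hWa i)
  have hass : (associatedPrimes Γ(X, W i) Γ(F, W i)).Finite := associatedPrimes.finite _ _
  let φ : {x : X | x ∈ W i ∧ Curv2.IsAssPoint F x} → associatedPrimes Γ(X, W i) Γ(F, W i) :=
    fun x => ⟨((hWa i).primeIdealOf ⟨x.1, x.2.1⟩).asIdeal,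
      QS.mem_associatedPrimes_of_isAssPoint (hWa i) F x.1 x.2.1
        ((isNoetherianRing_iff_ideal_fg _).mp hN _) x.2.2⟩
  have hφ : Function.Injective φ := by
    intro x y hxy
    have h1 : ((hWa i).primeIdealOf ⟨x.1, x.2.1⟩).asIdeal =
        ((hWa i).primeIdealOf ⟨y.1, y.2.1⟩).asIdeal := congrArg Subtype.val hxy
    have h2 : (hWa i).primeIdealOf ⟨x.1, x.2.1⟩ = (hWa i).primeIdealOf ⟨y.1, y.2.1⟩ :=
      PrimeSpectrum.ext h1
    have h3 := congrArg (hWa i).fromSpec h2
    rw [(hWa i).fromSpec_primeIdealOf, (hWa i).fromSpec_primeIdealOf] at h3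
    exact Subtype.ext h3
  haveI : Finite (associatedPrimes Γ(X, W i) Γ(F, W i)) := hass.to_subtype
  haveI : Finite {x : X | x ∈ W i ∧ Curv2.IsAssPoint F x} := Finite.of_injective φ hφ
  exact Set.toFinite _

end Groth.Agent.S1576
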