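import Groth.Statements.S9392
import Mathlib
import Groth.Agent.Lib.Helper14.NJapanese

set_option autoImplicit false
universe u
open CAlg

namespace Groth.Agent.S9392

/-- A localization of an N-2 (Japanese) domain which is again a domain is N-2. -/
theorem result (R : Type u) [CommRing R] [IsDomain R] (M : Submonoid R)
    (S : Type u) [CommRing S] [IsDomain S] [Algebra R S] [IsLocalization M S]
    (h : CAlg.IsN2 R) : CAlg.IsN2 S := by
  intro L _ _ _ _ hfd
  have hM : ∀ m : M, IsUnit (algebraMap R (FractionRing R) m) := by
    intro m
    have hm0 : (m : R) ≠ 0 := by
      intro h0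
      have := IsLocalization.map_units S m
      rw [h0, map_zero] at this
      exact not_isUnit_zero this
    exact IsUnit.mk0 _ (by simpa using hm0)
  letI : Algebra S (FractionRing R) := (IsLocalization.lift hM).toAlgebra
  haveI : IsScalarTower R S (FractionRing R) :=
    IsScalarTower.of_algebraMap_eq fun r => (IsLocalization.lift_eq hM r).symm
  haveI : IsFractionRing S (FractionRing R) :=
    IsFractionRing.isFractionRing_of_isDomain_of_isLocalization M S (FractionRing R)
  let e : FractionRing R ≃ₐ[S] FractionRing S := (FractionRing.algEquiv S (FractionRing R)).symm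
  letI : Algebra R L := ((algebraMap S L).comp (algebraMap R S)).toAlgebra
  haveI : IsScalarTower R S L := IsScalarTower.of_algebraMap_eq fun _ => rfl
  letI : Algebra (FractionRing R) L :=
    ((algebraMap (FractionRing S) L).comp (e : FractionRing R →+* FractionRing S)).toAlgebra
  have hKL : ∀ x : FractionRing R, algebraMap (FractionRing R) L x =
      algebraMap (FractionRing S) L (e x) := fun _ => rfl
  haveI : IsScalarTower R (FractionRing R) L := IsScalarTower.of_algebraMap_eq fun r => by
    rw [hKL, IsScalarTower.algebraMap_apply R S (FractionRing R), AlgEquiv.commutes,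
      ← IsScalarTower.algebraMap_apply S (FractionRing S) L, IsScalarTower.algebraMap_apply R S L]
  have hfd' : FiniteDimensional (FractionRing R) L :=
    Module.Finite.of_equiv_equiv (e.symm : FractionRing S ≃+* FractionRing R) (RingEquiv.refl L)
      (by
        ext x
        simp only [RingHom.coe_comp, RingHom.coe_coe, Function.comp_apply, RingEquiv.coe_ringHom_refl,
          RingHom.id_apply]
        rw [hKL]
        simp)
  have h1 : Module.Finite R (integralClosure R L) := h L hfd'
  exact Groth.Agent.Lib.Helper14.finite_integralClosure_of_isLocalization M h1

end Groth.Agent.S9392
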