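import Groth.Statements.S4710
-- import your own Groth.Agent.* helpers here
import Mathlib
import Groth.Agent.S9392

set_option autoImplicit false
universe u
open EGA4

namespace Groth.Agent.S4710

/-- Last assertion, case of rings of fractions: if A is a Noetherian ring all of whose quotient domains
are Japanese (a Nagata ring), then so is every ring of fractions S⁻¹A. -/
theorem result (A : Type u) [CommRing A] (hA : CAlg.IsNagata A) (S : Submonoid A) :
    CAlg.IsNagata (Localization S) := by
  obtain ⟨hN, hJ⟩ := hA
  haveI := hN
  refine ⟨IsLocalization.isNoetherianRing S (Localization S) hN, ?_⟩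
  intro p' hp'
  set p : Ideal A := p'.comap (algebraMap A (Localization S)) with hp
  haveI : p.IsPrime := Ideal.comap_isPrime _ _
  have hmap : p.map (algebraMap A (Localization S)) = p' :=
    IsLocalization.map_comap S (Localization S) p'
  have key : ∀ (q : Ideal (Localization S)) [q.IsPrime],
      q = p.map (algebraMap A (Localization S)) → CAlg.IsN2 (Localization S ⧸ q) := by
    intro q hq hqe
    subst hqe
    exact Groth.Agent.S9392.result (A ⧸ p) (Algebra.algebraMapSubmonoid (A ⧸ p) S)
      (Localization S ⧸ p.map (algebraMap A (Localization S))) (hJ p)
  exact key p' hmap.symm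

end Groth.Agent.S4710
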