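import Groth.Statements.S9394
import Mathlib
import Groth.Agent.Lib.Helper14.NJapanese

set_option autoImplicit false
universe u
open CAlg

namespace Groth.Agent.S9394

/-- Being N-2 (Japanese) can be checked on a finite cover of Spec R by principal opens whose rings are
N-2 domains. -/
theorem result (R : Type u) [CommRing R] [IsDomain R]
    {ι : Type u} [Finite ι] (f : ι → R) (hf : Ideal.span (Set.range f) = ⊤)
    (Rf : ι → Type u) [∀ i, CommRing (Rf i)] [∀ i, IsDomain (Rf i)] [∀ i, Algebra R (Rf i)]
    [∀ i, IsLocalization.Away (f i) (Rf i)] (h : ∀ i, CAlg.IsN2 (Rf i)) : CAlg.IsN2 R := by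
  intro L _ _ _ _ hfd
  have hM : ∀ i, ∀ m : Submonoid.powers (f i), IsUnit (algebraMap R (FractionRing R) m) := by
    intro i m
    have hm0 : (m : R) ≠ 0 := by
      intro h0
      have := IsLocalization.map_units (Rf i) m
      rw [h0, map_zero] at this
      exact not_isUnit_zero this
    exact IsUnit.mk0 _ (by simpa using hm0)
  letI : ∀ i, Algebra (Rf i) (FractionRing R) := fun i => (IsLocalization.lift (hM i)).toAlgebra
  haveI : ∀ i, IsScalarTower R (Rf i) (FractionRing R) := fun i =>
    IsScalarTower.of_algebraMap_eq fun r => (IsLocalization.lift_eq (hM i) r).symm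
  haveI : ∀ i, IsFractionRing (Rf i) (FractionRing R) := fun i =>
    IsFractionRing.isFractionRing_of_isDomain_of_isLocalization (Submonoid.powers (f i)) (Rf i)
      (FractionRing R)
  letI : ∀ i, Algebra (Rf i) L := fun i =>
    ((algebraMap (FractionRing R) L).comp (algebraMap (Rf i) (FractionRing R))).toAlgebra
  haveI : ∀ i, IsScalarTower (Rf i) (FractionRing R) L := fun i =>
    IsScalarTower.of_algebraMap_eq fun _ => rfl
  haveI : ∀ i, IsScalarTower R (Rf i) L := fun i => IsScalarTower.of_algebraMap_eq fun r => by
    rw [IsScalarTower.algebraMap_apply R (FractionRing R) L,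
      IsScalarTower.algebraMap_apply R (Rf i) (FractionRing R),
      ← IsScalarTower.algebraMap_apply (Rf i) (FractionRing R) L]
  apply Groth.Agent.Lib.Helper14.finite_integralClosure_of_span_eq_top f hf Rf
  intro i
  let e : FractionRing (Rf i) ≃ₐ[Rf i] FractionRing R := FractionRing.algEquiv (Rf i) (FractionRing R)
  letI : Algebra (FractionRing (Rf i)) L :=
    ((algebraMap (FractionRing R) L).comp (e : FractionRing (Rf i) →+* FractionRing R)).toAlgebra
  have hKL : ∀ x : FractionRing (Rf i), algebraMap (FractionRing (Rf i)) L x =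
      algebraMap (FractionRing R) L (e x) := fun _ => rfl
  haveI : IsScalarTower (Rf i) (FractionRing (Rf i)) L := IsScalarTower.of_algebraMap_eq fun s => by
    rw [hKL, AlgEquiv.commutes, ← IsScalarTower.algebraMap_apply (Rf i) (FractionRing R) L]
  have hfd' : FiniteDimensional (FractionRing (Rf i)) L :=
    Module.Finite.of_equiv_equiv (e.symm : FractionRing R ≃+* FractionRing (Rf i)) (RingEquiv.refl L)
      (by
        ext x
        simp only [RingHom.coe_comp, RingHom.coe_coe, Function.comp_apply, RingEquiv.coe_ringHom_refl,
          RingHom.id_apply]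
        rw [hKL]
        simp)
  exact h i L hfd'

end Groth.Agent.S9394
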