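import Groth.Statements.S9399
import Mathlib
import Groth.Agent.S9394

set_option autoImplicit false
universe u
open CAlg

namespace Groth.Agent.S9399

/-- Being universally Japanese can be checked on a finite cover of Spec R by principal opens. -/
theorem result (R : Type u) [CommRing R]
    {ι : Type u} [Finite ι] (f : ι → R) (hf : Ideal.span (Set.range f) = ⊤)
    (h : ∀ i, CAlg.IsUniversallyJapanese (Localization.Away (f i))) :
    CAlg.IsUniversallyJapanese R := by
  classical
  intro S _ _ _ hft
  let ι' := {i : ι // algebraMap R S (f i) ≠ 0}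
  let g' : ι' → S := fun i => algebraMap R S (f i)
  have hg' : Ideal.span (Set.range g') = ⊤ := by
    have h1 : Ideal.map (algebraMap R S) (Ideal.span (Set.range f)) = ⊤ := by
      rw [hf, Ideal.map_top]
    rw [Ideal.map_span] at h1
    rw [eq_top_iff, ← h1, Ideal.span_le]
    rintro _ ⟨_, ⟨i, rfl⟩, rfl⟩
    by_cases hi : algebraMap R S (f i) = 0
    · rw [hi]; exact Ideal.zero_mem _
    · exact Ideal.subset_span ⟨⟨i, hi⟩, rfl⟩
  let Sf : ι' → Type u := fun i => Localization.Away (g' i)
  haveI : ∀ i : ι', IsDomain (Sf i) := fun i =>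
    IsLocalization.isDomain_localization (powers_le_nonZeroDivisors_of_noZeroDivisors i.2)
  apply Groth.Agent.S9394.result S g' hg' Sf
  intro i
  have hu : IsUnit (algebraMap R (Sf i) (f i)) := by
    rw [IsScalarTower.algebraMap_apply R S (Sf i)]
    exact IsLocalization.Away.algebraMap_isUnit (g' i)
  letI : Algebra (Localization.Away (f i)) (Sf i) := (IsLocalization.Away.lift (f i) hu).toAlgebra
  haveI : IsScalarTower R (Localization.Away (f i)) (Sf i) :=
    IsScalarTower.of_algebraMap_eq fun r => (IsLocalization.Away.lift_eq (f i) hu r).symm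
  apply h i (Sf i)
  haveI : Algebra.FiniteType S (Sf i) := inferInstance
  haveI : Algebra.FiniteType R (Sf i) := Algebra.FiniteType.trans hft this
  exact Algebra.FiniteType.of_restrictScalars_finiteType R _ _

end Groth.Agent.S9399
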