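import Groth.Statements.S9400
import Mathlib
import Groth.Agent.S9394

set_option autoImplicit false
universe u
open CAlg

namespace Groth.Agent.S9400

/-- Being a Nagata ring can be checked on a finite cover of Spec R by principal opens. -/
theorem result (R : Type u) [CommRing R]
    {ι : Type u} [Finite ι] (f : ι → R) (hf : Ideal.span (Set.range f) = ⊤)
    (h : ∀ i, CAlg.IsNagata (Localization.Away (f i))) : CAlg.IsNagata R := by
  classical
  cases nonempty_fintype ι
  refine ⟨?_, ?_⟩
  · -- Noetherian
    apply AlgebraicGeometry.isNoetherianRing_of_away (Finset.univ.image f)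
    · rw [Finset.coe_image, Finset.coe_univ, Set.image_univ]; exact hf
    · rintro ⟨s, hs⟩
      obtain ⟨i, -, rfl⟩ := Finset.mem_image.mp hs
      exact (h i).1
  · intro p hp
    -- index set: those `i` with `f i ∉ p`
    let ι' := {i : ι // f i ∉ p}
    let f' : ι' → R ⧸ p := fun i => Ideal.Quotient.mk p (f i)
    have hf' : Ideal.span (Set.range f') = ⊤ := by
      have h1 : Ideal.map (Ideal.Quotient.mk p) (Ideal.span (Set.range f)) = ⊤ := by
        rw [hf, Ideal.map_top]
      rw [Ideal.map_span] at h1
      rw [eq_top_iff, ← h1, Ideal.span_le]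
      rintro _ ⟨_, ⟨i, rfl⟩, rfl⟩
      by_cases hi : f i ∈ p
      · rw [Ideal.Quotient.eq_zero_iff_mem.mpr hi]; exact Ideal.zero_mem _
      · exact Ideal.subset_span ⟨⟨i, hi⟩, rfl⟩
    let Rf' : ι' → Type u := fun i =>
      Localization.Away (f i) ⧸ p.map (algebraMap R (Localization.Away (f i)))
    have hprime : ∀ i : ι', (p.map (algebraMap R (Localization.Away (f i)))).IsPrime := by
      intro i
      apply IsLocalization.isPrime_of_isPrime_disjoint (Submonoid.powers (f i)) _ p hp
      rw [Set.disjoint_left]
      rintro _ ⟨n, rfl⟩ hn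
      exact i.2 (hp.mem_of_pow_mem n hn)
    haveI : ∀ i : ι', IsDomain (Rf' i) := fun i =>
      (Ideal.Quotient.isDomain_iff_prime _).mpr (hprime i)
    haveI : ∀ i : ι', IsLocalization.Away (f' i) (Rf' i) := by
      intro i
      have : Submonoid.powers (f' i) =
          Algebra.algebraMapSubmonoid (R ⧸ p) (Submonoid.powers (f i)) := by
        simp only [Algebra.algebraMapSubmonoid, Submonoid.map_powers]
        rfl
      change IsLocalization (Submonoid.powers (f' i)) (Rf' i)
      rw [this]
      infer_instance
    apply Groth.Agent.S9394.result (R ⧸ p) f' hf' Rf'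
    intro i
    haveI := hprime i
    exact (h i).2 (p.map (algebraMap R (Localization.Away (f i))))

end Groth.Agent.S9400
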