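import Groth.Statements.S12720
import Mathlib
import Groth.Agent.Lib.Helper19.ArtFunBasic
-- import your own Groth.Agent.* helpers here

set_option autoImplicit false
universe u v
open CategoryTheory
open ArtFun

namespace Groth.Agent.S12720


section Aux

variable {Λ : Type u} {k : Type u} [CommRing Λ] [Field k] [Algebra Λ k]

/-- The transition maps of the truncations are surjective. -/
theorem truncMap_surjective (S : ArtFun.CRing Λ k) (n : ℕ) : Function.Surjective (S.truncMap n) := by
  intro x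
  obtain ⟨a, rfl⟩ := Ideal.Quotient.mk_surjective x
  exact ⟨Ideal.Quotient.mk _ a, rfl⟩

/-- The system of maps `R → S/m^n` attached to a sequence of maps to the truncations. -/
noncomputable def sysMap {R : Type u} [CommRing R] [Algebra Λ R] (S : ArtFun.CRing Λ k)
    (γ : ∀ n : ℕ, R →ₐ[Λ] (S.trunc n)) :
    ∀ n : ℕ, R →ₐ[Λ] S.carrier ⧸ IsLocalRing.maximalIdeal S.carrier ^ n
  | 0 => (Ideal.Quotient.factorₐ Λ (Ideal.pow_le_pow_right (Nat.zero_le 1))).comp (γ 0)
  | n + 1 => γ n

theorem sysMap_compat {R : Type u} [CommRing R] [Algebra Λ R] (S : ArtFun.CRing Λ k)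
    (γ : ∀ n : ℕ, R →ₐ[Λ] (S.trunc n))
    (hγ : ∀ n, (S.truncMap n).toAlgHom.comp (γ (n + 1)) = γ n) {m n : ℕ} (hle : m ≤ n) :
    (Ideal.Quotient.factorₐ Λ (Ideal.pow_le_pow_right hle)).comp (sysMap S γ n) = sysMap S γ m := by
  induction n, hle using Nat.le_induction with
  | base =>
    rw [Ideal.Quotient.factorₐ_refl]
    exact AlgHom.id_comp _
  | succ n hmn ih =>
    rw [← ih, ← Ideal.Quotient.factorₐ_comp Λ (Ideal.pow_le_pow_right (Nat.le_succ n))
      (Ideal.pow_le_pow_right hmn), AlgHom.comp_assoc]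
    congr 1
    cases n with
    | zero => rfl
    | succ n =>
      show _ = γ n
      rw [← hγ n]
      apply AlgHom.ext
      intro r
      show Ideal.Quotient.factorₐ Λ (Ideal.pow_le_pow_right (Nat.le_succ (n + 1)))
        (γ (n + 1) r) = (S.truncMap n).toAlgHom (γ (n + 1) r)
      obtain ⟨a, ha⟩ := Ideal.Quotient.mk_surjective (γ (n + 1) r)
      rw [← ha]
      rfl

/-- The limit map. -/
noncomputable def limMap {R : Type u} [CommRing R] [Algebra Λ R] (S : ArtFun.CRing Λ k)
    (γ : ∀ n : ℕ, R →ₐ[Λ] (S.trunc n))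
    (hγ : ∀ n, (S.truncMap n).toAlgHom.comp (γ (n + 1)) = γ n) : R →ₐ[Λ] S.carrier :=
  haveI := S.isAdicComplete
  IsAdicComplete.liftAlgHom (IsLocalRing.maximalIdeal S.carrier) (sysMap S γ)
    (fun hle => sysMap_compat S γ hγ hle)

theorem limMap_spec {R : Type u} [CommRing R] [Algebra Λ R] (S : ArtFun.CRing Λ k)
    (γ : ∀ n : ℕ, R →ₐ[Λ] (S.trunc n))
    (hγ : ∀ n, (S.truncMap n).toAlgHom.comp (γ (n + 1)) = γ n) (n : ℕ) (r : R) :
    (S.truncHom n).1 (limMap S γ hγ r) = γ n r := by
  haveI := S.isAdicComplete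
  show Ideal.Quotient.mk (IsLocalRing.maximalIdeal S.carrier ^ (n + 1)) (limMap S γ hγ r) = γ n r
  unfold limMap
  rw [IsAdicComplete.mk_liftAlgHom]
  rfl

end Aux

/-- For functors, let F be a functor on Artinian local Λ-algebras with residue field k with F(k) a
point, and ξ a versal family of F over a complete local Noetherian R with residue field k. Then
every formal element η of F over a complete local Noetherian S with residue field k is induced from
ξ: there is a morphism g : R → S (over Λ, compatible with the augmentations) such that the family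
obtained from ξ by composing with g has formal element η. -/
theorem result {Λ : Type u} {k : Type u} [CommRing Λ] [Field k] [Algebra Λ k]
    [IsNoetherianRing Λ] [Module.Finite Λ k]
    {F : ArtFun.Art Λ k ⥤ Type v} (h0 : ArtFun.H0 F)
    (R : ArtFun.CRing Λ k) (ξ : ArtFun.Family R.carrier R.res F) (hξ : ArtFun.IsVersal ξ)
    (S : ArtFun.CRing Λ k) (η : ArtFun.FormalElt F S) :
    ∃ (g : R.carrier →ₐ[Λ] S.carrier) (hg : S.res.comp g = R.res), (ξ.along g hg).toFormalElt = η := by
  classical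
  -- the compatible sequence
  have hstep : ∀ (n : ℕ) (γ : ArtFun.HomSet R.carrier R.res (S.trunc n)), ξ.app _ γ = η.elt n →
      ∃ ψ : ArtFun.HomSet R.carrier R.res (S.trunc (n + 1)),
        ArtFun.HomSet.map (S.truncMap n) ψ = γ ∧ ξ.app _ ψ = η.elt (n + 1) := by
    intro n γ hγ
    exact hξ (S.truncMap n) (truncMap_surjective S n) γ (η.elt (n + 1)) (by rw [η.compat n, hγ])
  obtain ⟨γ₀, hγ₀⟩ :=
    Groth.Agent.Lib.Helper19.ArtFunBasic.surjective_app_of_isVersal h0 ξ hξ (S.trunc 0) (η.elt 0)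
  let seq : ∀ n : ℕ, {γ : ArtFun.HomSet R.carrier R.res (S.trunc n) // ξ.app _ γ = η.elt n} :=
    fun n => Nat.rec ⟨γ₀, hγ₀⟩
      (fun n γ => ⟨(hstep n γ.1 γ.2).choose, (hstep n γ.1 γ.2).choose_spec.2⟩) n
  have hseq : ∀ n, ArtFun.HomSet.map (S.truncMap n) (seq (n + 1)).1 = (seq n).1 := by
    intro n
    exact (hstep n (seq n).1 (seq n).2).choose_spec.1
  let γ : ∀ n : ℕ, R.carrier →ₐ[Λ] (S.trunc n) := fun n => (seq n).1.1
  have hγ : ∀ n, (S.truncMap n).toAlgHom.comp (γ (n + 1)) = γ n := by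
    intro n
    exact congrArg Subtype.val (hseq n)
  let g := limMap S γ hγ
  have hgn : ∀ n, (S.truncHom n).1.comp g = γ n := by
    intro n
    exact AlgHom.ext (limMap_spec S γ hγ n)
  have hg : S.res.comp g = R.res := by
    have h1 : S.res = (S.trunc 0).res.comp (S.truncHom 0).1 := (S.truncHom 0).2.symm
    rw [h1, AlgHom.comp_assoc, hgn 0]
    exact (seq 0).1.2
  refine ⟨g, hg, ?_⟩
  apply ArtFun.FormalElt.ext'
  intro n
  show ξ.app _ ⟨(S.truncHom n).1.comp g, _⟩ = η.elt n
  have : (⟨(S.truncHom n).1.comp g, by rw [← AlgHom.comp_assoc, (S.truncHom n).2, hg]⟩ :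
      ArtFun.HomSet R.carrier R.res (S.trunc n)) = (seq n).1 := Subtype.ext (hgn n)
  rw [this]
  exact (seq n).2

end Groth.Agent.S12720
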