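import Groth.Statements.S0579
import Mathlib

set_option autoImplicit false
universe u
open CAlg

namespace Groth.Agent.S0579

/-- Every field of characteristic zero is formally smooth over `ℚ`. -/
lemma formallySmooth_rat (k : Type u) [Field k] [Algebra ℚ k] : Algebra.FormallySmooth ℚ k := by
  haveI : CharZero k := charZero_of_injective_algebraMap (algebraMap ℚ k).injective
  obtain ⟨s, hs⟩ := exists_isTranscendenceBasis ℚ k
  haveI := hs.isAlgebraic_field
  exact Algebra.FormallySmooth.of_algebraicIndependent_of_isSeparable hs.1


/-- A local ring which is complete with respect to its maximal ideal and whose residue field has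
characteristic zero admits a coefficient field: there is a ring homomorphism from the residue field
to the ring which is a section of the residue map. -/
theorem result (R : Type u) [CommRing R] [IsLocalRing R]
    [IsAdicComplete (IsLocalRing.maximalIdeal R) R] [CharZero (IsLocalRing.ResidueField R)] :
    ∃ s : IsLocalRing.ResidueField R →+* R, (IsLocalRing.residue R).comp s = RingHom.id _ := by
  classical
  have hunit : ∀ y : nonZeroDivisors ℤ, IsUnit (Int.castRingHom R (y : ℤ)) := by
    intro y
    have hy : (y : ℤ) ≠ 0 := nonZeroDivisors.ne_zero y.2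
    rw [← IsLocalRing.residue_ne_zero_iff_isUnit]
    simp only [eq_intCast, map_intCast]
    exact_mod_cast hy
  letI : Algebra ℚ R := (IsLocalization.lift (M := nonZeroDivisors ℤ) (S := ℚ) hunit).toAlgebra
  haveI : Algebra.FormallySmooth ℚ (IsLocalRing.ResidueField R) := formallySmooth_rat _
  let f : IsLocalRing.ResidueField R →ₐ[ℚ] R ⧸ IsLocalRing.maximalIdeal R :=
    { toFun := fun x => x
      map_one' := rfl
      map_mul' := fun _ _ => rfl
      map_zero' := rfl
      map_add' := fun _ _ => rfl
      commutes' := fun q => by
        have h : (algebraMap ℚ (IsLocalRing.ResidueField R) :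
            ℚ →+* R ⧸ IsLocalRing.maximalIdeal R) =
            algebraMap ℚ (R ⧸ IsLocalRing.maximalIdeal R) := Subsingleton.elim _ _
        exact RingHom.congr_fun h q }
  obtain ⟨g, hg⟩ := Algebra.FormallySmooth.exists_mkₐ_comp_eq_of_isAdicComplete
    (R := ℚ) (I := IsLocalRing.maximalIdeal R) f
  refine ⟨g.toRingHom, ?_⟩
  ext x
  have h1 := DFunLike.congr_fun hg x
  exact h1

end Groth.Agent.S0579
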