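import Groth.Statements.S0581
import Mathlib
import Groth.Agent.Lib.Helper7.CoeffRing
import Groth.Agent.Lib.Helper7.CohenFinite

set_option autoImplicit false
universe u
open CAlg

namespace Groth.Agent.S0581

/-- A complete Noetherian local domain `R` contains a subring `R₀` over which it is module-finite with
the same residue field, where `R₀` is a power series ring in finitely many variables over a field or
over a Cohen ring. Stated with `R₀` given as the image of an injective ring map. -/
theorem result (R : Type u) [CommRing R]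
    [IsDomain R] [IsLocalRing R] [IsNoetherianRing R] [IsAdicComplete (IsLocalRing.maximalIdeal R) R] :
    ∃ (Λ : Type u) (_ : CommRing Λ) (n : ℕ) (f : MvPowerSeries (Fin n) Λ →+* R),
      (IsField Λ ∨ CAlg.IsCohenRing Λ) ∧ Function.Injective f ∧ f.Finite ∧
      Function.Surjective ((IsLocalRing.residue R).comp f) := by
  classical
  obtain ⟨Λ, hring, hdom, hloc, hN, hcompl, v, π, hor, hv, hmax, hπ⟩ :=
    Groth.Agent.Lib.Helper7.CoeffRing.exists_coeff R
  letI := hring
  haveI := hdom
  haveI := hloc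
  haveI := hN
  haveI := hcompl
  obtain ⟨ε, hε1, hε2⟩ : ∃ ε : ℕ, (π = 0 ∨ 1 ≤ ε) ∧
      ((v π = 0 ∧ ε = 0) ∨ (v π ≠ 0 ∧ ε = 1)) := by
    rcases hπ with h | h
    · exact ⟨0, Or.inl h, Or.inl ⟨by rw [h, map_zero], rfl⟩⟩
    · exact ⟨1, Or.inr le_rfl, Or.inr ⟨h, rfl⟩⟩
  have htm : v π ∈ IsLocalRing.maximalIdeal R :=
    Groth.Agent.Lib.Helper7.CohenStruct7.map_maximalIdeal_le v hv
      (Ideal.mem_map_of_mem v (by rw [hmax]; exact Ideal.mem_span_singleton_self π))
  obtain ⟨m, x, hxm, hrad, hdim⟩ :=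
    Groth.Agent.Lib.Helper7.CohenFinite.exists_sop' (v π) htm ε hε2
  obtain ⟨ψ, hC, hX⟩ := Groth.Agent.Lib.Helper7.CohenStruct7.exists_powser_hom
    (IsLocalRing.maximalIdeal R) v x hxm
  have hres : Function.Surjective ((IsLocalRing.residue R).comp ψ) := by
    intro y
    obtain ⟨a, ha⟩ := hv y
    refine ⟨MvPowerSeries.C a, ?_⟩
    rw [RingHom.comp_apply, hC]
    exact ha
  have hmap := Groth.Agent.Lib.Helper7.CohenFinite.map_maximalIdeal_eq v x ψ hC hX π hmax
  have hfin : ψ.Finite :=
    Groth.Agent.Lib.Helper7.CohenFinite.finite_of_primary' ψ hres (by rw [hmap]; exact hrad)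
  haveI : IsDomain (MvPowerSeries (Fin m) Λ) := NoZeroDivisors.to_isDomain _
  have hinj : Function.Injective ψ :=
    Groth.Agent.Lib.Helper7.CohenFinite.injective_of_isIntegral_of_dim ψ
      (RingHom.IsIntegral.of_finite hfin) (m + ε)
      (Groth.Agent.Lib.Helper7.CohenFinite.ringKrullDim_powser_le π hmax m ε hε1) hdim
  exact ⟨Λ, hring, m, ψ, hor, hinj, hfin, hres⟩

end Groth.Agent.S0581
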