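import Groth.Statements.S0572
import Mathlib

set_option autoImplicit false
universe u
open CAlg

namespace Groth.Agent.S0572

open scoped nonZeroDivisors

section general

variable {R : Type u} [CommRing R] [IsDomain R]

/-- If a localization `A` of `R` is integrally closed, every element of `Frac R` integral over `R`
has a multiple by an element of the submonoid lying in `R`. -/
lemma exists_smul_eq_of_isIntegrallyClosed (M : Submonoid R) (hM : M ≤ R⁰) (A : Type u)
    [CommRing A] [Algebra R A] [IsLocalization M A] [hA : IsIntegrallyClosed A]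
    (b : FractionRing R) (hb : IsIntegral R b) :
    ∃ s ∈ M, ∃ a : R, s • b = algebraMap R (FractionRing R) a := by
  let g : A →+* FractionRing R := IsLocalization.map _ (T := R⁰) (RingHom.id R) hM
  letI := g.toAlgebra
  haveI : IsScalarTower R A (FractionRing R) := IsScalarTower.of_algebraMap_eq'
    (by rw [RingHom.algebraMap_toAlgebra, IsLocalization.map_comp, RingHomCompTriple.comp_eq])
  haveI : IsDomain A := IsLocalization.isDomain_of_le_nonZeroDivisors A hM
  haveI := IsFractionRing.isFractionRing_of_isDomain_of_isLocalization M A (FractionRing R)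
  have hb' : IsIntegral A b := hb.tower_top
  obtain ⟨y, hy⟩ := (isIntegrallyClosed_iff (FractionRing R)).mp hA hb'
  obtain ⟨⟨a, s⟩, hys⟩ := IsLocalization.surj M y
  refine ⟨s, s.2, a, ?_⟩
  have h1 := congrArg (algebraMap A (FractionRing R)) hys
  rw [map_mul, hy, ← IsScalarTower.algebraMap_apply, ← IsScalarTower.algebraMap_apply] at h1
  rw [Algebra.smul_def, mul_comm]
  exact h1

/-- Converse at a prime. -/
lemma isIntegrallyClosed_atPrime_of_forall (p : Ideal R) [p.IsPrime]
    (h : ∀ b : FractionRing R, IsIntegral R b →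
      ∃ s ∉ p, ∃ a : R, s • b = algebraMap R (FractionRing R) a) :
    IsIntegrallyClosed (Localization.AtPrime p) := by
  have hM : p.primeCompl ≤ R⁰ := p.primeCompl_le_nonZeroDivisors
  let g : Localization.AtPrime p →+* FractionRing R :=
    IsLocalization.map _ (T := R⁰) (RingHom.id R) hM
  letI := g.toAlgebra
  haveI : IsScalarTower R (Localization.AtPrime p) (FractionRing R) :=
    IsScalarTower.of_algebraMap_eq'
      (by rw [RingHom.algebraMap_toAlgebra, IsLocalization.map_comp, RingHomCompTriple.comp_eq])
  haveI := IsFractionRing.isFractionRing_of_isDomain_of_isLocalization p.primeCompl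
    (Localization.AtPrime p) (FractionRing R)
  rw [isIntegrallyClosed_iff (FractionRing R)]
  intro x hx
  obtain ⟨⟨t, ht⟩, hy⟩ := hx.exists_multiple_integral_of_isLocalization p.primeCompl _
  obtain ⟨s, hs, a, hsa⟩ := h _ hy
  have hst : s * t ∈ p.primeCompl := p.primeCompl.mul_mem hs ht
  refine ⟨IsLocalization.mk' (Localization.AtPrime p) a ⟨s * t, hst⟩, ?_⟩
  have h1 : algebraMap (Localization.AtPrime p) (FractionRing R)
      (IsLocalization.mk' (Localization.AtPrime p) a ⟨s * t, hst⟩) *
      algebraMap R (FractionRing R) (s * t) = algebraMap R (FractionRing R) a := by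
    have hspec : IsLocalization.mk' (Localization.AtPrime p) a ⟨s * t, hst⟩ *
        algebraMap R (Localization.AtPrime p) (s * t) =
        algebraMap R (Localization.AtPrime p) a :=
      IsLocalization.mk'_spec (Localization.AtPrime p) a ⟨s * t, hst⟩
    rw [IsScalarTower.algebraMap_apply R (Localization.AtPrime p) (FractionRing R) (s * t),
      ← map_mul, hspec, ← IsScalarTower.algebraMap_apply]
  have h2 : x * algebraMap R (FractionRing R) (s * t) = algebraMap R (FractionRing R) a := by
    rw [← hsa, Submonoid.mk_smul, Algebra.smul_def, Algebra.smul_def, map_mul]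
    ring
  have h3 : algebraMap R (FractionRing R) (s * t) ≠ 0 := by
    rw [Ne, map_eq_zero_iff _ (IsFractionRing.injective R (FractionRing R))]
    exact nonZeroDivisors.ne_zero (hM hst)
  exact mul_right_cancel₀ h3 (h1.trans h2.symm)

end general

section ass

variable {R : Type u} [CommRing R] [IsDomain R] [IsNoetherianRing R]

lemma ass_pow_subset (f : R) (hf : f ≠ 0) (n : ℕ) :
    associatedPrimes R (R ⧸ Ideal.span {f ^ n}) ⊆ associatedPrimes R (R ⧸ Ideal.span {f}) := by
  induction n with
  | zero =>
    intro q hq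
    haveI : Subsingleton (R ⧸ Ideal.span {f ^ 0}) := by
      rw [pow_zero, Ideal.span_singleton_one]
      exact Ideal.Quotient.subsingleton_iff.mpr rfl
    exact absurd hq not_isAssociatedPrime_of_subsingleton
  | succ n ih =>
    have h1 : Ideal.span {f ^ n} ≤
        Submodule.comap (LinearMap.mulLeft R f) (Ideal.span {f ^ (n + 1)}) := by
      intro x hx
      obtain ⟨z, rfl⟩ := Ideal.mem_span_singleton'.mp hx
      rw [Submodule.mem_comap, LinearMap.mulLeft_apply]
      exact Ideal.mem_span_singleton'.mpr ⟨z, by ring⟩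
    have h2 : Ideal.span {f ^ (n + 1)} ≤
        Submodule.comap (LinearMap.id : R →ₗ[R] R) (Ideal.span {f}) := by
      intro x hx
      obtain ⟨z, rfl⟩ := Ideal.mem_span_singleton'.mp hx
      exact Ideal.mem_span_singleton'.mpr ⟨z * f ^ n, by ring⟩
    let φ : (R ⧸ Ideal.span {f ^ n}) →ₗ[R] (R ⧸ Ideal.span {f ^ (n + 1)}) :=
      Submodule.mapQ _ _ (LinearMap.mulLeft R f) h1
    let ψ : (R ⧸ Ideal.span {f ^ (n + 1)}) →ₗ[R] (R ⧸ Ideal.span {f}) :=
      Submodule.mapQ _ _ LinearMap.id h2
    have hφ : Function.Injective φ := by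
      rw [← LinearMap.ker_eq_bot, LinearMap.ker_eq_bot']
      intro y hy
      obtain ⟨x, rfl⟩ := Submodule.mkQ_surjective _ y
      have h3 : f * x ∈ Ideal.span {f ^ (n + 1)} := by
        have := hy
        rwa [Submodule.mkQ_apply, Submodule.mapQ_apply, Submodule.Quotient.mk_eq_zero] at this
      obtain ⟨z, hz⟩ := Ideal.mem_span_singleton'.mp h3
      have h4 : x = z * f ^ n := mul_left_cancel₀ hf (by rw [← hz]; ring)
      rw [Submodule.mkQ_apply, Submodule.Quotient.mk_eq_zero, h4]
      exact Ideal.mem_span_singleton'.mpr ⟨z, rfl⟩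
    have hex : Function.Exact φ ψ := by
      intro y
      constructor
      · intro hy
        obtain ⟨x, rfl⟩ := Submodule.mkQ_surjective _ y
        have h3 : x ∈ Ideal.span {f} := by
          have := hy
          rwa [Submodule.mkQ_apply, Submodule.mapQ_apply, Submodule.Quotient.mk_eq_zero] at this
        obtain ⟨z, rfl⟩ := Ideal.mem_span_singleton'.mp h3
        refine ⟨Submodule.Quotient.mk z, ?_⟩
        show Submodule.Quotient.mk (f * z) = Submodule.Quotient.mk (z * f)
        rw [mul_comm]
      · rintro ⟨x', rfl⟩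
        obtain ⟨x, rfl⟩ := Submodule.mkQ_surjective _ x'
        show Submodule.Quotient.mk (f * x) = (0 : R ⧸ Ideal.span {f})
        rw [Submodule.Quotient.mk_eq_zero]
        exact Ideal.mem_span_singleton'.mpr ⟨x, mul_comm _ _⟩
    exact (associatedPrimes.subset_union_of_exact hφ hex).trans (Set.union_subset ih subset_rfl)

end ass


/-- Let `R` be a Noetherian domain such that `R_f` is integrally closed for some nonzero `f`. Then the
set of primes `p` with `R_p` integrally closed is open in `Spec R`. -/
theorem result (R : Type u) [CommRing R] [IsDomain R] [IsNoetherianRing R] (f : R)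
    (hf : f ≠ 0) (hn : IsIntegrallyClosed (Localization.Away f)) :
    IsOpen {p : PrimeSpectrum R | IsIntegrallyClosed (Localization.AtPrime p.asIdeal)} := by
  classical
  let B := integralClosure R (FractionRing R)
  let N₀ : Submodule R B := LinearMap.range (Algebra.linearMap R B)
  have hinjK : Function.Injective (algebraMap R (FractionRing R)) :=
    IsFractionRing.injective R (FractionRing R)
  have hN₀ : ∀ (r : R) (b : B), r • b ∈ N₀ ↔
      ∃ a : R, r • (b : FractionRing R) = algebraMap R (FractionRing R) a := by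
    intro r b
    constructor
    · rintro ⟨a, ha⟩
      refine ⟨a, ?_⟩
      have := congrArg (Subtype.val) ha
      exact this.symm
    · rintro ⟨a, ha⟩
      exact ⟨a, Subtype.ext ha.symm⟩
  -- characterization of the normal locus
  have hchar : ∀ p : PrimeSpectrum R, IsIntegrallyClosed (Localization.AtPrime p.asIdeal) ↔
      ∀ b : B, ¬ (N₀.colon {b} ≤ p.asIdeal) := by
    intro p
    constructor
    · intro hic b hle
      obtain ⟨s, hs, a, hsa⟩ := exists_smul_eq_of_isIntegrallyClosed p.asIdeal.primeCompl
        p.asIdeal.primeCompl_le_nonZeroDivisors (Localization.AtPrime p.asIdeal) (b : FractionRing R) b.2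
      have : s ∈ N₀.colon {b} := by
        rw [Submodule.mem_colon_singleton, hN₀]
        exact ⟨a, hsa⟩
      exact hs (hle this)
    · intro h
      apply isIntegrallyClosed_atPrime_of_forall
      intro b hb
      have h1 := h ⟨b, hb⟩
      rw [SetLike.not_le_iff_exists] at h1
      obtain ⟨s, hs, hsp⟩ := h1
      rw [Submodule.mem_colon_singleton, hN₀] at hs
      obtain ⟨a, ha⟩ := hs
      exact ⟨s, hsp, a, ha⟩
  -- the finite set of primes
  have hTsub : N₀.associatedPrimes ⊆ associatedPrimes R (R ⧸ Ideal.span {f}) := by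
    intro q hq
    obtain ⟨hqp, b, hqb⟩ := (Submodule.isAssociatedPrime_iff).mp hq
    obtain ⟨s, hs, a, hsa⟩ := exists_smul_eq_of_isIntegrallyClosed (Submonoid.powers f)
      (powers_le_nonZeroDivisors_of_noZeroDivisors hf) (Localization.Away f)
      (b : FractionRing R) b.2
    obtain ⟨n, rfl⟩ := (Submonoid.mem_powers_iff _ _).mp hs
    apply ass_pow_subset f hf n
    rw [AssociatedPrimes.mem_iff, isAssociatedPrime_iff]
    refine ⟨hqp, Ideal.Quotient.mk _ a, ?_⟩
    have hfn : algebraMap R (FractionRing R) (f ^ n) ≠ 0 := by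
      rw [Ne, map_eq_zero_iff _ hinjK]
      exact pow_ne_zero n hf
    ext r
    rw [hqb, Submodule.mem_colon_singleton, Submodule.mem_colon_singleton, hN₀, Submodule.mem_bot]
    have hmk : r • (Ideal.Quotient.mk (Ideal.span {f ^ n}) a) =
        Ideal.Quotient.mk (Ideal.span {f ^ n}) (r * a) := rfl
    rw [hmk, Ideal.Quotient.eq_zero_iff_mem, Ideal.mem_span_singleton']
    constructor
    · rintro ⟨c, hc⟩
      refine ⟨c, ?_⟩
      apply hinjK
      have h1 : algebraMap R (FractionRing R) (r * a) =
          r • ((f ^ n) • (b : FractionRing R)) := by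
        rw [hsa, Algebra.smul_def, map_mul]
      rw [h1, smul_comm, hc, Algebra.smul_def, ← map_mul, mul_comm]
    · rintro ⟨z, hz⟩
      refine ⟨z, ?_⟩
      have h1 : (f ^ n) • (r • (b : FractionRing R)) =
          (f ^ n) • algebraMap R (FractionRing R) z := by
        rw [smul_comm, hsa, Algebra.smul_def, Algebra.smul_def, ← map_mul, ← map_mul, ← hz]
        congr 1
        ring
      rw [Algebra.smul_def, Algebra.smul_def (f ^ n)] at h1
      exact mul_left_cancel₀ hfn h1
  have hTfin : (N₀.associatedPrimes).Finite :=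
    (associatedPrimes.finite R (R ⧸ Ideal.span {f})).subset hTsub
  have hcompl : {p : PrimeSpectrum R | IsIntegrallyClosed (Localization.AtPrime p.asIdeal)}ᶜ =
      ⋃ q ∈ N₀.associatedPrimes, PrimeSpectrum.zeroLocus (q : Set R) := by
    ext p
    rw [Set.mem_compl_iff, Set.mem_setOf_eq, hchar]
    simp only [Set.mem_iUnion, PrimeSpectrum.mem_zeroLocus, SetLike.coe_subset_coe, exists_prop]
    constructor
    · intro h
      push_neg at h
      obtain ⟨b, hb⟩ := h
      obtain ⟨q, hq, hqp⟩ := Ideal.exists_minimalPrimes_le hb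
      obtain ⟨x', hx'⟩ := Submodule.exists_eq_colon_of_mem_minimalPrimes hq
      exact ⟨q, (Submodule.isAssociatedPrime_iff).mpr ⟨hq.1.1, x', hx'⟩, hqp⟩
    · rintro ⟨q, hq, hqp⟩ h
      obtain ⟨-, b, hqb⟩ := (Submodule.isAssociatedPrime_iff).mp hq
      exact h b (hqb ▸ hqp)
  rw [← isClosed_compl_iff, hcompl]
  exact hTfin.isClosed_biUnion fun q _ => PrimeSpectrum.isClosed_zeroLocus _

end Groth.Agent.S0572
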