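import Groth.Statements.S9391
import Mathlib
import Groth.Agent.Lib.Helper14.NJapanese

set_option autoImplicit false
universe u
open CAlg

namespace Groth.Agent.S9391

/-- A localization of an N-1 domain which is again a domain is N-1. -/
theorem result (R : Type u) [CommRing R] [IsDomain R] (M : Submonoid R)
    (S : Type u) [CommRing S] [IsDomain S] [Algebra R S] [IsLocalization M S]
    (h : CAlg.IsN1 R) : CAlg.IsN1 S := by
  have hM : ∀ m : M, IsUnit (algebraMap R (FractionRing R) m) := by
    intro m
    have hm0 : (m : R) ≠ 0 := by
      intro h0
      have := IsLocalization.map_units S m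
      rw [h0, map_zero] at this
      exact not_isUnit_zero this
    exact IsUnit.mk0 _ (by simpa using hm0)
  letI : Algebra S (FractionRing R) := (IsLocalization.lift hM).toAlgebra
  haveI : IsScalarTower R S (FractionRing R) :=
    IsScalarTower.of_algebraMap_eq fun r => (IsLocalization.lift_eq hM r).symm
  haveI : IsFractionRing S (FractionRing R) :=
    IsFractionRing.isFractionRing_of_isDomain_of_isLocalization M S (FractionRing R)
  have h1 : Module.Finite S (integralClosure S (FractionRing R)) :=
    Groth.Agent.Lib.Helper14.finite_integralClosure_of_isLocalization M h
  let e : FractionRing R ≃ₐ[S] FractionRing S := (FractionRing.algEquiv S (FractionRing R)).symm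
  exact Module.Finite.equiv e.mapIntegralClosure.toLinearEquiv

end Groth.Agent.S9391
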