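import Groth.Statements.S9128
import Groth.Agent.Lib.Helper14.CatenaryDim

set_option autoImplicit false
universe u
open CAlg

namespace Groth.Agent.S9128

/-- A Noetherian local ring A is catenary if and only if the assignment sending a prime p to the Krull
dimension of A/p is a dimension function on Spec A, i.e. it decreases strictly along strict
inclusions of primes and drops by exactly one along inclusions with no prime strictly in between. -/
theorem result (A : Type u) [CommRing A] [IsNoetherianRing A]
    [IsLocalRing A] :
    CAlg.IsCatenary A ↔
      ∀ p q : PrimeSpectrum A, p < q →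
        ringKrullDim (A ⧸ q.asIdeal) < ringKrullDim (A ⧸ p.asIdeal) ∧
          (p ⋖ q → ringKrullDim (A ⧸ p.asIdeal) = ringKrullDim (A ⧸ q.asIdeal) + 1) := by
  have hfd : FiniteDimensionalOrder (PrimeSpectrum A) :=
    (inferInstance : FiniteRingKrullDim A)
  rw [Groth.Agent.Lib.Helper14.isCatenary_iff_orderCatenary]
  simp only [Groth.Agent.Lib.Helper14.ringKrullDim_quotient_eq_coheight]
  constructor
  · intro hcat p q hpq
    refine ⟨?_, fun hcov => ?_⟩
    · exact_mod_cast Order.coheight_strictAnti hpq (Order.coheight_lt_top q)
    · have := Groth.Agent.Lib.Helper14.coheight_eq_add_one_of_covBy hcat hcov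
      rw [this]
      rfl
  · intro h
    apply Groth.Agent.Lib.Helper14.orderCatenary_of_coheight
    intro p q hcov
    have := (h p q hcov.lt).2 hcov
    exact_mod_cast this

end Groth.Agent.S9128
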