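import Groth.Statements.S9297
-- import your own Groth.Agent.* helpers here
import Mathlib
import Groth.Agent.Lib.Helper22.EquidimFlat

set_option autoImplicit false
universe u
open EGA4

namespace Groth.Agent.S9297

/-- Let A → B be a flat local homomorphism of Noetherian local rings with B catenary and Spec(B)
equidimensional. Then Spec(B/pB) is equidimensional for every prime p of A. -/
theorem result (A B : Type u) [CommRing A] [CommRing B]
    [IsNoetherianRing A] [IsNoetherianRing B] [IsLocalRing A] [IsLocalRing B] [Algebra A B]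
    [IsLocalHom (algebraMap A B)] [Module.Flat A B] (hcat : CAlg.IsCatenary B) (heq : EGA4.IsEquidim B)
    (p : Ideal A) [p.IsPrime] : EGA4.IsEquidim (B ⧸ Ideal.map (algebraMap A B) p) := by
  intro P0 hP0
  -- the key: for a minimal prime of B/(Ideal.map (algebraMap A B) p), the dimension of the quotient is determined
  have key : ∀ P ∈ minimalPrimes (B ⧸ (Ideal.map (algebraMap A B) p)), ∃ Q : PrimeSpectrum B,
      Q.asIdeal.height = p.height ∧ ringKrullDim ((B ⧸ (Ideal.map (algebraMap A B) p)) ⧸ P) = (Order.coheight Q : WithBot ℕ∞) := by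
    intro P hP
    haveI hPp : P.IsPrime := hP.1.1
    set Q : Ideal B := P.comap (Ideal.Quotient.mk (Ideal.map (algebraMap A B) p)) with hQ
    haveI hQp : Q.IsPrime := Ideal.comap_isPrime _ _
    have hQmin : Q ∈ (Ideal.map (algebraMap A B) p).minimalPrimes := by
      rw [Ideal.minimalPrimes_eq_comap]
      exact ⟨P, hP, rfl⟩
    refine ⟨⟨Q, hQp⟩, Groth.Agent.Lib.Helper22.EquidimFlat.height_eq_of_mem_minimalPrimes p Q hQmin, ?_⟩
    have hJQ : (Ideal.map (algebraMap A B) p) ≤ Q := hQmin.1.2
    have hPQ : P = Q.map (Ideal.Quotient.mk (Ideal.map (algebraMap A B) p)) := by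
      rw [hQ, Ideal.map_comap_of_surjective _ Ideal.Quotient.mk_surjective]
    have e : ((B ⧸ (Ideal.map (algebraMap A B) p)) ⧸ Q.map (Ideal.Quotient.mk (Ideal.map (algebraMap A B) p))) ≃+* B ⧸ Q :=
      DoubleQuot.quotQuotEquivQuotOfLE hJQ
    rw [← Groth.Agent.Lib.Helper14.ringKrullDim_quotient_eq_coheight ⟨Q, hQp⟩,
      ← ringKrullDim_eq_of_ringEquiv e]
    exact ringKrullDim_eq_of_ringEquiv (Ideal.quotEquivOfEq hPQ)
  have hall : ∀ P ∈ minimalPrimes (B ⧸ (Ideal.map (algebraMap A B) p)),
      ringKrullDim ((B ⧸ (Ideal.map (algebraMap A B) p)) ⧸ P) = ringKrullDim ((B ⧸ (Ideal.map (algebraMap A B) p)) ⧸ P0) := by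
    intro P hP
    obtain ⟨Q, hQh, hQd⟩ := key P hP
    obtain ⟨Q0, hQ0h, hQ0d⟩ := key P0 hP0
    rw [hQd, hQ0d]
    have h1 := Groth.Agent.Lib.Helper4.RkLift.height_add_coheight_eq hcat heq Q
    have h2 := Groth.Agent.Lib.Helper4.RkLift.height_add_coheight_eq hcat heq Q0
    rw [hQh] at h1
    rw [hQ0h, ← h1] at h2
    have h3 : p.height + Order.coheight Q0 = p.height + Order.coheight Q :=
      WithBot.coe_injective h2
    have hfin : p.height ≠ ⊤ := Ideal.height_ne_top_of_isPrime
    have h4 := ENat.add_right_injective_of_ne_top hfin h3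
    rw [h4]
  rw [Groth.Agent.Lib.Helper22.EquidimFlat.ringKrullDim_eq_of_forall_minimalPrimes P0 hP0 hall]

end Groth.Agent.S9297
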