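import Groth.Statements.S0580
import Mathlib
import Groth.Agent.Lib.Helper7.CohenExist
import Groth.Agent.Lib.Helper7.CohenStruct7
import Groth.Agent.Lib.Helper15.ComplNoeth
import Groth.Agent.S0579
import Groth.Agent.S2456

set_option autoImplicit false
universe u
open CAlg

namespace Groth.Agent.S0580

/-- A local ring complete with respect to a finitely generated maximal ideal is a quotient of a power
series ring in finitely many variables over a ring which is either a field or a Cohen ring. -/
theorem result (R : Type u) [CommRing R]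
    [IsLocalRing R] [IsAdicComplete (IsLocalRing.maximalIdeal R) R]
    (hfg : (IsLocalRing.maximalIdeal R).FG) :
    ∃ (Λ : Type u) (_ : CommRing Λ) (n : ℕ) (f : MvPowerSeries (Fin n) Λ →+* R),
      (IsField Λ ∨ CAlg.IsCohenRing Λ) ∧ Function.Surjective f := by
  classical
  haveI : IsNoetherianRing (R ⧸ IsLocalRing.maximalIdeal R) :=
    inferInstanceAs (IsNoetherianRing (IsLocalRing.ResidueField R))
  haveI hRN : IsNoetherianRing R :=
    Groth.Agent.Lib.Helper15.CN.isNoetherianRing_of_fg_of_complete (IsLocalRing.maximalIdeal R) hfg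
  obtain ⟨n, x, hx⟩ := Submodule.fg_iff_exists_fin_generating_family.mp hfg
  have hxm : ∀ i, x i ∈ IsLocalRing.maximalIdeal R := fun i => by
    rw [← hx]; exact Submodule.subset_span ⟨i, rfl⟩
  have hΛ : ∃ (Λ : Type u) (_ : CommRing Λ) (_ : IsLocalRing Λ) (_ : IsNoetherianRing Λ)
      (_ : IsAdicComplete (IsLocalRing.maximalIdeal Λ) Λ) (v : Λ →+* R),
      (IsField Λ ∨ CAlg.IsCohenRing Λ) ∧
        Function.Surjective ((IsLocalRing.residue R).comp v) := by
    by_cases h0 : CharZero (IsLocalRing.ResidueField R)
    · obtain ⟨s, hs⟩ := Groth.Agent.S0579.result R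
      refine ⟨IsLocalRing.ResidueField R, inferInstance, inferInstance, inferInstance,
        inferInstance, s, Or.inl (Field.toIsField _), ?_⟩
      intro y
      exact ⟨y, congrArg (fun g : IsLocalRing.ResidueField R →+* IsLocalRing.ResidueField R => g y) hs⟩
    · obtain ⟨p, hp⟩ := CharP.exists (IsLocalRing.ResidueField R)
      have hp0 : p ≠ 0 := by
        intro h
        subst h
        exact h0 (CharP.charP_to_charZero _)
      haveI : Fact p.Prime :=
        ⟨(CharP.char_is_prime_or_zero (IsLocalRing.ResidueField R) p).resolve_right hp0⟩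
      obtain ⟨Λ, hring, hloc, hdom, hdvr, hN, hcompl, hmax, ⟨e⟩⟩ :=
        Groth.Agent.Lib.Helper7.CohenExist.exists_cohen p (IsLocalRing.ResidueField R)
      letI := hring
      haveI := hloc
      haveI := hN
      haveI := hcompl
      have hcohen : CAlg.IsCohenRing Λ := ⟨hdom, hdvr, hcompl, p, (Fact.out : p.Prime), hmax⟩
      haveI : IsLocalRing (R ⧸ IsLocalRing.maximalIdeal R) :=
        inferInstanceAs (IsLocalRing (IsLocalRing.ResidueField R))
      let u : Λ →+* R ⧸ IsLocalRing.maximalIdeal R := e.toRingHom.comp (IsLocalRing.residue Λ)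
      haveI : IsLocalHom u := by
        refine ⟨fun a ha => ?_⟩
        by_contra hnu
        have h1 : IsLocalRing.residue Λ a = 0 :=
          (IsLocalRing.residue_eq_zero_iff a).mpr ((IsLocalRing.mem_maximalIdeal a).mpr hnu)
        have h2 : u a = 0 := by
          show e (IsLocalRing.residue Λ a) = 0
          rw [h1, map_zero]
        rw [h2] at ha
        exact not_isUnit_zero ha
      obtain ⟨v, hv, hvu⟩ := Groth.Agent.S2456.result (W := Λ) (C := R) (Or.inr hcohen)
        (IsLocalRing.maximalIdeal R) Ideal.IsPrime.ne_top' u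
      refine ⟨Λ, hring, hloc, hN, hcompl, v, Or.inr hcohen, ?_⟩
      intro y
      obtain ⟨a, ha⟩ := IsLocalRing.residue_surjective (e.symm y)
      refine ⟨a, ?_⟩
      have h3 : (Ideal.Quotient.mk (IsLocalRing.maximalIdeal R)) (v a) = u a :=
        congrArg (fun g : Λ →+* R ⧸ IsLocalRing.maximalIdeal R => g a) hvu
      show (Ideal.Quotient.mk (IsLocalRing.maximalIdeal R)) (v a) = y
      rw [h3]
      show e (IsLocalRing.residue Λ a) = y
      rw [ha, RingEquiv.apply_symm_apply]
  obtain ⟨Λ, hring, hloc, hN, hcompl, v, hor, hv⟩ := hΛ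
  letI := hring
  haveI := hloc
  haveI := hN
  haveI := hcompl
  obtain ⟨ψ, hC, hX⟩ := Groth.Agent.Lib.Helper7.CohenStruct7.exists_powser_hom
    (IsLocalRing.maximalIdeal R) v x hxm
  exact ⟨Λ, hring, n, ψ, hor,
    Groth.Agent.Lib.Helper7.CohenStruct7.powser_surjective v hv x hx ψ hC hX⟩

end Groth.Agent.S0580
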