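import Mathlib
import Groth.Prelude.Def_Found
import Groth.Agent.Lib.Helper27.NagCompl
import Groth.Agent.Lib.Helper14.FEChain2
import Groth.Agent.Lib.Helper14.ComplEtale

set_option autoImplicit false
set_option linter.style.haveILetI false

universe u

open TensorProduct IsLocalRing

namespace Groth.Agent.S2072

/-- Abstract form: `R` a domain, `C` a faithfully flat Noetherian `R`-algebra which embeds into a
finite product of fields `F i` in each of which the integral closure of `C` is finite, the nonzero
elements of `R` becoming units.  Then `R` is N-1. -/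
theorem finite_integralClosure_of_flat_embedding
    (R : Type u) [CommRing R] [IsDomain R] (C : Type u) [CommRing C] [Algebra R C]
    [Module.FaithfullyFlat R C] [IsNoetherianRing C]
    (ι : Type u) [Finite ι] (F : ι → Type u) [∀ i, Field (F i)] [∀ i, Algebra C (F i)]
    (hinj : ∀ c : C, (∀ i, algebraMap C (F i) c = 0) → c = 0)
    (hunit : ∀ b : R, b ≠ 0 → ∀ i, algebraMap C (F i) (algebraMap R C b) ≠ 0)
    (hfin : ∀ i, Module.Finite C (integralClosure C (F i))) :
    Module.Finite R (integralClosure R (FractionRing R)) := by
  classical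
  have hg : ∀ y : Algebra.algebraMapSubmonoid C (nonZeroDivisors R),
      IsUnit (algebraMap C (∀ i, F i) y) := by
    rintro ⟨y, b, hb, rfl⟩
    rw [Pi.isUnit_iff]
    intro i
    rw [Pi.algebraMap_apply]
    exact (hunit b (nonZeroDivisors.ne_zero hb) i).isUnit
  obtain ⟨Ψ, hΨ, hΨinj⟩ : ∃ Ψ : C ⊗[R] FractionRing R →+* (∀ i, F i),
      (∀ c : C, Ψ (algebraMap C (C ⊗[R] FractionRing R) c) = algebraMap C (∀ i, F i) c) ∧
        Function.Injective Ψ := by
    refine ⟨IsLocalization.lift (M := Algebra.algebraMapSubmonoid C (nonZeroDivisors R)) hg,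
      fun c => IsLocalization.lift_eq hg c, (IsLocalization.lift_injective_iff hg).mpr ?_⟩
    intro x y
    constructor
    · intro h
      have h' := congrArg
        (IsLocalization.lift (M := Algebra.algebraMapSubmonoid C (nonZeroDivisors R)) hg) h
      rwa [IsLocalization.lift_eq, IsLocalization.lift_eq] at h'
    · intro h
      have hxy : x = y := by
        rw [← sub_eq_zero]
        apply hinj
        intro i
        have h' := congrFun h i
        rw [Pi.algebraMap_apply, Pi.algebraMap_apply] at h'
        rw [map_sub, h', sub_self]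
      rw [hxy]
  obtain ⟨θ, hθ1⟩ : ∃ θ : FractionRing R →+* (∀ i, F i),
      ∀ k, θ k = Ψ ((1 : C) ⊗ₜ[R] k) :=
    ⟨Ψ.comp (Algebra.TensorProduct.includeRight :
      FractionRing R →ₐ[R] C ⊗[R] FractionRing R).toRingHom, fun k => rfl⟩
  have hθ : ∀ r : R, θ (algebraMap R (FractionRing R) r) =
      algebraMap C (∀ i, F i) (algebraMap R C r) := by
    intro r
    rw [hθ1, ← hΨ]
    congr 1
    rw [Algebra.TensorProduct.algebraMap_apply, Algebra.algebraMap_self, RingHom.id_apply,
      Algebra.algebraMap_eq_smul_one (A := FractionRing R) r,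
      Algebra.algebraMap_eq_smul_one (A := C) r, TensorProduct.smul_tmul]
  have hint : ∀ (x : integralClosure R (FractionRing R)) (i : ι), IsIntegral C (θ x.1 i) := by
    intro x i
    exact IsIntegral.map_of_comp_eq (algebraMap R C) ((Pi.evalRingHom F i).comp θ)
      (RingHom.ext fun r => by
        show algebraMap C (F i) (algebraMap R C r) = θ (algebraMap R (FractionRing R) r) i
        rw [hθ, Pi.algebraMap_apply]) x.2
  letI : Module R (∀ i, integralClosure C (F i)) := Module.compHom _ (algebraMap R C)
  haveI : IsScalarTower R C (∀ i, integralClosure C (F i)) :=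
    ⟨fun r c n => by
      show (r • c) • n = (algebraMap R C r) • (c • n)
      rw [Algebra.smul_def r c, mul_smul]⟩
  let lam : integralClosure R (FractionRing R) →ₗ[R] (∀ i, integralClosure C (F i)) :=
    { toFun := fun x i => ⟨θ x.1 i, hint x i⟩
      map_add' := fun x y => by
        funext i
        apply Subtype.ext
        show θ (x.1 + y.1) i = θ x.1 i + θ y.1 i
        rw [map_add]; rfl
      map_smul' := fun r x => by
        funext i
        apply Subtype.ext
        show θ (r • x.1) i = (algebraMap R C r) • (θ x.1 i)
        rw [Algebra.smul_def r x.1, map_mul, hθ, Algebra.smul_def (algebraMap R C r)]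
        rfl }
  let Φ : C ⊗[R] integralClosure R (FractionRing R) →ₗ[C] (∀ i, integralClosure C (F i)) :=
    LinearMap.liftBaseChange C lam
  let ρ : C ⊗[R] integralClosure R (FractionRing R) →ₗ[C] C ⊗[R] FractionRing R :=
    (integralClosure R (FractionRing R)).val.toLinearMap.baseChange C
  have hρinj : Function.Injective ρ := by
    show Function.Injective ((integralClosure R (FractionRing R)).val.toLinearMap.baseChange C)
    rw [LinearMap.baseChange_eq_ltensor]
    exact Module.Flat.lTensor_preserves_injective_linearMap _ Subtype.val_injective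
  have key : ∀ t : C ⊗[R] integralClosure R (FractionRing R),
      (fun i => ((Φ t) i).1) = Ψ (ρ t) := by
    intro t
    induction t using TensorProduct.induction_on with
    | zero =>
      rw [map_zero, map_zero, map_zero]; rfl
    | tmul c x =>
      have h3 : ρ (c ⊗ₜ[R] x) =
          algebraMap C (C ⊗[R] FractionRing R) c * ((1 : C) ⊗ₜ[R] x.1) := by
        show (integralClosure R (FractionRing R)).val.toLinearMap.baseChange C (c ⊗ₜ[R] x) = _
        rw [LinearMap.baseChange_tmul, Algebra.TensorProduct.algebraMap_apply,
          Algebra.algebraMap_self, RingHom.id_apply, Algebra.TensorProduct.tmul_mul_tmul,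
          mul_one, one_mul]
        rfl
      have h4 : Φ (c ⊗ₜ[R] x) = c • lam x := LinearMap.liftBaseChange_tmul _ _ _ _
      rw [h3, map_mul, hΨ, ← hθ1, h4]
      funext i
      show c • θ x.1 i = (algebraMap C (∀ i, F i) c * θ x.1) i
      rw [Algebra.smul_def]; rfl
    | add a b ha hb =>
      rw [map_add, map_add, map_add, ← ha, ← hb]; rfl
  have hΦinj : Function.Injective Φ := by
    rw [injective_iff_map_eq_zero]
    intro t ht
    apply hρinj
    apply hΨinj
    rw [← key t, ht, map_zero, map_zero]
    rfl
  haveI := hfin
  haveI : Module.Finite C (∀ i, integralClosure C (F i)) := Module.Finite.pi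
  haveI : IsNoetherian C (∀ i, integralClosure C (F i)) :=
    isNoetherian_of_isNoetherianRing_of_finite C _
  haveI : Module.Finite C (C ⊗[R] integralClosure R (FractionRing R)) :=
    Module.Finite.of_injective Φ hΦinj
  exact Module.Finite.of_finite_tensorProduct_of_faithfullyFlat C

/-- For a prime `q` of a Noetherian ring `C` with `C ⧸ q` N-2, the fraction field of `C ⧸ q`
contains a finite integral closure of `C`. -/
theorem exists_field_of_prime (C : Type u) [CommRing C] [IsNoetherianRing C] (q : Ideal C)
    [q.IsPrime] (hN2 : CAlg.IsN2 (C ⧸ q)) :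
    ∃ (F : Type u) (_ : Field F) (_ : Algebra C F), RingHom.ker (algebraMap C F) = q ∧
      Module.Finite C (integralClosure C F) := by
  refine ⟨FractionRing (C ⧸ q), inferInstance, inferInstance, ?_, ?_⟩
  · ext c
    rw [RingHom.mem_ker, IsScalarTower.algebraMap_apply C (C ⧸ q) (FractionRing (C ⧸ q)),
      map_eq_zero_iff _ (IsFractionRing.injective (C ⧸ q) (FractionRing (C ⧸ q))),
      Ideal.Quotient.algebraMap_eq, Ideal.Quotient.eq_zero_iff_mem]
  · haveI hfin : Module.Finite (C ⧸ q) (integralClosure (C ⧸ q) (FractionRing (C ⧸ q))) :=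
      hN2 (FractionRing (C ⧸ q)) inferInstance
    haveI : Module.Finite C (integralClosure (C ⧸ q) (FractionRing (C ⧸ q))) :=
      Module.Finite.trans (C ⧸ q) _
    haveI : IsNoetherian C (integralClosure (C ⧸ q) (FractionRing (C ⧸ q))) :=
      isNoetherian_of_isNoetherianRing_of_finite C _
    let f : integralClosure C (FractionRing (C ⧸ q)) →ₗ[C]
        integralClosure (C ⧸ q) (FractionRing (C ⧸ q)) :=
      { toFun := fun x => ⟨x.1, x.2.tower_top⟩
        map_add' := fun _ _ => rfl
        map_smul' := fun _ _ => rfl }
    refine Module.Finite.of_injective f (fun x y h => Subtype.ext ?_)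
    have h' : (f x).1 = (f y).1 := congrArg Subtype.val h
    exact h'

/-- A Noetherian local domain whose completion with respect to the maximal ideal is reduced (an
analytically unramified local domain) is N-1: its integral closure in its fraction field is a finite
module. -/
theorem result {R : Type u} [CommRing R] [IsDomain R] [IsLocalRing R]
    [IsNoetherianRing R] [IsReduced (AdicCompletion (IsLocalRing.maximalIdeal R) R)] : CAlg.IsN1 R := by
  haveI : IsNoetherianRing (AdicCompletion (maximalIdeal R) R) :=
    Groth.Agent.Lib.Helper14.ComplEtale.isNoetherianRing_completion R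
  haveI : IsAdicComplete (maximalIdeal (AdicCompletion (maximalIdeal R) R))
      (AdicCompletion (maximalIdeal R) R) :=
    Groth.Agent.Lib.Helper14.FEChain2.isAdicComplete_cpl R
  haveI : Module.FaithfullyFlat R (AdicCompletion (maximalIdeal R) R) :=
    Module.FaithfullyFlat.of_flat_of_isLocalHom
  obtain ⟨-, hN2⟩ := Groth.Agent.Lib.Helper27.NagCompl.isNagata_of_complete
    (AdicCompletion (maximalIdeal R) R)
  haveI : Finite {q : Ideal (AdicCompletion (maximalIdeal R) R) //
      q ∈ minimalPrimes (AdicCompletion (maximalIdeal R) R)} :=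
    (minimalPrimes.finite_of_isNoetherianRing (AdicCompletion (maximalIdeal R) R)).to_subtype
  have hch : ∀ q : {q : Ideal (AdicCompletion (maximalIdeal R) R) //
      q ∈ minimalPrimes (AdicCompletion (maximalIdeal R) R)},
      ∃ (F : Type u) (_ : Field F) (_ : Algebra (AdicCompletion (maximalIdeal R) R) F),
        RingHom.ker (algebraMap (AdicCompletion (maximalIdeal R) R) F) = q.1 ∧
        Module.Finite (AdicCompletion (maximalIdeal R) R)
          (integralClosure (AdicCompletion (maximalIdeal R) R) F) := fun q => by
    haveI : q.1.IsPrime := Ideal.IsMinimalPrime.isPrime q.2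
    exact exists_field_of_prime _ q.1 (hN2 q.1)
  choose F hField hAlg hker hfin using hch
  letI := hField
  letI := hAlg
  have hinj : ∀ c : AdicCompletion (maximalIdeal R) R,
      (∀ q, algebraMap (AdicCompletion (maximalIdeal R) R) (F q) c = 0) → c = 0 := by
    intro c hc
    have h1 : c ∈ sInf (minimalPrimes (AdicCompletion (maximalIdeal R) R)) := by
      rw [Submodule.mem_sInf]
      intro q hq
      have h := hc ⟨q, hq⟩
      rw [← RingHom.mem_ker, hker ⟨q, hq⟩] at h
      exact h
    have h2 : sInf (minimalPrimes (AdicCompletion (maximalIdeal R) R)) = ⊥ := by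
      rw [minimalPrimes, Ideal.sInf_minimalPrimes]
      exact nilradical_eq_zero _
    rw [h2] at h1
    exact h1
  have hunit : ∀ b : R, b ≠ 0 → ∀ q, algebraMap (AdicCompletion (maximalIdeal R) R) (F q)
      (algebraMap R (AdicCompletion (maximalIdeal R) R) b) ≠ 0 := by
    intro b hb q hzero
    have hmem : algebraMap R (AdicCompletion (maximalIdeal R) R) b ∈ q.1 := by
      rw [← hker q, RingHom.mem_ker]; exact hzero
    have hreg : IsSMulRegular (AdicCompletion (maximalIdeal R) R) b :=
      Module.Flat.isSMulRegular_of_nonZeroDivisors (mem_nonZeroDivisors_of_ne_zero hb)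
    have hnzd : algebraMap R (AdicCompletion (maximalIdeal R) R) b ∈
        nonZeroDivisors (AdicCompletion (maximalIdeal R) R) := by
      rw [mem_nonZeroDivisors_iff_right]
      intro x hx
      exact hreg (by
        show b • x = b • (0 : AdicCompletion (maximalIdeal R) R)
        rw [smul_zero, Algebra.smul_def, mul_comm]; exact hx)
    exact Set.disjoint_left.mp (Ideal.disjoint_nonZeroDivisors_of_mem_minimalPrimes q.2) hmem hnzd
  exact finite_integralClosure_of_flat_embedding R (AdicCompletion (maximalIdeal R) R) _ F
    hinj hunit hfin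

end Groth.Agent.S2072
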