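import Groth.Statements.S6299
import Mathlib

set_option autoImplicit false
universe u
open CAlg

namespace Groth.Agent.S6299

section helpers
open PowerSeries

/-- `u` vanishes below degree `e` and has coefficient `c` there. -/
def LowAt {K : Type*} [CommRing K] (u : K⟦X⟧) (e : ℕ) (c : K) : Prop :=
  (∀ i < e, coeff i u = 0) ∧ coeff e u = c

theorem LowAt.mul {K : Type*} [CommRing K] {u v : K⟦X⟧} {e j : ℕ} {c c' : K}
    (hu : LowAt u e c) (hv : LowAt v j c') : LowAt (u * v) (e + j) (c * c') := by
  constructor
  · intro i hi
    rw [coeff_mul]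
    apply Finset.sum_eq_zero
    rintro ⟨p1, p2⟩ hp
    rw [Finset.HasAntidiagonal.mem_antidiagonal] at hp
    simp only at hp ⊢
    by_cases h1 : p1 < e
    · rw [hu.1 p1 h1, zero_mul]
    · have h2 : p2 < j := by omega
      rw [hv.1 p2 h2, mul_zero]
  · rw [coeff_mul, Finset.sum_eq_single (e, j)]
    · simp only
      rw [hu.2, hv.2]
    · rintro ⟨p1, p2⟩ hp hne
      rw [Finset.HasAntidiagonal.mem_antidiagonal] at hp
      simp only at hp ⊢
      by_cases h1 : p1 < e
      · rw [hu.1 p1 h1, zero_mul]
      · have h2 : p2 < j := by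
          by_contra h2
          have : p1 = e ∧ p2 = j := by omega
          exact hne (by rw [this.1, this.2])
        rw [hv.1 p2 h2, mul_zero]
    · intro h
      exact (h ((Finset.HasAntidiagonal.mem_antidiagonal (n := e + j) (a := (e, j))).mpr rfl)).elim

theorem LowAt.pow {K : Type*} [CommRing K] {v : K⟦X⟧} {j : ℕ} {c : K} (hv : LowAt v j c) (m : ℕ) :
    LowAt (v ^ m) (j * m) (c ^ m) := by
  induction m with
  | zero =>
    refine ⟨fun i hi => by omega, ?_⟩
    simp
  | succ m ih =>
    have := ih.mul hv
    rw [pow_succ, pow_succ, Nat.mul_succ]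
    exact this

theorem mem_range_of_almostIntegral {R : Type u} [CommRing R] [IsDomain R] [IsNoetherianRing R]
    [IsIntegrallyClosed R] (g : (FractionRing R)⟦X⟧)
    (hg : IsAlmostIntegral R⟦X⟧ g) :
    ∃ h : R⟦X⟧, PowerSeries.map (algebraMap R (FractionRing R)) h = g := by
  suffices hco : ∀ j, ∃ r : R, algebraMap R (FractionRing R) r = coeff j g by
    choose r hr using hco
    exact ⟨PowerSeries.mk r, by ext j; rw [coeff_map, coeff_mk, hr]⟩
  intro j
  induction j using Nat.strong_induction_on with
  | _ j ih =>
    have hch : ∀ i : ℕ, ∃ r : R, i < j → algebraMap R (FractionRing R) r = coeff i g := by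
      intro i
      by_cases hi : i < j
      · obtain ⟨r, hr⟩ := ih i hi
        exact ⟨r, fun _ => hr⟩
      · exact ⟨0, fun h => absurd h hi⟩
    choose r hr using hch
    let h₀ : R⟦X⟧ := PowerSeries.mk (fun i => if i < j then r i else 0)
    let g₁ : (FractionRing R)⟦X⟧ := g - algebraMap R⟦X⟧ (FractionRing R)⟦X⟧ h₀
    have hg₁ : IsAlmostIntegral R⟦X⟧ g₁ := by
      have h1 : g ∈ completeIntegralClosure R⟦X⟧ (FractionRing R)⟦X⟧ := hg
      have h2 : algebraMap R⟦X⟧ (FractionRing R)⟦X⟧ h₀ ∈
          completeIntegralClosure R⟦X⟧ (FractionRing R)⟦X⟧ := Subalgebra.algebraMap_mem _ _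
      exact Subalgebra.sub_mem _ h1 h2
    have hlow : LowAt g₁ j (coeff j g) := by
      constructor
      · intro i hi
        show coeff i (g - map (algebraMap R (FractionRing R)) h₀) = 0
        rw [map_sub, coeff_map, coeff_mk, if_pos hi, hr i hi, sub_self]
      · show coeff j (g - map (algebraMap R (FractionRing R)) h₀) = coeff j g
        rw [map_sub, coeff_map, coeff_mk, if_neg (lt_irrefl j), map_zero, sub_zero]
    obtain ⟨d, hd, hdn⟩ := hg₁
    have hd0 : d ≠ 0 := nonZeroDivisors.ne_zero hd
    have hex : ∃ n, coeff n d ≠ 0 := by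
      by_contra hcon
      push Not at hcon
      exact hd0 (PowerSeries.ext hcon)
    classical
    let e := Nat.find hex
    have he : coeff e d ≠ 0 := Nat.find_spec hex
    have hlt : ∀ i < e, coeff i d = 0 := fun i hi => not_not.mp (Nat.find_min hex hi)
    have hlowd : LowAt (algebraMap R⟦X⟧ (FractionRing R)⟦X⟧ d) e
        (algebraMap R (FractionRing R) (coeff e d)) := by
      constructor
      · intro i hi
        show coeff i (map (algebraMap R (FractionRing R)) d) = 0
        rw [coeff_map, hlt i hi, map_zero]
      · show coeff e (map (algebraMap R (FractionRing R)) d) = _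
        rw [coeff_map]
    have hai : IsAlmostIntegral R (coeff j g) := by
      refine ⟨coeff e d, mem_nonZeroDivisors_of_ne_zero he, fun n => ?_⟩
      obtain ⟨w, hw⟩ := hdn n
      have hprod := hlowd.mul (hlow.pow n)
      refine ⟨coeff (e + j * n) w, ?_⟩
      rw [Algebra.smul_def, ← hprod.2, ← Algebra.smul_def, ← hw]
      show algebraMap R (FractionRing R) (coeff (e + j * n) w) =
        coeff (e + j * n) (map (algebraMap R (FractionRing R)) w)
      rw [coeff_map]
    have hint : IsIntegral R (coeff j g) := hai.isIntegral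
    exact IsIntegrallyClosed.algebraMap_eq_of_integral hint

end helpers


/-- Let R be a Noetherian normal domain. Then the power series ring R[[x]] is a Noetherian normal domain
(here: it is an integrally closed domain and a Noetherian ring). -/
theorem result (R : Type u) [CommRing R] [IsDomain R] [IsNoetherianRing R] [IsIntegrallyClosed R] : IsIntegrallyClosed (PowerSeries R) ∧ IsNoetherianRing (PowerSeries R) := by
  refine ⟨?_, inferInstance⟩
  rw [isIntegrallyClosed_iff (FractionRing (PowerSeries R))]
  intro f hf
  let ι : PowerSeries R →+* PowerSeries (FractionRing R) :=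
    algebraMap (PowerSeries R) (PowerSeries (FractionRing R))
  have hιinj : Function.Injective ι :=
    PowerSeries.map_injective _ (IsFractionRing.injective R (FractionRing R))
  let φ : PowerSeries R →+* FractionRing (PowerSeries (FractionRing R)) :=
    (algebraMap (PowerSeries (FractionRing R)) (FractionRing (PowerSeries (FractionRing R)))).comp ι
  have hφinj : Function.Injective φ := (IsFractionRing.injective (PowerSeries (FractionRing R)) _).comp hιinj
  let ψ : FractionRing (PowerSeries R) →+* FractionRing (PowerSeries (FractionRing R)) :=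
    IsFractionRing.lift hφinj
  have hψ : ∀ x, ψ (algebraMap (PowerSeries R) (FractionRing (PowerSeries R)) x) =
      algebraMap (PowerSeries (FractionRing R)) (FractionRing (PowerSeries (FractionRing R))) (ι x) :=
    fun x => IsFractionRing.lift_algebraMap hφinj x
  have h2 : IsIntegral (PowerSeries (FractionRing R)) (ψ f) :=
    IsIntegral.map_of_comp_eq ι ψ (RingHom.ext (fun x => (hψ x).symm)) hf
  obtain ⟨g, hg⟩ := IsIntegrallyClosed.algebraMap_eq_of_integral h2
  obtain ⟨d, hd, hdn⟩ := hf.isAlmostIntegral
  have hgai : IsAlmostIntegral (PowerSeries R) g := by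
    refine ⟨d, hd, fun n => ?_⟩
    obtain ⟨w, hw⟩ := hdn n
    refine ⟨w, ?_⟩
    apply IsFractionRing.injective (PowerSeries (FractionRing R))
      (FractionRing (PowerSeries (FractionRing R)))
    have h3 := congrArg ψ hw
    rw [hψ, Algebra.smul_def, map_mul, map_pow, hψ, ← hg] at h3
    rw [Algebra.smul_def, map_mul, map_pow]
    exact h3
  obtain ⟨h, hh⟩ := mem_range_of_almostIntegral g hgai
  refine ⟨h, ?_⟩
  apply ψ.injective
  rw [hψ, ← hg, ← hh]
  rfl

end Groth.Agent.S6299
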