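import Groth.Statements.S0576
import Groth.Agent.Lib.Helper27.NagAU2
open Groth.Agent.Lib.Helper27 TensorProduct

set_option autoImplicit false
universe u
open CAlg

namespace Groth.Agent.S0576

/-- A local domain which is a Nagata ring is analytically unramified, i.e. its completion at the maximal
ideal is reduced. -/
theorem result (R : Type u) [CommRing R] [IsDomain R]
    [IsLocalRing R] (hR : CAlg.IsNagata R) :
    IsReduced (AdicCompletion (IsLocalRing.maximalIdeal R) R) := by
  obtain ⟨hnoeth, hN⟩ := hR
  haveI := hnoeth
  have h1 : IsReduced (AdicCompletion (IsLocalRing.maximalIdeal R) R ⊗[R] R) :=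
    NagAU.core (IsLocalRing.maximalIdeal R) hN ⊥ R
      ((RingHom.injective_iff_ker_eq_bot _).mp (fun a b h => h))
  let e : AdicCompletion (IsLocalRing.maximalIdeal R) R ⊗[R] R ≃ₐ[R]
      AdicCompletion (IsLocalRing.maximalIdeal R) R :=
    Algebra.TensorProduct.rid R R (AdicCompletion (IsLocalRing.maximalIdeal R) R)
  exact isReduced_of_injective e.symm.toRingEquiv.toRingHom e.symm.injective

end Groth.Agent.S0576
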