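import Groth.Statements.S0545
import Mathlib

set_option autoImplicit false
universe u
open CAlg

namespace Groth.Agent.S0545


section helpers

theorem map_mem_smul_top {A : Type*} [CommRing A] (K : Ideal A) {P M : Type*} [AddCommGroup P] [Module A P]
    [AddCommGroup M] [Module A M] (φ : P →ₗ[A] M) {x : P}
    (hx : x ∈ (K • ⊤ : Submodule A P)) : φ x ∈ (K • ⊤ : Submodule A M) := by
  have h : φ x ∈ (K • ⊤ : Submodule A P).map φ := Submodule.mem_map_of_mem hx
  rw [Submodule.map_smul''] at h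
  exact Submodule.smul_mono le_rfl le_top h

theorem isPrecomplete_of_surjective {A : Type*} [CommRing A] (J : Ideal A) {P M : Type*}
    [AddCommGroup P] [Module A P] [AddCommGroup M] [Module A M] (φ : P →ₗ[A] M)
    (hφ : Function.Surjective φ) (hP : IsPrecomplete J P) : IsPrecomplete J M := by
  rw [← AdicCompletion.of_surjective_iff]
  intro y
  obtain ⟨x, rfl⟩ := AdicCompletion.map_surjective J hφ y
  obtain ⟨p, rfl⟩ := (AdicCompletion.of_surjective_iff (I := J) (M := P)).2 hP x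
  exact ⟨φ p, rfl⟩

theorem isPrecomplete_pi {A : Type*} [CommRing A] (J : Ideal A) {ι : Type*} [Fintype ι] [DecidableEq ι]
    (Q : Type*) [AddCommGroup Q] [Module A Q] (hQ : IsPrecomplete J Q) : IsPrecomplete J (ι → Q) := by
  refine ⟨fun f hf => ?_⟩
  have hcomp : ∀ i, ∃ L : Q, ∀ n, f n i ≡ L [SMOD (J ^ n • ⊤ : Submodule A Q)] := by
    intro i
    apply hQ.prec
    intro m n hmn
    have h1 := hf hmn
    rw [SModEq.sub_mem] at h1 ⊢
    exact map_mem_smul_top (J ^ m) (LinearMap.proj i : (ι → Q) →ₗ[A] Q) h1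
  choose L hL using hcomp
  refine ⟨L, fun n => ?_⟩
  rw [SModEq.sub_mem, ← Finset.univ_sum_single (f n - L)]
  refine Submodule.sum_mem _ fun i _ => ?_
  have hi : (f n - L) i ∈ (J ^ n • ⊤ : Submodule A Q) := by
    have := hL i n
    rw [SModEq.sub_mem] at this
    exact this
  exact map_mem_smul_top (J ^ n) (LinearMap.single A (fun _ : ι => Q) i) hi

theorem isPrecomplete_of_finite_of_smul_eq_zero {A : Type*} [CommRing A] (I J : Ideal A) (M : Type*)
    [AddCommGroup M] [Module A M] [Module.Finite A M]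
    (hIM : ∀ (a : A) (m : M), a ∈ I → a • m = 0) (hQ : IsPrecomplete J (A ⧸ I)) :
    IsPrecomplete J M := by
  classical
  obtain ⟨r, g, hg⟩ := Module.Finite.exists_fin (R := A) (M := M)
  let ψ : Fin r → (A ⧸ I) →ₗ[A] M := fun i =>
    Submodule.liftQ I (LinearMap.toSpanSingleton A M (g i)) (by
      intro a ha
      rw [LinearMap.mem_ker, LinearMap.toSpanSingleton_apply]
      exact hIM a (g i) ha)
  let φ : (Fin r → A ⧸ I) →ₗ[A] M := ∑ i, (ψ i).comp (LinearMap.proj i)
  have hφ : Function.Surjective φ := by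
    intro m
    have hm : m ∈ Submodule.span A (Set.range g) := by rw [hg]; exact Submodule.mem_top
    obtain ⟨c, rfl⟩ := (Submodule.mem_span_range_iff_exists_fun A).1 hm
    refine ⟨fun i => Submodule.Quotient.mk (c i), ?_⟩
    simp only [φ, LinearMap.sum_apply, LinearMap.comp_apply, LinearMap.proj_apply]
    refine Finset.sum_congr rfl fun i _ => ?_
    show Submodule.liftQ I _ _ (Submodule.Quotient.mk (c i)) = _
    rw [Submodule.liftQ_apply, LinearMap.toSpanSingleton_apply]
  exact isPrecomplete_of_surjective J φ hφ (isPrecomplete_pi J (A ⧸ I) hQ)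

theorem isPrecomplete_of_submodule_of_quotient {A : Type*} [CommRing A] [IsNoetherianRing A] (J : Ideal A)
    (M : Type*) [AddCommGroup M] [Module A M] [Module.Finite A M] (N : Submodule A M)
    (hN : IsPrecomplete J N) (hQ : IsPrecomplete J (M ⧸ N)) : IsPrecomplete J M := by
  refine ⟨fun f hf => ?_⟩
  obtain ⟨Lq, hLq⟩ := hQ.prec (f := fun n => N.mkQ (f n)) (by
    intro m n hmn
    have h1 := hf hmn
    rw [SModEq.sub_mem] at h1 ⊢
    rw [← map_sub]
    exact map_mem_smul_top (J ^ m) N.mkQ h1)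
  obtain ⟨L₀, rfl⟩ := N.mkQ_surjective Lq
  have hdec : ∀ n, ∃ j ∈ (J ^ n • ⊤ : Submodule A M), f n - L₀ - j ∈ N := by
    intro n
    have h1 : N.mkQ (f n) ≡ N.mkQ L₀ [SMOD (J ^ n • ⊤ : Submodule A (M ⧸ N))] := hLq n
    rw [SModEq.sub_mem, ← map_sub] at h1
    have h2 : (J ^ n • ⊤ : Submodule A (M ⧸ N)) = (J ^ n • ⊤ : Submodule A M).map N.mkQ := by
      rw [Submodule.map_smul'', Submodule.map_top, Submodule.range_mkQ]
    rw [h2] at h1
    obtain ⟨j, hj, hjeq⟩ := Submodule.mem_map.1 h1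
    refine ⟨j, hj, ?_⟩
    rw [← Submodule.Quotient.mk_eq_zero N]
    show N.mkQ (f n - L₀ - j) = 0
    rw [map_sub, hjeq, sub_self]
  choose j hj hν using hdec
  obtain ⟨c, hc⟩ := Ideal.exists_pow_inf_eq_pow_smul J N
  have hAR : ∀ k, (J ^ (k + c) • ⊤ : Submodule A M) ⊓ N ≤ J ^ k • N := by
    intro k
    rw [hc (k + c) (Nat.le_add_left c k), Nat.add_sub_cancel]
    exact Submodule.smul_mono le_rfl inf_le_right
  let ν' : ℕ → N := fun k => ⟨f (k + c) - L₀ - j (k + c), hν (k + c)⟩
  obtain ⟨νinf, hνinf⟩ := hN.prec (f := ν') (by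
    intro k l hkl
    rw [SModEq.sub_mem, Submodule.mem_smul_top_iff]
    apply hAR k
    refine ⟨?_, (ν' k - ν' l).2⟩
    have e : ((ν' k - ν' l : N) : M) = (f (k + c) - f (l + c)) - (j (k + c) - j (l + c)) := by
      simp only [ν', Submodule.coe_sub]; abel
    rw [e]
    refine Submodule.sub_mem _ ?_ (Submodule.sub_mem _ (hj (k + c)) ?_)
    · have := hf (Nat.add_le_add_right hkl c)
      rw [SModEq.sub_mem] at this
      exact this
    · exact Submodule.smul_mono_left (Ideal.pow_le_pow_right (Nat.add_le_add_right hkl c))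
        (hj (l + c)))
  refine ⟨L₀ + νinf, fun n => ?_⟩
  have h1 : f n - f (n + c) ∈ (J ^ n • ⊤ : Submodule A M) := by
    have := hf (Nat.le_add_right n c)
    rw [SModEq.sub_mem] at this
    exact this
  have h2 : f (n + c) - (L₀ + νinf) ∈ (J ^ n • ⊤ : Submodule A M) := by
    have e : f (n + c) - (L₀ + νinf) = j (n + c) + ((ν' n - νinf : N) : M) := by
      simp only [ν', Submodule.coe_sub]; abel
    rw [e]
    refine Submodule.add_mem _ (Submodule.smul_mono_left
      (Ideal.pow_le_pow_right (Nat.le_add_right n c)) (hj (n + c))) ?_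
    have := hνinf n
    rw [SModEq.sub_mem, Submodule.mem_smul_top_iff] at this
    exact Submodule.smul_mono le_rfl le_top this
  rw [SModEq.sub_mem]
  have e : f n - (L₀ + νinf) = (f n - f (n + c)) + (f (n + c) - (L₀ + νinf)) := by abel
  rw [e]
  exact Submodule.add_mem _ h1 h2

theorem mem_of_forall_mem_sup_pow {A : Type*} [CommRing A] [IsNoetherianRing A] (K P : Ideal A)
    (hK : K ≤ Ideal.jacobson ⊥) (x : A) (hx : ∀ k, x ∈ P ⊔ K ^ k) : x ∈ P := by
  haveI : IsHausdorff K (A ⧸ P) := IsHausdorff.of_le_jacobson K (A ⧸ P) hK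
  rw [← Ideal.Quotient.eq_zero_iff_mem]
  apply IsHausdorff.haus' (I := K)
  intro n
  rw [SModEq.zero]
  obtain ⟨p, hp, q, hq, rfl⟩ := Submodule.mem_sup.1 (hx n)
  rw [map_add, Ideal.Quotient.eq_zero_iff_mem.2 hp, zero_add]
  have hq' : q ∈ (K ^ n • ⊤ : Submodule A A) := by rwa [smul_eq_mul, Ideal.mul_top]
  exact map_mem_smul_top (K ^ n) (Submodule.mkQ P) hq'

theorem isPrecomplete_of_forall_quot {A : Type*} [CommRing A] [IsNoetherianRing A] (I J : Ideal A)
    [IsAdicComplete I A] (hI : I ≤ Ideal.jacobson ⊥) (hJ : J ≤ Ideal.jacobson ⊥)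
    (H : ∀ k, IsPrecomplete J (A ⧸ I ^ k)) : IsPrecomplete J A := by
  refine ⟨fun f hf => ?_⟩
  have hz : ∀ k, ∃ z : A, ∀ n, f n - z ∈ J ^ n ⊔ I ^ k := by
    intro k
    obtain ⟨y, hy⟩ := (H k).prec (f := fun n => Submodule.mkQ (I ^ k) (f n)) (by
      intro m n hmn
      have h1 := hf hmn
      rw [SModEq.sub_mem] at h1 ⊢
      rw [← map_sub]
      exact map_mem_smul_top (J ^ m) _ h1)
    obtain ⟨z, rfl⟩ := Submodule.mkQ_surjective (I ^ k) y
    refine ⟨z, fun n => ?_⟩
    have h1 : Submodule.mkQ (I ^ k) (f n) ≡ Submodule.mkQ (I ^ k) z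
        [SMOD (J ^ n • ⊤ : Submodule A (A ⧸ I ^ k))] := hy n
    rw [SModEq.sub_mem, ← map_sub] at h1
    have h2 : (J ^ n • ⊤ : Submodule A (A ⧸ I ^ k)) =
        (J ^ n • ⊤ : Submodule A A).map (Submodule.mkQ (I ^ k)) := by
      rw [Submodule.map_smul'', Submodule.map_top, Submodule.range_mkQ]
    rw [h2] at h1
    obtain ⟨j, hj, hjeq⟩ := Submodule.mem_map.1 h1
    have hj' : j ∈ J ^ n := by rwa [smul_eq_mul, Ideal.mul_top] at hj
    have h3 : f n - z - j ∈ I ^ k := by
      rw [← Submodule.Quotient.mk_eq_zero (I ^ k)]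
      show Submodule.mkQ (I ^ k) (f n - z - j) = 0
      rw [map_sub, hjeq, sub_self]
    have e : f n - z = j + (f n - z - j) := by abel
    rw [e]
    exact Submodule.add_mem_sup hj' h3
  choose z hz using hz
  have hzc : ∀ {k l}, k ≤ l → z k ≡ z l [SMOD (I ^ k • ⊤ : Submodule A A)] := by
    intro k l hkl
    rw [SModEq.sub_mem, smul_eq_mul, Ideal.mul_top]
    apply mem_of_forall_mem_sup_pow J (I ^ k) hJ
    intro n
    have h1 := hz k n
    have h2 := hz l n
    have hle : J ^ n ⊔ I ^ l ≤ J ^ n ⊔ I ^ k := sup_le_sup_left (Ideal.pow_le_pow_right hkl) _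
    have h2' : f n - z l ∈ J ^ n ⊔ I ^ k := hle h2
    have e : z k - z l = (f n - z l) - (f n - z k) := by abel
    rw [e, sup_comm (I ^ k) (J ^ n)]
    exact Submodule.sub_mem _ h2' h1
  obtain ⟨L, hL⟩ := (inferInstance : IsPrecomplete I A).prec hzc
  refine ⟨L, fun n => ?_⟩
  rw [SModEq.sub_mem, smul_eq_mul, Ideal.mul_top]
  apply mem_of_forall_mem_sup_pow I (J ^ n) hI
  intro k
  have h1 := hz k n
  have h2 := hL k
  rw [SModEq.sub_mem, smul_eq_mul, Ideal.mul_top] at h2
  have e : f n - L = (f n - z k) + (z k - L) := by abel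
  rw [e]
  exact Submodule.add_mem _ h1 (Ideal.mem_sup_right h2)

theorem isPrecomplete_quot_pow {A : Type*} [CommRing A] [IsNoetherianRing A] (I J : Ideal A)
    (hQ : IsPrecomplete J (A ⧸ I)) : ∀ k, IsPrecomplete J (A ⧸ I ^ k) := by
  intro k
  induction k with
  | zero =>
    haveI : Subsingleton (A ⧸ I ^ 0) := by
      rw [pow_zero, Ideal.one_eq_top]
      exact Ideal.Quotient.subsingleton_iff.2 rfl
    infer_instance
  | succ k ih =>
    let π : (A ⧸ I ^ (k + 1)) →ₗ[A] (A ⧸ I ^ k) :=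
      Submodule.mapQ (I ^ (k + 1)) (I ^ k) LinearMap.id (by
        rw [Submodule.comap_id]
        exact Ideal.pow_le_pow_right (Nat.le_succ k))
    have hπ : Function.Surjective π := by
      intro y
      obtain ⟨b, rfl⟩ := Submodule.mkQ_surjective (I ^ k) y
      exact ⟨Submodule.mkQ (I ^ (k + 1)) b, rfl⟩
    haveI : IsNoetherian A (A ⧸ I ^ (k + 1)) := isNoetherian_of_isNoetherianRing_of_finite A _
    have hN : IsPrecomplete J (LinearMap.ker π) := by
      apply isPrecomplete_of_finite_of_smul_eq_zero I J (LinearMap.ker π) _ hQ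
      intro a n ha
      apply Subtype.ext
      obtain ⟨b, hb⟩ := Submodule.mkQ_surjective (I ^ (k + 1)) (n : A ⧸ I ^ (k + 1))
      have hbk : b ∈ I ^ k := by
        have h1 : π (n : A ⧸ I ^ (k + 1)) = 0 := n.2
        rw [← hb] at h1
        exact (Submodule.Quotient.mk_eq_zero (I ^ k)).1 h1
      show a • (n : A ⧸ I ^ (k + 1)) = 0
      rw [← hb, ← map_smul, Submodule.mkQ_apply, Submodule.Quotient.mk_eq_zero, smul_eq_mul,
        pow_succ, mul_comm a b]
      exact Ideal.mul_mem_mul hbk ha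
    have hMN : IsPrecomplete J ((A ⧸ I ^ (k + 1)) ⧸ LinearMap.ker π) :=
      isPrecomplete_of_surjective J (π.quotKerEquivOfSurjective hπ).symm.toLinearMap
        (π.quotKerEquivOfSurjective hπ).symm.surjective ih
    exact isPrecomplete_of_submodule_of_quotient J _ (LinearMap.ker π) hN hMN

end helpers

/-- For a Noetherian ring `A` with two ideals `I` and `J`, completeness of `A` along `I` together with
completeness of the quotient `A/I` along the image of `J` forces completeness of `A` along `J`. -/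
theorem result (A : Type u) [CommRing A] [IsNoetherianRing A]
    (I J : Ideal A) [IsAdicComplete I A]
    [IsAdicComplete (Ideal.map (Ideal.Quotient.mk I) J) (A ⧸ I)] : IsAdicComplete J A := by
  have hQ0 : IsPrecomplete (J.map (algebraMap A (A ⧸ I))) (A ⧸ I) :=
    (inferInstance : IsPrecomplete (J.map (Ideal.Quotient.mk I)) (A ⧸ I))
  have hQ : IsPrecomplete J (A ⧸ I) :=
    (IsPrecomplete.map_algebraMap_iff (I := J) (S := A ⧸ I) (M := A ⧸ I)).1 hQ0
  have hIjac : I ≤ Ideal.jacobson ⊥ := IsAdicComplete.le_jacobson_bot I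
  have hJjac : J ≤ Ideal.jacobson ⊥ := by
    have h1 : J.map (Ideal.Quotient.mk I) ≤ Ideal.jacobson ⊥ := IsAdicComplete.le_jacobson_bot _
    intro x hx
    have h2 : Ideal.Quotient.mk I x ∈ Ideal.jacobson (⊥ : Ideal (A ⧸ I)) :=
      h1 (Ideal.mem_map_of_mem _ hx)
    have h3 : x ∈ Ideal.comap (Ideal.Quotient.mk I) (Ideal.jacobson ⊥) := h2
    rw [Ideal.comap_jacobson_of_surjective Ideal.Quotient.mk_surjective,
      ← RingHom.ker_eq_comap_bot, Ideal.mk_ker] at h3
    exact ((Ideal.jacobson_mono hIjac).trans_eq Ideal.jacobson_idem) h3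
  haveI : IsHausdorff J A := IsHausdorff.of_le_jacobson J A hJjac
  haveI : IsPrecomplete J A :=
    isPrecomplete_of_forall_quot I J hIjac hJjac (isPrecomplete_quot_pow I J hQ)
  exact {}

end Groth.Agent.S0545
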