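import Groth.Statements.S7652
import Groth.Agent.Lib.Helper12.OneDimNorm

set_option autoImplicit false
universe u
open CategoryTheory CategoryTheory.Limits AlgebraicGeometry
open Variety

namespace Groth.Agent.S7652

open Groth.Agent.Lib.Helper12 Groth.Agent.S7651 IsLocalRing

/-- Nagata: the integral closure of `A` in the residue field of a prime is a finite `A`-module. -/
theorem finite_integralClosure_residueField {A : Type u} [CommRing A] (hN : CAlg.IsNagata A)
    (𝔭 : Ideal A) [𝔭.IsPrime] : Module.Finite A (integralClosure A 𝔭.ResidueField) := by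
  letI : Algebra (FractionRing (A ⧸ 𝔭)) 𝔭.ResidueField :=
    FractionRing.liftAlgebra (A ⧸ 𝔭) 𝔭.ResidueField
  haveI : IsScalarTower (A ⧸ 𝔭) (FractionRing (A ⧸ 𝔭)) 𝔭.ResidueField :=
    FractionRing.isScalarTower_liftAlgebra (A ⧸ 𝔭) 𝔭.ResidueField
  have hsurj : Function.Surjective (algebraMap (FractionRing (A ⧸ 𝔭)) 𝔭.ResidueField) := by
    intro y
    obtain ⟨a, b, hb, rfl⟩ := IsFractionRing.div_surjective (A := A ⧸ 𝔭) y
    refine ⟨algebraMap (A ⧸ 𝔭) (FractionRing (A ⧸ 𝔭)) a /
      algebraMap (A ⧸ 𝔭) (FractionRing (A ⧸ 𝔭)) b, ?_⟩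
    rw [map_div₀, ← IsScalarTower.algebraMap_apply, ← IsScalarTower.algebraMap_apply]
  have hfd : FiniteDimensional (FractionRing (A ⧸ 𝔭)) 𝔭.ResidueField :=
    Module.Finite.of_surjective (Algebra.linearMap (FractionRing (A ⧸ 𝔭)) 𝔭.ResidueField) hsurj
  have hfin : Module.Finite (A ⧸ 𝔭) (integralClosure (A ⧸ 𝔭) 𝔭.ResidueField) :=
    hN.2 𝔭 𝔭.ResidueField hfd
  haveI : Algebra.IsIntegral A (A ⧸ 𝔭) :=
    Algebra.isIntegral_of_surjective Ideal.Quotient.mk_surjective
  have hint : ∀ x : 𝔭.ResidueField, IsIntegral (A ⧸ 𝔭) x → IsIntegral A x :=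
    fun x hx => isIntegral_trans x hx
  haveI : Module.Finite A (integralClosure (A ⧸ 𝔭) 𝔭.ResidueField) :=
    Module.Finite.trans (A ⧸ 𝔭) _
  let g : integralClosure (A ⧸ 𝔭) 𝔭.ResidueField →ₗ[A] integralClosure A 𝔭.ResidueField :=
    { toFun := fun x => ⟨x.1, hint x.1 x.2⟩
      map_add' := fun _ _ => rfl
      map_smul' := fun _ _ => rfl }
  refine Module.Finite.of_surjective g ?_
  rintro ⟨x, hx⟩
  exact ⟨⟨x, IsIntegral.tower_top hx⟩, rfl⟩

/-- For a reduced local Nagata ring (A, m) of Krull dimension one, write A' for the integral closure of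
A in its total fraction ring. Then A' is a finite A-module, every localization of A' at a prime is
an integrally closed domain, and the quotient A'/A is an A-module of finite length. (The published
statement also says that A' is Nagata, which follows from the finiteness of A' over A; this row does
not restate it.) -/
theorem result (A : Type u) [CommRing A] [IsLocalRing A]
    [IsReduced A] (hN : CAlg.IsNagata A) (hdim : ringKrullDim A = 1) :
    Module.Finite A (integralClosure A (FractionRing A)) ∧
      (∀ p : PrimeSpectrum (integralClosure A (FractionRing A)),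
        IsDomain (Localization.AtPrime p.asIdeal) ∧ IsIntegrallyClosed (Localization.AtPrime p.asIdeal)) ∧
      Curv2.deltaInv A < ⊤ := by
  haveI := hN.1
  obtain ⟨e⟩ := exists_fractionRing_equiv A hdim
  obtain ⟨f, hfm, hf⟩ := exists_notMem hdim
  haveI hfinMin : Finite {p : PrimeSpectrum A // p.asIdeal ∈ minimalPrimes A} := by
    have hfin := minimalPrimes.finite_of_isNoetherianRing A
    haveI := hfin.to_subtype
    exact Finite.of_injective
      (fun p : {p : PrimeSpectrum A // p.asIdeal ∈ minimalPrimes A} =>
        (⟨p.1.asIdeal, p.2⟩ : minimalPrimes A))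
      (fun p q h => Subtype.ext (PrimeSpectrum.ext (congrArg Subtype.val h)))
  haveI hBfin : ∀ p : {p : PrimeSpectrum A // p.asIdeal ∈ minimalPrimes A},
      Module.Finite A (integralClosure A p.1.asIdeal.ResidueField) :=
    fun p => finite_integralClosure_residueField hN p.1.asIdeal
  haveI hBic : ∀ p : {p : PrimeSpectrum A // p.asIdeal ∈ minimalPrimes A},
      IsIntegrallyClosed (integralClosure A p.1.asIdeal.ResidueField) :=
    fun p => isIntegrallyClosed_integralClosure_residueField p.1.asIdeal
  let Φ : integralClosure A (FractionRing A) →ₐ[A]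
      ∀ p : {p : PrimeSpectrum A // p.asIdeal ∈ minimalPrimes A},
        integralClosure A p.1.asIdeal.ResidueField :=
    Pi.algHom A _ (fun p => ((Pi.evalAlgHom A
      (fun p : {p : PrimeSpectrum A // p.asIdeal ∈ minimalPrimes A} => p.1.asIdeal.ResidueField)
        p).comp e.toAlgHom).mapIntegralClosure)
  have hΦ : ∀ (x : integralClosure A (FractionRing A))
      (p : {p : PrimeSpectrum A // p.asIdeal ∈ minimalPrimes A}),
      ((Φ x) p : p.1.asIdeal.ResidueField) = (e x.1) p := fun x p => rfl
  have hΦinj : Function.Injective Φ := by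
    intro x y hxy
    apply Subtype.ext
    apply e.injective
    funext p
    rw [← hΦ, ← hΦ, hxy]
  have hΦsurj : Function.Surjective Φ := by
    intro y
    have hint : IsIntegral A (fun p : {p : PrimeSpectrum A // p.asIdeal ∈ minimalPrimes A} =>
        ((y p : integralClosure A p.1.asIdeal.ResidueField) : p.1.asIdeal.ResidueField)) :=
      isIntegral_pi _ (fun p => (y p).2)
    refine ⟨⟨e.symm _, hint.map e.symm⟩, ?_⟩
    funext p
    apply Subtype.ext
    rw [hΦ]
    simp only [AlgEquiv.apply_symm_apply]
  have hfinA' : Module.Finite A (integralClosure A (FractionRing A)) :=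
    Module.Finite.of_injective Φ.toLinearMap hΦinj
  refine ⟨hfinA', ?_, ?_⟩
  · intro q
    exact localization_of_equiv_pi
      (fun p : {p : PrimeSpectrum A // p.asIdeal ∈ minimalPrimes A} =>
        integralClosure A p.1.asIdeal.ResidueField)
      (AlgEquiv.ofBijective Φ ⟨hΦinj, hΦsurj⟩).toRingEquiv q.asIdeal
  · unfold Curv2.deltaInv
    rw [lt_top_iff_ne_top, Module.length_ne_top_iff]
    have hkey : ∀ x : integralClosure A (FractionRing A), ∃ n : ℕ, f ^ n • x ∈
        LinearMap.range (Algebra.linearMap A (integralClosure A (FractionRing A))) := by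
      intro x
      obtain ⟨⟨a, s⟩, h⟩ := IsLocalization.surj (nonZeroDivisors A) x.1
      have hs : ∀ p ∈ minimalPrimes A, (s : A) ∉ p :=
        (nzd_iff hdim (Or.inr inferInstance)).2 s.2
      obtain ⟨n, c, hc⟩ := exists_dvd_pow hdim hs hfm
      refine ⟨n, a * c, ?_⟩
      apply Subtype.ext
      show algebraMap A (FractionRing A) (a * c) = f ^ n • x.1
      rw [Algebra.smul_def, hc, map_mul, map_mul, ← h]
      ring
    obtain ⟨N, hN⟩ : ∃ N : ℕ, ∀ x : integralClosure A (FractionRing A), f ^ N • x ∈
        LinearMap.range (Algebra.linearMap A (integralClosure A (FractionRing A))) := by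
      obtain ⟨S, hS⟩ := hfinA'.1
      choose n hn using hkey
      refine ⟨S.sup n, fun x => ?_⟩
      have hle : Submodule.span A (S : Set (integralClosure A (FractionRing A))) ≤
          Submodule.comap (LinearMap.lsmul A (integralClosure A (FractionRing A)) (f ^ (S.sup n)))
            (LinearMap.range (Algebra.linearMap A (integralClosure A (FractionRing A)))) := by
        rw [Submodule.span_le]
        intro x hx
        show f ^ (S.sup n) • x ∈
          LinearMap.range (Algebra.linearMap A (integralClosure A (FractionRing A)))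
        have hle' : n x ≤ S.sup n := Finset.le_sup hx
        obtain ⟨k, hk⟩ := Nat.exists_eq_add_of_le hle'
        rw [hk, pow_add, mul_comm, mul_smul]
        exact Submodule.smul_mem _ _ (hn x)
      exact hle (by rw [hS]; trivial)
    haveI := hfinA'
    refine isFiniteLength_of_pow_smul_eq_zero hdim hfm hf (N := N) ?_
    intro y
    obtain ⟨x, rfl⟩ := Submodule.Quotient.mk_surjective _ y
    rw [← Submodule.Quotient.mk_smul]
    exact (Submodule.Quotient.mk_eq_zero _).2 (hN x)

end Groth.Agent.S7652
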