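import Groth.Statements.S7654
import Groth.Agent.Lib.Helper27.DeltaInv3
import Groth.Agent.Lib.Helper27.NagataFF
import Groth.Agent.S7652
import Groth.Agent.S0538
import Groth.Agent.S0539
import Groth.Agent.S0540
open Groth.Agent.Lib.Helper27

set_option autoImplicit false
universe u
open CategoryTheory CategoryTheory.Limits AlgebraicGeometry
open Variety

namespace Groth.Agent.S7654

/-- For a reduced local Nagata ring A of Krull dimension one, the δ-invariant does not change on passing
to a henselization of A, to a strict henselization of A, or to the completion of A. -/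
theorem result (A : Type u) [CommRing A] [IsLocalRing A]
    [IsReduced A] (hN : CAlg.IsNagata A) (hdim : ringKrullDim A = 1) :
    (∀ (B : Type u) [CommRing B] [IsLocalRing B] [Algebra A B] [IsLocalHom (algebraMap A B)],
        Hensel.IsHenselization A B → Curv2.deltaInv B = Curv2.deltaInv A) ∧
      (∀ (B : Type u) [CommRing B] [IsLocalRing B] [Algebra A B] [IsLocalHom (algebraMap A B)],
        Hensel.IsStrictHenselization A B → Curv2.deltaInv B = Curv2.deltaInv A) ∧
      Curv2.deltaInv (Curv2.cpl A) = Curv2.deltaInv A := by
  haveI : IsNoetherianRing A := hN.1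
  obtain ⟨hfin, hnorm, -⟩ := Groth.Agent.S7652.result A hN hdim
  haveI := hfin
  have hA' : EGA4.IsNormalRing (integralClosure A (FractionRing A)) := fun p hp => hnorm ⟨p, hp⟩
  refine ⟨?_, ?_, ?_⟩
  · intro B _ _ _ _ hB
    haveI := hB
    haveI : IsNoetherianRing B := (Groth.Agent.S0511.result A B).mp inferInstance
    haveI : Module.FaithfullyFlat A B := Groth.Agent.S0509.result _ _
    exact DeltaBC.deltaInv_eq_of_indEtaleLike A B
      (Groth.Agent.Lib.Helper8.Hzl.henselization_indEtaleLike A B)
      (Groth.Agent.S0507.result A B) hA'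
  · intro B _ _ _ _ hB
    haveI := hB
    haveI : IsNoetherianRing B := (Groth.Agent.S0540.result A B).mp inferInstance
    haveI : Module.FaithfullyFlat A B := Groth.Agent.S0539.result _ _
    exact DeltaBC.deltaInv_eq_of_indEtaleLike A B
      (Groth.Agent.Lib.Helper8.Hzl.strictHenselization_indEtaleLike A B)
      (Groth.Agent.S0538.result A B) hA'
  · have hff : EGA4.HasGeomReducedFormalFibres A :=
      (NagataFF.isNagata_iff_hasGeomReducedFormalFibres A).mp hN
    haveI : Module.FaithfullyFlat A (AdicCompletion (IsLocalRing.maximalIdeal A) A) :=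
      Module.FaithfullyFlat.of_flat_of_isLocalHom
    apply DeltaBC.deltaInv_eq_of_fibres A (AdicCompletion (IsLocalRing.maximalIdeal A) A)
      (AdicCompletion.maximalIdeal_eq_map (R := A)).symm hA'
    intro p' _
    exact ⟨DeltaBC.isReduced_fiber_cpl A _ hff p',
      DeltaBC.krullDimLE_zero_fiber_cpl A _ hdim.le p'⟩

end Groth.Agent.S7654
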