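import Groth.Statements.S9589
import Groth.Agent.Lib.Helper9.WeakAssLib

set_option autoImplicit false
universe u
open CAlg

namespace Groth.Agent.S9589

open Groth.Agent.Lib.Helper9.WeakAssLib

/-- For a ring R, an R-module M, a multiplicative subset S of R and a prime p of R not meeting S, p is
weakly associated to M if and only if the extended prime p S⁻¹R is weakly associated to the
S⁻¹R-module S⁻¹M. -/
theorem result {R : Type u} [CommRing R] (S : Submonoid R) (M : Type u) [AddCommGroup M] [Module R M] (p : Ideal R) [p.IsPrime] (hS : Disjoint (S : Set R) (p : Set R)) :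
    p ∈ FlatCA.weakAss R M ↔ Ideal.map (algebraMap R (Localization S)) p ∈ FlatCA.weakAss (Localization S) (LocalizedModule S M) := by
  have hcm : Ideal.comap (algebraMap R (Localization S))
      (Ideal.map (algebraMap R (Localization S)) p) = p :=
    IsLocalization.under_map_of_isPrime_disjoint S (Localization S) ‹p.IsPrime› hS
  constructor
  · rintro ⟨m, hm⟩
    refine ⟨LocalizedModule.mk m 1, ?_⟩
    rw [annLoc_mk, IsLocalization.minimalPrimes_map S (Localization S), Set.mem_preimage]
    show Ideal.comap _ _ ∈ _
    rw [hcm]
    exact hm
  · rintro ⟨y, hy⟩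
    induction y with | _ m s
    refine ⟨m, ?_⟩
    rw [annLoc_mk, IsLocalization.minimalPrimes_map S (Localization S), Set.mem_preimage] at hy
    change Ideal.comap _ _ ∈ _ at hy
    rw [hcm] at hy
    exact hy

end Groth.Agent.S9589
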