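import Groth.Statements.S1232
import Groth.Agent.S9589
import Groth.Agent.Lib.Helper3.WeakAssFinite
import Mathlib


set_option autoImplicit false
universe u
open FlatMor

namespace Groth.Agent.S1232

open TensorProduct

/-- transfer of weakly associated primes along an injective linear map -/
theorem weakAss_of_injective_q {R : Type u} [CommRing R] {N N' : Type u} [AddCommGroup N]
    [Module R N] [AddCommGroup N'] [Module R N'] (f : N →ₗ[R] N') (hf : Function.Injective f)
    {P : Ideal R} (h : P ∈ FlatCA.weakAss R N) : P ∈ FlatCA.weakAss R N' := by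
  obtain ⟨y, hy⟩ := h
  show ∃ m : N', P ∈ (Submodule.span R {m}).annihilator.minimalPrimes
  refine ⟨f y, ?_⟩
  have hann : (Submodule.span R {f y}).annihilator = (Submodule.span R {y}).annihilator := by
    ext a
    rw [Submodule.mem_annihilator_span_singleton, Submodule.mem_annihilator_span_singleton,
      ← map_smul, map_eq_zero_iff f hf]
  rw [hann]
  exact hy

theorem weakAss_of_equiv_q {R : Type u} [CommRing R] {N N' : Type u} [AddCommGroup N]
    [Module R N] [AddCommGroup N'] [Module R N'] (e : N ≃ₗ[R] N')
    {P : Ideal R} (h : P ∈ FlatCA.weakAss R N) : P ∈ FlatCA.weakAss R N' :=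
  weakAss_of_injective_q e.toLinearMap e.injective h

/-- over a local ring, tensoring with a free module creates no new weakly associated maximal ideal -/
theorem weakAss_free_tensor_q {R : Type u} [CommRing R] [IsLocalRing R] (F M : Type u)
    [AddCommGroup F] [Module R F] [Module.Free R F] [AddCommGroup M] [Module R M]
    (h : IsLocalRing.maximalIdeal R ∈ FlatCA.weakAss R (F ⊗[R] M)) :
    IsLocalRing.maximalIdeal R ∈ FlatCA.weakAss R M := by
  classical
  obtain ⟨y, hy⟩ := h
  let e := TensorProduct.equivFinsuppOfBasisLeft (N := M) (Module.Free.chooseBasis R F)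
  have hy0 : y ≠ 0 := by
    rintro rfl
    have h1 : (Submodule.span R {(0 : F ⊗[R] M)}).annihilator = ⊤ := by
      rw [Ideal.eq_top_iff_one, Submodule.mem_annihilator_span_singleton, smul_zero]
    rw [h1] at hy
    exact hy.1.1.ne_top (top_le_iff.mp hy.1.2)
  have hey : e y ≠ 0 := fun h0 => hy0 ((LinearEquiv.map_eq_zero_iff e).mp h0)
  obtain ⟨i, hi⟩ : ∃ i, e y i ≠ 0 := by
    by_contra hcon
    push Not at hcon
    exact hey (Finsupp.ext fun i => by rw [hcon i]; rfl)
  show ∃ m : M, IsLocalRing.maximalIdeal R ∈ (Submodule.span R {m}).annihilator.minimalPrimes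
  refine ⟨e y i, ⟨hy.1.1, ?_⟩, ?_⟩
  · apply IsLocalRing.le_maximalIdeal
    intro htop
    have h1 : (1 : R) ∈ (Submodule.span R {e y i}).annihilator := htop ▸ Submodule.mem_top
    rw [Submodule.mem_annihilator_span_singleton, one_smul] at h1
    exact hi h1
  · rintro q ⟨hq, hqle⟩ hqm
    apply hy.2 ⟨hq, ?_⟩ hqm
    refine le_trans ?_ hqle
    intro a ha
    rw [Submodule.mem_annihilator_span_singleton] at ha ⊢
    have h1 : e (a • y) = 0 := by rw [ha, map_zero]
    rw [map_smul] at h1
    have h2 := DFunLike.congr_fun h1 i
    rw [Finsupp.smul_apply] at h2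
    exact h2

/-- flatness: the annihilator of `1 ⊗ m` is the extension of the annihilator of `m` -/
theorem ann_one_tmul_le_q {A B : Type u} [CommRing A] [CommRing B] [Algebra A B] [Module.Flat A B]
    {M : Type u} [AddCommGroup M] [Module A M] (m : M) (b : B) (hb : b ⊗ₜ[A] m = 0) :
    b ∈ Ideal.map (algebraMap A B) (Submodule.span A {m}).annihilator := by
  have hex := Module.Flat.lTensor_exact B
    (LinearMap.exact_subtype_ker_map (LinearMap.toSpanSingleton A M m))
  have hz : ((LinearMap.toSpanSingleton A M m).lTensor B) (b ⊗ₜ[A] (1 : A)) = 0 := by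
    rw [LinearMap.lTensor_tmul, LinearMap.toSpanSingleton_apply, one_smul]
    exact hb
  obtain ⟨w, hw⟩ := (hex _).mp hz
  have hall : ∀ w : B ⊗[A] (LinearMap.ker (LinearMap.toSpanSingleton A M m)),
      (TensorProduct.rid A B)
        (((LinearMap.ker (LinearMap.toSpanSingleton A M m)).subtype.lTensor B) w) ∈
        Ideal.map (algebraMap A B) (Submodule.span A {m}).annihilator := by
    intro w
    induction w using TensorProduct.induction_on with
    | zero =>
      rw [map_zero, map_zero]
      exact Ideal.zero_mem _
    | tmul b' i =>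
      rw [LinearMap.lTensor_tmul, TensorProduct.rid_tmul, Submodule.subtype_apply,
        Algebra.smul_def]
      refine Ideal.mul_mem_right _ _ (Ideal.mem_map_of_mem _ ?_)
      have hi := i.2
      rw [LinearMap.mem_ker, LinearMap.toSpanSingleton_apply] at hi
      exact (Submodule.mem_annihilator_span_singleton m _).mpr hi
    | add x y hx hy =>
      rw [map_add, map_add]
      exact Ideal.add_mem _ hx hy
  have h := hall w
  rw [hw, TensorProduct.rid_tmul, one_smul] at h
  exact h

/-- localize at `p`: `B_p` is free, so `(B ⊗ M)_p` is a finite direct sum of copies of `M_p` -/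
theorem weakAss_tensor_of_local_q {A B : Type u} [CommRing A] [CommRing B] [Algebra A B]
    [Module.Finite A B] [Module.Flat A B] (M : Type u) [AddCommGroup M] [Module A M]
    (p : Ideal A) [p.IsPrime]
    (h : IsLocalRing.maximalIdeal (Localization p.primeCompl) ∈
      FlatCA.weakAss (Localization p.primeCompl) (LocalizedModule p.primeCompl (B ⊗[A] M))) :
    IsLocalRing.maximalIdeal (Localization p.primeCompl) ∈
      FlatCA.weakAss (Localization p.primeCompl) (LocalizedModule p.primeCompl M) := by
  let e1 := LocalizedModule.equivTensorProduct p.primeCompl (B ⊗[A] M)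
  let e2 := TensorProduct.AlgebraTensorModule.distribBaseChange A (Localization p.primeCompl) B M
  let e3 := LocalizedModule.equivTensorProduct p.primeCompl M
  have h3 : IsLocalRing.maximalIdeal (Localization p.primeCompl) ∈
      FlatCA.weakAss (Localization p.primeCompl)
        ((Localization p.primeCompl ⊗[A] B) ⊗[Localization p.primeCompl]
          (Localization p.primeCompl ⊗[A] M)) :=
    weakAss_of_equiv_q (e1.trans e2) h
  haveI : Module.Free (Localization p.primeCompl) ((Localization p.primeCompl) ⊗[A] B) :=
    Module.free_of_flat_of_isLocalRing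
  have h4 := weakAss_free_tensor_q _ _ h3
  exact weakAss_of_equiv_q e3.symm h4

open TensorProduct in
/-- Let A → B be a finite flat ring map, M an A-module and t a prime of B lying over the prime p of A.
Then t is a weakly associated prime of the B-module B ⊗_A M if and only if p is a weakly associated
prime of M. -/
theorem result {A B : Type u} [CommRing A] [CommRing B] [Algebra A B] [Module.Finite A B] [Module.Flat A B]
    (M : Type u) [AddCommGroup M] [Module A M] (p : Ideal A) [p.IsPrime] (t : Ideal B) [t.IsPrime] [t.LiesOver p] :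
    t ∈ FlatCA.weakAss B (B ⊗[A] M) ↔ p ∈ FlatCA.weakAss A M := by
  have hpt : Ideal.comap (algebraMap A B) t = p := (Ideal.LiesOver.over (p := p) (P := t)).symm
  have hdisj : Disjoint (p.primeCompl : Set A) (p : Set A) :=
    Set.disjoint_left.mpr (fun a ha hap => ha hap)
  have hmax : Ideal.map (algebraMap A (Localization p.primeCompl)) p =
      IsLocalRing.maximalIdeal (Localization p.primeCompl) :=
    Localization.AtPrime.map_eq_maximalIdeal
  constructor
  · rintro ⟨x, hx⟩
    have hker : ∀ z : B ⊗[A] M,
        (LinearMap.ker (LinearMap.toSpanSingleton B (B ⊗[A] M) z) : Ideal B) =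
          (Submodule.span B {z}).annihilator := by
      intro z
      ext b
      rw [LinearMap.mem_ker, LinearMap.toSpanSingleton_apply,
        Submodule.mem_annihilator_span_singleton]
    have hx' : t ∈ Ideal.minimalPrimes
        (LinearMap.ker (LinearMap.toSpanSingleton B (B ⊗[A] M) x)) := by
      rw [hker]
      exact hx
    obtain ⟨y, hy⟩ := Groth.Agent.Lib.Helper3.WAF.exists_smul_mem_minimalPrimes_comap
      (algebraMap A B) (RingHom.finite_algebraMap.mpr inferInstance) x t hx'
    have hcomap : Ideal.comap (algebraMap A B)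
        (LinearMap.ker (LinearMap.toSpanSingleton B (B ⊗[A] M) (y • x))) =
        (Submodule.span A {y • x}).annihilator := by
      ext a
      rw [Ideal.mem_comap, LinearMap.mem_ker, LinearMap.toSpanSingleton_apply,
        Submodule.mem_annihilator_span_singleton, algebraMap_smul]
    rw [hcomap, hpt] at hy
    have h1 : p ∈ FlatCA.weakAss A (B ⊗[A] M) := ⟨y • x, hy⟩
    have h2 := (Groth.Agent.S9589.result p.primeCompl (B ⊗[A] M) p hdisj).mp h1
    rw [hmax] at h2
    have h5 := weakAss_tensor_of_local_q M p h2
    rw [← hmax] at h5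
    exact (Groth.Agent.S9589.result p.primeCompl M p hdisj).mpr h5
  · rintro ⟨m, hm⟩
    haveI : Algebra.IsIntegral A B := Algebra.IsIntegral.of_finite A B
    have hIt : Ideal.map (algebraMap A B) (Submodule.span A {m}).annihilator ≤ t := by
      rw [Ideal.map_le_iff_le_comap, hpt]
      exact hm.1.2
    show ∃ x : B ⊗[A] M, t ∈ (Submodule.span B {x}).annihilator.minimalPrimes
    refine ⟨(1 : B) ⊗ₜ[A] m, ⟨inferInstance, ?_⟩, ?_⟩
    · intro b hb
      rw [Submodule.mem_annihilator_span_singleton, TensorProduct.smul_tmul', smul_eq_mul,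
        mul_one] at hb
      exact hIt (ann_one_tmul_le_q m b hb)
    · rintro q ⟨hq, hJq⟩ hqt
      have hIq : (Submodule.span A {m}).annihilator ≤ Ideal.comap (algebraMap A B) q := by
        intro a ha
        rw [Ideal.mem_comap]
        apply hJq
        rw [Submodule.mem_annihilator_span_singleton] at ha ⊢
        rw [algebraMap_smul, ← TensorProduct.tmul_smul, ha, TensorProduct.tmul_zero]
      have hle : Ideal.comap (algebraMap A B) q ≤ p := (Ideal.comap_mono hqt).trans hpt.le
      have hqp : Ideal.comap (algebraMap A B) q = p :=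
        le_antisymm hle (hm.2 ⟨Ideal.comap_isPrime _ q, hIq⟩ hle)
      by_contra hne
      have hlt : q < t := lt_of_le_of_ne hqt (fun h => hne (h ▸ le_rfl))
      haveI := hq
      have h1 := Ideal.IsIntegral.comap_lt_comap (R := A) hlt
      rw [hqp, hpt] at h1
      exact lt_irrefl _ h1

end Groth.Agent.S1232
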