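import Groth.Statements.S13607
import Mathlib

set_option autoImplicit false
open CategoryTheory CategoryTheory.Limits Opposite
universe w v u
open ARSys

namespace Groth.Agent.S13607

/-- In an abelian category linear over a commutative ring A with an ideal J, let X be a J-adic
projective system indexed by the natural numbers and Y a projective system whose n-th term is killed
by J^(n+1) for every n. Then for every r, every morphism from the translate X[r] to Y factors
uniquely through the canonical translation map X[r] ⟶ X: there is exactly one morphism g : X ⟶ Y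
whose n-th component, precomposed with the transition map X_(n+r) ⟶ X_n, is the n-th component of
the given morphism. In particular morphisms X ⟶ Y up to translation are the same as morphisms X ⟶ Y.
(The published statement is for systems of finitely generated modules over a Noetherian ring, and
for systems of sheaves of modules on the small etale site; this row states it in any linear abelian
category, which is all the argument uses.) -/
theorem result {C : Type u} [Category.{v} C] [Abelian C] {A : Type w} [CommRing A] [Linear A C]
    (J : Ideal A) (X Y : ARSys.PS C) (hX : ARSys.IsAdic J X) (hY : ARSys.TermKilled J Y) (r : ℕ)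
    (f : (ARSys.shift C r).obj X ⟶ Y) :
    ∃! g : X ⟶ Y, ∀ n : ℕ, f.app (op n) = ARSys.shiftMap X r n ≫ g.app (op n) := by
  obtain ⟨hXk, hXq⟩ := hX
  have hfk : ∀ n, HomKilledBy (J ^ (n + 1)) (f.app (op n)) := by
    intro n a ha
    have h0 := hY n a ha
    calc a • f.app (op n) = f.app (op n) ≫ (a • 𝟙 _) := by
          rw [Linear.comp_smul, Category.comp_id]
      _ = 0 := by rw [h0, comp_zero]
  have hex : ∀ n, ∃! ψ : X.obj (op n) ⟶ Y.obj (op n), shiftMap X r n ≫ ψ = f.app (op n) :=
    fun n => (hXq n (n + r) (Nat.le_add_right n r)).2 _ _ (hfk n)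
  have hex' : ∀ n, ∃ ψ : X.obj (op n) ⟶ Y.obj (op n), shiftMap X r n ≫ ψ = f.app (op n) :=
    fun n => (hex n).exists
  choose g hg using hex'
  have hguniq : ∀ n (ψ : X.obj (op n) ⟶ Y.obj (op n)), shiftMap X r n ≫ ψ = f.app (op n) →
      ψ = g n := fun n ψ hψ => (hex n).unique hψ (hg n)
  have hcancel : ∀ (m : ℕ) {Z : C} (ψ₁ ψ₂ : X.obj (op m) ⟶ Z),
      shiftMap X r m ≫ ψ₁ = shiftMap X r m ≫ ψ₂ → ψ₁ = ψ₂ := by
    intro m Z ψ₁ ψ₂ h
    have hk : HomKilledBy (J ^ (m + 1)) (shiftMap X r m ≫ ψ₁) := by
      intro a ha
      have h0 := hXk m a ha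
      calc a • (shiftMap X r m ≫ ψ₁) = shiftMap X r m ≫ (a • 𝟙 _) ≫ ψ₁ := by
            rw [Linear.smul_comp, Category.id_comp, Linear.comp_smul]
        _ = 0 := by rw [h0, zero_comp, comp_zero]
    have hu := ((hXq m (m + r) (Nat.le_add_right m r)).2 _ _ hk)
    exact hu.unique rfl h.symm
  refine ⟨{ app := fun n => g n.unop, naturality := ?_ }, ?_, ?_⟩
  · intro n m φ
    apply hcancel
    have h1 : shiftMap X r n.unop ≫ X.map φ =
        ((shift C r).obj X).map φ ≫ shiftMap X r m.unop := by
      show X.map _ ≫ X.map _ = X.map _ ≫ X.map _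
      rw [← X.map_comp, ← X.map_comp]
      congr 1
    rw [← Category.assoc, h1, Category.assoc, hg, ← Category.assoc, hg]
    exact f.naturality φ
  · intro n
    exact (hg n).symm
  · intro g' hg'
    ext n
    exact hguniq n.unop _ (hg' n.unop).symm

end Groth.Agent.S13607
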