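import Groth.Statements.S12776
import Mathlib
import Groth.Agent.Lib.Helper10.AlgStRep

set_option autoImplicit false
open CategoryTheory AlgebraicGeometry
universe u
open AlgSt

namespace Groth.Agent.S12776

/-- For categories `𝒳`, `𝒴` fibred in groupoids over `(Sch/S)`, any 1-morphism `f : 𝒳 ⟶ 𝒴` that is
representable by algebraic spaces is faithful on fibre categories; for categories fibred in
groupoids this is the same as `f` being faithful, which is how it is stated here. -/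
theorem result {S : Scheme.{u}} {𝒳 𝒴 : AlgSt.Cat S}
    (h𝒳 : FibCat.IsFibGrpd 𝒳.p) (h𝒴 : FibCat.IsFibGrpd 𝒴.p) (f : 𝒳 ⥤ᵇ 𝒴) (hf : AlgSt.RepByAlgSp1 f) :
    f.toFunctor.Faithful := by
  apply Groth.Agent.Lib.Helper10.AlgStRep.faithful_of_aut h𝒳 h𝒴 f
  intro x χ hχ hfχ
  obtain ⟨y, -, ⟨i⟩⟩ := Groth.Agent.Lib.Helper10.Fib.yoneda_essSurj (𝒳.p.obj x)
    (⟨f.obj x, f.w_obj x⟩ : 𝒴.p.Fiber (𝒳.p.obj x))
    (fun V g => Groth.Agent.Lib.Helper10.Fib.IsFibGrpd.exists_lift' h𝒴 (f.w_obj x) g)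
  have hset : FibCat.IsFibSetoid (FibCat.fp y f).p :=
    Groth.Agent.Lib.Helper10.AlgStRep.isFibSetoid_of_repByAlgSp (hf (𝒳.p.obj x) y)
  let I : y.obj (Over.mk (𝟙 (𝒳.p.obj x))) ≅ f.obj x := Functor.Fiber.fiberInclusion.mapIso i
  have hI : 𝒴.p.IsHomLift (𝟙 (𝒳.p.obj x)) I.hom := i.hom.2
  let Z : (FibCat.fp y f).obj := ⟨⟨Over.mk (𝟙 (𝒳.p.obj x)), x, I⟩, hI⟩
  have hw : y.map (𝟙 (Over.mk (𝟙 (𝒳.p.obj x)))) ≫ I.hom = I.hom ≫ f.map χ :=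
    (congrArg (fun t => t ≫ I.hom) (y.toFunctor.map_id _)).trans
      ((Category.id_comp _).trans ((Category.comp_id _).symm.trans
        (congrArg (fun t => I.hom ≫ t) hfχ.symm)))
  let m : Z ⟶ Z := ObjectProperty.homMk ⟨𝟙 _, χ, hw⟩
  have hid : (FibCat.overCat (𝒳.p.obj x)).p.IsHomLift (𝟙 (𝒳.p.obj x))
      (𝟙 (Over.mk (𝟙 (𝒳.p.obj x)))) := IsHomLift.id rfl
  have hm : (FibCat.fp y f).p.IsHomLift (𝟙 (𝒳.p.obj x)) m :=
    (Groth.Agent.Lib.Helper10.Fib.fp_isHomLift_iff y f m (𝟙 (𝒳.p.obj x))).2 hid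
  have hm' : (FibCat.fp y f).p.IsHomLift (𝟙 (𝒳.p.obj x)) (𝟙 Z) := IsHomLift.id rfl
  let Z' : (FibCat.fp y f).p.Fiber (𝒳.p.obj x) := ⟨Z, rfl⟩
  have hthin := hset.2 (𝒳.p.obj x) Z' Z'
  have e : (⟨m, hm⟩ : Z' ⟶ Z') = ⟨𝟙 Z, hm'⟩ := Subsingleton.elim _ _
  have e' : m = 𝟙 Z := congrArg (fun t => Functor.Fiber.fiberInclusion.map t) e
  exact congrArg (fun t => t.hom.snd) e'

end Groth.Agent.S12776
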