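import Groth.Statements.S12779
import Mathlib
import Groth.Agent.Lib.Helper10.AlgStRep

set_option autoImplicit false
open CategoryTheory AlgebraicGeometry
universe u
open AlgSt

namespace Groth.Agent.S12779

/-- Let `𝒳`, `𝒴`, `𝒵` be fibred in groupoids over `(Sch/S)`, `f : 𝒳 ⟶ 𝒴` representable by algebraic
spaces with property `P` and `g : 𝒵 ⟶ 𝒴` any 1-morphism. Then the base change `𝒵 ×_𝒴 𝒳 ⟶ 𝒵` has `P`.
(The published statement assumes `P` stable under base change and fppf local on the base; this row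
holds for every property `P`.) -/
theorem result {S : Scheme.{u}} {𝒳 𝒴 𝒵 : AlgSt.Cat S}
    (h𝒳 : FibCat.IsFibGrpd 𝒳.p) (h𝒴 : FibCat.IsFibGrpd 𝒴.p) (h𝒵 : FibCat.IsFibGrpd 𝒵.p)
    (P : MorphismProperty (AlgSp.Sp S)) (f : 𝒳 ⥤ᵇ 𝒴) (g : 𝒵 ⥤ᵇ 𝒴) (hf : AlgSt.RepByAlgSpWith P f) :
    AlgSt.RepByAlgSpWith P (FibCat.fpFst g f) := by
  intro U y
  exact Groth.Agent.Lib.Helper10.AlgStRep.repWith_of_equiv' P
    (Groth.Agent.Lib.Helper10.Fib.paste1 y g f)
    (Groth.Agent.Lib.Helper10.Fib.isEquivOver_paste1 y g f)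
    (FibCat.fpFst y (FibCat.fpFst g f)) (FibCat.fpFst (BasedFunctor.comp y g) f)
    (fun Q => ⟨Iso.refl _, IsHomLift.id rfl⟩) (hf U (BasedFunctor.comp y g))

end Groth.Agent.S12779
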