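import Groth.Statements.S12801
import Mathlib
import Groth.Agent.Lib.Helper10.Fib2

set_option autoImplicit false
open CategoryTheory
universe v₂ u₂ v u
open Stk

namespace Groth.Agent.S12801

/-- Let `p : 𝒳 ⥤ C` make `𝒳` fibred in groupoids over `C` and let `J` be a Grothendieck topology on `C`.
A sieve `S` on an object `x` of `𝒳` belongs to the topology on `𝒳` generated by the sieves whose
image under `p` generates a covering sieve if and only if the image of `S` under `p` generates a
covering sieve of `p x`: the sieves whose image covers already satisfy the axioms of a topology (the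
topology on `𝒳` inherited from `C`). (The published statement is for a fibred category, with
coverings the families of strongly cartesian morphisms `{x_i ⟶ x}` such that `{p x_i ⟶ p x}` is a
covering; this row is the case of a category fibred in groupoids, where every morphism is strongly
cartesian, in sieve form.) -/
theorem result {C : Type u} [Category.{v} C] {𝒳 : Type u₂} [Category.{v₂} 𝒳] (p : 𝒳 ⥤ C)
    (hp : FibCat.IsFibGrpd p) (J : GrothendieckTopology C) {x : 𝒳} (S : Sieve x) :
    S ∈ p.restrictedTopology J x ↔ S.functorPushforward p ∈ J (p.obj x) := by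
  refine ⟨fun hS => ?_, Functor.mem_restrictedTopology_of_functorPushforward_mem⟩
  rw [Functor.restrictedTopology] at hS
  induction hS with
  | of X S hS => rwa [← Sieve.generate_map_eq_functorPushforward]
  | top X => simp
  | pullback X S _ Y f ih =>
    refine J.superset_covering ?_ (J.pullback_stable (p.map f) ih)
    intro V g hg
    obtain ⟨z, s, k, hs, hk⟩ := hg
    obtain ⟨y', γ, hγ⟩ := hp.exists_lift (x := Y) g
    have := hγ
    obtain rfl : p.obj y' = V := IsHomLift.domain_eq p g γ
    have hg' : p.map γ = g := (Groth.Agent.Lib.Helper10.Fib.isHomLift_iff_eq p g γ).1 hγ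
    subst hg'
    obtain ⟨κ, ⟨hκ1, hκ2⟩, -⟩ := ((Groth.Agent.Lib.Helper10.Fib.sc_map_iff p s).1
      (hp.isStronglyCartesian s)) k (γ ≫ f) (by rw [p.map_comp]; exact hk)
    refine ⟨y', γ, 𝟙 _, ?_, by simp⟩
    show S (γ ≫ f)
    rw [← hκ2]
    exact S.downward_closed hs κ
  | transitive X S R _ _ hS H' =>
    apply J.transitive hS
    rintro Y _ ⟨Z, g, i, hg, rfl⟩
    rw [Sieve.pullback_comp]
    apply J.pullback_stable i
    refine J.superset_covering ?_ (H' hg)
    rintro W _ ⟨Z', g', i', hg, rfl⟩
    refine ⟨Z', g' ≫ g, i', hg, ?_⟩
    simp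

end Groth.Agent.S12801
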