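import Groth.Statements.S10566
import Groth.Agent.Lib.Helper16.SmoothLocalST
open Groth.Agent.Lib.Helper16

set_option autoImplicit false
universe u
open CategoryTheory CategoryTheory.Limits AlgebraicGeometry
open AlgSp AlgSp.IsSmoothLocalST

namespace Groth.Agent.S10566

/-- For a property P of morphisms of algebraic spaces over S that is smooth local on source-and-target
and a morphism f : X ⟶ Y of algebraic spaces, each of the following is equivalent to P f: (c) for
some commutative square a ≫ f = h ≫ b with a : U ⟶ X and b : V ⟶ Y smooth and a surjective, h has P;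
(d) for every commutative square a ≫ f = h ≫ b with b smooth and the induced morphism U ⟶ X ×_Y V
smooth, h has P; (e) for some smooth covering of Y by algebraic spaces Y_i every base change Y_i ×_Y
X ⟶ Y_i has P; (f) for some smooth covering of X by algebraic spaces X_i every composite X_i ⟶ Y has
P. (Condition (b) of the published list is the defining locality condition, and its condition (g)
combines (e) and (f); they are not repeated here.) -/
theorem result {S : Scheme.{u}} {P : MorphismProperty (AlgSp.Sp S)}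
    (hP : AlgSp.IsSmoothLocalST P) {X Y : AlgSp.Space S} (f : X ⟶ Y) :
    (P f.hom ↔ ∃ (U V : AlgSp.Space S) (a : U ⟶ X) (b : V ⟶ Y) (h : U ⟶ V),
      AlgSp.LocP @Smooth a.hom ∧ AlgSp.LocP @Smooth b.hom ∧ AlgSp.IsSurjectiveMor a.hom ∧
      a ≫ f = h ≫ b ∧ P h.hom) ∧
    (P f.hom ↔ ∀ (U V W : AlgSp.Space S) (a : U ⟶ X) (b : V ⟶ Y) (h : U ⟶ V) (p : W ⟶ X) (q : W ⟶ V)
      (e : U ⟶ W), IsPullback p.hom q.hom f.hom b.hom → e ≫ p = a → e ≫ q = h →
      AlgSp.LocP @Smooth b.hom → AlgSp.LocP @Smooth e.hom → P h.hom) ∧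
    (P f.hom ↔ ∃ (ι : Type u) (Yi Xi : ι → AlgSp.Space S) (g : ∀ i, Yi i ⟶ Y) (p : ∀ i, Xi i ⟶ Yi i)
      (q : ∀ i, Xi i ⟶ X), AlgSp.IsSmCover (fun i => (Yi i).obj) (fun i => (g i).hom) ∧
      (∀ i, IsPullback (q i).hom (p i).hom f.hom (g i).hom) ∧ ∀ i, P (p i).hom) ∧
    (P f.hom ↔ ∃ (ι : Type u) (Xi : ι → AlgSp.Space S) (g : ∀ i, Xi i ⟶ X),
      AlgSp.IsSmCover (fun i => (Xi i).obj) (fun i => (g i).hom) ∧ ∀ i, P (g i ≫ f).hom) := by
  refine ⟨⟨fun hf => ?_, ?_⟩, ⟨fun hf => ?_, fun H => ?_⟩, ⟨fun hf => ?_, ?_⟩, ⟨fun hf => ?_, ?_⟩⟩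
  · refine ⟨X, Y, 𝟙 X, 𝟙 Y, f, locP_smooth_id X.property, locP_smooth_id Y.property, ?_, ?_, hf⟩
    · intro x; exact ⟨x, Points.map_id x⟩
    · rw [Category.id_comp, Category.comp_id]
  · rintro ⟨U, V, a, b, h, ha, hb, hs, comm, hh⟩
    rw [hP.locality X.property Y.property]
    intro x
    obtain ⟨v, hv⟩ := hs x
    exact ⟨U.obj, V.obj, a.hom, b.hom, h.hom, v, U.property, V.property, ha, hb,
      congrArg (fun φ => φ.hom) comm, hv, hh⟩
  · intro U V W a b h p q e sq h1 h2 hb he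
    subst h2
    have hq : P q.hom :=
      hP.baseChange X.property Y.property W.property V.property f.hom b.hom q.hom p.hom sq hb hf
    exact hP.precomp U.property W.property V.property e.hom q.hom he hq
  · exact H X Y X (𝟙 X) (𝟙 Y) f (𝟙 X) f (𝟙 X) (isPullback_id_id f.hom) (Category.id_comp _)
      (Category.id_comp _) (locP_smooth_id Y.property) (locP_smooth_id X.property)
  · refine ⟨PUnit.{u + 1}, fun _ => Y, fun _ => X, fun _ => 𝟙 Y, fun _ => f, fun _ => 𝟙 X,
      ⟨fun _ => locP_smooth_id Y.property, fun y => ⟨⟨⟩, y, Points.map_id y⟩⟩,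
      fun _ => isPullback_id_id f.hom, fun _ => hf⟩
  · rintro ⟨ι, Yi, Xi, g, p, q, hcov, sq, hp⟩
    exact ((Groth.Agent.Lib.Helper16.IsSmoothLocalST.isLocalOnBase hP) _ _ Y.property (fun i => (Yi i).property) hcov f.hom X.property _ _ _
      (fun i => (Xi i).property) sq).2 hp
  · refine ⟨PUnit.{u + 1}, fun _ => X, fun _ => 𝟙 X,
      ⟨fun _ => locP_smooth_id X.property, fun y => ⟨⟨⟩, y, Points.map_id y⟩⟩, fun _ => ?_⟩
    rw [Category.id_comp]; exact hf
  · rintro ⟨ι, Xi, g, hcov, hp⟩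
    exact ((Groth.Agent.Lib.Helper16.IsSmoothLocalST.isLocalOnSource hP) _ _ X.property (fun i => (Xi i).property) hcov f.hom Y.property).2 hp

end Groth.Agent.S10566
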