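import Groth.Statements.S12774
import Mathlib
import Groth.Agent.Lib.Helper10.AlgStRep
import Groth.Agent.Lib.Helper10.Fib6
import Groth.Agent.S12776

set_option autoImplicit false
open CategoryTheory AlgebraicGeometry
universe u
open AlgSt

namespace Groth.Agent.S12774

/-- Take categories `𝒳` and `𝒴` fibred in groupoids over `(Sch/S)` and a 1-morphism `j : 𝒳 ⟶ 𝒴` between
them which is representable by algebraic spaces and a monomorphism. Then `j` is fully faithful on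
fibre categories; for categories fibred in groupoids this is the same as `j` being full and
faithful, which is how it is stated here. -/
theorem result {S : Scheme.{u}} {𝒳 𝒴 : AlgSt.Cat S}
    (h𝒳 : FibCat.IsFibGrpd 𝒳.p) (h𝒴 : FibCat.IsFibGrpd 𝒴.p) (j : 𝒳 ⥤ᵇ 𝒴) (hj : AlgSt.IsMono j) :
    j.toFunctor.Full ∧ j.toFunctor.Faithful := by
  have hrep : AlgSt.RepByAlgSp1 j := fun U y => by
    obtain ⟨F, e, he, -⟩ := hj U y
    exact ⟨F, e, he⟩
  haveI hfaith : j.toFunctor.Faithful := Groth.Agent.S12776.result h𝒳 h𝒴 j hrep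
  haveI := Groth.Agent.Lib.Helper10.Fib.IsFibGrpd.isFibered h𝒳
  refine Groth.Agent.Lib.Helper10.Fib.ff_of_fiberwise j
    (fun a b φ _ => Groth.Agent.Lib.Helper10.Fib.IsFibGrpd.sc h𝒴 (𝒳.p.map φ) (j.map φ))
    (fun U => ?_) (fun U => Groth.Agent.Lib.Helper10.Fib.fiberFunctor_faithful j U)
  constructor
  intro x x' h
  have h2 : 𝒴.p.IsHomLift (𝟙 U) h.1 := h.2
  have hh : 𝒴.p.IsHomLift (𝟙 (𝒳.p.obj x'.1)) h.1 :=
    Groth.Agent.Lib.Helper10.Fib.isHomLift_id_of_eq 𝒴.p x'.2.symm h.1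
  obtain ⟨ψ, hψ⟩ := Groth.Agent.Lib.Helper10.AlgStRep.exists_preimage_of_isMono h𝒴 j hj
    x.1 x'.1 h.1 hh
  have h3 : 𝒴.p.IsHomLift (𝟙 U) (j.map ψ) := by
    rw [hψ]
    exact h.2
  have hl : 𝒳.p.IsHomLift (𝟙 U) ψ := BasedFunctor.isHomLift_map j (𝟙 U) ψ
  exact ⟨⟨ψ, hl⟩, Functor.Fiber.hom_ext hψ⟩

end Groth.Agent.S12774
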