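import Groth.Statements.S10210
import Groth.Agent.Lib.Helper16.ChartDiagram
import Groth.Agent.Lib.Helper16.Descent

set_option autoImplicit false
universe u
open CategoryTheory CategoryTheory.Limits AlgebraicGeometry Topology TopologicalSpace
open AlgSp

namespace Groth.Agent.S10210

/-- Let X, Y, Z be algebraic spaces over a scheme S, g : X ⟶ Z and h : Y ⟶ Z etale morphisms and f : X ⟶
Y a morphism with f ≫ h = g. Then f is etale. -/
theorem result {S : Scheme.{u}} {X Y Z : AlgSp.Space S} (f : X ⟶ Y) (h : Y ⟶ Z) (g : X ⟶ Z)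
    (w : f ≫ h = g) (hg : AlgSp.IsEtaleMor g.hom) (hh : AlgSp.IsEtaleMor h.hom) :
    AlgSp.IsEtaleMor f.hom := by
  intro U φ hφ
  have hrep : AlgSp.Representable (φ ≫ f.hom) := Y.property.representable_from_yon _
  obtain ⟨V, b, hbe, hbs⟩ := Y.property.atlas
  have sq := hrep.isPullback b
  obtain ⟨c, hc⟩ := (AlgSp.yon S).map_surjective (hrep.fst b)
  rw [← hc] at sq
  have hce : Etale c.left := ((AlgSp.repWith_iff _ _).1 hbe).2 (φ ≫ f.hom) _ c sq.flip
  have hWZ : AlgSp.RepWith @Etale ((AlgSp.yon S).map c ≫ (φ ≫ g.hom)) :=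
    (AlgSp.RepWith @Etale).comp_mem _ _ ((AlgSp.repWith_yon_map_iff _ _).2 hce) (hg φ hφ)
  have hVZ : AlgSp.RepWith @Etale (b ≫ h.hom) := hh b hbe
  have w' : f.hom ≫ h.hom = g.hom := by rw [← w]; rfl
  have hm : (AlgSp.yon S).map (hrep.snd b) ≫ (b ≫ h.hom) = (AlgSp.yon S).map c ≫ (φ ≫ g.hom) := by
    rw [← Category.assoc, ← sq.w, Category.assoc, Category.assoc, w']
  have hsnd : Etale (hrep.snd b).left :=
    Groth.Agent.Lib.Helper16.etale_of_etale_charts _ _ hWZ hVZ (hrep.snd b) hm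
  exact Groth.Agent.Lib.Helper16.repWith_of_chart_of_descends (φ ≫ f.hom) hrep b hbe hbs _
    (hrep.snd b) sq @Etale hsnd

end Groth.Agent.S10210
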