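import Groth.Statements.S12787
import Mathlib
import Groth.Agent.Lib.Helper10.StkPost

set_option autoImplicit false
open CategoryTheory AlgebraicGeometry
universe u
open AlgSt

namespace Groth.Agent.S12787

/-- A category fibred in groupoids over `(Sch/S)` which is representable by an algebraic space is fibred
in setoids. -/
theorem result {S : Scheme.{u}} {𝒳 : AlgSt.Cat S}
    (h𝒳 : FibCat.IsFibGrpd 𝒳.p) (hr : AlgSt.RepByAlgSp 𝒳) :
    FibCat.IsFibSetoid 𝒳.p := by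
  obtain ⟨F, e, he⟩ := hr
  refine Groth.Agent.Lib.Helper10.StkPost.isFibSetoid_of_isEquivOver e he
    ⟨Stk.isFibGrpd_ofPsh _, fun U X Y => ⟨fun ψ₁ ψ₂ => ?_⟩⟩
  apply Subtype.ext
  apply Stk.EltObj.hom_ext
  have h1 := ψ₁.2
  have h2 := ψ₂.2
  exact (IsHomLift.fac' (Stk.EltObj.forget F.obj.obj) (𝟙 U) ψ₁.1).trans
    (IsHomLift.fac' (Stk.EltObj.forget F.obj.obj) (𝟙 U) ψ₂.1).symm

end Groth.Agent.S12787
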