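import Groth.Statements.S9877
import Groth.Agent.Lib.Helper16.EtChartSp
import Groth.Agent.Lib.Helper16.SpCoprod2
import Groth.Agent.Lib.Helper15.CoprodPts
import Groth.Agent.Lib.Helper17.AlgSpEpi
open Groth.Agent.Lib.Helper16 Groth.Agent.Lib.Helper15 AlgSp

set_option autoImplicit false
universe u
open CategoryTheory CategoryTheory.Limits AlgebraicGeometry
open AlgSp

namespace Groth.Agent.S9877

/-- Let `F` be an fppf sheaf of sets over `S` and `F_i ⟶ F` a family of maps of sheaves such that each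
`F_i` is an algebraic space over `S`, each `F_i ⟶ F` is representable by open immersions, the
induced map from the coproduct `∐ F_i` (in sheaves) to `F` is a surjective map of sheaves, and `∐
F_i` is an algebraic space. Then `F` is an algebraic space over `S`. -/
theorem result (S : Scheme.{u}) (F : AlgSp.Sp S) {ι : Type u} (Fi : ι → AlgSp.Sp S)
    (f : ∀ i, Fi i ⟶ F) (halg : ∀ i, AlgSp.IsAlgSpace (Fi i))
    (hopen : ∀ i, AlgSp.RepWith @IsOpenImmersion (f i)) (c : Cofan Fi) (hc : IsColimit c)
    (hsurj : Sheaf.IsLocallySurjective (Cofan.IsColimit.desc hc f)) (hcop : AlgSp.IsAlgSpace c.pt) :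
    AlgSp.IsAlgSpace F := by
  obtain ⟨d, hd⟩ : ∃ d : c.pt ⟶ F, d = Cofan.IsColimit.desc hc f := ⟨_, rfl⟩
  rw [← hd] at hsurj
  have hinj : ∀ i, c.inj i ≫ d = f i := fun i => by rw [hd]; exact Cofan.IsColimit.fac hc f i
  have hepi : Epi d := (Sheaf.isLocallySurjective_iff_epi d).1 hsurj
  have hVK := SpCoprod.isVanKampen_cofan c hc
  have hex : ∀ ⦃T : Over S⦄ (ξ : (yon S).obj T ⟶ F), ∃ (V : Over S) (a : (yon S).obj V ⟶ c.pt)
      (g : V ⟶ T) (_ : IsPullback a ((yon S).map g) d ξ), Etale g.left := by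
    intro T ξ
    have H : ∀ i, ∃ (V : Over S) (g : V ⟶ T) (a : (yon S).obj V ⟶ Fi i),
        IsPullback a ((yon S).map g) (f i) ξ := fun i => (hopen i).rep ξ
    choose V g a sq using H
    have hg : ∀ i, IsOpenImmersion (g i).left := fun i => (hopen i).property _ _ _ (sq i)
    obtain ⟨hW⟩ := SpCoprod.isColimit_sig V
    let b : ∀ i, (yon S).obj (V i) ⟶ pullback d ξ := fun i =>
      pullback.lift (a i ≫ c.inj i) ((yon S).map (g i)) (by rw [Category.assoc, hinj, (sq i).w])
    have hb1 : ∀ i, b i ≫ pullback.fst d ξ = a i ≫ c.inj i := fun i => pullback.lift_fst _ _ _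
    have hb2 : ∀ i, b i ≫ pullback.snd d ξ = (yon S).map (g i) := fun i => pullback.lift_snd _ _ _
    have sqb : ∀ i, IsPullback (b i) (a i) (pullback.fst d ξ) (c.inj i) := fun i => by
      refine IsPullback.of_right ?_ (hb1 i) (IsPullback.of_hasPullback d ξ).flip
      rw [hb2, hinj]
      exact (sq i).flip
    let α : Discrete.functor (fun i => (yon S).obj (V i)) ⟶ Discrete.functor Fi :=
      Discrete.natTrans fun i => a i.as
    have hcol : Nonempty (IsColimit (Cofan.mk (pullback d ξ) b)) :=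
      (hVK (Cofan.mk (pullback d ξ) b) α (pullback.fst d ξ) (by
        ext1
        ext1 ⟨i⟩
        simpa [α, Cofan.inj] using (hb1 i).symm) (NatTrans.Equifibered.of_discrete α)).2 (fun ⟨i⟩ => sqb i)
    obtain ⟨hP⟩ := hcol
    let φ : (yon S).obj (SpCoprod.sig V) ≅ pullback d ξ := IsColimit.coconePointUniqueUpToIso hW hP
    have hφ : ∀ i, (yon S).map (SpCoprod.sigι V i) ≫ φ.hom = b i := fun i =>
      IsColimit.comp_coconePointUniqueUpToIso_hom hW hP ⟨i⟩
    have hsnd : φ.hom ≫ pullback.snd d ξ = (yon S).map (SpCoprod.sigDesc V g) := by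
      refine Cofan.IsColimit.hom_ext hW _ _ (fun i => ?_)
      simp only [Cofan.mk_pt, cofan_mk_inj]
      rw [← Category.assoc, hφ, hb2, ← Functor.map_comp, SpCoprod.sigι_desc]
    refine ⟨SpCoprod.sig V, φ.hom ≫ pullback.fst d ξ, SpCoprod.sigDesc V g, ?_, ?_⟩
    · exact IsPullback.of_iso (IsPullback.of_hasPullback d ξ) φ.symm (Iso.refl _) (Iso.refl _) (Iso.refl _)
        (by simp) (by simp [← hsnd]) (by simp) (by simp)
    · exact SpCoprod.sigDesc_prop (P := @Etale) V g (fun i => by have := hg i; infer_instance)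
  have hde : RepWith @Etale d := MorphismProperty.relative.of_exists fun T ξ => hex ξ
  have hds : RepWith @Surjective d :=
    (repWith_surjective_iff d hde.rep).2 (Groth.Agent.Lib.Helper17.isSurjectiveMor_of_epi d)
  exact EtChart.isAlgSpace_of_repWith_etale_surjective hcop d hde hds

end Groth.Agent.S9877
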