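import Groth.Statements.S9881
import Groth.Agent.Lib.Helper16.SpCoprod2
open Groth.Agent.Lib.Helper16

set_option autoImplicit false
universe u
open CategoryTheory CategoryTheory.Limits AlgebraicGeometry
open AlgSp

namespace Groth.Agent.S9881

/-- Let `F_i` be a family of algebraic spaces over `S` indexed by a type in the universe of `S`, so that
the coproduct of any chosen atlases exists as a scheme (this realizes the size condition of the
published statement). Then the coproduct `∐ F_i` in fppf sheaves of sets over `S` (any colimit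
cofan) is an algebraic space over `S`. -/
theorem result (S : Scheme.{u}) {ι : Type u} (F : ι → AlgSp.Sp S)
    (h : ∀ i, AlgSp.IsAlgSpace (F i)) (c : Cofan F) (hc : IsColimit c) : AlgSp.IsAlgSpace c.pt := by
  have hVK := SpCoprod.isVanKampen_cofan c hc
  -- every map from a scheme is representable
  have hrep : ∀ (T : Over S) (t : (yon S).obj T ⟶ c.pt), Representable t := by
    intro T t T' t'
    obtain ⟨V, g, a, h1, h2, h3, h4⟩ := SpCoprod.exists_decomposition c hc t
    obtain ⟨V', g', a', h1', h2', h3', h4'⟩ := SpCoprod.exists_decomposition c hc t'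
    have key : ∀ i, ∃ (W : Over S) (w : W ⟶ V' i) (x : (yon S).obj W ⟶ (yon S).obj T),
        IsPullback x ((yon S).map w) t ((yon S).map (g' i) ≫ t') := by
      intro i
      obtain ⟨W, w, x, sq⟩ := (h i).representable_from_yon (a i) (a' i)
      refine ⟨W, w, x ≫ (yon S).map (g i), ?_⟩
      rw [← (h1' i).w]
      exact sq.paste_horiz (h1 i).flip
    choose W w x sq using key
    obtain ⟨a'', sq'', -⟩ := SpCoprod.exists_isPullback_of_decomposition t t' V' g' (fun i => (h2' i).1) h3' h4'
      W w x sq
    exact ⟨_, _, a'', sq''⟩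
  refine ⟨Functor.relativelyRepresentable.diag_of_map_from_obj fun T t => hrep T t, ?_⟩
  -- the atlas
  choose U p hpe hps using fun i => (h i).atlas
  obtain ⟨hU⟩ := SpCoprod.isColimit_sig U
  let P : (yon S).obj (SpCoprod.sig U) ⟶ c.pt := Cofan.IsColimit.desc hU (fun i => p i ≫ c.inj i)
  have hP : ∀ i, (yon S).map (SpCoprod.sigι U i) ≫ P = p i ≫ c.inj i := fun i =>
    Cofan.IsColimit.fac hU _ i
  let α : Discrete.functor (fun i => (yon S).obj (U i)) ⟶ Discrete.functor F :=
    Discrete.natTrans fun i => p i.as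
  have sqP : ∀ i, IsPullback ((yon S).map (SpCoprod.sigι U i)) (p i) P (c.inj i) := fun i =>
    (hVK (Cofan.mk _ fun i => (yon S).map (SpCoprod.sigι U i)) α P (by
      ext1
      ext1 ⟨i⟩
      simpa [α, Cofan.inj] using (hP i).symm) (NatTrans.Equifibered.of_discrete α)).1 ⟨hU⟩ ⟨i⟩
  have main : ∀ (T : Over S) (t : (yon S).obj T ⟶ c.pt), ∃ (W : Over S) (fst : (yon S).obj W ⟶ _) (snd : W ⟶ T),
      IsPullback fst ((yon S).map snd) P t ∧ Etale snd.left ∧ Surjective snd.left := by
    intro T t
    obtain ⟨V, g, a, h1, h2, h3, h4⟩ := SpCoprod.exists_decomposition c hc t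
    have key : ∀ i, ∃ (W : Over S) (w : W ⟶ V i) (x : (yon S).obj W ⟶ (yon S).obj (SpCoprod.sig U)),
        IsPullback x ((yon S).map w) P ((yon S).map (g i) ≫ t) ∧ Etale w.left ∧ Surjective w.left := by
      intro i
      obtain ⟨W, w, x, sq⟩ := (hpe i).rep (a i)
      refine ⟨W, w, x ≫ (yon S).map (SpCoprod.sigι U i), ?_, (hpe i).property _ _ _ sq,
        (hps i).property _ _ _ sq⟩
      rw [← (h1 i).w]
      exact sq.paste_horiz (sqP i)
    choose W w x sq hwe hws using key
    obtain ⟨a'', sq'', -⟩ := SpCoprod.exists_isPullback_of_decomposition P t V g (fun i => (h2 i).1) h3 h4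
      W w x sq
    refine ⟨_, a'', _, sq'', ?_, ?_⟩
    · refine SpCoprod.sigDesc_prop (P := @Etale) W _ (fun i => ?_)
      have := (h2 i).1
      have := hwe i
      rw [Over.comp_left]
      infer_instance
    · refine SpCoprod.sigDesc_surjective W _ (fun y => ?_)
      obtain ⟨i, v, hv⟩ := h3 y
      obtain ⟨z, hz⟩ := (hws i).surj v
      refine ⟨i, z, ?_⟩
      rw [Over.comp_left, Scheme.Hom.comp_apply, hz, hv]
  refine ⟨SpCoprod.sig U, P, ?_, ?_⟩
  · refine MorphismProperty.relative.of_exists fun T t => ?_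
    obtain ⟨W, fst, snd, sq, h1, -⟩ := main T t
    exact ⟨W, fst, snd, sq, h1⟩
  · refine MorphismProperty.relative.of_exists fun T t => ?_
    obtain ⟨W, fst, snd, sq, -, h2⟩ := main T t
    exact ⟨W, fst, snd, sq, h2⟩
end Groth.Agent.S9881
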