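import Groth.Statements.S9200
import Mathlib

set_option autoImplicit false
universe u
open CategoryTheory AlgebraicGeometry
open Lim

namespace Groth.Agent.S9200

set_option backward.isDefEq.respectTransparency false in
/-- Let S be a scheme and X = lim X_i a cofiltered limit of S-schemes X_i (a diagram with a compatible
family of structure maps to S) with affine transition morphisms, every X_i quasi-compact and
quasi-separated; the structure map X → S is the composite X → X_{i₀} → S for any index i₀. Assume S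
is quasi-compact and quasi-separated. If X → S is affine, then X_i → S is affine for all i beyond
some index i₁. -/
theorem result {I : Type u} [SmallCategory I] [IsCofiltered I] (S : Scheme.{u}) [CompactSpace S] [QuasiSeparatedSpace S]
    (D : I ⥤ Scheme.{u}) (t : D ⟶ (Functor.const I).obj S) (c : Limits.Cone D) (hc : Limits.IsLimit c)
    [∀ (i j : I) (a : i ⟶ j), IsAffineHom (D.map a)]
    [∀ i, CompactSpace (D.obj i)] [∀ i, QuasiSeparatedSpace (D.obj i)] (i₀ : I)
    [IsAffineHom (c.π.app i₀ ≫ t.app i₀)] :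
    ∃ i₁ : I, ∀ (i : I) (_ : i ⟶ i₁), IsAffineHom (t.app i) := by
  classical
  haveI : ∀ {i j : I} (f : i ⟶ j), IsAffineHom (D.map f) := fun f => inferInstance
  have hnat : ∀ {i j : I} (f : i ⟶ j), D.map f ≫ t.app j = t.app i := by
    intro i j f
    have := t.naturality f
    simpa using this
  -- the structure map does not depend on the index
  have hpi : ∀ i, c.π.app i ≫ t.app i = c.π.app i₀ ≫ t.app i₀ := by
    intro i
    have h1 : c.π.app (IsCofiltered.min i i₀) ≫ D.map (IsCofiltered.minToLeft i i₀) = c.π.app i :=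
      c.w _
    have h2 : c.π.app (IsCofiltered.min i i₀) ≫ D.map (IsCofiltered.minToRight i i₀) =
        c.π.app i₀ := c.w _
    rw [← h1, ← h2, Category.assoc, Category.assoc, hnat, hnat]
  -- key claim for each affine open of `S`
  have key : ∀ W : S.Opens, IsAffineOpen W →
      ∃ j : I, ∀ (i : I) (_ : i ⟶ j), IsAffineOpen (t.app i ⁻¹ᵁ W) := by
    intro W hW
    have hU : IsAffineOpen ((c.π.app i₀ ≫ t.app i₀) ⁻¹ᵁ W) := hW.preimage _
    obtain ⟨i, V, hV, hVU⟩ := exists_isAffineOpen_preimage_eq D c hc _ hU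
    haveI : QuasiCompact (t.app i) :=
      (inferInstance : QuasiCompact (show D.obj i ⟶ S from t.app i))
    have hV' : IsCompact ((t.app i ⁻¹ᵁ W : (D.obj i).Opens) : Set (D.obj i)) :=
      QuasiCompact.isCompact_preimage (f := t.app i) _ W.2 hW.isCompact
    have H : c.π.app i ⁻¹ᵁ V = c.π.app i ⁻¹ᵁ (t.app i ⁻¹ᵁ W) := by
      rw [hVU, ← Scheme.Hom.comp_preimage, hpi i]
    obtain ⟨j, fji, hj⟩ := exists_map_preimage_eq_map_preimage D c hc hV.isCompact hV' H
    refine ⟨j, fun i' g => ?_⟩
    have h3 : t.app i' ⁻¹ᵁ W = D.map g ⁻¹ᵁ (D.map fji ⁻¹ᵁ (t.app i ⁻¹ᵁ W)) := by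
      rw [← Scheme.Hom.comp_preimage, ← Scheme.Hom.comp_preimage, Category.assoc, hnat fji, hnat g]
    rw [h3, ← hj]
    exact (hV.preimage (D.map fji)).preimage (D.map g)
  -- a finite affine cover of `S`
  let 𝒰 := S.affineCover.finiteSubcover
  have hW : ∀ k : 𝒰.I₀, IsAffineOpen (𝒰.f k).opensRange := fun k =>
    isAffineOpen_opensRange (𝒰.f k)
  choose j hj using fun k : 𝒰.I₀ => key _ (hW k)
  obtain ⟨i₁, hi₁⟩ := IsCofiltered.inf_objs_exists (Finset.univ.image j)
  have fi₁ : ∀ k, i₁ ⟶ j k := fun k => (hi₁ (Finset.mem_image_of_mem j (Finset.mem_univ k))).some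
  refine ⟨i₁, fun i g => ?_⟩
  refine isAffineHom_of_forall_exists_isAffineOpen (f := t.app i) fun x => ?_
  obtain ⟨k, hk⟩ := 𝒰.exists_eq x
  exact ⟨(𝒰.f k).opensRange, hk, hW k, hj k i (g ≫ fi₁ k)⟩

end Groth.Agent.S9200
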