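import Groth.Statements.S9868
import Mathlib
import Groth.Agent.Lib.Helper10.DescG
import Groth.Agent.Lib.Helper15.EpiRefines
import Groth.Agent.Lib.Helper15.MonoInj
import Groth.Agent.Lib.Helper16.FpqcCover
import Groth.Agent.Lib.Helper16.LocPInst
import Groth.Agent.Lib.Helper16.Rep
import Groth.Agent.Lib.Helper16.EtChartSp
open Groth.Agent.Lib.Helper16 Groth.Agent.Lib.Helper15

set_option autoImplicit false
universe u
open CategoryTheory CategoryTheory.Limits AlgebraicGeometry
open AlgSp

namespace Groth.Agent.S9868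

theorem isEqvRelSp_yon {S : Scheme.{u}} {R U : Over S} (s t : R ⟶ U) (h : AlgSp.IsEqvRel s t) :
    AlgSp.IsEqvRelSp ((yon S).map s) ((yon S).map t) where
  injective T r r' h1 h2 := by
    obtain ⟨ρ, rfl⟩ := (yon S).map_surjective r
    obtain ⟨ρ', rfl⟩ := (yon S).map_surjective r'
    rw [← Functor.map_comp, ← Functor.map_comp] at h1 h2
    rw [h.injective T ρ ρ' ((yon S).map_injective h1) ((yon S).map_injective h2)]
  equivalence T := by
    have hE := h.equivalence T
    have key : ∀ a b : T ⟶ U, (∃ r : (yon S).obj T ⟶ (yon S).obj R,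
        r ≫ (yon S).map t = (yon S).map a ∧ r ≫ (yon S).map s = (yon S).map b) ↔
        (∃ r : T ⟶ R, r ≫ t = a ∧ r ≫ s = b) := by
      intro a b
      constructor
      · rintro ⟨r, h1, h2⟩
        obtain ⟨ρ, rfl⟩ := (yon S).map_surjective r
        rw [← Functor.map_comp] at h1 h2
        exact ⟨ρ, (yon S).map_injective h1, (yon S).map_injective h2⟩
      · rintro ⟨ρ, rfl, rfl⟩
        exact ⟨(yon S).map ρ, by rw [Functor.map_comp], by rw [Functor.map_comp]⟩
    refine ⟨fun a => ?_, fun {a b} hab => ?_, fun {a b c} hab hbc => ?_⟩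
    · obtain ⟨α, rfl⟩ := (yon S).map_surjective a
      exact (key α α).2 (hE.refl α)
    · obtain ⟨α, rfl⟩ := (yon S).map_surjective a
      obtain ⟨β, rfl⟩ := (yon S).map_surjective b
      exact (key β α).2 (hE.symm ((key α β).1 hab))
    · obtain ⟨α, rfl⟩ := (yon S).map_surjective a
      obtain ⟨β, rfl⟩ := (yon S).map_surjective b
      obtain ⟨γ, rfl⟩ := (yon S).map_surjective c
      exact (key α γ).2 (hE.trans ((key α β).1 hab) ((key β γ).1 hbc))

/-- Let `s, t : R ⟶ U` be an etale equivalence relation on a scheme `U` over `S` (for every scheme `T`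
over `S` the map from `T`-points of `R` to pairs of `T`-points of `U` is injective with image an
equivalence relation, and `s`, `t` are etale). Then the quotient sheaf `U/R` (the coequalizer of
`h_s, h_t` in fppf sheaves of sets over `S`) is an algebraic space over `S`. -/
theorem result (S : Scheme.{u}) {R U : Over S} (s t : R ⟶ U)
    (h : AlgSp.IsEtaleEqvRel s t) :
    AlgSp.IsAlgSpace (QuotSh.quot Scheme.fppfPrecoverage s t) := by
  have hE := isEqvRelSp_yon s t h.toIsEqvRel
  have N : ∀ {V W : Over S} (g : V ⟶ W), (yon S).map g ≫ (QuotSh.repIsoUliftYoneda Scheme.fppfPrecoverage W).inv =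
      (QuotSh.repIsoUliftYoneda Scheme.fppfPrecoverage V).inv ≫ QuotSh.repMap Scheme.fppfPrecoverage g :=
    fun g => (sheafificationNatIso (J S) (Type (u + 1))).hom.naturality ((yon S).map g)
  have N' : ∀ {V W : Over S} (g : V ⟶ W), QuotSh.repMap Scheme.fppfPrecoverage g ≫
      (QuotSh.repIsoUliftYoneda Scheme.fppfPrecoverage W).hom =
      (QuotSh.repIsoUliftYoneda Scheme.fppfPrecoverage V).hom ≫ (yon S).map g := fun g => by
    rw [← Iso.inv_comp_eq, ← Category.assoc, ← N g, Category.assoc, Iso.inv_hom_id, Category.comp_id]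
  obtain ⟨p, hp⟩ : ∃ p : (yon S).obj U ⟶ QuotSh.quot Scheme.fppfPrecoverage s t,
      p = (QuotSh.repIsoUliftYoneda Scheme.fppfPrecoverage U).inv ≫ QuotSh.quotπ Scheme.fppfPrecoverage s t :=
    ⟨_, rfl⟩
  have hp1 : (yon S).map s ≫ p = (yon S).map t ≫ p := by
    rw [hp, ← Category.assoc, N s, Category.assoc, QuotSh.quot_condition, ← Category.assoc, ← N t,
      Category.assoc]
  have hepi : Epi p := by
    rw [hp]
    show Epi ((QuotSh.repIsoUliftYoneda Scheme.fppfPrecoverage U).inv ≫
      coequalizer.π (QuotSh.repMap Scheme.fppfPrecoverage s) (QuotSh.repMap Scheme.fppfPrecoverage t))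
    infer_instance
  have hcond : QuotSh.repMap Scheme.fppfPrecoverage s ≫ (QuotSh.repIsoUliftYoneda Scheme.fppfPrecoverage U).hom ≫
      quotSpπ ((yon S).map s) ((yon S).map t) =
      QuotSh.repMap Scheme.fppfPrecoverage t ≫ (QuotSh.repIsoUliftYoneda Scheme.fppfPrecoverage U).hom ≫
      quotSpπ ((yon S).map s) ((yon S).map t) := by
    rw [← Category.assoc, N' s, Category.assoc, quotSp_condition, ← Category.assoc, ← N' t, Category.assoc]
  obtain ⟨θ, hθ⟩ : ∃ θ : QuotSh.quot Scheme.fppfPrecoverage s t ⟶ quotSp ((yon S).map s) ((yon S).map t),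
      QuotSh.quotπ Scheme.fppfPrecoverage s t ≫ θ =
        (QuotSh.repIsoUliftYoneda Scheme.fppfPrecoverage U).hom ≫ quotSpπ ((yon S).map s) ((yon S).map t) :=
    ⟨coequalizer.desc _ hcond, coequalizer.π_desc _ _⟩
  have hθ' : p ≫ θ = quotSpπ ((yon S).map s) ((yon S).map t) := by
    rw [hp, Category.assoc, hθ, Iso.inv_hom_id_assoc]
  have hθmono : Mono θ := by
    have hfac : θ ≫ quotSpDesc p hp1 = 𝟙 _ := by
      have hepi0 : Epi (QuotSh.quotπ Scheme.fppfPrecoverage s t) := by
        show Epi (coequalizer.π (QuotSh.repMap Scheme.fppfPrecoverage s) (QuotSh.repMap Scheme.fppfPrecoverage t))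
        infer_instance
      rw [← cancel_epi (QuotSh.quotπ Scheme.fppfPrecoverage s t), ← Category.assoc, hθ, Category.assoc,
        quotSpπ_desc, hp, Iso.hom_inv_id_assoc, Category.comp_id]
    exact mono_of_mono_fac hfac
  have hpb : IsPullback ((yon S).map t) ((yon S).map s) p p := by
    have h1 := isPullback_quotSpπ hE
    rw [← hθ'] at h1
    exact Groth.Agent.Lib.Helper15.isPullback_of_comp_mono θ h1
  have hpe : RepWith @Etale p :=
    H10PT.Desc.repWith_etale_of_eqvRel s t p hpb h.injective hepi h.etale_right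
  have hps : RepWith @Surjective p :=
    (repWith_surjective_iff p hpe.rep).2 (isSurjectiveMor_of_epi p)
  exact EtChart.isAlgSpace_of_etale_chart p hpe hps

end Groth.Agent.S9868
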