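import Groth.Statements.S9929
import Groth.Agent.Lib.Helper16.Submersive
open Groth.Agent.Lib.Helper16

set_option autoImplicit false
universe u
open CategoryTheory CategoryTheory.Limits AlgebraicGeometry
open AlgSp

namespace Groth.Agent.S9929

/-- A monomorphism from an algebraic space to the spectrum of a field is either the empty space or an
isomorphism. -/
theorem result {S : Scheme.{u}} {k : Type u} [Field k] (str : Spec (CommRingCat.of k) ⟶ S)
    (Z : AlgSp.Space S) (f : Z ⟶ (AlgSp.ofScheme S).obj (Over.mk str)) [Mono f.hom] :
    IsEmpty (AlgSp.Points Z.obj) ∨ IsIso f := by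
  by_cases hne : Nonempty (AlgSp.Points Z.obj)
  · right
    have hm : Mono f.hom := inferInstance
    have hiso : IsIso f.hom := @isIso_of_mono_to_field S k _ str Z.obj Z.property f.hom hm hne
    have : IsIso ((ObjectProperty.ι (AlgSp.IsAlgSpace (S := S))).map f) := hiso
    exact isIso_of_reflects_iso f (ObjectProperty.ι (AlgSp.IsAlgSpace (S := S)))
  · left
    exact not_nonempty_iff.mp hne

end Groth.Agent.S9929
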