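import Groth.Statements.S0412
import Mathlib
import Groth.Agent.Lib.Helper8.EtaleSectionSch

set_option autoImplicit false
universe u
open FlatMor

namespace Groth.Agent.S0412

open AlgebraicGeometry CategoryTheory Limits in
/-- A smooth morphism admits sections étale-locally on the target: every point in the image has an étale
neighbourhood over which the morphism has a section. -/
theorem result {X S : Scheme.{u}} (f : X ⟶ S) [Smooth f] (s : S) (hs : s ∈ Set.range f) :
    ∃ (S' : Scheme.{u}) (g : S' ⟶ S) (s' : S'), Etale g ∧ g s' = s ∧ ∃ h : S' ⟶ X, h ≫ f = g := by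
  exact Groth.Agent.Lib.Helper8.EtaleSectionSch.exists_etale_nhd_section f s hs

end Groth.Agent.S0412
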