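import Groth.Statements.S10103
import Mathlib
import Groth.Agent.Lib.Helper10.SS3

set_option autoImplicit false
universe u
open CategoryTheory CategoryTheory.Limits AlgebraicGeometry
open AlgSp

namespace Groth.Agent.S10103

/-- Let `s, t : R ⟶ U` be an equivalence relation of schemes over `S` (the case of a groupoid scheme
whose `j = (t, s)` is an equivalence relation; the composition is determined by it) with `s` and `t`
flat and locally of finite presentation. Then the fppf quotient sheaf `U/R` is an algebraic space
over `S`. -/
theorem result (S : Scheme.{u}) {R U : Over S} (s t : R ⟶ U)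
    (h : AlgSp.IsEqvRel s t) [Flat s.left] [LocallyOfFinitePresentation s.left]
    [Flat t.left] [LocallyOfFinitePresentation t.left] :
    AlgSp.IsAlgSpace (QuotSh.quot Scheme.fppfPrecoverage s t) := by
  obtain ⟨R', U', s', t', g, r, ψ, h', -, -, hf1, hp1, hq1, hf2, hp2, hq2, -, hiso⟩ :=
    Groth.Agent.S10139.result S s t h
  haveI := hf1
  haveI := hp1
  haveI := hq1
  haveI := hf2
  haveI := hp2
  haveI := hq2
  haveI := hiso
  obtain ⟨e, -⟩ := Groth.Agent.Lib.Helper16.QuotOpen.exists_iso_quot_quotSp s' t'
  have h1 := H10PT.SS.isAlgSpace_quotSp_lqf s' t' h'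
  have h2 : AlgSp.IsAlgSpace (QuotSh.quot Scheme.fppfPrecoverage s' t') := h1.of_iso e.symm
  exact h2.of_iso (asIso ψ)

end Groth.Agent.S10103
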