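import Groth.Statements.S10104
import Mathlib
import Groth.Agent.S10103
import Groth.Agent.S10099
import Groth.Agent.S10096

set_option autoImplicit false
universe u
open CategoryTheory CategoryTheory.Limits AlgebraicGeometry
open AlgSp

namespace Groth.Agent.S10104

/-- Let `F` be an fppf sheaf of sets over `S` admitting a map `U ⟶ F` from an algebraic space `U`, where
the map is representable by algebraic spaces and is flat, surjective and locally of finite
presentation. It follows that `F` is an algebraic space over `S`. (The published statement lists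
further sufficient conditions, namely `U` a scheme, or the diagonal of `F` representable by
algebraic spaces with `U ⟶ F` surjective, flat and locally of finite presentation, each of which
implies the hypotheses of this row.) -/
theorem result (S : Scheme.{u}) (F : AlgSp.Sp S) (U : AlgSp.Space S)
    (p : U.obj ⟶ F) (hp : AlgSp.RepBySpWith (AlgSp.IsSurjectiveMor ⊓ AlgSp.LocP @Flat ⊓ AlgSp.LocP @LocallyOfFinitePresentation) p.hom) :
    AlgSp.IsAlgSpace F := by
  classical
  have hdiag := Groth.Agent.S10099.result S F U p hp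
  have hepi_p : Epi p := Groth.Agent.S10096.result S U.obj F p hp
  obtain ⟨U', a, hae, has⟩ := U.property.atlas
  haveI hepi_a : Epi a := Groth.Agent.Lib.Helper16.epi_of_etale_surjective a hae has
  obtain ⟨q, hq⟩ : ∃ q : (yon S).obj U' ⟶ F, q = a ≫ p := ⟨_, rfl⟩
  haveI hepi_q : Epi q := by rw [hq]; exact epi_comp a p
  have hrep : Representable q := Functor.relativelyRepresentable.of_diag hdiag q
  obtain ⟨R₀, t₀, fst, sq0⟩ := hrep q
  obtain ⟨s₀, rfl⟩ := (yon S).map_surjective fst
  -- sq0 : IsPullback (yon s₀) (yon t₀) q q  (or similar)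
  have sq : IsPullback ((yon S).map s₀) ((yon S).map t₀) q q := sq0
  have hEq : IsEqvRel t₀ s₀ := H10PT.SS.isEqvRel_of_isPullback t₀ s₀ q sq
  rw [AlgSp.repBySpWith_hom_iff] at hp
  obtain ⟨hA₁, ⟨hs₁, hfl₁⟩, hfp₁⟩ := hp q (pullback.fst p q) (pullback.snd p q)
    (IsPullback.of_hasPullback p q)
  -- flatness of t₀ (second projection)
  have key : ∀ (σ τ : R₀ ⟶ U'), IsPullback ((yon S).map σ) ((yon S).map τ) q q →
      Flat τ.left ∧ LocallyOfFinitePresentation τ.left := by
    intro σ τ sqq
    have w1 : ((yon S).map σ ≫ a) ≫ p = (yon S).map τ ≫ q := by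
      rw [Category.assoc, ← hq]; exact sqq.w
    obtain ⟨a', ha'⟩ : ∃ a' : (yon S).obj R₀ ⟶ pullback p q,
        a' = pullback.lift ((yon S).map σ ≫ a) ((yon S).map τ) w1 := ⟨_, rfl⟩
    have h1 : a' ≫ pullback.fst p q = (yon S).map σ ≫ a := by rw [ha', pullback.lift_fst]
    have h2 : a' ≫ pullback.snd p q = (yon S).map τ := by rw [ha', pullback.lift_snd]
    have hbig : IsPullback (pullback.fst p q) (pullback.snd p q) p q :=
      IsPullback.of_hasPullback p q
    have hleft : IsPullback ((yon S).map σ) a' a (pullback.fst p q) := by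
      have hpaste : IsPullback ((yon S).map σ) (a' ≫ pullback.snd p q) (a ≫ p) q := by
        rw [h2, ← hq]; exact sqq
      -- use of_right with the square (fst, snd, p, q) transposed
      exact (IsPullback.of_right (t := hbig.flip) hpaste.flip h1 ).flip
    have hae' : RepWith @Etale a' := (RepWith @Etale).of_isPullback hleft hae
    have e1 : a' ≫ pullback.snd p q = (yon S).map τ ≫ 𝟙 _ := by rw [h2, Category.comp_id]
    exact ⟨hfl₁ a' (𝟙 _) τ hae' (repWith_id _ U') e1, hfp₁ a' (𝟙 _) τ hae' (repWith_id _ U') e1⟩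
  obtain ⟨hf_t, hp_t⟩ := key s₀ t₀ sq
  obtain ⟨hf_s, hp_s⟩ := key t₀ s₀ sq.flip
  haveI := hf_t
  haveI := hp_t
  haveI := hf_s
  haveI := hp_s
  have hQ := Groth.Agent.S10103.result S t₀ s₀ hEq
  obtain ⟨e, -⟩ := Groth.Agent.Lib.Helper16.QuotOpen.exists_iso_quot_quotSp t₀ s₀
  have hQ' : IsAlgSpace (quotSp ((yon S).map t₀) ((yon S).map s₀)) := hQ.of_iso e
  have hEqSp := Groth.Agent.S9868.isEqvRelSp_yon t₀ s₀ hEq
  have sqQ := Groth.Agent.Lib.Helper15.isPullback_quotSpπ hEqSp
  haveI : Epi (quotSpπ ((yon S).map t₀) ((yon S).map s₀)) :=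
    Groth.Agent.Lib.Helper15.epi_quotSpπ _ _
  obtain ⟨e', -⟩ := H10PT.SS.exists_iso_of_epis q (quotSpπ ((yon S).map t₀) ((yon S).map s₀))
    (fun T x y => by
      rw [H10PT.SS.rel_iff_of_isPullback t₀ s₀ q sq x y,
        H10PT.SS.rel_iff_of_isPullback t₀ s₀ _ sqQ x y])
  exact hQ'.of_iso e'.symm

end Groth.Agent.S10104
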