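import Groth.Statements.S14856
-- import your own Groth.Agent.* helpers here
import Mathlib

set_option autoImplicit false
universe u
open CAlg

namespace Groth.Agent.S14856

/-- Let p be a prime and S a commutative ring in which p is a non-zero-divisor. For a p-typical Witt
vector x over S, a natural number m and an integer s ≥ 1, the power p^s divides each of the Witt
components x_0, …, x_m if and only if p^(n+s) divides the n-th ghost component w_n(x) = x_0^(p^n) +
p x_1^(p^(n-1)) + ⋯ + p^n x_n for every n ≤ m. -/
theorem result (p : ℕ) [Fact p.Prime] (S : Type u) [CommRing S]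
    (hS : ∀ y : S, (p : S) * y = 0 → y = 0) (x : WittVector p S) (m s : ℕ) (hs : 1 ≤ s) :
    (∀ i ≤ m, (p : S) ^ s ∣ x.coeff i) ↔
      (∀ n ≤ m, (p : S) ^ (n + s) ∣ WittVector.ghostComponent n x) := by
  classical
  -- explicit formula for ghost components
  have hghost : ∀ n : ℕ, WittVector.ghostComponent n x =
      ∑ i ∈ Finset.range (n + 1), (p : S) ^ i * x.coeff i ^ p ^ (n - i) := by
    intro n
    rw [WittVector.ghostComponent_apply, wittPolynomial_eq_sum_C_mul_X_pow, map_sum]
    refine Finset.sum_congr rfl fun i _ => ?_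
    simp [MvPolynomial.aeval_X]
  -- cancellation of powers of p
  have hcancel : ∀ (i : ℕ) (y : S), (p : S) ^ i * y = 0 → y = 0 := by
    intro i
    induction i with
    | zero => intro y hy; simpa using hy
    | succ i ih =>
      intro y hy
      rw [pow_succ, mul_assoc] at hy
      exact hS y (ih _ hy)
  have hexp : ∀ k : ℕ, s + k ≤ s * p ^ k := by
    intro k
    have h1 : k + 1 ≤ p ^ k := Nat.lt_pow_self (Fact.out : p.Prime).one_lt
    calc s + k ≤ s * (k + 1) := by nlinarith
      _ ≤ s * p ^ k := Nat.mul_le_mul_left s h1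
  -- a term with p^s ∣ x_i is divisible by p^(n+s)
  have hterm : ∀ (n i : ℕ), i ≤ n → (p : S) ^ s ∣ x.coeff i →
      (p : S) ^ (n + s) ∣ (p : S) ^ i * x.coeff i ^ p ^ (n - i) := by
    intro n i hin hdiv
    have h1 : ((p : S) ^ s) ^ p ^ (n - i) ∣ x.coeff i ^ p ^ (n - i) := pow_dvd_pow_of_dvd hdiv _
    rw [← pow_mul] at h1
    have h2 : (p : S) ^ (s + (n - i)) ∣ x.coeff i ^ p ^ (n - i) :=
      (pow_dvd_pow _ (hexp (n - i))).trans h1
    have e : n + s = i + (s + (n - i)) := by omega
    rw [e, pow_add]
    exact mul_dvd_mul_left _ h2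
  constructor
  · intro h n hn
    rw [hghost]
    refine Finset.dvd_sum fun i hi => ?_
    have hi' : i ≤ n := by
      have := Finset.mem_range.mp hi; omega
    exact hterm n i hi' (h i (hi'.trans hn))
  · intro h i
    induction i using Nat.strong_induction_on with
    | _ i ih =>
      intro him
      have hw := h i him
      rw [hghost, Finset.sum_range_succ] at hw
      have hrest : (p : S) ^ (i + s) ∣ ∑ j ∈ Finset.range i, (p : S) ^ j * x.coeff j ^ p ^ (i - j) := by
        refine Finset.dvd_sum fun j hj => ?_
        have hj' : j < i := Finset.mem_range.mp hj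
        exact hterm i j hj'.le (ih j hj' (hj'.le.trans him))
      have hlast : (p : S) ^ (i + s) ∣ (p : S) ^ i * x.coeff i ^ p ^ (i - i) :=
        (dvd_add_right hrest).mp hw
      rw [Nat.sub_self, pow_zero, pow_one] at hlast
      obtain ⟨c, hc⟩ := hlast
      refine ⟨c, ?_⟩
      have : (p : S) ^ i * (x.coeff i - (p : S) ^ s * c) = 0 := by
        rw [mul_sub, hc, pow_add]; ring
      exact sub_eq_zero.mp (hcancel i _ this)

end Groth.Agent.S14856
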