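import Groth.Statements.S6337
import Mathlib
import Groth.Agent.Lib.Helper10.ML
import Groth.Agent.S6338

set_option autoImplicit false
universe u
open CAlg

open scoped TensorProduct

namespace Groth.Agent.S6337

lemma directSumLeft_apply (R : Type u) [CommRing R] {ι : Type u} [DecidableEq ι] (M : ι → Type u)
    [∀ i, AddCommGroup (M i)] [∀ i, Module R (M i)] (P : Type u) [AddCommGroup P] [Module R P]
    (z : (DirectSum ι M) ⊗[R] P) (i : ι) :
    (TensorProduct.directSumLeft R R M P z) i =
      (DirectSum.component R ι M i).rTensor P z := by
  induction z using TensorProduct.induction_on with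
  | zero => simp
  | tmul m p =>
    rw [TensorProduct.directSumLeft_tmul, LinearMap.rTensor_tmul, DirectSum.apply_eq_component R]
  | add x y hx hy => rw [map_add, map_add, DirectSum.add_apply, hx, hy]

/-- A direct sum of modules is Mittag-Leffler if and only if each summand is Mittag-Leffler. -/
theorem result (R : Type u) [CommRing R] {ι : Type u} (M : ι → Type u)
    [∀ i, AddCommGroup (M i)] [∀ i, Module R (M i)] :
    CAlg.IsMittagLeffler R (DirectSum ι M) ↔ ∀ i, CAlg.IsMittagLeffler R (M i) := by
  classical
  constructor
  · intro h i
    have huniv : CAlgX.UniversallyInjective R (DirectSum.lof R ι M i) := by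
      intro Q _ _
      apply Function.LeftInverse.injective (g := (DirectSum.component R ι M i).rTensor Q)
      intro x
      rw [← LinearMap.rTensor_comp_apply]
      have h1 : DirectSum.component R ι M i ∘ₗ DirectSum.lof R ι M i = LinearMap.id := by
        apply LinearMap.ext
        intro m
        simp [DirectSum.component.lof_self]
      rw [h1, LinearMap.rTensor_id, LinearMap.id_apply]
    exact Groth.Agent.S6338.result R (DirectSum.lof R ι M i) huniv h
  · intro h κ Q _ _
    rw [injective_iff_map_eq_zero]
    intro z hz
    apply (TensorProduct.directSumLeft R R M (∀ k, Q k)).injective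
    rw [map_zero]
    apply DFinsupp.ext
    intro i
    rw [directSumLeft_apply]
    show (DirectSum.component R ι M i).rTensor (∀ k, Q k) z = 0
    apply (injective_iff_map_eq_zero _).1 (h i κ Q)
    funext k
    rw [Groth.Agent.Lib.Helper10.piRightHom_rTensor, hz]
    simp

end Groth.Agent.S6337
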