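import Groth.Statements.S6340
import Mathlib
import Groth.Agent.Lib.Helper10.ML

set_option autoImplicit false
universe u
open CAlg

open scoped TensorProduct

namespace Groth.Agent.S6340

/-- Let M₁ → M₂ → M₃ → 0 be exact with M₁ finitely generated; if M₂ is Mittag-Leffler then so is M₃.
Equivalently, as stated here: the quotient of a Mittag-Leffler module by a finitely generated
submodule is Mittag-Leffler. -/
theorem result (R : Type u) [CommRing R] {M : Type u} [AddCommGroup M] [Module R M]
    (N : Submodule R M) (hN : N.FG) (hM : CAlg.IsMittagLeffler R M) :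
    CAlg.IsMittagLeffler R (M ⧸ N) := by
  intro ι Q _ _
  rw [injective_iff_map_eq_zero]
  intro z hz
  obtain ⟨y, rfl⟩ := LinearMap.rTensor_surjective (∀ i, Q i) (Submodule.mkQ_surjective N) z
  have h1 : ∀ i, ∃ t : N ⊗[R] Q i,
      N.subtype.rTensor (Q i) t = TensorProduct.piRightHom R R M Q y i := by
    intro i
    have h4 := congrFun hz i
    rw [Groth.Agent.Lib.Helper10.piRightHom_rTensor] at h4
    have hex := rTensor_exact (Q i) (LinearMap.exact_subtype_mkQ N) (Submodule.mkQ_surjective N)
    exact (hex _).1 h4
  choose t ht using h1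
  haveI : Module.Finite R N := Module.Finite.iff_fg.2 hN
  obtain ⟨w, hw⟩ := Groth.Agent.Lib.Helper10.piRightHom_surjective_of_finite (R := R) (N := N) Q t
  have h2 : TensorProduct.piRightHom R R M Q (N.subtype.rTensor (∀ i, Q i) w) =
      TensorProduct.piRightHom R R M Q y := by
    funext i
    rw [Groth.Agent.Lib.Helper10.piRightHom_rTensor, hw, ht]
  have h3 := hM ι Q h2
  rw [← h3, ← LinearMap.rTensor_comp_apply]
  have h5 : N.mkQ ∘ₗ N.subtype = 0 := by
    apply LinearMap.ext
    intro x
    simp
  rw [h5, LinearMap.rTensor_zero, LinearMap.zero_apply]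

end Groth.Agent.S6340
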