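import Groth.Statements.S6342
import Mathlib
-- import your own Groth.Agent.* helpers here

set_option autoImplicit false
universe u
open CAlg

open scoped TensorProduct

namespace Groth.Agent.S6342

section helpers

open TensorProduct

variable (R S : Type u) [CommRing R] [CommRing S] [Algebra R S]
  (M : Type u) [AddCommGroup M] [Module S M] [Module R M] [IsScalarTower R S M]

lemma nat {ι : Type u} (Q : ι → Type u) [∀ i, AddCommGroup (Q i)] [∀ i, Module R (Q i)]
    (z' : M ⊗[S] (S ⊗[R] (∀ i, Q i))) (i : ι) :
    TensorProduct.AlgebraTensorModule.cancelBaseChange R S S M (Q i)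
      (TensorProduct.piRightHom S S M (fun i => S ⊗[R] Q i)
        (LinearMap.lTensor M (TensorProduct.piRightHom R S S Q) z') i) =
    TensorProduct.piRightHom R R M Q
      (TensorProduct.AlgebraTensorModule.cancelBaseChange R S S M (∀ i, Q i) z') i := by
  induction z' using TensorProduct.induction_on with
  | zero => simp
  | tmul m t =>
    induction t using TensorProduct.induction_on with
    | zero => simp
    | tmul s q => simp
    | add a b ha hb => simp only [TensorProduct.tmul_add, map_add, Pi.add_apply, ha, hb]
  | add x y hx hy => simp only [map_add, Pi.add_apply, hx, hy]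

lemma piRightHom_eq {ι : Type u} (Q : ι → Type u) [∀ i, AddCommGroup (Q i)]
    [∀ i, Module R (Q i)] (x : S ⊗[R] (∀ i, Q i)) :
    TensorProduct.piRightHom R S S Q x = TensorProduct.piRightHom R R S Q x := by
  induction x using TensorProduct.induction_on with
  | zero => simp
  | tmul s q => rfl
  | add a b ha hb => simp only [map_add, ha, hb]

end helpers

/-- Let R → S be a ring map such that S is Mittag-Leffler as an R-module, and let M be an S-module which
is flat and Mittag-Leffler over S. Then M is Mittag-Leffler as an R-module. -/
theorem result (R S : Type u) [CommRing R] [CommRing S] [Algebra R S]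
    (M : Type u) [AddCommGroup M] [Module S M] [Module R M] [IsScalarTower R S M]
    (hS : CAlg.IsMittagLeffler R S) [Module.Flat S M] (hM : CAlg.IsMittagLeffler S M) :
    CAlg.IsMittagLeffler R M := by
  intro ι Q _ _
  rw [injective_iff_map_eq_zero]
  intro z hz
  obtain ⟨z', rfl⟩ :=
    (TensorProduct.AlgebraTensorModule.cancelBaseChange R S S M (∀ i, Q i)).surjective z
  have hβ : Function.Injective (TensorProduct.piRightHom R S S Q) := by
    intro a b hab
    apply hS ι Q
    rw [← piRightHom_eq, ← piRightHom_eq]
    exact hab
  have h1 : Function.Injective (LinearMap.lTensor M (TensorProduct.piRightHom R S S Q)) :=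
    Module.Flat.lTensor_preserves_injective_linearMap _ hβ
  have h2 : TensorProduct.piRightHom S S M (fun i => S ⊗[R] Q i)
      (LinearMap.lTensor M (TensorProduct.piRightHom R S S Q) z') = 0 := by
    funext i
    apply (TensorProduct.AlgebraTensorModule.cancelBaseChange R S S M (Q i)).injective
    rw [nat, hz]
    simp
  have h3 := (injective_iff_map_eq_zero _).1 (hM ι (fun i => S ⊗[R] Q i)) _ h2
  have h4 := (injective_iff_map_eq_zero _).1 h1 _ h3
  rw [h4, map_zero]

end Groth.Agent.S6342
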