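import Groth.Statements.S0502
import Mathlib

set_option autoImplicit false
universe u
open Hensel

namespace Groth.Agent.S0502

/-- A local ring `R` is henselian as soon as every étale `R`-algebra having a prime over the maximal
ideal with trivial residue field extension admits an `R`-algebra retraction to `R`. -/
theorem result (R : Type u) [CommRing R] [IsLocalRing R]
    (h : ∀ (S : Type u) [CommRing S] [Algebra R S] [Algebra.Etale R S] (q : Ideal S) [q.IsPrime],
      q.LiesOver (IsLocalRing.maximalIdeal R) → Function.Surjective (algebraMap R q.ResidueField) →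
      Nonempty (S →ₐ[R] R)) :
    HenselianLocalRing R := by
  open Polynomial IsLocalRing in
  refine ⟨fun F hF a₀ h₁ h₂ => ?_⟩
  set G : R[X] := F /ₘ (X - C a₀) with hG
  have hdiv : C (F.eval a₀) + (X - C a₀) * G = F := by
    rw [← modByMonic_X_sub_C_eq_C_eval]; exact modByMonic_add_div F _
  have hGa : G.eval a₀ = F.derivative.eval a₀ := by
    have := congrArg (fun p => (derivative p).eval a₀) hdiv
    simp only [derivative_add, derivative_C, zero_add, derivative_mul, derivative_sub,
      derivative_X, sub_zero, one_mul, eval_add, eval_mul, eval_sub, eval_X, eval_C, sub_self,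
      zero_mul, add_zero] at this
    exact this
  let P : StandardEtalePair R := ⟨F, hF, derivative F * G, ⟨G, 0, 1, by ring⟩⟩
  have haeval : ∀ p : R[X], aeval (residue R a₀) p = residue R (p.eval a₀) := by
    intro p
    rw [aeval_def, ResidueField.algebraMap_eq, eval₂_at_apply]
  have hmap : P.HasMap (residue R a₀) := by
    refine ⟨?_, ?_⟩
    · show aeval (residue R a₀) F = 0
      rw [haeval]; exact (residue_eq_zero_iff _).mpr h₁
    · show IsUnit (aeval (residue R a₀) (derivative F * G))
      rw [haeval, eval_mul, hGa]
      exact (h₂.mul h₂).map (residue R)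
  let χ : P.Ring →ₐ[R] ResidueField R := P.lift _ hmap
  have hχalg : ∀ r : R, χ (algebraMap R P.Ring r) = residue R r := fun r => by
    rw [χ.commutes]; rfl
  let q : Ideal P.Ring := RingHom.ker χ.toRingHom
  have hχsurj : Function.Surjective χ.toRingHom := by
    intro t
    obtain ⟨r, rfl⟩ := residue_surjective t
    exact ⟨algebraMap R P.Ring r, hχalg r⟩
  have hqmax : q.IsMaximal := RingHom.ker_isMaximal_of_surjective χ.toRingHom hχsurj
  have hqprime : q.IsPrime := hqmax.isPrime
  have hqmem : ∀ s : P.Ring, s ∈ q ↔ χ s = 0 := fun s => RingHom.mem_ker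
  have hq : q.LiesOver (maximalIdeal R) := by
    constructor
    ext r
    rw [Ideal.under, Ideal.mem_comap, hqmem, hχalg, residue_eq_zero_iff]
  have hsurj : Function.Surjective (algebraMap R q.ResidueField) := by
    intro t
    obtain ⟨s, rfl⟩ := Ideal.algebraMap_residueField_surjective q t
    obtain ⟨r, hr⟩ := residue_surjective (χ s)
    refine ⟨r, ?_⟩
    rw [IsScalarTower.algebraMap_apply R P.Ring q.ResidueField, ← sub_eq_zero, ← map_sub,
      Ideal.algebraMap_residueField_eq_zero, hqmem, map_sub, hχalg, hr, sub_self]
  obtain ⟨ρ⟩ := h P.Ring q hq hsurj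
  have hρ : P.HasMap (ρ P.X) := (StandardEtalePair.hasMap_X (P := P)).map ρ
  set a : R := ρ P.X with ha
  have hFa : F.eval a = 0 := by
    have := hρ.1
    rwa [← coe_aeval_eq_eval]
  have hGunit : IsUnit (G.eval a) := by
    have := hρ.2
    have h3 : aeval a (derivative F * G) = (derivative F).eval a * G.eval a := by
      rw [coe_aeval_eq_eval, eval_mul]
    rw [h3] at this
    exact isUnit_of_mul_isUnit_right this
  refine ⟨a, hFa, ?_⟩
  have hrel : (a - a₀) * G.eval a = - F.eval a₀ := by
    have := congrArg (fun p => p.eval a) hdiv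
    simp only [eval_add, eval_mul, eval_sub, eval_X, eval_C] at this
    rw [hFa] at this
    linear_combination this
  obtain ⟨u, hu⟩ := hGunit
  have : a - a₀ = - F.eval a₀ * (↑u⁻¹ : R) := by
    rw [← hrel, ← hu, mul_assoc, Units.mul_inv, mul_one]
  rw [this]
  exact Ideal.mul_mem_right _ _ ((Ideal.neg_mem_iff _).mpr h₁)

end Groth.Agent.S0502
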