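import Groth.Statements.S9238
import Mathlib
import Groth.Agent.Lib.Helper8.BranchCountGeom
import Groth.Agent.Lib.Helper8.Hzl.Transfer

set_option autoImplicit false
universe u
open Brnch

namespace Groth.Agent.S9238

/-- Let A be a local ring and S a strict henselization of A. Then the number of minimal prime ideals of
S, a natural number or infinity, equals the number of geometric branches of A as computed from the
integral closure of A_red in its total ring of fractions (maximal ideals counted with multiplicity
the separable degree of their residue field over that of A; infinity if A has infinitely many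
minimal primes). -/
theorem result (A S : Type u) [CommRing A]
    [IsLocalRing A] [CommRing S] [IsLocalRing S] [Algebra A S] [IsLocalHom (algebraMap A S)]
    [Hensel.IsStrictHenselization A S] :
    ENat.card (minimalPrimes S) = Brnch.numGeomBranches A := by
  haveI : Module.Flat A S := Groth.Agent.Lib.Helper8.Hzl.strictHenselization_flat A S
  haveI : HenselianLocalRing S := Hensel.IsStrictHenselization.henselian (R := A)
  have hind := Groth.Agent.Lib.Helper8.Hzl.strictHenselization_indEtaleLike A S
  by_cases hfin : (minimalPrimes A).Finite
  · rw [show Brnch.numGeomBranches A = _ from if_pos hfin]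
    have hsc := Hensel.IsStrictHenselization.isSepClosure (R := A) (S := S)
    haveI : IsSepClosed (IsLocalRing.ResidueField S) := hsc.sep_closed
    haveI : Algebra.IsSeparable (IsLocalRing.ResidueField A) (IsLocalRing.ResidueField S) :=
      hsc.separable
    let τ₀ : IsLocalRing.ResidueField S →ₐ[IsLocalRing.ResidueField A]
      AlgebraicClosure (IsLocalRing.ResidueField A) := IsAlgClosed.lift
    refine Groth.Agent.Lib.Helper8.BranchCountGeom.card_minimalPrimes_eq_geom A S hfin hind
      (τ₀.toRingHom.comp (IsLocalRing.residue S)) ?_ ?_
    · intro s
      show τ₀ (IsLocalRing.residue S s) = 0 ↔ _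
      have hinj : Function.Injective τ₀ := τ₀.toRingHom.injective
      rw [map_eq_zero_iff τ₀ hinj, IsLocalRing.residue_eq_zero_iff]
    · refine RingHom.ext fun a => ?_
      exact τ₀.commutes (IsLocalRing.residue A a)
  · rw [show Brnch.numGeomBranches A = _ from if_neg hfin]
    haveI : Module.FaithfullyFlat A S :=
      Groth.Agent.Lib.Helper8.Hzl.strictHenselization_faithfullyFlat A S
    have := Groth.Agent.Lib.Helper8.BranchCount.infinite_minimalPrimes_of_faithfullyFlat A S hfin
    haveI : Infinite (minimalPrimes S) := Set.infinite_coe_iff.mpr this
    exact ENat.card_eq_top_of_infinite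

end Groth.Agent.S9238
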