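import Groth.Statements.S2135
import Mathlib
import Groth.Agent.Lib.Helper8.UnibranchMinPrime
import Groth.Agent.Lib.Helper8.Hzl.IntegralHens
import Groth.Agent.Lib.Helper8.Hzl.IndEtaleLike
import Groth.Agent.Lib.Helper8.Hzl.Nilradical

set_option autoImplicit false
universe u
open CAlg Groth.Agent.Lib.Helper8.UnibranchHens

namespace Groth.Agent.S2135

/-- A local ring `A` is geometrically unibranch if and only if a strict henselization of `A` has a
unique minimal prime ideal. -/
theorem result {A Ash : Type u} [CommRing A] [IsLocalRing A]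
    [CommRing Ash] [IsLocalRing Ash] [Algebra A Ash] [IsLocalHom (algebraMap A Ash)]
    [Hensel.IsStrictHenselization A Ash] :
    CAlg2.IsGeomUnibranch A ↔ CAlgX.HasUniqueMinimalPrime Ash := by
  haveI hh : HenselianLocalRing Ash := Hensel.IsStrictHenselization.henselian (R := A)
  haveI := Groth.Agent.Lib.Helper8.Hzl.strictHenselization_faithfullyFlat A Ash
  constructor
  · rintro ⟨⟨hdom, hloc⟩, hpi⟩
    haveI := hdom
    haveI := hloc
    haveI : Nontrivial (TensorProduct A (CAlg2.normRed A) Ash) :=
      Module.FaithfullyFlat.rTensor_nontrivial A Ash _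
    have hl : IsLocalRing (TensorProduct A (CAlg2.normRed A) Ash) :=
      isLocalRing_tensor_of_purelyInseparable A (CAlg2.normRed A) Ash
        (hpi (IsLocalRing.maximalIdeal _))
    exact hasUniqueMinimalPrime_of_isLocalRing_tensor A Ash
      (Groth.Agent.Lib.Helper8.Hzl.strictHenselization_indEtaleLike A Ash) hdom hl
  · intro hS
    obtain ⟨h2, h3, h4⟩ := unibranch_of_hasUniqueMinimalPrime A Ash
      (Groth.Agent.Lib.Helper8.Hzl.strictHenselization_nilradical A Ash) hS
    refine ⟨⟨h2, h3⟩, ?_⟩
    intro m' hm'
    haveI := h3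
    haveI := h4
    have hm : m' = IsLocalRing.maximalIdeal (CAlg2.normRed A) := IsLocalRing.eq_maximalIdeal hm'
    subst hm
    haveI : IsSepClosed (IsLocalRing.ResidueField Ash) :=
      (Hensel.IsStrictHenselization.isSepClosure (R := A) (S := Ash)).sep_closed
    exact pow_mem_range_of_isLocalRing_tensor A (CAlg2.normRed A) Ash


end Groth.Agent.S2135
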