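import Groth.Statements.S6380
import Mathlib
-- import your own Groth.Agent.* helpers here

set_option autoImplicit false
universe u
open scoped TensorProduct
open CAlg

namespace Groth.Agent.S6380

/-- Given a linear map f : P → M of R-modules with P finitely presented, an R-module Q and an element x
of P ⊗ Q in the kernel of f ⊗ id_Q, one can factor f as h ∘ f' through some finitely presented
module P' (with f' : P → P' and h : P' → M) so that already f' ⊗ id_Q sends x to zero. -/
theorem result (R : Type u) [CommRing R] {P M Q : Type u}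
    [AddCommGroup P] [Module R P] [Module.FinitePresentation R P] [AddCommGroup M] [Module R M]
    [AddCommGroup Q] [Module R Q] (f : P →ₗ[R] M) (x : P ⊗[R] Q) (hx : f.rTensor Q x = 0) :
    ∃ (P' : Type u) (_ : AddCommGroup P') (_ : Module R P') (_ : Module.FinitePresentation R P')
      (f' : P →ₗ[R] P') (h : P' →ₗ[R] M), f = h ∘ₗ f' ∧ f'.rTensor Q x = 0 := by
  classical
  -- Step 1: pass to a finitely generated submodule of `M` in which the vanishing already happens
  let M₁ : Submodule R M := LinearMap.range f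
  have hM₁ : M₁.FG := by
    have : M₁ = Submodule.map f ⊤ := (Submodule.map_top f).symm
    rw [this]
    exact (Module.Finite.fg_top).map f
  let f₁ : P →ₗ[R] M₁ := f.codRestrict M₁ (fun p => LinearMap.mem_range_self f p)
  have hf₁ : M₁.subtype ∘ₗ f₁ = f := LinearMap.ext fun p => rfl
  have h1 : (M₁.subtype.rTensor Q) (f₁.rTensor Q x) = 0 := by
    rw [← LinearMap.rTensor_comp_apply, hf₁]; exact hx
  obtain ⟨M₂, h12, hM₂, h2⟩ := TensorProduct.eq_zero_of_fg_of_subtype_eq_zero hM₁ h1
  let f₂ : P →ₗ[R] M₂ := (Submodule.inclusion h12) ∘ₗ f₁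
  have hf₂ : M₂.subtype ∘ₗ f₂ = f := LinearMap.ext fun p => rfl
  have hx₂ : f₂.rTensor Q x = 0 := by
    rw [LinearMap.rTensor_comp_apply]; exact h2
  -- Step 2: present `M₂`
  haveI : Module.Finite R M₂ := Module.Finite.iff_fg.mpr hM₂
  obtain ⟨n, π, hπ⟩ := Module.Finite.exists_fin' R M₂
  -- Step 3
  let ψ : P × (Fin n → R) →ₗ[R] M₂ := f₂.coprod π
  have hψ : Function.Surjective ψ := fun m => by
    obtain ⟨v, rfl⟩ := hπ m
    exact ⟨(0, v), by simp [ψ]⟩
  let L : Submodule R (P × (Fin n → R)) := LinearMap.ker ψ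
  have hex : Function.Exact L.subtype ψ := LinearMap.exact_subtype_ker_map ψ
  have hex' := rTensor_exact Q hex hψ
  let x' := (LinearMap.inl R P (Fin n → R)).rTensor Q x
  have hx' : ψ.rTensor Q x' = 0 := by
    show ψ.rTensor Q ((LinearMap.inl R P (Fin n → R)).rTensor Q x) = 0
    rw [← LinearMap.rTensor_comp_apply, show ψ ∘ₗ LinearMap.inl R P (Fin n → R) = f₂ from
      LinearMap.coprod_inl f₂ π]
    exact hx₂
  obtain ⟨z, hz⟩ := (hex' x').mp hx'
  obtain ⟨L₀, hL₀fg, hle, z₀, hz₀⟩ := Submodule.exists_fg_le_eq_rTensor_inclusion z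
  haveI : Module.FinitePresentation R ((P × (Fin n → R)) ⧸ L₀) :=
    Module.finitePresentation_of_surjective L₀.mkQ (Submodule.mkQ_surjective L₀)
      (by rw [Submodule.ker_mkQ]; exact hL₀fg)
  have key : ∀ w : L₀ ⊗[R] Q,
      L₀.mkQ.rTensor Q (L.subtype.rTensor Q ((L₀.inclusion hle).rTensor Q w)) = 0 := by
    intro w
    induction w using TensorProduct.induction_on with
    | zero => simp
    | tmul v q =>
      simp only [LinearMap.rTensor_tmul, Submodule.subtype_apply, Submodule.coe_inclusion,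
        Submodule.mkQ_apply]
      rw [(Submodule.Quotient.mk_eq_zero L₀).mpr v.2, TensorProduct.zero_tmul]
    | add a b ha hb => simp only [map_add, ha, hb, add_zero]
  refine ⟨(P × (Fin n → R)) ⧸ L₀, inferInstance, inferInstance, inferInstance,
    L₀.mkQ ∘ₗ LinearMap.inl R P (Fin n → R), M₂.subtype ∘ₗ L₀.liftQ ψ hle, ?_, ?_⟩
  · rw [← hf₂]
    ext p
    simp [ψ]
  · rw [LinearMap.rTensor_comp_apply]
    show L₀.mkQ.rTensor Q x' = 0
    rw [← hz, hz₀]
    exact key z₀

end Groth.Agent.S6380
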