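import Groth.Statements.S6581
import Mathlib
-- import your own Groth.Agent.* helpers here

set_option autoImplicit false
universe v u
open CategoryTheory CategoryTheory.Limits
open CohDer

namespace Groth.Agent.S6581


noncomputable section Helpers

open CategoryTheory CategoryTheory.Limits CategoryTheory.Pretriangulated

variable {D : Type u} [Category.{v} D] [Preadditive D] [HasZeroObject D] [HasShift D ℤ]
    [∀ n : ℤ, (shiftFunctor D n).Additive] [Pretriangulated D]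

lemma isIso_of_comp_isIso {X Y : D} (u : X ⟶ Y) (v : Y ⟶ X) [IsIso (u ≫ v)] [IsIso (v ≫ u)] :
    IsIso u := by
  have hρ : u ≫ (v ≫ inv (u ≫ v)) = 𝟙 _ := by rw [← Category.assoc, IsIso.hom_inv_id]
  have hl : (inv (v ≫ u) ≫ v) ≫ u = 𝟙 _ := by rw [Category.assoc, IsIso.inv_hom_id]
  have hlρ : inv (v ≫ u) ≫ v = v ≫ inv (u ≫ v) := by
    calc inv (v ≫ u) ≫ v = (inv (v ≫ u) ≫ v) ≫ u ≫ (v ≫ inv (u ≫ v)) := by
          rw [hρ, Category.comp_id]
      _ = v ≫ inv (u ≫ v) := by rw [← Category.assoc, hl, Category.id_comp]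
  exact ⟨v ≫ inv (u ≫ v), hρ, by rw [← hlρ]; exact hl⟩

lemma endo_isIso (T₀ : Triangle D) (hT₀ : T₀ ∈ distTriang D) (e : T₀.obj₃ ⟶ T₀.obj₃)
    (h₂ : T₀.mor₂ ≫ e = T₀.mor₂) (h₃ : e ≫ T₀.mor₃ = T₀.mor₃) : IsIso e := by
  let Φ : T₀ ⟶ T₀ :=
    { hom₁ := 𝟙 _
      hom₂ := 𝟙 _
      hom₃ := e
      comm₁ := by rw [Category.id_comp, Category.comp_id]
      comm₂ := by rw [Category.id_comp]; exact h₂
      comm₃ := by rw [CategoryTheory.Functor.map_id, Category.comp_id]; exact h₃.symm }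
  exact isIso₃_of_isIso₁₂ Φ hT₀ hT₀ (by dsimp [Φ]; infer_instance) (by dsimp [Φ]; infer_instance)

/-- a retract of a distinguished triangle is distinguished -/
lemma distinguished_of_retract (T B : Triangle D) (hB : B ∈ distTriang D) (i : T ⟶ B) (r : B ⟶ T)
    (hir : i ≫ r = 𝟙 T) : T ∈ distTriang D := by
  obtain ⟨C, g₀, h₀, hT₀⟩ := distinguished_cocone_triangle T.mor₁
  obtain ⟨c, hc₁, hc₂⟩ : ∃ c : C ⟶ B.obj₃, g₀ ≫ c = i.hom₂ ≫ B.mor₂ ∧
      h₀ ≫ (shiftFunctor D (1 : ℤ)).map i.hom₁ = c ≫ B.mor₃ :=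
    complete_distinguished_triangle_morphism _ _ hT₀ hB i.hom₁ i.hom₂ i.comm₁
  obtain ⟨d, hd₁, hd₂⟩ : ∃ d : B.obj₃ ⟶ C, B.mor₂ ≫ d = r.hom₂ ≫ g₀ ∧
      B.mor₃ ≫ (shiftFunctor D (1 : ℤ)).map r.hom₁ = d ≫ h₀ :=
    complete_distinguished_triangle_morphism _ _ hB hT₀ r.hom₁ r.hom₂ r.comm₁
  have h1 : i.hom₁ ≫ r.hom₁ = 𝟙 _ := congrArg TriangleMorphism.hom₁ hir
  have h2 : i.hom₂ ≫ r.hom₂ = 𝟙 _ := congrArg TriangleMorphism.hom₂ hir
  have h3 : i.hom₃ ≫ r.hom₃ = 𝟙 _ := congrArg TriangleMorphism.hom₃ hir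
  have h1s : (shiftFunctor D (1 : ℤ)).map i.hom₁ ≫ (shiftFunctor D (1 : ℤ)).map r.hom₁ = 𝟙 _ := by
    rw [← Functor.map_comp, h1, CategoryTheory.Functor.map_id]
  have u1' : g₀ ≫ c ≫ r.hom₃ = T.mor₂ := by
    rw [reassoc_of% hc₁, r.comm₂, reassoc_of% h2]
  have u2' : (c ≫ r.hom₃) ≫ T.mor₃ = h₀ := by
    rw [Category.assoc, ← r.comm₃, ← reassoc_of% hc₂, h1s, Category.comp_id]
  have v1' : T.mor₂ ≫ i.hom₃ ≫ d = g₀ := by
    rw [i.comm₂_assoc, hd₁, reassoc_of% h2]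
  have v2' : (i.hom₃ ≫ d) ≫ h₀ = T.mor₃ := by
    rw [Category.assoc, ← hd₂, ← i.comm₃_assoc, h1s, Category.comp_id]
  obtain ⟨uu, huu⟩ : ∃ uu : C ⟶ T.obj₃, uu = c ≫ r.hom₃ := ⟨_, rfl⟩
  obtain ⟨vv, hvv⟩ : ∃ vv : T.obj₃ ⟶ C, vv = i.hom₃ ≫ d := ⟨_, rfl⟩
  have u1 : g₀ ≫ uu = T.mor₂ := by rw [huu]; exact u1'
  have u2 : uu ≫ T.mor₃ = h₀ := by rw [huu]; exact u2'
  have v1 : T.mor₂ ≫ vv = g₀ := by rw [hvv]; exact v1'
  have v2 : vv ≫ h₀ = T.mor₃ := by rw [hvv]; exact v2'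
  haveI iso1 : IsIso (uu ≫ vv) :=
    endo_isIso (Triangle.mk T.mor₁ g₀ h₀) hT₀ (uu ≫ vv)
      (by show g₀ ≫ uu ≫ vv = g₀; rw [reassoc_of% u1, v1])
      (by show (uu ≫ vv) ≫ h₀ = h₀; rw [Category.assoc, v2, u2])
  obtain ⟨ww, hww⟩ : ∃ ww : T.obj₃ ⟶ T.obj₃, ww = vv ≫ uu := ⟨_, rfl⟩
  have w1 : T.mor₂ ≫ ww = T.mor₂ := by rw [hww, reassoc_of% v1, u1]
  have w2 : ww ≫ T.mor₃ = T.mor₃ := by rw [hww, Category.assoc, u2, v2]
  obtain ⟨ψ, hψ⟩ : ∃ ψ : B.obj₃ ⟶ B.obj₃,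
      ψ = r.hom₃ ≫ ww ≫ i.hom₃ + (𝟙 _ - r.hom₃ ≫ i.hom₃) := ⟨_, rfl⟩
  haveI iso2 : IsIso ψ := by
    refine endo_isIso B hB ψ ?_ ?_
    · rw [hψ, Preadditive.comp_add, Preadditive.comp_sub, Category.comp_id, r.comm₂_assoc,
        r.comm₂_assoc, reassoc_of% w1]
      abel
    · have hi3 : i.hom₃ ≫ B.mor₃ = T.mor₃ ≫ (shiftFunctor D (1 : ℤ)).map i.hom₁ := i.comm₃.symm
      simp only [hψ, Preadditive.add_comp, Preadditive.sub_comp, Category.id_comp, Category.assoc,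
        hi3, reassoc_of% w2]
      abel
  have e1 : i.hom₃ ≫ ψ = ww ≫ i.hom₃ := by
    simp only [hψ, Preadditive.comp_add, Preadditive.comp_sub, Category.comp_id, reassoc_of% h3]
    abel
  have e2 : ψ ≫ r.hom₃ = r.hom₃ ≫ ww := by
    simp only [hψ, Preadditive.add_comp, Preadditive.sub_comp, Category.id_comp, Category.assoc,
      h3, Category.comp_id]
    abel
  haveI iso3 : IsIso ww := by
    refine ⟨i.hom₃ ≫ inv ψ ≫ r.hom₃, ?_, ?_⟩
    · rw [← Category.assoc, ← e1, Category.assoc, IsIso.hom_inv_id_assoc, h3]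
    · rw [Category.assoc, Category.assoc, ← e2, IsIso.inv_hom_id_assoc, h3]
  haveI iso4 : IsIso (vv ≫ uu) := hww ▸ iso3
  haveI : IsIso uu := isIso_of_comp_isIso uu vv
  refine isomorphic_distinguished _ hT₀ _ (Triangle.isoMk (Triangle.mk T.mor₁ g₀ h₀) T
    (Iso.refl _) (Iso.refl _) (@asIso _ _ _ _ uu this) ?_ ?_ ?_).symm
  · show T.mor₁ ≫ 𝟙 _ = 𝟙 _ ≫ T.mor₁
    rw [Category.id_comp, Category.comp_id]
  · show g₀ ≫ uu = 𝟙 _ ≫ T.mor₂
    rw [Category.id_comp]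
    exact u1
  · show h₀ ≫ (shiftFunctor D (1 : ℤ)).map (𝟙 _) = uu ≫ T.mor₃
    rw [CategoryTheory.Functor.map_id, Category.comp_id]
    exact u2.symm

/-- third map of the direct sum triangle -/
abbrev bM (T T' : Triangle D) :
    T.obj₃ ⊞ T'.obj₃ ⟶ (shiftFunctor D (1 : ℤ)).obj (T.obj₁ ⊞ T'.obj₁) :=
  biprod.desc (T.mor₃ ≫ (shiftFunctor D (1 : ℤ)).map biprod.inl)
      (T'.mor₃ ≫ (shiftFunctor D (1 : ℤ)).map biprod.inr)

/-- the direct sum triangle -/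
abbrev bT (T T' : Triangle D) : Triangle D :=
  Triangle.mk (biprod.map T.mor₁ T'.mor₁) (biprod.map T.mor₂ T'.mor₂) (bM T T')

/-- left inclusion -/
def iL (T T' : Triangle D) : T ⟶ bT T T' where
  hom₁ := biprod.inl
  hom₂ := biprod.inl
  hom₃ := biprod.inl
  comm₁ := (biprod.inl_map _ _).symm
  comm₂ := (biprod.inl_map _ _).symm
  comm₃ := (biprod.inl_desc _ _).symm

/-- right inclusion -/
def iR (T T' : Triangle D) : T' ⟶ bT T T' where
  hom₁ := biprod.inr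
  hom₂ := biprod.inr
  hom₃ := biprod.inr
  comm₁ := (biprod.inr_map _ _).symm
  comm₂ := (biprod.inr_map _ _).symm
  comm₃ := (biprod.inr_desc _ _).symm

/-- left projection -/
def rL (T T' : Triangle D) : bT T T' ⟶ T where
  hom₁ := biprod.fst
  hom₂ := biprod.fst
  hom₃ := biprod.fst
  comm₁ := biprod.map_fst _ _
  comm₂ := biprod.map_fst _ _
  comm₃ := by
    show biprod.desc (T.mor₃ ≫ (shiftFunctor D (1 : ℤ)).map biprod.inl)
      (T'.mor₃ ≫ (shiftFunctor D (1 : ℤ)).map biprod.inr) ≫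
        (shiftFunctor D (1 : ℤ)).map biprod.fst = biprod.fst ≫ T.mor₃
    apply biprod.hom_ext'
    · rw [biprod.inl_desc_assoc, Category.assoc, ← Functor.map_comp, biprod.inl_fst,
        CategoryTheory.Functor.map_id, Category.comp_id, biprod.inl_fst_assoc]
    · rw [biprod.inr_desc_assoc, Category.assoc, ← Functor.map_comp, biprod.inr_fst,
        Functor.map_zero, comp_zero, biprod.inr_fst_assoc, zero_comp]

/-- right projection -/
def rR (T T' : Triangle D) : bT T T' ⟶ T' where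
  hom₁ := biprod.snd
  hom₂ := biprod.snd
  hom₃ := biprod.snd
  comm₁ := biprod.map_snd _ _
  comm₂ := biprod.map_snd _ _
  comm₃ := by
    show biprod.desc (T.mor₃ ≫ (shiftFunctor D (1 : ℤ)).map biprod.inl)
      (T'.mor₃ ≫ (shiftFunctor D (1 : ℤ)).map biprod.inr) ≫
        (shiftFunctor D (1 : ℤ)).map biprod.snd = biprod.snd ≫ T'.mor₃
    apply biprod.hom_ext'
    · rw [biprod.inl_desc_assoc, Category.assoc, ← Functor.map_comp, biprod.inl_snd,
        Functor.map_zero, comp_zero, biprod.inl_snd_assoc, zero_comp]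
    · rw [biprod.inr_desc_assoc, Category.assoc, ← Functor.map_comp, biprod.inr_snd,
        CategoryTheory.Functor.map_id, Category.comp_id, biprod.inr_snd_assoc]

lemma iL_rL (T T' : Triangle D) : iL T T' ≫ rL T T' = 𝟙 T := by
  ext
  · exact biprod.inl_fst
  · exact biprod.inl_fst
  · exact biprod.inl_fst

lemma iR_rR (T T' : Triangle D) : iR T T' ≫ rR T T' = 𝟙 T' := by
  ext
  · exact biprod.inr_snd
  · exact biprod.inr_snd
  · exact biprod.inr_snd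

lemma bT_distinguished (T T' : Triangle D) (hT : T ∈ distTriang D) (hT' : T' ∈ distTriang D) :
    bT T T' ∈ distTriang D := by
  obtain ⟨W, γ, δ, hB₀⟩ := distinguished_cocone_triangle (biprod.map T.mor₁ T'.mor₁)
  obtain ⟨a, ha₁, ha₂⟩ : ∃ a : T.obj₃ ⟶ W, T.mor₂ ≫ a = biprod.inl ≫ γ ∧
      T.mor₃ ≫ (shiftFunctor D (1 : ℤ)).map biprod.inl = a ≫ δ :=
    complete_distinguished_triangle_morphism _ _ hT hB₀ biprod.inl biprod.inl
      (biprod.inl_map _ _).symm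
  obtain ⟨a', ha'₁, ha'₂⟩ : ∃ a' : T'.obj₃ ⟶ W, T'.mor₂ ≫ a' = biprod.inr ≫ γ ∧
      T'.mor₃ ≫ (shiftFunctor D (1 : ℤ)).map biprod.inr = a' ≫ δ :=
    complete_distinguished_triangle_morphism _ _ hT' hB₀ biprod.inr biprod.inr
      (biprod.inr_map _ _).symm
  obtain ⟨θ, hθ⟩ : ∃ θ : T.obj₃ ⊞ T'.obj₃ ⟶ W, θ = biprod.desc a a' := ⟨_, rfl⟩
  have hγ : biprod.map T.mor₂ T'.mor₂ ≫ θ = γ := by
    rw [hθ]
    apply biprod.hom_ext'
    · rw [biprod.inl_map_assoc, biprod.inl_desc, ha₁]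
    · rw [biprod.inr_map_assoc, biprod.inr_desc, ha'₁]
  have hδ : θ ≫ δ = bM T T' := by
    rw [hθ]
    apply biprod.hom_ext'
    · rw [biprod.inl_desc_assoc, ← ha₂]
      exact (biprod.inl_desc _ _).symm
    · rw [biprod.inr_desc_assoc, ← ha'₂]
      exact (biprod.inr_desc _ _).symm
  have hrL : bM T T' ≫ (shiftFunctor D (1 : ℤ)).map biprod.fst = biprod.fst ≫ T.mor₃ :=
    (rL T T').comm₃
  have hrR : bM T T' ≫ (shiftFunctor D (1 : ℤ)).map biprod.snd = biprod.snd ≫ T'.mor₃ :=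
    (rR T T').comm₃
  have h12 : biprod.map T.mor₁ T'.mor₁ ≫ biprod.map T.mor₂ T'.mor₂ = 0 := by
    apply biprod.hom_ext'
    · rw [biprod.inl_map_assoc, biprod.inl_map, ← Category.assoc,
        comp_distTriang_mor_zero₁₂ _ hT, zero_comp, comp_zero]
    · rw [biprod.inr_map_assoc, biprod.inr_map, ← Category.assoc,
        comp_distTriang_mor_zero₁₂ _ hT', zero_comp, comp_zero]
  have hz31 : δ ≫ (shiftFunctor D (1 : ℤ)).map (biprod.map T.mor₁ T'.mor₁) = 0 :=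
    comp_distTriang_mor_zero₃₁ _ hB₀
  suffices hiso : IsIso θ by
    refine isomorphic_distinguished _ hB₀ _ (Triangle.isoMk (bT T T')
      (Triangle.mk (biprod.map T.mor₁ T'.mor₁) γ δ) (Iso.refl _) (Iso.refl _)
      (@asIso _ _ _ _ θ hiso) ?_ ?_ ?_)
    · show biprod.map T.mor₁ T'.mor₁ ≫ 𝟙 _ = 𝟙 _ ≫ biprod.map T.mor₁ T'.mor₁
      rw [Category.id_comp, Category.comp_id]
    · show biprod.map T.mor₂ T'.mor₂ ≫ θ = 𝟙 _ ≫ γ
      rw [Category.id_comp]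
      exact hγ
    · show bM T T' ≫ (shiftFunctor D (1 : ℤ)).map (𝟙 _) = θ ≫ δ
      rw [CategoryTheory.Functor.map_id, Category.comp_id]
      exact hδ.symm
  refine isIso_of_yoneda_map_bijective _ (fun A => ⟨?_, ?_⟩)
  · suffices Mono θ by
      intro x₁ x₂ hx
      exact (cancel_mono θ).1 hx
    rw [Preadditive.mono_iff_cancel_zero]
    intro A x hx
    have hxδ : x ≫ bM T T' = 0 := by rw [← hδ, ← Category.assoc, hx, zero_comp]
    have e1 : (x ≫ biprod.fst) ≫ T.mor₃ = 0 := by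
      rw [Category.assoc, ← hrL, ← Category.assoc, hxδ, zero_comp]
    have e2 : (x ≫ biprod.snd) ≫ T'.mor₃ = 0 := by
      rw [Category.assoc, ← hrR, ← Category.assoc, hxδ, zero_comp]
    obtain ⟨y₁, hy₁⟩ := T.coyoneda_exact₃ hT _ e1
    obtain ⟨y₂, hy₂⟩ := T'.coyoneda_exact₃ hT' _ e2
    have hx' : x = biprod.lift y₁ y₂ ≫ biprod.map T.mor₂ T'.mor₂ := by
      apply biprod.hom_ext
      · rw [Category.assoc, biprod.map_fst, biprod.lift_fst_assoc, hy₁]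
      · rw [Category.assoc, biprod.map_snd, biprod.lift_snd_assoc, hy₂]
    have h0 : biprod.lift y₁ y₂ ≫ γ = 0 := by
      rw [← hγ, ← Category.assoc, ← hx', hx]
    obtain ⟨z, hz⟩ : ∃ z : A ⟶ T.obj₁ ⊞ T'.obj₁,
        biprod.lift y₁ y₂ = z ≫ biprod.map T.mor₁ T'.mor₁ :=
      (Triangle.mk (biprod.map T.mor₁ T'.mor₁) γ δ).coyoneda_exact₂ hB₀ (biprod.lift y₁ y₂) h0
    rw [hx', hz, Category.assoc, h12, comp_zero]
  · intro c
    have f1 : (c ≫ δ ≫ (shiftFunctor D (1 : ℤ)).map biprod.fst) ≫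
        (shiftFunctor D (1 : ℤ)).map T.mor₁ = 0 := by
      have hh : (shiftFunctor D (1 : ℤ)).map (biprod.fst : T.obj₁ ⊞ T'.obj₁ ⟶ T.obj₁) ≫
          (shiftFunctor D (1 : ℤ)).map T.mor₁ =
          (shiftFunctor D (1 : ℤ)).map (biprod.map T.mor₁ T'.mor₁) ≫
            (shiftFunctor D (1 : ℤ)).map biprod.fst := by
        rw [← Functor.map_comp, ← Functor.map_comp, biprod.map_fst]
      rw [Category.assoc, Category.assoc, hh, reassoc_of% hz31, zero_comp, comp_zero]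
    have f2 : (c ≫ δ ≫ (shiftFunctor D (1 : ℤ)).map biprod.snd) ≫
        (shiftFunctor D (1 : ℤ)).map T'.mor₁ = 0 := by
      have hh : (shiftFunctor D (1 : ℤ)).map (biprod.snd : T.obj₁ ⊞ T'.obj₁ ⟶ T'.obj₁) ≫
          (shiftFunctor D (1 : ℤ)).map T'.mor₁ =
          (shiftFunctor D (1 : ℤ)).map (biprod.map T.mor₁ T'.mor₁) ≫
            (shiftFunctor D (1 : ℤ)).map biprod.snd := by
        rw [← Functor.map_comp, ← Functor.map_comp, biprod.map_snd]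
      rw [Category.assoc, Category.assoc, hh, reassoc_of% hz31, zero_comp, comp_zero]
    obtain ⟨x₁, hx₁⟩ := T.coyoneda_exact₁ hT _ f1
    obtain ⟨x₂, hx₂⟩ := T'.coyoneda_exact₁ hT' _ f2
    have key : (c - biprod.lift x₁ x₂ ≫ θ) ≫ δ = 0 := by
      rw [Preadditive.sub_comp, Category.assoc, hδ, sub_eq_zero]
      show c ≫ δ = biprod.lift x₁ x₂ ≫ biprod.desc
        (T.mor₃ ≫ (shiftFunctor D (1 : ℤ)).map biprod.inl)
        (T'.mor₃ ≫ (shiftFunctor D (1 : ℤ)).map biprod.inr)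
      rw [biprod.lift_desc, ← Category.assoc, ← hx₁, ← Category.assoc x₂, ← hx₂]
      simp only [Category.assoc, ← Functor.map_comp, ← Preadditive.comp_add,
        ← CategoryTheory.Functor.map_add, biprod.total, CategoryTheory.Functor.map_id,
        Category.comp_id]
    obtain ⟨y, hy⟩ : ∃ y : A ⟶ T.obj₂ ⊞ T'.obj₂, c - biprod.lift x₁ x₂ ≫ θ = y ≫ γ :=
      (Triangle.mk (biprod.map T.mor₁ T'.mor₁) γ δ).coyoneda_exact₃ hB₀ _ key
    refine ⟨biprod.lift x₁ x₂ + y ≫ biprod.map T.mor₂ T'.mor₂, ?_⟩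
    show (biprod.lift x₁ x₂ + y ≫ biprod.map T.mor₂ T'.mor₂) ≫ θ = c
    rw [Preadditive.add_comp, Category.assoc, hγ, ← hy]
    abel

end Helpers

open CategoryTheory.Pretriangulated in
/-- Let T = (X, Y, Z, f, g, h) and T' = (X', Y', Z', f', g', h') be triangles in a pretriangulated
category. The direct sum triangle (X ⊞ X', Y ⊞ Y', Z ⊞ Z', f ⊕ f', g ⊕ g', h ⊕ h') (whose third map
Z ⊞ Z' ⟶ (X ⊞ X')⟦1⟧ has components h ≫ inl⟦1⟧ and h' ≫ inr⟦1⟧) is distinguished if and only if T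
and T' are both distinguished. -/
theorem result {D : Type u} [Category.{v} D] [Preadditive D] [HasZeroObject D] [HasShift D ℤ]
    [∀ n : ℤ, (shiftFunctor D n).Additive] [Pretriangulated D]
    (T T' : Triangle D) :
    Triangle.mk (biprod.map T.mor₁ T'.mor₁) (biprod.map T.mor₂ T'.mor₂)
        (biprod.desc (T.mor₃ ≫ (shiftFunctor D (1 : ℤ)).map biprod.inl) (T'.mor₃ ≫ (shiftFunctor D (1 : ℤ)).map biprod.inr)) ∈ distinguishedTriangles ↔
      (T ∈ distinguishedTriangles ∧ T' ∈ distinguishedTriangles) := by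
  constructor
  · intro hB
    exact ⟨distinguished_of_retract T _ hB (iL T T') (rL T T') (iL_rL T T'),
      distinguished_of_retract T' _ hB (iR T T') (rR T T') (iR_rR T T')⟩
  · rintro ⟨hT, hT'⟩
    exact bT_distinguished T T' hT hT'

end Groth.Agent.S6581
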