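import Groth.Statements.S1124
import Groth.Agent.S0079
import Mathlib.AlgebraicGeometry.Morphisms.FlatDescent
import Mathlib.AlgebraicGeometry.Morphisms.SchemeTheoreticallyDominant
import Mathlib.AlgebraicGeometry.Morphisms.Immersion
-- import your own Groth.Agent.* helpers here

set_option autoImplicit false
open CategoryTheory CategoryTheory.Limits AlgebraicGeometry Opposite
universe u
open Desc

namespace Groth.Agent.S1124


theorem toImage_std {X Y : Scheme.{u}} (f : X ⟶ Y) [QuasiCompact f] :
    IsSchemeTheoreticallyDominant f.toImage := by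
  rw [isSchemeTheoreticallyDominant_iff]
  refine Scheme.IdealSheafData.ext_of_iSup_eq_top (ι := Y.affineOpens)
    (fun U => ⟨f.imageι ⁻¹ᵁ U.1, U.2.preimage f.imageι⟩) ?_ ?_
  · have := congrArg (fun V => f.imageι ⁻¹ᵁ V) (iSup_affineOpens_eq_top Y)
    simp only [Scheme.Hom.preimage_iSup, Scheme.Hom.preimage_top] at this
    exact this
  · intro U
    rw [Scheme.Hom.ker_apply]
    simp only [Scheme.IdealSheafData.ideal_bot, Pi.bot_apply]
    exact (RingHom.injective_iff_ker_eq_bot _).1 (f.toImage_app_injective U)

/-- If the base change of a morphism of schemes along a quasi-compact, flat, surjective morphism is a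
quasi-compact immersion, then the morphism itself is a quasi-compact immersion. (Stated for a single
quasi-compact flat surjective base change; together with Zariski-locality on the target this is fpqc
descent for quasi-compact immersions.) -/
theorem result :
    MorphismProperty.DescendsAlong (@IsImmersion ⊓ @QuasiCompact : MorphismProperty Scheme.{u})
      (@Surjective ⊓ @Flat ⊓ @QuasiCompact : MorphismProperty Scheme.{u}) := by
  constructor
  intro A X Y Z fst snd f g hpb hf hfst
  obtain ⟨⟨hf1, hf2⟩, hf3⟩ := hf
  have hf1' : Surjective f := hf1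
  have hf2' : Flat f := hf2
  have hf3' : QuasiCompact f := hf3
  obtain ⟨hfst1, hfst2⟩ := hfst
  have hfst1' : IsImmersion fst := hfst1
  have hfst2' : QuasiCompact fst := hfst2
  have hqc := Groth.Agent.S0079.result.{u}
  have hg : QuasiCompact g :=
    MorphismProperty.of_isPullback_of_descendsAlong (P := @QuasiCompact)
      (Q := (@Surjective ⊓ @Flat ⊓ @QuasiCompact : MorphismProperty Scheme.{u}))
      hpb ⟨⟨hf1, hf2⟩, hf3⟩ hfst2
  refine ⟨?_, hg⟩
  -- the scheme-theoretic image of g
  have hstd : IsSchemeTheoreticallyDominant g.toImage := toImage_std g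
  let w₁ := pullback.fst f g.imageι
  let w₂ := pullback.snd f g.imageι
  let j : A ⟶ pullback f g.imageι := pullback.lift fst (snd ≫ g.toImage)
    (by rw [Category.assoc, g.toImage_imageι, hpb.w])
  have hj1 : j ≫ w₁ = fst := pullback.lift_fst _ _ _
  have hj2 : j ≫ w₂ = snd ≫ g.toImage := pullback.lift_snd _ _ _
  -- the top square is a pullback
  have hbot : IsPullback w₁ w₂ f g.imageι := IsPullback.of_hasPullback f g.imageι
  have htop : IsPullback snd j g.toImage w₂ := by
    refine IsPullback.of_bot ?_ hj2.symm hbot.flip
    rw [hj1, g.toImage_imageι]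
    exact hpb.flip
  -- j is scheme theoretically dominant, a quasi-compact immersion, hence an open immersion
  have hqct : QuasiCompact g.toImage := inferInstance
  have hw₂flat : Flat w₂ := inferInstance
  have hjstd : IsSchemeTheoreticallyDominant j := IsSchemeTheoreticallyDominant.of_isPullback htop
  have hjimm : IsImmersion j := by
    have : IsImmersion (j ≫ w₁) := by rw [hj1]; exact hfst1'
    exact IsImmersion.of_comp j w₁
  have hjqc : QuasiCompact j := by
    have : QuasiCompact (j ≫ w₁) := by rw [hj1]; exact hfst2'
    exact QuasiCompact.of_comp j w₁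
  have hjopen : IsOpenImmersion j := by
    have h1 : IsOpenImmersion j.toImage := inferInstance
    have h2 : IsIso j.imageι := by
      show IsIso j.ker.subschemeι
      rw [Scheme.isIso_subschemeι_iff_eq_bot]
      exact hjstd.ker_eq_bot
    rw [← j.toImage_imageι]
    infer_instance
  -- descend
  have hw₂ : (@Surjective ⊓ @Flat ⊓ @QuasiCompact : MorphismProperty Scheme.{u}) w₂ :=
    ⟨⟨inferInstance, inferInstance⟩, inferInstance⟩
  have htoImage : IsOpenImmersion g.toImage :=
    MorphismProperty.of_isPullback_of_descendsAlong (P := @IsOpenImmersion)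
      (Q := (@Surjective ⊓ @Flat ⊓ @QuasiCompact : MorphismProperty Scheme.{u}))
      htop.flip hw₂ hjopen
  show IsImmersion g
  rw [← g.toImage_imageι]
  infer_instance

end Groth.Agent.S1124
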