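import Groth.Statements.S10538
import Groth.Agent.Lib.Helper16.QAffLocal
import Groth.Agent.Lib.Helper16.AffRep
import Groth.Agent.S1124
open Groth.Agent.Lib.Helper16

set_option autoImplicit false
universe u
open CategoryTheory CategoryTheory.Limits AlgebraicGeometry
open AlgSp

namespace Groth.Agent.S10538

/-- The property of morphisms of algebraic spaces over S given by f is a quasi-compact immersion
(representable, every base change to a scheme an immersion of schemes that is quasi-compact) is fpqc
local on the base: for an fpqc covering of an algebraic space Y by algebraic spaces Y_i, a morphism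
f : X ⟶ Y of algebraic spaces and cartesian squares X_i = Y_i ×_Y X, f has the property if and only
if every X_i ⟶ Y_i has it. -/
theorem result (S : Scheme.{u}) :
    AlgSp.IsLocalOnBase (AlgSp.IsFpqcCover (S := S)) (AlgSp.RepWith (@IsImmersion ⊓ @QuasiCompact)) := by
  have hdesc := Groth.Agent.S1124.result.{u}
  have hqa : ∀ {F G : AlgSp.Sp S} (k : F ⟶ G), AlgSp.RepWith (@IsImmersion ⊓ @QuasiCompact) k →
      AlgSp.IsQuasiAffineMor k := by
    intro F G k hk Z hZ z
    obtain ⟨W, i, φ, sqW⟩ := hk.rep z
    obtain ⟨hi1, hi2⟩ : IsImmersion i.left ∧ QuasiCompact i.left := hk.property _ _ _ sqW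
    have : IsAffine Z.left := hZ
    have : CompactSpace ↥W.left := QuasiCompact.compactSpace_of_compactSpace i.left
    exact ⟨W, i, φ, sqW, Scheme.IsQuasiAffine.of_isImmersion i.left⟩
  intro ι Y Yi g hY hYi hcov X f hX Xi p q hXi sq
  constructor
  · intro hf i
    exact MorphismProperty.of_isPullback (sq i) hf
  · intro hp
    have hfqa : AlgSp.IsQuasiAffineMor f :=
      isQuasiAffineMor_of_fpqcRefines hY Yi g hcov.2 hX f Xi p q sq (fun i => hqa _ (hp i))
    have hrep : AlgSp.Representable f := representable_of_affine_local hX hY f (fun Z hZ g => by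
      obtain ⟨W, i, fst', sq', -⟩ := hfqa hZ g
      exact ⟨W, i, fst', sq'⟩)
    exact repWith_of_fpqcRefines Yi g hcov.2 f hrep Xi p q sq hp

end Groth.Agent.S10538
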