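import Groth.Statements.S15349
import Mathlib
import Groth.Agent.Lib.Helper17.MonoDvr

set_option autoImplicit false
universe u
open CategoryTheory CategoryTheory.Limits AlgebraicGeometry
open Mor

namespace Groth.Agent.S15349

/-- Let X be a locally Noetherian scheme and f : Y ⟶ X a monomorphism locally of finite presentation
such that, for every integral domain A and every morphism s : Spec A ⟶ X for which the points of a
dense subset of Spec A lift to Y (the residue field of each such point maps to Y over s), some
nonempty open subscheme of Spec A maps to Y over s. Then f is quasi-compact. (The published remark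
is for a representable morphism of algebraic stacks; this row is the case of schemes.) -/
theorem result {X Y : Scheme.{u}} [IsLocallyNoetherian X]
    (f : Y ⟶ X) [LocallyOfFinitePresentation f] [Mono f]
    (hc : ∀ (A : Type u) [CommRing A] [IsDomain A] (s : Spec (CommRingCat.of A) ⟶ X) (D : Set ↥(Spec (CommRingCat.of A))),
        Dense D →
        (∀ p ∈ D, ∃ l : Spec ((Spec (CommRingCat.of A)).residueField p) ⟶ Y,
            l ≫ f = (Spec (CommRingCat.of A)).fromSpecResidueField p ≫ s) →
          ∃ U : (Spec (CommRingCat.of A)).Opens, (U : Set ↥(Spec (CommRingCat.of A))).Nonempty ∧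
            ∃ l : (U : Scheme.{u}) ⟶ Y, l ≫ f = U.ι ≫ s) :
    QuasiCompact f := by
  classical
  have hfinj : Function.Injective f := f.injective
  rw [quasiCompact_iff_forall_isAffineOpen]
  intro W hW
  haveI : IsNoetherianRing Γ(X, W) := IsLocallyNoetherian.component_noetherian ⟨W, hW⟩
  haveI : TopologicalSpace.NoetherianSpace ↥(Spec Γ(X, W)) :=
    inferInstanceAs (TopologicalSpace.NoetherianSpace (PrimeSpectrum Γ(X, W)))
  -- the main claim, by Noetherian induction on closed subsets of `Spec Γ(X, W)`
  have main : ∀ Z : TopologicalSpace.Closeds ↥(Spec Γ(X, W)),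
      IsCompact (f ⁻¹' (hW.fromSpec '' (Z : Set ↥(Spec Γ(X, W))))) := by
    intro Z₀
    refine wellFounded_lt.induction (C := fun Z : TopologicalSpace.Closeds ↥(Spec Γ(X, W)) =>
      IsCompact (f ⁻¹' (hW.fromSpec '' (Z : Set ↥(Spec Γ(X, W)))))) Z₀ ?_
    intro Z IH
    by_cases hZe : (Z : Set ↥(Spec Γ(X, W))) = ∅
    · rw [hZe, Set.image_empty, Set.preimage_empty]
      exact isCompact_empty
    by_cases hZirr : IsPreirreducible (Z : Set ↥(Spec Γ(X, W)))
    · -- irreducible case
      have hZI : IsIrreducible (Z : Set ↥(Spec Γ(X, W))) :=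
        ⟨Set.nonempty_iff_ne_empty.mpr hZe, hZirr⟩
      let Zs : Set (PrimeSpectrum Γ(X, W)) := (Z : Set ↥(Spec Γ(X, W)))
      have hZscl : IsClosed Zs := Z.isClosed
      let 𝔭 : Ideal Γ(X, W) := PrimeSpectrum.vanishingIdeal Zs
      haveI h𝔭 : 𝔭.IsPrime := PrimeSpectrum.isIrreducible_iff_vanishingIdeal_isPrime.mp hZI
      have hZ𝔭 : Zs = PrimeSpectrum.zeroLocus (𝔭 : Set Γ(X, W)) := by
        rw [PrimeSpectrum.zeroLocus_vanishingIdeal_eq_closure]
        exact (hZscl.closure_eq).symm
      let A := Γ(X, W) ⧸ 𝔭
      let q : Spec (.of A) ⟶ Spec Γ(X, W) := Spec.map (CommRingCat.ofHom (Ideal.Quotient.mk 𝔭))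
      have hqrange : Set.range q = (Z : Set ↥(Spec Γ(X, W))) := by
        have h1 : Set.range q = PrimeSpectrum.zeroLocus (RingHom.ker (Ideal.Quotient.mk 𝔭)) :=
          _root_.range_comap_of_surjective _ _ Ideal.Quotient.mk_surjective
        rw [h1, Ideal.mk_ker]
        exact hZ𝔭.symm
      have hqinj : Function.Injective q :=
        PrimeSpectrum.comap_injective_of_surjective _ Ideal.Quotient.mk_surjective
      have hqclosed : IsClosedMap q :=
        (PrimeSpectrum.isClosedEmbedding_comap_of_surjective _ _
          Ideal.Quotient.mk_surjective).isClosedMap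
      obtain ⟨s, hs⟩ : ∃ s : Spec (.of A) ⟶ X, s = q ≫ hW.fromSpec := ⟨_, rfl⟩
      haveI : TopologicalSpace.NoetherianSpace ↥(Spec (.of A)) :=
        inferInstanceAs (TopologicalSpace.NoetherianSpace (PrimeSpectrum A))
      -- a nonempty open with compact preimage
      obtain ⟨U, hUne, hUc⟩ : ∃ U : (Spec (.of A)).Opens, (U : Set ↥(Spec (.of A))).Nonempty ∧
          IsCompact (f ⁻¹' (s '' (U : Set ↥(Spec (.of A))))) := by
        let D : Set ↥(Spec (.of A)) := {p | s p ∈ Set.range f}
        by_cases hD : Dense D
        · obtain ⟨U, hUne, l, hl⟩ := hc A s D hD (by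
            rintro p ⟨y, hy⟩
            have e : ((Spec (.of A)).fromSpecResidueField p ≫ s)
                (IsLocalRing.closedPoint ((Spec (.of A)).residueField p)) = s p := by
              obtain ⟨z, hz⟩ : ∃ z : Spec ((Spec (.of A)).residueField p),
                z = IsLocalRing.closedPoint ((Spec (.of A)).residueField p) := ⟨_, rfl⟩
              rw [← hz, Scheme.Hom.comp_apply, Scheme.fromSpecResidueField_apply]
            exact Groth.Agent.Lib.Helper17.MonoDvr.mono_section
              (L := (Spec (.of A)).residueField p) f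
              ((Spec (.of A)).fromSpecResidueField p ≫ s) y (hy.trans e.symm))
          refine ⟨U, hUne, ?_⟩
          have hrange : f ⁻¹' (s '' (U : Set ↥(Spec (.of A)))) = Set.range l := by
            ext y
            constructor
            · rintro ⟨u, hu, hfu⟩
              refine ⟨⟨u, hu⟩, hfinj ?_⟩
              have : f (l ⟨u, hu⟩) = (l ≫ f) ⟨u, hu⟩ := rfl
              rw [this, hl]
              exact hfu
            · rintro ⟨u, rfl⟩
              refine ⟨u.1, u.2, ?_⟩
              have : f (l u) = (l ≫ f) u := rfl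
              rw [this, hl]
              rfl
          rw [hrange]
          have hcs : CompactSpace ↥(U : Scheme.{u}) :=
            isCompact_iff_compactSpace.mp
              (TopologicalSpace.NoetherianSpace.isCompact (U : Set ↥(Spec (.of A))))
          exact isCompact_range l.continuous
        · have hne : (closure D)ᶜ.Nonempty := by
            rw [Set.nonempty_compl]
            exact fun h => hD (dense_iff_closure_eq.mpr h)
          refine ⟨⟨(closure D)ᶜ, isClosed_closure.isOpen_compl⟩, hne, ?_⟩
          have : f ⁻¹' (s '' ((closure D)ᶜ : Set ↥(Spec (.of A)))) = ∅ := by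
            rw [Set.eq_empty_iff_forall_notMem]
            rintro y ⟨u, hu, hfu⟩
            exact hu (subset_closure ⟨y, hfu.symm⟩)
          change IsCompact (f ⁻¹' (s '' ((closure D)ᶜ : Set ↥(Spec (.of A)))))
          rw [this]
          exact isCompact_empty
      -- the complement
      let Z' : TopologicalSpace.Closeds ↥(Spec Γ(X, W)) :=
        ⟨q '' ((U : Set ↥(Spec (.of A)))ᶜ), hqclosed _ U.isOpen.isClosed_compl⟩
      have hZ'le : (Z' : Set ↥(Spec Γ(X, W))) ⊆ Z := by
        rw [← hqrange]
        exact Set.image_subset_range _ _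
      have hZ'lt : Z' < Z := by
        refine lt_of_le_of_ne hZ'le ?_
        intro heq
        obtain ⟨u, hu⟩ := hUne
        have h1 : q u ∈ (Z : Set ↥(Spec Γ(X, W))) := by rw [← hqrange]; exact ⟨u, rfl⟩
        rw [← heq] at h1
        obtain ⟨u', hu', hqu⟩ := h1
        exact hu' (hqinj hqu ▸ hu)
      have hunion : f ⁻¹' (hW.fromSpec '' (Z : Set ↥(Spec Γ(X, W)))) =
          f ⁻¹' (s '' (U : Set ↥(Spec (.of A)))) ∪
          f ⁻¹' (hW.fromSpec '' (Z' : Set ↥(Spec Γ(X, W)))) := by
        rw [← Set.preimage_union, ← hqrange]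
        congr 1
        ext x
        constructor
        · rintro ⟨_, ⟨u, rfl⟩, rfl⟩
          by_cases hu : u ∈ (U : Set ↥(Spec (.of A)))
          · left
            exact ⟨u, hu, by rw [hs]; rfl⟩
          · right
            exact ⟨q u, ⟨u, hu, rfl⟩, rfl⟩
        · rintro (⟨u, -, rfl⟩ | ⟨_, ⟨u, -, rfl⟩, rfl⟩)
          · exact ⟨q u, ⟨u, rfl⟩, by rw [hs]; rfl⟩
          · exact ⟨q u, ⟨u, rfl⟩, rfl⟩
      rw [hunion]
      exact hUc.union (IH Z' hZ'lt)
    · -- reducible case
      rw [isPreirreducible_iff_isClosed_union_isClosed] at hZirr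
      push Not at hZirr
      obtain ⟨z₁, z₂, hz₁, hz₂, hsub, hn₁, hn₂⟩ := hZirr
      let Z₁ : TopologicalSpace.Closeds ↥(Spec Γ(X, W)) := ⟨Z ∩ z₁, Z.isClosed.inter hz₁⟩
      let Z₂ : TopologicalSpace.Closeds ↥(Spec Γ(X, W)) := ⟨Z ∩ z₂, Z.isClosed.inter hz₂⟩
      have h1 : Z₁ < Z := by
        refine lt_of_le_of_ne Set.inter_subset_left ?_
        intro heq
        apply hn₁
        intro x hx
        have : x ∈ (Z₁ : Set ↥(Spec Γ(X, W))) := by rw [heq]; exact hx
        exact this.2
      have h2 : Z₂ < Z := by
        refine lt_of_le_of_ne Set.inter_subset_left ?_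
        intro heq
        apply hn₂
        intro x hx
        have : x ∈ (Z₂ : Set ↥(Spec Γ(X, W))) := by rw [heq]; exact hx
        exact this.2
      have hunion : (Z : Set ↥(Spec Γ(X, W))) = (Z₁ : Set ↥(Spec Γ(X, W))) ∪ Z₂ := by
        ext x
        constructor
        · intro hx
          rcases hsub hx with h | h
          · exact Or.inl ⟨hx, h⟩
          · exact Or.inr ⟨hx, h⟩
        · rintro (h | h)
          · exact h.1
          · exact h.1
      rw [hunion, Set.image_union, Set.preimage_union]
      exact (IH Z₁ h1).union (IH Z₂ h2)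
  have := main ⊤
  have e : hW.fromSpec '' ((⊤ : TopologicalSpace.Closeds ↥(Spec Γ(X, W))) : Set ↥(Spec Γ(X, W))) =
      (W : Set X) := by
    rw [TopologicalSpace.Closeds.coe_top, Set.image_univ, hW.range_fromSpec]
  rw [e] at this
  exact this

end Groth.Agent.S15349
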