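import Groth.Statements.S0590
-- import your own Groth.Agent.* helpers here
import Mathlib
import Groth.Agent.Lib.Helper12.ApproxMain

set_option autoImplicit false
universe u
open CategoryTheory AlgebraicGeometry
open Lim

namespace Groth.Agent.S0590
open Limits TopologicalSpace Opposite Groth.Agent.Lib.Helper12.ApproxMain

set_option backward.isDefEq.respectTransparency false
set_option linter.style.haveILetI false

/-- Every quasi-compact quasi-separated scheme is the limit of an inverse system, indexed by a nonempty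
directed preorder, of quasi-compact schemes locally of finite type over the integers with affine
transition morphisms. -/
theorem result (S : Scheme.{u}) [CompactSpace S] [QuasiSeparatedSpace S] :
    ∃ (I : Type u) (_ : Preorder I) (_ : IsDirected I (fun a b => a ≤ b)) (_ : Nonempty I)
      (D : Iᵒᵖ ⥤ Scheme.{u}) (c : Limits.Cone D) (_ : Limits.IsLimit c),
      (∀ (i j : Iᵒᵖ) (f : i ⟶ j), IsAffineHom (D.map f)) ∧
      (∀ i, CompactSpace (D.obj i) ∧
        LocallyOfFiniteType (Limits.IsTerminal.from specULiftZIsTerminal (D.obj i))) ∧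
      Nonempty (c.pt ≅ S) := by
  classical
  let E : Scheme.{u} := ((⊥ : S.Opens) : Scheme.{u})
  haveI hE : IsEmpty E := ⟨fun x => (show x.1 ∈ (∅ : Set S) from x.2).elim⟩
  let DV : (PUnit.{u + 1})ᵒᵖ ⥤ Scheme.{u} := (Functor.const _).obj E
  haveI : ∀ {i i' : (PUnit.{u + 1})ᵒᵖ} (m : i ⟶ i'), IsAffineHom (DV.map m) := fun m =>
    inferInstanceAs (IsAffineHom (𝟙 E))
  have hft : ∀ i, CompactSpace (DV.obj i) ∧
      LocallyOfFiniteType (specULiftZIsTerminal.from (DV.obj i)) := fun i => by
    haveI : IsEmpty (DV.obj i) := hE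
    exact ⟨inferInstance, inferInstance⟩
  let πV : (Functor.const (PUnit.{u + 1})ᵒᵖ).obj E ⟶ DV := 𝟙 _
  have hcV : IsLimit ({ pt := E, π := πV } : Cone DV) :=
    { lift := fun s => s.π.app (op PUnit.unit)
      fac := fun s j => by
        exact Category.comp_id (s.π.app (op PUnit.unit))
      uniq := fun s m hm => by
        have := hm (op PUnit.unit)
        rw [← this]
        exact (Category.comp_id m).symm }
  obtain ⟨hVT, J, iJ1, iJ2, iJ3, DS, π, hlim, α, ι₁, P1, P2, P3, P4, P5⟩ :=
    rel_top (⊥ : S.Opens) (by simp) DV hft πV hcV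
  exact ⟨J, iJ1, iJ2, iJ3, DS, { pt := ((⊤ : S.Opens) : Scheme.{u}), π := π }, hlim, P1, P2,
    ⟨S.topIso⟩⟩

end Groth.Agent.S0590
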