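import Groth.Statements.S7384
-- import your own Groth.Agent.* helpers here
import Mathlib
import Groth.Agent.Lib.Helper12.ApproxHom
import Groth.Agent.S0590

set_option autoImplicit false
universe u
open CategoryTheory AlgebraicGeometry
open Lim

namespace Groth.Agent.S7384
open Limits TopologicalSpace Opposite Groth.Agent.Lib.Helper12.ApproxHom

set_option backward.isDefEq.respectTransparency false
set_option linter.style.haveILetI false

/-- Let `f : X → S` be a morphism of quasi-compact quasi-separated schemes. Then `f` is a limit of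
morphisms `f_i : X_i → S_i` indexed by a nonempty directed set: there are inverse systems `X_i`,
`S_i` of quasi-compact schemes locally of finite type over `ℤ` with affine transition morphisms, a
compatible family of morphisms `f_i`, and limit cones identified with `X` and `S` compatibly with
`f`. -/
theorem result {X S : Scheme.{u}} (f : X ⟶ S) [CompactSpace X]
    [QuasiSeparatedSpace X] [CompactSpace S] [QuasiSeparatedSpace S] :
    ∃ (I : Type u) (_ : Preorder I) (_ : IsDirected I (fun a b => a ≤ b)) (_ : Nonempty I)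
      (DX DS : Iᵒᵖ ⥤ Scheme.{u}) (φ : DX ⟶ DS)
      (cX : Limits.Cone DX) (cS : Limits.Cone DS) (_ : Limits.IsLimit cX) (_ : Limits.IsLimit cS)
      (eX : cX.pt ≅ X) (eS : cS.pt ≅ S),
      (∀ (i j : Iᵒᵖ) (a : i ⟶ j), IsAffineHom (DX.map a) ∧ IsAffineHom (DS.map a)) ∧
      (∀ i, CompactSpace (DX.obj i) ∧ CompactSpace (DS.obj i) ∧
        LocallyOfFiniteType (Limits.IsTerminal.from specULiftZIsTerminal (DX.obj i)) ∧
        LocallyOfFiniteType (Limits.IsTerminal.from specULiftZIsTerminal (DS.obj i))) ∧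
      (∀ i, cX.π.app i ≫ φ.app i = eX.hom ≫ f ≫ eS.inv ≫ cS.π.app i) := by
  classical
  obtain ⟨A, iA1, iA2, iA3, DX, cX, hcX, affX, ftX, ⟨eX⟩⟩ := Groth.Agent.S0590.result X
  obtain ⟨B, iB1, iB2, iB3, DS, cS, hcS, affS, ftS, ⟨eS⟩⟩ := Groth.Agent.S0590.result S
  haveI : ∀ {i j : Aᵒᵖ} (m : i ⟶ j), IsAffineHom (DX.map m) := fun m => affX _ _ m
  have hS : ∀ b, LocallyOfFiniteType (specULiftZIsTerminal.from (DS.obj b)) := fun b => (ftS b).2
  let f' : cX.pt ⟶ cS.pt := eX.hom ≫ f ≫ eS.inv
  haveI := isDirected_tr DX DS cX cS f' ftX hS hcX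
  haveI := nonempty_tr DX DS cX cS f' ftX hS hcX
  haveI := initial_projA DX DS cX cS f' ftX hS hcX
  haveI := initial_projB DX DS cX cS f' ftX hS hcX
  refine ⟨Tr DX DS cX cS f', inferInstance, inferInstance, inferInstance,
    projA DX DS cX cS f' ⋙ DX, projB DX DS cX cS f' ⋙ DS, phi DX DS cX cS f',
    cX.whisker (projA DX DS cX cS f'), cS.whisker (projB DX DS cX cS f'),
    (Functor.Initial.isLimitWhiskerEquiv _ cX).symm hcX,
    (Functor.Initial.isLimitWhiskerEquiv _ cS).symm hcS, eX, eS, ?_, ?_, ?_⟩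
  · intro i j a
    exact ⟨affX _ _ _, affS _ _ _⟩
  · intro i
    exact ⟨(ftX _).1, (ftS _).1, (ftX _).2, (ftS _).2⟩
  · intro i
    have := i.unop.comm
    simp only [f', Category.assoc] at this
    exact this

end Groth.Agent.S7384
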