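import Groth.Statements.S4784
import Mathlib
import Groth.Agent.Lib.Helper27.LimBC
open CategoryTheory.Limits Groth.Agent.Lib.Helper27.LimBC

set_option autoImplicit false
universe u
open CategoryTheory AlgebraicGeometry
open Lim8

namespace Groth.Agent.S4784

/-- Let S = lim S_i be a cofiltered limit of schemes with affine transition maps and let i be an index.
Then the image of the projection S ⟶ S_i equals the intersection, over all indices j over i, of the
images of the transition maps S_j ⟶ S_i. -/
theorem result {I : Type u} [SmallCategory I] [IsCofiltered I]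
    (D : I ⥤ Scheme.{u}) (c : Limits.Cone D) (hc : Limits.IsLimit c)
    [∀ (i j : I) (f : i ⟶ j), IsAffineHom (D.map f)] (i : I) :
    Set.range ⇑(c.π.app i) = ⋂ (j : I) (φ : j ⟶ i), Set.range ⇑(D.map φ) := by
  apply le_antisymm
  · rintro _ ⟨s, rfl⟩
    simp only [Set.mem_iInter]
    intro j φ
    refine ⟨c.π.app j s, ?_⟩
    rw [← c.w φ]; rfl
  · intro x hx
    simp only [Set.mem_iInter] at hx
    let g := (D.obj i).fromSpecResidueField x
    have hne : ∀ j : Over i, Nonempty ((bcDiagram D i g).obj j) := by
      intro j
      obtain ⟨y, hy⟩ := hx j.left j.hom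
      obtain ⟨t⟩ : Nonempty (Spec ((D.obj i).residueField x)) := inferInstance
      obtain ⟨z, -, -⟩ := Scheme.Pullback.exists_preimage_pullback (f := D.map j.hom) (g := g) y t
        (by rw [hy, Scheme.fromSpecResidueField_apply])
      exact ⟨z⟩
    have haff : ∀ j : Over i, IsAffine ((bcDiagram D i g).obj j) := fun j => by
      dsimp [bcDiagram]; infer_instance
    have hcpt : ∀ j : Over i, CompactSpace ((bcDiagram D i g).obj j) := fun j => inferInstance
    have htr : ∀ {j k : Over i} (u : j ⟶ k), IsAffineHom ((bcDiagram D i g).map u) :=
      fun u => inferInstance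
    obtain ⟨z⟩ := Scheme.nonempty_of_isLimit (bcDiagram D i g) (bcCone D c i g)
      (isLimitBcCone D c hc i g)
    refine ⟨(pullback.fst (c.π.app i) g).base z, ?_⟩
    have h1 := congrArg (fun f => f.base z) (pullback.condition (f := c.π.app i) (g := g))
    have h2 : (c.π.app i).base ((pullback.fst (c.π.app i) g).base z) =
        g.base ((pullback.snd (c.π.app i) g).base z) := by simpa using h1
    show (c.π.app i).base ((pullback.fst (c.π.app i) g).base z) = x
    rw [h2]
    exact Scheme.fromSpecResidueField_apply _ _

end Groth.Agent.S4784
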