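import Groth.Statements.S2581
-- import your own Groth.Agent.* helpers here
import Mathlib
import Groth.Agent.Lib.Helper12.LimConstr
import Groth.Agent.Lib.Helper12.ConstrNhds
import Groth.Agent.S12442

set_option autoImplicit false
universe u
open CategoryTheory AlgebraicGeometry
open EGA43

namespace Groth.Agent.S2581
open Groth.Agent.Lib.Helper12.ConstrNhds Groth.Agent.Lib.Helper12.LimConstr Topology CategoryTheory.Limits

/-- Let S = lim S_i be a cofiltered limit of schemes with affine transition morphisms, S_{i₀} a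
quasi-compact quasi-separated stage (the source needs S_{i₀} only quasi-compact; quasi-separatedness
is assumed here), f₀ : X₀ ⟶ Y₀ an S_{i₀}-morphism between schemes of finite presentation over
S_{i₀}, and f : X ⟶ Y its base change to S (base changes expressed by pullback squares). If f is
surjective, then the base change f_i : X_i ⟶ Y_i of f₀ to some stage S_i is surjective. -/
theorem result {I : Type u} [SmallCategory I] [IsCofiltered I]
    (D : I ⥤ Scheme.{u}) (c : Limits.Cone D) (hc : Limits.IsLimit c)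
    [∀ (i j : I) (f : i ⟶ j), IsAffineHom (D.map f)] (i₀ : I) [CompactSpace (D.obj i₀)]
    [QuasiSeparatedSpace (D.obj i₀)] {X₀ Y₀ : Scheme.{u}} (f₀ : X₀ ⟶ Y₀) (g₀ : Y₀ ⟶ D.obj i₀)
    [LocallyOfFinitePresentation g₀] [QuasiCompact g₀] [QuasiSeparated g₀]
    [LocallyOfFinitePresentation (f₀ ≫ g₀)] [QuasiCompact (f₀ ≫ g₀)] [QuasiSeparated (f₀ ≫ g₀)]
    {X Y : Scheme.{u}} (f : X ⟶ Y) (g : Y ⟶ c.pt) (qY : Y ⟶ Y₀) (qX : X ⟶ X₀)
    (hY : IsPullback qY g g₀ (c.π.app i₀)) (hX : IsPullback qX f f₀ qY) [Surjective f] :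
    ∃ (i : I) (φ : i ⟶ i₀) (Xi Yi : Scheme.{u}) (fi : Xi ⟶ Yi) (gi : Yi ⟶ D.obj i) (pY : Yi ⟶ Y₀)
      (pX : Xi ⟶ X₀), IsPullback pY gi g₀ (D.map φ) ∧ IsPullback pX fi f₀ pY ∧ Surjective fi := by
  haveI hD : ∀ {i j : I} (f : i ⟶ j), IsAffineHom (D.map f) := fun f => inferInstance
  haveI : LocallyOfFinitePresentation f₀ := Groth.Agent.S12442.result f₀ g₀
  haveI : QuasiCompact f₀ :=
    MorphismProperty.HasOfPostcompProperty.of_postcomp (W := @QuasiCompact) (W' := @QuasiSeparated)
      f₀ g₀ inferInstance inferInstance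
  have hlc : IsLocallyConstructible (g₀.base '' (Set.range f₀.base)ᶜ) := by
    have h1 : IsLocallyConstructible (Set.range f₀.base) := by
      rw [← Set.image_univ]
      exact f₀.isLocallyConstructible_image IsLocallyConstructible.univ
    exact g₀.isLocallyConstructible_image (isLocallyConstructible_compl h1)
  have hC : IsConstructible (g₀.base '' (Set.range f₀.base)ᶜ) := hlc.isConstructible
  have hempty : (c.π.app i₀).base ⁻¹' (g₀.base '' (Set.range f₀.base)ᶜ) = ∅ := by
    rw [Set.eq_empty_iff_forall_notMem]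
    rintro s ⟨y₀, hy₀, hys⟩
    obtain ⟨y, hy1, hy2⟩ := Scheme.exists_preimage_of_isPullback hY y₀ s hys
    obtain ⟨x, rfl⟩ := f.surjective y
    apply hy₀
    refine ⟨qX.base x, ?_⟩
    rw [← hy1, ← Scheme.Hom.comp_apply, ← Scheme.Hom.comp_apply, hX.w]
  obtain ⟨i, φ, hi⟩ := exists_preimage_eq_empty D c hc i₀ _ hC hempty
  refine ⟨i, φ, pullback f₀ (pullback.fst g₀ (D.map φ)), pullback g₀ (D.map φ),
    pullback.snd _ _, pullback.snd _ _, pullback.fst _ _, pullback.fst _ _,
    IsPullback.of_hasPullback _ _, IsPullback.of_hasPullback _ _, ?_⟩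
  rw [surjective_iff]
  intro yi
  by_cases h : (pullback.fst g₀ (D.map φ)).base yi ∈ Set.range f₀.base
  · obtain ⟨x₀, hx₀⟩ := h
    obtain ⟨xi, -, hxi⟩ := Scheme.Pullback.exists_preimage_pullback x₀ yi hx₀
    exact ⟨xi, hxi⟩
  · exfalso
    have : (pullback.snd g₀ (D.map φ)).base yi ∈
        (D.map φ).base ⁻¹' (g₀.base '' (Set.range f₀.base)ᶜ) := by
      refine ⟨_, h, ?_⟩
      rw [← Scheme.Hom.comp_apply, pullback.condition]
      rfl
    rw [hi] at this
    exact this

end Groth.Agent.S2581
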