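import Groth.Statements.S16407
import Mathlib
import Groth.Agent.Lib.Helper24.MVSq
import Groth.Agent.S16408

set_option autoImplicit false
universe v u
open CategoryTheory CategoryTheory.Limits CategoryTheory.Pretriangulated
open W4c3perfectstacks W4c3perfectstacks.MVSq

namespace Groth.Agent.S16407

open Groth.Agent.Lib.Helper24.MVSq in
theorem exists_d
    (S S' R R' : Type u) [Category.{v} S] [Category.{v} S'] [Category.{v} R] [Category.{v} R']
    [Preadditive S] [Preadditive S'] [Preadditive R] [Preadditive R']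
    [HasZeroObject S] [HasZeroObject S'] [HasZeroObject R] [HasZeroObject R']
    [HasShift S ℤ] [HasShift S' ℤ] [HasShift R ℤ] [HasShift R' ℤ]
    [∀ n : ℤ, (shiftFunctor S n).Additive] [∀ n : ℤ, (shiftFunctor S' n).Additive]
    [∀ n : ℤ, (shiftFunctor R n).Additive] [∀ n : ℤ, (shiftFunctor R' n).Additive]
    [Pretriangulated S] [Pretriangulated S'] [Pretriangulated R] [Pretriangulated R']
    (q : W4c3perfectstacks.MVSq S S' R R')
    [q.jst.CommShift ℤ] [q.fst.CommShift ℤ] [q.jpst.CommShift ℤ] [q.gst.CommShift ℤ]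
    [q.jst.IsTriangulated] [q.fst.IsTriangulated] [q.jpst.IsTriangulated] [q.gst.IsTriangulated]
    (hq : q.IsMV) (N : S) :
    ∃ d : q.fls.obj (q.fst.obj (q.jls.obj (q.jst.obj N))) ⟶ N⟦(1 : ℤ)⟧,
      Triangle.mk (biprod.lift (q.adjJ.unit.app N) (q.adjF.unit.app N))
        (biprod.desc (q.adjF.unit.app (q.jls.obj (q.jst.obj N)))
          (-(q.fls.map (q.fst.map (q.adjJ.unit.app N))))) d ∈ distTriang S := by
  obtain ⟨u, hu⟩ : ∃ u : N ⟶ q.jls.obj (q.jst.obj N) ⊞ q.fls.obj (q.fst.obj N),
      u = biprod.lift (q.adjJ.unit.app N) (q.adjF.unit.app N) := ⟨_, rfl⟩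
  obtain ⟨v, hv⟩ : ∃ v : q.jls.obj (q.jst.obj N) ⊞ q.fls.obj (q.fst.obj N) ⟶
      q.fls.obj (q.fst.obj (q.jls.obj (q.jst.obj N))),
      v = biprod.desc (q.adjF.unit.app (q.jls.obj (q.jst.obj N)))
          (-(q.fls.map (q.fst.map (q.adjJ.unit.app N)))) := ⟨_, rfl⟩
  have hufst : u ≫ biprod.fst = q.adjJ.unit.app N := by rw [hu]; simp
  have hinrv : biprod.inr ≫ v = -(q.fls.map (q.fst.map (q.adjJ.unit.app N))) := by rw [hv]; simp
  have huv : u ≫ v = 0 := by
    rw [hu, hv, biprod.lift_desc, Preadditive.comp_neg]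
    have hn : q.adjJ.unit.app N ≫ q.adjF.unit.app (q.jls.obj (q.jst.obj N)) =
        q.adjF.unit.app N ≫ q.fls.map (q.fst.map (q.adjJ.unit.app N)) :=
      q.adjF.unit.naturality (q.adjJ.unit.app N)
    rw [hn, add_neg_cancel]
  obtain ⟨C', v', d', hT⟩ := distinguished_cocone_triangle u
  obtain ⟨w, hw⟩ := yoneda₂' hT v huv
  have hC'loc : IsLocal q C' := isLocal_cone q hq N v' d' (hu ▸ hT)
  have hCloc : IsLocal q (q.fls.obj (q.fst.obj (q.jls.obj (q.jst.obj N)))) := isLocal_C q hq _
  -- j^* w is invertible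
  have hjT : Triangle.mk (q.jst.map u) (q.jst.map v')
      (q.jst.map d' ≫ (q.jst.commShiftIso (1 : ℤ)).hom.app N) ∈ distTriang R :=
    q.jst.map_distinguished _ hT
  have hjw : IsIso (q.jst.map w) := by
    refine isIso_of_splitCone hjT (q.jst.map v) (q.jst.map w) ?_
      (q.jst.map biprod.fst) (q.jst.map biprod.snd) (q.jst.map biprod.inl) (q.jst.map biprod.inr)
      ?_ ?_ ?_ ?_
    · rw [← Functor.map_comp, ← hw]
    · rw [← Functor.map_comp, ← Functor.map_comp, ← Functor.map_add, biprod.total,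
        CategoryTheory.Functor.map_id]
    · rw [← Functor.map_comp, hufst]
      exact isIso_jst_unit q hq N
    · rw [← Functor.map_comp, hinrv, Functor.map_neg]
      haveI := isIso_jst_fls_fst_unit q hq N
      exact ⟨⟨-inv (q.jst.map (q.fls.map (q.fst.map (q.adjJ.unit.app N)))), by simp, by simp⟩⟩
    · rw [← Functor.map_comp, huv, Functor.map_zero]
  -- the cone of w vanishes
  obtain ⟨K, p, r, hK⟩ := distinguished_cocone_triangle w
  have hKloc : IsLocal q K := by
    intro Z hZ g
    have h1 : g ≫ r = 0 := (hC'loc.shift q 1) Z hZ _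
    obtain ⟨g₁, rfl⟩ := coyoneda₃' hK g h1
    rw [hCloc Z hZ g₁, zero_comp]
  have hjK : IsZero (q.jst.obj K) := by
    have hjK' : Triangle.mk (q.jst.map w) (q.jst.map p)
        (q.jst.map r ≫ (q.jst.commShiftIso (1 : ℤ)).hom.app C') ∈ distTriang R :=
      q.jst.map_distinguished _ hK
    exact Triangle.isZero₃_of_isIso₁ _ hjK' hjw
  have hK0 : IsZero K := by
    rw [IsZero.iff_id_eq_zero]
    exact hKloc K hjK _
  haveI hwiso : IsIso w := (Triangle.isZero₃_iff_isIso₁ _ hK).mp hK0
  have key : Triangle.mk u v (inv w ≫ d') ∈ distTriang S := by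
    refine isomorphic_distinguished _ hT _ ?_
    refine Triangle.isoMk _ _ (Iso.refl _) (Iso.refl _) (asIso w).symm ?_ ?_ ?_
    · exact (Category.comp_id _).trans (Category.id_comp _).symm
    · change v ≫ inv w = 𝟙 _ ≫ v'
      rw [Category.id_comp, hw, Category.assoc, IsIso.hom_inv_id, Category.comp_id]
    · change (inv w ≫ d') ≫ (𝟙 N)⟦(1 : ℤ)⟧' = inv w ≫ d'
      rw [CategoryTheory.Functor.map_id, Category.comp_id]
  subst hu
  subst hv
  exact ⟨inv w ≫ d', key⟩

/-- The Mayer–Vietoris triangle. In a Mayer–Vietoris square of triangulated categories (single-square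
form: triangulated pullbacks with right adjoints, fully faithful j_*-type pushforwards, invertible
base-change and exchange maps, and the pullback along X' → X restricting to an equivalence between
the kernels of the two open restrictions), for every object N of the category attached to X there is
exactly one morphism d making N ⟶ j_* j^* N ⊞ f_* f^* N ⟶ f_* f^* j_* j^* N ⟶ N⟦1⟧ distinguished,
where the first map has the two units as components and the second is (unit of f at j_* j^* N, minus
f_* f^* of the unit of j). (The four categories are taken in common universes.) -/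
theorem result
    (S S' R R' : Type u) [Category.{v} S] [Category.{v} S'] [Category.{v} R] [Category.{v} R']
    [Preadditive S] [Preadditive S'] [Preadditive R] [Preadditive R']
    [HasZeroObject S] [HasZeroObject S'] [HasZeroObject R] [HasZeroObject R']
    [HasShift S ℤ] [HasShift S' ℤ] [HasShift R ℤ] [HasShift R' ℤ]
    [∀ n : ℤ, (shiftFunctor S n).Additive] [∀ n : ℤ, (shiftFunctor S' n).Additive]
    [∀ n : ℤ, (shiftFunctor R n).Additive] [∀ n : ℤ, (shiftFunctor R' n).Additive]
    [Pretriangulated S] [Pretriangulated S'] [Pretriangulated R] [Pretriangulated R']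
    [IsTriangulated S] [IsTriangulated S'] [IsTriangulated R] [IsTriangulated R']
    (q : W4c3perfectstacks.MVSq S S' R R')
    [q.jst.CommShift ℤ] [q.fst.CommShift ℤ] [q.jpst.CommShift ℤ] [q.gst.CommShift ℤ]
    [q.jst.IsTriangulated] [q.fst.IsTriangulated] [q.jpst.IsTriangulated] [q.gst.IsTriangulated]
    (hq : q.IsMV) (N : S) :
    ∃! d : q.fls.obj (q.fst.obj (q.jls.obj (q.jst.obj N))) ⟶ N⟦(1 : ℤ)⟧,
      Triangle.mk (biprod.lift (q.adjJ.unit.app N) (q.adjF.unit.app N))
        (biprod.desc (q.adjF.unit.app (q.jls.obj (q.jst.obj N)))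
          (-(q.fls.map (q.fst.map (q.adjJ.unit.app N))))) d ∈ distTriang S := by
  obtain ⟨d, hd⟩ := exists_d S S' R R' q hq N
  refine ⟨d, hd, ?_⟩
  intro d₂ hd₂
  have h := Groth.Agent.S16408.result S S' R R' q hq N N (𝟙 N) d₂ d hd₂ hd
  simpa using h

end Groth.Agent.S16407
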