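import Groth.Statements.S15293
-- import your own Groth.Agent.* helpers here
import Mathlib
import Groth.Agent.Lib.Helper23.DeRham

set_option autoImplicit false
universe u
open DeRham

namespace Groth.Agent.S15293

open exteriorPower in
/-- For a commutative square of ring maps R → A → B, R → S → B (B an algebra over R, A and S
compatibly), there is a family of additive maps ψ_p from the p-forms of A over R to the p-forms of B
over S, p ≥ 0, which is the map of de Rham complexes induced by the square: ψ_p sends b₀ db₁ ∧ … ∧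
db_p to g(b₀) d(g b₁) ∧ … ∧ d(g b_p), where g : A → B is the structure map. In degree 0 this is g
and in degree 1 the induced map on Kähler differentials. -/
theorem result (R S A B : Type u) [CommRing R] [CommRing S] [CommRing A] [CommRing B]
    [Algebra R S] [Algebra R A] [Algebra R B] [Algebra A B] [Algebra S B]
    [IsScalarTower R A B] [IsScalarTower R S B] :
    ∃ ψ : ∀ p : ℕ, ↥(⋀[A]^p (Ω[A⁄R])) →+ ↥(⋀[B]^p (Ω[B⁄S])),
      DeRham.IsCxMap (KaehlerDifferential.D R A) (KaehlerDifferential.D S B) (algebraMap A B) ψ := by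
  haveI : SMulCommClass S A B := ⟨fun s a b => by simp only [Algebra.smul_def]; ring⟩
  let φ : Ω[A⁄R] →ₗ[A] Ω[B⁄S] := KaehlerDifferential.map R S A B
  let f : ∀ p, Ω[A⁄R] [⋀^Fin p]→ₗ[A] ↥(⋀[B]^p (Ω[B⁄S])) := fun p =>
    { ((ιMulti B p (M := Ω[B⁄S])).toMultilinearMap.restrictScalars A).compLinearMap (fun _ => φ) with
      map_eq_zero_of_eq' := by
        intro v i j hij hne
        exact (ιMulti B p (M := Ω[B⁄S])).map_eq_zero_of_eq (fun i => φ (v i)) (by simp [hij]) hne }
  refine ⟨fun p => (exteriorPower.alternatingMapLinearEquiv (f p)).toAddMonoidHom, ?_⟩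
  intro p b₀ b
  show (exteriorPower.alternatingMapLinearEquiv (f p)) (DeRham.gen (KaehlerDifferential.D R A) p b₀ b) = _
  unfold DeRham.gen
  rw [map_smul, exteriorPower.alternatingMapLinearEquiv_apply_ιMulti]
  show b₀ • ιMulti B p (fun i => φ (KaehlerDifferential.D R A (b i))) = _
  rw [algebra_compatible_smul B b₀]
  congr 2
  funext i
  exact KaehlerDifferential.map_D R S A B (b i)

end Groth.Agent.S15293
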