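import Groth.Statements.S12838
import Mathlib
import Mathlib

set_option autoImplicit false
universe u
open CategoryTheory AlgebraicGeometry
open AlgSt

namespace Groth.Agent.S12838

section
open CategoryTheory.Limits MonoidalCategory CartesianMonoidalCategory MonObj GrpObj

variable {S : Scheme.{u}} (G : Over S) [GrpObj G]

lemma whisk_lift_leftMul {T T' : Over S} (g : T ⟶ G) (f : T ⟶ T') :
    (G ◁ lift g f) ≫ (AlgSt.leftMul G T').act =
      lift (fst G T * (snd G T ≫ g)) (snd G T ≫ f) := by
  apply CartesianMonoidalCategory.hom_ext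
  · simp only [AlgSt.leftMul, Category.assoc, lift_fst, lift_snd, lift_fst_assoc, lift_snd_assoc, comp_lift, comp_mul, whiskerLeft_fst, whiskerLeft_snd, whiskerLeft_fst_assoc, whiskerLeft_snd_assoc, whiskerRight_fst, whiskerRight_snd, whiskerRight_fst_assoc, whiskerRight_snd_assoc, associator_hom_fst, associator_hom_snd_fst, associator_hom_snd_snd, associator_hom_snd_fst_assoc, associator_hom_snd_snd_assoc, associator_inv_fst_fst, associator_inv_fst_snd, associator_inv_snd, associator_inv_fst_fst_assoc, associator_inv_fst_snd_assoc, associator_inv_snd_assoc]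
  · simp only [AlgSt.leftMul, Category.assoc, lift_fst, lift_snd, lift_fst_assoc, lift_snd_assoc, comp_lift, comp_mul, whiskerLeft_fst, whiskerLeft_snd, whiskerLeft_fst_assoc, whiskerLeft_snd_assoc, whiskerRight_fst, whiskerRight_snd, whiskerRight_fst_assoc, whiskerRight_snd_assoc, associator_hom_fst, associator_hom_snd_fst, associator_hom_snd_snd, associator_hom_snd_fst_assoc, associator_hom_snd_snd_assoc, associator_inv_fst_fst, associator_inv_fst_snd, associator_inv_snd, associator_inv_fst_fst_assoc, associator_inv_fst_snd_assoc, associator_inv_snd_assoc]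

lemma whisk_unit_leftMul (T : Over S) :
    (G ◁ lift (toUnit T ≫ η[G]) (𝟙 T)) ≫ (AlgSt.leftMul G T).act = 𝟙 _ := by
  have h1 : toUnit T ≫ η[G] = 1 := by rw [← Hom.one_def]
  apply CartesianMonoidalCategory.hom_ext
  · simp only [AlgSt.leftMul, Category.assoc, lift_fst, lift_snd, lift_fst_assoc, lift_snd_assoc, comp_lift, comp_mul, whiskerLeft_fst, whiskerLeft_snd, whiskerLeft_fst_assoc, whiskerLeft_snd_assoc, whiskerRight_fst, whiskerRight_snd, whiskerRight_fst_assoc, whiskerRight_snd_assoc, associator_hom_fst, associator_hom_snd_fst, associator_hom_snd_snd, associator_hom_snd_fst_assoc, associator_hom_snd_snd_assoc, associator_inv_fst_fst, associator_inv_fst_snd, associator_inv_snd, associator_inv_fst_fst_assoc, associator_inv_fst_snd_assoc, associator_inv_snd_assoc, h1, Category.id_comp]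
    rw [show snd G T ≫ (1 : T ⟶ G) = 1 from by rw [Hom.one_def, Hom.one_def, ← Category.assoc]; congr 1; exact toUnit_unique _ _]
    rw [_root_.mul_one]
  · simp only [AlgSt.leftMul, Category.assoc, lift_fst, lift_snd, lift_fst_assoc, lift_snd_assoc, comp_lift, comp_mul, whiskerLeft_fst, whiskerLeft_snd, whiskerLeft_fst_assoc, whiskerLeft_snd_assoc, whiskerRight_fst, whiskerRight_snd, whiskerRight_fst_assoc, whiskerRight_snd_assoc, associator_hom_fst, associator_hom_snd_fst, associator_hom_snd_snd, associator_hom_snd_fst_assoc, associator_hom_snd_snd_assoc, associator_inv_fst_fst, associator_inv_fst_snd, associator_inv_snd, associator_inv_fst_fst_assoc, associator_inv_fst_snd_assoc, associator_inv_snd_assoc, Category.id_comp, Category.comp_id]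

lemma unit_lift_act {X : Over S} (aX : AlgGrp.Action G X) {T : Over S} (x : T ⟶ X) :
    lift (toUnit T ≫ η[G]) x ≫ aX.act = x := by
  have h1 : lift (toUnit T ≫ η[G]) x = lift (toUnit T) x ≫ (η[G] ▷ X) := by
    apply CartesianMonoidalCategory.hom_ext
    · simp only [Category.assoc, lift_fst, lift_snd, lift_fst_assoc, lift_snd_assoc, comp_lift, comp_mul, whiskerLeft_fst, whiskerLeft_snd, whiskerLeft_fst_assoc, whiskerLeft_snd_assoc, whiskerRight_fst, whiskerRight_snd, whiskerRight_fst_assoc, whiskerRight_snd_assoc, associator_hom_fst, associator_hom_snd_fst, associator_hom_snd_snd, associator_hom_snd_fst_assoc, associator_hom_snd_snd_assoc, associator_inv_fst_fst, associator_inv_fst_snd, associator_inv_snd, associator_inv_fst_fst_assoc, associator_inv_fst_snd_assoc, associator_inv_snd_assoc]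
    · simp only [Category.assoc, lift_fst, lift_snd, lift_fst_assoc, lift_snd_assoc, comp_lift, comp_mul, whiskerLeft_fst, whiskerLeft_snd, whiskerLeft_fst_assoc, whiskerLeft_snd_assoc, whiskerRight_fst, whiskerRight_snd, whiskerRight_fst_assoc, whiskerRight_snd_assoc, associator_hom_fst, associator_hom_snd_fst, associator_hom_snd_snd, associator_hom_snd_fst_assoc, associator_hom_snd_snd_assoc, associator_inv_fst_fst, associator_inv_fst_snd, associator_inv_snd, associator_inv_fst_fst_assoc, associator_inv_fst_snd_assoc, associator_inv_snd_assoc]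
  rw [h1, Category.assoc, aX.one_act, leftUnitor_hom, lift_snd]

lemma lift_mul_act {X : Over S} (aX : AlgGrp.Action G X) {T : Over S} (g : T ⟶ G) (z : T ⟶ X) :
    lift (fst G T * (snd G T ≫ g)) (snd G T ≫ z) ≫ aX.act =
      (G ◁ (lift g z ≫ aX.act)) ≫ aX.act := by
  have hμ : fst (G ⊗ G) X ≫ μ[G] = (fst _ _ ≫ fst G G) * (fst _ _ ≫ snd G G) := by
    rw [Hom.mul_def, ← comp_lift, lift_fst_snd, Category.comp_id]
  have hm : (G ◁ aX.act) ≫ aX.act = (α_ G G X).inv ≫ (μ[G] ▷ X) ≫ aX.act := by
    rw [aX.mul_act, Iso.inv_hom_id_assoc]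
  have h2 : (G ◁ lift g z) ≫ (α_ G G X).inv ≫ (μ[G] ▷ X) =
      lift (fst G T * (snd G T ≫ g)) (snd G T ≫ z) := by
    apply CartesianMonoidalCategory.hom_ext
    · simp only [Category.assoc, lift_fst, lift_snd, lift_fst_assoc, lift_snd_assoc, comp_lift, comp_mul, whiskerLeft_fst, whiskerLeft_snd, whiskerLeft_fst_assoc, whiskerLeft_snd_assoc, whiskerRight_fst, whiskerRight_snd, whiskerRight_fst_assoc, whiskerRight_snd_assoc, associator_hom_fst, associator_hom_snd_fst, associator_hom_snd_snd, associator_hom_snd_fst_assoc, associator_hom_snd_snd_assoc, associator_inv_fst_fst, associator_inv_fst_snd, associator_inv_snd, associator_inv_fst_fst_assoc, associator_inv_fst_snd_assoc, associator_inv_snd_assoc, hμ]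
    · simp only [Category.assoc, lift_fst, lift_snd, lift_fst_assoc, lift_snd_assoc, comp_lift, comp_mul, whiskerLeft_fst, whiskerLeft_snd, whiskerLeft_fst_assoc, whiskerLeft_snd_assoc, whiskerRight_fst, whiskerRight_snd, whiskerRight_fst_assoc, whiskerRight_snd_assoc, associator_hom_fst, associator_hom_snd_fst, associator_hom_snd_snd, associator_hom_snd_fst_assoc, associator_hom_snd_snd_assoc, associator_inv_fst_fst, associator_inv_fst_snd, associator_inv_snd, associator_inv_fst_fst_assoc, associator_inv_fst_snd_assoc, associator_inv_snd_assoc]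
  rw [MonoidalCategory.whiskerLeft_comp, Category.assoc, hm, ← h2]
  simp only [Category.assoc]

lemma isIso_shearBy {T : Over S} (g : T ⟶ G) :
    IsIso (lift (fst G T * (snd G T ≫ g)) (snd G T)) := by
  refine ⟨⟨lift (fst G T * (snd G T ≫ g)⁻¹) (snd G T), ?_, ?_⟩⟩
  · simp only [comp_lift, comp_mul, comp_inv, lift_fst, lift_snd, lift_snd_assoc, mul_inv_cancel_right, lift_fst_snd]
  · simp only [comp_lift, comp_mul, comp_inv, lift_fst, lift_snd, lift_snd_assoc, inv_mul_cancel_right, lift_fst_snd]

lemma isPullback_shearBy {T T' : Over S} (g : T ⟶ G) (f : T ⟶ T') :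
    IsPullback (lift (fst G T * (snd G T ≫ g)) (snd G T ≫ f)) (snd G T) (snd G T') f := by
  haveI := isIso_shearBy G g
  have h1 : IsPullback (lift (fst G T * (snd G T ≫ g)) (snd G T)) (snd G T) (snd G T) (𝟙 T) :=
    IsPullback.of_horiz_isIso ⟨by rw [lift_snd, Category.comp_id]⟩
  have h2 := h1.paste_horiz (AlgSt.isPullback_whiskerLeft (G := G) f)
  have e1 : lift (fst G T * (snd G T ≫ g)) (snd G T) ≫ (G ◁ f) =
      lift (fst G T * (snd G T ≫ g)) (snd G T ≫ f) := by
    apply CartesianMonoidalCategory.hom_ext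
    · simp only [Category.assoc, lift_fst, lift_snd, lift_fst_assoc, lift_snd_assoc, comp_lift, comp_mul, whiskerLeft_fst, whiskerLeft_snd, whiskerLeft_fst_assoc, whiskerLeft_snd_assoc, whiskerRight_fst, whiskerRight_snd, whiskerRight_fst_assoc, whiskerRight_snd_assoc, associator_hom_fst, associator_hom_snd_fst, associator_hom_snd_snd, associator_hom_snd_fst_assoc, associator_hom_snd_snd_assoc, associator_inv_fst_fst, associator_inv_fst_snd, associator_inv_snd, associator_inv_fst_fst_assoc, associator_inv_fst_snd_assoc, associator_inv_snd_assoc]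
    · simp only [Category.assoc, lift_fst, lift_snd, lift_fst_assoc, lift_snd_assoc, comp_lift, comp_mul, whiskerLeft_fst, whiskerLeft_snd, whiskerLeft_fst_assoc, whiskerLeft_snd_assoc, whiskerRight_fst, whiskerRight_snd, whiskerRight_fst_assoc, whiskerRight_snd_assoc, associator_hom_fst, associator_hom_snd_fst, associator_hom_snd_snd, associator_hom_snd_fst_assoc, associator_hom_snd_snd_assoc, associator_inv_fst_fst, associator_inv_fst_snd, associator_inv_snd, associator_inv_fst_fst_assoc, associator_inv_fst_snd_assoc, associator_inv_snd_assoc]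
  rw [e1, Category.id_comp] at h2
  exact h2

lemma leftMul_lift_eqv {T T' : Over S} (g : T ⟶ G) (f : T ⟶ T') :
    (AlgSt.leftMul G T).act ≫ lift (fst G T * (snd G T ≫ g)) (snd G T ≫ f) =
      (G ◁ lift (fst G T * (snd G T ≫ g)) (snd G T ≫ f)) ≫ (AlgSt.leftMul G T').act := by
  apply CartesianMonoidalCategory.hom_ext
  · simp only [AlgSt.leftMul, Category.assoc, lift_fst, lift_snd, lift_fst_assoc, lift_snd_assoc, comp_lift, comp_mul, whiskerLeft_fst, whiskerLeft_snd, whiskerLeft_fst_assoc, whiskerLeft_snd_assoc, whiskerRight_fst, whiskerRight_snd, whiskerRight_fst_assoc, whiskerRight_snd_assoc, associator_hom_fst, associator_hom_snd_fst, associator_hom_snd_snd, associator_hom_snd_fst_assoc, associator_hom_snd_snd_assoc, associator_inv_fst_fst, associator_inv_fst_snd, associator_inv_snd, associator_inv_fst_fst_assoc, associator_inv_fst_snd_assoc, associator_inv_snd_assoc]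
    rw [_root_.mul_assoc]
  · simp only [AlgSt.leftMul, Category.assoc, lift_fst, lift_snd, lift_fst_assoc, lift_snd_assoc, comp_lift, comp_mul, whiskerLeft_fst, whiskerLeft_snd, whiskerLeft_fst_assoc, whiskerLeft_snd_assoc, whiskerRight_fst, whiskerRight_snd, whiskerRight_fst_assoc, whiskerRight_snd_assoc, associator_hom_fst, associator_hom_snd_fst, associator_hom_snd_snd, associator_hom_snd_fst_assoc, associator_hom_snd_snd_assoc, associator_inv_fst_fst, associator_inv_fst_snd, associator_inv_snd, associator_inv_fst_fst_assoc, associator_inv_fst_snd_assoc, associator_inv_snd_assoc]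

end

open MonoidalCategory CartesianMonoidalCategory MonObj GrpObj in
/-- Let `G` be a group scheme over `S` acting on an `S`-scheme `X`, `f : T ⟶ T'` a morphism of
`S`-schemes, `x` a `T`-point and `x'` a `T'`-point of `X`. In the quotient category `[X/G]` (scheme
torsors for the fppf topology with an equivariant morphism to `X`) the canonical functor `X ⟶ [X/G]`
sends `x` to the trivial torsor `G ×_S T ⟶ T`, with `G` acting by left multiplication on the first
factor and the equivariant morphism `(h, t) ↦ h · x(t)`, and likewise for `x'`. The morphisms from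
the image of `x` to the image of `x'` lying over `f` are exactly the maps `(h, t) ↦ (h · g(t),
f(t))` for those `T`-points `g` of `G` with `g · (x' ∘ f) = x`: every morphism over `f` is of this
form, and every such `g` defines one. -/
theorem result (S : Scheme.{u}) (G : Over S) [GrpObj G] (X : Over S)
    (aX : AlgGrp.Action G X) (T T' : Over S) (f : T ⟶ T') (x : T ⟶ X) (x' : T' ⟶ X) :
    (∀ h : (AlgSt.quotMap Scheme.fppfPrecoverage G aX).obj ((AlgSt.ofOverCat X).obj (Over.mk x)) ⟶ (AlgSt.quotMap Scheme.fppfPrecoverage G aX).obj ((AlgSt.ofOverCat X).obj (Over.mk x')),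
        h.base = f → ∃ g : T ⟶ G, lift g (f ≫ x') ≫ aX.act = x ∧
          h.top = lift (fst G T * (snd G T ≫ g)) (snd G T ≫ f)) ∧
    (∀ g : T ⟶ G, lift g (f ≫ x') ≫ aX.act = x →
        ∃ h : (AlgSt.quotMap Scheme.fppfPrecoverage G aX).obj ((AlgSt.ofOverCat X).obj (Over.mk x)) ⟶ (AlgSt.quotMap Scheme.fppfPrecoverage G aX).obj ((AlgSt.ofOverCat X).obj (Over.mk x')),
          h.base = f ∧ h.top = lift (fst G T * (snd G T ≫ g)) (snd G T ≫ f)) := by
  constructor
  · intro h hb
    have hcart : IsPullback h.top (snd G T) (snd G T') h.base := h.cart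
    have heqv : (AlgSt.leftMul G T).act ≫ h.top = (G ◁ h.top) ≫ (AlgSt.leftMul G T').act := h.eqv
    have hwφ : h.top ≫ ((G ◁ x') ≫ aX.act) = (G ◁ x) ≫ aX.act := h.wφ
    obtain ⟨t, ht⟩ : ∃ t : G ⊗ T ⟶ G ⊗ T', t = h.top := ⟨_, rfl⟩
    rw [← ht] at hcart heqv hwφ
    rw [hb] at hcart
    have h2 : t ≫ snd G T' = snd G T ≫ f := hcart.w
    obtain ⟨v, hv⟩ : ∃ v : T ⟶ G ⊗ T, v = lift (toUnit T ≫ η[G]) (𝟙 T) := ⟨_, rfl⟩
    have hvs : v ≫ snd G T = 𝟙 T := by rw [hv, lift_snd]
    have hvt : v ≫ t = lift (v ≫ t ≫ fst G T') f := by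
      apply CartesianMonoidalCategory.hom_ext
      · rw [lift_fst, Category.assoc]
      · rw [lift_snd, Category.assoc, h2, ← Category.assoc, hvs, Category.id_comp]
    have htop : t = (G ◁ lift (v ≫ t ≫ fst G T') f) ≫ (AlgSt.leftMul G T').act := by
      calc t = ((G ◁ v) ≫ (AlgSt.leftMul G T).act) ≫ t := by
            rw [hv, whisk_unit_leftMul, Category.id_comp]
        _ = (G ◁ v) ≫ (G ◁ t) ≫ (AlgSt.leftMul G T').act := by
            rw [Category.assoc]
            exact congrArg (fun m => (G ◁ v) ≫ m) heqv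
        _ = (G ◁ (v ≫ t)) ≫ (AlgSt.leftMul G T').act := by
            rw [MonoidalCategory.whiskerLeft_comp, Category.assoc]
        _ = _ := by rw [← hvt]
    refine ⟨v ≫ t ≫ fst G T', ?_, ?_⟩
    · have h3 : v ≫ t ≫ ((G ◁ x') ≫ aX.act) = v ≫ (G ◁ x) ≫ aX.act :=
        congrArg (fun m => v ≫ m) hwφ
      have h4 : v ≫ t ≫ ((G ◁ x') ≫ aX.act) = lift (v ≫ t ≫ fst G T') (f ≫ x') ≫ aX.act := by
        rw [← Category.assoc, hvt, ← Category.assoc]
        congr 1
        apply CartesianMonoidalCategory.hom_ext
        · simp only [Category.assoc, whiskerLeft_fst, lift_fst, lift_fst_assoc]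
        · simp only [Category.assoc, whiskerLeft_snd, lift_snd, lift_snd_assoc]
      have h5 : v ≫ (G ◁ x) ≫ aX.act = x := by
        have h6 : v ≫ (G ◁ x) = lift (toUnit T ≫ η[G]) x := by
          rw [hv]
          apply CartesianMonoidalCategory.hom_ext
          · simp only [Category.assoc, whiskerLeft_fst, lift_fst, lift_fst_assoc]
          · simp only [Category.assoc, whiskerLeft_snd, lift_snd, lift_snd_assoc, Category.id_comp]
        rw [← Category.assoc, h6, unit_lift_act]
      rw [← h4, h3, h5]
    · rw [← ht]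
      exact htop.trans (whisk_lift_leftMul G _ f)
  · intro g hg
    refine ⟨{ base := f
              top := lift (fst G T * (snd G T ≫ g)) (snd G T ≫ f)
              eqv := leftMul_lift_eqv G g f
              cart := isPullback_shearBy G g f
              wφ := ?_ }, rfl, rfl⟩
    change lift (fst G T * (snd G T ≫ g)) (snd G T ≫ f) ≫ ((G ◁ x') ≫ aX.act) = (G ◁ x) ≫ aX.act
    have h1 : lift (fst G T * (snd G T ≫ g)) (snd G T ≫ f) ≫ (G ◁ x') =
        lift (fst G T * (snd G T ≫ g)) (snd G T ≫ f ≫ x') := by
      apply CartesianMonoidalCategory.hom_ext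
      · simp only [Category.assoc, whiskerLeft_fst, lift_fst, lift_fst_assoc]
      · simp only [Category.assoc, whiskerLeft_snd, lift_snd, lift_snd_assoc]
    rw [← Category.assoc, h1, lift_mul_act, hg]

end Groth.Agent.S12838
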