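import Groth.Statements.S12762
import Mathlib
import Groth.Agent.Lib.Helper10.TB12
import Groth.Agent.Lib.Helper10.AlgStChartInt
import Groth.Agent.S12776

set_option autoImplicit false
open CategoryTheory AlgebraicGeometry
universe u
open AlgSt

namespace Groth.Agent.S12762

/-- (2) ⇔ (3): a 1-morphism `f : 𝒳 ⟶ 𝒴` of algebraic stacks over `S` is faithful (equivalently, faithful
on every fibre category) if and only if it is representable by algebraic spaces. -/
theorem result {S : Scheme.{u}} {𝒳 𝒴 : AlgSt.Cat S}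
    (h𝒳 : AlgSt.IsAlgStack Scheme.fppfPrecoverage 𝒳) (h𝒴 : AlgSt.IsAlgStack Scheme.fppfPrecoverage 𝒴) (f : 𝒳 ⥤ᵇ 𝒴) :
    f.toFunctor.Faithful ↔ AlgSt.RepByAlgSp1 f := by
  constructor
  · intro hfaith U y
    haveI := hfaith
    have hfp : AlgSt.IsAlgStack Scheme.fppfPrecoverage (FibCat.fp y f) :=
      Groth.Agent.Lib.Helper28.AlgSt.FpStack.isAlgStack_fp h𝒴.isStack h𝒴.diag
        (H10PT.isAlgStack_overCat U) h𝒳 y f
    have hset : FibCat.IsFibSetoid (FibCat.fp y f).p :=
      Groth.Agent.Lib.Helper28.AlgSt.Key.isFibSetoid_fp_left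
        (Groth.Agent.Lib.Helper10.AlgStRep.isFibSetoid_of_repByAlgSp
          (Groth.Agent.Lib.Helper28.AlgSt.DiagRep.repByAlgSp_overCat U))
        h𝒳.isStack.1 h𝒴.isStack.1 y f
    exact H10PT.Boot.repByAlgSp_of_isAlgStack_of_isFibSetoid hfp hset
  · intro hf
    exact Groth.Agent.S12776.result h𝒳.isStack.1 h𝒴.isStack.1 f hf

end Groth.Agent.S12762
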