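import Groth.Statements.S12840
import Mathlib
import Groth.Agent.S12762
import Groth.Agent.Lib.Helper10.AlgStRep
import Groth.Agent.Lib.Helper10.Fib2

set_option autoImplicit false
open CategoryTheory AlgebraicGeometry
universe u
open AlgSt

namespace Groth.Agent.S12840

set_option backward.isDefEq.respectTransparency false in
set_option backward.isDefEq.respectTransparency.types false in
open Opposite in
theorem mono_spMapOfOver_of_full {S : Scheme.{u}} {F : AlgSp.Sp S} {U : Over S}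
    (Φ : AlgSt.ofSp F ⥤ᵇ FibCat.overCat U) [Φ.toFunctor.Full] : Mono (AlgSt.spMapOfOver Φ) := by
  have hinj : ∀ T : (Over S)ᵒᵖ, Function.Injective ((AlgSt.spMapOfOver Φ).hom.app T) := by
    intro T x x' hxx
    have h0 : AlgSt.secHom Φ ⟨T.unop, x⟩ = AlgSt.secHom Φ ⟨T.unop, x'⟩ := congrArg ULift.down hxx
    let a : (AlgSt.ofSp F).obj := ⟨T.unop, x⟩
    let a' : (AlgSt.ofSp F).obj := ⟨T.unop, x'⟩
    have hk : eqToHom ((Φ.w_obj a).trans (Φ.w_obj a').symm) ≫ (Φ.obj a').hom = (Φ.obj a).hom := by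
      have h0' : eqToHom (Φ.w_obj a).symm ≫ (Φ.obj a).hom =
          eqToHom (Φ.w_obj a').symm ≫ (Φ.obj a').hom := h0
      have h8 := congrArg (fun t => eqToHom (Φ.w_obj a) ≫ t) h0'
      simp only [eqToHom_trans_assoc, eqToHom_refl, Category.id_comp] at h8
      exact h8.symm
    let k : Φ.obj a ⟶ Φ.obj a' :=
      Over.homMk (eqToHom ((Φ.w_obj a).trans (Φ.w_obj a').symm)) hk
    obtain ⟨ψ, hψ⟩ := Φ.toFunctor.map_surjective k
    have h2 : (Φ.map ψ).left = eqToHom (Φ.w_obj a) ≫ ψ.hom ≫ eqToHom (Φ.w_obj a').symm :=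
      IsHomLift.fac' (FibCat.overCat U).p ((AlgSt.ofSp F).p.map ψ) (Φ.map ψ)
    have h3 : ψ.hom = 𝟙 T.unop := by
      have h4 : (Φ.map ψ).left = eqToHom ((Φ.w_obj a).trans (Φ.w_obj a').symm) :=
        congrArg (fun t => t.left) hψ
      rw [h2] at h4
      have h5 := congrArg (fun t => eqToHom (Φ.w_obj a).symm ≫ t ≫ eqToHom (Φ.w_obj a')) h4
      simp only [Category.assoc, eqToHom_trans, eqToHom_refl, Category.comp_id,
        eqToHom_trans_assoc, Category.id_comp] at h5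
      exact h5
    have h6 : F.obj.map ψ.hom.op x' = x := ψ.map_sec
    rw [h3] at h6
    have h7 : F.obj.map (𝟙 T.unop).op x' = x' := by
      simp
    exact h6.symm.trans h7
  haveI : ∀ T, Mono ((AlgSt.spMapOfOver Φ).hom.app T) := fun T =>
    (mono_iff_injective _).2 (hinj T)
  haveI : Mono (AlgSt.spMapOfOver Φ).hom := NatTrans.mono_of_mono_app _
  exact Sheaf.Hom.mono_of_presheaf_mono _ _ _

set_option backward.isDefEq.respectTransparency false in
set_option backward.isDefEq.respectTransparency.types false in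
theorem fpFst_full {C : Type*} [Category C] {𝒴' 𝒳 𝒮 : BasedCategory C} (G : 𝒴' ⥤ᵇ 𝒮)
    (F : 𝒳 ⥤ᵇ 𝒮) [F.toFunctor.Full] : (FibCat.fpFst G F).toFunctor.Full := by
  refine ⟨fun {Z Z'} (k : Z.obj.fst ⟶ Z'.obj.fst) => ?_⟩
  obtain ⟨χ, hχ⟩ := F.toFunctor.map_surjective (Z.obj.iso.inv ≫ G.map k ≫ Z'.obj.iso.hom)
  have hw : G.map k ≫ Z'.obj.iso.hom = Z.obj.iso.hom ≫ F.map χ := by
    change _ = _ ≫ F.toFunctor.map χ
    rw [hχ, Iso.hom_inv_id_assoc]
  exact ⟨ObjectProperty.homMk ⟨k, χ, hw⟩, rfl⟩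

/-- (2) ⇒ (1): a 1-morphism `f : 𝒳 ⟶ 𝒴` of algebraic stacks over `S` which is fully faithful (its
underlying functor is full and faithful) is a monomorphism, i.e. representable by algebraic spaces
with every base change to a scheme a monomorphism of algebraic spaces. -/
theorem result {S : Scheme.{u}} {𝒳 𝒴 : AlgSt.Cat S}
    (h𝒳 : AlgSt.IsAlgStack Scheme.fppfPrecoverage 𝒳) (h𝒴 : AlgSt.IsAlgStack Scheme.fppfPrecoverage 𝒴)
    (f : 𝒳 ⥤ᵇ 𝒴) [f.toFunctor.Full] [f.toFunctor.Faithful] : AlgSt.IsMono f := by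
  have hrep : AlgSt.RepByAlgSp1 f := (Groth.Agent.S12762.result h𝒳 h𝒴 f).1 inferInstance
  intro U y
  obtain ⟨F, e, he⟩ := hrep U y
  refine ⟨F, e, he, ?_⟩
  haveI : e.toFunctor.IsEquivalence := Groth.Agent.Lib.Helper10.Fib.IsEquivOver.isEquivalence he
  haveI : (FibCat.fpFst y f).toFunctor.Full := fpFst_full y f
  haveI : (BasedFunctor.comp e (FibCat.fpFst y f)).toFunctor.Full := by
    change (e.toFunctor ⋙ (FibCat.fpFst y f).toFunctor).Full
    infer_instance
  exact mono_spMapOfOver_of_full _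

end Groth.Agent.S12840
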