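import Groth.Statements.S10338
import Groth.Agent.Lib.Helper16.FiniteFibres

set_option autoImplicit false
universe u
open CategoryTheory CategoryTheory.Limits AlgebraicGeometry Topology TopologicalSpace
open AlgSp

namespace Groth.Agent.S10338

/-- For a decent algebraic space X over a scheme S the topological space |X| is Kolmogorov (T0). -/
theorem result {S : Scheme.{u}} (X : AlgSp.Space S) (hX : AlgSp.IsDecent X.obj) :
    T0Space (AlgSp.Points X.obj) := by
  rw [t0Space_iff_inseparable]
  intro x y hxy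
  obtain ⟨hxy1, hyx1⟩ := inseparable_iff_specializes_and.1 hxy
  obtain ⟨U, b, hb, hbs⟩ := X.property.atlas
  obtain ⟨u, hu⟩ := Groth.Agent.Lib.Helper16.ofPt_surjective_of_surjective b hbs y
  obtain ⟨px, hpx, -, hqx⟩ := hX x
  obtain ⟨py, hpy, -, hqy⟩ := hX y
  obtain ⟨u', hu's, hu'x⟩ :=
    Groth.Agent.Lib.Helper16.exists_specializes_lift y x hxy1 px hpx hqx b hb u hu
  obtain ⟨u'', hu''s, hu''y⟩ :=
    Groth.Agent.Lib.Helper16.exists_specializes_lift x y hyx1 py hpy hqy b hb u' hu'x
  have h1 : u = u'' := Groth.Agent.Lib.Helper16.eq_of_specializes_of_isDecent hX b hb u u''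
    (hu.trans hu''y.symm) (hu''s.trans hu's)
  have h2 : u' = u := (hu's.antisymm (h1 ▸ hu''s)).eq
  rw [← hu'x, ← hu, h2]

end Groth.Agent.S10338
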