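import Groth.Statements.S9709

set_option autoImplicit false
universe u
open CategoryTheory CategoryTheory.Limits AlgebraicGeometry
open Mor

namespace Groth.Agent.S9709

/-- Let f : X ⟶ S be an integral morphism. Then every point x of X is closed in its fibre: a point of
f⁻¹(f x) specialising from x equals x. -/
theorem result {X S : Scheme.{u}} (f : X ⟶ S) [IsIntegralHom f] (x : X) :
    closure {x} ∩ f.base ⁻¹' {f.base x} = {x} := by
  apply Set.eq_singleton_iff_unique_mem.mpr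
  refine ⟨⟨subset_closure rfl, rfl⟩, ?_⟩
  rintro y ⟨hy1, hy2⟩
  have hxy : x ⤳ y := specializes_iff_mem_closure.mpr hy1
  obtain ⟨_, ⟨V, hV : IsAffineOpen V, rfl⟩, hyV, -⟩ :=
    S.isBasis_affineOpens.exists_subset_of_mem_open (Set.mem_univ (f.base y)) isOpen_univ
  have hU : IsAffineOpen (f ⁻¹ᵁ V) := hV.preimage f
  have hyU : y ∈ f ⁻¹ᵁ V := hyV
  have hxU : x ∈ f ⁻¹ᵁ V := hxy.mem_open (f ⁻¹ᵁ V).isOpen hyU
  have hle : hU.primeIdealOf ⟨x, hxU⟩ ≤ hU.primeIdealOf ⟨y, hyU⟩ := by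
    rw [PrimeSpectrum.le_iff_specializes]
    apply Specializes.map _ hU.isoSpec.hom.continuous
    exact (Topology.IsInducing.subtypeVal.specializes_iff).mp hxy
  have hcx := IsAffineOpen.comap_primeIdealOf_appLE V hV _ hU le_rfl hxU
  have hcy := IsAffineOpen.comap_primeIdealOf_appLE V hV _ hU le_rfl hyU
  have hint : (f.appLE V (f ⁻¹ᵁ V) le_rfl).hom.IsIntegral := by
    rw [Scheme.Hom.appLE_eq_app] 
    exact IsIntegralHom.isIntegral_app f V hV
  have heq : hU.primeIdealOf ⟨x, hxU⟩ = hU.primeIdealOf ⟨y, hyU⟩ := by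
    by_contra hne
    have hlt : (hU.primeIdealOf ⟨x, hxU⟩).asIdeal < (hU.primeIdealOf ⟨y, hyU⟩).asIdeal :=
      lt_of_le_of_ne hle (fun h => hne (PrimeSpectrum.ext h))
    algebraize [(f.appLE V (f ⁻¹ᵁ V) le_rfl).hom]
    have := Ideal.IsIntegral.comap_lt_comap (R := Γ(S, V)) hlt
    have e1 := congrArg PrimeSpectrum.asIdeal hcx
    have e2 := congrArg PrimeSpectrum.asIdeal hcy
    simp only [PrimeSpectrum.comap_asIdeal] at e1 e2
    have e3 : hV.primeIdealOf ⟨f x, le_rfl (a := f ⁻¹ᵁ V) hxU⟩ =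
        hV.primeIdealOf ⟨f y, le_rfl (a := f ⁻¹ᵁ V) hyU⟩ := by
      congr 1
      exact Subtype.ext hy2.symm
    rw [RingHom.algebraMap_toAlgebra, e1, e2, e3] at this
    exact lt_irrefl _ this
  have h1 := hU.fromSpec_primeIdealOf ⟨x, hxU⟩
  have h2 := hU.fromSpec_primeIdealOf ⟨y, hyU⟩
  rw [heq] at h1
  exact h2.symm.trans h1

end Groth.Agent.S9709
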