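import Groth.Statements.S9683
import Groth.Agent.S9709

set_option autoImplicit false
universe u
open CategoryTheory CategoryTheory.Limits AlgebraicGeometry
open Mor

namespace Groth.Agent.S9683

section Top

attribute [local instance] specializationOrder

variable {X Y : Type*} [TopologicalSpace X] [TopologicalSpace Y]

theorem topologicalKrullDim_eq_krullDim_points (X : Type*) [TopologicalSpace X] [QuasiSober X]
    [T0Space X] : topologicalKrullDim X = Order.krullDim X :=
  Order.krullDim_eq_of_orderIso irreducibleSetEquivPoints

theorem le_iff_specializes' (x y : X) [T0Space X] : x ≤ y ↔ y ⤳ x := Iff.rfl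

/-- If no nontrivial specialization happens within a fibre of a continuous map, then the
dimension of the source is at most that of the target. -/
theorem topologicalKrullDim_le_of_fibres_discrete [QuasiSober X] [T0Space X] [QuasiSober Y]
    [T0Space Y] (f : X → Y) (hf : Continuous f)
    (h : ∀ x x' : X, x ⤳ x' → f x = f x' → x = x') :
    topologicalKrullDim X ≤ topologicalKrullDim Y := by
  rw [topologicalKrullDim_eq_krullDim_points, topologicalKrullDim_eq_krullDim_points]
  apply Order.krullDim_le_of_strictMono f
  intro a b hab
  have hle : f a ≤ f b := Specializes.map hab.le hf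
  refine lt_of_le_of_ne hle ?_
  intro heq
  exact hab.ne (h b a hab.le heq.symm).symm

theorem exists_ltSeries_of_specializingMap [T0Space X] [T0Space Y] (f : X → Y)
    (hf : SpecializingMap f) (l : LTSeries Y) :
    ∀ x : X, f x = l.last → ∃ L : LTSeries X, L.length = l.length ∧ L.last = x := by
  induction l using RelSeries.inductionOn' with
  | singleton y =>
    intro x _
    exact ⟨RelSeries.singleton _ x, rfl, rfl⟩
  | snoc p y hp ih =>
    intro x hx
    rw [RelSeries.last_snoc] at hx
    have hlt : p.last < f x := hx ▸ hp
    obtain ⟨x', hx', hfx'⟩ := hf (show f x ⤳ p.last from hlt.le)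
    obtain ⟨L', hL', hlast⟩ := ih x' hfx'
    have hx'x : x' < x := by
      refine lt_of_le_of_ne hx' ?_
      rintro rfl
      rw [hfx'] at hlt
      exact lt_irrefl _ hlt
    refine ⟨L'.snoc x (by rw [hlast]; exact hx'x), ?_, ?_⟩
    · simp [hL']
    · simp

/-- A surjective specializing map (e.g. a surjective closed map) does not lower the dimension. -/
theorem topologicalKrullDim_le_of_specializingMap_surjective [QuasiSober X] [T0Space X]
    [QuasiSober Y] [T0Space Y] (f : X → Y) (hf : SpecializingMap f)
    (hs : Function.Surjective f) :
    topologicalKrullDim Y ≤ topologicalKrullDim X := by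
  rw [topologicalKrullDim_eq_krullDim_points, topologicalKrullDim_eq_krullDim_points]
  refine iSup_le fun l => ?_
  obtain ⟨x, hx⟩ := hs l.last
  obtain ⟨L, hL, -⟩ := exists_ltSeries_of_specializingMap f hf l x hx
  rw [← hL]
  exact Order.LTSeries.length_le_krullDim L

end Top

/-- For any integral morphism of schemes f : X ⟶ Y, the dimension of X is at most that of Y, and if f is
surjective then dim X = dim Y (dimensions of the underlying topological spaces). -/
theorem result {X Y : Scheme.{u}} (f : X ⟶ Y) [IsIntegralHom f] :
    topologicalKrullDim ↥X ≤ topologicalKrullDim ↥Y ∧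
      (Surjective f → topologicalKrullDim ↥X = topologicalKrullDim ↥Y) := by
  have h1 : topologicalKrullDim ↥X ≤ topologicalKrullDim ↥Y := by
    apply topologicalKrullDim_le_of_fibres_discrete f.base f.continuous
    intro x x' hxx' hf
    have := Groth.Agent.S9709.result f x
    have hmem : x' ∈ closure {x} ∩ f.base ⁻¹' {f.base x} :=
      ⟨hxx'.mem_closure, hf.symm⟩
    rw [this] at hmem
    exact hmem.symm
  refine ⟨h1, fun hs => le_antisymm h1 ?_⟩
  apply topologicalKrullDim_le_of_specializingMap_surjective f.base
  · exact (f.isClosedMap).specializingMap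
  · exact hs.surj

end Groth.Agent.S9683
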