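import Groth.Statements.S6731
import Mathlib
-- import your own Groth.Agent.* helpers here

set_option autoImplicit false
universe w v u
open CategoryTheory
open DEquiv

namespace Groth.Agent.S6731


section Helpers

variable {k : Type w} [Field k] {T : Type u} [Category.{v} T] [Preadditive T] [Linear k T]

/-- Serre duality data on an endofunctor -/
structure SD (k : Type w) [Field k] {T : Type u} [Category.{v} T] [Preadditive T] [Linear k T]
    (F : T ⥤ T) where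
  /-- the duality isomorphisms -/
  c : ∀ X Y : T, (X ⟶ Y) ≃ₗ[k] Module.Dual k (Y ⟶ F.obj X)
  h₁ : ∀ (X Y Y' : T) (f : X ⟶ Y) (g : Y ⟶ Y'),
    c X Y' (f ≫ g) = (c X Y f) ∘ₗ Linear.leftComp k (F.obj X) g
  h₂ : ∀ (X' X Y : T) (a : X' ⟶ X) (f : X ⟶ Y),
    c X' Y (a ≫ f) = (c X Y f) ∘ₗ Linear.rightComp k Y (F.map a)

namespace SD

variable {F F' : T ⥤ T} (D : SD k F) (D' : SD k F')

/-- the trace functional -/
def tr (X : T) : Module.Dual k (X ⟶ F.obj X) := D.c X X (𝟙 X)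

lemma c_eq (X Y : T) (f : X ⟶ Y) (h : Y ⟶ F.obj X) : D.c X Y f h = D.tr X (f ≫ h) := by
  have := LinearMap.congr_fun (D.h₁ X X Y (𝟙 X) f) h
  rw [Category.id_comp] at this
  exact this

lemma tr_map (X' X : T) (a : X' ⟶ X) (h : X ⟶ F.obj X') :
    D.tr X (h ≫ F.map a) = D.tr X' (a ≫ h) := by
  have := LinearMap.congr_fun (D.h₂ X' X X a (𝟙 X)) h
  rw [Category.comp_id, D.c_eq] at this
  exact this.symm

lemma nondeg (X Z : T) (ψ₁ ψ₂ : Z ⟶ F.obj X)
    (h : ∀ g : X ⟶ Z, D.tr X (g ≫ ψ₁) = D.tr X (g ≫ ψ₂)) : ψ₁ = ψ₂ := by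
  have h0 : ψ₁ - ψ₂ = 0 := by
    apply (Module.forall_dual_apply_eq_zero_iff k (ψ₁ - ψ₂)).1
    intro θ
    obtain ⟨g, rfl⟩ := (D.c X Z).surjective θ
    rw [map_sub, sub_eq_zero, D.c_eq, D.c_eq]
    exact h g
  exact sub_eq_zero.1 h0

variable [∀ X Y : T, Module.Finite k (X ⟶ Y)]

lemma exists_repr (X Z : T) (τ : Module.Dual k (X ⟶ Z)) :
    ∃ w : Z ⟶ F.obj X, ∀ v : X ⟶ Z, D.tr X (v ≫ w) = τ v := by
  refine ⟨(Module.evalEquiv k (Z ⟶ F.obj X)).symm (τ ∘ₗ (D.c X Z).symm.toLinearMap),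
    fun v => ?_⟩
  rw [← D.c_eq, Module.apply_evalEquiv_symm_apply]
  show τ ((D.c X Z).symm (D.c X Z v)) = τ v
  rw [LinearEquiv.symm_apply_apply]

/-- the comparison map -/
noncomputable def phi (X : T) : F.obj X ⟶ F'.obj X :=
  (D'.exists_repr X (F.obj X) (D.tr X)).choose

lemma phi_spec (X : T) (g : X ⟶ F.obj X) : D'.tr X (g ≫ phi D D' X) = D.tr X g :=
  (D'.exists_repr X (F.obj X) (D.tr X)).choose_spec g

lemma phi_phi (X : T) : phi D D' X ≫ phi D' D X = 𝟙 _ := by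
  apply D.nondeg X (F.obj X)
  intro g
  rw [← Category.assoc, phi_spec D' D, phi_spec D D', Category.comp_id]

lemma phi_nat (X' X : T) (a : X' ⟶ X) :
    F.map a ≫ phi D D' X = phi D D' X' ≫ F'.map a := by
  apply D'.nondeg X (F.obj X')
  intro g
  rw [← Category.assoc, phi_spec, D.tr_map, ← Category.assoc, D'.tr_map, ← Category.assoc,
    phi_spec]

/-- the comparison isomorphism -/
noncomputable def phiIso : F ≅ F' :=
  NatIso.ofComponents (fun X => ⟨phi D D' X, phi D' D X, phi_phi D D' X, phi_phi D' D X⟩)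
    (fun {X' X} a => phi_nat D D' X' X a)

lemma compat (X Y : T) (f : X ⟶ Y) :
    D.c X Y f = (D'.c X Y f) ∘ₗ Linear.rightComp k Y (phi D D' X) := by
  apply LinearMap.ext
  intro h
  show D.c X Y f h = D'.c X Y f (h ≫ phi D D' X)
  rw [D.c_eq, D'.c_eq, ← Category.assoc, phi_spec]

lemma uniq (φ : F ⟶ F')
    (hφ : ∀ (X Y : T) (f : X ⟶ Y),
      D.c X Y f = (D'.c X Y f) ∘ₗ Linear.rightComp k Y (φ.app X)) (X : T) :
    φ.app X = phi D D' X := by
  apply D'.nondeg X (F.obj X)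
  intro g
  rw [phi_spec]
  have := LinearMap.congr_fun (hφ X X (𝟙 X)) g
  exact this.symm

end SD

end Helpers

open CategoryTheory.Limits CategoryTheory.Pretriangulated in
/-- Let k be a field and T a k-linear triangulated category with dim_k Hom(X, Y) < ∞ for all X, Y. Let
(S, c) and (S', c') be Serre functors: k-linear equivalences T ⥤ T with k-linear isomorphisms
c_{X,Y} : Hom(X, Y) ≅ Hom(Y, S X)^∨ natural in X and Y (likewise c'). Then there is a unique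
isomorphism of functors φ : S ≅ S' compatible with c and c', i.e. c_{X,Y}(f) is c'_{X,Y}(f) composed
with postcomposition by φ_X. -/
theorem result
    {k : Type w} [Field k]
    {T : Type u} [Category.{v} T] [Preadditive T] [Linear k T] [HasZeroObject T] [HasShift T ℤ]
    [∀ n : ℤ, (shiftFunctor T n).Additive] [∀ n : ℤ, (shiftFunctor T n).Linear k] [Pretriangulated T]
    [IsTriangulated T] [∀ X Y : T, Module.Finite k (X ⟶ Y)]
    (S : T ≌ T) [S.functor.Additive] [S.functor.Linear k]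
    (c : ∀ X Y : T, (X ⟶ Y) ≃ₗ[k] Module.Dual k (Y ⟶ S.functor.obj X))
    (hc₁ : ∀ (X Y Y' : T) (f : X ⟶ Y) (g : Y ⟶ Y'),
      c X Y' (f ≫ g) = (c X Y f) ∘ₗ Linear.leftComp k (S.functor.obj X) g)
    (hc₂ : ∀ (X' X Y : T) (a : X' ⟶ X) (f : X ⟶ Y),
      c X' Y (a ≫ f) = (c X Y f) ∘ₗ Linear.rightComp k Y (S.functor.map a))
    (S' : T ≌ T) [S'.functor.Additive] [S'.functor.Linear k]
    (c' : ∀ X Y : T, (X ⟶ Y) ≃ₗ[k] Module.Dual k (Y ⟶ S'.functor.obj X))
    (hc'₁ : ∀ (X Y Y' : T) (f : X ⟶ Y) (g : Y ⟶ Y'),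
      c' X Y' (f ≫ g) = (c' X Y f) ∘ₗ Linear.leftComp k (S'.functor.obj X) g)
    (hc'₂ : ∀ (X' X Y : T) (a : X' ⟶ X) (f : X ⟶ Y),
      c' X' Y (a ≫ f) = (c' X Y f) ∘ₗ Linear.rightComp k Y (S'.functor.map a)) :
    ∃! φ : S.functor ≅ S'.functor, ∀ (X Y : T) (f : X ⟶ Y),
      c X Y f = (c' X Y f) ∘ₗ Linear.rightComp k Y (φ.hom.app X) := by
  let D : SD k S.functor := ⟨c, hc₁, hc₂⟩
  let D' : SD k S'.functor := ⟨c', hc'₁, hc'₂⟩
  refine ⟨SD.phiIso D D', fun X Y f => SD.compat D D' X Y f, fun ψ hψ => ?_⟩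
  apply Iso.ext
  apply NatTrans.ext
  funext X
  exact SD.uniq D D' ψ.hom hψ X

end Groth.Agent.S6731
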