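import Groth.Statements.S5331
import Mathlib

set_option autoImplicit false
universe u
open CategoryTheory CategoryTheory.Limits MonoidalCategory CartesianMonoidalCategory MonObj GrpObj AlgebraicGeometry
open SGA3

namespace Groth.Agent.S5331

/-- The diagonal of a group object is the pullback of the unit along the division map. -/
theorem isPullback_diag_unit {C : Type*} [Category C] [CartesianMonoidalCategory C] (G : C)
    [GrpObj G] :
    IsPullback (lift (𝟙 G) (𝟙 G)) (toUnit G) ((fst G G)⁻¹ * snd G G) η[G] := by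
  have w : lift (𝟙 G) (𝟙 G) ≫ ((fst G G)⁻¹ * snd G G) = toUnit G ≫ η[G] := by
    rw [MonObj.comp_mul, GrpObj.comp_inv, lift_fst, lift_snd, inv_mul_cancel, Hom.one_def]
  have key : ∀ s : PullbackCone ((fst G G)⁻¹ * snd G G) η[G],
      s.fst ≫ fst G G = s.fst ≫ snd G G := by
    intro s
    have h1 := s.condition
    rw [MonObj.comp_mul, GrpObj.comp_inv, toUnit_unique s.snd (toUnit _), ← Hom.one_def] at h1
    exact inv_mul_eq_one.mp h1
  refine ⟨⟨w⟩, ⟨PullbackCone.IsLimit.mk w (fun s => s.fst ≫ fst G G) ?_ ?_ ?_⟩⟩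
  · intro s
    apply CartesianMonoidalCategory.hom_ext
    · rw [Category.assoc, lift_fst, Category.comp_id]
    · rw [Category.assoc, lift_snd, Category.comp_id]
      exact key s
  · intro s
    exact toUnit_unique _ _
  · intro s m hm _
    rw [← hm, Category.assoc, lift_fst, Category.comp_id]

/-- Let S be a scheme whose underlying topological space is discrete. Then every S-group scheme is
separated over S. -/
theorem result (S : Scheme.{u}) [DiscreteTopology S] (G : Over S) [GrpObj G] :
    IsSeparated G.hom := by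

  have hη : η[G].left ≫ G.hom = 𝟙 S := by
    have := Over.w η[G]
    simpa using this
  haveI hcl : IsClosedImmersion η[G].left := by
    let e : S ⟶ G.left := η[G].left
    let U : S → G.left.Opens := fun s => G.hom ⁻¹ᵁ ⟨{s}, isOpen_discrete _⟩
    have hU : iSup U = ⊤ := by
      rw [eq_top_iff]
      intro g _
      rw [TopologicalSpace.Opens.mem_iSup]
      exact ⟨G.hom g, rfl⟩
    show IsClosedImmersion e
    rw [IsZariskiLocalAtTarget.iff_of_iSup_eq_top (P := @IsClosedImmersion) U hU]
    intro s
    set W : S.Opens := e ⁻¹ᵁ U s with hWdef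
    have hW : ∀ x : S, x ∈ W ↔ x = s := by
      intro x
      show G.hom (e x) ∈ ({s} : Set S) ↔ _
      rw [← Scheme.Hom.comp_apply, hη]
      rfl
    haveI : Subsingleton ↥(W : Scheme) := ⟨fun a b => W.ι.isOpenEmbedding.injective (by
      have ha : W.ι a ∈ (W : Set S) := (Scheme.Opens.range_ι W) ▸ Set.mem_range_self a
      have hb : W.ι b ∈ (W : Set S) := (Scheme.Opens.range_ι W) ▸ Set.mem_range_self b
      exact ((hW _).mp ha).trans ((hW _).mp hb).symm)⟩
    have hrange : Set.range ((U s).ι ≫ G.hom) ⊆ Set.range W.ι := by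
      rintro _ ⟨x, rfl⟩
      rw [Scheme.Opens.range_ι]
      show ((U s).ι ≫ G.hom) x ∈ W
      rw [hW, Scheme.Hom.comp_apply]
      have hx : (U s).ι x ∈ ((U s : G.left.Opens) : Set G.left) :=
        (Scheme.Opens.range_ι (U s)) ▸ Set.mem_range_self x
      exact hx
    let r : (U s : Scheme) ⟶ (W : Scheme) := IsOpenImmersion.lift W.ι ((U s).ι ≫ G.hom) hrange
    have hr : (e ∣_ U s) ≫ r = 𝟙 _ := by
      rw [← cancel_mono W.ι, Category.assoc, IsOpenImmersion.lift_fac, ← Category.assoc,
        morphismRestrict_ι, Category.assoc, hη, Category.comp_id, Category.id_comp]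
    exact isClosedImmersion_of_comp_eq_id r (e ∣_ U s) hr
  have hpb := (isPullback_diag_unit G).map (Over.forget S)
  haveI : IsClosedImmersion ((Over.forget S).map (lift (𝟙 G) (𝟙 G))) :=
    MorphismProperty.of_isPullback (P := @IsClosedImmersion) hpb.flip hcl
  have hdiag : pullback.diagonal G.hom = (lift (𝟙 G) (𝟙 G)).left := by
    have hl : (lift (𝟙 G) (𝟙 G)).left = pullback.lift (𝟙 G.left) (𝟙 G.left) rfl := rfl
    rw [hl]
    rfl
  exact ⟨by rw [hdiag]; exact this⟩

end Groth.Agent.S5331
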