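import Groth.Statements.S7402
import Groth.Agent.Lib.Helper11.UHAdjoin

set_option autoImplicit false
universe u
open CategoryTheory AlgebraicGeometry
open Polynomial
open Mor

namespace Groth.Agent.S7402

open Groth.Agent.Lib.Helper11.UHRing

/-- Let `A` be a ring and `x, y ∈ A` with `x^3 = y^2`. Then `A → B = A[t]/(t^2 - x, t^3 - y)` induces a
universal homeomorphism on spectra and isomorphisms on residue fields. -/
theorem result (A : Type u) [CommRing A] (x y : A) (h : x ^ 3 = y ^ 2) :
    FlatMor.IsUnivHomeo (Spec.map (CommRingCat.ofHom (algebraMap A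
      (A[X] ⧸ Ideal.span ({X ^ 2 - C x, X ^ 3 - C y} : Set A[X]))))) ∧
    ∀ q : Spec (CommRingCat.of (A[X] ⧸ Ideal.span ({X ^ 2 - C x, X ^ 3 - C y} : Set A[X]))),
      Function.Surjective ((Spec.map (CommRingCat.ofHom (algebraMap A
        (A[X] ⧸ Ideal.span ({X ^ 2 - C x, X ^ 3 - C y} : Set A[X]))))).residueFieldMap q) := by
  set S : Set A[X] := {X ^ 2 - C x, X ^ 3 - C y} with hS
  have hmem2 : X ^ 2 - C x ∈ S := by simp [hS]
  have hmem3 : X ^ 3 - C y ∈ S := by simp [hS]
  have hUH : UH (algebraMap A (A[X] ⧸ Ideal.span S)) := by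
    apply UH_adjoin
    · exact ⟨X ^ 2 - C x, Ideal.subset_span hmem2, monic_X_pow_sub_C x (by norm_num)⟩
    · intro 𝔭
      set K := 𝔭.asIdeal.ResidueField
      set j : A →+* K := algebraMap A K
      have hxy : j x ^ 3 = j y ^ 2 := by rw [← map_pow, ← map_pow, h]
      have hker : RingHom.ker j ≤ 𝔭.asIdeal := by
        rw [Ideal.ker_algebraMap_residueField]
      by_cases hx : j x = 0
      · have hy : j y = 0 := by
          have : j y ^ 2 = 0 := by rw [← hxy, hx]; ring
          exact pow_eq_zero_iff (by norm_num) |>.mp this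
        refine ⟨K, inferInstance, j, 0, hker, ?_⟩
        intro f hf
        rcases hf with rfl | rfl
        · simp [hx]
        · simp [hy]
      · refine ⟨K, inferInstance, j, j y / j x, hker, ?_⟩
        intro f hf
        rcases hf with rfl | rfl
        · simp only [eval₂_sub, eval₂_pow, eval₂_X, eval₂_C]
          rw [div_pow, ← hxy, sub_eq_zero, div_eq_iff (pow_ne_zero 2 hx)]
          ring
        · simp only [eval₂_sub, eval₂_pow, eval₂_X, eval₂_C]
          rw [div_pow]
          have : j y ^ 3 = j y * j x ^ 3 := by rw [hxy]; ring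
          rw [this, sub_eq_zero, div_eq_iff (pow_ne_zero 3 hx)]
    · intro K _ j τ₁ τ₂ h1 h2
      have e1 := h1 _ hmem2
      have e1' := h1 _ hmem3
      have e2 := h2 _ hmem2
      have e2' := h2 _ hmem3
      simp only [eval₂_sub, eval₂_pow, eval₂_X, eval₂_C, sub_eq_zero] at e1 e1' e2 e2'
      by_cases hx : j x = 0
      · rw [hx] at e1 e2
        rw [pow_eq_zero_iff (by norm_num) |>.mp e1, pow_eq_zero_iff (by norm_num) |>.mp e2]
      · have f1 : τ₁ * j x = j y := by rw [← e1, ← e1']; ring
        have f2 : τ₂ * j x = j y := by rw [← e2, ← e2']; ring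
        exact mul_right_cancel₀ hx (f1.trans f2.symm)
  refine ⟨(isUnivHomeo_SpecMap_iff _).mpr hUH, ?_⟩
  rw [residueFieldMap_surjective_iff, resTriv_iff_resAlg]
  set I := Ideal.span S
  set t : A[X] ⧸ I := Ideal.Quotient.mk I X with ht
  intro q
  have ht2 : t ^ 2 = algebraMap A (A[X] ⧸ I) x := by
    have : Ideal.Quotient.mk I (X ^ 2 - C x) = 0 :=
      Ideal.Quotient.eq_zero_iff_mem.mpr (Ideal.subset_span hmem2)
    rw [map_sub, map_pow, sub_eq_zero] at this
    exact this
  have ht3 : t ^ 3 = algebraMap A (A[X] ⧸ I) y := by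
    have : Ideal.Quotient.mk I (X ^ 3 - C y) = 0 :=
      Ideal.Quotient.eq_zero_iff_mem.mpr (Ideal.subset_span hmem3)
    rw [map_sub, map_pow, sub_eq_zero] at this
    exact this
  have htmem : t ∈ resAlg (A := A) q.asIdeal := by
    by_cases hx : algebraMap A (A[X] ⧸ I) x ∈ q.asIdeal
    · have htq : t ∈ q.asIdeal := by
        rw [← ht2] at hx
        exact Ideal.IsPrime.mem_of_pow_mem inferInstance 2 hx
      refine ⟨0, 1, ?_, ?_⟩
      · rw [map_one]
        exact fun h => q.isPrime.ne_top ((Ideal.eq_top_iff_one _).mpr h)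
      · simpa using htq
    · refine ⟨y, x, hx, ?_⟩
      rw [← ht2, ← ht3]
      have : t ^ 2 * t - t ^ 3 = 0 := by ring
      rw [this]; exact q.asIdeal.zero_mem
  rw [eq_top_iff, ← adjoin_mk_X_eq_top I]
  refine Algebra.adjoin_le ?_
  intro b hb
  rw [Set.mem_singleton_iff] at hb
  rw [hb]
  exact htmem

end Groth.Agent.S7402
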