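import Groth.Statements.S7403
import Groth.Agent.Lib.Helper11.UHAdjoin

set_option autoImplicit false
universe u
open CategoryTheory AlgebraicGeometry
open Polynomial
open Mor

namespace Groth.Agent.S7403

open Groth.Agent.Lib.Helper11.UHRing

/-- Let `A` be a ring, `p` a prime number and `x, y ∈ A` with `p^p x = y^p`. Then `A → B = A[t]/(t^p -
x, p t - y)` induces a universal homeomorphism on spectra. -/
theorem result (A : Type u) [CommRing A] (p : ℕ) (hp : p.Prime) (x y : A)
    (h : (p : A) ^ p * x = y ^ p) :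
    FlatMor.IsUnivHomeo (Spec.map (CommRingCat.ofHom (algebraMap A
      (A[X] ⧸ Ideal.span ({X ^ p - C x, C (p : A) * X - C y} : Set A[X]))))) := by
  set S : Set A[X] := {X ^ p - C x, C (p : A) * X - C y} with hS
  have hmem2 : X ^ p - C x ∈ S := by simp [hS]
  have hmem3 : C (p : A) * X - C y ∈ S := by simp [hS]
  rw [isUnivHomeo_SpecMap_iff]
  apply UH_adjoin
  · exact ⟨X ^ p - C x, Ideal.subset_span hmem2, monic_X_pow_sub_C x hp.ne_zero⟩
  · intro 𝔭
    set K := AlgebraicClosure 𝔭.asIdeal.ResidueField
    set j : A →+* K := algebraMap A K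
    have hjp : j (p : A) = (p : K) := map_natCast j p
    have hxy : (p : K) ^ p * j x = j y ^ p := by
      rw [← hjp, ← map_pow, ← map_pow, ← map_mul, h]
    have hker : RingHom.ker j ≤ 𝔭.asIdeal := by
      intro a ha
      have h2 : algebraMap A K a = 0 := ha
      rw [IsScalarTower.algebraMap_apply A 𝔭.asIdeal.ResidueField K] at h2
      have h3 := (map_eq_zero_iff _ (algebraMap 𝔭.asIdeal.ResidueField K).injective).mp h2
      exact Ideal.algebraMap_residueField_eq_zero.mp h3
    by_cases hpK : (p : K) = 0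
    · have hy : j y = 0 := by
        have : j y ^ p = 0 := by rw [← hxy, hpK, zero_pow hp.ne_zero, zero_mul]
        exact pow_eq_zero_iff hp.ne_zero |>.mp this
      obtain ⟨τ, hτ⟩ := IsAlgClosed.exists_pow_nat_eq (j x) hp.pos
      refine ⟨K, inferInstance, j, τ, hker, ?_⟩
      intro f hf
      rcases hf with rfl | rfl
      · simp [hτ]
      · simp [hy, hjp, hpK]
    · refine ⟨K, inferInstance, j, j y / (p : K), hker, ?_⟩
      intro f hf
      rcases hf with rfl | rfl
      · simp only [eval₂_sub, eval₂_pow, eval₂_X, eval₂_C]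
        rw [div_pow, ← hxy, sub_eq_zero, div_eq_iff (pow_ne_zero p hpK)]
        ring
      · simp only [eval₂_sub, eval₂_mul, eval₂_X, eval₂_C, hjp]
        rw [mul_div_cancel₀ _ hpK, sub_self]
  · intro K _ j τ₁ τ₂ h1 h2
    have hjp : j (p : A) = (p : K) := map_natCast j p
    have e1 := h1 _ hmem2
    have e1' := h1 _ hmem3
    have e2 := h2 _ hmem2
    have e2' := h2 _ hmem3
    simp only [eval₂_sub, eval₂_pow, eval₂_mul, eval₂_X, eval₂_C, sub_eq_zero, hjp] at e1 e1' e2 e2'
    by_cases hpK : (p : K) = 0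
    · haveI : Fact p.Prime := ⟨hp⟩
      haveI : CharP K p := by
        rw [CharP.charP_iff_prime_eq_zero hp]; exact hpK
      apply frobenius_inj K p
      rw [frobenius_def, frobenius_def, e1, e2]
    · exact mul_left_cancel₀ hpK (e1'.trans e2'.symm)

end Groth.Agent.S7403
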