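import Groth.Statements.S7419
import Groth.Agent.Lib.Helper11.RootsSheaf

set_option autoImplicit false
universe u
open CategoryTheory AlgebraicGeometry
open HTop

namespace Groth.Agent.S7419

open Groth.Agent.Lib.Helper11.Roots

/-- Being absolutely weakly normal is a local property of rings: it passes to the localizations `A_f`,
and if `f_1, …, f_n` generate the unit ideal of `A` and each `A_{f_i}` is absolutely weakly normal
then so is `A`. -/
theorem result :
    (∀ (A : Type u) [CommRing A] (f : A), HTop.IsAWNRing A → HTop.IsAWNRing (Localization.Away f)) ∧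
    ∀ (A : Type u) [CommRing A] (s : Finset A), Ideal.span (s : Set A) = ⊤ →
      (∀ f ∈ s, HTop.IsAWNRing (Localization.Away f)) → HTop.IsAWNRing A := by
  refine ⟨?_, ?_⟩
  · intro A _ f h
    rw [isAWNRing_iff] at h ⊢
    exact ⟨h.1.localization (Submonoid.powers f) (by norm_num) (by norm_num),
      fun p hp => (h.2 p hp).localization (Submonoid.powers f) hp.pos (by norm_num)⟩
  · intro A _ s hs h
    rw [isAWNRing_iff]
    exact ⟨hasRoots_of_span s hs (by norm_num) (by norm_num)
        fun f hf => ((isAWNRing_iff _).mp (h f hf)).1,
      fun p hp => hasRoots_of_span s hs hp.pos (by norm_num)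
        fun f hf => ((isAWNRing_iff _).mp (h f hf)).2 p hp⟩

end Groth.Agent.S7419
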