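import Groth.Statements.S7422
import Groth.Agent.Lib.Helper11.UHSub

set_option autoImplicit false
universe u
open CategoryTheory AlgebraicGeometry
open HTop

namespace Groth.Agent.S7422

open Groth.Agent.Lib.Helper11.UHRing

/-- the big ring: product of algebraic closures of all residue fields. -/
abbrev Om (A : Type u) [CommRing A] : Type u :=
  ∀ p : PrimeSpectrum A, AlgebraicClosure p.asIdeal.ResidueField

theorem ker_Om_le (A : Type u) [CommRing A] :
    RingHom.ker (algebraMap A (Om A)) ≤ nilradical A := by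
  intro a ha
  rw [nilradical_eq_sInf, Ideal.mem_sInf]
  intro P hP
  haveI : P.IsPrime := hP
  have h1 := congrFun (show algebraMap A (Om A) a = 0 from ha) ⟨P, hP⟩
  have h2 : algebraMap A (AlgebraicClosure P.ResidueField) a = 0 := h1
  rw [IsScalarTower.algebraMap_apply A P.ResidueField (AlgebraicClosure P.ResidueField)] at h2
  have h3 := (map_eq_zero_iff _ (algebraMap P.ResidueField
    (AlgebraicClosure P.ResidueField)).injective).mp h2
  exact Ideal.algebraMap_residueField_eq_zero.mp h3

theorem exists_lift {A C : Type u} [CommRing A] [CommRing C] (ψ : A →+* C) (hψ : UH ψ)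
    (p : PrimeSpectrum A) :
    ∃ g : C →+* AlgebraicClosure p.asIdeal.ResidueField,
      g.comp ψ = algebraMap A (AlgebraicClosure p.asIdeal.ResidueField) := by
  obtain ⟨q, hq⟩ := hψ.bijective_comap.2 p
  algebraize [ψ]
  haveI : q.asIdeal.LiesOver p.asIdeal := ⟨by rw [← hq]; rfl⟩
  haveI : Algebra.IsIntegral A C := ⟨hψ.integral⟩
  let M := AlgebraicClosure p.asIdeal.ResidueField
  haveI : FaithfulSMul (A ⧸ p.asIdeal) M := by
    rw [faithfulSMul_iff_algebraMap_injective]
    rw [IsScalarTower.algebraMap_eq (A ⧸ p.asIdeal) p.asIdeal.ResidueField M]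
    exact (algebraMap p.asIdeal.ResidueField M).injective.comp
      (IsFractionRing.injective (A ⧸ p.asIdeal) p.asIdeal.ResidueField)
  let l : (C ⧸ q.asIdeal) →ₐ[A ⧸ p.asIdeal] M := IsAlgClosed.lift
  refine ⟨l.toRingHom.comp (Ideal.Quotient.mk q.asIdeal), ?_⟩
  ext a
  show l (Ideal.Quotient.mk q.asIdeal (algebraMap A C a)) = algebraMap A M a
  have h1 : Ideal.Quotient.mk q.asIdeal (algebraMap A C a) =
      algebraMap (A ⧸ p.asIdeal) (C ⧸ q.asIdeal) (Ideal.Quotient.mk p.asIdeal a) := by
    rw [Ideal.Quotient.algebraMap_mk_of_liesOver]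
  rw [h1, l.commutes]
  rw [IsScalarTower.algebraMap_apply A (A ⧸ p.asIdeal) M]
  rfl

/-- Every ring `A` has an absolute weak normalization: a ring map `A → A^awn` which induces a universal
homeomorphism on spectra and is final among ring maps out of `A` with this property. -/
theorem result (A : Type u) [CommRing A] :
    ∃ (B : Type u) (_ : CommRing B) (φ : A →+* B), HTop.IsRingAWN φ := by
  have hker := ker_Om_le A
  let B' : Subalgebra A (Om A) := sSup {C' : Subalgebra A (Om A) | UH (algebraMap A C')}
  have hB' : UH (algebraMap A B') := UH.of_sSup _ (fun C' hC' => hC') hker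
  refine ⟨B', inferInstance, algebraMap A B', (isUnivHomeo_SpecMap_iff _).mpr hB', ?_⟩
  intro C _ ψ hψ
  rw [isUnivHomeo_SpecMap_iff] at hψ
  -- uniqueness
  have huniq : ∀ χ₁ χ₂ : C →+* B', χ₁.comp ψ = algebraMap A B' → χ₂.comp ψ = algebraMap A B' →
      χ₁ = χ₂ := by
    intro χ₁ χ₂ h1 h2
    refine RingHom.ext fun c => ?_
    apply Subtype.ext
    funext p
    have := hψ.inj _ (((Pi.evalRingHom _ p).comp B'.val.toRingHom).comp χ₁)
      (((Pi.evalRingHom _ p).comp B'.val.toRingHom).comp χ₂) (by
        ext a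
        have e1 := RingHom.congr_fun h1 a
        have e2 := RingHom.congr_fun h2 a
        simp only [RingHom.comp_apply] at e1 e2 ⊢
        rw [e1, e2])
    exact RingHom.congr_fun this c
  -- existence
  choose g hg using fun p => exists_lift ψ hψ p
  algebraize [ψ]
  let G : C →ₐ[A] Om A :=
    { RingHom.pi g with
      commutes' := by
        intro a
        funext p
        exact RingHom.congr_fun (hg p) a }
  have hGle : G.range ≤ B' := le_sSup (UH.of_range G hψ hker)
  let χ : C →ₐ[A] B' := G.codRestrict B' (fun c => hGle ⟨c, rfl⟩)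
  refine ⟨χ.toRingHom, ?_, ?_⟩
  · exact RingHom.ext fun a => χ.commutes a
  · intro χ' hχ'
    refine huniq χ' χ.toRingHom hχ' ?_
    exact RingHom.ext fun a => χ.commutes a

end Groth.Agent.S7422
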