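import Groth.Statements.S7420
import Groth.Agent.Lib.Helper11.RootsSheaf

set_option autoImplicit false
universe u
open CategoryTheory AlgebraicGeometry
open HTop

namespace Groth.Agent.S7420

open Groth.Agent.Lib.Helper11.Roots

/-- A scheme `X` is seminormal if and only if `O_X(U)` is seminormal for every affine open `U ⊆ X`; the
same holds with 'seminormal' replaced by 'absolutely weakly normal'. -/
theorem result (X : Scheme.{u}) :
    (HTop.IsSeminormal X ↔ ∀ U : X.affineOpens, HTop.IsSeminormalRing Γ(X, U)) ∧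
    (HTop.IsAWN X ↔ ∀ U : X.affineOpens, HTop.IsAWNRing Γ(X, U)) := by
  refine ⟨⟨?_, ?_⟩, ⟨?_, ?_⟩⟩
  · intro h U
    rw [isSeminormalRing_iff]
    exact hasRoots_of_local X (by norm_num) (by norm_num)
      (fun x => by
        obtain ⟨U, hxU, hU⟩ := h x
        exact ⟨U, hxU, (isSeminormalRing_iff _).mp hU⟩) U
  · intro h x
    obtain ⟨W, hW, hxW, -⟩ := exists_isAffineOpen_mem_and_subset (x := x) (U := ⊤) trivial
    exact ⟨⟨W, hW⟩, hxW, h ⟨W, hW⟩⟩
  · intro h U
    rw [isAWNRing_iff]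
    refine ⟨hasRoots_of_local X (by norm_num) (by norm_num)
      (fun x => by
        obtain ⟨U, hxU, hU⟩ := h x
        exact ⟨U, hxU, ((isAWNRing_iff _).mp hU).1⟩) U, fun p hp => ?_⟩
    exact hasRoots_of_local X hp.pos (by norm_num)
      (fun x => by
        obtain ⟨U, hxU, hU⟩ := h x
        exact ⟨U, hxU, ((isAWNRing_iff _).mp hU).2 p hp⟩) U
  · intro h x
    obtain ⟨W, hW, hxW, -⟩ := exists_isAffineOpen_mem_and_subset (x := x) (U := ⊤) trivial
    exact ⟨⟨W, hW⟩, hxW, h ⟨W, hW⟩⟩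

end Groth.Agent.S7420
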