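import Groth.Statements.S5342
import Mathlib
import Groth.Agent.Lib.Helper11.GalConn

set_option autoImplicit false
universe u
open CategoryTheory CategoryTheory.Limits MonoidalCategory CartesianMonoidalCategory MonObj GrpObj AlgebraicGeometry
open SGA3

namespace Groth.Agent.S5342

/-- Let X and Y be connected schemes over a field k such that X has a k-rational point (a section of X →
Spec k). Then X ×_k Y is connected. -/
theorem result (k : Type u) [Field k] (X Y : Scheme.{u})
    (f : X ⟶ Spec (CommRingCat.of k)) (g : Y ⟶ Spec (CommRingCat.of k)) [ConnectedSpace X] [ConnectedSpace Y]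
    (x : Spec (CommRingCat.of k) ⟶ X) (hx : x ≫ f = 𝟙 _) : ConnectedSpace ↥(pullback f g) := by

  haveI : Subsingleton ↥(Spec (CommRingCat.of k)) :=
    inferInstanceAs (Subsingleton (PrimeSpectrum k))
  haveI : UniversallyOpen f := inferInstance
  let F := SeparableClosure k
  let a : Spec (CommRingCat.of F) ⟶ Spec (CommRingCat.of k) :=
    Spec.map (CommRingCat.ofHom (algebraMap k F))
  haveI : Subsingleton ↥(Spec (CommRingCat.of F)) :=
    inferInstanceAs (Subsingleton (PrimeSpectrum F))
  haveI : Nonempty ↥(Spec (CommRingCat.of F)) :=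
    inferInstanceAs (Nonempty (PrimeSpectrum F))
  haveI : Nonempty ↥(Spec (CommRingCat.of k)) :=
    inferInstanceAs (Nonempty (PrimeSpectrum k))
  haveI : UniversallyOpen a := inferInstance
  haveI : IsIntegralHom a := by
    rw [IsIntegralHom.SpecMap_iff]
    exact algebraMap_isIntegral_iff.mpr inferInstance
  haveI : Surjective a := ⟨fun y => ⟨Classical.arbitrary _, Subsingleton.elim _ _⟩⟩
  let π : pullback f a ⟶ X := pullback.fst f a
  haveI : UniversallyOpen π := inferInstance
  haveI : IsIntegralHom π := MorphismProperty.pullback_fst (P := @IsIntegralHom) f a ‹_›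
  haveI : Surjective π := MorphismProperty.pullback_fst (P := @Surjective) f a ‹_›
  -- the fibre over the rational point is a single point
  let pt : ↥(Spec (CommRingCat.of k)) := Classical.arbitrary _
  let x₀ : X := x pt
  haveI hP : Subsingleton ↥(pullback x π) := by
    let e1 : pullback x π ≅ pullback (x ≫ f) a := pullbackRightPullbackFstIso f a x
    haveI : IsIso (x ≫ f) := by rw [hx]; infer_instance
    let e2 : pullback (x ≫ f) a ≅ Spec (CommRingCat.of F) := asIso (pullback.snd (x ≫ f) a)
    exact (Scheme.homeoOfIso (e1 ≪≫ e2)).injective.subsingleton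
  have huniq : ∀ z z' : ↥(pullback f a), π z = x₀ → π z' = x₀ → z = z' := by
    intro z z' hz hz'
    obtain ⟨w, hw1, hw2⟩ := Scheme.Pullback.exists_preimage_pullback (f := x) (g := π) pt z hz.symm
    obtain ⟨w', hw1', hw2'⟩ :=
      Scheme.Pullback.exists_preimage_pullback (f := x) (g := π) pt z' hz'.symm
    rw [← hw2, ← hw2', Subsingleton.elim w w']
  obtain ⟨z₀, hz₀⟩ := π.surjective x₀
  have hkey : ∀ T : Set ↥(pullback f a), IsClopen T → T.Nonempty → z₀ ∈ T := by
    intro T hT hne
    have h1 : IsClopen (π '' T) := ⟨π.isClosedMap _ hT.1, π.isOpenMap _ hT.2⟩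
    have h2 : π '' T = Set.univ := h1.eq_univ (hne.image _)
    have h3 : x₀ ∈ π '' T := by rw [h2]; trivial
    obtain ⟨z', hz'T, hz'⟩ := h3
    rw [huniq z₀ z' hz₀ hz']
    exact hz'T
  haveI hconnF : ConnectedSpace ↥(pullback f a) := by
    haveI : PreconnectedSpace ↥(pullback f a) := by
      rw [preconnectedSpace_iff_clopen]
      intro T hT
      by_cases hz : z₀ ∈ T
      · right
        by_contra hne
        have hne' : (Tᶜ).Nonempty := by
          rw [Set.nonempty_compl]
          exact hne
        exact (hkey _ hT.compl hne') hz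
      · left
        by_contra hne
        exact hz (hkey T hT (Set.nonempty_iff_ne_empty.mpr hne))
    exact { toPreconnectedSpace := inferInstance, toNonempty := ⟨z₀⟩ }
  haveI : ConnectedSpace ↥(FBase.bc f F) := hconnF
  haveI hgc : GeometricallyConnected f :=
    Groth.Agent.Lib.Helper11.GalConn.geometricallyConnected_of_isSepClosed f F
  let p₂ : pullback f g ⟶ Y := pullback.snd f g
  haveI : GeometricallyConnected p₂ := inferInstance
  haveI : UniversallyOpen p₂ := inferInstance
  haveI : Surjective p₂ := inferInstance
  have hq : Topology.IsQuotientMap p₂ :=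
    p₂.isOpenMap.isQuotientMap p₂.continuous p₂.surjective
  have hconn : _root_.IsConnected (p₂ ⁻¹' Set.univ) :=
    hq.isCoinducing.isConnected_preimage_of_isClosed
      (fun y => p₂.isConnected_preimage_singleton y) isClosed_univ isConnected_univ
  rw [Set.preimage_univ] at hconn
  exact connectedSpace_iff_univ.mpr hconn

end Groth.Agent.S5342
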