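import Groth.Statements.S5019
import Mathlib
import Groth.Agent.Lib.Helper1.DerSmooth
import Groth.Agent.Lib.Helper22.SmoothRelDim2
import Groth.Agent.Lib.Helper3.SecLoc

set_option autoImplicit false
universe u
open CategoryTheory CategoryTheory.Limits AlgebraicGeometry TopologicalSpace
open Unram17

namespace Groth.Agent.S5019

open Groth.Agent.Lib.Helper3.FreeBasis Groth.Agent.Lib.Helper3.SecLoc in
theorem main {X Y : Scheme.{u}} (f : X ⟶ Y) [Smooth f]
    (Ω' : X.Modules) (d : OmegaSh.Der f Ω') (hd : OmegaSh.IsUniversal d) (x : ↥X) :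
    ∃ (U : X.Opens) (n : ℕ), x ∈ U ∧ Nonempty (Ω'.restrict U.ι ≅ FlatMod.freeMod (↑U) n) ∧
      FlatMor.fibreDimAt f x = (n : WithBot ℕ∞) := by
  obtain ⟨V, hV, W, hW, hxW, e, hss⟩ := Smooth.exists_isStandardSmooth f x
  letI := (f.appLE V W e).hom.toAlgebra
  have hss' : Algebra.IsStandardSmooth Γ(Y, V) Γ(X, W) := hss
  obtain ⟨n, hn⟩ : ∃ n, Algebra.IsStandardSmoothOfRelativeDimension n Γ(Y, V) Γ(X, W) := by
    obtain ⟨ι, σ, h1, h2, ⟨P⟩⟩ := hss'
    exact ⟨P.dimension, ⟨ι, σ, h1, h2, P, rfl⟩⟩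
  have hn' : (f.appLE V W e).hom.IsStandardSmoothOfRelativeDimension n := hn
  -- fibre dimension
  have hdim : FlatMor.fibreDimAt f x = (n : WithBot ℕ∞) := by
    have hsm : SmoothOfRelativeDimension n (W.ι ≫ f) := by
      have h1 : W.ι ≫ f = hW.isoSpec.hom ≫ Spec.map (f.appLE V W e) ≫ hV.fromSpec := by
        rw [IsAffineOpen.SpecMap_appLE_fromSpec f hV hW e, ← Category.assoc,
          IsAffineOpen.isoSpec_hom_fromSpec]
      haveI := Groth.Agent.Lib.Helper22.SmoothRelDim.smoothOfRelativeDimension_SpecMap n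
        (f.appLE V W e) hn'
      rw [h1]
      have : SmoothOfRelativeDimension (0 + (n + 0))
          (hW.isoSpec.hom ≫ Spec.map (f.appLE V W e) ≫ hV.fromSpec) := inferInstance
      simpa using this
    have := Groth.Agent.Lib.Helper12.Equidim.fibreDimAt_comp_openImmersion W.ι f ⟨x, hxW⟩
    rw [Groth.Agent.Lib.Helper22.SmoothRelDim.fibreDimAt_eq n (W.ι ≫ f) ⟨x, hxW⟩] at this
    exact this.symm
  -- the basis
  haveI : Nontrivial Γ(X, W) := (X.presheaf.germ W x hxW).hom.domain_nontrivial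
  have hrank : Module.rank Γ(X, W) Ω[Γ(X, W)⁄Γ(Y, V)] = n :=
    Algebra.IsStandardSmoothOfRelativeDimension.rank_kaehlerDifferential n
  haveI : Module.Free Γ(X, W) Ω[Γ(X, W)⁄Γ(Y, V)] := inferInstance
  haveI : Algebra.FiniteType Γ(Y, V) Γ(X, W) := f.finiteType_appLE hV hW e
  haveI : Module.Finite Γ(X, W) Ω[Γ(X, W)⁄Γ(Y, V)] := inferInstance
  have hfin : Module.finrank Γ(X, W) Ω[Γ(X, W)⁄Γ(Y, V)] = n :=
    Module.finrank_eq_of_rank_eq hrank
  let b0 : Module.Basis (Fin n) Γ(X, W) Ω[Γ(X, W)⁄Γ(Y, V)] :=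
    Module.finBasisOfFinrankEq _ _ hfin
  let b : Module.Basis (Fin n) Γ(X, W) Γ(Ω', W) :=
    b0.map (Groth.Agent.Lib.Helper1.DerFin.sectEquiv f d hW hV e hd)
  haveI := Groth.Agent.Lib.Helper1.DerSmooth.isQuasicoherent f d hd
  have hb := isBasis_of_isBasisAt Ω' hW (isBasisAt_of_basis Ω' W b)
  exact ⟨W, n, hxW, nonempty_iso_of_isBasis hb, hdim⟩


/-- Let f : X ⟶ Y be smooth and let (Ω', d) be a sheaf of differentials of X over Y (d a universal
Y-derivation). Then for every point x of X there are an open neighbourhood U of x and an integer n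
such that Ω' restricted to U is free of rank n and n is the local dimension at x of the fibre of f
through x. -/
theorem result {X Y : Scheme.{u}} (f : X ⟶ Y) [Smooth f]
    (Ω' : X.Modules) (d : OmegaSh.Der f Ω') (hd : OmegaSh.IsUniversal d) (x : ↥X) :
    ∃ (U : X.Opens) (n : ℕ), x ∈ U ∧ Nonempty (Ω'.restrict U.ι ≅ FlatMod.freeMod (↑U) n) ∧
      FlatMor.fibreDimAt f x = (n : WithBot ℕ∞) := main f Ω' d hd x

end Groth.Agent.S5019
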