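import Groth.Statements.S9867
import Groth.Agent.S0084
import Groth.Agent.Lib.Helper2.FlatCancel
import Mathlib.AlgebraicGeometry.Morphisms.LocalFlatDescent
import Mathlib.AlgebraicGeometry.Morphisms.FlatRank

set_option autoImplicit false
open CategoryTheory CategoryTheory.Limits AlgebraicGeometry Opposite
universe u
open Desc

namespace Groth.Agent.S9867

/-- Being finite locally free (finite, flat and locally of finite presentation), and being finite
locally free of a given degree d, are fpqc local on the base; the descent directions, stated as
descent along surjective flat quasi-compact morphisms: if the base change of f along such a morphism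
is finite locally free then so is f, and if moreover that base change has constant rank d (Mathlib's
rank function of a finite flat morphism) then f has constant rank d. (With Zariski-locality on the
target these give the statements for arbitrary fpqc coverings; stability under base change is the
other direction.) -/
theorem result :
    MorphismProperty.DescendsAlong (fun _ _ f => Mor2.IsFinLocFree f : MorphismProperty Scheme.{u})
      (@Surjective ⊓ @Flat ⊓ @QuasiCompact : MorphismProperty Scheme.{u}) ∧
    ∀ d : ℕ, MorphismProperty.DescendsAlong (fun _ _ f => Mor2.IsFinLocFreeOfDeg d f : MorphismProperty Scheme.{u})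
      (@Surjective ⊓ @Flat ⊓ @QuasiCompact : MorphismProperty Scheme.{u}) := by
  have hfin : MorphismProperty.DescendsAlong @IsFinite
      (@Surjective ⊓ @Flat ⊓ @QuasiCompact : MorphismProperty Scheme.{u}) := Groth.Agent.S0084.result
  have key : ∀ {A X Y Z : Scheme.{u}} {fst : A ⟶ X} {snd : A ⟶ Y} {f : X ⟶ Z} {g : Y ⟶ Z},
      IsPullback fst snd f g → (@Surjective ⊓ @Flat ⊓ @QuasiCompact : MorphismProperty Scheme.{u}) f →
      Mor2.IsFinLocFree fst → Mor2.IsFinLocFree g := by
    intro A X Y Z fst snd f g h hf hfst
    obtain ⟨h1, h2, h3⟩ := hfst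
    refine ⟨MorphismProperty.of_isPullback_of_descendsAlong (P := @IsFinite) h hf h1, ?_,
      MorphismProperty.of_isPullback_of_descendsAlong (P := @LocallyOfFinitePresentation) h hf h3⟩
    haveI : Flat f := hf.1.2
    haveI : Flat fst := h2
    haveI : Flat snd := MorphismProperty.of_isPullback (P := @Flat) h hf.1.2
    haveI : Surjective snd := MorphismProperty.of_isPullback (P := @Surjective) h hf.1.1
    haveI : Flat (snd ≫ g) := by
      rw [← h.w]
      infer_instance
    rw [Flat.iff_flat_stalkMap]
    intro y
    obtain ⟨a, rfl⟩ := (inferInstance : Surjective snd).surj y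
    have hcomp : ((snd ≫ g).stalkMap a).hom.Flat := Flat.stalkMap (snd ≫ g) a
    have hff : (snd.stalkMap a).hom.FaithfullyFlat := by
      algebraize [(snd.stalkMap a).hom]
      have : Module.FaithfullyFlat (Y.presheaf.stalk (snd a)) (A.presheaf.stalk a) :=
        @Module.FaithfullyFlat.of_flat_of_isLocalHom _ _ _ _ _ _ _
          (Flat.stalkMap snd a) (snd.toLRSHom.prop a)
      exact ‹RingHom.FaithfullyFlat _›
    rw [Scheme.Hom.stalkMap_comp] at hcomp
    exact RingHom.Flat.of_comp_of_faithfullyFlat _ _ hff hcomp
  refine ⟨⟨fun h hf hfst => key h hf hfst⟩, fun d => ⟨fun {A X Y Z fst snd f g} h hf hfst => ?_⟩⟩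
  have hg : Mor2.IsFinLocFree g := key h hf hfst.1
  refine ⟨hg, fun z => ?_⟩
  haveI : Surjective f := hf.1.1
  obtain ⟨x, rfl⟩ := f.surjective z
  haveI : Flat g := hg.2.1
  haveI : IsFinite g := hg.1
  rw [← Scheme.Hom.finrank_of_isPullback snd fst g f h.flip x]
  exact hfst.2 x

end Groth.Agent.S9867
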