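import Groth.Statements.S7439
import Mathlib

set_option autoImplicit false
universe u
open CategoryTheory AlgebraicGeometry
open BddFib

namespace Groth.Agent.S7439

theorem finiteOfDegLE_of_isImmersion (K : CommRingCat.{u}) (hK : IsField K) {T : Scheme.{u}}
    (p : T ⟶ Spec K) [IsImmersion p] : BddFib.FiniteOfDegLE K p 1 := by
  letI : Algebra K Γ(T, ⊤) := BddFib.secAlgebra K p
  haveI : Nontrivial K := hK.nontrivial
  haveI : Subsingleton (Spec K) := by
    letI := hK.toField
    exact inferInstanceAs (Subsingleton (PrimeSpectrum K))
  have hcl : IsClosed (Set.range p.base) := by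
    rcases Set.eq_empty_or_nonempty (Set.range p.base) with h | h
    · rw [h]; exact isClosed_empty
    · rw [Subsingleton.eq_univ_of_nonempty h]; exact isClosed_univ
  haveI : IsClosedImmersion p := IsClosedImmersion.of_isPreimmersion p hcl
  have hp := (HasAffineProperty.iff_of_isAffine (P := @IsClosedImmersion) (f := p)).mp inferInstance
  haveI : IsAffine T := hp.1
  have halg : Function.Surjective (algebraMap K Γ(T, ⊤)) := by
    change Function.Surjective ((Scheme.ΓSpecIso K).inv ≫ p.appTop).hom
    rw [CommRingCat.hom_comp]
    exact hp.2.comp (ConcreteCategory.bijective_of_isIso (Scheme.ΓSpecIso K).inv).2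
  have hfin : Module.Finite K Γ(T, ⊤) :=
    Module.Finite.of_surjective (Algebra.linearMap K Γ(T, ⊤)) halg
  refine ⟨inferInstance, hfin, ?_⟩
  calc Module.finrank K Γ(T, ⊤) ≤ Module.finrank K K :=
        LinearMap.finrank_le_finrank_of_surjective (f := Algebra.linearMap K Γ(T, ⊤)) halg
    _ = 1 := Module.finrank_self K

/-- Every immersion has universally bounded fibres, with `1` as a bound for the degrees of its fibres. -/
theorem result {X Y : Scheme.{u}} (f : X ⟶ Y) [IsImmersion f] :
    BddFib.FibreDegLE f 1 := by

  intro y
  haveI : IsImmersion (f.fiberToSpecResidueField y) :=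
    MorphismProperty.pullback_snd (P := @IsImmersion) _ _ inferInstance
  exact finiteOfDegLE_of_isImmersion _ (Field.toIsField _) _

end Groth.Agent.S7439
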