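import Groth.Statements.S2145
import Groth.Agent.Lib.Helper26.SpreadOut2

set_option autoImplicit false
universe u
open CAlg
open Groth.Agent.Lib.Helper26

namespace Groth.Agent.S2145

/-- Let `S`, `S'` be finitely presented `R`-algebras and `𝔮 ⊆ S`, `𝔮' ⊆ S'` primes with `S_𝔮 ≅ S'_{𝔮'}`
as `R`-algebras. Then `S_g ≅ S'_{g'}` as `R`-algebras for some `g ∉ 𝔮`, `g' ∉ 𝔮'`. -/
theorem result {R S S' : Type u} [CommRing R] [CommRing S] [CommRing S'] [Algebra R S]
    [Algebra R S'] [Algebra.FinitePresentation R S] [Algebra.FinitePresentation R S'] (q : Ideal S) [q.IsPrime]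
    (q' : Ideal S') [q'.IsPrime] (e : Localization.AtPrime q ≃ₐ[R] Localization.AtPrime q') :
    ∃ (g : S) (g' : S'), g ∉ q ∧ g' ∉ q' ∧ Nonempty (Localization.Away g ≃ₐ[R] Localization.Away g') := by
  classical
  -- Step 1
  obtain ⟨t', ht', α₀, ρ', hα₀⟩ := SpreadOut.exists_algHom_away (R := R) (S := S) (T := S')
    (L := Localization.AtPrime q') q'.primeCompl
    ((e : Localization.AtPrime q →ₐ[R] Localization.AtPrime q').comp
      (IsScalarTower.toAlgHom R S (Localization.AtPrime q)))
  have hα₀' : ∀ s : S, ρ' (α₀ s) = e (algebraMap S (Localization.AtPrime q) s) := hα₀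
  -- Step 2
  obtain ⟨w₀, hw₀, β₀, ρ₀, hβ₀⟩ := SpreadOut.exists_algHom_away (R := R)
    (S := Localization.Away t') (T := S)
    (L := Localization.AtPrime q) q.primeCompl
    ((e.symm : Localization.AtPrime q' →ₐ[R] Localization.AtPrime q).comp (ρ'.restrictScalars R))
  have hβ₀' : ∀ z, ρ₀ (β₀ z) = e.symm (ρ' z) := hβ₀
  obtain ⟨m, hm, hmA⟩ := SpreadOut.exists_forall_eq_of_map_eq (R := R) (P := S) q.primeCompl w₀
    (β₀.comp α₀) (IsScalarTower.toAlgHom R S (Localization.Away w₀)) ρ₀ (by
      intro s
      change ρ₀ (β₀ (α₀ s)) = ρ₀ (algebraMap S (Localization.Away w₀) s)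
      rw [hβ₀', hα₀', e.symm_apply_apply, ρ₀.commutes])
  obtain ⟨w, hw, hw₀w, hmw⟩ : ∃ w ∈ q.primeCompl, w₀ ∣ w ∧ m ∣ w :=
    ⟨w₀ * m, mul_mem hw₀ hm, Dvd.intro _ rfl, Dvd.intro_left _ rfl⟩
  let τw : Localization.Away w₀ →ₐ[S] Localization.Away w :=
    SpreadOut.awayHom w₀ _ (SpreadOut.isUnit_away_of_dvd _ _ hw₀w)
  let β : Localization.Away t' →ₐ[R] Localization.Away w := (τw.restrictScalars R).comp β₀
  have hβA : ∀ s : S, β (α₀ s) = algebraMap S (Localization.Away w) s := by
    intro s
    have h1 := hmA (Localization.Away w) τw (SpreadOut.isUnit_away_of_dvd _ _ hmw) s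
    exact h1.trans (τw.commutes s)
  have hwu : IsUnit (algebraMap S (Localization.AtPrime q) w) :=
    IsLocalization.map_units _ (⟨w, hw⟩ : q.primeCompl)
  let ρw : Localization.Away w →ₐ[S] Localization.AtPrime q := SpreadOut.awayHom w _ hwu
  have hρw : ∀ z, ρw (β z) = e.symm (ρ' z) := by
    intro z
    have h1 : ρw.comp τw = ρ₀ :=
      (IsLocalization.algHom_subsingleton (Submonoid.powers w₀)).elim _ _
    rw [← hβ₀']
    exact DFunLike.congr_fun h1 (β₀ z)
  -- Step 3
  obtain ⟨w₀', hw₀', α₁, ρ₁', hα₁⟩ := SpreadOut.exists_algHom_away (R := R)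
    (S := Localization.Away w) (T := S')
    (L := Localization.AtPrime q') q'.primeCompl
    ((e : Localization.AtPrime q →ₐ[R] Localization.AtPrime q').comp (ρw.restrictScalars R))
  have hα₁' : ∀ z, ρ₁' (α₁ z) = e (ρw z) := hα₁
  obtain ⟨m', hm', hm1⟩ := SpreadOut.exists_forall_eq_of_map_eq (R := R) (P := S')
    q'.primeCompl w₀'
    ((α₁.comp β).comp (IsScalarTower.toAlgHom R S' (Localization.Away t')))
    (IsScalarTower.toAlgHom R S' (Localization.Away w₀')) ρ₁' (by
      intro s'
      change ρ₁' (α₁ (β (algebraMap S' (Localization.Away t') s'))) =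
        ρ₁' (algebraMap S' (Localization.Away w₀') s')
      rw [hα₁', hρw, e.apply_symm_apply, ρ'.commutes, ρ₁'.commutes])
  obtain ⟨w', hw', hw₀w', hmw'⟩ : ∃ w' ∈ q'.primeCompl, w₀' ∣ w' ∧ m' ∣ w' :=
    ⟨w₀' * m', mul_mem hw₀' hm', Dvd.intro _ rfl, Dvd.intro_left _ rfl⟩
  let τw' : Localization.Away w₀' →ₐ[S'] Localization.Away w' :=
    SpreadOut.awayHom w₀' _ (SpreadOut.isUnit_away_of_dvd _ _ hw₀w')
  let α : Localization.Away w →ₐ[R] Localization.Away w' := (τw'.restrictScalars R).comp α₁
  have hα1 : ∀ s' : S', α (β (algebraMap S' (Localization.Away t') s')) =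
      algebraMap S' (Localization.Away w') s' := by
    intro s'
    have h1 := hm1 (Localization.Away w') τw' (SpreadOut.isUnit_away_of_dvd _ _ hmw') s'
    exact h1.trans (τw'.commutes s')
  -- Step 4
  obtain ⟨n, ⟨_, k, rfl⟩, hn⟩ := IsLocalization.exists_mk'_eq (Submonoid.powers w)
    (β (algebraMap S' (Localization.Away t') w'))
  have hnq : n ∈ q.primeCompl := by
    have h1 := SpreadOut.algHom_mk'_mul (Submonoid.powers w) ρw n ⟨w ^ k, k, rfl⟩
    rw [hn, hρw, ρ'.commutes] at h1
    have hu1 : IsUnit (e.symm (algebraMap S' (Localization.AtPrime q') w')) :=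
      (IsLocalization.map_units _ (⟨w', hw'⟩ : q'.primeCompl)).map e.symm
    have hu2 : IsUnit (algebraMap S (Localization.AtPrime q) (w ^ k)) :=
      IsLocalization.map_units _ (⟨w ^ k, pow_mem hw k⟩ : q.primeCompl)
    have hu3 : IsUnit (algebraMap S (Localization.AtPrime q) n) := by
      rw [← h1]; exact hu1.mul hu2
    exact (IsLocalization.AtPrime.isUnit_to_map_iff (Localization.AtPrime q) q n).mp hu3
  have hspec : IsLocalization.mk' (Localization.Away w) n
      (⟨w ^ k, k, rfl⟩ : Submonoid.powers w) * algebraMap S (Localization.Away w) (w ^ k) =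
      algebraMap S (Localization.Away w) n := IsLocalization.mk'_spec _ _ _
  have hg : w * n ∈ q.primeCompl := mul_mem hw hnq
  -- Step 5
  have huα : IsUnit ((α.comp (IsScalarTower.toAlgHom R S (Localization.Away w))) (w * n)) := by
    change IsUnit (α (algebraMap S (Localization.Away w) (w * n)))
    rw [map_mul, map_mul]
    have hu1 : IsUnit (α (algebraMap S (Localization.Away w) w)) :=
      (IsLocalization.Away.algebraMap_isUnit w).map α
    refine hu1.mul ?_
    rw [← hspec, hn, map_mul, hα1, map_pow, map_pow]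
    exact (IsLocalization.Away.algebraMap_isUnit w').mul (hu1.pow k)
  let αg : Localization.Away (w * n) →ₐ[R] Localization.Away w' :=
    IsLocalization.Away.liftAlgHom (A := R) (w * n) huα
  have hαg : ∀ s : S, αg (algebraMap S (Localization.Away (w * n)) s) =
      α (algebraMap S (Localization.Away w) s) := fun s =>
    IsLocalization.Away.lift_eq (w * n)
      (g := ((α.comp (IsScalarTower.toAlgHom R S (Localization.Away w)) :
        S →ₐ[R] Localization.Away w') : S →+* Localization.Away w')) huα s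
  let τg : Localization.Away w →ₐ[S] Localization.Away (w * n) :=
    SpreadOut.awayHom w _ (SpreadOut.isUnit_away_of_dvd _ _ (Dvd.intro _ rfl))
  have huβ : IsUnit ((((τg.restrictScalars R).comp β).comp
      (IsScalarTower.toAlgHom R S' (Localization.Away t'))) w') := by
    change IsUnit (τg (β (algebraMap S' (Localization.Away t') w')))
    rw [← hn]
    have h3 := SpreadOut.algHom_mk'_mul (Submonoid.powers w) τg n ⟨w ^ k, k, rfl⟩
    have : IsUnit (τg (IsLocalization.mk' (Localization.Away w) n
        (⟨w ^ k, k, rfl⟩ : Submonoid.powers w)) *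
        algebraMap S (Localization.Away (w * n)) (w ^ k)) := by
      rw [h3]
      exact SpreadOut.isUnit_away_of_dvd _ _ (Dvd.intro_left _ rfl)
    exact isUnit_of_mul_isUnit_left this
  let βg : Localization.Away w' →ₐ[R] Localization.Away (w * n) :=
    IsLocalization.Away.liftAlgHom (A := R) w' huβ
  have hβg : ∀ s' : S', βg (algebraMap S' (Localization.Away w') s') =
      τg (β (algebraMap S' (Localization.Away t') s')) := fun s' =>
    IsLocalization.Away.lift_eq w'
      (g := ((((τg.restrictScalars R).comp β).comp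
        (IsScalarTower.toAlgHom R S' (Localization.Away t')) :
        S' →ₐ[R] Localization.Away (w * n)) : S' →+* Localization.Away (w * n))) huβ s'
  -- Step 6
  have hατ : αg.comp (τg.restrictScalars R) = α := SpreadOut.algHom_away_ext w (fun s => by
    change αg (τg (algebraMap S _ s)) = α (algebraMap S _ s)
    rw [τg.commutes, hαg])
  have h1 : αg.comp βg = AlgHom.id R (Localization.Away w') :=
    SpreadOut.algHom_away_ext w' (fun s' => by
      change αg (βg (algebraMap S' _ s')) = algebraMap S' _ s'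
      rw [hβg]
      have := DFunLike.congr_fun hατ (β (algebraMap S' (Localization.Away t') s'))
      exact this.trans (hα1 s'))
  have hβαβ : (βg.comp α).comp β = (τg.restrictScalars R).comp β :=
    SpreadOut.algHom_away_ext t' (fun s' => by
      change βg (α (β (algebraMap S' _ s'))) = τg (β (algebraMap S' _ s'))
      rw [hα1, hβg])
  have h2 : βg.comp αg = AlgHom.id R (Localization.Away (w * n)) :=
    SpreadOut.algHom_away_ext (w * n) (fun s => by
      change βg (αg (algebraMap S _ s)) = algebraMap S _ s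
      rw [hαg, ← hβA s]
      have := DFunLike.congr_fun hβαβ (α₀ s)
      refine this.trans ?_
      change τg (β (α₀ s)) = _
      rw [hβA, τg.commutes])
  exact ⟨w * n, w', hg, hw', ⟨AlgEquiv.ofAlgHom αg βg h1 h2⟩⟩

end Groth.Agent.S2145
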