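import Groth.Statements.S7659
import Groth.Agent.Lib.Helper12.GenericPts
import Groth.Agent.Lib.Helper12.LocalIsoAlg

set_option autoImplicit false
universe u
open CategoryTheory CategoryTheory.Limits AlgebraicGeometry
open Variety

namespace Groth.Agent.S7659

open Groth.Agent.Lib.Helper12 in
/-- Let f : X → S be a morphism of schemes and x a point with image s such that O_{S,s} → O_{X,x} is an
isomorphism, S is reduced with finitely many irreducible components, and f is locally of finite
type. Then f restricted to some open neighbourhood of x is an open immersion. (The published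
statement assumes f of finite type; this row assumes only that f is locally of finite type.) -/
theorem result {X S : Scheme.{u}} (f : X ⟶ S)
    [LocallyOfFiniteType f] [IsReduced S] (hS : (irreducibleComponents (S : Type u)).Finite)
    (x : X) (hx : IsIso (f.stalkMap x)) :
    ∃ U : X.Opens, x ∈ U ∧ IsOpenImmersion (U.ι ≫ f) := by
  obtain ⟨_, ⟨V, hV, rfl⟩, hxV, -⟩ :=
    S.isBasis_affineOpens.exists_subset_of_mem_open (Set.mem_univ (f.base x)) isOpen_univ
  obtain ⟨_, ⟨U, hU, rfl⟩, hxU, hUV⟩ :=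
    X.isBasis_affineOpens.exists_subset_of_mem_open (show x ∈ ((f ⁻¹ᵁ V : X.Opens) : Set X) from hxV)
      (f ⁻¹ᵁ V).2
  have hUV' : U ≤ f ⁻¹ᵁ V := hUV
  letI algAB : Algebra Γ(S, V) Γ(X, U) := (f.appLE V U hUV').hom.toAlgebra
  haveI ft : Algebra.FiniteType Γ(S, V) Γ(X, U) := f.finiteType_appLE hV hU hUV'
  have hfinSpec : (irreducibleComponents (Spec Γ(S, V))).Finite :=
    finite_irreducibleComponents_of_isOpenEmbedding hV.fromSpec.isOpenEmbedding hS
  have hfin : (minimalPrimes Γ(S, V)).Finite := by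
    rw [← PrimeSpectrum.vanishingIdeal_irreducibleComponents]
    exact hfinSpec.image _
  haveI hpp : (hV.primeIdealOf ⟨f.base x, hUV' hxU⟩).asIdeal.IsPrime :=
    (hV.primeIdealOf ⟨f.base x, hUV' hxU⟩).isPrime
  haveI hqp : (hU.primeIdealOf ⟨x, hxU⟩).asIdeal.IsPrime := (hU.primeIdealOf ⟨x, hxU⟩).isPrime
  letI := S.presheaf.algebra_section_stalk (⟨f.base x, hUV' hxU⟩ : V)
  haveI := hV.isLocalization_stalk ⟨f.base x, hUV' hxU⟩
  letI := X.presheaf.algebra_section_stalk (⟨x, hxU⟩ : U)
  haveI := hU.isLocalization_stalk ⟨x, hxU⟩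
  have hσ : ∀ a : Γ(S, V),
      (f.stalkMap x).hom (algebraMap Γ(S, V) (S.presheaf.stalk (f.base x)) a) =
      algebraMap Γ(X, U) (X.presheaf.stalk x) (algebraMap Γ(S, V) Γ(X, U) a) := by
    intro a
    simp only [RingHom.algebraMap_toAlgebra, Scheme.Hom.germ_stalkMap_apply, Scheme.Hom.appLE,
      homOfLE_leOfHom, CommRingCat.hom_comp, RingHom.coe_comp, Function.comp_apply,
      X.presheaf.germ_res_apply]
  have hbij : Function.Bijective (f.stalkMap x).hom :=
    ConcreteCategory.bijective_of_isIso (f.stalkMap x)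
  obtain ⟨h, hhq, gf, hC⟩ := exists_away_isLocalization hfin
    (hV.primeIdealOf ⟨f.base x, hUV' hxU⟩).asIdeal (hU.primeIdealOf ⟨x, hxU⟩).asIdeal
    (S.presheaf.stalk (f.base x)) (X.presheaf.stalk x) (f.stalkMap x).hom hσ hbij
  have hU' : IsAffineOpen (X.basicOpen h) := hU.basicOpen h
  have hU'U : X.basicOpen h ≤ U := X.basicOpen_le h
  have hxU' : x ∈ X.basicOpen h := by
    rw [Scheme.mem_basicOpen X h x hxU]
    exact (IsLocalization.AtPrime.isUnit_to_map_iff (X.presheaf.stalk x)
      (hU.primeIdealOf ⟨x, hxU⟩).asIdeal h).2 hhq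
  have e' : X.basicOpen h ≤ f ⁻¹ᵁ V := hU'U.trans hUV'
  letI algAC : Algebra Γ(S, V) Γ(X, X.basicOpen h) := (f.appLE V (X.basicOpen h) e').hom.toAlgebra
  haveI : IsScalarTower Γ(S, V) Γ(X, U) Γ(X, X.basicOpen h) := by
    refine IsScalarTower.of_algebraMap_eq' ?_
    simp only [RingHom.algebraMap_toAlgebra]
    rw [← CommRingCat.hom_comp, Scheme.Hom.appLE_map]
  haveI := hU.isLocalization_basicOpen h
  haveI hloc : IsLocalization.Away gf Γ(X, X.basicOpen h) := hC Γ(X, X.basicOpen h)
  have hoi : IsOpenImmersion (Spec.map (f.appLE V (X.basicOpen h) e')) :=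
    IsOpenImmersion.of_isLocalization (R := Γ(S, V)) (S := Γ(X, X.basicOpen h)) gf
  refine ⟨X.basicOpen h, hxU', ?_⟩
  have heq : (X.basicOpen h).ι ≫ f =
      hU'.isoSpec.hom ≫ Spec.map (f.appLE V (X.basicOpen h) e') ≫ hV.fromSpec := by
    rw [IsAffineOpen.SpecMap_appLE_fromSpec f hV hU' e', ← Category.assoc,
      hU'.isoSpec_hom_fromSpec]
  rw [heq]
  infer_instance

end Groth.Agent.S7659
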