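import Groth.Statements.S1655
import Groth.Agent.Lib.Helper11.Birat2
import Groth.Agent.Lib.Helper12.NormGen

set_option autoImplicit false
universe u
open CategoryTheory CategoryTheory.Limits AlgebraicGeometry
open Variety

namespace Groth.Agent.S1655

open TopologicalSpace Groth.Agent.Lib.Helper12.KAExt

/-- Algebraic core: a birational injective map of domains satisfying Zariski's main property at
`q`, with integrally closed local ring downstairs, induces a bijection on local rings. -/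
theorem bijective_of_zmp {A B Ap Bq : Type*} [CommRing A] [IsDomain A] [CommRing B]
    [IsDomain B] [Algebra A B] (hinj : Function.Injective (algebraMap A B)) (hbir : Bir A B)
    (p : Ideal A) [p.IsPrime] (q : Ideal B) [q.IsPrime]
    [CommRing Ap] [IsDomain Ap] [Algebra A Ap] [IsLocalization.AtPrime Ap p]
    [CommRing Bq] [IsDomain Bq] [Algebra B Bq] [IsLocalization.AtPrime Bq q]
    [IsIntegrallyClosed Ap] (ψ : Ap →+* Bq) [IsLocalHom ψ]
    (hψmap : ∀ a : A, ψ (algebraMap A Ap a) = algebraMap B Bq (algebraMap A B a))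
    (hz : ∃ r ∉ q, ∀ x : B, ∃ m : ℕ, IsIntegral A (r ^ m * x)) :
    Function.Bijective ψ := by
  have hBinj : Function.Injective (algebraMap B Bq) :=
    IsLocalization.injective _ q.primeCompl_le_nonZeroDivisors
  have hAinj : Function.Injective (algebraMap A Ap) :=
    IsLocalization.injective _ p.primeCompl_le_nonZeroDivisors
  have hψinj : Function.Injective ψ := by
    rw [injective_iff_map_eq_zero]
    intro c hc
    obtain ⟨⟨a, s⟩, hcs⟩ := IsLocalization.surj p.primeCompl c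
    have h0 : ψ (algebraMap A _ a) = 0 := by rw [← hcs, map_mul, hc, zero_mul]
    rw [hψmap] at h0
    have ha : a = 0 := hinj (by rw [map_zero]; exact hBinj (by rw [h0, map_zero]))
    have hsu : IsUnit (algebraMap A Ap s) := IsLocalization.map_units _ s
    rw [ha, map_zero] at hcs
    exact (mul_eq_zero.mp hcs).resolve_right hsu.ne_zero
  letI algABq : Algebra A Bq := ((algebraMap B Bq).comp (algebraMap A B)).toAlgebra
  haveI : IsScalarTower A B Bq := IsScalarTower.of_algebraMap_eq (fun _ => rfl)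
  letI : Algebra Ap Bq := ψ.toAlgebra
  have halg : ∀ c, algebraMap Ap Bq c = ψ c := fun _ => rfl
  haveI : IsScalarTower A Ap Bq := IsScalarTower.of_algebraMap_eq (fun a => by
    rw [halg, hψmap]; rfl)
  have hbir' : Bir Ap Bq := by
    intro z
    obtain ⟨⟨b, t⟩, hbt⟩ := IsLocalization.surj q.primeCompl z
    obtain ⟨a, a', ha, h1⟩ := hbir b
    obtain ⟨a₂, a₂', ha₂, h2⟩ := hbir (t : B)
    have ht0 : (t : B) ≠ 0 := fun h0 => t.2 (by rw [h0]; exact Ideal.zero_mem _)
    have ha₂' : a₂' ≠ 0 := by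
      rintro rfl
      rw [map_zero] at h2
      rcases mul_eq_zero.mp h2 with h | h
      · exact ha₂ (hinj (by rw [h, map_zero]))
      · exact ht0 h
    refine ⟨algebraMap A _ (a * a₂'), algebraMap A _ (a' * a₂), ?_, ?_⟩
    · intro h0
      have := hAinj (by rw [h0, map_zero] : algebraMap A Ap (a * a₂') = algebraMap A Ap 0)
      rcases mul_eq_zero.mp this with h | h
      · exact ha h
      · exact ha₂' h
    · rw [halg, halg, hψmap, hψmap]
      have hu : IsUnit (algebraMap B Bq (t : B)) := IsLocalization.map_units _ t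
      apply hu.mul_left_inj.mp
      rw [mul_assoc, hbt, ← map_mul, ← map_mul]
      congr 1
      calc algebraMap A B (a * a₂') * b = algebraMap A B a₂' * (algebraMap A B a * b) := by
            rw [map_mul]; ring
        _ = algebraMap A B a₂' * algebraMap A B a' := by rw [h1]
        _ = (algebraMap A B a₂ * (t : B)) * algebraMap A B a' := by rw [h2]
        _ = algebraMap A B (a' * a₂) * (t : B) := by rw [map_mul]; ring
  haveI : IsFractionRing Ap (FractionRing Bq) :=
    isFractionRing_of_bir hψinj hbir' (FractionRing Bq)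
  have hcl : ∀ w : Bq, IsIntegral Ap w → ∃ c, ψ c = w := by
    intro w hw
    have hw' : IsIntegral Ap (algebraMap _ (FractionRing Bq) w) := hw.algebraMap
    obtain ⟨c, hc⟩ := IsIntegrallyClosed.algebraMap_eq_of_integral hw'
    refine ⟨c, IsFractionRing.injective Bq (FractionRing Bq) ?_⟩
    rw [← hc, IsScalarTower.algebraMap_apply Ap Bq (FractionRing Bq)]
    rfl
  have hint : ∀ b' : B, IsIntegral A b' → ∃ c, ψ c = algebraMap B _ b' := fun b' hb' =>
    hcl _ (IsIntegral.tower_top (hb'.algebraMap))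
  obtain ⟨r, hrq, hr⟩ := hz
  have hrint : IsIntegral A r := by
    obtain ⟨n, hn⟩ := hr r
    rw [← pow_succ] at hn
    exact (IsIntegral.pow_iff (Nat.succ_pos n)).mp hn
  obtain ⟨cr, hcr⟩ := hint r hrint
  have hcru : IsUnit cr := by
    rw [← isUnit_map_iff ψ cr, hcr]
    exact IsLocalization.map_units _ (⟨r, hrq⟩ : q.primeCompl)
  have hB : ∀ b : B, ∃ c, ψ c = algebraMap B _ b := by
    intro b
    obtain ⟨m, hm⟩ := hr b
    obtain ⟨c, hc⟩ := hint _ hm
    obtain ⟨d, hd⟩ := hcru.exists_left_inv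
    refine ⟨c * d ^ m, ?_⟩
    have hu : IsUnit (ψ cr ^ m) := (hcru.map ψ).pow m
    have e1 : ψ (c * d ^ m) * ψ cr ^ m = algebraMap B _ b * ψ cr ^ m := by
      have h1 : c * d ^ m * cr ^ m = c := by
        rw [mul_assoc, ← mul_pow, hd, one_pow, mul_one]
      calc ψ (c * d ^ m) * ψ cr ^ m = ψ (c * d ^ m * cr ^ m) := by
            rw [map_mul ψ (c * d ^ m) (cr ^ m), map_pow ψ cr m]
        _ = algebraMap B _ (r ^ m * b) := by rw [h1, hc]
        _ = algebraMap B _ b * ψ cr ^ m := by rw [hcr, map_mul, map_pow, mul_comm]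
    exact hu.mul_left_inj.mp e1
  refine ⟨hψinj, fun z => ?_⟩
  obtain ⟨⟨b, t⟩, hbt⟩ := IsLocalization.surj q.primeCompl z
  obtain ⟨cb, hcb⟩ := hB b
  obtain ⟨ct, hct⟩ := hB t
  have hctu : IsUnit ct := by
    rw [← isUnit_map_iff ψ ct, hct]
    exact IsLocalization.map_units _ t
  obtain ⟨d, hd⟩ := hctu.exists_left_inv
  refine ⟨cb * d, ?_⟩
  have hu : IsUnit (algebraMap B Bq (t : B)) := IsLocalization.map_units _ t
  apply hu.mul_left_inj.mp
  rw [← hct, ← map_mul, mul_assoc, hd, mul_one, hcb, hct]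
  exact hbt.symm

theorem germ_injective_of_affine {X : Scheme.{u}} [IsIntegral X] {V : X.Opens}
    (hV : IsAffineOpen V) (z : X) (hz : z ∈ V) :
    Function.Injective (X.presheaf.germ V z hz) := by
  haveI : Nonempty V := ⟨⟨z, hz⟩⟩
  letI := X.presheaf.algebra_section_stalk (⟨z, hz⟩ : V)
  haveI := hV.isLocalization_stalk ⟨z, hz⟩
  haveI : (hV.primeIdealOf ⟨z, hz⟩).asIdeal.IsPrime := (hV.primeIdealOf ⟨z, hz⟩).isPrime
  exact IsLocalization.injective (X.presheaf.stalk z)
    (hV.primeIdealOf ⟨z, hz⟩).asIdeal.primeCompl_le_nonZeroDivisors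

/-- A birational morphism locally of finite type between integral schemes which is quasi-finite
at `y`, with integrally closed local ring at `f y`, induces an isomorphism of local rings at `y`. -/
theorem isIso_stalkMap_of_quasiFiniteAt {X Y : Scheme.{u}} [IsIntegral X] [IsIntegral Y]
    (f : Y ⟶ X) [LocallyOfFiniteType f] (hbir : IsIso (f.stalkMap (genericPoint Y))) (y : Y)
    (hx : IsIntegrallyClosed (X.presheaf.stalk (f.base y))) (hq : f.QuasiFiniteAt y) :
    IsIso (f.stalkMap y) := by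
  obtain ⟨V, hV, hxV⟩ : ∃ V : X.Opens, IsAffineOpen V ∧ f.base y ∈ V := by
    obtain ⟨_, ⟨V, hV, rfl⟩, hxV, -⟩ :=
      X.isBasis_affineOpens.exists_subset_of_mem_open (Set.mem_univ (f.base y)) isOpen_univ
    exact ⟨V, hV, hxV⟩
  obtain ⟨U, hU, hyU, e⟩ : ∃ U : Y.Opens, IsAffineOpen U ∧ y ∈ U ∧ U ≤ f ⁻¹ᵁ V := by
    obtain ⟨_, ⟨U, hU, rfl⟩, hyU, hUV⟩ :=
      Y.isBasis_affineOpens.exists_subset_of_mem_open
        (show y ∈ ((f ⁻¹ᵁ V : Y.Opens) : Set Y) from hxV) (f ⁻¹ᵁ V).2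
    exact ⟨U, hU, hyU, hUV⟩
  haveI : Nonempty U := ⟨⟨y, hyU⟩⟩
  haveI : Nonempty V := ⟨⟨f.base y, hxV⟩⟩
  letI algAB : Algebra Γ(X, V) Γ(Y, U) := (f.appLE V U e).hom.toAlgebra
  haveI ft : Algebra.FiniteType Γ(X, V) Γ(Y, U) := f.finiteType_appLE hV hU e
  haveI hpp : (hV.primeIdealOf ⟨f.base y, e hyU⟩).asIdeal.IsPrime :=
    (hV.primeIdealOf ⟨f.base y, e hyU⟩).isPrime
  haveI hqp : (hU.primeIdealOf ⟨y, hyU⟩).asIdeal.IsPrime := (hU.primeIdealOf ⟨y, hyU⟩).isPrime
  have hpq : (hV.primeIdealOf ⟨f.base y, e hyU⟩).asIdeal =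
      (hU.primeIdealOf ⟨y, hyU⟩).asIdeal.comap (algebraMap Γ(X, V) Γ(Y, U)) :=
    congr($(IsAffineOpen.comap_primeIdealOf_appLE V hV U hU e hyU).1).symm
  have hξU : genericPoint Y ∈ U := Groth.Agent.Lib.Helper12.NormAff.genericPoint_mem Y ⟨y, hyU⟩
  have hξV : f.base (genericPoint Y) ∈ V := e hξU
  have key : f.appLE V U e ≫ Y.presheaf.germ U (genericPoint Y) hξU =
      X.presheaf.germ V (f.base (genericPoint Y)) hξV ≫ f.stalkMap (genericPoint Y) := by
    rw [Scheme.Hom.appLE, Category.assoc, Y.presheaf.germ_res]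
    exact (Scheme.Hom.germ_stalkMap f V (genericPoint Y) hξV).symm
  have key_apply : ∀ r, Y.presheaf.germ U (genericPoint Y) hξU (f.appLE V U e r) =
      f.stalkMap (genericPoint Y) (X.presheaf.germ V (f.base (genericPoint Y)) hξV r) :=
    fun r => ConcreteCategory.congr_hom key r
  have hsbij := ConcreteCategory.bijective_of_isIso (f.stalkMap (genericPoint Y))
  have hinj : Function.Injective (algebraMap Γ(X, V) Γ(Y, U)) := by
    intro a₁ a₂ h
    apply germ_injective_of_affine hV (f.base (genericPoint Y)) hξV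
    apply hsbij.1
    rw [← key_apply, ← key_apply]
    exact congrArg (fun t => Y.presheaf.germ U (genericPoint Y) hξU t) h
  have hbirAB : Bir Γ(X, V) Γ(Y, U) := by
    intro b
    obtain ⟨s, hs⟩ := hsbij.2 (Y.presheaf.germ U (genericPoint Y) hξU b)
    letI := X.presheaf.algebra_section_stalk (⟨f.base (genericPoint Y), hξV⟩ : V)
    haveI hloc := hV.isLocalization_stalk ⟨f.base (genericPoint Y), hξV⟩
    obtain ⟨⟨c, t⟩, hct⟩ := IsLocalization.surj
      (hV.primeIdealOf ⟨f.base (genericPoint Y), hξV⟩).asIdeal.primeCompl s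
    have hct' : s * X.presheaf.germ V (f.base (genericPoint Y)) hξV (t : Γ(X, V)) =
        X.presheaf.germ V (f.base (genericPoint Y)) hξV c := hct
    refine ⟨(t : Γ(X, V)), c, ?_, ?_⟩
    · intro h0
      exact t.2 (by rw [h0]; exact Ideal.zero_mem _)
    · apply germ_injective_of_affine hU (genericPoint Y) hξU
      show Y.presheaf.germ U (genericPoint Y) hξU (f.appLE V U e (t : Γ(X, V)) * b) =
        Y.presheaf.germ U (genericPoint Y) hξU (f.appLE V U e c)
      rw [map_mul, key_apply, key_apply, ← hs, ← map_mul, mul_comm]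
      exact congrArg (fun z => f.stalkMap (genericPoint Y) z) hct'
  haveI : IsIntegrallyClosed
      (Localization.AtPrime (hV.primeIdealOf ⟨f.base y, e hyU⟩).asIdeal) := by
    letI := X.presheaf.algebra_section_stalk (⟨f.base y, e hyU⟩ : V)
    haveI := hV.isLocalization_stalk ⟨f.base y, e hyU⟩
    haveI := hx
    exact IsIntegrallyClosed.of_equiv
      (IsLocalization.algEquiv (hV.primeIdealOf ⟨f.base y, e hyU⟩).asIdeal.primeCompl
        (X.presheaf.stalk (f.base y))
        (Localization.AtPrime (hV.primeIdealOf ⟨f.base y, e hyU⟩).asIdeal)).toRingEquiv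
  haveI hqf : Algebra.QuasiFiniteAt Γ(X, V) (hU.primeIdealOf ⟨y, hyU⟩).asIdeal :=
    hq.quasiFiniteAt hU hV e hyU
  have hz := Algebra.zariskisMainProperty_iff'.mp
    (Algebra.ZariskisMainProperty.of_finiteType (R := Γ(X, V))
      (hU.primeIdealOf ⟨y, hyU⟩).asIdeal)
  haveI hdA : IsDomain (Localization.AtPrime (hV.primeIdealOf ⟨f.base y, e hyU⟩).asIdeal) :=
    IsLocalization.isDomain_localization
      (hV.primeIdealOf ⟨f.base y, e hyU⟩).asIdeal.primeCompl_le_nonZeroDivisors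
  haveI hdB : IsDomain (Localization.AtPrime (hU.primeIdealOf ⟨y, hyU⟩).asIdeal) :=
    IsLocalization.isDomain_localization
      (hU.primeIdealOf ⟨y, hyU⟩).asIdeal.primeCompl_le_nonZeroDivisors
  have hbij := bijective_of_zmp hinj hbirAB (hV.primeIdealOf ⟨f.base y, e hyU⟩).asIdeal
    (hU.primeIdealOf ⟨y, hyU⟩).asIdeal
    (Localization.localRingHom (hV.primeIdealOf ⟨f.base y, e hyU⟩).asIdeal
      (hU.primeIdealOf ⟨y, hyU⟩).asIdeal (algebraMap Γ(X, V) Γ(Y, U)) hpq)
    (fun a => Localization.localRingHom_to_map _ _ _ hpq a) hz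
  have e' := IsAffineOpen.arrowStalkMapIso f V hV U hU e hyU
  haveI h2 : IsIso (CommRingCat.ofHom (Localization.localRingHom
      (hV.primeIdealOf ⟨f.base y, e hyU⟩).asIdeal (hU.primeIdealOf ⟨y, hyU⟩).asIdeal
      (f.appLE V U e).hom
      congr($(IsAffineOpen.comap_primeIdealOf_appLE V hV U hU e hyU).1).symm)) :=
    (ConcreteCategory.isIso_iff_bijective _).mpr hbij
  exact ((MorphismProperty.isomorphisms CommRingCat).arrow_mk_iso_iff e').mpr h2

/-- If `f` is separated, `Y` integral and `f` restricted to a nonempty open `U` is an open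
immersion, then `f` is an isomorphism over the image of `U`. -/
theorem isIso_morphismRestrict_opensRange {X Y : Scheme.{u}} [IsIntegral Y] (f : Y ⟶ X)
    [IsSeparated f] (U : Y.Opens) [Nonempty U] [IsOpenImmersion (U.ι ≫ f)] :
    IsIso (f ∣_ (U.ι ≫ f).opensRange) := by
  have hσ₀ : ((U.ι ≫ f).isoOpensRange.inv ≫ U.ι) ≫ f = ((U.ι ≫ f).opensRange).ι := by
    rw [Category.assoc, Iso.inv_comp_eq, Scheme.Hom.isoOpensRange_hom_ι]
  have hr : Set.range ((U.ι ≫ f).isoOpensRange.inv ≫ U.ι :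
      ((U.ι ≫ f).opensRange).toScheme ⟶ Y) ⊆
      Set.range ((f ⁻¹ᵁ (U.ι ≫ f).opensRange).ι : (f ⁻¹ᵁ (U.ι ≫ f).opensRange).toScheme ⟶ Y) := by
    rintro _ ⟨w, rfl⟩
    have hw : f.base (((U.ι ≫ f).isoOpensRange.inv ≫ U.ι).base w) =
        ((U.ι ≫ f).opensRange).ι.base w :=
      congrArg (fun ψ : ((U.ι ≫ f).opensRange).toScheme ⟶ X => ψ.base w) hσ₀
    have hmem : ((U.ι ≫ f).isoOpensRange.inv ≫ U.ι).base w ∈ f ⁻¹ᵁ (U.ι ≫ f).opensRange := by
      show f.base (((U.ι ≫ f).isoOpensRange.inv ≫ U.ι).base w) ∈ (U.ι ≫ f).opensRange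
      rw [hw]; exact w.2
    exact ⟨⟨_, hmem⟩, rfl⟩
  have hσι := IsOpenImmersion.lift_fac (f ⁻¹ᵁ (U.ι ≫ f).opensRange).ι
    ((U.ι ≫ f).isoOpensRange.inv ≫ U.ι) hr
  obtain ⟨σ, hσdef⟩ : ∃ σ, σ = IsOpenImmersion.lift (f ⁻¹ᵁ (U.ι ≫ f).opensRange).ι
    ((U.ι ≫ f).isoOpensRange.inv ≫ U.ι) hr := ⟨_, rfl⟩
  rw [← hσdef] at hσι
  have hσg : σ ≫ (f ∣_ (U.ι ≫ f).opensRange) = 𝟙 _ := by
    rw [← cancel_mono ((U.ι ≫ f).opensRange).ι, Category.assoc, morphismRestrict_ι,
      ← Category.assoc, hσι, hσ₀, Category.id_comp]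
  haveI hoi : IsOpenImmersion σ := by
    haveI : IsOpenImmersion (σ ≫ (f ⁻¹ᵁ (U.ι ≫ f).opensRange).ι) := by
      rw [hσι]; infer_instance
    exact IsOpenImmersion.of_comp σ (f ⁻¹ᵁ (U.ι ≫ f).opensRange).ι
  haveI hci : IsClosedImmersion σ := by
    haveI : IsClosedImmersion (σ ≫ (f ∣_ (U.ι ≫ f).opensRange)) := by
      rw [hσg]; infer_instance
    exact IsClosedImmersion.of_comp σ (f ∣_ (U.ι ≫ f).opensRange)
  obtain ⟨u⟩ := ‹Nonempty U›
  haveI : Nonempty (f ⁻¹ᵁ (U.ι ≫ f).opensRange) := ⟨⟨u.1, ⟨u, rfl⟩⟩⟩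
  have hclopen : IsClopen (Set.range σ.base) :=
    ⟨σ.isClosedEmbedding.isClosed_range, σ.isOpenEmbedding.isOpen_range⟩
  have hne : (Set.range σ.base).Nonempty := ⟨_, ⟨⟨(U.ι ≫ f).base u, ⟨u, rfl⟩⟩, rfl⟩⟩
  have huniv : Set.range σ.base = Set.univ := hclopen.eq_univ hne
  haveI : Surjective σ := ⟨Set.range_eq_univ.mp huniv⟩
  haveI : IsIso σ := (isIso_iff_isOpenImmersion_and_surjective σ).mpr ⟨hoi, inferInstance⟩
  haveI : IsIso (σ ≫ (f ∣_ (U.ι ≫ f).opensRange)) := by rw [hσg]; infer_instance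
  exact IsIso.of_isIso_comp_left σ (f ∣_ (U.ι ≫ f).opensRange)

/-- Let X be a Noetherian integral scheme, Y an integral scheme, and f : Y → X a proper morphism that
restricts to an isomorphism over some nonempty open subscheme of X. If x is a point of X whose local
ring is integrally closed and f is quasi-finite at some point lying over x, then f restricts to an
isomorphism over an open neighbourhood of x. -/
theorem result {X Y : Scheme.{u}} [IsNoetherian X] [IsIntegral X] [IsIntegral Y]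
    (f : Y ⟶ X) [IsProper f] (W : X.Opens) (hW : (W : Set X).Nonempty) (hfW : IsIso (f ∣_ W))
    (x : X) (hx : IsIntegrallyClosed (X.presheaf.stalk x)) (y : Y) (hy : f.base y = x) (hq : f.QuasiFiniteAt y) :
    ∃ V : X.Opens, x ∈ V ∧ IsIso (f ∣_ V) := by

  subst hy
  haveI := hfW
  obtain ⟨hgen, hbir⟩ : f.base (genericPoint Y) = genericPoint X ∧
      IsIso (f.stalkMap (genericPoint Y)) := by
    obtain ⟨w, hw⟩ := hW
    haveI : IsOpenImmersion ((f ⁻¹ᵁ W).ι ≫ f) := by
      rw [← morphismRestrict_ι]; infer_instance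
    have hne : Nonempty (f ⁻¹ᵁ W) := by
      obtain ⟨v, hv⟩ := (f ∣_ W).surjective ⟨w, hw⟩
      exact ⟨v⟩
    haveI := hne
    have h1 : (f ⁻¹ᵁ W).ι.base (genericPoint (f ⁻¹ᵁ W).toScheme) = genericPoint Y :=
      genericPoint_eq_of_isOpenImmersion _
    have h2 : ((f ⁻¹ᵁ W).ι ≫ f).base (genericPoint (f ⁻¹ᵁ W).toScheme) = genericPoint X :=
      genericPoint_eq_of_isOpenImmersion _
    have key : ∀ z : Y, ∀ hz : z ∈ f ⁻¹ᵁ W, IsIso (f.stalkMap z) := by
      intro z hz
      have h3 : IsIso (((f ⁻¹ᵁ W).ι ≫ f).stalkMap ⟨z, hz⟩) := inferInstance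
      rw [Scheme.Hom.stalkMap_comp] at h3
      exact @IsIso.of_isIso_comp_right _ _ _ _ _ (f.stalkMap ((f ⁻¹ᵁ W).ι.base ⟨z, hz⟩))
        ((f ⁻¹ᵁ W).ι.stalkMap ⟨z, hz⟩) inferInstance h3
    refine ⟨?_, ?_⟩
    · rw [← h1]; exact h2
    · exact key _ (by rw [← h1]; exact (genericPoint (f ⁻¹ᵁ W).toScheme).2)
  haveI : LocallyOfFinitePresentation f := inferInstance
  have hiso : IsIso (f.stalkMap y) := isIso_stalkMap_of_quasiFiniteAt f hbir y hx hq
  obtain ⟨U, hyU, hU⟩ :=
    Groth.Agent.Lib.Helper11.Birat.exists_isOpenImmersion_of_isIso_stalkMap f y hiso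
  haveI := hU
  haveI : Nonempty U := ⟨⟨y, hyU⟩⟩
  exact ⟨(U.ι ≫ f).opensRange, ⟨⟨y, hyU⟩, rfl⟩, isIso_morphismRestrict_opensRange f U⟩

end Groth.Agent.S1655
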