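import Groth.Statements.S5094
import Groth.Agent.S1655

set_option autoImplicit false
universe u
open CategoryTheory CategoryTheory.Limits AlgebraicGeometry TopologicalSpace
open Lim8

namespace Groth.Agent.S5094

theorem quasiFiniteAt_of_isOpen_singleton {X Y : Scheme.{u}} (f : X ⟶ Y) [LocallyOfFiniteType f]
    (y : Y) (x : f.fiber y) (hx : IsOpen ({x} : Set (f.fiber y))) (x₀ : X)
    (h : f.base x₀ = y) (hx₀ : (f.fiberι y).base x = x₀) : f.QuasiFiniteAt x₀ := by
  subst h
  rw [Scheme.Hom.quasiFiniteAt_iff_isOpen_singleton_asFiber]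
  have : f.asFiber x₀ = x := by
    apply (f.fiberι (f.base x₀)).isEmbedding.injective
    rw [Scheme.Hom.fiberι_asFiber, hx₀]
  rw [this]; exact hx

/-- Let X and Y be integral schemes and f : X → Y a separated morphism, locally of finite type and
birational (f sends the generic point of X to the generic point of Y and its stalk map there, the
induced homomorphism of function fields, is an isomorphism). Let y be a normal point of Y (the local
ring O_{Y,y} is integrally closed) and suppose that some point of the fibre f⁻¹(y) is isolated in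
that fibre. Then y has an open neighbourhood U such that the restriction f⁻¹(U) → U of f is an
isomorphism. -/
theorem result {X Y : Scheme.{u}} [IsIntegral X]
    [IsIntegral Y] (f : X ⟶ Y) [IsSeparated f] [LocallyOfFiniteType f]
    (hgen : f (genericPoint X) = genericPoint Y) (hbir : IsIso (f.stalkMap (genericPoint X)))
    (y : ↥Y) (hy : IsIntegrallyClosed ↑(Y.presheaf.stalk y))
    (x : ↥(f.fiber y)) (hx : IsOpen ({x} : Set ↥(f.fiber y))) :
    ∃ U : Y.Opens, y ∈ U ∧ IsIso (f ∣_ U) := by

  have h0 : f.base ((f.fiberι y).base x) = y := (f.fiberHomeo y x).2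
  have hq : f.QuasiFiniteAt ((f.fiberι y).base x) :=
    quasiFiniteAt_of_isOpen_singleton f y x hx _ h0 rfl
  obtain ⟨x₀, hx₀⟩ : ∃ x₀, x₀ = (f.fiberι y).base x := ⟨_, rfl⟩
  rw [← hx₀] at h0 hq
  subst h0
  have hiso : IsIso (f.stalkMap x₀) :=
    Groth.Agent.S1655.isIso_stalkMap_of_quasiFiniteAt f hbir x₀ hy hq
  have hYfin : (irreducibleComponents ↥Y).Finite := by
    rw [irreducibleComponents_eq_singleton]; exact Set.finite_singleton _
  obtain ⟨U, hxU, hU⟩ := Groth.Agent.S7659.result f hYfin x₀ hiso
  haveI := hU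
  haveI : Nonempty U := ⟨⟨x₀, hxU⟩⟩
  exact ⟨(U.ι ≫ f).opensRange, ⟨⟨x₀, hxU⟩, rfl⟩,
    Groth.Agent.S1655.isIso_morphismRestrict_opensRange f U⟩

end Groth.Agent.S5094
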