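import Groth.Statements.S14588
import Mathlib
import Groth.Agent.Lib.Helper6.GrpSmoothAC

set_option autoImplicit false
universe u
open CategoryTheory MonoidalCategory CartesianMonoidalCategory MonObj GrpObj AlgebraicGeometry CategoryTheory.Limits
open AlgGrp

namespace Groth.Agent.S14588

/-- Let k be a field with algebraic closure K and G a k-group scheme locally of finite type. If the
local ring of G_K at its unit point is reduced, then G is smooth over k. -/
theorem result (k : Type u) [Field k]
    (G : Over (Spec (CommRingCat.of k))) [GrpObj G] [LocallyOfFiniteType G.hom]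
    (t : ↥((𝟙_ (Over (Spec (CommRingCat.of (AlgebraicClosure k))))).left))
    (h : _root_.IsReduced ↑((Red.bc (Spec.map (CommRingCat.ofHom (algebraMap k (AlgebraicClosure k)))) G).left.presheaf.stalk ((η[Red.bc (Spec.map (CommRingCat.ofHom (algebraMap k (AlgebraicClosure k)))) G]).left.base t))) :
    Smooth G.hom := by
  have hQ : (@Surjective ⊓ @Flat ⊓ @QuasiCompact : MorphismProperty Scheme.{u})
      (Spec.map (CommRingCat.ofHom (algebraMap k (AlgebraicClosure k)))) :=
    ⟨⟨inferInstance, inferInstance⟩, inferInstance⟩
  refine MorphismProperty.of_pullback_snd_of_descendsAlong (P := @Smooth)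
    (Q := @Surjective ⊓ @Flat ⊓ @QuasiCompact) (f := G.hom)
    (g := Spec.map (CommRingCat.ofHom (algebraMap k (AlgebraicClosure k)))) hQ ?_
  haveI : LocallyOfFiniteType
      (Red.bc (Spec.map (CommRingCat.ofHom (algebraMap k (AlgebraicClosure k)))) G).hom :=
    inferInstanceAs (LocallyOfFiniteType (Limits.pullback.snd G.hom
      (Spec.map (CommRingCat.ofHom (algebraMap k (AlgebraicClosure k))))))
  have hpt : (η[Red.bc (Spec.map (CommRingCat.ofHom (algebraMap k (AlgebraicClosure k)))) G]).left.base t
      = Groth.Agent.Lib.Helper6.CartierStalk.x0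
        (Red.bc (Spec.map (CommRingCat.ofHom (algebraMap k (AlgebraicClosure k)))) G) := by
    have ht : t = IsLocalRing.closedPoint (CommRingCat.of (AlgebraicClosure k)) :=
      Subsingleton.elim (α := PrimeSpectrum (AlgebraicClosure k)) _ _
    rw [ht]
    rfl
  rw [hpt] at h
  exact Groth.Agent.Lib.Helper6.GrpSmoothAC.smooth_of_isReduced_stalk_unit
    (Red.bc (Spec.map (CommRingCat.ofHom (algebraMap k (AlgebraicClosure k)))) G) h

end Groth.Agent.S14588
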