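import Groth.Statements.S8869
import Mathlib
import Groth.Prelude.Def_StMod
import Groth.Agent.Lib.Helper3.WeakAss
import Groth.Agent.Lib.Helper18.ReducedLocalAss

set_option autoImplicit false
universe u
open CategoryTheory CategoryTheory.Limits AlgebraicGeometry TopologicalSpace
open SDiv

namespace Groth.Agent.S8869

/-- The stalk of the structure module is free of rank one on the germ of `1`. -/
theorem stalk_structure_bij (X : Scheme.{u}) (x : ↥X) :
    ∃ e : (Coh.structureModule X).presheaf.stalk x,
      (∀ b : X.presheaf.stalk x, b • e = 0 → b = 0) ∧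
      (∀ y : (Coh.structureModule X).presheaf.stalk x, ∃ b : X.presheaf.stalk x, y = b • e) := by
  haveI : (Coh.structureModule X).IsQuasicoherent := StMod.isQCoh_structureModule X
  obtain ⟨_, ⟨U, hU, rfl⟩, hxU, -⟩ :=
    X.isBasis_affineOpens.exists_subset_of_mem_open (Set.mem_univ x) isOpen_univ
  set F := Coh.structureModule X with hF
  let one : Γ(F, U) := (1 : Γ(X, U))
  have hsm : ∀ (a : Γ(X, U)), a • one = (show Γ(F, U) from a) := by
    intro a
    show a * 1 = a
    exact mul_one a
  have hsm2 : ∀ (m : Γ(F, U)), (show Γ(X, U) from m) • one = m := by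
    intro m
    show (show Γ(X, U) from m) * 1 = m
    exact mul_one _
  let _ : Algebra Γ(X, U) (X.presheaf.stalk x) :=
    TopCat.Presheaf.algebra_section_stalk X.presheaf (U := U) ⟨x, hxU⟩
  have hloc : IsLocalization.AtPrime (X.presheaf.stalk x) (hU.primeIdealOf ⟨x, hxU⟩).asIdeal :=
    hU.isLocalization_stalk ⟨x, hxU⟩
  have hunit : ∀ c : Γ(X, U), c ∉ (hU.primeIdealOf ⟨x, hxU⟩).asIdeal →
      IsUnit (X.presheaf.germ U x hxU c) := fun c hc =>
    (Scheme.mem_basicOpen X c x hxU).mp
      ((Groth.Agent.Lib.Helper3.mem_basicOpen_iff_notMem_primeIdealOf hU x hxU c).mpr hc)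
  refine ⟨F.presheaf.germ U x hxU one, ?_, ?_⟩
  · intro b hb
    obtain ⟨⟨a, c⟩, hac⟩ := IsLocalization.surj (hU.primeIdealOf ⟨x, hxU⟩).asIdeal.primeCompl b
    have hac' : b * X.presheaf.germ U x hxU c.1 = X.presheaf.germ U x hxU a := hac
    have h1 : X.presheaf.germ U x hxU a • F.presheaf.germ U x hxU one = 0 := by
      rw [← hac', mul_comm, mul_smul, hb, smul_zero]
    rw [← Groth.Agent.Lib.Helper3.QS.germ_smul] at h1
    obtain ⟨c', hc', hc'a⟩ :=
      (Groth.Agent.Lib.Helper3.QS.germ_eq_zero_iff hU F x hxU (a • one)).mp h1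
    have h2 : c' * a = 0 := by
      have : c' • a • one = 0 := hc'a
      rw [smul_smul, hsm] at this
      exact this
    have h3 : X.presheaf.germ U x hxU c' * X.presheaf.germ U x hxU a = 0 := by
      rw [← map_mul, h2, map_zero]
    have h4 : X.presheaf.germ U x hxU a = 0 := (hunit c' hc').mul_right_eq_zero.mp h3
    rw [h4] at hac'
    exact (hunit c.1 c.2).mul_left_eq_zero.mp hac'
  · intro y
    obtain ⟨c, m, hc, hcm⟩ := Groth.Agent.Lib.Helper3.QS.exists_smul_eq_germ hU F x hxU y
    have hm : F.presheaf.germ U x hxU m =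
        X.presheaf.germ U x hxU (show Γ(X, U) from m) • F.presheaf.germ U x hxU one := by
      rw [← Groth.Agent.Lib.Helper3.QS.germ_smul, hsm2]
    refine ⟨((hunit c hc).unit⁻¹ : (X.presheaf.stalk x)ˣ).1 *
      X.presheaf.germ U x hxU (show Γ(X, U) from m), ?_⟩
    rw [mul_smul, ← hm, ← hcm, smul_smul]
    simp

/-- Assume X is a reduced scheme and x is a point of X. Then x is weakly associated to the structure
sheaf O_X exactly when every generization of x equals x itself; equivalently, x is a generic point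
of some irreducible component of X. -/
theorem result (X : Scheme.{u}) [IsReduced X] (x : ↥X) :
    Curv2.IsWeakAssPoint (Coh.structureModule X) x ↔ ∀ y : ↥X, y ⤳ x → y = x := by
  obtain ⟨e, hinj, hsurj⟩ := stalk_structure_bij X x
  have hker : ∀ b : X.presheaf.stalk x,
      (LinearMap.ker (LinearMap.toSpanSingleton (X.presheaf.stalk x)
        ((Coh.structureModule X).presheaf.stalk x) (b • e)) : Ideal (X.presheaf.stalk x)) =
      LinearMap.ker (LinearMap.toSpanSingleton (X.presheaf.stalk x) (X.presheaf.stalk x) b) := by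
    intro b
    ext a
    rw [LinearMap.mem_ker, LinearMap.toSpanSingleton_apply, LinearMap.mem_ker,
      LinearMap.toSpanSingleton_apply, smul_smul, smul_eq_mul]
    exact ⟨fun h => hinj _ h, fun h => by rw [h, zero_smul]⟩
  have h1 : Curv2.IsWeakAssPoint (Coh.structureModule X) x ↔
      ∃ b : X.presheaf.stalk x, Ideal.radical (LinearMap.ker
        (LinearMap.toSpanSingleton (X.presheaf.stalk x) (X.presheaf.stalk x) b)) =
        IsLocalRing.maximalIdeal (X.presheaf.stalk x) := by
    unfold Curv2.IsWeakAssPoint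
    constructor
    · rintro ⟨m, hm⟩
      obtain ⟨b, rfl⟩ := hsurj m
      exact ⟨b, by rw [← hker]; exact hm⟩
    · rintro ⟨b, hb⟩
      exact ⟨b • e, by rw [hker]; exact hb⟩
  rw [h1, Groth.Agent.Lib.Helper18.ReducedLocalAss.exists_radical_ann_eq_maximalIdeal_iff]
  constructor
  · intro h y hy
    have hy' : y ∈ Set.range (X.fromSpecStalk x) := by
      rw [Scheme.range_fromSpecStalk]; exact hy
    obtain ⟨q, rfl⟩ := hy'
    have hq : q = IsLocalRing.closedPoint (X.presheaf.stalk x) := by
      apply PrimeSpectrum.ext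
      exact h q.asIdeal q.isPrime
    rw [hq, Scheme.fromSpecStalk_closedPoint]
  · intro h q hq
    have hs : X.fromSpecStalk x ⟨q, hq⟩ ⤳ x := by
      have : X.fromSpecStalk x ⟨q, hq⟩ ∈ Set.range (X.fromSpecStalk x) := ⟨_, rfl⟩
      rw [Scheme.range_fromSpecStalk] at this
      exact this
    have h2 := h _ hs
    have h2' : X.fromSpecStalk x ⟨q, hq⟩ =
        X.fromSpecStalk x (IsLocalRing.closedPoint (X.presheaf.stalk x)) := by
      rw [h2, Scheme.fromSpecStalk_closedPoint]
    have h3 := (Scheme.Hom.isEmbedding (X.fromSpecStalk x)).injective h2'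
    exact congrArg PrimeSpectrum.asIdeal h3

end Groth.Agent.S8869
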