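import Groth.Statements.S10930
import Mathlib
import Groth.Agent.Lib.Helper25.RegPerfectSmooth
import Groth.Agent.Lib.Helper26.RegularSch
import Groth.Agent.Lib.Helper12.ConsPropBasic
import Groth.Agent.Lib.Helper12.FibreDimConstr

set_option linter.style.haveILetI false

set_option autoImplicit false
universe u
open CategoryTheory CategoryTheory.Limits AlgebraicGeometry
open Variety

namespace Groth.Agent.S10930

/-- Let k be an algebraically closed field of characteristic zero, X and Y varieties over k (integral,
separated and of finite type over k) with X nonsingular, i.e. smooth over k, and f : X → Y a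
k-morphism. Then there is a nonempty open subscheme V of Y such that the restriction f⁻¹(V) → V of f
is smooth. -/
theorem result (k : Type u) [Field k] [IsAlgClosed k] [CharZero k]
    {X Y : Scheme.{u}} (qX : X ⟶ Spec (CommRingCat.of k)) (qY : Y ⟶ Spec (CommRingCat.of k))
    [LocallyOfFiniteType qX] [QuasiCompact qX] [IsSeparated qX] [Smooth qX]
    [LocallyOfFiniteType qY] [QuasiCompact qY] [IsSeparated qY]
    [IsIntegral X] [IsIntegral Y] (f : X ⟶ Y) (hf : f ≫ qY = qX) :
    ∃ V : Y.Opens, (V : Set ↥Y).Nonempty ∧ Smooth (f ∣_ V) := by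
  subst hf
  haveI : LocallyOfFiniteType f := locallyOfFiniteType_of_comp f qY
  haveI : IsNoetherianRing (CommRingCat.of k) := inferInstanceAs (IsNoetherianRing k)
  haveI : IsLocallyNoetherian Y := LocallyOfFiniteType.isLocallyNoetherian qY
  haveI : LocallyOfFinitePresentation f := inferInstance
  haveI : IsLocallyNoetherian X := LocallyOfFiniteType.isLocallyNoetherian (f ≫ qY)
  haveI : QuasiCompact f := QuasiCompact.of_comp f qY
  -- every point of the generic fibre is a smooth point of `f`
  have key : ∀ z : X, f z = genericPoint Y → z ∈ f.smoothLocus := by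
    intro z hz
    rw [Scheme.Hom.mem_smoothLocus]
    have hK : IsField (Y.presheaf.stalk (f z)) := by
      rw [hz]
      exact Field.toIsField Y.functionField
    letI : Field (Y.presheaf.stalk (f z)) := hK.toField
    letI alg := (f.stalkMap z).hom.toAlgebra
    change Algebra.FormallySmooth (Y.presheaf.stalk (f z)) (X.presheaf.stalk z)
    haveI : CharZero (Y.presheaf.stalk (f z)) := by
      let φ : k →+* (Y.presheaf.stalk (f z)) :=
        (Y.presheaf.germ ⊤ (f z) trivial).hom.comp
          ((qY.appTop).hom.comp (Scheme.ΓSpecIso (CommRingCat.of k)).inv.hom)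
      exact charZero_of_injective_ringHom φ.injective
    haveI : Algebra.EssFiniteType (Y.presheaf.stalk (f z)) (X.presheaf.stalk z) :=
      LocallyOfFiniteType.stalkMap f z
    have hreg : IsRegularLocalRing (X.presheaf.stalk z) :=
      Groth.Agent.Lib.Helper26.RegularSch.isRegularLocalRing_stalk_of_smooth_field k (f ≫ qY) z
    exact Groth.Agent.Lib.Helper25.RegPerfectSmooth.formallySmooth_of_isRegularLocalRing_of_perfectField
      _ _ hreg
  have hZc : Topology.IsLocallyConstructible ((f.smoothLocus : Set X)ᶜ) :=
    Groth.Agent.Lib.Helper12.FibreDimConstr.isLocallyConstructible_of_isClosed _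
      f.smoothLocus.2.isClosed_compl
  have hE : Topology.IsLocallyConstructible (f '' ((f.smoothLocus : Set X)ᶜ))ᶜ :=
    Groth.Agent.Lib.Helper12.ConstrNhds.isLocallyConstructible_compl (f.isLocallyConstructible_image hZc)
  have hgen : genericPoint Y ∈ (f '' ((f.smoothLocus : Set X)ᶜ))ᶜ := by
    rintro ⟨z, hz, hfz⟩
    exact hz (key z hfz)
  obtain ⟨v, hv⟩ := Groth.Agent.Lib.Helper12.ConsPropBasic.interior_nonempty_of_genericPoint_mem
    _ hE hgen
  let V : Y.Opens := ⟨interior (f '' ((f.smoothLocus : Set X)ᶜ))ᶜ, isOpen_interior⟩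
  refine ⟨V, ⟨v, hv⟩, ?_⟩
  have hsub : ∀ x : X, f x ∈ V → x ∈ f.smoothLocus := by
    intro x hx
    by_contra hxs
    exact (interior_subset hx) ⟨x, hxs, rfl⟩
  haveI : LocallyOfFinitePresentation (f ∣_ V) :=
    IsZariskiLocalAtTarget.restrict (P := @LocallyOfFinitePresentation) inferInstance V
  rw [← Scheme.Hom.smoothLocus_eq_top_iff, ← top_le_iff]
  rintro x -
  rw [Scheme.Hom.mem_smoothLocus]
  exact (RingHom.FormallySmooth.respectsIso.arrow_mk_iso_iff (morphismRestrictStalkMap f V x)).mpr
    (hsub x.1 x.2)

end Groth.Agent.S10930
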