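import Groth.Statements.S10829
import Mathlib

set_option autoImplicit false
universe u
open AlgebraicGeometry
open Variety

namespace Groth.Agent.S10829

open MvPolynomial AlgebraicGeometry

variable (k : Type u) [Field k] (n : ℕ)

lemma decompose_zero_eq (f : MvPolynomial (Fin (n + 1)) k) :
    ((DirectSum.decompose (CohB1.polyGrading n k) f) 0 : MvPolynomial (Fin (n + 1)) k)
      = C (coeff 0 f) := by
  have h := MvPolynomial.decomposition.decompose'_apply (σ := Fin (n + 1)) (R := k) f 0
  rw [homogeneousComponent_zero] at h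
  exact h

/-- the irrelevant maximal ideal as a point of `Spec`. -/
noncomputable def mIrr : PrimeSpectrum (MvPolynomial (Fin (n + 1)) k) :=
  ⟨RingHom.ker (constantCoeff : MvPolynomial (Fin (n + 1)) k →+* k), RingHom.ker_isPrime _⟩

/-- the prime ideal of a point of `Proj`. -/
noncomputable def pr (x : ProjectiveSpectrum (CohB1.polyGrading n k)) :
    PrimeSpectrum (MvPolynomial (Fin (n + 1)) k) :=
  ⟨x.asHomogeneousIdeal.toIdeal, x.isPrime⟩

lemma pr_lt (x : ProjectiveSpectrum (CohB1.polyGrading n k)) : pr k n x < mIrr k n := by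
  have hle : x.asHomogeneousIdeal.toIdeal ≤
      RingHom.ker (constantCoeff : MvPolynomial (Fin (n + 1)) k →+* k) := by
    intro f hf
    rw [RingHom.mem_ker, constantCoeff_eq]
    by_contra hc
    have h0 : ((DirectSum.decompose (CohB1.polyGrading n k) f) 0 : MvPolynomial (Fin (n + 1)) k) ∈
        x.asHomogeneousIdeal.toIdeal := x.asHomogeneousIdeal.isHomogeneous 0 hf
    rw [decompose_zero_eq] at h0
    have hu : IsUnit (C (coeff 0 f) : MvPolynomial (Fin (n + 1)) k) := (IsUnit.mk0 _ hc).map C
    exact x.isPrime.ne_top (Ideal.eq_top_of_isUnit_mem _ h0 hu)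
  have hle' : pr k n x ≤ mIrr k n := hle
  refine lt_of_le_of_ne hle' ?_
  intro heq
  have hI : x.asHomogeneousIdeal.toIdeal =
      RingHom.ker (constantCoeff : MvPolynomial (Fin (n + 1)) k →+* k) :=
    congrArg PrimeSpectrum.asIdeal heq
  apply x.not_irrelevant_le
  intro a ha
  have h1 : GradedRing.proj (CohB1.polyGrading n k) 0 a = 0 :=
    (HomogeneousIdeal.mem_irrelevant_iff _ a).1 ha
  rw [GradedRing.proj_apply, decompose_zero_eq] at h1
  have h2 : coeff 0 a = 0 := (map_eq_zero_iff C (C_injective _ _)).1 h1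
  have h3 : a ∈ x.asHomogeneousIdeal.toIdeal := by
    rw [hI, RingHom.mem_ker, constantCoeff_eq]
    exact h2
  exact h3

lemma dimS : Order.krullDim (PrimeSpectrum (MvPolynomial (Fin (n + 1)) k)) =
    ((n + 1 : ℕ) : WithBot ℕ∞) := by
  have h : ringKrullDim (MvPolynomial (Fin (n + 1)) k) = ((n + 1 : ℕ) : WithBot ℕ∞) := by
    rw [MvPolynomial.ringKrullDim_of_isNoetherianRing, ringKrullDim_eq_zero_of_field, Nat.card_fin,
      zero_add]
  exact h

theorem upper : topologicalKrullDim ↥(Proj (CohB1.polyGrading n k)) ≤ (n : WithBot ℕ∞) := by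
  classical
  let gp : TopologicalSpace.IrreducibleCloseds ↥(Proj (CohB1.polyGrading n k)) →
      ProjectiveSpectrum (CohB1.polyGrading n k) := fun Z => Z.isIrreducible.genericPoint
  have hgp : ∀ Z : TopologicalSpace.IrreducibleCloseds ↥(Proj (CohB1.polyGrading n k)),
      closure ({(gp Z : ↥(Proj (CohB1.polyGrading n k)))} :
        Set ↥(Proj (CohB1.polyGrading n k))) = (Z : Set ↥(Proj (CohB1.polyGrading n k))) := by
    intro Z
    have h := Z.isIrreducible.genericPoint_closure_eq
    rw [Z.isClosed.closure_eq] at h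
    exact h
  have hmem : ∀ Z : TopologicalSpace.IrreducibleCloseds ↥(Proj (CohB1.polyGrading n k)),
      (gp Z : ↥(Proj (CohB1.polyGrading n k))) ∈ (Z : Set ↥(Proj (CohB1.polyGrading n k))) := by
    intro Z
    rw [← hgp Z]
    exact subset_closure rfl
  let φ : TopologicalSpace.IrreducibleCloseds ↥(Proj (CohB1.polyGrading n k)) →
      (PrimeSpectrum (MvPolynomial (Fin (n + 1)) k))ᵒᵈ :=
    fun Z => OrderDual.toDual (pr k n (gp Z))
  have hφ : StrictMono φ := by
    intro Z1 Z2 h
    show pr k n (gp Z2) < pr k n (gp Z1)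
    have h12 : (Z1 : Set ↥(Proj (CohB1.polyGrading n k))) ⊆ (Z2 : Set _) :=
      SetLike.coe_subset_coe.2 h.le
    have hle : gp Z2 ≤ gp Z1 := by
      apply (ProjectiveSpectrum.le_iff_mem_closure _ _ _).2
      have : (gp Z1 : ↥(Proj (CohB1.polyGrading n k))) ∈
          closure ({(gp Z2 : ↥(Proj (CohB1.polyGrading n k)))} :
            Set ↥(Proj (CohB1.polyGrading n k))) := by
        rw [hgp Z2]; exact h12 (hmem Z1)
      exact this
    have hle' : pr k n (gp Z2) ≤ pr k n (gp Z1) := fun a ha => hle ha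
    refine lt_iff_le_not_ge.2 ⟨hle', fun hge => ?_⟩
    have hge' : gp Z1 ≤ gp Z2 := fun a ha => hge ha
    have hm2 : (gp Z2 : ↥(Proj (CohB1.polyGrading n k))) ∈
        closure ({(gp Z1 : ↥(Proj (CohB1.polyGrading n k)))} :
          Set ↥(Proj (CohB1.polyGrading n k))) :=
      (ProjectiveSpectrum.le_iff_mem_closure _ _ _).1 hge'
    rw [hgp Z1] at hm2
    have h21 : (Z2 : Set ↥(Proj (CohB1.polyGrading n k))) ⊆ (Z1 : Set _) := by
      rw [← hgp Z2]
      exact closure_minimal (Set.singleton_subset_iff.2 hm2) Z1.isClosed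
    exact absurd h (not_lt_of_ge (SetLike.coe_subset_coe.1 h21))
  unfold topologicalKrullDim Order.krullDim
  apply iSup_le
  intro q
  have hrel : OrderDual.toDual (mIrr k n) < (q.map φ hφ).head := by
    show pr k n (gp q.head) < mIrr k n
    exact pr_lt k n _
  have hlen := Order.LTSeries.length_le_krullDim ((q.map φ hφ).cons (OrderDual.toDual (mIrr k n)) hrel)
  rw [Order.krullDim_orderDual, dimS, RelSeries.cons_length, LTSeries.map_length] at hlen
  have h1 : q.length + 1 ≤ n + 1 := by exact_mod_cast hlen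
  have h2 : q.length ≤ n := by omega
  exact_mod_cast h2

/-- kill the variables of index `> i`. -/
noncomputable def gfun (i : Fin (n + 1)) : Fin (n + 1) → MvPolynomial (Fin (n + 1)) k :=
  fun j => if i < j then 0 else X j

lemma gfun_hom (i j : Fin (n + 1)) : (gfun k n i j).IsHomogeneous 1 := by
  unfold gfun
  split_ifs
  · exact isHomogeneous_zero _ _ _
  · exact isHomogeneous_X _ _

noncomputable def Φ (i : Fin (n + 1)) :
    (CohB1.polyGrading n k) →+*ᵍ (CohB1.polyGrading n k) where
  toRingHom := (aeval (gfun k n i) :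
    MvPolynomial (Fin (n + 1)) k →ₐ[k] MvPolynomial (Fin (n + 1)) k).toRingHom
  map_mem := by
    intro d x hx
    have hx' : x.IsHomogeneous d := hx
    have h := hx'.aeval (gfun k n i) (gfun_hom k n i)
    rw [one_mul] at h
    exact h

lemma Φ_apply (i : Fin (n + 1)) (f : MvPolynomial (Fin (n + 1)) k) :
    (Φ k n i) f = aeval (gfun k n i) f := rfl

noncomputable def QI (i : Fin (n + 1)) : HomogeneousIdeal (CohB1.polyGrading n k) :=
  HomogeneousIdeal.comap (Φ k n i) ⊥

lemma mem_QI (i : Fin (n + 1)) (f : MvPolynomial (Fin (n + 1)) k) :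
    f ∈ QI k n i ↔ aeval (gfun k n i) f = 0 := by
  change (Φ k n i) f ∈ (⊥ : Ideal (MvPolynomial (Fin (n + 1)) k)) ↔ _
  rw [Ideal.mem_bot, Φ_apply]

lemma X0_notMem (i : Fin (n + 1)) : (X 0 : MvPolynomial (Fin (n + 1)) k) ∉ QI k n i := by
  rw [mem_QI, aeval_X]
  unfold gfun
  rw [if_neg (Fin.not_lt_zero i)]
  exact X_ne_zero _

noncomputable def Q (i : Fin (n + 1)) : ProjectiveSpectrum (CohB1.polyGrading n k) where
  asHomogeneousIdeal := QI k n i
  isPrime := by
    have h : (RingHom.ker (aeval (gfun k n i) :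
      MvPolynomial (Fin (n + 1)) k →ₐ[k] MvPolynomial (Fin (n + 1)) k).toRingHom).IsPrime :=
      RingHom.ker_isPrime _
    exact h
  not_irrelevant_le := by
    intro hle
    apply X0_notMem k n i
    apply hle
    exact HomogeneousIdeal.mem_irrelevant_of_mem _ zero_lt_one
      (isHomogeneous_X k (0 : Fin (n + 1)))

lemma aeval_comp (i i' : Fin (n + 1)) (h : i ≤ i') (f : MvPolynomial (Fin (n + 1)) k) :
    aeval (gfun k n i) (aeval (gfun k n i') f) = aeval (gfun k n i) f := by
  rw [← AlgHom.comp_apply]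
  congr 1
  apply MvPolynomial.algHom_ext
  intro j
  rw [AlgHom.comp_apply, aeval_X, aeval_X]
  by_cases h1 : i' < j
  · have h2 : i < j := lt_of_le_of_lt h h1
    simp only [gfun, if_pos h1, if_pos h2, map_zero]
  · simp only [gfun, if_neg h1, aeval_X]

lemma Q_le (i i' : Fin (n + 1)) (h : i ≤ i') : Q k n i' ≤ Q k n i := by
  intro f hf
  have hf' : f ∈ QI k n i' := hf
  rw [mem_QI] at hf'
  have : f ∈ QI k n i := by
    rw [mem_QI, ← aeval_comp k n i i' h, hf', map_zero]
  exact this

lemma Q_not_le (i i' : Fin (n + 1)) (h : i < i') : ¬ Q k n i ≤ Q k n i' := by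
  intro hle
  have h1 : (X i' : MvPolynomial (Fin (n + 1)) k) ∈ QI k n i := by
    rw [mem_QI, aeval_X]
    unfold gfun
    rw [if_pos h]
  have h2 : (X i' : MvPolynomial (Fin (n + 1)) k) ∈ QI k n i' := hle h1
  rw [mem_QI, aeval_X] at h2
  unfold gfun at h2
  rw [if_neg (lt_irrefl _)] at h2
  exact X_ne_zero _ h2

theorem lower : (n : WithBot ℕ∞) ≤ topologicalKrullDim ↥(Proj (CohB1.polyGrading n k)) := by
  classical
  let Zc : Fin (n + 1) → TopologicalSpace.IrreducibleCloseds ↥(Proj (CohB1.polyGrading n k)) :=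
    fun i => ⟨closure ({(Q k n i : ↥(Proj (CohB1.polyGrading n k)))} :
      Set ↥(Proj (CohB1.polyGrading n k))), isIrreducible_singleton.closure, isClosed_closure⟩
  have hmono : StrictMono Zc := by
    intro i i' h
    have hmem : (Q k n i : ↥(Proj (CohB1.polyGrading n k))) ∈
        closure ({(Q k n i' : ↥(Proj (CohB1.polyGrading n k)))} :
          Set ↥(Proj (CohB1.polyGrading n k))) :=
      (ProjectiveSpectrum.le_iff_mem_closure _ _ _).1 (Q_le k n i i' h.le)
    have hsub : (Zc i : Set ↥(Proj (CohB1.polyGrading n k))) ⊆ (Zc i' : Set _) :=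
      closure_minimal (Set.singleton_subset_iff.2 hmem) isClosed_closure
    refine lt_iff_le_not_ge.2 ⟨SetLike.coe_subset_coe.1 hsub, fun hge => ?_⟩
    have hsub' : (Zc i' : Set ↥(Proj (CohB1.polyGrading n k))) ⊆ (Zc i : Set _) :=
      SetLike.coe_subset_coe.2 hge
    have hmem' : (Q k n i' : ↥(Proj (CohB1.polyGrading n k))) ∈
        closure ({(Q k n i : ↥(Proj (CohB1.polyGrading n k)))} :
          Set ↥(Proj (CohB1.polyGrading n k))) := hsub' (subset_closure rfl)
    exact Q_not_le k n i i' h ((ProjectiveSpectrum.le_iff_mem_closure _ _ _).2 hmem')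
  have h := Order.LTSeries.length_le_krullDim (LTSeries.mk n Zc hmono)
  exact h

/-- For a field k and a natural number n, projective n-space over k (Proj of the polynomial ring in n +
1 variables graded by degree) has Krull dimension n as a topological space. (The published statement
also gives affine n-space dimension n; that half is the Krull dimension of a polynomial ring and is
not restated here.) -/
theorem result (k : Type u) [Field k] (n : ℕ) :
    topologicalKrullDim ↥(CohB1.ProjSpace n k) = (n : WithBot ℕ∞) := by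
  show topologicalKrullDim ↥(Proj (CohB1.polyGrading n k)) = _
  exact le_antisymm (upper k n) (lower k n)

end Groth.Agent.S10829
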