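import Mathlib
import Groth.Agent.Lib.Helper20.GrBassMain
import Groth.Statements.S18636
-- import your own Groth.Agent.* helpers here

set_option autoImplicit false
universe u
open GrLC

open Groth.Agent.Lib.Helper20

namespace Groth.Agent.S18636

/-- Let R be a commutative Noetherian ℤ-graded ring, M a graded R-module (not necessarily finitely
generated) and p a prime ideal of R which is not graded; write p* for the largest graded ideal
contained in p (a graded prime). Then μ_0(p, M) = 0 and μ_{i+1}(p, M) = μ_i(p*, M) for every i ≥ 0.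
(Bass numbers μ_i(q, M) are taken as the k(q)-dimension of Ext^i over R_q of k(q) into M_q, as
extended natural numbers; the published text also recalls their description as multiplicities in a
minimal injective resolution, and the two agree over a Noetherian ring.) -/
theorem result (R : Type u) [CommRing R] [IsNoetherianRing R] (𝒜 : ℤ → AddSubgroup R) [GradedRing 𝒜] (M : Type u) [AddCommGroup M] [Module R M] (ℳ : ℤ → AddSubgroup M) [DirectSum.Decomposition ℳ] [SetLike.GradedSMul 𝒜 ℳ] (p : Ideal R) [p.IsPrime] (hp : ¬ Ideal.IsHomogeneous 𝒜 p) [(Ideal.homogeneousCore 𝒜 p).toIdeal.IsPrime] : GrLC.bassNum p M 0 = 0 ∧ ∀ i : ℕ, GrLC.bassNum p M (i + 1) = GrLC.bassNum (Ideal.homogeneousCore 𝒜 p).toIdeal M i := by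
  classical
  have hq : (Ideal.homogeneousCore 𝒜 p).toIdeal.IsHomogeneous 𝒜 :=
    (Ideal.homogeneousCore 𝒜 p).isHomogeneous
  have hqp' : (Ideal.homogeneousCore 𝒜 p).toIdeal ≤ p := GrBassAlg.core_le 𝒜 p
  obtain ⟨a, hap, haq, hgen⟩ := GrBassAlg.exists_generator_core 𝒜 p hp
  have hstruct := fun n : ℕ =>
    GrBassMain.exists_structure 𝒜 M ℳ (Ideal.homogeneousCore 𝒜 p).toIdeal hq n
  have hSp : ∀ (t : R) (d : ℤ), t ∈ 𝒜 d → t ∉ (Ideal.homogeneousCore 𝒜 p).toIdeal →
      t ∈ p.primeCompl := fun t d hd htq htp => htq (GrBassAlg.mem_core_of_homogeneous 𝒜 p d t hd htp)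
  have hSq : ∀ (t : R) (d : ℤ), t ∈ 𝒜 d → t ∉ (Ideal.homogeneousCore 𝒜 p).toIdeal →
      t ∈ (Ideal.homogeneousCore 𝒜 p).toIdeal.primeCompl := fun t d hd htq => htq
  have hall : ∀ n : ℕ, ∃ s : Type u,
      Nonempty ((s →₀ LocalizedModule p.primeCompl (R ⧸ (Ideal.homogeneousCore 𝒜 p).toIdeal))
        ≃ₗ[Localization p.primeCompl]
        CategoryTheory.Abelian.Ext.{u} (ModuleCat.of (Localization p.primeCompl)
          (LocalizedModule p.primeCompl (R ⧸ (Ideal.homogeneousCore 𝒜 p).toIdeal)))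
          (ModuleCat.of (Localization p.primeCompl) (LocalizedModule p.primeCompl M)) n) := by
    intro n
    obtain ⟨s, hs⟩ := hstruct n
    exact ⟨s, hs p.primeCompl hSp⟩
  refine ⟨GrBassMain.bassNum_zero M _ p hqp' a hap haq hgen hall, fun i => ?_⟩
  obtain ⟨s, hs⟩ := hstruct i
  obtain ⟨ep⟩ := hs p.primeCompl hSp
  obtain ⟨eq⟩ := hs (Ideal.homogeneousCore 𝒜 p).toIdeal.primeCompl hSq
  rw [GrBassMain.bassNum_succ M _ p hqp' a hap haq hgen hall i s ep,
    GrBassMain.bassNum_core M _ i s eq]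

end Groth.Agent.S18636
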