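import Groth.Statements.S0458
import Groth.Agent.Lib.Helper5.SobCoh
import Groth.Agent.S0469

set_option autoImplicit false
universe u
open CategoryTheory
open CohTop

namespace Groth.Agent.S0458

/-- Let X be a Noetherian topological space whose Krull dimension (of the specialization order on
irreducible closed subsets) is at most d. Then H^p(X, F) = 0 for every abelian sheaf F and every p >
d. -/
theorem result {X : TopCat.{u}} [TopologicalSpace.NoetherianSpace X] (d : ℕ)
    (hd : topologicalKrullDim X ≤ d) (F : CohTop.Ab X) (p : ℕ) (hp : d < p) :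
    Subsingleton (CohTop.H F p) := by
  have hsp : SpectralSpace (Groth.Agent.Lib.Helper5.SobCoh.S X) :=
    Groth.Agent.Lib.Helper5.Sobrify.spectralSpace (X := X)
  have hdim : topologicalKrullDim (Groth.Agent.Lib.Helper5.SobCoh.S X) ≤ d :=
    (Groth.Agent.Lib.Helper5.Sobrify.dim_le (X := X)).trans hd
  have h1 := Groth.Agent.S0469.result (X := Groth.Agent.Lib.Helper5.SobCoh.S X) d hdim
    ((CohTop.push (Groth.Agent.Lib.Helper5.SobCoh.jj X)).obj F) p hp
  exact (Groth.Agent.Lib.Helper5.SobCoh.HEquivPush F p).toEquiv.subsingleton_congr.2 h1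

end Groth.Agent.S0458
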