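import Groth.Statements.S12430
import Groth.Agent.Lib.Helper23.Sat
import Groth.Agent.Lib.Helper23.VBMaps
import Groth.Agent.Lib.Helper23.HiggsInv
import Groth.Agent.Lib.Helper23.Inverse
import Groth.Agent.Lib.Helper23.DegTensor
import Groth.Agent.Lib.Helper23.GeomH0
import Groth.Agent.Lib.Helper23.FBC5
import Groth.Agent.Lib.Helper12.CurveNormSm
import Groth.Agent.Lib.Helper7.PtSec

set_option autoImplicit false
universe u
open CategoryTheory CategoryTheory.Limits AlgebraicGeometry
open Curves

namespace Groth.Agent.S12430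

open Scheme.Modules
open Groth.Agent.Lib.Helper3 Groth.Agent.Lib.Helper3.InvGen Groth.Agent.Lib.Helper3.InvMonoidal
  Groth.Agent.Lib.Helper7.TwFun
open Groth.Agent.Lib.Helper23.T2 Groth.Agent.Lib.Helper23.Curve Groth.Agent.Lib.Helper23.Twist
  Groth.Agent.Lib.Helper23 Groth.Agent.Lib.Helper23.Inverse Groth.Agent.Lib.Helper7.PtDiv

/-- Let C be a curve over an algebraically closed field k (integral, proper over k, of dimension one,
all local rings regular) and E a locally free O_C-module of rank 2 which is normalized — H^0(C, E) ≠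
0 while H^0(C, E ⊗ M) = 0 for every invertible O_C-module M of negative degree. Then for every
nonzero morphism s : O_C → E the cokernel of s is an invertible O_C-module (so E is an extension of
an invertible module by O_C). -/
theorem result (k : Type u) [Field k] [IsAlgClosed k] (C : Scheme.{u}) [C.Over (Spec (CommRingCat.of k))]
    [IsIntegral C] [IsProper (C ↘ (Spec (CommRingCat.of k)))] (hdimC : topologicalKrullDim C = 1)
    (hregC : ∀ x : C, IsRegularLocalRing (C.presheaf.stalk x))
    (E : C.Modules) (hE : FlatMod.IsFinLocFreeOfRank 2 E)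
    (hE0 : Nontrivial (Coh.HH C E 0))
    (hEneg : ∀ M : C.Modules, PicF.IsInvertible M → Curv2.deg k C M 1 < 0 → Subsingleton (Coh.HH C (CohB1.tensorMod E M) 0))
    (s : Coh.structureModule C ⟶ E) (hs : s ≠ 0) :
    PicF.IsInvertible (cokernel s) := by
  haveI := isNoetherian_of_isProper k C
  haveI : PerfectField k := inferInstance
  haveI : LocallyOfFinitePresentation (C ↘ Spec (CommRingCat.of k)) := inferInstance
  haveI : Smooth (C ↘ Spec (CommRingCat.of k)) :=
    Groth.Agent.Lib.Helper12.CurveNormSm.smooth_of_regular_of_perfect k _ hregC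
  have h0 := GeomH0.finrank_H0_eq_one_of_isAlgClosed k C
  have hOinv := isInvertible_structureModule C
  have hO := isFinLocFreeOfRank_one_of_isInvertible hOinv
  -- `s` is a monomorphism
  obtain ⟨a, b, -, -, hab, -, hb0, ha0, -, -⟩ := VBMaps.map_analysis k hdimC.le hO hE s
  have hb : b ≠ 0 := fun h => hs (hb0 h)
  have ha : a = 0 := by omega
  haveI : Mono s := (ha0 ha).1
  -- saturation
  obtain ⟨G', C', i', p, w, u, c, hS, hui, hG', hC', hrank, hdle, hdE, huiso⟩ :=
    Sat.exists_saturation k hdimC.le hO hE s
  have hc : c = 1 := by omega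
  subst hc
  have hG'inv := HiggsInv.isInvertible_of_rank_one hG'
  have hC'inv := HiggsInv.isInvertible_of_rank_one hC'
  haveI : Mono i' := hS.mono_f
  -- `deg G' ≤ 0` since `E` is normalized
  obtain ⟨N, hN, hGN⟩ := exists_isInverseOf hG'inv
  have hdN := DegTensor.deg_of_isInverseOf k hdimC.le hG'inv hN hGN
  obtain ⟨e⟩ := hGN
  have hnt : Nontrivial (Coh.HH C (CohB1.tensorMod E N) 0) := by
    let j : CohB1.tensorMod G' N ⟶ CohB1.tensorMod E N := (twR N).map i'
    haveI : Mono j := mono_tw hN i'
    have hinj := HmapL_injective_of_mono k j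
    haveI : Nontrivial (Coh.HH C (Coh.structureModule C) 0) :=
      Module.nontrivial_of_finrank_pos (R := k) (by omega)
    haveI : Nontrivial (Coh.HH C (CohB1.tensorMod G' N) 0) :=
      (FBC.HmapEquivK k e 0).toEquiv.nontrivial
    exact hinj.nontrivial
  have hdegN : 0 ≤ Curv2.deg k C N 1 := by
    by_contra hneg
    push Not at hneg
    have := hEneg N hN hneg
    exact not_subsingleton _ this
  have hdO := DegTensor.deg_structureModule_one k (X := C)
  have hdeq : Curv2.deg k C (Coh.structureModule C) 1 = Curv2.deg k C G' 1 := by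
    rw [hdO] at hdle ⊢
    linarith
  haveI : IsIso u := huiso hdeq
  obtain ⟨ε, -⟩ := Sat.exists_cokernel_iso_of_epi_fac s i' p w hS u hui
  exact InvAmple.isInvertible_of_iso ε.symm hC'inv

end Groth.Agent.S12430
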