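import Groth.Statements.S10860
import Mathlib

set_option autoImplicit false
universe u
open Mor

namespace Groth.Agent.S10860

section Aux
open CategoryTheory AlgebraicGeometry

theorem finite_fibre_of_isFinite_restrict {X Y : Scheme.{u}} (f : X ⟶ Y) (V : Y.Opens)
    [IsFinite (f ∣_ V)] (y : Y) (hy : y ∈ V) : (f.base ⁻¹' {y}).Finite := by
  have h1 : ((f ∣_ V) ⁻¹' {⟨y, hy⟩}).Finite := (f ∣_ V).finite_preimage_singleton ⟨y, hy⟩
  refine (h1.image Subtype.val).subset ?_
  intro x hx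
  have hx' : f x = y := hx
  have hxV : x ∈ f ⁻¹ᵁ V := by
    change f x ∈ V
    rw [hx']
    exact hy
  refine ⟨⟨x, hxV⟩, ?_, rfl⟩
  change (f ∣_ V) ⟨x, hxV⟩ = ⟨y, hy⟩
  apply Subtype.ext
  rw [morphismRestrict_base_coe]
  exact hx'

end Aux

open CategoryTheory AlgebraicGeometry in
/-- For a proper morphism f : X → Y, the set V of points of Y with finite fibre is open, and f
restricted over V is finite (stated as the existence of an open subscheme of Y whose underlying set
is exactly V and over which f is finite). -/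
theorem result {X Y : Scheme.{u}} (f : X ⟶ Y) [IsProper f] :
    ∃ U : Y.Opens, (U : Set Y) = {y : Y | (f.base ⁻¹' {y}).Finite} ∧ IsFinite (f ∣_ U) := by
  have H : ∀ y : {y : Y | (f.base ⁻¹' {y}).Finite},
      ∃ V : Y.Opens, y.1 ∈ V ∧ IsFinite (f ∣_ V) := fun y =>
    exists_isFinite_morphismRestrict_of_finite_preimage_singleton f y.1 y.2
  choose V hyV hV using H
  have hfin : IsFinite (f ∣_ (⨆ y, V y)) := by
    apply IsZariskiLocalAtTarget.of_forall_exists_morphismRestrict (P := @IsFinite)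
    intro x
    obtain ⟨y, hy⟩ := TopologicalSpace.Opens.mem_iSup.mp x.2
    refine ⟨(⨆ y, V y).ι ⁻¹ᵁ V y, hy, ?_⟩
    have e1 := morphismRestrictRestrict f (⨆ y, V y) ((⨆ y, V y).ι ⁻¹ᵁ V y)
    have heq : (⨆ y, V y).ι ''ᵁ ((⨆ y, V y).ι ⁻¹ᵁ V y) = V y := by
      rw [Scheme.Hom.image_preimage_eq_opensRange_inf, Scheme.Opens.opensRange_ι]
      exact inf_eq_right.mpr (le_iSup V y)
    have e2 := morphismRestrictEq f heq
    rw [MorphismProperty.arrow_mk_iso_iff @IsFinite (e1 ≪≫ e2)]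
    exact hV y
  refine ⟨⨆ y, V y, ?_, hfin⟩
  ext y
  constructor
  · intro hy
    exact finite_fibre_of_isFinite_restrict f (⨆ y, V y) y hy
  · intro hy
    exact TopologicalSpace.Opens.mem_iSup.mpr ⟨⟨y, hy⟩, hyV ⟨y, hy⟩⟩

end Groth.Agent.S10860
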