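import Groth.Statements.S13597
import Groth.Agent.Lib.Helper5.GroupQuot
import Groth.Agent.Lib.Helper11.RF1

set_option autoImplicit false
universe u
open CategoryTheory AlgebraicGeometry
open SGA1

namespace Groth.Agent.S13597

open Groth.Agent.Lib.Helper5 Groth.Agent.Lib.Helper11
open scoped Pointwise

theorem main {X Y : Scheme.{u}} {G : Type u} [Group G] [Finite G] (ρ : G →* Aut X) (p : X ⟶ Y)
    (hp : SGA1.IsQuot ρ p) (x : X) (U : Y.Opens) (hU : IsAffineOpen U)
    (hV : IsAffineOpen (p ⁻¹ᵁ U)) (hxV : x ∈ p ⁻¹ᵁ U) :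
    (letI := (p.residueFieldMap x).hom.toAlgebra
     Normal (Y.residueField (p.base x)) (X.residueField x)) ∧
    ∀ τ : X.residueField x ≅ X.residueField x,
      p.residueFieldMap x ≫ τ.hom = p.residueFieldMap x →
      ∃ (g : G) (e : (ρ g).hom.base x = x),
        τ.hom = (X.residueFieldCongr e).inv ≫ (ρ g).hom.residueFieldMap x := by
  letI := GroupQuot.quotAction hp U
  letI := GroupQuot.quotAlgebra (p := p) U
  haveI := GroupQuot.isInvariant hp U
  haveI := GroupQuot.smulCommClass hp U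
  have hyU : p x ∈ U := hxV
  have hstab : ∀ g : G, p ⁻¹ᵁ U ≤ (ρ g).hom ⁻¹ᵁ (p ⁻¹ᵁ U) :=
    fun g => SGA1.preimage_le_of_inv ρ p hp.inv g U
  set Q : Ideal Γ(X, p ⁻¹ᵁ U) := (hV.primeIdealOf ⟨x, hxV⟩).asIdeal with hQdef
  set P : Ideal Γ(Y, U) := (hU.primeIdealOf ⟨p x, hyU⟩).asIdeal with hPdef
  haveI hQprime : Q.IsPrime := (hV.primeIdealOf ⟨x, hxV⟩).isPrime
  haveI hPprime : P.IsPrime := (hU.primeIdealOf ⟨p x, hyU⟩).isPrime
  have hPQ : P = Q.under Γ(Y, U) := by
    have := IsAffineOpen.comap_primeIdealOf_appLE (f := p) U hU (p ⁻¹ᵁ U) hV le_rfl hxV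
    rw [← Scheme.Hom.app_eq_appLE] at this
    exact (congrArg PrimeSpectrum.asIdeal this).symm
  haveI : Q.LiesOver P := ⟨hPQ⟩
  letI aK : Algebra (Γ(Y, U) ⧸ P) (Y.residueField (p x)) := RF1.algQ hU (p x) hyU
  haveI : IsFractionRing (Γ(Y, U) ⧸ P) (Y.residueField (p x)) :=
    RF1.isFractionRing hU (p x) hyU
  letI aL : Algebra (Γ(X, p ⁻¹ᵁ U) ⧸ Q) (X.residueField x) := RF1.algQ hV x hxV
  haveI : IsFractionRing (Γ(X, p ⁻¹ᵁ U) ⧸ Q) (X.residueField x) := RF1.isFractionRing hV x hxV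
  letI aKL : Algebra (Y.residueField (p x)) (X.residueField x) :=
    (p.residueFieldMap x).hom.toAlgebra
  letI aPL : Algebra (Γ(Y, U) ⧸ P) (X.residueField x) :=
    ((algebraMap (Y.residueField (p x)) (X.residueField x)).comp
      (algebraMap (Γ(Y, U) ⧸ P) (Y.residueField (p x)))).toAlgebra
  haveI : IsScalarTower (Γ(Y, U) ⧸ P) (Y.residueField (p x)) (X.residueField x) :=
    .of_algebraMap_eq' rfl
  haveI : IsScalarTower (Γ(Y, U) ⧸ P) (Γ(X, p ⁻¹ᵁ U) ⧸ Q) (X.residueField x) := by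
    refine .of_algebraMap_eq fun a => ?_
    obtain ⟨a, rfl⟩ := Ideal.Quotient.mk_surjective a
    change (p.residueFieldMap x).hom ((Y.evaluation U (p x) hyU).hom a) =
      (X.evaluation (p ⁻¹ᵁ U) x hxV).hom ((p.app U).hom a)
    exact Scheme.evaluation_naturality_apply p x hyU a
  refine ⟨Ideal.IsFractionRing.normal G P Q _ _, ?_⟩
  intro τ hτ
  have hcomm : ∀ k : Y.residueField (p x),
      τ.commRingCatIsoToRingEquiv (algebraMap (Y.residueField (p x)) (X.residueField x) k) =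
        algebraMap (Y.residueField (p x)) (X.residueField x) k := by
    intro k
    exact congrArg (fun φ => φ.hom k) hτ
  let f : (X.residueField x) ≃ₐ[Y.residueField (p x)] (X.residueField x) :=
    AlgEquiv.ofRingEquiv (f := τ.commRingCatIsoToRingEquiv) hcomm
  obtain ⟨σ, hσ⟩ := IsFractionRing.stabilizerHom_surjective G P Q
    (Y.residueField (p x)) (X.residueField x) f
  have hσQ : (σ : G) • Q = Q := σ.2
  have hgQ : Q = (σ : G)⁻¹ • Q := by
    rw [eq_inv_smul_iff]; exact hσQ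
  have key : ∀ c, c ∈ Q ↔ (σ : G) • c ∈ Q := fun c => by
    conv_lhs => rw [hgQ]
    rw [Ideal.mem_pointwise_smul_iff_inv_smul_mem, inv_inv]
  have e : (ρ (σ : G)⁻¹).hom.base x = x := by
    have h3 := IsAffineOpen.comap_primeIdealOf_appLE (f := (ρ (σ : G)⁻¹).hom) (p ⁻¹ᵁ U) hV
      (p ⁻¹ᵁ U) hV (hstab _) hxV
    have h4 : hV.primeIdealOf ⟨(ρ (σ : G)⁻¹).hom x, hstab _ hxV⟩ = hV.primeIdealOf ⟨x, hxV⟩ := by
      rw [← h3]
      apply PrimeSpectrum.ext
      ext c
      exact (key c).symm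
    exact GroupQuot.primeIdealOf_injective hV _ _ h4
  refine ⟨(σ : G)⁻¹, e, ?_⟩
  apply CommRingCat.hom_ext
  apply IsLocalization.ringHom_ext (nonZeroDivisors (Γ(X, p ⁻¹ᵁ U) ⧸ Q))
  apply Ideal.Quotient.ringHom_ext
  ext b
  have h5 : τ.hom.hom ((X.evaluation (p ⁻¹ᵁ U) x hxV).hom b) =
      (X.evaluation (p ⁻¹ᵁ U) x hxV).hom ((σ : G) • b) := by
    have := IsFractionRing.stabilizerHom_apply_apply_mk G P Q (Y.residueField (p x))
      (X.residueField x) σ b
    rw [hσ] at this
    exact this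
  have h6 : ((X.residueFieldCongr e).inv ≫ (ρ (σ : G)⁻¹).hom.residueFieldMap x).hom
      ((X.evaluation (p ⁻¹ᵁ U) x hxV).hom b) =
      (X.evaluation (p ⁻¹ᵁ U) x hxV).hom ((σ : G) • b) := by
    change ((ρ (σ : G)⁻¹).hom.residueFieldMap x).hom ((X.residueFieldCongr e.symm).hom
      ((X.evaluation (p ⁻¹ᵁ U) x hxV).hom b)) = _
    rw [RF1.evaluation_congr e.symm hxV b]
    exact (RF1.evaluation_appLE (ρ (σ : G)⁻¹).hom (hstab _) x hxV b).symm
  exact h5.trans h6.symm

/-- Let a finite group G act on a scheme X and let p : X ⟶ Y be a quotient of X by G (affine,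
G-invariant, sections of O_Y = G-invariant sections of O_X). For a point x of X with image y, the
residue field κ(x) is a normal algebraic extension of κ(y) through the map induced by p, and the
stabilizer of x in G maps onto the group of κ(y)-automorphisms of κ(x): every automorphism τ of κ(x)
over κ(y) is the map on residue fields induced by some g ∈ G with g·x = x (composed with the
identification of the residue fields at g·x and x). -/
theorem result {X Y : Scheme.{u}} {G : Type u}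
    [Group G] [Finite G] (ρ : G →* Aut X) (p : X ⟶ Y) (hp : SGA1.IsQuot ρ p) (x : X) :
    (letI := (p.residueFieldMap x).hom.toAlgebra
     Normal (Y.residueField (p.base x)) (X.residueField x)) ∧
    ∀ τ : X.residueField x ≅ X.residueField x,
      p.residueFieldMap x ≫ τ.hom = p.residueFieldMap x →
      ∃ (g : G) (e : (ρ g).hom.base x = x),
        τ.hom = (X.residueFieldCongr e).inv ≫ (ρ g).hom.residueFieldMap x := by
  haveI := hp.affine
  obtain ⟨_, ⟨U, hU0, rfl⟩, hyU, -⟩ :=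
    Y.isBasis_affineOpens.exists_subset_of_mem_open (Set.mem_univ (p x)) isOpen_univ
  have hU : IsAffineOpen U := hU0
  have hV : IsAffineOpen (p ⁻¹ᵁ U) := hU.preimage p
  exact main ρ p hp x U hU hV hyU

end Groth.Agent.S13597
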