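import Groth.Statements.S0013
import Groth.Agent.Lib.Helper13.AffineVanish
import Groth.Agent.Lib.Helper13.CechLerayApp

set_option autoImplicit false
universe u
open Coherent

namespace Groth.Agent.S0013

open AlgebraicGeometry in
/-- Let X be a scheme with an open covering all of whose nonempty finite intersections are affine. For a
quasi-coherent module M and every degree p, Čech cohomology with respect to this covering is
isomorphic to sheaf cohomology; only the existence of an isomorphism of additive groups is asserted
(the published statement gives an isomorphism of modules over the global sections). -/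
theorem result (X : Scheme.{u}) {ι : Type u}
    (U : ι → X.Opens) (hcov : ⨆ i, U i = ⊤)
    (hU : ∀ s : Finset ι, s.Nonempty → IsAffineOpen (⨅ i ∈ s, U i))
    (M : X.Modules) [Coh.IsQCoh M] (p : ℕ) :
    Nonempty (↑(CohB1.cechH U M p) ≃+ Coh.HH X M p) := by
  classical
  have h : ∀ (p : ℕ) (a : Fin (p + 1) → ι) (q : ℕ),
      Subsingleton (CohTop.HU (Coh.toAb M) (q + 1) (iInf fun k => U (a k))) := by
    intro p a q
    have hs : (Finset.univ.image a).Nonempty := Finset.image_nonempty.2 Finset.univ_nonempty
    have h1 := hU (Finset.univ.image a) hs
    have h2 : (⨅ i ∈ Finset.univ.image a, U i) = iInf fun k => U (a k) := by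
      rw [Finset.iInf_finset_image]
      simp
    rw [h2] at h1
    exact Groth.Agent.Lib.Helper13.AffineVanish.subsingleton_HU_of_isAffineOpen M h1 q
  obtain ⟨e⟩ := Groth.Agent.Lib.Helper13.CechLerayApp.leray_top (Coh.toAb M) U h p
  rw [hcov] at e
  have hT : CategoryTheory.Limits.IsTerminal (⊤ : X.Opens) := CategoryTheory.Limits.isTerminalTop
  exact ⟨e.trans (Groth.Agent.Lib.Helper13.ProfiniteAcyclic.HEquivHU
    (Opens.grothendieckTopology X) hT (Coh.toAb M) p).symm⟩

end Groth.Agent.S0013
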