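import Groth.Statements.S4815
-- import your own Groth.Agent.* helpers here
import Mathlib
import Groth.Agent.Lib.Helper12.CoverDesc
import Groth.Agent.S9193

set_option autoImplicit false
universe u
open CategoryTheory AlgebraicGeometry
open Lim8

namespace Groth.Agent.S4815
open Limits Groth.Agent.Lib.Helper12 Groth.Agent.Lib.Helper12.CoverDesc
set_option backward.isDefEq.respectTransparency false
set_option linter.style.haveILetI false

/-- Let S = lim S_i be a cofiltered limit of schemes with affine transition maps and S_{i₀} a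
quasi-compact quasi-separated stage. Then every subscheme of finite presentation of S, that is every
immersion ι : Z ⟶ S which is locally of finite presentation and quasi-compact, is the base change
along S ⟶ S_j of an immersion of finite presentation Z_j ⟶ S_j, for some index j over i₀ (the base
change is expressed by a pullback square). -/
theorem result {I : Type u} [SmallCategory I] [IsCofiltered I]
    (D : I ⥤ Scheme.{u}) (c : Limits.Cone D) (hc : Limits.IsLimit c)
    [∀ (i j : I) (f : i ⟶ j), IsAffineHom (D.map f)] (i₀ : I)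
    [CompactSpace (D.obj i₀)] [QuasiSeparatedSpace (D.obj i₀)]
    {Z : Scheme.{u}} (ι : Z ⟶ c.pt) [IsImmersion ι] [LocallyOfFinitePresentation ι] [QuasiCompact ι] :
    ∃ (j : I) (_ : j ⟶ i₀) (Zj : Scheme.{u}) (ιj : Zj ⟶ D.obj j) (q : Z ⟶ Zj),
      IsImmersion ιj ∧ LocallyOfFinitePresentation ιj ∧ QuasiCompact ιj ∧ IsPullback q ι ιj (c.π.app j) := by
  classical
  haveI hD : ∀ {i j : I} (f : i ⟶ j), IsAffineHom (D.map f) := fun f => inferInstance
  let D' : Over i₀ ⥤ Scheme.{u} := Over.forget i₀ ⋙ D
  let c' : Cone D' := c.whisker (Over.forget i₀)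
  have hc' : IsLimit c' := (Functor.Initial.isLimitWhiskerEquiv (Over.forget i₀) c).symm hc
  haveI hD' : ∀ {i j : Over i₀} (f : i ⟶ j), IsAffineHom (D'.map f) :=
    fun f => inferInstanceAs (IsAffineHom (D.map f.left))
  haveI hD'' : ∀ (i j : Over i₀) (f : i ⟶ j), IsAffineHom (D'.map f) := fun _ _ f => hD' f
  haveI hcp : ∀ j : Over i₀, CompactSpace (D'.obj j) :=
    fun j => QuasiCompact.compactSpace_of_compactSpace (D.map j.hom)
  haveI hqs : ∀ j : Over i₀, QuasiSeparatedSpace (D'.obj j) :=
    fun j => quasiSeparatedSpace_of_quasiSeparated (D.map j.hom)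
  haveI : MorphismProperty.IsStableUnderBaseChange @IsImmersion := inferInstance
  obtain ⟨j, ⟨s⟩⟩ := exists_stage (D := D') (c := c') hc' @IsImmersion
      (fun i₁ X₀ Y₀ f₀ g₀ _ _ _ _ _ X Y f g qY qX hY hX hf => by
        haveI : IsImmersion f := hf
        exact Groth.Agent.S9193.result D' c' hc' i₁ f₀ g₀ f g qY qX hY hX)
      ι inferInstance
  exact ⟨j.left, j.hom, s.V, s.v, s.e, s.hP, s.lfp, s.qc, s.sq⟩

end Groth.Agent.S4815
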