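import Groth.Statements.S2076
-- import your own Groth.Agent.* helpers here
import Mathlib
import Groth.Agent.Lib.Helper12.LimCIStage

set_option autoImplicit false
universe u
open CategoryTheory AlgebraicGeometry
open Lim

namespace Groth.Agent.S2076
open CategoryTheory.Limits Groth.Agent.Lib.Helper12.LimCIStage

set_option backward.isDefEq.respectTransparency false

/-- Let `X = lim X_i` be a cofiltered limit of quasi-compact schemes over `S` with affine transition
morphisms and `h : Y → X` a closed immersion with `Y → S` locally of finite type. Then `Y → X_i` is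
a closed immersion for some `i`. -/
theorem result {I : Type u} [SmallCategory I] [IsCofiltered I] (S : Scheme.{u})
    (D : I ⥤ Over S) (c : Limits.Cone D) (hc : Limits.IsLimit c)
    [∀ (i j : I) (f : i ⟶ j), IsAffineHom (D.map f).left] [∀ i, CompactSpace (D.obj i).left]
    {Y : Scheme.{u}} (h : Y ⟶ c.pt.left) [IsClosedImmersion h] [LocallyOfFiniteType (h ≫ c.pt.hom)] :
    ∃ i : I, IsClosedImmersion (h ≫ (c.π.app i).left) := by
  classical
  haveI : IsConnected I := IsCofiltered.isConnected I
  have hc' : IsLimit ((Over.forget S).mapCone c) := isLimitOfPreserves (Over.forget S) hc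
  obtain ⟨j₀⟩ := IsCofiltered.nonempty (C := I)
  haveI : ∀ {i j : I} (f : i ⟶ j), IsAffineHom ((D ⋙ Over.forget S).map f) := by
    intro i j f; dsimp; infer_instance
  haveI : ∀ i, CompactSpace ((D ⋙ Over.forget S).obj i) := by
    intro i; dsimp; infer_instance
  haveI : LocallyOfFiniteType
      (h ≫ ((Over.forget S).mapCone c).π.app j₀ ≫ (D.obj j₀).hom) := by
    have e : ((Over.forget S).mapCone c).π.app j₀ ≫ (D.obj j₀).hom = c.pt.hom :=
      Over.w (c.π.app j₀)
    rw [e]; infer_instance
  exact exists_isClosedImmersion_stage (D ⋙ Over.forget S) _ hc' S (fun j => (D.obj j).hom)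
    (fun a => Over.w (D.map a)) h j₀

end Groth.Agent.S2076
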