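import Groth.Statements.S7395
-- import your own Groth.Agent.* helpers here
import Mathlib
import Groth.Agent.Lib.Helper12.ApproxOver
import Groth.Agent.S2076
import Groth.Agent.S9199

set_option autoImplicit false
universe u
open CategoryTheory AlgebraicGeometry
open Lim

namespace Groth.Agent.S7395
open Limits TopologicalSpace Opposite Groth.Agent.Lib.Helper12.ApproxOver

set_option backward.isDefEq.respectTransparency false
set_option linter.style.haveILetI false

/-- Let `f : X → S` be separated and of finite type with `S` quasi-compact and quasi-separated. Then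
there are a separated morphism `f' : X' → S` of finite presentation and a closed immersion `X → X'`
over `S`. -/
theorem result {X S : Scheme.{u}} (f : X ⟶ S) [IsSeparated f]
    [LocallyOfFiniteType f] [QuasiCompact f] [CompactSpace S] [QuasiSeparatedSpace S] :
    ∃ (X' : Scheme.{u}) (f' : X' ⟶ S) (j : X ⟶ X'), IsSeparated f' ∧ LocallyOfFinitePresentation f' ∧
      QuasiCompact f' ∧ IsClosedImmersion j ∧ j ≫ f' = f := by
  classical
  haveI : CompactSpace X := QuasiCompact.compactSpace_of_compactSpace f
  haveI : QuasiSeparatedSpace X := quasiSeparatedSpace_of_quasiSeparated f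
  obtain ⟨I, iI1, iI2, iI3, D, π, hlim, hlim', hD, haff⟩ := exists_approx_over f
  haveI : ∀ (i j : Iᵒᵖ) (a : i ⟶ j), IsAffineHom (D.map a).left := haff
  haveI : ∀ i, CompactSpace (D.obj i).left := fun i => (hD i).2.2.2.1
  let c : Cone D := { pt := Over.mk f, π := π }
  haveI : IsClosedImmersion (𝟙 X) := inferInstance
  haveI : LocallyOfFiniteType ((𝟙 X : X ⟶ c.pt.left) ≫ c.pt.hom) := by
    show LocallyOfFiniteType (𝟙 X ≫ f)
    rw [Category.id_comp]; infer_instance
  obtain ⟨i₀, hi₀⟩ := Groth.Agent.S2076.result S D c hlim (𝟙 X : X ⟶ c.pt.left)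
  -- separatedness descends
  let D' : Iᵒᵖ ⥤ Scheme.{u} := D ⋙ Over.forget S
  let t : D' ⟶ (Functor.const Iᵒᵖ).obj S :=
    { app := fun i => (D.obj i).hom
      naturality := fun i j a => by
        show (D.map a).left ≫ (D.obj j).hom = (D.obj i).hom ≫ 𝟙 S
        rw [Over.w, Category.comp_id] }
  haveI : ∀ (i j : Iᵒᵖ) (a : i ⟶ j), IsAffineHom (D'.map a) := fun i j a => haff i j a
  haveI : ∀ i, CompactSpace (D'.obj i) := fun i => (hD i).2.2.2.1
  haveI : ∀ i, QuasiSeparatedSpace (D'.obj i) := fun i => (hD i).2.2.2.2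
  haveI : IsSeparated (((Over.forget S).mapCone c).π.app i₀ ≫ t.app i₀) := by
    show IsSeparated ((c.π.app i₀).left ≫ (D.obj i₀).hom)
    rw [Over.w]
    show IsSeparated f
    infer_instance
  obtain ⟨i₁, hi₁⟩ := Groth.Agent.S9199.result S D' t ((Over.forget S).mapCone c) hlim' i₀
  let i := IsCofiltered.min i₀ i₁
  have hsep : IsSeparated (D.obj i).hom := hi₁ i (IsCofiltered.minToRight i₀ i₁)
  haveI : IsClosedImmersion ((c.π.app i).left ≫ (D.map (IsCofiltered.minToLeft i₀ i₁)).left) := by
    rw [← Over.comp_left, c.w]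
    have : (𝟙 X : X ⟶ c.pt.left) ≫ (c.π.app i₀).left = (c.π.app i₀).left := Category.id_comp _
    rw [← this]
    exact hi₀
  haveI : IsClosedImmersion (c.π.app i).left :=
    IsClosedImmersion.of_comp (c.π.app i).left (D.map (IsCofiltered.minToLeft i₀ i₁)).left
  exact ⟨(D.obj i).left, (D.obj i).hom, (c.π.app i).left, hsep, (hD i).1, (hD i).2.1,
    inferInstance, Over.w _⟩

end Groth.Agent.S7395
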