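import Groth.Statements.S7409
-- import your own Groth.Agent.* helpers here
import Mathlib
import Groth.Agent.Lib.Helper12.ChowQcqs
import Groth.Agent.Lib.Helper12.ApproxWrap
import Groth.Agent.S7395
import Groth.Agent.S0590
import Groth.Agent.S0591
import Groth.Agent.S9190
import Groth.Agent.S0025

set_option autoImplicit false
universe u
open CategoryTheory AlgebraicGeometry
open Lim

namespace Groth.Agent.S7409
open Limits TopologicalSpace Opposite Groth.Agent.Lib.Helper12.ChowQcqs

set_option backward.isDefEq.respectTransparency false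
set_option linter.style.haveILetI false

/-- Chow's lemma for finite type morphisms over a quasi-compact quasi-separated base: let `S` be
quasi-compact and quasi-separated and `f : X → S` separated of finite type. Then for some `n` there
are a scheme `X'`, a proper surjective `π : X' → X` and an immersion `X' → P^n_S` compatible with
the maps to `S`. -/
theorem result {X S : Scheme.{u}} (f : X ⟶ S) [CompactSpace S] [QuasiSeparatedSpace S]
    [IsSeparated f] [LocallyOfFiniteType f] [QuasiCompact f] :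
    ∃ (n : ℕ) (X' : Scheme.{u}) (π : X' ⟶ X) (j : X' ⟶ CohB1.ProjSpaceOver n S),
      IsImmersion j ∧ j ≫ CohB1.ProjSpaceOver.toBase n S = π ≫ f ∧ IsProper π ∧ Surjective π := by
  classical
  -- Step 1: closed immersion into a separated morphism of finite presentation
  obtain ⟨X', f', j, hsep, hlfp, hqc, hj, hjf⟩ := Groth.Agent.S7395.result f
  -- Step 2: absolute Noetherian approximation of the base
  obtain ⟨I, iI1, iI2, iI3, D, c₀, hc₀, haff, hft, ⟨eS⟩⟩ := Groth.Agent.S0590.result S
  let c : Cone D := c₀.extend eS.inv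
  have hc : IsLimit c := IsLimit.extendIso eS.inv hc₀
  haveI : ∀ (i j : Iᵒᵖ) (a : i ⟶ j), IsAffineHom (D.map a) := haff
  haveI : ∀ i, CompactSpace (D.obj i) := fun i => (hft i).1
  haveI : ∀ i, QuasiSeparatedSpace (D.obj i) := fun i => by
    haveI := (hft i).1
    haveI := (hft i).2
    exact Groth.Agent.Lib.Helper12.ApproxWrap.quasiSeparatedSpace_of_lft
  -- Step 3: descend `X' ⟶ S` to a stage
  haveI : QuasiSeparated f' := inferInstance
  obtain ⟨i₀, X₀, f₀, g, hf₀1, hf₀2, hf₀3, sq₀⟩ :=
    Groth.Agent.S0591.result D c hc X' (f' : X' ⟶ c.pt)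
  -- Step 4: separatedness descends
  haveI : CompactSpace X₀ := QuasiCompact.compactSpace_of_compactSpace f₀
  haveI : QuasiSeparatedSpace X₀ := quasiSeparatedSpace_of_quasiSeparated f₀
  have hY : IsPullback (c.π.app i₀) (𝟙 c.pt) (𝟙 (D.obj i₀)) (c.π.app i₀) :=
    IsPullback.id_vert (c.π.app i₀)
  haveI : IsSeparated (f' : X' ⟶ c.pt) := hsep
  obtain ⟨i, φ, Xi, Yi, fi, gi, pY, pX, sqY, sqX, hfi⟩ :=
    Groth.Agent.S9190.result D c hc i₀ f₀ (𝟙 (D.obj i₀)) (f' : X' ⟶ c.pt) (𝟙 c.pt)
      (c.π.app i₀) g hY sq₀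
  haveI : IsIso gi := sqY.isIso_snd_of_isIso
  let h : Xi ⟶ D.obj i := fi ≫ gi
  have sqXi : IsPullback pX h f₀ (D.map φ) := by
    have := sqX.paste_vert sqY
    rwa [Category.comp_id] at this
  haveI : LocallyOfFinitePresentation fi :=
    MorphismProperty.of_isPullback (P := @LocallyOfFinitePresentation) sqX hf₀1
  haveI : QuasiCompact fi := MorphismProperty.of_isPullback (P := @QuasiCompact) sqX hf₀2
  haveI : IsSeparated h := inferInstance
  haveI : LocallyOfFiniteType h := inferInstance
  haveI : QuasiCompact h := inferInstance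
  -- Step 5: the cartesian square over the stage `i`
  have hpY : pY = gi ≫ D.map φ := by rw [← sqY.w, Category.comp_id]
  let q : X' ⟶ Xi := sqXi.lift g ((f' : X' ⟶ c.pt) ≫ c.π.app i) (by
    rw [Category.assoc, c.w, sq₀.w])
  have hq1 : q ≫ pX = g := sqXi.lift_fst _ _ _
  have hq2 : q ≫ h = (f' : X' ⟶ c.pt) ≫ c.π.app i := sqXi.lift_snd _ _ _
  have sq : IsPullback q (f' : X' ⟶ c.pt) h (c.π.app i) := by
    refine IsPullback.of_right ?_ hq2 sqXi
    rw [hq1, c.w]
    exact sq₀
  -- Step 6: Chow's lemma over the Noetherian stage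
  haveI : IsNoetherian (D.obj i) := by
    haveI := (hft i).2
    haveI : IsLocallyNoetherian (D.obj i) :=
      LocallyOfFiniteType.isLocallyNoetherian (specULiftZIsTerminal.from (D.obj i))
    exact ⟨⟩
  obtain ⟨n, Y, π₀, imm, himm1, himm2, hπ₀1, hπ₀2, -⟩ := Groth.Agent.S0025.result h
  -- Step 7: base change
  obtain ⟨X'', π, k, hk1, hk2, hπ1, hπ2⟩ :=
    chow_baseChange j q (f' : X' ⟶ c.pt) h (c.π.app i) sq π₀ imm himm2
  refine ⟨n, X'', π, k, hk1, ?_, hπ1, hπ2⟩
  rw [hk2, hjf]

end Groth.Agent.S7409
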