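import Groth.Statements.S1335
import Mathlib
import Groth.Agent.Lib.Helper11.CountComp

set_option autoImplicit false
universe u
open FlatMor

namespace Groth.Agent.S1335

open AlgebraicGeometry CategoryTheory Limits
open Groth.Agent.Lib.Helper11.FBaseLib Groth.Agent.Lib.Helper11.FBaseLib2
  Groth.Agent.Lib.Helper11.BcLevels Groth.Agent.Lib.Helper11.CountComp

set_option maxHeartbeats 1000000 in
/-- the geometric fibre of the base change is a base change of the fibre -/
theorem exists_homeomorph_geomFiber {X Y X' Y' : Scheme.{u}} (f : X ⟶ Y) (f' : X' ⟶ Y')
    (g' : X' ⟶ X) (g : Y' ⟶ Y) (hc : IsPullback g' f' f g) (y' : Y') :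
    ∃ (_ : Algebra (Y.residueField (g y')) (SeparableClosure (Y'.residueField y'))),
      Nonempty (↥(MoreMor.geomFiber f' y') ≃ₜ
        ↥(FBase.bc (k := Y.residueField (g y')) (f.fiberToSpecResidueField (g y'))
          (SeparableClosure (Y'.residueField y')))) := by
  let ρ : Y.residueField (g y') →+* Y'.residueField y' := (g.residueFieldMap y').hom
  let ι : Y.residueField (g y') →+* SeparableClosure (Y'.residueField y') :=
    (algebraMap (Y'.residueField y') (SeparableClosure (Y'.residueField y'))).comp ρ
  letI : Algebra (Y.residueField (g y')) (SeparableClosure (Y'.residueField y')) := ι.toAlgebra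
  refine ⟨inferInstance, ?_⟩
  have hsq := isPullback_fiberToSpecResidueField_of_isPullback hc y'
  have hleft := IsPullback.of_hasPullback (f'.fiberToSpecResidueField y')
    (Spec.map (CommRingCat.ofHom
      (algebraMap (Y'.residueField y') (SeparableClosure (Y'.residueField y')))))
  have hbig := hleft.paste_horiz hsq
  simp only [← Spec.map_comp] at hbig
  exact ⟨hbig.isoPullback.hom.homeomorph⟩

open AlgebraicGeometry CategoryTheory Limits in
/-- The function on the target counting the connected components of the geometric fibres is compatible
with base change: for a cartesian square it is obtained on the new base by composing with the map to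
the old base. -/
theorem result {X Y X' Y' : Scheme.{u}} (f : X ⟶ Y) (f' : X' ⟶ Y') (g' : X' ⟶ X) (g : Y' ⟶ Y)
    (hc : IsPullback g' f' f g) (y' : Y') :
    MoreMor.nGeomConnComp f' y' = MoreMor.nGeomConnComp f (g y') := by

  obtain ⟨inst, ⟨e⟩⟩ := exists_homeomorph_geomFiber f f' g' g hc y'
  unfold MoreMor.nGeomConnComp
  rw [card_connectedComponents_of_homeomorph e]
  exact card_conn_eq (κ := Y.residueField (g y')) (f.fiberToSpecResidueField (g y'))
    (SeparableClosure (Y'.residueField y')) (SeparableClosure (Y.residueField (g y')))

end Groth.Agent.S1335
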