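import Groth.Statements.S1364
import Groth.Agent.Lib.Helper13.CompCount
import Groth.Agent.Lib.Helper13.H0LocConst

set_option autoImplicit false
universe u
open FlatMor

namespace Groth.Agent.S1364

open AlgebraicGeometry CategoryTheory Limits in
/-- For a flat proper morphism of finite presentation whose geometric fibres are reduced, the function
on the target counting the connected components of the geometric fibres is locally constant. -/
theorem result {X S : Scheme.{u}} (f : X ⟶ S) [IsProper f] [Flat f] [LocallyOfFinitePresentation f] [GeometricallyReduced f] :
    IsLocallyConstant (fun s : ↑S => MoreMor.nGeomConnComp f s) := by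
  have h1 := Groth.Agent.Lib.Helper13.H0LocConst.isLocallyConstant_finrank f
  have h2 : (fun s : ↑S => MoreMor.nGeomConnComp f s) =
      (fun n : ℕ => (n : ℕ∞)) ∘
        (fun s : ↑S => Module.finrank (S.residueField s) Γ(f.fiber s, ⊤)) :=
    funext (fun s => Groth.Agent.Lib.Helper13.CompCount.nGeomConnComp_eq f s)
  rw [h2]
  exact h1.comp _

end Groth.Agent.S1364
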