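import Groth.Statements.S4585
import Mathlib
import Groth.Agent.Lib.Helper21.GenericImage

set_option autoImplicit false
universe u
open AlgebraicGeometry CategoryTheory
open EGA41

namespace Groth.Agent.S4585

/-- Let Y be an irreducible scheme with generic point η and f : X → Y locally of finite type with
nonempty fibre over η. Then some open neighbourhood of η is contained in f(X). (The second
assertion, on fibres of a quasi-coherent module of finite type, is not stated.) -/
theorem result {X Y : Scheme.{u}} (f : X ⟶ Y)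
    [LocallyOfFiniteType f] [IrreducibleSpace Y] (h : genericPoint Y ∈ Set.range f.base) :
    genericPoint Y ∈ interior (Set.range f.base) := by
  obtain ⟨x, hx⟩ := h
  obtain ⟨V, hV, hηV, -⟩ :=
    exists_isAffineOpen_mem_and_subset (x := genericPoint Y) (U := ⊤) trivial
  have hxU : x ∈ f ⁻¹ᵁ V := by
    change f.base x ∈ V
    rw [hx]
    exact hηV
  obtain ⟨U, hU, hxU', hUV⟩ := exists_isAffineOpen_mem_and_subset hxU
  have e : U ≤ f ⁻¹ᵁ V := hUV
  have hft := Scheme.Hom.finiteType_appLE f hV hU e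
  have hsq := IsAffineOpen.SpecMap_appLE_fromSpec f hV hU e
  obtain ⟨𝔭, h𝔭⟩ : ∃ 𝔭, hV.fromSpec 𝔭 = genericPoint Y := by
    have : genericPoint Y ∈ Set.range hV.fromSpec := by
      rw [hV.range_fromSpec]
      exact hηV
    exact this
  obtain ⟨x', hx'⟩ : ∃ x', hU.fromSpec x' = x := by
    have : x ∈ Set.range hU.fromSpec := by
      rw [hU.range_fromSpec]
      exact hxU'
    exact this
  have hinj : Function.Injective hV.fromSpec := hV.fromSpec.isOpenEmbedding.injective
  have h1 : Spec.map (f.appLE V U e) x' = 𝔭 := by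
    apply hinj
    rw [h𝔭, ← hx, ← hx']
    exact congrArg (fun g => g.base x') hsq
  obtain ⟨g, hg𝔭, hg⟩ :=
    Groth.Agent.Lib.Helper21.GenericImage.exists_notMem_forall_mem_range_ringHom _ hft 𝔭 ⟨x', h1⟩
  rw [mem_interior]
  have hWo : IsOpen (SetLike.coe (PrimeSpectrum.basicOpen g)) := (PrimeSpectrum.basicOpen g).isOpen
  refine ⟨hV.fromSpec '' (SetLike.coe (PrimeSpectrum.basicOpen g)), ?_, ?_, ?_⟩
  · rintro _ ⟨P, hP, rfl⟩
    have h𝔭P : @LE.le (PrimeSpectrum Γ(Y, V)) _ 𝔭 P := by
      rw [PrimeSpectrum.le_iff_specializes]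
      have h2 : hV.fromSpec 𝔭 ⤳ hV.fromSpec P := by
        rw [h𝔭]
        exact genericPoint_specializes _
      exact hV.fromSpec.isOpenEmbedding.isInducing.specializes_iff.mp h2
    obtain ⟨Q, hQ⟩ := hg P h𝔭P hP
    refine ⟨hU.fromSpec Q, ?_⟩
    rw [← hQ]
    exact (congrArg (fun g => g.base Q) hsq).symm
  · exact hV.fromSpec.isOpenEmbedding.isOpenMap _ hWo
  · exact ⟨𝔭, hg𝔭, h𝔭⟩

end Groth.Agent.S4585
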