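import Groth.Statements.S9347
import Mathlib
import Groth.Agent.Lib.Helper14.QCClosure

set_option autoImplicit false
universe u
open Dom

namespace Groth.Agent.S9347

open AlgebraicGeometry CategoryTheory in
/-- Let f : X → S be quasi-compact and let η ∈ S be a point whose closure is an irreducible component of
S (a maximal point of S). If η is not in the image of f, then η has an open neighbourhood V with
f⁻¹(V) empty. -/
theorem result {X S : Scheme.{u}} (f : X ⟶ S) [QuasiCompact f]
    (η : ↑S) (hη : closure {η} ∈ irreducibleComponents (↑S : Type u)) (hnot : η ∉ Set.range f.base) :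
    ∃ V : S.Opens, η ∈ V ∧ f ⁻¹ᵁ V = ⊥ := by
  have hηV : η ∉ closure (Set.range f.base) := by
    intro hmem
    obtain ⟨x, hx⟩ := Groth.Agent.Lib.Helper14.exists_specializes_of_mem_closure_range f η hmem
    have hirr : IsIrreducible (closure ({f.base x} : Set ↑S)) :=
      isIrreducible_singleton.closure
    have hle : closure ({η} : Set ↑S) ⊆ closure ({f.base x} : Set ↑S) :=
      specializes_iff_closure_subset.mp hx
    have hge : closure ({f.base x} : Set ↑S) ⊆ closure ({η} : Set ↑S) := hη.2 hirr hle
    have hsp : η ⤳ f.base x := specializes_iff_closure_subset.mpr hge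
    have : f.base x = η := (hx.antisymm hsp).eq
    exact hnot ⟨x, this⟩
  refine ⟨⟨(closure (Set.range f.base))ᶜ, isClosed_closure.isOpen_compl⟩, hηV, ?_⟩
  ext x
  constructor
  · intro hx
    have h1 : f.base x ∈ closure (Set.range f.base) := subset_closure ⟨x, rfl⟩
    exact absurd h1 hx
  · intro hx
    exact absurd hx (by simp)

end Groth.Agent.S9347
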