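import Groth.Statements.S1334
import Mathlib
import Groth.Agent.Lib.Helper11.CountComp

set_option autoImplicit false
universe u
open FlatMor

namespace Groth.Agent.S1334

open AlgebraicGeometry CategoryTheory Limits
open Groth.Agent.Lib.Helper11.FBaseLib Groth.Agent.Lib.Helper11.FBaseLib2
  Groth.Agent.Lib.Helper11.BcLevels Groth.Agent.Lib.Helper11.CountComp

set_option maxHeartbeats 1000000 in
/-- the geometric fibre of the base change is a base change of the fibre -/
theorem exists_homeomorph_geomFiber {X Y X' Y' : Scheme.{u}} (f : X ⟶ Y) (f' : X' ⟶ Y')
    (g' : X' ⟶ X) (g : Y' ⟶ Y) (hc : IsPullback g' f' f g) (y' : Y') :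
    ∃ (_ : Algebra (Y.residueField (g y')) (SeparableClosure (Y'.residueField y'))),
      Nonempty (↥(MoreMor.geomFiber f' y') ≃ₜ
        ↥(FBase.bc (k := Y.residueField (g y')) (f.fiberToSpecResidueField (g y'))
          (SeparableClosure (Y'.residueField y')))) := by
  let ρ : Y.residueField (g y') →+* Y'.residueField y' := (g.residueFieldMap y').hom
  let ι : Y.residueField (g y') →+* SeparableClosure (Y'.residueField y') :=
    (algebraMap (Y'.residueField y') (SeparableClosure (Y'.residueField y'))).comp ρ
  letI : Algebra (Y.residueField (g y')) (SeparableClosure (Y'.residueField y')) := ι.toAlgebra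
  refine ⟨inferInstance, ?_⟩
  have hsq := isPullback_fiberToSpecResidueField_of_isPullback hc y'
  have hleft := IsPullback.of_hasPullback (f'.fiberToSpecResidueField y')
    (Spec.map (CommRingCat.ofHom
      (algebraMap (Y'.residueField y') (SeparableClosure (Y'.residueField y')))))
  have hbig := hleft.paste_horiz hsq
  simp only [← Spec.map_comp] at hbig
  exact ⟨hbig.isoPullback.hom.homeomorph⟩

open AlgebraicGeometry CategoryTheory Limits in
/-- The function on the target counting the irreducible components of the geometric fibres (fibres base
changed to a separable closure of the residue field) is compatible with base change: for a cartesian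
square it is obtained on the new base by composing with the map to the old base. (This expresses
that the count does not depend on the separably closed field used.) -/
theorem result {X Y X' Y' : Scheme.{u}} (f : X ⟶ Y) (f' : X' ⟶ Y') (g' : X' ⟶ X) (g : Y' ⟶ Y)
    (hc : IsPullback g' f' f g) (y' : Y') :
    MoreMor.nGeomIrredComp f' y' = MoreMor.nGeomIrredComp f (g y') := by

  obtain ⟨inst, ⟨e⟩⟩ := exists_homeomorph_geomFiber f f' g' g hc y'
  unfold MoreMor.nGeomIrredComp
  rw [encard_irreducibleComponents_of_homeomorph e]
  exact encard_irr_eq (κ := Y.residueField (g y')) (f.fiberToSpecResidueField (g y'))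
    (SeparableClosure (Y'.residueField y')) (SeparableClosure (Y.residueField (g y')))

end Groth.Agent.S1334
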