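import Groth.Statements.S1339
-- import your own Groth.Agent.* helpers here
import Mathlib
import Groth.Agent.Lib.Helper12.GeomCompConn
import Groth.Agent.Lib.Helper12.FibreInvCons

set_option autoImplicit false
universe u
open FlatMor

namespace Groth.Agent.S1339

open AlgebraicGeometry CategoryTheory Limits in
/-- For a morphism of finite presentation, each level set of the function counting the connected
components of the geometric fibres is locally constructible in the target. -/
theorem result {X Y : Scheme.{u}} (f : X ⟶ Y) [LocallyOfFinitePresentation f] [QuasiCompact f] [QuasiSeparated f] (n : ℕ∞) :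
    Topology.IsLocallyConstructible {y : ↑Y | MoreMor.nGeomConnComp f y = n} := by
  exact Groth.Agent.Lib.Helper12.FibreInvCons.isLocallyConstructible_level
    (fun {X S} f s => MoreMor.nGeomConnComp f s)
    (fun {X Y X' Y' f g f' g'} hc y' => Groth.Agent.S1335.result f f' g' g hc y')
    (fun {X S} f _ _ _ _ => Groth.Agent.Lib.Helper12.GeomCompConn.nGeomConnComp_const_near_generic f)
    n f

end Groth.Agent.S1339
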