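import Groth.Statements.S1608
-- import your own Groth.Agent.* helpers here
import Mathlib
import Groth.Agent.Lib.Helper12.LocalBase
import Groth.Agent.Lib.Helper12.ClosedSub
import Groth.Agent.Lib.Helper12.EquidimPt
import Groth.Agent.Lib.Helper12.Chevalley
import Groth.Agent.Lib.Helper12.SchemeDimFT3

set_option autoImplicit false
universe u
open CategoryTheory CategoryTheory.Limits AlgebraicGeometry
open Variety

namespace Groth.Agent.S1608
open AlgebraicGeometry CategoryTheory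
open Groth.Agent.Lib.Helper12 Groth.Agent.Lib.Helper12.SchemeDimFT
  Groth.Agent.Lib.Helper12.SchemeDimIneq Groth.Agent.Lib.Helper12.Equidim

/-- A point where the fibre has local dimension `≤ 0` is a point of quasi-finiteness. -/
theorem quasiFiniteAt_of_fibreDimAt_le_zero {X Y : Scheme.{u}} (f : X ⟶ Y) [LocallyOfFiniteType f]
    (x : X) (h : FlatMor.fibreDimAt f x ≤ 0) : f.QuasiFiniteAt x := by
  have hop := Chevalley.isOpen_setOf_fibreDimAt_le f 0
  let U : X.Opens := ⟨{x' : X | FlatMor.fibreDimAt f x' ≤ ((0 : ℕ) : WithBot ℕ∞)}, hop⟩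
  have hxU : x ∈ U := by
    show FlatMor.fibreDimAt f x ≤ ((0 : ℕ) : WithBot ℕ∞)
    exact_mod_cast h
  haveI : LocallyQuasiFinite (U.ι ≫ f) := by
    apply EquidimPt.locallyQuasiFinite_of_fibreDimAt_le_zero
    intro z
    rw [fibreDimAt_comp_openImmersion U.ι f z]
    have : FlatMor.fibreDimAt f z.1 ≤ ((0 : ℕ) : WithBot ℕ∞) := z.2
    exact_mod_cast this
  have h1 := (U.ι ≫ f).quasiFiniteAt ⟨x, hxU⟩
  rw [Scheme.Hom.quasiFiniteAt_comp_iff_of_isOpenImmersion] at h1
  exact h1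

/-- At a point of quasi-finiteness the residue field extension is algebraic. -/
theorem trn_eq_zero_of_quasiFiniteAt {X Y : Scheme.{u}} (f : X ⟶ Y) [LocallyOfFiniteType f]
    (ζ : X) (h : f.QuasiFiniteAt ζ) : trn f ζ = 0 := by
  apply EquidimPt.trn_eq_zero_of_closed_in_fibre
  intro x' hx' hsp
  have hcl : IsClosed ({f.asFiber ζ} : Set (f.fiber (f ζ))) := h.isClopen_singleton_asFiber.1
  have hζ' : f.fiberι (f ζ) ((f.fiberHomeo (f ζ)).symm ⟨x', hx'⟩) = x' :=
    f.fiberι_fiberHomeo_symm (f ζ) ⟨x', hx'⟩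
  have h1 : f.asFiber ζ ⤳ (f.fiberHomeo (f ζ)).symm ⟨x', hx'⟩ := by
    apply (f.fiberι (f ζ)).isEmbedding.isInducing.specializes_iff.mp
    rw [hζ', f.fiberι_asFiber]; exact hsp
  have h2 : (f.fiberHomeo (f ζ)).symm ⟨x', hx'⟩ ∈ ({f.asFiber ζ} : Set (f.fiber (f ζ))) :=
    h1.mem_closed hcl rfl
  rw [Set.mem_singleton_iff] at h2
  rw [← hζ', h2, f.fiberι_asFiber]


/-- Let f : X → Y be locally of finite type, and let y ∈ Y be a point whose local ring is Noetherian of
dimension at most one. Suppose f is quasi-finite at the generic point of each irreducible component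
of X. Then f is quasi-finite at each point x of X with f(x) = y. -/
theorem result {X Y : Scheme.{u}} (f : X ⟶ Y) [LocallyOfFiniteType f]
    (y : Y) [IsNoetherianRing (Y.presheaf.stalk y)] (hy : ringKrullDim (Y.presheaf.stalk y) ≤ 1)
    (hgen : ∀ Z ∈ irreducibleComponents (X : Type u), ∀ η : X, IsGenericPoint η Z → f.QuasiFiniteAt η)
    (x : X) (hx : f.base x = y) : f.QuasiFiniteAt x := by
  subst hx
  apply quasiFiniteAt_of_fibreDimAt_le_zero
  obtain ⟨z, hz1, hz2, hz3⟩ := ClosedSub.exists_generization_trn_eq_fibreDimAt f x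
  refine hz3.trans ?_
  suffices h : trn f z = 0 by rw [h]; rfl
  obtain ⟨ζ, hζ1, hζ2⟩ := exists_isMaxPt_specializes z
  have hqf : f.QuasiFiniteAt ζ := hgen (closure {ζ})
    ((mem_irreducibleComponents_iff _).mpr ⟨ζ, hζ1, rfl⟩) ζ isGenericPoint_closure
  have hζ0 : trn f ζ = 0 := trn_eq_zero_of_quasiFiniteAt f ζ hqf
  by_cases hne : ζ = z
  · rw [← hne]; exact hζ0
  · haveI : IsNoetherianRing (Y.presheaf.stalk (f z)) := by rw [hz1]; infer_instance
    have key := LocalBase.scheme_dimIneq_stalk_le f z ζ hζ2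
    rw [hζ0] at key
    have hy' : ringKrullDim (Y.presheaf.stalk (f z)) ≤ 1 := by rw [hz1]; exact hy
    have h1 : (1 : WithBot ℕ∞) ≤ Order.krullDim (Set.Icc z ζ) := by
      have hlt : (⟨z, ⟨le_rfl, hζ2⟩⟩ : Set.Icc z ζ) < ⟨ζ, ⟨hζ2, le_rfl⟩⟩ := by
        refine lt_iff_le_not_ge.mpr ⟨hζ2, ?_⟩
        intro h
        have h' : z ⤳ ζ := h
        exact hne (h'.antisymm hζ2).eq.symm
      have := Order.le_krullDim_iff (α := Set.Icc z ζ) (n := 1)
      rw [Nat.cast_one] at this
      rw [this]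
      exact ⟨(RelSeries.singleton _ _).snoc _ hlt, by simp⟩
    obtain ⟨a, ha⟩ := SchemeDimIneq.exists_trn_eq f z
    rw [ha] at key ⊢
    have h3 : (1 : WithBot ℕ∞) + ((a : ℕ∞) : WithBot ℕ∞) ≤ 1 + ((0 : ℕ∞) : WithBot ℕ∞) :=
      (add_le_add_left h1 _).trans (key.trans (add_le_add_left hy' _))
    have h4 : 1 + a ≤ 1 + 0 := by exact_mod_cast h3
    have : a = 0 := by omega
    rw [this]; rfl

end Groth.Agent.S1608
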