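import Groth.Statements.S3443
-- import your own Groth.Agent.* helpers here
import Mathlib
import Groth.Agent.S12442
import Groth.Agent.Lib.Helper12.ConstrNhds

set_option autoImplicit false
open CategoryTheory AlgebraicGeometry
universe u
open EGA43

namespace Groth.Agent.S3443
open CategoryTheory.Limits Groth.Agent.Lib.Helper12.ConstrNhds

/-- The morphism induced on the fibres over `s`. -/
noncomputable abbrev fibMap {X Y S : Scheme.{u}} (f : X ⟶ Y) (g : Y ⟶ S) (s : S) :
    pullback (f ≫ g) (S.fromSpecResidueField s) ⟶ pullback g (S.fromSpecResidueField s) :=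
  pullback.lift (pullback.fst (f ≫ g) (S.fromSpecResidueField s) ≫ f)
    (pullback.snd (f ≫ g) (S.fromSpecResidueField s)) ((Category.assoc _ _ _).trans pullback.condition)

/-- The fibre morphism is surjective iff the fibre of `g` is contained in the image of `f`. -/
theorem surjective_fibMap_iff {X Y S : Scheme.{u}} (f : X ⟶ Y) (g : Y ⟶ S) (s : S) :
    Function.Surjective (fibMap f g s).base ↔ ∀ y : Y, g.base y = s → y ∈ Set.range f.base := by
  have hfst : fibMap f g s ≫ pullback.fst g (S.fromSpecResidueField s) =
      pullback.fst (f ≫ g) (S.fromSpecResidueField s) ≫ f := pullback.lift_fst _ _ _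
  constructor
  · intro hsurj y hy
    have hy' : y ∈ Set.range (g.fiberι s).base := by
      rw [g.range_fiberι s]; exact hy
    obtain ⟨y', hy'⟩ := hy'
    obtain ⟨x', hx'⟩ := hsurj y'
    refine ⟨(pullback.fst (f ≫ g) (S.fromSpecResidueField s)).base x', ?_⟩
    rw [← Scheme.Hom.comp_apply, ← hfst, Scheme.Hom.comp_apply, hx']
    exact hy'
  · intro h y'
    have hy : g.base ((g.fiberι s).base y') = s := by
      have : (g.fiberι s).base y' ∈ Set.range (g.fiberι s).base := ⟨y', rfl⟩
      rw [g.range_fiberι s] at this
      exact this
    obtain ⟨x, hx⟩ := h _ hy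
    have hx2 : x ∈ Set.range ((f ≫ g).fiberι s).base := by
      rw [(f ≫ g).range_fiberι s]
      show (f ≫ g).base x = s
      rw [Scheme.Hom.comp_apply, hx, hy]
    obtain ⟨x', hx'⟩ := hx2
    refine ⟨x', ?_⟩
    apply (g.fiberι s).isEmbedding.injective
    show (pullback.fst g (S.fromSpecResidueField s)).base ((fibMap f g s).base x') = _
    rw [← Scheme.Hom.comp_apply, hfst, Scheme.Hom.comp_apply]
    have : (pullback.fst (f ≫ g) (S.fromSpecResidueField s)).base x' = x := hx'
    rw [this, hx]

open CategoryTheory.Limits in
/-- Let g : Y ⟶ S and f : X ⟶ Y be such that X and Y are of finite presentation over S (locally of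
finite presentation, quasi-compact and quasi-separated). For each point s of S let f_s be the
induced morphism from the fibre of f ≫ g over s to the fibre of g over s. Then the set of s for
which f_s is surjective is locally constructible in S. -/
theorem result {X Y S : Scheme.{u}} (f : X ⟶ Y) (g : Y ⟶ S)
    [LocallyOfFinitePresentation g] [QuasiCompact g] [QuasiSeparated g]
    [LocallyOfFinitePresentation (f ≫ g)] [QuasiCompact (f ≫ g)] [QuasiSeparated (f ≫ g)] :
    Topology.IsLocallyConstructible {s : S |
      Function.Surjective (pullback.lift (pullback.fst (f ≫ g) (S.fromSpecResidueField s) ≫ f) (pullback.snd (f ≫ g) (S.fromSpecResidueField s))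
          ((Category.assoc _ _ _).trans pullback.condition) :
        pullback (f ≫ g) (S.fromSpecResidueField s) ⟶ pullback g (S.fromSpecResidueField s)).base} := by
  haveI : LocallyOfFinitePresentation f := Groth.Agent.S12442.result f g
  haveI : QuasiCompact f :=
    MorphismProperty.HasOfPostcompProperty.of_postcomp (W := @QuasiCompact) (W' := @QuasiSeparated)
      f g inferInstance inferInstance
  have hconstr : Topology.IsLocallyConstructible ((g.base '' (Set.range f.base)ᶜ)ᶜ) := by
    have h1 : Topology.IsLocallyConstructible (Set.range f.base) := by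
      rw [← Set.image_univ]
      exact f.isLocallyConstructible_image Topology.IsLocallyConstructible.univ
    exact isLocallyConstructible_compl
      (g.isLocallyConstructible_image (isLocallyConstructible_compl h1))
  convert hconstr using 1
  ext s
  rw [Set.mem_setOf_eq]
  refine (surjective_fibMap_iff f g s).trans ?_
  simp only [Set.mem_compl_iff, Set.mem_image, not_exists, not_and, not_not]
  constructor
  · intro h y hy
    by_contra hne
    exact hy (h y hne)
  · intro h y hy
    by_contra hne
    exact h y hne hy

end Groth.Agent.S3443
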