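import Groth.Statements.S2590
-- import your own Groth.Agent.* helpers here
import Mathlib
import Groth.Agent.Lib.Helper12.LimConstr
import Groth.Agent.Lib.Helper12.ConstrNhds
import Groth.Agent.Lib.Helper12.FibRad2
import Groth.Agent.S12442

set_option autoImplicit false
universe u
open CategoryTheory AlgebraicGeometry
open EGA43

namespace Groth.Agent.S2590
open Groth.Agent.Lib.Helper12.ConstrNhds Groth.Agent.Lib.Helper12.LimConstr Topology CategoryTheory.Limits
open Groth.Agent.Lib.Helper12.FibRad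

/-- Let S = lim S_i be a cofiltered limit of schemes with affine transition morphisms, S_{i₀} a
quasi-compact quasi-separated stage (the source needs S_{i₀} only quasi-compact; quasi-separatedness
is assumed here), f₀ : X₀ ⟶ Y₀ an S_{i₀}-morphism between schemes of finite presentation over
S_{i₀}, and f : X ⟶ Y its base change to S (base changes expressed by pullback squares). If f is
universally injective (radiciel), then the base change f_i : X_i ⟶ Y_i of f₀ to some stage S_i is
universally injective (radiciel). -/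
theorem result {I : Type u} [SmallCategory I] [IsCofiltered I]
    (D : I ⥤ Scheme.{u}) (c : Limits.Cone D) (hc : Limits.IsLimit c)
    [∀ (i j : I) (f : i ⟶ j), IsAffineHom (D.map f)] (i₀ : I) [CompactSpace (D.obj i₀)]
    [QuasiSeparatedSpace (D.obj i₀)] {X₀ Y₀ : Scheme.{u}} (f₀ : X₀ ⟶ Y₀) (g₀ : Y₀ ⟶ D.obj i₀)
    [LocallyOfFinitePresentation g₀] [QuasiCompact g₀] [QuasiSeparated g₀]
    [LocallyOfFinitePresentation (f₀ ≫ g₀)] [QuasiCompact (f₀ ≫ g₀)] [QuasiSeparated (f₀ ≫ g₀)]
    {X Y : Scheme.{u}} (f : X ⟶ Y) (g : Y ⟶ c.pt) (qY : Y ⟶ Y₀) (qX : X ⟶ X₀)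
    (hY : IsPullback qY g g₀ (c.π.app i₀)) (hX : IsPullback qX f f₀ qY) [UniversallyInjective f] :
    ∃ (i : I) (φ : i ⟶ i₀) (Xi Yi : Scheme.{u}) (fi : Xi ⟶ Yi) (gi : Yi ⟶ D.obj i) (pY : Yi ⟶ Y₀)
      (pX : Xi ⟶ X₀), IsPullback pY gi g₀ (D.map φ) ∧ IsPullback pX fi f₀ pY ∧ UniversallyInjective fi := by
  haveI hD : ∀ {i j : I} (f : i ⟶ j), IsAffineHom (D.map f) := fun f => inferInstance
  haveI : LocallyOfFinitePresentation f₀ := Groth.Agent.S12442.result f₀ g₀
  haveI : QuasiCompact f₀ :=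
    MorphismProperty.HasOfPostcompProperty.of_postcomp (W := @QuasiCompact) (W' := @QuasiSeparated)
      f₀ g₀ inferInstance inferInstance
  haveI : QuasiSeparated f₀ := QuasiSeparated.of_comp f₀ g₀
  haveI : QuasiCompact (pullback.diagonal f₀) := inferInstance
  haveI : LocallyOfFinitePresentation (pullback.diagonal f₀) :=
    Groth.Agent.S12442.aux (pullback.diagonal f₀) (pullback.fst f₀ f₀)
      (by rw [pullback.diagonal_fst]; infer_instance) inferInstance
  haveI : LocallyOfFinitePresentation (pullback.fst f₀ f₀ ≫ f₀ ≫ g₀) := inferInstance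
  haveI : QuasiCompact (pullback.fst f₀ f₀ ≫ f₀ ≫ g₀) := inferInstance
  have hlc : IsLocallyConstructible
      ((pullback.fst f₀ f₀ ≫ f₀ ≫ g₀).base '' (Set.range (pullback.diagonal f₀).base)ᶜ) := by
    have h1 : IsLocallyConstructible (Set.range (pullback.diagonal f₀).base) := by
      rw [← Set.image_univ]
      exact (pullback.diagonal f₀).isLocallyConstructible_image IsLocallyConstructible.univ
    exact (pullback.fst f₀ f₀ ≫ f₀ ≫ g₀).isLocallyConstructible_image
      (isLocallyConstructible_compl h1)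
  have hC := hlc.isConstructible
  have hempty : (c.π.app i₀).base ⁻¹'
      ((pullback.fst f₀ f₀ ≫ f₀ ≫ g₀).base '' (Set.range (pullback.diagonal f₀).base)ᶜ) = ∅ := by
    rw [Set.eq_empty_iff_forall_notMem]
    rintro s ⟨w₀, hw₀, hws⟩
    exact hw₀ (mem_range_diagonal_of_universallyInjective f₀ g₀ f g qY qX (c.π.app i₀) hY hX w₀ s hws)
  obtain ⟨i, φ, hi⟩ := exists_preimage_eq_empty D c hc i₀ _ hC hempty
  refine ⟨i, φ, pullback f₀ (pullback.fst g₀ (D.map φ)), pullback g₀ (D.map φ),
    pullback.snd _ _, pullback.snd _ _, pullback.fst _ _, pullback.fst _ _,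
    IsPullback.of_hasPullback _ _, IsPullback.of_hasPullback _ _, ?_⟩
  apply universallyInjective_of_isPullback_of_forall_mem_range f₀ (pullback.fst g₀ (D.map φ))
    (pullback.fst _ _) (pullback.snd _ _) (IsPullback.of_hasPullback _ _)
  rintro w₀ ⟨yi, hyi⟩
  by_contra h
  have : (pullback.snd g₀ (D.map φ)).base yi ∈ (D.map φ).base ⁻¹'
      ((pullback.fst f₀ f₀ ≫ f₀ ≫ g₀).base '' (Set.range (pullback.diagonal f₀).base)ᶜ) := by
    refine ⟨w₀, h, ?_⟩
    have e : (pullback.fst f₀ f₀ ≫ f₀ ≫ g₀).base w₀ =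
        g₀.base ((pullback.fst f₀ f₀ ≫ f₀).base w₀) := rfl
    rw [e, ← hyi, ← Scheme.Hom.comp_apply, pullback.condition]
    rfl
  rw [hi] at this
  exact this

end Groth.Agent.S2590
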