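import Groth.Statements.S3404
import Groth.Agent.Lib.Helper26.ProConsTop

set_option autoImplicit false
open CategoryTheory AlgebraicGeometry
universe u
open EGA41

namespace Groth.Agent.S3404

open Groth.Agent.Lib.Helper26.ProConsTop TopologicalSpace Topology

lemma resLE_apply {X Y : Scheme.{u}} (f : X ⟶ Y) {V : Y.Opens} {U : X.Opens} (e : U ≤ f ⁻¹ᵁ V)
    (p : (U : Scheme.{u})) : V.ι.base ((f.resLE V U e).base p) = f.base (U.ι.base p) := by
  have := congrArg (fun g => g.base p) (Scheme.Hom.resLE_comp_ι f e)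
  simpa only [Scheme.Hom.comp_base, TopCat.hom_comp, ContinuousMap.comp_apply] using this

lemma lift_of_isOpenAt {X Y : Scheme.{u}} (f : X ⟶ Y) (x : X) (hopen : EGA43.IsOpenAt f.base x)
    (y' : Y) (hy' : y' ⤳ f.base x) : ∃ x' : X, x' ⤳ x ∧ f.base x' = y' := by
  classical
  obtain ⟨V, hV, hfxV, -⟩ := exists_isAffineOpen_mem_le Y (f.base x) ⊤ trivial
  obtain ⟨U, hU, hxU, hUV⟩ := exists_isAffineOpen_mem_le X x (f ⁻¹ᵁ V) hfxV
  haveI : IsAffine (V : Scheme.{u}) := hV
  haveI : IsAffine (U : Scheme.{u}) := hU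
  let g := f.resLE V U hUV
  have hy'V : y' ∈ V := hy'.mem_open V.isOpen hfxV
  let yV : (V : Scheme.{u}) := ⟨y', hy'V⟩
  let xU : (U : Scheme.{u}) := ⟨x, hxU⟩
  have hfib : IsClosed[constructibleTopology (U : Scheme.{u})] (g.base ⁻¹' {yV}) := by
    have h1 : IsClosed[constructibleTopology (V : Scheme.{u})] ({yV} : Set (V : Scheme.{u})) := by
      haveI := Groth.Agent.Lib.Helper11.SpecSp.t2Space_constructibleTopology (V : Scheme.{u})
      exact @isClosed_singleton _ (constructibleTopology (V : Scheme.{u})) _ yV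
    exact @IsClosed.preimage _ _ (constructibleTopology (U : Scheme.{u}))
      (constructibleTopology (V : Scheme.{u})) _
      (Groth.Agent.Lib.Helper11.SpecSp.continuous_cons_of_isSpectralMap g.isSpectralMap) _ h1
  let ι := {W : Set (U : Scheme.{u}) // IsOpen W ∧ IsCompact W ∧ xU ∈ W}
  have hcl : ∀ W : ι, IsClosed[constructibleTopology (U : Scheme.{u})] (W.1 ∩ g.base ⁻¹' {yV}) :=
    fun W => @IsClosed.inter _ W.1 _ (constructibleTopology (U : Scheme.{u}))
      (Groth.Agent.Lib.Lead.isClosed_constructibleTopology_of_isOpen_isCompact W.2.1 W.2.2.1) hfib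
  have hne : (⋂ W : ι, W.1 ∩ g.base ⁻¹' {yV}).Nonempty := by
    by_contra hempty
    rw [Set.not_nonempty_iff_eq_empty] at hempty
    obtain ⟨s, hs⟩ :=
      Groth.Agent.Lib.Helper11.SpecSp.exists_finset_iInter_eq_empty_of_isClosed_cons _ hcl hempty
    have hopen' : IsOpen (⋂ W ∈ s, (W : ι).1) := isOpen_biInter_finset fun W _ => W.2.1
    have hxmem : xU ∈ ⋂ W ∈ s, (W : ι).1 := Set.mem_iInter₂.mpr fun W _ => W.2.2.2
    have hnhd : U.ι.base '' (⋂ W ∈ s, (W : ι).1) ∈ nhds x :=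
      (U.ι.isOpenEmbedding.isOpenMap _ hopen').mem_nhds ⟨xU, hxmem, rfl⟩
    have himg := hopen _ hnhd
    have hmem : y' ∈ f.base '' (U.ι.base '' (⋂ W ∈ s, (W : ι).1)) :=
      mem_of_mem_nhds (hy'.nhds_le_nhds himg)
    obtain ⟨_, ⟨p, hp, rfl⟩, hpy⟩ := hmem
    have hgp : g.base p = yV := by
      apply V.ι.isOpenEmbedding.injective
      rw [resLE_apply]
      exact hpy
    have : p ∈ ⋂ W ∈ s, (W : ι).1 ∩ g.base ⁻¹' {yV} :=
      Set.mem_iInter₂.mpr fun W hW => ⟨Set.mem_iInter₂.mp hp W hW, hgp⟩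
    rw [hs] at this
    exact this
  obtain ⟨p, hp⟩ := hne
  rw [Set.mem_iInter] at hp
  have hpx : p ⤳ xU := Groth.Agent.Lib.Lead.specializes_of_forall_isCompact_isOpen
    fun W hWo hWc hxW => (hp ⟨W, hWo, hWc, hxW⟩).1
  have hgp : g.base p = yV := (hp ⟨Set.univ, isOpen_univ, isCompact_univ, Set.mem_univ _⟩).2
  refine ⟨U.ι.base p, hpx.map U.ι.base.hom.continuous, ?_⟩
  rw [← resLE_apply f hUV p]
  show V.ι.base (g.base p) = y'
  rw [hgp]
  rfl

lemma isOpenAt_of_lift {X Y : Scheme.{u}} (f : X ⟶ Y) [LocallyOfFinitePresentation f] (x : X)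
    (hlift : ∀ y' : Y, y' ⤳ f.base x → ∃ x' : X, x' ⤳ x ∧ f.base x' = y') :
    EGA43.IsOpenAt f.base x := by
  intro N hN
  obtain ⟨V, hV, hfxV, -⟩ := exists_isAffineOpen_mem_le Y (f.base x) ⊤ trivial
  let O : X.Opens := ⟨interior N, isOpen_interior⟩ ⊓ f ⁻¹ᵁ V
  have hxO : x ∈ O := ⟨mem_interior_iff_mem_nhds.mpr hN, hfxV⟩
  obtain ⟨U, hU, hxU, hUO⟩ := exists_isAffineOpen_mem_le X x O hxO
  have hUV : U ≤ f ⁻¹ᵁ V := hUO.trans inf_le_right
  haveI : IsAffine (V : Scheme.{u}) := hV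
  haveI : IsAffine (U : Scheme.{u}) := hU
  let g := f.resLE V U hUV
  haveI : LocallyOfFinitePresentation g :=
    IsZariskiLocalAtSource.resLE (P := @LocallyOfFinitePresentation) hUV inferInstance
  have hcons : IsConstructible (g.base '' Set.univ) := g.isConstructible_image IsConstructible.univ
  let yV : (V : Scheme.{u}) := ⟨f.base x, hfxV⟩
  have hint : yV ∈ interior (g.base '' Set.univ) := by
    apply mem_interior_of_isOpen_cons (isOpen_cons_of_isConstructible hcons)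
    intro y'' hy''
    obtain ⟨x', hx', hfx'⟩ := hlift (V.ι.base y'') (hy''.map V.ι.base.hom.continuous)
    have hx'U : x' ∈ U := hx'.mem_open U.isOpen hxU
    refine ⟨⟨x', hx'U⟩, Set.mem_univ _, ?_⟩
    apply V.ι.isOpenEmbedding.injective
    rw [resLE_apply]
    exact hfx'
  obtain ⟨O', hO'E, hO', hyO'⟩ := mem_interior.mp hint
  refine Filter.mem_of_superset ((V.ι.isOpenEmbedding.isOpenMap _ hO').mem_nhds ⟨yV, hyO', rfl⟩) ?_
  rintro _ ⟨o, ho, rfl⟩
  obtain ⟨p, -, rfl⟩ := hO'E ho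
  refine ⟨U.ι.base p, ?_, (resLE_apply f hUV p).symm⟩
  exact interior_subset (hUO p.2).1

/-- Let f : X ⟶ Y be a morphism of schemes, x a point of X and y = f x. If f is open at x then every
generization of y is the image of a generization of x; when f is locally of finite presentation the
converse holds. -/
theorem result {X Y : Scheme.{u}} (f : X ⟶ Y) (x : X) :
    (EGA43.IsOpenAt f.base x → ∀ y' : Y, y' ⤳ f.base x → ∃ x' : X, x' ⤳ x ∧ f.base x' = y') ∧
    (LocallyOfFinitePresentation f →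
      ((EGA43.IsOpenAt f.base x) ↔ ∀ y' : Y, y' ⤳ f.base x → ∃ x' : X, x' ⤳ x ∧ f.base x' = y')) := by
  refine ⟨lift_of_isOpenAt f x, fun hf => ⟨lift_of_isOpenAt f x, fun h => ?_⟩⟩
  haveI := hf
  exact isOpenAt_of_lift f x h

end Groth.Agent.S3404
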