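import Groth.Statements.S4928
-- import your own Groth.Agent.* helpers here
import Mathlib
import Groth.Agent.S3404
import Groth.Agent.Lib.Helper8.UnivOpen

set_option autoImplicit false
open CategoryTheory AlgebraicGeometry
universe u v w
open EGA43

namespace Groth.Agent.S4928
open CategoryTheory.Limits Groth.Agent.Lib.Helper8

theorem isUnivOpenAt_of_stalk {X Y : Scheme.{u}} (f : X ⟶ Y) [LocallyOfFinitePresentation f]
    (x : X) (y : Y) (hy : f.base x = y) (x₁ : ↥(pullback f (Y.fromSpecStalk y)))
    (hx₁ : (pullback.fst f (Y.fromSpecStalk y)).base x₁ = x)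
    (h₁ : EGA43.IsUnivOpenAt (pullback.snd f (Y.fromSpecStalk y)) x₁) :
    EGA43.IsUnivOpenAt f x := by
  intro Y' g x' hx'
  set f' := pullback.snd f g with hf'
  set y' := f'.base x' with hy'
  have hgy : g.base y' = y := by
    rw [← hy, ← hx', hy', hf', ← Scheme.Hom.comp_apply, ← Scheme.Hom.comp_apply, pullback.condition]
  subst hgy
  refine ((Groth.Agent.S3404.result f' x').2 inferInstance).mpr ?_
  intro y'' hy''
  have hr : y'' ∈ Set.range (Y'.fromSpecStalk y') := by
    rw [Scheme.range_fromSpecStalk]; exact hy''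
  obtain ⟨p, hp⟩ := hr
  set h := Y'.fromSpecStalk y' with hh
  -- the point q₀
  have hcl : f'.base x' = h.base (IsLocalRing.closedPoint _) := by
    rw [hh]; exact (Scheme.fromSpecStalk_closedPoint (X := Y') (x := y')).symm
  obtain ⟨q₀, hq₀1, hq₀2⟩ := Scheme.Pullback.exists_preimage_pullback (f := f') (g := h) x' (IsLocalRing.closedPoint _) hcl
  set qf := pullback.fst f' h with hqf
  set qs := pullback.snd f' h with hqs
  set k := Spec.map (g.stalkMap y') with hk
  have hkj : k ≫ Y.fromSpecStalk (g.base y') = h ≫ g := Scheme.SpecMap_stalkMap_fromSpecStalk g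
  -- the big pullback square
  have big : IsPullback (qf ≫ pullback.fst f g) qs f (h ≫ g) :=
    (IsPullback.of_hasPullback f' h).paste_horiz (IsPullback.of_hasPullback f g)
  rw [← hkj] at big
  have hw : (qf ≫ pullback.fst f g) ≫ f = (qs ≫ k) ≫ Y.fromSpecStalk (g.base y') := by
    rw [Category.assoc qs k]; exact big.w
  set a : pullback f' h ⟶ pullback f (Y.fromSpecStalk (g.base y')) := pullback.lift (qf ≫ pullback.fst f g) (qs ≫ k) hw with ha
  have ha1 : a ≫ pullback.fst f (Y.fromSpecStalk (g.base y')) = qf ≫ pullback.fst f g := pullback.lift_fst _ _ _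
  have ha2 : a ≫ pullback.snd f (Y.fromSpecStalk (g.base y')) = qs ≫ k := pullback.lift_snd _ _ _
  have left : IsPullback a qs (pullback.snd f (Y.fromSpecStalk (g.base y'))) k := by
    refine IsPullback.of_right ?_ ha2 (IsPullback.of_hasPullback f (Y.fromSpecStalk (g.base y')))
    rw [ha1]; exact big
  have haq : a.base q₀ = x₁ := by
    have hinj : Function.Injective (pullback.fst f (Y.fromSpecStalk (g.base y'))).base :=
      (pullback.fst f (Y.fromSpecStalk (g.base y'))).isEmbedding.injective
    apply hinj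
    rw [← Scheme.Hom.comp_apply, ha1, Scheme.Hom.comp_apply, hq₀1, hx', hx₁]
  have hopen : EGA43.IsOpenAt qs.base q₀ := isOpenAt_of_isPullback left x₁ h₁ q₀ haq
  have hps : p ⤳ qs.base q₀ := by
    rw [hq₀2]; exact IsLocalRing.specializes_closedPoint p
  obtain ⟨q, hq1, hq2⟩ := (Groth.Agent.S3404.result qs q₀).1 hopen p hps
  refine ⟨qf.base q, ?_, ?_⟩
  · rw [← hq₀1]; exact hq1.map qf.continuous
  · have hc : qf ≫ f' = qs ≫ h := pullback.condition
    rw [← Scheme.Hom.comp_apply, hc, Scheme.Hom.comp_apply, hq2]; exact hp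

open CategoryTheory.Limits in
/-- Let f : X ⟶ Y be locally of finite presentation, x a point of X, y = f x, and f₁ : X ×_Y Spec
O_{Y,y} ⟶ Spec O_{Y,y} the base change of f to the local scheme of Y at y. Then for every point x₁
of X ×_Y Spec O_{Y,y} projecting to x, f is universally open at x if and only if f₁ is universally
open at x₁. -/
theorem result {X Y : Scheme.{u}} (f : X ⟶ Y) [LocallyOfFinitePresentation f]
    (x : X) (x₁ : ↥(pullback f (Y.fromSpecStalk (f.base x))))
    (hx₁ : (pullback.fst f (Y.fromSpecStalk (f.base x))).base x₁ = x) :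
    EGA43.IsUnivOpenAt f x ↔ EGA43.IsUnivOpenAt (pullback.snd f (Y.fromSpecStalk (f.base x))) x₁ := by
  constructor
  · intro h
    exact isUnivOpenAt_of_isPullback (IsPullback.of_hasPullback f _) x h x₁ hx₁
  · intro h₁
    exact isUnivOpenAt_of_stalk f x _ rfl x₁ hx₁ h₁

end Groth.Agent.S4928
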