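import Groth.Statements.S4930
-- import your own Groth.Agent.* helpers here
import Mathlib
import Groth.Agent.S2587

set_option autoImplicit false
open CategoryTheory AlgebraicGeometry
universe u v w
open EGA43

namespace Groth.Agent.S4930
open CategoryTheory.Limits IsLocalRing

/-- The generic point of the spectrum of a discrete valuation ring. -/
theorem exists_generic_dvr (A : Type u) [CommRing A] [IsDomain A] [IsDiscreteValuationRing A] :
    ∃ η : ↥(Spec (CommRingCat.of A)), η ≠ closedPoint A ∧ ∀ z : ↥(Spec (CommRingCat.of A)), η ⤳ z := by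
  refine ⟨⟨⊥, Ideal.isPrime_bot⟩, ?_, ?_⟩
  · intro h
    have h1 : (⊥ : Ideal A) = IsLocalRing.maximalIdeal A := congrArg PrimeSpectrum.asIdeal h
    exact IsDiscreteValuationRing.not_a_field A h1.symm
  · intro z
    exact (PrimeSpectrum.le_iff_specializes (⟨⊥, Ideal.isPrime_bot⟩ : PrimeSpectrum A) z).mp bot_le

/-- Over a discrete valuation ring: every point of the closed fibre lying in a given set of
points is a specialization of a point outside the closed fibre, iff the irreducible components
dominate. -/
theorem forall_dense_iff {A : Type u} [CommRing A] [IsDomain A] [IsDiscreteValuationRing A]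
    {P : Scheme.{u}} (p : P ⟶ Spec (CommRingCat.of A)) :
    (∀ Z ∈ irreducibleComponents (↥P : Type u), Dense (p.base '' Z)) ↔
      ∀ x' : P, p.base x' = closedPoint A → ∃ z' : P, z' ⤳ x' ∧ p.base z' ≠ closedPoint A := by
  obtain ⟨η, hη1, hη2⟩ := exists_generic_dvr A
  constructor
  · intro H x' hx'
    have hZ : irreducibleComponent x' ∈ irreducibleComponents (↥P : Type u) :=
      irreducibleComponent_mem_irreducibleComponents x'
    obtain ⟨ζ, hζ⟩ := QuasiSober.sober (isIrreducible_irreducibleComponent (x := x'))
      isClosed_irreducibleComponent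
    refine ⟨ζ, hζ.specializes mem_irreducibleComponent, ?_⟩
    intro hcl
    have hsub : p.base '' irreducibleComponent x' ⊆ {closedPoint A} := by
      rintro _ ⟨z, hz, rfl⟩
      have h1 : ζ ⤳ z := hζ.specializes hz
      have h2 : p.base ζ ⤳ p.base z := h1.map p.continuous
      rw [hcl] at h2
      have h3 : IsClosed ({closedPoint A} : Set (PrimeSpectrum A)) :=
        IsLocalRing.isClosed_singleton_closedPoint A
      exact (h2.mem_closed h3 rfl)
    have hd := H _ hZ
    have h4 : η ∈ closure (p.base '' irreducibleComponent x') := hd η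
    have h5 : closure (p.base '' irreducibleComponent x') ⊆ {closedPoint A} :=
      closure_minimal hsub (IsLocalRing.isClosed_singleton_closedPoint A)
    exact hη1 (h5 h4)
  · intro H Z hZ
    have hZirr : IsIrreducible Z := hZ.1
    have hZcl : IsClosed Z := isClosed_of_mem_irreducibleComponents Z hZ
    obtain ⟨ζ, hζ⟩ := QuasiSober.sober hZirr hZcl
    have hζZ : ζ ∈ Z := hζ.mem
    have hne : p.base ζ ≠ closedPoint A := by
      intro hcl
      obtain ⟨z', hz'1, hz'2⟩ := H ζ hcl
      have h1 : IsIrreducible (closure ({z'} : Set P)) := isIrreducible_singleton.closure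
      have h2 : Z ⊆ closure ({z'} : Set P) := by
        rw [← hζ.def]
        exact closure_minimal (Set.singleton_subset_iff.mpr (specializes_iff_mem_closure.mp hz'1))
          isClosed_closure
      have h3 : closure ({z'} : Set P) ⊆ Z := hZ.2 h1 h2
      have h4 : ζ ⤳ z' := hζ.specializes (h3 (subset_closure rfl))
      have h5 : z' = ζ := (hz'1.antisymm h4).eq
      exact hz'2 (h5 ▸ hcl)
    have hηeq : p.base ζ = η := by
      have h1 := Groth.Agent.S2587.asIdeal_eq_bot_of_ne_closedPoint A (p.base ζ) hne
      have h2 : η ⤳ p.base ζ := hη2 _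
      have h3 : p.base ζ ⤳ η :=
        (PrimeSpectrum.le_iff_specializes (p.base ζ) η).mp
          (show (p.base ζ).asIdeal ≤ η.asIdeal by rw [h1]; exact bot_le)
      exact (h3.antisymm h2).eq
    intro z
    have h1 : η ⤳ z := hη2 z
    have h2 : z ∈ closure ({η} : Set ↥(Spec (CommRingCat.of A))) := specializes_iff_mem_closure.mp h1
    refine closure_mono ?_ h2
    rw [Set.singleton_subset_iff, ← hηeq]
    exact ⟨ζ, hζZ, rfl⟩

open CategoryTheory.Limits in
/-- Let Y be a locally Noetherian scheme, f : X ⟶ Y a morphism locally of finite type and y a point of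
Y. Then f is universally open at all points of the fibre over y if and only if, for every discrete
valuation ring A and every morphism g : Spec A ⟶ Y mapping the closed point to y, every irreducible
component of X ×_Y Spec A dominates Spec A. -/
theorem result {X Y : Scheme.{u}} [IsLocallyNoetherian Y] (f : X ⟶ Y)
    [LocallyOfFiniteType f] (y : Y) :
    (∀ x : X, f.base x = y → EGA43.IsUnivOpenAt f x) ↔
      ∀ (A : Type u) [CommRing A] [IsDomain A] [IsDiscreteValuationRing A] (g : Spec (CommRingCat.of A) ⟶ Y),
        g.base (IsLocalRing.closedPoint A) = y →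
        ∀ Z ∈ irreducibleComponents (↥(pullback f g) : Type u), Dense ((pullback.snd f g).base '' Z) := by
  constructor
  · intro H A _ _ _ g hg
    rw [forall_dense_iff]
    intro x' hx'
    have hfx : f.base ((pullback.fst f g).base x') = y := by
      rw [← Scheme.Hom.comp_apply, pullback.condition, Scheme.Hom.comp_apply, hx', hg]
    have hUO := H _ hfx
    exact (Groth.Agent.S2587.result f _).mp hUO A g (by rw [hg, hfx]) x' rfl hx'
  · intro H x hx
    rw [Groth.Agent.S2587.result f x]
    intro A _ _ _ g hg x' hx' hs
    have h1 := (forall_dense_iff (pullback.snd f g)).mp (H A g (by rw [hg, hx]))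
    exact h1 x' hs

end Groth.Agent.S4930
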