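import Groth.Statements.S4931
-- import your own Groth.Agent.* helpers here
import Mathlib
import Groth.Agent.S4930
import Groth.Agent.Lib.Helper8.UnivOpen

set_option autoImplicit false
open CategoryTheory AlgebraicGeometry
universe u v w
open EGA43

namespace Groth.Agent.S4931
open CategoryTheory.Limits IsLocalRing Groth.Agent.Lib.Helper8

theorem universallyOpen_iff_forall_isUnivOpenAt {X Y : Scheme.{u}} (f : X ⟶ Y) :
    UniversallyOpen f ↔ ∀ x : X, EGA43.IsUnivOpenAt f x := by
  constructor
  · intro h x Y' g x' _
    haveI : UniversallyOpen (pullback.snd f g) :=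
      MorphismProperty.pullback_snd (P := @UniversallyOpen) f g h
    exact isOpenAt_of_isOpenMap (pullback.snd f g).isOpenMap x'
  · intro h
    refine ⟨?_⟩
    intro X' Y' i₁ i₂ f' sq
    show IsOpenMap f'.base
    rw [isOpenMap_iff_nhds_le]
    intro p
    rw [Filter.le_map_iff]
    intro N hN
    exact isOpenAt_of_isPullback sq.flip (i₁.base p) (h _) p rfl N hN

open CategoryTheory.Limits in
/-- Suppose Y is a locally Noetherian scheme and the morphism f : X ⟶ Y is locally of finite type. The
morphism f is universally open exactly when the following holds: given any discrete valuation ring A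
together with any morphism g : Spec A ⟶ Y, each irreducible component of the fibre product X ×_Y
Spec A dominates Spec A (i.e. its image under the second projection is dense). -/
theorem result {X Y : Scheme.{u}} [IsLocallyNoetherian Y] (f : X ⟶ Y)
    [LocallyOfFiniteType f] :
    UniversallyOpen f ↔
      ∀ (A : Type u) [CommRing A] [IsDomain A] [IsDiscreteValuationRing A] (g : Spec (CommRingCat.of A) ⟶ Y),
        ∀ Z ∈ irreducibleComponents (↥(pullback f g) : Type u), Dense ((pullback.snd f g).base '' Z) := by
  rw [universallyOpen_iff_forall_isUnivOpenAt]
  constructor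
  · intro H A _ _ _ g
    exact (Groth.Agent.S4930.result f (g.base (IsLocalRing.closedPoint A))).mp
      (fun x _ => H x) A g rfl
  · intro H x
    exact (Groth.Agent.S4930.result f (f.base x)).mpr
      (fun A _ _ _ g _ => H A g) x rfl

end Groth.Agent.S4931
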