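import Groth.Statements.S1146
import Groth.Agent.Lib.Helper2.DimFiber
import Mathlib.AlgebraicGeometry.Morphisms.Etale
import Mathlib.AlgebraicGeometry.Morphisms.QuasiFinite
import Mathlib.AlgebraicGeometry.Morphisms.UniversallyOpen
import Mathlib.RingTheory.Unramified.LocalStructure
-- import your own Groth.Agent.* helpers here

set_option autoImplicit false
open CategoryTheory CategoryTheory.Limits AlgebraicGeometry Opposite
universe u
open Desc

namespace Groth.Agent.S1146


theorem lqf_of_etale {X Y : Scheme.{u}} (f : X ⟶ Y) [Etale f] : LocallyQuasiFinite f where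
  quasiFinite_appLE {U} hU {V} hV e := by
    have h := f.etale_appLE hU hV e
    algebraize [(f.appLE U V e).hom]
    have : Algebra.Etale Γ(Y, U) Γ(X, V) := h
    rw [RingHom.QuasiFinite]
    infer_instance

theorem eq_of_specializes_of_fiber {X Y : Scheme.{u}} (f : X ⟶ Y) [Etale f] {x x' : X}
    (h : x ⤳ x') (hf : f x = f x') : x = x' := by
  have := lqf_of_etale f
  have hd : _root_.IsDiscrete (f ⁻¹' {f x'}) := f.isDiscrete_preimage_singleton (f x')
  have := hd.to_subtype
  let a : ↥(f ⁻¹' {f x'} : Set X) := ⟨x, hf⟩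
  let b : ↥(f ⁻¹' {f x'} : Set X) := ⟨x', rfl⟩
  have hab : a ⤳ b := Topology.IsInducing.subtypeVal.specializes_iff.1 h
  have : a = b := hab.eq
  exact congrArg Subtype.val this

open Groth.Agent.Lib.Helper2 in
theorem dim_eq_image {U V : Scheme.{u}} (f : U ⟶ V) [Etale f] (W : U.Opens) :
    topologicalKrullDim (W : Set U) = topologicalKrullDim (f '' (W : Set U)) := by
  have hopen : IsOpen (f '' (W : Set U)) := f.isOpenMap _ W.isOpen
  have : QuasiSober ↥(W : Set U) := W.isOpen.isOpenEmbedding_subtypeVal.quasiSober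
  have : QuasiSober ↥(f '' (W : Set U)) := hopen.isOpenEmbedding_subtypeVal.quasiSober
  let ψ : ↥(W : Set U) → ↥(f '' (W : Set U)) := fun x => ⟨f x.1, ⟨x.1, x.2, rfl⟩⟩
  have hc : Continuous ψ := (f.continuous.comp continuous_subtype_val).subtype_mk _
  have hsurj : Function.Surjective ψ := by
    rintro ⟨_, ⟨x, hx, rfl⟩⟩
    exact ⟨⟨x, hx⟩, rfl⟩
  have hfib : ∀ x x' : ↥(W : Set U), x ⤳ x' → ψ x = ψ x' → x = x' := by
    intro x x' h he
    apply Subtype.ext
    exact eq_of_specializes_of_fiber f (Topology.IsInducing.subtypeVal.specializes_iff.2 h)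
      (congrArg Subtype.val he)
  have hgen : GeneralizingMap ψ := by
    intro x y' hy'
    have h1 : y'.1 ⤳ f x.1 := Topology.IsInducing.subtypeVal.specializes_iff.2 hy'
    obtain ⟨x₀, hx₀, hfx₀⟩ := (Flat.generalizingMap f) h1
    have hx₀W : x₀ ∈ (W : Set U) := hx₀.mem_open W.isOpen x.2
    refine ⟨⟨x₀, hx₀W⟩, Topology.IsInducing.subtypeVal.specializes_iff.1 hx₀, Subtype.ext hfx₀⟩
  exact le_antisymm (topologicalKrullDim_le_of_fiberwise ψ hc hfib)
    (topologicalKrullDim_le_of_generalizing ψ hc hsurj hgen)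

/-- Let f : U ⟶ V be an etale morphism of schemes and u a point of U. Then the local dimension of U at u
(the infimum of the Krull dimensions of open neighbourhoods) equals the local dimension of V at
f(u). -/
theorem result {U V : Scheme.{u}} (f : U ⟶ V) [Etale f] (u : U) :
    FlatMor.localDim U u = FlatMor.localDim V (f.base u) := by
  unfold FlatMor.localDim
  apply le_antisymm
  · apply le_iInf
    rintro ⟨W', hW'⟩
    let W : U.Opens := f ⁻¹ᵁ W'
    have hW : u ∈ W := hW'
    refine iInf_le_of_le ⟨W, hW⟩ ?_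
    show topologicalKrullDim (W : Set U) ≤ topologicalKrullDim (W' : Set V)
    rw [dim_eq_image f W]
    have hsub : f '' (W : Set U) ⊆ (W' : Set V) := by
      rintro _ ⟨x, hx, rfl⟩
      exact hx
    exact (Topology.IsEmbedding.inclusion hsub).isInducing.topologicalKrullDim_le
  · apply le_iInf
    rintro ⟨W, hW⟩
    have hopen : IsOpen (f '' (W : Set U)) := f.isOpenMap _ W.isOpen
    refine iInf_le_of_le ⟨⟨f '' (W : Set U), hopen⟩, ⟨u, hW, rfl⟩⟩ ?_
    show topologicalKrullDim (f '' (W : Set U)) ≤ topologicalKrullDim (W : Set U)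
    rw [dim_eq_image f W]

end Groth.Agent.S1146
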