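import Groth.Statements.S0403
-- import your own Groth.Agent.* helpers here
import Mathlib
import Groth.Agent.Lib.Helper12.ChevalleyCor

set_option autoImplicit false
universe u
open FlatMor

namespace Groth.Agent.S0403
open AlgebraicGeometry Groth.Agent.Lib.Helper12 Groth.Agent.Lib.Helper12.ChevalleyCor

open AlgebraicGeometry CategoryTheory Limits in
/-- For a proper morphism the dimension of the fibre is an upper semicontinuous function on the target:
for every bound the set of points whose fibre has dimension at most that bound is open. -/
theorem result {X S : Scheme.{u}} (f : X ⟶ S) [IsProper f] (c : WithBot ℕ∞) :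
    IsOpen {s : S | topologicalKrullDim (f.fiber s) ≤ c} := by
  have hcl : IsClosedMap f.base := f.isClosedMap
  rcases ProductDim.withBot_enat_cases c with h | h | ⟨m, h⟩
  · subst h
    have : {s : S | topologicalKrullDim (f.fiber s) ≤ ⊥} =
        {s : S | ((0 : ℕ) : WithBot ℕ∞) ≤ topologicalKrullDim (f.fiber s)}ᶜ := by
      ext s
      simp only [Set.mem_setOf_eq, Set.mem_compl_iff, le_bot_iff, Nat.cast_zero]
      constructor
      · intro h1 h2
        rw [h1] at h2
        simp at h2
      · intro h1
        by_contra h2
        apply h1
        rw [zero_le_dim_fiber_iff, ← nonempty_fiber_iff]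
        by_contra hne
        rw [not_nonempty_iff] at hne
        apply h2
        unfold topologicalKrullDim
        haveI : IsEmpty (TopologicalSpace.IrreducibleCloseds (f.fiber s)) :=
          ⟨fun Z => hne.elim Z.isIrreducible.nonempty.some⟩
        exact Order.krullDim_eq_bot
    rw [this]
    exact (isClosed_setOf_le_dim_fiber f hcl 0).isOpen_compl
  · subst h
    simp
  · subst h
    have : {s : S | topologicalKrullDim (f.fiber s) ≤ (m : WithBot ℕ∞)} =
        {s : S | ((m + 1 : ℕ) : WithBot ℕ∞) ≤ topologicalKrullDim (f.fiber s)}ᶜ := by
      ext s
      simp only [Set.mem_setOf_eq, Set.mem_compl_iff]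
      rw [succ_le_iff_not_le, not_not]
    rw [this]
    exact (isClosed_setOf_le_dim_fiber f hcl (m + 1)).isOpen_compl

end Groth.Agent.S0403
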