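import Groth.Statements.S2079
-- import your own Groth.Agent.* helpers here
import Mathlib
import Groth.Agent.Lib.Helper12.ProperApprox

set_option autoImplicit false
universe u
open CategoryTheory AlgebraicGeometry
open Lim

namespace Groth.Agent.S2079
open Limits TopologicalSpace Opposite Groth.Agent.Lib.Helper12.ProperApprox

set_option backward.isDefEq.respectTransparency false
set_option linter.style.haveILetI false

/-- Let `f : X → S` be proper with `S` quasi-compact and quasi-separated. Then `X` is the limit of a
cofiltered diagram of `S`-schemes which are proper and of finite presentation over `S`, with all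
transition morphisms and all projections `X → X_i` closed immersions. -/
theorem result {X S : Scheme.{u}} (f : X ⟶ S) [IsProper f] [CompactSpace S]
    [QuasiSeparatedSpace S] :
    ∃ (I : Type u) (_ : SmallCategory I) (_ : IsCofiltered I) (D : I ⥤ Over S) (c : Limits.Cone D)
      (_ : Limits.IsLimit c) (e : c.pt ≅ Over.mk f),
      (∀ (i j : I) (a : i ⟶ j), IsClosedImmersion (D.map a).left) ∧
      (∀ i, IsClosedImmersion (c.π.app i).left ∧ IsProper (D.obj i).hom ∧
        LocallyOfFinitePresentation (D.obj i).hom) := by
  obtain ⟨B, iB1, iB2, iB3, D, π, hlim, h1, h2⟩ := exists_proper_approx f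
  exact ⟨Bᵒᵖ, inferInstance, inferInstance, D, { pt := Over.mk f, π := π }, hlim, Iso.refl _, h1,
    fun i => ⟨(h2 i).1, (h2 i).2.1, (h2 i).2.2.1⟩⟩

end Groth.Agent.S2079
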