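import Groth.Statements.S3398
import Groth.Agent.Lib.Helper26.ProConsTop

set_option autoImplicit false
open CategoryTheory AlgebraicGeometry
universe u
open EGA41

namespace Groth.Agent.S3398

open Groth.Agent.Lib.Helper26.ProConsTop TopologicalSpace

/-- Let f : X' ⟶ X be a quasi-compact morphism of schemes and E' a pro-constructible subset of X'. Then
f(E') is pro-constructible in X; in particular f(X') is pro-constructible. -/
theorem result {X' X : Scheme.{u}} (f : X' ⟶ X) [QuasiCompact f]
    (E' : Set X') (hE' : ProCons.IsProConstructible E') :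
    ProCons.IsProConstructible (f.base '' E') := by
  classical
  rw [isProConstructible_iff]
  intro W hW
  haveI : IsAffine (W : Scheme.{u}) := hW
  have hcomp : IsCompact ((f ⁻¹ᵁ W : X'.Opens) : Set X') := f.isCompact_preimage hW.isCompact
  obtain ⟨s, hs, hsW⟩ := isCompact_iff_finite_and_eq_biUnion_affineOpens.mp hcomp
  have hle : ∀ V ∈ s, (V : X'.Opens) ≤ f ⁻¹ᵁ W := by
    intro V hV
    rw [hsW]
    exact le_iSup₂ (f := fun (i : X'.affineOpens) (_ : i ∈ s) => (i : X'.Opens)) V hV
  have key : W.ι.base ⁻¹' (f.base '' E') =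
      ⋃ V : s, (f.resLE W V.1 (hle V.1 V.2)).base '' (V.1.1.ι.base ⁻¹' E') := by
    ext w
    simp only [Set.mem_preimage, Set.mem_image, Set.mem_iUnion]
    constructor
    · rintro ⟨e, heE, hew⟩
      have hemem : e ∈ (f ⁻¹ᵁ W : X'.Opens) := by
        show f.base e ∈ W
        rw [hew]
        exact w.2
      rw [hsW] at hemem
      simp only [Opens.mem_iSup] at hemem
      obtain ⟨V, hVs, heV⟩ := hemem
      refine ⟨⟨V, hVs⟩, ⟨e, heV⟩, heE, ?_⟩
      apply W.ι.isOpenEmbedding.injective
      have := congrArg (fun g => g.base ⟨e, heV⟩) (Scheme.Hom.resLE_comp_ι f (hle V hVs))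
      simp only [Scheme.Hom.comp_base, TopCat.hom_comp, ContinuousMap.comp_apply] at this
      rw [this]
      exact hew
    · rintro ⟨V, v, hvE, rfl⟩
      refine ⟨V.1.1.ι.base v, hvE, ?_⟩
      have := congrArg (fun g => g.base v) (Scheme.Hom.resLE_comp_ι f (hle V.1 V.2))
      simp only [Scheme.Hom.comp_base, TopCat.hom_comp, ContinuousMap.comp_apply] at this
      exact this.symm
  rw [key]
  haveI : Finite s := hs
  refine @isClosed_iUnion_of_finite _ _ (constructibleTopology (W : Scheme.{u})) _ _ ?_
  intro V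
  haveI : IsAffine (V.1.1 : Scheme.{u}) := V.1.2
  exact Groth.Agent.Lib.Helper11.SpecSp.isClosed_cons_image
    (f.resLE W V.1 (hle V.1 V.2)).isSpectralMap
    (isProConstructible_iff.mp hE' V.1.1 V.1.2)

end Groth.Agent.S3398
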