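import Groth.Statements.S9216
-- import your own Groth.Agent.* helpers here
import Mathlib
import Groth.Agent.Lib.Helper12.FibreDimStage
import Groth.Agent.Lib.Helper12.ClosedApprox2

set_option autoImplicit false
universe u
open CategoryTheory CategoryTheory.Limits AlgebraicGeometry
open Lim

namespace Groth.Agent.S9216
open Groth.Agent.Lib.Helper12 Limits Opposite
set_option backward.isDefEq.respectTransparency false
set_option linter.style.haveILetI false

/-- Let S be a quasi-compact quasi-separated scheme, f : X → S a morphism of finite presentation and d a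
natural number. Let Z be a closed subscheme of X such that every fibre of Z → S has dimension at
most d. Then there is a closed subscheme Z' of X containing Z such that Z' → X is of finite
presentation and every fibre of Z' → S has dimension at most d. -/
theorem result {X S Z : Scheme.{u}} [CompactSpace S]
    [QuasiSeparatedSpace S] (f : X ⟶ S) [LocallyOfFinitePresentation f] [QuasiCompact f] [QuasiSeparated f]
    (d : ℕ) (ι : Z ⟶ X) [IsClosedImmersion ι] (hZ : ∀ s : S, topologicalKrullDim ↥((ι ≫ f).fiber s) ≤ d) :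
    ∃ (Z' : Scheme.{u}) (ι' : Z' ⟶ X) (k : Z ⟶ Z'), IsClosedImmersion ι' ∧ LocallyOfFinitePresentation ι' ∧
      k ≫ ι' = ι ∧ ∀ s : S, topologicalKrullDim ↥((ι' ≫ f).fiber s) ≤ d := by
  haveI : CompactSpace X := QuasiCompact.compactSpace_of_compactSpace f
  haveI : QuasiSeparatedSpace X := quasiSeparatedSpace_of_quasiSeparated f
  obtain ⟨A, iA1, iA2, iA3, J, hJ, ⟨hlim⟩, hfp⟩ := ClosedApprox.exists_closed_approx ι
  haveI : IsCofiltered Aᵒᵖ := inferInstance
  haveI : IsConnected Aᵒᵖ := IsCofiltered.isConnected _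
  let DX : Aᵒᵖ ⥤ Scheme.{u} := ClosedApprox.subSys J ⋙ Over.forget X
  let DS : Aᵒᵖ ⥤ Scheme.{u} := (Functor.const Aᵒᵖ).obj S
  let φ : DX ⟶ DS :=
    { app := fun a => ((ClosedApprox.subSys J).obj a).hom ≫ f
      naturality := fun a b m => by
        show ((ClosedApprox.subSys J).map m).left ≫ ((ClosedApprox.subSys J).obj b).hom ≫ f =
          (((ClosedApprox.subSys J).obj a).hom ≫ f) ≫ 𝟙 S
        rw [Category.comp_id, ← Category.assoc, Over.w] }
  let cX : Cone DX := (Over.forget X).mapCone (ClosedApprox.subCone J ι hJ)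
  have hX : IsLimit cX := isLimitOfPreserves _ hlim
  let cS : Cone DS := constCone Aᵒᵖ S
  have hS : IsLimit cS := isLimitConstCone Aᵒᵖ S
  haveI : ∀ (i j : Aᵒᵖ) (a : i ⟶ j), IsAffineHom (DS.map a) := fun i j a =>
    inferInstanceAs (IsAffineHom (𝟙 S))
  haveI : ∀ i, CompactSpace (DS.obj i) := fun i => inferInstanceAs (CompactSpace S)
  haveI hφc : ∀ i, IsClosedImmersion ((ClosedApprox.subSys J).obj i).hom := fun i => inferInstance
  haveI : ∀ i, LocallyOfFiniteType (φ.app i) := fun i => by
    show LocallyOfFiniteType (((ClosedApprox.subSys J).obj i).hom ≫ f)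
    infer_instance
  haveI : ∀ i, QuasiCompact (φ.app i) := fun i => by
    show QuasiCompact (((ClosedApprox.subSys J).obj i).hom ≫ f)
    infer_instance
  have hcl : ∀ (i j : Aᵒᵖ) (a : i ⟶ j), IsClosedImmersion (FibreDimStage.cmp DX DS φ a) := by
    intro i j a
    haveI : IsIso (pullback.fst (φ.app j) (DS.map a)) := by
      haveI : IsIso (DS.map a) := inferInstanceAs (IsIso (𝟙 S))
      infer_instance
    have e : FibreDimStage.cmp DX DS φ a ≫ pullback.fst (φ.app j) (DS.map a) = DX.map a :=
      pullback.lift_fst _ _ _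
    haveI : IsClosedImmersion (DX.map a) :=
      inferInstanceAs (IsClosedImmersion ((ClosedApprox.subSys J).map a).left)
    haveI : IsClosedImmersion (FibreDimStage.cmp DX DS φ a ≫ pullback.fst (φ.app j) (DS.map a)) := by
      rw [e]; infer_instance
    exact IsClosedImmersion.of_comp _ (pullback.fst (φ.app j) (DS.map a))
  have hf : ∀ i, (ι ≫ f) ≫ cS.π.app i = cX.π.app i ≫ φ.app i := by
    intro i
    show (ι ≫ f) ≫ 𝟙 S = ((ClosedApprox.subCone J ι hJ).π.app i).left ≫
      ((ClosedApprox.subSys J).obj i).hom ≫ f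
    rw [Category.comp_id, ← Category.assoc, Over.w]
    rfl
  obtain ⟨i, hi⟩ := FibreDimStage.exists_fibre_dim_le_stage DX DS φ cX cS hX hS hcl (ι ≫ f) hf d hZ
  refine ⟨(J i.unop).subscheme, (J i.unop).subschemeι, cX.π.app i, inferInstance, hfp i.unop, ?_, hi⟩
  exact Over.w ((ClosedApprox.subCone J ι hJ).π.app i)

end Groth.Agent.S9216
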