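import Groth.Statements.S0800
import Groth.Agent.Lib.Helper5.TopColim
import Groth.Agent.Lib.Helper5.RpushColim

set_option autoImplicit false
universe u
open Coherent

namespace Groth.Agent.S0800

open CategoryTheory CategoryTheory.Limits AlgebraicGeometry in
/-- Let f : X → S be quasi-compact and quasi-separated. Then for every p the higher direct image functor
R^p f_* on abelian sheaves (on the underlying spaces) preserves filtered colimits. -/
theorem result {X S : Scheme.{u}} (f : X ⟶ S) [QuasiCompact f]
    [QuasiSeparated f] (p : ℕ) (J : Type u) [SmallCategory J] [IsFiltered J] :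
    PreservesColimitsOfShape J (Coh.RpushAb f p) := by
  constructor
  intro F
  have key := Groth.Agent.Lib.Helper5.RpushColim.main (Opens.grothendieckTopology X)
    (Opens.grothendieckTopology S) (TopologicalSpace.Opens.map f.base) F p ?_
  · exact key
  · intro V
    refine ⟨{W : S.affineOpens // W.1 ≤ V}, fun W => W.1.1, fun W => homOfLE W.2, ?_, fun W => ?_⟩
    · intro x hx
      obtain ⟨W, hW, hxW, hWV⟩ :=
        (TopologicalSpace.Opens.isBasis_iff_nbhd.mp S.isBasis_affineOpens) hx
      exact ⟨W, homOfLE hWV, Sieve.ofArrows_mk _ _ (⟨⟨W, hW⟩, hWV⟩ : {W : S.affineOpens // W.1 ≤ V}),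
        hxW⟩
    · have hc : IsCompact (((TopologicalSpace.Opens.map f.base).obj W.1.1 : TopologicalSpace.Opens X) : Set X) :=
        QuasiCompact.isCompact_preimage (f := f) _ W.1.1.isOpen W.1.2.isCompact
      have hq : IsQuasiSeparated (((TopologicalSpace.Opens.map f.base).obj W.1.1 :
          TopologicalSpace.Opens X) : Set X) :=
        Scheme.Hom.isQuasiSeparated_preimage f W.1.2.isQuasiSeparated
      exact Groth.Agent.Lib.Helper5.TopColim.preservesColimit_H_of_qcqs
        ((TopologicalSpace.Opens.map f.base).obj W.1.1) hc hq p J F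

end Groth.Agent.S0800
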