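import Groth.Statements.S3426
-- import your own Groth.Agent.* helpers here
import Mathlib
import Groth.Agent.Lib.Helper12.FibMono
import Groth.Agent.Lib.Helper12.ConstrNhds
import Groth.Agent.S12442

set_option autoImplicit false
open CategoryTheory AlgebraicGeometry
universe u
open EGA43

namespace Groth.Agent.S3426
open Groth.Agent.Lib.Helper12.ConstrNhds Groth.Agent.Lib.Helper12.FibRad
open Groth.Agent.Lib.Helper12.UnramLocus

open CategoryTheory.Limits in
/-- Let g : Y ⟶ S and f : X ⟶ Y be such that X and Y are of finite presentation over S (locally of
finite presentation, quasi-compact and quasi-separated). For each point s of S let f_s be the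
induced morphism from the fibre of f ≫ g over s to the fibre of g over s. Then the set of s for
which f_s is a monomorphism is locally constructible in S. -/
theorem result {X Y S : Scheme.{u}} (f : X ⟶ Y) (g : Y ⟶ S)
    [LocallyOfFinitePresentation g] [QuasiCompact g] [QuasiSeparated g]
    [LocallyOfFinitePresentation (f ≫ g)] [QuasiCompact (f ≫ g)] [QuasiSeparated (f ≫ g)] :
    Topology.IsLocallyConstructible {s : S |
      Mono (pullback.lift (pullback.fst (f ≫ g) (S.fromSpecResidueField s) ≫ f) (pullback.snd (f ≫ g) (S.fromSpecResidueField s))
          ((Category.assoc _ _ _).trans pullback.condition) :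
        pullback (f ≫ g) (S.fromSpecResidueField s) ⟶ pullback g (S.fromSpecResidueField s))} := by
  haveI : LocallyOfFinitePresentation f := Groth.Agent.S12442.result f g
  haveI : QuasiCompact f :=
    MorphismProperty.HasOfPostcompProperty.of_postcomp (W := @QuasiCompact) (W' := @QuasiSeparated)
      f g inferInstance inferInstance
  haveI : QuasiSeparated f := QuasiSeparated.of_comp f g
  haveI : QuasiCompact (pullback.diagonal f) := inferInstance
  haveI : LocallyOfFinitePresentation (pullback.diagonal f) :=
    Groth.Agent.S12442.aux (pullback.diagonal f) (pullback.fst f f)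
      (by rw [pullback.diagonal_fst]; infer_instance) inferInstance
  haveI : LocallyOfFinitePresentation (pullback.fst f f ≫ f ≫ g) := inferInstance
  haveI : QuasiCompact (pullback.fst f f ≫ f ≫ g) := inferInstance
  have hconstr1 : Topology.IsLocallyConstructible
      (((pullback.fst f f ≫ f ≫ g).base '' (Set.range (pullback.diagonal f).base)ᶜ)ᶜ) := by
    have h1 : Topology.IsLocallyConstructible (Set.range (pullback.diagonal f).base) := by
      rw [← Set.image_univ]
      exact (pullback.diagonal f).isLocallyConstructible_image
        Topology.IsLocallyConstructible.univ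
    exact isLocallyConstructible_compl
      ((pullback.fst f f ≫ f ≫ g).isLocallyConstructible_image (isLocallyConstructible_compl h1))
  have hconstr2 : Topology.IsLocallyConstructible
      (((f ≫ g).base '' (unramLocus f)ᶜ)ᶜ) :=
    isLocallyConstructible_compl ((f ≫ g).isLocallyConstructible_image
      (isLocallyConstructible_compl (isLocallyConstructible_unramLocus f)))
  convert hconstr1.inter hconstr2 using 1
  ext s
  rw [Set.mem_setOf_eq]
  have hsnd : Groth.Agent.S3443.fibMap f g s ≫ pullback.snd g (S.fromSpecResidueField s) =
      pullback.snd (f ≫ g) (S.fromSpecResidueField s) := pullback.lift_snd _ _ _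
  haveI : LocallyOfFiniteType (Groth.Agent.S3443.fibMap f g s ≫
      pullback.snd g (S.fromSpecResidueField s)) := by
    rw [hsnd]; infer_instance
  haveI : LocallyOfFiniteType (Groth.Agent.S3443.fibMap f g s) :=
    locallyOfFiniteType_of_comp _ (pullback.snd g (S.fromSpecResidueField s))
  refine (mono_iff_universallyInjective_and_formallyUnramified
    (Groth.Agent.S3443.fibMap f g s)).trans ?_
  rw [universallyInjective_fibMap_iff f g s, formallyUnramified_fibMap_iff f g s]
  simp only [Set.mem_inter_iff, Set.mem_compl_iff, Set.mem_image, not_exists, not_and]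
  constructor
  · rintro ⟨h1, h2⟩
    exact ⟨fun w hw hs => hw (h1 w hs), fun x hx hs => hx (h2 x hs)⟩
  · rintro ⟨h1, h2⟩
    refine ⟨fun w hs => ?_, fun x hs => ?_⟩
    · by_contra hne
      exact h1 w hne hs
    · by_contra hne
      exact h2 x hne hs

end Groth.Agent.S3426
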