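import Groth.Statements.S1460
import Mathlib.RingTheory.Extension.Presentation.Core
import Mathlib.AlgebraicGeometry.Morphisms.FinitePresentation

set_option autoImplicit false
universe u
open FlatMor

namespace Groth.Agent.S1460

open AlgebraicGeometry CategoryTheory Limits TensorProduct in
/-- Let f : X → S be a morphism of finite presentation between affine schemes. Then f is the base change
of a morphism of finite type f₀ : X₀ → S₀ between affine schemes with S₀ of finite type over ℤ. -/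
theorem result {X S : Scheme.{u}} (f : X ⟶ S) [IsAffine X] [IsAffine S] [LocallyOfFinitePresentation f] :
    ∃ (X₀ S₀ : Scheme.{u}) (f₀ : X₀ ⟶ S₀) (g : S ⟶ S₀) (g' : X ⟶ X₀), IsAffine X₀ ∧ IsAffine S₀ ∧ IsPullback g' f f₀ g ∧
      Algebra.FiniteType ℤ Γ(S₀, ⊤) ∧ LocallyOfFiniteType f₀ := by
  have hfp : f.appTop.hom.FinitePresentation :=
    (HasRingHomProperty.iff_of_isAffine (P := @LocallyOfFinitePresentation)).mp ‹_›
  algebraize [f.appTop.hom]
  let P := Algebra.Presentation.ofFinitePresentation Γ(S, ⊤) Γ(X, ⊤)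
  let e := P.tensorModelOfHasCoeffsEquiv P.Core
  let ψ : P.ModelOfHasCoeffs P.Core →+* Γ(X, ⊤) :=
    e.toRingEquiv.toRingHom.comp Algebra.TensorProduct.includeRight.toRingHom
  have key : ∀ x : Γ(S, ⊤), e ((x : Γ(S, ⊤)) ⊗ₜ[P.Core] (1 : P.ModelOfHasCoeffs P.Core)) =
      f.appTop.hom x := by
    intro x
    have h1 : ((x : Γ(S, ⊤)) ⊗ₜ[P.Core] (1 : P.ModelOfHasCoeffs P.Core)) =
        x • (1 : Γ(S, ⊤) ⊗[P.Core] (P.ModelOfHasCoeffs P.Core)) := by
      rw [Algebra.TensorProduct.one_def, TensorProduct.smul_tmul', smul_eq_mul, mul_one]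
    rw [h1, map_smul, map_one, Algebra.smul_def, mul_one]
    rfl
  have hsq : IsPushout (CommRingCat.ofHom (algebraMap P.Core Γ(S, ⊤)))
      (CommRingCat.ofHom (algebraMap P.Core (P.ModelOfHasCoeffs P.Core)))
      f.appTop (CommRingCat.ofHom ψ) := by
    refine IsPushout.of_iso (CommRingCat.isPushout_tensorProduct P.Core Γ(S, ⊤) (P.ModelOfHasCoeffs P.Core))
      (Iso.refl _) (Iso.refl _) (Iso.refl _) e.toRingEquiv.toCommRingCatIso ?_ ?_ ?_ ?_
    · simp
    · simp
    · ext x
      exact key x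
    · rw [Iso.refl_hom, Category.id_comp]
      rfl
  have hpb := (isPullback_SpecMap_of_isPushout _ _ _ _ hsq).flip
  refine ⟨Spec (.of (P.ModelOfHasCoeffs P.Core)), Spec (.of P.Core),
    Spec.map (CommRingCat.ofHom (algebraMap P.Core (P.ModelOfHasCoeffs P.Core))),
    S.isoSpec.hom ≫ Spec.map (CommRingCat.ofHom (algebraMap P.Core Γ(S, ⊤))),
    X.isoSpec.hom ≫ Spec.map (CommRingCat.ofHom ψ), inferInstance, inferInstance, ?_, ?_, ?_⟩
  · refine IsPullback.of_iso hpb X.isoSpec.symm (Iso.refl _) S.isoSpec.symm (Iso.refl _) ?_ ?_ ?_ ?_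
    · simp
    · simp [Scheme.isoSpec_inv_naturality]
    · simp
    · simp
  · have hft : Algebra.FiniteType ℤ P.Core := inferInstance
    exact hft.equiv (Scheme.ΓSpecIso (.of P.Core)).symm.commRingCatIsoToRingEquiv.toIntAlgEquiv
  · rw [HasRingHomProperty.Spec_iff (P := @LocallyOfFiniteType)]
    have hfp' : Algebra.FinitePresentation P.Core (P.ModelOfHasCoeffs P.Core) := inferInstance
    have hft' : Algebra.FiniteType P.Core (P.ModelOfHasCoeffs P.Core) := inferInstance
    exact RingHom.finiteType_algebraMap.mpr hft'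

end Groth.Agent.S1460
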