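import Groth.Statements.S3402
import Groth.Agent.Lib.Helper26.ProConsTop

set_option autoImplicit false
open CategoryTheory AlgebraicGeometry
universe u
open EGA41

namespace Groth.Agent.S3402

open Groth.Agent.Lib.Helper26.ProConsTop

/-- A subset E of a scheme X is locally constructible if and only if it is both ind-constructible and
pro-constructible. -/
theorem result (X : Scheme.{u}) (E : Set X) :
    Topology.IsLocallyConstructible E ↔ ProCons.IsIndConstructible E ∧ ProCons.IsProConstructible E := by
  constructor
  · intro h
    constructor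
    · intro x
      obtain ⟨U, hxU, hU, hc⟩ := h x
      exact ⟨U, hU, mem_of_mem_nhds hxU, {Subtype.val ⁻¹' E},
        by simpa using hc.isLocallyConstructible, by simp⟩
    · intro x
      obtain ⟨U, hxU, hU, hc⟩ := h x
      exact ⟨U, hU, mem_of_mem_nhds hxU, {Subtype.val ⁻¹' E},
        by simpa using hc.isLocallyConstructible, by simp⟩
  · rintro ⟨hind, hpro⟩ x
    obtain ⟨U, hU, hxU, -⟩ := exists_isAffineOpen_mem_le X x ⊤ trivial
    haveI : IsAffine (U : Scheme.{u}) := hU
    have h1 := isIndConstructible_iff.mp hind U hU
    have h2 := isProConstructible_iff.mp hpro U hU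
    have h3 : Topology.IsConstructible (U.ι.base ⁻¹' E) := isConstructible_of_isClopen_cons h1 h2
    exact ⟨(U : Set X), U.isOpen.mem_nhds hxU, U.isOpen, h3⟩

end Groth.Agent.S3402
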