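import Groth.Statements.S14767
-- import your own Groth.Agent.* helpers here
import Mathlib
import Groth.Agent.S3398
import Groth.Agent.Lib.Helper12.ValBase
import Groth.Agent.Lib.Helper12.ProConsBasic
import Groth.Agent.Lib.Helper26.ProConsSch

set_option autoImplicit false
universe u
open CategoryTheory CategoryTheory.Limits AlgebraicGeometry
open Subtr

namespace Groth.Agent.S14767

open AlgebraicGeometry CategoryTheory Limits Topology

set_option backward.isDefEq.respectTransparency false

lemma isProConstructible_of_isClosed {X : Scheme.{u}} {Z : Set X} (hZ : IsClosed Z) :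
    ProCons.IsProConstructible Z := by
  have := Groth.Agent.Lib.Helper26.ProConsSch.isProConstructible_compl
    (Groth.Agent.Lib.Helper12.ProConsBasic.isIndConstructible_of_isOpen hZ.isOpen_compl)
  rwa [compl_compl] at this

/-- the image of a closed set under a quasi-compact morphism is closed as soon as it is stable
under specialization -/
lemma isClosed_image_of_stable {X Y : Scheme.{u}} (f : X ⟶ Y) [QuasiCompact f] (Z : Set X)
    (hZ : IsClosed Z) (H : StableUnderSpecialization (f '' Z)) : IsClosed (f '' Z) := by
  have hpc : ProCons.IsProConstructible (f '' Z) :=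
    Groth.Agent.S3398.result f Z (isProConstructible_of_isClosed hZ)
  rw [← closure_subset_iff_isClosed]
  intro x hx
  obtain ⟨z, hz, hzx⟩ := Groth.Agent.Lib.Helper26.ProConsSch.exists_specializes_of_mem_closure hpc hx
  exact H hzx hz

/-- a quasi-compact surjective morphism whose base changes to valuation rings are submersive is
submersive -/
lemma isQuotientMap_of_valuative {X Y X' Y' : Scheme.{u}} (f : X ⟶ Y) (i₁ : X' ⟶ X) (i₂ : Y' ⟶ Y)
    (f' : X' ⟶ Y') (hpb : IsPullback f' i₁ i₂ f) [QuasiCompact f'] [Surjective f']
    (H : ∀ (V : Type u) [CommRing V] [IsDomain V] [ValuationRing V]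
      (g : Spec (CommRingCat.of V) ⟶ Y), Topology.IsQuotientMap (pullback.snd f g)) :
    Topology.IsQuotientMap f' := by
  rw [Topology.isQuotientMap_iff_isClosed]
  refine ⟨f'.surjective, fun W => ⟨fun hW => hW.preimage f'.continuous, fun hW => ?_⟩⟩
  have hWeq : f' '' (f' ⁻¹' W) = W := Set.image_preimage_eq W f'.surjective
  rw [← hWeq]
  refine isClosed_image_of_stable f' _ hW ?_
  rw [hWeq]
  intro w' w hw hw'
  obtain ⟨V, iV1, iV2, iV3, φ, η, hφc, hφη, hηgen, -⟩ :=
    Groth.Agent.Lib.Helper12.ValBase.exists_valuationRing_spec Y' w w' hw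
  have hq := H V (φ ≫ i₂)
  let k : pullback f (φ ≫ i₂) ⟶ X' :=
    hpb.lift (pullback.snd f (φ ≫ i₂) ≫ φ) (pullback.fst f (φ ≫ i₂))
      (by rw [Category.assoc, pullback.condition])
  have hk : k ≫ f' = pullback.snd f (φ ≫ i₂) ≫ φ := hpb.lift_fst _ _ _
  have hcl : IsClosed ((pullback.snd f (φ ≫ i₂)) ⁻¹' (φ ⁻¹' W)) := by
    have h1 : (pullback.snd f (φ ≫ i₂)) ⁻¹' (φ ⁻¹' W) = k ⁻¹' (f' ⁻¹' W) := by
      ext z
      show φ (pullback.snd f (φ ≫ i₂) z) ∈ W ↔ f' (k z) ∈ W
      rw [← Scheme.Hom.comp_apply, ← Scheme.Hom.comp_apply, hk]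
    rw [h1]
    exact hW.preimage k.continuous
  have hcl' : IsClosed (φ ⁻¹' W) := (Topology.isQuotientMap_iff_isClosed.mp hq).2 _ |>.mpr hcl
  have hη : η ∈ φ ⁻¹' W := by
    show φ η ∈ W
    rw [hφη]; exact hw'
  have hc : IsLocalRing.closedPoint V ∈ φ ⁻¹' W :=
    (hηgen (IsLocalRing.closedPoint V)).mem_closed hcl' hη
  have : φ (IsLocalRing.closedPoint V) ∈ W := hc
  rwa [hφc] at this


/-- Let f : X ⟶ Y be a quasi-compact morphism of schemes. Then f is universally submersive if and only
if, for every valuation ring V and every morphism Spec V ⟶ Y, the base change X ×_Y Spec V ⟶ Spec V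
is submersive (its underlying continuous map is a quotient map). (The published statement asks
instead that f be universally submersive for the constructible topologies, which holds for
quasi-compact surjective morphisms; both sides here force f to be surjective.) -/
theorem result {X Y : Scheme.{u}} (f : X ⟶ Y) [QuasiCompact f] :
    SGA1.UnivSubmersive f ↔
      ∀ (V : Type u) [CommRing V] [IsDomain V] [ValuationRing V] (g : Spec (CommRingCat.of V) ⟶ Y),
        Topology.IsQuotientMap (pullback.snd f g) := by
  constructor
  · intro hf V _ _ _ g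
    exact hf (pullback.fst f g) g (pullback.snd f g) (IsPullback.of_hasPullback f g).flip
  · intro H
    -- surjectivity of `f`
    haveI hsurj : Surjective f := by
      refine ⟨fun y => ?_⟩
      have hq := H (Y.residueField y) (Y.fromSpecResidueField y)
      obtain ⟨z, hz⟩ := hq.surjective (IsLocalRing.closedPoint (Y.residueField y))
      refine ⟨pullback.fst f (Y.fromSpecResidueField y) z, ?_⟩
      rw [← Scheme.Hom.comp_apply, pullback.condition, Scheme.Hom.comp_apply]
      exact Scheme.fromSpecResidueField_apply _ _
    intro X' Y' i₁ i₂ f' hpb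
    haveI : QuasiCompact f' := MorphismProperty.of_isPullback (P := @QuasiCompact) hpb.flip inferInstance
    haveI : Surjective f' := MorphismProperty.of_isPullback (P := @Surjective) hpb.flip inferInstance
    exact isQuotientMap_of_valuative f i₁ i₂ f' hpb H

end Groth.Agent.S14767
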