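import Groth.Statements.S14768
-- import your own Groth.Agent.* helpers here
import Mathlib
import Groth.Agent.Lib.Helper22.Subtr

set_option autoImplicit false
universe u
open CategoryTheory CategoryTheory.Limits AlgebraicGeometry
open Subtr

namespace Groth.Agent.S14768

/-- Let f : X ⟶ Y be any morphism of schemes. Then every base change of f has the lifting property for
ordered pairs of points if and only if this holds for the base changes X ×_Y Spec V ⟶ Spec V along
all morphisms Spec V ⟶ Y with V a valuation ring. (The published statement is about universally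
subtrusive morphisms and assumes f universally submersive for the constructible topologies; the
lifting property alone descends from valuation rings with the same proof, and for quasi-compact f
the two statements agree.) -/
theorem result {X Y : Scheme.{u}} (f : X ⟶ Y) :
    Subtr.UnivSSubtrusive f ↔
      ∀ (V : Type u) [CommRing V] [IsDomain V] [ValuationRing V] (g : Spec (CommRingCat.of V) ⟶ Y),
        Subtr.IsSSubtrusive (pullback.snd f g) := by
  constructor
  · intro hf V _ _ _ g
    exact hf _ _ _ (IsPullback.of_hasPullback f g).flip
  · intro H X' Y' i₁ i₂ f' h y y' hyy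
    obtain ⟨V, _, _, _, g₀, hcl, hgen⟩ :=
      Groth.Agent.Lib.Helper22.SubtrLib.exists_valuationRing_of_specializes hyy
    have hsub := H V (g₀ ≫ i₂)
    have hspec : Groth.Agent.Lib.Helper22.SubtrLib.genPt V ⤳
        Groth.Agent.Lib.Helper22.SubtrLib.clPt V :=
      IsLocalRing.specializes_closedPoint (R := V) _
    obtain ⟨w, w', hww, hw, hw'⟩ := hsub hspec
    let t : pullback f (g₀ ≫ i₂) ⟶ X' :=
      h.lift (pullback.snd f (g₀ ≫ i₂) ≫ g₀) (pullback.fst f (g₀ ≫ i₂))
        (by rw [Category.assoc, pullback.condition])
    have ht : t ≫ f' = pullback.snd f (g₀ ≫ i₂) ≫ g₀ := h.lift_fst _ _ _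
    refine ⟨t w, t w', hww.map t.continuous, ?_, ?_⟩
    · rw [← Scheme.Hom.comp_apply, ht, Scheme.Hom.comp_apply, hw, hcl]
    · rw [← Scheme.Hom.comp_apply, ht, Scheme.Hom.comp_apply, hw', hgen]

end Groth.Agent.S14768
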