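import Groth.Statements.S14766
-- import your own Groth.Agent.* helpers here
import Mathlib
import Groth.Agent.Lib.Helper22.Subtr

set_option autoImplicit false
universe u
open CategoryTheory CategoryTheory.Limits AlgebraicGeometry
open Subtr

namespace Groth.Agent.S14766

/-- Let V be a discrete valuation ring and f : X ⟶ Spec V any morphism of schemes. Then the underlying
continuous map of f is a quotient map (f is submersive) if and only if every ordered pair of points
of Spec V lifts to an ordered pair of points of X. -/
theorem result (V : Type u) [CommRing V] [IsDomain V]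
    [IsDiscreteValuationRing V] {X : Scheme.{u}} (f : X ⟶ Spec (CommRingCat.of V)) :
    Topology.IsQuotientMap f ↔ Subtr.IsSSubtrusive f := by
  classical
  obtain ⟨ϖ, hϖ⟩ := IsDiscreteValuationRing.exists_irreducible V
  -- the two points
  let η : Spec (CommRingCat.of V) := (⟨⊥, Ideal.isPrime_bot⟩ : PrimeSpectrum V)
  let s : Spec (CommRingCat.of V) := IsLocalRing.closedPoint V
  have hcases : ∀ p : Spec (CommRingCat.of V), p = η ∨ p = s := by
    intro p
    by_cases hp : (p : PrimeSpectrum V).asIdeal = ⊥
    · left; exact PrimeSpectrum.ext hp
    · right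
      have hmax : (p : PrimeSpectrum V).asIdeal.IsMaximal :=
        Ring.DimensionLEOne.maximalOfPrime hp (p : PrimeSpectrum V).isPrime
      exact PrimeSpectrum.ext (IsLocalRing.eq_maximalIdeal hmax)
  have hηs : η ⤳ s := IsLocalRing.specializes_closedPoint (R := V) _
  -- the open set {η}
  let D : (Spec (CommRingCat.of V)).Opens := PrimeSpectrum.basicOpen ϖ
  have hηD : η ∈ D := by
    have h0 : (⟨⊥, Ideal.isPrime_bot⟩ : PrimeSpectrum V) ∈ PrimeSpectrum.basicOpen ϖ := by
      rw [PrimeSpectrum.mem_basicOpen]
      intro h
      exact hϖ.ne_zero ((Submodule.mem_bot V).mp h)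
    exact h0
  have hsD : s ∉ D := by
    intro h
    have h0 : (IsLocalRing.closedPoint V) ∈ PrimeSpectrum.basicOpen ϖ := h
    rw [PrimeSpectrum.mem_basicOpen] at h0
    apply h0
    change ϖ ∈ IsLocalRing.maximalIdeal V
    rw [hϖ.maximalIdeal_eq]
    exact Ideal.mem_span_singleton_self ϖ
  have hne : η ≠ s := fun h => hsD (h ▸ hηD)
  have hDeq : (D : Set (Spec (CommRingCat.of V))) = {η} := by
    ext p
    rcases hcases p with rfl | rfl
    · simpa using hηD
    · simp only [SetLike.mem_coe, Set.mem_singleton_iff]
      exact ⟨fun h => (hsD h).elim, fun h => (hne h.symm).elim⟩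
  have hDc : ((D : Set (Spec (CommRingCat.of V))))ᶜ = {s} := by
    ext p
    rcases hcases p with rfl | rfl
    · simp only [Set.mem_compl_iff, SetLike.mem_coe, Set.mem_singleton_iff]
      exact ⟨fun h => (h hηD).elim, fun h => (hne h).elim⟩
    · simpa using hsD
  constructor
  · intro hq y y' hyy
    by_cases heq : y' = y
    · obtain ⟨x, hx⟩ := hq.surjective y
      exact ⟨x, x, specializes_rfl, hx, heq ▸ hx⟩
    have hy' : y' = η := by
      rcases hcases y' with h | h
      · exact h
      · exfalso
        apply heq
        have hcl : IsClosed ({s} : Set (Spec (CommRingCat.of V))) := by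
          rw [← hDc]; exact D.isOpen.isClosed_compl
        have := hyy.mem_closed hcl (by rw [h]; rfl)
        rw [h]; exact this.symm
    have hy : y = s := by
      rcases hcases y with h | h
      · exact (heq (hy'.trans h.symm)).elim
      · exact h
    subst hy' hy
    by_contra hcon
    push Not at hcon
    -- the preimage of the closed point is stable under generization
    have hpre : (f ⁻¹ᵁ D : X.Opens) = X.basicOpen (f.appTop ((Scheme.ΓSpecIso (CommRingCat.of V)).inv ϖ)) := by
      rw [← Scheme.preimage_basicOpen_top, basicOpen_eq_of_affine]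
    have hZ : (f ⁻¹' {s} : Set X) = ((f ⁻¹ᵁ D : X.Opens) : Set X)ᶜ := by
      rw [← hDc]; rfl
    have hstab : StableUnderGeneralization (f ⁻¹' {s} : Set X) := by
      intro x x' hxx hx
      rcases hcases (f x') with h | h
      · exact (hcon x x' hxx hx h).elim
      · exact h
    have hopen : IsOpen (f ⁻¹' {s} : Set X) := by
      rw [hZ, hpre]
      apply Groth.Agent.Lib.Helper22.SubtrLib.isOpen_compl_basicOpen_of_stableUnderGeneralization
      rw [← hpre, ← hZ]
      exact hstab
    have hsopen : IsOpen ({s} : Set (Spec (CommRingCat.of V))) := hq.isOpen_preimage.mp hopen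
    exact hne (hsopen.stableUnderGeneralization hηs rfl)
  · intro hsub
    have hsurj : Function.Surjective f := by
      intro y
      obtain ⟨x, _, _, hx, _⟩ := hsub (specializes_refl y)
      exact ⟨x, hx⟩
    rw [Topology.isQuotientMap_iff]
    refine ⟨.of_isOpen_preimage_iff_isOpen fun t => ⟨fun ht => ?_, fun ht => ht.preimage f.continuous⟩, hsurj⟩
    by_cases hst : s ∈ t
    · obtain ⟨x, x', hxx, hx, hx'⟩ := hsub hηs
      have hηt : η ∈ t := by
        have : x' ∈ f ⁻¹' t := ht.stableUnderGeneralization hxx (by simpa [hx] using hst)
        simpa [hx'] using this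
      have : t = Set.univ := by
        ext p
        rcases hcases p with rfl | rfl <;> simp [hηt, hst]
      rw [this]; exact isOpen_univ
    · by_cases hηt : η ∈ t
      · have : t = D := by
          rw [hDeq]
          ext p
          rcases hcases p with rfl | rfl
          · simpa using hηt
          · simp only [Set.mem_singleton_iff]
            exact ⟨fun h => (hst h).elim, fun h => (hne h.symm).elim⟩
        rw [this]; exact D.isOpen
      · have : t = ∅ := by
          ext p
          rcases hcases p with rfl | rfl <;> simp [hηt, hst]
        rw [this]; exact isOpen_empty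

end Groth.Agent.S14766
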