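import Groth.Statements.S7476
import Mathlib
import Groth.Agent.Lib.Helper11.VCover

set_option autoImplicit false
universe w u
open HTop

namespace Groth.Agent.S7476

open Groth.Agent.Lib.Helper11.VCover IsLocalRing


open CategoryTheory CategoryTheory.Limits AlgebraicGeometry in
/-- Let f : X -> Y be a quasi-compact morphism of schemes. Then the one-member family of f is a V
covering if and only if every morphism from the spectrum of a valuation ring to Y lifts to X after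
an extension of valuation rings; and the latter holds if and only if for every morphism Z -> Y and
every specialization z' ⤳ z of points of Z there is a specialization w' ⤳ w of points of Z x_Y X
mapping to z' ⤳ z. -/
theorem result {X Y : Scheme.{u}} (f : X ⟶ Y) [QuasiCompact f] : (HTop.IsVCover (PreZeroHypercover.singleton f) ↔ HTop.HasValLift (PreZeroHypercover.singleton f)) ∧ (HTop.HasValLift (PreZeroHypercover.singleton f) ↔ ∀ (Z : Scheme.{u}) (g : Z ⟶ Y) (z' z : Z), z' ⤳ z → ∃ w' w : ↑(pullback g f), w' ⤳ w ∧ pullback.fst g f w' = z' ∧ pullback.fst g f w = z) := by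
  refine ⟨⟨?_, ?_⟩, ⟨?_, ?_⟩⟩
  · -- V cover ⇒ valuative lifting
    intro hV V _ _ g
    obtain ⟨U, hU, hyU, -⟩ : ∃ U : Y.Opens, U ∈ Y.affineOpens ∧
        g (closedPoint V : ↥(Spec V)) ∈ U ∧ U ≤ ⊤ :=
      TopologicalSpace.Opens.isBasis_iff_nbhd.mp Y.isBasis_affineOpens
        (show g (closedPoint V : ↥(Spec V)) ∈ (⊤ : Y.Opens) from trivial)
    obtain ⟨F, hF, hFE⟩ : ∃ F : PreZeroHypercover.{0} (U : Scheme.{u}),
        HTop.IsStandardV F ∧ HTop.RefinesOver U.ι F (PreZeroHypercover.singleton f) := hV ⟨U, hU⟩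
    have hr := range_subset_of_closedPoint_mem V g U hyU
    obtain ⟨W, hWd, hWv, φ, hφ, j, g', hg'⟩ := hF.lift V (IsOpenImmersion.lift U.ι g hr)
    obtain ⟨i, h, hh⟩ := hFE j
    have hh' : h ≫ f = F.f j ≫ U.ι := hh
    refine ⟨W, hWd, hWv, φ, hφ, PUnit.unit, g' ≫ h, ?_⟩
    show (g' ≫ h) ≫ f = Spec.map φ ≫ g
    rw [Category.assoc, hh', ← Category.assoc, hg', Category.assoc, IsOpenImmersion.lift_fac]
  · -- valuative lifting ⇒ V cover
    intro hL U
    haveI : IsAffine ((U : Y.Opens) : Scheme.{u}) := U.2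
    have hc : IsCompact ((f ⁻¹ᵁ (U : Y.Opens) : X.Opens) : Set X) :=
      QuasiCompact.isCompact_preimage (f := f) _ (U : Y.Opens).isOpen U.2.isCompact
    obtain ⟨Us, hUs, hfin, hsup⟩ := X.isBasis_affineOpens.exists_finite_of_isCompact hc
    haveI : Finite ↥Us := hfin.to_subtype
    obtain ⟨n, ⟨e⟩⟩ := Finite.exists_equiv_fin ↥Us
    obtain ⟨A, hAdef⟩ : ∃ A : Fin n → X.Opens, ∀ k, A k = (e.symm k).1 :=
      ⟨fun k => (e.symm k).1, fun _ => rfl⟩
    have hle : ∀ k : Fin n, A k ≤ f ⁻¹ᵁ (U : Y.Opens) := by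
      intro k
      rw [hsup, hAdef]
      exact le_sSup (e.symm k).2
    have hAaff : ∀ k, IsAffineOpen (A k) := by
      intro k
      rw [hAdef]
      exact hUs (e.symm k).2
    have hAcov : ∀ x : X, x ∈ (f ⁻¹ᵁ (U : Y.Opens) : X.Opens) → ∃ k, x ∈ A k := by
      intro x hx
      rw [hsup] at hx
      obtain ⟨B, hB, hxB⟩ := TopologicalSpace.Opens.mem_sSup.mp hx
      exact ⟨e ⟨B, hB⟩, by rw [hAdef, Equiv.symm_apply_apply]; exact hxB⟩
    clear hAdef
    have hr : ∀ k : Fin n, Set.range ⇑((A k).ι ≫ f) ⊆ Set.range ⇑(U : Y.Opens).ι := by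
      intro k
      rw [Scheme.Opens.range_ι]
      rintro _ ⟨v, rfl⟩
      have hv : (A k).ι v ∈ A k := by
        have := Set.mem_range_self (f := ⇑(A k).ι) v
        rwa [Scheme.Opens.range_ι] at this
      rw [Scheme.Hom.comp_apply]
      exact hle k hv
    let F : PreZeroHypercover.{0} ((U : Y.Opens) : Scheme.{u}) :=
      { I₀ := Fin n
        X := fun k => (A k : Scheme.{u})
        f := fun k => IsOpenImmersion.lift (U : Y.Opens).ι _ (hr k) }
    have hFf : ∀ k, F.f k ≫ (U : Y.Opens).ι = (A k).ι ≫ f :=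
      fun k => IsOpenImmersion.lift_fac _ _ _
    refine ⟨F, ⟨inferInstance, inferInstanceAs (Finite (Fin n)), ?_, ?_⟩, ?_⟩
    · intro k
      exact hAaff k
    · intro V _ _ g
      obtain ⟨W, hWd, hWv, φ, hφ, _j, g', hg'⟩ := hL V (g ≫ (U : Y.Opens).ι)
      obtain ⟨g₁, hg₁⟩ : ∃ g₁ : Spec W ⟶ X, g₁ ≫ f = Spec.map φ ≫ g ≫ (U : Y.Opens).ι :=
        ⟨g', hg'⟩
      have hmem : g₁ (closedPoint W : ↥(Spec W)) ∈ (f ⁻¹ᵁ (U : Y.Opens) : X.Opens) := by
        show f (g₁ (closedPoint W : ↥(Spec W))) ∈ (U : Y.Opens)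
        rw [← Scheme.Hom.comp_apply, hg₁, Scheme.Hom.comp_apply, Scheme.Hom.comp_apply]
        have := Set.mem_range_self (f := ⇑(U : Y.Opens).ι)
          (g (Spec.map φ (closedPoint W : ↥(Spec W))))
        rwa [Scheme.Opens.range_ι] at this
      obtain ⟨k, hk⟩ := hAcov _ hmem
      have hr' := range_subset_of_closedPoint_mem W g₁ (A k) hk
      refine ⟨W, hWd, hWv, φ, hφ, k, IsOpenImmersion.lift (A k).ι g₁ hr', ?_⟩
      rw [← cancel_mono (U : Y.Opens).ι, Category.assoc, hFf k, ← Category.assoc,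
        IsOpenImmersion.lift_fac, hg₁, Category.assoc]
    · intro k
      exact ⟨PUnit.unit, (A k).ι, (hFf k).symm⟩
  · -- valuative lifting ⇒ lifting of specializations
    intro hL Z g z' z hzz
    obtain ⟨A, hAd, hAv, a, ha1, ha2⟩ := exists_valuationRing_of_specializes hzz
    obtain ⟨W, hWd, hWv, φ, ⟨hinj, hloc⟩, _j, g', hg'⟩ := hL A (a ≫ g)
    obtain ⟨g₁, hg₁⟩ : ∃ g₁ : Spec W ⟶ X, g₁ ≫ f = Spec.map φ ≫ a ≫ g := ⟨g', hg'⟩
    obtain ⟨b, hb1⟩ : ∃ b : Spec W ⟶ pullback g f, b ≫ pullback.fst g f = Spec.map φ ≫ a :=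
      ⟨pullback.lift (Spec.map φ ≫ a) g₁ (by rw [Category.assoc, hg₁]), pullback.lift_fst _ _ _⟩
    refine ⟨b (⟨⊥, Ideal.isPrime_bot⟩ : PrimeSpectrum W), b (closedPoint W), ?_, ?_, ?_⟩
    · exact (specializes_closedPoint (R := W) _).map b.continuous
    · rw [← Scheme.Hom.comp_apply, hb1, Scheme.Hom.comp_apply, specMap_bot_of_injective φ hinj]
      exact ha2
    · rw [← Scheme.Hom.comp_apply, hb1, Scheme.Hom.comp_apply,
        specMap_closedPoint_of_isLocalHom φ hloc]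
      exact ha1
  · -- lifting of specializations ⇒ valuative lifting
    intro hS V _ _ g
    obtain ⟨w', w, hww, hw', hw⟩ := hS (Spec V) g
      ((⟨⊥, Ideal.isPrime_bot⟩ : PrimeSpectrum V) : ↥(Spec V))
      (closedPoint V : ↥(Spec V)) (specializes_closedPoint (R := V) _)
    obtain ⟨W, hWd, hWv, φ, hφ, l, hl⟩ :=
      exists_isExtVal_of_specializes V (pullback.fst g f) hww hw hw'
    refine ⟨W, hWd, hWv, φ, hφ, PUnit.unit, l ≫ pullback.snd g f, ?_⟩
    show (l ≫ pullback.snd g f) ≫ f = Spec.map φ ≫ g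
    rw [Category.assoc, ← pullback.condition, ← Category.assoc, hl]

end Groth.Agent.S7476
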