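import Groth.Statements.S7469
import Mathlib

set_option autoImplicit false
universe w u
open HTop

namespace Groth.Agent.S7469

open CategoryTheory CategoryTheory.Limits AlgebraicGeometry in
/-- The base change of a standard V covering along a morphism of affine schemes T' -> T is a standard V
covering of T'. -/
theorem result {T T' : Scheme.{u}} [IsAffine T'] (g : T' ⟶ T) (E : PreZeroHypercover.{w} T) (hE : HTop.IsStandardV E) : HTop.IsStandardV (E.pullback₁ g) := by
  haveI := hE.isAffine
  haveI := hE.finite_index
  haveI : ∀ j, IsAffine (E.X j) := hE.isAffine_obj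
  refine ⟨inferInstance, ?_, ?_, ?_⟩
  · show Finite E.I₀
    infer_instance
  · intro j
    show IsAffine (Limits.pullback g (E.f j))
    infer_instance
  · intro V _ _ a
    obtain ⟨W, hWd, hWv, φ, hφ, j, g', hg'⟩ := hE.lift V (a ≫ g)
    refine ⟨W, hWd, hWv, φ, hφ, j,
      Limits.pullback.lift (Spec.map φ ≫ a) g' (by rw [Category.assoc, hg']), ?_⟩
    show Limits.pullback.lift _ _ _ ≫ Limits.pullback.fst _ _ = _
    exact Limits.pullback.lift_fst _ _ _

end Groth.Agent.S7469
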