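import Groth.Statements.S7471
import Mathlib
import Groth.Agent.Lib.Helper11.VCover
import Groth.Agent.S7469
import Groth.Agent.S7470

set_option autoImplicit false
universe w u
open HTop

namespace Groth.Agent.S7471

open CategoryTheory CategoryTheory.Limits AlgebraicGeometry in
/-- If E is a V covering of T and T' -> T is any morphism of schemes, then the family of base changes T'
x_T T_i -> T' is a V covering of T'. -/
theorem result {T T' : Scheme.{u}} (g : T' ⟶ T) (E : PreZeroHypercover.{w} T) (hE : HTop.IsVCover E) : HTop.IsVCover (E.pullback₁ g) := by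
  intro U'
  haveI : IsAffine ((U' : T'.Opens) : Scheme.{u}) := U'.2
  refine Groth.Agent.Lib.Helper11.VCover.exists_isStandardV_refinesOver_of_local
    (U' : T'.Opens).ι (E.pullback₁ g) ?_
  intro x
  obtain ⟨A, hA', hxA, -⟩ : ∃ A : T.Opens, A ∈ T.affineOpens ∧ g ((U' : T'.Opens).ι x) ∈ A ∧
      A ≤ ⊤ := TopologicalSpace.Opens.isBasis_iff_nbhd.mp T.isBasis_affineOpens
    (show g ((U' : T'.Opens).ι x) ∈ (⊤ : T.Opens) from trivial)
  obtain ⟨FA, hFA, hFAE⟩ : ∃ F : PreZeroHypercover.{0} (A : Scheme.{u}),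
      HTop.IsStandardV F ∧ HTop.RefinesOver A.ι F E := hE ⟨A, hA'⟩
  obtain ⟨W, hW, hxW, hWO⟩ : ∃ W : ((U' : T'.Opens) : Scheme.{u}).Opens,
      W ∈ ((U' : T'.Opens) : Scheme.{u}).affineOpens ∧ x ∈ W ∧
        W ≤ ((U' : T'.Opens).ι ≫ g) ⁻¹ᵁ A := TopologicalSpace.Opens.isBasis_iff_nbhd.mp
    ((U' : T'.Opens) : Scheme.{u}).isBasis_affineOpens
    (show x ∈ ((U' : T'.Opens).ι ≫ g) ⁻¹ᵁ A from hxA)
  have hW' : IsAffineOpen W := hW
  haveI : IsAffine (W : Scheme.{u}) := hW'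
  have hrg : Set.range ⇑(W.ι ≫ (U' : T'.Opens).ι ≫ g) ⊆ Set.range ⇑A.ι := by
    rw [Scheme.Opens.range_ι]
    rintro _ ⟨w, rfl⟩
    have hw : W.ι w ∈ W := by
      have := Set.mem_range_self (f := ⇑W.ι) w
      rwa [Scheme.Opens.range_ι] at this
    rw [Scheme.Hom.comp_apply]
    exact hWO hw
  obtain ⟨h, hh⟩ : ∃ h : (W : Scheme.{u}) ⟶ (A : Scheme.{u}),
      h ≫ A.ι = W.ι ≫ (U' : T'.Opens).ι ≫ g :=
    ⟨IsOpenImmersion.lift A.ι _ hrg, IsOpenImmersion.lift_fac _ _ _⟩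
  refine ⟨W, hW', hxW, FA.pullback₁ h, Groth.Agent.S7469.result h FA hFA, ?_⟩
  intro j
  obtain ⟨i, r, hr'⟩ := hFAE j
  have hcond : (pullback.fst h (FA.f j) ≫ W.ι ≫ (U' : T'.Opens).ι) ≫ g =
      (pullback.snd h (FA.f j) ≫ r) ≫ E.f i := by
    simp only [Category.assoc]
    rw [hr', ← pullback.condition_assoc, hh]
  obtain ⟨m, hm⟩ : ∃ m : pullback h (FA.f j) ⟶ pullback g (E.f i),
      m ≫ pullback.fst g (E.f i) = pullback.fst h (FA.f j) ≫ W.ι ≫ (U' : T'.Opens).ι :=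
    ⟨pullback.lift _ _ hcond, pullback.lift_fst _ _ _⟩
  exact ⟨i, m, hm⟩

end Groth.Agent.S7471
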