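import Groth.Statements.S7477
-- import your own Groth.Agent.* helpers here
import Groth.Agent.Lib.Helper23.VSubmC
import Groth.Agent.S7471

set_option autoImplicit false
universe w u
open HTop

namespace Groth.Agent.S7477



open CategoryTheory CategoryTheory.Limits AlgebraicGeometry in
/-- If {f_i : X_i -> X} is a V covering (indexed by a type in the universe of X), then the morphism from
the coproduct of the X_i to X induced by the f_i is universally submersive. -/
theorem result {X : Scheme.{u}} (E : PreZeroHypercover.{u} X) (hE : HTop.IsVCover E) : SGA1.UnivSubmersive (Sigma.desc E.f) := by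
  intro X' Y' i₁ i₂ f' hpb
  show Topology.IsQuotientMap f'
  have hV := Groth.Agent.S7471.result i₂ E hE
  refine Groth.Agent.Lib.Helper23.VSubmC.isQuotientMap_of_isVCover f' (E.pullback₁ i₂) hV
    (fun i => hpb.lift (pullback.fst _ _) (pullback.snd _ _ ≫ Sigma.ι E.X i) ?_) ?_
  · rw [Category.assoc, Sigma.ι_desc]
    exact pullback.condition
  · intro i
    rw [hpb.lift_fst]
    rfl

end Groth.Agent.S7477
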