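import Groth.Statements.S14952
import Mathlib
import Groth.Agent.Lib.Helper9.FlatSqZero

set_option autoImplicit false
universe u
open TensorProduct
open EtAlg

namespace Groth.Agent.S14952


open TensorProduct Groth.Agent.Lib.Helper9.FlatSqZero

section milnor
universe v
variable {B' B A' A : Type v} [CommRing B'] [CommRing B] [CommRing A'] [CommRing A]
  [Algebra B' B] [Algebra B' A'] [Algebra B A] [Algebra A' A] [Algebra B' A]
  [IsScalarTower B' B A] [IsScalarTower B' A' A]
  (hsq : EtMil.IsFibreSquare B' B A' A)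
  (L : Type v) [AddCommGroup L] [Module B' L]

include hsq in
lemma surj_B : Function.Surjective (algebraMap B' B) := by
  intro b
  obtain ⟨a', ha'⟩ := hsq.1 (algebraMap B A b)
  obtain ⟨b', ⟨hb'1, _⟩, _⟩ := hsq.2 b a' ha'.symm
  exact ⟨b', hb'1⟩

include hsq in
lemma eq_zero_of (b' : B') (h1 : algebraMap B' B b' = 0) (h2 : algebraMap B' A' b' = 0) :
    b' = 0 := by
  obtain ⟨c, _, hc⟩ := hsq.2 0 0 (by simp)
  rw [hc b' ⟨h1, h2⟩, hc 0 ⟨map_zero _, map_zero _⟩]

include hsq in
lemma exists_mul (j : B') (hj : algebraMap B' B j = 0) (a' : A') :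
    ∃ r : B', algebraMap B' B r = 0 ∧ algebraMap B' A' r = algebraMap B' A' j * a' := by
  have h : algebraMap B A 0 = algebraMap A' A (algebraMap B' A' j * a') := by
    rw [map_zero, map_mul, ← IsScalarTower.algebraMap_apply B' A' A,
      IsScalarTower.algebraMap_apply B' B A, hj, map_zero, zero_mul]
  obtain ⟨r, ⟨hr1, hr2⟩, _⟩ := hsq.2 0 _ h
  exact ⟨r, hr1, hr2⟩

/-- the restriction of `B' → A'` to an ideal -/
def αmap (J₀ : Ideal B') : J₀ →ₗ[B'] (J₀.map (algebraMap B' A')) where
  toFun x := ⟨algebraMap B' A' x.1, Ideal.mem_map_of_mem _ x.2⟩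
  map_add' x y := Subtype.ext (map_add _ _ _)
  map_smul' c x := Subtype.ext (by
    show algebraMap B' A' (c * x.1) = c • algebraMap B' A' x.1
    rw [map_mul, Algebra.smul_def])

lemma rInj_of_map [Module.Flat A' (A' ⊗[B'] L)] (J₀ : Ideal B')
    (hαL : Function.Injective ((αmap (A' := A') J₀).rTensor L)) :
    Function.Injective (J₀.subtype.rTensor L) := by
  set I₀ := J₀.map (algebraMap B' A') with hI₀
  have hβ : Function.Injective ((I₀.subtype.restrictScalars B').rTensor L) :=
    rTensor_injective_of_flat_baseChange' (R := B') (S := A') L I₀.subtype I₀.subtype_injective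
  have hcomm : (I₀.subtype.restrictScalars B') ∘ₗ (αmap (A' := A') J₀) =
      (Algebra.linearMap B' A') ∘ₗ J₀.subtype := by
    apply LinearMap.ext
    intro x
    rfl
  have h3 : Function.Injective (((Algebra.linearMap B' A').rTensor L) ∘
      (J₀.subtype.rTensor L)) := by
    have h4 : (((Algebra.linearMap B' A').rTensor L) ∘ (J₀.subtype.rTensor L)) =
        (((I₀.subtype.restrictScalars B').rTensor L) ∘ ((αmap (A' := A') J₀).rTensor L)) := by
      rw [← LinearMap.coe_comp, ← LinearMap.coe_comp, ← LinearMap.rTensor_comp,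
        ← LinearMap.rTensor_comp, hcomm]
    rw [h4]
    exact hβ.comp hαL
  exact Function.Injective.of_comp h3

include hsq in
lemma αmap_injective (J₀ : Ideal B') (hJ₀ : J₀ ≤ RingHom.ker (algebraMap B' B)) :
    Function.Injective (αmap (A' := A') J₀) := by
  rw [injective_iff_map_eq_zero]
  rintro ⟨x, hx⟩ h
  have h1 : algebraMap B' A' x = 0 := congrArg Subtype.val h
  apply Subtype.ext
  exact eq_zero_of hsq x (RingHom.mem_ker.mp (hJ₀ hx)) h1

include hsq in
lemma mem_map_J (y : A') (hy : y ∈ (RingHom.ker (algebraMap B' B)).map (algebraMap B' A')) :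
    ∃ j : B', algebraMap B' B j = 0 ∧ algebraMap B' A' j = y := by
  have hy' : y ∈ Submodule.span A' ((algebraMap B' A') '' (RingHom.ker (algebraMap B' B))) := hy
  clear hy
  induction hy' using Submodule.span_induction with
  | mem y h =>
    obtain ⟨j, hj, rfl⟩ := h
    exact ⟨j, RingHom.mem_ker.mp hj, rfl⟩
  | zero => exact ⟨0, map_zero _, map_zero _⟩
  | add y z _ _ hy hz =>
    obtain ⟨j₁, h1, rfl⟩ := hy
    obtain ⟨j₂, h2, rfl⟩ := hz
    exact ⟨j₁ + j₂, by rw [map_add, h1, h2, add_zero], map_add _ _ _⟩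
  | smul a y _ hy =>
    obtain ⟨j, h1, rfl⟩ := hy
    obtain ⟨r, hr1, hr2⟩ := exists_mul hsq j h1 a
    exact ⟨r, hr1, by rw [hr2, smul_eq_mul, mul_comm]⟩

include hsq in
lemma rInj_J [Module.Flat A' (A' ⊗[B'] L)] :
    Function.Injective ((RingHom.ker (algebraMap B' B)).subtype.rTensor L) := by
  apply rInj_of_map (A' := A') L
  have hbij : Function.Bijective (αmap (A' := A') (RingHom.ker (algebraMap B' B))) := by
    refine ⟨αmap_injective hsq _ le_rfl, ?_⟩
    rintro ⟨y, hy⟩
    obtain ⟨j, hj, rfl⟩ := mem_map_J hsq y hy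
    exact ⟨⟨j, RingHom.mem_ker.mpr hj⟩, rfl⟩
  have h : ((αmap (A' := A') (RingHom.ker (algebraMap B' B))).rTensor L) =
      ((LinearEquiv.rTensor L (LinearEquiv.ofBijective _ hbij)) : _ →ₗ[B'] _) := by
    rw [LinearEquiv.coe_rTensor]
    rfl
  rw [h]
  exact (LinearEquiv.rTensor L (LinearEquiv.ofBijective _ hbij)).injective

include hsq in
lemma key_mul (J₀ : Ideal B') (y : A') (hy : y ∈ J₀.map (algebraMap B' A')) :
    ∀ j : B', algebraMap B' B j = 0 →
      ∃ x : J₀, algebraMap B' A' x.1 = algebraMap B' A' j * y := by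
  have hy' : y ∈ Submodule.span A' ((algebraMap B' A') '' J₀) := hy
  clear hy
  induction hy' using Submodule.span_induction with
  | mem y h =>
    obtain ⟨j₀, hj₀, rfl⟩ := h
    intro j _
    exact ⟨⟨j * j₀, J₀.mul_mem_left j hj₀⟩, map_mul _ _ _⟩
  | zero =>
    intro j _
    exact ⟨0, by simp⟩
  | add y z _ _ hy hz =>
    intro j hj
    obtain ⟨x₁, h1⟩ := hy j hj
    obtain ⟨x₂, h2⟩ := hz j hj
    exact ⟨x₁ + x₂, by rw [Submodule.coe_add, map_add, h1, h2, mul_add]⟩
  | smul a y _ hy =>
    intro j hj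
    obtain ⟨r, hr1, hr2⟩ := exists_mul hsq j hj a
    obtain ⟨x, hx⟩ := hy r hr1
    exact ⟨x, by rw [hx, hr2, smul_eq_mul, mul_assoc]⟩

include hsq in
lemma rInj_le [Module.Flat A' (A' ⊗[B'] L)]
    [H1 : Module.Flat (B' ⧸ RingHom.ker (algebraMap B' B))
      ((B' ⧸ RingHom.ker (algebraMap B' B)) ⊗[B'] L)]
    (J₀ : Ideal B') (hJ₀ : J₀ ≤ RingHom.ker (algebraMap B' B)) :
    Function.Injective (J₀.subtype.rTensor L) := by
  apply rInj_of_map (A' := A') L
  have hπ : Function.Surjective (Finsupp.linearCombination B' (id : L → L)) :=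
    Finsupp.linearCombination_surjective _ Function.surjective_id
  have hex : Function.Exact (LinearMap.ker (Finsupp.linearCombination B' (id : L → L))).subtype
      (Finsupp.linearCombination B' (id : L → L)) := LinearMap.exact_subtype_ker_map _
  have hι : Function.Injective
      (LinearMap.ker (Finsupp.linearCombination B' (id : L → L))).subtype :=
    Submodule.subtype_injective _
  have H0 := Groth.Agent.Lib.Helper8.lTensor_quotient_injective (M := L)
    (K := LinearMap.ker (Finsupp.linearCombination B' (id : L → L))) (F := L →₀ B')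
    (RingHom.ker (algebraMap B' B))
    (LinearMap.ker (Finsupp.linearCombination B' (id : L → L))).subtype
    (Finsupp.linearCombination B' (id : L → L)) hι hex hπ (rInj_J (A' := A') hsq L)
  apply Groth.Agent.Lib.Helper8.rTensor_injective_of_smul_le_range (M := L)
    (K := LinearMap.ker (Finsupp.linearCombination B' (id : L → L))) (F := L →₀ B')
    (RingHom.ker (algebraMap B' B))
    (LinearMap.ker (Finsupp.linearCombination B' (id : L → L))).subtype
    (Finsupp.linearCombination B' (id : L → L)) hex hπ H1 H0 (αmap (A' := A') J₀)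
    (αmap_injective hsq J₀ hJ₀)
  rw [Submodule.smul_le]
  rintro j hj ⟨y, hy⟩ -
  have hj0 : algebraMap B' B j = 0 := RingHom.mem_ker.mp hj
  have key := key_mul hsq J₀ y hy
  obtain ⟨x, hx⟩ := key j hj0
  refine ⟨x, Subtype.ext ?_⟩
  show algebraMap B' A' x.1 = j • y
  rw [hx, Algebra.smul_def]

end milnor

/-- Let B' = B ×_A A' be a fibre product of commutative rings with A' → A surjective and L' a B'-module.
If B ⊗_{B'} L' is a flat B-module and A' ⊗_{B'} L' is a flat A'-module, then L' is a flat B'-module.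
(The converse holds by base change.) -/
theorem result (B' B A' A : Type u) [CommRing B'] [CommRing B] [CommRing A'] [CommRing A]
    [Algebra B' B] [Algebra B' A'] [Algebra B A] [Algebra A' A] [Algebra B' A] [IsScalarTower B' B A] [IsScalarTower B' A' A]
    (hsq : EtMil.IsFibreSquare B' B A' A)
    (L' : Type u) [AddCommGroup L'] [Module B' L']
    [Module.Flat B (B ⊗[B'] L')] [Module.Flat A' (A' ⊗[B'] L')] : Module.Flat B' L' := by
  classical
  set J : Ideal B' := RingHom.ker (algebraMap B' B) with hJ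
  -- flatness of L'/JL' over B'/J
  have hsurj : Function.Surjective (Algebra.ofId B' B) := surj_B hsq
  let e : (B' ⧸ RingHom.ker (Algebra.ofId B' B)) ≃ₐ[B'] B :=
    Ideal.quotientKerAlgEquivOfSurjective hsurj
  haveI H1 : Module.Flat (B' ⧸ J) ((B' ⧸ J) ⊗[B'] L') :=
    flat_of_algHom (e.symm : B →ₐ[B'] (B' ⧸ RingHom.ker (Algebra.ofId B' B))) L'
  haveI H1' : Module.Flat (B' ⧸ J ^ 1) ((B' ⧸ J ^ 1) ⊗[B'] L') :=
    flat_of_algHom (Ideal.Quotient.factorₐ B' (le_of_eq (pow_one J).symm)) L'
  rw [Module.Flat.iff_rTensor_injective']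
  intro 𝔟
  rw [injective_iff_map_eq_zero]
  intro x hx
  obtain ⟨x₀, rfl⟩ := Groth.Agent.Lib.Helper8.mem_range_rTensor_inclusion_of_flat J L' 1 𝔟 x hx
  have hle : J ^ 1 ⊓ 𝔟 ≤ J := inf_le_left.trans (le_of_eq (pow_one J))
  have hinj := rInj_le hsq L' (J ^ 1 ⊓ 𝔟) hle
  have h0 : ((J ^ 1 ⊓ 𝔟).subtype.rTensor L') x₀ = 0 := by
    rw [← hx, ← LinearMap.comp_apply, ← LinearMap.rTensor_comp, Submodule.subtype_comp_inclusion]
  rw [(injective_iff_map_eq_zero _).mp hinj x₀ h0, map_zero]

end Groth.Agent.S14952
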