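import Groth.Statements.S6893
import Mathlib
import Groth.Agent.S14952

set_option autoImplicit false
universe u
open TensorProduct
open CAlg

namespace Groth.Agent.S6893

/-- Let `M` be a module over a ring `R` and `I₁, I₂ ⊆ R` ideals. Suppose flatness of `M/I₁M` as an
`R/I₁`-module holds, and likewise `M/I₂M` is a flat `R/I₂`-module; then the quotient `M/(I₁ ∩ I₂)M`
is also flat as a module over `R/(I₁ ∩ I₂)`. -/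
theorem result {R : Type u} [CommRing R] (M : Type u) [AddCommGroup M] [Module R M]
    (I₁ I₂ : Ideal R) [Module.Flat (R ⧸ I₁) ((R ⧸ I₁) ⊗[R] M)] [Module.Flat (R ⧸ I₂) ((R ⧸ I₂) ⊗[R] M)] :
    Module.Flat (R ⧸ (I₁ ⊓ I₂)) ((R ⧸ (I₁ ⊓ I₂)) ⊗[R] M) := by
  classical
  letI a1 : Algebra (R ⧸ (I₁ ⊓ I₂)) (R ⧸ I₁) :=
    (Ideal.Quotient.factor (inf_le_left : I₁ ⊓ I₂ ≤ I₁)).toAlgebra
  letI a2 : Algebra (R ⧸ (I₁ ⊓ I₂)) (R ⧸ I₂) :=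
    (Ideal.Quotient.factor (inf_le_right : I₁ ⊓ I₂ ≤ I₂)).toAlgebra
  letI a3 : Algebra (R ⧸ I₁) (R ⧸ (I₁ ⊔ I₂)) :=
    (Ideal.Quotient.factor (le_sup_left : I₁ ≤ I₁ ⊔ I₂)).toAlgebra
  letI a4 : Algebra (R ⧸ I₂) (R ⧸ (I₁ ⊔ I₂)) :=
    (Ideal.Quotient.factor (le_sup_right : I₂ ≤ I₁ ⊔ I₂)).toAlgebra
  letI a5 : Algebra (R ⧸ (I₁ ⊓ I₂)) (R ⧸ (I₁ ⊔ I₂)) :=
    (Ideal.Quotient.factor ((inf_le_left : I₁ ⊓ I₂ ≤ I₁).trans le_sup_left)).toAlgebra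
  haveI t1 : IsScalarTower (R ⧸ (I₁ ⊓ I₂)) (R ⧸ I₁) (R ⧸ (I₁ ⊔ I₂)) :=
    IsScalarTower.of_algebraMap_eq (fun x => by
      obtain ⟨x, rfl⟩ := Ideal.Quotient.mk_surjective x
      rfl)
  haveI t2 : IsScalarTower (R ⧸ (I₁ ⊓ I₂)) (R ⧸ I₂) (R ⧸ (I₁ ⊔ I₂)) :=
    IsScalarTower.of_algebraMap_eq (fun x => by
      obtain ⟨x, rfl⟩ := Ideal.Quotient.mk_surjective x
      rfl)
  haveI t3 : IsScalarTower R (R ⧸ (I₁ ⊓ I₂)) (R ⧸ I₁) :=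
    IsScalarTower.of_algebraMap_eq (fun x => rfl)
  haveI t4 : IsScalarTower R (R ⧸ (I₁ ⊓ I₂)) (R ⧸ I₂) :=
    IsScalarTower.of_algebraMap_eq (fun x => rfl)
  have hsq : EtMil.IsFibreSquare (R ⧸ (I₁ ⊓ I₂)) (R ⧸ I₁) (R ⧸ I₂) (R ⧸ (I₁ ⊔ I₂)) := by
    refine ⟨Ideal.Quotient.factor_surjective _, ?_⟩
    intro b a' hba
    obtain ⟨x, rfl⟩ := Ideal.Quotient.mk_surjective b
    obtain ⟨y, rfl⟩ := Ideal.Quotient.mk_surjective a'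
    have hxy : x - y ∈ I₁ ⊔ I₂ := by
      rw [← Ideal.Quotient.eq]
      exact hba
    obtain ⟨i₁, hi₁, i₂, hi₂, hsum⟩ := Submodule.mem_sup.mp hxy
    refine ⟨Ideal.Quotient.mk (I₁ ⊓ I₂) (x - i₁), ⟨?_, ?_⟩, ?_⟩
    · show Ideal.Quotient.mk I₁ (x - i₁) = Ideal.Quotient.mk I₁ x
      rw [Ideal.Quotient.eq]
      have : x - i₁ - x = -i₁ := by ring
      rw [this]
      exact I₁.neg_mem hi₁
    · show Ideal.Quotient.mk I₂ (x - i₁) = Ideal.Quotient.mk I₂ y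
      rw [Ideal.Quotient.eq]
      have : x - i₁ - y = i₂ := by
        have h : x - y = i₁ + i₂ := hsum.symm
        linear_combination h
      rw [this]
      exact hi₂
    · rintro c ⟨hc1, hc2⟩
      obtain ⟨z, rfl⟩ := Ideal.Quotient.mk_surjective c
      have h1 : Ideal.Quotient.mk I₁ z = Ideal.Quotient.mk I₁ x := hc1
      have h2 : Ideal.Quotient.mk I₂ z = Ideal.Quotient.mk I₂ y := hc2
      rw [Ideal.Quotient.eq] at h1 h2 ⊢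
      refine ⟨?_, ?_⟩
      · have : z - (x - i₁) = (z - x) + i₁ := by ring
        rw [this]
        exact I₁.add_mem h1 hi₁
      · have : z - (x - i₁) = (z - y) - i₂ := by
          have h : x - y = i₁ + i₂ := hsum.symm
          linear_combination -h
        rw [this]
        exact I₂.sub_mem h2 hi₂
  haveI f1 : Module.Flat (R ⧸ I₁) ((R ⧸ I₁) ⊗[R ⧸ (I₁ ⊓ I₂)] ((R ⧸ (I₁ ⊓ I₂)) ⊗[R] M)) :=
    Module.Flat.of_linearEquiv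
      (AlgebraTensorModule.cancelBaseChange R (R ⧸ (I₁ ⊓ I₂)) (R ⧸ I₁) (R ⧸ I₁) M)
  haveI f2 : Module.Flat (R ⧸ I₂) ((R ⧸ I₂) ⊗[R ⧸ (I₁ ⊓ I₂)] ((R ⧸ (I₁ ⊓ I₂)) ⊗[R] M)) :=
    Module.Flat.of_linearEquiv
      (AlgebraTensorModule.cancelBaseChange R (R ⧸ (I₁ ⊓ I₂)) (R ⧸ I₂) (R ⧸ I₂) M)
  exact Groth.Agent.S14952.result (R ⧸ (I₁ ⊓ I₂)) (R ⧸ I₁) (R ⧸ I₂) (R ⧸ (I₁ ⊔ I₂)) hsq
    ((R ⧸ (I₁ ⊓ I₂)) ⊗[R] M)

end Groth.Agent.S6893
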