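import Groth.Statements.S6883
import Mathlib
import Groth.Agent.S14952
import Groth.Agent.S6893
import Groth.Agent.Lib.Helper9.FlatSqZero

set_option autoImplicit false
universe u
open TensorProduct
open CAlg

namespace Groth.Agent.S6883

open TensorProduct

/-- the property to be proved for a ring -/
def P (A : Type u) [CommRing A] : Prop :=
  ∀ (S : Type u) [CommRing S] [IsNoetherianRing S] [Algebra A S] [Module.Finite A S],
    Function.Injective (algebraMap A S) → ∀ (M : Type u) [AddCommGroup M] [Module A M]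
      [Module.Flat S (S ⊗[A] M)], Module.Flat A M

/-- descent of flatness along a ring map admitting a module retraction -/
theorem flat_of_retraction {R R' : Type u} [CommRing R] [CommRing R'] [Algebra R R']
    (φ : R' →ₗ[R] R) (hφ : φ 1 = 1) (M : Type u) [AddCommGroup M] [Module R M]
    [Module.Flat R' (R' ⊗[R] M)] : Module.Flat R M := by
  classical
  apply Module.Flat.of_forall_isTrivialRelation
  intro l f x hfx
  have hrel : ∑ i, (algebraMap R R' (f i)) • ((1 : R') ⊗ₜ[R] (x i)) = (0 : R' ⊗[R] M) := by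
    have h1 : ∀ i, (algebraMap R R' (f i)) • ((1 : R') ⊗ₜ[R] (x i)) =
        (1 : R') ⊗ₜ[R] (f i • x i) := by
      intro i
      rw [TensorProduct.smul_tmul', smul_eq_mul, mul_one, TensorProduct.tmul_smul,
        TensorProduct.smul_tmul', Algebra.smul_def, mul_one]
    simp_rw [h1]
    rw [← TensorProduct.tmul_sum, hfx, TensorProduct.tmul_zero]
  obtain ⟨k, a', y, hy1, hy2⟩ := Module.Flat.isTrivialRelation_of_sum_smul_eq_zero hrel
  have hy1' : ∀ i, (1 : R') ⊗ₜ[R] x i = ∑ j, a' i j • y j := fun i => hy1 i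
  have hy2' : ∀ j, ∑ i, algebraMap R R' (f i) * a' i j = 0 := fun j => hy2 j
  choose T hT using fun j => TensorProduct.exists_finset (y j)
  let Ψ : R' ⊗[R] M →ₗ[R] M := (TensorProduct.lid R M).toLinearMap ∘ₗ (φ.rTensor M)
  have hΨ : ∀ (t : R') (m : M), Ψ (t ⊗ₜ[R] m) = φ t • m := by
    intro t m
    simp only [Ψ, LinearMap.coe_comp, LinearEquiv.coe_coe, Function.comp_apply,
      LinearMap.rTensor_tmul, TensorProduct.lid_tmul]
  have hΨs : ∀ (c : R') (j : Fin k), Ψ (c • y j) = ∑ p ∈ T j, φ (c * p.1) • p.2 := by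
    intro c j
    rw [hT j, Finset.smul_sum, map_sum]
    refine Finset.sum_congr rfl fun p _ => ?_
    rw [TensorProduct.smul_tmul', smul_eq_mul, hΨ]
  have hx : ∀ i, x i = ∑ j, ∑ p ∈ T j, φ (a' i j * p.1) • p.2 := by
    intro i
    calc x i = Ψ ((1 : R') ⊗ₜ[R] x i) := by rw [hΨ, hφ, one_smul]
      _ = Ψ (∑ j, a' i j • y j) := by rw [hy1' i]
      _ = ∑ j, Ψ (a' i j • y j) := map_sum _ _ _
      _ = ∑ j, ∑ p ∈ T j, φ (a' i j * p.1) • p.2 :=
          Finset.sum_congr rfl fun j _ => hΨs _ j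
  let κ := Σ j : Fin k, ↥(T j)
  let e := Fintype.equivFin κ
  refine ⟨Fintype.card κ, fun i q => φ (a' i (e.symm q).1 * (e.symm q).2.1.1),
    fun q => (e.symm q).2.1.2, ?_, ?_⟩
  · intro i
    calc x i = ∑ j, ∑ p ∈ T j, φ (a' i j * p.1) • p.2 := hx i
      _ = ∑ j, ∑ p : ↥(T j), φ (a' i j * p.1.1) • p.1.2 :=
          Finset.sum_congr rfl fun j _ =>
            (Finset.sum_coe_sort (T j) (fun p => φ (a' i j * p.1) • p.2)).symm
      _ = ∑ s : κ, φ (a' i s.1 * s.2.1.1) • s.2.1.2 :=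
          (Fintype.sum_sigma (fun s : κ => φ (a' i s.1 * s.2.1.1) • s.2.1.2)).symm
      _ = ∑ q : Fin (Fintype.card κ),
            φ (a' i (e.symm q).1 * (e.symm q).2.1.1) • (e.symm q).2.1.2 :=
          (Equiv.sum_comp e.symm (fun s : κ => φ (a' i s.1 * s.2.1.1) • s.2.1.2)).symm
  · intro q
    show ∑ i, f i * φ (a' i (e.symm q).1 * (e.symm q).2.1.1) = 0
    generalize e.symm q = s
    obtain ⟨j, p⟩ := s
    show ∑ i, f i * φ (a' i j * p.1.1) = 0
    have h5 : ∑ i, f i * φ (a' i j * p.1.1) =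
        φ ((∑ i, algebraMap R R' (f i) * a' i j) * p.1.1) := by
      rw [Finset.sum_mul, map_sum]
      refine Finset.sum_congr rfl fun i _ => ?_
      rw [mul_assoc, ← Algebra.smul_def, map_smul, smul_eq_mul]
    rw [h5, hy2' j, zero_mul, map_zero]

theorem flat_of_flat_quotient_bot {R : Type u} [CommRing R] (M : Type u) [AddCommGroup M]
    [Module R M] (J : Ideal R) (hJ : J = ⊥)
    (H : Module.Flat (R ⧸ J) ((R ⧸ J) ⊗[R] M)) : Module.Flat R M := by
  subst hJ
  refine Groth.Agent.Lib.Helper8.flat_of_isNilpotent (⊥ : Ideal R) ⟨1, pow_one _⟩ H ?_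
  have h0 : ∀ z : (⊥ : Ideal R) ⊗[R] M, z = 0 := by
    intro z
    induction z using TensorProduct.induction_on with
    | zero => rfl
    | tmul x m =>
      have hx : x = 0 := Subtype.ext ((Submodule.mem_bot R).mp x.2)
      rw [hx, TensorProduct.zero_tmul]
    | add a b ha hb => rw [ha, hb, add_zero]
  intro a b _
  rw [h0 a, h0 b]

theorem flat_of_IH {R : Type u} [CommRing R]
    (IH : ∀ (B : Type u) [CommRing B] (ρ : R →+* B), Function.Surjective ρ →
      (∃ x, x ≠ 0 ∧ ρ x = 0) → P B)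
    (S : Type u) [CommRing S] [Algebra R S]
    (M : Type u) [AddCommGroup M] [Module R M] [Module.Flat S (S ⊗[R] M)]
    (B : Type u) [CommRing B] [Algebra R B] (hsurj : Function.Surjective (algebraMap R B))
    (hker : ∃ x : R, x ≠ 0 ∧ algebraMap R B x = 0)
    (S' : Type u) [CommRing S'] [IsNoetherianRing S'] [Algebra B S'] [Algebra S S']
    [Algebra R S'] [IsScalarTower R B S'] [IsScalarTower R S S'] [Module.Finite R S']
    (hinj : Function.Injective (algebraMap B S')) :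
    Module.Flat B (B ⊗[R] M) := by
  haveI : Module.Finite B S' := Module.Finite.of_restrictScalars_finite R B S'
  haveI h1 : Module.Flat S' (S' ⊗[S] (S ⊗[R] M)) := inferInstance
  haveI h2 : Module.Flat S' (S' ⊗[R] M) :=
    Module.Flat.of_linearEquiv (AlgebraTensorModule.cancelBaseChange R S S' S' M).symm
  haveI h3 : Module.Flat S' (S' ⊗[B] (B ⊗[R] M)) :=
    Module.Flat.of_linearEquiv (AlgebraTensorModule.cancelBaseChange R B S' S' M)
  exact IH B (algebraMap R B) hsurj hker S' hinj (B ⊗[R] M)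

theorem flat_contracted {R : Type u} [CommRing R]
    (IH : ∀ (B : Type u) [CommRing B] (ρ : R →+* B), Function.Surjective ρ →
      (∃ x, x ≠ 0 ∧ ρ x = 0) → P B)
    (S : Type u) [CommRing S] [IsNoetherianRing S] [Algebra R S] [Module.Finite R S]
    (M : Type u) [AddCommGroup M] [Module R M] [Module.Flat S (S ⊗[R] M)]
    (𝔮 : Ideal S) (x : R) (hx : x ≠ 0) (hxq : algebraMap R S x ∈ 𝔮) :
    Module.Flat (R ⧸ 𝔮.comap (algebraMap R S)) ((R ⧸ 𝔮.comap (algebraMap R S)) ⊗[R] M) := by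
  haveI : Module.Finite R (S ⧸ 𝔮) :=
    Module.Finite.of_surjective (Ideal.Quotient.mkₐ R 𝔮).toLinearMap
      (Ideal.Quotient.mkₐ_surjective R 𝔮)
  haveI : IsScalarTower R (R ⧸ 𝔮.comap (algebraMap R S)) (S ⧸ 𝔮) :=
    IsScalarTower.of_algebraMap_eq (fun r => rfl)
  exact flat_of_IH IH S M (R ⧸ 𝔮.comap (algebraMap R S)) Ideal.Quotient.mk_surjective
    ⟨x, hx, Ideal.Quotient.eq_zero_iff_mem.mpr (Ideal.mem_comap.mpr hxq)⟩ (S ⧸ 𝔮)
    Ideal.algebraMap_quotient_injective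

/-- the subalgebra `R + 𝔠` of `S` -/
def plus (R : Type u) {S : Type u} [CommRing R] [CommRing S] [Algebra R S] (𝔠 : Ideal S) :
    Subalgebra R S where
  carrier := {x | ∃ r : R, ∃ c ∈ 𝔠, x = algebraMap R S r + c}
  mul_mem' := by
    rintro _ _ ⟨r, c, hc, rfl⟩ ⟨r', c', hc', rfl⟩
    refine ⟨r * r', algebraMap R S r * c' + c * algebraMap R S r' + c * c', ?_, ?_⟩
    · exact 𝔠.add_mem (𝔠.add_mem (𝔠.mul_mem_left _ hc') (𝔠.mul_mem_right _ hc))
        (𝔠.mul_mem_left _ hc')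
    · rw [map_mul]; ring
  add_mem' := by
    rintro _ _ ⟨r, c, hc, rfl⟩ ⟨r', c', hc', rfl⟩
    exact ⟨r + r', c + c', 𝔠.add_mem hc hc', by rw [map_add]; ring⟩
  algebraMap_mem' := fun r => ⟨r, 0, 𝔠.zero_mem, (add_zero _).symm⟩

theorem mem_plus (R : Type u) {S : Type u} [CommRing R] [CommRing S] [Algebra R S] (𝔠 : Ideal S)
    {x : S} : x ∈ plus R 𝔠 ↔ ∃ r : R, ∃ c ∈ 𝔠, x = algebraMap R S r + c := Iff.rfl

abbrev cc (R : Type u) {S : Type u} [CommRing R] [CommRing S] [Algebra R S] (𝔠 : Ideal S) :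
    Ideal ↥(plus R 𝔠) := 𝔠.comap (algebraMap ↥(plus R 𝔠) S)

theorem flat_plus {R S : Type u} [CommRing R] [CommRing S] [Algebra R S] (𝔠 : Ideal S)
    (M : Type u) [AddCommGroup M] [Module R M] [Module.Flat S (S ⊗[R] M)]
    [Module.Flat (↥(plus R 𝔠) ⧸ cc R 𝔠) ((↥(plus R 𝔠) ⧸ cc R 𝔠) ⊗[R] M)] :
    Module.Flat ↥(plus R 𝔠) (↥(plus R 𝔠) ⊗[R] M) := by
  have hsq : EtMil.IsFibreSquare ↥(plus R 𝔠) (↥(plus R 𝔠) ⧸ cc R 𝔠) S (S ⧸ 𝔠) := by
    refine ⟨Ideal.Quotient.mk_surjective, ?_⟩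
    intro b s hbs
    obtain ⟨x, rfl⟩ := Ideal.Quotient.mk_surjective b
    have hbs' : Ideal.Quotient.mk 𝔠 (x : S) = Ideal.Quotient.mk 𝔠 s := hbs
    rw [Ideal.Quotient.eq] at hbs'
    have hs : s ∈ plus R 𝔠 := by
      obtain ⟨r, c, hc, hx⟩ := (mem_plus R 𝔠).mp x.2
      refine ⟨r, c - ((x : S) - s), 𝔠.sub_mem hc hbs', ?_⟩
      rw [hx]
      ring
    refine ⟨⟨s, hs⟩, ⟨?_, rfl⟩, ?_⟩
    · show Ideal.Quotient.mk (cc R 𝔠) ⟨s, hs⟩ = Ideal.Quotient.mk (cc R 𝔠) x
      rw [Ideal.Quotient.eq, Ideal.mem_comap]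
      have h7 : algebraMap ↥(plus R 𝔠) S (⟨s, hs⟩ - x) = -((x : S) - s) := by
        rw [map_sub]
        show s - (x : S) = _
        ring
      rw [h7]
      exact 𝔠.neg_mem hbs'
    · rintro y ⟨_, hy2⟩
      exact Subtype.ext hy2
  haveI : Module.Flat S (S ⊗[↥(plus R 𝔠)] (↥(plus R 𝔠) ⊗[R] M)) :=
    Module.Flat.of_linearEquiv (AlgebraTensorModule.cancelBaseChange R ↥(plus R 𝔠) S S M)
  haveI : Module.Flat (↥(plus R 𝔠) ⧸ cc R 𝔠)
      ((↥(plus R 𝔠) ⧸ cc R 𝔠) ⊗[↥(plus R 𝔠)] (↥(plus R 𝔠) ⊗[R] M)) :=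
    Module.Flat.of_linearEquiv (AlgebraTensorModule.cancelBaseChange R ↥(plus R 𝔠)
      (↥(plus R 𝔠) ⧸ cc R 𝔠) (↥(plus R 𝔠) ⧸ cc R 𝔠) M)
  exact Groth.Agent.S14952.result ↥(plus R 𝔠) (↥(plus R 𝔠) ⧸ cc R 𝔠) S (S ⧸ 𝔠) hsq
    (↥(plus R 𝔠) ⊗[R] M)

theorem step_domain {R : Type u} [CommRing R] [IsDomain R]
    (IH : ∀ (B : Type u) [CommRing B] (ρ : R →+* B), Function.Surjective ρ →
      (∃ x, x ≠ 0 ∧ ρ x = 0) → P B)
    (S : Type u) [CommRing S] [IsNoetherianRing S] [Algebra R S] [Module.Finite R S]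
    (hinj : Function.Injective (algebraMap R S))
    (M : Type u) [AddCommGroup M] [Module R M] [Module.Flat S (S ⊗[R] M)] :
    Module.Flat R M := by
  classical
  have h11 : ((1 : FractionRing R) ⊗ₜ[R] (1 : S) : FractionRing R ⊗[R] S) ≠ 0 := by
    intro h
    have hinj' : Function.Injective ((Algebra.linearMap R S).lTensor (FractionRing R)) :=
      Module.Flat.lTensor_preserves_injective_linearMap (M := FractionRing R) _ hinj
    have h0 : ((Algebra.linearMap R S).lTensor (FractionRing R))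
        ((1 : FractionRing R) ⊗ₜ[R] (1 : R)) = 0 := by
      rw [LinearMap.lTensor_tmul, Algebra.linearMap_apply, map_one, h]
    have h1 : ((1 : FractionRing R) ⊗ₜ[R] (1 : R)) = 0 := hinj' (h0.trans (map_zero _).symm)
    have h2 := congrArg (TensorProduct.rid R (FractionRing R)) h1
    rw [TensorProduct.rid_tmul, one_smul, map_zero] at h2
    exact one_ne_zero h2
  obtain ⟨g, hg⟩ := (LinearMap.toSpanSingleton (FractionRing R) (FractionRing R ⊗[R] S)
      ((1 : FractionRing R) ⊗ₜ[R] (1 : S))).exists_leftInverse_of_injective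
    (LinearMap.ker_eq_bot'.mpr fun c hc => by
      rw [LinearMap.toSpanSingleton_apply] at hc
      by_contra hc0
      apply h11
      have := congrArg (fun v => c⁻¹ • v) hc
      simpa [smul_smul, inv_mul_cancel₀ hc0] using this)
  have hg1 : g ((1 : FractionRing R) ⊗ₜ[R] (1 : S)) = 1 := by
    have := LinearMap.congr_fun hg (1 : FractionRing R)
    simpa [LinearMap.toSpanSingleton_apply] using this
  let ρ : S →ₗ[R] FractionRing R :=
    (g.restrictScalars R) ∘ₗ (TensorProduct.mk R (FractionRing R) S 1)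
  have hρ_def : ∀ s : S, ρ s = g ((1 : FractionRing R) ⊗ₜ[R] s) := fun s => rfl
  have hρ : ∀ r : R, ρ (algebraMap R S r) = algebraMap R (FractionRing R) r := by
    intro r
    rw [hρ_def, Algebra.algebraMap_eq_smul_one (A := S) r, TensorProduct.tmul_smul,
      ← algebraMap_smul (FractionRing R) r ((1 : FractionRing R) ⊗ₜ[R] (1 : S)), map_smul, hg1,
      smul_eq_mul, mul_one]
  obtain ⟨n, s, hs⟩ := Module.Finite.exists_fin (R := R) (M := S)
  obtain ⟨f₀, hf₀⟩ := IsLocalization.exist_integer_multiples_of_finite (nonZeroDivisors R)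
    (fun i => ρ (s i))
  have hf : (f₀ : R) ≠ 0 := nonZeroDivisors.coe_ne_zero f₀
  have hint : ∀ t : S, ∃ r : R, algebraMap R (FractionRing R) r = (f₀ : R) • ρ t := by
    intro t
    have ht : t ∈ Submodule.span R (Set.range s) := by rw [hs]; exact Submodule.mem_top
    induction ht using Submodule.span_induction with
    | mem x hx =>
      obtain ⟨i, rfl⟩ := hx
      obtain ⟨r, hr⟩ := hf₀ i
      exact ⟨r, hr⟩
    | zero => exact ⟨0, by rw [map_zero, map_zero, smul_zero]⟩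
    | add x y _ _ hx hy =>
      obtain ⟨a, ha⟩ := hx
      obtain ⟨b, hb⟩ := hy
      exact ⟨a + b, by rw [map_add, ha, hb, map_add, smul_add]⟩
    | smul c x _ hx =>
      obtain ⟨a, ha⟩ := hx
      exact ⟨c * a, by rw [map_mul, ha, map_smul, smul_comm, Algebra.smul_def c]⟩
  set 𝔠 : Ideal S := Ideal.span {algebraMap R S (f₀ : R)} with h𝔠
  have hφex : ∀ x : ↥(plus R 𝔠), ∃ y : R, algebraMap R (FractionRing R) y = ρ (x : S) := by
    intro x
    obtain ⟨r, c, hc, hx⟩ := (mem_plus R 𝔠).mp x.2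
    obtain ⟨t, rfl⟩ := Ideal.mem_span_singleton'.mp hc
    obtain ⟨r', hr'⟩ := hint t
    refine ⟨r + r', ?_⟩
    rw [hx, map_add, map_add, hρ, hr', mul_comm, ← Algebra.smul_def, map_smul]
  choose φ₀ hφ₀ using hφex
  have hKinj : Function.Injective (algebraMap R (FractionRing R)) :=
    IsFractionRing.injective R _
  let φ : ↥(plus R 𝔠) →ₗ[R] R :=
    { toFun := φ₀
      map_add' := fun a b => hKinj (by
        rw [map_add, hφ₀, hφ₀, hφ₀, Subalgebra.coe_add, map_add])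
      map_smul' := fun c a => hKinj (by
        rw [hφ₀, RingHom.id_apply, smul_eq_mul, map_mul, hφ₀, Subalgebra.coe_smul, map_smul,
          Algebra.smul_def]) }
  have hφ1 : φ 1 = 1 := hKinj (by
    show algebraMap R (FractionRing R) (φ₀ 1) = _
    rw [hφ₀, Subalgebra.coe_one, ← map_one (algebraMap R S), hρ])
  have hsurj : Function.Surjective (algebraMap R (↥(plus R 𝔠) ⧸ cc R 𝔠)) := by
    intro b
    obtain ⟨x, rfl⟩ := Ideal.Quotient.mk_surjective b
    obtain ⟨r, c, hc, hx⟩ := (mem_plus R 𝔠).mp x.2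
    refine ⟨r, ?_⟩
    show Ideal.Quotient.mk (cc R 𝔠) (algebraMap R ↥(plus R 𝔠) r) = Ideal.Quotient.mk (cc R 𝔠) x
    rw [Ideal.Quotient.eq, Ideal.mem_comap, map_sub]
    have h8 : algebraMap ↥(plus R 𝔠) S (algebraMap R ↥(plus R 𝔠) r) = algebraMap R S r :=
      (IsScalarTower.algebraMap_apply R ↥(plus R 𝔠) S r).symm
    have h9 : algebraMap ↥(plus R 𝔠) S x = (x : S) := rfl
    rw [h8, h9, hx, sub_add_cancel_left]
    exact 𝔠.neg_mem hc
  have hker : ∃ x : R, x ≠ 0 ∧ algebraMap R (↥(plus R 𝔠) ⧸ cc R 𝔠) x = 0 := by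
    refine ⟨(f₀ : R), hf, ?_⟩
    show Ideal.Quotient.mk (cc R 𝔠) (algebraMap R ↥(plus R 𝔠) (f₀ : R)) = 0
    rw [Ideal.Quotient.eq_zero_iff_mem, Ideal.mem_comap,
      ← IsScalarTower.algebraMap_apply R ↥(plus R 𝔠) S]
    exact Ideal.subset_span rfl
  haveI : Module.Finite R (S ⧸ 𝔠) :=
    Module.Finite.of_surjective (Ideal.Quotient.mkₐ R 𝔠).toLinearMap
      (Ideal.Quotient.mkₐ_surjective R 𝔠)
  haveI : IsScalarTower R (↥(plus R 𝔠) ⧸ cc R 𝔠) (S ⧸ 𝔠) :=
    IsScalarTower.of_algebraMap_eq (R := R) (S := ↥(plus R 𝔠) ⧸ cc R 𝔠) (A := S ⧸ 𝔠)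
      (fun r => rfl)
  haveI hB : Module.Flat (↥(plus R 𝔠) ⧸ cc R 𝔠) ((↥(plus R 𝔠) ⧸ cc R 𝔠) ⊗[R] M) :=
    flat_of_IH IH S M (↥(plus R 𝔠) ⧸ cc R 𝔠) hsurj hker (S ⧸ 𝔠)
      Ideal.algebraMap_quotient_injective
  haveI := flat_plus (R := R) 𝔠 M
  exact flat_of_retraction φ hφ1 M

theorem step_nondomain {R : Type u} [CommRing R]
    (IH : ∀ (B : Type u) [CommRing B] (ρ : R →+* B), Function.Surjective ρ →
      (∃ x, x ≠ 0 ∧ ρ x = 0) → P B)
    (S : Type u) [CommRing S] [IsNoetherianRing S] [Algebra R S] [Module.Finite R S]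
    (hinj : Function.Injective (algebraMap R S))
    (M : Type u) [AddCommGroup M] [Module R M] [Module.Flat S (S ⊗[R] M)]
    (a b : R) (ha : a ≠ 0) (hb : b ≠ 0) (hab : a * b = 0) : Module.Flat R M := by
  let 𝔮₁ : Ideal S := Submodule.annihilator (Submodule.span S {algebraMap R S a})
  let 𝔮₂ : Ideal S := Submodule.annihilator 𝔮₁
  have hb1 : algebraMap R S b ∈ 𝔮₁ := by
    show algebraMap R S b ∈ Submodule.annihilator (Submodule.span S {algebraMap R S a})
    rw [Submodule.mem_annihilator_span_singleton, smul_eq_mul, ← map_mul, mul_comm, hab, map_zero]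
  have ha2 : algebraMap R S a ∈ 𝔮₂ := by
    show algebraMap R S a ∈ Submodule.annihilator 𝔮₁
    rw [Submodule.mem_annihilator]
    intro t ht
    have ht' : t ∈ Submodule.annihilator (Submodule.span S {algebraMap R S a}) := ht
    rw [Submodule.mem_annihilator_span_singleton, smul_eq_mul] at ht'
    rw [smul_eq_mul, mul_comm]
    exact ht'
  haveI F1 := flat_contracted IH S M 𝔮₁ b hb hb1
  haveI F2 := flat_contracted IH S M 𝔮₂ a ha ha2
  haveI F12 := Groth.Agent.S6893.result M (𝔮₁.comap (algebraMap R S)) (𝔮₂.comap (algebraMap R S))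
  have h2 : ((𝔮₁.comap (algebraMap R S) ⊓ 𝔮₂.comap (algebraMap R S)).map (algebraMap R S)) ^ 2
      ≤ (⊥ : Ideal S) := by
    have l1 : (𝔮₁.comap (algebraMap R S) ⊓ 𝔮₂.comap (algebraMap R S)).map (algebraMap R S) ≤ 𝔮₁ :=
      Ideal.map_le_iff_le_comap.mpr inf_le_left
    have l2 : (𝔮₁.comap (algebraMap R S) ⊓ 𝔮₂.comap (algebraMap R S)).map (algebraMap R S) ≤ 𝔮₂ :=
      Ideal.map_le_iff_le_comap.mpr inf_le_right
    rw [sq, Ideal.mul_le]
    intro r hr t ht
    have h3 := (Submodule.mem_annihilator.mp (l2 hr)) t (l1 ht)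
    rw [Ideal.mem_bot]
    rw [smul_eq_mul] at h3
    exact h3
  have F3 := Groth.Agent.Lib.Helper9.FlatSqZero.flat_quotient_inf_comap (A := R) (A' := S) M
    (𝔮₁.comap (algebraMap R S) ⊓ 𝔮₂.comap (algebraMap R S)) (⊥ : Ideal S) h2
  refine flat_of_flat_quotient_bot M _ ?_ F3
  rw [← RingHom.ker_eq_comap_bot, (RingHom.injective_iff_ker_eq_bot _).mp hinj, inf_bot_eq]

theorem step (R : Type u) [CommRing R]
    (IH : ∀ (B : Type u) [CommRing B] (ρ : R →+* B), Function.Surjective ρ →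
      (∃ x, x ≠ 0 ∧ ρ x = 0) → P B) : P R := by
  intro S _ _ _ _ hinj M _ _ _
  rcases subsingleton_or_nontrivial R with hR | hR
  · haveI : Subsingleton M := Module.subsingleton R M
    haveI := Module.Free.of_subsingleton R M
    infer_instance
  · by_cases hdom : ∀ a b : R, a * b = 0 → a = 0 ∨ b = 0
    · haveI : NoZeroDivisors R := ⟨fun {a b} h => hdom a b h⟩
      haveI : IsDomain R := NoZeroDivisors.to_isDomain R
      exact step_domain IH S hinj M
    · push_neg at hdom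
      obtain ⟨a, b, hab, ha, hb⟩ := hdom
      exact step_nondomain IH S hinj M a b ha hb hab

theorem main (R₀ : Type u) [CommRing R₀] [IsNoetherianRing R₀] (I : Ideal R₀) :
    ∀ (A : Type u) [CommRing A] (π : R₀ →+* A), Function.Surjective π →
      RingHom.ker π = I → P A := by
  refine IsNoetherian.induction (P := fun I => ∀ (A : Type u) [CommRing A] (π : R₀ →+* A),
    Function.Surjective π → RingHom.ker π = I → P A) ?_ I
  intro I ih A _ π hπ hker
  apply step A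
  intro B _ ρ hρ hx
  obtain ⟨x, hx0, hρx⟩ := hx
  obtain ⟨r, rfl⟩ := hπ x
  refine ih (RingHom.ker (ρ.comp π)) ?_ B (ρ.comp π) (hρ.comp hπ) rfl
  rw [gt_iff_lt, ← hker, SetLike.lt_iff_le_and_exists]
  refine ⟨fun y hy => ?_, r, ?_, ?_⟩
  · rw [RingHom.mem_ker] at hy ⊢
    rw [RingHom.comp_apply, hy, map_zero]
  · rw [RingHom.mem_ker, RingHom.comp_apply]
    exact hρx
  · rw [RingHom.mem_ker]
    exact hx0


/-- For an injective ring map `R → S` between Noetherian rings making `S` a finite `R`-module, and an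
`R`-module `M`, flatness of `S ⊗_R M` over `S` implies flatness of `M` over `R`. -/
theorem result (R S : Type u) [CommRing R] [IsNoetherianRing R]
    [CommRing S] [IsNoetherianRing S] [Algebra R S] [Module.Finite R S] (hinj : Function.Injective (algebraMap R S))
    (M : Type u) [AddCommGroup M] [Module R M] [Module.Flat S (S ⊗[R] M)] : Module.Flat R M := by
  exact main R ⊥ R (RingHom.id R) Function.surjective_id
    ((RingHom.injective_iff_ker_eq_bot _).mp Function.injective_id) S hinj M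

end Groth.Agent.S6883
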