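import Groth.Statements.S2580
-- import your own Groth.Agent.* helpers here
import Mathlib
import Groth.Agent.Lib.Helper12.PbDiag
import Groth.Agent.Lib.Helper12.LimOpenImm
import Groth.Agent.S12442

set_option autoImplicit false
universe u
open CategoryTheory AlgebraicGeometry
open EGA43

namespace Groth.Agent.S2580
open Groth.Agent.Lib.Helper12.PbDiag Groth.Agent.Lib.Helper12.LimOpenImm CategoryTheory.Limits

/-- Let S = lim S_i be a cofiltered limit of schemes with affine transition morphisms, S_{i₀} a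
quasi-compact quasi-separated stage (the source needs S_{i₀} only quasi-compact; quasi-separatedness
is assumed here), f₀ : X₀ ⟶ Y₀ an S_{i₀}-morphism between schemes of finite presentation over
S_{i₀}, and f : X ⟶ Y its base change to S (base changes expressed by pullback squares). If f is an
open immersion, then the base change f_i : X_i ⟶ Y_i of f₀ to some stage S_i is an open immersion. -/
theorem result {I : Type u} [SmallCategory I] [IsCofiltered I]
    (D : I ⥤ Scheme.{u}) (c : Limits.Cone D) (hc : Limits.IsLimit c)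
    [∀ (i j : I) (f : i ⟶ j), IsAffineHom (D.map f)] (i₀ : I) [CompactSpace (D.obj i₀)]
    [QuasiSeparatedSpace (D.obj i₀)] {X₀ Y₀ : Scheme.{u}} (f₀ : X₀ ⟶ Y₀) (g₀ : Y₀ ⟶ D.obj i₀)
    [LocallyOfFinitePresentation g₀] [QuasiCompact g₀] [QuasiSeparated g₀]
    [LocallyOfFinitePresentation (f₀ ≫ g₀)] [QuasiCompact (f₀ ≫ g₀)] [QuasiSeparated (f₀ ≫ g₀)]
    {X Y : Scheme.{u}} (f : X ⟶ Y) (g : Y ⟶ c.pt) (qY : Y ⟶ Y₀) (qX : X ⟶ X₀)
    (hY : IsPullback qY g g₀ (c.π.app i₀)) (hX : IsPullback qX f f₀ qY) [IsOpenImmersion f] :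
    ∃ (i : I) (φ : i ⟶ i₀) (Xi Yi : Scheme.{u}) (fi : Xi ⟶ Yi) (gi : Yi ⟶ D.obj i) (pY : Yi ⟶ Y₀)
      (pX : Xi ⟶ X₀), IsPullback pY gi g₀ (D.map φ) ∧ IsPullback pX fi f₀ pY ∧ IsOpenImmersion fi := by
  haveI hD : ∀ {i j : I} (f : i ⟶ j), IsAffineHom (D.map f) := fun f => inferInstance
  haveI : LocallyOfFinitePresentation f₀ := Groth.Agent.S12442.result f₀ g₀
  have hXS : IsPullback qX (f ≫ g) (f₀ ≫ g₀) (c.π.app i₀) := hX.paste_vert hY
  haveI : ∀ j, CompactSpace ((pbDiagram D i₀ (f₀ ≫ g₀)).obj j) :=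
    fun j => compactSpace_pbDiagram_obj D i₀ (f₀ ≫ g₀) j
  haveI : ∀ j, QuasiSeparatedSpace ((pbDiagram D i₀ (f₀ ≫ g₀)).obj j) :=
    fun j => quasiSeparatedSpace_pbDiagram_obj D i₀ (f₀ ≫ g₀) j
  haveI : ∀ j, CompactSpace ((pbDiagram D i₀ g₀).obj j) :=
    fun j => compactSpace_pbDiagram_obj D i₀ g₀ j
  haveI : ∀ j, QuasiSeparatedSpace ((pbDiagram D i₀ g₀).obj j) :=
    fun j => quasiSeparatedSpace_pbDiagram_obj D i₀ g₀ j
  haveI : ∀ j, LocallyOfFinitePresentation ((pbMap D i₀ g₀ f₀).app j) := fun j =>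
    MorphismProperty.of_isPullback (P := @LocallyOfFinitePresentation)
      (isPullback_pbMap_app D i₀ g₀ f₀ j) inferInstance
  obtain ⟨j, hj⟩ := exists_isOpenImmersion_app (pbDiagram D i₀ (f₀ ≫ g₀)) (pbDiagram D i₀ g₀)
    (pbMap D i₀ g₀ f₀) (pbCone c qX (f ≫ g) hXS) (isLimitPbCone c hc qX (f ≫ g) hXS)
    (pbCone c qY g hY) (isLimitPbCone c hc qY g hY) f
    (fun a => isPullback_pbMap_map D i₀ g₀ f₀ a)
    (fun j => pbCone_π_pbMap D i₀ g₀ c f₀ qY g hY qX (f ≫ g) hXS f hX.w rfl j)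
    (inferInstanceAs (IsOpenImmersion f))
  exact ⟨j.left, j.hom, pullback (f₀ ≫ g₀) (D.map j.hom), pullback g₀ (D.map j.hom),
    (pbMap D i₀ g₀ f₀).app j, pullback.snd _ _, pullback.fst _ _, pullback.fst _ _,
    IsPullback.of_hasPullback _ _, isPullback_pbMap_app D i₀ g₀ f₀ j, hj⟩

end Groth.Agent.S2580
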