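import Groth.Statements.S15054

set_option autoImplicit false
universe u
open CategoryTheory CategoryTheory.Limits MonoidalCategory CartesianMonoidalCategory MonObj GrpObj AlgebraicGeometry
open BTGrp

namespace Groth.Agent.S15054

section abstract

universe v₁ u₁

variable {C : Type u₁} [Category.{v₁} C] [CartesianMonoidalCategory C]

theorem mono_of_isPullback {N G Q : C} [GrpObj Q] {i : N ⟶ G} {q : G ⟶ Q}
    (h : IsPullback i (toUnit N) q η[Q]) : Mono i :=
  ⟨fun _ _ hab => h.hom_ext hab (toUnit_unique _ _)⟩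

theorem comp_eq_one {N G Q : C} [GrpObj Q] {i : N ⟶ G} {q : G ⟶ Q}
    (h : IsPullback i (toUnit N) q η[Q]) : i ≫ q = 1 := by
  rw [h.w, Hom.one_def]

theorem exists_lift {N G Q : C} [GrpObj Q] {i : N ⟶ G} {q : G ⟶ Q}
    (h : IsPullback i (toUnit N) q η[Q]) {T : C} (x : T ⟶ G) (hx : x ≫ q = 1) :
    ∃ z : T ⟶ N, z ≫ i = x :=
  ⟨h.lift x (toUnit T) (by rw [hx, Hom.one_def]), h.lift_fst _ _ _⟩

theorem isPullback_of_pointwise {N G Q : C} [GrpObj Q] (i : N ⟶ G) (q : G ⟶ Q) [Mono i]
    (h1 : i ≫ q = 1) (h2 : ∀ (T : C) (x : T ⟶ G), x ≫ q = 1 → ∃ z : T ⟶ N, z ≫ i = x) :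
    IsPullback i (toUnit N) q η[Q] := by
  have hc : ∀ s : PullbackCone q η[Q], s.fst ≫ q = 1 := by
    intro s
    rw [s.condition, Hom.one_def]
    congr 1
    exact toUnit_unique _ _
  refine IsPullback.mk ⟨by rw [h1, Hom.one_def]⟩ ⟨PullbackCone.IsLimit.mk _
    (fun s => Classical.choose (h2 s.pt s.fst (hc s)))
    (fun s => Classical.choose_spec (h2 s.pt s.fst (hc s)))
    (fun s => toUnit_unique _ _)
    (fun s l h1 _ => ?_)⟩
  rw [← cancel_mono i, h1]
  exact (Classical.choose_spec (h2 s.pt s.fst (hc s))).symm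

end abstract

/-- Let ℓ be a prime and G = (G_ν)_ν an ℓ-divisible (Barsotti–Tate) group of height h over a scheme S,
given as the system of its finite locally free layers G_ν of order ℓ^{νh} with inclusions G_ν →
G_{ν+1} exhibiting G_ν as the ℓ^ν-torsion of G_{ν+1} and projections G_{ν+1} → G_ν (multiplication
by ℓ). Let i_t : G_1 → G_{t+1} denote the iterated inclusions, pinned by i_0 = id and i_{t+1} = i_t
followed by G_{t+1} → G_{t+2}. Then for every t, i_t identifies G_1 with the kernel of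
multiplication by ℓ on G_{t+1}: the ℓ-torsion of every layer is the first layer. (The published
statement identifies G_v with the ℓ^v-torsion of G_{v+t} for all v; this row is its case v = 1. The
published base is the spectrum of a Noetherian ring; the argument is formal and any base scheme is
allowed here.) -/
theorem result {S : Scheme.{u}} (ℓ h : ℕ) [Fact ℓ.Prime] (G : BTGrp.ProBT ℓ S h)
    (i : (t : ℕ) → (G.G 1 ⟶ G.G (t + 1))) (hi0 : i 0 = 𝟙 (G.G 1))
    (hi : ∀ t : ℕ, i (t + 1) = i t ≫ G.incl (t + 1)) (t : ℕ) :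
    AlgGrp.IsKernel (i t) ((𝟙 (G.G (t + 1))) ^ ℓ) := by
  have hk1 := G.isKernel 1
  haveI hm : ∀ ν, Mono (G.incl ν) := fun ν => mono_of_isPullback (G.isKernel ν)
  have hℓ : (𝟙 (G.G 1)) ^ ℓ = 1 := by
    have h := comp_eq_one hk1
    rw [pow_one, MonObj.comp_pow, Category.comp_id] at h
    rw [← cancel_mono (G.incl 1), MonObj.pow_comp, Category.id_comp, h, MonObj.one_comp]
  have P : ∀ t, Mono (i t) ∧ (i t ≫ (𝟙 (G.G (t + 1))) ^ ℓ = 1) ∧
      ∀ (T : Over S) (x : T ⟶ G.G (t + 1)), x ≫ (𝟙 (G.G (t + 1))) ^ ℓ = 1 →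
        ∃ z : T ⟶ G.G 1, z ≫ i t = x := by
    intro t
    induction t with
    | zero =>
      rw [hi0]
      refine ⟨inferInstance, ?_, fun T x _ => ⟨x, Category.comp_id x⟩⟩
      rw [Category.id_comp]
      exact hℓ
    | succ t ih =>
      obtain ⟨ih1, ih2, ih3⟩ := ih
      rw [hi t]
      refine ⟨mono_comp _ _, ?_, ?_⟩
      · have e : (i t) ^ ℓ = 1 := by
          rw [MonObj.comp_pow, Category.comp_id] at ih2
          exact ih2
        rw [MonObj.comp_pow, Category.comp_id, ← MonObj.pow_comp, e, MonObj.one_comp]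
      · intro T x hx
        have hx' : x ^ ℓ = 1 := by
          rwa [MonObj.comp_pow, Category.comp_id] at hx
        have h1 : x ≫ (𝟙 (G.G (t + 1 + 1))) ^ (ℓ ^ (t + 1)) = 1 := by
          rw [MonObj.comp_pow, Category.comp_id, pow_succ', pow_mul, hx', one_pow]
        obtain ⟨y, hy⟩ := exists_lift (G.isKernel (t + 1)) x h1
        have hy' : y ≫ (𝟙 (G.G (t + 1))) ^ ℓ = 1 := by
          rw [MonObj.comp_pow, Category.comp_id, ← cancel_mono (G.incl (t + 1)), MonObj.pow_comp,
            hy, hx', MonObj.one_comp]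
        obtain ⟨z, hz⟩ := ih3 T y hy'
        exact ⟨z, by rw [← Category.assoc, hz, hy]⟩
  haveI := (P t).1
  exact isPullback_of_pointwise (i t) _ (P t).2.1 (P t).2.2

end Groth.Agent.S15054
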