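import Groth.Statements.S9431
import Mathlib
import Groth.Agent.Lib.Helper14.SepGenSmooth

set_option autoImplicit false
universe u
open CAlg

namespace Groth.Agent.S9431

/-- For a separable (geometrically reduced) field extension K/k, every finite subset of K lies in a
k-subalgebra of K which is smooth over k; in particular K is a filtered colimit of smooth
k-algebras. -/
theorem result (k : Type u) [Field k]
    (K : Type u) [Field K] [Algebra k K] [Algebra.IsGeometricallyReduced k K] (E : Finset K) :
    ∃ A : Subalgebra k K, (↑E : Set K) ⊆ (A : Set K) ∧ Algebra.Smooth k A := by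
  classical
  let B : Subalgebra k K := Algebra.adjoin k (E : Set K)
  haveI : Algebra.FiniteType k B :=
    ⟨(Subalgebra.fg_top _).mpr (Subalgebra.fg_adjoin_finset E)⟩
  haveI : Algebra.FinitePresentation k B :=
    Algebra.FinitePresentation.of_finiteType.mp inferInstance
  -- the fraction field of `B` is formally smooth over `k`
  have hval : Function.Injective (B.val : B →ₐ[k] K) := Subtype.val_injective
  let ψ : FractionRing B →ₐ[k] K := IsFractionRing.liftAlgHom (g := B.val) hval
  haveI : Algebra.IsGeometricallyReduced k (FractionRing B) :=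
    Algebra.IsGeometricallyReduced.of_injective ψ ψ.toRingHom.injective
  haveI : Algebra.EssFiniteType B (FractionRing B) :=
    Algebra.EssFiniteType.of_isLocalization (FractionRing B) (nonZeroDivisors B)
  haveI : Algebra.EssFiniteType k (FractionRing B) :=
    Algebra.EssFiniteType.comp k B (FractionRing B)
  haveI hFS : Algebra.FormallySmooth k (FractionRing B) :=
    Groth.Agent.Lib.Helper14.formallySmooth_of_isGeometricallyReduced k (FractionRing B)
  haveI : (⊥ : Ideal B).IsPrime := Ideal.isPrime_bot
  haveI : IsLocalization (⊥ : Ideal B).primeCompl (FractionRing B) := by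
    rw [Ideal.primeCompl_bot]
    infer_instance
  haveI : Algebra.IsSmoothAt k (⊥ : Ideal B) :=
    Algebra.FormallySmooth.of_equiv
      ((IsLocalization.algEquiv (⊥ : Ideal B).primeCompl (FractionRing B)
        (Localization.AtPrime (⊥ : Ideal B))).restrictScalars k)
  obtain ⟨f, hf, hsm⟩ := Algebra.IsSmoothAt.exists_notMem_smooth k (⊥ : Ideal B)
  have hf0 : f ≠ 0 := fun h => hf (by rw [h]; exact Ideal.zero_mem _)
  have hunit : ∀ y : Submonoid.powers f, IsUnit ((B.val : B →ₐ[k] K) y) := by
    rintro ⟨_, n, rfl⟩
    refine IsUnit.mk0 _ ?_
    simp only [Subalgebra.coe_val, SubmonoidClass.coe_pow, ne_eq, pow_eq_zero_iff',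
      ZeroMemClass.coe_eq_zero, not_and_or]
    exact Or.inl hf0
  let φ : Localization.Away f →ₐ[k] K := IsLocalization.liftAlgHom (M := Submonoid.powers f) hunit
  have hφ : ∀ b : B, φ (algebraMap B (Localization.Away f) b) = (b : K) := fun b =>
    IsLocalization.lift_eq _ b
  have hinj : Function.Injective φ := by
    have hBinj : Function.Injective (algebraMap B (Localization.Away f)) :=
      IsLocalization.injective _ (powers_le_nonZeroDivisors_of_noZeroDivisors hf0)
    change Function.Injective (IsLocalization.lift (M := Submonoid.powers f) hunit)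
    rw [IsLocalization.lift_injective_iff]
    intro x y
    constructor
    · intro h
      rw [hBinj h]
    · intro h
      rw [hval h]
  refine ⟨φ.range, ?_, ?_⟩
  · intro e he
    exact ⟨algebraMap B (Localization.Away f) ⟨e, Algebra.subset_adjoin he⟩, hφ _⟩
  · exact Algebra.Smooth.of_equiv (AlgEquiv.ofInjective φ hinj)

end Groth.Agent.S9431
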