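import Groth.Statements.S7606
import Groth.Agent.Lib.Helper14.GeomRegularPt

set_option autoImplicit false
universe u
open CategoryTheory CategoryTheory.Limits AlgebraicGeometry
attribute [local instance] Curv2.stalkAlgebra
open Variety

namespace Groth.Agent.S7606

/-- Let X be a locally Noetherian scheme over a field k and x a point of X. These conditions are
equivalent: (1) the scheme X is geometrically regular at x; (2) whenever k'/k is finite and purely
inseparable, the local ring O_{X_{k'}, x'} is regular at each point x' of X_{k'} lying over x; (3)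
the local ring O_{X, x} is geometrically regular over k (k' ⊗_k O_{X, x} is a regular ring for every
finite extension k' of k). Stated as (1) ↔ (2) together with (2) ↔ (3). -/
theorem result (k : Type u) [Field k] (X : Scheme.{u}) [X.Over (Spec (CommRingCat.of k))] [IsLocallyNoetherian X] (x : ↥X) :
    (Curv2.IsGeomRegularAt k X x ↔
      ∀ (k' : Type u) [Field k'] [Algebra k k'] [FiniteDimensional k k'] [IsPurelyInseparable k k'] (x' : ↥(Curv2.bc k X k')),
        Curv2.bcFst k X k' x' = x → IsRegularLocalRing ↥((Curv2.bc k X k').presheaf.stalk x')) ∧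
    ((∀ (k' : Type u) [Field k'] [Algebra k k'] [FiniteDimensional k k'] [IsPurelyInseparable k k'] (x' : ↥(Curv2.bc k X k')),
        Curv2.bcFst k X k' x' = x → IsRegularLocalRing ↥((Curv2.bc k X k').presheaf.stalk x')) ↔
      CAlg.IsGeometricallyRegular k ↥(X.presheaf.stalk x)) := by
  have hc := Groth.Agent.Lib.Helper14.GeomRedAtCurv.fromSpecStalk_comp k X x
  haveI hN : IsNoetherianRing ↥(X.presheaf.stalk x) := inferInstance
  have hA := Groth.Agent.Lib.Helper21.GeomReg.S2672_aux k ↥(X.presheaf.stalk x)
  -- (2) ⇒ (3)
  have h23 : (∀ (k' : Type u) [Field k'] [Algebra k k'] [FiniteDimensional k k'] [IsPurelyInseparable k k'] (x' : ↥(Curv2.bc k X k')),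
        Curv2.bcFst k X k' x' = x → IsRegularLocalRing ↥((Curv2.bc k X k').presheaf.stalk x')) →
      CAlg.IsGeometricallyRegular k ↥(X.presheaf.stalk x) := by
    intro h
    rw [hA.1]
    intro k' _ _ hfin hpi
    haveI := hfin
    haveI := hpi
    exact Groth.Agent.Lib.Helper14.GeomRegularPt.isRegularRing_tensor_of_stalks
      (X ↘ Spec (CommRingCat.of k)) x hc k' (fun y' hy' => h k' y' hy')
  -- (3) ⇒ regular stalks for every essentially finite type field extension
  have h3K : CAlg.IsGeometricallyRegular k ↥(X.presheaf.stalk x) →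
      ∀ (K : Type u) [Field K] [Algebra k K], Algebra.EssFiniteType k K →
        ∀ (x' : ↥(Curv2.bc k X K)), Curv2.bcFst k X K x' = x →
          IsRegularLocalRing ↥((Curv2.bc k X K).presheaf.stalk x') := by
    intro h K _ _ hK x' hx'
    have h1 := (hA.2.mp h) K hK
    exact Groth.Agent.Lib.Helper14.GeomRegularPt.isRegularLocalRing_stalk_of_isRegularRing_tensor
      (X ↘ Spec (CommRingCat.of k)) x hc K h1 x' hx'
  have h32 : CAlg.IsGeometricallyRegular k ↥(X.presheaf.stalk x) →
      (∀ (k' : Type u) [Field k'] [Algebra k k'] [FiniteDimensional k k'] [IsPurelyInseparable k k'] (x' : ↥(Curv2.bc k X k')),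
        Curv2.bcFst k X k' x' = x → IsRegularLocalRing ↥((Curv2.bc k X k').presheaf.stalk x')) := by
    intro h k' _ _ _ _ x' hx'
    exact h3K h k' inferInstance x' hx'
  refine ⟨⟨?_, ?_⟩, ⟨h23, h32⟩⟩
  · intro h k' _ _ _ _ x' hx'
    haveI : Algebra.EssFiniteType k k' := inferInstance
    exact h k' (IntermediateField.fg_top k k') x' hx'
  · intro h k' _ _ hfg x' hx'
    exact h3K (h23 h) k' (IntermediateField.fg_top_iff.mp hfg) x' hx'

end Groth.Agent.S7606
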