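import Groth.Statements.S1562
import Groth.Agent.S7606
import Groth.Agent.Lib.Helper14.GeomRegSmooth
attribute [local instance] Curv2.stalkAlgebra

set_option autoImplicit false
universe u
open CategoryTheory CategoryTheory.Limits AlgebraicGeometry
open Variety

namespace Groth.Agent.S1562

/-- Let X be locally of finite type over a field k and x a point of X. Then X is geometrically regular
at x (regular local rings at all points over x after every finitely generated field extension) if
and only if x lies in the smooth locus of X → Spec k. -/
theorem result (k : Type u) [Field k] (X : Scheme.{u}) [X.Over (Spec (CommRingCat.of k))] [LocallyOfFinitePresentation (X ↘ (Spec (CommRingCat.of k)))] (x : X) :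
    Curv2.IsGeomRegularAt k X x ↔ x ∈ (X ↘ (Spec (CommRingCat.of k))).smoothLocus := by
  haveI : IsLocallyNoetherian X :=
    LocallyOfFiniteType.isLocallyNoetherian (X ↘ Spec (CommRingCat.of k))
  have h76 := Groth.Agent.S7606.result k X x
  constructor
  · intro hx
    have h3 : CAlg.IsGeometricallyRegular k (X.presheaf.stalk x) := h76.2.mp (h76.1.mp hx)
    haveI : IsNoetherianRing (X.presheaf.stalk x) := inferInstance
    haveI : Algebra.EssFiniteType k (X.presheaf.stalk x) :=
      Groth.Agent.Lib.Helper14.GeomRegSmooth.essFiniteType_stalkStr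
        (X ↘ Spec (CommRingCat.of k)) x
    have hfs : Algebra.FormallySmooth k (X.presheaf.stalk x) :=
      Groth.Agent.Lib.Helper14.GeomRegSmooth.formallySmooth_of_isGeometricallyRegular_local k
        (X.presheaf.stalk x) h3
    exact Groth.Agent.Lib.Helper14.GeomRegSmooth.mem_smoothLocus_of_formallySmooth_stalkStr
      (X ↘ Spec (CommRingCat.of k)) x hfs
  · intro hx k' _ _ hfg x' hx'
    have hpb : IsPullback (Curv2.bcFst k X k') (Curv2.bcSnd k X k')
        (X ↘ Spec (CommRingCat.of k)) (Spec.map (CommRingCat.ofHom (algebraMap k k'))) :=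
      IsPullback.of_hasPullback _ _
    have hmem : x' ∈ (Curv2.bcSnd k X k').smoothLocus := by
      rw [Groth.Agent.Lib.Helper8.SmoothLocusBC.mem_smoothLocus_iff_of_isPullback
        (X ↘ Spec (CommRingCat.of k)) (Spec.map (CommRingCat.ofHom (algebraMap k k')))
        (Curv2.bcSnd k X k') (Curv2.bcFst k X k') hpb (Or.inr inferInstance) x', hx']
      exact hx
    exact Groth.Agent.Lib.Helper14.GeomRegSmooth.isRegularLocalRing_stalk_of_mem_smoothLocus k'
      (Curv2.bcSnd k X k') x' hmem

end Groth.Agent.S1562
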