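import Groth.Statements.S1324
-- import your own Groth.Agent.* helpers here
import Mathlib
import Groth.Agent.Lib.Helper12.SecCompGC

set_option autoImplicit false
universe u
open FlatMor

namespace Groth.Agent.S1324

open AlgebraicGeometry CategoryTheory Limits in
/-- Let f have a section s and form, for every point of the target, the connected component of the fibre
containing the value of the section; call the union of these the section components of (f, s). For
any base change of f with the induced section, the section components upstairs are exactly the
preimage of the section components downstairs. -/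
theorem result {X Y X' Y' : Scheme.{u}} (f : X ⟶ Y) (s : Y ⟶ X) (hs : s ≫ f = 𝟙 Y)
    (f' : X' ⟶ Y') (g' : X' ⟶ X) (g : Y' ⟶ Y) (hc : IsPullback g' f' f g)
    (s' : Y' ⟶ X') (hs' : s' ≫ f' = 𝟙 Y') (hs'g : s' ≫ g' = g ≫ s) :
    MoreMor.sectionComponents f' s' = g' ⁻¹' MoreMor.sectionComponents f s := by
  have hcomm : ∀ t : X', f.base (g'.base t) = g.base (f'.base t) := by
    intro t
    have := congrArg (fun ψ : X' ⟶ Y => ψ.base t) hc.w
    simpa using this
  ext x'
  have h1 := Groth.Agent.Lib.Helper12.SecCompGC.connectedComponentIn_of_isPullback
    f s hs f' g' g hc s' hs' hs'g (f'.base x')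
  show x' ∈ connectedComponentIn (f'.base ⁻¹' {f'.base x'}) (s'.base (f'.base x')) ↔
    g'.base x' ∈ connectedComponentIn (f.base ⁻¹' {f.base (g'.base x')}) (s.base (f.base (g'.base x')))
  rw [h1, hcomm x']
  simp

end Groth.Agent.S1324
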