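import Groth.Statements.S1546
import Mathlib

set_option autoImplicit false
universe u
open CategoryTheory CategoryTheory.Limits AlgebraicGeometry
open Variety

namespace Groth.Agent.S1546

open TensorProduct

/-- the property: images of irreducible components are irreducible components, and all arise -/
def CompP {A B : Type*} [TopologicalSpace A] [TopologicalSpace B] (f : A → B) : Prop :=
  (∀ T ∈ irreducibleComponents A, f '' T ∈ irreducibleComponents B) ∧
  (∀ Z ∈ irreducibleComponents B, ∃ T ∈ irreducibleComponents A, f '' T = Z)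

theorem CompP.comp {A B C : Type*} [TopologicalSpace A] [TopologicalSpace B] [TopologicalSpace C]
    {f : A → B} {g : B → C} (hf : CompP f) (hg : CompP g) : CompP (g ∘ f) := by
  refine ⟨fun T hT => ?_, fun Z hZ => ?_⟩
  · rw [Set.image_comp]; exact hg.1 _ (hf.1 T hT)
  · obtain ⟨T, hT, rfl⟩ := hg.2 Z hZ
    obtain ⟨T', hT', rfl⟩ := hf.2 T hT
    exact ⟨T', hT', Set.image_comp g f T'⟩

/-- closed, surjective, generalizing maps between quasi-sober spaces -/
theorem compP_of_closed {A B : Type*} [TopologicalSpace A] [TopologicalSpace B] [QuasiSober A]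
    [QuasiSober B] (f : A → B) (hf : Continuous f) (hcl : IsClosedMap f)
    (hs : Function.Surjective f) (hg : GeneralizingMap f) : CompP f := by
  have part1 : ∀ T ∈ irreducibleComponents A, f '' T ∈ irreducibleComponents B := by
    intro T hT
    have hTcl : IsClosed T := isClosed_of_mem_irreducibleComponents T hT
    obtain ⟨ξ, hξ⟩ := QuasiSober.sober hT.1 hTcl
    have himg : IsIrreducible (f '' T) := hT.1.image f hf.continuousOn
    have himgcl : IsClosed (f '' T) := hcl T hTcl
    obtain ⟨Z, hZ, hTZ⟩ := exists_mem_irreducibleComponents_subset_of_isIrreducible _ himg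
    have hZcl : IsClosed Z := isClosed_of_mem_irreducibleComponents Z hZ
    obtain ⟨ζ, hζ⟩ := QuasiSober.sober hZ.1 hZcl
    have hξT : ξ ∈ T := hξ.mem
    have hfξ : f ξ ∈ Z := hTZ ⟨ξ, hξT, rfl⟩
    have hspec : ζ ⤳ f ξ := hζ.specializes hfξ
    obtain ⟨ξ', hξ', hfξ'⟩ := hg hspec
    have hsub : T ⊆ closure {ξ'} := by
      rw [← hξ.def]
      exact closure_minimal (Set.singleton_subset_iff.mpr hξ'.mem_closure) isClosed_closure
    have hξ'T : ξ' ∈ T :=
      hT.2 (isIrreducible_singleton.closure) hsub (subset_closure rfl)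
    have hζmem : ζ ∈ f '' T := ⟨ξ', hξ'T, hfξ'⟩
    have hZsub : Z ⊆ f '' T := by
      rw [← hζ.def]
      exact closure_minimal (Set.singleton_subset_iff.mpr hζmem) himgcl
    rw [Set.Subset.antisymm hTZ hZsub]
    exact hZ
  refine ⟨part1, fun Z hZ => ?_⟩
  have hZcl : IsClosed Z := isClosed_of_mem_irreducibleComponents Z hZ
  obtain ⟨ζ, hζ⟩ := QuasiSober.sober hZ.1 hZcl
  obtain ⟨x, hx⟩ := hs ζ
  obtain ⟨T, hT, hxT⟩ := exists_mem_irreducibleComponents_subset_of_isIrreducible {x}
    isIrreducible_singleton
  refine ⟨T, hT, ?_⟩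
  have h1 := part1 T hT
  have hζmem : ζ ∈ f '' T := ⟨x, hxT rfl, hx⟩
  have hsub : Z ⊆ f '' T := by
    rw [← hζ.def]
    exact closure_minimal (Set.singleton_subset_iff.mpr hζmem)
      (isClosed_of_mem_irreducibleComponents _ h1)
  exact Set.Subset.antisymm (hZ.2 h1.1 hsub) hsub

/-- open, surjective maps with irreducible fibres -/
theorem compP_of_open {A B : Type*} [TopologicalSpace A] [TopologicalSpace B] (f : A → B)
    (hf₁ : Continuous f) (hf₂ : IsOpenMap f) (hf₃ : ∀ x, IsPreirreducible (f ⁻¹' {x}))
    (hf₄ : Function.Surjective f) : CompP f := by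
  refine ⟨fun T hT => image_mem_irreducibleComponents_of_isPreirreducible_fiber f hf₁ hf₂ hf₃ hf₄ hT,
    fun Z hZ => ⟨f ⁻¹' Z, ?_, Set.image_preimage_eq Z hf₄⟩⟩
  refine preimage_mem_irreducibleComponents_of_isPreirreducible_fiber hZ hf₁ hf₂ hf₃ ?_
  rw [hf₄.range_eq, Set.inter_univ]
  exact hZ.1.1

/-- a tensor product with a purely transcendental extension is a domain -/
theorem isDomain_tensor_fractionRing (k : Type u) [Field k] (ι : Type u) (L : Type u) [Field L]
    [Algebra k L] : IsDomain (L ⊗[k] FractionRing (MvPolynomial ι k)) := by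
  classical
  let P := MvPolynomial ι k
  let Q := FractionRing P
  let φ : L ⊗[k] P →ₐ[L] L ⊗[k] Q :=
    Algebra.TensorProduct.map (AlgHom.id L L) (IsScalarTower.toAlgHom k P Q)
  letI : Algebra (L ⊗[k] P) (L ⊗[k] Q) := φ.toRingHom.toAlgebra
  haveI : IsScalarTower L (L ⊗[k] P) (L ⊗[k] Q) :=
    IsScalarTower.of_algebraMap_eq' (φ.comp_algebraMap).symm
  have H : (algebraMap (L ⊗[k] P) (L ⊗[k] Q)).comp
      (Algebra.TensorProduct.includeRight (R := k) (A := L) (B := P)).toRingHom =
      (Algebra.TensorProduct.includeRight (R := k) (A := L) (B := Q)).toRingHom.comp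
        (algebraMap P Q) := by
    refine RingHom.ext fun p => ?_
    show φ ((1 : L) ⊗ₜ[k] p) = (1 : L) ⊗ₜ[k] (algebraMap P Q p)
    simp [φ]
  have hloc := IsLocalization.tensorProduct_tensorProduct_right k L (nonZeroDivisors P) Q H
  let e : L ⊗[k] P ≃ₐ[L] MvPolynomial ι L := MvPolynomial.algebraTensorAlgEquiv k L
  haveI : IsDomain (L ⊗[k] P) := e.toRingEquiv.toMulEquiv.isDomain (MvPolynomial ι L)
  refine IsLocalization.isDomain_of_le_nonZeroDivisors (L ⊗[k] Q)
    (M := (nonZeroDivisors P).map (Algebra.TensorProduct.includeRight (R := k) (A := L) (B := P)))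
    ?_
  rintro _ ⟨p, hp, rfl⟩
  apply mem_nonZeroDivisors_of_ne_zero
  intro h0
  have h1 : e ((1 : L) ⊗ₜ[k] p) = 0 := by
    have : (Algebra.TensorProduct.includeRight (R := k) (A := L) (B := P)) p = (1 : L) ⊗ₜ[k] p := rfl
    rw [← this]
    simpa using congrArg e h0
  rw [MvPolynomial.algebraTensorAlgEquiv_tmul, one_smul] at h1
  have h2 : p = 0 :=
    (MvPolynomial.map_injective (algebraMap k L) (algebraMap k L).injective)
      (h1.trans (map_zero _).symm)
  exact nonZeroDivisors.ne_zero hp h2

open CategoryTheory Limits AlgebraicGeometry in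
/-- purely transcendental extensions are geometrically irreducible -/
theorem geomIrred_of_equiv (k : Type u) [Field k] (ι : Type u) (F : Type u) [Field F] [Algebra k F]
    (e : FractionRing (MvPolynomial ι k) ≃ₐ[k] F) :
    GeometricallyIrreducible (Spec.map (CommRingCat.ofHom (algebraMap k F))) := by
  constructor
  rw [geometrically_iff_of_commRing_of_isClosedUnderIsomorphisms]
  intro L _ _
  haveI := isDomain_tensor_fractionRing k ι L
  let e2 : F ⊗[k] L ≃ₐ[k] L ⊗[k] FractionRing (MvPolynomial ι k) :=
    (Algebra.TensorProduct.comm k F L).trans (Algebra.TensorProduct.congr AlgEquiv.refl e.symm)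
  haveI : IsDomain (F ⊗[k] L) := e2.toRingEquiv.toMulEquiv.isDomain _
  exact ObjectProperty.prop_of_iso (fun X : Scheme.{u} => IrreducibleSpace X)
    (pullbackSpecIso k F L).symm inferInstance

/-- For a field extension K of k and a scheme X over k, the image in X of an irreducible component of
X_K is an irreducible component of X, and every irreducible component of X is such an image. -/
theorem result (k : Type u) [Field k] (X : Scheme.{u}) [X.Over (Spec (CommRingCat.of k))] (K : Type u) [Field K] [Algebra k K] :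
    (∀ T ∈ irreducibleComponents (Curv2.bc k X K : Type u), (Curv2.bcFst k X K).base '' T ∈ irreducibleComponents (X : Type u)) ∧
    (∀ Z ∈ irreducibleComponents (X : Type u), ∃ T ∈ irreducibleComponents (Curv2.bc k X K : Type u), (Curv2.bcFst k X K).base '' T = Z) := by
  classical
  obtain ⟨ι, x, hx⟩ := exists_isTranscendenceBasis' k K
  let F := IntermediateField.adjoin k (Set.range x)
  haveI halg : Algebra.IsAlgebraic F K := hx.isAlgebraic_field
  let a := X ↘ Spec (CommRingCat.of k)
  let sk : Spec (CommRingCat.of F) ⟶ Spec (CommRingCat.of k) :=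
    Spec.map (CommRingCat.ofHom (algebraMap k F))
  let sF : Spec (CommRingCat.of K) ⟶ Spec (CommRingCat.of F) :=
    Spec.map (CommRingCat.ofHom (algebraMap F K))
  have hcomp : Spec.map (CommRingCat.ofHom (algebraMap k K)) = sF ≫ sk := by
    rw [← Spec.map_comp, ← CommRingCat.ofHom_comp]
    rfl
  -- instances for sk
  haveI : GeometricallyIrreducible sk := geomIrred_of_equiv k ι F hx.1.aevalEquivField
  -- instances for sF
  haveI : IsIntegralHom sF := by
    rw [IsIntegralHom.SpecMap_iff]
    have : Algebra.IsIntegral F K := inferInstance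
    exact algebraMap_isIntegral_iff.mpr this
  haveI : Flat sF := by
    rw [Flat.SpecMap_iff]
    show (algebraMap F K).Flat
    rw [RingHom.flat_algebraMap_iff]
    infer_instance
  haveI : Surjective sF := by
    constructor
    intro y
    obtain ⟨z⟩ : Nonempty (Spec (CommRingCat.of K)) := inferInstance
    exact ⟨z, Subsingleton.elim (α := ↥(Spec (CommRingCat.of F))) _ _⟩
  -- the two steps
  let πF := pullback.fst a sk
  let q := pullback.snd a sk
  let ρ := pullback.fst q sF
  have hρ : CompP ρ.base :=
    compP_of_closed _ ρ.continuous ρ.isClosedMap ρ.surjective (Flat.generalizingMap ρ)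
  have hπF : CompP πF.base := by
    have hopen : IsOpenMap πF.base := πF.isOpenMap
    refine compP_of_open _ πF.continuous hopen (fun z => ?_) πF.surjective
    exact (πF.isIrreducible_preimage hopen isIrreducible_singleton).isPreirreducible
  let e := pullbackLeftPullbackSndIso a sk sF
  have he : e.hom ≫ pullback.fst a (sF ≫ sk) = ρ ≫ πF :=
    pullbackLeftPullbackSndIso_hom_fst a sk sF
  have hei : CompP e.inv.base :=
    compP_of_closed _ e.inv.continuous e.inv.homeomorph.isClosedMap e.inv.surjective
      (Flat.generalizingMap e.inv)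
  have hmain : CompP (pullback.fst a (sF ≫ sk)).base := by
    have h1 : pullback.fst a (sF ≫ sk) = e.inv ≫ ρ ≫ πF := by
      rw [← he, Iso.inv_hom_id_assoc]
    rw [h1]
    exact (hei.comp hρ).comp hπF
  have key : ∀ (g : Spec (CommRingCat.of K) ⟶ Spec (CommRingCat.of k)), g = sF ≫ sk →
      CompP (pullback.fst a g).base := by
    intro g hg
    subst hg
    exact hmain
  exact key _ hcomp

end Groth.Agent.S1546
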