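import Groth.Statements.S1583
import Mathlib
import Groth.Agent.S1546
import Groth.Agent.Lib.Helper11.BcLevels

set_option autoImplicit false
universe u
open CategoryTheory CategoryTheory.Limits AlgebraicGeometry
open Variety

namespace Groth.Agent.S1583

open TensorProduct in
/-- purely transcendental extensions are geometrically connected -/
theorem geomConn_of_equiv (k : Type u) [Field k] (ι : Type u) (F : Type u) [Field F] [Algebra k F]
    (e : FractionRing (MvPolynomial ι k) ≃ₐ[k] F) :
    GeometricallyConnected (Spec.map (CommRingCat.ofHom (algebraMap k F))) := by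
  refine ⟨?_⟩
  rw [geometrically_iff_of_commRing_of_isClosedUnderIsomorphisms]
  intro L _ _
  haveI := Groth.Agent.S1546.isDomain_tensor_fractionRing k ι L
  let e2 : F ⊗[k] L ≃ₐ[k] L ⊗[k] FractionRing (MvPolynomial ι k) :=
    (Algebra.TensorProduct.comm k F L).trans (Algebra.TensorProduct.congr AlgEquiv.refl e.symm)
  haveI : IsDomain (F ⊗[k] L) := e2.toRingEquiv.toMulEquiv.isDomain _
  haveI : IrreducibleSpace ↥(pullback (Spec.map (CommRingCat.ofHom (algebraMap k F)))
      (Spec.map (CommRingCat.ofHom (algebraMap k L)))) :=
    ((pullbackSpecIso k F L).hom.homeomorph.irreducibleSpace_iff).mpr inferInstance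
  infer_instance

open Groth.Agent.Lib.Helper11.FBaseLib Groth.Agent.Lib.Helper11.FBaseLib2
  Groth.Agent.Lib.Helper11.BcLevels in
/-- components of `X_K` surject onto a connected `X`, for any field extension -/
theorem surj_component {k : Type u} [Field k] {X : Scheme.{u}} (f : X ⟶ Spec (CommRingCat.of k))
    [ConnectedSpace X] (K : Type u) [Field K] [Algebra k K]
    (x' : ↥(pullback f (Spec.map (CommRingCat.ofHom (algebraMap k K))))) (y : X) :
    ∃ y' ∈ connectedComponent x',
      (pullback.fst f (Spec.map (CommRingCat.ofHom (algebraMap k K)))) y' = y := by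
  classical
  obtain ⟨ι, x, hx⟩ := exists_isTranscendenceBasis' k K
  let F := IntermediateField.adjoin k (Set.range x)
  haveI halg : Algebra.IsAlgebraic F K := hx.isAlgebraic_field
  let sk : Spec (CommRingCat.of F) ⟶ Spec (CommRingCat.of k) :=
    Spec.map (CommRingCat.ofHom (algebraMap k F))
  let sF : Spec (CommRingCat.of K) ⟶ Spec (CommRingCat.of F) :=
    Spec.map (CommRingCat.ofHom (algebraMap F K))
  have hcomp : Spec.map (CommRingCat.ofHom (algebraMap k K)) = sF ≫ sk := by
    rw [← Spec.map_comp, ← CommRingCat.ofHom_comp]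
    rfl
  haveI : GeometricallyConnected sk := geomConn_of_equiv k ι F hx.1.aevalEquivField
  haveI : UniversallyOpen sk := universallyOpen_SpecMap k F
  haveI : ConnectedSpace ↥(pullback f sk) := inferInstance
  haveI : Surjective (pullback.fst f sk) := surjective_bcπ f F
  let f' : pullback f sk ⟶ Spec (CommRingCat.of F) := pullback.snd f sk
  have Malg := fun (y₀ : ↥(FBase.bc f' K)) (x₁ : ↥(pullback f sk)) =>
    exists_mem_connectedComponent_of_isAlgebraic f' K y₀ x₁
  let e := pullbackLeftPullbackSndIso f sk sF
  have he : e.hom ≫ pullback.fst f (sF ≫ sk) = pullback.fst f' sF ≫ pullback.fst f sk :=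
    pullbackLeftPullbackSndIso_hom_fst f sk sF
  have key : ∀ (g : Spec (CommRingCat.of K) ⟶ Spec (CommRingCat.of k)), g = sF ≫ sk →
      ∀ (x' : ↥(pullback f g)) (y : X), ∃ y' ∈ connectedComponent x',
        (pullback.fst f g) y' = y := by
    intro g hg
    subst hg
    intro x' y
    obtain ⟨y₁, hy₁⟩ := (pullback.fst f sk).surjective y
    obtain ⟨y'', hy''c, hy''⟩ := Malg (e.inv x') y₁
    have hy''2 : (pullback.fst f' sF) y'' = y₁ := hy''
    refine ⟨e.hom y'', ?_, ?_⟩
    · have h1 := e.hom.continuous.image_connectedComponent_subset (e.inv x')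
      have h2 : e.hom (e.inv x') = x' := by
        rw [← Scheme.Hom.comp_apply, e.inv_hom_id]
        rfl
      rw [h2] at h1
      exact h1 ⟨y'', hy''c, rfl⟩
    · rw [← Scheme.Hom.comp_apply, he, Scheme.Hom.comp_apply, hy''2, hy₁]
  exact key _ hcomp x' y

/-- Let K be any field extension of k and X a scheme over k. The image in X of a connected component of
X_K is a connected component of X. -/
theorem result (k : Type u) [Field k] (X : Scheme.{u}) [X.Over (Spec (CommRingCat.of k))] (K : Type u) [Field K] [Algebra k K]
    (x' : Curv2.bc k X K) :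
    (Curv2.bcFst k X K).base '' connectedComponent x' = connectedComponent (Curv2.bcFst k X K x') := by

  classical
  let a : X ⟶ Spec (CommRingCat.of k) := X ↘ Spec (CommRingCat.of k)
  let sK : Spec (CommRingCat.of K) ⟶ Spec (CommRingCat.of k) :=
    Spec.map (CommRingCat.ofHom (algebraMap k K))
  let p : pullback a sK ⟶ X := pullback.fst a sK
  apply Set.Subset.antisymm
  · exact p.continuous.image_connectedComponent_subset x'
  · intro y hy
    let T : TopologicalSpace.Closeds X :=
      ⟨connectedComponent (p x'), isClosed_connectedComponent⟩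
    let I := Scheme.IdealSheafData.vanishingIdeal T
    let ι : I.subscheme ⟶ X := I.subschemeι
    have hrange : Set.range ι = connectedComponent (p x') := by
      rw [Scheme.IdealSheafData.range_subschemeι, Scheme.IdealSheafData.coe_support_vanishingIdeal]
      rfl
    haveI : ConnectedSpace ↥I.subscheme := by
      have hne : Nonempty ↥I.subscheme := by
        have : p x' ∈ Set.range ι := by rw [hrange]; exact mem_connectedComponent
        obtain ⟨t, _⟩ := this
        exact ⟨t⟩
      have hpre : _root_.IsPreconnected (Set.univ : Set ↥I.subscheme) := by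
        rw [← ι.isEmbedding.isInducing.isPreconnected_image, Set.image_univ, hrange]
        exact isPreconnected_connectedComponent
      exact { toPreconnectedSpace := ⟨hpre⟩, toNonempty := hne }
    obtain ⟨t₀, ht₀⟩ : p x' ∈ Set.range ι := by rw [hrange]; exact mem_connectedComponent
    obtain ⟨t, ht⟩ : y ∈ Set.range ι := by rw [hrange]; exact hy
    let aT : I.subscheme ⟶ Spec (CommRingCat.of k) := ι ≫ a
    let ιK : pullback aT sK ⟶ pullback a sK :=
      pullback.lift (pullback.fst aT sK ≫ ι) (pullback.snd aT sK)
        (by rw [Category.assoc]; exact pullback.condition)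
    have hιK1 : ιK ≫ p = pullback.fst aT sK ≫ ι := pullback.lift_fst _ _ _
    have hιK2 : ιK ≫ pullback.snd a sK = pullback.snd aT sK := pullback.lift_snd _ _ _
    have hpb : IsPullback ιK (pullback.fst aT sK) p ι := by
      refine IsPullback.of_right ?_ hιK1 (IsPullback.of_hasPullback a sK).flip
      rw [hιK2]
      exact (IsPullback.of_hasPullback aT sK).flip
    obtain ⟨x'', hx''1, hx''2⟩ := Scheme.exists_preimage_of_isPullback hpb x' t₀ ht₀.symm
    obtain ⟨y'', hy''c, hy''⟩ := surj_component aT K x'' t
    refine ⟨ιK y'', ?_, ?_⟩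
    · have h1 := ιK.continuous.image_connectedComponent_subset x''
      rw [hx''1] at h1
      exact h1 ⟨y'', hy''c, rfl⟩
    · show p (ιK y'') = y
      rw [← Scheme.Hom.comp_apply, hιK1, Scheme.Hom.comp_apply, hy'', ht]

end Groth.Agent.S1583
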