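import Groth.Statements.S7382
-- import your own Groth.Agent.* helpers here
import Mathlib
import Groth.Agent.Lib.Helper12.IntegralApprox
import Groth.Agent.Lib.Helper12.ApproxOver
import Groth.Agent.Lib.Helper12.UpSet
import Groth.Agent.S9200

set_option autoImplicit false
universe u
open CategoryTheory AlgebraicGeometry
open Lim

namespace Groth.Agent.S7382
open Limits Opposite Groth.Agent.Lib.Helper12 Groth.Agent.Lib.Helper12.UpSet
  Groth.Agent.Lib.Helper12.IntegralApprox
set_option backward.isDefEq.respectTransparency false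
set_option linter.style.haveILetI false

/-- Let `f : X → S` be integral with `S` quasi-compact and quasi-separated. Then, in the category of
schemes over `S`, `X` is the limit of a nonempty directed inverse system of schemes `X_i → S` that
are finite and locally of finite presentation. -/
theorem result {X S : Scheme.{u}} (f : X ⟶ S) [IsIntegralHom f]
    [CompactSpace S] [QuasiSeparatedSpace S] :
    ∃ (I : Type u) (_ : Preorder I) (_ : IsDirected I (fun a b => a ≤ b)) (_ : Nonempty I)
      (D : Iᵒᵖ ⥤ Over S) (c : Limits.Cone D) (_ : Limits.IsLimit c),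
      (∀ i, IsFinite (D.obj i).hom ∧ LocallyOfFinitePresentation (D.obj i).hom) ∧
      Nonempty (c.pt ≅ Over.mk f) := by
  classical
  haveI : CompactSpace X := QuasiCompact.compactSpace_of_compactSpace f
  haveI : QuasiSeparatedSpace X := quasiSeparatedSpace_of_quasiSeparated f
  obtain ⟨J₀, iJ1, iJ2, iJ3, D₀, π, hlim, hlim', hst, haff⟩ := ApproxOver.exists_approx_over f
  haveI : Nonempty J₀ := iJ3
  obtain ⟨i₀⟩ := iJ3
  let D' : J₀ᵒᵖ ⥤ Scheme.{u} := D₀ ⋙ Over.forget S
  let t : D' ⟶ (Functor.const J₀ᵒᵖ).obj S :=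
    { app := fun i => (D₀.obj i).hom
      naturality := fun i j a => by
        dsimp [D']
        simp }
  haveI : ∀ (i j : J₀ᵒᵖ) (a : i ⟶ j), IsAffineHom (D'.map a) := fun i j a => haff i j a
  haveI : ∀ i, CompactSpace (D'.obj i) := fun i => (hst i).2.2.2.1
  haveI : ∀ i, QuasiSeparatedSpace (D'.obj i) := fun i => (hst i).2.2.2.2
  let c₀ : Cone D₀ := { pt := Over.mk f, π := π }
  let c' : Cone D' := (Over.forget S).mapCone c₀
  have hw : c'.π.app (op i₀) ≫ t.app (op i₀) = f := Over.w (π.app (op i₀))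
  haveI : IsAffineHom (c'.π.app (op i₀) ≫ t.app (op i₀)) := by rw [hw]; infer_instance
  obtain ⟨i₁, hi₁⟩ := Groth.Agent.S9200.result S D' t c' hlim' (op i₀)
  let D : (Up i₁.unop)ᵒᵖ ⥤ Over S := upFunctor i₁.unop ⋙ D₀
  let c : Cone D := c₀.whisker (upFunctor i₁.unop)
  have hc : IsLimit c := (Functor.Initial.isLimitWhiskerEquiv (upFunctor i₁.unop) _).symm hlim
  have hD : ∀ j, IsAffineHom (D.obj j).hom ∧ LocallyOfFinitePresentation (D.obj j).hom :=
    fun j => ⟨hi₁ (op j.unop.1) (homOfLE j.unop.2).op, (hst _).1⟩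
  haveI : IsIntegralHom c.pt.hom := inferInstanceAs (IsIntegralHom f)
  haveI := isDirected_idx D c hD
  haveI := nonempty_idx D c hD
  refine ⟨Idx D c, inferInstance, inferInstance, inferInstance, subF D c, subC D c,
    isLimitSubC D c hc (cofinal_idx D c hD), fun p => ⟨p.unop.hfin, ?_⟩, ⟨Iso.refl _⟩⟩
  haveI := p.unop.hfp
  haveI := (hD (op p.unop.j)).2
  exact inferInstanceAs (LocallyOfFinitePresentation
    (p.unop.Z.subschemeι ≫ (D.obj (op p.unop.j)).hom))

end Groth.Agent.S7382
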