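import Groth.Statements.S14611
import Groth.Agent.Lib.Helper7.OpcyclesFlat

set_option autoImplicit false
universe u
open FlatCx

namespace Groth.Agent.S14611


open TensorProduct in
theorem proj_of_fibre_exact {A : Type u} [CommRing A] {P₂ P₁ P₀ N : Type u}
    [AddCommGroup P₂] [Module A P₂] [AddCommGroup P₁] [Module A P₁] [AddCommGroup P₀]
    [Module A P₀] [AddCommGroup N] [Module A N]
    [Module.Finite A P₁] [Module.Finite A P₀] [Module.Projective A P₀]
    (f : P₂ →ₗ[A] P₁) (g : P₁ →ₗ[A] P₀) (π : P₀ →ₗ[A] N) (hfg : g ∘ₗ f = 0)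
    (hex : Function.Exact g π) (hπ : Function.Surjective π)
    (H : ∀ (m : Ideal A) [m.IsMaximal], ∀ x : P₁ ⊗[A] (A ⧸ m), g.rTensor (A ⧸ m) x = 0 →
      ∃ y : P₂ ⊗[A] (A ⧸ m), f.rTensor (A ⧸ m) y = x) :
    Module.Projective A N := by
  classical
  haveI : Module.FinitePresentation A P₀ := Module.finitePresentation_of_projective A P₀
  haveI : Module.FinitePresentation A N := by
    refine Module.finitePresentation_of_surjective π hπ ?_
    rw [hex.linearMap_ker_eq, LinearMap.range_eq_map]
    exact (Module.Finite.fg_top).map g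
  let C := P₁ ⧸ LinearMap.range f
  let gb : C →ₗ[A] P₀ := (LinearMap.range f).liftQ g
    (by rintro _ ⟨y, rfl⟩; exact LinearMap.congr_fun hfg y)
  have hgb : gb ∘ₗ (LinearMap.range f).mkQ = g := Submodule.liftQ_mkQ _ _ _
  have hexb : Function.Exact gb π := by
    intro z
    rw [hex z]
    constructor
    · rintro ⟨x, rfl⟩; exact ⟨Submodule.Quotient.mk x, rfl⟩
    · rintro ⟨c, rfl⟩
      obtain ⟨x, rfl⟩ := Submodule.mkQ_surjective _ c
      exact ⟨x, rfl⟩
  have hinjA : ∀ (m : Ideal A) [m.IsMaximal], Function.Injective (gb.rTensor (A ⧸ m)) := by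
    intro m _
    rw [injective_iff_map_eq_zero]
    intro x hx
    obtain ⟨xt, rfl⟩ := LinearMap.rTensor_surjective (A ⧸ m)
      (Submodule.mkQ_surjective (LinearMap.range f)) x
    have h1 : g.rTensor (A ⧸ m) xt = 0 := by
      rw [← hgb, LinearMap.rTensor_comp, LinearMap.comp_apply]; exact hx
    obtain ⟨y, rfl⟩ := H m xt h1
    rw [← LinearMap.comp_apply, ← LinearMap.rTensor_comp]
    have h0 : (LinearMap.range f).mkQ ∘ₗ f = 0 := by
      ext y
      simp
    rw [h0, LinearMap.rTensor_zero, LinearMap.zero_apply]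
  refine Module.projective_of_localization_maximal' (fun P _ => Localization.AtPrime P)
    (fun P _ => Localization.AtPrime P ⊗[A] N)
    (fun P _ => TensorProduct.mk A (Localization.AtPrime P) N 1) ?_
  intro m hm
  haveI := hm
  let B := Localization.AtPrime m
  let κ := IsLocalRing.ResidueField B
  let fB : B ⊗[A] C →ₗ[B] B ⊗[A] P₀ := gb.baseChange B
  let πB : B ⊗[A] P₀ →ₗ[B] B ⊗[A] N := π.baseChange B
  have hπB : Function.Surjective πB := LinearMap.lTensor_surjective B hπ
  have hexB : Function.Exact fB πB := lTensor_exact B hexb hπ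
  haveI : Module.FinitePresentation B (B ⊗[A] P₀) := Module.finitePresentation_of_projective B _
  haveI : Module.Free B (B ⊗[A] P₀) := Module.free_of_flat_of_isLocalRing
  let ε : (A ⧸ m) ≃ₗ[A] κ :=
    { (IsLocalization.AtPrime.equivQuotMaximalIdeal m B).toAddEquiv with
      map_smul' := fun a x => by
        obtain ⟨y, rfl⟩ := Ideal.Quotient.mk_surjective x
        show IsLocalization.AtPrime.equivQuotMaximalIdeal m B (a • Ideal.Quotient.mk m y) =
          a • IsLocalization.AtPrime.equivQuotMaximalIdeal m B (Ideal.Quotient.mk m y)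
        rw [Algebra.smul_def, Algebra.smul_def, map_mul]
        rfl }
  have hG3 : Function.Injective (gb.lTensor (A ⧸ m)) :=
    (LinearMap.lTensor_inj_iff_rTensor_inj (A ⧸ m) gb).2 (hinjA m)
  have hG2 : Function.Injective (gb.lTensor κ) := by
    have h1 : gb.lTensor κ ∘ₗ ε.toLinearMap.rTensor C =
        ε.toLinearMap.rTensor P₀ ∘ₗ gb.lTensor (A ⧸ m) := by
      rw [LinearMap.lTensor_comp_rTensor, LinearMap.rTensor_comp_lTensor]
    have hsurjC : Function.Surjective (ε.toLinearMap.rTensor C) :=
      LinearMap.rTensor_surjective C ε.surjective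
    have hinjP : Function.Injective (ε.toLinearMap.rTensor P₀) :=
      Module.Flat.rTensor_preserves_injective_linearMap ε.toLinearMap ε.injective
    intro z₁ z₂ h
    obtain ⟨w₁, rfl⟩ := hsurjC z₁
    obtain ⟨w₂, rfl⟩ := hsurjC z₂
    have e1 := LinearMap.congr_fun h1 w₁
    have e2 := LinearMap.congr_fun h1 w₂
    simp only [LinearMap.comp_apply] at e1 e2
    rw [e1, e2] at h
    rw [hG3 (hinjP h)]
  have hG1 : Function.Injective (fB.lTensor κ) := by
    let eC := TensorProduct.AlgebraTensorModule.cancelBaseChange A B B κ C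
    let eP := TensorProduct.AlgebraTensorModule.cancelBaseChange A B B κ P₀
    have hnat : ∀ z, eP (fB.lTensor κ z) = gb.lTensor κ (eC z) := by
      intro z
      induction z using TensorProduct.induction_on with
      | zero => simp
      | add a b ha hb => simp only [map_add, ha, hb]
      | tmul x y =>
        induction y using TensorProduct.induction_on with
        | zero => simp
        | add a b ha hb => simp only [TensorProduct.tmul_add, map_add, ha, hb]
        | tmul b c => simp [eC, eP, fB]
    intro z₁ z₂ h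
    apply eC.injective
    apply hG2
    rw [← hnat, ← hnat, h]
  haveI : Module.Free B (B ⊗[A] N) :=
    Module.free_of_lTensor_residueField_injective (f := fB) (g := πB) hπB hexB hG1
  infer_instance

open CategoryTheory CategoryTheory.Limits Groth.Agent.Lib.Helper7 in
theorem exact_of_isZero_homology {A : Type u} [CommRing A] {ι : Type} {c : ComplexShape ι}
    (K : HomologicalComplex (ModuleCat.{u} A) c) (i j k : ι) (hij : c.Rel i j) (hjk : c.Rel j k)
    (h : IsZero (K.homology j)) (x : K.X j) (hx : (K.d j k).hom x = 0) :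
    ∃ y : K.X i, (K.d i j).hom y = x := by
  obtain rfl := c.next_eq' hjk
  obtain rfl := c.prev_eq' hij
  haveI := ModuleCat.subsingleton_of_isZero h
  exact (cls_eq_zero_iff K j x hx).1 (Subsingleton.elim _ _)


open CategoryTheory CategoryTheory.Limits in
/-- Let A be a Noetherian ring, Q a cochain complex whose terms are finitely generated projective
A-modules, and d an integer such that H^p(Q) = 0 for every p < d and H^p(Q ⊗_A A/m) = 0 for every p
< d and every maximal ideal m of A. Then Q^d / im(Q^{d-1} → Q^d), the degree-d term of the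
truncation τ_{≥ d} Q, is a projective A-module, so that τ_{≥ d} Q is again a complex of projective
modules. (The published statement also asserts that Q → τ_{≥ d} Q is a quasi-isomorphism when H^p(Q)
= 0 for p < d; this row omits that clause.) -/
theorem result (A : Type u) [CommRing A] [IsNoetherianRing A]
    (Q : CochainComplex (ModuleCat.{u} A) ℤ)
    (hQ : ∀ i, Module.Finite A (Q.X i) ∧ Module.Projective A (Q.X i)) (d : ℤ)
    (h1 : ∀ p < d, IsZero (Q.homology p))
    (h2 : ∀ (m : Ideal A) [m.IsMaximal], ∀ p < d,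
      IsZero ((CohIII.tensorObj Q (ModuleCat.of A (A ⧸ m))).homology p)) :
    Module.Projective A (Q.opcycles d) := by
  have hrel1 : (ComplexShape.up ℤ).Rel (d - 1) d := by
    show d - 1 + 1 = d
    ring
  have hrel2 : (ComplexShape.up ℤ).Rel (d - 1 - 1) (d - 1) := by
    show d - 1 - 1 + 1 = d - 1
    ring
  haveI := (hQ (d - 1)).1
  haveI := (hQ d).1
  haveI := (hQ d).2
  refine proj_of_fibre_exact (Q.d (d - 1 - 1) (d - 1)).hom (Q.d (d - 1) d).hom (Q.pOpcycles d).hom
    (Groth.Agent.Lib.Helper7.hom_d_comp_d Q _ _ _)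
    (Groth.Agent.Lib.Helper7.exact_d_pOpcycles' Q (d - 1) d hrel1)
    (Groth.Agent.Lib.Helper7.pOpcycles_surjective Q d) ?_
  intro m _ x hx
  have hz := h2 m (d - 1) (by omega)
  have hx' : ((CohIII.tensorObj Q (ModuleCat.of A (A ⧸ m))).d (d - 1) d).hom x = 0 := by
    rw [Groth.Agent.Lib.Helper7.tensorObj_d]; exact hx
  obtain ⟨y, hy⟩ := exact_of_isZero_homology (CohIII.tensorObj Q (ModuleCat.of A (A ⧸ m)))
    (d - 1 - 1) (d - 1) d hrel2 hrel1 hz x hx'
  rw [Groth.Agent.Lib.Helper7.tensorObj_d] at hy
  exact ⟨y, hy⟩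

end Groth.Agent.S14611
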