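import Groth.Statements.S14612
import Mathlib.RingTheory.Flat.Equalizer
import Mathlib.Algebra.Homology.ShortComplex.ModuleCat
-- import your own Groth.Agent.* helpers here

set_option autoImplicit false
universe u
open FlatCx

namespace Groth.Agent.S14612

open TensorProduct in
/-- In a short exact sequence `0 → M → N → P → 0` with `N` and `P` flat, `M` is flat. -/
theorem flat_of_exact_of_flat {R : Type u} [CommRing R] {M N P : Type u}
    [AddCommGroup M] [AddCommGroup N] [AddCommGroup P] [Module R M] [Module R N] [Module R P]
    (g : M →ₗ[R] N) (f : N →ₗ[R] P) (hg : Function.Injective g) (hf : Function.Surjective f)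
    (H : Function.Exact g f) [Module.Flat R N] [Module.Flat R P] : Module.Flat R M := by
  rw [Module.Flat.iff_rTensor_preserves_injective_linearMap]
  intro N' P' _ _ _ _ i hi
  have h1 : Function.Injective (g.lTensor N') :=
    LinearMap.lTensor_injective_of_exact_of_flat f hf g hg H N'
  have h2 : Function.Injective (i.rTensor N) :=
    Module.Flat.rTensor_preserves_injective_linearMap _ hi
  have h3 : (i.rTensor N) ∘ₗ (g.lTensor N') = (g.lTensor P') ∘ₗ (i.rTensor M) := by
    rw [LinearMap.rTensor_comp_lTensor, LinearMap.lTensor_comp_rTensor]
  have h4 : Function.Injective ((g.lTensor P') ∘ₗ (i.rTensor M)) := by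
    rw [← h3]
    exact h2.comp h1
  exact Function.Injective.of_comp h4

open CategoryTheory CategoryTheory.Limits in
/-- Let A be a commutative ring and F a cochain complex of flat A-modules which is bounded above (F^i =
0 for all large i) and whose cohomology H^p(F) vanishes for every p > d. Then the module of
d-cocycles Z^d = ker(F^d → F^{d+1}) is flat over A; hence the truncation τ_{≤ d} F is again a
complex of flat modules (and τ_{≤ d} F → F is a quasi-isomorphism, which is not restated).
Boundedness cannot be dropped. -/
theorem result (A : Type u) [CommRing A]
    (F : CochainComplex (ModuleCat.{u} A) ℤ) (hF : ∀ i, Module.Flat A (F.X i))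
    (hb : ∃ b : ℤ, ∀ i, b < i → IsZero (F.X i)) (d : ℤ) (hac : ∀ p, d < p → IsZero (F.homology p)) :
    Module.Flat A (F.cycles d) := by
  obtain ⟨b, hb⟩ := hb
  have key : ∀ (k : ℕ) (p : ℤ), d ≤ p → b < p + k → Module.Flat A (F.cycles p) := by
    intro k
    induction k with
    | zero =>
      intro p _ hbp
      have hz : IsZero (F.cycles p) := IsZero.of_mono (F.iCycles p) (hb p (by simpa using hbp))
      have : Subsingleton (F.cycles p) := ModuleCat.subsingleton_of_isZero hz
      infer_instance
    | succ k ih =>
      intro p hdp hbp
      have hflat : Module.Flat A (F.cycles (p + 1)) :=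
        ih (p + 1) (by omega) (by push_cast at hbp ⊢; omega)
      have hFp : Module.Flat A (F.X p) := hF p
      -- injectivity of `iCycles`
      have hinj : Function.Injective (F.iCycles p).hom :=
        (ModuleCat.mono_iff_injective _).1 inferInstance
      have hinj' : Function.Injective (F.iCycles (p + 1)).hom :=
        (ModuleCat.mono_iff_injective _).1 inferInstance
      -- the relation `toCycles ≫ iCycles = d`
      have hrel : ∀ x : F.X p, (F.iCycles (p + 1)).hom ((F.toCycles p (p + 1)).hom x) =
          (F.d p (p + 1)).hom x := by
        intro x
        have := F.toCycles_i p (p + 1)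
        rw [← this]
        rfl
      -- exactness at `p + 1`
      have hex : (F.sc' p (p + 1) (p + 1 + 1)).Exact := by
        rw [← F.exactAt_iff' p (p + 1) (p + 1 + 1) (by simp) (by simp),
          F.exactAt_iff_isZero_homology]
        exact hac (p + 1) (by omega)
      rw [ShortComplex.moduleCat_exact_iff] at hex
      -- surjectivity of `toCycles`
      have hsurj : Function.Surjective (F.toCycles p (p + 1)).hom := by
        intro z
        have hz : (F.d (p + 1) (p + 1 + 1)).hom ((F.iCycles (p + 1)).hom z) = 0 := by
          have := F.iCycles_d (p + 1) (p + 1 + 1)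
          have h2 := congrArg (fun φ => φ.hom z) this
          exact h2
        obtain ⟨x, hx⟩ := hex ((F.iCycles (p + 1)).hom z) hz
        let x' : F.X p := x
        refine ⟨x', hinj' ?_⟩
        exact (hrel x').trans hx
      -- kernel property of `cycles p`
      have hker : (ShortComplex.mk (F.iCycles p) (F.d p (p + 1)) (F.iCycles_d p (p + 1))).Exact :=
        ShortComplex.exact_of_f_is_kernel _ (F.cyclesIsKernel p (p + 1) (by simp))
      rw [ShortComplex.moduleCat_exact_iff] at hker
      have hexact : Function.Exact (F.iCycles p).hom (F.toCycles p (p + 1)).hom := by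
        intro y
        constructor
        · intro hy
          have hdy : (F.d p (p + 1)).hom y = 0 := by
            rw [← hrel, hy, map_zero]
          obtain ⟨z, hz⟩ := hker y hdy
          exact ⟨z, hz⟩
        · rintro ⟨z, rfl⟩
          apply hinj'
          rw [hrel, map_zero]
          have := F.iCycles_d p (p + 1)
          have h2 := congrArg (fun φ => φ.hom z) this
          exact h2
      exact flat_of_exact_of_flat (F.iCycles p).hom (F.toCycles p (p + 1)).hom hinj hsurj hexact
  exact key (b - d + 1).toNat d le_rfl (by omega)

end Groth.Agent.S14612
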