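import Groth.Statements.S14613
import Groth.Agent.S14612
import Groth.Agent.Lib.Helper22.CyclesSeq
import Mathlib.Algebra.Category.ModuleCat.Biproducts
-- import your own Groth.Agent.* helpers here

set_option autoImplicit false
universe u
open FlatCx

namespace Groth.Agent.S14613

open CategoryTheory CategoryTheory.Limits Groth.Agent.Lib.Helper22

open TensorProduct in
/-- an acyclic bounded above complex of flat modules stays acyclic after tensoring with any module -/
theorem exactAt_tensor_of_acyclic (A : Type u) [CommRing A]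
    (K : CochainComplex (ModuleCat.{u} A) ℤ) (hK : ∀ i, Module.Flat A (K.X i))
    (hb : ∃ b : ℤ, ∀ i, b < i → IsZero (K.X i)) (hac : ∀ n, K.ExactAt n)
    (M : ModuleCat.{u} A) (n : ℤ) :
    ((((MonoidalCategory.tensorRight M).mapHomologicalComplex (ComplexShape.up ℤ)).obj K)).ExactAt n := by
  have hZ : ∀ p, Module.Flat A (K.cycles p) := fun p =>
    Groth.Agent.S14612.result A K hK hb p
      (fun q _ => (K.exactAt_iff_isZero_homology q).1 (hac q))
  rw [HomologicalComplex.exactAt_iff' _ (n - 1) n (n + 1) (by simp) (by simp),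
    ShortComplex.moduleCat_exact_iff]
  suffices H : ∀ z : (K.X n) ⊗[A] M, ((K.d n (n + 1)).hom.rTensor M) z = 0 →
      ∃ x₁ : (K.X (n - 1)) ⊗[A] M, ((K.d (n - 1) n).hom.rTensor M) x₁ = z from
    fun z hz => H z hz
  intro z hz
  -- notation
  have hd1 : (K.d n (n + 1)).hom = (K.iCycles (n + 1)).hom ∘ₗ (K.toCycles n (n + 1)).hom := by
    ext x
    exact (iCycles_toCycles_apply K n (n + 1) x).symm
  have hd0 : (K.d (n - 1) n).hom = (K.iCycles n).hom ∘ₗ (K.toCycles (n - 1) n).hom := by
    ext x
    exact (iCycles_toCycles_apply K (n - 1) n x).symm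
  -- injectivity of `i_{n+1} ⊗ M`
  have hflat2 : Module.Flat A (K.cycles (n + 1 + 1)) := hZ _
  have hinj : Function.Injective ((K.iCycles (n + 1)).hom.rTensor M) := by
    rw [← LinearMap.lTensor_inj_iff_rTensor_inj]
    exact LinearMap.lTensor_injective_of_exact_of_flat (K.toCycles (n + 1) (n + 1 + 1)).hom
      (toCycles_surjective K (n + 1) (n + 1 + 1) (n + 1 + 1 + 1) rfl rfl (hac _))
      (K.iCycles (n + 1)).hom (iCycles_injective K (n + 1))
      (exact_iCycles_toCycles K (n + 1) (n + 1 + 1) rfl) M
  rw [hd1, LinearMap.rTensor_comp, LinearMap.comp_apply] at hz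
  have hz' : ((K.toCycles n (n + 1)).hom.rTensor M) z = 0 := by
    apply hinj
    rw [hz, map_zero]
  -- exactness of `Z^n ⊗ M → K^n ⊗ M → Z^{n+1} ⊗ M`
  have hex : Function.Exact ((K.iCycles n).hom.rTensor M) ((K.toCycles n (n + 1)).hom.rTensor M) :=
    rTensor_exact M (exact_iCycles_toCycles K n (n + 1) rfl)
      (toCycles_surjective K n (n + 1) (n + 1 + 1) rfl rfl (hac _))
  obtain ⟨w, hw⟩ := (hex z).1 hz'
  -- surjectivity of `K^{n-1} ⊗ M → Z^n ⊗ M`
  have hsurj : Function.Surjective ((K.toCycles (n - 1) n).hom.rTensor M) :=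
    LinearMap.rTensor_surjective M
      (toCycles_surjective K (n - 1) n (n + 1) (by omega) rfl (hac _))
  obtain ⟨v, hv⟩ := hsurj w
  refine ⟨v, ?_⟩
  rw [hd0, LinearMap.rTensor_comp, LinearMap.comp_apply, hv, hw]

/-- Let A be a commutative ring (not necessarily Noetherian), C and D cochain complexes of flat
A-modules that are bounded above (zero in all large degrees), φ : C → D a quasi-isomorphism and M an
arbitrary A-module. Then φ ⊗ id_M : C ⊗_A M → D ⊗_A M, the tensor product taken degreewise, is a
quasi-isomorphism. Boundedness cannot be dropped. -/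
theorem result (A : Type u) [CommRing A]
    (C D : CochainComplex (ModuleCat.{u} A) ℤ)
    (hC : ∀ i, Module.Flat A (C.X i)) (hD : ∀ i, Module.Flat A (D.X i))
    (bC : ∃ b : ℤ, ∀ i, b < i → IsZero (C.X i)) (bD : ∃ b : ℤ, ∀ i, b < i → IsZero (D.X i))
    (φ : C ⟶ D) [QuasiIso φ] (M : ModuleCat.{u} A) :
    QuasiIso (((MonoidalCategory.tensorRight M).mapHomologicalComplex (ComplexShape.up ℤ)).map φ) := by
  rw [quasiIso_iff_exactAt_mappingCone]
  intro n
  -- transport along the comparison isomorphism
  have e := CochainComplex.mappingCone.mapHomologicalComplexIso φ (MonoidalCategory.tensorRight M)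
  have h1 : ((((MonoidalCategory.tensorRight M).mapHomologicalComplex (ComplexShape.up ℤ)).obj
      (CochainComplex.mappingCone φ))).ExactAt n := by
    apply exactAt_tensor_of_acyclic
    · intro i
      have e' := HomologicalComplex.homotopyCofiber.XIsoBiprod φ i (i + 1) rfl
      have e'' := e' ≪≫ ModuleCat.biprodIsoProd _ _
      have : Module.Flat A (C.X (i + 1)) := hC _
      have : Module.Flat A (D.X i) := hD _
      have : Module.Flat A (↑(C.X (i + 1)) × ↑(D.X i)) := flat_prod
      exact Module.Flat.of_linearEquiv e''.toLinearEquiv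
    · obtain ⟨b₁, hb₁⟩ := bC
      obtain ⟨b₂, hb₂⟩ := bD
      refine ⟨max b₁ b₂, fun i hi => ?_⟩
      rw [CochainComplex.mappingCone.isZero_X_iff]
      exact ⟨hb₁ _ (by omega), hb₂ _ (by omega)⟩
    · exact (quasiIso_iff_exactAt_mappingCone φ).1 inferInstance
  rw [HomologicalComplex.exactAt_iff_isZero_homology] at h1 ⊢
  exact IsZero.of_iso h1 ((HomologicalComplex.homologyFunctor _ _ n).mapIso e.symm)

end Groth.Agent.S14613
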