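import Groth.Statements.S12073
-- import your own Groth.Agent.* helpers here
import Mathlib
import Groth.Agent.Lib.Helper12.PbDiag
import Groth.Agent.Lib.Helper12.FpDesc
import Groth.Agent.S9187
import Groth.Agent.S9192

set_option autoImplicit false
universe u
open CategoryTheory CategoryTheory.Limits AlgebraicGeometry
open Pi1

namespace Groth.Agent.S12073
open Limits Opposite Groth.Agent.Lib.Helper12 Groth.Agent.Lib.Helper12.PbDiag
set_option backward.isDefEq.respectTransparency false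
set_option linter.style.haveILetI false

/-- A stage tuple gives the property on the canonical stage. -/
lemma pbMap_of_tuple {I : Type u} [SmallCategory I] (D : I ⥤ Scheme.{u}) (i₀ : I)
    {X₀ Y₀ : Scheme.{u}} (f₀ : X₀ ⟶ Y₀) (g₀ : Y₀ ⟶ D.obj i₀)
    (P : MorphismProperty Scheme.{u}) [P.IsStableUnderBaseChange]
    (h : ∃ (i : I) (φ : i ⟶ i₀) (Xi Yi : Scheme.{u}) (fi : Xi ⟶ Yi) (gi : Yi ⟶ D.obj i)
      (pY : Yi ⟶ Y₀) (pX : Xi ⟶ X₀), IsPullback pY gi g₀ (D.map φ) ∧ IsPullback pX fi f₀ pY ∧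
        P fi) : ∃ j : Over i₀, P ((pbMap D i₀ g₀ f₀).app j) := by
  obtain ⟨i, φ, Xi, Yi, fi, gi, pY, pX, hpY, hpX, hP⟩ := h
  refine ⟨Over.mk φ, ?_⟩
  have sq := isPullback_pbMap_app D i₀ g₀ f₀ (Over.mk φ)
  have e1 : hpY.isoPullback.inv ≫ pY = pullback.fst g₀ (D.map φ) :=
    IsPullback.isoPullback_inv_fst hpY
  have hw : pullback.fst (f₀ ≫ g₀) (D.map φ) ≫ f₀ =
      ((pbMap D i₀ g₀ f₀).app (Over.mk φ) ≫ hpY.isoPullback.inv) ≫ pY := by
    rw [Category.assoc, e1]
    exact sq.w
  have sq' : IsPullback (hpX.lift _ _ hw) ((pbMap D i₀ g₀ f₀).app (Over.mk φ)) fi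
      hpY.isoPullback.inv := by
    refine IsPullback.of_right ?_ (hpX.lift_snd _ _ _) hpX
    rw [hpX.lift_fst, e1]
    exact sq
  exact MorphismProperty.of_isPullback (P := P) sq' hP

/-- Essential surjectivity. -/
lemma essSurj {I : Type u} [SmallCategory I] [IsCofiltered I]
    (D : I ⥤ Scheme.{u}) (c : Limits.Cone D) (hc : Limits.IsLimit c)
    [∀ (i j : I) (f : i ⟶ j), IsAffineHom (D.map f)] [∀ i, CompactSpace (D.obj i)]
    [∀ i, QuasiSeparatedSpace (D.obj i)] (V : FEt.Cat c.pt) :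
    ∃ (i : I) (Vi : FEt.Cat (D.obj i)), Nonempty ((FEt.restrict (c.π.app i)).obj Vi ≅ V) := by
  haveI hD : ∀ {i j : I} (f : i ⟶ j), IsAffineHom (D.map f) := fun f => inferInstance
  haveI hfin : IsFinite V.hom := V.prop.1
  haveI het : Etale V.hom := V.prop.2
  obtain ⟨i, Zi, hi, g, hlfp, hqc, hqs, hpb⟩ := FpDesc.descends_of_fp (D := D) hc V.hom
  haveI := hlfp
  haveI := hqc
  haveI := hqs
  haveI : CompactSpace Zi := QuasiCompact.compactSpace_of_compactSpace hi
  haveI : QuasiSeparatedSpace Zi := quasiSeparatedSpace_of_quasiSeparated hi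
  have hY := IsPullback.id_vert (c.π.app i)
  obtain ⟨j1, hj1⟩ := pbMap_of_tuple D i hi (𝟙 _) @IsFinite
    (Groth.Agent.S9187.result D c hc i hi (𝟙 _) V.hom (𝟙 _) (c.π.app i) g hY hpb)
  obtain ⟨j2, hj2⟩ := pbMap_of_tuple D i hi (𝟙 _) @Etale
    (Groth.Agent.S9192.result D c hc i hi (𝟙 _) V.hom (𝟙 _) (c.π.app i) g hY hpb)
  obtain ⟨j, a1, a2, -⟩ := IsCofilteredOrEmpty.cone_objs j1 j2
  have h1 : IsFinite ((pbMap D i (𝟙 _) hi).app j) :=
    MorphismProperty.of_isPullback (P := @IsFinite) (isPullback_pbMap_map D i (𝟙 _) hi a1) hj1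
  have h2 : Etale ((pbMap D i (𝟙 _) hi).app j) :=
    MorphismProperty.of_isPullback (P := @Etale) (isPullback_pbMap_map D i (𝟙 _) hi a2) hj2
  have h1' : IsFinite (pullback.snd hi (D.map j.hom)) :=
    MorphismProperty.of_isPullback (P := @IsFinite) (isPullback_snd_pbMap_id D i hi j) h1
  have h2' : Etale (pullback.snd hi (D.map j.hom)) :=
    MorphismProperty.of_isPullback (P := @Etale) (isPullback_snd_pbMap_id D i hi j) h2
  let Vj : FEt.Cat (D.obj j.left) :=
    MorphismProperty.Over.mk ⊤ (pullback.snd hi (D.map j.hom)) ⟨h1', h2'⟩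
  refine ⟨j.left, Vj, ⟨?_⟩⟩
  have sq := isPullback_pbCone_π c g V.hom hpb j
  refine MorphismProperty.Over.isoMk sq.isoPullback.symm ?_
  exact IsPullback.isoPullback_inv_snd sq

/-- Faithfulness on stages. -/
lemma faithful_stage {I : Type u} [SmallCategory I] [IsCofiltered I]
    (D : I ⥤ Scheme.{u}) (c : Limits.Cone D) (hc : Limits.IsLimit c)
    [∀ (i j : I) (f : i ⟶ j), IsAffineHom (D.map f)] [∀ i, CompactSpace (D.obj i)]
    [∀ i, QuasiSeparatedSpace (D.obj i)] (i : I) (Vi Wi : FEt.Cat (D.obj i)) (φ ψ : Vi ⟶ Wi)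
    (h : (FEt.restrict (c.π.app i)).map φ = (FEt.restrict (c.π.app i)).map ψ) :
    ∃ (j : I) (a : j ⟶ i), (FEt.restrict (D.map a)).map φ = (FEt.restrict (D.map a)).map ψ := by
  haveI hD : ∀ {i j : I} (f : i ⟶ j), IsAffineHom (D.map f) := fun f => inferInstance
  haveI hfinV : IsFinite Vi.hom := Vi.prop.1
  haveI hfinW : IsFinite Wi.hom := Wi.prop.1
  have hleft : pullback.fst Vi.hom (c.π.app i) ≫ φ.left =
      pullback.fst Vi.hom (c.π.app i) ≫ ψ.left := by
    have h' := congrArg (fun t => t.left ≫ pullback.fst Wi.hom (c.π.app i)) h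
    simpa [FEt.restrict] using h'
  let hZ := IsPullback.of_hasPullback Vi.hom (c.π.app i)
  let t : pbDiagram D i Vi.hom ⟶ (Functor.const (Over i)).obj (D.obj i) :=
    pbDiagramFst D i Vi.hom ≫ (Functor.const (Over i)).map Vi.hom
  haveI : ∀ j, CompactSpace ((pbDiagram D i Vi.hom).obj j) :=
    fun j => compactSpace_pbDiagram_obj D i Vi.hom j
  obtain ⟨k, hik, hk⟩ := Scheme.exists_hom_comp_eq_comp_of_locallyOfFiniteType
    (pbDiagram D i Vi.hom) t Wi.hom (pbCone c _ _ hZ) (isLimitPbCone c hc _ _ hZ)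
    (i := Over.mk (𝟙 i)) (pullback.fst Vi.hom (D.map (𝟙 i)) ≫ φ.left)
    (pullback.fst Vi.hom (D.map (𝟙 i)) ≫ ψ.left)
    (by simp [t]) (by simp [t])
    (by
      have e : (pbCone c _ _ hZ).π.app (Over.mk (𝟙 i)) ≫ pullback.fst Vi.hom (D.map (𝟙 i)) =
          pullback.fst Vi.hom (c.π.app i) := pbCone_π_fst c _ _ hZ (Over.mk (𝟙 i))
      exact (Category.assoc _ _ _).symm.trans ((congrArg (· ≫ φ.left) e).trans
        (hleft.trans ((congrArg (· ≫ ψ.left) e).symm.trans (Category.assoc _ _ _)))))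
  have e2 : (pbDiagram D i Vi.hom).map hik ≫ pullback.fst Vi.hom (D.map (𝟙 i)) =
      pullback.fst Vi.hom (D.map k.hom) := pbDiagram_map_fst D i Vi.hom hik
  have hk' : pullback.fst Vi.hom (D.map k.hom) ≫ φ.left =
      pullback.fst Vi.hom (D.map k.hom) ≫ ψ.left :=
    (congrArg (· ≫ φ.left) e2).symm.trans ((Category.assoc _ _ _).trans
      (hk.trans ((Category.assoc _ _ _).symm.trans (congrArg (· ≫ ψ.left) e2))))
  refine ⟨k.left, k.hom, ?_⟩
  apply MorphismProperty.Over.Hom.ext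
  apply pullback.hom_ext
  · simpa [FEt.restrict] using hk'
  · simp [FEt.restrict]

/-- Let X = lim X_i be the limit of a cofiltered system of quasi-compact quasi-separated schemes with
affine transition morphisms, given by a limit cone. Then: (1) every finite étale cover of X is
isomorphic, over X, to the base change of a finite étale cover of some X_i; (2) if two morphisms
between finite étale covers of some X_i have the same base change to X, then they have the same base
change to some X_j with j → i. (Fullness — every morphism over X between base changes comes from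
some stage — is part of the published statement and is not stated here; nor is the consequence on
fundamental groups.) -/
theorem result {I : Type u} [SmallCategory I] [IsCofiltered I]
    (D : I ⥤ Scheme.{u}) (c : Limits.Cone D) (hc : Limits.IsLimit c)
    [∀ (i j : I) (f : i ⟶ j), IsAffineHom (D.map f)] [∀ i, CompactSpace (D.obj i)]
    [∀ i, QuasiSeparatedSpace (D.obj i)] :
    (∀ V : FEt.Cat c.pt, ∃ (i : I) (Vi : FEt.Cat (D.obj i)), Nonempty ((FEt.restrict (c.π.app i)).obj Vi ≅ V)) ∧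
    (∀ (i : I) (Vi Wi : FEt.Cat (D.obj i)) (φ ψ : Vi ⟶ Wi),
      (FEt.restrict (c.π.app i)).map φ = (FEt.restrict (c.π.app i)).map ψ →
      ∃ (j : I) (a : j ⟶ i), (FEt.restrict (D.map a)).map φ = (FEt.restrict (D.map a)).map ψ) := by
  exact ⟨fun V => essSurj D c hc V, fun i Vi Wi φ ψ h => faithful_stage D c hc i Vi Wi φ ψ h⟩

end Groth.Agent.S12073
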