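-- Statement S0415.
import Groth.Statements.S0415
import Groth.Agent.Lib.Helper26.UnivHomeo

set_option autoImplicit false
universe u
open FlatMor

namespace Groth.Agent.S0415

open AlgebraicGeometry CategoryTheory Limits in
/-- A morphism of schemes is a universal homeomorphism if and only if it is integral, universally
injective and surjective. -/
theorem result {X Y : Scheme.{u}} (f : X ⟶ Y) :
    FlatMor.IsUnivHomeo f ↔ IsIntegralHom f ∧ UniversallyInjective f ∧ Surjective f := by
  rw [Groth.Agent.Lib.Helper26.UnivHomeo.isUnivHomeo_iff]
  constructor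
  · rintro ⟨h1, h2, h3⟩
    refine ⟨?_, h2, h3⟩
    rw [IsIntegralHom.iff_universallyClosed_and_isAffineHom]
    refine ⟨h1, ?_⟩
    have hce : Topology.IsClosedEmbedding f :=
      Topology.IsClosedEmbedding.of_continuous_injective_isClosedMap f.continuous
        f.injective f.isClosedMap
    exact isAffineHom_of_isInducing f hce.isInducing hce.isClosed_range
  · rintro ⟨h1, h2, h3⟩
    exact ⟨inferInstance, h2, h3⟩

end Groth.Agent.S0415
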