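import Groth.Statements.S8255
-- (no extra imports)

set_option autoImplicit false
universe u
open CategoryTheory CategoryTheory.Limits AlgebraicGeometry Opposite TopologicalSpace
open EGA2

namespace Groth.Agent.S8255


theorem isIso_gammaAff {S : Scheme.{u}} (A : RelSpec.QCAlg S) (U : S.Opens) (hU : IsAffineOpen U) :
    IsIso (A.gammaAff U hU) := by
  unfold RelSpec.QCAlg.gammaAff
  have h1 : IsIso ((A.ι U hU).app (A.π ⁻¹ᵁ U)) :=
    Scheme.Hom.isIso_app _ _ (by rw [A.π_preimage U hU])
  have h2 : IsIso ((A.ι U hU).appLE (A.π ⁻¹ᵁ U) ⊤ (A.top_le_preimage U hU)) := by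
    unfold Scheme.Hom.appLE
    have h3 : IsIso (homOfLE (A.top_le_preimage U hU)) :=
      ⟨⟨homOfLE le_top, Subsingleton.elim _ _, Subsingleton.elim _ _⟩⟩
    infer_instance
  infer_instance

/-- Let S be a scheme and A a quasi-coherent O_S-algebra, and let π : Spec(A) → S be its relative
spectrum (glued from the affine schemes Spec A(U), U an affine open of S). Then the canonical
comparison map π_* O_{Spec(A)} → A (which over an affine open U is restriction to the chart Spec
A(U) followed by Γ(Spec R) = R) is an isomorphism; in other words the direct-image algebra of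
Spec(A) is A. -/
theorem result {S : Scheme.{u}} (A : RelSpec.QCAlg S) : IsIso A.gammaMap := by
  let ℱ : TopCat.Sheaf CommRingCat.{u} S.carrier :=
    ⟨A.π.base _* A.spec.presheaf, TopCat.Sheaf.pushforward_sheaf_of_sheaf _ A.spec.sheaf.property⟩
  let ℱ' : TopCat.Sheaf CommRingCat.{u} S.carrier := ⟨A.presheaf, A.isSheaf⟩
  let α : ℱ ⟶ ℱ' := ObjectProperty.homMk A.gammaMap
  have h1 : IsIso (Functor.whiskerLeft (Scheme.AffineZariskiSite.toOpensFunctor S).op α.hom) := by
    have h2 : Functor.whiskerLeft (Scheme.AffineZariskiSite.toOpensFunctor S).op α.hom =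
        A.gammaRestrict := A.gammaMap_restrict
    rw [h2]
    haveI : ∀ U, IsIso (A.gammaRestrict.app U) := fun U => isIso_gammaAff A U.unop.1 U.unop.2
    exact NatIso.isIso_of_isIso_app _
  have h3 : IsIso α :=
    Functor.IsCoverDense.iso_of_restrict_iso (G := Scheme.AffineZariskiSite.toOpensFunctor S) α h1
  haveI := h3
  exact (TopCat.Sheaf.forget CommRingCat.{u} S.carrier).map_isIso α

end Groth.Agent.S8255
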