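import Groth.Statements.S1187
import Groth.Agent.Lib.Helper2.GaloisHom2
-- import your own Groth.Agent.* helpers here

set_option autoImplicit false
universe u v w
open CategoryTheory PreGaloisCategory
open Pi1

namespace Groth.Agent.S1187

/-- Let H : C ⥤ C' be an exact functor between Galois categories and F' a fibre functor on C' such that
F' ∘ H is a fibre functor on C; write h : π_1(C', F') → π_1(C, F' ∘ H) for the induced homomorphism
of fundamental groups. Then h is surjective if and only if H is fully faithful. -/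
theorem result {C C' : Type u} [Category.{v} C] [Category.{v} C'] [GaloisCategory C] [GaloisCategory C']
    (H : C ⥤ C') [Limits.PreservesFiniteLimits H] [Limits.PreservesFiniteColimits H]
    (F' : C' ⥤ FintypeCat.{w}) [FiberFunctor F'] [FiberFunctor (H ⋙ F')] :
    Function.Surjective (Pi1X.autWhisker H F') ↔ (H.Full ∧ H.Faithful) := by
  constructor
  · intro hsurj
    have hfaith : H.Faithful := Functor.Faithful.of_comp H F'
    refine ⟨⟨fun {X Y} f' => ?_⟩, hfaith⟩
    let f : (functorToAction (H ⋙ F')).obj X ⟶ (functorToAction (H ⋙ F')).obj Y :=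
      { hom := F'.map f'
        comm := fun g => by
          obtain ⟨σ, rfl⟩ := hsurj g
          exact (σ.hom.naturality f').symm }
    obtain ⟨r, hr⟩ := (functorToAction (H ⋙ F')).map_surjective f
    refine ⟨r, F'.map_injective ?_⟩
    have : (H ⋙ F').map r = f.hom := by rw [← hr]; rfl
    exact this
  · rintro ⟨hfull, hfaith⟩ g
    by_contra hg
    have hgr : g ∉ (Pi1X.autWhisker H F').range := hg
    obtain ⟨U, hUo, hKU, hgU⟩ := Groth.Agent.Lib.Helper2.GaloisHom.exists_open_subgroup_not_mem
      (Pi1X.autWhisker H F').range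
      (Groth.Agent.Lib.Helper2.GaloisHom.isClosed_range_autWhisker H F') hgr
    obtain ⟨X, hX, a, ha⟩ :=
      Groth.Agent.Lib.Helper2.GaloisHom.exists_isConnected_stabilizer_eq (H ⋙ F') U hUo
    have hfix : ∀ σ : Aut F', σ.hom.app (H.obj X) a = a :=
      (Groth.Agent.Lib.Helper2.GaloisHom.range_autWhisker_le_stabilizer_iff H F' a).mp (ha ▸ hKU)
    obtain ⟨s, hs⟩ :=
      Groth.Agent.Lib.Helper2.GaloisHom.exists_section_of_fixed F' (X := H.obj X) a hfix
    let ψ : H.obj (⊤_ C) ≅ ⊤_ C' := Limits.PreservesTerminal.iso H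
    obtain ⟨r, hr⟩ := H.map_surjective (ψ.hom ≫ s)
    have hsec : ∀ t : (H ⋙ F').obj (⊤_ C), (H ⋙ F').map r t = a := by
      intro t
      change F'.map (H.map r) t = a
      rw [hr, F'.map_comp]
      exact hs _
    have h1 : g • a = a :=
      Groth.Agent.Lib.Helper2.GaloisHom.fixed_of_section (H ⋙ F') a r hsec g
    exact hgU (ha ▸ (show g ∈ MulAction.stabilizer (Aut (H ⋙ F')) a from h1))

end Groth.Agent.S1187
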