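import Groth.Statements.S0267
import Groth.Agent.S1187
import Groth.Agent.Lib.Helper2.GaloisHom2

set_option autoImplicit false
universe u v
open Pi1

namespace Groth.Agent.S0267


open CategoryTheory CategoryTheory.Limits PreGaloisCategory
open Groth.Agent.Lib.Helper2

section

variable {C : Type u} [Category.{v} C] [GaloisCategory C] {D : Type u} [Category.{v} D]
  [GaloisCategory D] (H : C ⥤ D) [PreservesFiniteLimits H] [PreservesFiniteColimits H]

lemma isEmpty_fiber_of_isEmpty
    (F : C ⥤ FintypeCat.{v}) [FiberFunctor F] (F' : D ⥤ FintypeCat.{v}) [FiberFunctor F']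
    (hconn : ∀ X : C, IsConnected X → IsConnected (H.obj X)) (Z : C)
    (h : IsEmpty (F'.obj (H.obj Z))) : IsEmpty (F.obj Z) := by
  by_contra hne
  rw [not_isEmpty_iff] at hne
  obtain ⟨z⟩ := hne
  obtain ⟨Z₀, j, z₀, -, hZ₀, -⟩ := fiber_in_connected_component F Z z
  haveI := hconn Z₀ hZ₀
  obtain ⟨t⟩ := nonempty_fiber_of_isConnected F' (H.obj Z₀)
  exact h.false (F'.map (H.map j) t)

lemma isIso_of_mono
    (F : C ⥤ FintypeCat.{v}) [FiberFunctor F] (F' : D ⥤ FintypeCat.{v}) [FiberFunctor F']
    (hconn : ∀ X : C, IsConnected X → IsConnected (H.obj X)) {X Y : C}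
    (i : X ⟶ Y) [Mono i] [IsIso (H.map i)] : IsIso i := by
  obtain ⟨Z, u, ⟨hc⟩⟩ := PreGaloisCategory.monoInducesIsoOnDirectSummand i
  let e : X ⨿ Z ≅ Y := (colimit.isColimit (pair X Z)).coconePointUniqueUpToIso hc
  have h1 : Nat.card (F'.obj (H.obj Y)) =
      Nat.card (F'.obj (H.obj X)) + Nat.card (F'.obj (H.obj Z)) := by
    have e' : H.obj X ⨿ H.obj Z ≅ H.obj Y := PreservesColimitPair.iso H X Z ≪≫ H.mapIso e
    rw [← card_fiber_eq_of_iso F' e', card_fiber_coprod_eq_sum]
  have h2 : Nat.card (F'.obj (H.obj X)) = Nat.card (F'.obj (H.obj Y)) :=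
    card_fiber_eq_of_iso F' (asIso (H.map i))
  have h3 : Nat.card (F'.obj (H.obj Z)) = 0 := by omega
  have h4 : IsEmpty (F'.obj (H.obj Z)) := Finite.card_eq_zero_iff.mp h3
  have h5 : IsEmpty (F.obj Z) := isEmpty_fiber_of_isEmpty H F F' hconn Z h4
  have h6 : Nat.card (F.obj Y) = Nat.card (F.obj X) + Nat.card (F.obj Z) := by
    rw [← card_fiber_eq_of_iso F e, card_fiber_coprod_eq_sum]
  have h7 : Nat.card (F.obj Z) = 0 := Finite.card_eq_zero_iff.mpr h5
  exact isIso_of_mono_of_eq_card_fiber F i (by omega)

lemma isIso_of_isIso_map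
    (F : C ⥤ FintypeCat.{v}) [FiberFunctor F] (F' : D ⥤ FintypeCat.{v}) [FiberFunctor F']
    (hconn : ∀ X : C, IsConnected X → IsConnected (H.obj X)) {X Y : C}
    (f : X ⟶ Y) [IsIso (H.map f)] : IsIso f := by
  have hΔ : IsIso (H.map (pullback.diagonal f)) := by
    have h1 : H.map (pullback.diagonal f) ≫ pullbackComparison H f f =
        pullback.diagonal (H.map f) := by
      rw [pullback.diagonal, map_lift_pullbackComparison]
      apply pullback.hom_ext
      · rw [pullback.lift_fst, pullback.diagonal_fst, H.map_id]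
      · rw [pullback.lift_snd, pullback.diagonal_snd, H.map_id]
    haveI : IsIso (H.map (pullback.diagonal f) ≫ pullbackComparison H f f) := by
      rw [h1]; infer_instance
    exact IsIso.of_isIso_comp_right _ (pullbackComparison H f f)
  haveI := hΔ
  haveI : IsIso (pullback.diagonal f) := isIso_of_mono H F F' hconn (pullback.diagonal f)
  haveI : Mono f := (pullback.isIso_diagonal_iff f).1 inferInstance
  exact isIso_of_mono H F F' hconn f

lemma fiberFunctorComp (F' : D ⥤ FintypeCat.{v}) [FiberFunctor F'] (hrefl : H.ReflectsIsomorphisms) : FiberFunctor (H ⋙ F') where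
  preservesTerminalObjects := inferInstance
  preservesPullbacks := inferInstance
  preservesFiniteCoproducts := ⟨fun n => inferInstance⟩
  preservesEpis := inferInstance
  preservesQuotientsByFiniteGroups G _ _ := by
    haveI : PreservesColimitsOfShape (SingleObj G) H := by
      obtain ⟨G', hg, hf, ⟨e⟩⟩ := Finite.exists_type_univ_nonempty_mulEquiv.{v, 0} G
      haveI : PreservesColimitsOfShape (SingleObj G') H := inferInstance
      exact preservesColimitsOfShape_of_equiv e.toSingleObjEquiv.symm H
    infer_instance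
  reflectsIsos := inferInstance

end

open CategoryTheory CategoryTheory.Limits in
/-- For an exact functor H between Galois categories, H is fully faithful exactly when it carries
connected objects to connected objects (both are equivalent to surjectivity of the induced map on
fundamental groups). -/
theorem result {C : Type u} [Category.{v} C]
    [GaloisCategory C] {D : Type u} [Category.{v} D] [GaloisCategory D]
    (H : C ⥤ D) [PreservesFiniteLimits H] [PreservesFiniteColimits H] :
    (H.Full ∧ H.Faithful) ↔
      ∀ X : C, PreGaloisCategory.IsConnected X → PreGaloisCategory.IsConnected (H.obj X) := by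
  constructor
  · rintro ⟨hfull, hfaith⟩ X hX
    haveI := hX
    haveI : FiberFunctor (H ⋙ GaloisCategory.getFiberFunctor D) :=
      fiberFunctorComp H (GaloisCategory.getFiberFunctor D) inferInstance
    have hsurj := (Groth.Agent.S1187.result H (GaloisCategory.getFiberFunctor D)).2 ⟨hfull, hfaith⟩
    haveI : Nonempty ((GaloisCategory.getFiberFunctor D).obj (H.obj X)) :=
      nonempty_fiber_of_isConnected (H ⋙ GaloisCategory.getFiberFunctor D) X
    haveI : MulAction.IsPretransitive (Aut (GaloisCategory.getFiberFunctor D))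
        ((GaloisCategory.getFiberFunctor D).obj (H.obj X)) := ⟨fun a b => by
      obtain ⟨σ, hσ⟩ := MulAction.exists_smul_eq (Aut (H ⋙ GaloisCategory.getFiberFunctor D))
        (α := ((H ⋙ GaloisCategory.getFiberFunctor D).obj X : Type v)) a b
      obtain ⟨σ', rfl⟩ := hsurj σ
      exact ⟨σ', hσ⟩⟩
    exact GaloisHom.isConnected_of_isPretransitive (GaloisCategory.getFiberFunctor D) (H.obj X)
  · intro hconn
    have hrefl : H.ReflectsIsomorphisms := ⟨fun f hf =>
      isIso_of_isIso_map H (GaloisCategory.getFiberFunctor C) (GaloisCategory.getFiberFunctor D)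
        hconn f⟩
    haveI : FiberFunctor (H ⋙ GaloisCategory.getFiberFunctor D) :=
      fiberFunctorComp H (GaloisCategory.getFiberFunctor D) hrefl
    refine (Groth.Agent.S1187.result H (GaloisCategory.getFiberFunctor D)).1 ?_
    intro g
    by_contra hg
    have hgr : g ∉ (Pi1X.autWhisker H (GaloisCategory.getFiberFunctor D)).range := hg
    obtain ⟨U, hUo, hKU, hgU⟩ := GaloisHom.exists_open_subgroup_not_mem
      (Pi1X.autWhisker H (GaloisCategory.getFiberFunctor D)).range
      (GaloisHom.isClosed_range_autWhisker H (GaloisCategory.getFiberFunctor D)) hgr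
    obtain ⟨X, hX, a, ha⟩ := GaloisHom.exists_isConnected_stabilizer_eq
      (H ⋙ GaloisCategory.getFiberFunctor D) U hUo
    have hfix : ∀ σ : Aut (GaloisCategory.getFiberFunctor D), σ.hom.app (H.obj X) a = a :=
      (GaloisHom.range_autWhisker_le_stabilizer_iff H (GaloisCategory.getFiberFunctor D) a).mp
        (ha ▸ hKU)
    haveI := hconn X hX
    have hall : ∀ b : (GaloisCategory.getFiberFunctor D).obj (H.obj X), b = a := by
      intro b
      obtain ⟨σ, hσ⟩ := MulAction.exists_smul_eq (Aut (GaloisCategory.getFiberFunctor D))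
        (α := ((GaloisCategory.getFiberFunctor D).obj (H.obj X) : Type v)) a b
      rw [← hσ]
      exact hfix σ
    have h1 : g • a = a := hall (g • a)
    exact hgU (ha ▸ (show g ∈ MulAction.stabilizer
      (Aut (H ⋙ GaloisCategory.getFiberFunctor D)) a from h1))

end Groth.Agent.S0267
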