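import Groth.Statements.S0264
import Groth.Agent.Lib.Helper11.UD4

set_option autoImplicit false
universe u
open Pi1

namespace Groth.Agent.S0264

open Groth.Agent.Lib.Helper11

open AlgebraicGeometry CategoryTheory CategoryTheory.Limits in
/-- Functor form of the surjectivity part of the homotopy exact sequence: Let f : X -> S be flat, proper
and locally of finite presentation with S connected, such that for every algebraically closed field
Ω and every geometric point Spec Ω -> S the fibre X ×_S Spec Ω is connected and reduced. Then the
restriction functor FEt.restrict f, pulling back finite etale covers along f, is full and faithful. -/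
theorem result {X S : Scheme.{u}} (f : X ⟶ S) [IsProper f] [Flat f] [LocallyOfFinitePresentation f]
    [ConnectedSpace S]
    (hfib : ∀ (Ω : Type u) [Field Ω] [IsAlgClosed Ω] (s : Spec (CommRingCat.of Ω) ⟶ S),
      ConnectedSpace ↥(pullback f s) ∧ IsReduced (pullback f s)) :
    (FEt.restrict f).Full ∧ (FEt.restrict f).Faithful := by
  haveI : Surjective f := ⟨fun s => by
    haveI := (hfib (AlgebraicClosure (S.residueField s))
      (Spec.map (CommRingCat.ofHom (algebraMap (S.residueField s)
        (AlgebraicClosure (S.residueField s)))) ≫ S.fromSpecResidueField s)).1
    obtain ⟨z⟩ := (inferInstance : Nonempty ↥(pullback f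
      (Spec.map (CommRingCat.ofHom (algebraMap (S.residueField s)
        (AlgebraicClosure (S.residueField s)))) ≫ S.fromSpecResidueField s)))
    refine ⟨pullback.fst f _ z, ?_⟩
    rw [← Scheme.Hom.comp_apply, pullback.condition, Scheme.Hom.comp_apply, Scheme.Hom.comp_apply]
    have : (S.fromSpecResidueField s) (Spec.map (CommRingCat.ofHom
        (algebraMap (S.residueField s) (AlgebraicClosure (S.residueField s))))
        (pullback.snd f _ z)) ∈ Set.range (S.fromSpecResidueField s) := ⟨_, rfl⟩
    rw [Scheme.range_fromSpecResidueField] at this
    exact this⟩
  exact UD4.restrict_full_faithful f (UD4.univSubmersive_of_universallyClosed f)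
    (fun K _ _ ξ => (hfib K ξ).1)

end Groth.Agent.S0264
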