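import Groth.Statements.S2052
import Mathlib
import Groth.Agent.Lib.Helper8.UnibranchMinPrime
import Groth.Agent.Lib.Helper8.Hzl.IntegralHens
import Groth.Agent.Lib.Helper8.Hzl.IndEtaleLike
import Groth.Agent.Lib.Helper8.Hzl.Nilradical

set_option autoImplicit false
universe u
open CAlg Groth.Agent.Lib.Helper8.UnibranchHens

namespace Groth.Agent.S2052

/-- A local ring `A` is unibranch (its reduction is a domain with local integral closure) if and only if
the henselization of `A` has a unique minimal prime ideal. -/
theorem result {A Ah : Type u} [CommRing A] [IsLocalRing A]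
    [CommRing Ah] [IsLocalRing Ah] [Algebra A Ah] [IsLocalHom (algebraMap A Ah)]
    [Hensel.IsHenselization A Ah] :
    CAlg2.IsUnibranch A ↔ CAlgX.HasUniqueMinimalPrime Ah := by
  haveI hh : HenselianLocalRing Ah := Hensel.IsHenselization.henselian (R := A)
  haveI := Groth.Agent.Lib.Helper8.Hzl.henselization_faithfullyFlat A Ah
  constructor
  · rintro ⟨hdom, hloc⟩
    haveI := hdom
    haveI := hloc
    haveI : IsLocalHom (algebraMap A (CAlg2.normRed A)) :=
      Groth.Agent.Lib.Helper8.HenselSplitConv.isLocalHom_of_isIntegral A _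
    have hl : IsLocalRing (TensorProduct A (CAlg2.normRed A) Ah) :=
      Groth.Agent.Lib.Helper8.Hzl.isLocalRing_tensor A (CAlg2.normRed A) Ah
    exact hasUniqueMinimalPrime_of_isLocalRing_tensor A Ah
      (Groth.Agent.Lib.Helper8.Hzl.henselization_indEtaleLike A Ah) hdom hl
  · intro hS
    obtain ⟨h2, h3, -⟩ := unibranch_of_hasUniqueMinimalPrime A Ah
      (Groth.Agent.Lib.Helper8.Hzl.henselization_nilradical A Ah) hS
    exact ⟨h2, h3⟩


end Groth.Agent.S2052
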