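import Groth.Statements.S2331
import Groth.Agent.Lib.Helper3.TwistAmple

set_option autoImplicit false
universe u
open CategoryTheory CategoryTheory.Limits AlgebraicGeometry
open EGA2

namespace Groth.Agent.S2331

open Groth.Agent.Lib.Helper3 in

/-- Let Z be quasi-compact, f : X → Y and g : Y → Z quasi-compact morphisms, L an O_X-module ample
relative to f and K an O_Y-module ample relative to g. Then there is n₀ > 0 such that L ⊗
f^*(K^{⊗n}) is ample relative to g ∘ f for every n ≥ n₀. -/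
theorem result {X Y Z : Scheme.{u}} [CompactSpace Z] (f : X ⟶ Y) (g : Y ⟶ Z)
    [QuasiCompact f] [QuasiCompact g] (L : X.Modules) (K : Y.Modules)
    (hL : RelAmple.IsRelAmple f L) (hK : RelAmple.IsRelAmple g K) :
    ∃ n₀ : ℕ, 0 < n₀ ∧ ∀ n, n₀ ≤ n →
      RelAmple.IsRelAmple (f ≫ g) (CohB1.tensorMod L ((Scheme.Modules.pullback f).obj (CohB1.tensorPow K n))) := by
  -- a finite affine cover of `Z`
  obtain ⟨t, ht⟩ := isCompact_univ.elim_finite_subcover
    (fun V : Z.affineOpens => ((V.1 : Z.Opens) : Set Z)) (fun V => V.1.2)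
    (fun z _ => by
      obtain ⟨V, hV, hzV⟩ := QCProps.exists_affine_nbhd z
      exact Set.mem_iUnion.mpr ⟨⟨V, hV⟩, hzV⟩)
  have key : ∀ V : Z.affineOpens, ∃ n₀ : ℕ, ∀ n, n₀ ≤ n → CohB1.IsAmple
      ((CohB1.tensorMod L ((Scheme.Modules.pullback f).obj (CohB1.tensorPow K n))).restrict
        (f ⁻¹ᵁ (g ⁻¹ᵁ V.1)).ι) := fun V =>
    TwistAmple.isAmple_restrict_tensor_pullback_pow f hL (g ⁻¹ᵁ V.1) (hK.2 V)
  choose n₀ hn₀ using key
  refine ⟨t.sup n₀ + 1, Nat.succ_pos _, fun n hn => ?_⟩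
  rw [RelAmpleLib.isRelAmple_iff_of_openCover (f ≫ g) _ (fun V : t => (V.1.1 : Z.Opens))
    (by
      rw [eq_top_iff]
      intro z _
      obtain ⟨V, hV, hzV⟩ := Set.mem_iUnion₂.mp (ht (Set.mem_univ z))
      exact TopologicalSpace.Opens.mem_iSup.mpr ⟨⟨V, hV⟩, hzV⟩)]
  intro V
  haveI : IsAffine ((V.1.1 : Z.Opens) : Scheme.{u}) := V.1.2
  rw [RelAmpleLib.isRelAmple_iff_isAmple_of_isAffine]
  exact hn₀ V.1 n ((Finset.le_sup V.2).trans (Nat.le_of_succ_le hn))

end Groth.Agent.S2331
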