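import Groth.Statements.S2337
import Groth.Agent.Lib.Helper3.InvAmple

set_option autoImplicit false
universe u
open CategoryTheory CategoryTheory.Limits AlgebraicGeometry
open EGA2

namespace Groth.Agent.S2337

open Groth.Agent.Lib.Helper3 InvAmple in

/-- Let f : X → Y be quasi-compact. Then f is quasi-affine (preimages of affine opens are quasi-affine)
if and only if O_X is ample relative to f. -/
theorem result {X Y : Scheme.{u}} (f : X ⟶ Y) [QuasiCompact f] :
    Mor2.IsQuasiAffine f ↔ RelAmple.IsRelAmple f (Coh.structureModule X) := by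
  have key : ∀ W : X.Opens, Scheme.IsQuasiAffine (W : Scheme.{u}) ↔
      CohB1.IsAmple ((Coh.structureModule X).restrict W.ι) := by
    intro W
    rw [isQuasiAffine_iff_isAmple_unit]
    exact ⟨isAmple_of_iso (Scheme.Modules.restrictUnitIso W.ι).symm,
      isAmple_of_iso (Scheme.Modules.restrictUnitIso W.ι)⟩
  constructor
  · rintro ⟨hqc, h⟩
    exact ⟨hqc, fun V => (key _).mp (h V.1 V.2)⟩
  · rintro ⟨hqc, h⟩
    exact ⟨hqc, fun V hV => (key _).mpr (h ⟨V, hV⟩)⟩

end Groth.Agent.S2337
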