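import Groth.Statements.S0028
import Groth.Agent.Lib.Helper13.LocallyZero
import Groth.Agent.Lib.Helper13.AffineVanish

set_option autoImplicit false
universe u
open Coherent

namespace Groth.Agent.S0028

open AlgebraicGeometry CategoryTheory in
/-- If f : X → S is an affine morphism and F is a quasi-coherent O_X-module, then R^i f_* F = 0 for all
i > 0 (higher direct images of the underlying abelian sheaf). -/
theorem result {X S : Scheme.{u}} (f : X ⟶ S) [IsAffineHom f]
    (M : X.Modules) [Coh.IsQCoh M] (i : ℕ) (hi : 0 < i) :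
    Limits.IsZero ((Coh.RpushAb f i).obj (Coh.toAb M)) := by
  obtain ⟨j, rfl⟩ := Nat.exists_eq_succ_of_ne_zero (Nat.pos_iff_ne_zero.1 hi)
  exact Groth.Agent.Lib.Helper13.LocallyZero.isZero_Rpush_of_basis f.base (Coh.toAb M) (j + 1)
    S.affineOpens S.isBasis_affineOpens
    (fun V hV => Groth.Agent.Lib.Helper13.AffineVanish.subsingleton_HU_of_isAffineOpen M
      (AlgebraicGeometry.IsAffineOpen.preimage hV f) j)

end Groth.Agent.S0028
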