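import Groth.Statements.S3403
import Groth.Agent.Lib.Helper26.ProConsTop

set_option autoImplicit false
open CategoryTheory AlgebraicGeometry
universe u
open EGA41

namespace Groth.Agent.S3403

open Groth.Agent.Lib.Helper26.ProConsTop

/-- Let X be a scheme, E an ind-constructible subset of X and x a point of X. Then x is an interior
point of E if and only if every generization of x belongs to E. -/
theorem result (X : Scheme.{u}) (E : Set X)
    (hE : ProCons.IsIndConstructible E) (x : X) :
    x ∈ interior E ↔ ∀ x' : X, x' ⤳ x → x' ∈ E := by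
  constructor
  · intro hx x' hx'
    exact interior_subset (hx'.mem_open isOpen_interior hx)
  · intro h
    obtain ⟨U, hU, hxU, -⟩ := exists_isAffineOpen_mem_le X x ⊤ trivial
    haveI : IsAffine (U : Scheme.{u}) := hU
    have h1 := isIndConstructible_iff.mp hE U hU
    have hj := U.ι.isOpenEmbedding
    have hy : (⟨x, hxU⟩ : (U : Scheme.{u})) ∈ interior (U.ι.base ⁻¹' E) := by
      apply mem_interior_of_isOpen_cons h1
      intro y' hy'
      exact h _ (hy'.map U.ι.base.hom.continuous)
    obtain ⟨W, hWE, hW, hxW⟩ := mem_interior.mp hy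
    rw [mem_interior]
    refine ⟨U.ι.base '' W, ?_, hj.isOpenMap _ hW, ⟨_, hxW, rfl⟩⟩
    rintro _ ⟨w, hw, rfl⟩
    exact hWE hw

end Groth.Agent.S3403
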