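import Groth.Statements.S0555
-- import your own Groth.Agent.* helpers here
import Mathlib
import Groth.Agent.Lib.Helper12.DimIneqH

set_option autoImplicit false
universe u
open CAlg

namespace Groth.Agent.S0555

/-- In the situation of the dimension formula, if the Noetherian base ring is universally catenary then
equality holds. -/
theorem result (R : Type u) [CommRing R] [IsDomain R]
    (hR : CAlg.IsUniversallyCatenary R) (S : Type u) [CommRing S] [IsDomain S] [Algebra R S]
    [FaithfulSMul R S] [Algebra.FiniteType R S] (p : Ideal R) [p.IsPrime] (q : Ideal S) [q.IsPrime]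
    [q.LiesOver p] :
    (q.height : Cardinal.{u}) + Algebra.trdeg (R ⧸ p) (S ⧸ q) =
      (p.height : Cardinal.{u}) + Algebra.trdeg R S := by
  haveI : IsNoetherianRing R := hR.1
  have h := Groth.Agent.Lib.Helper12.DimIneq.dimFormula_domain p q
    (Groth.Agent.Lib.Helper12.DimIneq.LocUC.of_isUniversallyCatenary hR p)
  haveI : Algebra.FiniteType (R ⧸ p) (S ⧸ q) :=
    Algebra.FiniteType.of_restrictScalars_finiteType R (R ⧸ p) (S ⧸ q)
  have ha : Algebra.trdeg (R ⧸ p) (S ⧸ q) < Cardinal.aleph0 :=
    trdeg_lt_aleph0_of_finiteType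
  have hb : Algebra.trdeg R S < Cardinal.aleph0 := trdeg_lt_aleph0_of_finiteType
  rw [← Cardinal.ofENat_toENat_eq_self.mpr ha.le, ← Cardinal.ofENat_toENat_eq_self.mpr hb.le,
    ← Cardinal.ofENat_add, ← Cardinal.ofENat_add, Cardinal.ofENat_inj]
  exact h

end Groth.Agent.S0555
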