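import Groth.Statements.S19858
import Mathlib
import Groth.Agent.Lib.Helper14.NormalSmoothAsc
import Groth.Agent.Lib.Helper14.ComplEtale
open TensorProduct

set_option autoImplicit false
universe u
open EGA4

namespace Groth.Agent.S19858

/-- Let A → B → C be homomorphisms of Noetherian rings such that C is faithfully flat over B and the
composite A → C is a normal homomorphism (flat, with geometrically normal fibres). Then A → B is a
normal homomorphism. (In the source C is the adic completion of A along an ideal and A → C is
assumed normal; only the faithful flatness of B → C and the normality of A → C enter, so C is an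
arbitrary Noetherian ring here.) -/
theorem result (A B C : Type u)
    [CommRing A] [CommRing B] [CommRing C] [IsNoetherianRing A] [IsNoetherianRing B] [IsNoetherianRing C]
    [Algebra A B] [Algebra B C] [Algebra A C] [IsScalarTower A B C] [Module.FaithfullyFlat B C]
    (hAC : EGA4.IsNormalHom A C) : EGA4.IsNormalHom A B := by
  obtain ⟨hflat, hfib⟩ := hAC
  haveI := hflat
  haveI hAB : Module.Flat A B :=
    Groth.Agent.Lib.Helper14.ComplEtale.flat_of_faithfullyFlat_of_flat A B C
  refine ⟨hAB, ?_⟩
  intro p hp K _ _ hfin
  letI : Algebra A K := ((algebraMap p.ResidueField K).comp (algebraMap A p.ResidueField)).toAlgebra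
  haveI : IsScalarTower A p.ResidueField K := IsScalarTower.of_algebraMap_eq (fun _ => rfl)
  have h1 : EGA4.IsNormalRing (K ⊗[p.ResidueField] p.Fiber C) := hfib p K hfin
  -- transport to (B ⊗[A] K) ⊗[B] C
  have h2 : EGA4.IsNormalRing ((B ⊗[A] K) ⊗[B] C) :=
    Groth.Agent.Lib.Helper14.isNormalRing_of_ringEquiv
      ((Algebra.TensorProduct.cancelBaseChange A p.ResidueField p.ResidueField K C).toRingEquiv.trans
        ((Algebra.TensorProduct.comm A K C).toRingEquiv.trans
          ((Algebra.TensorProduct.cancelBaseChange A B B C K).symm.toRingEquiv.trans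
            (Algebra.TensorProduct.comm B C (B ⊗[A] K)).toRingEquiv))) h1
  haveI : Module.FaithfullyFlat (B ⊗[A] K) ((B ⊗[A] K) ⊗[B] C) := inferInstance
  have h3 : EGA4.IsNormalRing (B ⊗[A] K) :=
    Groth.Agent.Lib.Helper14.NormalSmoothAsc.isNormalRing_of_faithfullyFlat _ _ h2
  exact Groth.Agent.Lib.Helper14.isNormalRing_of_ringEquiv
    ((Algebra.TensorProduct.comm A B K).toRingEquiv.trans
      (Algebra.TensorProduct.cancelBaseChange A p.ResidueField p.ResidueField K
        B).symm.toRingEquiv) h3


end Groth.Agent.S19858
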