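import Groth.Statements.S9294
import Groth.Agent.Lib.Helper26.RegularHom

set_option autoImplicit false
universe u
open CAlg

namespace Groth.Agent.S9294

open Groth.Agent.Lib.Helper26.RegularHom TensorProduct

/-- If A → B and B → C are regular ring maps and every fibre ring of the composite A → C is Noetherian,
the composite is regular. -/
theorem result (A B C : Type u) [CommRing A] [CommRing B] [CommRing C]
    [Algebra A B] [Algebra B C] [Algebra A C] [IsScalarTower A B C]
    (hAB : CAlg.IsRegularHom A B) (hBC : CAlg.IsRegularHom B C)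
    (hN : ∀ (p : Ideal A) [p.IsPrime], IsNoetherianRing (p.Fiber C)) :
    CAlg.IsRegularHom A C := by
  haveI : Module.Flat A B := hAB.1
  haveI : Module.Flat B C := hBC.1
  refine ⟨Module.Flat.trans A B C, fun p hp => ⟨hN p, ?_⟩⟩
  intro k' _ _ hfin
  letI : Algebra A k' :=
    ((algebraMap p.ResidueField k').comp (algebraMap A p.ResidueField)).toAlgebra
  haveI : IsScalarTower A p.ResidueField k' := IsScalarTower.of_algebraMap_eq (fun _ => rfl)
  haveI hB0 : IsRegularRing (k' ⊗[p.ResidueField] (p.Fiber B)) := (hAB.2 p).2 k' hfin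
  haveI hB' : IsRegularRing (B ⊗[A] k') :=
    IsRegularRing.of_ringEquiv (R := k' ⊗[p.ResidueField] (p.Fiber B))
      (fiberTensorEquiv A p.ResidueField k' B)
  -- the ring `C'' = (B ⊗[A] k') ⊗[B] C`
  let Φ : (B ⊗[A] k') ⊗[B] C ≃+* k' ⊗[p.ResidueField] (p.Fiber C) :=
    ((Algebra.TensorProduct.comm B (B ⊗[A] k') C).toRingEquiv.trans
      (Algebra.TensorProduct.cancelBaseChange A B C C k').toRingEquiv).trans
      (fiberTensorEquiv A p.ResidueField k' C).symm
  haveI hNF : IsNoetherianRing (p.Fiber C) := hN p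
  haveI hN1 : IsNoetherianRing ((p.Fiber C) ⊗[p.ResidueField] k') := by
    have := Algebra.FiniteType.isNoetherianRing (p.Fiber C) ((p.Fiber C) ⊗[p.ResidueField] k')
    convert this
  haveI hN2 : IsNoetherianRing (k' ⊗[p.ResidueField] (p.Fiber C)) :=
    isNoetherianRing_of_ringEquiv _
      (Algebra.TensorProduct.comm p.ResidueField (p.Fiber C) k').toRingEquiv
  haveI hN3 : IsNoetherianRing ((B ⊗[A] k') ⊗[B] C) := isNoetherianRing_of_ringEquiv _ Φ.symm
  haveI hqf1 : Algebra.QuasiFinite A k' := Algebra.QuasiFinite.trans A p.ResidueField k'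
  haveI hqf : Algebra.QuasiFinite B (B ⊗[A] k') := inferInstance
  haveI hreg : IsRegularRing ((B ⊗[A] k') ⊗[B] C) := by
    apply Groth.Agent.Lib.Helper26.RegularAscent.isRegularRing_of_flat_of_fibers (B ⊗[A] k')
    intro q' hq'
    let q := q'.under B
    letI := Localization.AtPrime.algebraOfLiesOver q q'
    let e : q'.Fiber ((B ⊗[A] k') ⊗[B] C) ≃ₐ[q'.ResidueField]
        q'.ResidueField ⊗[q.ResidueField] (q.Fiber C) :=
      (Algebra.TensorProduct.cancelBaseChange _ _ _ _ _).trans
        (Algebra.TensorProduct.cancelBaseChange _ _ _ _ _).symm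
    haveI hfin' : Module.Finite q.ResidueField q'.ResidueField := inferInstance
    haveI := (hBC.2 q).2 q'.ResidueField hfin'
    exact IsRegularRing.of_ringEquiv (R := q'.ResidueField ⊗[q.ResidueField] (q.Fiber C))
      e.symm.toRingEquiv
  exact IsRegularRing.of_ringEquiv (R := (B ⊗[A] k') ⊗[B] C) Φ

end Groth.Agent.S9294
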