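import Groth.Statements.S9295
import Groth.Agent.Lib.Helper26.RegularHom

set_option autoImplicit false
universe u
open CAlg

namespace Groth.Agent.S9295

open Groth.Agent.Lib.Helper26.RegularHom

/-- For ring maps A → B → C, if the composite A → C is a regular map and C is flat over B with every
prime of B lying under a prime of C (that is, B → C is faithfully flat), then A → B is a regular
map. -/
theorem result (A B C : Type u) [CommRing A] [CommRing B] [CommRing C]
    [Algebra A B] [Algebra B C] [Algebra A C] [IsScalarTower A B C]
    (hAC : CAlg.IsRegularHom A C) [Module.Flat B C]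
    (hsurj : Function.Surjective (PrimeSpectrum.comap (algebraMap B C))) :
    CAlg.IsRegularHom A B := by
  haveI : Module.Flat A C := hAC.1
  haveI : Module.FaithfullyFlat B C := Module.FaithfullyFlat.of_comap_surjective hsurj
  refine ⟨flat_of_faithfullyFlat_comp A B C, fun p hp => ?_⟩
  obtain ⟨hN, hG⟩ := hAC.2 p
  constructor
  · haveI : IsNoetherianRing (TensorProduct A C p.ResidueField) :=
      isNoetherianRing_of_ringEquiv _ (Algebra.TensorProduct.comm A p.ResidueField C).toRingEquiv
    haveI := isNoetherianRing_tensor_of_faithfullyFlat A p.ResidueField B C
    exact isNoetherianRing_of_ringEquiv _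
      (Algebra.TensorProduct.comm A B p.ResidueField).toRingEquiv
  · intro k' _ _ hfin
    have h1 := hG k' hfin
    letI : Algebra A k' :=
      ((algebraMap p.ResidueField k').comp (algebraMap A p.ResidueField)).toAlgebra
    haveI : IsScalarTower A p.ResidueField k' := IsScalarTower.of_algebraMap_eq (fun _ => rfl)
    haveI : IsRegularRing (TensorProduct A C k') :=
      IsRegularRing.of_ringEquiv (R := TensorProduct p.ResidueField k' (p.Fiber C))
        (fiberTensorEquiv A p.ResidueField k' C)
    haveI := isRegularRing_tensor_of_faithfullyFlat A k' B C
    exact IsRegularRing.of_ringEquiv (R := TensorProduct A B k')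
      (fiberTensorEquiv A p.ResidueField k' B).symm

end Groth.Agent.S9295
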