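import Groth.Statements.S14624
import Mathlib
import Groth.Agent.Lib.Helper11.GenColim

set_option autoImplicit false
open CategoryTheory CategoryTheory.Limits
universe u
open Hensel

namespace Groth.Agent.S14624

open Groth.Agent.Lib.Helper11


/-- Let A be a commutative ring, m a proper ideal of A and Â the m-adic completion. Assume the
approximation property for polynomial systems: whenever finitely many polynomials over A in finitely
many variables have a common zero â in Â, then for every c there is a common zero a in A which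
agrees with â in A/m^c. Let F be a functor from A-algebras (commutative rings under A) to sets which
preserves filtered colimits, c a natural number and ξ ∈ F(Â). Then there is η ∈ F(A) whose image in
F(A/m^c) equals the image of ξ; here π is the A-algebra map Â → A/m^c (pinned by its underlying ring
map) and ρ the A-algebra map A → A/m^c. (The published statement takes for A the henselization at a
prime ideal of an algebra of finite type over a field or over an excellent discrete valuation ring,
for which the approximation property of polynomial systems is quoted; this row carries that property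
as a hypothesis and draws the published conclusion for functors.) -/
theorem result (A : Type u) [CommRing A]
    (m : Ideal A) (hm : m ≠ ⊤)
    (hAP : ∀ (k l c : ℕ) (f : Fin l → MvPolynomial (Fin k) A) (â : Fin k → AdicCompletion m A),
      (∀ i, MvPolynomial.aeval â (f i) = 0) →
      ∃ a : Fin k → A, (∀ i, MvPolynomial.eval a (f i) = 0) ∧
        ∀ j, Ideal.Quotient.mk (m ^ c) (a j) = AdicCompletion.evalₐ m c (â j))
    (F : Under (CommRingCat.of A) ⥤ Type u)
    (hF : ∀ (J : Type u) [SmallCategory J] [IsFiltered J], PreservesColimitsOfShape J F)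
    (c : ℕ)
    (π : Under.mk (CommRingCat.ofHom (algebraMap A (AdicCompletion m A))) ⟶
      Under.mk (CommRingCat.ofHom (algebraMap A (A ⧸ m ^ c))))
    (hπ : π.right = CommRingCat.ofHom
      (AdicCompletion.evalₐ m c : AdicCompletion m A →ₐ[A] A ⧸ m ^ c).toRingHom)
    (ρ : Under.mk (𝟙 (CommRingCat.of A)) ⟶ Under.mk (CommRingCat.ofHom (algebraMap A (A ⧸ m ^ c))))
    (ξ : F.obj (Under.mk (CommRingCat.ofHom (algebraMap A (AdicCompletion m A))))) :
    ∃ η : F.obj (Under.mk (𝟙 (CommRingCat.of A))), F.map ρ η = F.map π ξ := by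
  classical
  let P : ∀ (C : Type u) [CommRing C] [Algebra A C], Prop := fun _ _ _ => True
  have H : GenColim.Hyp A (AdicCompletion m A) P :=
    { iso := fun _ _ _ _ _ _ _ _ => trivial
      tensor := fun _ _ _ _ _ _ _ _ _ _ => trivial
      quot := fun _ _ _ _ _ _ _ _ => trivial
      claim := fun b => ⟨MvPolynomial (Fin 1) A, inferInstance, inferInstance,
        MvPolynomial.aeval (fun _ => b), inferInstance, trivial, MvPolynomial.X 0, by simp⟩ }
  haveI := GenColim.isFiltered H
  obtain ⟨hc⟩ := GenColim.isColimit H
  haveI := hF (GenColim.Idx A (AdicCompletion m A) P)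
  have hc' := isColimitOfPreserves F hc
  obtain ⟨s, ξs, hξs⟩ := Types.jointly_surjective_of_isColimit hc' ξ
  obtain ⟨l, fl, hfl⟩ := Submodule.fg_iff_exists_fin_generating_family.mp s.fg
  let â : Fin s.n → AdicCompletion m A := fun j => s.g (Ideal.Quotient.mk s.I (MvPolynomial.X j))
  have haev : ∀ p : MvPolynomial (Fin s.n) A,
      MvPolynomial.aeval â p = s.g (Ideal.Quotient.mk s.I p) := by
    intro p
    have e : MvPolynomial.aeval â = s.g.comp (Ideal.Quotient.mkₐ A s.I) := by
      apply MvPolynomial.algHom_ext
      intro j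
      simp [â]
    rw [e]
    rfl
  have hzero : ∀ i, MvPolynomial.aeval â (fl i) = 0 := by
    intro i
    rw [haev]
    have hmem : fl i ∈ s.I := by
      rw [← hfl]
      exact Submodule.subset_span ⟨i, rfl⟩
    rw [Ideal.Quotient.eq_zero_iff_mem.mpr hmem, map_zero]
  obtain ⟨a, ha0, hamod⟩ := hAP s.n l c fl â hzero
  have hI : ∀ p ∈ s.I, (MvPolynomial.aeval a : MvPolynomial (Fin s.n) A →ₐ[A] A) p = 0 := by
    have hle : s.I ≤ RingHom.ker
        (MvPolynomial.aeval a : MvPolynomial (Fin s.n) A →ₐ[A] A).toRingHom := by
      rw [← hfl]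
      apply Ideal.span_le.mpr
      rintro _ ⟨i, rfl⟩
      exact ha0 i
    exact fun p hp => hle hp
  let ψ : s.Q →ₐ[A] A := Ideal.Quotient.liftₐ s.I (MvPolynomial.aeval a) hI
  have hψw : ((GenColim.F A (AdicCompletion m A) P).obj s).hom ≫
      CommRingCat.ofHom ψ.toRingHom = 𝟙 (CommRingCat.of A) := by
    ext a'
    exact ψ.commutes a'
  let ψ' : (GenColim.F A (AdicCompletion m A) P).obj s ⟶ Under.mk (𝟙 (CommRingCat.of A)) :=
    Under.homMk (CommRingCat.ofHom ψ.toRingHom) hψw
  refine ⟨F.map ψ' ξs, ?_⟩
  have hρ : ρ.right.hom = algebraMap A (A ⧸ m ^ c) := by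
    have h1 := Under.w ρ
    have h2 : ρ.right = CommRingCat.ofHom (algebraMap A (A ⧸ m ^ c)) :=
      (Category.id_comp ρ.right).symm.trans h1
    rw [h2]
    rfl
  have hπ' : π.right.hom =
      (AdicCompletion.evalₐ m c : AdicCompletion m A →ₐ[A] A ⧸ m ^ c).toRingHom := by
    rw [hπ]
    rfl
  have key : (ρ.right.hom).comp ψ.toRingHom = (π.right.hom).comp s.g.toRingHom := by
    rw [hρ, hπ']
    apply Ideal.Quotient.ringHom_ext
    apply MvPolynomial.ringHom_ext
    · intro a'
      show algebraMap A (A ⧸ m ^ c) (ψ (algebraMap A s.Q a')) =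
        AdicCompletion.evalₐ m c (s.g (algebraMap A s.Q a'))
      rw [AlgHom.commutes, AlgHom.commutes, AlgHom.commutes]
      rfl
    · intro j
      show algebraMap A (A ⧸ m ^ c) (MvPolynomial.aeval a (MvPolynomial.X j)) =
        AdicCompletion.evalₐ m c (â j)
      rw [MvPolynomial.aeval_X, ← hamod j]
      rfl
  have hcomm : ψ' ≫ ρ = (GenColim.cocone A (AdicCompletion m A) P).ι.app s ≫ π := by
    apply Under.UnderMorphism.ext
    apply CommRingCat.hom_ext
    exact key
  rw [← hξs]
  have e1 : F.map ρ (F.map ψ' ξs) = F.map (ψ' ≫ ρ) ξs :=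
    (FunctorToTypes.map_comp_apply F ψ' ρ ξs).symm
  have e2 : F.map π ((F.mapCocone (GenColim.cocone A (AdicCompletion m A) P)).ι.app s ξs) =
      F.map ((GenColim.cocone A (AdicCompletion m A) P).ι.app s ≫ π) ξs :=
    (FunctorToTypes.map_comp_apply F _ π ξs).symm
  rw [e1, e2, hcomm]

end Groth.Agent.S14624
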