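import Groth.Statements.S6382
import Mathlib
import Groth.Agent.Lib.Helper8.LocalCriterion3

set_option autoImplicit false
universe u
open CAlg

namespace Groth.Agent.S6382


open TensorProduct

/-- `N ⊗[S] M` is flat over `R` when `M` is `R`-flat and `N` is `S`-flat. -/
theorem flat_tensor_of_flat {R S : Type u} [CommRing R] [CommRing S] [Algebra R S]
    (N : Type u) [AddCommGroup N] [Module S N] [Module R N] [IsScalarTower R S N] [Module.Flat S N]
    (M : Type u) [AddCommGroup M] [Module S M] [Module R M] [IsScalarTower R S M]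
    [Module.Flat R M] : Module.Flat R (N ⊗[S] M) := by
  rw [Module.Flat.iff_lTensor_injective']
  intro I
  have h1 : Function.Injective (AlgebraTensorModule.lTensor S M (I.subtype)) := by
    rw [AlgebraTensorModule.coe_lTensor]
    exact Module.Flat.lTensor_preserves_injective_linearMap (M := M) I.subtype
      (Submodule.subtype_injective I)
  have h2 : Function.Injective ((AlgebraTensorModule.lTensor S M (I.subtype)).lTensor N) :=
    Module.Flat.lTensor_preserves_injective_linearMap _ h1
  have key : ∀ z : (N ⊗[S] M) ⊗[R] I,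
      AlgebraTensorModule.assoc R S S N M R ((I.subtype.lTensor (N ⊗[S] M)) z) =
        ((AlgebraTensorModule.lTensor S M (I.subtype)).lTensor N)
          (AlgebraTensorModule.assoc R S S N M I z) := by
    intro z
    induction z using TensorProduct.induction_on with
    | zero => simp
    | tmul w a =>
      induction w using TensorProduct.induction_on with
      | zero => simp
      | tmul n m => rfl
      | add w₁ w₂ h₁ h₂ => simp only [TensorProduct.add_tmul, map_add, h₁, h₂]
    | add z₁ z₂ h₁ h₂ => simp only [map_add, h₁, h₂]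
  intro z₁ z₂ h
  apply (AlgebraTensorModule.assoc R S S N M I).injective
  apply h2
  rw [← key, ← key, h]

/-- `Tor₁(R/I, M') = 0` implies `Tor₁(R'/IR', M') = 0` for an `R'`-module `M'`. -/
theorem rTensor_map_injective {R R' : Type u} [CommRing R] [CommRing R'] [Algebra R R']
    (I : Ideal R) (I' : Ideal R') (hm : I.map (algebraMap R R') = I')
    (M' : Type u) [AddCommGroup M'] [Module R M'] [Module R' M'] [IsScalarTower R R' M']
    (h : Function.Injective (I.subtype.rTensor M')) :
    Function.Injective (I'.subtype.rTensor M') := by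
  subst hm
  have hφmem : ∀ a ∈ I, algebraMap R R' a ∈ I.map (algebraMap R R') :=
    fun a ha => Ideal.mem_map_of_mem _ ha
  let ι' : I → I.map (algebraMap R R') := fun a => ⟨algebraMap R R' a.1, hφmem a.1 a.2⟩
  have hι'add : ∀ a b, ι' (a + b) = ι' a + ι' b := fun a b => Subtype.ext (map_add _ _ _)
  have hι'smul : ∀ (r : R) (a : I), ι' (r • a) = (algebraMap R R' r) • ι' a := fun r a =>
    Subtype.ext (by
      show algebraMap R R' (r • a.1) = algebraMap R R' r • algebraMap R R' a.1
      rw [smul_eq_mul, map_mul, smul_eq_mul])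
  let Ψ : I ⊗[R] M' →+ (I.map (algebraMap R R')) ⊗[R'] M' := TensorProduct.liftAddHom
    (AddMonoidHom.mk' (fun a => AddMonoidHom.mk' (fun y => ι' a ⊗ₜ[R'] y)
        (fun y₁ y₂ => TensorProduct.tmul_add _ _ _))
      (fun a b => by
        ext y
        show ι' (a + b) ⊗ₜ[R'] y = ι' a ⊗ₜ[R'] y + ι' b ⊗ₜ[R'] y
        rw [hι'add, TensorProduct.add_tmul]))
    (fun r a y => by
      show ι' (r • a) ⊗ₜ[R'] y = ι' a ⊗ₜ[R'] (r • y)
      rw [hι'smul, TensorProduct.smul_tmul, algebraMap_smul])
  have hΨ : ∀ (a : I) (y : M'), Ψ (a ⊗ₜ[R] y) = ι' a ⊗ₜ[R'] y := fun a y => rfl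
  have hsurj : ∀ x : (I.map (algebraMap R R')) ⊗[R'] M', ∃ z, Ψ z = x := by
    intro x
    induction x using TensorProduct.induction_on with
    | zero => exact ⟨0, map_zero _⟩
    | add x₁ x₂ h₁ h₂ =>
      obtain ⟨z₁, rfl⟩ := h₁
      obtain ⟨z₂, rfl⟩ := h₂
      exact ⟨z₁ + z₂, map_add _ _ _⟩
    | tmul k y =>
      obtain ⟨k, hk⟩ := k
      have key : ∀ k (_ : k ∈ Ideal.span ((algebraMap R R') '' (I : Set R))),
          ∀ (hk : k ∈ I.map (algebraMap R R')) (y : M'),
            ∃ z, Ψ z = (⟨k, hk⟩ : I.map (algebraMap R R')) ⊗ₜ[R'] y := by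
        intro k hk0
        induction hk0 using Submodule.span_induction with
        | mem x hx =>
          obtain ⟨a, ha, rfl⟩ := hx
          intro hk y
          exact ⟨(⟨a, ha⟩ : I) ⊗ₜ[R] y, rfl⟩
        | zero =>
          intro hk y
          refine ⟨0, ?_⟩
          rw [map_zero]
          exact (TensorProduct.zero_tmul _ y).symm
        | add x₁ x₂ hx₁ hx₂ h₁ h₂ =>
          intro hk y
          obtain ⟨z₁, hz₁⟩ := h₁ hx₁ y
          obtain ⟨z₂, hz₂⟩ := h₂ hx₂ y
          refine ⟨z₁ + z₂, ?_⟩
          rw [map_add, hz₁, hz₂]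
          exact (TensorProduct.add_tmul (⟨x₁, hx₁⟩ : I.map (algebraMap R R')) ⟨x₂, hx₂⟩ y).symm
        | smul r x hx h =>
          intro hk y
          obtain ⟨z, hz⟩ := h hx (r • y)
          refine ⟨z, ?_⟩
          rw [hz]
          exact (TensorProduct.smul_tmul r (⟨x, hx⟩ : I.map (algebraMap R R')) y).symm
      exact key k hk hk y
  rw [injective_iff_map_eq_zero]
  intro x hx
  obtain ⟨z, rfl⟩ := hsurj x
  have key : ∀ z : I ⊗[R] M',
      (TensorProduct.lid R' M') (((I.map (algebraMap R R')).subtype.rTensor M') (Ψ z)) =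
        (TensorProduct.lid R M') ((I.subtype.rTensor M') z) := by
    intro z
    induction z using TensorProduct.induction_on with
    | zero => simp
    | tmul a y =>
      rw [hΨ, LinearMap.rTensor_tmul, TensorProduct.lid_tmul, LinearMap.rTensor_tmul,
        TensorProduct.lid_tmul]
      exact algebraMap_smul R' a.1 y
    | add z₁ z₂ h₁ h₂ => simp only [map_add, h₁, h₂]
  have h1 : (I.subtype.rTensor M') z = 0 := by
    apply (TensorProduct.lid R M').injective
    rw [← key, hx, map_zero, map_zero]
  have h2 : z = 0 := h (by rw [h1, map_zero])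
  rw [h2, map_zero]

/-- Consider a commutative square of local rings and local homomorphisms R → S, R → R', S → S', R' → S',
and a finite S-module M. Assume the maps R → R' and S → S' are flat, M is flat over R, the maximal
ideal of R generates the maximal ideal of R', and R', S' are Noetherian. Then M' = M ⊗_S S' (any
base change of M along S → S') is flat over R'. -/
theorem result (R S R' S' : Type u) [CommRing R] [CommRing S]
    [CommRing R'] [CommRing S'] [IsLocalRing R] [IsLocalRing S] [IsLocalRing R'] [IsLocalRing S']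
    [Algebra R S] [Algebra R R'] [Algebra S S'] [Algebra R' S'] [Algebra R S']
    [IsScalarTower R S S'] [IsScalarTower R R' S']
    [IsLocalHom (algebraMap R S)] [IsLocalHom (algebraMap R R')] [IsLocalHom (algebraMap S S')]
    [IsLocalHom (algebraMap R' S')] [Module.Flat R R'] [Module.Flat S S']
    [IsNoetherianRing R'] [IsNoetherianRing S']
    (hm : (IsLocalRing.maximalIdeal R).map (algebraMap R R') = IsLocalRing.maximalIdeal R')
    (M : Type u) [AddCommGroup M] [Module S M] [Module R M] [IsScalarTower R S M] [Module.Finite S M]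
    [Module.Flat R M]
    (M' : Type u) [AddCommGroup M'] [Module S' M'] [Module S M'] [IsScalarTower S S' M'] [Module R' M']
    [IsScalarTower R' S' M'] (j : M →ₗ[S] M') (hj : IsBaseChange S' j) :
    Module.Flat R' M' := by
  letI : Module R M' := Module.compHom M' (algebraMap R R')
  haveI : IsScalarTower R R' M' := IsScalarTower.of_algebraMap_smul (fun _ _ => rfl)
  have hRS' : ∀ (r : R) (y : M'), algebraMap R S' r • y = r • y := by
    intro r y
    rw [IsScalarTower.algebraMap_apply R R' S' r, algebraMap_smul]
    rfl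
  haveI : IsScalarTower R S' M' := IsScalarTower.of_algebraMap_smul hRS'
  haveI : Module.Flat R (S' ⊗[S] M) := flat_tensor_of_flat (R := R) (S := S) S' M
  haveI hflatR : Module.Flat R M' :=
    Module.Flat.of_linearEquiv (hj.equiv.restrictScalars R).symm
  haveI : Module.Finite S' M' := Module.Finite.equiv hj.equiv
  have hI : (IsLocalRing.maximalIdeal R').map (algebraMap R' S') ≤ Ideal.jacobson ⊥ := by
    rw [IsLocalRing.jacobson_eq_maximalIdeal ⊥ bot_ne_top]
    have hloc : IsLocalHom (algebraMap R' S') := inferInstance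
    exact ((IsLocalRing.local_hom_TFAE (algebraMap R' S')).out 0 2).mp hloc
  refine Groth.Agent.Lib.Helper8.flat_of_local_criterion_of_finite (A := R') (B := S')
    (IsLocalRing.maximalIdeal R') hI M' ?_ ?_
  · letI : Field (R' ⧸ IsLocalRing.maximalIdeal R') := Ideal.Quotient.field _
    infer_instance
  · exact rTensor_map_injective (IsLocalRing.maximalIdeal R) (IsLocalRing.maximalIdeal R') hm M'
      (Module.Flat.iff_rTensor_injective'.mp hflatR _)

end Groth.Agent.S6382
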