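import Groth.Statements.S9237
import Mathlib
import Groth.Agent.Lib.Helper8.BranchCount
import Groth.Agent.Lib.Helper8.Hzl.Transfer

set_option autoImplicit false
universe u
open Brnch

namespace Groth.Agent.S9237

/-- Let A be a local ring and S a henselization of A. Then the number of minimal prime ideals of S, a
natural number or infinity, equals the number of branches of A as computed from the integral closure
of A_red in its total ring of fractions: infinity if A has infinitely many minimal primes, and
otherwise the number of maximal ideals of that integral closure. -/
theorem result (A S : Type u) [CommRing A]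
    [IsLocalRing A] [CommRing S] [IsLocalRing S] [Algebra A S] [IsLocalHom (algebraMap A S)]
    [Hensel.IsHenselization A S] :
    ENat.card (minimalPrimes S) = Brnch.numBranches A := by
  haveI : Module.Flat A S := Groth.Agent.Lib.Helper8.Hzl.henselization_flat A S
  haveI : HenselianLocalRing S := Hensel.IsHenselization.henselian (R := A)
  have hind := Groth.Agent.Lib.Helper8.Hzl.henselization_indEtaleLike A S
  by_cases hfin : (minimalPrimes A).Finite
  · rw [show Brnch.numBranches A = _ from if_pos hfin]
    refine Groth.Agent.Lib.Helper8.BranchCount.card_minimalPrimes_eq A S hfin hind ?_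
    intro b
    obtain ⟨y, hy⟩ := (Groth.Agent.Lib.Helper8.Hzl.henselization_residue_bijective A S).2
      (IsLocalRing.residue S b)
    obtain ⟨a, rfl⟩ := IsLocalRing.residue_surjective y
    refine ⟨a, ?_⟩
    rw [IsLocalRing.ResidueField.map_residue] at hy
    rw [← IsLocalRing.residue_eq_zero_iff, map_sub, hy, sub_self]
  · rw [show Brnch.numBranches A = _ from if_neg hfin]
    haveI : Module.FaithfullyFlat A S := Groth.Agent.Lib.Helper8.Hzl.henselization_faithfullyFlat A S
    have := Groth.Agent.Lib.Helper8.BranchCount.infinite_minimalPrimes_of_faithfullyFlat A S hfin
    haveI : Infinite (minimalPrimes S) := Set.infinite_coe_iff.mpr this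
    exact ENat.card_eq_top_of_infinite

end Groth.Agent.S9237
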