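import Groth.Statements.S4755
import Mathlib
import Groth.Agent.Lib.Helper14.ComplQuot
import Groth.Agent.Lib.Helper14.QuotFiber
import Groth.Agent.Lib.Helper22.DetGen
open TensorProduct

set_option autoImplicit false
universe u
open EGA4

namespace Groth.Agent.S4755

/-- For the property 'Cohen–Macaulay', case of a local ring: if the formal fibres of a Noetherian local
ring A are Cohen–Macaulay, then so are the formal fibres of A/I for every proper ideal I of A. -/
theorem result (A : Type u) [CommRing A] [IsNoetherianRing A] [IsLocalRing A]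
    (hA : EGA4.HasCMFormalFibres A) (I : Ideal A) [Nontrivial (A ⧸ I)] :
    EGA4.HasCMFormalFibres (A ⧸ I) := by
  letI : Algebra (Cpl A) (Cpl (A ⧸ I)) :=
    (Groth.Agent.Lib.Helper14.ComplFlat.cplMap A (A ⧸ I)).toAlgebra
  haveI : IsScalarTower A (Cpl A) (Cpl (A ⧸ I)) :=
    Groth.Agent.Lib.Helper14.ComplFlat.cplMap_isScalarTower A (A ⧸ I)
  haveI : Algebra.IsPushout A (A ⧸ I) (Cpl A) (Cpl (A ⧸ I)) :=
    Groth.Agent.Lib.Helper14.ComplQuot.isPushout_quotient A I
  intro P hP
  change LocCoh.IsCohenMacaulayRing (P.Fiber (Cpl (A ⧸ I)))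
  haveI : (P.under A).IsPrime := Ideal.IsPrime.under A P
  have H := Groth.Agent.Lib.Helper14.QuotFiber.residueField_mapₐ_bijective_of_surjective A (A ⧸ I)
    Ideal.Quotient.mk_surjective (P.under A) P
  obtain ⟨e⟩ := Groth.Agent.Lib.Helper14.QuotFiber.nonempty_fiber_ringEquiv A (Cpl A) (A ⧸ I)
    (Cpl (A ⧸ I)) (P.under A) P H
  haveI : LocCoh.IsCohenMacaulayRing ((P.under A).Fiber (Cpl A)) := hA (P.under A)
  exact Groth.Agent.Lib.Helper22.CMG.isCMRing_of_ringEquiv e.symm


end Groth.Agent.S4755
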