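import Mathlib
import Groth.Agent.Lib.Helper20.LCNonVanish
import Groth.Agent.Lib.Helper20.LCIndep2
import Groth.Statements.S0328
-- import your own Groth.Agent.* helpers here

set_option autoImplicit false
universe u v
open LocCoh

open Groth.Agent.Lib.Helper4.LC

namespace Groth.Agent.S0328

/-- In a Noetherian local ring, if a prime p and a proper ideal I together have radical the maximal
ideal and dim R/p = d ≥ 1, then local cohomology with support in I does not vanish in all degrees ≥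
d. -/
theorem result (R : Type u) [CommRing R] [IsLocalRing R] [IsNoetherianRing R] (I : Ideal R) (hI : I ≠ ⊤) (p : Ideal R) [p.IsPrime] (hpI : (p ⊔ I).radical = IsLocalRing.maximalIdeal R) (d : ℕ) (hd : ringKrullDim (R ⧸ p) = d) (hd1 : 1 ≤ d) : ¬ LocCoh.CdLE R I (d - 1) := by
  intro hcd
  haveI : Nontrivial (R ⧸ p) := Ideal.Quotient.nontrivial_iff.2 (Ideal.IsPrime.ne_top inferInstance)
  haveI : IsLocalRing (R ⧸ p) :=
    IsLocalRing.of_surjective' (Ideal.Quotient.mk p) Ideal.Quotient.mk_surjective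
  haveI : IsLocalHom (algebraMap R (R ⧸ p)) :=
    IsLocalHom.of_surjective _ Ideal.Quotient.mk_surjective
  have hcomap : (IsLocalRing.maximalIdeal (R ⧸ p)).comap (algebraMap R (R ⧸ p)) =
      IsLocalRing.maximalIdeal R := IsLocalRing.maximalIdeal_comap _
  have hrad : (I.map (algebraMap R (R ⧸ p))).radical = IsLocalRing.maximalIdeal (R ⧸ p) := by
    apply le_antisymm
    · rw [(IsLocalRing.maximalIdeal.isMaximal (R ⧸ p)).isPrime.radical_le_iff,
        Ideal.map_le_iff_le_comap, hcomap, ← hpI]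
      exact le_trans le_sup_right Ideal.le_radical
    · intro x' hx'
      obtain ⟨x, rfl⟩ := Ideal.Quotient.mk_surjective x'
      have hx : x ∈ (p ⊔ I).radical := by
        rw [hpI, ← hcomap]; exact hx'
      obtain ⟨n, hn⟩ := hx
      refine ⟨n, ?_⟩
      obtain ⟨a, ha, b, hb, hab⟩ := Submodule.mem_sup.1 hn
      have h1 : (algebraMap R (R ⧸ p)) x ^ n = (algebraMap R (R ⧸ p)) b := by
        rw [← map_pow, ← hab, map_add]
        have : (algebraMap R (R ⧸ p)) a = 0 := Ideal.Quotient.eq_zero_iff_mem.2 ha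
        rw [this, zero_add]
      show (algebraMap R (R ⧸ p)) x ^ n ∈ _
      rw [h1]
      exact Ideal.mem_map_of_mem _ hb
  have hJK : (I.map (algebraMap R (R ⧸ p))).radical =
      (IsLocalRing.maximalIdeal (R ⧸ p)).radical := by
    rw [hrad, (IsLocalRing.maximalIdeal.isMaximal (R ⧸ p)).isPrime.radical]
  have hnv : Nontrivial (LocCoh.H (IsLocalRing.maximalIdeal (R ⧸ p)) d (R ⧸ p)) :=
    (nontrivial_H_iff _ (R ⧸ p) d).2
      (Groth.Agent.Lib.Helper20.LCNonVanish.nontrivial_top d (R ⧸ p)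
        ((Module.supportDim_self_eq_ringKrullDim (R := R ⧸ p)).trans hd))
  let e := ((localCohomology.isoOfSameRadical hJK d).app (ModuleCat.of (R ⧸ p) (R ⧸ p))).toLinearEquiv
  have h1 : Nontrivial (LocCoh.H (I.map (algebraMap R (R ⧸ p))) d (R ⧸ p)) :=
    e.toEquiv.nontrivial
  have h2 : Nontrivial (HH (I.map (algebraMap R (R ⧸ p))) (ModuleCat.of (R ⧸ p) (R ⧸ p)) d) :=
    (nontrivial_H_iff _ (R ⧸ p) d).1 h1
  obtain ⟨φ, -⟩ := Groth.Agent.Lib.Helper20.LCIndep2.exists_addEquiv (R ⧸ p) I (R ⧸ p) d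
  have h3 : Nontrivial (HH I (ModuleCat.of R (R ⧸ p)) d) := φ.symm.toEquiv.nontrivial
  have h4 : Subsingleton (LocCoh.H I d (R ⧸ p)) := hcd (R ⧸ p) d (by omega)
  have h5 : Subsingleton (HH I (ModuleCat.of R (R ⧸ p)) d) := (subsingleton_H_iff _ _ d).1 h4
  exact not_subsingleton _ h5

end Groth.Agent.S0328
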