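import Groth.Statements.S5154
import Groth.Agent.Lib.Helper4.Hartshorne
import Groth.Agent.Lib.Helper4.Catenary
import Mathlib.RingTheory.Ideal.MinimalPrime.Noetherian

set_option autoImplicit false
universe u
open LocCoh

namespace Groth.Agent.S5154

/-- Let A be a Noetherian local ring which is catenary and such that depth A_p ≥ 2 for every prime p
with dim A_p ≥ 2. Then all irreducible components of Spec A have dimension dim A: for every minimal
prime p, dim A/p = dim A. -/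
theorem result (A : Type u) [CommRing A] [IsLocalRing A] [IsNoetherianRing A] (hc : CAlg.IsCatenary A) (h : ∀ p : PrimeSpectrum A, (2 : ℕ∞) ≤ p.asIdeal.height → (2 : ℕ∞) ≤ LocCoh.depth (Localization.AtPrime p.asIdeal) (Localization.AtPrime p.asIdeal)) (p : Ideal A) (hp : p ∈ minimalPrimes A) : ringKrullDim (A ⧸ p) = ringKrullDim A := by
  classical
  by_contra hne
  set P2 : Set (Ideal A) :=
    {q | q ∈ minimalPrimes A ∧ ringKrullDim (A ⧸ q) = ringKrullDim (A ⧸ p)} with hP2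
  set P1 : Set (Ideal A) :=
    {q | q ∈ minimalPrimes A ∧ ringKrullDim (A ⧸ q) ≠ ringKrullDim (A ⧸ p)} with hP1
  have hP : P1 ∪ P2 = minimalPrimes A := by
    ext q
    constructor
    · rintro (h | h) <;> exact h.1
    · intro hq
      by_cases e : ringKrullDim (A ⧸ q) = ringKrullDim (A ⧸ p)
      · exact Or.inr ⟨hq, e⟩
      · exact Or.inl ⟨hq, e⟩
  have hdisj : Disjoint P1 P2 := Set.disjoint_left.mpr fun q h1 h2 => h1.2 h2.2
  have hfin1 : P1.Finite := (minimalPrimes.finite_of_isNoetherianRing A).subset fun q h => h.1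
  have hfin2 : P2.Finite := (minimalPrimes.finite_of_isNoetherianRing A).subset fun q h => h.1
  have hJ : ∀ (P : Set (Ideal A)) (hfin : P.Finite), ∀ Q : Ideal A, Q.IsPrime →
      (hfin.toFinset.inf id ≤ Q ↔ ∃ q ∈ P, q ≤ Q) := by
    intro P hfin Q hQ
    rw [Ideal.IsPrime.inf_le' hQ]
    simp
  have hP1ne : P1.Nonempty := by
    by_contra hemp
    rw [Set.not_nonempty_iff_eq_empty] at hemp
    apply hne
    apply le_antisymm (ringKrullDim_quotient_le p)
    rw [ringKrullDim, Order.krullDim_eq_iSup_coheight]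
    apply iSup_le
    intro x
    obtain ⟨q, hq, hqx⟩ := Ideal.exists_minimalPrimes_le (bot_le : (⊥ : Ideal A) ≤ x.asIdeal)
    have hqdim : ringKrullDim (A ⧸ q) = ringKrullDim (A ⧸ p) := by
      by_contra hq'
      exact (Set.eq_empty_iff_forall_notMem.mp hemp q) ⟨hq, hq'⟩
    rw [← hqdim]
    have hqp : q.IsPrime := hq.1.1
    rw [Groth.Agent.Lib.Helper4.ringKrullDim_quotient_eq_coheight ⟨q, hqp⟩]
    exact_mod_cast Order.coheight_anti (show (⟨q, hqp⟩ : PrimeSpectrum A) ≤ x from hqx)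
  have hP2ne : P2.Nonempty := ⟨p, hp, rfl⟩
  have hJ1m : hfin1.toFinset.inf id ≤ IsLocalRing.maximalIdeal A := by
    obtain ⟨q, hq⟩ := hP1ne
    exact (hJ P1 hfin1 _ inferInstance).mpr ⟨q, hq, IsLocalRing.le_maximalIdeal hq.1.1.1.ne_top⟩
  have hJ2m : hfin2.toFinset.inf id ≤ IsLocalRing.maximalIdeal A := by
    obtain ⟨q, hq⟩ := hP2ne
    exact (hJ P2 hfin2 _ inferInstance).mpr ⟨q, hq, IsLocalRing.le_maximalIdeal hq.1.1.1.ne_top⟩
  have hne_top : hfin1.toFinset.inf id ⊔ hfin2.toFinset.inf id ≠ ⊤ := fun e =>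
    (IsLocalRing.maximalIdeal.isMaximal A).ne_top (top_le_iff.mp (e ▸ sup_le hJ1m hJ2m))
  obtain ⟨⟨Q, hQ⟩⟩ := Ideal.nonempty_minimalPrimes hne_top
  haveI hQp : Q.IsPrime := hQ.1.1
  obtain ⟨⟨p1, hp1, p2, hp2, h1Q, h2Q⟩, hdepth⟩ :=
    Groth.Agent.Lib.Helper4.hartshorne_split P1 P2 hP hdisj _ _ (hJ P1 hfin1) (hJ P2 hfin2) Q hQ
  have hht : ¬ (2 : ℕ∞) ≤ Q.height := fun h2 => hdepth (h ⟨Q, hQp⟩ h2)
  have hcov : ∀ (q : Ideal A) (hq : q.IsPrime), q < Q →
      (⟨q, hq⟩ : PrimeSpectrum A) ⋖ ⟨Q, hQp⟩ := by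
    intro q hq hqQ
    refine ⟨hqQ, fun w hqw hwQ => hht ?_⟩
    haveI := w.2
    have h1 : w.asIdeal.height + 1 ≤ Q.height :=
      Ideal.height_add_one_le_of_lt_of_isPrime hwQ
    have h0 : q.height + 1 ≤ w.asIdeal.height :=
      Ideal.height_add_one_le_of_lt_of_isPrime hqw
    calc (2 : ℕ∞) = 0 + 1 + 1 := by norm_num
      _ ≤ q.height + 1 + 1 := by gcongr; exact zero_le
      _ ≤ w.asIdeal.height + 1 := by gcongr
      _ ≤ Q.height := h1
  have e1 := Groth.Agent.Lib.Helper4.coheight_eq_add_one_of_covBy hc (hcov p1 hp1.1.1.1 h1Q)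
  have e2 := Groth.Agent.Lib.Helper4.coheight_eq_add_one_of_covBy hc (hcov p2 hp2.1.1.1 h2Q)
  have d1 : ringKrullDim (A ⧸ p1) = ringKrullDim (A ⧸ p2) := by
    rw [Groth.Agent.Lib.Helper4.ringKrullDim_quotient_eq_coheight ⟨p1, hp1.1.1.1⟩,
      Groth.Agent.Lib.Helper4.ringKrullDim_quotient_eq_coheight ⟨p2, hp2.1.1.1⟩, e1, e2]
  exact hp1.2 (d1.trans hp2.2)

end Groth.Agent.S5154
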