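import Groth.Statements.S2462
import Mathlib
import Groth.Agent.S0545
import Groth.Agent.Lib.Helper6.FSAdic

set_option autoImplicit false
universe u
open EGA41

namespace Groth.Agent.S2462

open IsLocalRing

section glue
variable {A B C : Type*} [CommRing A] [CommRing B] [CommRing C] [Algebra A B] [Algebra A C]

lemma glue (I₁ I₂ : Ideal C) (f₁ : B →ₐ[A] C ⧸ I₁) (f₂ : B →ₐ[A] C ⧸ I₂)
    (h : ∀ b c₁ c₂, f₁ b = Ideal.Quotient.mk I₁ c₁ → f₂ b = Ideal.Quotient.mk I₂ c₂ →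
      c₁ - c₂ ∈ I₁ ⊔ I₂) :
    ∃ f : B →ₐ[A] C ⧸ (I₁ ⊓ I₂), ∀ b c, f b = Ideal.Quotient.mk _ c →
      f₁ b = Ideal.Quotient.mk I₁ c ∧ f₂ b = Ideal.Quotient.mk I₂ c := by
  let φ : C ⧸ (I₁ ⊓ I₂) →ₐ[A] (C ⧸ I₁) × (C ⧸ I₂) :=
    AlgHom.prod (Ideal.Quotient.factorₐ A inf_le_left) (Ideal.Quotient.factorₐ A inf_le_right)
  have hφ : ∀ c : C, φ (Ideal.Quotient.mk _ c) =
      (Ideal.Quotient.mk I₁ c, Ideal.Quotient.mk I₂ c) := fun c => rfl
  have hinj : Function.Injective φ := by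
    rw [injective_iff_map_eq_zero]
    intro x hx
    obtain ⟨c, rfl⟩ := Ideal.Quotient.mk_surjective x
    rw [hφ, Prod.mk_eq_zero, Ideal.Quotient.eq_zero_iff_mem, Ideal.Quotient.eq_zero_iff_mem] at hx
    exact Ideal.Quotient.eq_zero_iff_mem.mpr ⟨hx.1, hx.2⟩
  have hrange : ∀ b, (AlgHom.prod f₁ f₂) b ∈ φ.range := by
    intro b
    obtain ⟨c₁, h₁⟩ := Ideal.Quotient.mk_surjective (f₁ b)
    obtain ⟨c₂, h₂⟩ := Ideal.Quotient.mk_surjective (f₂ b)
    obtain ⟨x, hx, y, hy, hxy⟩ := Submodule.mem_sup.mp (h b c₁ c₂ h₁.symm h₂.symm)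
    refine ⟨Ideal.Quotient.mk _ (c₁ - x), ?_⟩
    change φ (Ideal.Quotient.mk _ (c₁ - x)) = (f₁ b, f₂ b)
    rw [hφ]
    refine Prod.ext ?_ ?_
    · change Ideal.Quotient.mk I₁ (c₁ - x) = f₁ b
      rw [← h₁, Ideal.Quotient.eq]
      have : c₁ - x - c₁ = -x := by ring
      rw [this]; exact I₁.neg_mem hx
    · change Ideal.Quotient.mk I₂ (c₁ - x) = f₂ b
      rw [← h₂, Ideal.Quotient.eq]
      have : c₁ - x - c₂ = y := by linear_combination -hxy
      rw [this]; exact hy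
  let e := AlgEquiv.ofInjective φ hinj
  refine ⟨e.symm.toAlgHom.comp ((AlgHom.prod f₁ f₂).codRestrict φ.range hrange), ?_⟩
  intro b c hbc
  have h1 : φ (e.symm ((AlgHom.prod f₁ f₂).codRestrict φ.range hrange b)) = (f₁ b, f₂ b) := by
    have := e.apply_symm_apply ((AlgHom.prod f₁ f₂).codRestrict φ.range hrange b)
    have h2 := congrArg Subtype.val this
    exact h2
  have h3 : φ (Ideal.Quotient.mk _ c) = (f₁ b, f₂ b) := by
    rw [← hbc]; exact h1
  rw [hφ] at h3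
  exact ⟨(congrArg Prod.fst h3).symm, (congrArg Prod.snd h3).symm⟩

end glue

section step
variable {A B C : Type u} [CommRing A] [CommRing B] [Algebra A B] [CommRing C] [IsLocalRing C]
  [Algebra A C]

lemma kills {I : Ideal C} (𝔟 : Ideal B) (k : ℕ) (hI : maximalIdeal C ^ k ≤ I)
    (f : B →ₐ[A] C ⧸ I)
    (hf : ∀ b ∈ 𝔟, ∀ c, f b = Ideal.Quotient.mk I c → c ∈ maximalIdeal C) :
    ∀ x ∈ 𝔟 ^ k, f x = 0 := by
  have h1 : 𝔟.map f ≤ (maximalIdeal C).map (Ideal.Quotient.mk I) := by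
    rw [Ideal.map_le_iff_le_comap]
    intro b hb
    obtain ⟨c, hc⟩ := Ideal.Quotient.mk_surjective (f b)
    rw [Ideal.mem_comap, ← hc]
    exact Ideal.mem_map_of_mem _ (hf b hb c hc.symm)
  have h2 : (𝔟 ^ k).map f ≤ ⊥ := by
    rw [Ideal.map_pow]
    refine (Ideal.pow_right_mono h1 k).trans ?_
    rw [← Ideal.map_pow, Ideal.map_le_iff_le_comap]
    intro x hx
    rw [Ideal.mem_comap, Ideal.mem_bot]
    exact Ideal.Quotient.eq_zero_iff_mem.mpr (hI hx)
  intro x hx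
  have := h2 (Ideal.mem_map_of_mem f hx)
  simpa using this

lemma step (𝔞 : Ideal A) (𝔟 : Ideal B) (hB : EGA41.IsFormallySmoothAdic A 𝔞 B 𝔟)
    (hA : 𝔞.map (algebraMap A C) ≤ maximalIdeal C) (J : Ideal C) (hJ : J ≤ maximalIdeal C)
    (u : B →ₐ[A] C ⧸ J)
    (hu : ∀ b ∈ 𝔟, ∀ c, u b = Ideal.Quotient.mk J c → c ∈ maximalIdeal C)
    (n : ℕ) (v : B →ₐ[A] C ⧸ maximalIdeal C ^ (n + 1))
    (hv : ∀ b c c', v b = Ideal.Quotient.mk _ c → u b = Ideal.Quotient.mk J c' →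
      c - c' ∈ J ⊔ maximalIdeal C ^ (n + 1)) :
    ∃ v' : B →ₐ[A] C ⧸ maximalIdeal C ^ (n + 1 + 1),
      (∀ b c c', v' b = Ideal.Quotient.mk _ c → u b = Ideal.Quotient.mk J c' →
        c - c' ∈ J ⊔ maximalIdeal C ^ (n + 1 + 1)) ∧
      ∀ b c, v' b = Ideal.Quotient.mk _ c → v b = Ideal.Quotient.mk _ c := by
  let f₂ : B →ₐ[A] C ⧸ (J ⊔ maximalIdeal C ^ (n + 1 + 1)) := (Ideal.Quotient.factorₐ A (le_sup_left : J ≤ (J ⊔ maximalIdeal C ^ (n + 1 + 1)))).comp u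
  have hf₂ : ∀ b c', u b = Ideal.Quotient.mk J c' → f₂ b = Ideal.Quotient.mk (J ⊔ maximalIdeal C ^ (n + 1 + 1)) c' := by
    intro b c' h
    change Ideal.Quotient.factorₐ A (le_sup_left : J ≤ (J ⊔ maximalIdeal C ^ (n + 1 + 1))) (u b) = _
    rw [h]; rfl
  obtain ⟨f, hf⟩ := glue (maximalIdeal C ^ (n + 1)) (J ⊔ maximalIdeal C ^ (n + 1 + 1)) v f₂ (by
    intro b c₁ c₂ h₁ h₂
    obtain ⟨c', hc'⟩ := Ideal.Quotient.mk_surjective (u b)
    have h3 := hv b c₁ c' h₁ hc'.symm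
    have h4 : c' - c₂ ∈ (J ⊔ maximalIdeal C ^ (n + 1 + 1)) := Ideal.Quotient.eq.mp ((hf₂ b c' hc'.symm).symm.trans h₂)
    have h5 : J ⊔ (maximalIdeal C ^ (n + 1)) ≤ (maximalIdeal C ^ (n + 1)) ⊔ (J ⊔ maximalIdeal C ^ (n + 1 + 1)) :=
      sup_le ((le_sup_left : J ≤ (J ⊔ maximalIdeal C ^ (n + 1 + 1))).trans le_sup_right) le_sup_left
    have : c₁ - c₂ = (c₁ - c') + (c' - c₂) := by ring
    rw [this]
    exact add_mem (h5 h3) (Ideal.mem_sup_right h4))
  have hle : maximalIdeal C ^ (n + 1 + 1) ≤ (maximalIdeal C ^ (n + 1)) ⊓ (J ⊔ maximalIdeal C ^ (n + 1 + 1)) :=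
    le_inf (Ideal.pow_le_pow_right (Nat.le_succ _)) le_sup_right
  have hIm : (maximalIdeal C ^ (n + 1)) ⊓ (J ⊔ maximalIdeal C ^ (n + 1 + 1)) ≤ maximalIdeal C := inf_le_left.trans (Ideal.pow_le_self (Nat.succ_ne_zero n))
  let π : C ⧸ maximalIdeal C ^ (n + 1 + 1) →ₐ[A] C ⧸ ((maximalIdeal C ^ (n + 1)) ⊓ (J ⊔ maximalIdeal C ^ (n + 1 + 1))) := Ideal.Quotient.factorₐ A hle
  have hπ : Function.Surjective π := Ideal.Quotient.factor_surjective hle
  have hmk0 : (maximalIdeal C ^ (n + 1 + 1)).map (Ideal.Quotient.mk (maximalIdeal C ^ (n + 1 + 1))) = ⊥ :=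
    Ideal.map_quotient_self _
  have hnil : IsNilpotent (RingHom.ker π) := by
    refine ⟨n + 1 + 1, ?_⟩
    have h1 : RingHom.ker π ≤ (maximalIdeal C).map (Ideal.Quotient.mk (maximalIdeal C ^ (n + 1 + 1))) := by
      intro x hx
      obtain ⟨c, rfl⟩ := Ideal.Quotient.mk_surjective x
      have h2 : Ideal.Quotient.mk ((maximalIdeal C ^ (n + 1)) ⊓ (J ⊔ maximalIdeal C ^ (n + 1 + 1))) c = 0 := RingHom.mem_ker.mp hx
      exact Ideal.mem_map_of_mem _ (hIm (Ideal.Quotient.eq_zero_iff_mem.mp h2))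
    rw [Ideal.zero_eq_bot, eq_bot_iff]
    refine (Ideal.pow_right_mono h1 _).trans ?_
    exact le_of_eq (by rw [← Ideal.map_pow, hmk0])
  have hC : ∃ k : ℕ, (𝔞 ^ k).map (algebraMap A (C ⧸ maximalIdeal C ^ (n + 1 + 1))) = ⊥ := by
    refine ⟨n + 1 + 1, ?_⟩
    rw [eq_bot_iff, Ideal.map_le_iff_le_comap]
    intro a ha
    rw [Ideal.mem_comap, Ideal.mem_bot]
    have h1 : algebraMap A C a ∈ maximalIdeal C ^ (n + 1 + 1) := by
      have h2 : algebraMap A C a ∈ (𝔞 ^ (n + 1 + 1)).map (algebraMap A C) :=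
        Ideal.mem_map_of_mem _ ha
      rw [Ideal.map_pow] at h2
      exact Ideal.pow_right_mono hA _ h2
    change Ideal.Quotient.mk _ (algebraMap A C a) = 0
    exact Ideal.Quotient.eq_zero_iff_mem.mpr h1
  have hfk : ∃ k : ℕ, ∀ x ∈ 𝔟 ^ k, f x = 0 := by
    refine ⟨n + 1 + 1, kills 𝔟 (n + 1 + 1) hle f ?_⟩
    intro b hb c hc
    obtain ⟨c', hc'⟩ := Ideal.Quotient.mk_surjective (u b)
    have h1 := hv b c c' (hf b c hc).1 hc'.symm
    have h2 := hu b hb c' hc'.symm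
    have h3 : J ⊔ (maximalIdeal C ^ (n + 1)) ≤ maximalIdeal C := sup_le hJ (Ideal.pow_le_self (Nat.succ_ne_zero n))
    have : c = (c - c') + c' := by ring
    rw [this]
    exact add_mem (h3 h1) h2
  obtain ⟨v', hv'⟩ :=
    Groth.Agent.Lib.Helper6.FSAdic.exists_lift_of_surjective hB π hπ hnil hC f hfk
  have hv'f : ∀ b c, v' b = Ideal.Quotient.mk _ c → f b = Ideal.Quotient.mk _ c := by
    intro b c h
    have := AlgHom.congr_fun hv' b
    rw [← this]
    change π (v' b) = _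
    rw [h]; rfl
  refine ⟨v', ?_, ?_⟩
  · intro b c c' h h'
    have h1 := (hf b c (hv'f b c h)).2
    rw [hf₂ b c' h', Ideal.Quotient.eq] at h1
    have : c - c' = -(c' - c) := by ring
    rw [this]; exact neg_mem h1
  · intro b c h
    exact (hf b c (hv'f b c h)).1

abbrev T (J : Ideal C) (u : B →ₐ[A] C ⧸ J) (n : ℕ) : Type u :=
  {v : B →ₐ[A] C ⧸ maximalIdeal C ^ (n + 1) //
      ∀ b c c', v b = Ideal.Quotient.mk _ c → u b = Ideal.Quotient.mk J c' →
        c - c' ∈ J ⊔ maximalIdeal C ^ (n + 1)}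

end step

open IsLocalRing in
/-- Let A carry the 𝔞-adic and B the 𝔟-adic topology with B formally smooth over A; let C be a complete
Noetherian local A-algebra with 𝔞C inside the maximal ideal (continuity of A → C) and J ≠ C an
ideal. Then every A-algebra homomorphism u : B → C/J sending 𝔟 into the maximal ideal of C/J
(continuity) is induced by an A-algebra homomorphism v : B → C sending 𝔟 into the maximal ideal of
C. -/
theorem result {A B C : Type u} [CommRing A] (𝔞 : Ideal A) [CommRing B] [Algebra A B] (𝔟 : Ideal B)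
    (hB : EGA41.IsFormallySmoothAdic A 𝔞 B 𝔟)
    [CommRing C] [IsLocalRing C] [IsNoetherianRing C] [IsAdicComplete (maximalIdeal C) C] [Algebra A C]
    (hA : 𝔞.map (algebraMap A C) ≤ maximalIdeal C) (J : Ideal C) (hJ : J ≠ ⊤)
    (u : B →ₐ[A] C ⧸ J) (hu : 𝔟.map u.toRingHom ≤ (maximalIdeal C).map (Ideal.Quotient.mk J)) :
    ∃ v : B →ₐ[A] C, 𝔟.map v.toRingHom ≤ maximalIdeal C ∧ (Ideal.Quotient.mkₐ A J).comp v = u := by
  have hJ𝔪 : J ≤ maximalIdeal C := IsLocalRing.le_maximalIdeal hJ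
  have hu' : ∀ b ∈ 𝔟, ∀ c, u b = Ideal.Quotient.mk J c → c ∈ maximalIdeal C := by
    intro b hb c hc
    have h1 : u b ∈ (maximalIdeal C).map (Ideal.Quotient.mk J) :=
      hu (Ideal.mem_map_of_mem u.toRingHom hb)
    rw [hc, Ideal.mem_map_iff_of_surjective _ Ideal.Quotient.mk_surjective] at h1
    obtain ⟨c', hc', hcc'⟩ := h1
    have h2 : c' - c ∈ J := Ideal.Quotient.eq.mp hcc'
    have : c = c' - (c' - c) := by ring
    rw [this]
    exact (maximalIdeal C).sub_mem hc' (hJ𝔪 h2)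
  have h01 : J ≤ maximalIdeal C ^ (0 + 1) := by rw [zero_add, pow_one]; exact hJ𝔪
  let v0 : B →ₐ[A] C ⧸ maximalIdeal C ^ (0 + 1) := (Ideal.Quotient.factorₐ A h01).comp u
  have hv0 : ∀ b c c', v0 b = Ideal.Quotient.mk _ c → u b = Ideal.Quotient.mk J c' →
      c - c' ∈ J ⊔ maximalIdeal C ^ (0 + 1) := by
    intro b c c' h h'
    have h1 : v0 b = Ideal.Quotient.mk _ c' := by
      change Ideal.Quotient.factorₐ A h01 (u b) = _
      rw [h']; rfl
    rw [h1, Ideal.Quotient.eq] at h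
    have : c - c' = -(c' - c) := by ring
    rw [this]
    exact neg_mem (Ideal.mem_sup_right h)
  have hstep : ∀ n (v : T J u n), ∃ v' : T J u (n + 1),
      ∀ b c, v'.1 b = Ideal.Quotient.mk _ c → v.1 b = Ideal.Quotient.mk _ c := by
    intro n v
    obtain ⟨v', h1, h2⟩ := step 𝔞 𝔟 hB hA J hJ𝔪 u hu' n v.1 v.2
    exact ⟨⟨v', h1⟩, h2⟩
  choose next hnext using hstep
  let seq : ∀ n, T J u n := fun n =>
    Nat.rec (motive := T J u) ⟨v0, hv0⟩ (fun n v => next n v) n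
  have hseq1 : ∀ n b c, (seq (n + 1)).1 b = Ideal.Quotient.mk _ c →
      (seq n).1 b = Ideal.Quotient.mk _ c := fun n => hnext n (seq n)
  have hseq : ∀ m n, m ≤ n → ∀ b c, (seq n).1 b = Ideal.Quotient.mk _ c →
      (seq m).1 b = Ideal.Quotient.mk _ c := by
    intro m n hmn
    induction n, hmn using Nat.le_induction with
    | base => intro b c h; exact h
    | succ n hmn ih => intro b c h; exact ih b c (hseq1 n b c h)
  let F : ∀ n, B →ₐ[A] C ⧸ maximalIdeal C ^ n := fun n =>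
    (Ideal.Quotient.factorₐ A (Ideal.pow_le_pow_right (Nat.le_succ n))).comp (seq n).1
  have hF : ∀ n b c, (seq n).1 b = Ideal.Quotient.mk _ c → F n b = Ideal.Quotient.mk _ c := by
    intro n b c h
    change Ideal.Quotient.factorₐ A (Ideal.pow_le_pow_right (Nat.le_succ n)) ((seq n).1 b) = _
    rw [h]; rfl
  have hFcompat : ∀ {m n : ℕ} (hle : m ≤ n),
      (Ideal.Quotient.factorₐ A (Ideal.pow_le_pow_right hle)).comp (F n) = F m := by
    intro m n hle
    ext b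
    obtain ⟨c, hc⟩ := Ideal.Quotient.mk_surjective ((seq n).1 b)
    have h1 := hF n b c hc.symm
    have h2 := hF m b c (hseq m n hle b c hc.symm)
    change Ideal.Quotient.factorₐ A (Ideal.pow_le_pow_right hle) (F n b) = F m b
    rw [h1, h2]; rfl
  let v : B →ₐ[A] C := IsAdicComplete.liftAlgHom (maximalIdeal C) F hFcompat
  have hv : ∀ n b, Ideal.Quotient.mk (maximalIdeal C ^ n) (v b) = F n b := fun n b =>
    IsAdicComplete.mk_liftAlgHom (maximalIdeal C) F hFcompat n b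
  have hkey : ∀ n b c', u b = Ideal.Quotient.mk J c' →
      v b - c' ∈ J ⊔ maximalIdeal C ^ n := by
    intro n b c' hc'
    obtain ⟨c, hc⟩ := Ideal.Quotient.mk_surjective ((seq n).1 b)
    have h1 : v b - c ∈ maximalIdeal C ^ n := by
      rw [← Ideal.Quotient.eq, hv n b, hF n b c hc.symm]
    have h2 := (seq n).2 b c c' hc.symm hc'
    have h3 : J ⊔ maximalIdeal C ^ (n + 1) ≤ J ⊔ maximalIdeal C ^ n :=
      sup_le_sup_left (Ideal.pow_le_pow_right (Nat.le_succ n)) J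
    have : v b - c' = (v b - c) + (c - c') := by ring
    rw [this]
    exact add_mem (Ideal.mem_sup_right h1) (h3 h2)
  have hK : maximalIdeal C ≤ Ideal.jacobson ⊥ :=
    (IsLocalRing.jacobson_eq_maximalIdeal ⊥ bot_ne_top).ge
  refine ⟨v, ?_, ?_⟩
  · rw [Ideal.map_le_iff_le_comap]
    intro b hb
    rw [Ideal.mem_comap]
    change v b ∈ maximalIdeal C
    obtain ⟨c', hc'⟩ := Ideal.Quotient.mk_surjective (u b)
    have h1 := hkey 1 b c' hc'.symm
    have h2 := hu' b hb c' hc'.symm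
    have h3 : J ⊔ maximalIdeal C ^ 1 ≤ maximalIdeal C := by
      rw [pow_one]; exact sup_le hJ𝔪 le_rfl
    have : v b = (v b - c') + c' := by ring
    rw [this]
    exact add_mem (h3 h1) h2
  · ext b
    obtain ⟨c', hc'⟩ := Ideal.Quotient.mk_surjective (u b)
    have h1 : v b - c' ∈ J :=
      Groth.Agent.S0545.mem_of_forall_mem_sup_pow (maximalIdeal C) J hK _
        (fun k => hkey k b c' hc'.symm)
    change Ideal.Quotient.mk J (v b) = u b
    rw [← hc', Ideal.Quotient.eq]; exact h1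

end Groth.Agent.S2462
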