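import Groth.Statements.S11179
import Mathlib

set_option autoImplicit false
universe u
open CategoryTheory
attribute [local instance] HasDerivedCategory.standard
open Goren

namespace Groth.Agent.S11179

open DerivedCategory Abelian

/-- Morphisms `X[0] ⟶ Y[0]⟦i⟧` vanish for `i < 0`. -/
theorem subsingleton_hom_neg {C : Type*} [Category C] [Abelian C] [HasDerivedCategory C]
    (X Y : C) (i : ℤ) (hi : i < 0) :
    Subsingleton ((singleFunctor C 0).obj X ⟶ ((singleFunctor C 0).obj Y)⟦i⟧) := by
  haveI : (((singleFunctor C 0).obj Y)⟦i⟧).IsGE (-i) :=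
    DerivedCategory.TStructure.t.isGE_shift _ 0 i (-i) (by omega)
  exact ⟨fun f g => by
    rw [DerivedCategory.TStructure.t.zero f 0 (-i) (by omega),
      DerivedCategory.TStructure.t.zero g 0 (-i) (by omega)]⟩

/-- `a ↦ a • 𝟙` is a bijection `A → End_A(A)`. -/
theorem smul_id_bijective (A : Type u) [CommRing A] :
    Function.Bijective (fun a : A => a • 𝟙 (ModuleCat.of A A)) := by
  constructor
  · intro a b hab
    have := congrArg (fun f : ModuleCat.of A A ⟶ ModuleCat.of A A => f.hom (1 : A)) hab
    simpa using this
  · intro f
    refine ⟨f.hom (1 : A), ?_⟩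
    ext
    simp

/-- A Noetherian local ring A is Gorenstein (A has finite injective dimension as a module over itself)
if and only if the complex A[0] is a dualizing complex for A (finite injective dimension expressed
by vanishing of maps M[0] → A[i] in D(A) outside a bounded range, finite cohomology, A → End(A[0])
bijective and no self-maps of nonzero degree). -/
theorem result (A : Type u) [CommRing A] [IsLocalRing A] [IsNoetherianRing A] : LocCoh.IsGorensteinLocalRing A ↔ Dual.IsDualizing A (Dual.inD A A) := by
  constructor
  · intro hG
    obtain ⟨n, hn⟩ := hG.exists_hasInjectiveDimensionLT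
    refine ⟨inferInstance, ⟨0, (n : ℤ), ?_⟩, ?_, ?_, ?_⟩
    · intro M _ _ i hi
      rcases hi with hi | hi
      · exact subsingleton_hom_neg _ _ i hi
      · obtain ⟨k, rfl⟩ := Int.eq_ofNat_of_zero_le (by omega : 0 ≤ i)
        haveI := HasInjectiveDimensionLT.subsingleton.{u} (ModuleCat.of A A) n k (by omega)
          (ModuleCat.of A M)
        exact (Ext.homEquiv (X := ModuleCat.of A M) (Y := ModuleCat.of A A) (n := k)).symm.subsingleton
    · intro i
      by_cases hi : i = 0
      · subst hi
        haveI : Module.Finite A ↑((𝟭 (ModuleCat.{u} A)).obj (ModuleCat.of A A)) :=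
          inferInstanceAs (Module.Finite A A)
        exact Module.Finite.equiv
          ((singleFunctorCompHomologyFunctorIso (ModuleCat.{u} A) 0).app
            (ModuleCat.of A A)).symm.toLinearEquiv
      · have hz : Limits.IsZero ((homologyFunctor (ModuleCat.{u} A) i).obj (Dual.inD A A)) := by
          rcases lt_or_gt_of_ne hi with h | h
          · exact isZero_of_isGE _ 0 i h
          · exact isZero_of_isLE _ 0 i h
        haveI := ModuleCat.subsingleton_of_isZero hz
        infer_instance
    · have h1 := smul_id_bijective A
      have h2 : Function.Bijective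
          (fun f : ModuleCat.of A A ⟶ ModuleCat.of A A =>
            (singleFunctor (ModuleCat.{u} A) 0).map f) :=
        ⟨(singleFunctor (ModuleCat.{u} A) 0).map_injective,
          (singleFunctor (ModuleCat.{u} A) 0).map_surjective⟩
      convert h2.comp h1 using 1
      funext a
      simp [Functor.map_smul]
    · intro i hi
      rcases lt_or_gt_of_ne hi with h | h
      · exact subsingleton_hom_neg _ _ i h
      · obtain ⟨k, rfl⟩ := Int.eq_ofNat_of_zero_le (by omega : 0 ≤ i)
        obtain ⟨k, rfl⟩ : ∃ j, k = j + 1 := ⟨k - 1, by omega⟩
        haveI : Projective (ModuleCat.of A A) := inferInstance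
        haveI := Ext.subsingleton_of_projective.{u} (ModuleCat.of A A) (ModuleCat.of A A) k
        exact (Ext.homEquiv (X := ModuleCat.of A A) (Y := ModuleCat.of A A)
          (n := k + 1)).symm.subsingleton
  · intro hD
    obtain ⟨a, b, h⟩ := hD.finite_injective_dimension
    refine { exists_hasInjectiveDimensionLT := ⟨(b + 1).toNat, ?_⟩ }
    refine HasInjectiveDimensionLT.mk.{u} (fun i hi Y e => ?_)
    haveI := h Y (i : ℤ) (Or.inr (by omega))
    exact (Ext.homEquiv (X := Y) (Y := ModuleCat.of A A) (n := i)).injective
      (Subsingleton.elim _ _)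

end Groth.Agent.S11179
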