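import Groth.Statements.S11185
import Mathlib
import Groth.Agent.S11179
import Groth.Agent.S0563
import Groth.Agent.Lib.Helper26.SerreReg

set_option autoImplicit false
universe u
open CategoryTheory
attribute [local instance] HasDerivedCategory.standard
open Dual

namespace Groth.Agent.S11185

open DerivedCategory Abelian

/-- Let A be a Noetherian ring all of whose local rings A_p at primes are regular and whose Krull
dimension is finite. Then the complex A[0] is a dualizing complex for A (finite injective dimension,
finite cohomology, A → End(A[0]) bijective and no self-maps of nonzero degree). -/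
theorem result (A : Type u) [CommRing A] [IsNoetherianRing A] (hreg : ∀ p : PrimeSpectrum A, IsRegularLocalRing (Localization.AtPrime p.asIdeal)) (hdim : ringKrullDim A < ⊤) : Dual.IsDualizing A (Dual.inD A A) := by
  classical
  obtain ⟨d, hd⟩ : ∃ d : ℕ, ringKrullDim A ≤ (d : WithBot ℕ∞) := by
    generalize ringKrullDim A = x at hdim
    induction x with
    | bot => exact ⟨0, bot_le⟩
    | coe y =>
      induction y with
      | top => exact absurd hdim (lt_irrefl _)
      | coe n => exact ⟨n, le_rfl⟩
  have key : ∀ m : MaximalSpectrum A,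
      HasInjectiveDimensionLE ((ModuleCat.of A A).localizedModule m.1.primeCompl) d := by
    intro m
    haveI : m.1.IsPrime := m.2.isPrime
    haveI hr : IsRegularLocalRing (Localization.AtPrime m.1) := hreg ⟨m.1, m.2.isPrime⟩
    obtain ⟨dm, hdm⟩ := Groth.Agent.Lib.Helper26.SerreReg.exists_nat_ringKrullDim
      (Localization.AtPrime m.1)
    have hle : dm ≤ d := by
      have h1 := IsLocalization.AtPrime.ringKrullDim_eq_height m.1 (Localization.AtPrime m.1)
      have h2 : (m.1.height : WithBot ℕ∞) ≤ ringKrullDim A :=
        Ideal.height_le_ringKrullDim_of_isPrime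
      have h3 : ((dm : ℕ) : WithBot ℕ∞) ≤ (d : WithBot ℕ∞) := by
        rw [← hdm, h1]
        exact h2.trans hd
      exact_mod_cast h3
    refine HasInjectiveDimensionLT.mk (fun i hi Y e => ?_)
    haveI := Groth.Agent.S0563.result (Localization.AtPrime m.1) dm hdm Y
    exact e.eq_zero_of_hasProjectiveDimensionLT (dm + 1) (by omega)
  haveI hinj : HasInjectiveDimensionLT (ModuleCat.of A A) (d + 1) :=
    ((ModuleCat.of A A).hasInjectiveDimensionLE_iff_forall_maximalSpectrum d).2 key
  refine ⟨inferInstance, ⟨0, ((d + 1 : ℕ) : ℤ), ?_⟩, ?_, ?_, ?_⟩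
  · intro M _ _ i hi
    rcases hi with hi | hi
    · exact Groth.Agent.S11179.subsingleton_hom_neg _ _ i hi
    · obtain ⟨k, rfl⟩ := Int.eq_ofNat_of_zero_le (by omega : 0 ≤ i)
      haveI := HasInjectiveDimensionLT.subsingleton.{u} (ModuleCat.of A A) (d + 1) k (by omega)
        (ModuleCat.of A M)
      exact (Ext.homEquiv (X := ModuleCat.of A M) (Y := ModuleCat.of A A) (n := k)).symm.subsingleton
  · intro i
    by_cases hi : i = 0
    · subst hi
      haveI : Module.Finite A ↑((𝟭 (ModuleCat.{u} A)).obj (ModuleCat.of A A)) :=
        inferInstanceAs (Module.Finite A A)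
      exact Module.Finite.equiv
        ((singleFunctorCompHomologyFunctorIso (ModuleCat.{u} A) 0).app
          (ModuleCat.of A A)).symm.toLinearEquiv
    · have hz : Limits.IsZero ((homologyFunctor (ModuleCat.{u} A) i).obj (Dual.inD A A)) := by
        rcases lt_or_gt_of_ne hi with h | h
        · exact isZero_of_isGE _ 0 i h
        · exact isZero_of_isLE _ 0 i h
      haveI := ModuleCat.subsingleton_of_isZero hz
      infer_instance
  · have h1 := Groth.Agent.S11179.smul_id_bijective A
    have h2 : Function.Bijective
        (fun f : ModuleCat.of A A ⟶ ModuleCat.of A A =>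
          (singleFunctor (ModuleCat.{u} A) 0).map f) :=
      ⟨(singleFunctor (ModuleCat.{u} A) 0).map_injective,
        (singleFunctor (ModuleCat.{u} A) 0).map_surjective⟩
    convert h2.comp h1 using 1
    funext a
    simp [Functor.map_smul]
  · intro i hi
    rcases lt_or_gt_of_ne hi with h | h
    · exact Groth.Agent.S11179.subsingleton_hom_neg _ _ i h
    · obtain ⟨k, rfl⟩ := Int.eq_ofNat_of_zero_le (by omega : 0 ≤ i)
      obtain ⟨k, rfl⟩ : ∃ j, k = j + 1 := ⟨k - 1, by omega⟩
      haveI : Projective (ModuleCat.of A A) := inferInstance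
      haveI := Ext.subsingleton_of_projective.{u} (ModuleCat.of A A) (ModuleCat.of A A) k
      exact (Ext.homEquiv (X := ModuleCat.of A A) (Y := ModuleCat.of A A)
        (n := k + 1)).symm.subsingleton

end Groth.Agent.S11185
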