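import Groth.Statements.S0376
import Groth.Agent.S0580
import Groth.Agent.S11185
import Groth.Agent.Lib.Helper18.DimI
import Groth.Agent.Lib.Helper26.RegularCompletion
import Groth.Agent.Lib.Helper26.RegularRing

set_option autoImplicit false
universe u v
open CategoryTheory
attribute [local instance] HasDerivedCategory.standard
open Dual

namespace Groth.Agent.S0376

/-- A complete Noetherian local ring has a dualizing complex. -/
theorem result (A : Type u) [CommRing A] [IsLocalRing A] [IsNoetherianRing A] [IsAdicComplete (IsLocalRing.maximalIdeal A) A] : ∃ ω : Dual.D A, Dual.IsDualizing A ω := by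
  classical
  have hfg : (IsLocalRing.maximalIdeal A).FG := Ideal.fg_of_isNoetherianRing _
  obtain ⟨Λ, instΛ, n, f, hΛ, hf⟩ := Groth.Agent.S0580.result A hfg
  -- the power series ring is a regular local ring in both cases
  have key : ∀ (hloc : IsLocalRing Λ) (hreg : IsRegularRing Λ),
      ∃ ω : Dual.D A, Dual.IsDualizing A ω := by
    intro hloc hreg
    haveI := hloc
    haveI := hreg
    haveI : IsRegularRing (MvPowerSeries (Fin n) Λ) :=
      Groth.Agent.Lib.Helper26.RegularCompletion.isRegularRing_mvPowerSeries Λ n
    haveI : IsNoetherianRing (MvPowerSeries (Fin n) Λ) := inferInstance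
    have hdim : ringKrullDim (MvPowerSeries (Fin n) Λ) < ⊤ := ringKrullDim_lt_top
    have h1 : Dual.IsDualizing (MvPowerSeries (Fin n) Λ)
        (Dual.inD (MvPowerSeries (Fin n) Λ) (MvPowerSeries (Fin n) Λ)) :=
      Groth.Agent.S11185.result (MvPowerSeries (Fin n) Λ)
        (fun p => IsRegularRing.isRegularLocalRing_localization p.asIdeal) hdim
    letI : Algebra (MvPowerSeries (Fin n) Λ) A := f.toAlgebra
    haveI : Module.Finite (MvPowerSeries (Fin n) Λ) A :=
      Module.Finite.of_surjective (Algebra.linearMap (MvPowerSeries (Fin n) Λ) A) hf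
    exact ⟨_, Groth.Agent.Lib.Helper18.DR.Bid.isDualizing_rightAdjoint
      (A := MvPowerSeries (Fin n) Λ) (B := A)
      (Groth.Agent.Lib.Helper18.DR.Shr.coextD (algebraMap (MvPowerSeries (Fin n) Λ) A))
      (Groth.Agent.Lib.Helper18.DR.Shr.coextAdj (algebraMap (MvPowerSeries (Fin n) Λ) A)) _ h1⟩
  rcases hΛ with hfield | hcohen
  · letI := hfield.toField
    exact key inferInstance inferInstance
  · obtain ⟨hdom, hdvr, -, -⟩ := hcohen
    haveI := hdom
    haveI := hdvr
    exact key inferInstance inferInstance

end Groth.Agent.S0376
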