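import Groth.Statements.S0332
import Groth.Agent.Lib.Helper4.HLVT
import Groth.Agent.Lib.Helper7.ComplLim
import Groth.Agent.Lib.Helper8.ComplDim
import Groth.Agent.S11617

set_option autoImplicit false
universe u v
open LocCoh

namespace Groth.Agent.S0332

/-- Let R be Noetherian local of dimension d with completion R^; suppose that for every minimal prime p
of R^ with dim R^/p = d the quotient of R^ by I R^ + p has Krull dimension at least 1 (i.e. some
prime containing I R^ + p is not maximal). Then local cohomology with support in I vanishes in all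
degrees ≥ d for every module. -/
theorem result (R : Type u) [CommRing R] [IsLocalRing R] [IsNoetherianRing R] (I : Ideal R) (d : ℕ) (hd : ringKrullDim R = d) (h : ∀ p ∈ minimalPrimes (AdicCompletion (IsLocalRing.maximalIdeal R) R), ringKrullDim (AdicCompletion (IsLocalRing.maximalIdeal R) R ⧸ p) = d → 1 ≤ ringKrullDim (AdicCompletion (IsLocalRing.maximalIdeal R) R ⧸ (I.map (algebraMap R (AdicCompletion (IsLocalRing.maximalIdeal R) R)) ⊔ p))) (M : Type u) [AddCommGroup M] [Module R M] (i : ℕ) (hi : d ≤ i) : Subsingleton (LocCoh.H I i M) := by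
  classical
  haveI : IsNoetherianRing (AdicCompletion (IsLocalRing.maximalIdeal R) R) :=
    Groth.Agent.Lib.Helper7.ComplLim.isNoetherianRing_compl R
  have hdim' : ringKrullDim (AdicCompletion (IsLocalRing.maximalIdeal R) R) = d :=
    (Groth.Agent.Lib.Helper8.ringKrullDim_adicCompletion R).trans hd
  haveI : Module.Flat R (AdicCompletion (IsLocalRing.maximalIdeal R) R) := inferInstance
  haveI : Module.FaithfullyFlat R (AdicCompletion (IsLocalRing.maximalIdeal R) R) :=
    Module.FaithfullyFlat.of_flat_of_isLocalHom
  obtain ⟨e⟩ := Groth.Agent.S11617.result R (AdicCompletion (IsLocalRing.maximalIdeal R) R) I M i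
  have hvan : Subsingleton (LocCoh.H
      (I.map (algebraMap R (AdicCompletion (IsLocalRing.maximalIdeal R) R))) i
      (TensorProduct R (AdicCompletion (IsLocalRing.maximalIdeal R) R) M)) := by
    rw [Groth.Agent.Lib.Helper4.LC.subsingleton_H_iff]
    exact Groth.Agent.Lib.Helper4.HLVT.hlvt_complete
      (I.map (algebraMap R (AdicCompletion (IsLocalRing.maximalIdeal R) R))) d hdim' h _ i hi
  haveI : Subsingleton (TensorProduct R (AdicCompletion (IsLocalRing.maximalIdeal R) R)
      (LocCoh.H I i M)) := @Equiv.subsingleton _ _ e.toEquiv hvan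
  exact Module.FaithfullyFlat.lTensor_reflects_triviality R
    (AdicCompletion (IsLocalRing.maximalIdeal R) R) (LocCoh.H I i M)

end Groth.Agent.S0332
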