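import Mathlib
import Groth.Agent.Lib.Helper20.LCFlat
import Groth.Agent.Lib.Helper20.LCIndep2
import Groth.Statements.S0380
-- import your own Groth.Agent.* helpers here

set_option autoImplicit false
universe u v
open LocCoh

namespace Groth.Agent.S0380

/-- Local cohomology with support in I vanishes above degree d on all modules exactly when, for every
prime p, local cohomology over A_p with support in I A_p vanishes above degree d on all A_p-modules. -/
theorem result (R : Type u) [CommRing R] [IsNoetherianRing R] (I : Ideal R) (d : ℕ) : LocCoh.CdLE R I d ↔ ∀ (p : Ideal R) [p.IsPrime], LocCoh.CdLE (Localization.AtPrime p) (I.map (algebraMap R (Localization.AtPrime p))) d := by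
  constructor
  · intro h p _ M' _ _ i hi
    let B := Localization.AtPrime p
    let _ : Module R M' := Module.compHom M' (algebraMap R B)
    have : IsScalarTower R B M' := IsScalarTower.of_algebraMap_smul (fun r x => rfl)
    obtain ⟨φ, -⟩ := Groth.Agent.Lib.Helper20.LCIndep2.exists_addEquiv B I M' i
    have h1 : Subsingleton (LocCoh.H I i M') := h M' i hi
    have h2 : Subsingleton (Groth.Agent.Lib.Helper4.LC.HH I (ModuleCat.of R M') i) :=
      (Groth.Agent.Lib.Helper4.LC.lcEquiv I (ModuleCat.of R M') i).symm.toEquiv.subsingleton
    have h3 : Subsingleton (Groth.Agent.Lib.Helper4.LC.HH (I.map (algebraMap R B))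
        (ModuleCat.of B M') i) := φ.toEquiv.subsingleton
    exact (Groth.Agent.Lib.Helper4.LC.lcEquiv (I.map (algebraMap R B))
      (ModuleCat.of B M') i).toEquiv.subsingleton
  · intro h M _ _ i hi
    suffices hs : Subsingleton (Groth.Agent.Lib.Helper4.LC.HH I (ModuleCat.of R M) i) from
      (Groth.Agent.Lib.Helper4.LC.lcEquiv I (ModuleCat.of R M) i).toEquiv.subsingleton
    rw [← Module.support_eq_empty_iff (R := R), Set.eq_empty_iff_forall_notMem]
    intro p
    rw [Module.notMem_support_iff]
    let B := Localization.AtPrime p.asIdeal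
    have hflat : Module.Flat R B := inferInstance
    obtain ⟨e⟩ := Groth.Agent.Lib.Helper20.LCFlat.nonempty_baseChange_equiv B I i M
    have h1 : Subsingleton (LocCoh.H (I.map (algebraMap R B)) i (TensorProduct R B M)) :=
      h p.asIdeal (TensorProduct R B M) i hi
    have h2 : Subsingleton (Groth.Agent.Lib.Helper4.LC.HH (I.map (algebraMap R B))
        (ModuleCat.of B (TensorProduct R B M)) i) :=
      (Groth.Agent.Lib.Helper4.LC.lcEquiv (I.map (algebraMap R B))
        (ModuleCat.of B (TensorProduct R B M)) i).symm.toEquiv.subsingleton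
    have h3 : Subsingleton (TensorProduct R B (Groth.Agent.Lib.Helper4.LC.HH I (ModuleCat.of R M) i)) :=
      e.toEquiv.subsingleton
    exact (LocalizedModule.equivTensorProduct p.asIdeal.primeCompl
      (Groth.Agent.Lib.Helper4.LC.HH I (ModuleCat.of R M) i)).toEquiv.subsingleton

end Groth.Agent.S0380
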