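import Groth.Statements.S5161
import Mathlib
import Groth.Agent.Lib.Helper20.LCTransform2
import Groth.Agent.Lib.Helper20.LCIndep2
import Groth.Agent.Lib.Helper20.LCNonVanish2

set_option autoImplicit false
universe u
open AlgebraicGeometry
open LocCoh

namespace Groth.Agent.S5161


namespace H5161

open CategoryTheory AlgebraicGeometry Opposite Groth.Agent.Lib.Helper4.LC

/-- vanishing of `H^i_I(A)`, `i ≥ 2`, when `A → B` has `I`-power torsion kernel and cokernel and
`IB = B`. -/
theorem alg_vanish (A : Type u) [CommRing A] [IsNoetherianRing A] (B : Type u) [CommRing B]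
    [IsNoetherianRing B] [Algebra A B] (I : Ideal A)
    (hker : LocCoh.IsPowerTorsion I (LinearMap.ker (Algebra.linearMap A B)))
    (hcoker : LocCoh.IsPowerTorsion I (B ⧸ LinearMap.range (Algebra.linearMap A B)))
    (htop : I.map (algebraMap A B) = ⊤) (k : ℕ) :
    Subsingleton (HH I (ModuleCat.of A A) (k + 1 + 1)) := by
  have hbij := Groth.Agent.Lib.Helper20.LCTransform2.HH_map_bijective_of_torsion I
    (Algebra.linearMap A B) hker hcoker k
  obtain ⟨φ, -⟩ := Groth.Agent.Lib.Helper20.LCIndep2.exists_addEquiv B I B (k + 1 + 1)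
  have h1 : Subsingleton (HH (I.map (algebraMap A B)) (ModuleCat.of B B) (k + 1 + 1)) := by
    rw [htop]
    apply HH.subsingleton_of_smul_injective ⊤ 1 Submodule.mem_top
    intro a b hab
    simpa using hab
  have h2 : Subsingleton (HH I (ModuleCat.of A B) (k + 1 + 1)) := φ.symm.toEquiv.subsingleton
  exact hbij.1.subsingleton

theorem alg_main (A : Type u) [CommRing A] [IsNoetherianRing A] (B : Type u) [CommRing B]
    [IsNoetherianRing B] [Algebra A B] (I : Ideal A)
    (hker : LocCoh.IsPowerTorsion I (LinearMap.ker (Algebra.linearMap A B)))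
    (hcoker : LocCoh.IsPowerTorsion I (B ⧸ LinearMap.range (Algebra.linearMap A B)))
    (htop : I.map (algebraMap A B) = ⊤) (p : Ideal A) (hp : p ∈ I.minimalPrimes) :
    p.height ≤ 1 := by
  haveI : p.IsPrime := hp.1.1
  by_contra hlt
  push_neg at hlt
  have hfin : p.height ≠ ⊤ := Ideal.height_ne_top hp.1.1.ne_top
  obtain ⟨h, hh⟩ := ENat.ne_top_iff_exists.1 hfin
  have h2 : 2 ≤ h := by
    have h3 : (1 : ℕ∞) < (h : ℕ∞) := hh ▸ hlt
    have h4 : 1 < h := by exact_mod_cast h3
    omega
  obtain ⟨k, rfl⟩ : ∃ k, h = k + 1 + 1 := ⟨h - 2, by omega⟩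
  have hnt := Groth.Agent.Lib.Helper20.LCNonVanish.nontrivial_H_of_mem_minimalPrimes A I p hp
    (k + 1 + 1) hh.symm
  rw [nontrivial_H_iff] at hnt
  have hss := alg_vanish A B I hker hcoker htop k
  exact not_subsingleton _ hss

lemma isPowerTorsion_of_forall {A : Type u} [CommRing A] [IsNoetherianRing A] (I : Ideal A)
    {M : Type u} [AddCommGroup M] [Module A M]
    (h : ∀ a ∈ I, ∀ m : M, ∃ n : ℕ, a ^ n • m = 0) : LocCoh.IsPowerTorsion I M := by
  intro m
  let J : Ideal A := LinearMap.ker (LinearMap.toSpanSingleton A M m)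
  have hIJ : I ≤ J.radical := by
    intro a ha
    obtain ⟨n, hn⟩ := h a ha m
    exact ⟨n, by simpa [J, LinearMap.mem_ker, LinearMap.toSpanSingleton_apply] using hn⟩
  obtain ⟨k, hk⟩ := Ideal.exists_pow_le_of_le_radical_of_fg hIJ (IsNoetherian.noetherian I)
  refine ⟨k, fun a ha => ?_⟩
  have := hk ha
  simpa [J, LinearMap.mem_ker, LinearMap.toSpanSingleton_apply] using this

section geom

variable (R : CommRingCat.{u})

lemma res_algebraMap {U V : (Spec R).Opens} (h : V ≤ U) (x : R) :
    (Spec R).presheaf.map (homOfLE h).op (algebraMap R Γ(Spec R, U) x) =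
    algebraMap R Γ(Spec R, V) x := by
  change ((Scheme.ΓSpecIso R).inv ≫
      (Spec R).presheaf.map (homOfLE (le_top : U ≤ ⊤)).op ≫
      (Spec R).presheaf.map (homOfLE h).op) x =
    ((Scheme.ΓSpecIso R).inv ≫
      (Spec R).presheaf.map (homOfLE (le_top : V ≤ ⊤)).op) x
  rw [← Functor.map_comp]
  rfl

lemma basicOpen_algebraMap (U : (Spec R).Opens) (a : R) :
    (Spec R).basicOpen (algebraMap R Γ(Spec R, U) a) =
      U ⊓ PrimeSpectrum.basicOpen a := by
  have h1 : algebraMap R Γ(Spec R, U) a =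
      (Spec R).presheaf.map (homOfLE (le_top : U ≤ ⊤)).op
        ((Scheme.ΓSpecIso R).inv a) := rfl
  rw [h1, Scheme.basicOpen_res, basicOpen_eq_of_affine]

lemma ker_torsion' (U V : (Spec R).Opens) (a : R) [IsLocalization.Away a Γ(Spec R, V)]
    (ha : V ≤ U) (x : R) (hx : algebraMap R Γ(Spec R, U) x = 0) :
    ∃ n : ℕ, a ^ n * x = 0 := by
  have h0 : algebraMap R Γ(Spec R, V) x = 0 := by
    rw [← res_algebraMap R ha x, hx, map_zero]
  obtain ⟨⟨_, n, rfl⟩, hm⟩ := (IsLocalization.map_eq_zero_iff (Submonoid.powers a) _ x).1 h0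
  exact ⟨n, hm⟩

lemma ker_torsion (U : (Spec R).Opens) (a : R)
    (ha : (PrimeSpectrum.basicOpen a : (Spec R).Opens) ≤ U) (x : R)
    (hx : algebraMap R Γ(Spec R, U) x = 0) :
    ∃ n : ℕ, a ^ n * x = 0 :=
  ker_torsion' R U (PrimeSpectrum.basicOpen a) a ha x hx

lemma coker_torsion' (U V : (Spec R).Opens) (hU : IsAffineOpen U) (a : R)
    [IsLocalization.Away a Γ(Spec R, V)] (ha : V ≤ U)
    (hle : (Spec R).basicOpen (algebraMap R Γ(Spec R, U) a) ≤ V)
    (c : Γ(Spec R, U)) :
    ∃ (n : ℕ) (y : R), algebraMap R Γ(Spec R, U) (a ^ n) * c =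
      algebraMap R Γ(Spec R, U) y := by
  let c' : Γ(Spec R, V) := (Spec R).presheaf.map (homOfLE ha).op c
  obtain ⟨⟨y, ⟨_, n, rfl⟩⟩, hy⟩ := IsLocalization.surj (Submonoid.powers a) c'
  let z : Γ(Spec R, U) :=
    c * algebraMap R Γ(Spec R, U) (a ^ n) -
      algebraMap R Γ(Spec R, U) y
  have hz : (Spec R).presheaf.map (homOfLE ha).op z = 0 := by
    simp only [z, map_sub, map_mul]
    rw [res_algebraMap R ha, res_algebraMap R ha]
    exact sub_eq_zero.2 hy
  have hz' : algebraMap Γ(Spec R, U)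
      Γ(Spec R, (Spec R).basicOpen
        (algebraMap R Γ(Spec R, U) a)) z = 0 := by
    have h1 : algebraMap Γ(Spec R, U)
        Γ(Spec R, (Spec R).basicOpen
          (algebraMap R Γ(Spec R, U) a)) z =
        (Spec R).presheaf.map (homOfLE hle).op
          ((Spec R).presheaf.map (homOfLE ha).op z) := by
      change (Spec R).presheaf.map
          (homOfLE ((Spec R).basicOpen_le _)).op z =
        ((Spec R).presheaf.map (homOfLE ha).op ≫
          (Spec R).presheaf.map (homOfLE hle).op) z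
      rw [← Functor.map_comp]
      rfl
    rw [h1, hz, map_zero]
  haveI := hU.isLocalization_basicOpen (algebraMap R Γ(Spec R, U) a)
  obtain ⟨⟨_, m, rfl⟩, hm⟩ := (IsLocalization.map_eq_zero_iff
    (Submonoid.powers (algebraMap R Γ(Spec R, U) a)) _ z).1 hz'
  refine ⟨m + n, a ^ m * y, ?_⟩
  have hm' : algebraMap R Γ(Spec R, U) a ^ m *
      (c * algebraMap R Γ(Spec R, U) (a ^ n) -
        algebraMap R Γ(Spec R, U) y) = 0 := hm
  rw [map_pow, map_mul, map_pow]
  rw [map_pow] at hm'
  linear_combination hm'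

lemma coker_torsion (U : (Spec R).Opens) (hU : IsAffineOpen U) (a : R)
    (ha : (PrimeSpectrum.basicOpen a : (Spec R).Opens) ≤ U)
    (c : Γ(Spec R, U)) :
    ∃ (n : ℕ) (y : R), algebraMap R Γ(Spec R, U) (a ^ n) * c =
      algebraMap R Γ(Spec R, U) y := by
  refine coker_torsion' R U (PrimeSpectrum.basicOpen a) hU a ha ?_ c
  rw [basicOpen_algebraMap]
  exact inf_le_right

lemma map_eq_top (U : (Spec R).Opens) (hU : IsAffineOpen U) (I : Ideal R)
    (hI : ∀ q : PrimeSpectrum R, (q : (Spec R : Type u)) ∈ U →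
      ∃ a ∈ I, a ∉ q.asIdeal) :
    I.map (algebraMap R Γ(Spec R, U)) = ⊤ := by
  refine (hU.self_le_iSup_basicOpen_iff
    (s := (algebraMap R Γ(Spec R, U)) '' (I : Set R))).1 ?_
  intro x hx
  obtain ⟨a, haI, hax⟩ := hI x hx
  rw [TopologicalSpace.Opens.mem_iSup]
  refine ⟨⟨algebraMap R _ a, a, haI, rfl⟩, ?_⟩
  show x ∈ (Spec R).basicOpen (algebraMap R Γ(Spec R, U) a)
  rw [basicOpen_algebraMap]
  exact ⟨hx, hax⟩

end geom

theorem main (A : Type u) [CommRing A] [IsNoetherianRing A] (U : (Spec (CommRingCat.of A)).Opens)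
    (hU : IsAffineOpen U) (p : PrimeSpectrum A)
    (hpU : (p : (Spec (CommRingCat.of A) : Type u)) ∉
      (U : Set (Spec (CommRingCat.of A) : Type u)))
    (hmin : ∀ q : PrimeSpectrum A, q.asIdeal ≤ p.asIdeal →
      (q : (Spec (CommRingCat.of A) : Type u)) ∉ (U : Set (Spec (CommRingCat.of A) : Type u)) →
      q = p) :
    p.asIdeal.height ≤ 1 := by
  classical
  let Y : Set (PrimeSpectrum A) := {q | (q : (Spec (CommRingCat.of A) : Type u)) ∉ U}
  let I : Ideal A := PrimeSpectrum.vanishingIdeal Y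
  have hYc : IsClosed Y := by
    have h1 : IsOpen (U : Set (Spec (CommRingCat.of A) : Type u)) := U.isOpen
    exact isClosed_compl_iff.2 h1
  have hIq : ∀ q : PrimeSpectrum A, I ≤ q.asIdeal →
      (q : (Spec (CommRingCat.of A) : Type u)) ∉ U := by
    intro q hq
    have h1 : q ∈ PrimeSpectrum.zeroLocus (I : Set A) := hq
    rw [PrimeSpectrum.zeroLocus_vanishingIdeal_eq_closure, hYc.closure_eq] at h1
    exact h1
  have hqI : ∀ q : PrimeSpectrum A, (q : (Spec (CommRingCat.of A) : Type u)) ∉ U →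
      I ≤ q.asIdeal := by
    intro q hq a ha
    exact (PrimeSpectrum.mem_vanishingIdeal _ _).1 ha q hq
  have hDa : ∀ a ∈ I, (PrimeSpectrum.basicOpen a : (Spec (CommRingCat.of A)).Opens) ≤ U := by
    intro a ha q hq
    by_contra hqU
    exact hq (hqI q hqU ha)
  haveI : IsNoetherianRing Γ(Spec (CommRingCat.of A), U) :=
    IsLocallyNoetherian.component_noetherian ⟨U, hU⟩
  letI alg : Algebra A Γ(Spec (CommRingCat.of A), U) :=
    IsAffineOpen.instAlgebraCarrierObjOppositeOpensCarrierCarrierCommRingCatSpecPresheafOpOpens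
      (R := CommRingCat.of A) (U := U)
  have hker : LocCoh.IsPowerTorsion I
      (LinearMap.ker (Algebra.linearMap A Γ(Spec (CommRingCat.of A), U))) := by
    apply isPowerTorsion_of_forall
    rintro a ha ⟨x, hx⟩
    obtain ⟨n, hn⟩ := ker_torsion (CommRingCat.of A) U a (hDa a ha) x hx
    exact ⟨n, Subtype.ext (by simpa [smul_eq_mul] using hn)⟩
  have hcoker : LocCoh.IsPowerTorsion I
      (Γ(Spec (CommRingCat.of A), U) ⧸
        LinearMap.range (Algebra.linearMap A Γ(Spec (CommRingCat.of A), U))) := by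
    apply isPowerTorsion_of_forall
    intro a ha c
    obtain ⟨c, rfl⟩ := Submodule.Quotient.mk_surjective _ c
    obtain ⟨n, y, hy⟩ := coker_torsion (CommRingCat.of A) U hU a (hDa a ha) c
    refine ⟨n, ?_⟩
    rw [← Submodule.Quotient.mk_smul, Submodule.Quotient.mk_eq_zero]
    exact ⟨y, by rw [Algebra.linearMap_apply, ← hy, Algebra.smul_def]⟩
  have htop : I.map (algebraMap A Γ(Spec (CommRingCat.of A), U)) = ⊤ := by
    apply map_eq_top (CommRingCat.of A) U hU I
    intro q hq
    by_contra hcon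
    push_neg at hcon
    exact hIq q (fun a ha => hcon a ha) hq
  have hpmin : p.asIdeal ∈ I.minimalPrimes := by
    refine ⟨⟨p.isPrime, hqI p hpU⟩, ?_⟩
    rintro q ⟨hqp, hIq'⟩ hle
    have h1 := hmin ⟨q, hqp⟩ hle (hIq ⟨q, hqp⟩ hIq')
    exact (congrArg PrimeSpectrum.asIdeal h1).ge
  exact alg_main A Γ(Spec (CommRingCat.of A), U) I hker hcoker htop p.asIdeal hpmin

end H5161

/-- Let A be a Noetherian ring, X = Spec A and Y ⊆ X a closed subset whose complement U is an affine
open. Then every irreducible component of Y has codimension ≤ 1 in X, i.e. the generic point of each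
irreducible component of Y is a prime of height at most 1. -/
theorem result (A : Type u) [CommRing A] [IsNoetherianRing A] (U : (Spec (CommRingCat.of A)).Opens) (hU : IsAffineOpen U) (p : PrimeSpectrum A) (hpU : (p : (Spec (CommRingCat.of A) : Type u)) ∉ (U : Set (Spec (CommRingCat.of A) : Type u))) (hmin : ∀ q : PrimeSpectrum A, q.asIdeal ≤ p.asIdeal → (q : (Spec (CommRingCat.of A) : Type u)) ∉ (U : Set (Spec (CommRingCat.of A) : Type u)) → q = p) : p.asIdeal.height ≤ 1 := by
  exact H5161.main A U hU p hpU hmin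

end Groth.Agent.S5161
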