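import Groth.Statements.S1802
import Mathlib
import Groth.Agent.S5161
import Groth.Agent.Lib.Helper20.LCTransform6
import Groth.Agent.Lib.Helper17.IdealTransform

set_option autoImplicit false
universe u
open AlgebraicGeometry
open LocCoh

namespace Groth.Agent.S1802


namespace H1802

open CategoryTheory AlgebraicGeometry Opposite TopologicalSpace Groth.Agent.Lib.Helper4.LC LocCoh
  Groth.Agent.Lib.Helper17.IdealTransform
open StructureSheaf

variable {A : Type u} [CommRing A]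

/-- sections of the structure sheaf, as concrete functions -/
abbrev Sec (U : Opens (PrimeSpectrum.Top A)) : Type u :=
  ↥(sectionsSubalgebra A U)

lemma swap (I : Ideal A) (m : ℕ) (φ : ↥(I ^ m) →ₗ[A] A) (c c' : A) (hc : c ∈ I ^ m)
    (hc' : c' ∈ I ^ m) : c • φ ⟨c', hc'⟩ = c' • φ ⟨c, hc⟩ := by
  rw [← map_smul, ← map_smul]
  congr 1
  apply Subtype.ext
  show c * c' = c' * c
  exact mul_comm c c'

theorem glue (I : Ideal A) (m : ℕ) (U : Opens (PrimeSpectrum.Top A))
    (hU : ∀ x : PrimeSpectrum A, x ∈ U → ∃ c ∈ I ^ m, c ∉ x.asIdeal)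
    (φ : ↥(I ^ m) →ₗ[A] A) :
    ∃ b : Sec U, ∀ (x : U) (c : A) (hc : c ∈ I ^ m),
      c • b.1 x = LocalizedModule.mkLinearMap x.1.asIdeal.primeCompl A (φ ⟨c, hc⟩) := by
  classical
  choose! cc hcc hccx using hU
  let f : Π x : U, Localizations A x.1 := fun x =>
    LocalizedModule.mk (φ ⟨cc x.1, hcc x.1 x.2⟩) ⟨cc x.1, hccx x.1 x.2⟩
  have key : ∀ (x : U) (c : A) (hc : c ∈ I ^ m) (hcx : c ∉ x.1.asIdeal),
      f x = LocalizedModule.mk (φ ⟨c, hc⟩) ⟨c, hcx⟩ := by
    intro x c hc hcx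
    rw [LocalizedModule.mk_eq]
    refine ⟨1, ?_⟩
    simp only [one_smul]
    exact swap I m φ c (cc x.1) hc (hcc x.1 x.2)
  have hf : (isLocallyFraction A A).pred f := by
    intro x
    refine ⟨PrimeSpectrum.basicOpen (cc x.1) ⊓ U, ⟨hccx x.1 x.2, x.2⟩, homOfLE inf_le_right,
      φ ⟨cc x.1, hcc x.1 x.2⟩, cc x.1, fun y => ⟨y.2.1, ?_⟩⟩
    exact key ⟨y.1, y.2.2⟩ (cc x.1) (hcc x.1 x.2) y.2.1
  refine ⟨⟨f, hf⟩, fun x c hc => ?_⟩
  show c • LocalizedModule.mk (φ ⟨cc x.1, hcc x.1 x.2⟩) ⟨cc x.1, hccx x.1 x.2⟩ = _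
  rw [LocalizedModule.smul'_mk, LocalizedModule.mkLinearMap_apply, LocalizedModule.mk_eq]
  refine ⟨1, ?_⟩
  simp only [one_smul]
  exact swap I m φ c (cc x.1) hc (hcc x.1 x.2)

lemma exists_pow_notMem (I : Ideal A) (x : PrimeSpectrum A) (hx : ¬ I ≤ x.asIdeal) (k : ℕ) :
    ∃ c ∈ I ^ k, c ∉ x.asIdeal := by
  obtain ⟨a, haI, hax⟩ := SetLike.not_le_iff_exists.1 hx
  exact ⟨a ^ k, Ideal.pow_mem_pow haI k, fun h => hax (x.isPrime.mem_of_pow_mem k h)⟩

theorem one_mem_smul_top (I : Ideal A) (hD : I • (⊤ : Submodule A (DT I A)) = ⊤)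
    (U : Opens (PrimeSpectrum.Top A)) (hU : ∀ x : PrimeSpectrum A, x ∈ U → ¬ I ≤ x.asIdeal) :
    (1 : Sec U) ∈ I • (⊤ : Submodule A (Sec U)) := by
  have hmem : toDT I A 1 ∈ I • (⊤ : Submodule A (DT I A)) := by
    rw [hD]
    exact Submodule.mem_top
  have hP : ∃ (m : ℕ) (ψ : ↥(I ^ m) →ₗ[A] A) (s : Sec U),
      toDT I A 1 = cls I (ModuleCat.of A A) m ψ ∧ s ∈ I • (⊤ : Submodule A (Sec U)) ∧
      ∀ (x : U) (c : A) (hc : c ∈ I ^ m),
        c • s.1 x = LocalizedModule.mkLinearMap x.1.asIdeal.primeCompl A (ψ ⟨c, hc⟩) := by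
    refine Submodule.smul_induction_on (p := fun d => ∃ (m : ℕ) (ψ : ↥(I ^ m) →ₗ[A] A)
      (s : Sec U), d = cls I (ModuleCat.of A A) m ψ ∧ s ∈ I • (⊤ : Submodule A (Sec U)) ∧
      ∀ (x : U) (c : A) (hc : c ∈ I ^ m),
        c • s.1 x = LocalizedModule.mkLinearMap x.1.asIdeal.primeCompl A (ψ ⟨c, hc⟩)) hmem ?_ ?_
    · intro r hr n _
      obtain ⟨m, φ, rfl⟩ := exists_rep I (ModuleCat.of A A) n
      obtain ⟨b, hb⟩ := glue I m U (fun x hx => exists_pow_notMem I x (hU x hx) m) φ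
      refine ⟨m, r • φ, r • b, (cls_smul I _ m r φ).symm,
        Submodule.smul_mem_smul hr Submodule.mem_top, fun x c hc => ?_⟩
      show c • (r • b.1 x) = _
      rw [smul_comm, hb x c hc, LinearMap.smul_apply, map_smul]
    · rintro d₁ d₂ ⟨m₁, ψ₁, s₁, rfl, hs₁, e₁⟩ ⟨m₂, ψ₂, s₂, rfl, hs₂, e₂⟩
      refine ⟨max m₁ m₂, res I (le_max_left m₁ m₂) ψ₁ + res I (le_max_right m₁ m₂) ψ₂,
        s₁ + s₂, ?_, Submodule.add_mem _ hs₁ hs₂, fun x c hc => ?_⟩
      · rw [cls_add, cls_restrict, cls_restrict]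
      · show c • (s₁.1 x + s₂.1 x) = _
        rw [smul_add, e₁ x c (Ideal.pow_le_pow_right (le_max_left m₁ m₂) hc),
          e₂ x c (Ideal.pow_le_pow_right (le_max_right m₁ m₂) hc), LinearMap.add_apply, map_add]
        rfl
  obtain ⟨m, ψ, s, hcls, hs, hev⟩ := hP
  rw [toDT_eq_cls] at hcls
  obtain ⟨k, h0k, hmk, hres⟩ := (cls_eq_cls_iff I (ModuleCat.of A A) _ _).1 hcls
  have hψ : ∀ (c : A) (hc : c ∈ I ^ k), ψ ⟨c, Ideal.pow_le_pow_right hmk hc⟩ = c := by
    intro c hc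
    have h1 := LinearMap.congr_fun hres ⟨c, hc⟩
    simp only [Groth.Agent.Lib.Helper17.IdealTransform.res_apply, smulMap_apply] at h1
    rw [← h1]
    simp
  have hs1 : s = 1 := by
    apply Subtype.ext
    funext x
    obtain ⟨c, hc, hcx⟩ := exists_pow_notMem I x.1 (hU x.1 x.2) k
    have h1 := hev x c (Ideal.pow_le_pow_right hmk hc)
    rw [hψ c hc] at h1
    apply IsLocalizedModule.smul_injective
      (LocalizedModule.mkLinearMap x.1.asIdeal.primeCompl A) (⟨c, hcx⟩ : x.1.asIdeal.primeCompl)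
    show c • s.1 x = c • (1 : LocalizedModule x.1.asIdeal.primeCompl A)
    rw [h1, LocalizedModule.mkLinearMap_apply, OreLocalization.one_def]
    show _ = c • LocalizedModule.mk (1 : A) (1 : x.1.asIdeal.primeCompl)
    rw [LocalizedModule.smul'_mk, smul_eq_mul, mul_one]
  rw [← hs1]
  exact hs

/-- the identity cast from concrete sections to `Γ(Spec R, U)` -/
def toG (R : CommRingCat.{u}) (U : (Spec R).Opens) (s : Sec (A := R) U) : Γ(Spec R, U) := s

theorem span_eq_top (R : CommRingCat.{u}) (I : Ideal R) (U : (Spec R).Opens)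
    (h : (1 : Sec (A := R) U) ∈ I • (⊤ : Submodule R (Sec (A := R) U))) :
    Ideal.span ((algebraMap R Γ(Spec R, U)) '' (I : Set R)) = ⊤ := by
  rw [Ideal.eq_top_iff_one]
  have key : ∀ s : Sec (A := R) U, s ∈ I • (⊤ : Submodule R (Sec (A := R) U)) →
      toG R U s ∈ Ideal.span ((algebraMap R Γ(Spec R, U)) '' (I : Set R)) := by
    intro s hs
    refine Submodule.smul_induction_on
      (p := fun s => toG R U s ∈ Ideal.span ((algebraMap R Γ(Spec R, U)) '' (I : Set R)))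
      hs ?_ ?_
    · intro r hr n _
      have h1 : (r • n : Sec (A := R) U) = n * (algebraMap R (Sec (A := R) U) r) :=
        (Algebra.smul_def r n).trans (mul_comm _ _)
      have h2 : toG R U n * algebraMap R Γ(Spec R, U) r ∈
          Ideal.span ((algebraMap R Γ(Spec R, U)) '' (I : Set R)) :=
        Ideal.mul_mem_left _ (toG R U n)
          (Ideal.subset_span (Set.mem_image_of_mem (algebraMap R Γ(Spec R, U)) hr))
      have h3 : toG R U (r • n) = toG R U n * algebraMap R Γ(Spec R, U) r :=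
        congrArg (toG R U) h1
      show toG R U (r • n) ∈ _
      rw [h3]
      exact h2
    · intro x y hx hy
      exact Ideal.add_mem _ hx hy
  exact key 1 h

theorem main (A : Type u) [CommRing A] [IsNoetherianRing A] (I : Ideal A)
    (h1 : LocCoh.CdLE A I 1) (h0 : ¬ LocCoh.CdLE A I 0) :
    Nonempty (↑(LocCoh.puncturedOpen A I) : Scheme.{u}) ∧
      IsAffine (↑(LocCoh.puncturedOpen A I) : Scheme.{u}) := by
  constructor
  · by_contra hne
    rw [not_nonempty_iff] at hne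
    apply h0
    have hI : ∀ x : PrimeSpectrum A, I ≤ x.asIdeal := by
      intro x
      by_contra hx
      exact hne.false ⟨x, hx⟩
    have hnil : I ≤ (⊥ : Ideal A).radical := by
      intro a ha
      rw [Ideal.radical_eq_sInf, Ideal.mem_sInf]
      rintro J ⟨-, hJ⟩
      exact hI ⟨J, hJ⟩ ha
    obtain ⟨k, hk⟩ := Ideal.exists_pow_le_of_le_radical_of_fg hnil (IsNoetherian.noetherian I)
    intro M _ _ i hi
    obtain ⟨j, rfl⟩ : ∃ j, i = j + 1 := ⟨i - 1, by omega⟩
    rw [subsingleton_H_iff]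
    apply HH.subsingleton_of_isPowerTorsion I j M
    intro m
    exact ⟨k, fun a ha => by rw [(Submodule.mem_bot A).1 (hk ha), zero_smul]⟩
  · show IsAffineOpen (LocCoh.puncturedOpen A I)
    have hUI : ∀ x : PrimeSpectrum A, x ∈ LocCoh.puncturedOpen A I → ¬ I ≤ x.asIdeal :=
      fun x hx => hx
    have hcd : ∀ M : ModuleCat.{u} A, Subsingleton (HH I M 2) :=
      fun M => (subsingleton_H_iff I M 2).1 (h1 M 2 (by norm_num))
    obtain ⟨_, hcolim⟩ := Groth.Agent.Lib.Helper20.LCTransform5.exact_of_cd I hcd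
    haveI := hcolim
    have hD := Groth.Agent.Lib.Helper20.LCTransform6.smul_top_eq_top_of_preservesFiniteColimits I
    have hone := one_mem_smul_top I hD (LocCoh.puncturedOpen A I) hUI
    have hspan := span_eq_top (CommRingCat.of A) I (LocCoh.puncturedOpen A I) hone
    refine isAffineOpen_of_isAffineOpen_basicOpen (LocCoh.puncturedOpen A I) _ hspan ?_
    rintro _ ⟨a, ha, rfl⟩
    rw [Groth.Agent.S5161.H5161.basicOpen_algebraMap]
    have h2 : LocCoh.puncturedOpen A I ⊓ PrimeSpectrum.basicOpen a =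
        (PrimeSpectrum.basicOpen a : (Spec (CommRingCat.of A)).Opens) :=
      inf_eq_right.2 (fun x hx hxI => hx (hxI ha))
    rw [h2]
    exact IsAffineOpen.Spec_basicOpen (R := CommRingCat.of A) a

end H1802

/-- For a Noetherian ring. Let I be an ideal of a Noetherian ring A with cd(A, I) = 1, i.e. H^i_I(M) = 0
for all modules M and all i ≥ 2 but H^1_I(M) ≠ 0 for some M. Then the open subscheme Spec A minus
V(I) is nonempty and affine. -/
theorem result (A : Type u) [CommRing A] [IsNoetherianRing A] (I : Ideal A) (h1 : LocCoh.CdLE A I 1) (h0 : ¬ LocCoh.CdLE A I 0) : Nonempty (↑(LocCoh.puncturedOpen A I) : Scheme.{u}) ∧ IsAffine (↑(LocCoh.puncturedOpen A I) : Scheme.{u}) := by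
  exact H1802.main A I h1 h0

end Groth.Agent.S1802
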