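import Mathlib
import Groth.Agent.Lib.Helper20.LCLocGlob
import Groth.Statements.S0330
-- import your own Groth.Agent.* helpers here

set_option autoImplicit false
universe u v
open LocCoh

open CategoryTheory Groth.Agent.Lib.Helper4.LC

namespace Groth.Agent.S0330

/-- For a finite module M over a Noetherian ring, finiteness of the local cohomology modules H^i_I(M)
for i ≤ n can be checked after localizing at each prime. -/
theorem result (R : Type u) [CommRing R] [IsNoetherianRing R] (I : Ideal R) (M : Type u) [AddCommGroup M] [Module R M] [Module.Finite R M] (n : ℕ) : (∀ i : ℕ, i ≤ n → Module.Finite R (LocCoh.H I i M)) ↔ ∀ (p : Ideal R) [p.IsPrime], ∀ i : ℕ, i ≤ n → Module.Finite (Localization.AtPrime p) (LocalizedModule p.primeCompl (LocCoh.H I i M)) := by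
  constructor
  · intro h p _ i hi
    haveI := h i hi
    infer_instance
  · intro h
    have key : ∀ i : ℕ, i ≤ n → Module.Finite R (HH I (ModuleCat.of R M) i) := by
      apply Groth.Agent.Lib.Helper20.LCLocGlob.finite_of_locally I n M
      intro p _ i hi
      haveI := h p i hi
      let e : LocCoh.H I i M ≃ₗ[R] HH I (ModuleCat.of R M) i := lcEquiv I (ModuleCat.of R M) i
      have htors : ∀ y : LocCoh.H I i M, ∃ k : ℕ, ∀ a ∈ I ^ k, a • y = 0 := by
        intro y
        obtain ⟨k, hk⟩ := Groth.Agent.Lib.Helper20.LCTorsion.exists_pow_smul_eq_zero I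
          (ModuleCat.of R M) i (e y)
        refine ⟨k, fun a ha => e.injective ?_⟩
        rw [map_smul, hk a ha, map_zero]
      obtain ⟨t, ht⟩ := Groth.Agent.Lib.Helper20.LCLocGlob.exists_pow_local I
        (H := LocCoh.H I i M) htors p
      refine ⟨t, fun a ha y => ?_⟩
      obtain ⟨u, hu, hu0⟩ := ht a ha (e.symm y)
      refine ⟨u, hu, e.symm.injective ?_⟩
      rw [map_smul, map_smul, hu0, map_zero]
    intro i hi
    haveI := key i hi
    exact Module.Finite.equiv (lcEquiv I (ModuleCat.of R M) i).symm

end Groth.Agent.S0330
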