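import Groth.Statements.S0602
import Groth.Agent.Lib.Helper4.Sk
import Mathlib.RingTheory.LocalProperties.Reduced
import Mathlib.RingTheory.RegularLocalRing.Defs
import Mathlib.RingTheory.Ideal.MinimalPrime.Localization

set_option autoImplicit false
universe u
open CAlg

namespace Groth.Agent.S0602

/-- A Noetherian ring is reduced exactly when it satisfies the conditions R₀ and S₁. -/
theorem result (R : Type u) [CommRing R] [IsNoetherianRing R] :
    IsReduced R ↔ (LocCoh.HasRk 0 R ∧ LocCoh.HasSk 1 R R) := by
  have hann : Module.annihilator R R = ⊥ := by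
    rw [eq_bot_iff]
    intro r hr
    rw [Module.mem_annihilator] at hr
    simpa using hr 1
  have hmax : ∀ (p : Ideal R) [p.IsPrime], p ∈ minimalPrimes R →
      IsLocalRing.maximalIdeal (Localization.AtPrime p) =
        (⊥ : Ideal (Localization.AtPrime p)).radical := by
    intro p _ hp
    have h1 := IsLocalization.AtPrime.radical_map_of_mem_minimalPrimes
      (A := Localization.AtPrime p) p ⊥ hp
    rw [Ideal.map_bot] at h1
    rw [h1]
    exact (IsLocalization.AtPrime.map_eq_maximalIdeal p (Localization.AtPrime p)).symm
  constructor
  · intro hred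
    constructor
    · intro p _ hp
      have hp0 : p.height = 0 := le_antisymm (by exact_mod_cast hp) zero_le
      have hpmin : p ∈ minimalPrimes R := Ideal.height_eq_zero_iff.mp hp0
      have hm : IsLocalRing.maximalIdeal (Localization.AtPrime p) = ⊥ := by
        rw [hmax p hpmin]
        have := nilradical_eq_zero (Localization.AtPrime p)
        rw [nilradical, Ideal.zero_eq_bot] at this
        exact this
      have hfield : IsField (Localization.AtPrime p) :=
        IsLocalRing.isField_iff_maximalIdeal_eq.mpr hm
      haveI := hfield.isDomain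
      haveI := hfield.isPrincipalIdealRing
      infer_instance
    · rw [← Groth.Agent.Lib.Helper4.noEmbedded_iff_hasS1, hann]
      intro p hp
      obtain ⟨hpp, x, hx⟩ := isAssociatedPrime_iff.mp hp
      have hx0 : x ≠ 0 := by
        rintro rfl
        apply hpp.ne_top
        rw [hx, eq_top_iff]
        intro a _
        rw [Submodule.mem_colon_singleton, smul_zero]
        exact Submodule.zero_mem _
      have hex : ∃ q ∈ minimalPrimes R, x ∉ q := by
        by_contra hcon
        push Not at hcon
        have hmem : x ∈ sInf (minimalPrimes R) := by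
          rw [Ideal.mem_sInf]
          exact fun {q} hq => hcon q hq
        rw [show minimalPrimes R = (⊥ : Ideal R).minimalPrimes from rfl,
          Ideal.sInf_minimalPrimes] at hmem
        obtain ⟨n, hn⟩ := hmem
        exact hx0 (IsReduced.eq_zero x ⟨n, hn⟩)
      obtain ⟨q, hq, hxq⟩ := hex
      have hpq : p ≤ q := by
        intro a ha
        rw [hx, Submodule.mem_colon_singleton, Submodule.mem_bot, smul_eq_mul] at ha
        have : a * x ∈ q := by rw [ha]; exact q.zero_mem
        exact (hq.1.1.mem_or_mem this).resolve_right hxq
      have hqp : q ≤ p := hq.2 ⟨hpp, bot_le⟩ hpq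
      rw [le_antisymm hpq hqp]
      exact hq
  · rintro ⟨hR0, hS1⟩
    rw [← Groth.Agent.Lib.Helper4.noEmbedded_iff_hasS1, hann] at hS1
    constructor
    intro x hnil
    by_contra hx0
    obtain ⟨P, hP, hle⟩ := exists_le_isAssociatedPrime_of_isNoetherianRing R x hx0
    have hPmin : P ∈ minimalPrimes R := hS1 P hP
    haveI := hP.isPrime
    have hreg := hR0 P (by rw [Ideal.height_eq_zero_iff.mpr hPmin]; simp)
    have hdim : ringKrullDim (Localization.AtPrime P) = 0 := by
      rw [IsLocalization.AtPrime.ringKrullDim_eq_height P, Ideal.height_eq_zero_iff.mpr hPmin]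
      rfl
    have hspan := hreg.spanFinrank_maximalIdeal
    rw [hdim] at hspan
    have hm : IsLocalRing.maximalIdeal (Localization.AtPrime P) = ⊥ :=
      (Submodule.spanFinrank_eq_zero_iff_eq_bot
        (IsNoetherian.noetherian (IsLocalRing.maximalIdeal (Localization.AtPrime P)))).mp
        (by exact_mod_cast hspan)
    have hx1 : algebraMap R (Localization.AtPrime P) x ∈
        IsLocalRing.maximalIdeal (Localization.AtPrime P) := by
      rw [hmax P hPmin]
      obtain ⟨n, hn⟩ := hnil
      exact ⟨n, by rw [← map_pow, hn, map_zero]; exact Ideal.zero_mem _⟩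
    rw [hm, Ideal.mem_bot, IsLocalization.map_eq_zero_iff P.primeCompl] at hx1
    obtain ⟨s, hs⟩ := hx1
    exact s.2 (hle (by rw [Submodule.mem_colon_singleton, Submodule.mem_bot]; simpa using hs))

end Groth.Agent.S0602
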