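import Groth.Statements.S13598
import Groth.Agent.Lib.Helper8.HenselQuot

set_option autoImplicit false
universe u
open Hensel

namespace Groth.Agent.S13598

/-- For a local ring A, a henselization A ⟶ S of A (S a henselian local ring, the structure map local,
and initial among local homomorphisms from A to henselian local rings) and an ideal I of A inside
the maximal ideal, the quotient S/IS with its induced algebra structure over A/I is a henselization
of A/I. (The local-ring and local-homomorphism instances on the quotients hold automatically; they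
are taken as hypotheses only so that the conclusion can be stated.) -/
theorem result {A S : Type u} [CommRing A] [IsLocalRing A] [CommRing S]
    [IsLocalRing S] [Algebra A S] [IsLocalHom (algebraMap A S)] [Hensel.IsHenselization A S]
    (I : Ideal A) (hI : I ≤ IsLocalRing.maximalIdeal A)
    [IsLocalRing (A ⧸ I)] [IsLocalRing (S ⧸ I.map (algebraMap A S))]
    [IsLocalHom (algebraMap (A ⧸ I) (S ⧸ I.map (algebraMap A S)))] :
    Hensel.IsHenselization (A ⧸ I) (S ⧸ I.map (algebraMap A S)) := by
  have hS : HenselianLocalRing S := Hensel.IsHenselization.henselian (R := A)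
  obtain ⟨J, hJdef⟩ : ∃ J : Ideal S, J = I.map (algebraMap A S) := ⟨_, rfl⟩
  have hJle : I.map (algebraMap A S) ≤ IsLocalRing.maximalIdeal S :=
    Ideal.map_le_iff_le_comap.mpr (fun a ha => map_nonunit _ a (hI ha))
  have hJ : I.map (algebraMap A S) ≠ ⊤ := by
    intro h
    rw [h] at hJle
    exact (IsLocalRing.maximalIdeal.isMaximal S).ne_top (top_le_iff.mp hJle)
  have hI' : I ≠ ⊤ := by
    intro h
    rw [h] at hI
    exact (IsLocalRing.maximalIdeal.isMaximal A).ne_top (top_le_iff.mp hI)
  refine ⟨Groth.Agent.Lib.Helper8.henselianLocalRing_quotient S _ hJ, ?_⟩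
  intro T _ _ f hf
  have hmkI : IsLocalHom (Ideal.Quotient.mk I) :=
    Groth.Agent.Lib.Helper8.isLocalHom_quotient_mk A I hI'
  have hf' : IsLocalHom (f.comp (Ideal.Quotient.mk I)) :=
    RingHom.isLocalHom_comp f (Ideal.Quotient.mk I)
  obtain ⟨g', hg', hu⟩ := Hensel.IsHenselization.universal (R := A) (S := S) T
    (f.comp (Ideal.Quotient.mk I)) hf'
  have hker : ∀ x ∈ I.map (algebraMap A S), g' x = 0 := by
    have h1 : I.map (algebraMap A S) ≤ RingHom.ker g' :=
      Ideal.map_le_iff_le_comap.mpr (fun a ha => by
        rw [Ideal.mem_comap, RingHom.mem_ker, ← RingHom.comp_apply, hg', RingHom.comp_apply,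
          Ideal.Quotient.eq_zero_iff_mem.mpr ha, map_zero])
    exact fun x hx => h1 hx
  refine ⟨Ideal.Quotient.lift _ g' hker, ?_, ?_⟩
  · apply Ideal.Quotient.ringHom_ext
    ext a
    have h2 := DFunLike.congr_fun hg' a
    simp only [RingHom.comp_apply] at h2 ⊢
    rw [← h2]
    rfl
  · intro g₂ hg₂
    have h3 := hu (g₂.comp (Ideal.Quotient.mk _)) (by
      ext a
      have h4 := DFunLike.congr_fun hg₂ (Ideal.Quotient.mk I a)
      simp only [RingHom.comp_apply] at h4 ⊢
      rw [← h4]
      rfl)
    apply Ideal.Quotient.ringHom_ext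
    rw [h3]
    ext x
    simp

end Groth.Agent.S13598
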