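import Groth.Statements.S12084
import Mathlib
import Groth.Agent.Lib.Helper18.FittLib6

set_option autoImplicit false
universe u
open Fitt

namespace Groth.Agent.S12084

open Groth.Agent.Lib.Helper18

/-- For finite `R`-modules `M`, `M'` and every `l`, the `l`-th Fitting ideal of `M ⊕ M'` equals `∑_{k +
k' = l} Fit_k(M) · Fit_{k'}(M')`; in particular `Fit_0(M ⊕ M') = Fit_0(M) · Fit_0(M')`. -/
theorem result (R : Type u) [CommRing R] (M M' : Type u) [AddCommGroup M] [Module R M]
    [AddCommGroup M'] [Module R M'] [Module.Finite R M] [Module.Finite R M'] (l : ℕ) :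
    Fitt.ideal R (M × M') l = ∑ k ∈ Finset.range (l + 1), Fitt.ideal R M k * Fitt.ideal R M' (l - k) := by
  classical
  obtain ⟨n, x, hx⟩ := Module.Finite.exists_fin (R := R) (M := M)
  obtain ⟨n', x', hx'⟩ := Module.Finite.exists_fin (R := R) (M := M')
  set w : Fin (n + n') → M × M' :=
    Fin.append (fun i => ((x i, 0) : M × M')) (fun j => ((0, x' j) : M × M')) with hw
  have hwsum : ∀ z : Fin (n + n') → R, ∑ i, z i • w i
      = (∑ i, z (Fin.castAdd n' i) • x i, ∑ j, z (Fin.natAdd n j) • x' j) := by
    intro z
    rw [Fin.sum_univ_add]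
    simp only [hw, Fin.append_left, Fin.append_right]
    refine Prod.ext ?_ ?_
    · simp [Prod.fst_sum]
    · simp [Prod.snd_sum]
  have hwspan : Submodule.span R (Set.range w) = ⊤ := by
    rw [eq_top_iff]
    rintro ⟨m, m'⟩ -
    obtain ⟨c, hc⟩ := (Submodule.mem_span_range_iff_exists_fun R).1
      (show m ∈ Submodule.span R (Set.range x) by rw [hx]; trivial)
    obtain ⟨c', hc'⟩ := (Submodule.mem_span_range_iff_exists_fun R).1
      (show m' ∈ Submodule.span R (Set.range x') by rw [hx']; trivial)
    refine (Submodule.mem_span_range_iff_exists_fun R).2 ⟨Fin.append c c', ?_⟩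
    rw [hwsum]
    simp [Fin.append_left, Fin.append_right, hc, hc']
  set S : Set (Fin (n + n') → R) :=
    ((fun z : Fin n → R => (Fin.append z (0 : Fin n' → R) : Fin (n + n') → R)) ''
        {z | ∑ i, z i • x i = 0}) ∪
      ((fun z' : Fin n' → R => (Fin.append (0 : Fin n → R) z' : Fin (n + n') → R)) ''
        {z' | ∑ j, z' j • x' j = 0}) with hSdef
  have hS : Submodule.span R S = LinearMap.ker (Fintype.linearCombination R w) := by
    apply le_antisymm
    · refine Submodule.span_le.2 ?_
      rintro v (⟨z, hz, rfl⟩ | ⟨z', hz', rfl⟩)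
      · show _ ∈ LinearMap.ker _
        rw [LinearMap.mem_ker, Fintype.linearCombination_apply, hwsum]
        simp only [Fin.append_left, Fin.append_right, Pi.zero_apply, zero_smul,
          Finset.sum_const_zero]
        rw [show ∑ i, z i • x i = 0 from hz]; rfl
      · show _ ∈ LinearMap.ker _
        rw [LinearMap.mem_ker, Fintype.linearCombination_apply, hwsum]
        simp only [Fin.append_left, Fin.append_right, Pi.zero_apply, zero_smul,
          Finset.sum_const_zero]
        rw [show ∑ j, z' j • x' j = 0 from hz']; rfl
    · intro v hv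
      rw [LinearMap.mem_ker, Fintype.linearCombination_apply, hwsum, Prod.mk_eq_zero] at hv
      have hdecomp : v = Fin.append (fun i => v (Fin.castAdd n' i)) (0 : Fin n' → R)
          + Fin.append (0 : Fin n → R) (fun j => v (Fin.natAdd n j)) := by
        funext i
        refine Fin.addCases (fun i₀ => ?_) (fun j₀ => ?_) i
        · simp [Fin.append_left]
        · simp [Fin.append_right]
      rw [hdecomp]
      exact add_mem (Submodule.subset_span (Or.inl ⟨_, hv.1, rfl⟩))
        (Submodule.subset_span (Or.inr ⟨_, hv.2, rfl⟩))
  rw [FittLib.fitt_eq_F w hwspan l]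
  have e1 : ∀ k, Fitt.ideal R M k = FittLib.F R x k := fun k => FittLib.fitt_eq_F x hx k
  have e2 : ∀ k, Fitt.ideal R M' k = FittLib.F R x' k := fun k => FittLib.fitt_eq_F x' hx' k
  simp only [e1, e2]
  rw [Ideal.sum_eq_sup]
  apply le_antisymm
  · rw [FittLib.F_eq_span_rowSets w S hS l]
    refine Ideal.span_le.2 ?_
    rintro d ⟨B, hB, rfl⟩
    rw [SetLike.mem_coe]
    have hne : ∀ (j : Fin n') (a₀ : Fin n), Fin.natAdd n j ≠ Fin.castAdd n' a₀ := by
      intro j a₀ h
      have := congrArg Fin.val h
      simp at this
      omega
    have hrow : ∀ i, (∀ j : Fin n', B i (Fin.natAdd n j) = 0) ∨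
        (∀ j : Fin n, B i (Fin.castAdd n' j) = 0) := by
      intro i
      have h1 := hB i
      unfold FittLib.rowSets at h1
      split_ifs at h1 with hi
      · rcases h1 with ⟨z, hz, hzB⟩ | ⟨z', hz', hzB⟩
        · left; intro j; rw [← hzB]; simp [Fin.append_right]
        · right; intro j; rw [← hzB]; simp [Fin.append_left]
      · obtain ⟨j₀, hj₀⟩ := h1
        revert hj₀
        refine Fin.addCases (fun a₀ => ?_) (fun b₀ => ?_) j₀
        · intro hj₀; left; intro j; rw [← hj₀]
          exact Pi.single_eq_of_ne (hne j a₀) _
        · intro hj₀; right; intro j; rw [← hj₀]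
          exact Pi.single_eq_of_ne (hne b₀ j).symm _
    set P : Finset (Fin (n + n')) :=
      Finset.univ.filter (fun i => ∀ j : Fin n', B i (Fin.natAdd n j) = 0) with hPdef
    have hL : ∀ i ∈ P, ∀ j : Fin n', B i (Fin.natAdd n j) = 0 :=
      fun i hi => (Finset.mem_filter.1 hi).2
    have hR : ∀ i ∉ P, ∀ j : Fin n, B i (Fin.castAdd n' j) = 0 := by
      intro i hi
      rcases hrow i with h | h
      · exact absurd (Finset.mem_filter.2 ⟨Finset.mem_univ _, h⟩) hi
      · exact h
    have hleftcard : (Finset.univ.filter (fun j : Fin (n + n') => (j : ℕ) < n)).card = n := by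
      rw [Fin.card_filter_val_lt]; omega
    have hrightcard : (Finset.univ.filter (fun j : Fin (n + n') => ¬ (j : ℕ) < n)).card = n' := by
      have := Finset.card_filter_add_card_filter_not
        (s := (Finset.univ : Finset (Fin (n + n')))) (fun j => (j : ℕ) < n)
      rw [hleftcard, Finset.card_univ, Fintype.card_fin] at this
      omega
    rcases lt_trichotomy P.card n with hlt | heq | hgt
    · have : B.det = 0 := by
        refine FittLib.det_eq_zero_of_rows_supported B Pᶜ
          (Finset.univ.filter (fun j : Fin (n + n') => ¬ (j : ℕ) < n)) ?_ ?_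
        · intro i hi j hj
          have hi' : i ∉ P := by simpa using hi
          have hj' : (j : ℕ) < n := by simpa using hj
          have : j = Fin.castAdd n' ⟨j, hj'⟩ := Fin.ext rfl
          rw [this]; exact hR i hi' _
        · rw [hrightcard, Finset.card_compl, Fintype.card_fin]; omega
      rw [this]; exact zero_mem _
    · obtain ⟨eP, eQ, ε, hdet⟩ := FittLib.det_block_decomp B P heq hL hR
      set a : Matrix (Fin n) (Fin n) R :=
        Matrix.of fun i j => B (eP i) (Fin.castAdd n' j) with ha
      set a' : Matrix (Fin n') (Fin n') R :=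
        Matrix.of fun i j => B (eQ i) (Fin.natAdd n j) with ha'
      let q : Fin (n + n') → Prop := fun i => (i : ℕ) < n + n' - l
      have hBS : ∀ i, q i → B i ∈ S := by
        intro i hi
        have h1 := hB i
        unfold FittLib.rowSets at h1
        rwa [if_pos hi] at h1
      set Ta : Finset (Fin n) := Finset.univ.filter (fun i => q (eP i)) with hTa
      set Ta' : Finset (Fin n') := Finset.univ.filter (fun i => q (eQ i)) with hTa'
      have hrela : ∀ i ∈ Ta, ∑ j, a i j • x j = 0 := by
        intro i hi
        have hqi : q (eP i) := (Finset.mem_filter.1 hi).2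
        rcases hBS _ hqi with ⟨z, hz, hzB⟩ | ⟨z', hz', hzB⟩
        · have : ∀ j, a i j = z j := by
            intro j; simp only [ha, Matrix.of_apply]; rw [← hzB]; simp [Fin.append_left]
          simp only [this]; exact hz
        · have : ∀ j, a i j = 0 := by
            intro j; simp only [ha, Matrix.of_apply]; rw [← hzB]; simp [Fin.append_left]
          simp [this]
      have hrela' : ∀ i ∈ Ta', ∑ j, a' i j • x' j = 0 := by
        intro i hi
        have hqi : q (eQ i) := (Finset.mem_filter.1 hi).2
        rcases hBS _ hqi with ⟨z, hz, hzB⟩ | ⟨z', hz', hzB⟩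
        · have : ∀ j, a' i j = 0 := by
            intro j; simp only [ha', Matrix.of_apply]; rw [← hzB]; simp [Fin.append_right]
          simp [this]
        · have : ∀ j, a' i j = z' j := by
            intro j; simp only [ha', Matrix.of_apply]; rw [← hzB]; simp [Fin.append_right]
          simp only [this]; exact hz'
      have hTan : Ta.card ≤ n := by
        have := Finset.card_le_univ Ta; simpa using this
      have hTan' : Ta'.card ≤ n' := by
        have := Finset.card_le_univ Ta'; simpa using this
      have hka : a.det ∈ FittLib.F R x (n - Ta.card) :=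
        FittLib.det_mem_F_flex x _ a Ta (by omega) hrela
      have hka' : a'.det ∈ FittLib.F R x' (n' - Ta'.card) :=
        FittLib.det_mem_F_flex x' _ a' Ta' (by omega) hrela'
      have hcards : n + n' - l ≤ Ta.card + Ta'.card := by
        have h1 : Ta.card = (P.filter q).card := by
          rw [← Finset.card_map ⟨fun i => ((eP i : {i // i ∈ P}) : Fin (n + n')),
            fun i j h => eP.injective (Subtype.ext h)⟩]
          congr 1
          ext y
          simp only [Finset.mem_map, Finset.mem_filter, Finset.mem_univ, true_and,
            Function.Embedding.coeFn_mk, hTa]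
          constructor
          · rintro ⟨i, hi, rfl⟩; exact ⟨(eP i).2, hi⟩
          · rintro ⟨hy, hqy⟩
            exact ⟨eP.symm ⟨y, hy⟩, by simpa using hqy, by simp⟩
        have h2 : Ta'.card = ((Finset.univ.filter (fun i => i ∉ P)).filter q).card := by
          rw [← Finset.card_map ⟨fun i => ((eQ i : {i // i ∉ P}) : Fin (n + n')),
            fun i j h => eQ.injective (Subtype.ext h)⟩]
          congr 1
          ext y
          simp only [Finset.mem_map, Finset.mem_filter, Finset.mem_univ, true_and,
            Function.Embedding.coeFn_mk, hTa']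
          constructor
          · rintro ⟨i, hi, rfl⟩; exact ⟨(eQ i).2, hi⟩
          · rintro ⟨hy, hqy⟩
            exact ⟨eQ.symm ⟨y, hy⟩, by simpa using hqy, by simp⟩
        have h3 : (P.filter q).card + ((Finset.univ.filter (fun i => i ∉ P)).filter q).card
            = (Finset.univ.filter q).card := by
          have := Finset.card_filter_add_card_filter_not
            (s := Finset.univ.filter q) (fun i => i ∈ P)
          rw [← this]
          congr 1
          · congr 1; ext y; simp [and_comm]
          · congr 1; ext y; simp [and_comm]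
        have h4 : (Finset.univ.filter q).card = min (n + n') (n + n' - l) :=
          Fin.card_filter_val_lt
        omega
      have hkl : n - Ta.card ≤ l := by omega
      have hk'l : n' - Ta'.card ≤ l - (n - Ta.card) := by omega
      rw [hdet]
      refine Ideal.mul_mem_left _ _ ?_
      have hmem : a.det * a'.det ∈
          FittLib.F R x (n - Ta.card) * FittLib.F R x' (l - (n - Ta.card)) :=
        Ideal.mul_mem_mul hka (FittLib.F_mono x' hk'l hka')
      exact (Finset.le_sup (f := fun k => FittLib.F R x k * FittLib.F R x' (l - k))
        (Finset.mem_range.2 (by omega))) hmem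
    · have : B.det = 0 := by
        refine FittLib.det_eq_zero_of_rows_supported B P
          (Finset.univ.filter (fun j : Fin (n + n') => (j : ℕ) < n)) ?_ ?_
        · intro i hi j hj
          have hj' : n ≤ (j : ℕ) := by simpa using hj
          have hj2 := j.2
          have : j = Fin.natAdd n ⟨j - n, by omega⟩ := Fin.ext (by simp; omega)
          rw [this]; exact hL i hi _
        · rw [hleftcard]; exact hgt
      rw [this]; exact zero_mem _
  · refine Finset.sup_le fun k hk => ?_
    have hkl : k ≤ l := by
      have := Finset.mem_range.1 hk; omega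
    show Ideal.span _ * Ideal.span _ ≤ _
    rw [Ideal.span_mul_span']
    refine Ideal.span_le.2 ?_
    rintro _ ⟨_, ⟨a, ha, rfl⟩, _, ⟨a', ha', rfl⟩, rfl⟩
    let c : Fin n ⊕ Fin n' ≃ Fin (n + n') := finSumFinEquiv
    let B : Matrix (Fin (n + n')) (Fin (n + n')) R :=
      (Matrix.fromBlocks a 0 0 a').submatrix c.symm c.symm
    have hdet : B.det = a.det * a'.det := by
      simp only [B, Matrix.det_submatrix_equiv_self, Matrix.det_fromBlocks_zero₂₁]
    have hB11 : ∀ i j, B (Fin.castAdd n' i) (Fin.castAdd n' j) = a i j := by
      intro i j; simp [B, c]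
    have hB12 : ∀ i j, B (Fin.castAdd n' i) (Fin.natAdd n j) = 0 := by
      intro i j; simp [B, c]
    have hB21 : ∀ i j, B (Fin.natAdd n i) (Fin.castAdd n' j) = 0 := by
      intro i j; simp [B, c]
    have hB22 : ∀ i j, B (Fin.natAdd n i) (Fin.natAdd n j) = a' i j := by
      intro i j; simp [B, c]
    let p : Fin (n + n') → Prop := fun i =>
      Fin.addCases (motive := fun _ => Prop) (fun i₀ : Fin n => (i₀ : ℕ) < n - k)
        (fun j₀ : Fin n' => (j₀ : ℕ) < n' - (l - k)) i
    let T : Finset (Fin (n + n')) := Finset.univ.filter p
    show a.det * a'.det ∈ FittLib.F R w l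
    rw [← hdet]
    refine FittLib.det_mem_F_flex w l B T ?_ ?_
    · have hcard : T.card = min n (n - k) + min n' (n' - (l - k)) := by
        rw [Finset.card_filter, Fin.sum_univ_add]
        simp only [p, Fin.addCases_left, Fin.addCases_right]
        rw [← Finset.card_filter, ← Finset.card_filter, Fin.card_filter_val_lt,
          Fin.card_filter_val_lt]
      rw [hcard]; omega
    · intro i hi
      rw [Finset.mem_filter] at hi
      have hpi := hi.2
      rw [hwsum]
      revert hpi
      refine Fin.addCases (fun i₀ => ?_) (fun j₀ => ?_) i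
      · intro hpi
        simp only [p, Fin.addCases_left] at hpi
        simp only [hB11, hB12, zero_smul, Finset.sum_const_zero]
        rw [ha i₀ hpi]; rfl
      · intro hpi
        simp only [p, Fin.addCases_right] at hpi
        simp only [hB21, hB22, zero_smul, Finset.sum_const_zero]
        rw [ha' j₀ hpi]; rfl

end Groth.Agent.S12084
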