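import Groth.Statements.S6892
import Mathlib
import Groth.Agent.Lib.Helper18.FittLib2

set_option autoImplicit false
universe u
open Fitt

namespace Groth.Agent.S6892

/-- Let `M` be a finite `R`-module. When `n` elements generate `M` one has `Fit_n(M) = R`; when `M` is
of finite presentation every `Fit_k(M)` is finitely generated as an ideal; and a surjection `M → M'`
onto another module gives `Fit_k(M) ⊆ Fit_k(M')` for every `k`. -/
theorem result {R : Type u} [CommRing R] (M M' : Type u) [AddCommGroup M]
    [Module R M] [Module.Finite R M] [AddCommGroup M'] [Module R M'] (k : ℕ) :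
    (∀ (n : ℕ) (x : Fin n → M), Submodule.span R (Set.range x) = ⊤ → Fitt.ideal R M n = ⊤) ∧
    (Module.FinitePresentation R M → (Fitt.ideal R M k).FG) ∧
    (∀ f : M →ₗ[R] M', Function.Surjective f → Fitt.ideal R M k ≤ Fitt.ideal R M' k) := by
  classical
  refine ⟨fun n x hx => ?_, fun hfp => ?_,
    fun f hf => Groth.Agent.Lib.Helper18.FittLib.fitt_le_of_surjective f hf k⟩
  · rw [Groth.Agent.Lib.Helper18.FittLib.fitt_eq_F x hx]
    exact Groth.Agent.Lib.Helper18.FittLib.F_eq_top x le_rfl
  · obtain ⟨n, x, hx⟩ := Module.Finite.exists_fin (R := R) (M := M)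
    have hfs : Function.Surjective (Fintype.linearCombination R x) := by
      rw [← LinearMap.range_eq_top, Fintype.range_linearCombination, hx]
    obtain ⟨S, hS⟩ := Module.FinitePresentation.fg_ker (Fintype.linearCombination R x) hfs
    rw [Groth.Agent.Lib.Helper18.FittLib.fitt_eq_F x hx,
      Groth.Agent.Lib.Helper18.FittLib.F_eq_span_rowSets x (S : Set (Fin n → R)) hS]
    refine Submodule.fg_span ?_
    have hfin : (Set.univ.pi
        (Groth.Agent.Lib.Helper18.FittLib.rowSets (S : Set (Fin n → R)) k)).Finite := by
      refine Set.Finite.pi fun i => ?_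
      unfold Groth.Agent.Lib.Helper18.FittLib.rowSets
      split_ifs
      · exact S.finite_toSet
      · exact Set.finite_range _
    refine (hfin.image (fun b : Fin n → Fin n → R => Matrix.det (Matrix.of b))).subset ?_
    rintro d ⟨b, hb, rfl⟩
    exact ⟨b, by simpa [Set.mem_univ_pi] using hb, rfl⟩

end Groth.Agent.S6892
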