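import Groth.Statements.S4848
import Groth.Agent.Lib.Helper14.FlatStage.Interface

set_option autoImplicit false
universe u
open TensorProduct
open EGA43

namespace Groth.Agent.S4848

/-- Let A₀ be a commutative ring, (A_i) a directed system of A₀-algebras with colimit A, B₀ a finitely
presented A₀-algebra and M₀ a finitely presented B₀-module. Then the A-module A ⊗_{A₀} M₀ is flat if
and only if, for some index i, the A_i-module A_i ⊗_{A₀} M₀ is flat. -/
theorem result {A₀ : Type u} [CommRing A₀]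
    {ι : Type u} [Preorder ι] (G : ι → Type u) [∀ i, CommRing (G i)] [∀ i, Algebra A₀ (G i)]
    (g : ∀ i j, i ≤ j → G i →ₐ[A₀] G j)
    (A : Type u) [CommRing A] [Algebra A₀ A] [∀ i, Algebra (G i) A] [∀ i, IsScalarTower A₀ (G i) A]
    (hcolim : FlatCA.IsDirectedColimitRing G (fun i j h => (g i j h).toRingHom) A)
    {B₀ : Type u} [CommRing B₀] [Algebra A₀ B₀] [Algebra.FinitePresentation A₀ B₀]
    (M₀ : Type u) [AddCommGroup M₀] [Module B₀ M₀] [Module A₀ M₀] [IsScalarTower A₀ B₀ M₀]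
    [Module.FinitePresentation B₀ M₀] :
    Module.Flat A (A ⊗[A₀] M₀) ↔ ∃ i : ι, Module.Flat (G i) (G i ⊗[A₀] M₀) := by
  classical
  constructor
  · intro hA
    obtain ⟨n, b, e, R₀, hR₀, L, ⟨iso⟩⟩ :=
      Groth.Agent.Lib.Helper14.FlatStage.exists_model A₀ B₀ M₀
    haveI : Algebra.FiniteType ℤ R₀ := (Subalgebra.fg_iff_finiteType R₀).1 hR₀
    haveI : IsNoetherianRing R₀ := Algebra.FiniteType.isNoetherianRing ℤ R₀
    have key : ∀ (D : Type u) [CommRing D] [Algebra A₀ D],
        Nonempty (D ⊗[A₀] M₀ ≃ₗ[D] Groth.Agent.Lib.Helper14.FlatStage.Mm L D) := fun D _ _ =>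
      ⟨(TensorProduct.AlgebraTensorModule.congr (LinearEquiv.refl D D) iso) ≪≫ₗ
        (Groth.Agent.Lib.Helper14.FlatStage.isBaseChange_mapM L A₀ D).equiv⟩
    obtain ⟨eA⟩ := key A
    have hA' : Module.Flat A (Groth.Agent.Lib.Helper14.FlatStage.Mm L A) :=
      Module.Flat.of_linearEquiv eA.symm
    obtain ⟨C, hC, hflC⟩ := Groth.Agent.Lib.Helper14.FlatStage.exists_fg_flat L A hA'
    obtain ⟨j, ⟨φ⟩⟩ := Groth.Agent.Lib.Helper14.FlatStage.exists_algHom_stage G
      (fun i j h => (g i j h).restrictScalars R₀) A hcolim C hC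
    have hG := Groth.Agent.Lib.Helper14.FlatStage.flat_of_algHom L φ hflC
    obtain ⟨eG⟩ := key (G j)
    exact ⟨j, Module.Flat.of_linearEquiv eG⟩
  · rintro ⟨i, hi⟩
    exact Module.Flat.of_linearEquiv
      (TensorProduct.AlgebraTensorModule.cancelBaseChange A₀ (G i) A A M₀).symm

end Groth.Agent.S4848
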