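import Groth.Statements.S6918


set_option autoImplicit false
universe u
open FlatMor

namespace Groth.Agent.S6918

open TensorProduct

theorem flat_of_isLocalizedModule' {R A : Type*} [CommRing R] [CommRing A] [Algebra R A]
    (W : Submonoid A)
    {M M' : Type*} [AddCommGroup M] [Module R M] [Module A M] [IsScalarTower R A M]
    [AddCommGroup M'] [Module R M'] [Module A M'] [IsScalarTower R A M']
    (g : M →ₗ[A] M') [IsLocalizedModule W g] [Module.Flat R M] : Module.Flat R M' := by
  rw [Module.Flat.iff_lTensor_injectiveₛ]
  intro P _ _ N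
  have H : Function.Injective (LinearMap.lTensor M N.subtype) :=
    (Module.Flat.iff_lTensor_injectiveₛ (R := R) (M := M)).mp inferInstance N
  rw [← AlgebraTensorModule.coe_lTensor (A := A), ← IsLocalizedModule.map_lTensor A W N.subtype g]
  apply IsLocalizedModule.map_injective
  rw [AlgebraTensorModule.coe_lTensor]
  exact H

/-- Let `R → S` be a ring map, `J ⊆ S` an ideal, `M` an `S`-module, `I ⊆ R` an ideal, `R → R'` a ring
map and `I' ⊇ IR'`; put `S' = S ⊗_R R'`, `M' = M ⊗_R R'`. If `M_𝔮` is flat over `R` for all primes
`𝔮 ⊇ IS + J` of `S`, then `M'_{𝔮'}` is flat over `R'` for all primes `𝔮' ⊇ I'S' + JS'` of `S'`. (The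
published statement passes from an arbitrary pair `(R', I')` over `R` to a further pair `(R'',
I'')`; this row takes the first pair to be `(R, I)`.) -/
theorem result {R S R' S' : Type u} [CommRing R] [CommRing S] [CommRing R'] [CommRing S']
    [Algebra R S] [Algebra R R'] [Algebra S S'] [Algebra R' S'] [Algebra R S'] [IsScalarTower R S S']
    [IsScalarTower R R' S'] [Algebra.IsPushout R S R' S']
    (I : Ideal R) (I' : Ideal R') (hII' : I.map (algebraMap R R') ≤ I')
    {M M' : Type u} [AddCommGroup M] [Module S M] [Module R M] [IsScalarTower R S M]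
    [AddCommGroup M'] [Module S' M'] [Module R' M'] [IsScalarTower R' S' M'] [Module S M'] [IsScalarTower S S' M']
    (f : M →ₗ[S] M') (hf : IsBaseChange S' f) (J : Ideal S)
    (h : (∀ (q : Ideal S) [q.IsPrime], I.map (algebraMap R S) ⊔ J ≤ q → FlatCA.FlatAt R q M)) :
    (∀ (q : Ideal S') [q.IsPrime], I'.map (algebraMap R' S') ⊔ J.map (algebraMap S S') ≤ q → FlatCA.FlatAt R' q M') := by
  intro q' hq' hle
  set q : Ideal S := q'.comap (algebraMap S S') with hqdef
  haveI : q.IsPrime := Ideal.comap_isPrime _ _
  have hq : I.map (algebraMap R S) ⊔ J ≤ q := by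
    refine sup_le ?_ ?_
    · rw [Ideal.map_le_iff_le_comap]
      intro x hx
      rw [Ideal.mem_comap, hqdef, Ideal.mem_comap, ← IsScalarTower.algebraMap_apply R S S',
        IsScalarTower.algebraMap_apply R R' S']
      apply hle
      apply Ideal.mem_sup_left
      apply Ideal.mem_map_of_mem
      exact hII' (Ideal.mem_map_of_mem _ hx)
    · intro x hx
      rw [hqdef, Ideal.mem_comap]
      exact hle (Ideal.mem_sup_right (Ideal.mem_map_of_mem _ hx))
  have hflat : Module.Flat R (LocalizedModule q.primeCompl M) := h q hq
  have hWle : Algebra.algebraMapSubmonoid S' q.primeCompl ≤ q'.primeCompl := by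
    rintro _ ⟨x, hx, rfl⟩
    exact hx
  -- the flat model
  have hT : Module.Flat R' (S' ⊗[S] LocalizedModule q.primeCompl M) := by
    haveI : Algebra.IsPushout R R' S S' := Algebra.IsPushout.symm inferInstance
    have e := Algebra.IsPushout.cancelBaseChange R R' S S' (LocalizedModule q.primeCompl M)
    haveI : Module.Flat R' (R' ⊗[R] LocalizedModule q.primeCompl M) :=
      Module.Flat.baseChange R R' _
    exact Module.Flat.of_linearEquiv e
  let ι : M →ₗ[S] LocalizedModule q.primeCompl M := LocalizedModule.mkLinearMap q.primeCompl M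
  let g : M' →ₗ[S'] S' ⊗[S] LocalizedModule q.primeCompl M :=
    hf.lift ((TensorProduct.mk S S' (LocalizedModule q.primeCompl M) 1) ∘ₗ ι)
  have hg : ∀ m, g (f m) = 1 ⊗ₜ ι m := fun m => hf.lift_eq _ m
  haveI hloc : IsLocalizedModule (Algebra.algebraMapSubmonoid S' q.primeCompl) g := by
    haveI : IsLocalizedModule q.primeCompl (g.restrictScalars S) := by
      have h2 : ∀ x, g x = (TensorProduct.comm S (LocalizedModule q.primeCompl M) S')
          ((AlgebraTensorModule.rTensor S S' ι) ((TensorProduct.comm S S' M)
            (hf.equiv.symm x))) := by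
        intro x
        obtain ⟨y, rfl⟩ := hf.equiv.surjective x
        rw [LinearEquiv.symm_apply_apply]
        induction y using TensorProduct.induction_on with
        | zero => simp
        | tmul s m =>
          rw [hf.equiv_tmul, map_smul, hg]
          simp [TensorProduct.smul_tmul']
        | add a b ha hb => simp only [map_add, ha, hb]
      have h3 : g.restrictScalars S =
          ((TensorProduct.comm S (LocalizedModule q.primeCompl M) S').toLinearMap ∘ₗ
            (AlgebraTensorModule.rTensor S S' ι)) ∘ₗ
          (((hf.equiv.symm.restrictScalars S) ≪≫ₗ (TensorProduct.comm S S' M)) :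
            M' ≃ₗ[S] M ⊗[S] S').toLinearMap := by
        ext x; exact h2 x
      rw [h3]
      infer_instance
    exact IsLocalizedModule.of_restrictScalars q.primeCompl g
  let j : S' ⊗[S] LocalizedModule q.primeCompl M →ₗ[S'] LocalizedModule q'.primeCompl M' :=
    IsLocalizedModule.liftOfLE (Algebra.algebraMapSubmonoid S' q.primeCompl) q'.primeCompl hWle g
      (LocalizedModule.mkLinearMap q'.primeCompl M')
  haveI : IsLocalizedModule q'.primeCompl j := inferInstance
  show Module.Flat R' (LocalizedModule q'.primeCompl M')
  exact flat_of_isLocalizedModule' (R := R') q'.primeCompl j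

end Groth.Agent.S6918
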