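import Groth.Statements.S6926
import Mathlib
import Groth.Agent.S6918
import Groth.Agent.Lib.Helper9.FlatSqZero
import Groth.Agent.Lib.Helper9.FlatDescArt
import Groth.Agent.Lib.Helper1.LocFlat

set_option autoImplicit false
universe u
open TensorProduct
open FlatMor

namespace Groth.Agent.S6926

open TensorProduct

/-- injectivity of `N ⊗ g` may be checked after localizing `N` at maximal ideals of an algebra. -/
theorem lTensor_injective_of_localized_maximal {A B : Type u} [CommRing A] [CommRing B]
    [Algebra A B] (N : Type u) [AddCommGroup N] [Module A N] [Module B N] [IsScalarTower A B N]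
    {P' P : Type u} [AddCommGroup P'] [AddCommGroup P] [Module A P'] [Module A P]
    (g : P' →ₗ[A] P)
    (H : ∀ (𝔫 : Ideal B) [𝔫.IsMaximal],
      Function.Injective (g.lTensor (LocalizedModule 𝔫.primeCompl N))) :
    Function.Injective (g.lTensor N) := by
  show Function.Injective (AlgebraTensorModule.lTensor B N g)
  refine injective_of_isLocalized_maximal _
    (fun 𝔫 ↦ AlgebraTensorModule.rTensor A _ (LocalizedModule.mkLinearMap 𝔫.primeCompl N)) _
    (fun 𝔫 ↦ AlgebraTensorModule.rTensor A _ (LocalizedModule.mkLinearMap 𝔫.primeCompl N)) _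
    fun 𝔫 h𝔫 ↦ ?_
  rw [IsLocalizedModule.map_lTensor]
  exact H 𝔫

/-- Over the Artinian quotient `R'/𝔪'ⁿ`, flatness of the base change follows from flatness at the
primes over `𝔪'`. -/
theorem flat_artin_baseChange {R' S' : Type u} [CommRing R'] [IsLocalRing R'] [CommRing S']
    [Algebra R' S'] (M' : Type u) [AddCommGroup M'] [Module R' M'] [Module S' M']
    [IsScalarTower R' S' M'] (n : ℕ)
    (H : ∀ (q' : Ideal S') [q'.IsPrime],
      q'.comap (algebraMap R' S') = IsLocalRing.maximalIdeal R' →
        Module.Flat R' (LocalizedModule q'.primeCompl M')) :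
    Module.Flat (R' ⧸ IsLocalRing.maximalIdeal R' ^ n)
      ((R' ⧸ IsLocalRing.maximalIdeal R' ^ n) ⊗[R'] M') := by
  apply Groth.Agent.Lib.Helper1.LocFlat.flat_baseChange_of_rTensor_injective
  intro P' P _ _ _ _ _ _ _ _ g hg
  rw [← LinearMap.lTensor_inj_iff_rTensor_inj]
  apply lTensor_injective_of_localized_maximal (B := S') M' (g.restrictScalars R')
  intro 𝔫 h𝔫
  by_cases hc : 𝔫.comap (algebraMap R' S') = IsLocalRing.maximalIdeal R'
  · haveI : Module.Flat R' (LocalizedModule 𝔫.primeCompl M') := H 𝔫 hc
    exact Module.Flat.lTensor_preserves_injective_linearMap _ hg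
  · have hlt : ∃ a ∈ IsLocalRing.maximalIdeal R', algebraMap R' S' a ∉ 𝔫 := by
      by_contra hno
      push_neg at hno
      apply hc
      have hle : IsLocalRing.maximalIdeal R' ≤ 𝔫.comap (algebraMap R' S') :=
        fun a ha => hno a ha
      have hp : (𝔫.comap (algebraMap R' S')).IsPrime := Ideal.comap_isPrime _ _
      exact ((IsLocalRing.maximalIdeal.isMaximal R').eq_of_le hp.ne_top hle).symm
    obtain ⟨a, ha, han⟩ := hlt
    haveI : Subsingleton ((LocalizedModule 𝔫.primeCompl M') ⊗[R'] P') := by
      refine subsingleton_of_forall_eq 0 (fun x => ?_)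
      induction x using TensorProduct.induction_on with
      | zero => rfl
      | add x y hx hy => rw [hx, hy, add_zero]
      | tmul m p =>
        have hu : (algebraMap R' S' a) ^ n ∈ 𝔫.primeCompl :=
          pow_mem (show algebraMap R' S' a ∈ 𝔫.primeCompl from han) n
        have hunit := IsLocalizedModule.map_units
          (LocalizedModule.mkLinearMap 𝔫.primeCompl M') ⟨_, hu⟩
        obtain ⟨m₀, hm₀⟩ := ((Module.End.isUnit_iff _).mp hunit).2 m
        have hm₀' : (algebraMap R' S' a ^ n) • m₀ = m := by
          rw [← hm₀, Module.algebraMap_end_apply]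
        have h1 : m = (a ^ n) • m₀ := by
          rw [← hm₀', ← map_pow, algebraMap_smul]
        have h2 : (a ^ n) • p = 0 := by
          rw [← algebraMap_smul (R' ⧸ IsLocalRing.maximalIdeal R' ^ n) (a ^ n) p]
          have h0 : algebraMap R' (R' ⧸ IsLocalRing.maximalIdeal R' ^ n) (a ^ n) = 0 :=
            Ideal.Quotient.eq_zero_iff_mem.mpr (Ideal.pow_mem_pow ha n)
          rw [h0, zero_smul]
        rw [h1, TensorProduct.smul_tmul, h2, tmul_zero]
    exact Function.injective_of_subsingleton _

/-- flatness of a base change passes to localizations (no surjectivity needed). -/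
theorem flat_baseChange_localizedModule' {R : Type u} [CommRing R] (Λ : Type u) [CommRing Λ]
    [Algebra R Λ] {S M : Type u} [CommRing S] [Algebra R S] [AddCommGroup M] [Module R M]
    [Module S M] [IsScalarTower R S M] (p : Submonoid S) [Module.Flat Λ (Λ ⊗[R] M)] :
    Module.Flat Λ (Λ ⊗[R] LocalizedModule p M) := by
  apply Groth.Agent.Lib.Helper1.LocFlat.flat_baseChange_of_rTensor_injective
  intro P' P _ _ _ _ _ _ _ _ g hg
  have h1 : Function.Injective ((g.restrictScalars R).rTensor M) :=
    Groth.Agent.Lib.Helper9.FlatSqZero.rTensor_injective_of_flat_baseChange' (S := Λ) M g hg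
  have h2 : Function.Injective ((g.restrictScalars R).lTensor M) :=
    (LinearMap.lTensor_inj_iff_rTensor_inj _ _).mpr h1
  have h3 := Groth.Agent.Lib.Helper1.LocFlat.lTensor_localizedModule_injective p _ h2
  exact (LinearMap.lTensor_inj_iff_rTensor_inj _ _).mp h3

/-- the kernel ideal at level `n`. -/
def KK (R R' : Type u) [CommRing R] [CommRing R'] [IsLocalRing R'] [Algebra R R'] (n : ℕ) :
    Ideal R :=
  (((IsLocalRing.maximalIdeal R').map
    (Ideal.Quotient.mk (IsLocalRing.maximalIdeal R' ^ n))) ^ n).comap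
    (algebraMap R (R' ⧸ IsLocalRing.maximalIdeal R' ^ n))

theorem KK_le (R R' : Type u) [CommRing R] [CommRing R'] [IsLocalRing R'] [Algebra R R']
    (n : ℕ) : KK R R' n ≤ (IsLocalRing.maximalIdeal R' ^ n).comap (algebraMap R R') := by
  intro a ha
  have h1 : algebraMap R (R' ⧸ IsLocalRing.maximalIdeal R' ^ n) a ∈
      ((IsLocalRing.maximalIdeal R').map
        (Ideal.Quotient.mk (IsLocalRing.maximalIdeal R' ^ n))) ^ n := ha
  rw [← Ideal.map_pow, Ideal.map_quotient_self, Ideal.mem_bot,
    IsScalarTower.algebraMap_apply R R' (R' ⧸ IsLocalRing.maximalIdeal R' ^ n)] at h1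
  rw [Ideal.mem_comap]
  exact Ideal.Quotient.eq_zero_iff_mem.mp h1

theorem KK_ne_top (R R' : Type u) [CommRing R] [CommRing R'] [IsLocalRing R'] [Algebra R R']
    (n : ℕ) : KK R R' (n + 1) ≠ ⊤ := by
  intro h
  have h0 : (1 : R) ∈ KK R R' (n + 1) := by rw [h]; exact Submodule.mem_top
  have h1 := KK_le R R' (n + 1) h0
  rw [Ideal.mem_comap, map_one] at h1
  have h2 : (1 : R') ∈ IsLocalRing.maximalIdeal R' :=
    Ideal.pow_le_self (Nat.succ_ne_zero n) h1
  exact (IsLocalRing.maximalIdeal.isMaximal R').ne_top ((Ideal.eq_top_iff_one _).mpr h2)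

theorem forward_flat {R S R' S' : Type u} [CommRing R] [IsLocalRing R] [CommRing S]
    [CommRing R'] [IsLocalRing R'] [CommRing S']
    [Algebra R S] [Algebra R R'] [IsLocalHom (algebraMap R R')] [Algebra S S'] [Algebra R' S']
    [Algebra R S'] [IsScalarTower R S S'] [IsScalarTower R R' S'] [Algebra.IsPushout R S R' S']
    {M M' : Type u} [AddCommGroup M] [Module S M] [Module R M] [IsScalarTower R S M]
    [AddCommGroup M'] [Module S' M'] [Module R' M'] [IsScalarTower R' S' M'] [Module S M']
    [IsScalarTower S S' M']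
    (f : M →ₗ[S] M') (hf : IsBaseChange S' f) (n : ℕ)
    (H : ∀ (q' : Ideal S') [q'.IsPrime],
      q'.comap (algebraMap R' S') = IsLocalRing.maximalIdeal R' → FlatCA.FlatAt R' q' M')
    (q : Ideal S) [q.IsPrime] :
    Module.Flat (R ⧸ KK R R' (n + 1))
      ((R ⧸ KK R R' (n + 1)) ⊗[R] LocalizedModule q.primeCompl M) := by
  haveI h1 : Module.Flat (R' ⧸ IsLocalRing.maximalIdeal R' ^ (n + 1))
      ((R' ⧸ IsLocalRing.maximalIdeal R' ^ (n + 1)) ⊗[R'] M') :=
    flat_artin_baseChange (S' := S') M' (n + 1) (fun q' _ hq' => H q' hq')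
  haveI : Algebra.IsPushout R R' S S' := Algebra.IsPushout.symm inferInstance
  let e : R' ⊗[R] M ≃ₗ[R'] M' :=
    (Algebra.IsPushout.cancelBaseChange R R' S S' M).symm ≪≫ₗ hf.equiv.restrictScalars R'
  haveI h2 : Module.Flat (R' ⧸ IsLocalRing.maximalIdeal R' ^ (n + 1))
      ((R' ⧸ IsLocalRing.maximalIdeal R' ^ (n + 1)) ⊗[R] M) :=
    Module.Flat.of_linearEquiv
      ((AlgebraTensorModule.cancelBaseChange R R' (R' ⧸ IsLocalRing.maximalIdeal R' ^ (n + 1))
        (R' ⧸ IsLocalRing.maximalIdeal R' ^ (n + 1)) M).symm ≪≫ₗ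
        AlgebraTensorModule.congr (LinearEquiv.refl _ _) e)
  haveI h3 : Module.Flat (R' ⧸ IsLocalRing.maximalIdeal R' ^ (n + 1))
      ((R' ⧸ IsLocalRing.maximalIdeal R' ^ (n + 1)) ⊗[R] LocalizedModule q.primeCompl M) :=
    flat_baseChange_localizedModule' _ q.primeCompl
  have h𝔯 : (IsLocalRing.maximalIdeal R).map
      (algebraMap R (R' ⧸ IsLocalRing.maximalIdeal R' ^ (n + 1))) ≤
      (IsLocalRing.maximalIdeal R').map
        (Ideal.Quotient.mk (IsLocalRing.maximalIdeal R' ^ (n + 1))) := by
    rw [IsScalarTower.algebraMap_eq R R' (R' ⧸ IsLocalRing.maximalIdeal R' ^ (n + 1)),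
      ← Ideal.map_map]
    exact Ideal.map_mono (IsLocalRing.map_maximalIdeal_le (algebraMap R R'))
  exact Groth.Agent.Lib.Helper9.FlatDescArt.flat_quotient_of_flat_baseChange
    (A := R) (A' := R' ⧸ IsLocalRing.maximalIdeal R' ^ (n + 1))
    (LocalizedModule q.primeCompl M)
    ((IsLocalRing.maximalIdeal R').map
      (Ideal.Quotient.mk (IsLocalRing.maximalIdeal R' ^ (n + 1))))
    h𝔯 (n + 1) (KK_ne_top R R' n) (KK R R' (n + 1)) le_rfl


/-- Let `(R, 𝔪)` be a complete Noetherian local ring, `R → S` with `S` Noetherian, `M` a finite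
`S`-module, and `I ⊆ 𝔪` the least ideal with the property that, at each prime `𝔮` of `S` lying above
`𝔪`, the localization `(M/IM)_𝔮` is an `R/I`-flat module. Let `φ : R → R'` be a local homomorphism
to a Noetherian local ring `(R', 𝔪')`, `S' = S ⊗_R R'`, `M' = M ⊗_R R'`. Then `M'_{𝔮'}` is flat over
`R'` for every prime `𝔮'` of `S'` lying over `𝔪'` if and only if `φ(I) = 0`. -/
theorem result {R S R' S' : Type u} [CommRing R] [IsLocalRing R]
    [IsNoetherianRing R] [IsAdicComplete (IsLocalRing.maximalIdeal R) R] [CommRing S] [IsNoetherianRing S]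
    [CommRing R'] [IsLocalRing R'] [IsNoetherianRing R'] [CommRing S']
    [Algebra R S] [Algebra R R'] [IsLocalHom (algebraMap R R')] [Algebra S S'] [Algebra R' S'] [Algebra R S']
    [IsScalarTower R S S'] [IsScalarTower R R' S'] [Algebra.IsPushout R S R' S']
    {M M' : Type u} [AddCommGroup M] [Module S M] [Module R M] [IsScalarTower R S M] [Module.Finite S M]
    [AddCommGroup M'] [Module S' M'] [Module R' M'] [IsScalarTower R' S' M'] [Module S M'] [IsScalarTower S S' M']
    (f : M →ₗ[S] M') (hf : IsBaseChange S' f) (I : Ideal R) (hIm : I ≤ IsLocalRing.maximalIdeal R)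
    (hI : (∀ (q : Ideal S) [q.IsPrime], q.comap (algebraMap R S) = IsLocalRing.maximalIdeal R →
        Module.Flat (R ⧸ I) ((R ⧸ I) ⊗[R] LocalizedModule q.primeCompl M)))
    (hmin : ∀ J : Ideal R, (∀ (q : Ideal S) [q.IsPrime], q.comap (algebraMap R S) = IsLocalRing.maximalIdeal R →
        Module.Flat (R ⧸ J) ((R ⧸ J) ⊗[R] LocalizedModule q.primeCompl M)) → I ≤ J) :
    (∀ (q' : Ideal S') [q'.IsPrime], q'.comap (algebraMap R' S') = IsLocalRing.maximalIdeal R' → FlatCA.FlatAt R' q' M') ↔
      I ≤ RingHom.ker (algebraMap R R') := by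
  constructor
  · intro H
    have hA : ∀ n : ℕ, I ≤ KK R R' (n + 1) := by
      intro n
      apply hmin
      intro q _ hq
      exact forward_flat f hf n H q
    intro a ha
    rw [RingHom.mem_ker]
    have hmem : algebraMap R R' a ∈ ⨅ i : ℕ, IsLocalRing.maximalIdeal R' ^ i := by
      rw [Ideal.mem_iInf]
      intro i
      cases i with
      | zero =>
        rw [pow_zero, Ideal.one_eq_top]
        exact Submodule.mem_top
      | succ n => exact KK_le R R' (n + 1) (hA n ha)
    rw [Ideal.iInf_pow_eq_bot_of_isLocalRing _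
      (IsLocalRing.maximalIdeal.isMaximal R').ne_top] at hmem
    exact Ideal.mem_bot.mp hmem
  · intro hker q' hq' hq'm
    set q : Ideal S := q'.comap (algebraMap S S') with hqdef
    haveI : q.IsPrime := Ideal.comap_isPrime _ _
    have hq : q.comap (algebraMap R S) = IsLocalRing.maximalIdeal R := by
      rw [hqdef, Ideal.comap_comap, ← IsScalarTower.algebraMap_eq R S S',
        IsScalarTower.algebraMap_eq R R' S', ← Ideal.comap_comap, hq'm]
      exact IsLocalRing.maximalIdeal_comap (algebraMap R R')
    have hWle : Algebra.algebraMapSubmonoid S' q.primeCompl ≤ q'.primeCompl := by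
      rintro _ ⟨x, hx, rfl⟩
      exact hx
    have hT : Module.Flat R' (S' ⊗[S] LocalizedModule q.primeCompl M) := by
      haveI : Algebra.IsPushout R R' S S' := Algebra.IsPushout.symm inferInstance
      have e := Algebra.IsPushout.cancelBaseChange R R' S S' (LocalizedModule q.primeCompl M)
      haveI := hI q hq
      haveI : Module.Flat R' (R' ⊗[R] LocalizedModule q.primeCompl M) :=
        Groth.Agent.Lib.Helper9.FlatSqZero.flat_of_algHom (A := R)
          (Ideal.Quotient.liftₐ I (Algebra.ofId R R')
            (fun a ha => RingHom.mem_ker.mp (hker ha))) _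
      exact Module.Flat.of_linearEquiv e
    let ι : M →ₗ[S] LocalizedModule q.primeCompl M := LocalizedModule.mkLinearMap q.primeCompl M
    let g : M' →ₗ[S'] S' ⊗[S] LocalizedModule q.primeCompl M :=
      hf.lift ((TensorProduct.mk S S' (LocalizedModule q.primeCompl M) 1) ∘ₗ ι)
    have hg : ∀ m, g (f m) = 1 ⊗ₜ ι m := fun m => hf.lift_eq _ m
    haveI hloc : IsLocalizedModule (Algebra.algebraMapSubmonoid S' q.primeCompl) g := by
      haveI : IsLocalizedModule q.primeCompl (g.restrictScalars S) := by
        have h2 : ∀ x, g x = (TensorProduct.comm S (LocalizedModule q.primeCompl M) S')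
            ((AlgebraTensorModule.rTensor S S' ι) ((TensorProduct.comm S S' M)
              (hf.equiv.symm x))) := by
          intro x
          obtain ⟨y, rfl⟩ := hf.equiv.surjective x
          rw [LinearEquiv.symm_apply_apply]
          induction y using TensorProduct.induction_on with
          | zero => simp
          | tmul s m =>
            rw [hf.equiv_tmul, map_smul, hg]
            simp [TensorProduct.smul_tmul']
          | add a b ha hb => simp only [map_add, ha, hb]
        have h3 : g.restrictScalars S =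
            ((TensorProduct.comm S (LocalizedModule q.primeCompl M) S').toLinearMap ∘ₗ
              (AlgebraTensorModule.rTensor S S' ι)) ∘ₗ
            (((hf.equiv.symm.restrictScalars S) ≪≫ₗ (TensorProduct.comm S S' M)) :
              M' ≃ₗ[S] M ⊗[S] S').toLinearMap := by
          ext x; exact h2 x
        rw [h3]
        infer_instance
      exact IsLocalizedModule.of_restrictScalars q.primeCompl g
    let j : S' ⊗[S] LocalizedModule q.primeCompl M →ₗ[S'] LocalizedModule q'.primeCompl M' :=
      IsLocalizedModule.liftOfLE (Algebra.algebraMapSubmonoid S' q.primeCompl) q'.primeCompl hWle g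
        (LocalizedModule.mkLinearMap q'.primeCompl M')
    haveI : IsLocalizedModule q'.primeCompl j := inferInstance
    show Module.Flat R' (LocalizedModule q'.primeCompl M')
    exact Groth.Agent.S6918.flat_of_isLocalizedModule' (R := R') q'.primeCompl j

end Groth.Agent.S6926
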