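import Groth.Statements.S2004
import Mathlib.RingTheory.Flat.Basic
import Mathlib.LinearAlgebra.TensorProduct.Tower
import Mathlib.Algebra.Module.Projective
import Mathlib.RingTheory.Finiteness.Defs

set_option autoImplicit false
universe u
open TensorProduct
open EtAlg

namespace Groth.Agent.S2004

/-- Let R -> R' induce bijections R/f^n R -> R'/f^n R' for all n > 0. Then (R -> R', f) is a glueing
pair if and only if R -> R' maps the f-power torsion of R bijectively onto the f-power torsion of R'
(stated as: injective on f-power torsion elements, and every f-power torsion element of R' is the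
image of one of R). -/
theorem result (R R' : Type u) [CommRing R] [CommRing R'] [Algebra R R'] (f : R)
    (hq : EtGlue.QuotPowBijective R R' f) :
    EtGlue.IsGlueingPair R R' f ↔
      ((∀ x : R, (∃ n : ℕ, f ^ n * x = 0) → algebraMap R R' x = 0 → x = 0) ∧
       (∀ x' : R', (∃ n : ℕ, algebraMap R R' f ^ n * x' = 0) →
          ∃ x : R, (∃ n : ℕ, f ^ n * x = 0) ∧ algebraMap R R' x = x')) := by
  have hzero : ∀ x : R, algebraMap R (Localization.Away f) x = 0 ↔ ∃ n : ℕ, f ^ n * x = 0 := by
    intro x
    rw [IsLocalization.map_eq_zero_iff (Submonoid.powers f)]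
    constructor
    · rintro ⟨⟨_, n, rfl⟩, h⟩; exact ⟨n, h⟩
    · rintro ⟨n, h⟩; exact ⟨⟨f ^ n, n, rfl⟩, h⟩
  have hzero' : ∀ x : R', algebraMap R' (Localization.Away (algebraMap R R' f)) x = 0 ↔
      ∃ n : ℕ, algebraMap R R' f ^ n * x = 0 := by
    intro x
    rw [IsLocalization.map_eq_zero_iff (Submonoid.powers (algebraMap R R' f))]
    constructor
    · rintro ⟨⟨_, n, rfl⟩, h⟩; exact ⟨n, h⟩
    · rintro ⟨n, h⟩; exact ⟨⟨algebraMap R R' f ^ n, n, rfl⟩, h⟩
  have hmap : ∀ r : R, Localization.awayMap (algebraMap R R') f (algebraMap R _ r) =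
      algebraMap R' _ (algebraMap R R' r) := by
    intro r
    simp [Localization.awayMap, IsLocalization.Away.map, IsLocalization.map_eq]
  have hunit : IsUnit (algebraMap R (Localization.Away f) f) :=
    IsLocalization.Away.algebraMap_isUnit f
  have hunit' : IsUnit (algebraMap R' (Localization.Away (algebraMap R R' f)) (algebraMap R R' f)) :=
    IsLocalization.Away.algebraMap_isUnit _
  constructor
  · rintro ⟨-, hinj, hmid, -⟩
    refine ⟨fun x hx hx0 => ?_, fun x' hx' => ?_⟩
    · apply hinj
      simp only [map_zero, Prod.mk.injEq]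
      exact ⟨hx0, (hzero x).mpr hx⟩
    · obtain ⟨r, hr1, hr2⟩ := hmid x' 0 (by rw [map_zero]; exact (hzero' x').mpr hx')
      exact ⟨r, (hzero r).mp hr2, hr1⟩
  · rintro ⟨htinj, htsurj⟩
    refine ⟨hq, ?_, ?_, ?_⟩
    · intro r r' h
      simp only [Prod.mk.injEq] at h
      have h1 : algebraMap R R' (r - r') = 0 := by rw [map_sub, h.1, sub_self]
      have h2 : algebraMap R (Localization.Away f) (r - r') = 0 := by rw [map_sub, h.2, sub_self]
      exact sub_eq_zero.mp (htinj _ ((hzero _).mp h2) h1)
    · intro x y hxy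
      obtain ⟨n, a, hna⟩ := IsLocalization.Away.surj f y
      -- use exponent n+1
      have hna' : y * algebraMap R (Localization.Away f) f ^ (n + 1) =
          algebraMap R (Localization.Away f) (a * f) := by
        rw [pow_succ, ← mul_assoc, hna, map_mul]
      have h1 : algebraMap R' (Localization.Away (algebraMap R R' f))
          (x * algebraMap R R' f ^ (n + 1) - algebraMap R R' (a * f)) = 0 := by
        rw [map_sub, map_mul, map_pow, hxy, ← hmap, ← hmap, ← map_pow, ← map_mul, hna', sub_self]
      obtain ⟨t, ht, hteq⟩ := htsurj _ ((hzero' _).mp h1)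
      -- a*f + t is divisible by f^(n+1)
      have h2 : algebraMap R R' (a * f + t) = x * algebraMap R R' f ^ (n + 1) := by
        rw [map_add, hteq]; ring
      have h3 : a * f + t ∈ Ideal.span {f ^ (n + 1)} := by
        have := (hq (n + 1) (Nat.succ_pos n)).1
        rw [← Ideal.Quotient.eq_zero_iff_mem]
        apply this
        rw [map_zero, Ideal.quotientMap_mk, Ideal.Quotient.eq_zero_iff_mem, h2, Ideal.map_span,
          Set.image_singleton, map_pow]
        exact Ideal.mul_mem_left _ _ (Ideal.mem_span_singleton_self _)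
      obtain ⟨r₀, hr₀⟩ := Ideal.mem_span_singleton'.mp h3
      have h4 : ∃ k : ℕ, algebraMap R R' f ^ k * (x - algebraMap R R' r₀) = 0 := by
        refine ⟨n + 1, ?_⟩
        rw [mul_sub, mul_comm, ← h2, ← hr₀, map_mul, map_pow]; ring
      obtain ⟨t', ht', ht'eq⟩ := htsurj _ h4
      refine ⟨r₀ + t', by rw [map_add, ht'eq]; ring, ?_⟩
      rw [map_add, (hzero t').mpr ht', add_zero]
      have hu := hunit.pow (n + 1)
      apply hu.mul_left_injective
      simp only
      rw [hna', ← map_pow, ← map_mul, hr₀, map_add, (hzero t).mpr ht, add_zero]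
    · intro z
      obtain ⟨n, x', hnx⟩ := IsLocalization.Away.surj (algebraMap R R' f) z
      have hnx' : z * algebraMap R' (Localization.Away (algebraMap R R' f)) (algebraMap R R' f) ^ (n + 1) =
          algebraMap R' _ (x' * algebraMap R R' f) := by
        rw [pow_succ, ← mul_assoc, hnx, map_mul]
      obtain ⟨abar, ha⟩ := (hq (n + 1) (Nat.succ_pos n)).2 (Ideal.Quotient.mk _ (x' * algebraMap R R' f))
      obtain ⟨a, rfl⟩ := Ideal.Quotient.mk_surjective abar
      rw [Ideal.quotientMap_mk, Ideal.Quotient.eq, Ideal.map_span, Set.image_singleton, map_pow] at ha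
      obtain ⟨x'', hx''⟩ := Ideal.mem_span_singleton'.mp ha
      refine ⟨-x'', -(IsLocalization.mk' (Localization.Away f) a
        (⟨f ^ (n + 1), n + 1, rfl⟩ : Submonoid.powers f)), ?_⟩
      have hs : IsLocalization.mk' (Localization.Away f) a
          (⟨f ^ (n + 1), n + 1, rfl⟩ : Submonoid.powers f) *
          algebraMap R (Localization.Away f) (f ^ (n + 1)) = algebraMap R _ a :=
        IsLocalization.mk'_spec _ a (⟨f ^ (n + 1), n + 1, rfl⟩ : Submonoid.powers f)
      have hu := hunit'.pow (n + 1)
      apply hu.mul_left_injective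
      simp only
      rw [hnx', sub_mul, map_neg, map_neg, neg_mul, neg_mul, ← map_pow, ← map_mul, ← map_pow,
        ← hmap, ← map_mul, hs, hmap, map_pow, hx'', map_sub]
      ring

end Groth.Agent.S2004
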