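import Groth.Statements.S1756
import Groth.Agent.Lib.Helper14.CutoffFin.Global
import Groth.Agent.Lib.Helper9.DepthZero

set_option autoImplicit false
universe u
open LocCoh

namespace Groth.Agent.S1756

/-- Let A be a universally catenary Noetherian ring and I an ideal such that for every prime q
containing I the formal fibres of A_q satisfy (S_1), and let M be a finite A-module. If for every
associated prime p of M not containing I and every prime q containing both p and I the longest chain
of primes from p to q has length at least 2, then the local cohomology module H^1_I(M) is a finite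
A-module. (Affine form: finiteness of H^1_I(M) stands in for coherence of the pushforward of the
restriction of M~ to Spec A ∖ V(I).) -/
theorem result (A : Type u) [CommRing A] [IsNoetherianRing A] (hA : CAlg.IsUniversallyCatenary A) (I : Ideal A) (hF : ∀ q : PrimeSpectrum A, I ≤ q.asIdeal → EGA4.HasSnFormalFibres 1 (Localization.AtPrime q.asIdeal)) (M : Type u) [AddCommGroup M] [Module A M] [Module.Finite A M] (h : ∀ (p q : PrimeSpectrum A) (hpq : p ≤ q), p.asIdeal ∈ associatedPrimes A M → ¬ I ≤ p.asIdeal → I ≤ q.asIdeal → (2 : ℕ∞) ≤ Order.height (⟨q, hpq⟩ : Set.Ici p)) : Module.Finite A (LocCoh.H I 1 M) := by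
  have hs : ((1 : ℕ) : ℕ∞) < Dual2.cutoff A I M := by
    have h2 : (2 : ℕ∞) ≤ Dual2.cutoff A I M := by
      unfold Dual2.cutoff
      refine le_iInf fun p => le_iInf fun q => le_iInf fun hpq => le_iInf fun hp =>
        le_iInf fun hq => ?_
      by_cases hass : p.asIdeal ∈ associatedPrimes A M
      · exact (h p q hpq hass hp hq).trans le_add_self
      · haveI := p.2
        haveI : IsNoetherianRing (Localization.AtPrime p.asIdeal) :=
          IsLocalization.isNoetherianRing p.asIdeal.primeCompl _ inferInstance
        have hd : (1 : ℕ∞) ≤ LocCoh.depth (Localization.AtPrime p.asIdeal)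
            (LocalizedModule p.asIdeal.primeCompl M) := by
          rw [ENat.one_le_iff_ne_zero]
          intro h0
          rw [Groth.Agent.Lib.Helper9.depth_eq_zero_iff_mem_associatedPrimes] at h0
          apply hass
          have := Module.associatedPrimes.comap_mem_associatedPrimes_of_mem_associatedPrimes_of_isLocalizedModule_of_fg
            p.asIdeal.primeCompl (LocalizedModule.mkLinearMap p.asIdeal.primeCompl M)
            (IsLocalRing.maximalIdeal (Localization.AtPrime p.asIdeal)) h0
            ((isNoetherianRing_iff_ideal_fg A).mp inferInstance _)
          rwa [← Ideal.under_def, Localization.AtPrime.under_maximalIdeal] at this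
        have hne : p ≠ q := by
          rintro rfl
          exact hp hq
        have hh : (1 : ℕ∞) ≤ Order.height (⟨q, hpq⟩ : Set.Ici p) := by
          have hlt : (⟨p, le_refl p⟩ : Set.Ici p) < ⟨q, hpq⟩ :=
            lt_of_le_of_ne hpq (fun h => hne (congrArg Subtype.val h))
          have := Order.height_add_one_le hlt
          exact le_trans (by simp) this
        calc (2 : ℕ∞) = 1 + 1 := by norm_num
          _ ≤ _ := add_le_add hd hh
    exact lt_of_lt_of_le (by norm_num) h2
  exact Groth.Agent.Lib.Helper14.CutoffFin.finite_H_of_lt_cutoff A I M hA 1 hF 1 le_rfl hs 1 le_rfl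

end Groth.Agent.S1756
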