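import Groth.Statements.S2032
import Groth.Agent.Lib.Helper14.ElemStd

set_option autoImplicit false
universe u
open Smoothing

namespace Groth.Agent.S2032

/-- For a finitely presented `R`-algebra `A` and `a ∈ A`, if `a` is elementary standard then `A_a` is
standard smooth over `R`. (Part (f), the converse for large powers of `a`, is not stated: as
published it fails, for example for the nodal cubic `A = {g ∈ ℚ[u] : g(0) = g(1)}` and `a =
u(u-1)`.) -/
theorem result {R A : Type u} [CommRing R] [CommRing A]
    [Algebra R A] [Algebra.FinitePresentation R A] (a : A)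
    (ha : Smoothing.IsElementaryStandard R A a) : Algebra.IsStandardSmooth R (Localization.Away a) := by
  classical
  obtain ⟨P, ⟨a', ha'⟩, hK⟩ := ha
  -- the leading relations
  let v : Fin P.c → MvPolynomial (Fin P.n) R := fun j => P.rel (Fin.castLE P.hcm j)
  let ι : Fin P.c → Fin P.n := Fin.castLE P.hcn
  have hι : Function.Injective ι := Fin.castLE_injective P.hcn
  let B := MvPolynomial (Fin P.n) R ⧸ Ideal.span (Set.range v)
  have hv : Ideal.span (Set.range v) ≤ RingHom.ker P.hom.toRingHom := by
    rw [P.ker_eq]
    apply Ideal.span_mono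
    rintro _ ⟨j, rfl⟩
    exact ⟨_, rfl⟩
  let π : B →ₐ[R] A := Ideal.Quotient.liftₐ _ P.hom (fun x hx => hv hx)
  have hπmk : ∀ p, π (Ideal.Quotient.mk _ p) = P.hom p := fun p => rfl
  have hπ : Function.Surjective π := by
    intro x
    obtain ⟨p, rfl⟩ := P.surj x
    exact ⟨Ideal.Quotient.mk _ p, rfl⟩
  -- the kernel of π
  have hker : RingHom.ker π.toRingHom =
      Ideal.span (Set.range fun j => (Ideal.Quotient.mk (Ideal.span (Set.range v)) (P.rel j))) := by
    apply le_antisymm
    · intro x hx
      obtain ⟨p, rfl⟩ := Ideal.Quotient.mk_surjective x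
      have hp : p ∈ Ideal.span (Set.range P.rel) := by
        rw [← P.ker_eq]; exact hx
      have : Ideal.Quotient.mk (Ideal.span (Set.range v)) p ∈
          (Ideal.span (Set.range P.rel)).map (Ideal.Quotient.mk (Ideal.span (Set.range v))) :=
        Ideal.mem_map_of_mem _ hp
      rw [Ideal.map_span] at this
      convert this using 2
      ext y
      simp [Set.mem_image, Set.mem_range]
    · rw [Ideal.span_le]
      rintro _ ⟨j, rfl⟩
      show π (Ideal.Quotient.mk _ (P.rel j)) = 0
      rw [hπmk]
      have : P.rel j ∈ RingHom.ker P.hom.toRingHom := by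
        rw [P.ker_eq]; exact Ideal.subset_span ⟨j, rfl⟩
      exact this
  have hkerfg : (RingHom.ker π.toRingHom).FG := by
    rw [hker]
    exact Submodule.fg_span (Set.finite_range _)
  -- lifts
  obtain ⟨ã', hã'⟩ := P.surj a'
  set Δ := Smoothing.jacobianMinor P.rel (Fin.castLE P.hcm) (Fin.castLE P.hcn) with hΔ
  let ã : MvPolynomial (Fin P.n) R := ã' * Δ
  have hã : P.hom ã = a := by
    show P.hom (ã' * Δ) = a
    rw [map_mul, hã', ha']
  let ā : B := Ideal.Quotient.mk _ ã
  have hπā : π ā = a := hã
  -- ā • ker ⊆ ker²
  have hmul : ∀ y ∈ RingHom.ker π.toRingHom, ā * y ∈ RingHom.ker π.toRingHom * RingHom.ker π.toRingHom := by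
    intro y hy
    rw [hker] at hy
    induction hy using Submodule.span_induction with
    | mem y hy =>
      obtain ⟨j, rfl⟩ := hy
      by_cases hj : (j : ℕ) < P.c
      · have : P.rel j ∈ Ideal.span (Set.range v) :=
          Ideal.subset_span ⟨⟨j, hj⟩, by simp [v, Fin.castLE]⟩
        have h0 : Ideal.Quotient.mk (Ideal.span (Set.range v)) (P.rel j) = 0 :=
          Ideal.Quotient.eq_zero_iff_mem.mpr this
        simp only [h0, mul_zero]
        exact Ideal.zero_mem _
      · have h1 := hK ã hã j (not_lt.mp hj)
        have h2 : Ideal.Quotient.mk (Ideal.span (Set.range v)) (ã * P.rel j) ∈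
            (Ideal.span (P.rel '' {j' : Fin P.m | (j' : ℕ) < P.c}) ⊔
              Ideal.span (Set.range P.rel) ^ 2).map (Ideal.Quotient.mk (Ideal.span (Set.range v))) :=
          Ideal.mem_map_of_mem _ h1
        rw [Ideal.map_sup, Ideal.map_pow] at h2
        have h3 : (Ideal.span (P.rel '' {j' : Fin P.m | (j' : ℕ) < P.c})).map
            (Ideal.Quotient.mk (Ideal.span (Set.range v))) = ⊥ := by
          rw [Ideal.map_eq_bot_iff_le_ker, Ideal.mk_ker]
          apply Ideal.span_mono
          rintro _ ⟨j', hj', rfl⟩
          exact ⟨⟨j', hj'⟩, by simp [v, Fin.castLE]⟩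
        have h4 : (Ideal.span (Set.range P.rel)).map (Ideal.Quotient.mk (Ideal.span (Set.range v))) =
            RingHom.ker π.toRingHom := by
          rw [hker, Ideal.map_span]
          congr 1
          ext y
          simp [Set.mem_image, Set.mem_range]
        rw [h3, bot_sup_eq, h4, pow_two] at h2
        rw [map_mul] at h2
        exact h2
    | zero => simp
    | add x y _ _ hx hy => rw [mul_add]; exact Ideal.add_mem _ hx hy
    | smul r x _ hx =>
      rw [smul_eq_mul, mul_left_comm]
      exact Ideal.mul_mem_left _ _ hx
  obtain ⟨k, g₀, hg₀, hg₀kill⟩ :=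
    Groth.Agent.Lib.Helper14.ElemStd.exists_killer (RingHom.ker π.toRingHom) hkerfg ā hmul
  let g : B := ā * g₀
  have hgkill : ∀ y ∈ RingHom.ker π.toRingHom, g * y = 0 := by
    intro y hy
    show ā * g₀ * y = 0
    rw [mul_assoc, hg₀kill y hy, mul_zero]
  have hπg : π g = a ^ (k + 1) := by
    show π (ā * g₀) = _
    have h1 : π (g₀ - ā ^ k) = 0 := hg₀
    rw [map_sub, sub_eq_zero, map_pow, hπā] at h1
    rw [map_mul, hπā, h1, pow_succ']
  -- algebra structure on the localization
  letI algBA' : Algebra B (Localization.Away a) :=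
    ((algebraMap A (Localization.Away a)).comp π.toRingHom).toAlgebra
  have hcomp : ∀ b : B, algebraMap B (Localization.Away a) b =
      algebraMap A (Localization.Away a) (π b) := fun b => rfl
  haveI : IsScalarTower R B (Localization.Away a) :=
    IsScalarTower.of_algebraMap_eq (R := R) (S := B) (A := Localization.Away a) (fun r => by
      show _ = algebraMap A (Localization.Away a) (π (algebraMap R B r))
      rw [AlgHom.commutes, ← IsScalarTower.algebraMap_apply])
  haveI : IsLocalization.Away g (Localization.Away a) :=
    Groth.Agent.Lib.Helper14.ElemStd.isLocalization_away π.toRingHom hπ g hgkill a k hπg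
      (Localization.Away a) hcomp
  -- presentations
  let P₀ : Algebra.PreSubmersivePresentation R B (Fin P.n) (Fin P.c) :=
    Algebra.PreSubmersivePresentation.naive ι hι
  let Q := Algebra.SubmersivePresentation.localizationAway (Localization.Away a) g
  let PQ : Algebra.PreSubmersivePresentation R (Localization.Away a) (Unit ⊕ Fin P.n)
      (Unit ⊕ Fin P.c) := Q.toPreSubmersivePresentation.comp P₀
  have hjac : IsUnit PQ.jacobian := by
    show IsUnit (Q.toPreSubmersivePresentation.comp P₀).jacobian
    rw [Algebra.PreSubmersivePresentation.comp_jacobian_eq_jacobian_smul_jacobian,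
      Algebra.smul_def, IsUnit.mul_iff]
    refine ⟨?_, Q.jacobian_isUnit⟩
    -- the jacobian of the naive presentation is the image of Δ
    have hP₀ : P₀.jacobian = Ideal.Quotient.mk _ Δ := by
      rw [Algebra.PreSubmersivePresentation.jacobian_eq_jacobiMatrix_det]
      show Ideal.Quotient.mk _ _ = _
      congr 1
      rw [hΔ, Smoothing.jacobianMinor, ← Matrix.det_transpose]
      congr 1
      ext i j
      rw [Matrix.transpose_apply, Algebra.PreSubmersivePresentation.jacobiMatrix_naive]
      rfl
    rw [hP₀, hcomp, hπmk]
    have hu : IsUnit (algebraMap A (Localization.Away a) a) :=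
      IsLocalization.Away.algebraMap_isUnit a
    have hmm : algebraMap A (Localization.Away a) a =
        algebraMap A (Localization.Away a) a' * algebraMap A (Localization.Away a) (P.hom Δ) := by
      rw [← map_mul]; exact congrArg _ ha'
    rw [hmm, IsUnit.mul_iff] at hu
    exact hu.2
  exact Algebra.SubmersivePresentation.isStandardSmooth
    { toPreSubmersivePresentation := PQ, jacobian_isUnit := hjac }


end Groth.Agent.S2032
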