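import Groth.Statements.S2034
import Groth.Agent.S2032
import Groth.Agent.Lib.Helper27.PopE
import Groth.Agent.Lib.Helper27.PopH
import Groth.Agent.Lib.Helper27.PopG

set_option autoImplicit false
universe u
open Smoothing

namespace Groth.Agent.S2034

open TensorProduct in
/-- Let `R` be a Noetherian ring, `A` a finitely presented `R`-algebra, `R → A → Λ` ring maps and `𝔮 ⊆
Λ` a prime minimal over the radical of the extended singular ideal of `R → A`; let `𝔭` be the prime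
of `R` under `𝔮` and suppose the localized problem `R_𝔭 → R_𝔭 ⊗_R A → Λ_𝔮 ⊇ 𝔮Λ_𝔮` can be resolved.
If moreover `Λ_𝔮` has Krull dimension zero, then the problem `R → A → Λ ⊇ 𝔮` itself can be resolved. -/
theorem result {R A Λ Rₚ Λq : Type u} [CommRing R] [IsNoetherianRing R] [CommRing A]
    [Algebra R A] [Algebra.FinitePresentation R A] [CommRing Λ] [Algebra R Λ] (φ : A →ₐ[R] Λ)
    (𝔮 : Ideal Λ) [𝔮.IsPrime] (hmin : 𝔮 ∈ (Smoothing.singRad R φ).minimalPrimes)
    [CommRing Rₚ] [Algebra R Rₚ] [IsLocalization.AtPrime Rₚ (𝔮.comap (algebraMap R Λ))]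
    [CommRing Λq] [Algebra Λ Λq] [IsLocalization.AtPrime Λq 𝔮] [Algebra R Λq] [IsScalarTower R Λ Λq]
    [Algebra Rₚ Λq] [IsScalarTower R Rₚ Λq] (hdim : ringKrullDim Λq = 0)
    (hres : Smoothing.Resolvable Rₚ
      (Algebra.TensorProduct.lift (Algebra.ofId Rₚ Λq) ((IsScalarTower.toAlgHom R Λ Λq).comp φ)
        (fun _ _ => Commute.all _ _) : Rₚ ⊗[R] A →ₐ[Rₚ] Λq) (𝔮.map (algebraMap Λ Λq))) :
    Smoothing.Resolvable R φ 𝔮 := by
  classical
  obtain ⟨B₀, _, _, hfp₀, g₀, h₀, hcomp₀, -, hnot⟩ := hres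
  haveI : IsLocalRing Λq := IsLocalization.AtPrime.isLocalRing Λq 𝔮
  have hmax : 𝔮.map (algebraMap Λ Λq) = IsLocalRing.maximalIdeal Λq :=
    IsLocalization.AtPrime.map_eq_maximalIdeal 𝔮 Λq
  have hx : ∃ x ∈ Smoothing.singularIdeal Rₚ B₀, h₀ x ∉ IsLocalRing.maximalIdeal Λq := by
    by_contra hcon
    push Not at hcon
    apply hnot
    rw [hmax]
    unfold Smoothing.singRad
    rw [(IsLocalRing.maximalIdeal.isMaximal Λq).isPrime.radical_le_iff, Ideal.map_le_iff_le_comap]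
    intro x hx
    exact hcon x hx
  obtain ⟨x, hxH, hxu⟩ := hx
  have hxunit : IsUnit (h₀ x) := IsLocalRing.notMem_maximalIdeal.mp hxu
  haveI := hfp₀
  haveI hsm : Algebra.Smooth Rₚ (Localization.Away x) :=
    (Groth.Agent.Lib.Helper27.PopG.mem_singularIdeal_iff x).mp hxH
  let g₁ : Rₚ ⊗[R] A →ₐ[Rₚ] Localization.Away x :=
    (IsScalarTower.toAlgHom Rₚ B₀ (Localization.Away x)).comp g₀
  let h₁ : Localization.Away x →ₐ[Rₚ] Λq :=
    IsLocalization.liftAlgHom (M := Submonoid.powers x) (f := h₀)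
      (by rintro ⟨_, m, rfl⟩; rw [map_pow]; exact hxunit.pow m)
  let φ' : A →ₐ[R] Λq := (IsScalarTower.toAlgHom R Λ Λq).comp φ
  have hgh : ∀ a : A, h₁ (g₁ (1 ⊗ₜ a)) = φ' a := by
    intro a
    show h₁ (algebraMap B₀ _ (g₀ (1 ⊗ₜ a))) = _
    rw [IsLocalization.liftAlgHom_apply, IsLocalization.lift_eq]
    have := DFunLike.congr_fun hcomp₀ (1 ⊗ₜ a)
    rw [AlgHom.comp_apply] at this
    show h₀ (g₀ (1 ⊗ₜ a)) = _
    rw [this]
    simp [φ']
  obtain ⟨B₁, _, _, α₁, β₁, hβα₁, s, hs, hstd⟩ :=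
    Groth.Agent.Lib.Helper27.PopE.main_smooth φ' (𝔮.comap (algebraMap R Λ)).primeCompl g₁ h₁ hgh
  haveI hfp₁ : Algebra.FinitePresentation R B₁ :=
    Groth.Agent.Lib.Helper27.PopG.finitePresentation_of_isElementaryStandard hstd
  haveI hss : Algebra.IsStandardSmooth R (Localization.Away (algebraMap R B₁ s)) :=
    Groth.Agent.S2032.result _ hstd
  have hsunit : IsUnit (β₁ (algebraMap R B₁ s)) := by
    rw [AlgHom.commutes, IsScalarTower.algebraMap_apply R Rₚ Λq]
    exact (IsLocalization.map_units Rₚ (⟨s, hs⟩ : (𝔮.comap (algebraMap R Λ)).primeCompl)).map _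
  let β₂ : Localization.Away (algebraMap R B₁ s) →ₐ[R] Λq :=
    IsLocalization.liftAlgHom (M := Submonoid.powers (algebraMap R B₁ s)) (f := β₁)
      (by rintro ⟨_, m, rfl⟩; rw [map_pow]; exact hsunit.pow m)
  let α₂ : A →ₐ[R] Localization.Away (algebraMap R B₁ s) :=
    (IsScalarTower.toAlgHom R B₁ _).comp α₁
  have hβα₂ : ∀ a, β₂ (α₂ a) = algebraMap Λ Λq (φ a) := by
    intro a
    show β₂ (algebraMap B₁ _ (α₁ a)) = _
    rw [IsLocalization.liftAlgHom_apply, IsLocalization.lift_eq]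
    have := DFunLike.congr_fun hβα₁ a
    rw [AlgHom.comp_apply] at this
    exact this
  haveI : IsNoetherianRing A := Algebra.FiniteType.isNoetherianRing R A
  -- generators of the singular ideal
  obtain ⟨r, a, ha⟩ := Submodule.fg_iff_exists_fin_generating_family.mp
    (IsNoetherian.noetherian (Smoothing.singularIdeal R A))
  have hamem : ∀ i, a i ∈ Smoothing.singularIdeal R A := by
    intro i
    rw [← ha]
    exact Submodule.subset_span ⟨i, rfl⟩
  have hφa : ∀ i, φ (a i) ∈ 𝔮 := fun i =>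
    hmin.1.2 (Ideal.le_radical (Ideal.mem_map_of_mem _ (hamem i)))
  haveI : Ring.KrullDimLE 0 Λq := ringKrullDimZero_iff_ringKrullDim_eq_zero.mpr hdim
  have hnil : ∀ i, ∃ N : ℕ, algebraMap Λ Λq (φ (a i)) ^ N = 0 := by
    intro i
    have h1 : algebraMap Λ Λq (φ (a i)) ∈ IsLocalRing.maximalIdeal Λq := by
      rw [← hmax]
      exact Ideal.mem_map_of_mem _ (hφa i)
    exact Ring.KrullDimLE.isNilpotent_iff_mem_maximalIdeal.mpr h1
  choose N hN using hnil
  obtain ⟨C, _, _, hfpC, gC, hC, hcomp, c, hc, hsmc, v, hv, hvsm⟩ :=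
    Groth.Agent.Lib.Helper27.PopH.descend2 φ 𝔮 α₂ β₂ hβα₂ (fun i => φ (a i) ^ N i)
      (by intro i; rw [map_pow]; exact hN i)
  haveI := hfpC
  refine ⟨C, _, _, hfpC, gC, hC, hcomp, ?_, ?_⟩
  · unfold Smoothing.singRad
    rw [Ideal.radical_le_radical_iff, Ideal.map_le_iff_le_comap, ← ha]
    refine Submodule.span_le.mpr ?_
    rintro _ ⟨i, rfl⟩
    have hsm : Algebra.Smooth R (Localization.Away (a i)) :=
      (Groth.Agent.Lib.Helper27.PopG.mem_singularIdeal_iff (a i)).mp (hamem i)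
    have hmem : v i * gC (a i) ∈ Smoothing.singularIdeal R C :=
      (Groth.Agent.Lib.Helper27.PopG.mem_singularIdeal_iff _).mpr (hvsm i (a i) hsm)
    have h1 : hC (v i * gC (a i)) ∈ (Smoothing.singularIdeal R C).map hC :=
      Ideal.mem_map_of_mem _ hmem
    have h2 : hC (v i * gC (a i)) = φ (a i) ^ (N i + 1) := by
      rw [map_mul, hv, pow_succ, ← hcomp]
      rfl
    rw [h2] at h1
    exact ⟨N i + 1, h1⟩
  · intro hle
    exact hc (hle (Ideal.le_radical (Ideal.mem_map_of_mem _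
      ((Groth.Agent.Lib.Helper27.PopG.mem_singularIdeal_iff c).mpr hsmc))))

end Groth.Agent.S2034
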