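import Groth.Statements.S2026
import Groth.Agent.S2032
import Groth.Agent.Lib.Helper6.StdElt
import Groth.Agent.Lib.Helper19.ElemStdPerm

set_option autoImplicit false
universe u
open Smoothing

namespace Groth.Agent.S2026

/-- For a finitely presented `R`-algebra `A`, the singular ideal (functions vanishing on the non-smooth
locus) coincides with the radical of the ideal spanned by all strictly standard elements, and
equally with the radical of the ideal spanned by all elementary standard elements. -/
theorem result {R A : Type u} [CommRing R] [CommRing A]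
    [Algebra R A] [Algebra.FinitePresentation R A] :
    Smoothing.singularIdeal R A = (Ideal.span {a : A | Smoothing.IsStrictlyStandard R A a}).radical ∧
      Smoothing.singularIdeal R A =
        (Ideal.span {a : A | Smoothing.IsElementaryStandard R A a}).radical := by
  classical
  -- elementary standard ⇒ basic open inside the smooth locus
  have hE : ∀ a : A, Smoothing.IsElementaryStandard R A a →
      (PrimeSpectrum.basicOpen a : Set (PrimeSpectrum A)) ⊆ Algebra.smoothLocus R A := by
    intro a ha
    have h1 : Algebra.IsStandardSmooth R (Localization.Away a) := Groth.Agent.S2032.result a ha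
    rw [Algebra.basicOpen_subset_smoothLocus_iff_smooth]
    infer_instance
  -- strictly standard ⇒ basic open inside the smooth locus
  have hS : ∀ a : A, Smoothing.IsStrictlyStandard R A a →
      (PrimeSpectrum.basicOpen a : Set (PrimeSpectrum A)) ⊆ Algebra.smoothLocus R A := by
    intro a ha p hp
    obtain ⟨P, hmem, htail⟩ := ha
    have hp' : a ∉ p.asIdeal := hp
    have hex : ∃ cols : Fin P.c → Fin P.n,
        P.hom (Smoothing.jacobianMinor P.rel (Fin.castLE P.hcm) cols) ∉ p.asIdeal := by
      by_contra hcon
      push Not at hcon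
      apply hp'
      have hle : Ideal.span (Set.range fun cols : Fin P.c → Fin P.n =>
          P.hom (Smoothing.jacobianMinor P.rel (Fin.castLE P.hcm) cols)) ≤ p.asIdeal :=
        Ideal.span_le.mpr (by rintro _ ⟨cols, rfl⟩; exact hcon cols)
      exact hle hmem
    obtain ⟨cols, hcols⟩ := hex
    have hinj : Function.Injective cols := by
      by_contra hni
      rw [Function.Injective] at hni
      push Not at hni
      obtain ⟨i, j, hij, hne⟩ := hni
      apply hcols
      have h0 : Smoothing.jacobianMinor P.rel (Fin.castLE P.hcm) cols = 0 :=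
        Matrix.det_zero_of_column_eq hne (fun k => by simp [Matrix.of_apply, hij])
      rw [h0, map_zero]; exact zero_mem _
    have hb : Smoothing.IsElementaryStandard R A
        (a * P.hom (Smoothing.jacobianMinor P.rel (Fin.castLE P.hcm) cols)) :=
      Groth.Agent.Lib.Helper19.ElemStdPerm.isElementaryStandard_of_rows_cols P.rel P.hom P.surj
        P.ker_eq (Fin.castLEEmb P.hcm) ⟨cols, hinj⟩ _ a rfl
        (fun b₁ hb₁ ℓ =>
          Groth.Agent.Lib.Helper19.ElemStdPerm.tail_mul P a htail _ b₁ hb₁ ℓ)
    exact hE _ hb (show _ ∉ p.asIdeal from p.isPrime.mul_notMem hp' hcols)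
  -- smooth points are avoided by some elementary standard element
  have hex : ∀ p : PrimeSpectrum A, p ∈ Algebra.smoothLocus R A →
      ∃ a : A, Smoothing.IsElementaryStandard R A a ∧ a ∉ p.asIdeal := by
    intro p hp
    obtain ⟨n, φ, hφ, hfg⟩ := Algebra.FinitePresentation.out (R := R) (A := A)
    obtain ⟨m, f, hf⟩ := Submodule.fg_iff_exists_fin_generating_family.mp hfg
    haveI : Algebra.IsSmoothAt R p.asIdeal := hp
    obtain ⟨a, hap, c, rows, cols, a', ha, htail⟩ :=
      Groth.Agent.Lib.Helper6.StdElt.main f φ hφ hf.symm p.asIdeal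
    exact ⟨a, Groth.Agent.Lib.Helper19.ElemStdPerm.isElementaryStandard_of_rows_cols f φ hφ
      hf.symm rows cols a a' ha htail, hap⟩
  -- the general principle
  have key : ∀ S : Set A,
      (∀ s ∈ S, (PrimeSpectrum.basicOpen s : Set (PrimeSpectrum A)) ⊆ Algebra.smoothLocus R A) →
      (∀ p : PrimeSpectrum A, p ∈ Algebra.smoothLocus R A → ∃ s ∈ S, s ∉ p.asIdeal) →
      Smoothing.singularIdeal R A = (Ideal.span S).radical := by
    intro S h1 h2
    rw [← PrimeSpectrum.vanishingIdeal_zeroLocus_eq_radical, PrimeSpectrum.zeroLocus_span]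
    unfold Smoothing.singularIdeal
    congr 1
    ext p
    rw [Set.mem_compl_iff, PrimeSpectrum.mem_zeroLocus]
    constructor
    · intro hp s hs
      by_contra hsp
      exact hp (h1 s hs (show p ∈ (PrimeSpectrum.basicOpen s : Set (PrimeSpectrum A)) from hsp))
    · intro hS' hp
      obtain ⟨s, hs, hsp⟩ := h2 p hp
      exact hsp (hS' hs)
  refine ⟨key _ (fun s hs => hS s hs) (fun p hp => ?_), key _ (fun s hs => hE s hs) (fun p hp => ?_)⟩
  · obtain ⟨a, ha, hap⟩ := hex p hp
    exact ⟨a, Groth.Agent.Lib.Helper19.ElemStdPerm.isStrictlyStandard_of_isElementaryStandard ha, hap⟩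
  · obtain ⟨a, ha, hap⟩ := hex p hp
    exact ⟨a, ha, hap⟩

end Groth.Agent.S2026
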