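import Groth.Statements.S6479
import Groth.Agent.S2498
import Groth.Agent.Lib.Helper12.Equidim

set_option autoImplicit false
universe u
open CategoryTheory AlgebraicGeometry
open CategoryTheory.Limits
open Cyc

namespace Groth.Agent.S6479

open Groth.Agent.Lib.Helper12.Equidim (apply_fromSpecStalk)

/-- generic in the fibre -/
def GenF {Z Y : Scheme.{u}} (q : Z ⟶ Y) (z : Z) : Prop := ∀ y : Z, q y = q z → y ⤳ z → y = z

section stalk
variable {Z Y : Scheme.{u}} (q : Z ⟶ Y) (z : Z)

/-- the extension of the maximal ideal of the base point -/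
noncomputable abbrev Jf : Ideal (Z.presheaf.stalk z) :=
  Ideal.map (q.stalkMap z).hom (IsLocalRing.maximalIdeal (Y.presheaf.stalk (q z)))

theorem map_eq_iff (Q : PrimeSpectrum (Z.presheaf.stalk z)) :
    q ((Z.fromSpecStalk z) Q) = q z ↔ Jf q z ≤ Q.asIdeal := by
  rw [apply_fromSpecStalk q z Q]
  constructor
  · intro h
    have h2 : (Y.fromSpecStalk (q z)) (PrimeSpectrum.comap (q.stalkMap z).hom Q) =
        (Y.fromSpecStalk (q z)) (IsLocalRing.closedPoint (Y.presheaf.stalk (q z))) := by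
      rw [h, Scheme.fromSpecStalk_closedPoint]
    have h3 := (Y.fromSpecStalk (q z)).isEmbedding.injective h2
    rw [Jf, Ideal.map_le_iff_le_comap]
    have h4 := congrArg PrimeSpectrum.asIdeal h3
    intro a ha
    have : a ∈ (PrimeSpectrum.comap (q.stalkMap z).hom Q).asIdeal := by rw [h4]; exact ha
    exact this
  · intro h
    have h3 : PrimeSpectrum.comap (q.stalkMap z).hom Q =
        IsLocalRing.closedPoint (Y.presheaf.stalk (q z)) := by
      apply PrimeSpectrum.ext
      have hle : IsLocalRing.maximalIdeal (Y.presheaf.stalk (q z)) ≤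
          Q.asIdeal.comap (q.stalkMap z).hom := Ideal.map_le_iff_le_comap.mp h
      haveI := Q.2
      have hne : Q.asIdeal.comap (q.stalkMap z).hom ≠ ⊤ := (Ideal.comap_isPrime (q.stalkMap z).hom Q.asIdeal).ne_top
      exact ((IsLocalRing.maximalIdeal.isMaximal _).eq_of_le hne hle).symm
    rw [h3, Scheme.fromSpecStalk_closedPoint]

theorem exists_genF : ∃ η : Z, η ⤳ z ∧ q η = q z ∧ GenF q η := by
  have hloc : IsLocalHom (q.stalkMap z).hom := inferInstance
  have hJle : Jf q z ≤ IsLocalRing.maximalIdeal (Z.presheaf.stalk z) :=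
    ((IsLocalRing.local_hom_TFAE (q.stalkMap z).hom).out 0 2).mp hloc
  obtain ⟨P, hPmin, hPle⟩ := Ideal.exists_minimalPrimes_le hJle
  haveI hPprime : P.IsPrime := hPmin.1.1
  let Pp : PrimeSpectrum (Z.presheaf.stalk z) := ⟨P, hPprime⟩
  have hηz : (Z.fromSpecStalk z) Pp ⤳ z := by
    have : (Z.fromSpecStalk z) Pp ∈ Set.range (Z.fromSpecStalk z) := ⟨Pp, rfl⟩
    rw [Scheme.range_fromSpecStalk] at this
    exact this
  have hqη : q ((Z.fromSpecStalk z) Pp) = q z := (map_eq_iff q z Pp).mpr hPmin.1.2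
  refine ⟨(Z.fromSpecStalk z) Pp, hηz, hqη, ?_⟩
  intro y hy1 hy2
  have hyz : y ⤳ z := hy2.trans hηz
  obtain ⟨r, rfl⟩ : ∃ r : PrimeSpectrum (Z.presheaf.stalk z), (Z.fromSpecStalk z) r = y := by
    have : y ∈ Set.range (Z.fromSpecStalk z) := by rw [Scheme.range_fromSpecStalk]; exact hyz
    obtain ⟨r, hr⟩ := this
    exact ⟨r, hr⟩
  have hrP : r ⤳ Pp := (Z.fromSpecStalk z).isEmbedding.isInducing.specializes_iff.mp hy2
  have hrP' : r.asIdeal ≤ P := (PrimeSpectrum.le_iff_specializes r Pp).mpr hrP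
  have hJr : Jf q z ≤ r.asIdeal := (map_eq_iff q z r).mp (hy1.trans hqη)
  have hPr : P ≤ r.asIdeal := hPmin.2 ⟨r.2, hJr⟩ hrP'
  have : r = Pp := PrimeSpectrum.ext (le_antisymm hrP' hPr)
  rw [this]

theorem delta_le_and (δZ : Z → ℤ) (δY : Y → ℤ) (hδ : Cyc.IsDimFun Z δZ) (c : ℤ)
    (hc : ∀ z : Z, (∀ y, q y = q z → y ⤳ z → y = z) → δZ z = δY (q z) + c) :
    δZ z ≤ δY (q z) + c ∧ (δZ z = δY (q z) + c → GenF q z) := by
  obtain ⟨η, hηz, hqη, hη⟩ := exists_genF q z
  have h1 : δZ η = δY (q z) + c := by rw [← hqη]; exact hc η hη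
  by_cases h : η = z
  · subst h
    exact ⟨h1.le, fun _ => hη⟩
  · have h2 := (hδ η z hηz h).1
    exact ⟨by omega, fun h3 => by omega⟩

end stalk

theorem length_formula {A B : Type u} [CommRing A] [CommRing B] [IsLocalRing A] [IsLocalRing B]
    (ψ : A →+* B) [IsLocalHom ψ] (hψ : ψ.Flat) (I : Ideal A) :
    Module.length B (B ⧸ I.map ψ) =
      Module.length A (A ⧸ I) * Module.length B (B ⧸ (IsLocalRing.maximalIdeal A).map ψ) := by
  letI := ψ.toAlgebra
  haveI : Module.Flat A B := hψ
  haveI : IsLocalHom (algebraMap A B) := ‹IsLocalHom ψ›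
  haveI : Module.FaithfullyFlat A B := Module.FaithfullyFlat.of_flat_of_isLocalHom
  have h1 := Groth.Agent.S2498.main (A := A) (B := B) B (A ⧸ I)
  have h2 := Groth.Agent.S2498.length_tensor_quot (A := A) (B := B) B I
  have conv : ∀ K : Ideal B,
      Module.length B (B ⧸ (K • (⊤ : Submodule B B))) = Module.length B (B ⧸ K) := by
    intro K
    exact (Submodule.quotEquivOfEq _ _ (by rw [smul_eq_mul, Ideal.mul_top])).length_eq
  rw [conv] at h1 h2
  have e : algebraMap A B = ψ := rfl
  rw [e] at h1 h2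
  rw [← h2, h1]

theorem length_congr {R : Type u} [CommRing R] (I I' : Ideal R) (h : I = I') :
    Module.length R (R ⧸ I) = Module.length R (R ⧸ I') := by
  subst h; rfl

/-- Let p : X' → X and p' : X'' → X' be flat with shifts c and c' on the dimension functions at generic
points of fibre components. Then the composite p' ≫ p has shift c + c' at generic points of its
fibre components, and g^* followed by (g')^* is (g ∘ g')^* on k-cycles: Cyc.pullFun (p' ≫ p) δ'' δ
(c + c') α = Cyc.pullFun p' δ'' δ' c' (Cyc.pullFun p δ' δ c α). Setting: p : X' → X is flat (not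
necessarily of finite type), (X, δ) and (X', δ') satisfy Cyc.IsSetup, and δ'(x') = δ(p x') + c
whenever x' is maximal under generalization inside its fibre p⁻¹(p x'); g^* : Z_k(X) → Z_{k+c}(X')
is the coefficientwise flat pullback Cyc.pullFun p δ' δ c. (The published statement takes both maps
to be base changes along flat S″ → S′ → S of one scheme locally of finite type over S, and has a
third part, the same composition on Chow groups, which follows; this row allows any two flat maps
with the shift conditions.) -/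
theorem result (X X' X'' : Scheme.{u}) (p : X' ⟶ X) (p' : X'' ⟶ X') [Flat p] [Flat p'] (δ : X → ℤ) (δ' : X' → ℤ) (δ'' : X'' → ℤ) (hX : Cyc.IsSetup X δ) (hX' : Cyc.IsSetup X' δ') (hX'' : Cyc.IsSetup X'' δ'') (c c' : ℤ) (hc : ∀ x' : X', (∀ y, p y = p x' → y ⤳ x' → y = x') → δ' x' = δ (p x') + c) (hc' : ∀ x'' : X'', (∀ y, p' y = p' x'' → y ⤳ x'' → y = x'') → δ'' x'' = δ' (p' x'') + c') (k : ℤ) (α : AlgebraicCycle X ℤ) (hα : α ∈ Cyc.Zk X δ k) : (∀ x'' : X'', (∀ y, (p' ≫ p) y = (p' ≫ p) x'' → y ⤳ x'' → y = x'') → δ'' x'' = δ ((p' ≫ p) x'') + (c + c')) ∧ Cyc.pullFun (p' ≫ p) δ'' δ (c + c') ⇑α = Cyc.pullFun p' δ'' δ' c' (Cyc.pullFun p δ' δ c ⇑α) := by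
  obtain ⟨hLN, -, hδ⟩ := hX
  obtain ⟨hLN', -, hδ'⟩ := hX'
  obtain ⟨hLN'', -, hδ''⟩ := hX''
  have comp_apply : ∀ x'' : X'', (p' ≫ p) x'' = p (p' x'') := fun _ => rfl
  have gen1 : ∀ x'' : X'', GenF (p' ≫ p) x'' → GenF p' x'' := by
    intro x'' h y hy1 hy2
    exact h y (by rw [comp_apply, comp_apply, hy1]) hy2
  have gen2 : ∀ x'' : X'', GenF (p' ≫ p) x'' → GenF p (p' x'') := by
    intro x'' h y' hy1 hy2
    obtain ⟨y'', hy''1, hy''2⟩ := (Flat.generalizingMap p') hy2
    have := h y'' (by rw [comp_apply, comp_apply, hy''2, hy1]) hy''1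
    rw [← hy''2, this]
  constructor
  · intro x'' h
    have e1 := hc' x'' (gen1 x'' h)
    have e2 := hc (p' x'') (gen2 x'' h)
    rw [comp_apply]; omega
  · funext x''
    have B1 := delta_le_and p' x'' δ'' δ' hδ'' c' hc'
    have B2 := delta_le_and p (p' x'') δ' δ hδ' c hc
    simp only [Cyc.pullFun]
    by_cases h1 : δ'' x'' = δ' (p' x'') + c'
    · by_cases h2 : δ' (p' x'') = δ (p (p' x'')) + c
      · have hL : δ'' x'' = δ ((p' ≫ p) x'') + (c + c') := by rw [comp_apply]; omega
        rw [if_pos hL, if_pos h1, if_pos h2]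
        have hI : Ideal.map ((p' ≫ p).stalkMap x'').hom
            (IsLocalRing.maximalIdeal (X.presheaf.stalk ((p' ≫ p) x''))) =
            Ideal.map (p'.stalkMap x'').hom (Ideal.map (p.stalkMap (p' x'')).hom
              (IsLocalRing.maximalIdeal (X.presheaf.stalk (p (p' x''))))) := by
          have hhom : ((p' ≫ p).stalkMap x'').hom =
              (p'.stalkMap x'').hom.comp (p.stalkMap (p' x'')).hom := by
            rw [Scheme.Hom.stalkMap_comp]; rfl
          rw [Ideal.map_map, hhom]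
          rfl
        rw [length_congr _ _ hI,
          length_formula (p'.stalkMap x'').hom (Flat.stalkMap p' x'') _, ENat.toNat_mul]
        push_cast
        rw [comp_apply]
        ring
      · have hL : ¬ δ'' x'' = δ ((p' ≫ p) x'') + (c + c') := by rw [comp_apply]; omega
        rw [if_neg hL, if_pos h1, if_neg h2, zero_mul]
    · have hL : ¬ δ'' x'' = δ ((p' ≫ p) x'') + (c + c') := by rw [comp_apply]; omega
      rw [if_neg hL, if_neg h1]

end Groth.Agent.S6479
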