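import Groth.Statements.S9684
-- import your own Groth.Agent.* helpers here
import Mathlib
import Groth.Agent.Lib.Helper12.SchemeDimIneq3
import Groth.Agent.Lib.Helper12.DimFun

set_option autoImplicit false
universe u
open CategoryTheory CategoryTheory.Limits AlgebraicGeometry
open Cyc

namespace Groth.Agent.S9684
open Groth.Agent.Lib.Helper12 Groth.Agent.Lib.Helper12.ChevalleyCor
  Groth.Agent.Lib.Helper12.SchemeDimIneq Groth.Agent.Lib.Helper12.OrdTools

theorem trn_eq_of {X S : Scheme.{u}} (f : X ⟶ S) (x : X) (n : ℕ)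
    (hn : (letI := (f.residueFieldMap x).hom.toAlgebra
      Algebra.trdeg (S.residueField (f x)) (X.residueField x)) = n) : trn f x = (n : ℕ∞) := by
  unfold trn
  rw [hn]; simp


/-- Let S be a locally Noetherian scheme whose local rings are universally catenary, δ a dimension
function on S, and f : X ⟶ S locally of finite type. Then the function δ_X(x) = δ(f x) + trdeg_{κ(f
x)} κ(x) is a dimension function on X. -/
theorem result {X S : Scheme.{u}} (f : X ⟶ S)
    [LocallyOfFiniteType f] (δ : ↥S → ℤ) (hS : Cyc.IsSetup S δ) (δX : ↥X → ℤ)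
    (hδ : Cyc.DeltaCompat f δX δ) : Cyc.IsDimFun X δX := by
  obtain ⟨hS1, hS2, hS3⟩ := hS
  haveI := hS1
  intro x y hxy hne
  have hyx : y ≤ x := hxy
  have hlt : y < x := (DimFun.lt_iff y x).mpr ⟨hxy, Ne.symm hne⟩
  obtain ⟨nx, hnx, hδx⟩ := hδ x
  obtain ⟨ny, hny, hδy⟩ := hδ y
  have hDF := scheme_dimFormula f y x hxy (hS2 (f y))
  rw [trn_eq_of f x nx hnx, trn_eq_of f y ny hny,
    DimFun.krullDim_Icc_eq hS3 (show f y ≤ f x from hxy.map f.continuous)] at hDF
  have hle := DimFun.delta_le hS3 (show f y ≤ f x from hxy.map f.continuous)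
  -- the interval dimension in `X`
  have hc0 : (1 : WithBot ℕ∞) ≤ Order.krullDim (Set.Icc y x) := by
    let l0 : LTSeries X := (RelSeries.singleton _ y).snoc x hlt
    have := length_le_krullDim_Icc' l0 x (by simp [l0])
    have h0 : l0.head = y := by simp [l0]
    have h1 : l0.length = 1 := by simp [l0]
    rw [h0, h1] at this
    exact_mod_cast this
  rcases ProductDim.withBot_enat_cases (Order.krullDim (Set.Icc y x)) with hc | hc | ⟨c, hc⟩
  · rw [hc] at hc0; simp at hc0
  · exfalso
    rw [hc] at hDF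
    have h1 : ((⊤ : WithBot ℕ∞) + ((ny : ℕ∞) : WithBot ℕ∞)) = ⊤ := by
      rw [← WithBot.coe_top, ← WithBot.coe_add]; simp
    rw [h1] at hDF
    have h2 : (((δ (f x) - δ (f y)).toNat : ℕ) : WithBot ℕ∞) + ((nx : ℕ∞) : WithBot ℕ∞) =
        ((((δ (f x) - δ (f y)).toNat + nx : ℕ) : ℕ∞) : WithBot ℕ∞) := by
      push_cast; rfl
    rw [h2] at hDF
    exact absurd (WithBot.coe_injective hDF).symm (ENat.coe_ne_top _)
  · rw [hc] at hDF hc0
    have h2 : ((c : ℕ) : WithBot ℕ∞) + ((ny : ℕ∞) : WithBot ℕ∞) = (((c + ny : ℕ) : ℕ∞) : WithBot ℕ∞) := by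
      push_cast; rfl
    have h3 : (((δ (f x) - δ (f y)).toNat : ℕ) : WithBot ℕ∞) + ((nx : ℕ∞) : WithBot ℕ∞) =
        ((((δ (f x) - δ (f y)).toNat + nx : ℕ) : ℕ∞) : WithBot ℕ∞) := by
      push_cast; rfl
    rw [h2, h3] at hDF
    have h4 : c + ny = (δ (f x) - δ (f y)).toNat + nx := by exact_mod_cast hDF
    have hc1 : 1 ≤ c := by exact_mod_cast hc0
    have hkey : δX x = δX y + c := by
      rw [hδx, hδy]
      have : ((δ (f x) - δ (f y)).toNat : ℤ) = δ (f x) - δ (f y) := Int.toNat_of_nonneg (by omega)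
      have h5 : (c : ℤ) + ny = (δ (f x) - δ (f y)).toNat + nx := by exact_mod_cast h4
      omega
    refine ⟨by omega, fun himm => ?_⟩
    -- immediate specialization: the interval has dimension one
    have hc2 : c ≤ 1 := by
      have h6 : Order.krullDim (Set.Icc y x) ≤ 1 := by
        rw [Order.krullDim_le_one_iff]
        intro z
        rcases himm z.1 z.2.2 z.2.1 with hz | hz
        · right
          intro w _
          change (w : X) ≤ z.1
          rw [hz]; exact w.2.2
        · left
          intro w _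
          change z.1 ≤ (w : X)
          rw [hz]; exact w.2.1
      rw [hc] at h6
      exact_mod_cast h6
    have : c = 1 := le_antisymm hc2 hc1
    rw [hkey, this]; rfl

end Groth.Agent.S9684
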