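import Groth.Statements.S6478
import Groth.Agent.S6479
import Groth.Agent.S9358
import Groth.Agent.S9684
import Groth.Agent.Lib.Helper12.FibreRes2

set_option autoImplicit false
universe u
open CategoryTheory AlgebraicGeometry
open CategoryTheory.Limits
open Cyc

namespace Groth.Agent.S6478

open Groth.Agent.S6479 (delta_le_and GenF length_formula length_congr)
open Groth.Agent.Lib.Helper12 Groth.Agent.Lib.Helper12.SchemeDimFT Groth.Agent.Lib.Helper12.FibreRes

/-- Composition of flat pullbacks of coefficient functions (the core of S6479, with only the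
dimension-function hypotheses that are used). -/
theorem pull_comp (X X' X'' : Scheme.{u}) (p : X' ⟶ X) (p' : X'' ⟶ X') [Flat p']
    (δ : X → ℤ) (δ' : X' → ℤ) (δ'' : X'' → ℤ) (hδ' : Cyc.IsDimFun X' δ')
    (hδ'' : Cyc.IsDimFun X'' δ'') (c c' : ℤ)
    (hc : ∀ x' : X', (∀ y, p y = p x' → y ⤳ x' → y = x') → δ' x' = δ (p x') + c)
    (hc' : ∀ x'' : X'', (∀ y, p' y = p' x'' → y ⤳ x'' → y = x'') → δ'' x'' = δ' (p' x'') + c')
    (α : X → ℤ) :
    Cyc.pullFun (p' ≫ p) δ'' δ (c + c') α = Cyc.pullFun p' δ'' δ' c' (Cyc.pullFun p δ' δ c α) := by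
  have comp_apply : ∀ x'' : X'', (p' ≫ p) x'' = p (p' x'') := fun _ => rfl
  funext x''
  have B1 := delta_le_and p' x'' δ'' δ' hδ'' c' hc'
  have B2 := delta_le_and p (p' x'') δ' δ hδ' c hc
  simp only [Cyc.pullFun]
  by_cases h1 : δ'' x'' = δ' (p' x'') + c'
  · by_cases h2 : δ' (p' x'') = δ (p (p' x'')) + c
    · have hL : δ'' x'' = δ ((p' ≫ p) x'') + (c + c') := by rw [comp_apply]; omega
      rw [if_pos hL, if_pos h1, if_pos h2]
      have hI : Ideal.map ((p' ≫ p).stalkMap x'').hom
          (IsLocalRing.maximalIdeal (X.presheaf.stalk ((p' ≫ p) x''))) =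
          Ideal.map (p'.stalkMap x'').hom (Ideal.map (p.stalkMap (p' x'')).hom
            (IsLocalRing.maximalIdeal (X.presheaf.stalk (p (p' x''))))) := by
        have hhom : ((p' ≫ p).stalkMap x'').hom =
            (p'.stalkMap x'').hom.comp (p.stalkMap (p' x'')).hom := by
          rw [Scheme.Hom.stalkMap_comp]; rfl
        rw [Ideal.map_map, hhom]
        rfl
      rw [length_congr _ _ hI,
        length_formula (p'.stalkMap x'').hom (Flat.stalkMap p' x'') _, ENat.toNat_mul]
      push_cast
      rw [comp_apply]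
      ring
    · have hL : ¬ δ'' x'' = δ ((p' ≫ p) x'') + (c + c') := by rw [comp_apply]; omega
      rw [if_neg hL, if_pos h1, if_neg h2, zero_mul]
  · have hL : ¬ δ'' x'' = δ ((p' ≫ p) x'') + (c + c') := by rw [comp_apply]; omega
    rw [if_neg hL, if_neg h1]

/-- The shift of the induced dimension function at generic points of fibres of a flat morphism
of relative dimension r (the proof of S1861, which does not use the set-up hypotheses). -/
theorem shift_of_genF (X Y : Scheme.{u}) (δX : X → ℤ) (δY : Y → ℤ) (f : X ⟶ Y)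
    [LocallyOfFiniteType f] (r : ℕ) (hr : Cyc.HasRelDim f r) (hδ : Cyc.DeltaCompat f δX δY)
    (x : X) (hgen : ∀ y, f y = f x → y ⤳ x → y = x) : δX x = δY (f x) + r := by
  letI ovF : (f.fiber (f x)).Over (Spec (CommRingCat.of (Y.residueField (f x)))) :=
    ⟨f.fiberToSpecResidueField (f x)⟩
  haveI : LocallyOfFiniteType
      ((f.fiber (f x)) ↘ Spec (CommRingCat.of (Y.residueField (f x)))) :=
    locallyOfFiniteType_fiberToSpecResidueField f (f x)
  have hz : IsMaxPt (f.asFiber x) := by
    intro z' hz'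
    have h1 : f.fiberι (f x) z' ⤳ f.fiberι (f x) (f.asFiber x) :=
      hz'.map (f.fiberι (f x)).continuous
    rw [f.fiberι_asFiber x] at h1
    have h2 : f (f.fiberι (f x) z') = f x := by
      have h3 : f.fiberι (f x) z' ∈ Set.range (f.fiberι (f x)) := ⟨z', rfl⟩
      rw [Scheme.Hom.range_fiberι] at h3
      exact h3
    have h5 := hgen _ h2 h1
    have h6 : f.fiberι (f x) z' = f.fiberι (f x) (f.asFiber x) := by
      rw [h5, f.fiberι_asFiber x]
    exact (f.fiberι (f x)).isEmbedding.injective h6
  have hcomp : closure ({f.asFiber x} : Set (f.fiber (f x))) ∈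
      irreducibleComponents (f.fiber (f x)) :=
    (mem_irreducibleComponents_iff _).mpr ⟨_, hz, rfl⟩
  have hdim := hr (f x) _ hcomp
  rw [topologicalKrullDim_closure_singleton (Y.residueField (f x)) (f.fiber (f x))] at hdim
  have htr : tr (Y.residueField (f x)) (f.fiber (f x)) (f.asFiber x) = r := by
    exact_mod_cast hdim
  obtain ⟨n, hn, hδx⟩ := hδ x
  have h7 := trdeg_residueFieldMap_eq_tr f x
  have hnr : n = r := by
    have h8 : ((n : ℕ) : Cardinal.{u}) =
        (tr (Y.residueField (f x)) (f.fiber (f x)) (f.asFiber x) : Cardinal.{u}) := by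
      rw [← hn]; exact h7
    have h9 : n = tr (Y.residueField (f x)) (f.fiber (f x)) (f.asFiber x) := by
      exact_mod_cast h8
    rw [h9, htr]
  rw [hδx, hnr]

/-- Let f : Y → X be flat, locally of finite type, of relative dimension r, Y' = Y ×_X X' with f' : Y' →
X' and q : Y' → Y, δY, δY' the induced dimension functions (q again has shift c at generic points of
its fibres). Then f' is flat of relative dimension r and (f')^* ∘ g^* = g^* ∘ f^* on k-cycles,
coefficientwise. Setting: p : X' → X is flat (not necessarily of finite type), (X, δ) and (X', δ')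
satisfy Cyc.IsSetup, and δ'(x') = δ(p x') + c whenever x' is maximal under generalization inside its
fibre p⁻¹(p x'); g^* : Z_k(X) → Z_{k+c}(X') is the coefficientwise flat pullback Cyc.pullFun p δ' δ
c. (The published statement takes X′ = X ×_S S′ and Y′ = Y ×_S S′ for a flat S′ → S, with X and Y
locally of finite type over S, and also records the same square on Chow groups, which follows; this
row allows any flat p : X′ → X with the shift condition and states the cycle-level square.) -/
theorem result (X X' Y : Scheme.{u}) (f : Y ⟶ X) (p : X' ⟶ X) [Flat f] [LocallyOfFiniteType f] [Flat p] (r : ℕ) (hr : Cyc.HasRelDim f r) (δ : X → ℤ) (δ' : X' → ℤ) (δY : Y → ℤ) (δY' : ↥(pullback f p) → ℤ) (hX : Cyc.IsSetup X δ) (hX' : Cyc.IsSetup X' δ') (hY : Cyc.IsSetup Y δY) (hf : Cyc.DeltaCompat f δY δ) (hf' : Cyc.DeltaCompat (pullback.snd f p) δY' δ') (c : ℤ) (hc : ∀ x' : X', (∀ y, p y = p x' → y ⤳ x' → y = x') → δ' x' = δ (p x') + c) (hcY : ∀ y' : ↥(pullback f p), (∀ y, pullback.fst f p y = pullback.fst f p y' →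 y ⤳ y' → y = y') → δY' y' = δY (pullback.fst f p y') + c) (k : ℤ) (α : AlgebraicCycle X ℤ) (hα : α ∈ Cyc.Zk X δ k) : Cyc.HasRelDim (pullback.snd f p) r ∧ Cyc.pullFun (pullback.snd f p) δY' δ' r (Cyc.pullFun p δ' δ c ⇑α) = Cyc.pullFun (pullback.fst f p) δY' δY c (Cyc.pullFun f δY δ r ⇑α) := by
  have hδY' : Cyc.IsDimFun (pullback f p) δY' :=
    Groth.Agent.S9684.result (pullback.snd f p) δ' hX' δY' hf'
  have hδY : Cyc.IsDimFun Y δY := hY.2.2
  have hδ' : Cyc.IsDimFun X' δ' := hX'.2.2
  have hr' : Cyc.HasRelDim (pullback.snd f p) r :=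
    (Groth.Agent.S9358.result f p (pullback.fst f p) (pullback.snd f p)
      (IsPullback.of_hasPullback f p) r).2.2 hr
  refine ⟨hr', ?_⟩
  have hsf := shift_of_genF Y X δY δ f r hr hf
  have hsf' := shift_of_genF (pullback f p) X' δY' δ' (pullback.snd f p) r hr' hf'
  have e1 := pull_comp X X' (pullback f p) p (pullback.snd f p) δ δ' δY' hδ' hδY' c r hc hsf' ⇑α
  have e2 := pull_comp X Y (pullback f p) f (pullback.fst f p) δ δY δY' hδY hδY' r c hsf hcY ⇑α
  rw [← e1, ← e2, pullback.condition, add_comm]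

end Groth.Agent.S6478
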