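import Groth.Statements.S9833
-- import your own Groth.Agent.* helpers here
import Mathlib
import Groth.Agent.Lib.Helper12.NagataLoc

set_option autoImplicit false
universe u
open CategoryTheory AlgebraicGeometry TopologicalSpace
open Props

namespace Groth.Agent.S9833

/-- If a scheme has an affine open covering by spectra of Nagata rings, then the coordinate ring of
every affine open is Nagata. -/
theorem result (X : Scheme.{u}) {ι : Type u} (U : ι → X.Opens)
    (hU : iSup U = ⊤) (haff : ∀ i, IsAffineOpen (U i)) (hN : ∀ i, CAlg.IsNagata Γ(X, U i))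
    (V : X.Opens) (hV : IsAffineOpen V) : CAlg.IsNagata Γ(X, V) := by
  classical
  refine Groth.Agent.Lib.Helper12.AffLocal.affine_local X (fun R _ => CAlg.IsNagata R)
    (fun R R' _ _ e h => Groth.Agent.Lib.Helper12.NagataLoc.isNagata_of_ringEquiv e h)
    (fun W f h => Groth.Agent.S4710.result _ h (Submonoid.powers f))
    ?_ U hU haff hN V hV
  intro W s hs h
  refine Groth.Agent.S9400.result Γ(X, W) (ι := {x // x ∈ s}) (fun i => i.1) ?_ (fun i => h i.1 i.2)
  rw [Subtype.range_coe_subtype]
  exact hs

end Groth.Agent.S9833
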