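import Groth.Statements.S0526
import Groth.Agent.Lib.Helper26.HenselIdem

set_option autoImplicit false
universe u
open Hensel

namespace Groth.Agent.S0526

/-- If `A` is Henselian at `I` and `B` is an integral `A`-algebra, then `B` is Henselian at `IB`. -/
theorem result (A : Type u) [CommRing A] (I : Ideal A) [HenselianRing A I] (B : Type u) [CommRing B]
    [Algebra A B] [Algebra.IsIntegral A B] : HenselianRing B (Ideal.map (algebraMap A B) I) := by
  have hI : I ≤ Ideal.jacobson ⊥ := HenselianRing.jac
  have hF := Groth.Agent.Lib.Helper26.HenselTFAE.liftsFactorizations_of_liftsEtale I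
    (Groth.Agent.Lib.Helper26.HenselTFAE.liftsEtale_of_henselianRing I)
  apply Groth.Agent.Lib.Helper26.HenselIdem.henselianRing_of_bijOn_finite
  intro C _ _ hfin
  haveI := hfin
  letI : Algebra A C := Algebra.compHom C (algebraMap A B)
  haveI : IsScalarTower A B C := IsScalarTower.of_algebraMap_eq (fun x => rfl)
  haveI : Algebra.IsIntegral B C := Algebra.IsIntegral.of_finite B C
  haveI : Algebra.IsIntegral A C := Algebra.IsIntegral.trans B
  have hmap : (Ideal.map (algebraMap A B) I).map (algebraMap B C) = I.map (algebraMap A C) := by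
    rw [Ideal.map_map, ← IsScalarTower.algebraMap_eq]
  rw [hmap]
  exact Groth.Agent.Lib.Helper26.HenselIdem.bijOn_idempotents I hI hF C

end Groth.Agent.S0526
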