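import Groth.Statements.S0611
import Groth.Agent.Lib.Helper14.QuasiRegReg
import Groth.Agent.S5802
import Groth.Agent.S3824

set_option autoImplicit false
universe u
open RRAlg

namespace Groth.Agent.S0611

/-- In a Noetherian local ring, any minimal generating set of an ideal generated by a regular sequence
is again a regular sequence: if a₁, …, aₙ is a regular sequence and b₁, …, bₙ are n elements
generating the same ideal, then b₁, …, bₙ is a regular sequence. (A regular sequence of length n
generating an ideal I is a minimal generating set of I, so "minimal" amounts to "of length n".) -/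
theorem result {A : Type u} [CommRing A] [IsLocalRing A] [IsNoetherianRing A]
    {n : ℕ} (a b : Fin n → A) (ha : RingTheory.Sequence.IsRegular A (List.ofFn a))
    (hab : Ideal.span (Set.range a) = Ideal.span (Set.range b)) :
    RingTheory.Sequence.IsRegular A (List.ofFn b) := by
  have hqa : CAlgX.IsQuasiRegular a := Groth.Agent.S5802.result A n a ha.toIsWeaklyRegular
  have hqb : CAlgX.IsQuasiRegular b := Groth.Agent.S3824.result a b hqa hab.symm
  have hofList : ∀ g : Fin n → A, Ideal.ofList (List.ofFn g) = Ideal.span (Set.range g) := by
    intro g
    unfold Ideal.ofList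
    congr 1
    ext x
    exact List.mem_ofFn' g x
  have htop : (⊤ : Submodule A A) ≠ Ideal.ofList (List.ofFn b) • ⊤ := by
    have := ha.top_ne_smul
    rwa [hofList a, hab, ← hofList b] at this
  have hne : Ideal.span (Set.range b) ≠ ⊤ := by
    intro h
    apply htop
    rw [hofList b, h, smul_eq_mul, Ideal.mul_top]
  have hb : ∀ i, b i ∈ Ring.jacobson A := by
    intro i
    rw [IsLocalRing.ringJacobson_eq_maximalIdeal]
    exact IsLocalRing.le_maximalIdeal hne (Ideal.subset_span ⟨i, rfl⟩)
  exact ⟨Groth.Agent.Lib.Helper14.QuasiRegReg.isWeaklyRegular_of_qr b hb hqb, htop⟩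

end Groth.Agent.S0611
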