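import Groth.Statements.S5840
import Mathlib
import Groth.Agent.Lib.Helper13.ModGrothendieck
import Groth.Agent.Lib.Helper3.QCProps

set_option autoImplicit false
universe u
open ZClos

namespace Groth.Agent.S5840

open CategoryTheory CategoryTheory.Limits AlgebraicGeometry in
/-- For a locally Noetherian scheme X and a subset Z of X stable under specialization, the Z-closure
functor F ↦ H⁰_{X/Z}(F) on O_X-modules (the filtered colimit, over the closed subsets T of X inside
Z, of the direct images of the restrictions of F to X ∖ T) is left exact: it preserves finite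
limits. -/
theorem result (X : Scheme.{u}) [IsLocallyNoetherian X] (Z : Set X)
    (hZ : StableUnderSpecialization Z) : PreservesFiniteLimits (ZClos.H0 Z) := by
  haveI hcolim : PreservesFiniteLimits (colim : (ZClos.Cl Z ⥤ X.Modules) ⥤ X.Modules) := by
    haveI : HasExactColimitsOfShape (ZClos.Cl Z) X.Modules :=
      Groth.Agent.Lib.Helper13.ModGrothendieck.sheaf_hasExactColimitsOfShape
        (O := X.ringCatSheaf) (ZClos.Cl Z)
    infer_instance
  haveI hpush : ∀ T : ZClos.Cl Z, PreservesFiniteLimits (ZClos.resPush T.U) := by
    intro T
    haveI : PreservesFiniteLimits (Scheme.Modules.pushforward T.U.ι) := by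
      have : PreservesLimitsOfSize.{0, 0} (Scheme.Modules.pushforward T.U.ι) :=
        (Scheme.Modules.pullbackPushforwardAdjunction T.U.ι).rightAdjoint_preservesLimits
      exact PreservesLimitsOfSize.preservesFiniteLimits _
    change PreservesFiniteLimits
      (Scheme.Modules.restrictFunctor T.U.ι ⋙ Scheme.Modules.pushforward T.U.ι)
    infer_instance
  haveI hdiag : PreservesFiniteLimits (ZClos.diagram Z) := by
    constructor
    intro J _ _
    apply preservesLimitsOfShape_of_evaluation
    intro T
    have : ZClos.diagram Z ⋙ (evaluation (ZClos.Cl Z) X.Modules).obj T = ZClos.resPush T.U := rfl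
    rw [this]
    infer_instance
  change PreservesFiniteLimits (ZClos.diagram Z ⋙ colim)
  infer_instance

end Groth.Agent.S5840
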