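import Groth.Statements.S5854
import Mathlib
import Groth.Agent.Lib.Helper17.ZClosFlat
import Groth.Agent.Lib.Helper17.PbFinite
import Groth.Agent.Lib.Helper17.FpqcFinite
import Groth.Agent.Lib.Helper3.QCExtend

set_option autoImplicit false
universe u
open ZClos

namespace Groth.Agent.S5854

open CategoryTheory CategoryTheory.Limits AlgebraicGeometry in
/-- Let f : X' → X be a flat morphism of locally Noetherian schemes, Z a subset of X stable under
specialization, Z' = f⁻¹(Z) and F a quasi-coherent O_X-module. If H⁰_{X/Z}(F) is coherent then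
H⁰_{X'/Z'}(f^* F) is coherent; the converse holds when f is moreover surjective (faithfully flat)
and quasi-compact. -/
theorem result {X X' : Scheme.{u}} [IsLocallyNoetherian X] [IsLocallyNoetherian X'] (f : X' ⟶ X) [Flat f]
    (Z : Set X) (hZ : StableUnderSpecialization Z) (F : X.Modules) (hF : Coh.IsQCoh F) :
    (Coh.IsCoh ((ZClos.H0 Z).obj F) →
      Coh.IsCoh ((ZClos.H0 (f.base ⁻¹' Z)).obj ((Scheme.Modules.pullback f).obj F))) ∧
    (Surjective f → QuasiCompact f →
      Coh.IsCoh ((ZClos.H0 (f.base ⁻¹' Z)).obj ((Scheme.Modules.pullback f).obj F)) →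
        Coh.IsCoh ((ZClos.H0 Z).obj F)) := by
  haveI : F.IsQuasicoherent := hF
  obtain ⟨e⟩ := Groth.Agent.Lib.Helper17.ZClosFlat.nonempty_pullback_H0_iso f Z F hZ
  haveI hqG : ((ZClos.H0 Z).obj F).IsQuasicoherent := inferInstance
  constructor
  · rintro ⟨hq, hft⟩
    haveI := hq
    haveI := hft
    haveI hq' := Groth.Agent.Lib.Helper17.PbStalk.isQuasicoherent_pullback f ((ZClos.H0 Z).obj F)
    haveI hft' := Groth.Agent.Lib.Helper17.PbFinite.isFiniteType_pullback f ((ZClos.H0 Z).obj F)
    exact ⟨(SheafOfModules.isQuasicoherent X'.ringCatSheaf).prop_of_iso e hq',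
      Groth.Agent.Lib.Helper3.QCProps.isFiniteType_of_iso e⟩
  · rintro hsurj hqc ⟨hq, hft⟩
    haveI := hsurj
    haveI := hqc
    haveI hft' : ((Scheme.Modules.pullback f).obj ((ZClos.H0 Z).obj F)).IsFiniteType := by
      haveI := hft
      exact Groth.Agent.Lib.Helper3.QCProps.isFiniteType_of_iso e.symm
    refine ⟨hqG, Groth.Agent.Lib.Helper3.QCExtend.isFiniteType_of_locFin _ ?_⟩
    intro x _
    obtain ⟨U, hU, hxU⟩ := Groth.Agent.Lib.Helper3.QCProps.exists_affine_nbhd x
    exact ⟨U, hU, hxU,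
      Groth.Agent.Lib.Helper17.FpqcFinite.finite_sections_of_pullback f _ hft' hU⟩

end Groth.Agent.S5854
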