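import Groth.Statements.S0660
import Groth.Agent.Lib.Helper15.ClosedLift

set_option autoImplicit false
open CategoryTheory CategoryTheory.Limits AlgebraicGeometry Opposite
universe u
open EtCore

namespace Groth.Agent.S0660


open Groth.Agent.Lib.Helper15

set_option backward.isDefEq.respectTransparency.types false

/-- Let i : Z -> X be a closed immersion, U and U' schemes etale over X, and h a Z-morphism from U x_X Z
to U' x_X Z. Then there are an etale X-scheme W and X-morphisms a : W -> U, b : W -> U' such that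
the base change of a to Z is an isomorphism and h is the base change of b composed with the inverse
of the base change of a. -/
theorem result {Z X : Scheme.{u}} (i : Z ⟶ X) [IsClosedImmersion i] (U U' : X.Etale)
    (h : (EtCoh.bc i).obj U ⟶ (EtCoh.bc i).obj U') :
    ∃ (W : X.Etale) (a : W ⟶ U) (b : W ⟶ U'), IsIso ((EtCoh.bc i).map a) ∧ (EtCoh.bc i).map a ≫ h = (EtCoh.bc i).map b := by
  haveI : Etale U.hom := U.prop
  haveI : Etale U'.hom := U'.prop
  obtain ⟨W, w, hw, a, b, ha, hb, H⟩ :=
    ClosedLift.exists_lift i U.hom U'.hom h.left (MorphismProperty.Over.w h)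
  haveI := hw
  obtain ⟨a', ha'⟩ : ∃ a' : Scheme.Etale.mk w ⟶ U, a'.left = a :=
    ⟨MorphismProperty.Over.homMk a ha trivial, rfl⟩
  obtain ⟨b', hb'⟩ : ∃ b' : Scheme.Etale.mk w ⟶ U', b'.left = b :=
    ⟨MorphismProperty.Over.homMk b hb trivial, rfl⟩
  have e1 : ((EtCoh.bc i).map a').left ≫ pullback.snd U.hom i = pullback.snd w i :=
    MorphismProperty.Over.w ((EtCoh.bc i).map a')
  have e2 : ((EtCoh.bc i).map a').left ≫ pullback.fst U.hom i = pullback.fst w i ≫ a := by
    have h3 := (EtCoh.isPullback_bc_map i a').w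
    rw [ha'] at h3
    exact h3
  have e1' : ((EtCoh.bc i).map b').left ≫ pullback.snd U'.hom i = pullback.snd w i :=
    MorphismProperty.Over.w ((EtCoh.bc i).map b')
  have e2' : ((EtCoh.bc i).map b').left ≫ pullback.fst U'.hom i = pullback.fst w i ≫ b := by
    have h3 := (EtCoh.isPullback_bc_map i b').w
    rw [hb'] at h3
    exact h3
  obtain ⟨hiso, hcomp⟩ := H _ _ e1 e2 e1' e2'
  refine ⟨Scheme.Etale.mk w, a', b', ?_, ?_⟩
  · haveI : IsIso ((EtCoh.bc i).map a').left := hiso
    refine ⟨MorphismProperty.Over.homMk (inv ((EtCoh.bc i).map a').left) (by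
        rw [IsIso.inv_comp_eq]
        exact (MorphismProperty.Over.w ((EtCoh.bc i).map a')).symm) trivial, ?_, ?_⟩
    · apply MorphismProperty.Over.Hom.ext
      exact IsIso.hom_inv_id _
    · apply MorphismProperty.Over.Hom.ext
      exact IsIso.inv_hom_id _
  · apply MorphismProperty.Over.Hom.ext
    exact hcomp

end Groth.Agent.S0660
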