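import Groth.Statements.S0067
import Groth.Agent.S0660
import Groth.Agent.Lib.Helper15.ClosedNbhd
import Groth.Agent.Lib.Helper15.EtGlue

set_option autoImplicit false
open CategoryTheory CategoryTheory.Limits AlgebraicGeometry Opposite
universe u
open EtBase

namespace Groth.Agent.S0067


open Groth.Agent.Lib.Helper15

set_option backward.isDefEq.respectTransparency.types false

/-- Part (2), first half — pushforward of abelian étale sheaves along a closed immersion is fully
faithful. -/
theorem result {Z X : Scheme.{u}} (i : Z ⟶ X) [IsClosedImmersion i] [EtCoh.BCCont i] :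
    (EtCoh.push i).Full ∧ (EtCoh.push i).Faithful := by
  haveI hcd : (EtCoh.bc i).IsCoverDense Z.smallEtaleTopology := by
    constructor
    intro V
    rw [EtGlue.mem_iff]
    intro x
    haveI : Etale V.hom := V.prop
    obtain ⟨U, p, hp, u, h1, t, ht1, ht2⟩ := ClosedNbhd.exists_lift_nbhd i V.hom
      (Ω := V.left.residueField x)
      (V.left.fromSpecResidueField x :
        Spec (CommRingCat.of (V.left.residueField x)) ⟶ V.left)
    haveI := hp
    refine ⟨(EtCoh.bc i).obj (Scheme.Etale.mk p), MorphismProperty.Over.homMk t ht1 trivial,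
      (pullback.lift u _ h1) default, Presieve.in_coverByImage _ _, ?_⟩
    show t ((pullback.lift u _ h1) default) = x
    rw [← Scheme.Hom.comp_apply, ht2]
    exact Scheme.fromSpecResidueField_apply _ _
  haveI hlf : (EtCoh.bc i).IsLocallyFull Z.smallEtaleTopology := by
    constructor
    intro U V f
    obtain ⟨W, a, b, ha, hab⟩ := Groth.Agent.S0660.result i U V f
    haveI := ha
    have htop : (Functor.imageSieve (EtCoh.bc i) f).functorPushforward (EtCoh.bc i) = ⊤ := by
      rw [← Sieve.id_mem_iff_eq_top]
      exact ⟨W, a, inv ((EtCoh.bc i).map a), ⟨b, hab.symm⟩, (IsIso.inv_hom_id _).symm⟩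
    rw [htop]
    exact Z.smallEtaleTopology.top_mem _
  refine ⟨⟨?_⟩, ⟨?_⟩⟩
  · intro G G' ψ
    refine ⟨⟨Functor.IsCoverDense.restrictHomEquivHom (G := EtCoh.bc i) ψ.hom⟩, ?_⟩
    apply Sheaf.hom_ext
    exact (Functor.IsCoverDense.restrictHomEquivHom (G := EtCoh.bc i)).left_inv ψ.hom
  · intro G G' φ φ' h
    apply Sheaf.hom_ext
    apply (Functor.IsCoverDense.restrictHomEquivHom (G := EtCoh.bc i) (ℱ := G.obj)
      (ℱ' := G')).symm.injective
    exact congrArg (fun m => m.hom) h

end Groth.Agent.S0067
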