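import Groth.Statements.S0111
import Mathlib

set_option autoImplicit false
open CategoryTheory CategoryTheory.Limits AlgebraicGeometry Opposite
universe u
open EtBase

namespace Groth.Agent.S0111

variable {X : Scheme.{u}} {Ω : Type u} [Field Ω] [IsSepClosed Ω]
  (ξ : Spec (CommRingCat.of Ω) ⟶ X)

/-- the étale local ring -/
noncomputable abbrev R : CommRingCat.{u} := EtBase.etaleLocalRing ξ

/-- evaluation at the geometric point, as a morphism of rings -/
noncomputable def evUHom (U : X.Etale) (u : (Scheme.pointSmallEtale ξ).fiber.obj U) :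
    (EtBase.OO X).obj (op U) ⟶ CommRingCat.of Ω :=
  u.left.appTop ≫ (Scheme.ΓSpecIso (CommRingCat.of Ω)).hom

lemma appTop_comp_aux {A B C : Scheme.{u}} (f : A ⟶ B) (g : B ⟶ C) {T : CommRingCat.{u}}
    (k : Γ(A, ⊤) ⟶ T) : g.appTop ≫ f.appTop ≫ k = (f ≫ g).appTop ≫ k := by
  rw [Scheme.Hom.comp_appTop, Category.assoc]

lemma evUHom_compat {U' U : X.Etale} (g : U' ⟶ U)
    (u' : (Scheme.pointSmallEtale ξ).fiber.obj U') :
    (EtBase.OO X).map g.op ≫ evUHom ξ U' u' =
      evUHom ξ U ((Scheme.pointSmallEtale ξ).fiber.map g u') := by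
  exact appTop_comp_aux u'.left g.left _

/-- evaluation on the étale local ring -/
noncomputable def evHom : R ξ ⟶ CommRingCat.of Ω :=
  (Scheme.pointSmallEtale ξ).presheafFiberDesc (fun U u => evUHom ξ U u)
    (fun _ _ g u' => evUHom_compat ξ g u')

/-- canonical map from sections on an étale neighbourhood -/
noncomputable def tau (U : X.Etale) (u : (Scheme.pointSmallEtale ξ).fiber.obj U) :
    Γ(U.left, ⊤) →+* R ξ :=
  ((Scheme.pointSmallEtale ξ).toPresheafFiber U u (EtBase.OO X)).hom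

noncomputable def evU (U : X.Etale) (u : (Scheme.pointSmallEtale ξ).fiber.obj U) :
    Γ(U.left, ⊤) →+* Ω := (evUHom ξ U u).hom

noncomputable def ev : R ξ →+* Ω := (evHom ξ).hom

lemma ev_comp_tau (U : X.Etale) (u : (Scheme.pointSmallEtale ξ).fiber.obj U) :
    (ev ξ).comp (tau ξ U u) = evU ξ U u := by
  have h := (Scheme.pointSmallEtale ξ).toPresheafFiber_presheafFiberDesc
    (fun U u => evUHom ξ U u) (fun _ _ g u' => evUHom_compat ξ g u') U u
  exact congrArg CommRingCat.Hom.hom h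

lemma ev_tau (U : X.Etale) (u : (Scheme.pointSmallEtale ξ).fiber.obj U) (a : Γ(U.left, ⊤)) :
    ev ξ (tau ξ U u a) = evU ξ U u a :=
  congrArg (fun f => f a) (ev_comp_tau ξ U u)

lemma tau_w {U' U : X.Etale} (g : U' ⟶ U) (u' : (Scheme.pointSmallEtale ξ).fiber.obj U')
    (a : Γ(U.left, ⊤)) :
    tau ξ U' u' (g.left.appTop.hom a) = tau ξ U ((Scheme.pointSmallEtale ξ).fiber.map g u') a :=
  (Scheme.pointSmallEtale ξ).toPresheafFiber_w_apply g u' (EtBase.OO X) a

lemma tau_surj (r : R ξ) : ∃ (U : X.Etale) (u : (Scheme.pointSmallEtale ξ).fiber.obj U)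
    (a : Γ(U.left, ⊤)), tau ξ U u a = r :=
  (Scheme.pointSmallEtale ξ).toPresheafFiber_jointly_surjective (P := EtBase.OO X) r

omit [IsSepClosed Ω] in
/-- pure scheme lemma: lifting a point to the base change of `Spec B → Spec Γ(Y)` -/
lemma K0 (Y T : Scheme.{u}) (s : T ⟶ Y) (B : CommRingCat.{u}) (ψ : Γ(Y, ⊤) ⟶ B)
    (e : B ⟶ Γ(T, ⊤)) (he : ψ ≫ e = s.appTop) :
    ∃ s' : T ⟶ pullback Y.toSpecΓ (Spec.map ψ),
      s' ≫ pullback.fst Y.toSpecΓ (Spec.map ψ) = s ∧
      ψ ≫ (Scheme.ΓSpecIso B).inv ≫ (pullback.snd Y.toSpecΓ (Spec.map ψ)).appTop =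
        (pullback.fst Y.toSpecΓ (Spec.map ψ)).appTop ∧
      ((Scheme.ΓSpecIso B).inv ≫ (pullback.snd Y.toSpecΓ (Spec.map ψ)).appTop) ≫ s'.appTop = e := by
  have w : s ≫ Y.toSpecΓ = (T.toSpecΓ ≫ Spec.map e) ≫ Spec.map ψ := by
    rw [Scheme.toSpecΓ_naturality, ← he, Spec.map_comp, Category.assoc]
  refine ⟨pullback.lift s (T.toSpecΓ ≫ Spec.map e) w, pullback.lift_fst _ _ _, ?_, ?_⟩
  · rw [Scheme.ΓSpecIso_inv_naturality_assoc, ← Scheme.Hom.comp_appTop, ← pullback.condition,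
      Scheme.Hom.comp_appTop, Scheme.toSpecΓ_appTop, Iso.inv_hom_id_assoc]
  · rw [Category.assoc, ← Scheme.Hom.comp_appTop, pullback.lift_snd, Scheme.Hom.comp_appTop,
      Scheme.toSpecΓ_appTop, ← Scheme.ΓSpecIso_inv_naturality_assoc, Iso.inv_hom_id,
      Category.comp_id]

/-- the étale neighbourhood `V → U → X` -/
noncomputable def nbhd (U : X.Etale) (V : Scheme.{u}) (p₁ : V ⟶ U.left) [Etale p₁] : X.Etale :=
  haveI : Etale U.hom := U.prop
  Scheme.Etale.mk (p₁ ≫ U.hom)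

noncomputable def nbhdMap (U : X.Etale) (V : Scheme.{u}) (p₁ : V ⟶ U.left) [Etale p₁] :
    nbhd U V p₁ ⟶ U :=
  MorphismProperty.Over.homMk p₁ rfl trivial

noncomputable def nbhdPt (U : X.Etale) (u : (Scheme.pointSmallEtale ξ).fiber.obj U)
    (V : Scheme.{u}) (p₁ : V ⟶ U.left) [Etale p₁] (s' : Spec (CommRingCat.of Ω) ⟶ V)
    (hs' : s' ≫ p₁ = u.left) : (Scheme.pointSmallEtale ξ).fiber.obj (nbhd U V p₁) :=
  Over.homMk s' (by
    have h := Over.w u
    refine (Category.assoc _ _ _).symm.trans ?_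
    exact (congrArg (· ≫ U.hom) hs').trans h)

lemma nbhdPt_map (U : X.Etale) (u : (Scheme.pointSmallEtale ξ).fiber.obj U)
    (V : Scheme.{u}) (p₁ : V ⟶ U.left) [Etale p₁] (s' : Spec (CommRingCat.of Ω) ⟶ V)
    (hs' : s' ≫ p₁ = u.left) :
    (Scheme.pointSmallEtale ξ).fiber.map (nbhdMap U V p₁) (nbhdPt ξ U u V p₁ s' hs') = u :=
  Over.OverMorphism.ext hs'

/-- an étale `V → U.left` with a lift of the geometric point gives a map to the local ring -/
lemma K1 (U : X.Etale) (u : (Scheme.pointSmallEtale ξ).fiber.obj U)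
    (V : Scheme.{u}) (p₁ : V ⟶ U.left) [Etale p₁] (s' : Spec (CommRingCat.of Ω) ⟶ V)
    (hs' : s' ≫ p₁ = u.left) (B : Type u) [CommRing B] (ψ : Γ(U.left, ⊤) →+* B)
    (κ₀ : B →+* Γ(V, ⊤)) (h1 : κ₀.comp ψ = p₁.appTop.hom) (e' : B →+* Ω)
    (h2 : (s'.appTop ≫ (Scheme.ΓSpecIso (CommRingCat.of Ω)).hom).hom.comp κ₀ = e') :
    ∃ κ : B →+* R ξ, κ.comp ψ = tau ξ U u ∧ (ev ξ).comp κ = e' := by
  refine ⟨(tau ξ (nbhd U V p₁) (nbhdPt ξ U u V p₁ s' hs')).comp κ₀, ?_, ?_⟩
  · ext a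
    have h := tau_w ξ (nbhdMap U V p₁) (nbhdPt ξ U u V p₁ s' hs') a
    rw [nbhdPt_map] at h
    refine Eq.trans ?_ h
    exact congrArg (tau ξ (nbhd U V p₁) (nbhdPt ξ U u V p₁ s' hs'))
      (congrArg (fun f => f a) h1)
  · ext b
    have h := ev_tau ξ (nbhd U V p₁) (nbhdPt ξ U u V p₁ s' hs') (κ₀ b)
    refine h.trans ?_
    exact congrArg (fun f => f b) h2

omit [IsSepClosed Ω] in
lemma ofHom_aux {A C D : CommRingCat.{u}} (f : A ⟶ C) (i : C ≅ D) :
    CommRingCat.ofHom (f ≫ i.hom).hom ≫ i.inv = f := by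
  rw [CommRingCat.ofHom_hom, Category.assoc, Iso.hom_inv_id, Category.comp_id]

/-- refinement along an étale algebra with a compatible point -/
lemma K2 (U : X.Etale) (u : (Scheme.pointSmallEtale ξ).fiber.obj U) (B : Type u) [CommRing B]
    (ψ : Γ(U.left, ⊤) →+* B) (hψ : ψ.Etale) (e' : B →+* Ω) (he : e'.comp ψ = evU ξ U u) :
    ∃ κ : B →+* R ξ, κ.comp ψ = tau ξ U u ∧ (ev ξ).comp κ = e' := by
  haveI : Etale (Spec.map (CommRingCat.ofHom ψ)) :=
    (HasRingHomProperty.Spec_iff (P := @Etale)).2 hψ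
  obtain ⟨s', h1, h2, h3⟩ := K0 U.left (Spec (CommRingCat.of Ω)) u.left (CommRingCat.of B)
    (CommRingCat.ofHom ψ)
    (CommRingCat.ofHom e' ≫ (Scheme.ΓSpecIso (CommRingCat.of Ω)).inv) (by
      rw [← Category.assoc, ← CommRingCat.ofHom_comp, he]
      exact ofHom_aux u.left.appTop (Scheme.ΓSpecIso (CommRingCat.of Ω)))
  refine K1 ξ U u _ (pullback.fst U.left.toSpecΓ (Spec.map (CommRingCat.ofHom ψ))) s' h1 B ψ
    ((Scheme.ΓSpecIso (CommRingCat.of B)).inv ≫
      (pullback.snd U.left.toSpecΓ (Spec.map (CommRingCat.ofHom ψ))).appTop).hom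
    (congrArg CommRingCat.Hom.hom h2) e' ?_
  have h4 : ((Scheme.ΓSpecIso (CommRingCat.of B)).inv ≫
      (pullback.snd U.left.toSpecΓ (Spec.map (CommRingCat.ofHom ψ))).appTop) ≫
      s'.appTop ≫ (Scheme.ΓSpecIso (CommRingCat.of Ω)).hom = CommRingCat.ofHom e' := by
    rw [← Category.assoc, h3, Category.assoc, Iso.inv_hom_id, Category.comp_id]
  exact congrArg CommRingCat.Hom.hom h4

lemma isUnit_of_ev_ne_zero (r : R ξ) (h : ev ξ r ≠ 0) : IsUnit r := by
  obtain ⟨U, u, a, rfl⟩ := tau_surj ξ r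
  rw [ev_tau] at h
  have hψ : (algebraMap Γ(U.left, ⊤) (Localization.Away a)).Etale :=
    RingHom.etale_algebraMap.2 (Algebra.Etale.of_isLocalizationAway a)
  have hu : IsUnit (evU ξ U u a) := IsUnit.mk0 _ h
  obtain ⟨κ, hκ, -⟩ := K2 ξ U u (Localization.Away a) (algebraMap _ _) hψ
    (IsLocalization.Away.lift a hu) (IsLocalization.Away.lift_comp a hu)
  have h1 : tau ξ U u a = κ (algebraMap _ _ a) := (congrArg (fun f => f a) hκ).symm
  rw [h1]
  exact (IsLocalization.Away.algebraMap_isUnit a).map κ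

lemma isLocalRing : IsLocalRing (R ξ) := by
  haveI : Nontrivial (R ξ) := (ev ξ).domain_nontrivial
  refine IsLocalRing.of_isUnit_or_isUnit_one_sub_self (fun a => ?_)
  by_cases h : ev ξ a = 0
  · right
    apply isUnit_of_ev_ne_zero
    rw [map_sub, map_one, h, sub_zero]
    exact one_ne_zero
  · left
    exact isUnit_of_ev_ne_zero ξ a h

lemma mem_maximalIdeal_iff [IsLocalRing (R ξ)] (a : R ξ) :
    a ∈ IsLocalRing.maximalIdeal (R ξ) ↔ ev ξ a = 0 := by
  rw [IsLocalRing.mem_maximalIdeal, mem_nonunits_iff]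
  constructor
  · intro h
    by_contra h'
    exact h (isUnit_of_ev_ne_zero ξ a h')
  · intro h hu
    exact (hu.map (ev ξ)).ne_zero h

lemma exists_common (W V : X.Etale) (w : (Scheme.pointSmallEtale ξ).fiber.obj W)
    (v : (Scheme.pointSmallEtale ξ).fiber.obj V) :
    ∃ (W' : X.Etale) (w' : (Scheme.pointSmallEtale ξ).fiber.obj W') (a : W' ⟶ W) (b : W' ⟶ V),
      (Scheme.pointSmallEtale ξ).fiber.map a w' = w ∧
      (Scheme.pointSmallEtale ξ).fiber.map b w' = v := by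
  let eW : (Scheme.pointSmallEtale ξ).fiber.Elements := ⟨W, w⟩
  let eV : (Scheme.pointSmallEtale ξ).fiber.Elements := ⟨V, v⟩
  exact ⟨(IsCofiltered.min eW eV).1, (IsCofiltered.min eW eV).2,
    (IsCofiltered.minToLeft eW eV).1, (IsCofiltered.minToRight eW eV).1,
    (IsCofiltered.minToLeft eW eV).2, (IsCofiltered.minToRight eW eV).2⟩

lemma exists_common_nbhd (s : Finset (R ξ)) :
    ∃ (U : X.Etale) (u : (Scheme.pointSmallEtale ξ).fiber.obj U),
      ∀ r ∈ s, r ∈ Set.range (tau ξ U u) := by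
  classical
  induction s using Finset.induction_on with
  | empty => exact ⟨Scheme.Etale.mk (𝟙 X), Over.homMk ξ (Category.comp_id _), by simp⟩
  | insert r s hr ih =>
    obtain ⟨U₁, u₁, h₁⟩ := ih
    obtain ⟨U₂, u₂, a, rfl⟩ := tau_surj ξ r
    obtain ⟨W, w, f₁, f₂, hw₁, hw₂⟩ := exists_common ξ U₁ U₂ u₁ u₂
    refine ⟨W, w, fun r' hr' => ?_⟩
    rw [Finset.mem_insert] at hr'
    rcases hr' with rfl | hr'
    · exact ⟨f₂.left.appTop.hom a, by rw [tau_w, hw₂]⟩
    · obtain ⟨b, rfl⟩ := h₁ r' hr'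
      exact ⟨f₁.left.appTop.hom b, by rw [tau_w, hw₁]⟩

lemma exists_monic_lift (f : Polynomial (R ξ)) (hf : f.Monic) (s : Finset (R ξ)) :
    ∃ (U : X.Etale) (u : (Scheme.pointSmallEtale ξ).fiber.obj U)
      (g : Polynomial Γ(U.left, ⊤)), g.Monic ∧ g.map (tau ξ U u) = f ∧
      ∀ r ∈ s, r ∈ Set.range (tau ξ U u) := by
  classical
  haveI : Nontrivial (R ξ) := (ev ξ).domain_nontrivial
  obtain ⟨U, u, hU⟩ := exists_common_nbhd ξ (s ∪ f.coeffs)
  have hf_lifts : f ∈ Polynomial.lifts (tau ξ U u) := by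
    rw [Polynomial.lifts_iff_coeff_lifts]
    intro n
    by_cases hn : f.coeff n = 0
    · rw [hn]
      exact ⟨0, map_zero _⟩
    · exact hU _ (Finset.mem_union_right _ (Polynomial.coeff_mem_coeffs hn))
  obtain ⟨g, hg, -, hgm⟩ := Polynomial.lifts_and_degree_eq_and_monic hf_lifts hf
  exact ⟨U, u, g, hgm, hg, fun r hr => hU r (Finset.mem_union_left _ hr)⟩

/-- Hensel-type lifting via a standard étale neighbourhood -/
lemma H (U : X.Etale) (u : (Scheme.pointSmallEtale ξ).fiber.obj U)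
    (g : Polynomial Γ(U.left, ⊤)) (hg : g.Monic) (ω : Ω)
    (h0 : (g.map (evU ξ U u)).eval ω = 0) (h1 : (g.map (evU ξ U u)).derivative.eval ω ≠ 0) :
    ∃ a : R ξ, (g.map (tau ξ U u)).eval a = 0 ∧ ev ξ a = ω := by
  let Pr : StandardEtalePair Γ(U.left, ⊤) := ⟨g, hg, Polynomial.derivative g, ⟨1, 0, 1, by simp⟩⟩
  letI : Algebra Γ(U.left, ⊤) Ω := (evU ξ U u).toAlgebra
  have hmap : Pr.HasMap ω := by
    constructor
    · show Polynomial.aeval ω g = 0
      rw [Polynomial.aeval_def, ← Polynomial.eval_map]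
      exact h0
    · show IsUnit (Polynomial.aeval ω (Polynomial.derivative g))
      rw [Polynomial.aeval_def, ← Polynomial.eval_map, ← Polynomial.derivative_map]
      exact IsUnit.mk0 _ h1
  have hψ : (algebraMap Γ(U.left, ⊤) Pr.Ring).Etale := RingHom.etale_algebraMap.2 inferInstance
  obtain ⟨κ, hκ, hκ'⟩ := K2 ξ U u Pr.Ring (algebraMap _ _) hψ (Pr.lift ω hmap).toRingHom (by
    ext a
    exact (Pr.lift ω hmap).commutes a)
  refine ⟨κ Pr.X, ?_, ?_⟩
  · rw [← hκ, Polynomial.eval_map, ← Polynomial.hom_eval₂, ← Polynomial.aeval_def]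
    have hX : Polynomial.aeval Pr.X g = 0 := (StandardEtalePair.hasMap_X (P := Pr)).1
    rw [hX, map_zero]
  · have h2 := congrArg (fun f => f Pr.X) hκ'
    exact h2.trans (Pr.lift_X ω hmap)

lemma henselian [IsLocalRing (R ξ)] : HenselianLocalRing (R ξ) := by
  refine { is_henselian := fun f hf a₀ h₁ h₂ => ?_ }
  classical
  obtain ⟨U, u, g, hgm, hg, hs⟩ := exists_monic_lift ξ f hf {a₀}
  obtain ⟨a₀', ha₀'⟩ := hs a₀ (Finset.mem_singleton_self _)
  have hmapev : g.map (evU ξ U u) = f.map (ev ξ) := by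
    rw [← ev_comp_tau, ← Polynomial.map_map, hg]
  have e0 : (g.map (evU ξ U u)).eval (evU ξ U u a₀') = 0 := by
    rw [hmapev, ← ev_tau, ha₀', Polynomial.eval_map, Polynomial.eval₂_at_apply]
    exact (mem_maximalIdeal_iff ξ _).1 h₁
  have e1 : (Polynomial.derivative (g.map (evU ξ U u))).eval (evU ξ U u a₀') ≠ 0 := by
    rw [hmapev, Polynomial.derivative_map, ← ev_tau, ha₀', Polynomial.eval_map,
      Polynomial.eval₂_at_apply]
    exact (h₂.map (ev ξ)).ne_zero
  obtain ⟨a, ha, hav⟩ := H ξ U u g hgm _ e0 e1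
  refine ⟨a, ?_, ?_⟩
  · rw [hg] at ha
    exact ha
  · rw [mem_maximalIdeal_iff, map_sub, hav, ← ev_tau, ha₀', sub_self]

lemma sepClosed [IsLocalRing (R ξ)] : IsSepClosed (IsLocalRing.ResidueField (R ξ)) := by
  classical
  haveI : IsLocalHom (ev ξ) := ⟨fun a ha => isUnit_of_ev_ne_zero ξ a ha.ne_zero⟩
  obtain ⟨ι, hι⟩ : ∃ ι : IsLocalRing.ResidueField (R ξ) →+* Ω,
      ι.comp (IsLocalRing.residue (R ξ)) = ev ξ :=
    ⟨IsLocalRing.ResidueField.lift (ev ξ), IsLocalRing.ResidueField.lift_comp_residue (ev ξ)⟩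
  refine IsSepClosed.of_exists_root _ (fun p hpm hpi hps => ?_)
  have hp_lifts : p ∈ Polynomial.lifts (IsLocalRing.residue (R ξ)) :=
    Polynomial.mem_lifts_of_surjective (IsLocalRing.residue_surjective) p
  obtain ⟨f, hf, -, hfm⟩ := Polynomial.lifts_and_degree_eq_and_monic hp_lifts hpm
  obtain ⟨U, u, g, hgm, hg, -⟩ := exists_monic_lift ξ f hfm ∅
  have hsep : (p.map ι).Separable := hps.map
  have hdeg : (p.map ι).degree ≠ 0 := by
    rw [Polynomial.degree_map]
    exact (Polynomial.degree_pos_of_irreducible hpi).ne'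
  obtain ⟨ω, hω⟩ := IsSepClosed.exists_root (p.map ι) hdeg hsep
  have hmapev : g.map (evU ξ U u) = p.map ι := by
    rw [← ev_comp_tau, ← Polynomial.map_map, hg, ← hι, ← Polynomial.map_map, hf]
  have e1 : (Polynomial.derivative (g.map (evU ξ U u))).eval ω ≠ 0 := by
    rw [hmapev]
    have h := hsep.eval₂_derivative_ne_zero (RingHom.id Ω) (x := ω)
      (by rw [Polynomial.eval₂_id]; exact hω)
    rwa [Polynomial.eval₂_id] at h
  obtain ⟨a, ha, -⟩ := H ξ U u g hgm ω (by rw [hmapev]; exact hω) e1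
  refine ⟨IsLocalRing.residue _ a, ?_⟩
  rw [← hf, Polynomial.eval_map, Polynomial.eval₂_at_apply, ← hg, ha, map_zero]

/-- Let X be a scheme and ξ : Spec Ω → X a geometric point, Ω a separably closed field. Then the étale
local ring of X at ξ (the stalk of the structure sheaf on the small étale site of X at ξ) is a
strictly henselian local ring. The published statement is stronger: it identifies this ring with the
strict henselization of the Zariski local ring at the underlying point of ξ; only the consequence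
that it is strictly henselian is asserted here. -/
theorem result {X : Scheme.{u}} {Ω : Type u} [Field Ω] [IsSepClosed Ω]
    (ξ : Spec (CommRingCat.of Ω) ⟶ X) : EtCoh.IsStrictlyHenselianLocalRing (EtBase.etaleLocalRing ξ) := by
  haveI := isLocalRing ξ
  exact ⟨henselian ξ, sepClosed ξ⟩

end Groth.Agent.S0111
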