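import Groth.Statements.S10194
import Groth.Agent.Lib.Helper15.OpenSub
import Groth.Agent.Lib.Helper15.ToposQuot
import Groth.Agent.Lib.Helper16.Rep

set_option autoImplicit false
universe u
open CategoryTheory CategoryTheory.Limits AlgebraicGeometry Topology TopologicalSpace
open AlgSp

namespace Groth.Agent.S10194

/-- Let X, Y be algebraic spaces over a scheme S and j : X' ⟶ X an open subspace (a morphism
representable by open immersions). Then a morphism f : Y ⟶ X factors through X' if and only if
|f|(|Y|) is contained in |X'|. -/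
theorem result {S : Scheme.{u}} {X X' Y : AlgSp.Space S}
    (j : X' ⟶ X) (hj : AlgSp.RepWith @IsOpenImmersion j.hom) (f : Y ⟶ X) :
    (∃ g : Y ⟶ X', g ≫ j = f) ↔
      Set.range (AlgSp.Points.map f.hom) ⊆ Set.range (AlgSp.Points.map j.hom) := by
  constructor
  · rintro ⟨g, rfl⟩
    rintro _ ⟨y, rfl⟩
    exact ⟨AlgSp.Points.map g.hom y, (AlgSp.Points.map_comp g.hom j.hom y).symm⟩
  · intro h
    haveI : Mono j.hom := Groth.Agent.Lib.Helper16.mono_of_repWith (P := @IsOpenImmersion)
      (fun _ _ f hf => by
        haveI : IsOpenImmersion f := hf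
        exact (MorphismProperty.monomorphisms.iff f).2 inferInstance) j.hom hj
    have hepi : Epi (pullback.fst f.hom j.hom) := by
      rw [Groth.Agent.Lib.Helper15.epi_iff_locally_lift]
      intro T y
      refine ⟨⊤, (AlgSp.J S).top_mem T, ?_⟩
      intro T' g _
      have hfac : ∃ a : (AlgSp.yon S).obj T' ⟶ X'.obj,
          a ≫ j.hom = ((AlgSp.yon S).map g ≫ y) ≫ f.hom := by
        rw [Groth.Agent.Lib.Helper15.exists_factor_iff_of_openImmersion j.hom hj]
        intro p
        apply h
        exact ⟨AlgSp.Points.ofPt ((AlgSp.yon S).map g ≫ y) p, AlgSp.Points.map_ofPt _ _ p⟩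
      obtain ⟨a, ha⟩ := hfac
      exact ⟨pullback.lift ((AlgSp.yon S).map g ≫ y) a ha.symm, pullback.lift_fst _ _ _⟩
    haveI : IsIso (pullback.fst f.hom j.hom) := isIso_of_mono_of_epi _
    refine ⟨ObjectProperty.homMk (inv (pullback.fst f.hom j.hom) ≫ pullback.snd f.hom j.hom), ?_⟩
    apply ObjectProperty.hom_ext
    rw [ObjectProperty.FullSubcategory.comp_hom, ObjectProperty.homMk_hom, Category.assoc,
      ← pullback.condition, IsIso.inv_hom_id_assoc]

end Groth.Agent.S10194
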