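import Groth.Statements.S10216
import Groth.Agent.Lib.Helper16.GeomPoints

set_option autoImplicit false
universe u
open CategoryTheory CategoryTheory.Limits AlgebraicGeometry Topology TopologicalSpace
open AlgSp

namespace Groth.Agent.S10216

/-- Let φ : U ⟶ X be an etale morphism of algebraic spaces over a scheme S, take a geometric point x̄ :
Spec k ⟶ X of X whose image in |X| is x, and let u ∈ |U| with φ(u) = x. Then there is a geometric
point ū : Spec k ⟶ U (with the same field k) lying over u and with φ ∘ ū = x̄. -/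
theorem result {S : Scheme.{u}} {U X : AlgSp.Space S} (φ : U ⟶ X)
    (hφ : AlgSp.IsEtaleMor φ.hom) (xbar : AlgSp.FieldPt X.obj) (hx : xbar.IsGeometric)
    (u : AlgSp.Points U.obj) (hu : AlgSp.Points.map φ.hom u = AlgSp.Points.mk xbar) :
    ∃ ubar : (AlgSp.yon S).obj xbar.pt ⟶ U.obj,
      ubar ≫ φ.hom = xbar.toHom ∧ AlgSp.Points.ofPt ubar (IsLocalRing.closedPoint xbar.K) = u := by
  haveI : IsAlgClosed xbar.K := hx
  obtain ⟨V, a, hae, has⟩ := U.property.atlas
  obtain ⟨v, hv⟩ := Groth.Agent.Lib.Helper16.ofPt_surjective_of_surjective a has u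
  have hψ : AlgSp.RepWith @Etale (a ≫ φ.hom) := hφ a hae
  have sq := hψ.rep.isPullback xbar.toHom
  haveI hse : Etale (hψ.rep.snd xbar.toHom).left := hψ.property_snd _
  obtain ⟨c, hc⟩ := (AlgSp.yon S).map_surjective (hψ.rep.fst xbar.toHom)
  rw [← hc] at sq
  have hpt : AlgSp.Points.map (a ≫ φ.hom) (AlgSp.Points.ofScheme V v) =
      AlgSp.Points.ofPt xbar.toHom (IsLocalRing.closedPoint xbar.K) := by
    rw [← AlgSp.Points.ofPt_eq_map_ofScheme, ← AlgSp.Points.map_ofPt, hv, hu,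
      AlgSp.Points.ofPt_toHom]
  obtain ⟨e, he1, he2⟩ := Groth.Agent.Lib.Helper16.exists_point_of_isPullback_yon sq
    (AlgSp.Points.ofScheme V v) (IsLocalRing.closedPoint xbar.K) hpt
  have hce : c.left e = v := by
    apply Groth.Agent.Lib.Helper16.ofScheme_injective V
    exact (Groth.Agent.Lib.Helper16.map_yon_map_ofScheme c e).symm.trans
      ((AlgSp.Points.ofPt_eq_map_ofScheme _ _).symm.trans he1)
  haveI := Groth.Agent.Lib.Helper16.locallyQuasiFinite_of_etale (hψ.rep.snd xbar.toHom).left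
  have hd := (hψ.rep.snd xbar.toHom).left.isDiscrete_preimage_singleton
    (IsLocalRing.closedPoint xbar.K)
  obtain ⟨O, hO, hOe⟩ := (isDiscrete_iff_forall_mem_exists_isOpen.1 hd) e he2
  have hsub : Subsingleton (PrimeSpectrum xbar.K) := inferInstance
  have hOeq : O = {e} := by
    rw [← hOe]
    ext y
    constructor
    · intro hy
      exact ⟨hy, @Subsingleton.elim _ hsub _ _⟩
    · intro hy
      exact hy.1
  let Oo : (hψ.rep.pullback xbar.toHom).left.Opens := ⟨O, hO⟩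
  have heO : e ∈ Oo := by
    change e ∈ O
    rw [hOeq]
    rfl
  haveI : Nonempty ↥(Oo : Scheme.{u}) := by
    have : e ∈ Set.range Oo.ι := by rw [Scheme.Opens.range_ι]; exact heO
    obtain ⟨y, -⟩ := this
    exact ⟨y⟩
  obtain ⟨s, hs⟩ := Groth.Agent.Lib.Helper16.exists_section_of_nonempty (K := xbar.K)
    (Oo.ι ≫ (hψ.rep.snd xbar.toHom).left)
  have hw : (s ≫ Oo.ι) ≫ (hψ.rep.pullback xbar.toHom).hom = xbar.pt.hom := by
    calc (s ≫ Oo.ι) ≫ (hψ.rep.pullback xbar.toHom).hom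
        = (s ≫ Oo.ι) ≫ ((hψ.rep.snd xbar.toHom).left ≫ xbar.pt.hom) := by
          rw [Over.w (hψ.rep.snd xbar.toHom)]
      _ = (s ≫ (Oo.ι ≫ (hψ.rep.snd xbar.toHom).left)) ≫ xbar.pt.hom := by
          simp only [Category.assoc]
      _ = xbar.pt.hom := by rw [hs, Category.id_comp]
  let σ : xbar.pt ⟶ hψ.rep.pullback xbar.toHom := Over.homMk (s ≫ Oo.ι) hw
  have hσ : σ ≫ hψ.rep.snd xbar.toHom = 𝟙 _ := by
    apply Over.OverMorphism.ext
    change (s ≫ Oo.ι) ≫ (hψ.rep.snd xbar.toHom).left = 𝟙 _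
    rw [Category.assoc, hs]
  have hσe : σ.left (IsLocalRing.closedPoint xbar.K) = e := by
    change (s ≫ Oo.ι) (IsLocalRing.closedPoint xbar.K) = e
    rw [Scheme.Hom.comp_apply]
    have : Oo.ι (s (IsLocalRing.closedPoint xbar.K)) ∈ Set.range Oo.ι := ⟨_, rfl⟩
    rw [Scheme.Opens.range_ι] at this
    have h2 : Oo.ι (s (IsLocalRing.closedPoint xbar.K)) ∈ O := this
    rw [hOeq] at h2
    exact h2
  refine ⟨(AlgSp.yon S).map (σ ≫ c) ≫ a, ?_, ?_⟩
  · calc ((AlgSp.yon S).map (σ ≫ c) ≫ a) ≫ φ.hom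
        = (AlgSp.yon S).map σ ≫ ((AlgSp.yon S).map c ≫ (a ≫ φ.hom)) := by
          rw [Functor.map_comp]; simp only [Category.assoc]
      _ = (AlgSp.yon S).map σ ≫ ((AlgSp.yon S).map (hψ.rep.snd xbar.toHom) ≫ xbar.toHom) := by
          rw [sq.w]
      _ = (AlgSp.yon S).map (σ ≫ hψ.rep.snd xbar.toHom) ≫ xbar.toHom := by
          rw [Functor.map_comp, Category.assoc]
      _ = xbar.toHom := by rw [hσ, (AlgSp.yon S).map_id, Category.id_comp]
  · rw [Groth.Agent.Lib.Helper16.ofPt_yon_map_comp]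
    have h3 : (σ ≫ c).left (IsLocalRing.closedPoint xbar.K) = v := by
      change (σ.left ≫ c.left) (IsLocalRing.closedPoint xbar.K) = v
      rw [Scheme.Hom.comp_apply, hσe, hce]
    rw [h3, hv]

end Groth.Agent.S10216
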