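import Groth.Statements.S0169
-- import your own Groth.Agent.* helpers here
import Mathlib
import Groth.Agent.Lib.Helper12.StratQBC

set_option autoImplicit false
universe u
open CategoryTheory CategoryTheory.Limits AlgebraicGeometry Opposite
open EtPBC

namespace Groth.Agent.S0169

theorem locallyQuasiFinite_of_unramified {X Y : Scheme.{u}} (f : X ⟶ Y) [LocallyOfFiniteType f]
    [FormallyUnramified f] : LocallyQuasiFinite f := by
  rw [HasRingHomProperty.iff_appLE (P := @LocallyQuasiFinite)]
  intro U V e
  have h1 := HasRingHomProperty.appLE (P := @LocallyOfFiniteType) f inferInstance U V e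
  have h2 := HasRingHomProperty.appLE (P := @FormallyUnramified) f inferInstance U V e
  algebraize [(f.appLE U V e).hom]
  change Algebra.QuasiFinite _ _
  infer_instance


/-- For j : U -> X an etale morphism of quasi-compact quasi-separated schemes there are finitely many
immersions T_i -> X with pairwise disjoint constructible images covering X such that U x_X T_i ->
T_i is finite (etale) for each i. -/
theorem result {U X : Scheme.{u}} [CompactSpace U] [QuasiSeparatedSpace U]
    [CompactSpace X] [QuasiSeparatedSpace X] (j : U ⟶ X) [Etale j] :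
    ∃ (n : ℕ) (T : Fin n → Scheme.{u}) (g : ∀ i, T i ⟶ X),
      (∀ i, IsImmersion (g i)) ∧ (∀ i, Topology.IsConstructible (Set.range (g i))) ∧
      Pairwise (fun i i' => Disjoint (Set.range (g i)) (Set.range (g i'))) ∧
      (⋃ i, Set.range (g i)) = Set.univ ∧ ∀ i, IsFinite (pullback.snd j (g i)) := by
  classical
  haveI : LocallyQuasiFinite j := locallyQuasiFinite_of_unramified j
  have hfib : ∀ x : X, Groth.Agent.Lib.Helper12.ConsMorGen.HasQBC @IsFinite j (𝟙 X)
      (X.fromSpecResidueField x) := by
    intro x
    rw [Groth.Agent.Lib.Helper12.StratQBC.hasQBC_id_fiber_iff]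
    infer_instance
  obtain ⟨n, T, e, h1, h2, h3⟩ := Groth.Agent.Lib.Helper12.StratQBC.exists_strat_hasQBC @IsFinite
    Groth.Agent.Lib.Helper12.StratQBC.descendsLim_isFinite j (𝟙 X) hfib
  refine ⟨n, T, e, fun i => (h1 i).2.1, fun i => ?_, h2, h3, fun i => ?_⟩
  · haveI := (h1 i).2.2.1
    haveI := (h1 i).2.2.2.1
    have := (e i).isConstructible_image (s := Set.univ) Topology.IsConstructible.univ
    rwa [Set.image_univ] at this
  · exact (Groth.Agent.Lib.Helper12.StratQBC.hasQBC_id_iff j (e i)).mp (h1 i).2.2.2.2

end Groth.Agent.S0169
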