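import Groth.Statements.S0649
import Groth.Agent.Lib.Helper13.EtaleRestr

set_option autoImplicit false
open CategoryTheory CategoryTheory.Limits AlgebraicGeometry Opposite
universe u
open EtCore

namespace Groth.Agent.S0649

/-- `T ×_V V' ≅ T ×_X Y` for a cartesian square `V' = Y ×_X V`. -/
noncomputable def isoT {V' V Y X : Scheme.{u}} (j : V ⟶ X) (f : Y ⟶ X) (j' : V' ⟶ Y) (f' : V' ⟶ V)
    (h : IsPullback j' f' f j) {T : Scheme.{u}} (t : T ⟶ V) :
    pullback t f' ≅ pullback (t ≫ j) f :=
  ((IsPullback.of_hasPullback t f').flip.paste_horiz h).flip.isoPullback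

lemma isoT_nat {V' V Y X : Scheme.{u}} (j : V ⟶ X) (f : Y ⟶ X) (j' : V' ⟶ Y) (f' : V' ⟶ V)
    (h : IsPullback j' f' f j) {T T' : Scheme.{u}} (t : T ⟶ V) (t' : T' ⟶ V) (g : T ⟶ T')
    (a : pullback t f' ⟶ pullback t' f') (b : pullback (t ≫ j) f ⟶ pullback (t' ≫ j) f)
    (a1 : a ≫ pullback.fst t' f' = pullback.fst t f' ≫ g)
    (a2 : a ≫ pullback.snd t' f' = pullback.snd t f')
    (b1 : b ≫ pullback.fst (t' ≫ j) f = pullback.fst (t ≫ j) f ≫ g)
    (b2 : b ≫ pullback.snd (t' ≫ j) f = pullback.snd (t ≫ j) f) :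
    a ≫ (isoT j f j' f' h t').hom = (isoT j f j' f' h t).hom ≫ b := by
  apply pullback.hom_ext
  · simp only [Category.assoc, isoT]
    rw [IsPullback.isoPullback_hom_fst, a1, b1, IsPullback.isoPullback_hom_fst_assoc]
  · simp only [Category.assoc, isoT]
    rw [IsPullback.isoPullback_hom_snd, reassoc_of% a2, b2, IsPullback.isoPullback_hom_snd]

set_option backward.isDefEq.respectTransparency.types false in
/-- The two functors of small etale sites `V_et ⥤ Y_et` attached to a cartesian square agree:
`T ×_V V' → V' → Y` is `T ×_X Y → Y`. -/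
noncomputable def sitesIso {V' V Y X : Scheme.{u}} (j : V ⟶ X) [AlgebraicGeometry.Etale j]
    (f : Y ⟶ X) (j' : V' ⟶ Y) [AlgebraicGeometry.Etale j'] (f' : V' ⟶ V)
    (h : IsPullback j' f' f j) :
    EtCoh.bc f' ⋙ EtShriek.compEtale j' ≅ EtShriek.compEtale j ⋙ EtCoh.bc f :=
  NatIso.ofComponents (fun T =>
    MorphismProperty.Over.isoMk (isoT j f j' f' h T.hom)
      (by
        change _ ≫ pullback.snd (T.hom ≫ j) f = pullback.snd T.hom f' ≫ j'
        exact IsPullback.isoPullback_hom_snd _))
    (fun {T T'} g => by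
      apply MorphismProperty.Over.Hom.ext
      refine isoT_nat j f j' f' h T.hom T'.hom g.left ((EtCoh.bc f').map g).left
        ((EtCoh.bc f).map ((EtShriek.compEtale j).map g)).left ?_ ?_ ?_ ?_
      · exact (EtCoh.isPullback_bc_map f' g).w
      · dsimp [EtCoh.bc]
        exact pullback.lift_snd _ _ _
      · exact (EtCoh.isPullback_bc_map f ((EtShriek.compEtale j).map g)).w
      · dsimp [EtCoh.bc]
        exact pullback.lift_snd _ _ _)

/-- Extension by zero commutes with pullback, for abelian sheaves. Let f : Y → X be a morphism of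
schemes and j : V → X étale, and let V' = Y ×_X V with projections j' : V' → Y and f' : V' → V. Then
the functors j'_! ∘ f'^(-1) and f^(-1) ∘ j_! from abelian sheaves on V_ét to abelian sheaves on Y_ét
are isomorphic. Only the existence of an isomorphism of functors is asserted; the published
statement gives the canonical one. (Continuity of the composition functor of étale sites, which
always holds, is carried as an instance hypothesis.) -/
theorem result {V' V Y X : Scheme.{u}} (j : V ⟶ X) [AlgebraicGeometry.Etale j] [EtShriek.JCont j]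
    (f : Y ⟶ X) (j' : V' ⟶ Y) [AlgebraicGeometry.Etale j'] [EtShriek.JCont j'] (f' : V' ⟶ V)
    (h : IsPullback j' f' f j) :
    Nonempty (EtCoh.pull f' ⋙ EtShriek.extZero j' ≅ EtShriek.extZero j ⋙ EtCoh.pull f) := by
  have c1 : (EtCoh.bc f' ⋙ EtShriek.compEtale j').IsContinuous V.smallEtaleTopology
      Y.smallEtaleTopology :=
    Functor.isContinuous_comp _ _ _ V'.smallEtaleTopology _
  have c2 : (EtShriek.compEtale j ⋙ EtCoh.bc f).IsContinuous V.smallEtaleTopology
      Y.smallEtaleTopology :=
    Functor.isContinuous_comp _ _ _ X.smallEtaleTopology _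
  let adjA := (EtCoh.pullPushAdj f').comp (EtShriek.extZeroAdj j')
  let adjB := (EtShriek.extZeroAdj j).comp (EtCoh.pullPushAdj f)
  let iso : EtShriek.restrAlong j' ⋙ EtCoh.push f' ≅ EtCoh.push f ⋙ EtShriek.restrAlong j :=
    Functor.sheafPushforwardContinuousIso (sitesIso j f j' f' h) AddCommGrpCat.{u + 1}
      V.smallEtaleTopology Y.smallEtaleTopology
  exact ⟨(adjA.ofNatIsoRight iso).leftAdjointUniq adjB⟩

end Groth.Agent.S0649
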