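import Groth.Statements.S14631
-- import your own Groth.Agent.* helpers here

set_option autoImplicit false
open CategoryTheory AlgebraicGeometry
universe u
open EtBase

namespace Groth.Agent.S14631

/-- Let X be a quasi-separated scheme and U an étale X-scheme. Then there is a jointly surjective family
of étale U-schemes each of which is quasi-compact and quasi-separated, hence of finite presentation,
over X. (Sheaves on the small étale site are therefore determined by their values on étale X-schemes
of finite presentation; that equivalence is not stated here.) -/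
theorem result (X : Scheme.{u})
    [QuasiSeparatedSpace ↥X] (U : X.Etale) :
    ∃ (ι : Type u) (V : ι → Over U), (∀ i, QuasiCompact (V i).left.hom ∧ QuasiSeparated (V i).left.hom) ∧
      ∀ x : ↥(U.left), ∃ (i : ι) (y : ↥((V i).left.left)), (V i).hom.left.base y = x := by
  let f : U.left ⟶ X := U.hom
  have hf : Etale f := U.prop
  -- for each affine open `W` of `U.left`, the étale `X`-scheme `W`
  let E : U.left.affineOpens → X.Etale := fun W => Scheme.Etale.mk (W.1.ι ≫ f)
  let m : ∀ W : U.left.affineOpens, E W ⟶ U := fun W =>
    MorphismProperty.Over.homMk W.1.ι rfl trivial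
  refine ⟨U.left.affineOpens, fun W => Over.mk (m W), ?_, ?_⟩
  · intro W
    have hW : IsAffine (W.1 : Scheme) := W.2
    have h1 : QuasiCompact (W.1.ι ≫ f) := inferInstance
    have h2 : QuasiSeparated (W.1.ι ≫ f) := inferInstance
    exact ⟨h1, h2⟩
  · intro x
    obtain ⟨W, hW, hxW, -⟩ := AlgebraicGeometry.exists_isAffineOpen_mem_and_subset
      (X := U.left) (x := x) (U := ⊤) trivial
    refine ⟨⟨W, hW⟩, ⟨x, hxW⟩, rfl⟩

end Groth.Agent.S14631
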