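import Groth.Statements.S10855
import Mathlib
import Groth.Agent.Lib.Helper28.IdealComap

set_option autoImplicit false
universe u
open BlowUp

namespace Groth.Agent.S10855

theorem map_mem_nonZeroDivisors_of_flat {A B : Type*} [CommRing A] [CommRing B] (φ : A →+* B)
    (hφ : φ.Flat) {t : A} (ht : t ∈ nonZeroDivisors A) : φ t ∈ nonZeroDivisors B := by
  algebraize [φ]
  have hreg : IsSMulRegular B t := Module.Flat.isSMulRegular_of_nonZeroDivisors ht
  rw [mem_nonZeroDivisors_iff_right]
  intro z hz
  apply hreg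
  simp only [smul_zero]
  rw [Algebra.smul_def, mul_comm]
  exact hz

open AlgebraicGeometry CategoryTheory in
/-- Let f : X → Y be a flat morphism of schemes and 𝓘 the quasi-coherent ideal sheaf of an effective
Cartier divisor on Y (near every point generated on an affine open by one non-zero-divisor). Then
the inverse image ideal sheaf of 𝓘 on X is again the ideal of an effective Cartier divisor: the
subscheme f⁻¹(Z) is an effective Cartier divisor on X. (The published corollary also identifies this
divisor with the pullback of Z as a divisor; that clause is not included here.) -/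
theorem result {X Y : Scheme.{u}} (f : X ⟶ Y) [Flat f]
    (𝓘 : Y.IdealSheafData) (hD : BlowUp.IsEffCartierIdeal 𝓘) :
    BlowUp.IsEffCartierIdeal (𝓘.comap f) := by
  intro x
  obtain ⟨V, hxV, t, ht, hI⟩ := hD (f x)
  obtain ⟨_, ⟨W, hW, rfl⟩, hxW, hWV⟩ := X.isBasis_affineOpens.exists_subset_of_mem_open
    (show x ∈ ((f ⁻¹ᵁ V.1 : X.Opens) : Set X) from hxV) (f ⁻¹ᵁ V.1).isOpen
  have hWV' : W ≤ f ⁻¹ᵁ V.1 := hWV
  refine ⟨⟨W, hW⟩, hxW, (f.appLE V.1 W hWV').hom t, ?_, ?_⟩
  · have hflat : (f.appLE V.1 W hWV').hom.Flat :=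
      HasRingHomProperty.appLE @Flat f ‹_› V ⟨W, hW⟩ hWV'
    exact map_mem_nonZeroDivisors_of_flat _ hflat ht
  · rw [Groth.Agent.Lib.Helper28.ideal_comap_of_le 𝓘 f V ⟨W, hW⟩ hWV', hI, Ideal.map_span,
      Set.image_singleton]

end Groth.Agent.S10855
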