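import Groth.Statements.S0728
import Groth.Agent.Lib.Helper15.ClosedSh

set_option autoImplicit false
open CategoryTheory CategoryTheory.Limits AlgebraicGeometry Opposite
universe u
open EtShriek

namespace Groth.Agent.S0728


open Groth.Agent.Lib.Helper15 Groth.Agent.Lib.Helper13

set_option backward.isDefEq.respectTransparency.types false

section aux

/-- A point of a fibre product is determined by its two projections as soon as the residue field
extension along one of the two maps is trivial. -/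
lemma pullback_point_ext {A B S : Scheme.{u}} (f : A ⟶ S) (g : B ⟶ S)
    (p q : ↥(pullback f g)) (h1 : (pullback.fst f g).base p = (pullback.fst f g).base q)
    (h2 : (pullback.snd f g).base p = (pullback.snd f g).base q)
    (hb : Function.Bijective (f.residueFieldMap ((pullback.fst f g).base q))) : p = q := by
  apply (Scheme.Pullback.carrierEquiv (f := f) (g := g)).injective
  rw [Scheme.Pullback.carrierEquiv_eq_iff]
  have e : Scheme.Pullback.Triplet.ofPoint p = Scheme.Pullback.Triplet.ofPoint q :=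
    Scheme.Pullback.Triplet.ext h1 h2
  refine ⟨e, ?_⟩
  haveI hiso : IsIso (f.residueFieldMap (Scheme.Pullback.Triplet.ofPoint q).x) :=
    (ConcreteCategory.isIso_iff_bijective _).2 hb
  haveI : IsIso (pushout.inr
      ((S.residueFieldCongr (Scheme.Pullback.Triplet.ofPoint q).hx).inv ≫
        f.residueFieldMap (Scheme.Pullback.Triplet.ofPoint q).x)
      ((S.residueFieldCongr (Scheme.Pullback.Triplet.ofPoint q).hy).inv ≫
        g.residueFieldMap (Scheme.Pullback.Triplet.ofPoint q).y)) := inferInstance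
  have hinj : Function.Injective (Spec.map (pushout.inr
      ((S.residueFieldCongr (Scheme.Pullback.Triplet.ofPoint q).hx).inv ≫
        f.residueFieldMap (Scheme.Pullback.Triplet.ofPoint q).x)
      ((S.residueFieldCongr (Scheme.Pullback.Triplet.ofPoint q).hy).inv ≫
        g.residueFieldMap (Scheme.Pullback.Triplet.ofPoint q).y))).base :=
    (Scheme.Hom.homeomorph (Spec.map (pushout.inr
      ((S.residueFieldCongr (Scheme.Pullback.Triplet.ofPoint q).hx).inv ≫
        f.residueFieldMap (Scheme.Pullback.Triplet.ofPoint q).x)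
      ((S.residueFieldCongr (Scheme.Pullback.Triplet.ofPoint q).hy).inv ≫
        g.residueFieldMap (Scheme.Pullback.Triplet.ofPoint q).y)))).injective
  apply hinj
  exact Subsingleton.elim (α := PrimeSpectrum (B.residueField _)) _ _

variable {X : Scheme.{u}}

/-- Common etale refinement of two etale neighbourhoods of a point. -/
lemma exists_refinement {U W₁ W₂ : X.Etale} (g₁ : W₁ ⟶ U) (g₂ : W₂ ⟶ U)
    (w₁ : W₁.left) (w₂ : W₂.left) (h : g₁.left.base w₁ = g₂.left.base w₂) :
    ∃ (W : X.Etale) (h₁ : W ⟶ W₁) (h₂ : W ⟶ W₂) (w : W.left),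
      h₁ ≫ g₁ = h₂ ≫ g₂ ∧ h₁.left.base w = w₁ ∧ h₂.left.base w = w₂ := by
  haveI : Etale W₁.hom := W₁.prop
  obtain ⟨z, hz1, hz2⟩ := Scheme.Pullback.exists_preimage_pullback (f := g₁.left) (g := g₂.left)
    w₁ w₂ h
  have e1 : g₁.left ≫ U.hom = W₁.hom := MorphismProperty.Over.w g₁
  have e2 : g₂.left ≫ U.hom = W₂.hom := MorphismProperty.Over.w g₂
  have hw : pullback.snd g₁.left g₂.left ≫ W₂.hom = pullback.fst g₁.left g₂.left ≫ W₁.hom := by
    calc pullback.snd g₁.left g₂.left ≫ W₂.hom
        = (pullback.snd g₁.left g₂.left ≫ g₂.left) ≫ U.hom := by rw [Category.assoc, e2]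
      _ = (pullback.fst g₁.left g₂.left ≫ g₁.left) ≫ U.hom := by rw [pullback.condition]
      _ = pullback.fst g₁.left g₂.left ≫ W₁.hom := by rw [Category.assoc, e1]
  refine ⟨Scheme.Etale.mk (pullback.fst g₁.left g₂.left ≫ W₁.hom),
    MorphismProperty.Over.homMk (pullback.fst g₁.left g₂.left) rfl trivial,
    MorphismProperty.Over.homMk (pullback.snd g₁.left g₂.left) hw trivial, z, ?_, hz1, hz2⟩
  apply MorphismProperty.Over.Hom.ext
  exact pullback.condition

/-- An open subset of an etale `X`-scheme as an object of the small etale site. -/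
lemma exists_open_nbhd (U : X.Etale) (O : Set U.left) (hO : IsOpen O) :
    ∃ (V : X.Etale) (j : V ⟶ U), (∀ t : V.left, j.left.base t ∈ O) ∧
      ∀ u ∈ O, ∃ v : V.left, j.left.base v = u := by
  haveI : Etale U.hom := U.prop
  obtain ⟨V, hV⟩ : ∃ V : U.left.Opens, (V : Set U.left) = O := ⟨⟨O, hO⟩, rfl⟩
  subst hV
  refine ⟨Scheme.Etale.mk (V.ι ≫ U.hom), MorphismProperty.Over.homMk V.ι rfl trivial, ?_, ?_⟩
  · intro t
    have h : V.ι t ∈ Set.range V.ι := ⟨t, rfl⟩
    rw [Scheme.Opens.range_ι] at h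
    exact h
  · intro u hu
    have h : u ∈ Set.range V.ι := by
      rw [Scheme.Opens.range_ι]
      exact hu
    obtain ⟨v, hv⟩ := h
    exact ⟨v, hv⟩

lemma map_comp_apply (F : EtCoh.Ab X) {A B C : X.Etale} (f : A ⟶ B) (g : B ⟶ C)
    (s : F.obj.obj (op C)) :
    F.obj.map (f ≫ g).op s = F.obj.map f.op (F.obj.map g.op s) := by
  rw [op_comp, F.obj.map_comp]
  rfl

lemma comp_left_base {A B C : X.Etale} (f : A ⟶ B) (g : B ⟶ C) (t : A.left) :
    (f ≫ g).left.base t = g.left.base (f.left.base t) := rfl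

/-- A section supported in `Z'` restricts to zero along a map avoiding `Z'`. -/
lemma map_eq_zero_of_forall_not_mem (F : EtCoh.Ab X) {U' T : X.Etale} (s' : F.obj.obj (op U'))
    (Z' : Set U'.left) (hs' : EtShriek.sectSupp F U' s' ⊆ Z') (a : T ⟶ U')
    (ha : ∀ t : T.left, a.left.base t ∉ Z') : F.obj.map a.op s' = 0 := by
  refine EtGlue.eq_of_locally_ab F _ _ ?_
  intro t
  have hns : a.left.base t ∉ EtShriek.sectSupp F U' s' := fun h => ha t (hs' h)
  have hns' : ¬ ∀ (W : X.Etale) (g : W ⟶ U'), (∃ w : W.left, g.left.base w = a.left.base t) →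
      F.obj.map g.op s' ≠ 0 := hns
  push Not at hns'
  obtain ⟨W, g, ⟨w, hw⟩, h0⟩ := hns'
  obtain ⟨R, h₁, h₂, r, hc, hr1, hr2⟩ := exists_refinement a g t w hw.symm
  refine ⟨R, h₁, r, hr1, ?_⟩
  rw [← map_comp_apply, hc, map_comp_apply, h0]
  simp only [map_zero]

section square

variable {U U' : X.Etale} (φ : U' ⟶ U)

/-- The fibre square `U' ×_U U'` as an object of the small etale site. -/
noncomputable def sq : X.Etale :=
  haveI : Etale U'.hom := U'.prop
  Scheme.Etale.mk (pullback.fst φ.left φ.left ≫ U'.hom)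

noncomputable def sqFst : sq φ ⟶ U' :=
  MorphismProperty.Over.homMk (pullback.fst φ.left φ.left) rfl trivial

noncomputable def sqSnd : sq φ ⟶ U' :=
  MorphismProperty.Over.homMk (pullback.snd φ.left φ.left) (by
    show pullback.snd φ.left φ.left ≫ U'.hom = pullback.fst φ.left φ.left ≫ U'.hom
    have e : φ.left ≫ U.hom = U'.hom := MorphismProperty.Over.w φ
    calc pullback.snd φ.left φ.left ≫ U'.hom
        = (pullback.snd φ.left φ.left ≫ φ.left) ≫ U.hom := by rw [Category.assoc, e]
      _ = (pullback.fst φ.left φ.left ≫ φ.left) ≫ U.hom := by rw [pullback.condition]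
      _ = pullback.fst φ.left φ.left ≫ U'.hom := by rw [Category.assoc, e]) trivial

noncomputable def sqDiag : U' ⟶ sq φ :=
  MorphismProperty.Over.homMk (pullback.diagonal φ.left) (by
    show pullback.diagonal φ.left ≫ pullback.fst φ.left φ.left ≫ U'.hom = U'.hom
    rw [← Category.assoc, pullback.diagonal_fst, Category.id_comp]) trivial

noncomputable def sqLift {T : X.Etale} (a b : T ⟶ U') (h : a ≫ φ = b ≫ φ) : T ⟶ sq φ :=
  MorphismProperty.Over.homMk
    (pullback.lift a.left b.left (congrArg (fun m => m.left) h)) (by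
    show pullback.lift a.left b.left _ ≫ pullback.fst φ.left φ.left ≫ U'.hom = T.hom
    rw [← Category.assoc, pullback.lift_fst]
    exact MorphismProperty.Over.w a) trivial

lemma sqDiag_fst : sqDiag φ ≫ sqFst φ = 𝟙 U' := by
  apply MorphismProperty.Over.Hom.ext
  exact pullback.diagonal_fst φ.left

lemma sqDiag_snd : sqDiag φ ≫ sqSnd φ = 𝟙 U' := by
  apply MorphismProperty.Over.Hom.ext
  exact pullback.diagonal_snd φ.left

lemma sqLift_fst {T : X.Etale} (a b : T ⟶ U') (h : a ≫ φ = b ≫ φ) :
    sqLift φ a b h ≫ sqFst φ = a := by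
  apply MorphismProperty.Over.Hom.ext
  exact pullback.lift_fst _ _ _

lemma sqLift_snd {T : X.Etale} (a b : T ⟶ U') (h : a ≫ φ = b ≫ φ) :
    sqLift φ a b h ≫ sqSnd φ = b := by
  apply MorphismProperty.Over.Hom.ext
  exact pullback.lift_snd _ _ _

lemma sq_cond (p : (sq φ).left) :
    φ.left.base ((sqFst φ).left.base p) = φ.left.base ((sqSnd φ).left.base p) :=
  congrArg (fun m : pullback φ.left φ.left ⟶ U.left => m.base p) pullback.condition

/-- The two pullbacks of a section supported in `φ⁻¹ Z` to the fibre square agree. -/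
lemma sq_eq (F : EtCoh.Ab X) (Z : Set U.left) (hZ : IsClosed Z)
    (hinj : Set.InjOn φ.left.base (φ.left.base ⁻¹' Z))
    (hres : ∀ x ∈ φ.left.base ⁻¹' Z, Function.Bijective (φ.left.residueFieldMap x))
    (s' : F.obj.obj (op U')) (hs' : EtShriek.sectSupp F U' s' ⊆ φ.left.base ⁻¹' Z) :
    F.obj.map (sqFst φ).op s' = F.obj.map (sqSnd φ).op s' := by
  refine EtGlue.eq_of_locally_ab F _ _ ?_
  intro p
  have hcond := sq_cond φ p
  by_cases hz : φ.left.base ((sqFst φ).left.base p) ∈ Z
  · have hz2 : φ.left.base ((sqSnd φ).left.base p) ∈ Z := hcond ▸ hz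
    have heq : (sqFst φ).left.base p = (sqSnd φ).left.base p := hinj hz hz2 hcond
    have hq1 : (pullback.fst φ.left φ.left).base
        ((pullback.diagonal φ.left).base ((sqFst φ).left.base p)) = (sqFst φ).left.base p :=
      congrArg (fun m : U'.left ⟶ U'.left => m.base ((sqFst φ).left.base p))
        (pullback.diagonal_fst φ.left)
    have hq2 : (pullback.snd φ.left φ.left).base
        ((pullback.diagonal φ.left).base ((sqFst φ).left.base p)) = (sqFst φ).left.base p :=
      congrArg (fun m : U'.left ⟶ U'.left => m.base ((sqFst φ).left.base p))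
        (pullback.diagonal_snd φ.left)
    have hpq : p = (pullback.diagonal φ.left).base ((sqFst φ).left.base p) := by
      refine pullback_point_ext φ.left φ.left p _ hq1.symm (heq.symm.trans hq2.symm) ?_
      refine hres _ ?_
      show φ.left.base ((pullback.fst φ.left φ.left).base
        ((pullback.diagonal φ.left).base ((sqFst φ).left.base p))) ∈ Z
      rw [hq1]
      exact hz
    refine ⟨U', sqDiag φ, (sqFst φ).left.base p, hpq.symm, ?_⟩
    rw [← map_comp_apply, ← map_comp_apply, sqDiag_fst, sqDiag_snd]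
  · obtain ⟨V, j, hj1, hj2⟩ := exists_open_nbhd (sq φ)
      {p | φ.left.base ((sqFst φ).left.base p) ∉ Z}
      ((hZ.isOpen_compl.preimage φ.left.continuous).preimage (sqFst φ).left.continuous)
    obtain ⟨v, hv⟩ := hj2 p hz
    refine ⟨V, j, v, hv, ?_⟩
    rw [← map_comp_apply, ← map_comp_apply,
      map_eq_zero_of_forall_not_mem F s' _ hs' (j ≫ sqFst φ) (fun t => hj1 t),
      map_eq_zero_of_forall_not_mem F s' _ hs' (j ≫ sqSnd φ) (fun t => by
        have h1 := hj1 t
        have h2 := sq_cond φ (j.left.base t)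
        show φ.left.base ((sqSnd φ).left.base (j.left.base t)) ∉ Z
        rw [← h2]
        exact h1)]

end square

/-- Gluing a section supported in `φ⁻¹ Z` with zero outside `Z`. -/
lemma exists_glue (F : EtCoh.Ab X) {U U' : X.Etale} (φ : U' ⟶ U) (Z : Set U.left)
    (hZ : IsClosed Z) (hsurj : Set.SurjOn φ.left.base (φ.left.base ⁻¹' Z) Z)
    (s' : F.obj.obj (op U')) (hs' : EtShriek.sectSupp F U' s' ⊆ φ.left.base ⁻¹' Z)
    (hK : ∀ {T : X.Etale} (a b : T ⟶ U'), a ≫ φ = b ≫ φ →
      F.obj.map a.op s' = F.obj.map b.op s') :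
    ∃ s : F.obj.obj (op U), F.obj.map φ.op s = s' ∧ EtShriek.sectSupp F U s ⊆ Z := by
  classical
  -- the values of the compatible family
  obtain ⟨val, hv1, hv2⟩ : ∃ val : ∀ (T : X.Etale), (T ⟶ U) → F.obj.obj (op T),
      (∀ (T : X.Etale) (a : T ⟶ U'), val T (a ≫ φ) = F.obj.map a.op s') ∧
      (∀ (T : X.Etale) (f : T ⟶ U), (∀ t : T.left, f.left.base t ∉ Z) → val T f = 0) := by
    refine ⟨fun T f => if h : ∃ a : T ⟶ U', a ≫ φ = f then F.obj.map h.choose.op s' else 0,
      ?_, ?_⟩
    · intro T a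
      have h : ∃ a' : T ⟶ U', a' ≫ φ = a ≫ φ := ⟨a, rfl⟩
      beta_reduce
      rw [dif_pos h]
      exact hK _ _ h.choose_spec
    · intro T f hf
      beta_reduce
      by_cases h : ∃ a : T ⟶ U', a ≫ φ = f
      · rw [dif_pos h]
        refine map_eq_zero_of_forall_not_mem F s' _ hs' h.choose ?_
        intro t
        have h1 := hf t
        rw [← h.choose_spec] at h1
        exact h1
      · rw [dif_neg h]
  let S : Sieve U :=
    { arrows := fun T f => (∃ a : T ⟶ U', a ≫ φ = f) ∨ (∀ t : T.left, f.left.base t ∉ Z)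
      downward_closed := by
        rintro T T' f (⟨a, rfl⟩ | h) g
        · exact Or.inl ⟨g ≫ a, Category.assoc _ _ _⟩
        · exact Or.inr (fun t => h (g.left.base t)) }
  have hS : S ∈ X.smallEtaleTopology U := by
    rw [EtGlue.mem_iff]
    intro u
    by_cases hu : u ∈ Z
    · obtain ⟨u', hu', rfl⟩ := hsurj hu
      exact ⟨U', φ, u', Or.inl ⟨𝟙 _, Category.id_comp _⟩, rfl⟩
    · obtain ⟨V, j, hj1, hj2⟩ := exists_open_nbhd U Zᶜ hZ.isOpen_compl
      obtain ⟨v, hv⟩ := hj2 u hu
      exact ⟨V, j, v, Or.inr hj1, hv⟩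
  have hsh := NonAbTorsor.isSheaf_type (EtGlue.toSh F) S hS
  have hcomp : ∀ {T T' : X.Etale} (f : T ⟶ U) (g : T' ⟶ T), S f →
      val T' (g ≫ f) = F.obj.map g.op (val T f) := by
    rintro T T' f g (⟨a, rfl⟩ | h)
    · rw [← Category.assoc, hv1, hv1, map_comp_apply]
    · rw [hv2 T f h, hv2 T' (g ≫ f) (fun t => h (g.left.base t))]
      simp only [map_zero]
  obtain ⟨s, hs, -⟩ := hsh (fun T f _ => val T f) (by
    rw [Presieve.compatible_iff_sieveCompatible]
    intro T T' f g hf
    exact hcomp f g hf)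
  refine ⟨s, ?_, ?_⟩
  · have h1 := hs φ (Or.inl ⟨𝟙 _, Category.id_comp _⟩)
    have h2 := hv1 U' (𝟙 U')
    rw [Category.id_comp] at h2
    have h3 : F.obj.map (𝟙 U').op s' = s' := by
      rw [op_id, F.obj.map_id]
      rfl
    exact h1.trans (h2.trans h3)
  · intro u hu
    by_contra hnu
    obtain ⟨V, j, hj1, hj2⟩ := exists_open_nbhd U Zᶜ hZ.isOpen_compl
    obtain ⟨v, hv⟩ := hj2 u hnu
    have h1 := hs j (Or.inr hj1)
    have h2 := hv2 V j hj1
    exact hu V j ⟨v, hv⟩ (h1.trans h2)

end aux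

/-- In the case where the inverse image of Z is Z' (so that the bijection is restriction): let phi : U'
-> U be a morphism of the small etale site of X and Z a closed subset of U such that phi restricted
to the inverse image Z' of Z is a bijection onto Z inducing isomorphisms of residue fields (so Z' ->
U is a closed immersion with image Z, for the reduced structures). Then restriction along phi is a
bijection from the sections of F over U supported in Z to the sections of F over U' supported in Z'. -/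
theorem result {X : Scheme.{u}} (F : EtCoh.Ab X) {U U' : X.Etale}
    (φ : U' ⟶ U) (Z : Set ↥U.left) (hZ : IsClosed Z)
    (hbij : Set.BijOn φ.left.base (φ.left.base ⁻¹' Z) Z)
    (hres : ∀ x ∈ φ.left.base ⁻¹' Z, Function.Bijective (φ.left.residueFieldMap x)) :
    Set.BijOn (F.obj.map φ.op) {s | EtShriek.sectSupp F U s ⊆ Z}
      {s' | EtShriek.sectSupp F U' s' ⊆ φ.left.base ⁻¹' Z} := by
  refine ⟨?_, ?_, ?_⟩
  · -- restriction preserves the support condition
    intro s hs x' hx'
    by_contra hnz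
    have hns : φ.left.base x' ∉ EtShriek.sectSupp F U s := fun h => hnz (hs h)
    have hns' : ¬ ∀ (W : X.Etale) (g : W ⟶ U), (∃ w : W.left, g.left.base w = φ.left.base x') →
        F.obj.map g.op s ≠ 0 := hns
    push Not at hns'
    obtain ⟨W, g, ⟨w, hw⟩, h0⟩ := hns'
    obtain ⟨R, h₁, h₂, r, hc, hr1, hr2⟩ := exists_refinement g φ w x' hw
    refine hx' R h₂ ⟨r, hr2⟩ ?_
    rw [← map_comp_apply, ← hc, map_comp_apply, h0]
    simp only [map_zero]
  · -- injectivity
    intro s₁ hs₁ s₂ hs₂ h12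
    refine EtGlue.eq_of_locally_ab F _ _ ?_
    intro u
    by_cases hu : u ∈ Z
    · obtain ⟨u', hu', rfl⟩ := hbij.surjOn hu
      exact ⟨U', φ, u', rfl, h12⟩
    · have h1 : u ∉ EtShriek.sectSupp F U s₁ := fun h => hu (hs₁ h)
      have h1' : ¬ ∀ (W : X.Etale) (g : W ⟶ U), (∃ w : W.left, g.left.base w = u) →
          F.obj.map g.op s₁ ≠ 0 := h1
      have h2 : u ∉ EtShriek.sectSupp F U s₂ := fun h => hu (hs₂ h)
      have h2' : ¬ ∀ (W : X.Etale) (g : W ⟶ U), (∃ w : W.left, g.left.base w = u) →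
          F.obj.map g.op s₂ ≠ 0 := h2
      push Not at h1' h2'
      obtain ⟨W₁, g₁, ⟨w₁, hw₁⟩, h01⟩ := h1'
      obtain ⟨W₂, g₂, ⟨w₂, hw₂⟩, h02⟩ := h2'
      obtain ⟨R, k₁, k₂, r, hc, hr1, hr2⟩ := exists_refinement g₁ g₂ w₁ w₂ (hw₁.trans hw₂.symm)
      refine ⟨R, k₁ ≫ g₁, r, ?_, ?_⟩
      · show g₁.left.base (k₁.left.base r) = u
        rw [hr1]
        exact hw₁
      · rw [map_comp_apply, h01, hc, map_comp_apply, h02]
        simp only [map_zero]
  · -- surjectivity
    intro s' hs'
    have hK : ∀ {T : X.Etale} (a b : T ⟶ U'), a ≫ φ = b ≫ φ →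
        F.obj.map a.op s' = F.obj.map b.op s' := by
      intro T a b hab
      have h := sq_eq φ F Z hZ hbij.injOn hres s' hs'
      have h1 := congrArg (fun z => F.obj.map (sqLift φ a b hab).op z) h
      simp only [← map_comp_apply, sqLift_fst, sqLift_snd] at h1
      exact h1
    obtain ⟨s, hs1, hs2⟩ := exists_glue F φ Z hZ hbij.surjOn s' hs' hK
    exact ⟨s, hs2, hs1⟩

end Groth.Agent.S0728
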