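import Groth.Statements.S0271
import Groth.Agent.Lib.Helper27.InvEt
open Groth.Agent.Lib.Helper27

set_option autoImplicit false
universe u
open Pi1

namespace Groth.Agent.S0271

open AlgebraicGeometry CategoryTheory CategoryTheory.Limits in
/-- Let a finite group G act on a ring R, let q be a prime of R with inertia subgroup I (elements acting
trivially modulo q). Then the ring of I-invariants is etale over the ring of G-invariants at the
prime below q: some principal localization of the I-invariants at an element outside that prime is
an etale algebra over the G-invariants. -/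
theorem result (G R : Type u) [Group G] [Finite G] [CommRing R] [MulSemiringAction G R]
    (q : Ideal R) [q.IsPrime] :
    ∃ g : FixedPoints.subring R (q.inertia G),
      g ∉ q.comap (FixedPoints.subring R (q.inertia G)).subtype ∧
      Algebra.Etale (FixedPoints.subring R G) (Localization.Away g) := by
  obtain ⟨θ, hθ1, hθ2⟩ := InvEt.exists_theta (G := G) q
  have hθ : ∀ σ : G, σ ∈ q.inertia G ↔ σ • θ = θ := fun σ =>
    ⟨hθ1 σ, fun h => by_contra fun hn => hθ2 σ hn (by rw [h, sub_self]; exact q.zero_mem)⟩
  refine ⟨⟨InvEt.g0 G θ, fun h => InvEt.g0_smul (q.inertia G) θ hθ h h.2⟩, ?_,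
    InvEt.etale_away (q.inertia G) θ hθ _ rfl⟩
  intro hmem
  refine InvEt.g0_not_mem q θ ?_ (Ideal.mem_comap.mp hmem)
  intro a ha hane hmem'
  obtain ⟨σ, rfl⟩ := InvEt.mem_orb.mp ha
  have hσ : σ ∉ q.inertia G := fun h => hane ((hθ σ).mp h)
  apply hθ2 σ hσ
  have := q.neg_mem hmem'
  rwa [neg_sub] at this

end Groth.Agent.S0271
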