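import Groth.Statements.S8853
import Mathlib

set_option autoImplicit false
universe u
open CategoryTheory CategoryTheory.Limits AlgebraicGeometry TopologicalSpace
open SDiv

namespace Groth.Agent.S8853

/-- Let Z be a locally principal closed subscheme of a scheme S, with ideal sheaf 𝓘 generated by a
single section on some affine open neighbourhood of each point of its support, and let U be the open
complement of Z. Then the inclusion U ⟶ S is an affine morphism. -/
theorem result {S : Scheme.{u}} (𝓘 : S.IdealSheafData) (h : Curv2.IsLocPrincipal 𝓘) :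
    IsAffineHom (Scheme.Opens.ι 𝓘.support.compl) := by
  apply isAffineHom_of_forall_exists_isAffineOpen
  intro s
  have haff : ∀ V : S.Opens, IsAffineOpen (𝓘.support.compl ⊓ V) →
      IsAffineOpen ((Scheme.Opens.ι 𝓘.support.compl) ⁻¹ᵁ V) := by
    intro V hV
    rw [← (Scheme.Opens.ι 𝓘.support.compl).isAffineOpen_iff_of_isOpenImmersion,
      Scheme.Hom.image_preimage_eq_opensRange_inf, Scheme.Opens.opensRange_ι]
    exact hV
  by_cases hs : s ∈ 𝓘.support
  · obtain ⟨V, hsV, f, hf⟩ := h s hs
    refine ⟨V.1, hsV, V.2, haff _ ?_⟩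
    have heq : 𝓘.support.compl ⊓ V.1 = S.basicOpen f := by
      ext x
      simp only [TopologicalSpace.Opens.coe_inf, Set.mem_inter_iff, SetLike.mem_coe]
      constructor
      · rintro ⟨hx1, hx2⟩
        by_contra hxf
        apply hx1
        refine (Scheme.IdealSheafData.mem_support_iff_of_mem (I := 𝓘) (U := V) hx2).mpr ?_
        rw [Scheme.mem_zeroLocus_iff]
        intro g hg hxg
        rw [hf] at hg
        obtain ⟨c, rfl⟩ := Ideal.mem_span_singleton'.mp hg
        rw [Scheme.basicOpen_mul] at hxg
        exact hxf hxg.2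
      · intro hxf
        have hxV : x ∈ V.1 := S.basicOpen_le f hxf
        refine ⟨?_, hxV⟩
        intro hx1
        have hx2 := (Scheme.IdealSheafData.mem_support_iff_of_mem (I := 𝓘) (U := V) hxV).mp hx1
        rw [Scheme.mem_zeroLocus_iff] at hx2
        exact hx2 f (hf ▸ Ideal.mem_span_singleton_self f) hxf
    rw [heq]
    exact V.2.basicOpen f
  · obtain ⟨_, ⟨V0, hV0, rfl⟩, hsV0, -⟩ :=
      S.isBasis_affineOpens.exists_subset_of_mem_open (Set.mem_univ s) isOpen_univ
    have h1 : s ∉ S.zeroLocus (U := V0) (𝓘.ideal ⟨V0, hV0⟩) := by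
      rwa [← Scheme.IdealSheafData.mem_support_iff_of_mem (U := ⟨V0, hV0⟩) hsV0]
    rw [Scheme.mem_zeroLocus_iff] at h1
    push Not at h1
    obtain ⟨g, hg, hsg⟩ := h1
    refine ⟨S.basicOpen g, hsg, hV0.basicOpen g, haff _ ?_⟩
    have heq : 𝓘.support.compl ⊓ S.basicOpen g = S.basicOpen g := by
      rw [inf_eq_right]
      intro x hxg hx1
      have hxV : x ∈ V0 := S.basicOpen_le g hxg
      have hx2 := (Scheme.IdealSheafData.mem_support_iff_of_mem (I := 𝓘) (U := ⟨V0, hV0⟩) hxV).mp hx1
      rw [Scheme.mem_zeroLocus_iff] at hx2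
      exact hx2 g hg hxg
    rw [heq]
    exact hV0.basicOpen g

end Groth.Agent.S8853
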