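import Groth.Statements.S1564
-- import your own Groth.Agent.* helpers here
import Groth.Agent.Lib.Helper23.AmpleCurve11

set_option autoImplicit false
universe u
open CategoryTheory CategoryTheory.Limits AlgebraicGeometry
open Curves

namespace Groth.Agent.S1564

/-- Let X be a proper curve over a field k (an integral scheme of dimension 1, proper over k) with
H^0(X, O_X) of dimension 1 over k, and L an invertible O_X-module with H^0(X, L) ≠ 0. Then dim_k
H^0(X, L) ≤ deg L + 1, and if equality holds and deg L > 0 then X has genus zero, i.e. H^1(X, O_X) =
0. (This is the statement that a linear series of degree d and dimension r has r ≤ d, with equality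
for d ≥ 1 only in genus zero. The published statement does not exclude r = d = 0 in the equality
clause, where (O_X, H^0(X, O_X)) is a linear series on every such curve and the conclusion fails in
positive genus; the hypothesis 0 < deg L is therefore added to the equality clause here.) -/
theorem result (k : Type u) [Field k] (X : Scheme.{u}) [X.Over (Spec (CommRingCat.of k))]
    [IsIntegral X] [IsProper (X ↘ (Spec (CommRingCat.of k)))] (hdim : topologicalKrullDim X = 1)
    (h0 : Module.finrank k (Coh.HH X (Coh.structureModule X) 0) = 1)
    (L : X.Modules) (hL : PicF.IsInvertible L) (hs : Nontrivial (Coh.HH X L 0)) :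
    (Module.finrank k (Coh.HH X L 0) : ℤ) ≤ Curv2.deg k X L 1 + 1 ∧
      ((Module.finrank k (Coh.HH X L 0) : ℤ) = Curv2.deg k X L 1 + 1 → 0 < Curv2.deg k X L 1 →
        Curv2.genus k X = 0) := by
  obtain ⟨s, hs0⟩ := Groth.Agent.Lib.Helper23.Curve.exists_section_of_nontrivial L hs
  have hrr := Groth.Agent.Lib.Helper23.Curve.riemann_roch k hdim.le h0 hL
  have hO := Groth.Agent.Lib.Helper3.InvGen.isInvertible_structureModule X
  have hle := Groth.Agent.Lib.Helper23.AmpleCurve.finrank_h1_mulBy_le k hdim.le hO hL s hs0
  have hiso : Module.finrank k (Coh.HH X L 1) =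
      Module.finrank k (Coh.HH X (CohB1.tensorMod (Coh.structureModule X) L) 1) :=
    (Groth.Agent.Lib.Helper23.FBC.HmapEquivK k
      (Groth.Agent.Lib.Helper3.InvMonoidal.unitorL L) 1).finrank_eq.symm
  have hgen : Curv2.genus k X = Module.finrank k (Coh.HH X (Coh.structureModule X) 1) := rfl
  constructor
  · omega
  · intro heq hdeg
    have heq' : Module.finrank k (Coh.HH X (CohB1.tensorMod (Coh.structureModule X) L) 1) =
        Module.finrank k (Coh.HH X (Coh.structureModule X) 1) := by omega
    rw [hgen]
    exact Groth.Agent.Lib.Helper23.AmpleCurve.finrank_h1_structure_eq_zero k hdim.le hL hdeg s hs0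
      heq'

end Groth.Agent.S1564
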