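import Groth.Statements.S6541
-- import your own Groth.Agent.* helpers here
import Groth.Agent.Lib.Helper23.GammaFieldK
import Groth.Agent.Lib.Helper23.P1Dim
import Groth.Agent.S10839

set_option autoImplicit false
universe u
open CategoryTheory CategoryTheory.Limits AlgebraicGeometry
open Curves

namespace Groth.Agent.S6541

/-- Let X be a proper curve over the field k (proper, integral, of dimension one). If the first
cohomology of O_X vanishes and some invertible O_X-module has degree 1, then X is isomorphic to
P^1_k over k. -/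
theorem result (k : Type u) [Field k] (X : Scheme.{u}) [X.Over (Spec (CommRingCat.of k))]
    [IsIntegral X] [IsProper (X ↘ (Spec (CommRingCat.of k)))] (hdim : topologicalKrullDim X = 1)
    (h1 : Subsingleton (Coh.HH X (Coh.structureModule X) 1))
    (L : X.Modules) (hL : PicF.IsInvertible L) (hdeg : Curv2.deg k X L 1 = 1) :
    ∃ e : X ≅ CohB1.ProjSpace 1 k, e.hom ≫ CohB1.ProjSpace.toSpec 1 k = X ↘ (Spec (CommRingCat.of k)) := by
  have h0 := Groth.Agent.Lib.Helper23.GammaField.finrank_h0_eq_one k hdim.le h1 L hL hdeg
  have hg : Curv2.genus k X = 0 := by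
    unfold Curv2.genus
    exact Module.finrank_zero_of_subsingleton
  obtain ⟨r, hr1, hr2, -⟩ := Groth.Agent.Lib.Helper23.AmpleCurve.exists_closedImmersion_projSpace
    k hdim h0 hg L hL 1 one_pos (by rw [hdeg]; rfl)
  haveI := hr1
  have hle := Groth.Agent.Lib.Helper23.P1Dim.topologicalKrullDim_projSpace_one_le k
  have hge : topologicalKrullDim X ≤ topologicalKrullDim (CohB1.ProjSpace 1 k) :=
    r.isClosedEmbedding.isInducing.topologicalKrullDim_le
  have hP : topologicalKrullDim (CohB1.ProjSpace 1 k) = 1 := le_antisymm hle (hdim ▸ hge)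
  haveI : IsIntegral (CohB1.ProjSpace 1 k) := inferInstance
  haveI : IsIso r := Groth.Agent.S10839.result r (by rw [hP]; decide)
    (by rw [hP, hdim])
  exact ⟨asIso r, hr2⟩

end Groth.Agent.S6541
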