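import Groth.Statements.S0634
import Groth.Agent.Lib.Helper15.EtGlue
import Groth.Agent.Lib.Helper13.StalkConservative

set_option autoImplicit false
open CategoryTheory CategoryTheory.Limits AlgebraicGeometry Opposite
universe u
open EtCore

open Groth.Agent.Lib.Helper15.EtGlue Groth.Agent.Lib.Helper13.StalkConservative

namespace Groth.Agent.S0634


lemma lift_fac {T S V Z : Scheme.{u}} (f : T ⟶ S) (v : V ⟶ S) (y : Z ⟶ T) (l : Z ⟶ pullback v f)
    (hl : l ≫ pullback.snd v f = y) : (l ≫ pullback.fst v f) ≫ v = y ≫ f := by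
  rw [Category.assoc, pullback.condition, ← Category.assoc, hl]

lemma assoc_sq {A B C D E : Scheme.{u}} (a : A ⟶ B) (p : B ⟶ D) (q : D ⟶ E) (m : B ⟶ C)
    (n : C ⟶ E) (h : m ≫ n = p ≫ q) : (a ≫ p) ≫ q = (a ≫ m) ≫ n := by
  rw [Category.assoc, Category.assoc, h]

section

variable {T S : Scheme.{u}} (f : T ⟶ S) {Ω : Type u} [Field Ω] [IsSepClosed Ω]
  (yb : Spec (CommRingCat.of Ω) ⟶ T)

set_option backward.isDefEq.respectTransparency.types false in
/-- A lift of the geometric point `yb` to `T ×_S V` gives a lift of `yb ≫ f` to `V`. -/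
noncomputable def rho (V : S.Etale)
    (w : (Scheme.pointSmallEtale yb).fiber.obj ((EtCoh.bc f).obj V)) :
    (Scheme.pointSmallEtale (yb ≫ f)).fiber.obj V :=
  Over.homMk (w.left ≫ (pullback.fst V.hom f : ((EtCoh.bc f).obj V).left ⟶ V.left))
    (lift_fac f V.hom yb w.left (Over.w w))

set_option backward.isDefEq.respectTransparency.types false in
lemma rho_nat {V V' : S.Etale} (g : V' ⟶ V)
    (w' : (Scheme.pointSmallEtale yb).fiber.obj ((EtCoh.bc f).obj V')) :
    (Scheme.pointSmallEtale (yb ≫ f)).fiber.map g (rho f yb V' w') =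
      rho f yb V ((Scheme.pointSmallEtale yb).fiber.map ((EtCoh.bc f).map g) w') := by
  apply Over.OverMorphism.ext
  exact assoc_sq w'.left _ g.left _ _ (EtCoh.isPullback_bc_map f g).w

/-- The skyscraper presheaf pushed forward. -/
noncomputable abbrev SK (A : AddCommGrpCat.{u + 1}) : S.Etaleᵒᵖ ⥤ AddCommGrpCat.{u + 1} :=
  (EtCoh.bc f).op ⋙ (Scheme.pointSmallEtale yb).skyscraperPresheaf A

noncomputable def πK (A : AddCommGrpCat.{u + 1}) (V : S.Etale)
    (w : (Scheme.pointSmallEtale yb).fiber.obj ((EtCoh.bc f).obj V)) :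
    (SK f yb A).obj (op V) ⟶ A :=
  Pi.π (fun _ : (Scheme.pointSmallEtale yb).fiber.obj ((EtCoh.bc f).obj V) => A) w

lemma SK_map_π (A : AddCommGrpCat.{u + 1}) {V V' : S.Etale} (g : V' ⟶ V)
    (w' : (Scheme.pointSmallEtale yb).fiber.obj ((EtCoh.bc f).obj V')) :
    (SK f yb A).map g.op ≫ πK f yb A V' w' =
      πK f yb A V ((Scheme.pointSmallEtale yb).fiber.map ((EtCoh.bc f).map g) w') :=
  (Pi.map'_comp_π _ _ _).trans (Category.comp_id _)

/-- The map from `F` to the pushed-forward skyscraper with value the stalk of `F`. -/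
noncomputable def phi (F : EtCoh.Ab S) :
    F.obj ⟶ SK f yb ((Scheme.pointSmallEtale (yb ≫ f)).presheafFiber.obj F.obj) where
  app V := Pi.lift (fun w =>
    (Scheme.pointSmallEtale (yb ≫ f)).toPresheafFiber V.unop (rho f yb V.unop w) F.obj)
  naturality V V' g := by
    refine Pi.hom_ext _ _ (fun w' => ?_)
    have h1 := SK_map_π f yb ((Scheme.pointSmallEtale (yb ≫ f)).presheafFiber.obj F.obj) g.unop w'
    have h2 := (Scheme.pointSmallEtale (yb ≫ f)).toPresheafFiber_w g.unop
      (rho f yb V'.unop w') F.obj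
    rw [rho_nat] at h2
    refine (Category.assoc _ _ _).trans ?_
    refine Eq.trans ?_ (Category.assoc _ _ _).symm
    refine Eq.trans (congrArg (F.obj.map g ≫ ·) (Pi.lift_π _ _)) ?_
    refine Eq.trans h2 ?_
    refine Eq.trans (Pi.lift_π (fun w =>
      (Scheme.pointSmallEtale (yb ≫ f)).toPresheafFiber V.unop (rho f yb V.unop w) F.obj)
      ((Scheme.pointSmallEtale yb).fiber.map ((EtCoh.bc f).map g.unop) w')).symm ?_
    exact (congrArg (_ ≫ ·) h1).symm

lemma phi_π (F : EtCoh.Ab S) (V : S.Etale)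
    (w : (Scheme.pointSmallEtale yb).fiber.obj ((EtCoh.bc f).obj V)) (x : F.obj.obj (op V)) :
    πK f yb _ V w ((phi f yb F).app (op V) x) =
      (Scheme.pointSmallEtale (yb ≫ f)).toPresheafFiber V (rho f yb V w) F.obj x := by
  rw [← ConcreteCategory.comp_apply]
  exact ConcreteCategory.congr_hom (Pi.lift_π _ _) x

end

section main

variable {T S : Scheme.{u}} (f : T ⟶ S)

set_option backward.isDefEq.respectTransparency.types false in
/-- If the pullbacks of `s` and `t` agree then `s` and `t` agree on an etale neighbourhood of the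
image of any geometric point of `T`. -/
lemma exists_nbhd_of_unit_eq {Ω : Type u} [Field Ω] [IsSepClosed Ω]
    (yb : Spec (CommRingCat.of Ω) ⟶ T)
    (F : EtCoh.Ab S) (s t : EtCoh.sect F (EtCoh.top S))
    (h : ((EtCoh.pullPushAdj f).unit.app F).hom.app (op (EtCoh.top S)) s =
          ((EtCoh.pullPushAdj f).unit.app F).hom.app (op (EtCoh.top S)) t) :
    ∃ (Y : S.Etale) (g : Y ⟶ EtCoh.top S) (y : Y.left),
      F.obj.map g.op s = F.obj.map g.op t ∧ g.left.base y = f.base (yb.base default) := by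
  let A := (Scheme.pointSmallEtale (yb ≫ f)).presheafFiber.obj F.obj
  let G : EtCoh.Ab T := (Scheme.pointSmallEtale yb).skyscraperSheaf A
  let φ' : F ⟶ (EtCoh.push f).obj G := ⟨phi f yb F⟩
  let ψ := ((EtCoh.pullPushAdj f).homEquiv F G).symm φ'
  have e : (EtCoh.pullPushAdj f).unit.app F ≫ (EtCoh.push f).map ψ = φ' := by
    have e0 := (EtCoh.pullPushAdj f).homEquiv_unit (X := F) (Y := G) (f := ψ)
    exact e0.symm.trans (Equiv.apply_symm_apply _ _)
  have key : ∀ x : EtCoh.sect F (EtCoh.top S), (phi f yb F).app (op (EtCoh.top S)) x =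
      ((EtCoh.push f).map ψ).hom.app (op (EtCoh.top S))
        (((EtCoh.pullPushAdj f).unit.app F).hom.app (op (EtCoh.top S)) x) := by
    intro x
    have e2 := congrArg (fun m : F ⟶ (EtCoh.push f).obj G => m.hom.app (op (EtCoh.top S)) x) e
    exact e2.symm
  have hphi : (phi f yb F).app (op (EtCoh.top S)) s = (phi f yb F).app (op (EtCoh.top S)) t := by
    rw [key s, key t, h]
  let w₀ : (Scheme.pointSmallEtale yb).fiber.obj ((EtCoh.bc f).obj (EtCoh.top S)) :=
    Over.homMk (pullback.lift (yb ≫ f) yb (Category.comp_id _)) (pullback.lift_snd _ _ _)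
  have hg : πK f yb A (EtCoh.top S) w₀ ((phi f yb F).app (op (EtCoh.top S)) s) =
      πK f yb A (EtCoh.top S) w₀ ((phi f yb F).app (op (EtCoh.top S)) t) := by rw [hphi]
  rw [phi_π, phi_π] at hg
  rw [(Scheme.pointSmallEtale (yb ≫ f)).toPresheafFiber_eq_iff'] at hg
  obtain ⟨Y, g, y, hy, hst⟩ := hg
  refine ⟨Y, g, y.left.base (default : Spec (CommRingCat.of Ω)), hst, ?_⟩
  have h1 : y.left ≫ g.left = w₀.left ≫ pullback.fst _ _ := congrArg (fun m => m.left) hy
  have h2 : w₀.left ≫ pullback.fst (EtCoh.top S).hom f = yb ≫ f := pullback.lift_fst _ _ _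
  exact congrArg (fun m : Spec (CommRingCat.of Ω) ⟶ S => m.base default) (h1.trans h2)

end main

/-- For an abelian sheaf F on the small etale site of S and two global sections s, t there is an open W
of S such that a morphism f : T -> S has image inside W if and only if the pullbacks of s and t
along f (images under the adjunction unit, as sections of the pullback sheaf over T) coincide. -/
theorem result {S : Scheme.{u}} (F : EtCoh.Ab S) (s t : EtCoh.sect F (EtCoh.top S)) :
    ∃ W : S.Opens, ∀ (T : Scheme.{u}) (f : T ⟶ S),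
      Set.range f.base ⊆ (W : Set S) ↔
        ((EtCoh.pullPushAdj f).unit.app F).hom.app (op (EtCoh.top S)) s =
          ((EtCoh.pullPushAdj f).unit.app F).hom.app (op (EtCoh.top S)) t := by
  classical
  let Wset : Set S := {x | ∃ (V : S.Etale) (g : V ⟶ EtCoh.top S) (v : V.left),
    F.obj.map g.op s = F.obj.map g.op t ∧ g.left.base v = x}
  have hopen : IsOpen Wset := by
    rw [isOpen_iff_forall_mem_open]
    rintro x ⟨V, g, v, hst, rfl⟩
    haveI : Etale g.left := inferInstance
    refine ⟨Set.range g.left.base, ?_, g.left.isOpenMap.isOpen_range, ⟨v, rfl⟩⟩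
    rintro _ ⟨v', rfl⟩
    exact ⟨V, g, v', hst, rfl⟩
  refine ⟨⟨Wset, hopen⟩, ?_⟩
  intro T f
  constructor
  · intro hf
    refine eq_of_locally_ab ((EtCoh.pull f).obj F) (U := (EtCoh.bc f).obj (EtCoh.top S)) _ _ ?_
    intro u
    obtain ⟨V, g₀, v, hst, hv⟩ := hf ⟨(pullback.snd (EtCoh.top S).hom f :
      ((EtCoh.bc f).obj (EtCoh.top S)).left ⟶ T).base u, rfl⟩
    have sq := EtCoh.isPullback_bc_map f g₀
    have hu : (pullback.fst (EtCoh.top S).hom f : ((EtCoh.bc f).obj (EtCoh.top S)).left ⟶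
        (EtCoh.top S).left).base u = g₀.left.base v := by
      rw [hv]
      exact congrArg (fun m : pullback (EtCoh.top S).hom f ⟶ S => m.base u)
        ((Category.comp_id _).symm.trans pullback.condition)
    obtain ⟨z, hz1, -⟩ := Scheme.Pullback.exists_preimage_pullback
      (f := (pullback.fst (EtCoh.top S).hom f : ((EtCoh.bc f).obj (EtCoh.top S)).left ⟶
        (EtCoh.top S).left)) (g := g₀.left) u v hu
    refine ⟨(EtCoh.bc f).obj V, (EtCoh.bc f).map g₀, sq.isoPullback.inv z, ?_, ?_⟩
    · rw [← hz1, ← Scheme.Hom.comp_apply, IsPullback.isoPullback_inv_fst]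
      rfl
    · have e1 := ab_hom_nat ((EtCoh.pullPushAdj f).unit.app F) g₀.op s
      have e2 := ab_hom_nat ((EtCoh.pullPushAdj f).unit.app F) g₀.op t
      exact e1.symm.trans ((congrArg _ hst).trans e2)
  · intro h
    rintro _ ⟨y₀, rfl⟩
    let yb : Spec (CommRingCat.of (SeparableClosure (T.residueField y₀))) ⟶ T :=
      (Scheme.SpecToEquivOfField (SeparableClosure (T.residueField y₀)) _).2
        ⟨y₀, CommRingCat.ofHom (algebraMap (T.residueField y₀) _)⟩
    have hyb : yb.base default = y₀ := by simp [yb, Scheme.SpecToEquivOfField]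
    obtain ⟨Y, g, y, hst, hy⟩ := exists_nbhd_of_unit_eq f yb F s t h
    exact ⟨Y, g, y, hst, hy.trans (congrArg f.base hyb)⟩

end Groth.Agent.S0634
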