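import Groth.Statements.S10270
import Mathlib
import Groth.Agent.Lib.Helper17.AlgSpAff
import Groth.Agent.S9923

set_option autoImplicit false
universe u
open CategoryTheory CategoryTheory.Limits AlgebraicGeometry
open AlgSp

namespace Groth.Agent.S10270

/-- A morphism of algebraic spaces is integral if and only if it is affine and universally closed. -/
theorem result {S : Scheme.{u}} {X Y : AlgSp.Space S} (f : X ⟶ Y) :
    AlgSp.IsIntegralMor f.hom ↔ (AlgSp.IsAffineMor f.hom ∧ AlgSp.IsUnivClosedMor f.hom) := by
  constructor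
  · intro hf
    refine ⟨Groth.Agent.Lib.Helper17.AffP.isAffineMor (Q := @IsIntegralHom) hf, ?_⟩
    refine (Groth.Agent.S9923.result f).2 (fun Z hZ g P fst snd sq => ?_)
    obtain ⟨W, i, φ, sqW, hW, hi⟩ := hf hZ g
    have : IsIntegralHom i.left := hi
    exact Groth.Agent.Lib.Helper17.isClosedMap_snd_of_isPullback_yon sqW i.left.isClosedMap sq
  · rintro ⟨haff, huc⟩ Z hZ g
    obtain ⟨W, i, φ, sqW, hW⟩ := haff hZ g
    refine ⟨W, i, φ, sqW, hW, ?_⟩
    have h1 : UniversallyClosed i.left :=
      Groth.Agent.Lib.Helper17.universallyClosed_of_isPullback_yon huc sqW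
    have : IsAffine W.left := hW
    have : IsAffine Z.left := hZ
    have h2 : IsAffineHom i.left := inferInstance
    exact IsIntegralHom.iff_universallyClosed_and_isAffineHom.2 ⟨h1, h2⟩

end Groth.Agent.S10270
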