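import Groth.Statements.S10399
import Groth.Agent.Lib.Helper16.Codim0Qf
open Groth.Agent.Lib.Helper16 Groth.Agent.Lib.Helper16.QfAt Groth.Agent.Lib.Helper16.Codim0Qf

set_option autoImplicit false
universe u
open CategoryTheory CategoryTheory.Limits AlgebraicGeometry Topology TopologicalSpace
open AlgSp

namespace Groth.Agent.S10399

/-- Let f : X ⟶ Y be a morphism locally of finite type of algebraic spaces over a scheme S and y a
codimension 0 point of Y. The following are equivalent: (1) every point of |X| over y has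
codimension 0 on X; (2) f is quasi-finite at all points over y; (3) f is quasi-finite at all
codimension 0 points of X over y. Stated as (1) ⇔ (2) together with (3) ⇒ (1). -/
theorem result {S : Scheme.{u}} {X Y : AlgSp.Space S} (f : X ⟶ Y)
    (hf : AlgSp.LocP @LocallyOfFiniteType f.hom) (y : AlgSp.Points Y.obj) (hy : AlgSp.HasAt (fun U u => ringKrullDim ↥(U.presheaf.stalk u) = 0) Y.obj y) :
    ((∀ x : AlgSp.Points X.obj, AlgSp.Points.map f.hom x = y → AlgSp.HasAt (fun U u => ringKrullDim ↥(U.presheaf.stalk u) = 0) X.obj x) ↔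
        (∀ x : AlgSp.Points X.obj, AlgSp.Points.map f.hom x = y → AlgSp.HasAtMor (fun U _ h u => ∃ W : U.Opens, u ∈ W ∧ LocallyQuasiFinite (W.ι ≫ h) ∧ LocallyOfFiniteType (W.ι ≫ h)) f.hom x)) ∧
      ((∀ x : AlgSp.Points X.obj, AlgSp.Points.map f.hom x = y → AlgSp.HasAt (fun U u => ringKrullDim ↥(U.presheaf.stalk u) = 0) X.obj x → AlgSp.HasAtMor (fun U _ h u => ∃ W : U.Opens, u ∈ W ∧ LocallyQuasiFinite (W.ι ≫ h) ∧ LocallyOfFiniteType (W.ι ≫ h)) f.hom x) →
        ∀ x : AlgSp.Points X.obj, AlgSp.Points.map f.hom x = y → AlgSp.HasAt (fun U u => ringKrullDim ↥(U.presheaf.stalk u) = 0) X.obj x) := by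
  have hX := X.property
  have hY := Y.property
  have key1 : ∀ x : AlgSp.Points X.obj, AlgSp.Points.map f.hom x = y → x ∈ qfLocus f.hom →
      AlgSp.HasAt (fun U u => ringKrullDim ↥(U.presheaf.stalk u) = 0) X.obj x := by
    intro x hxy hq
    obtain ⟨U, V, a, b, h, u, ha, hb, hc, hu⟩ := exists_chart_at hX hY f.hom x
    have : LocallyOfFiniteType h.left := hf _ _ h ha hb hc
    have hq' : h.left.QuasiFiniteAt u := (mem_qfLocus_iff f.hom hf a b h ha hb hc u).1 (hu ▸ hq)
    have hv : AlgSp.Points.ofPt b (h.left u) = y := by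
      rw [ofPt_base_of_chart f.hom a b h hc u, hu, hxy]
    have hdv := SchLocus.codim_zero_of_hasAt hy b hb (h.left u) hv
    exact ⟨U, a, u, ha, hu, ringKrullDim_stalk_eq_zero_of_quasiFiniteAt h.left u hq' hdv⟩
  have key2 : ∀ x : AlgSp.Points X.obj, AlgSp.Points.map f.hom x = y →
      (∀ x' : AlgSp.Points X.obj, AlgSp.Points.map f.hom x' = y →
        AlgSp.HasAt (fun U u => ringKrullDim ↥(U.presheaf.stalk u) = 0) X.obj x') → x ∈ qfLocus f.hom := by
    intro x hxy hall
    obtain ⟨U, V, a, b, h, u, ha, hb, hc, hu⟩ := exists_chart_at hX hY f.hom x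
    have : LocallyOfFiniteType h.left := hf _ _ h ha hb hc
    have hv : AlgSp.Points.ofPt b (h.left u) = y := by
      rw [ofPt_base_of_chart f.hom a b h hc u, hu, hxy]
    rw [← hu]
    apply (mem_qfLocus_iff f.hom hf a b h ha hb hc u).2
    apply quasiFiniteAt_of_forall_codim_zero
    intro u' hu'
    have h1 : AlgSp.Points.map f.hom (AlgSp.Points.ofPt a u') = y := by
      rw [← ofPt_base_of_chart f.hom a b h hc u', hu', hv]
    exact SchLocus.codim_zero_of_hasAt (hall _ h1) a ha u' rfl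
  refine ⟨⟨fun h x hx => (mem_qfLocus_iff_hasAtMor_open f.hom hf x).1 (key2 x hx h),
    fun h x hx => key1 x hx ((mem_qfLocus_iff_hasAtMor_open f.hom hf x).2 (h x hx))⟩, ?_⟩
  intro hB x hxy
  obtain ⟨U, V, a, b, h, u, ha, hb, hc, hu⟩ := exists_chart_at hX hY f.hom x
  have : LocallyOfFiniteType h.left := hf _ _ h ha hb hc
  have hv : AlgSp.Points.ofPt b (h.left u) = y := by
    rw [ofPt_base_of_chart f.hom a b h hc u, hu, hxy]
  have hdv := SchLocus.codim_zero_of_hasAt hy b hb (h.left u) hv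
  obtain ⟨u₀, hs, hd₀⟩ := exists_specializes_codim_zero u
  have hv0 : h.left u₀ = h.left u := eq_of_specializes_of_codim_zero hdv (hs.map h.left.continuous)
  have hx₀ : AlgSp.Points.map f.hom (AlgSp.Points.ofPt a u₀) = y := by
    rw [← ofPt_base_of_chart f.hom a b h hc u₀, hv0, hv]
  have hq₀ := hB _ hx₀ ⟨U, a, u₀, ha, rfl, hd₀⟩
  have hq₀' : h.left.QuasiFiniteAt u₀ :=
    (mem_qfLocus_iff f.hom hf a b h ha hb hc u₀).1 ((mem_qfLocus_iff_hasAtMor_open f.hom hf _).2 hq₀)
  have hu0 : u = u₀ := eq_of_specializes_of_quasiFiniteAt h.left hq₀' hs hv0.symm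
  exact ⟨U, a, u, ha, hu, hu0 ▸ hd₀⟩

end Groth.Agent.S10399
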