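import Groth.Statements.S10383
import Groth.Agent.Lib.Helper16.Decent
open Groth.Agent.Lib.Helper16

set_option autoImplicit false
universe u
open CategoryTheory CategoryTheory.Limits AlgebraicGeometry Topology TopologicalSpace
open AlgSp

namespace Groth.Agent.S10383

/-- If X and Z are decent algebraic spaces over a scheme S with morphisms to an algebraic space Y, then
the fibre product X ×_Y Z is decent. -/
theorem result {S : Scheme.{u}} {X Y Z P : AlgSp.Space S} (f : X ⟶ Y) (g : Z ⟶ Y)
    (fst : P ⟶ X) (snd : P ⟶ Z) (h : IsPullback fst.hom snd.hom f.hom g.hom)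
    (hX : AlgSp.IsDecent X.obj) (hZ : AlgSp.IsDecent Z.obj) : AlgSp.IsDecent P.obj := by
  refine isDecent_of_isDecentMor fst.hom ?_ hX
  intro T F' t fst' snd' sq'
  have hpaste : IsPullback (fst' ≫ snd.hom) snd' g.hom (t ≫ f.hom) := sq'.paste_horiz h.flip
  have hrep : Representable (t ≫ f.hom) :=
    Functor.relativelyRepresentable.of_diag Y.property.diag _
  have hrep' : Representable (fst' ≫ snd.hom) :=
    MorphismProperty.of_isPullback (P := Representable) hpaste.flip hrep
  exact isDecent_of_representable (fst' ≫ snd.hom) hrep' hZ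

end Groth.Agent.S10383
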