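import Groth.Statements.S10437
import Groth.Agent.Lib.Helper16.Birat4

open Groth.Agent.Lib.Helper15 Groth.Agent.Lib.Helper16 Groth.Agent.Lib.Helper16.Birat Groth.Agent.Lib.Helper16.SchLocus

set_option autoImplicit false
universe u
open CategoryTheory CategoryTheory.Limits AlgebraicGeometry Topology TopologicalSpace
open AlgSp

namespace Groth.Agent.S10437

/-- Take decent algebraic spaces X and Y over a scheme S, each with only finitely many irreducible
components in its space of points, a birational f : X ⟶ Y, and an etale morphism V ⟶ Y from an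
affine scheme V. Then X ×_Y V is decent, the spaces of points of X ×_Y V and of V have only finitely
many irreducible components, and the projection X ×_Y V ⟶ V is birational. -/
theorem result {S : Scheme.{u}} {X Y : AlgSp.Space S} (f : X ⟶ Y)
    (hX : AlgSp.IsDecent X.obj) (hY : AlgSp.IsDecent Y.obj)
    (hXf : (irreducibleComponents (AlgSp.Points X.obj)).Finite)
    (hYf : (irreducibleComponents (AlgSp.Points Y.obj)).Finite)
    (hf : W4stk3decentspacesp2.IsBirational f.hom) {V : Over S} [IsAffine V.left] (b : (AlgSp.yon S).obj V ⟶ Y.obj)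
    (hb : AlgSp.RepWith @Etale b) {P : AlgSp.Sp S} (fst : P ⟶ X.obj) (snd : P ⟶ (AlgSp.yon S).obj V)
    (hP : IsPullback fst snd f.hom b) :
    AlgSp.IsDecent P ∧ (irreducibleComponents (AlgSp.Points P)).Finite ∧
      (irreducibleComponents (AlgSp.Points ((AlgSp.yon S).obj V))).Finite ∧ W4stk3decentspacesp2.IsBirational snd := by
  classical
  have hPalg : IsAlgSpace P :=
    isAlgSpace_of_isPullback X.property Y.property.diag (IsAlgSpace.yon_obj V) hP
  let PS : AlgSp.Space S := ⟨P, hPalg⟩
  let VS : AlgSp.Space S := ⟨(AlgSp.yon S).obj V, IsAlgSpace.yon_obj V⟩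
  have hVd : IsDecent VS.obj := isDecent_yon V
  have hPd : IsDecent P := Groth.Agent.S10383.result (X := X) (Y := Y) (Z := VS) (P := PS) f
    (ObjectProperty.homMk b) (ObjectProperty.homMk fst) (ObjectProperty.homMk snd) hP hX hVd
  have hT0X : T0Space (Points X.obj) := Groth.Agent.S10338.result X hX
  have hT0Y : T0Space (Points Y.obj) := Groth.Agent.S10338.result Y hY
  have hQX : QuasiSober (Points X.obj) := Strata.quasiSober_points_of_isDecent X.property hX
  have hQY : QuasiSober (Points Y.obj) := Strata.quasiSober_points_of_isDecent Y.property hY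
  have hQP : QuasiSober (Points P) := Strata.quasiSober_points_of_isDecent hPalg hPd
  have hQV : QuasiSober (Points ((AlgSp.yon S).obj V)) :=
    Strata.quasiSober_points_of_isDecent (IsAlgSpace.yon_obj V) hVd
  have hfst : RepWith @Etale fst := (RepWith @Etale).of_isPullback hP.flip hb
  -- generic point criteria
  have F1 : ∀ p : Points P, p ∈ genericPoints (Points P) ↔
      Points.map fst p ∈ genericPoints (Points X.obj) :=
    fun p => mem_genericPoints_iff_map_of_etale (F := PS) (G := X) hPd hX fst hfst p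
  have F2 : ∀ v : ↥V.left, Points.ofPt b v ∈ genericPoints (Points Y.obj) ↔
      closure {v} ∈ irreducibleComponents ↥V.left :=
    fun v => ofPt_mem_genericPoints_iff Y hY b hb v
  have hid : RepWith @Etale (𝟙 ((AlgSp.yon S).obj V)) := (RepWith @Etale).id_mem _
  have F3 : ∀ v : ↥V.left, Points.ofPt (𝟙 ((AlgSp.yon S).obj V)) v ∈
      genericPoints (Points ((AlgSp.yon S).obj V)) ↔ closure {v} ∈ irreducibleComponents ↥V.left :=
    fun v => ofPt_mem_genericPoints_iff VS hVd (𝟙 _) hid v
  have F4 : ∀ v : ↥V.left, Points.map b (Points.ofPt (𝟙 ((AlgSp.yon S).obj V)) v) = Points.ofPt b v := by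
    intro v
    rw [Points.map_ofPt, Category.id_comp]
  have hcomm : ∀ p : Points P, Points.map b (Points.map snd p) = Points.map f.hom (Points.map fst p) := by
    intro p
    rw [← Points.map_comp, ← Points.map_comp, hP.w]
  -- the scheme model and its base change
  obtain ⟨U₀, V₀, a₀, b₀, g₀, ha₀, hb₀, hc₀, hgX, hgY⟩ := exists_scheme_model f hf
  obtain ⟨hUf, hVf, hbij, hiso⟩ := model_props f hX hY hXf hYf hf a₀ b₀ g₀ ha₀ hb₀ hc₀ hgX
  obtain ⟨V', P', j, c, π₁, π₂, a', hj, hc, sq2l, sq1, sqA, ha'2, ha'⟩ :=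
    exists_model_baseChange f a₀ b₀ g₀ ha₀ hb₀ hc₀ b hb fst snd hP
  have hS : ∀ v' : ↥V'.left, closure {c.left v'} ∈ irreducibleComponents ↥V₀.left →
      IsIso (pullback.snd g₀.left (V₀.left.fromSpecStalk (c.left v'))) :=
    fun v' h => Groth.Agent.Lib.Helper11.Birat.isIso_snd_fromSpecStalk g₀.left hbij hiso _ h
  have hea₀ := isOpenEmbedding_ofPt a₀ ha₀
  have M1 : ∀ p ∈ genericPoints (Points P), ∃ p' : ↥P'.left, Points.ofPt a' p' = p ∧
      closure {c.left (π₂.left p')} ∈ irreducibleComponents ↥V₀.left := by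
    intro p hp
    have hx := (F1 p).1 hp
    obtain ⟨u₀, hu₀⟩ := hgX hx
    obtain ⟨p', hp'1, hp'2⟩ := exists_point_of_isPullback_yon sqA p u₀ hu₀.symm
    refine ⟨p', hp'1, ?_⟩
    have hu₀g : closure {u₀} ∈ irreducibleComponents ↥U₀.left := by
      refine (mem_genericPoints_iff_of_isOpenEmbedding hea₀ u₀).2 ?_
      rw [hu₀]
      exact hx
    have h1 : closure {g₀.left u₀} ∈ irreducibleComponents ↥V₀.left := hbij.mapsTo hu₀g
    have h2 : c.left (π₂.left p') = g₀.left (π₁.left p') := by
      rw [← Scheme.Hom.comp_apply, ← Scheme.Hom.comp_apply, sq2l.w]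
    rw [h2, hp'2]
    exact h1
  have hsndp : ∀ p' : ↥P'.left, Points.map snd (Points.ofPt a' p') =
      Points.ofPt (𝟙 ((AlgSp.yon S).obj V)) (j.left (π₂.left p')) := by
    intro p'
    rw [Points.map_ofPt, ha'2, ofPt_yon_map_comp, ofPt_yon_map_eq]
  -- bijectivity on generic points
  have hmaps : Set.MapsTo (Points.map snd) (genericPoints (Points P))
      (genericPoints (Points ((AlgSp.yon S).obj V))) := by
    intro p hp
    obtain ⟨v, hv⟩ := exists_ofPt_id_eq (Points.map snd p)
    rw [← hv, F3, ← F2, ← F4, hv, hcomm]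
    exact hf.bijOn.mapsTo ((F1 p).1 hp)
  have hinj : Set.InjOn (Points.map snd) (genericPoints (Points P)) := by
    intro p₁ hp₁ p₂ hp₂ h
    obtain ⟨p₁', rfl, hg₁⟩ := M1 p₁ hp₁
    obtain ⟨p₂', rfl, -⟩ := M1 p₂ hp₂
    rw [hsndp, hsndp] at h
    have h3 : π₂.left p₂' = π₂.left p₁' :=
      (j.left.isOpenEmbedding.injective (ofPt_id_injective V h)).symm
    rw [eq_of_isPullback_of_isIso sq2l (π₂.left p₁') (hS _ hg₁) p₁' p₂' rfl h3]
  have hsurj : Set.SurjOn (Points.map snd) (genericPoints (Points P))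
      (genericPoints (Points ((AlgSp.yon S).obj V))) := by
    intro y hy
    obtain ⟨v, rfl⟩ := exists_ofPt_id_eq y
    have hvY : Points.ofPt b v ∈ genericPoints (Points Y.obj) := (F2 v).2 ((F3 v).1 hy)
    obtain ⟨x, hx, hxy⟩ := hf.bijOn.surjOn hvY
    obtain ⟨p, hp1, hp2⟩ := exists_point_of_isPullback hP x (Points.ofPt (𝟙 ((AlgSp.yon S).obj V)) v)
      (by rw [hxy, F4])
    refine ⟨p, (F1 p).2 ?_, hp2⟩
    rw [hp1]
    exact hx
  -- finiteness
  have hgenY : (genericPoints (Points Y.obj)).Finite := genericPoints.finite hYf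
  have hfibre : ∀ y ∈ genericPoints (Points Y.obj), (Points.ofPt b ⁻¹' {y}).Finite := by
    intro y _
    obtain ⟨q, hq, -, hqc⟩ := hY y
    rw [← hq]
    exact finite_fibre_of_quasiCompact_fieldPt q hqc b hb
  have hgenVl : {v : ↥V.left | closure {v} ∈ irreducibleComponents ↥V.left}.Finite := by
    refine (hgenY.preimage' hfibre).subset ?_
    intro v hv
    exact (F2 v).2 hv
  have hgenV : (genericPoints (Points ((AlgSp.yon S).obj V))).Finite := by
    refine (hgenVl.image (Points.ofPt (𝟙 ((AlgSp.yon S).obj V)))).subset ?_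
    intro y hy
    obtain ⟨v, rfl⟩ := exists_ofPt_id_eq y
    exact ⟨v, (F3 v).1 hy, rfl⟩
  have hgenP : (genericPoints (Points P)).Finite := Set.Finite.of_injOn hmaps hinj hgenV
  refine ⟨hPd, finite_irreducibleComponents_of_finite_genericPoints hgenP,
    finite_irreducibleComponents_of_finite_genericPoints hgenV, ⟨⟨hmaps, hinj, hsurj⟩, ?_⟩⟩
  intro p hp
  obtain ⟨p', hp', hg'⟩ := M1 p hp
  exact ⟨P', V', a', (AlgSp.yon S).map j, π₂, p', ha', (repWith_yon_map_iff _ _).2 hj, ha'2, hp',
    isIso_stalkMap_of_isPullback sq2l p' (hS _ hg')⟩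

end Groth.Agent.S10437
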