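import Groth.Statements.S2347
import Groth.Agent.Lib.Helper12.NormChar
-- import your own Groth.Agent.* helpers here

set_option autoImplicit false
universe u
open CategoryTheory CategoryTheory.Limits AlgebraicGeometry
open EGA2

namespace Groth.Agent.S2347

open Groth.Agent.Lib.Helper12 Function TopologicalSpace

theorem bijective_of_section (A B K : Type*) [CommRing A] [IsDomain A] [IsIntegrallyClosed A]
    [CommRing B] [IsDomain B] [Algebra A B] [Algebra.IsIntegral A B] [CommRing K] [Algebra A K]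
    [IsFractionRing A K] (σ : B →+* K) (hσ : ∀ a, σ (algebraMap A B a) = algebraMap A K a) :
    Bijective (algebraMap A B) := by
  have hinjA : Injective (algebraMap A B) := fun a a' h => by
    apply IsFractionRing.injective A K
    rw [← hσ, ← hσ, h]
  have hσinj : Injective σ := by
    rw [RingHom.injective_iff_ker_eq_bot]
    apply Ideal.eq_bot_of_comap_eq_bot (R := A)
    ext a
    simp only [Ideal.mem_comap, RingHom.mem_ker, hσ, Ideal.mem_bot]
    exact map_eq_zero_iff _ (IsFractionRing.injective A K)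
  refine ⟨hinjA, fun b => ?_⟩
  have hb : IsIntegral A (σ b) := by
    obtain ⟨p, hp, hpb⟩ := Algebra.IsIntegral.isIntegral (R := A) b
    refine ⟨p, hp, ?_⟩
    have h3 := Polynomial.hom_eval₂ p (algebraMap A B) σ b
    rw [hpb, map_zero] at h3
    have h4 : σ.comp (algebraMap A B) = algebraMap A K := RingHom.ext hσ
    rw [h4] at h3
    exact h3.symm
  obtain ⟨a, ha⟩ := IsIntegrallyClosed.algebraMap_eq_of_integral hb
  exact ⟨a, hσinj (by rw [hσ, ha])⟩

theorem isIso_of_forall_isIso_app {X X' : Scheme.{u}} (g : X' ⟶ X) [IsAffineHom g]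
    (h : ∀ V : X.Opens, IsAffineOpen V → IsIso (g.app V)) : IsIso g := by
  rw [← MorphismProperty.isomorphisms.iff,
    HasAffineProperty.iff_of_iSup_eq_top (P := MorphismProperty.isomorphisms Scheme)
      (fun U : X.affineOpens => U) (iSup_affineOpens_eq_top X)]
  intro U
  refine ⟨U.2.preimage g, ?_⟩
  rw [morphismRestrict_appTop]
  have key : ∀ W : X.Opens, W = U.1 → IsIso (g.app W) := by
    rintro W rfl; exact h _ U.2
  exact @IsIso.comp_isIso _ _ _ _ _ _ _ (key _ U.1.ι_image_top)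
    (NormChar.isIso_presheaf_map_eqToHom _)

theorem isFractionRing_stalk {X : Scheme.{u}} [IsIntegral X] {V : X.Opens} (hV : IsAffineOpen V)
    (y : X) (hy : y = genericPoint X) (hyV : y ∈ V) :
    @IsFractionRing Γ(X, V) _ (X.presheaf.stalk y) _ (X.presheaf.germ V y hyV).hom.toAlgebra := by
  subst hy
  haveI : Nonempty V := ⟨⟨_, hyV⟩⟩
  exact functionField_isFractionRing_of_isAffineOpen X V hV

theorem isFractionRing_stalk_open {X : Scheme.{u}} [IsIntegral X] (U : X.Opens)
    (j : U.toScheme ⟶ X) (hj : j = U.ι) (x : U.toScheme) (hx : x.1 = genericPoint X)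
    {V : X.Opens} (hV : IsAffineOpen V) (hjV : j x ∈ V) :
    @IsFractionRing Γ(X, V) _ (U.toScheme.presheaf.stalk x) _
      (X.presheaf.germ V (j x) hjV ≫ j.stalkMap x).hom.toAlgebra := by
  subst hj
  letI algF : Algebra Γ(X, V) (X.presheaf.stalk (U.ι x)) :=
    (X.presheaf.germ V (U.ι x) hjV).hom.toAlgebra
  haveI : IsFractionRing Γ(X, V) (X.presheaf.stalk (U.ι x)) :=
    isFractionRing_stalk hV (U.ι x) hx hjV
  letI algK : Algebra Γ(X, V) (U.toScheme.presheaf.stalk x) :=
    (X.presheaf.germ V (U.ι x) hjV ≫ U.ι.stalkMap x).hom.toAlgebra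
  let e : X.presheaf.stalk (U.ι x) ≃ₐ[Γ(X, V)] U.toScheme.presheaf.stalk x :=
    AlgEquiv.ofRingEquiv (f := (asIso (U.ι.stalkMap x)).commRingCatIsoToRingEquiv) (fun a => rfl)
  exact IsLocalization.isLocalization_of_algEquiv (nonZeroDivisors Γ(X, V)) e

/-- Let X be an integral normal scheme, X' an integral scheme and g : X' → X an integral morphism. If g
has a rational section (a morphism s from a dense open U of X to X' with g ∘ s the inclusion of U),
then g is an isomorphism. -/
theorem result {X X' : Scheme.{u}} [IsIntegral X] [IsIntegral X'] (hX : Pi1.IsNormalScheme X)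
    (g : X' ⟶ X) [IsIntegralHom g] (U : X.Opens) (hU : Dense (U : Set X)) (s : (U : Scheme.{u}) ⟶ X') (hs : s ≫ g = U.ι) :
    IsIso g := by
  apply isIso_of_forall_isIso_app g
  intro V hV
  by_cases hne : (V : Set X).Nonempty
  · have hξU : genericPoint X ∈ U := NormAff.genericPoint_mem X hU.nonempty
    have hξV : genericPoint X ∈ V := NormAff.genericPoint_mem X hne
    let ξU : U.toScheme := ⟨genericPoint X, hξU⟩
    have hjV : (s ≫ g) ξU ∈ V := by
      rw [hs]; exact hξV
    have hmemV : s ξU ∈ g ⁻¹ᵁ V := hjV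
    haveI : Nonempty V := ⟨⟨_, hξV⟩⟩
    haveI : Nonempty (g ⁻¹ᵁ V : X'.Opens) := ⟨⟨_, hmemV⟩⟩
    letI algAB : Algebra Γ(X, V) Γ(X', g ⁻¹ᵁ V) := (g.app V).hom.toAlgebra
    haveI : Algebra.IsIntegral Γ(X, V) Γ(X', g ⁻¹ᵁ V) :=
      ⟨IsIntegralHom.isIntegral_app g V hV⟩
    haveI : IsIntegrallyClosed Γ(X, V) :=
      NormChar.isIntegrallyClosed_sections (fun y _ => (hX y).2) hV
    letI algAK : Algebra Γ(X, V) (U.toScheme.presheaf.stalk ξU) :=
      (X.presheaf.germ V ((s ≫ g) ξU) hjV ≫ (s ≫ g).stalkMap ξU).hom.toAlgebra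
    haveI : IsFractionRing Γ(X, V) (U.toScheme.presheaf.stalk ξU) :=
      isFractionRing_stalk_open U (s ≫ g) hs ξU rfl hV hjV
    have hstar : g.app V ≫ X'.presheaf.germ (g ⁻¹ᵁ V) (s ξU) hmemV ≫ s.stalkMap ξU =
        X.presheaf.germ V ((s ≫ g) ξU) hjV ≫ (s ≫ g).stalkMap ξU := by
      rw [← Scheme.Hom.germ_stalkMap_assoc, Scheme.Hom.stalkMap_comp]
      rfl
    have hbij := bijective_of_section Γ(X, V) Γ(X', g ⁻¹ᵁ V) (U.toScheme.presheaf.stalk ξU)
      (X'.presheaf.germ (g ⁻¹ᵁ V) (s ξU) hmemV ≫ s.stalkMap ξU).hom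
      (fun a => congr($(hstar).hom a))
    exact (ConcreteCategory.isIso_iff_bijective _).2 hbij
  · have h1 : ¬ ((g ⁻¹ᵁ V : X'.Opens) : Set X').Nonempty := by
      rintro ⟨y, hy⟩
      exact hne ⟨g y, hy⟩
    haveI := NormChar.subsingleton_sections _ hne
    haveI := NormChar.subsingleton_sections _ h1
    rw [ConcreteCategory.isIso_iff_bijective]
    exact ⟨Function.injective_of_subsingleton _, fun b => ⟨0, Subsingleton.elim _ _⟩⟩

end Groth.Agent.S2347
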