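import Groth.Statements.S4808
import Groth.Agent.S2347
-- import your own Groth.Agent.* helpers here

set_option autoImplicit false
universe u
open CategoryTheory AlgebraicGeometry
open Lim8

namespace Groth.Agent.S4808

open Groth.Agent.Lib.Helper12 Function TopologicalSpace

theorem isFractionRing_stalk_of_iso {Y' Y : Scheme.{u}} [IsIntegral Y] (u : Y' ⟶ Y) (y' : Y')
    (hy' : u y' = genericPoint Y) (hiso : IsIso (u.stalkMap y'))
    {V : Y.Opens} (hV : IsAffineOpen V) (hyV : u y' ∈ V) :
    @IsFractionRing Γ(Y, V) _ (Y'.presheaf.stalk y') _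
      (Y.presheaf.germ V (u y') hyV ≫ u.stalkMap y').hom.toAlgebra := by
  letI algF : Algebra Γ(Y, V) (Y.presheaf.stalk (u y')) :=
    (Y.presheaf.germ V (u y') hyV).hom.toAlgebra
  haveI : IsFractionRing Γ(Y, V) (Y.presheaf.stalk (u y')) :=
    Groth.Agent.S2347.isFractionRing_stalk hV (u y') hy' hyV
  letI algK : Algebra Γ(Y, V) (Y'.presheaf.stalk y') :=
    (Y.presheaf.germ V (u y') hyV ≫ u.stalkMap y').hom.toAlgebra
  let e : Y.presheaf.stalk (u y') ≃ₐ[Γ(Y, V)] Y'.presheaf.stalk y' :=
    AlgEquiv.ofRingEquiv (f := (asIso (u.stalkMap y')).commRingCatIsoToRingEquiv) (fun a => rfl)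
  exact IsLocalization.isLocalization_of_algEquiv (nonZeroDivisors Γ(Y, V)) e

/-- Let Y' and Y be integral schemes, Y normal (every local ring of Y is integrally closed), and u : Y'
⟶ Y a finite morphism which is birational: u maps the generic point of Y' to the generic point of Y
and the stalk map of u at the generic point of Y', which is the induced homomorphism of function
fields, is an isomorphism. Then u is an isomorphism. -/
theorem result {Y' Y : Scheme.{u}} [IsIntegral Y'] [IsIntegral Y]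
    (hN : ∀ y : Y, IsIntegrallyClosed (Y.presheaf.stalk y)) (u : Y' ⟶ Y) [IsFinite u]
    (hgen : u (genericPoint Y') = genericPoint Y)
    (hbir : IsIso (u.stalkMap (genericPoint Y'))) : IsIso u := by
  apply Groth.Agent.S2347.isIso_of_forall_isIso_app u
  intro V hV
  by_cases hne : (V : Set Y).Nonempty
  · have hξV : genericPoint Y ∈ V := NormAff.genericPoint_mem Y hne
    have hjV : u (genericPoint Y') ∈ V := by rw [hgen]; exact hξV
    have hmemV : genericPoint Y' ∈ u ⁻¹ᵁ V := hjV
    haveI : Nonempty V := ⟨⟨_, hξV⟩⟩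
    haveI : Nonempty (u ⁻¹ᵁ V : Y'.Opens) := ⟨⟨_, hmemV⟩⟩
    letI algAB : Algebra Γ(Y, V) Γ(Y', u ⁻¹ᵁ V) := (u.app V).hom.toAlgebra
    haveI : Algebra.IsIntegral Γ(Y, V) Γ(Y', u ⁻¹ᵁ V) :=
      ⟨IsIntegralHom.isIntegral_app u V hV⟩
    haveI : IsIntegrallyClosed Γ(Y, V) :=
      NormChar.isIntegrallyClosed_sections (fun y _ => hN y) hV
    letI algAK : Algebra Γ(Y, V) (Y'.presheaf.stalk (genericPoint Y')) :=
      (Y.presheaf.germ V (u (genericPoint Y')) hjV ≫ u.stalkMap (genericPoint Y')).hom.toAlgebra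
    haveI : IsFractionRing Γ(Y, V) (Y'.presheaf.stalk (genericPoint Y')) :=
      isFractionRing_stalk_of_iso u (genericPoint Y') hgen hbir hV hjV
    have hstar : u.app V ≫ Y'.presheaf.germ (u ⁻¹ᵁ V) (genericPoint Y') hmemV =
        Y.presheaf.germ V (u (genericPoint Y')) hjV ≫ u.stalkMap (genericPoint Y') :=
      (Scheme.Hom.germ_stalkMap u V (genericPoint Y') hjV).symm
    have hbij := Groth.Agent.S2347.bijective_of_section Γ(Y, V) Γ(Y', u ⁻¹ᵁ V)
      (Y'.presheaf.stalk (genericPoint Y'))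
      (Y'.presheaf.germ (u ⁻¹ᵁ V) (genericPoint Y') hmemV).hom
      (fun a => congr($(hstar).hom a))
    exact (ConcreteCategory.isIso_iff_bijective _).2 hbij
  · have h1 : ¬ ((u ⁻¹ᵁ V : Y'.Opens) : Set Y').Nonempty := by
      rintro ⟨y, hy⟩
      exact hne ⟨u y, hy⟩
    haveI := NormChar.subsingleton_sections _ hne
    haveI := NormChar.subsingleton_sections _ h1
    rw [ConcreteCategory.isIso_iff_bijective]
    exact ⟨Function.injective_of_subsingleton _, fun b => ⟨0, Subsingleton.elim _ _⟩⟩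

end Groth.Agent.S4808
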