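import Groth.Statements.S9932
import Groth.Agent.Lib.Helper16.ImmDesc5
open Groth.Agent.Lib.Helper16

set_option autoImplicit false
universe u
open CategoryTheory CategoryTheory.Limits AlgebraicGeometry
open AlgSp

namespace Groth.Agent.S9932

/-- (4) ⇒ (1): for P = closed immersion, open immersion or immersion, being representable with P
descends along a surjective etale base change from a scheme. -/
theorem result {S : Scheme.{u}} (P : MorphismProperty Scheme.{u})
    (hP : P = @IsClosedImmersion ∨ P = @IsOpenImmersion ∨ P = @IsImmersion) {X Y : AlgSp.Space S} (f : X ⟶ Y)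
    (V : Over S) (p : (AlgSp.yon S).obj V ⟶ Y.obj) (hp : AlgSp.RepWith @Etale p) (hps : AlgSp.RepWith @Surjective p)
    {P₀ : AlgSp.Sp S} (fst : P₀ ⟶ X.obj) (snd : P₀ ⟶ (AlgSp.yon S).obj V) (sq : IsPullback fst snd f.hom p)
    (h : AlgSp.RepWith P snd) : AlgSp.RepWith P f.hom := by
  have hP₀ : IsAlgSpace P₀ := isAlgSpace_of_isPullback X.property Y.property.diag (IsAlgSpace.yon_obj V) sq
  rcases hP with rfl | rfl | rfl
  · have := Groth.Agent.S0083.result.{u}
    exact repWith_of_fpqcRefines_of_le_isAffineHom
      (fun _ _ f hf => by have : IsClosedImmersion f := hf; infer_instance)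
      Y.property (fun _ : PUnit.{u + 1} => (yon S).obj V) (fun _ => p) (fpqcRefines_chart Y.property p hp hps)
      X.property f.hom (fun _ => P₀) (fun _ => snd) (fun _ => fst) (fun _ => sq) (fun _ => h)
  · refine ((isLocalOnBase_fpqc_repWith_isOpenImmersion (S := S)) (fun _ : PUnit.{u + 1} => (yon S).obj V)
      (fun _ => p) Y.property (fun _ => IsAlgSpace.yon_obj V) ⟨fun _ => ?_, fpqcRefines_chart Y.property p hp hps⟩
      f.hom X.property (fun _ => P₀) (fun _ => snd) (fun _ => fst) (fun _ => hP₀) (fun _ => sq)).2 (fun _ => h)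
    exact locP_of_repWith_etale etLocalST_flat (IsAlgSpace.yon_obj V) Y.property p hp
  · exact ImmDesc.repWith_isImmersion_of_fppfRefines Y.property (fun _ : PUnit.{u + 1} => (yon S).obj V)
      (fun _ => p) (ImmDesc.fppfRefines_chart Y.property p hp hps) X.property f.hom (fun _ => P₀) (fun _ => snd)
      (fun _ => fst) (fun _ => sq) (fun _ => h)

end Groth.Agent.S9932
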