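import Groth.Statements.S10192
import Groth.Agent.Lib.Helper16.InvSub
import Groth.Agent.Lib.Helper15.RedInd
import Groth.Agent.Lib.Helper22.SmoothRed
import Groth.Agent.S9932
open Groth.Agent.Lib.Helper16

set_option autoImplicit false
universe u
open CategoryTheory CategoryTheory.Limits AlgebraicGeometry Topology TopologicalSpace
open AlgSp

namespace Groth.Agent.S10192

/-- For an algebraic space X over a scheme S and a closed subset T of |X| there is a reduced closed
subspace Z of X with |Z| = T, that is, an algebraic space Z with a morphism Z ⟶ X representable by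
closed immersions whose image in |X| is T and such that Z is reduced. (Only existence is asserted;
uniqueness is not part of this row.) -/
theorem result {S : Scheme.{u}} (X : AlgSp.Space S) (T : Set (AlgSp.Points X.obj))
    (hT : IsClosed T) :
    ∃ (Z : AlgSp.Space S) (i : Z ⟶ X), AlgSp.IsRedInduced T i.hom := by
  obtain ⟨U, p, hpe, hps⟩ := X.property.atlas
  have hrep := X.property.representable_from_yon p
  obtain ⟨R, s, fstR, sqR⟩ := hrep p
  obtain ⟨t, rfl⟩ := (yon S).map_surjective fstR
  have hse : Etale s.left := hpe.property _ _ _ sqR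
  have hte : Etale t.left := hpe.property _ _ _ sqR.flip
  -- the closed subset of the chart
  have hTU : IsClosed (Points.ofPt p ⁻¹' T) := hT.preimage (Points.continuous_ofPt p)
  obtain ⟨Y, i₀, hi₀, hYred, hrange⟩ :=
    Groth.Agent.Lib.Helper15.RI.exists_reduced_immersion_of_isLocallyClosed U.left _ hTU.isLocallyClosed
  have hi₀c : IsClosedImmersion i₀ := by
    have : IsPreimmersion i₀ := inferInstance
    exact .of_isPreimmersion _ (by rw [hrange]; exact hTU)
  have hmono : Mono (Over.homMk i₀ rfl : Over.mk (i₀ ≫ U.hom) ⟶ U) :=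
    (Over.forget S).mono_of_mono_map (inferInstanceAs (Mono i₀))
  -- the reduced scheme `t⁻¹(Y)` maps into `Y` through `s`
  have hWred : IsReduced (pullback t.left i₀) := by
    have : Smooth (pullback.snd t.left i₀) := inferInstance
    exact Groth.Agent.Lib.Helper22.SmoothRed.isReduced_of_smooth (pullback.snd t.left i₀)
  have hst : ∀ r : ↥R.left, Points.ofPt p (s.left r) = Points.ofPt p (t.left r) := fun r => by
    rw [← ofPt_yon_map_comp, ← ofPt_yon_map_comp, sqR.w]
  have hg : Set.range (pullback.fst t.left i₀ ≫ s.left) ⊆ Set.range i₀ := by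
    rintro _ ⟨w, rfl⟩
    rw [hrange]
    show Points.ofPt p (s.left (pullback.fst t.left i₀ w)) ∈ T
    rw [hst]
    have h1 : t.left (pullback.fst t.left i₀ w) ∈ Set.range i₀ := by
      refine ⟨pullback.snd t.left i₀ w, ?_⟩
      rw [← Scheme.Hom.comp_apply, ← pullback.condition, Scheme.Hom.comp_apply]
    rw [hrange] at h1
    exact h1
  obtain ⟨g', hg'⟩ := Groth.Agent.Lib.Helper15.RI.exists_lift_of_isReduced_of_range_subset_immersion
    (pullback.fst t.left i₀ ≫ s.left) i₀ hg
  obtain ⟨Z, i, q, hZ, hi, sq⟩ := InvSub.exists_subspace' X.property s t p hpe hps sqR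
    (Over.homMk i₀ rfl : Over.mk (i₀ ≫ U.hom) ⟶ U) (by
      intro T' r x hrx
      have h1 : r.left ≫ t.left = x.left ≫ i₀ := congrArg CommaMorphism.left hrx
      have h2 : (pullback.lift r.left x.left h1 ≫ g') ≫ i₀ = r.left ≫ s.left := by
        rw [Category.assoc, hg', ← Category.assoc, pullback.lift_fst]
      refine ⟨Over.homMk (pullback.lift r.left x.left h1 ≫ g') ?_, ?_⟩
      · simp only [Over.mk_hom]
        rw [← Category.assoc, h2, Category.assoc, Over.w s, Over.w r]
      · ext1
        exact h2)
  have hqe : RepWith @Etale q := by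
    have := repWith_isStableUnderBaseChange (S := S) @Etale
    exact MorphismProperty.of_isPullback sq.flip hpe
  have hqs : RepWith @Surjective q := by
    have := repWith_isStableUnderBaseChange (S := S) @Surjective
    exact MorphismProperty.of_isPullback sq.flip hps
  refine ⟨⟨Z, hZ⟩, ObjectProperty.homMk i, ?_, ?_, ⟨_, q, hqe, hqs, hYred⟩⟩
  · exact Groth.Agent.S9932.result @IsClosedImmersion (Or.inl rfl) (X := ⟨Z, hZ⟩) (ObjectProperty.homMk i) U p
      hpe hps q _ sq ((repWith_yon_map_iff @IsClosedImmersion _).2 hi₀c)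
  · show Set.range (Points.map i) = T
    ext x
    constructor
    · rintro ⟨z, rfl⟩
      obtain ⟨y, rfl⟩ := ofPt_surjective_of_surjective q hqs z
      rw [Points.map_ofPt, sq.w, ofPt_yon_map_comp]
      have h1 : i₀ y ∈ Set.range i₀ := ⟨y, rfl⟩
      rw [hrange] at h1
      exact h1
    · intro hx
      obtain ⟨u, rfl⟩ := ofPt_surjective_of_surjective p hps x
      have h1 : u ∈ Set.range i₀ := by rw [hrange]; exact hx
      obtain ⟨y, rfl⟩ := h1
      refine ⟨Points.ofPt q y, ?_⟩
      rw [Points.map_ofPt, sq.w, ofPt_yon_map_comp]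
      rfl

end Groth.Agent.S10192
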