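import Groth.Statements.S10352
import Groth.Agent.Lib.Helper16.DecentPt
import Groth.Agent.Lib.Helper16.FibreFinite
import Groth.Agent.Lib.Helper16.FibreEmb
import Groth.Agent.Lib.Helper16.MonoPtEx
open Groth.Agent.Lib.Helper16

set_option autoImplicit false
universe u
open CategoryTheory CategoryTheory.Limits AlgebraicGeometry Topology TopologicalSpace
open AlgSp

namespace Groth.Agent.S10352

/-- Let S be a scheme, X and Y algebraic spaces over S, and f : X ⟶ Y an etale morphism. If Y is decent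
then X is decent. -/
theorem result {S : Scheme.{u}} {X Y : AlgSp.Space S} (f : X ⟶ Y)
    (hf : AlgSp.IsEtaleMor f.hom) (hY : AlgSp.IsDecent Y.obj) : AlgSp.IsDecent X.obj := by
  intro x
  obtain ⟨U, φ, hφ, hφs⟩ := X.property.atlas
  obtain ⟨u, hu⟩ := ofPt_surjective_of_surjective φ hφs x
  have hψ : RepWith @Etale (φ ≫ f.hom) := hf φ hφ
  obtain ⟨py, hpy, hmy, hqy⟩ := hY (Points.ofPt (φ ≫ f.hom) u)
  -- the two relations
  obtain ⟨R, s, t', sqX⟩ := hφ.rep φ
  obtain ⟨t, rfl⟩ := (yon S).map_surjective t'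
  obtain ⟨RY, sY, tY', sqY⟩ := hψ.rep (φ ≫ f.hom)
  obtain ⟨tY, rfl⟩ := (yon S).map_surjective tY'
  have hcomm : (yon S).map t ≫ (φ ≫ f.hom) = (yon S).map s ≫ (φ ≫ f.hom) := by
    rw [← Category.assoc, ← Category.assoc, sqX.w]
  obtain ⟨m, hm⟩ := (yon S).map_surjective (sqY.lift _ _ hcomm)
  have hmt : m ≫ tY = t := (yon S).map_injective (by rw [Functor.map_comp, hm, sqY.lift_fst])
  have hms : m ≫ sY = s := (yon S).map_injective (by rw [Functor.map_comp, hm, sqY.lift_snd])
  have hmm : Mono ((yon S).map m) := by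
    constructor
    intro Z a b hab
    apply sqX.hom_ext
    · rw [← hmt, Functor.map_comp, ← Category.assoc, ← Category.assoc, hab]
    · rw [← hms, Functor.map_comp, ← Category.assoc, ← Category.assoc, hab]
  have hmm' : Mono m := (yon S).mono_of_mono_map hmm
  have hml : Mono m.left := inferInstance
  have hminj : Function.Injective m.left := m.left.injective
  have hfinY : {r : ↥RY.left | sY.left r = u ∧ tY.left r = u}.Finite :=
    finite_fibre_of_mono_point py hmy (φ ≫ f.hom) hψ u u hpy.symm hpy.symm RY sY tY sqY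
  have hfin : {r : ↥R.left | s.left r = u ∧ t.left r = u}.Finite := by
    refine (hfinY.preimage hminj.injOn).subset ?_
    rintro r ⟨hr1, hr2⟩
    refine ⟨?_, ?_⟩
    · show sY.left (m.left r) = u
      rw [← hr1, ← hms]; rfl
    · show tY.left (m.left r) = u
      rw [← hr2, ← hmt]; rfl
  obtain ⟨p, hp, hm'⟩ := exists_mono_point_of_finite_relation_fibre X.property φ hφ u u rfl s t sqX hfin
  have hpx : Points.mk p = x := hp.trans hu
  refine ⟨p, hpx, hm', ?_⟩
  refine repWith_quasiCompact_of_mono_of_finite_fibres X.property p hm' φ hφ hφs ?_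
  intro W hW
  refine (FibreEmb.finite_fibre_inter_affine_of_qc py hqy (φ ≫ f.hom) hψ W hW).subset ?_
  rintro w ⟨hw1, hw2⟩
  refine ⟨?_, hw2⟩
  show Points.ofPt (φ ≫ f.hom) w = Points.mk py
  have hw1' : Points.ofPt φ w = Points.mk p := hw1
  rw [hpy, ← Points.map_ofPt, ← Points.map_ofPt, hw1', hp]
end Groth.Agent.S10352
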