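import Groth.Statements.S10271
import Mathlib
import Groth.Agent.Lib.Helper17.AlgSpAff
import Groth.Agent.Lib.Helper17.AlgSpLocP
import Groth.Agent.Lib.Helper17.AlgSpProper
import Groth.Agent.S9923
import Groth.Agent.S9903
import Groth.Agent.S9917
import Groth.Agent.S10270
import Groth.Agent.Lib.Helper16.QuasiCompact

set_option autoImplicit false
universe u
open CategoryTheory CategoryTheory.Limits AlgebraicGeometry
open AlgSp

namespace Groth.Agent.S10271

/-- A morphism of algebraic spaces is finite if and only if it is affine and proper. -/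
theorem result {S : Scheme.{u}} {X Y : AlgSp.Space S} (f : X ⟶ Y) :
    AlgSp.IsFiniteMor f.hom ↔ (AlgSp.IsAffineMor f.hom ∧ AlgSp.IsProperMor f.hom) := by
  constructor
  · intro hf
    have hint : IsIntegralMor f.hom :=
      Groth.Agent.Lib.Helper17.affP_mono (Q := @IsFinite) (Q' := @IsIntegralHom)
        (fun A B j hj => by
          have : IsFinite j := hj
          exact (inferInstance : IsIntegralHom j)) hf
    obtain ⟨haff, huc⟩ := (Groth.Agent.S10270.result f).1 hint
    refine ⟨haff, ?_, ⟨?_, ?_⟩, huc⟩
    · -- separated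
      refine (Groth.Agent.S9903.result f).1.2 (fun Z hZ g P fst snd sq => ?_)
      obtain ⟨W, i, φ, sqW, hW, hi⟩ := hf hZ g
      have e : (sq.isoIsPullback _ _ sqW).hom ≫ (yon S).map i = snd :=
        IsPullback.isoIsPullback_hom_snd _ _ sq sqW
      rw [← e]
      have hsep : IsSeparatedMor ((yon S).map i) := by
        rw [isSeparatedMor_yon_map_iff]
        have : IsFinite i.left := hi
        infer_instance
      exact ((RepWith (S := S) @IsClosedImmersion).diagonal.cancel_left_of_respectsIso
        (sq.isoIsPullback _ _ sqW).hom ((yon S).map i)).2 hsep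
    · -- locally of finite type
      apply Groth.Agent.Lib.Helper17.locP_of_affine_base_change
        Groth.Agent.Lib.Helper16.etLocalST_locallyOfFiniteType
      intro Z hZ g U a k ha hc
      obtain ⟨W, i, φ, sqW, hW, hi⟩ := hf hZ g
      have sq := IsPullback.of_hasPullback f.hom g
      have e : (sq.isoIsPullback _ _ sqW).hom ≫ (yon S).map i = pullback.snd f.hom g :=
        IsPullback.isoIsPullback_hom_snd _ _ sq sqW
      obtain ⟨a', ha'⟩ := (yon S).map_surjective (a ≫ (sq.isoIsPullback _ _ sqW).hom)
      have hae : RepWith @Etale ((yon S).map a') := by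
        rw [ha']
        exact ((RepWith (S := S) @Etale).cancel_right_of_respectsIso a
          (sq.isoIsPullback _ _ sqW).hom).2 ha
      have hae' : Etale a'.left := (repWith_yon_map_iff _ _).1 hae
      have hk : a' ≫ i = k := by
        apply (yon S).map_injective
        rw [Functor.map_comp, ha', Category.assoc, e, hc]
      have : IsFinite i.left := hi
      rw [← hk, Over.comp_left]
      infer_instance
    · -- quasi-compact
      refine (Groth.Agent.S9917.result f).2 (fun Z hZ g P fst snd sq => ?_)
      obtain ⟨W, i, φ, sqW, hW, hi⟩ := hf hZ g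
      have hP : IsAlgSpace P :=
        Groth.Agent.Lib.Helper16.isAlgSpace_of_isPullback X.property Y.property.diag
          (IsAlgSpace.yon_obj Z) sq
      have : IsAffine W.left := hW
      have : CompactSpace (Points P) :=
        ((Groth.Agent.Lib.Helper16.pointsHomeoOfIso (sq.isoIsPullback _ _ sqW)).trans
          (Points.schemeHomeo W).symm).symm.compactSpace
      exact Groth.Agent.Lib.Helper16.isQuasiCompactSp_of_compactSpace hP
  · rintro ⟨haff, hsep, ⟨hlft, hqc⟩, huc⟩ Z hZ g
    obtain ⟨W, i, φ, sqW, hW, hi⟩ := (Groth.Agent.S10270.result f).2 ⟨haff, huc⟩ hZ g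
    refine ⟨W, i, φ, sqW, hW, ?_⟩
    have h1 : Groth.Agent.Lib.Helper16.SrcP @LocallyOfFiniteType ((yon S).map i) :=
      Groth.Agent.Lib.Helper16.srcP_of_locP_yon
        Groth.Agent.Lib.Helper16.etLocalST_locallyOfFiniteType X.property Y.property f.hom hlft g
        φ ((yon S).map i) sqW
    have h2 : LocallyOfFiniteType i.left :=
      h1 (𝟙 _) i (repWith_id _ W) (Category.id_comp _)
    exact (IsFinite.iff_isIntegralHom_and_locallyOfFiniteType i.left).2 ⟨hi, h2⟩

end Groth.Agent.S10271
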