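import Groth.Statements.S10398
import Groth.Agent.Lib.Helper16.GenFinSp2
open Groth.Agent.Lib.Helper15 Groth.Agent.Lib.Helper16 Groth.Agent.Lib.Helper16.Strata Groth.Agent.Lib.Helper16.SchLocus Groth.Agent.Lib.Helper16.Codim0Qf Groth.Agent.Lib.Helper16.QfAt Groth.Agent.Lib.Helper16.GenFinSp

set_option autoImplicit false
universe u
open CategoryTheory CategoryTheory.Limits AlgebraicGeometry Topology TopologicalSpace
open AlgSp

namespace Groth.Agent.S10398

/-- (2) ⇒ (3): let S be a scheme, X and Y algebraic spaces over S, and f : X ⟶ Y a quasi-separated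
morphism of finite type, and let y ∈ |Y| be a codimension 0 point of Y. Suppose that at every point
of |X| lying over y the morphism f is quasi-finite. Then there is an open subspace Y' ⊆ Y containing
y for which the morphism Y' ×_Y X ⟶ Y' is finite. -/
theorem result {S : Scheme.{u}} {X Y : AlgSp.Space S} (f : X ⟶ Y)
    (hqs : AlgSp.IsQuasiSeparatedMor f.hom) (hft : AlgSp.IsFiniteTypeMor f.hom) (y : AlgSp.Points Y.obj)
    (hy : AlgSp.HasAt (fun U u => ringKrullDim ↥(U.presheaf.stalk u) = 0) Y.obj y)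
    (hqf : ∀ x : AlgSp.Points X.obj, AlgSp.Points.map f.hom x = y → AlgSp.HasAtMor (fun U _ h u => ∃ W : U.Opens, u ∈ W ∧ LocallyQuasiFinite (W.ι ≫ h) ∧ LocallyOfFiniteType (W.ι ≫ h)) f.hom x) :
    ∃ (Y' X' : AlgSp.Space S) (j : Y' ⟶ Y) (fst : X' ⟶ Y') (snd : X' ⟶ X), AlgSp.RepWith @IsOpenImmersion j.hom ∧
      y ∈ Set.range (AlgSp.Points.map j.hom) ∧ IsPullback fst.hom snd.hom j.hom f.hom ∧
      AlgSp.IsFiniteMor fst.hom := by
  have hX := X.property
  have hY := Y.property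
  have hqf' : ∀ x : AlgSp.Points X.obj, AlgSp.Points.map f.hom x = y → x ∈ qfLocus f.hom :=
    fun x hx => (mem_qfLocus_iff_hasAtMor_open f.hom hft.1 x).2 (hqf x hx)
  obtain ⟨V₀, b₀, v₀, hb₀e, hb₀v, hdim₀⟩ := hy
  obtain ⟨O, hO, hvO⟩ := exists_affineOpen_mem v₀
  obtain ⟨V, b, v, hVaff, hb, hbv, hdim⟩ : ∃ (V : Over S) (b : (yon S).obj V ⟶ Y.obj) (v : ↥V.left),
      IsAffine V.left ∧ RepWith @Etale b ∧ AlgSp.Points.ofPt b v = y ∧
        ringKrullDim ↥(V.left.presheaf.stalk v) = 0 :=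
    ⟨overOpen V₀ O, (yon S).map (overOpenι V₀ O) ≫ b₀, (⟨v₀, hvO⟩ : ↥O), hO, repWith_etale_restrict b₀ hb₀e O,
      (ofPt_restrict b₀ O ⟨v₀, hvO⟩).trans hb₀v, (ringKrullDim_stalk_overOpen O v₀ hvO).trans hdim₀⟩
  subst hbv
  obtain ⟨h, hvh, hsch⟩ := exists_basicOpen_schLocus hX hY f.hom hqs hft b hb v hdim hqf'
    (pullback.fst f.hom b) (pullback.snd f.hom b) (IsPullback.of_hasPullback f.hom b)
  obtain ⟨M₁, m₁, a₁, sq₁⟩ := exists_rep_over_basicOpen hX hY f.hom b _ _ (IsPullback.of_hasPullback f.hom b)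
    (V.left.basicOpen h) hsch
  have hV₁aff : IsAffine (overOpen V (V.left.basicOpen h)).left := (isAffineOpen_top V.left).basicOpen h
  have hb₁ := repWith_etale_restrict b hb (V.left.basicOpen h)
  have hb₁v : AlgSp.Points.ofPt ((yon S).map (overOpenι V (V.left.basicOpen h)) ≫ b)
      (⟨v, hvh⟩ : ↥(V.left.basicOpen h)) = AlgSp.Points.ofPt b v := ofPt_restrict b _ ⟨v, hvh⟩
  obtain ⟨V₂, hV₂, hvV₂, hfin⟩ := exists_isFinite_restrict_of_rep hX hY f.hom hqs hft _ hb₁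
    (⟨v, hvh⟩ : ↥(V.left.basicOpen h)) ((ringKrullDim_stalk_overOpen _ v hvh).trans hdim)
    (fun x hx => hqf' x (hx.trans hb₁v)) m₁ a₁ sq₁
  obtain ⟨W, hW, hWmem, hfinW⟩ := exists_open_finite_sp hX hY f.hom _ hb₁ m₁ a₁ sq₁ V₂ hfin
  have hY' : AlgSp.IsAlgSpace (openSub Y.obj W) := isAlgSpace_openSub hY W hW
  refine ⟨⟨openSub Y.obj W, hY'⟩, ⟨pullback (openSubι Y.obj W) f.hom,
      isAlgSpace_of_isPullback hY' hY.diag hX (IsPullback.of_hasPullback _ _)⟩,
    ObjectProperty.homMk (openSubι Y.obj W), ObjectProperty.homMk (pullback.fst _ _),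
    ObjectProperty.homMk (pullback.snd _ _), repWith_isOpenImmersion_openSubι W hW, ?_,
    IsPullback.of_hasPullback _ _, hfinW⟩
  change AlgSp.Points.ofPt b v ∈ Set.range (AlgSp.Points.map (openSubι Y.obj W))
  rw [range_map_openSubι, ← hb₁v]
  exact hWmem ⟨⟨v, hvh⟩, hvV₂⟩
end Groth.Agent.S10398
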