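import Groth.Statements.S7590
import Mathlib
import Groth.Agent.Lib.Helper11.PurInsep
import Groth.Agent.Lib.Helper11.FBaseLib2

set_option autoImplicit false
universe u
open CategoryTheory CategoryTheory.Limits AlgebraicGeometry
open Variety

namespace Groth.Agent.S7590

open Groth.Agent.Lib.Helper11.FBaseLib Groth.Agent.Lib.Helper11.FBaseLib2
  Groth.Agent.Lib.Helper11.BcLevels Groth.Agent.Lib.Helper11.PurInsep

theorem core {k : Type u} [Field k] [IsSepClosed k] {X : Scheme.{u}}
    (a : X ⟶ Spec (CommRingCat.of k)) (K : Type u) [Field K] [Algebra k K] :
    Function.Bijective (Continuous.connectedComponentsMap (FBase.bcπ a K).continuous) := by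
  constructor
  · intro c₁ c₂ h
    obtain ⟨z₁, rfl⟩ := ConnectedComponents.surjective_coe c₁
    obtain ⟨z₂, rfl⟩ := ConnectedComponents.surjective_coe c₂
    rw [Continuous.connectedComponentsMap_mk, Continuous.connectedComponentsMap_mk] at h
    have hmem : (FBase.bcπ a K) z₂ ∈ connectedComponent ((FBase.bcπ a K) z₁) :=
      ConnectedComponents.coe_eq_coe'.mp h.symm
    have hh := isHomeomorph_bcπ a (AlgebraicClosure k)
    have hS' : _root_.IsPreconnected (⇑(FBase.bcπ a (AlgebraicClosure k)) ⁻¹'
        connectedComponent ((FBase.bcπ a K) z₁)) := by
      refine isPreconnected_connectedComponent.preimage_of_isOpenMap hh.injective hh.isOpenMap ?_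
      rw [hh.surjective.range_eq]
      exact Set.subset_univ _
    have hS := isConnected_preimage_connectedComponent_bcπ a K
      (S := connectedComponent ((FBase.bcπ a K) z₁)) mem_connectedComponent hS'
    have h2 : z₂ ∈ connectedComponent z₁ :=
      hS.isPreconnected.subset_connectedComponent (show z₁ ∈ _ from mem_connectedComponent) hmem
    exact (ConnectedComponents.coe_eq_coe'.mpr h2).symm
  · exact (FBase.bcπ a K).continuous.connectedComponentsMap_surjective (FBase.bcπ a K).surjective

/-- Let k be a separably closed field, K any extension field of k and X a scheme over k. Then the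
projection X_K → X induces a bijection between the sets of connected components. -/
theorem result (k : Type u) [Field k] [IsSepClosed k] (X : Scheme.{u}) [X.Over (Spec (CommRingCat.of k))]
    (K : Type u) [Field K] [Algebra k K] :
    Function.Bijective (Continuous.connectedComponentsMap (Curv2.bcFst k X K).continuous) := by

  exact core (X ↘ Spec (CommRingCat.of k)) K

end Groth.Agent.S7590
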