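import Groth.Statements.S7621
import Mathlib
import Groth.Agent.S1584
import Groth.Agent.Lib.Helper11.GalDescent

set_option autoImplicit false
universe u
open CategoryTheory CategoryTheory.Limits AlgebraicGeometry
open Variety

namespace Groth.Agent.S7621

open Groth.Agent.Lib.Helper11.FBaseLib Groth.Agent.Lib.Helper11.FBaseLib2
  Groth.Agent.Lib.Helper11.BcLevels Groth.Agent.Lib.Helper11.SepFibre
  Groth.Agent.Lib.Helper11.GalComp Groth.Agent.Lib.Helper11.GalDescent

theorem core {k : Type u} [Field k] {X : Scheme.{u}} (a : X ⟶ Spec (CommRingCat.of k))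
    (K : Type u) [Field K] [Algebra k K] [Algebra.IsAlgebraic k K]
    (V : Set ↥(FBase.bc a K)) (hV : IsOpen V) (hVc : IsCompact V) :
    ∃ E : IntermediateField k K, FiniteDimensional k ↥E ∧
      ∀ σ : K ≃ₐ[k] K, (∀ x : K, x ∈ E → σ x = x) →
        ⇑(bcHom a (σ : K →ₐ[k] K)) '' V = V := by
  classical
  have hch : ∀ y : ↥V, ∃ (L : IntermediateField k K) (_ : FiniteDimensional k L)
      (W : Set ↥(FBase.bc a ↥L)), IsOpen W ∧ (bcHom a L.val) y.1 ∈ W ∧
        ⇑(bcHom a L.val) ⁻¹' W ⊆ V := fun y => exists_level_nhds a K y.1 V hV y.2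
  choose L hL W hWo hyW hWV using hch
  obtain ⟨s, hs⟩ := hVc.elim_finite_subcover
    (fun y : ↥V => ⇑(bcHom a (L y).val) ⁻¹' (W y))
    (fun y => (hWo y).preimage (bcHom a (L y).val).continuous)
    (fun z hz => Set.mem_iUnion.mpr ⟨⟨z, hz⟩, hyW ⟨z, hz⟩⟩)
  haveI : ∀ y, FiniteDimensional k (L y) := hL
  let E : IntermediateField k K := ⨆ y : ↥s, L y.1
  have hstep : ∀ σ : K ≃ₐ[k] K, (∀ x : K, x ∈ E → σ x = x) →
      ⇑(bcHom a (σ : K →ₐ[k] K)) '' V ⊆ V := by
    intro σ hσ
    rintro _ ⟨z, hz, rfl⟩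
    obtain ⟨y, hys, hzy⟩ : ∃ y ∈ s, z ∈ ⇑(bcHom a (L y).val) ⁻¹' (W y) := by
      simpa using hs hz
    apply hWV y
    show (bcHom a (L y).val) ((bcHom a (σ : K →ₐ[k] K)) z) ∈ W y
    rw [bcHom_val_bcHom_of_fixes a K (L y) σ
      (fun x hx => hσ x (le_iSup (fun y : ↥s => L y.1) ⟨y, hys⟩ hx))]
    exact hzy
  refine ⟨E, inferInstance, ?_⟩
  intro σ hσ
  apply Set.Subset.antisymm (hstep σ hσ)
  intro z hz
  have hσ' : ∀ x : K, x ∈ E → σ.symm x = x := fun x hx => by
    rw [AlgEquiv.symm_apply_eq]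
    exact (hσ x hx).symm
  have h1 := hstep σ.symm hσ' ⟨z, hz, rfl⟩
  refine ⟨(bcHom a (σ.symm : K →ₐ[k] K)) z, h1, ?_⟩
  rw [← Scheme.Hom.comp_apply, bcHom_equiv_comp']
  rfl

/-- Let K be a (possibly infinite) Galois extension of a field k, X a scheme over k and V a
quasi-compact open subset of X_K. Then there is a subextension k'/k of K, finite over k, such that
every k-automorphism of K fixing k' pointwise maps V onto itself under its action on X_K (an open
subgroup of the Galois group stabilises V). -/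
theorem result (k : Type u) [Field k] (K : Type u) [Field K] [Algebra k K] [IsGalois k K]
    (X : Scheme.{u}) [X.Over (Spec (CommRingCat.of k))] (V : Set ↥(Curv2.bc k X K)) (hV : IsOpen V) (hVc : IsCompact V) :
    ∃ E : IntermediateField k K, FiniteDimensional k ↥E ∧
      ∀ σ : K ≃ₐ[k] K, (∀ a : K, a ∈ E → σ a = a) → (Curv2.galAct k X K σ).base '' V = V := by

  simp only [Groth.Agent.S1584.galAct_eq]
  exact core (X ↘ Spec (CommRingCat.of k)) K V hV hVc

end Groth.Agent.S7621
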