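import Groth.Statements.S10469
import Groth.Agent.Lib.Helper16.GeomConnFin

set_option autoImplicit false
universe u
open CategoryTheory CategoryTheory.Limits AlgebraicGeometry Topology TopologicalSpace
open AlgSp

namespace Groth.Agent.S10469

/-- Let k be a field and X an algebraic space over k. Then X is geometrically connected if and only if
X_{k'} is connected for every finite separable field extension k' of k. -/
theorem result (k : Type u) [Field k] (X : AlgSp.Space (Spec (CommRingCat.of k))) :
    (∀ (K : Type u) [Field K] [Algebra k K], ConnectedSpace (AlgSp.Points (X.obj ⨯ (AlgSp.yon (Spec (CommRingCat.of k))).obj (Over.mk (Spec.map (CommRingCat.ofHom (algebraMap k K))))))) ↔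
      ∀ (k' : Type u) [Field k'] [Algebra k k'], Module.Finite k k' → Algebra.IsSeparable k k' →
        ConnectedSpace (AlgSp.Points (X.obj ⨯ (AlgSp.yon (Spec (CommRingCat.of k))).obj (Over.mk (Spec.map (CommRingCat.ofHom (algebraMap k k')))))) := by
  constructor
  · intro h k' _ _ _ _
    exact h k'
  · intro h
    have hK : ConnectedSpace (AlgSp.Points (X.obj ⨯ (AlgSp.yon (Spec (CommRingCat.of k))).obj
        (Groth.Agent.Lib.Helper16.GeomConn.fldObj k (SeparableClosure k)))) :=
      Groth.Agent.Lib.Helper16.GeomConn.connectedSpace_of_finite_subextensions k X.2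
        (SeparableClosure k) (fun E hE => h ↥E hE inferInstance)
    intro K _ _
    exact Groth.Agent.Lib.Helper16.GeomConn.geomConn_of_connected_sepClosure k X.2
      (SeparableClosure k) hK K

end Groth.Agent.S10469
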