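import Groth.Statements.S1489
import Mathlib
import Groth.Agent.Lib.Helper6.FormalEtaleLocal1
import Groth.Agent.Lib.Helper6.FormalEtaleLocal2

set_option autoImplicit false
universe u
open FlatMor

namespace Groth.Agent.S1489

open AlgebraicGeometry CategoryTheory Limits in
/-- A morphism f : X → S is étale if and only if it is locally of finite presentation and formally
étale, i.e. has the unique lifting property against first order thickenings of affine schemes (rings
in the same universe). -/
theorem result {X S : Scheme.{u}} (f : X ⟶ S) :
    Etale f ↔ LocallyOfFinitePresentation f ∧ MoreMor.IsFormallyEtaleHom f := by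
  constructor
  · intro hf
    refine ⟨⟨fun {U} hU {V} hV e => ?_⟩, ?_⟩
    · have h := Etale.etale_appLE f hU hV e
      letI := (f.appLE U V e).hom.toAlgebra
      have h' : Algebra.Etale Γ(S, U) Γ(X, V) := h
      exact h'.finitePresentation
    · apply Groth.Agent.Lib.Helper6.FormalEtaleLocal.isFormallyEtaleHom_of_affineLocally f
      intro U V hU hV hUV
      have h := Etale.etale_appLE f hV hU hUV
      letI := (f.appLE V U hUV).hom.toAlgebra
      have h' : Algebra.Etale Γ(S, V) Γ(X, U) := h
      exact h'.formallyEtale
  · rintro ⟨hfp, hfe⟩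
    refine ⟨fun {U} hU {V} hV e => ?_⟩
    have h1 := Groth.Agent.Lib.Helper6.FormalEtaleLocal.formallyEtale_appLE f hfe V U hV hU e
    have h2 := LocallyOfFinitePresentation.finitePresentation_appLE f hU hV e
    letI := (f.appLE U V e).hom.toAlgebra
    have h1' : Algebra.FormallyEtale Γ(S, U) Γ(X, V) := h1
    have h2' : Algebra.FinitePresentation Γ(S, U) Γ(X, V) := h2
    exact (⟨h1', h2'⟩ : Algebra.Etale Γ(S, U) Γ(X, V))

end Groth.Agent.S1489
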