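-- Statement S1488.
import Groth.Statements.S1488
import Mathlib
import Groth.Agent.Lib.Helper1.LiftSmooth
import Groth.Agent.Lib.Helper1.FSmoothHom

set_option autoImplicit false
universe u
open FlatMor

namespace Groth.Agent.S1488

open AlgebraicGeometry CategoryTheory Limits in
/-- A morphism f : X → S is smooth if and only if it is locally of finite presentation and formally
smooth, i.e. has the lifting property against first order thickenings of affine schemes (rings in
the same universe). -/
theorem result {X S : Scheme.{u}} (f : X ⟶ S) :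
    Smooth f ↔ LocallyOfFinitePresentation f ∧ MoreMor.IsFormallySmoothHom f := by
  constructor
  · intro hf
    refine ⟨inferInstance, ?_⟩
    intro A _ I hI a b hsq
    let ψ : CommRingCat.of A ⟶ CommRingCat.of (A ⧸ I) := CommRingCat.ofHom (Ideal.Quotient.mk I)
    have hψs : Function.Surjective ψ.hom := Ideal.Quotient.mk_surjective
    have hψk : RingHom.ker ψ.hom ^ 2 = ⊥ := by
      change RingHom.ker (Ideal.Quotient.mk I) ^ 2 = ⊥
      rw [Ideal.mk_ker, hI]
    have hi := Groth.Agent.Lib.Helper1.UnivThick.isFirstOrderThickening_SpecMap ψ hψs hψk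
    obtain ⟨l, hl₁, hl₂⟩ := Groth.Agent.Lib.Helper1.LiftSmooth.exists_lift_of_smooth f
      (Spec.map ψ) hi b a hsq.symm
    exact ⟨l, hl₂, hl₁⟩
  · rintro ⟨hlfp, hfs⟩
    refine ⟨fun {U} hU {V} hV e => ?_⟩
    rw [RingHom.smooth_def]
    exact ⟨Groth.Agent.Lib.Helper1.FSmoothHom.formallySmooth_appLE f hfs hV hU e,
      f.finitePresentation_appLE hU hV e⟩

end Groth.Agent.S1488
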