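import Groth.Statements.S10400
import Groth.Agent.Lib.Helper16.DenseFin4
open Groth.Agent.Lib.Helper15 Groth.Agent.Lib.Helper16 Groth.Agent.Lib.Helper16.DenseFin Groth.Agent.Lib.Helper16.SchLocus

set_option autoImplicit false
universe u
open CategoryTheory CategoryTheory.Limits AlgebraicGeometry Topology TopologicalSpace
open AlgSp

namespace Groth.Agent.S10400

/-- Let f : X ⟶ Y be a morphism locally of finite type of algebraic spaces over a scheme S with Y
decent. Assume the codimension 0 points of X and of Y form finite sets, that a point of X has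
codimension 0 exactly when its image does, and that f is quasi-compact or separated. Then there is a
dense open subspace V ⊆ Y with f⁻¹(V) ⟶ V finite. -/
theorem result {S : Scheme.{u}} {X Y : AlgSp.Space S} (f : X ⟶ Y)
    (hf : AlgSp.LocP @LocallyOfFiniteType f.hom) (hY : AlgSp.IsDecent Y.obj)
    (hX0 : {x : AlgSp.Points X.obj | AlgSp.HasAt (fun U u => ringKrullDim ↥(U.presheaf.stalk u) = 0) X.obj x}.Finite)
    (hY0 : {y : AlgSp.Points Y.obj | AlgSp.HasAt (fun U u => ringKrullDim ↥(U.presheaf.stalk u) = 0) Y.obj y}.Finite)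
    (hpre : ∀ x : AlgSp.Points X.obj, AlgSp.HasAt (fun U u => ringKrullDim ↥(U.presheaf.stalk u) = 0) X.obj x ↔ AlgSp.HasAt (fun U u => ringKrullDim ↥(U.presheaf.stalk u) = 0) Y.obj (AlgSp.Points.map f.hom x))
    (hqs : AlgSp.IsQuasiCompactMor f.hom ∨ AlgSp.IsSeparatedMor f.hom) :
    ∃ (V X' : AlgSp.Space S) (j : V ⟶ Y) (fst : X' ⟶ V) (snd : X' ⟶ X), AlgSp.RepWith @IsOpenImmersion j.hom ∧
      Dense (Set.range (AlgSp.Points.map j.hom)) ∧ IsPullback fst.hom snd.hom j.hom f.hom ∧
      AlgSp.IsFiniteMor fst.hom := by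
  classical
  have hX : IsAlgSpace X.obj := X.property
  have hYs : IsAlgSpace Y.obj := Y.property
  have pk : Pkg f.hom := ⟨hf, hX0, hY0, hpre, hqs⟩
  have hloc : ∀ y : AlgSp.Points Y.obj, C0 Y.obj y → LG f.hom y := fun y hy => lg_of_pkg hX hYs pk hY y hy
  obtain ⟨n, e, -, he⟩ := hY0.fin_param
  have hmem : ∀ i : ULift.{u} (Fin n), C0 Y.obj (e i.down) := fun i => by
    have h1 : e i.down ∈ Set.range e := ⟨_, rfl⟩
    rw [he] at h1
    exact h1
  choose Yi Xi j fst snd hYi hj hy sq hfin using fun i : ULift.{u} (Fin n) => hloc _ (hmem i)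
  obtain ⟨W, hWdef⟩ : ∃ W : Set (AlgSp.Points Y.obj), W = ⋃ i, Set.range (AlgSp.Points.map (j i)) := ⟨_, rfl⟩
  have hW : IsOpen W := by
    rw [hWdef]
    exact isOpen_iUnion fun i => isOpen_range_map_of_etale (hYi i) (j i)
      (repWith_mono SchLocus.isOpenImmersion_le_etale _ (hj i))
  have hfinW := isFiniteMor_of_family hX hYs f.hom Yi Xi hYi j hj fst snd sq hfin W hW hWdef
  have hV : IsAlgSpace (openSub Y.obj W) := isAlgSpace_openSub hYs W hW
  refine ⟨⟨openSub Y.obj W, hV⟩, ⟨pullback (openSubι Y.obj W) f.hom,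
      isAlgSpace_of_isPullback hV hYs.diag hX (IsPullback.of_hasPullback _ _)⟩,
    ObjectProperty.homMk (openSubι Y.obj W), ObjectProperty.homMk (pullback.fst _ _),
    ObjectProperty.homMk (pullback.snd _ _), repWith_isOpenImmersion_openSubι W hW, ?_,
    IsPullback.of_hasPullback _ _, hfinW⟩
  change Dense (Set.range (AlgSp.Points.map (openSubι Y.obj W)))
  rw [range_map_openSubι, dense_iff_inter_open]
  intro O hO hOne
  obtain ⟨y, hyO, hy0⟩ := exists_c0_mem hYs O hO hOne
  have h1 : y ∈ Set.range e := by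
    rw [he]
    exact hy0
  obtain ⟨k, rfl⟩ := h1
  refine ⟨e k, hyO, ?_⟩
  rw [hWdef]
  exact Set.mem_iUnion.2 ⟨⟨k⟩, hy ⟨k⟩⟩
end Groth.Agent.S10400
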