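import Groth.Statements.S3627
import Groth.Agent.Lib.Helper4.GorHomSch

set_option autoImplicit false
universe u
open CategoryTheory CategoryTheory.Limits AlgebraicGeometry
attribute [local instance] HasDerivedCategory.standard
open Dual3

namespace Groth.Agent.S3627

/-- Let f : X → Y and g : Y → Z be morphisms such that the fibres of f, g and g ∘ f are locally
Noetherian, and let x be a point of X. (1) The composite g ∘ f is Gorenstein at x provided f is so
at x and g is so at f(x). (3) Conversely, if f is flat at x and the composite is Gorenstein there,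
then both factors are Gorenstein: f at x, and g at f(x). -/
theorem result (X Y Z : Scheme.{u}) (f : X ⟶ Y) (g : Y ⟶ Z) (hfibf : ∀ y, IsLocallyNoetherian (f.fiber y)) (hfibg : ∀ y, IsLocallyNoetherian (g.fiber y)) (hfibfg : ∀ z, IsLocallyNoetherian ((f ≫ g).fiber z)) (x : X) : (Dual3.IsGorensteinAt f x → Dual3.IsGorensteinAt g (f x) → Dual3.IsGorensteinAt (f ≫ g) x) ∧ (Dual3.IsGorensteinAt (f ≫ g) x → (f.stalkMap x).hom.Flat → Dual3.IsGorensteinAt f x ∧ Dual3.IsGorensteinAt g (f x)) := by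
  have hcomp := Groth.Agent.Lib.Helper4.CMHomSch.stalkMap_comp_hom f x g
  have hNB := Groth.Agent.Lib.Helper4.CMHomSch.isNoetherianRing_quot_of_fiber g (f x)
    (hfibg (g (f x)))
  have hNC0 := Groth.Agent.Lib.Helper4.CMHomSch.isNoetherianRing_quot_of_fiber (f ≫ g) x
    (hfibfg ((f ≫ g) x))
  rw [hcomp] at hNC0
  constructor
  · intro hf hg
    rw [Groth.Agent.Lib.Helper4.GorHomSch.isGorensteinAt_iff] at hf hg ⊢
    obtain ⟨hfl, hfg⟩ := hf
    obtain ⟨hgl, hgg⟩ := hg
    rw [hcomp]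
    refine ⟨RingHom.Flat.comp hgl hfl, ?_⟩
    exact (Groth.Agent.Lib.Helper4.GorHom.gor_quot_comp_iff (g.stalkMap (f x)).hom
      (f.stalkMap x).hom hfl hNB hNC0).mpr ⟨hgg, hfg⟩
  · intro h hfl
    rw [Groth.Agent.Lib.Helper4.GorHomSch.isGorensteinAt_iff] at h
    rw [Groth.Agent.Lib.Helper4.GorHomSch.isGorensteinAt_iff,
      Groth.Agent.Lib.Helper4.GorHomSch.isGorensteinAt_iff]
    rw [hcomp] at h
    obtain ⟨hcl, hcg⟩ := h
    have hgl : (g.stalkMap (f x)).hom.Flat :=
      Groth.Agent.Lib.Helper4.CMHom.flat_of_comp_of_flat (g.stalkMap (f x)).hom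
        (f.stalkMap x).hom hfl hcl
    obtain ⟨h1, h2⟩ := (Groth.Agent.Lib.Helper4.GorHom.gor_quot_comp_iff (g.stalkMap (f x)).hom
      (f.stalkMap x).hom hfl hNB hNC0).mp hcg
    exact ⟨⟨hfl, h2⟩, ⟨hgl, h1⟩⟩

end Groth.Agent.S3627
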