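import Groth.Statements.S10420
import Groth.Agent.Lib.Helper16.ElemNbhd
open Groth.Agent.Lib.Helper16 Groth.Agent.Lib.Helper16.ElemNbhd

set_option autoImplicit false
universe u
open CategoryTheory CategoryTheory.Limits AlgebraicGeometry Topology TopologicalSpace
open AlgSp

namespace Groth.Agent.S10420

/-- For a decent algebraic space X over a scheme S and x ∈ |X|, the category of elementary etale
neighbourhoods (U, u) ⟶ (X, x) is cofiltered: two objects are dominated by a third and two parallel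
morphisms are equalized from some object (it is nonempty by the existence of elementary etale
neighbourhoods). -/
theorem result {S : Scheme.{u}} (X : AlgSp.Space S) (hX : AlgSp.IsDecent X.obj)
    (x : AlgSp.Points X.obj) :
    (∀ (U₁ U₂ : Over S) (a₁ : (AlgSp.yon S).obj U₁ ⟶ X.obj) (a₂ : (AlgSp.yon S).obj U₂ ⟶ X.obj) (u₁ : ↥U₁.left)
        (u₂ : ↥U₂.left), AlgSp.IsElemEtaleNbhd a₁ u₁ x → AlgSp.IsElemEtaleNbhd a₂ u₂ x →
        ∃ (U : Over S) (a : (AlgSp.yon S).obj U ⟶ X.obj) (v : ↥U.left) (h₁ : U ⟶ U₁) (h₂ : U ⟶ U₂),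
          AlgSp.IsElemEtaleNbhd a v x ∧ (AlgSp.yon S).map h₁ ≫ a₁ = a ∧ (AlgSp.yon S).map h₂ ≫ a₂ = a ∧
            h₁.left v = u₁ ∧ h₂.left v = u₂) ∧
      (∀ (U₁ U₂ : Over S) (a₁ : (AlgSp.yon S).obj U₁ ⟶ X.obj) (a₂ : (AlgSp.yon S).obj U₂ ⟶ X.obj) (u₁ : ↥U₁.left)
        (u₂ : ↥U₂.left) (b c : U₁ ⟶ U₂), AlgSp.IsElemEtaleNbhd a₁ u₁ x → AlgSp.IsElemEtaleNbhd a₂ u₂ x →
        (AlgSp.yon S).map b ≫ a₂ = a₁ → (AlgSp.yon S).map c ≫ a₂ = a₁ → b.left u₁ = u₂ → c.left u₁ = u₂ →
        ∃ (U : Over S) (a : (AlgSp.yon S).obj U ⟶ X.obj) (v : ↥U.left) (h : U ⟶ U₁),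
          AlgSp.IsElemEtaleNbhd a v x ∧ (AlgSp.yon S).map h ≫ a₁ = a ∧ h.left v = u₁ ∧ h ≫ b = h ≫ c) := by
  constructor
  · intro U₁ U₂ a₁ a₂ u₁ u₂ e₁ e₂
    obtain ⟨R, h₂, fst, sq⟩ := e₁.etale.rep a₂
    obtain ⟨h₁, rfl⟩ := (yon S).map_surjective fst
    obtain ⟨v, hv1, hv2⟩ := exists_point_of_isPullback_yon_yon sq u₁ u₂ (e₁.ofPt_eq.trans e₂.ofPt_eq.symm)
    subst hv1 hv2
    have hh₁ : Etale h₁.left := e₂.etale.property a₁ ((yon S).map h₂) h₁ sq.flip
    refine ⟨R, (yon S).map h₁ ≫ a₁, v, h₁, h₂, ⟨?_, ?_, ?_⟩, rfl, sq.w.symm, rfl, rfl⟩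
    · exact (repWith_isMultiplicative (S := S) @Etale).comp_mem _ _ ((repWith_yon_map_iff _ _).2 hh₁) e₁.etale
    · rw [ofPt_yon_map_comp]; exact e₁.ofPt_eq
    · refine ⟨fun {Z} α β hαβ => ?_⟩
      rw [FieldPt.toHom_ofPt] at hαβ
      have h1 := cancel_of_mono_ofPt a₁ h₁ v e₁.mono α β hαβ
      have h2 := cancel_of_mono_ofPt a₂ h₂ v e₂.mono α β (by rw [← sq.w]; exact hαβ)
      have h3 : α ≫ (yon S).map (kappa R v) = β ≫ (yon S).map (kappa R v) :=
        sq.hom_ext (by rw [Category.assoc, Category.assoc]; exact h1)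
          (by rw [Category.assoc, Category.assoc]; exact h2)
      exact (cancel_mono ((yon S).map (kappa R v))).1 h3
  · intro U₁ U₂ a₁ a₂ u₁ u₂ b c e₁ e₂ hb' hc' hbu hcu
    obtain ⟨R₂, s, fst, sqR⟩ := e₂.etale.rep a₂
    obtain ⟨t, rfl⟩ := (yon S).map_surjective fst
    have hs : Etale s.left := e₂.etale.property a₂ ((yon S).map t) s sqR
    obtain ⟨δ, hδ⟩ := (yon S).map_surjective (sqR.lift (𝟙 _) (𝟙 _) rfl)
    have hδt : δ ≫ t = 𝟙 _ := by
      apply (yon S).map_injective
      rw [Functor.map_comp, hδ, sqR.lift_fst]; exact ((yon S).map_id _).symm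
    have hδs : δ ≫ s = 𝟙 _ := by
      apply (yon S).map_injective
      rw [Functor.map_comp, hδ, sqR.lift_snd]; exact ((yon S).map_id _).symm
    obtain ⟨bc, hbc⟩ := (yon S).map_surjective (sqR.lift ((yon S).map b) ((yon S).map c) (hb'.trans hc'.symm))
    have hbct : bc ≫ t = b := by
      apply (yon S).map_injective
      rw [Functor.map_comp, hbc, sqR.lift_fst]
    have hbcs : bc ≫ s = c := by
      apply (yon S).map_injective
      rw [Functor.map_comp, hbc, sqR.lift_snd]
    have hδo : IsOpenImmersion δ.left :=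
      LocSepCore.isOpenImmersion_of_section s.left δ.left (by rw [← Over.comp_left, hδs]; rfl)
    let E : Scheme.{u} := pullback bc.left δ.left
    let j : E ⟶ U₁.left := pullback.fst bc.left δ.left
    let e' : E ⟶ U₂.left := pullback.snd bc.left δ.left
    have hj : IsOpenImmersion j := inferInstance
    have hcond : j ≫ bc.left = e' ≫ δ.left := pullback.condition
    let EO : Over S := Over.mk (j ≫ U₁.hom)
    let h : EO ⟶ U₁ := Over.homMk j rfl
    have hhb : h ≫ b = h ≫ c := by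
      ext
      show j ≫ b.left = j ≫ c.left
      have e1 : j ≫ b.left = e' := by
        rw [← hbct, Over.comp_left, ← Category.assoc, hcond, Category.assoc, ← Over.comp_left, hδt]
        exact Category.comp_id _
      have e2 : j ≫ c.left = e' := by
        rw [← hbcs, Over.comp_left, ← Category.assoc, hcond, Category.assoc, ← Over.comp_left, hδs]
        exact Category.comp_id _
      rw [e1, e2]
    -- the point
    have hm₂ : Mono (FieldPt.ofPt a₂ (b.left u₁)).toHom := by rw [hbu]; exact e₂.mono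
    have hκ : kappa U₁ u₁ ≫ b = kappa U₁ u₁ ≫ c := by
      rw [← resMap_kappa, ← resMap_kappa]
      refine kappa_eq_of_mono a₂ (hbu.trans hcu.symm) hm₂ _ _ ?_
      rw [← Category.assoc, ← Functor.map_comp, resMap_kappa, ← Category.assoc, ← Functor.map_comp,
        resMap_kappa, Functor.map_comp, Functor.map_comp, Category.assoc, Category.assoc, hb', hc']
    have hκbc : kappa U₁ u₁ ≫ bc = (kappa U₁ u₁ ≫ b) ≫ δ := by
      apply (yon S).map_injective
      apply sqR.hom_ext
      · rw [← Functor.map_comp, ← Functor.map_comp, Category.assoc, hbct, Category.assoc, hδt,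
          Category.comp_id]
      · rw [← Functor.map_comp, ← Functor.map_comp, Category.assoc, hbcs, Category.assoc, hδs,
          Category.comp_id, hκ]
    have hpt : bc.left u₁ = δ.left (b.left u₁) := by
      have := congrArg (fun m => m.left (IsLocalRing.closedPoint _)) hκbc
      simpa using this
    obtain ⟨v, hv1, hv2⟩ := Scheme.Pullback.exists_preimage_pullback (f := bc.left) (g := δ.left) u₁
      (b.left u₁) hpt
    have hv1' : h.left v = u₁ := hv1
    have hm₁ : Mono (FieldPt.ofPt a₁ (h.left v)).toHom := by rw [hv1']; exact e₁.mono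
    refine ⟨EO, (yon S).map h ≫ a₁, v, h, ⟨?_, ?_, ?_⟩, rfl, hv1, hhb⟩
    · exact (repWith_isMultiplicative (S := S) @Etale).comp_mem _ _
        ((repWith_yon_map_iff _ _).2 (inferInstance : Etale j)) e₁.etale
    · rw [ofPt_yon_map_comp, hv1']; exact e₁.ofPt_eq
    · refine ⟨fun {Z} α β hαβ => ?_⟩
      rw [FieldPt.toHom_ofPt] at hαβ
      have h1 := cancel_of_mono_ofPt a₁ h v hm₁ α β hαβ
      have hmh : Mono h := Over.mono_of_mono_left _
      rw [← Category.assoc, ← Category.assoc] at h1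
      exact (cancel_mono ((yon S).map (kappa EO v))).1 ((cancel_mono ((yon S).map h)).1 h1)

end Groth.Agent.S10420
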