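import Groth.Statements.S10419
import Groth.Agent.Lib.Helper16.FiltCore3
import Groth.Agent.Lib.Helper16.DenseFin3
import Groth.Agent.Lib.Helper16.QcOpen
open Groth.Agent.Lib.Helper16 Opposite

set_option autoImplicit false
universe u
open CategoryTheory CategoryTheory.Limits AlgebraicGeometry Topology TopologicalSpace
open AlgSp

namespace Groth.Agent.S10419

/-- Let S be a scheme with quasi-separated underlying space and X an algebraic space over S that is
quasi-compact and quasi-separated (X quasi-separated over S). There are an integer n and open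
subspaces X = U_1 ⊇ U_2 ⊇ ⋯ ⊇ U_{n+1} = ∅ such that, with T_p = U_p ∖ U_{p+1} (reduced induced
structure), there is a quasi-compact separated scheme V_p with a surjective etale f_p : V_p ⟶ U_p
for which f_p⁻¹(T_p) ⟶ T_p is an isomorphism. -/
theorem result {S : Scheme.{u}} [QuasiSeparatedSpace ↥S] (X : AlgSp.Space S)
    (hqc : AlgSp.IsQuasiCompactSp X.obj) (hqs : AlgSp.IsQuasiSeparatedSp X.obj) :
    ∃ (n : ℕ) (Uo : ℕ → AlgSp.Space S) (j : ∀ p, Uo p ⟶ X) (k : ∀ p, Uo (p + 1) ⟶ Uo p)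
      (T : ℕ → AlgSp.Space S) (i : ∀ p, T p ⟶ Uo p),
      (∀ p, AlgSp.RepWith @IsOpenImmersion (j p).hom) ∧ (∀ p, k p ≫ j p = j (p + 1)) ∧ IsIso (j 1) ∧
      IsEmpty (AlgSp.Points (Uo (n + 1)).obj) ∧
      (∀ p, AlgSp.IsRedInduced (Set.range (AlgSp.Points.map (k p).hom))ᶜ (i p).hom) ∧
      (∀ p, 1 ≤ p → ∃ (V : Over S) (f : (AlgSp.yon S).obj V ⟶ (Uo p).obj), V.left.IsSeparated ∧ CompactSpace ↥V.left ∧
        AlgSp.RepWith @Etale f ∧ AlgSp.RepWith @Surjective f ∧
        ∀ (P : AlgSp.Sp S) (fst : P ⟶ (T p).obj) (snd : P ⟶ (AlgSp.yon S).obj V),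
          IsPullback fst snd (i p).hom f → IsIso fst) := by

  obtain ⟨U, a, hU, hae, has⟩ := DenseFin.exists_affine_chart_of_isQuasiCompactSp hqc
  have : IsAffine U.left := hU
  have hrep := X.property.representable_from_yon a
  obtain ⟨R, sn, fstR, sqR⟩ := hrep a
  obtain ⟨c, rfl⟩ := (yon S).map_surjective fstR
  have haq : RepWith @QuasiCompact a :=
    repWith_quasiCompact_of_isQuasiCompactMor a hrep
      (QcOpen.isQuasiCompactMor_of_isQuasiCompactSp (IsAlgSpace.yon_obj U) X.property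
        (isQuasiCompactSp_yon_of_compactSpace U) hqs a)
  have hsnet : Etale sn.left := hae.property _ _ _ sqR
  have hsnqc : QuasiCompact sn.left := haq.property _ _ _ sqR
  have hRc : CompactSpace ↥R.left := QuasiCompact.compactSpace_of_compactSpace sn.left
  obtain ⟨n, hn⟩ := UBF.hasUnivBddFibres_yon_map_of_etale sn
  obtain ⟨Uo, j, k, T, i, h1, h2, h3, h4, h5, h6, h7⟩ := Filt.exists_filtration X a hae has sqR
  refine ⟨n, Uo, j, k, T, i, h1, h2, h3, ⟨fun y => ?_⟩, h4, fun p hp => ?_⟩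
  · have hy : Points.map (j (n + 1)).hom y ∈ Filt.degGE a sn (n + 1) := (h6 (n + 1)).subset ⟨y, rfl⟩
    obtain ⟨u, -, hu⟩ := hy
    have := Filt.hasDeg_le_of_degFibresLE sn hn u (n + 1) hu
    omega
  · obtain ⟨V, f, hV, hVc, hfe, hfs, hiso⟩ := h5 p hp
    exact ⟨V, f, hV, hVc haq, hfe, hfs, hiso⟩

end Groth.Agent.S10419
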