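import Groth.Statements.S1974
import Mathlib
import Groth.Agent.Lib.Helper8.WEField

set_option autoImplicit false
universe u
open EtAlg TensorProduct Groth.Agent.Lib.Helper8.WEField

namespace Groth.Agent.S1974

/-- Let A -> B be weakly etale and q a prime of B lying over the prime p of A. Then the residue field of
q is a separable algebraic extension of the residue field of p. -/
theorem result (A B : Type u) [CommRing A] [CommRing B] [Algebra A B]
    [Algebra.WeaklyEtale A B] (p : Ideal A) [p.IsPrime] (q : Ideal B) [q.IsPrime] [q.LiesOver p]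
    [Algebra (Localization.AtPrime p) (Localization.AtPrime q)] [Localization.AtPrime.IsLiesOverAlgebra p q] :
    Algebra.IsSeparable p.ResidueField q.ResidueField := by
  haveI : IsScalarTower A p.ResidueField q.ResidueField := inferInstance
  let ψ : p.ResidueField ⊗[A] B →ₐ[p.ResidueField] q.ResidueField :=
    Algebra.TensorProduct.lift (Algebra.ofId p.ResidueField q.ResidueField)
      (IsScalarTower.toAlgHom A B q.ResidueField) (fun _ _ => Commute.all _ _)
  have hsep : ∀ y ∈ ψ.range, IsSepElem p.ResidueField y := by
    rintro _ ⟨t, rfl⟩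
    exact (isSepElem_of_weaklyEtale (K := p.ResidueField) t).map ψ
  have halg : ∀ y ∈ ψ.range, IsAlgebraic p.ResidueField y := by
    intro y hy
    exact ((isSepElem_iff_isSeparable y).mp (hsep y hy)).isIntegral.isAlgebraic
  have hB : ∀ b : B, algebraMap B q.ResidueField b ∈ ψ.range := by
    intro b
    refine ⟨1 ⊗ₜ b, ?_⟩
    simp [ψ]
  have hall : ∀ y : q.ResidueField, y ∈ ψ.range := by
    intro y
    obtain ⟨y, rfl⟩ := IsLocalRing.residue_surjective y
    obtain ⟨b, s, rfl⟩ := IsLocalization.exists_mk'_eq q.primeCompl y
    have h1 : IsLocalRing.residue (Localization.AtPrime q) (IsLocalization.mk' _ b s) =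
        algebraMap B q.ResidueField b * (algebraMap B q.ResidueField s)⁻¹ := by
      have hs : algebraMap B q.ResidueField s ≠ 0 := by
        rw [Ne, Ideal.algebraMap_residueField_eq_zero]
        exact s.2
      rw [eq_mul_inv_iff_mul_eq₀ hs]
      show IsLocalRing.residue _ _ * IsLocalRing.residue _ (algebraMap B _ s) = 
        IsLocalRing.residue _ (algebraMap B _ b)
      rw [← map_mul, IsLocalization.mk'_spec]
    rw [h1]
    refine mul_mem (hB b) ?_
    have := Subalgebra.inv_mem_of_algebraic (A := ψ.range) (x := ⟨_, hB s⟩) (halg _ (hB s))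
    exact this
  constructor
  intro y
  exact (isSepElem_iff_isSeparable y).mp (hsep y (hall y))

end Groth.Agent.S1974
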