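import Groth.Statements.S1964
import Groth.Agent.Lib.Helper26.HenselLocal

set_option autoImplicit false
universe u
open EtAlg

namespace Groth.Agent.S1964

open IsLocalRing Polynomial

/-- The residue field extension of an integral local homomorphism is algebraic. -/
theorem isAlgebraic_residueField (A B : Type u) [CommRing A] [IsLocalRing A] [CommRing B]
    [IsLocalRing B] [Algebra A B] [IsLocalHom (algebraMap A B)] [Algebra.IsIntegral A B] :
    letI := (IsLocalRing.ResidueField.map (algebraMap A B)).toAlgebra
    Algebra.IsAlgebraic (ResidueField A) (ResidueField B) := by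
  letI := (IsLocalRing.ResidueField.map (algebraMap A B)).toAlgebra
  haveI : Algebra.IsIntegral (ResidueField A) (ResidueField B) := by
    constructor
    intro x
    obtain ⟨b, rfl⟩ := IsLocalRing.residue_surjective x
    obtain ⟨f, hf, hfb⟩ := Algebra.IsIntegral.isIntegral (R := A) b
    refine ⟨f.map (residue A), hf.map _, ?_⟩
    rw [Polynomial.eval₂_map, RingHom.algebraMap_toAlgebra,
      IsLocalRing.ResidueField.map_comp_residue, ← Polynomial.hom_eval₂, hfb, map_zero]
  exact Algebra.IsIntegral.isAlgebraic

/-- A domain B integral over a henselian local ring A is itself henselian local, and the structure map A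
-> B is local; if the residue field of A is separably closed, so is that of B, and the residue field
extension is purely inseparable. -/
theorem result (A B : Type u) [CommRing A] [HenselianLocalRing A] [CommRing B]
    [IsDomain B] [Algebra A B] [Algebra.IsIntegral A B] :
    ∃ _ : HenselianLocalRing B, IsLocalHom (algebraMap A B) ∧
      (IsSepClosed (IsLocalRing.ResidueField A) →
        IsSepClosed (IsLocalRing.ResidueField B) ∧
        ∀ _ : IsLocalHom (algebraMap A B),
          letI := (IsLocalRing.ResidueField.map (algebraMap A B)).toAlgebra
          IsPurelyInseparable (IsLocalRing.ResidueField A) (IsLocalRing.ResidueField B)) := by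
  have hH : HenselianLocalRing B :=
    Groth.Agent.Lib.Helper26.HenselLocal.henselianLocalRing_of_isIntegral A B
  refine ⟨hH, Groth.Agent.Lib.Helper26.HenselLocal.isLocalHom_of_isIntegral A B, ?_⟩
  intro hsep
  haveI hloc : IsLocalHom (algebraMap A B) :=
    Groth.Agent.Lib.Helper26.HenselLocal.isLocalHom_of_isIntegral A B
  letI := (IsLocalRing.ResidueField.map (algebraMap A B)).toAlgebra
  haveI := hsep
  haveI : Algebra.IsAlgebraic (ResidueField A) (ResidueField B) :=
    isAlgebraic_residueField A B
  refine ⟨Algebra.IsAlgebraic.isSepClosed (F := ResidueField A), ?_⟩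
  intro _
  infer_instance

end Groth.Agent.S1964
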