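import Groth.Statements.S7143
import Mathlib

set_option autoImplicit false
universe u
open CategoryTheory
open EtAlg

namespace Groth.Agent.S7143

/-- In a valuation ring, a nonempty finite family has a member dividing all the others. -/
lemma exists_dvd_all {O : Type*} [CommRing O] [IsDomain O] [ValuationRing O] :
    ∀ {l : ℕ} (x : Fin (l + 1) → O), ∃ i, ∀ j, x i ∣ x j := by
  intro l
  induction l with
  | zero =>
    intro x
    exact ⟨0, fun j => Fin.cases (dvd_refl _) (fun j' => j'.elim0) j⟩
  | succ l ih =>
    intro x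
    obtain ⟨i₀, hi₀⟩ := ih (fun j => x j.succ)
    rcases ValuationRing.dvd_total (x 0) (x i₀.succ) with h | h
    · refine ⟨0, fun j => ?_⟩
      exact Fin.cases (dvd_refl _) (fun j' => h.trans (hi₀ j')) j
    · refine ⟨i₀.succ, fun j => ?_⟩
      exact Fin.cases h (fun j' => hi₀ j') j

/-- Every ideal of a product of valuation rings is flat (equational criterion). -/
lemma flat_ideal_pi {ι : Type u} (O : ι → Type u) [∀ i, CommRing (O i)] [∀ i, IsDomain (O i)]
    [∀ i, ValuationRing (O i)] (I : Ideal (∀ i, O i)) : Module.Flat (∀ i, O i) I := by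
  classical
  apply Module.Flat.of_forall_isTrivialRelation
  intro l f x hsum
  rcases Nat.eq_zero_or_pos l with rfl | hl
  · exact ⟨0, fun i => i.elim0, fun j => j.elim0, fun i => i.elim0, fun j => j.elim0⟩
  obtain ⟨l, rfl⟩ : ∃ l', l = l' + 1 := ⟨l - 1, by omega⟩
  have hex : ∀ i : ι, ∃ m : Fin (l + 1), ∀ j, (x m : ∀ i, O i) i ∣ (x j : ∀ i, O i) i :=
    fun i => exists_dvd_all (fun j => (x j : ∀ i, O i) i)
  choose m hm using hex
  have hm' : ∀ i j, ∃ c : O i, (x j : ∀ i, O i) i = (x (m i) : ∀ i, O i) i * c := fun i j => hm i j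
  choose c hc using hm'
  have hy : (fun i => (x (m i) : ∀ i, O i) i) ∈ I := by
    have : (fun i => (x (m i) : ∀ i, O i) i) =
        ∑ j, (fun i => if m i = j then (1 : O i) else 0) * (x j : ∀ i, O i) := by
      funext i
      rw [Finset.sum_apply]
      simp only [Pi.mul_apply, ite_mul, one_mul, zero_mul]
      rw [Finset.sum_ite_eq]
      simp
    rw [this]
    exact I.sum_mem (fun j _ => I.mul_mem_left _ (x j).2)
  have hsum' : ∀ i, ∑ j, f j i * (x j : ∀ i, O i) i = 0 := by
    intro i
    have := congrFun (congrArg Subtype.val hsum) i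
    simpa [Finset.sum_apply] using this
  refine ⟨1, fun j _ i => if (x (m i) : ∀ i, O i) i = 0 then 0 else c i j,
    fun _ => ⟨fun i => (x (m i) : ∀ i, O i) i, hy⟩, ?_, ?_⟩
  · intro j
    rw [Fin.sum_univ_one]
    apply Subtype.ext
    funext i
    change (x j : ∀ i, O i) i =
      (if (x (m i) : ∀ i, O i) i = 0 then 0 else c i j) * (x (m i) : ∀ i, O i) i
    by_cases h0 : (x (m i) : ∀ i, O i) i = 0
    · rw [if_pos h0, zero_mul, hc i j, h0, zero_mul]
    · rw [if_neg h0, mul_comm]
      exact hc i j
  · intro _
    funext i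
    rw [Finset.sum_apply]
    simp only [Pi.mul_apply, Pi.zero_apply]
    by_cases h0 : (x (m i) : ∀ i, O i) i = 0
    · simp [h0]
    · simp only [if_neg h0]
      have h1 : (∑ j, f j i * c i j) * (x (m i) : ∀ i, O i) i = 0 := by
        rw [Finset.sum_mul, ← hsum' i]
        refine Finset.sum_congr rfl (fun j _ => ?_)
        rw [hc i j]
        ring
      exact (mul_eq_zero.mp h1).resolve_right h0

section construction

variable (A K : Type u) [CommRing A] [Field K] [Algebra A K]

/-- Valuation subrings of `K` containing the image of `A`. -/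
abbrev Idx : Type u := {O : ValuationSubring K // ∀ a : A, algebraMap A K a ∈ O}

/-- The product of all valuation rings of `K` containing `A`. -/
abbrev VV : Type u := ∀ O : Idx A K, O.1

/-- The product of copies of `K`. -/
abbrev LL : Type u := Idx A K → K

/-- `A → ∏ O`. -/
noncomputable def fMap : A →+* VV A K :=
  RingHom.pi (fun O => (algebraMap A K).codRestrict O.1 (fun a => O.2 a))

/-- `∏ O → ∏ K`. -/
noncomputable def gMap : VV A K →+* LL A K :=
  RingHom.pi (fun O => (O.1.subtype).comp (Pi.evalRingHom (fun O : Idx A K => O.1) O))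

/-- The diagonal `K → ∏ K`. -/
noncomputable def hMap : K →+* LL A K := RingHom.pi (fun _ => RingHom.id K)

@[simp] lemma gMap_apply (v : VV A K) (O : Idx A K) : gMap A K v O = (v O : K) := rfl

/-- The elements with all components nonzero. -/
def SS : Submonoid (VV A K) where
  carrier := {v | ∀ O, v O ≠ 0}
  one_mem' := fun _ => one_ne_zero
  mul_mem' := fun ha hb O => mul_ne_zero (ha O) (hb O)

open Classical in
/-- numerator -/
noncomputable def num (z : LL A K) : VV A K :=
  fun O => if hz : z O ∈ O.1 then ⟨z O, hz⟩ else 1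

open Classical in
/-- denominator -/
noncomputable def den (z : LL A K) : VV A K :=
  fun O => if hz : z O ∈ O.1 then 1
    else ⟨(z O)⁻¹, (O.1.mem_or_inv_mem (z O)).resolve_left hz⟩

lemma den_ne_zero (z : LL A K) (O : Idx A K) : den A K z O ≠ 0 := by
  unfold den
  split_ifs with hz
  · exact one_ne_zero
  · intro h0
    have h1 : (z O)⁻¹ = 0 := congrArg Subtype.val h0
    rw [inv_eq_zero] at h1
    exact hz (h1 ▸ O.1.zero_mem)

lemma mul_den (z : LL A K) (O : Idx A K) : z O * (den A K z O : K) = (num A K z O : K) := by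
  unfold den num
  split_ifs with hz
  · simp
  · have hne : z O ≠ 0 := fun h0 => hz (h0 ▸ O.1.zero_mem)
    simp [hne]

lemma isLoc :
    letI : Algebra (VV A K) (LL A K) := (gMap A K).toAlgebra
    IsLocalization (SS A K) (LL A K) := by
  letI : Algebra (VV A K) (LL A K) := (gMap A K).toAlgebra
  rw [isLocalization_iff]
  refine ⟨?_, ?_, ?_⟩
  · rintro ⟨s, hs⟩
    have hs' : ∀ O, s O ≠ 0 := hs
    rw [Pi.isUnit_iff]
    intro O
    exact (show ((s O : K)) ≠ 0 from fun h0 => hs' O (Subtype.ext h0)).isUnit
  · intro z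
    refine ⟨⟨num A K z, ⟨den A K z, fun O => den_ne_zero A K z O⟩⟩, ?_⟩
    funext O
    exact mul_den A K z O
  · intro v w hvw
    refine ⟨1, ?_⟩
    have : v = w := funext fun O => Subtype.ext (congrFun hvw O)
    rw [this]

end construction

lemma range_icl (A K : Type u) [CommRing A] [IsDomain A] [Field K] [Algebra A K]
    [IsFractionRing A K] [IsIntegrallyClosed A] :
    IsIntegrallyClosedIn (algebraMap A K).range K := by
  rw [Subring.isIntegrallyClosedIn_iff]
  intro x hx
  letI : Algebra A (algebraMap A K).range := (algebraMap A K).rangeRestrict.toAlgebra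
  haveI : IsScalarTower A (algebraMap A K).range K :=
    IsScalarTower.of_algebraMap_eq (fun a => rfl)
  haveI : Algebra.IsIntegral A (algebraMap A K).range :=
    Algebra.isIntegral_of_surjective (algebraMap A K).rangeRestrict_surjective
  have hxA : IsIntegral A x := isIntegral_trans x hx
  obtain ⟨y, rfl⟩ := IsIntegrallyClosed.isIntegral_iff.mp hxA
  exact ⟨y, rfl⟩


/-- Every normal domain A with fraction field K is the fibre product V ×_L K for suitable rings V and L
with maps A → V, V → L, K → L (together with the given A → K), where every ideal of V is flat (weak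
dimension at most one) and V → L is flat, injective and an epimorphism of rings. -/
theorem result (A K : Type u) [CommRing A] [IsDomain A] [Field K] [Algebra A K]
    [IsFractionRing A K] [IsIntegrallyClosed A] :
    ∃ (V L : Type u) (_ : CommRing V) (_ : CommRing L) (f : A →+* V) (g : V →+* L) (h : K →+* L),
      g.comp f = h.comp (algebraMap A K) ∧
      (∀ I : Ideal V, Module.Flat V I) ∧ g.Flat ∧ Function.Injective g ∧ Epi (CommRingCat.ofHom g) ∧
      ∀ (v : V) (k : K), g v = h k → ∃! a : A, f a = v ∧ algebraMap A K a = k := by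
  refine ⟨VV A K, LL A K, inferInstance, inferInstance, fMap A K, gMap A K, hMap A K,
    ?_, ?_, ?_, ?_, ?_, ?_⟩
  · exact RingHom.ext fun a => funext fun O => rfl
  · intro I
    exact flat_ideal_pi (fun O : Idx A K => O.1) I
  · letI : Algebra (VV A K) (LL A K) := (gMap A K).toAlgebra
    haveI : IsLocalization (SS A K) (LL A K) := isLoc A K
    exact IsLocalization.flat (LL A K) (SS A K)
  · exact fun v w hvw => funext fun O => Subtype.ext (congrFun hvw O)
  · letI : Algebra (VV A K) (LL A K) := (gMap A K).toAlgebra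
    haveI : IsLocalization (SS A K) (LL A K) := isLoc A K
    exact IsLocalization.epi (SS A K) (LL A K)
  · intro v k hvk
    have hk : k ∈ (algebraMap A K).range := by
      by_contra hk
      haveI : IsIntegrallyClosedIn (algebraMap A K).range K := range_icl A K
      obtain ⟨W, hW, hkW⟩ := Subring.exists_le_valuationSubring_of_isIntegrallyClosedIn hk
      have h1 : ((v ⟨W, fun a => hW ⟨a, rfl⟩⟩ : W) : K) = k :=
        congrFun hvk ⟨W, fun a => hW ⟨a, rfl⟩⟩
      exact hkW (h1 ▸ (v ⟨W, fun a => hW ⟨a, rfl⟩⟩).2)
    obtain ⟨a, rfl⟩ := hk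
    refine ⟨a, ⟨?_, rfl⟩, fun b hb => IsFractionRing.injective A K hb.2⟩
    funext O
    exact Subtype.ext (congrFun hvk O).symm

end Groth.Agent.S7143
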