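import Groth.Statements.S0693
import Mathlib
import Groth.Agent.Lib.Helper8.IndEtRetr
import Groth.Agent.Lib.Helper8.IndEtDesc
import Groth.Agent.Lib.Helper8.Hzl.IndEtaleCat

set_option autoImplicit false
open CategoryTheory CategoryTheory.Limits AlgebraicGeometry Opposite Topology
universe u
open ProEtW

namespace Groth.Agent.S0693

/-- Every ring A admits a faithfully flat ind-etale extension C over which all faithfully flat etale
algebras have retractions. -/
theorem result (A : Type u) [CommRing A] :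
    ∃ (C : Type u) (_ : CommRing C) (_ : Algebra A C),
      Module.FaithfullyFlat A C ∧ EtPBC.IsIndEtale A C ∧ ProEtW.HasEtaleRetractions C := by

  classical
  -- the target: product of separable closures of all residue fields
  let K : PrimeSpectrum A → Type u := fun x => SeparableClosure x.asIdeal.ResidueField
  have hkerK : ∀ x : PrimeSpectrum A, RingHom.ker (algebraMap A (K x)) = x.asIdeal := by
    intro x
    rw [IsScalarTower.algebraMap_eq A x.asIdeal.ResidueField (K x), ← RingHom.comap_ker,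
      (RingHom.injective_iff_ker_eq_bot _).mp (algebraMap x.asIdeal.ResidueField (K x)).injective,
      ← RingHom.ker_eq_comap_bot, Ideal.ker_algebraMap_residueField]
  refine ⟨Groth.Agent.Lib.Helper8.IndEt.Colim A (∀ x, K x), inferInstance, inferInstance, ?_,
    Groth.Agent.Lib.Helper8.IndEt.isIndEtale_colim, ?_⟩
  · -- faithfully flat
    haveI : Algebra.WeaklyEtale A (Groth.Agent.Lib.Helper8.IndEt.Colim A (∀ x, K x)) :=
      Groth.Agent.Lib.Helper8.Hzl.weaklyEtale_of_isIndEtale _ _
        Groth.Agent.Lib.Helper8.IndEt.isIndEtale_colim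
    apply Module.FaithfullyFlat.of_comap_surjective
    intro x
    let g : Groth.Agent.Lib.Helper8.IndEt.Colim A (∀ x, K x) →ₐ[A] K x :=
      (Pi.evalAlgHom A K x).comp Groth.Agent.Lib.Helper8.IndEt.colimπ
    refine ⟨⟨RingHom.ker g.toRingHom, RingHom.ker_isPrime _⟩, ?_⟩
    ext a
    change g (algebraMap A _ a) = 0 ↔ a ∈ x.asIdeal
    rw [g.commutes]
    have := hkerK x
    constructor
    · intro h0
      rw [← this]
      exact h0
    · intro h0
      rw [← this] at h0
      exact h0
  · intro F _ _ hff het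
    have hstarC := Groth.Agent.Lib.Helper8.IndEt.indEtaleStar_of_isIndEtale
      (Groth.Agent.Lib.Helper8.IndEt.isIndEtale_colim (A := A) (B := ∀ x, K x))
    obtain ⟨X, F₁, _, _, _, ⟨ε⟩⟩ := Groth.Agent.Lib.Helper8.IndEt.exists_etale_model hstarC F
    letI : Algebra X.E (Groth.Agent.Lib.Helper8.IndEt.Colim A (∀ x, K x)) := X.φ.toAlgebra
    let β : X.E →ₐ[A] (∀ x, K x) := Groth.Agent.Lib.Helper8.IndEt.colimπ.comp X.φ
    letI algK : ∀ x, Algebra X.E (K x) := fun x =>
      ((Pi.evalRingHom K x).comp β.toRingHom).toAlgebra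
    have hβ : ∀ r : X.E, algebraMap X.E (∀ x, K x) r = β r := fun r => rfl
    -- points of `F₁` over each `x`
    have hpt : ∀ x : PrimeSpectrum A, Nonempty (F₁ →ₐ[X.E] K x) := by
      intro x
      let g : Groth.Agent.Lib.Helper8.IndEt.Colim A (∀ x, K x) →ₐ[A] K x :=
        (Pi.evalAlgHom A K x).comp Groth.Agent.Lib.Helper8.IndEt.colimπ
      obtain ⟨P', hP'⟩ := PrimeSpectrum.comap_surjective_of_faithfullyFlat
        (A := Groth.Agent.Lib.Helper8.IndEt.Colim A (∀ x, K x)) (B := F)
        ⟨RingHom.ker g.toRingHom, RingHom.ker_isPrime _⟩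
      let j : F₁ →+* F := ε.toAlgHom.toRingHom.comp
        (Algebra.TensorProduct.includeRight (R := X.E)
          (A := Groth.Agent.Lib.Helper8.IndEt.Colim A (∀ x, K x)) (B := F₁)).toRingHom
      have hj : ∀ r : X.E, j (algebraMap X.E F₁ r) = algebraMap _ F (X.φ r) := by
        intro r
        change ε ((1 : Groth.Agent.Lib.Helper8.IndEt.Colim A (∀ x, K x)) ⊗ₜ[X.E]
          (algebraMap X.E F₁ r)) = _
        rw [← Algebra.TensorProduct.tmul_one_eq_one_tmul, ← ε.commutes,
          Algebra.TensorProduct.algebraMap_apply, Algebra.algebraMap_self_apply]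
        rfl
      refine Groth.Agent.Lib.Helper8.IndEt.exists_algHom_sepClosed (P'.asIdeal.comap j) ?_
      ext r
      change j (algebraMap X.E F₁ r) ∈ P'.asIdeal ↔ (β r) x = 0
      rw [hj]
      have h1 := congrArg PrimeSpectrum.asIdeal hP'
      change Ideal.comap (algebraMap _ F) P'.asIdeal = RingHom.ker g.toRingHom at h1
      have h2 : algebraMap _ F (X.φ r) ∈ P'.asIdeal ↔ X.φ r ∈ RingHom.ker g.toRingHom := by
        rw [← h1]; rfl
      rw [h2]
      rfl
    choose γx _ using fun x => (⟨(hpt x).some, trivial⟩ : ∃ _ : F₁ →ₐ[X.E] K x, True)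
    let γ : F₁ →ₐ[X.E] (∀ x, K x) := Pi.algHom X.E K γx
    letI : Algebra A F₁ := ((algebraMap X.E F₁).comp (algebraMap A X.E)).toAlgebra
    haveI : IsScalarTower A X.E F₁ := ⟨fun a r b => by
      rw [Algebra.smul_def (a • r) b, Algebra.smul_def a (r • b), Algebra.smul_def r b,
        Algebra.smul_def a r, map_mul, mul_assoc]
      rfl⟩
    haveI : Algebra.Etale A F₁ := Algebra.Etale.comp A X.E F₁
    haveI : IsScalarTower A X.E (∀ x, K x) := ⟨fun a r b => by
      rw [Algebra.smul_def (a • r) b, Algebra.smul_def a (r • b), Algebra.smul_def r b,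
        Algebra.smul_def a r, map_mul, mul_assoc, hβ, β.commutes]⟩
    let γA : F₁ →ₐ[A] (∀ x, K x) := γ.restrictScalars A
    obtain ⟨Y, eY, heY⟩ := Groth.Agent.Lib.Helper8.IndEt.EtOver.exists_realize F₁ γA
    let ι : F₁ →ₐ[A] Groth.Agent.Lib.Helper8.IndEt.Colim A (∀ x, K x) :=
      (Groth.Agent.Lib.Helper8.IndEt.colimι Y).comp eY.symm.toAlgHom
    have hπι : ∀ z : F₁, Groth.Agent.Lib.Helper8.IndEt.colimπ (ι z) = γ z := by
      intro z
      change Groth.Agent.Lib.Helper8.IndEt.colimπ
        (Groth.Agent.Lib.Helper8.IndEt.colimι Y (eY.symm z)) = _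
      rw [Groth.Agent.Lib.Helper8.IndEt.colimπ_ι, ← heY]
      simp only [AlgHom.comp_apply, AlgEquiv.coe_toAlgHom, AlgEquiv.apply_symm_apply]
      rfl
    -- `ι` is `X.E`-linear
    have hιX : ∀ r : X.E, ι (algebraMap X.E F₁ r) = X.φ r := by
      obtain ⟨W, eW, heW⟩ := Groth.Agent.Lib.Helper8.IndEt.EtOver.exists_realize X.E β
      have h1 : Groth.Agent.Lib.Helper8.IndEt.colimι W = X.φ.comp eW.toAlgHom := by
        apply Groth.Agent.Lib.Helper8.IndEt.colimι_eq
        rw [← heW]
        rfl
      have h2 : Groth.Agent.Lib.Helper8.IndEt.colimι W =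
          (ι.comp (IsScalarTower.toAlgHom A X.E F₁)).comp eW.toAlgHom := by
        apply Groth.Agent.Lib.Helper8.IndEt.colimι_eq
        rw [← heW]
        ext w
        simp only [AlgHom.comp_apply, AlgEquiv.coe_toAlgHom, IsScalarTower.coe_toAlgHom']
        rw [hπι, γ.commutes, hβ]
      intro r
      have h3 := AlgHom.congr_fun (h1.symm.trans h2) (eW.symm r)
      simp only [AlgHom.comp_apply, AlgEquiv.coe_toAlgHom, AlgEquiv.apply_symm_apply,
        IsScalarTower.coe_toAlgHom'] at h3
      exact h3.symm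
    let ι' : F₁ →ₐ[X.E] Groth.Agent.Lib.Helper8.IndEt.Colim A (∀ x, K x) :=
      { ι with commutes' := hιX }
    exact ⟨(Algebra.TensorProduct.lift (AlgHom.id _ _) ι' (fun _ _ => Commute.all _ _)).comp
      ε.symm.toAlgHom⟩


end Groth.Agent.S0693
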