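import Groth.Statements.S3433
import Groth.Agent.Lib.Helper6.ArtinTate

set_option autoImplicit false
universe u
open EGA43

namespace Groth.Agent.S3433

open Groth.Agent.Lib.Helper6

/-- Let A be a Noetherian local ring with maximal ideal m and let Y be the punctured spectrum Spec A ∖
{m}. Then Y is a Jacobson space, and a point p of Y is closed in Y if and only if dim A/p = 1. -/
theorem result (A : Type u) [CommRing A] [IsNoetherianRing A] [IsLocalRing A] :
    JacobsonSpace ↥({IsLocalRing.closedPoint A}ᶜ : Set (PrimeSpectrum A)) ∧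
      ∀ p : ↥({IsLocalRing.closedPoint A}ᶜ : Set (PrimeSpectrum A)),
        IsClosed ({p} : Set ↥({IsLocalRing.closedPoint A}ᶜ : Set (PrimeSpectrum A))) ↔
          ringKrullDim (A ⧸ p.1.asIdeal) = 1 := by
  constructor
  · refine jacobsonSpace_compl.{u, u} (X := PrimeSpectrum A) ?_
      (IsLocalRing.isClosed_singleton_closedPoint A) ?_
    · intro x
      exact ⟨Set.univ, isOpen_univ, trivial, A, inferInstance, inferInstance,
        ⟨Homeomorph.Set.univ _⟩⟩
    · intro Z hZ ⟨z, hz⟩
      exact ⟨IsLocalRing.closedPoint A,
        (IsLocalRing.specializes_closedPoint z).mem_closed hZ hz, rfl⟩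
  · intro p
    have hpne : p.1 ≠ IsLocalRing.closedPoint A := p.2
    have hplt : p.1.asIdeal < IsLocalRing.maximalIdeal A := by
      refine lt_of_le_of_ne (IsLocalRing.le_maximalIdeal p.1.2.ne_top) ?_
      intro h
      exact hpne (PrimeSpectrum.ext h)
    -- closedness in the punctured spectrum in terms of specializations
    have hclosed_iff : IsClosed ({p} : Set ↥({IsLocalRing.closedPoint A}ᶜ : Set (PrimeSpectrum A))) ↔
        ∀ 𝔮 : Ideal A, 𝔮.IsPrime → p.1.asIdeal < 𝔮 → 𝔮.IsMaximal := by
      rw [← closure_subset_iff_isClosed]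
      constructor
      · intro hcl 𝔮 h𝔮 hlt
        by_contra hnm
        have hqne : (⟨𝔮, h𝔮⟩ : PrimeSpectrum A) ≠ IsLocalRing.closedPoint A := by
          intro h
          apply hnm
          have : 𝔮 = IsLocalRing.maximalIdeal A := congrArg PrimeSpectrum.asIdeal h
          rw [this]
          exact IsLocalRing.maximalIdeal.isMaximal A
        have hspec : p.1 ⤳ (⟨𝔮, h𝔮⟩ : PrimeSpectrum A) :=
          (PrimeSpectrum.le_iff_specializes _ _).mp hlt.le
        have hmem : (⟨⟨𝔮, h𝔮⟩, hqne⟩ : ↥({IsLocalRing.closedPoint A}ᶜ : Set (PrimeSpectrum A))) ∈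
            closure {p} := by
          rw [← specializes_iff_mem_closure, subtype_specializes_iff]
          exact hspec
        have := hcl hmem
        rw [Set.mem_singleton_iff] at this
        have h2 : 𝔮 = p.1.asIdeal := congrArg (fun x => x.1.asIdeal) this
        exact hlt.ne h2.symm
      · intro H q hq
        rw [← specializes_iff_mem_closure, subtype_specializes_iff,
          ← PrimeSpectrum.le_iff_specializes] at hq
        rw [Set.mem_singleton_iff]
        by_contra hne
        have hlt : p.1.asIdeal < q.1.asIdeal :=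
          lt_of_le_of_ne hq (fun h => hne (Subtype.ext (PrimeSpectrum.ext h.symm)))
        have hmax := H q.1.asIdeal q.1.2 hlt
        have : q.1.asIdeal = IsLocalRing.maximalIdeal A := IsLocalRing.eq_maximalIdeal hmax
        exact q.2 (PrimeSpectrum.ext this)
    rw [hclosed_iff, ← krullDimLE_one_quotient_iff]
    constructor
    · intro hdim
      exact le_antisymm (by simpa using Ring.krullDimLE_iff.mp hdim) (one_le_ringKrullDim_quotient _ hplt)
    · intro hdim
      exact Ring.krullDimLE_iff.mpr (by simpa using le_of_eq hdim)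

end Groth.Agent.S3433
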