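import Groth.Statements.S10191
import Groth.Agent.Lib.Helper16.Charts
import Mathlib.AlgebraicGeometry.Morphisms.Immersion
import Mathlib.Topology.LocallyClosed

set_option autoImplicit false
universe u
open CategoryTheory CategoryTheory.Limits AlgebraicGeometry Topology TopologicalSpace
open AlgSp

namespace Groth.Agent.S10191

theorem isEmbedding_of_cartesian {U V Z Q : Type*} [TopologicalSpace U] [TopologicalSpace V]
    [TopologicalSpace Z] [TopologicalSpace Q]
    (π : U → Q) (β : V → Z) (ι : V → U) (f : Z → Q)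
    (hπo : IsOpenMap π) (hπc : Continuous π) (hπs : Function.Surjective π) (hβ : Continuous β)
    (hι : IsEmbedding ι) (hιlc : IsLocallyClosed (Set.range ι)) (hf : Continuous f)
    (comm : ∀ v, f (β v) = π (ι v)) (cart : ∀ z u, f z = π u → ∃ v, β v = z ∧ ι v = u) :
    IsEmbedding f ∧ IsLocallyClosed (Set.range f) := by
  have hinj : Function.Injective f := by
    intro z₁ z₂ h
    obtain ⟨u, hu⟩ := hπs (f z₁)
    obtain ⟨v₁, hv₁, hv₁'⟩ := cart z₁ u hu.symm
    obtain ⟨v₂, hv₂, hv₂'⟩ := cart z₂ u (h ▸ hu.symm)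
    have : v₁ = v₂ := hι.injective (hv₁'.trans hv₂'.symm)
    rw [← hv₁, ← hv₂, this]
  have hpre : ∀ C : Set Z, π ⁻¹' (f '' C) = ι '' (β ⁻¹' C) := by
    intro C
    ext u
    constructor
    · rintro ⟨z, hz, hzu⟩
      obtain ⟨v, hv, hv'⟩ := cart z u hzu
      refine ⟨v, ?_, hv'⟩
      rw [Set.mem_preimage, hv]
      exact hz
    · rintro ⟨v, hv, rfl⟩
      exact ⟨β v, hv, comm v⟩
  have hq : IsQuotientMap π := hπo.isQuotientMap hπc hπs
  refine ⟨⟨⟨?_⟩, hinj⟩, ?_⟩
  · apply le_antisymm
    · exact continuous_iff_le_induced.1 hf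
    · intro W hW
      rw [isOpen_induced_iff]
      refine ⟨(closure (f '' Wᶜ))ᶜ, isClosed_closure.isOpen_compl, ?_⟩
      ext z
      simp only [Set.mem_preimage, Set.mem_compl_iff]
      constructor
      · intro hz
        by_contra hzW
        exact hz (subset_closure ⟨z, hzW, rfl⟩)
      · intro hzW hz
        obtain ⟨u, hu⟩ := hπs (f z)
        obtain ⟨v, hv, hv'⟩ := cart z u hu.symm
        have h1 : u ∈ π ⁻¹' closure (f '' Wᶜ) := by
          rw [Set.mem_preimage, hu]
          exact hz
        rw [hπo.preimage_closure_eq_closure_preimage hπc, hpre] at h1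
        have h2 : v ∈ closure (β ⁻¹' Wᶜ) := by
          rw [hι.isInducing.closure_eq_preimage_closure_image, Set.mem_preimage, hv']
          exact h1
        have h3 : IsClosed (β ⁻¹' Wᶜ) := (hW.isClosed_compl).preimage hβ
        rw [h3.closure_eq] at h2
        have h4 : β v ∉ W := h2
        rw [hv] at h4
        exact h4 hzW
  · rw [isLocallyClosed_iff_isOpen_coborder, ← hq.isOpen_preimage, ← coborder_preimage hπo hπc]
    have : π ⁻¹' Set.range f = Set.range ι := by
      rw [← Set.image_univ, hpre, Set.preimage_univ, Set.image_univ]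
    rw [this]
    exact hιlc.isOpen_coborder

/-- Let i : Z ⟶ X be an immersion of algebraic spaces over a scheme S (a morphism representable by
immersions of schemes). Then |i| : |Z| → |X| is a homeomorphism onto its image, and this image is a
locally closed subset of |X|. -/
theorem result {S : Scheme.{u}} {Z X : AlgSp.Space S} (i : Z ⟶ X)
    (hi : AlgSp.RepWith @IsImmersion i.hom) :
    IsEmbedding (AlgSp.Points.map i.hom) ∧ IsLocallyClosed (Set.range (AlgSp.Points.map i.hom)) := by
  obtain ⟨U, p, hpe, hps⟩ := X.property.atlas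
  have sq := hi.rep.isPullback p
  haveI him : IsImmersion (hi.rep.snd p).left := hi.property_snd p
  have comm : ∀ v, AlgSp.Points.map i.hom (AlgSp.Points.ofPt (hi.rep.fst p) v) =
      AlgSp.Points.ofPt p ((hi.rep.snd p).left v) := by
    intro v
    rw [AlgSp.Points.map_ofPt, sq.w, Groth.Agent.Lib.Helper16.ofPt_yon_map_comp]
  exact isEmbedding_of_cartesian (AlgSp.Points.ofPt p) (AlgSp.Points.ofPt (hi.rep.fst p))
    (fun v => (hi.rep.snd p).left v) (AlgSp.Points.map i.hom)
    (Groth.Agent.Lib.Helper16.isOpenMap_ofPt_of_etale p hpe) (AlgSp.Points.continuous_ofPt p)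
    (Groth.Agent.Lib.Helper16.ofPt_surjective_of_surjective p hps)
    (AlgSp.Points.continuous_ofPt _) (hi.rep.snd p).left.isEmbedding
    (hi.rep.snd p).left.isLocallyClosed_range
    (AlgSp.Points.continuous_map i.hom) comm
    (fun z u h => by
      obtain ⟨v, hv1, hv2⟩ := Groth.Agent.Lib.Helper16.exists_point_of_isPullback_yon sq z u h
      exact ⟨v, hv1, hv2⟩)

end Groth.Agent.S10191
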