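import Groth.Statements.S9937
import Groth.Agent.Lib.Helper16.Diagonal
open Groth.Agent.Lib.Helper16

set_option autoImplicit false
universe u
open CategoryTheory CategoryTheory.Limits AlgebraicGeometry
open AlgSp

namespace Groth.Agent.S9937

/-- Closed immersions between algebraic spaces are separated morphisms. -/
theorem result {S : Scheme.{u}} {X Y : AlgSp.Space S} (f : X ⟶ Y)
    (hf : AlgSp.RepWith @IsClosedImmersion f.hom) : AlgSp.IsSeparatedMor f.hom := by
  have hmono : Mono f.hom := mono_of_repWith (P := @IsClosedImmersion)
    (fun _ _ g hg => by
      haveI : IsClosedImmersion g := hg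
      exact (MorphismProperty.monomorphisms.iff g).2 inferInstance) f.hom hf
  haveI : (RepWith (S := S) @IsClosedImmersion).RespectsIso := MorphismProperty.IsStableUnderBaseChange.respectsIso
  exact (RepWith (S := S) @IsClosedImmersion).of_isIso (pullback.diagonal f.hom)

end Groth.Agent.S9937
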