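import Groth.Statements.S10277
import Mathlib
import Groth.Agent.S9937
import Groth.Agent.S9953
import Groth.Agent.S9936
import Groth.Agent.S9922
import Groth.Agent.Lib.Helper16.FppfLocal2

set_option autoImplicit false
universe u
open CategoryTheory CategoryTheory.Limits AlgebraicGeometry
open AlgSp

namespace Groth.Agent.S10277

/-- A closed immersion of algebraic spaces is proper. -/
theorem result {S : Scheme.{u}} {X Y : AlgSp.Space S} (i : X ⟶ Y)
    (hi : AlgSp.RepWith @IsClosedImmersion i.hom) : AlgSp.IsProperMor i.hom := by
  refine ⟨Groth.Agent.S9937.result i hi, ⟨Groth.Agent.S9953.result i ?_, Groth.Agent.S9936.result i hi⟩, ?_⟩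
  · refine Groth.Agent.Lib.Helper16.repWith_mono ?_ _ hi
    intro A B g hg
    have : IsClosedImmersion g := hg
    exact (inferInstance : IsImmersion g)
  · refine (Groth.Agent.S9922.result i hi.rep).1 ?_
    refine Groth.Agent.Lib.Helper16.repWith_mono ?_ _ hi
    intro A B g hg
    have : IsClosedImmersion g := hg
    exact (inferInstance : UniversallyClosed g)

end Groth.Agent.S10277
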