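import Groth.Statements.S10280
import Mathlib
import Groth.Agent.Lib.Helper17.AlgSpProper
import Groth.Agent.S9900
import Groth.Agent.S10277

set_option autoImplicit false
universe u
open CategoryTheory CategoryTheory.Limits AlgebraicGeometry
open AlgSp

namespace Groth.Agent.S10280

/-- F is separated if and only if its diagonal is universally closed, if and only if its diagonal is
proper. -/
theorem result {S : Scheme.{u}} {X Y : AlgSp.Space S} (f : X ⟶ Y) :
    (AlgSp.IsSeparatedMor f.hom ↔ AlgSp.IsUnivClosedMor (pullback.diagonal f.hom)) ∧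
    (AlgSp.IsSeparatedMor f.hom ↔ AlgSp.IsProperMor (pullback.diagonal f.hom)) := by
  obtain ⟨hrep, hlft, hmono, -, -⟩ := Groth.Agent.S9900.result f
  have key : IsUnivClosedMor (pullback.diagonal f.hom) → IsSeparatedMor f.hom := by
    intro hΔ
    have huc : RepWith @UniversallyClosed (pullback.diagonal f.hom) :=
      (Groth.Agent.Lib.Helper16.repWith_universallyClosed_iff _ hrep).2 hΔ
    refine ⟨hrep, fun T W t fst snd sq => ?_⟩
    have h1 : UniversallyClosed snd.left := huc.property _ _ _ sq
    have h2 : LocallyOfFiniteType snd.left := hlft.property _ _ _ sq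
    have h3 : Mono snd.left := hmono.property _ _ _ sq
    have h4 : IsProper snd.left := { }
    exact (IsClosedImmersion.iff_isProper_and_mono snd.left).2 ⟨h4, h3⟩
  have hP : IsAlgSpace (pullback f.hom f.hom) :=
    Groth.Agent.Lib.Helper16.isAlgSpace_of_isPullback X.property Y.property.diag X.property
      (IsPullback.of_hasPullback f.hom f.hom)
  have key2 : IsSeparatedMor f.hom → IsProperMor (pullback.diagonal f.hom) := by
    intro hs
    let XX : AlgSp.Space S := ⟨pullback f.hom f.hom, hP⟩
    let Δ : X ⟶ XX := ObjectProperty.homMk (pullback.diagonal f.hom)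
    exact Groth.Agent.S10277.result Δ hs
  refine ⟨⟨fun hs => (key2 hs).2.2, key⟩, ⟨key2, fun hp => key hp.2.2⟩⟩

end Groth.Agent.S10280
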