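import Groth.Statements.S4871
import Mathlib
import Groth.Agent.Lib.Helper17.FibOpenStr

set_option autoImplicit false
universe u
open CategoryTheory AlgebraicGeometry
open EGA43

namespace Groth.Agent.S4871

open CategoryTheory.Limits in
/-- Let f : X ⟶ S be flat and locally of finite presentation and U an open subscheme of X. Then U is
universally schematically dense in X relative to S, i.e. for every base change S' ⟶ S the preimage
of U in X ×_S S' is schematically dense, if and only if for every point s of S the trace U_s of U on
the fibre X_s is schematically dense in X_s. -/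
theorem result {X S : Scheme.{u}} (f : X ⟶ S) [Flat f]
    [LocallyOfFinitePresentation f] (U : X.Opens) :
    (∀ (S' : Scheme.{u}) (g : S' ⟶ S), CInt.IsSchematicallyDense ((pullback.fst f g) ⁻¹ᵁ U)) ↔
      ∀ s : S, CInt.IsSchematicallyDense ((f.fiberι s) ⁻¹ᵁ U) := by
  constructor
  · intro h s
    exact h _ (S.fromSpecResidueField s)
  · intro h S' g
    rw [Groth.Agent.Lib.Helper17.FibOpenStr.isSchematicallyDense_iff_pullback (pullback.fst f g)]
    have hfib : ∀ (s : S) (V : (pullback f (S.fromSpecResidueField s)).Opens)
        (t : Γ((Scheme.Modules.pullback (pullback.fst f (S.fromSpecResidueField s))).obj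
          (Coh.structureModule X), V)),
        ((Scheme.Modules.pullback (pullback.fst f (S.fromSpecResidueField s))).obj
          (Coh.structureModule X)).presheaf.map
          (homOfLE (inf_le_left :
            V ⊓ (pullback.fst f (S.fromSpecResidueField s)) ⁻¹ᵁ U ≤ V)).op t = 0 → t = 0 := by
      intro s
      exact (Groth.Agent.Lib.Helper17.FibOpenStr.isSchematicallyDense_iff_pullback
        (pullback.fst f (S.fromSpecResidueField s)) _).1 (h s)
    exact Groth.Agent.Lib.Helper17.FibOpenSch3.resInj_baseChange_of_fibres f
      (Coh.structureModule X)
      ((Groth.Agent.Lib.Helper17.FlatStructure.flat_iff_isFlatOver f).1 inferInstance) U hfib g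

end Groth.Agent.S4871
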