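import Groth.Statements.S17081
import Mathlib

set_option autoImplicit false
universe u
open CategoryTheory CategoryTheory.Limits AlgebraicGeometry
open MorSch

namespace Groth.Agent.S17081

section Aux
variable {X S S' : Scheme.{u}} (f : X ⟶ S) (h : S' ⟶ S) (H : Over S)

lemma hilbPull_eq_comap {T T' : Over S} (g : T' ⟶ T) (I : (PicF.XT f T).IdealSheafData) :
    FGA.hilbPull f g I = I.comap (PicF.XTmap f g) := by
  rw [FGA.hilbPull, Scheme.IdealSheafData.comap, ← pullbackSymmetry_hom_comp_fst,
    Scheme.Hom.ker_comp_of_isIso]

/-- `T` viewed over `S`. -/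
abbrev TS (T : Over S') : Over S := Over.mk (T.hom ≫ h)

noncomputable abbrev H' : Over S' := Over.mk (pullback.snd H.hom h)

noncomputable abbrev α (T : Over S') :
    pullback (pullback.snd f h) T.hom ≅ pullback f (T.hom ≫ h) :=
  pullbackLeftPullbackSndIso f h T.hom

noncomputable abbrev Bmap :
    pullback (pullback.snd f h) (pullback.snd H.hom h) ⟶ pullback f H.hom :=
  pullback.map (pullback.snd f h) (pullback.snd H.hom h) f H.hom
      (pullback.fst f h) (pullback.fst H.hom h) h pullback.condition.symm pullback.condition.symm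

noncomputable def toS {T : Over S'} (g : T ⟶ H' h H) : TS h T ⟶ H :=
  Over.homMk (g.left ≫ pullback.fst H.hom h) (by
    have := Over.w g
    dsimp at this ⊢
    rw [Category.assoc, pullback.condition, ← Category.assoc, this])

set_option backward.isDefEq.respectTransparency false in
lemma comm {T : Over S'} (g : T ⟶ H' h H) :
    PicF.XTmap (pullback.snd f h) g ≫ Bmap f h H =
      (α f h T).hom ≫ PicF.XTmap f (toS h H g) := by
  apply pullback.hom_ext
  · simp [PicF.XTmap, toS, Bmap, α, pullback.map]
  · simp [PicF.XTmap, toS, Bmap, α, pullback.map]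

noncomputable def YSideal {T : Over S'} (I : (PicF.XT (pullback.snd f h) T).IdealSheafData) :
    (PicF.XT f (TS h T)).IdealSheafData := I.comap (α f h T).inv

lemma main_iff {T : Over S'} (g : T ⟶ H' h H) (I0 : (PicF.XT f H).IdealSheafData)
    (I : (PicF.XT (pullback.snd f h) T).IdealSheafData) :
    FGA.hilbPull (pullback.snd f h) g (I0.comap (Bmap f h H)) = I ↔
      FGA.hilbPull f (toS h H g) I0 = YSideal f h I := by
  rw [hilbPull_eq_comap, hilbPull_eq_comap, ← Scheme.IdealSheafData.comap_comp, comm,
    Scheme.IdealSheafData.comap_comp]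
  constructor
  · intro hh
    rw [YSideal, ← hh, ← Scheme.IdealSheafData.comap_comp, Iso.inv_hom_id,
      Scheme.IdealSheafData.comap_id]
  · intro hh
    rw [hh, YSideal, ← Scheme.IdealSheafData.comap_comp, Iso.hom_inv_id,
      Scheme.IdealSheafData.comap_id]

lemma YS_mem {T : Over S'} (Y : FGA.HilbSet (pullback.snd f h) T) :
    IsProper ((Y.1.comap (α f h T).inv).subschemeι ≫ PicF.XTproj f (TS h T)) ∧
      Flat ((Y.1.comap (α f h T).inv).subschemeι ≫ PicF.XTproj f (TS h T)) := by
  let c := Y.1.comapIso (α f h T).inv
  have hsnd : (α f h T).inv ≫ pullback.snd (pullback.snd f h) T.hom =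
      pullback.snd f (T.hom ≫ h) := by
    rw [Iso.inv_comp_eq]; exact (pullbackLeftPullbackSndIso_hom_snd f h T.hom).symm
  have key : (Y.1.comap (α f h T).inv).subschemeι ≫ PicF.XTproj f (TS h T) =
      (c.hom ≫ pullback.snd (α f h T).inv Y.1.subschemeι) ≫
        (Y.1.subschemeι ≫ PicF.XTproj (pullback.snd f h) T) := by
    have h1 : c.hom ≫ pullback.fst (α f h T).inv Y.1.subschemeι =
        (Y.1.comap (α f h T).inv).subschemeι := Y.1.comapIso_hom_fst _
    rw [← h1]
    simp only [Category.assoc]
    rw [← pullback.condition_assoc, hsnd]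
    rfl
  haveI : IsIso (pullback.snd (α f h T).inv Y.1.subschemeι) := inferInstance
  haveI : IsIso (c.hom ≫ pullback.snd (α f h T).inv Y.1.subschemeι) := inferInstance
  rw [key]
  exact ⟨(MorphismProperty.cancel_left_of_respectsIso @IsProper _ _).mpr Y.2.1,
    (MorphismProperty.cancel_left_of_respectsIso @Flat _ _).mpr Y.2.2⟩

end Aux


/-- Let S and S' be Noetherian schemes, h : S' → S and f : X → S morphisms, and (H, Z) a pair
representing the Hilbert functor of X over S on locally Noetherian S-schemes (H locally Noetherian
over S; Z ⊆ X ×_S H closed, proper and flat over H; every closed subscheme of X ×_S T proper and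
flat over a locally Noetherian S-scheme T is the pullback of Z along a unique S-morphism T → H),
with H locally of finite type over S. Write X' = X ×_S S' → S' and H' = H ×_S S' → S', and let Z' ⊆
X' ×_{S'} H' be the closed subscheme pulled back from Z along the morphism X' ×_{S'} H' → X ×_S H
induced by the projections X' → X and H' → H. Then (H', Z') represents the Hilbert functor of X'
over S'. (Published for X flat and projective over S, which is how (H, Z) is known to exist there;
representability is taken as a hypothesis here; the hypothesis that H is locally of finite type over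
S is added here (it holds for the Hilbert scheme of a flat projective scheme) so that H ×_S S' is
locally Noetherian.) -/
theorem result
    {X S S' : Scheme.{u}} [IsNoetherian S] [IsNoetherian S'] (f : X ⟶ S) (h : S' ⟶ S)
    (H : Over S) (Z : FGA.HilbSet f H) (hH : FGA.HilbRepresentedBy f H Z)
    [LocallyOfFiniteType H.hom]
    (Z' : FGA.HilbSet (pullback.snd f h) (Over.mk (pullback.snd H.hom h)))
    (hZ' : Z'.1 = Z.1.comap (pullback.map (pullback.snd f h) (pullback.snd H.hom h) f H.hom
      (pullback.fst f h) (pullback.fst H.hom h) h pullback.condition.symm pullback.condition.symm)) :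
    FGA.HilbRepresentedBy (pullback.snd f h) (Over.mk (pullback.snd H.hom h)) Z' := by
  refine ⟨?_, ?_⟩
  · haveI : LocallyOfFiniteType (pullback.snd H.hom h) := inferInstance
    exact LocallyOfFiniteType.isLocallyNoetherian (pullback.snd H.hom h)
  · intro T _ Y
    haveI : IsLocallyNoetherian (TS h T).left := ‹IsLocallyNoetherian T.left›
    obtain ⟨gS, hgS, huniq⟩ := hH.2 (TS h T) ⟨YSideal f h Y.1, YS_mem f h Y⟩
    have hw : gS.left ≫ H.hom = T.hom ≫ h := Over.w gS
    let g : T ⟶ H' h H := Over.homMk (pullback.lift gS.left T.hom hw) (pullback.lift_snd _ _ _)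
    have hg : toS h H g = gS := Over.OverMorphism.ext (pullback.lift_fst _ _ _)
    refine ⟨g, ?_, ?_⟩
    · show FGA.hilbPull (pullback.snd f h) g Z'.1 = Y.1
      rw [hZ']
      exact (main_iff f h H g Z.1 Y.1).mpr (by rw [hg]; exact hgS)
    · intro g₂ hg₂
      have hg₂' : FGA.hilbPull (pullback.snd f h) g₂ Z'.1 = Y.1 := hg₂
      rw [hZ'] at hg₂'
      have h2 := huniq (toS h H g₂) ((main_iff f h H g₂ Z.1 Y.1).mp hg₂')
      apply Over.OverMorphism.ext
      apply pullback.hom_ext
      · have h3 : g₂.left ≫ pullback.fst H.hom h = gS.left := congrArg (fun k => k.left) h2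
        rw [h3]; exact (pullback.lift_fst _ _ _).symm
      · rw [show g.left = pullback.lift gS.left T.hom hw from rfl, pullback.lift_snd]
        exact Over.w g₂

end Groth.Agent.S17081
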