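import Groth.Statements.S9806
import Groth.Agent.Lib.Helper3.LocFreeCrit
import Groth.Agent.Lib.Helper3.QCProps

set_option autoImplicit false
universe u
open CategoryTheory AlgebraicGeometry TopologicalSpace
open Props

namespace Groth.Agent.S9806

open Groth.Agent.Lib.Helper3 in

/-- A quasi-coherent module on a scheme is of finite presentation with all stalks free over the local
rings if and only if it is finite locally free. -/
theorem result (X : Scheme.{u}) (M : X.Modules) (hM : Coh.IsQCoh M) :
    (CohB1.IsFP M ∧ ∀ x : X, Module.Free (X.presheaf.stalk x) (M.presheaf.stalk x)) ↔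
      FlatMod.IsFinLocFree M := by
  have : M.IsQuasicoherent := hM
  constructor
  · rintro ⟨hfp, hfree⟩
    have : SheafOfModules.IsFinitePresentation (R := X.ringCatSheaf) M := hfp
    apply LocFreeCrit.isFinLocFree_of_forall_mem_freeLocus
    intro x
    obtain ⟨U, hU, hxU⟩ := QCProps.exists_affine_nbhd x
    exact ⟨U, hU, hxU, QCProps.finitePresentation_sections M hU,
      (LocFreeCrit.free_stalk_iff_mem_freeLocus M hU x hxU).mp (hfree x)⟩
  · intro h
    constructor
    · change SheafOfModules.IsFinitePresentation (R := X.ringCatSheaf) M
      rw [QCProps.isFinitePresentation_iff_finitePresentation_sections]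
      intro U hU
      obtain ⟨h1, h2⟩ := LocFreeCrit.finite_projective_sections h hU
      exact Module.finitePresentation_of_projective _ _
    · intro x
      obtain ⟨U, hU, hxU⟩ := QCProps.exists_affine_nbhd x
      rw [LocFreeCrit.free_stalk_iff_mem_freeLocus M hU x hxU]
      obtain ⟨h1, h2⟩ := LocFreeCrit.finite_projective_sections h hU
      have := Module.finitePresentation_of_projective Γ(X, U) Γ(M, U)
      have h3 : Module.freeLocus Γ(X, U) Γ(M, U) = Set.univ := Module.freeLocus_eq_univ
      rw [h3]
      exact Set.mem_univ _

end Groth.Agent.S9806
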