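import Groth.Statements.S1688
import Groth.Agent.Lib.Helper3.LocFreeCrit
import Groth.Agent.Lib.Helper3.QCProps
import Groth.Agent.S9806

set_option autoImplicit false
universe u
open CategoryTheory CategoryTheory.Limits AlgebraicGeometry TopologicalSpace
open SDiv

namespace Groth.Agent.S1688

attribute [local instance] specializationOrder in
theorem ringKrullDim_stalk_le1688 (X : Scheme.{u}) (x : X) :
    ringKrullDim (X.presheaf.stalk x) ≤ topologicalKrullDim X := by
  rw [ringKrullDim_stalk_eq_coheight]
  have h1 : Order.coheight x =
      Order.coheight ((irreducibleSetEquivPoints (α := X)).symm x) :=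
    (Order.coheight_orderIso (irreducibleSetEquivPoints (α := X)).symm x).symm
  rw [h1]
  exact Order.coheight_le_krullDim _

theorem free_of_regular_dim_le_one1688 (R : Type*) [CommRing R] [IsDomain R]
    [IsRegularLocalRing R] (hdim : ringKrullDim R ≤ 1) (M : Type*) [AddCommGroup M] [Module R M]
    [Module.Finite R M] [NoZeroSMulDivisors R M] : Module.Free R M := by
  have h1 : (Module.finrank (IsLocalRing.ResidueField R) (IsLocalRing.CotangentSpace R) : WithBot ℕ∞)
      = ringKrullDim R := (IsRegularLocalRing.iff_finrank_cotangentSpace R).mp inferInstance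
  have h2 : Module.finrank (IsLocalRing.ResidueField R) (IsLocalRing.CotangentSpace R) ≤ 1 := by
    rw [← h1] at hdim
    exact_mod_cast hdim
  have : IsPrincipalIdealRing R :=
    ((tfae_of_isNoetherianRing_of_isLocalRing_of_isDomain R).out 5 0).mp h2
  exact Module.free_of_finite_type_torsion_free'

theorem noZeroSMulDivisors_of_free1688 (R M : Type*) [CommRing R] [IsDomain R] [AddCommGroup M]
    [Module R M] [Module.Free R M] : NoZeroSMulDivisors R M := by
  have htf : Module.IsTorsionFree R M := inferInstance
  refine ⟨fun {c x} h => ?_⟩
  by_cases hc : c = 0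
  · exact Or.inl hc
  · right
    have hreg : IsSMulRegular M c := htf.isSMulRegular (IsRegular.of_ne_zero hc)
    apply hreg
    change c • x = c • 0
    rw [h, smul_zero]

open Groth.Agent.Lib.Helper3 in

/-- Let X be a locally Noetherian integral scheme of dimension at most 1 all of whose local rings are
regular, and F a coherent module on X. Then F is torsion free (every stalk is a torsion-free module
over the local ring) if and only if F is finite locally free. -/
theorem result (X : Scheme.{u}) [IsIntegral X] [IsLocallyNoetherian X] (hreg : ∀ x : ↥X, IsRegularLocalRing (X.presheaf.stalk x))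
    (hdim : topologicalKrullDim ↥X ≤ 1) (F : X.Modules) (hF : Coh.IsCoh F) :
    (∀ x : ↥X, NoZeroSMulDivisors (X.presheaf.stalk x) (F.presheaf.stalk x)) ↔ FlatMod.IsFinLocFree F := by
  obtain ⟨hqc, hft⟩ := hF
  have : F.IsQuasicoherent := hqc
  have : F.IsFiniteType := hft
  have hfp : SheafOfModules.IsFinitePresentation (R := X.ringCatSheaf) F := by
    rw [QCProps.isFinitePresentation_iff_finitePresentation_sections]
    intro U hU
    have : IsNoetherianRing Γ(X, U) := IsLocallyNoetherian.component_noetherian ⟨U, hU⟩
    have := QCProps.finite_sections F hU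
    exact Module.finitePresentation_of_finite _ _
  rw [← Groth.Agent.S9806.result X F hqc]
  constructor
  · intro h
    refine ⟨hfp, fun x => ?_⟩
    have := hreg x
    have := h x
    have hfin : Module.Finite (X.presheaf.stalk x) (F.presheaf.stalk x) := by
      obtain ⟨U, hU, hxU⟩ := QCProps.exists_affine_nbhd x
      obtain ⟨i1, i2, i3, i4, g, h1, h2, h3⟩ := QS.exists_isLocalizedModule hU F x hxU
      have := QCProps.finite_sections F hU
      exact Module.Finite.of_isLocalizedModule (hU.primeIdealOf ⟨x, hxU⟩).asIdeal.primeCompl g
    exact free_of_regular_dim_le_one1688 _ ((ringKrullDim_stalk_le1688 X x).trans hdim) _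
  · rintro ⟨-, hfree⟩ x
    have := hfree x
    exact noZeroSMulDivisors_of_free1688 _ _

end Groth.Agent.S1688
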