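import Groth.Statements.S1689
import Mathlib
import Groth.Agent.S1688
import Groth.Agent.Lib.Helper4.HomDepth
import Groth.Agent.Lib.Helper4.FaltPd
import Groth.Agent.Lib.Helper7.SyzFree
import Groth.Agent.Lib.Helper26.RegularNormal
set_option linter.style.haveILetI false

set_option autoImplicit false
universe u
open CategoryTheory CategoryTheory.Limits AlgebraicGeometry TopologicalSpace
open SDiv

namespace Groth.Agent.S1689

/-- A finite reflexive module over a regular local ring of dimension at most two is free. -/
theorem free_of_reflexive_regular_dim_le_two (R : Type u) [CommRing R] [IsRegularLocalRing R]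
    (hdim : ringKrullDim R ≤ 2) (M : Type u) [AddCommGroup M] [Module R M] [Module.Finite R M]
    [Module.IsReflexive R M] : Module.Free R M := by
  obtain ⟨d, hd⟩ := Groth.Agent.Lib.Helper26.SerreReg.exists_nat_ringKrullDim R
  have hd2 : d ≤ 2 := by
    rw [hd] at hdim
    exact_mod_cast hdim
  have hht : ((IsLocalRing.maximalIdeal R).height : WithBot ℕ∞) = ringKrullDim R :=
    IsLocalRing.maximalIdeal_height_eq_ringKrullDim
  have hht' : (IsLocalRing.maximalIdeal R).height = (d : ℕ∞) := by
    rw [hd] at hht
    exact_mod_cast hht
  have hdepR : (d : ℕ∞) ≤ LocCoh.idealDepth (IsLocalRing.maximalIdeal R) R := by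
    rw [← hht']
    exact Groth.Agent.Lib.Helper26.RegularNormal.height_maximalIdeal_le_depth R
  have hdepM : (d : ℕ∞) ≤ LocCoh.depth R M := by
    have hd' : LocCoh.depth R M = LocCoh.idealDepth (IsLocalRing.maximalIdeal R)
        (Module.Dual R M →ₗ[R] R) :=
      Groth.Agent.Lib.Helper4.idealDepth_congr _ (Module.evalEquiv R M)
    rw [hd']
    interval_cases d
    · exact bot_le
    · have h1 := Groth.Agent.Lib.Helper4.one_le_idealDepth_linearMap (M := Module.Dual R M)
        (IsLocalRing.maximalIdeal R) (by exact_mod_cast hdepR)
      exact_mod_cast h1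
    · have h2 := Groth.Agent.Lib.Helper4.two_le_idealDepth_linearMap (M := Module.Dual R M)
        (IsLocalRing.maximalIdeal R) (by exact_mod_cast hdepR)
      exact_mod_cast h2
  have h := Groth.Agent.Lib.Helper4.Falt.hasProjectiveDimensionLE_of_depth R d hd d M 0 hdepM
    (by omega)
  exact Groth.Agent.Lib.Helper7.SyzFree.free_of_hasProjectiveDimensionLT_one R M h

/-- Let X be a locally Noetherian scheme of dimension at most 2 all of whose local rings are regular,
and F a coherent module on X. Then F is reflexive (every stalk is a reflexive module over the local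
ring) if and only if F is finite locally free. -/
theorem result (X : Scheme.{u}) [IsLocallyNoetherian X]
    (hreg : ∀ x : ↥X, IsRegularLocalRing (X.presheaf.stalk x)) (hdim : topologicalKrullDim ↥X ≤ 2) (F : X.Modules)
    (hF : Coh.IsCoh F) : (∀ x : ↥X, Module.IsReflexive (X.presheaf.stalk x) (F.presheaf.stalk x)) ↔ FlatMod.IsFinLocFree F := by
  obtain ⟨hqc, hft⟩ := hF
  have : F.IsQuasicoherent := hqc
  have : F.IsFiniteType := hft
  have hfp : SheafOfModules.IsFinitePresentation (R := X.ringCatSheaf) F := by
    rw [Groth.Agent.Lib.Helper3.QCProps.isFinitePresentation_iff_finitePresentation_sections]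
    intro U hU
    have : IsNoetherianRing Γ(X, U) := IsLocallyNoetherian.component_noetherian ⟨U, hU⟩
    have := Groth.Agent.Lib.Helper3.QCProps.finite_sections F hU
    exact Module.finitePresentation_of_finite _ _
  have hfin : ∀ x : X, Module.Finite (X.presheaf.stalk x) (F.presheaf.stalk x) := by
    intro x
    obtain ⟨U, hU, hxU⟩ := Groth.Agent.Lib.Helper3.QCProps.exists_affine_nbhd x
    obtain ⟨i1, i2, i3, i4, g, h1, h2, h3⟩ :=
      Groth.Agent.Lib.Helper3.QS.exists_isLocalizedModule hU F x hxU
    have := Groth.Agent.Lib.Helper3.QCProps.finite_sections F hU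
    exact Module.Finite.of_isLocalizedModule (hU.primeIdealOf ⟨x, hxU⟩).asIdeal.primeCompl g
  rw [← Groth.Agent.S9806.result X F hqc]
  constructor
  · intro h
    refine ⟨hfp, fun x => ?_⟩
    have := hreg x
    have := h x
    have := hfin x
    exact free_of_reflexive_regular_dim_le_two _
      ((Groth.Agent.S1688.ringKrullDim_stalk_le1688 X x).trans hdim) _
  · rintro ⟨-, hfree⟩ x
    have := hfree x
    have := hfin x
    infer_instance

end Groth.Agent.S1689
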