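import Groth.Statements.S6992
import Groth.Agent.Lib.Helper11.RelFP
import Mathlib

set_option autoImplicit false
universe u
open CAlg

namespace Groth.Agent.S6992

open Groth.Agent.Lib.Helper11

/-- Let R be a commutative ring, A → B a finite homomorphism of finite type R-algebras, M a B-module,
and α : R[x_1, ..., x_n] → A, β : R[y_1, ..., y_k] → B surjective R-algebra homomorphisms. Then M is
finitely presented as an R[x_1, ..., x_n]-module through α and A → B (M is finitely presented
relative to R as an A-module) if and only if M is finitely presented as an R[y_1, ..., y_k]-module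
through β (M is finitely presented relative to R as a B-module). -/
theorem result {R A B : Type u} [CommRing R] [CommRing A] [CommRing B]
    [Algebra R A] [Algebra A B] [Algebra R B] [IsScalarTower R A B] [Algebra.FiniteType R A]
    [Algebra.FiniteType R B] [Module.Finite A B] (M : Type u) [AddCommGroup M] [Module B M] [Module A M]
    [IsScalarTower A B M] {n k : ℕ} (α : MvPolynomial (Fin n) R →ₐ[R] A) (hα : Function.Surjective α)
    (β : MvPolynomial (Fin k) R →ₐ[R] B) (hβ : Function.Surjective β) :
    @Module.FinitePresentation (MvPolynomial (Fin n) R) M _ _ (Module.compHom M α.toRingHom) ↔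
      @Module.FinitePresentation (MvPolynomial (Fin k) R) M _ _ (Module.compHom M β.toRingHom) := by
  classical
  letI algPA : Algebra (MvPolynomial (Fin n) R) A := α.toRingHom.toAlgebra
  letI algPB : Algebra (MvPolynomial (Fin n) R) B := ((algebraMap A B).comp α.toRingHom).toAlgebra
  haveI : IsScalarTower (MvPolynomial (Fin n) R) A B := IsScalarTower.of_algebraMap_eq' rfl
  haveI : Module.Finite (MvPolynomial (Fin n) R) A :=
    Module.Finite.of_surjective (Algebra.linearMap (MvPolynomial (Fin n) R) A) hα
  haveI : Module.Finite (MvPolynomial (Fin n) R) B := Module.Finite.trans A B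
  obtain ⟨Q, _, _, _, _, _, f, hf⟩ := Module.Finite.exists_free_surjective (MvPolynomial (Fin n) R) B
  letI : Algebra R Q :=
    ((algebraMap (MvPolynomial (Fin n) R) Q).comp (algebraMap R (MvPolynomial (Fin n) R))).toAlgebra
  haveI : IsScalarTower R (MvPolynomial (Fin n) R) Q := IsScalarTower.of_algebraMap_eq' rfl
  haveI : Algebra.FinitePresentation R Q :=
    Algebra.FinitePresentation.trans R (MvPolynomial (Fin n) R) Q
  let φ : Q →ₐ[R] B :=
    { f.toRingHom with
      commutes' := fun r => by
        show f (algebraMap (MvPolynomial (Fin n) R) Q (algebraMap R (MvPolynomial (Fin n) R) r)) =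
          algebraMap R B r
        rw [f.commutes]
        show algebraMap A B (α (algebraMap R (MvPolynomial (Fin n) R) r)) = algebraMap R B r
        rw [α.commutes, ← IsScalarTower.algebraMap_apply R A B r] }
  have hφ : Function.Surjective φ := hf
  have e₂ := fp_indep_of_finitePresentation (R := R) (P := Q) M φ hφ β hβ
  have e₁ : @Module.FinitePresentation (MvPolynomial (Fin n) R) M _ _ (Module.compHom M α.toRingHom) ↔
      @Module.FinitePresentation Q M _ _ (Module.compHom M φ.toRingHom) := by
    letI : Module (MvPolynomial (Fin n) R) M := Module.compHom M α.toRingHom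
    letI : Module Q M := Module.compHom M φ.toRingHom
    haveI : IsScalarTower (MvPolynomial (Fin n) R) Q M := ⟨fun p q m => by
      show f (p • q) • m = α p • (f q • m)
      rw [map_smul, Algebra.smul_def, mul_smul, ← algebraMap_smul B (α p) (f q • m)]
      rfl⟩
    haveI : Module.FinitePresentation (MvPolynomial (Fin n) R) Q :=
      Module.finitePresentation_of_projective (MvPolynomial (Fin n) R) Q
    exact fp_iff_of_finite_of_fp (P := MvPolynomial (Fin n) R) (Q := Q) M
  exact e₁.trans e₂

end Groth.Agent.S6992
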