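import Groth.Statements.S13110
import Groth.Agent.Lib.Helper7.ValSpecDvr

set_option autoImplicit false
universe u
open HTop

namespace Groth.Agent.S13110

open AlgebraicGeometry W4c1hilbchowinc CategoryTheory

/-! ### Generalities on pointwise functions -/

lemma iso_hom_inv_apply {R S : CommRingCat.{u}} (i : R ≅ S) (w : R) : i.inv (i.hom w) = w := by
  rw [← CommRingCat.comp_apply, Iso.hom_inv_id, CommRingCat.id_apply]

lemma iso_inv_hom_apply {R S : CommRingCat.{u}} (i : R ≅ S) (w : S) : i.hom (i.inv w) = w := by
  rw [← CommRingCat.comp_apply, Iso.inv_hom_id, CommRingCat.id_apply]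

lemma pullback_ofSection {X Y : Scheme.{u}} (g : Y ⟶ X) (a : Γ(X, ⊤)) :
    (PtFun.ofSection X a).pullback g = PtFun.ofSection Y (g.appTop a) := by
  funext y
  exact Scheme.Γevaluation_naturality_apply g y a

lemma pullback_comp {X Y Z : Scheme.{u}} (t : Z ⟶ Y) (h : Y ⟶ X) (f : PtFun X) :
    (f.pullback h).pullback t = f.pullback (t ≫ h) := by
  funext z
  exact (ConcreteCategory.congr_hom (Scheme.residueFieldMap_comp t h z) (f (h (t z)))).symm

lemma agree_of_eq {X : Scheme.{u}} (f g : PtFun X) {z x : X} (e : z = x) (h : f x = g x) :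
    f z = g z := by
  subst e; exact h

lemma ptfun_congr {X : Scheme.{u}} (f : PtFun X) {y x : X} (e : y = x) :
    f y = (X.residueFieldCongr e).inv (f x) := by
  subst e; rfl

lemma fromSpecResidueField_eq (R : CommRingCat.{u}) (x : Spec R) :
    (Spec R).fromSpecResidueField x =
      Spec.map ((Scheme.ΓSpecIso R).inv ≫ (Spec R).Γevaluation x) := by
  rw [← Scheme.Spec.map_residueFieldIso_inv_eq_fromSpecResidueField, ← Spec.map_comp,
    Scheme.Spec.algebraMap_residueFieldIso_inv]
  rfl

/-- The tautological value of a pointwise function at the canonical point `Spec κ(x) ⟶ X`. -/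
lemma taut {X : Scheme.{u}} (x : X) (f : PtFun X) (pt : Spec (X.residueField x)) :
    (X.fromSpecResidueField x).residueFieldMap pt (f ((X.fromSpecResidueField x) pt)) =
      (Spec (X.residueField x)).Γevaluation pt ((Scheme.ΓSpecIso (X.residueField x)).inv (f x)) := by
  have e : (X.fromSpecResidueField x) pt = x := Scheme.fromSpecResidueField_apply x pt
  have key : (X.residueFieldCongr e).inv ≫ (X.fromSpecResidueField x).residueFieldMap pt =
      (Scheme.ΓSpecIso (X.residueField x)).inv ≫ (Spec (X.residueField x)).Γevaluation pt := by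
    rw [← Spec.map_inj, ← cancel_mono (X.fromSpecResidueField x), Spec.map_comp, Category.assoc]
    have h1 : Spec.map (X.residueFieldCongr e).inv ≫ X.fromSpecResidueField x =
        X.fromSpecResidueField ((X.fromSpecResidueField x) pt) :=
      Scheme.residueFieldCongr_fromSpecResidueField e.symm
    rw [h1, Scheme.Hom.SpecMap_residueFieldMap_fromSpecResidueField, fromSpecResidueField_eq]
  rw [ptfun_congr f e]
  exact ConcreteCategory.congr_hom key (f x)

/-- Evaluation at the point of `Spec κ(x)` is injective on global sections. -/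
lemma Γev_residueField_inj {X : Scheme.{u}} (x : X) (pt : Spec (X.residueField x))
    (s s' : Γ(Spec (X.residueField x), ⊤))
    (h : (Spec (X.residueField x)).Γevaluation pt s =
      (Spec (X.residueField x)).Γevaluation pt s') : s = s' := by
  let c : X.residueField x ⟶ (Spec (X.residueField x)).residueField pt :=
    (Scheme.ΓSpecIso (X.residueField x)).inv ≫ (Spec (X.residueField x)).Γevaluation pt
  have hc : Function.Injective c.hom := RingHom.injective c.hom
  have h1 : ∀ w : Γ(Spec (X.residueField x), ⊤),
      (Spec (X.residueField x)).Γevaluation pt w =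
        c.hom ((Scheme.ΓSpecIso (X.residueField x)).hom w) := by
    intro w
    show _ = (Spec (X.residueField x)).Γevaluation pt
      ((Scheme.ΓSpecIso (X.residueField x)).inv ((Scheme.ΓSpecIso (X.residueField x)).hom w))
    rw [iso_hom_inv_apply]
  rw [h1, h1] at h
  have h2 := hc h
  calc s = (Scheme.ΓSpecIso (X.residueField x)).inv ((Scheme.ΓSpecIso (X.residueField x)).hom s) :=
        (iso_hom_inv_apply _ s).symm
    _ = (Scheme.ΓSpecIso (X.residueField x)).inv ((Scheme.ΓSpecIso (X.residueField x)).hom s') := by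
        rw [h2]
    _ = s' := iso_hom_inv_apply _ s'

lemma ΓSpecIso_hom_appTop {R S : CommRingCat.{u}} (φ : R ⟶ S) (w : Γ(Spec R, ⊤)) :
    (Scheme.ΓSpecIso S).hom ((Spec.map φ).appTop w) = φ ((Scheme.ΓSpecIso R).hom w) :=
  ConcreteCategory.congr_hom (Scheme.ΓSpecIso_naturality φ) w

lemma appTop_injective_of_injective {R S : CommRingCat.{u}} (φ : R ⟶ S)
    (hφ : Function.Injective φ.hom) {s s' : Γ(Spec R, ⊤)}
    (h : (Spec.map φ).appTop s = (Spec.map φ).appTop s') : s = s' := by
  have h2 : (Scheme.ΓSpecIso S).hom ((Spec.map φ).appTop s) =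
      (Scheme.ΓSpecIso S).hom ((Spec.map φ).appTop s') := by rw [h]
  rw [ΓSpecIso_hom_appTop, ΓSpecIso_hom_appTop] at h2
  have h3 := hφ h2
  calc s = (Scheme.ΓSpecIso R).inv ((Scheme.ΓSpecIso R).hom s) := (iso_hom_inv_apply _ s).symm
    _ = (Scheme.ΓSpecIso R).inv ((Scheme.ΓSpecIso R).hom s') := by rw [h3]
    _ = s' := iso_hom_inv_apply _ s'

/-! ### Step 2: propagation along specializations -/

theorem step2 {X : Scheme.{u}} [IsLocallyNoetherian X] (f : PtFun X) (hf : f.VariesAlongDVR)
    (a : Γ(X, ⊤)) (x y : X) (hsp : x ⤳ y) (hne : y ≠ x) (hx : f x = X.Γevaluation x a) :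
    f y = X.Γevaluation y a := by
  obtain ⟨R, h, hdvr, hy, hcomm⟩ :=
    Groth.Agent.Lib.Helper7.exists_dvr_through_specialization (𝟙 X) x y
      (by simpa using hsp) (by simpa using hne)
  haveI := hdvr
  rw [Category.comp_id] at hcomm
  obtain ⟨r, hr⟩ := hf R h
  obtain ⟨z1, hz1⟩ : ∃ z : Spec (CommRingCat.of R), z = IsLocalRing.closedPoint R := ⟨_, rfl⟩
  rw [← hz1] at hy
  subst hy
  let pt : Spec (X.residueField x) := default
  have hra : r = h.appTop a := by
    have e1 : PtFun.ofSection _ ((Spec.map (CommRingCat.ofHom R.subtype)).appTop r) =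
        f.pullback (X.fromSpecResidueField x) := by
      rw [← pullback_ofSection, hr, pullback_comp, hcomm]
    have e2 : PtFun.ofSection _ ((Spec.map (CommRingCat.ofHom R.subtype)).appTop (h.appTop a)) =
        (PtFun.ofSection X a).pullback (X.fromSpecResidueField x) := by
      rw [← pullback_ofSection, ← pullback_ofSection, pullback_comp, hcomm]
    have e : (X.fromSpecResidueField x) pt = x := Scheme.fromSpecResidueField_apply x pt
    have e0 : f ((X.fromSpecResidueField x) pt) =
        (PtFun.ofSection X a) ((X.fromSpecResidueField x) pt) :=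
      agree_of_eq f (PtFun.ofSection X a) e hx
    have e3 : (f.pullback (X.fromSpecResidueField x)) pt =
        ((PtFun.ofSection X a).pullback (X.fromSpecResidueField x)) pt := by
      show (X.fromSpecResidueField x).residueFieldMap pt (f ((X.fromSpecResidueField x) pt)) =
        (X.fromSpecResidueField x).residueFieldMap pt
          ((PtFun.ofSection X a) ((X.fromSpecResidueField x) pt))
      rw [e0]
    have e4 : (Spec (X.residueField x)).Γevaluation pt
          ((Spec.map (CommRingCat.ofHom R.subtype)).appTop r) =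
        (Spec (X.residueField x)).Γevaluation pt
          ((Spec.map (CommRingCat.ofHom R.subtype)).appTop (h.appTop a)) :=
      (congrFun e1 pt).trans (e3.trans (congrFun e2 pt).symm)
    have e5 := Γev_residueField_inj x pt _ _ e4
    exact appTop_injective_of_injective (CommRingCat.ofHom R.subtype) Subtype.val_injective e5
  have h3 := congrFun hr z1
  rw [hra] at h3
  have h4 : h.residueFieldMap z1 (X.Γevaluation (h z1) a) =
      (Spec (CommRingCat.of R)).Γevaluation z1 (h.appTop a) :=
    Scheme.Γevaluation_naturality_apply h _ a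
  have h5 : h.residueFieldMap z1 (f (h z1)) =
      h.residueFieldMap z1 (X.Γevaluation (h z1) a) := h3.symm.trans h4.symm
  exact (h.residueFieldMap z1).hom.injective h5

/-! ### Step 1: integrality of the values -/

theorem step1 (A : Type u) [CommRing A] [IsNoetherianRing A]
    (f : PtFun (Spec (CommRingCat.of A))) (hf : f.VariesAlongDVR)
    (x : Spec (CommRingCat.of A)) :
    IsIntegral A ((Scheme.Spec.residueFieldIso (CommRingCat.of A) x).hom (f x)) := by
  classical
  haveI hxp : x.asIdeal.IsPrime := x.isPrime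
  have hint : IsIntegral (A ⧸ x.asIdeal)
      ((Scheme.Spec.residueFieldIso (CommRingCat.of A) x).hom (f x)) := by
    refine Groth.Agent.Lib.Helper7.isIntegral_of_forall_dvr (A ⧸ x.asIdeal)
      x.asIdeal.ResidueField ?_ _ ?_
    · refine ⟨∅, ?_⟩
      rw [eq_top_iff]
      intro z _
      obtain ⟨a, b, _, rfl⟩ := IsFractionRing.div_surjective (A := A ⧸ x.asIdeal) z
      exact div_mem (Subfield.subset_closure (Or.inl ⟨a, rfl⟩))
        (Subfield.subset_closure (Or.inl ⟨b, rfl⟩))
    · intro R hR hAR
      haveI := hR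
      let φ : A →+* R := (algebraMap A x.asIdeal.ResidueField).codRestrict R.toSubring
        (fun a => hAR (Ideal.Quotient.mk x.asIdeal a))
      let h : Spec (CommRingCat.of R) ⟶ Spec (CommRingCat.of A) :=
        Spec.map (CommRingCat.ofHom φ)
      obtain ⟨r, hr⟩ := hf R h
      let ψ : CommRingCat.of R ⟶ (Spec (CommRingCat.of A)).residueField x :=
        CommRingCat.ofHom R.subtype ≫ (Scheme.Spec.residueFieldIso (CommRingCat.of A) x).inv
      have hcomp : Spec.map ψ ≫ h = (Spec (CommRingCat.of A)).fromSpecResidueField x := by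
        rw [← Scheme.Spec.map_residueFieldIso_inv_eq_fromSpecResidueField]
        simp only [ψ, h]
        rw [← Spec.map_comp, ← Spec.map_comp, ← Category.assoc]
        rfl
      let pt : Spec ((Spec (CommRingCat.of A)).residueField x) := default
      have e1 : PtFun.ofSection _ ((Spec.map ψ).appTop r) =
          f.pullback ((Spec (CommRingCat.of A)).fromSpecResidueField x) := by
        rw [← pullback_ofSection, hr, pullback_comp, hcomp]
      have e2 : (Spec ((Spec (CommRingCat.of A)).residueField x)).Γevaluation pt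
            ((Spec.map ψ).appTop r) =
          (Spec ((Spec (CommRingCat.of A)).residueField x)).Γevaluation pt
            ((Scheme.ΓSpecIso ((Spec (CommRingCat.of A)).residueField x)).inv (f x)) :=
        (congrFun e1 pt).trans (taut x f pt)
      have e3 := Γev_residueField_inj x pt _ _ e2
      have e4 : f x = ψ ((Scheme.ΓSpecIso (CommRingCat.of R)).hom r) := by
        rw [← ΓSpecIso_hom_appTop, e3, iso_inv_hom_apply]
      rw [e4]
      show (Scheme.Spec.residueFieldIso (CommRingCat.of A) x).hom
        ((Scheme.Spec.residueFieldIso (CommRingCat.of A) x).inv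
          (R.subtype ((Scheme.ΓSpecIso (CommRingCat.of R)).hom r))) ∈ R
      rw [iso_inv_hom_apply]
      exact SetLike.coe_mem _
  haveI : Algebra.IsIntegral A (A ⧸ x.asIdeal) := Algebra.IsIntegral.of_finite A (A ⧸ x.asIdeal)
  exact isIntegral_trans (A := A ⧸ x.asIdeal) _ hint

/-! ### The algebraic gluing lemma -/

theorem alg_lemma (A : Type u) [CommRing A] [IsReduced A] [IsNoetherianRing A]
    [IsIntegrallyClosed A]
    (v : ∀ x : PrimeSpectrum A, x.asIdeal.ResidueField)
    (hint : ∀ x : PrimeSpectrum A, x.asIdeal ∈ minimalPrimes A → IsIntegral A (v x)) :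
    ∃ a : A, ∀ x : PrimeSpectrum A, x.asIdeal ∈ minimalPrimes A →
      algebraMap A x.asIdeal.ResidueField a = v x := by
  classical
  have hfin : (PrimeSpectrum.asIdeal ⁻¹' (minimalPrimes A)).Finite :=
    (minimalPrimes.finite_of_isNoetherianRing A).preimage
      (fun x _ y _ h => PrimeSpectrum.ext h)
  obtain ⟨S, hSdef⟩ : ∃ S : Finset (PrimeSpectrum A), S = hfin.toFinset := ⟨_, rfl⟩
  have hS : ∀ x, x ∈ S ↔ x.asIdeal ∈ minimalPrimes A := fun x => by
    rw [hSdef, Set.Finite.mem_toFinset, Set.mem_preimage]
  have hrad : sInf (minimalPrimes A) = (⊥ : Ideal A) := by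
    have h1 : sInf (minimalPrimes A) = (⊥ : Ideal A).radical := Ideal.sInf_minimalPrimes
    rw [h1]; exact nilradical_eq_zero A
  have hzero : ∀ z : A, (∀ y ∈ S, z ∈ y.asIdeal) → z = 0 := by
    intro z hz
    have hmem : z ∈ sInf (minimalPrimes A) := by
      rw [Ideal.mem_sInf]
      intro p hp
      exact hz ⟨p, hp.1.1⟩ ((hS _).mpr hp)
    rw [hrad] at hmem
    exact (Submodule.mem_bot A).mp hmem
  -- fractions
  have hfrac : ∀ x : PrimeSpectrum A, ∃ α β : A, β ∉ x.asIdeal ∧
      v x = algebraMap A x.asIdeal.ResidueField α / algebraMap A x.asIdeal.ResidueField β := by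
    intro x
    obtain ⟨a', b', hb', h⟩ := IsFractionRing.div_surjective (A := A ⧸ x.asIdeal) (v x)
    obtain ⟨α, rfl⟩ := Ideal.Quotient.mk_surjective a'
    obtain ⟨β, rfl⟩ := Ideal.Quotient.mk_surjective b'
    refine ⟨α, β, ?_, ?_⟩
    · intro hβ
      have h0 : (Ideal.Quotient.mk x.asIdeal β) = 0 := Ideal.Quotient.eq_zero_iff_mem.mpr hβ
      rw [h0] at hb'
      exact zero_notMem_nonZeroDivisors hb'
    · rw [← h]; rfl
  choose α β hβ hv using hfrac
  -- separating elements
  have hu : ∀ x ∈ S, ∃ u : A, u ∉ x.asIdeal ∧ ∀ y ∈ S, y ≠ x → u ∈ y.asIdeal := by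
    intro x hx
    by_contra hcon
    push_neg at hcon
    have hle : (S.erase x).inf (fun y => y.asIdeal) ≤ x.asIdeal := by
      intro w hw
      by_contra hwx
      obtain ⟨y, hyS, hyx, hwy⟩ := hcon w hwx
      exact hwy ((Submodule.mem_finsetInf.mp hw) y (Finset.mem_erase.mpr ⟨hyx, hyS⟩))
    obtain ⟨y, hy, hyx⟩ := (Ideal.IsPrime.inf_le' x.isPrime).mp hle
    have hyS := Finset.mem_erase.mp hy
    have hxmin : x.asIdeal ∈ minimalPrimes A := (hS x).mp hx
    have hxy : x.asIdeal ≤ y.asIdeal := hxmin.2 ⟨y.isPrime, bot_le⟩ hyx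
    exact hyS.1 (PrimeSpectrum.ext (le_antisymm hyx hxy))
  choose! u hu using hu
  obtain ⟨num, hnum⟩ : ∃ n : A, n = ∑ x ∈ S, u x * α x := ⟨_, rfl⟩
  obtain ⟨den, hden⟩ : ∃ n : A, n = ∑ x ∈ S, u x * β x := ⟨_, rfl⟩
  have hmap : ∀ (c : PrimeSpectrum A → A) (y : PrimeSpectrum A), y ∈ S →
      algebraMap A y.asIdeal.ResidueField (∑ x ∈ S, u x * c x) =
        algebraMap A y.asIdeal.ResidueField (u y) * algebraMap A y.asIdeal.ResidueField (c y) := by
    intro c y hy
    rw [map_sum, Finset.sum_eq_single y, map_mul]
    · intro x hx hxy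
      rw [map_mul, Ideal.algebraMap_residueField_eq_zero.mpr ((hu x hx).2 y hy (Ne.symm hxy)),
        zero_mul]
    · intro h; exact absurd hy h
  have hunz : ∀ y ∈ S, algebraMap A y.asIdeal.ResidueField (u y) ≠ 0 := fun y hy h =>
    (hu y hy).1 (Ideal.algebraMap_residueField_eq_zero.mp h)
  have hβnz : ∀ y, algebraMap A y.asIdeal.ResidueField (β y) ≠ 0 := fun y h =>
    hβ y (Ideal.algebraMap_residueField_eq_zero.mp h)
  have hden_notin : ∀ y ∈ S, den ∉ y.asIdeal := by
    intro y hy hmem
    have h0 := Ideal.algebraMap_residueField_eq_zero.mpr hmem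
    rw [hden, hmap β y hy] at h0
    exact (mul_ne_zero (hunz y hy) (hβnz y)) h0
  have hdenmem : den ∈ nonZeroDivisors A := by
    rw [mem_nonZeroDivisors_iff_right]
    intro z hz
    apply hzero
    intro y hy
    have hzd : z * den ∈ y.asIdeal := by rw [hz]; exact y.asIdeal.zero_mem
    exact (y.isPrime.mem_or_mem hzd).resolve_right (hden_notin y hy)
  have hunit : ∀ (y : PrimeSpectrum A), y ∈ S → ∀ s : nonZeroDivisors A,
      IsUnit (algebraMap A y.asIdeal.ResidueField s) := by
    intro y hy s
    rw [isUnit_iff_ne_zero]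
    intro h
    have hmem : (s : A) ∈ y.asIdeal := Ideal.algebraMap_residueField_eq_zero.mp h
    exact (Set.disjoint_left.mp
      (Ideal.disjoint_nonZeroDivisors_of_mem_minimalPrimes ((hS y).mp hy)) hmem) s.2
  obtain ⟨g, hg⟩ : ∃ g : FractionRing A,
      g = IsLocalization.mk' (FractionRing A) num ⟨den, hdenmem⟩ := ⟨_, rfl⟩
  have hLalg : ∀ y (hy : y ∈ S) (a : A),
      (IsLocalization.lift (hunit y hy) : FractionRing A →+* y.asIdeal.ResidueField)
        (algebraMap A (FractionRing A) a) = algebraMap A y.asIdeal.ResidueField a :=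
    fun y hy a => IsLocalization.lift_eq _ a
  have hLg : ∀ y (hy : y ∈ S),
      (IsLocalization.lift (hunit y hy) : FractionRing A →+* y.asIdeal.ResidueField) g = v y := by
    intro y hy
    rw [hg, IsLocalization.lift_mk'_spec]
    show algebraMap A y.asIdeal.ResidueField num = algebraMap A y.asIdeal.ResidueField den * v y
    rw [hnum, hden, hmap α y hy, hmap β y hy, hv y]
    have := hβnz y
    field_simp
  -- integrality of g
  have hP : ∀ x : PrimeSpectrum A, ∃ P : Polynomial A, P.Monic ∧ (x ∈ S →
      Polynomial.eval₂ (algebraMap A x.asIdeal.ResidueField) (v x) P = 0) := by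
    intro x
    by_cases hx : x ∈ S
    · obtain ⟨P, hP1, hP2⟩ := hint x ((hS x).mp hx)
      exact ⟨P, hP1, fun _ => hP2⟩
    · exact ⟨1, Polynomial.monic_one, fun h => absurd h hx⟩
  choose P hPm hP0 using hP
  have hgint : IsIntegral A g := by
    refine ⟨∏ x ∈ S, P x, Polynomial.monic_prod_of_monic S P (fun x _ => hPm x), ?_⟩
    obtain ⟨z, hz⟩ : ∃ z, z = Polynomial.eval₂ (algebraMap A (FractionRing A)) g (∏ x ∈ S, P x) :=
      ⟨_, rfl⟩
    rw [← hz]
    obtain ⟨a, s, rfl⟩ := IsLocalization.exists_mk'_eq (nonZeroDivisors A) z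
    have ha0 : a = 0 := by
      apply hzero
      intro y hy
      have h1 : (IsLocalization.lift (hunit y hy) : FractionRing A →+* y.asIdeal.ResidueField)
          (IsLocalization.mk' (FractionRing A) a s) = 0 := by
        rw [hz, Polynomial.hom_eval₂, hLg y hy, IsLocalization.lift_comp,
          Polynomial.eval₂_finsetProd]
        exact Finset.prod_eq_zero hy (hP0 y hy)
      rw [IsLocalization.lift_mk'_spec, mul_zero] at h1
      exact Ideal.algebraMap_residueField_eq_zero.mp h1
    rw [ha0, IsLocalization.mk'_zero]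
  obtain ⟨a, ha⟩ := IsIntegrallyClosed.algebraMap_eq_of_integral hgint
  refine ⟨a, fun x hx => ?_⟩
  have hxS := (hS x).mpr hx
  rw [← hLalg x hxS a, ha, hLg x hxS]

/-! ### Assembly -/

open AlgebraicGeometry W4c1hilbchowinc in
/-- Let A be a reduced Noetherian ring, integrally closed inside its total ring of fractions
(equivalently, a finite product of integrally closed Noetherian domains). Then a pointwise function
on Spec A — one element of the residue field κ(y) for every point y — which varies algebraically
along discrete valuation rings (for every discrete valuation ring R and every morphism Spec R → Spec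
A there is an element of R whose values at the two points of Spec R are the images of the chosen
values) is the family of values of exactly one global section. Reducedness is part of the meaning of
integrally closed here; test rings range over the universe of A. -/
theorem result
    (A : Type u) [CommRing A] [IsReduced A] [IsNoetherianRing A] [IsIntegrallyClosed A]
    (f : PtFun (Spec (CommRingCat.of A))) (hf : f.VariesAlongDVR) :
    ∃! a : Γ(Spec (CommRingCat.of A), ⊤), PtFun.ofSection (Spec (CommRingCat.of A)) a = f := by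
  classical
  obtain ⟨a0, ha0⟩ := alg_lemma A
    (fun x => (Scheme.Spec.residueFieldIso (CommRingCat.of A) x).hom (f x))
    (fun x _ => step1 A f hf x)
  obtain ⟨a, hadef⟩ : ∃ a : Γ(Spec (CommRingCat.of A), ⊤),
      a = (Scheme.ΓSpecIso (CommRingCat.of A)).inv a0 := ⟨_, rfl⟩
  have hmin : ∀ x : Spec (CommRingCat.of A), x.asIdeal ∈ minimalPrimes A →
      f x = (Spec (CommRingCat.of A)).Γevaluation x a := by
    intro x hx
    haveI hxp : x.asIdeal.IsPrime := x.isPrime
    have h1 := ha0 x hx
    have h2 := ConcreteCategory.congr_hom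
      (Scheme.Spec.algebraMap_residueFieldIso_inv (CommRingCat.of A) x) a0
    calc f x = (Scheme.Spec.residueFieldIso (CommRingCat.of A) x).inv
          ((Scheme.Spec.residueFieldIso (CommRingCat.of A) x).hom (f x)) :=
          (iso_hom_inv_apply _ _).symm
      _ = (Scheme.Spec.residueFieldIso (CommRingCat.of A) x).inv
          (algebraMap A x.asIdeal.ResidueField a0) := by rw [← h1]
      _ = (Spec (CommRingCat.of A)).Γevaluation x a := by rw [hadef]; exact h2
  have hall : ∀ y : Spec (CommRingCat.of A),
      f y = (Spec (CommRingCat.of A)).Γevaluation y a := by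
    intro y
    haveI hyp : y.asIdeal.IsPrime := y.isPrime
    obtain ⟨p, hp, hpy⟩ := Ideal.exists_minimalPrimes_le (show (⊥ : Ideal A) ≤ y.asIdeal from bot_le)
    let x : Spec (CommRingCat.of A) := (⟨p, hp.1.1⟩ : PrimeSpectrum A)
    by_cases hxy : y = x
    · rw [hxy]; exact hmin x hp
    · have hsp : x ⤳ y := (PrimeSpectrum.le_iff_specializes (⟨p, hp.1.1⟩ : PrimeSpectrum A) y).mp hpy
      exact step2 f hf a x y hsp hxy (hmin x hp)
  refine ⟨a, ?_, ?_⟩
  · funext y; exact (hall y).symm
  · intro b hb
    have hzero : ∀ y : Spec (CommRingCat.of A),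
        (Spec (CommRingCat.of A)).Γevaluation y (b - a) = 0 := by
      intro y
      rw [map_sub, sub_eq_zero]
      exact (congrFun hb y).trans (hall y)
    have hbo : (Spec (CommRingCat.of A)).basicOpen (b - a) = ⊥ := by
      rw [Scheme.basicOpen_eq_bot_iff_forall_evaluation_eq_zero]
      intro y
      exact hzero y.1
    have h0 := (AlgebraicGeometry.basicOpen_eq_bot_iff (b - a)).mp hbo
    exact sub_eq_zero.mp h0

end Groth.Agent.S13110
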