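import Groth.Statements.S11149
import Mathlib

set_option autoImplicit false
universe w w' v v' u u'
open CategoryTheory CategoryTheory.Limits
open CohDer

namespace Groth.Agent.S11149

section General
open Pretriangulated

variable {C : Type*} [Category C] [HasZeroObject C] [Preadditive C] [HasShift C ℤ]
  [∀ n : ℤ, (shiftFunctor C n).Additive] [Pretriangulated C]
  {D : Type*} [Category D] [HasZeroObject D] [Preadditive D] [HasShift D ℤ]
  [∀ n : ℤ, (shiftFunctor D n).Additive] [Pretriangulated D]
  {F G : C ⥤ D} [F.CommShift ℤ] [G.CommShift ℤ] [F.IsTriangulated] [G.IsTriangulated]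
  (η : F ⟶ G) [NatTrans.CommShift η ℤ]

theorem isIso_app_of_iso {X Y : C} (e : X ≅ Y) (h : IsIso (η.app X)) : IsIso (η.app Y) := by
  have : η.app Y = F.map e.inv ≫ η.app X ≫ G.map e.hom := by
    rw [← Category.assoc, η.naturality, Category.assoc, ← G.map_comp, e.inv_hom_id,
      CategoryTheory.Functor.map_id, Category.comp_id]
  rw [this]
  infer_instance

theorem isIso_app_shift {X : C} (n : ℤ) (h : IsIso (η.app X)) : IsIso (η.app (X⟦n⟧)) := by
  rw [NatTrans.app_shift η n X]
  infer_instance

theorem isIso_app_of_isZero {X : C} (hX : IsZero X) : IsIso (η.app X) :=
  ⟨⟨0, (F.map_isZero hX).eq_of_src _ _, (G.map_isZero hX).eq_of_src _ _⟩⟩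

set_option backward.isDefEq.respectTransparency.types false in
set_option backward.defeqAttrib.useBackward true in
/-- The morphism of triangles induced by a natural transformation commuting with shifts. -/
def triHom (T : Triangle C) : F.mapTriangle.obj T ⟶ G.mapTriangle.obj T where
  hom₁ := η.app _
  hom₂ := η.app _
  hom₃ := η.app _
  comm₁ := by simp
  comm₂ := by simp
  comm₃ := by
    dsimp
    simp only [Category.assoc, NatTrans.shift_app_comm η (1 : ℤ) T.obj₁,
      NatTrans.naturality_assoc]

theorem isIso_app_obj₂ (T : Triangle C) (hT : T ∈ distTriang C) (h₁ : IsIso (η.app T.obj₁))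
    (h₃ : IsIso (η.app T.obj₃)) : IsIso (η.app T.obj₂) :=
  isIso₂_of_isIso₁₃ (triHom η T) (F.map_distinguished T hT) (G.map_distinguished T hT) h₁ h₃

end General

/-- Fix abelian categories A and B, A' a class of objects of A closed under isomorphisms, F and G
triangulated functors from D(A) to D(B) and η : F ⟶ G a morphism of triangulated functors. If η_X is
an isomorphism for every object X of A' placed in degree 0, then η_X is an isomorphism for every
object X of D(A) with bounded cohomology whose cohomology objects all lie in A'. (Stated for
functors defined on all of D(A); A' is any class of objects closed under isomorphisms.) -/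
theorem result {A : Type u} [Category.{v} A] [Abelian A] [HasDerivedCategory.{w} A]
    {B : Type u'} [Category.{v'} B] [Abelian B] [HasDerivedCategory.{w'} B]
    (P : ObjectProperty A) [P.IsClosedUnderIsomorphisms]
    (F G : DerivedCategory A ⥤ DerivedCategory B) [F.CommShift ℤ] [G.CommShift ℤ]
    [F.IsTriangulated] [G.IsTriangulated] (η : F ⟶ G) [NatTrans.CommShift η ℤ]
    (hη : ∀ X : A, P X → IsIso (η.app ((DerivedCategory.singleFunctor A 0).obj X)))
    (X : DerivedCategory A) (a b : ℤ) [X.IsGE a] [X.IsLE b]
    (hX : ∀ i : ℤ, P ((DerivedCategory.homologyFunctor A i).obj X)) :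
    IsIso (η.app X) := by
  have hP0 : ∀ Z : A, IsZero Z → P Z := by
    intro Z hZ
    exact P.prop_of_iso ((DerivedCategory.isZero_of_isLE X b (b + 1) (by omega)).iso hZ)
      (hX (b + 1))
  have H : ∀ (n : ℕ) (Y : DerivedCategory A) (a b : ℤ), b - a < n → Y.IsGE a → Y.IsLE b →
      (∀ i : ℤ, P ((DerivedCategory.homologyFunctor A i).obj Y)) → IsIso (η.app Y) := by
    intro n
    induction n with
    | zero =>
      intro Y a b hab _ _ _
      exact isIso_app_of_isZero η (DerivedCategory.TStructure.t.isZero Y b a (by omega))
    | succ n ih =>
      intro Y a b hab hGE hLE hY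
      by_cases hba : b < a
      · exact isIso_app_of_isZero η (DerivedCategory.TStructure.t.isZero Y b a hba)
      · have hT := DerivedCategory.TStructure.t.triangleLTGE_distinguished b Y
        refine isIso_app_obj₂ η _ hT ?_ ?_
        · haveI : DerivedCategory.IsGE
              ((DerivedCategory.TStructure.t.triangleLTGE b).obj Y).obj₁ a := by
            show DerivedCategory.IsGE ((DerivedCategory.TStructure.t.truncLT b).obj Y) a
            infer_instance
          refine ih _ a (b - 1) (by omega) inferInstance inferInstance ?_
          intro i
          by_cases hi : i < b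
          · have hmono : Mono ((DerivedCategory.homologyFunctor A i).map
                ((DerivedCategory.TStructure.t.triangleLTGE b).obj Y).mor₁) := by
              rw [DerivedCategory.HomologySequence.mono_homologyMap_mor₁_iff _ hT (i - 1) i
                (by omega)]
              exact (DerivedCategory.isZero_of_isGE
                ((DerivedCategory.TStructure.t.triangleLTGE b).obj Y).obj₃ b (i - 1)
                (by omega)).eq_of_src _ _
            have hepi : Epi ((DerivedCategory.homologyFunctor A i).map
                ((DerivedCategory.TStructure.t.triangleLTGE b).obj Y).mor₁) := by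
              rw [DerivedCategory.HomologySequence.epi_homologyMap_mor₁_iff _ hT i]
              exact (DerivedCategory.isZero_of_isGE
                ((DerivedCategory.TStructure.t.triangleLTGE b).obj Y).obj₃ b i hi).eq_of_tgt _ _
            haveI := isIso_of_mono_of_epi ((DerivedCategory.homologyFunctor A i).map
                ((DerivedCategory.TStructure.t.triangleLTGE b).obj Y).mor₁)
            exact P.prop_of_iso (asIso ((DerivedCategory.homologyFunctor A i).map
                ((DerivedCategory.TStructure.t.triangleLTGE b).obj Y).mor₁)).symm (hY i)
          · exact hP0 _ (DerivedCategory.isZero_of_isLE _ (b - 1) i (by omega))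
        · haveI : DerivedCategory.IsLE
              ((DerivedCategory.TStructure.t.triangleLTGE b).obj Y).obj₃ b := by
            show DerivedCategory.IsLE ((DerivedCategory.TStructure.t.truncGE b).obj Y) b
            infer_instance
          obtain ⟨Z, ⟨e⟩⟩ := DerivedCategory.exists_iso_singleFunctor_obj_of_isGE_of_isLE
            ((DerivedCategory.TStructure.t.triangleLTGE b).obj Y).obj₃ b
          have hPZ : P Z := by
            have e1 : (DerivedCategory.homologyFunctor A b).obj
                ((DerivedCategory.TStructure.t.triangleLTGE b).obj Y).obj₃ ≅ Z :=
              (DerivedCategory.homologyFunctor A b).mapIso e ≪≫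
                (DerivedCategory.singleFunctorCompHomologyFunctorIso A b).app Z
            have hmono : Mono ((DerivedCategory.homologyFunctor A b).map
                ((DerivedCategory.TStructure.t.triangleLTGE b).obj Y).mor₂) := by
              rw [DerivedCategory.HomologySequence.mono_homologyMap_mor₂_iff _ hT b]
              exact (DerivedCategory.isZero_of_isLE
                ((DerivedCategory.TStructure.t.triangleLTGE b).obj Y).obj₁ (b - 1) b
                (by omega)).eq_of_src _ _
            have hepi : Epi ((DerivedCategory.homologyFunctor A b).map
                ((DerivedCategory.TStructure.t.triangleLTGE b).obj Y).mor₂) := by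
              rw [DerivedCategory.HomologySequence.epi_homologyMap_mor₂_iff _ hT b (b + 1) rfl]
              exact (DerivedCategory.isZero_of_isLE
                ((DerivedCategory.TStructure.t.triangleLTGE b).obj Y).obj₁ (b - 1) (b + 1)
                (by omega)).eq_of_tgt _ _
            haveI := isIso_of_mono_of_epi ((DerivedCategory.homologyFunctor A b).map
                ((DerivedCategory.TStructure.t.triangleLTGE b).obj Y).mor₂)
            exact P.prop_of_iso (asIso ((DerivedCategory.homologyFunctor A b).map
                ((DerivedCategory.TStructure.t.triangleLTGE b).obj Y).mor₂) ≪≫ e1) (hY b)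
          have h0 := hη Z hPZ
          have h1 := isIso_app_shift η (-b) h0
          have e2 := ((DerivedCategory.singleFunctors A).shiftIso (-b) b 0 (by omega)).app Z
          exact isIso_app_of_iso η (e2 ≪≫ e.symm) h1
  exact H (b - a + 1).toNat X a b (by omega) inferInstance inferInstance hX

end Groth.Agent.S11149
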