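-- Statement S3625.
import Groth.Statements.S3625
import Mathlib
import Groth.Agent.Lib.Helper1.GorBC

set_option autoImplicit false
universe u
open CategoryTheory CategoryTheory.Limits AlgebraicGeometry
attribute [local instance] HasDerivedCategory.standard
open Dual3

namespace Groth.Agent.S3625

/-- Let f : X → Y be a morphism of schemes all of whose fibres are locally Noetherian, g : Y' → Y
locally of finite type, and X' = Y' ×_Y X with projections f' : X' → Y', g' : X' → X. Let x' be a
point of X' with image x in X. Then: (1) Gorensteinness of f at x passes to f' at x'; (2)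
conversely, f' being Gorenstein at x' forces f to be Gorenstein at x as long as f is flat at x; (3)
the same converse holds when instead g is flat at the point f'(x'). -/
theorem result (X Y X' Y' : Scheme.{u}) (f : X ⟶ Y) (g : Y' ⟶ Y) (f' : X' ⟶ Y') (g' : X' ⟶ X) (hsq : IsPullback g' f' f g) (hfibf : ∀ y, IsLocallyNoetherian (f.fiber y)) [LocallyOfFiniteType g] (x' : X') : (Dual3.IsGorensteinAt f (g' x') → Dual3.IsGorensteinAt f' x') ∧ ((f.stalkMap (g' x')).hom.Flat → Dual3.IsGorensteinAt f' x' → Dual3.IsGorensteinAt f (g' x')) ∧ ((g.stalkMap (f' x')).hom.Flat → Dual3.IsGorensteinAt f' x' → Dual3.IsGorensteinAt f (g' x')) := by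
  haveI := hfibf (g (f' x'))
  exact ⟨Groth.Agent.Lib.Helper1.GorBC.isGorensteinAt_baseChange hsq x' (Or.inl inferInstance),
    fun hfl h => Groth.Agent.Lib.Helper1.GorBC.isGorensteinAt_of_baseChange hsq x'
      (Or.inl inferInstance) hfl h,
    fun hg h => Groth.Agent.Lib.Helper1.GorBC.isGorensteinAt_of_baseChange hsq x'
      (Or.inl inferInstance)
      (Groth.Agent.Lib.Helper14.CMBaseChange.flat_stalkMap_of_baseChange hsq x' hg h.1) h⟩

end Groth.Agent.S3625
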