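import Groth.Statements.S13576
import Mathlib

set_option autoImplicit false
universe u
open CategoryTheory CategoryTheory.Limits MonoidalCategory
attribute [local instance] HasDerivedCategory.standard
open DTen

namespace Groth.Agent.S13576

lemma braidCx_comp {A : Type u} [CommRing A] (K L : DRing.Cx A) :
    (DTen.braidCx K L).hom ≫ (DTen.braidCx L K).hom = 𝟙 _ := by
  refine HomologicalComplex.hom_ext _ _ (fun n =>
    HomologicalComplex.mapBifunctor.hom_ext (fun p q h => ?_))
  rw [HomologicalComplex.comp_f]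
  erw [DTen.ι_braidCx_hom_assoc K L p q n h]
  simp only [Linear.units_smul_comp, Category.assoc]
  erw [DTen.ι_braidCx_hom L K q p n (by rw [add_comm]; exact h)]
  simp only [Linear.comp_units_smul, smul_smul]
  rw [SymmetricCategory.symmetry_assoc, mul_comm q p, Int.units_mul_self, one_smul]
  erw [HomologicalComplex.id_f, Category.comp_id]

/-- For a commutative ring `A` and objects `K`, `L` of `D(A)`, the canonical symmetry morphism `L ⊗^L K
⟶ K ⊗^L L` of the derived tensor product, the one compatible with the swap of complexes carrying the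
sign `(-1)^{pq}` on `K^p ⊗ L^q`, is an isomorphism. -/
theorem result (A : Type u) [CommRing A] [DTen.HasLTen A] (K L : Dual.D A) :
    IsIso ((DTen.symm A).app (K, L)) := by
  have key : ∀ (K L : Dual.D A), (DTen.symm A).app (L, K) ≫ (DTen.symm A).app (K, L) = 𝟙 _ := by
    let τ : DTen.LTen₂ A ⟶ DTen.LTen₂ A :=
      { app := fun X => (DTen.symm A).app (X.2, X.1) ≫ (DTen.symm A).app X
        naturality := by
          rintro ⟨X₁, X₂⟩ ⟨Y₁, Y₂⟩ ⟨φ₁, φ₂⟩
          have h1 := (DTen.symm A).naturality ((φ₂, φ₁) : (X₂, X₁) ⟶ (Y₂, Y₁))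
          have h2 := (DTen.symm A).naturality ((φ₁, φ₂) : (X₁, X₂) ⟶ (Y₁, Y₂))
          dsimp at h1 h2 ⊢
          rw [← Category.assoc, h1, Category.assoc, h2, Category.assoc] }
    have hτ : τ = 𝟙 _ := (DTen.LTen₂ A).leftDerived_ext (DTen.ε A) (DTen.qis₂ A) _ τ (𝟙 _) (by
      ext ⟨K, L⟩
      dsimp [τ]
      rw [Category.id_comp, Category.assoc]
      erw [DTen.symm_fac A K L]
      rw [← Category.assoc]
      erw [DTen.symm_fac A L K]
      rw [Category.assoc, ← Functor.map_comp, braidCx_comp]
      erw [CategoryTheory.Functor.map_id, Category.comp_id])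
    intro K L
    exact congrArg (fun t => t.app (K, L)) hτ
  exact ⟨⟨(DTen.symm A).app (L, K), key L K, key K L⟩⟩

end Groth.Agent.S13576
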