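import Groth.Statements.S0368
import Mathlib
import Groth.Agent.Lib.Helper4.DT5

set_option autoImplicit false
universe u v
open CategoryTheory
attribute [local instance] HasDerivedCategory.standard
open Dual

namespace Groth.Agent.S0368

/-- (1)⇔(3): for a Noetherian local ring with normalized dualizing complex ω, a nonzero finite module M
with support of dimension d is Cohen–Macaulay exactly when Hom(M, ω[−i]) vanishes in D(A) for every
i ≠ d. -/
theorem result (A : Type u) [CommRing A] [IsLocalRing A] [IsNoetherianRing A] (ω : Dual.D A) (hω : Dual.IsDualizing A ω) (hn : Dual.IsNormalized A ω) (M : Type u) [AddCommGroup M] [Module A M] [Module.Finite A M] [Nontrivial M] (d : ℕ) (hd : Module.supportDim A M = d) : LocCoh.IsCohenMacaulayModule A M ↔ ∀ i : ℤ, i ≠ d → Subsingleton (Dual.inD A M ⟶ ω⟦(-i)⟧) := by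
  have hCM : LocCoh.IsCohenMacaulayModule A M ↔ LocCoh.depth A M = d := by
    unfold LocCoh.IsCohenMacaulayModule
    rw [hd]
    constructor
    · intro h
      have h' : ((d : ℕ∞) : WithBot ℕ∞) = ((LocCoh.depth A M : ℕ∞) : WithBot ℕ∞) := h
      exact (WithBot.coe_injective h').symm
    · intro h
      rw [h]
      rfl
  rw [hCM, Groth.Agent.Lib.Helper4.DT.depth_eq_iff_T hω hn M d]
  constructor
  · rintro ⟨h1, _⟩ i hi
    rcases lt_or_ge i 0 with hneg | hpos
    · exact Groth.Agent.Lib.Helper4.DT.T_pos hω hn M (-i) (by omega)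
    · obtain ⟨k, rfl⟩ := Int.eq_ofNat_of_zero_le hpos
      have hk : k ≠ d := by
        intro h
        apply hi
        rw [h]
      rcases lt_or_gt_of_ne hk with hlt | hgt
      · exact h1 k hlt
      · apply (Groth.Agent.Lib.Helper4.DT.subsingleton_HH_iff hω hn M k).1
        exact Groth.Agent.Lib.Helper4.LC.HH.subsingleton_of_supportDim_lt
          (IsLocalRing.maximalIdeal A) (ModuleCat.of A M) k (by rw [hd]; exact_mod_cast hgt)
  · intro h
    refine ⟨fun δ hδ => h δ (by exact_mod_cast (ne_of_lt hδ)), ?_⟩
    exact (Groth.Agent.Lib.Helper4.DT.nontrivial_HH_iff hω hn M d).1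
      (Groth.Agent.Lib.Helper20.LCNonVanish.nontrivial_top d M hd)

end Groth.Agent.S0368
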