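import Groth.Statements.S7041
import Mathlib

set_option autoImplicit false
universe u
open TensorProduct
open LocCoh

namespace Groth.Agent.S7041

section aux

variable {R R' : Type u} [CommRing R] [CommRing R'] [Algebra R R'] (I : Ideal R)
  (hq : ∀ n : ℕ, 0 < n → Function.Bijective
      (Ideal.quotientMap (Ideal.map (algebraMap R R') (I ^ n)) (algebraMap R R') Ideal.le_comap_map))

include hq in
theorem exists_sub_mem (k : ℕ) (hk : 0 < k) (r' : R') :
    ∃ r : R, r' - algebraMap R R' r ∈ Ideal.map (algebraMap R R') (I ^ k) := by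
  obtain ⟨x, hx⟩ := (hq k hk).2 (Ideal.Quotient.mk _ r')
  obtain ⟨r, rfl⟩ := Ideal.Quotient.mk_surjective x
  rw [Ideal.quotientMap_mk, Ideal.Quotient.eq] at hx
  refine ⟨r, ?_⟩
  have := Ideal.neg_mem_iff _ |>.2 hx
  rwa [neg_sub] at this

include hq in
theorem mem_pow_of_map_mem (k : ℕ) (hk : 0 < k) (r : R)
    (h : algebraMap R R' r ∈ Ideal.map (algebraMap R R') (I ^ k)) : r ∈ I ^ k := by
  have h0 : Ideal.quotientMap (Ideal.map (algebraMap R R') (I ^ k)) (algebraMap R R')
      Ideal.le_comap_map (Ideal.Quotient.mk (I ^ k) r) =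
      Ideal.quotientMap (Ideal.map (algebraMap R R') (I ^ k)) (algebraMap R R')
      Ideal.le_comap_map 0 := by
    rw [Ideal.quotientMap_mk, map_zero, Ideal.Quotient.eq_zero_iff_mem]
    exact h
  have := (hq k hk).1 h0
  rwa [Ideal.Quotient.eq_zero_iff_mem] at this

theorem map_pow_mono {k K : ℕ} (h : k ≤ K) :
    Ideal.map (algebraMap R R') (I ^ K) ≤ Ideal.map (algebraMap R R') (I ^ k) :=
  Ideal.map_mono (Ideal.pow_le_pow_right h)

variable {M : Type u} [AddCommGroup M] [Module R M] (hM : LocCoh.IsPowerTorsion I M)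

/-- elements of `I^k R'` kill `m` in the tensor product when `I^k m = 0` -/
theorem tmul_eq_zero_of_mem (k : ℕ) (m : M) (hm : ∀ a ∈ I ^ k, a • m = 0) (j : R')
    (hj : j ∈ Ideal.map (algebraMap R R') (I ^ k)) : j ⊗ₜ[R] m = 0 := by
  have hle : Ideal.map (algebraMap R R') (I ^ k) ≤
      { carrier := {j : R' | j ⊗ₜ[R] m = 0}
        add_mem' := fun {a b} ha hb => by
          simp only [Set.mem_setOf_eq] at ha hb ⊢
          rw [TensorProduct.add_tmul, ha, hb, add_zero]
        zero_mem' := by simp
        smul_mem' := fun s a ha => by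
          simp only [Set.mem_setOf_eq, smul_eq_mul] at ha ⊢
          have : (s * a) ⊗ₜ[R] m = s • (a ⊗ₜ[R] m) := by
            rw [TensorProduct.smul_tmul', smul_eq_mul]
          rw [this, ha, smul_zero] } := by
    rw [Ideal.map_le_iff_le_comap]
    intro a ha
    show (algebraMap R R' a) ⊗ₜ[R] m = 0
    rw [Algebra.algebraMap_eq_smul_one, TensorProduct.smul_tmul, hm a ha, TensorProduct.tmul_zero]
  exact hle hj

/-- a positive exponent killing `m` -/
noncomputable def expo (m : M) : ℕ := (hM m).choose + 1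

theorem expo_pos (m : M) : 0 < expo I hM m := Nat.succ_pos _

theorem expo_spec (m : M) : ∀ a ∈ I ^ (expo I hM m), a • m = 0 := fun a ha =>
  (hM m).choose_spec a (Ideal.pow_le_pow_right (Nat.le_succ _) ha)

/-- the action of `R'` on `M` -/
noncomputable def act (r' : R') (m : M) : M :=
  (exists_sub_mem I hq (expo I hM m) (expo_pos I hM m) r').choose • m

theorem act_eq (r' : R') (m : M) (k : ℕ) (hk : 0 < k) (hm : ∀ a ∈ I ^ k, a • m = 0) (r : R)
    (hr : r' - algebraMap R R' r ∈ Ideal.map (algebraMap R R') (I ^ k)) :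
    act I hq hM r' m = r • m := by
  set n := expo I hM m with hn
  set r₀ := (exists_sub_mem I hq n (expo_pos I hM m) r').choose with hr₀
  have h₀ : r' - algebraMap R R' r₀ ∈ Ideal.map (algebraMap R R') (I ^ n) :=
    (exists_sub_mem I hq n (expo_pos I hM m) r').choose_spec
  show r₀ • m = r • m
  rw [← sub_eq_zero, ← sub_smul]
  rcases le_total n k with h | h
  · -- min is n
    have h1 : algebraMap R R' (r₀ - r) ∈ Ideal.map (algebraMap R R') (I ^ n) := by
      have : algebraMap R R' (r₀ - r) = (r' - algebraMap R R' r) - (r' - algebraMap R R' r₀) := by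
        rw [map_sub]; ring
      rw [this]
      exact Ideal.sub_mem _ (map_pow_mono I h hr) h₀
    exact expo_spec I hM m _ (mem_pow_of_map_mem I hq n (expo_pos I hM m) _ h1)
  · have h1 : algebraMap R R' (r₀ - r) ∈ Ideal.map (algebraMap R R') (I ^ k) := by
      have : algebraMap R R' (r₀ - r) = (r' - algebraMap R R' r) - (r' - algebraMap R R' r₀) := by
        rw [map_sub]; ring
      rw [this]
      exact Ideal.sub_mem _ hr (map_pow_mono I h h₀)
    exact hm _ (mem_pow_of_map_mem I hq k hk _ h1)

theorem killed_of_le (m : M) {k K : ℕ} (h : k ≤ K) (hm : ∀ a ∈ I ^ k, a • m = 0) :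
    ∀ a ∈ I ^ K, a • m = 0 := fun a ha => hm a (Ideal.pow_le_pow_right h ha)

/-- the action as a bilinear map -/
noncomputable def actLin : R' →ₗ[R] M →ₗ[R] M :=
  LinearMap.mk₂ R (act I hq hM)
    (by
      intro r₁ r₂ m
      set k := expo I hM m
      obtain ⟨s₁, hs₁⟩ := exists_sub_mem I hq k (expo_pos I hM m) r₁
      obtain ⟨s₂, hs₂⟩ := exists_sub_mem I hq k (expo_pos I hM m) r₂
      rw [act_eq I hq hM r₁ m k (expo_pos I hM m) (expo_spec I hM m) s₁ hs₁,
        act_eq I hq hM r₂ m k (expo_pos I hM m) (expo_spec I hM m) s₂ hs₂,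
        act_eq I hq hM (r₁ + r₂) m k (expo_pos I hM m) (expo_spec I hM m) (s₁ + s₂) (by
          have : r₁ + r₂ - algebraMap R R' (s₁ + s₂) =
              (r₁ - algebraMap R R' s₁) + (r₂ - algebraMap R R' s₂) := by rw [map_add]; ring
          rw [this]
          exact Ideal.add_mem _ hs₁ hs₂), add_smul])
    (by
      intro c r' m
      set k := expo I hM m
      obtain ⟨s, hs⟩ := exists_sub_mem I hq k (expo_pos I hM m) r'
      rw [act_eq I hq hM r' m k (expo_pos I hM m) (expo_spec I hM m) s hs,
        act_eq I hq hM (c • r') m k (expo_pos I hM m) (expo_spec I hM m) (c * s) (by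
          have : c • r' - algebraMap R R' (c * s) = algebraMap R R' c * (r' - algebraMap R R' s) := by
            rw [map_mul, Algebra.smul_def]; ring
          rw [this]
          exact Ideal.mul_mem_left _ _ hs), mul_smul])
    (by
      intro r' m₁ m₂
      set K := expo I hM m₁ + expo I hM m₂ + expo I hM (m₁ + m₂) with hK
      have hKpos : 0 < K := by have := expo_pos I hM m₁; omega
      obtain ⟨s, hs⟩ := exists_sub_mem I hq K hKpos r'
      rw [act_eq I hq hM r' m₁ K hKpos (killed_of_le I m₁ (by omega) (expo_spec I hM m₁)) s hs,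
        act_eq I hq hM r' m₂ K hKpos (killed_of_le I m₂ (by omega) (expo_spec I hM m₂)) s hs,
        act_eq I hq hM r' (m₁ + m₂) K hKpos
          (killed_of_le I (m₁ + m₂) (by omega) (expo_spec I hM (m₁ + m₂))) s hs, smul_add])
    (by
      intro c r' m
      set K := expo I hM m + expo I hM (c • m) with hK
      have hKpos : 0 < K := by have := expo_pos I hM m; omega
      obtain ⟨s, hs⟩ := exists_sub_mem I hq K hKpos r'
      rw [act_eq I hq hM r' m K hKpos (killed_of_le I m (by omega) (expo_spec I hM m)) s hs,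
        act_eq I hq hM r' (c • m) K hKpos
          (killed_of_le I (c • m) (by omega) (expo_spec I hM (c • m))) s hs, smul_comm])

theorem actLin_one (m : M) : actLin I hq hM 1 m = m := by
  show act I hq hM 1 m = m
  rw [act_eq I hq hM 1 m (expo I hM m) (expo_pos I hM m) (expo_spec I hM m) 1 (by simp), one_smul]

end aux

/-- Let R → R' be a homomorphism of commutative rings and I an ideal of R such that the induced map
R/I^n → R'/I^n R' is bijective for every n > 0. Then for every R-module M in which every element is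
killed by a power of I, the map M → R' ⊗_R M sending m to 1 ⊗ m is bijective. -/
theorem result {R R' : Type u} [CommRing R] [CommRing R'] [Algebra R R']
    (I : Ideal R)
    (hq : ∀ n : ℕ, 0 < n → Function.Bijective
      (Ideal.quotientMap (Ideal.map (algebraMap R R') (I ^ n)) (algebraMap R R') Ideal.le_comap_map))
    (M : Type u) [AddCommGroup M] [Module R M] (hM : LocCoh.IsPowerTorsion I M) :
    Function.Bijective (fun m : M => (1 : R') ⊗ₜ[R] m) := by
  constructor
  · intro m₁ m₂ h
    have h' : (1 : R') ⊗ₜ[R] m₁ = (1 : R') ⊗ₜ[R] m₂ := h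
    have := congrArg (TensorProduct.lift (actLin I hq hM)) h'
    rwa [TensorProduct.lift.tmul, TensorProduct.lift.tmul, actLin_one, actLin_one] at this
  · intro w
    induction w using TensorProduct.induction_on with
    | zero => exact ⟨0, by simp⟩
    | tmul r' m =>
      obtain ⟨s, hs⟩ := exists_sub_mem I hq (expo I hM m) (expo_pos I hM m) r'
      refine ⟨s • m, ?_⟩
      show (1 : R') ⊗ₜ[R] (s • m) = r' ⊗ₜ[R] m
      have h0 := tmul_eq_zero_of_mem I (expo I hM m) m (expo_spec I hM m) _ hs
      rw [TensorProduct.sub_tmul, sub_eq_zero] at h0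
      rw [h0, Algebra.algebraMap_eq_smul_one, TensorProduct.smul_tmul]
    | add x y hx hy =>
      obtain ⟨a, ha⟩ := hx
      obtain ⟨b, hb⟩ := hy
      refine ⟨a + b, ?_⟩
      show (1 : R') ⊗ₜ[R] (a + b) = x + y
      rw [TensorProduct.tmul_add]
      exact congrArg₂ (· + ·) ha hb

end Groth.Agent.S7041
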