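import Groth.Statements.S6935
import Mathlib
import Groth.Agent.Lib.Helper18.DRPC2

set_option autoImplicit false
universe u
open CategoryTheory CategoryTheory.Limits
attribute [local instance] HasDerivedCategory.standard
open DRing

namespace Groth.Agent.S6935

/-- Let R be a commutative ring and M an R-module, viewed as the complex M[0] in D(R). Then M[0] is
0-pseudo-coherent exactly when M is finitely generated over R, and M[0] is (-1)-pseudo-coherent
exactly when M admits a finite presentation over R. -/
theorem result (R : Type u) [CommRing R]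
    (M : Type u) [AddCommGroup M] [Module R M] :
    (DRing.IsPseudoCoherentModule R 0 M ↔ Module.Finite R M) ∧
      (DRing.IsPseudoCoherentModule R (-1) M ↔ Module.FinitePresentation R M) := by
  have hz : ∀ i : ℤ, i ≠ 0 → CategoryTheory.Limits.IsZero
      ((Groth.Agent.Lib.Helper18.DR.H R i).obj (Dual.inD R M)) := by
    intro i hi
    rcases lt_or_gt_of_ne hi with h | h
    · exact DerivedCategory.isZero_of_isGE (Dual.inD R M) 0 i h
    · exact DerivedCategory.isZero_of_isLE (Dual.inD R M) 0 i h
  have e0 : (Groth.Agent.Lib.Helper18.DR.H R 0).obj (Dual.inD R M) ≃ₗ[R] M :=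
    (Groth.Agent.Lib.Helper18.DR.HSg 0 (ModuleCat.of R M)).toLinearEquiv
  have hsub : ∀ i : ℤ, i ≠ 0 →
      Subsingleton ((Groth.Agent.Lib.Helper18.DR.H R i).obj (Dual.inD R M)) :=
    fun i hi => ModuleCat.subsingleton_of_isZero (hz i hi)
  refine ⟨⟨fun h => ?_, fun h => ?_⟩, ⟨fun h => ?_, fun h => ?_⟩⟩
  · haveI := Groth.Agent.Lib.Helper18.DR.finite_H_of_isPseudoCoherent (Dual.inD R M) 0 h
      (fun i hi => hz i (by omega))
    exact Module.Finite.equiv e0
  · refine Groth.Agent.Lib.Helper18.DR.isPseudoCoherent_of_top_cohomology 0 (Dual.inD R M)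
      (fun i hi => hz i (by omega)) ?_ (Module.Finite.equiv e0.symm)
    haveI := hsub (0 + 1) (by omega)
    infer_instance
  · have := Groth.Agent.Lib.Helper18.DR.finitePresentation_H_of_isPseudoCoherent (Dual.inD R M) (-1) h
      (fun i hi => hz i (by omega))
    have e1 : (Groth.Agent.Lib.Helper18.DR.H R (-1 + 1)).obj (Dual.inD R M) ≃ₗ[R] M := e0
    exact Module.FinitePresentation.of_equiv e1
  · refine Groth.Agent.Lib.Helper18.DR.isPseudoCoherent_of_top_cohomology (-1) (Dual.inD R M)
      (fun i hi => hz i (by omega)) ?_ ?_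
    · have e1 : (Groth.Agent.Lib.Helper18.DR.H R (-1 + 1)).obj (Dual.inD R M) ≃ₗ[R] M := e0
      exact Module.FinitePresentation.of_equiv e1.symm
    · haveI := hsub (-1) (by omega)
      infer_instance

end Groth.Agent.S6935
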