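import Groth.Statements.S0369
import Mathlib
import Groth.Agent.Lib.Helper4.CanonAss
import Groth.Agent.Lib.Helper4.CanonS2
import Groth.Agent.Lib.Helper4.CanonSupp

set_option autoImplicit false
universe u v
open CategoryTheory
attribute [local instance] HasDerivedCategory.standard
open Dual

namespace Groth.Agent.S0369

/-- For a Noetherian local ring of dimension d with normalized dualizing complex ω, the module ω_A =
H^{−d}(ω) has support equal to the union of those irreducible components of Spec A whose dimension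
is d, and satisfies Serre's condition (S_2). -/
theorem result (A : Type u) [CommRing A] [IsLocalRing A] [IsNoetherianRing A] (ω : Dual.D A) (hω : Dual.IsDualizing A ω) (hn : Dual.IsNormalized A ω) (d : ℕ) (hd : ringKrullDim A = d) : Module.support A (Dual.HD A ω (-(d : ℤ))) = {p : PrimeSpectrum A | ∃ q ∈ minimalPrimes A, q ≤ p.asIdeal ∧ ringKrullDim (A ⧸ q) = d} ∧ LocCoh.HasSk 2 A (Dual.HD A ω (-(d : ℤ))) := by
  obtain ⟨E, _, _, f, hf⟩ :=
    Groth.Agent.Lib.Helper1.InjHullLib.exists_injective_hull A (IsLocalRing.ResidueField A)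
  haveI : Module.Finite A (Dual.HD A ω (-(d : ℤ))) := hω.finite_cohomology _
  obtain ⟨e1⟩ := Groth.Agent.Lib.Helper4.DT.nonempty_HH_equiv hω hn f hf A d
  obtain ⟨e2⟩ := Groth.Agent.Lib.Helper4.DT.T_self_equiv ω (-(d : ℤ))
  let eK : (Dual.HD A ω (-(d : ℤ)) →ₗ[A] E) ≃ₗ[A]
      Groth.Agent.Lib.Helper4.LC.HH (IsLocalRing.maximalIdeal A) (ModuleCat.of A A) d :=
    (LinearEquiv.arrowCongr e2.symm (LinearEquiv.refl A E)).trans e1.symm
  let eK' : (Dual.HD A ω (-(d : ℤ)) →ₗ[A] E) ≃ₗ[A]
      LocCoh.H (IsLocalRing.maximalIdeal A) d A :=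
    eK.trans (Groth.Agent.Lib.Helper4.LC.lcEquiv (IsLocalRing.maximalIdeal A)
      (ModuleCat.of A A) d).symm
  refine ⟨?_, Groth.Agent.Lib.Helper4.CanonMod.hasSk_two f hf d hd _ eK⟩
  ext p
  haveI := p.isPrime
  constructor
  · intro hp
    rw [Module.support_eq_zeroLocus, PrimeSpectrum.mem_zeroLocus, SetLike.coe_subset_coe] at hp
    obtain ⟨q, hqmin, hqp⟩ := Ideal.exists_minimalPrimes_le hp
    have hqass : IsAssociatedPrime q (Dual.HD A ω (-(d : ℤ))) :=
      Module.associatedPrimes.minimalPrimes_annihilator_subset_associatedPrimes A _ hqmin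
    obtain ⟨hqprime, g, hg⟩ := (isAssociatedPrime_iff_exists_injective_linearMap q _).1 hqass
    haveI := hqprime
    have hdim : ringKrullDim (A ⧸ q) = d := by
      by_contra hne
      have hlt : ringKrullDim (A ⧸ q) < (d : WithBot ℕ∞) :=
        lt_of_le_of_ne ((ringKrullDim_quotient_le q).trans_eq hd) hne
      have hx0 : e2.symm (g 1) = 0 :=
        Groth.Agent.Lib.Helper4.DT.T_top_eq_zero_of_kills hω hn d hd q hlt _ (fun a ha => by
          rw [← map_smul, ← map_smul]
          have h10 : a • (1 : A ⧸ q) = 0 := by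
            rw [Algebra.smul_def, mul_one, Ideal.Quotient.algebraMap_eq]
            exact Ideal.Quotient.eq_zero_iff_mem.2 ha
          rw [h10, map_zero, map_zero])
      have h1 : g 1 = 0 := by
        have := congrArg e2 hx0
        rwa [LinearEquiv.apply_symm_apply, map_zero] at this
      have h2 : (1 : A ⧸ q) = 0 := hg (h1.trans (map_zero g).symm)
      exact one_ne_zero h2
    exact ⟨q, Groth.Agent.Lib.Helper4.LC.mem_minimalPrimes_of_ringKrullDim_quotient_eq d hd q hdim,
      hqp, hdim⟩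
  · rintro ⟨q, hqmin, hqp, hdim⟩
    have hq : (⟨q, hqmin.1.1⟩ : PrimeSpectrum A) ∈
        Module.support A (Dual.HD A ω (-(d : ℤ))) :=
      Groth.Agent.Lib.Helper4.CanonSupp.mem_support_of_dim_eq f hf d hd _ eK' ⟨q, hqmin.1.1⟩ hdim
    exact Module.mem_support_mono (show (⟨q, hqmin.1.1⟩ : PrimeSpectrum A) ≤ p from hqp) hq

end Groth.Agent.S0369
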