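import Groth.Statements.S9438
import Groth.Agent.Lib.Helper26.RegularRing

set_option autoImplicit false
universe u
open CAlg

namespace Groth.Agent.S9438

/-- The condition (R_k) descends along faithfully flat ring maps: if S is faithfully flat over R,
Noetherian and (R_k), then R is Noetherian and (R_k). -/
theorem result (k : ℕ) (R : Type u) [CommRing R] (S : Type u) [CommRing S]
    [Algebra R S] [Module.FaithfullyFlat R S] [IsNoetherianRing S] (hS : LocCoh.HasRk k S) :
    IsNoetherianRing R ∧ LocCoh.HasRk k R := by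
  haveI : IsNoetherianRing R :=
    Groth.Agent.Lib.Helper26.RegularRing.isNoetherianRing_of_faithfullyFlat R S
  refine ⟨inferInstance, ?_⟩
  intro p hp hpk
  obtain ⟨q₀, hq₀⟩ := PrimeSpectrum.comap_surjective_of_faithfullyFlat (A := R) (B := S) ⟨p, hp⟩
  have hq₀' : q₀.asIdeal.comap (algebraMap R S) = p := congrArg PrimeSpectrum.asIdeal hq₀
  have hle : p.map (algebraMap R S) ≤ q₀.asIdeal := by
    rw [Ideal.map_le_iff_le_comap, hq₀']
  obtain ⟨q, hqmin, hqle⟩ := Ideal.exists_minimalPrimes_le hle
  haveI hqprime : q.IsPrime := hqmin.1.1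
  have hqp : q.comap (algebraMap R S) = p := by
    apply le_antisymm
    · calc q.comap (algebraMap R S) ≤ q₀.asIdeal.comap (algebraMap R S) := Ideal.comap_mono hqle
        _ = p := hq₀'
    · rw [← Ideal.map_le_iff_le_comap]; exact hqmin.1.2
  haveI : q.LiesOver p := ⟨hqp.symm⟩
  have hht := Ideal.height_eq_height_add_of_liesOver_of_hasGoingDown p q
  have hmem : q.map (Ideal.Quotient.mk (p.map (algebraMap R S))) ∈
      minimalPrimes (S ⧸ p.map (algebraMap R S)) := by
    have h1 := Ideal.minimalPrimes_map_of_surjective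
      (f := Ideal.Quotient.mk (p.map (algebraMap R S))) Ideal.Quotient.mk_surjective
      (p.map (algebraMap R S))
    rw [Ideal.mk_ker, sup_idem, Ideal.map_quotient_self] at h1
    have h2 : q.map (Ideal.Quotient.mk (p.map (algebraMap R S))) ∈
        (⊥ : Ideal (S ⧸ p.map (algebraMap R S))).minimalPrimes := by
      rw [h1]
      exact ⟨q, hqmin, rfl⟩
    exact h2
  haveI : (q.map (Ideal.Quotient.mk (p.map (algebraMap R S)))).IsPrime := hmem.1.1
  have h0 : (q.map (Ideal.Quotient.mk (p.map (algebraMap R S)))).height = 0 :=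
    Ideal.height_eq_zero_iff.mpr hmem
  rw [h0, add_zero] at hht
  haveI : IsRegularLocalRing (Localization.AtPrime q) := hS q (hht ▸ hpk)
  exact Groth.Agent.Lib.Helper26.RegularRing.isRegularLocalRing_atPrime_of_flat R S p q

end Groth.Agent.S9438
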