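import Groth.Statements.S2166
import Groth.Agent.Lib.Helper27.KosH1CI
import Groth.Agent.Lib.Helper27.SpanFinrankFlat
import Groth.Agent.Lib.Helper14.ComplQuot
import Groth.Agent.Lib.Helper8.ComplDim

set_option autoImplicit false
universe u
open LCI

namespace Groth.Agent.S2166

/-- R already a regular local ring: for a regular local ring R and a proper ideal I, the local ring R/I
is a complete intersection (its completion is a regular local ring modulo a regular sequence) if and
only if I itself is generated by a regular sequence of R. -/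
theorem result {R : Type u} [CommRing R] [IsRegularLocalRing R]
    (I : Ideal R) (hI : I ≠ ⊤) [IsLocalRing (R ⧸ I)] :
    Pi1.IsCompleteIntersection (R ⧸ I) ↔
      ∃ rs : List R, Ideal.ofList rs = I ∧ RingTheory.Sequence.IsRegular R rs := by
  classical
  haveI : Nontrivial (R ⧸ I) := inferInstance
  haveI : IsRegularLocalRing (EGA4.Cpl R) :=
    (Groth.Agent.Lib.Helper8.isRegularLocalRing_adicCompletion_iff R).1 inferInstance
  have hIm : I ≤ IsLocalRing.maximalIdeal R := IsLocalRing.le_maximalIdeal hI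
  have hsurj := Groth.Agent.Lib.Helper14.ComplQuot.cplMap_surjective R I
  have hkerc := Groth.Agent.Lib.Helper14.ComplQuot.ker_cplMap R I
  constructor
  · rintro ⟨B', _, _, rs', hmem', hreg', ⟨e'⟩⟩
    let g : B' →+* EGA4.Cpl (R ⧸ I) :=
      e'.symm.toRingHom.comp (Ideal.Quotient.mk (Ideal.span {r | r ∈ rs'}))
    have hg : Function.Surjective g := e'.symm.surjective.comp Ideal.Quotient.mk_surjective
    have hker : RingHom.ker g = Ideal.ofList rs' := by
      ext b
      rw [RingHom.mem_ker]
      show e'.symm (Ideal.Quotient.mk _ b) = 0 ↔ b ∈ Ideal.span {r | r ∈ rs'}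
      rw [EmbeddingLike.map_eq_zero_iff, Ideal.Quotient.eq_zero_iff_mem]
    have h := Groth.Agent.Lib.Helper27.KosH1.dim_add_spanFinrank_of_presentation
      (EGA4.Cpl (R ⧸ I)) (EGA4.Cpl R) B'
      (Groth.Agent.Lib.Helper14.ComplFlat.cplMap R (R ⧸ I)) hsurj g hg rs' hreg' hker
    rw [hkerc] at h
    have hd1 : ringKrullDim (EGA4.Cpl (R ⧸ I)) = ringKrullDim (R ⧸ I) :=
      Groth.Agent.Lib.Helper8.ringKrullDim_adicCompletion (R ⧸ I)
    have hd2 : ringKrullDim (EGA4.Cpl R) = ringKrullDim R :=
      Groth.Agent.Lib.Helper8.ringKrullDim_adicCompletion R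
    rw [hd1, hd2] at h
    haveI : Module.FaithfullyFlat R (EGA4.Cpl R) := Module.FaithfullyFlat.of_flat_of_isLocalHom
    have hle := Groth.Agent.Lib.Helper27.SpanFinrankFlat.spanFinrank_le_spanFinrank_map
      (R := R) (S := EGA4.Cpl R) I
    have h1 : ringKrullDim R ≤ ringKrullDim (R ⧸ I) + I.spanFinrank :=
      ringKrullDim_le_ringKrullDim_quotient_add_spanFinrank _ (by
        rw [IsLocalRing.ringJacobson_eq_maximalIdeal]; exact hIm)
    obtain ⟨d, hd⟩ := Groth.Agent.Lib.Helper27.KosH1.exists_nat_dim R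
    obtain ⟨a, ha⟩ := Groth.Agent.Lib.Helper27.KosH1.exists_nat_dim (R ⧸ I)
    rw [ha, hd] at h h1
    have h' : a + (I.map (algebraMap R (EGA4.Cpl R))).spanFinrank = d := by exact_mod_cast h
    have h1' : d ≤ a + I.spanFinrank := by exact_mod_cast h1
    have h2 : ringKrullDim (R ⧸ I) + (I.spanFinrank : WithBot ℕ∞) = ringKrullDim R := by
      rw [ha, hd]
      have : a + I.spanFinrank = d := by omega
      exact_mod_cast this
    obtain ⟨rs, hof, hreg, -⟩ := Groth.Agent.Lib.Helper27.KosH1.exists_regular_of_dim R I hI h2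
    exact ⟨rs, hof, hreg⟩
  · rintro ⟨rs, hof, hreg⟩
    let f : R →+* EGA4.Cpl R := algebraMap R (EGA4.Cpl R)
    have hmemB : ∀ r ∈ rs.map f, r ∈ IsLocalRing.maximalIdeal (EGA4.Cpl R) := by
      intro r hr
      obtain ⟨a, ha, rfl⟩ := List.mem_map.1 hr
      rw [AdicCompletion.maximalIdeal_eq_map]
      apply Ideal.mem_map_of_mem
      apply hIm
      rw [← hof]
      exact Ideal.subset_span ha
    refine ⟨EGA4.Cpl R, inferInstance, inferInstance, rs.map f, hmemB, ?_, ?_⟩
    · have h2 := RingTheory.Sequence.IsWeaklyRegular.of_flat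
        (S := EGA4.Cpl R) hreg.toIsWeaklyRegular
      exact RingTheory.Sequence.IsRegular.of_isWeaklyRegular_of_mem_maximalIdeal _ hmemB h2
    · have hspan : Ideal.span {r | r ∈ rs.map f} =
          RingHom.ker (Groth.Agent.Lib.Helper14.ComplFlat.cplMap R (R ⧸ I)) := by
        rw [hkerc, ← hof, Ideal.ofList, Ideal.map_span]
        congr 1
        ext r
        simp only [Set.mem_setOf_eq, List.mem_map, Set.mem_image]
        rfl
      exact ⟨((Ideal.quotEquivOfEq hspan).trans
        (RingHom.quotientKerEquivOfSurjective hsurj)).symm⟩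

end Groth.Agent.S2166
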