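import Mathlib
import Groth.Agent.Lib.Helper20.LCFlat
import Groth.Agent.Lib.Helper20.LCIndep2
import Groth.Statements.S0379
-- import your own Groth.Agent.* helpers here

set_option autoImplicit false
universe u v
open LocCoh

namespace Groth.Agent.S0379

/-- For a homomorphism of Noetherian rings A → B, if local cohomology with support in I vanishes above
degree d on all A-modules then local cohomology with support in IB vanishes above degree d on all
B-modules; if B is faithfully flat over A the converse holds too. -/
theorem result (A : Type u) [CommRing A] [IsNoetherianRing A] (B : Type u) [CommRing B] [IsNoetherianRing B] [Algebra A B] (I : Ideal A) (d : ℕ) : (LocCoh.CdLE A I d → LocCoh.CdLE B (I.map (algebraMap A B)) d) ∧ (Module.FaithfullyFlat A B → LocCoh.CdLE B (I.map (algebraMap A B)) d → LocCoh.CdLE A I d) := by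
  refine ⟨fun h M' _ _ i hi => ?_, fun hff h M _ _ i hi => ?_⟩
  · let _ : Module A M' := Module.compHom M' (algebraMap A B)
    have : IsScalarTower A B M' := IsScalarTower.of_algebraMap_smul (fun r x => rfl)
    obtain ⟨φ, -⟩ := Groth.Agent.Lib.Helper20.LCIndep2.exists_addEquiv B I M' i
    have h1 : Subsingleton (LocCoh.H I i M') := h M' i hi
    have h2 : Subsingleton (Groth.Agent.Lib.Helper4.LC.HH I (ModuleCat.of A M') i) :=
      (Groth.Agent.Lib.Helper4.LC.lcEquiv I (ModuleCat.of A M') i).symm.toEquiv.subsingleton
    have h3 : Subsingleton (Groth.Agent.Lib.Helper4.LC.HH (I.map (algebraMap A B))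
        (ModuleCat.of B M') i) := φ.toEquiv.subsingleton
    exact (Groth.Agent.Lib.Helper4.LC.lcEquiv (I.map (algebraMap A B))
      (ModuleCat.of B M') i).toEquiv.subsingleton
  · have hflat : Module.Flat A B := inferInstance
    obtain ⟨e⟩ := Groth.Agent.Lib.Helper20.LCFlat.nonempty_baseChange_equiv B I i M
    have h1 : Subsingleton (LocCoh.H (I.map (algebraMap A B)) i (TensorProduct A B M)) :=
      h (TensorProduct A B M) i hi
    have h2 : Subsingleton (Groth.Agent.Lib.Helper4.LC.HH (I.map (algebraMap A B))
        (ModuleCat.of B (TensorProduct A B M)) i) :=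
      (Groth.Agent.Lib.Helper4.LC.lcEquiv (I.map (algebraMap A B))
        (ModuleCat.of B (TensorProduct A B M)) i).symm.toEquiv.subsingleton
    have h3 : Subsingleton (TensorProduct A B (Groth.Agent.Lib.Helper4.LC.HH I (ModuleCat.of A M) i)) :=
      e.toEquiv.subsingleton
    have h4 : Subsingleton (Groth.Agent.Lib.Helper4.LC.HH I (ModuleCat.of A M) i) :=
      Module.FaithfullyFlat.lTensor_reflects_triviality A B _
    exact (Groth.Agent.Lib.Helper4.LC.lcEquiv I (ModuleCat.of A M) i).toEquiv.subsingleton

end Groth.Agent.S0379
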