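import Groth.Statements.S12711
import Mathlib
import Groth.Agent.Lib.Helper19.ArtFunBasic
-- import your own Groth.Agent.* helpers here

set_option autoImplicit false
universe u v
open CategoryTheory
open ArtFun ArtFun.Art

namespace Groth.Agent.S12711

/-- If B together with p₁ : B → A₁ and p₂ : B → A₂ is the fibre product A₁ ×_A A₂ in the category of
Artinian local Λ-algebras with residue field k, and f₂ : A₂ → A is a small extension, then the
projection p₁ : B → A₁ is a small extension. -/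
theorem result {Λ : Type u} {k : Type u} [CommRing Λ] [Field k] [Algebra Λ k]
    [IsNoetherianRing Λ] [Module.Finite Λ k]
    {B A A₁ A₂ : ArtFun.Art Λ k} {p₁ : B ⟶ A₁} {p₂ : B ⟶ A₂} {f₁ : A₁ ⟶ A} {f₂ : A₂ ⟶ A}
    (h : ArtFun.Art.IsFibreProd p₁ p₂ f₁ f₂) (hf₂ : ArtFun.Art.IsSmallExt f₂) :
    ArtFun.Art.IsSmallExt p₁ := by
  obtain ⟨hsurj, hne, ⟨⟨t, ht⟩⟩, hm⟩ := hf₂
  have ht' : RingHom.ker f₂.toAlgHom = Ideal.span {t} := ht
  have htker : t ∈ RingHom.ker f₂.toAlgHom := by rw [ht']; exact Ideal.subset_span rfl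
  have ht0 : t ≠ 0 := by
    rintro rfl
    apply hne
    rw [ht']
    simp
  have hmt : ∀ y ∈ IsLocalRing.maximalIdeal A₂, ∀ z ∈ RingHom.ker f₂.toAlgHom, y * z = 0 := by
    intro y hy z hz
    have : y * z ∈ IsLocalRing.maximalIdeal A₂ * RingHom.ker f₂.toAlgHom := Ideal.mul_mem_mul hy hz
    rw [hm] at this
    exact this
  have hp₁0 : ∀ b : B, p₁ b = 0 → p₂ b ∈ RingHom.ker f₂.toAlgHom := by
    intro b hb
    rw [RingHom.mem_ker]
    have := h.w_apply b
    rw [hb] at this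
    have h0 : f₁ 0 = 0 := map_zero f₁.toAlgHom
    rw [h0] at this
    exact this.symm
  -- the generator
  obtain ⟨b₀, hb₀1, hb₀2⟩ := h.surj 0 t (by
    have h0 : f₁ 0 = 0 := map_zero f₁.toAlgHom
    rw [h0]
    exact htker.symm)
  have hmul1 : ∀ x y : B, p₁ (x * y) = p₁ x * p₁ y := fun x y => map_mul p₁.toAlgHom x y
  have hmul2 : ∀ x y : B, p₂ (x * y) = p₂ x * p₂ y := fun x y => map_mul p₂.toAlgHom x y
  have hzero1 : p₁ 0 = 0 := map_zero p₁.toAlgHom
  have hzero2 : p₂ 0 = 0 := map_zero p₂.toAlgHom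
  have hker : RingHom.ker p₁.toAlgHom = Ideal.span {b₀} := by
    apply le_antisymm
    · intro b hb
      have hb1 : p₁ b = 0 := hb
      have hb2 := hp₁0 b hb1
      rw [ht'] at hb2
      obtain ⟨r, hr⟩ := Ideal.mem_span_singleton'.mp hb2
      obtain ⟨s, hs⟩ := B.res_surjective (A₂.res r)
      have hsr : p₂ s - r ∈ IsLocalRing.maximalIdeal A₂ := by
        rw [ArtFun.Art.mem_maximalIdeal_iff, map_sub, ArtFun.Art.res_app, hs, sub_self]
      have hsrt : p₂ s * t = r * t := by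
        have := hmt _ hsr t htker
        rw [sub_mul, sub_eq_zero] at this
        exact this
      have : b = s * b₀ := by
        apply h.inj
        · rw [hb1, hmul1, hb₀1, mul_zero]
        · rw [hmul2, hb₀2, hsrt, hr]
      rw [this]
      exact Ideal.mul_mem_left _ _ (Ideal.subset_span rfl)
    · rw [Ideal.span_le]
      intro z hz
      rw [Set.mem_singleton_iff] at hz
      subst hz
      exact hb₀1
  refine ⟨?_, ?_, ?_, ?_⟩
  · intro a₁
    obtain ⟨a₂, ha₂⟩ := hsurj (f₁ a₁)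
    obtain ⟨b, hb1, _⟩ := h.surj a₁ a₂ ha₂.symm
    exact ⟨b, hb1⟩
  · rw [hker]
    intro hbot
    have : b₀ ∈ (⊥ : Ideal B) := by rw [← hbot]; exact Ideal.subset_span rfl
    rw [Ideal.mem_bot] at this
    rw [this, hzero2] at hb₀2
    exact ht0 hb₀2.symm
  · rw [hker]
    exact ⟨⟨b₀, rfl⟩⟩
  · rw [eq_bot_iff, Ideal.mul_le]
    intro y hy z hz
    rw [Ideal.mem_bot]
    have hz1 : p₁ z = 0 := hz
    apply h.inj
    · rw [hmul1, hz1, mul_zero, hzero1]
    · rw [hmul2, hzero2]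
      apply hmt _ _ _ (hp₁0 z hz1)
      rw [ArtFun.Art.mem_maximalIdeal_iff, ArtFun.Art.res_app]
      exact (ArtFun.Art.mem_maximalIdeal_iff B y).mp hy

end Groth.Agent.S12711
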