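import Groth.Statements.S12729
import Mathlib
import Groth.Agent.Lib.Helper19.ArtFunBasic

set_option autoImplicit false
universe u v
open CategoryTheory
open ArtFun

namespace Groth.Agent.S12729

open Groth.Agent.Lib.Helper19.ArtFunBasic

/-- complements inside an ideal killed by the maximal ideal -/
theorem exists_compl {B : Type*} [CommRing B] [IsLocalRing B] [IsNoetherianRing B]
    (I J₁ J₂ : Ideal B) (hI : IsLocalRing.maximalIdeal B * I = ⊥) (h₂ : J₂ ≤ I) :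
    ∃ J' : Ideal B, J₂ ≤ J' ∧ J' ≤ I ∧ I ≤ J₁ ⊔ J' ∧ J₁ ⊓ J' = J₁ ⊓ J₂ := by
  classical
  let S : Set (Ideal B) := {J' | J₂ ≤ J' ∧ J' ≤ I ∧ J₁ ⊓ J' = J₁ ⊓ J₂}
  have hS : S.Nonempty := ⟨J₂, le_rfl, h₂, rfl⟩
  obtain ⟨J', hJ'S, hmax⟩ := (wellFounded_gt : WellFounded ((· > ·) : Ideal B → Ideal B → Prop)).has_min S hS
  obtain ⟨h1, h2, h3⟩ := hJ'S
  refine ⟨J', h1, h2, ?_, h3⟩
  intro t ht
  by_contra htn
  have htJ' : t ∉ J' := fun h => htn (Ideal.mem_sup_right h)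
  let J'' : Ideal B := J' ⊔ Ideal.span {t}
  have hJ''S : J'' ∈ S := by
    refine ⟨h1.trans le_sup_left, sup_le h2 ?_, ?_⟩
    · rw [Ideal.span_le, Set.singleton_subset_iff]; exact ht
    · apply le_antisymm
      · intro x hx
        obtain ⟨hx1, hx2⟩ := hx
        obtain ⟨j', hj', s, hs, rfl⟩ := Submodule.mem_sup.mp hx2
        obtain ⟨b, rfl⟩ := Ideal.mem_span_singleton'.mp hs
        by_cases hb : IsUnit b
        · exfalso
          apply htn
          obtain ⟨c, hc⟩ := hb.exists_left_inv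
          have : t = c * ((j' + b * t) - j') := by
            rw [add_sub_cancel_left, ← mul_assoc, hc, one_mul]
          rw [this]
          apply Ideal.mul_mem_left
          exact Ideal.sub_mem _ (Ideal.mem_sup_left hx1) (Ideal.mem_sup_right hj')
        · have hbm : b ∈ IsLocalRing.maximalIdeal B := (IsLocalRing.mem_maximalIdeal b).2 hb
          have hbt : b * t = 0 := by
            have : b * t ∈ IsLocalRing.maximalIdeal B * I := Ideal.mul_mem_mul hbm ht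
            rw [hI] at this
            exact this
          rw [hbt, add_zero] at hx1 ⊢
          rw [← h3]
          exact ⟨hx1, hj'⟩
      · exact inf_le_inf_left _ (h1.trans le_sup_left)
  apply hmax J'' hJ''S
  refine lt_of_le_of_ne le_sup_left ?_
  intro h
  apply htJ'
  rw [h]
  exact Ideal.mem_sup_right (Ideal.subset_span rfl)

section

variable {Λ : Type u} {k : Type u} [CommRing Λ] [Field k] [Algebra Λ k]

/-- the lifting property for an ideal -/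
def Q {F : ArtFun.Art Λ k ⥤ Type v} {B A : ArtFun.Art Λ k} (p : B ⟶ A) (x : F.obj A)
    (J : Ideal B) : Prop :=
  ∃ (hJ : J ≤ RingHom.ker p.toAlgHom) (hJ' : J ≤ IsLocalRing.maximalIdeal B),
    ∃ y : F.obj (ArtFun.Art.quot B J hJ'), F.map (ArtFun.Art.quotFactor hJ' p hJ) y = x

theorem Q_mono {F : ArtFun.Art Λ k ⥤ Type v} {B A : ArtFun.Art Λ k} (p : B ⟶ A) (x : F.obj A)
    (J J' : Ideal B) (hle : J ≤ J') (hJ' : J' ≤ RingHom.ker p.toAlgHom) (h : Q p x J) :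
    Q p x J' := by
  obtain ⟨hJ, hJm, y, hy⟩ := h
  have hJ'm : J' ≤ IsLocalRing.maximalIdeal B := hJ'.trans (ker_le_maximalIdeal p)
  refine ⟨hJ', hJ'm, F.map (quotQuot B J J' hJ'm hle) y, ?_⟩
  have hcomp : quotQuot B J J' hJ'm hle ≫ ArtFun.Art.quotFactor hJ'm p hJ' =
      ArtFun.Art.quotFactor (hle.trans hJ'm) p hJ := by
    apply ArtFun.Art.hom_ext
    apply AlgHom.ext
    intro z
    obtain ⟨b, rfl⟩ := Ideal.Quotient.mk_surjective z
    rfl
  have : F.map (ArtFun.Art.quotFactor hJ'm p hJ') (F.map (quotQuot B J J' hJ'm hle) y) =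
      F.map (quotQuot B J J' hJ'm hle ≫ ArtFun.Art.quotFactor hJ'm p hJ') y := by
    rw [F.map_comp]; rfl
  rw [this, hcomp]
  exact hy

theorem Q_ker {F : ArtFun.Art Λ k ⥤ Type v} {B A : ArtFun.Art Λ k} (p : B ⟶ A)
    (hp : Function.Surjective p) (x : F.obj A) : Q p x (RingHom.ker p.toAlgHom) := by
  have hm := ker_le_maximalIdeal p
  refine ⟨le_rfl, hm, ?_⟩
  have hbij : Function.Bijective (ArtFun.Art.quotFactor hm p le_rfl) := by
    constructor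
    · intro z₁ z₂ h
      obtain ⟨b₁, rfl⟩ := Ideal.Quotient.mk_surjective z₁
      obtain ⟨b₂, rfl⟩ := Ideal.Quotient.mk_surjective z₂
      have h' : p b₁ = p b₂ := h
      apply Ideal.Quotient.eq.mpr
      rw [RingHom.mem_ker, map_sub, sub_eq_zero]
      exact h'
    · intro a
      obtain ⟨b, rfl⟩ := hp a
      exact ⟨Ideal.Quotient.mk _ b, rfl⟩
  haveI : IsIso (ArtFun.Art.quotFactor hm p le_rfl) := isIso_of_bijective _ hbij
  refine ⟨F.map (inv (ArtFun.Art.quotFactor hm p le_rfl)) x, ?_⟩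
  change (F.map (inv (ArtFun.Art.quotFactor hm p le_rfl)) ≫ F.map _) x = x
  rw [← F.map_comp, IsIso.inv_hom_id, F.map_id]
  rfl

theorem Q_inf {F : ArtFun.Art Λ k ⥤ Type v} (h1 : ArtFun.S1 F) {B A : ArtFun.Art Λ k} (p : B ⟶ A)
    (hp : ArtFun.Art.IsSemismallExt p) (x : F.obj A) (J₁ J₂ : Ideal B)
    (hQ₁ : Q p x J₁) (hQ₂ : Q p x J₂) : Q p x (J₁ ⊓ J₂) := by
  obtain ⟨hJ₁, hJ₁m, y₁, hy₁⟩ := hQ₁
  have hJ₂ : J₂ ≤ RingHom.ker p.toAlgHom := hQ₂.1
  obtain ⟨J', h2le, hJ'I, hsup, hinf⟩ := exists_compl (RingHom.ker p.toAlgHom) J₁ J₂ hp.2 hJ₂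
  obtain ⟨_, hJ'm, y₂, hy₂⟩ := Q_mono p x J₂ J' h2le hJ'I hQ₂
  rw [← hinf]
  have hKm : J₁ ⊓ J' ≤ IsLocalRing.maximalIdeal B := inf_le_left.trans hJ₁m
  have hKI : J₁ ⊓ J' ≤ RingHom.ker p.toAlgHom := inf_le_left.trans hJ₁
  refine ⟨hKI, hKm, ?_⟩
  -- the fibre product square
  have hsq : ArtFun.Art.IsFibreProd (quotQuot B (J₁ ⊓ J') J₁ hJ₁m inf_le_left)
      (quotQuot B (J₁ ⊓ J') J' hJ'm inf_le_right)
      (ArtFun.Art.quotFactor hJ₁m p hJ₁) (ArtFun.Art.quotFactor hJ'm p hJ'I) := by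
    refine ⟨?_, ?_, ?_⟩
    · apply ArtFun.Art.hom_ext
      apply AlgHom.ext
      intro z
      obtain ⟨b, rfl⟩ := Ideal.Quotient.mk_surjective z
      rfl
    · intro z₁ z₂ e₁ e₂
      obtain ⟨b₁, rfl⟩ := Ideal.Quotient.mk_surjective z₁
      obtain ⟨b₂, rfl⟩ := Ideal.Quotient.mk_surjective z₂
      have e₁' : (Ideal.Quotient.mk J₁ b₁ : B ⧸ J₁) = Ideal.Quotient.mk J₁ b₂ := e₁
      have e₂' : (Ideal.Quotient.mk J' b₁ : B ⧸ J') = Ideal.Quotient.mk J' b₂ := e₂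
      apply Ideal.Quotient.eq.mpr
      exact ⟨Ideal.Quotient.eq.mp e₁', Ideal.Quotient.eq.mp e₂'⟩
    · intro a' a'' e
      obtain ⟨b₁, rfl⟩ := Ideal.Quotient.mk_surjective a'
      obtain ⟨b₂, rfl⟩ := Ideal.Quotient.mk_surjective a''
      have e' : p b₁ = p b₂ := e
      have hmem : b₁ - b₂ ∈ RingHom.ker p.toAlgHom := by
        rw [RingHom.mem_ker, map_sub, sub_eq_zero]; exact e'
      obtain ⟨j₁, hj₁, j', hj', hsum⟩ := Submodule.mem_sup.mp (hsup hmem)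
      refine ⟨Ideal.Quotient.mk _ (b₁ - j₁), ?_, ?_⟩
      · change (Ideal.Quotient.mk J₁ (b₁ - j₁) : B ⧸ J₁) = Ideal.Quotient.mk J₁ b₁
        apply Ideal.Quotient.eq.mpr
        rw [sub_sub_cancel_left]
        exact J₁.neg_mem hj₁
      · change (Ideal.Quotient.mk J' (b₁ - j₁) : B ⧸ J') = Ideal.Quotient.mk J' b₂
        apply Ideal.Quotient.eq.mpr
        have : b₁ - j₁ - b₂ = j' := by
          have h5 : b₁ - j₁ - b₂ = (b₁ - b₂) - j₁ := by ring
          rw [h5, ← hsum]; ring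
        rw [this]
        exact hj'
  have hsurj : Function.Surjective (ArtFun.Art.quotFactor hJ'm p hJ'I) := by
    intro a
    obtain ⟨b, rfl⟩ := hp.1 a
    exact ⟨Ideal.Quotient.mk _ b, rfl⟩
  obtain ⟨z, hz⟩ := h1 _ _ _ _ hsq hsurj ⟨(y₁, y₂), hy₁.trans hy₂.symm⟩
  have hz1 : F.map (quotQuot B (J₁ ⊓ J') J₁ hJ₁m inf_le_left) z = y₁ :=
    congrArg (fun t => t.1.1) hz
  refine ⟨z, ?_⟩
  have hcomp : quotQuot B (J₁ ⊓ J') J₁ hJ₁m inf_le_left ≫ ArtFun.Art.quotFactor hJ₁m p hJ₁ =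
      ArtFun.Art.quotFactor hKm p hKI := by
    apply ArtFun.Art.hom_ext
    apply AlgHom.ext
    intro z
    obtain ⟨b, rfl⟩ := Ideal.Quotient.mk_surjective z
    rfl
  rw [← hcomp, F.map_comp]
  change F.map (ArtFun.Art.quotFactor hJ₁m p hJ₁) (F.map _ z) = x
  rw [hz1, hy₁]

end

/-- For functors, let F satisfy (S1), let p : B → A be a surjection in the category of Artinian local
Λ-algebras with residue field k whose kernel I is annihilated by m_B, and let x ∈ F(A). Then the set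
of ideals J ⊆ I for which x lifts to F(B/J) along B/J → A has a least element. -/
theorem result {Λ : Type u} {k : Type u} [CommRing Λ] [Field k] [Algebra Λ k]
    [IsNoetherianRing Λ] [Module.Finite Λ k]
    {F : ArtFun.Art Λ k ⥤ Type v} (h1 : ArtFun.S1 F)
    {B A : ArtFun.Art Λ k} (p : B ⟶ A) (hp : ArtFun.Art.IsSemismallExt p) (x : F.obj A) :
    ∃ (J₀ : Ideal B) (hJ₀ : J₀ ≤ RingHom.ker p.toAlgHom) (hJ₀' : J₀ ≤ IsLocalRing.maximalIdeal B),
      (∃ y : F.obj (ArtFun.Art.quot B J₀ hJ₀'), F.map (ArtFun.Art.quotFactor hJ₀' p hJ₀) y = x) ∧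
      ∀ (J : Ideal B) (hJ : J ≤ RingHom.ker p.toAlgHom) (hJ' : J ≤ IsLocalRing.maximalIdeal B),
        (∃ y : F.obj (ArtFun.Art.quot B J hJ'), F.map (ArtFun.Art.quotFactor hJ' p hJ) y = x) → J₀ ≤ J := by
  classical
  let S : Set (Ideal B) := {J | Q p x J}
  have hS : S.Nonempty := ⟨_, Q_ker p hp.1 x⟩
  obtain ⟨J₀, hJ₀S, hmin⟩ :=
    (wellFounded_lt : WellFounded ((· < ·) : Ideal B → Ideal B → Prop)).has_min S hS
  have hJ₀Q : Q p x J₀ := hJ₀S
  obtain ⟨hJ₀, hJ₀', hy⟩ := hJ₀Q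
  refine ⟨J₀, hJ₀, hJ₀', hy, ?_⟩
  intro J hJ hJ' hyJ
  have hQJ : Q p x J := ⟨hJ, hJ', hyJ⟩
  have hinf : Q p x (J₀ ⊓ J) := Q_inf h1 p hp x J₀ J hJ₀S hQJ
  by_contra hnle
  apply hmin (J₀ ⊓ J) hinf
  refine lt_of_le_of_ne inf_le_left ?_
  intro h
  apply hnle
  rw [← h]
  exact inf_le_right

end Groth.Agent.S12729
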