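import Groth.Statements.S12728
import Mathlib
import Groth.Agent.Lib.Helper19.ArtFunHR
import Groth.Agent.Lib.Helper19.ArtFunDouble

set_option autoImplicit false
universe u v
open CategoryTheory
open ArtFun

namespace Groth.Agent.S12728

/-- For functors, let F be a functor on Artinian local Λ-algebras with residue field k with F(k) a
point, satisfying (S1) and (S2), and ξ a family of F over a complete local Noetherian R with residue
field k. Then ξ is versal if and only if (1) the map h_R(k[ε]) → F(k[ε]) on tangent spaces is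
surjective, and (2) whenever μ : B → A is a small extension, φ : R → A, and y ∈ F(B) lies over ξ(φ),
the map φ lifts to some R → B. -/
theorem result {Λ : Type u} {k : Type u} [CommRing Λ] [Field k] [Algebra Λ k]
    [IsNoetherianRing Λ] [Module.Finite Λ k]
    {F : ArtFun.Art Λ k ⥤ Type v} (h0 : ArtFun.H0 F) (h1 : ArtFun.S1 F) (h2 : ArtFun.Heps F)
    (R : ArtFun.CRing Λ k) (ξ : ArtFun.Family R.carrier R.res F) :
    ArtFun.IsVersal ξ ↔
      (Function.Surjective (ArtFun.TangentSpace.ofFamily ξ) ∧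
        ∀ ⦃B A : ArtFun.Art Λ k⦄ (μ : B ⟶ A), ArtFun.Art.IsSmallExt μ →
          ∀ (φ : ArtFun.HomSet R.carrier R.res A) (y : F.obj B), F.map μ y = ξ.app A φ →
            ∃ ψ : ArtFun.HomSet R.carrier R.res B, ArtFun.HomSet.map μ ψ = φ) := by
  constructor
  · intro hv
    refine ⟨Groth.Agent.Lib.Helper19.ArtFunBasic.surjective_app_of_isVersal h0 ξ hv
      (ArtFun.Art.dual Λ k), ?_⟩
    intro B A μ hμ φ y hy
    obtain ⟨ψ, hψ, -⟩ := hv μ hμ.1 φ y hy
    exact ⟨ψ, hψ⟩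
  · rintro ⟨htan, hlift⟩
    apply Groth.Agent.Lib.Helper19.ArtFunDouble.isVersal_of_smallExt
    intro B A μ hμ φ y hy
    obtain ⟨ψ₀, hψ₀⟩ := hlift μ hμ φ y hy
    obtain ⟨G, π₁, π₂, δ, hG, hδ⟩ := Groth.Agent.Lib.Helper19.ArtFunDouble.exists_double μ hμ
    have hy₀ : F.map μ (ξ.app B ψ₀) = F.map μ y := by
      rw [← ξ.natural, hψ₀, hy]
    obtain ⟨z, hz⟩ := h1 π₁ π₂ μ μ hG hμ.1 ⟨(ξ.app B ψ₀, y), hy₀⟩
    have hz1 : F.map π₁ z = ξ.app B ψ₀ := congrArg (fun t => t.1.1) hz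
    have hz2 : F.map π₂ z = y := congrArg (fun t => t.1.2) hz
    obtain ⟨τ, hτ⟩ := htan (F.map δ z)
    have hτ' : ξ.app (ArtFun.Art.dual Λ k) τ = F.map δ z := hτ
    have hcompat : ArtFun.HomSet.map (ArtFun.Art.toBase B) ψ₀ =
        ArtFun.HomSet.map (ArtFun.Art.toBase (ArtFun.Art.dual Λ k)) τ := by
      apply Subtype.ext
      change B.res.comp ψ₀.1 = (ArtFun.Art.dual Λ k).res.comp τ.1
      rw [ψ₀.2, τ.2]
    obtain ⟨w, hw1, hw2⟩ := Groth.Agent.Lib.Helper19.ArtFunHR.hR_exists_lift hδ ψ₀ τ hcompat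
    have hwz : ξ.app G w = z := by
      apply (h2 π₁ δ hδ).1
      apply ArtFun.FibProd.ext
      · change F.map π₁ (ξ.app G w) = F.map π₁ z
        rw [← ξ.natural, hw1, hz1]
      · change F.map δ (ξ.app G w) = F.map δ z
        rw [← ξ.natural, hw2, hτ']
    refine ⟨ArtFun.HomSet.map π₂ w, ?_, ?_⟩
    · have e1 : ArtFun.HomSet.map μ (ArtFun.HomSet.map π₂ w) =
          ArtFun.HomSet.map (π₂ ≫ μ) w := rfl
      have e2 : ArtFun.HomSet.map μ (ArtFun.HomSet.map π₁ w) =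
          ArtFun.HomSet.map (π₁ ≫ μ) w := rfl
      rw [e1, ← hG.w, ← e2, hw1, hψ₀]
    · rw [ξ.natural, hwz, hz2]

end Groth.Agent.S12728
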