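import Groth.Statements.S1718
import Mathlib
import Groth.Agent.Lib.Helper4.HDILib

set_option autoImplicit false
universe u
open CategoryTheory
attribute [local instance] HasDerivedCategory.standard
open Dual

namespace Groth.Agent.S1718

/-- Let A be a Noetherian local ring with maximal ideal m, residue field κ and a normalized dualizing
complex ω, and let κ → E be an injective hull. Then the degree-0 local cohomology of ω with support
in m (the direct limit of Hom(A/m^n, ω)) is isomorphic to E, and the local cohomology of ω in every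
other degree is zero. -/
theorem result (A : Type u) [CommRing A] [IsLocalRing A] [IsNoetherianRing A] (ω : Dual.D A) (hω : Dual.IsDualizing A ω) (hn : Dual.IsNormalized A ω) (E : Type u) [AddCommGroup E] [Module A E] (f : IsLocalRing.ResidueField A →ₗ[A] E) (hf : InjHull.IsInjectiveHull f) : Nonempty (Dual2.HDI A (IsLocalRing.maximalIdeal A) ω 0 ≃ₗ[A] E) ∧ ∀ i : ℤ, i ≠ 0 → Subsingleton (Dual2.HDI A (IsLocalRing.maximalIdeal A) ω i) := by
  obtain ⟨τ, hτ, hnz⟩ := Groth.Agent.Lib.Helper4.DT.exists_trace ω hω hn f hf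
  have hPD : ∀ n : ℕ, Groth.Agent.Lib.Helper4.DT.PD τ hτ
      (Groth.Agent.Lib.Helper4.LC.Q (IsLocalRing.maximalIdeal A) n) := fun n =>
    Groth.Agent.Lib.Helper4.DT.PD_of_finiteLength τ hτ hω hn f hf hnz
      (A ⧸ IsLocalRing.maximalIdeal A ^ n)
      (Groth.Agent.Lib.Helper1.Matlis.isFiniteLength_quotient_pow n)
  have hpt : LocCoh.IsPowerTorsion (IsLocalRing.maximalIdeal A) E :=
    Groth.Agent.Lib.Helper4.Matlis.isPowerTorsion_of_isEssentialInj hf.toIsEssentialInj
  constructor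
  · let t : ∀ n : ℕ, (Groth.Agent.Lib.Helper4.DT.sg
        (Groth.Agent.Lib.Helper4.LC.Q (IsLocalRing.maximalIdeal A) n) ⟶ ω⟦(0 : ℤ)⟧) →ₗ[A]
        ULift.{u + 1} E := fun n => ULift.moduleEquiv.symm.toLinearMap ∘ₗ τ n
    have ht : ∀ (n m : ℕ) (h : n ≤ m)
        (ψ : Groth.Agent.Lib.Helper4.DT.sg
          (Groth.Agent.Lib.Helper4.LC.Q (IsLocalRing.maximalIdeal A) n) ⟶ ω⟦(0 : ℤ)⟧),
        t m (Groth.Agent.Lib.Helper4.DT.sgm
          (Groth.Agent.Lib.Helper4.LC.qmap (IsLocalRing.maximalIdeal A) h) ≫ ψ) = t n ψ :=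
      fun n m h ψ => congrArg ULift.up (hτ n m h ψ)
    refine ⟨(LinearEquiv.ofBijective
      (Groth.Agent.Lib.Helper4.DT.hdiDesc (IsLocalRing.maximalIdeal A) ω 0 t ht) ⟨?_, ?_⟩).trans
      ULift.moduleEquiv⟩
    · rw [injective_iff_map_eq_zero]
      intro x hx
      obtain ⟨n, ψ, rfl⟩ :=
        Groth.Agent.Lib.Helper4.DT.hdiι_jointly_surjective (IsLocalRing.maximalIdeal A) ω 0 x
      rw [Groth.Agent.Lib.Helper4.DT.hdiDesc_ι] at hx
      have h0 : τ n ψ = 0 := congrArg ULift.down hx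
      rw [Groth.Agent.Lib.Helper4.DT.tau_injective τ hτ f hf n (hPD n) ψ h0, map_zero]
    · intro y
      obtain ⟨n, hn'⟩ := hpt y.down
      obtain ⟨ψ, hψ⟩ := Groth.Agent.Lib.Helper4.DT.tau_surjective τ hτ f hf n (hPD n) y.down hn'
      refine ⟨Groth.Agent.Lib.Helper4.DT.hdiι (IsLocalRing.maximalIdeal A) ω 0 n ψ, ?_⟩
      rw [Groth.Agent.Lib.Helper4.DT.hdiDesc_ι]
      exact congrArg ULift.up hψ
  · intro i hi
    have key : ∀ x : Dual2.HDI A (IsLocalRing.maximalIdeal A) ω i, x = 0 := by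
      intro x
      obtain ⟨n, ψ, rfl⟩ :=
        Groth.Agent.Lib.Helper4.DT.hdiι_jointly_surjective (IsLocalRing.maximalIdeal A) ω i x
      haveI := Groth.Agent.Lib.Helper4.DT.T_subsingleton_of_finiteLength hn
        (A ⧸ IsLocalRing.maximalIdeal A ^ n)
        (Groth.Agent.Lib.Helper1.Matlis.isFiniteLength_quotient_pow n) i hi
      rw [Subsingleton.elim ψ 0, map_zero]
    exact ⟨fun x y => (key x).trans (key y).symm⟩

end Groth.Agent.S1718
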