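-- Statement S0310.
import Groth.Statements.S0310
import Groth.Agent.Lib.Helper1.InjHullLib
import Mathlib.LinearAlgebra.Dimension.Free
import Mathlib.LinearAlgebra.FiniteDimensional.Basic

set_option autoImplicit false
universe u v
open Matlis

namespace Groth.Agent.S0310

/-- Over a local ring, a module killed elementwise by powers of the maximal ideal and whose socle has
finite dimension n over the residue field embeds into the n-fold sum of an injective hull of the
residue field. -/
theorem result (R : Type u) [CommRing R] [IsLocalRing R] (E : Type u) [AddCommGroup E] [Module R E] (f : IsLocalRing.ResidueField R →ₗ[R] E) (hf : InjHull.IsInjectiveHull f) (M : Type u) [AddCommGroup M] [Module R M] (hM : LocCoh.IsPowerTorsion (IsLocalRing.maximalIdeal R) M) (n : ℕ) [Module.Finite (R ⧸ IsLocalRing.maximalIdeal R) ↥(LocCoh.torsionBy (IsLocalRing.maximalIdeal R) M)] (hn : Module.finrank (R ⧸ IsLocalRing.maximalIdeal R) ↥(LocCoh.torsionBy (IsLocalRing.maximalIdeal R) M) = n) : ∃ g : M →ₗ[R] (Fin n → E), Function.Injective g := by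
  classical
  have hEinj : Module.Injective R E := hf.isInjective
  letI : Field (R ⧸ IsLocalRing.maximalIdeal R) := Ideal.Quotient.field _
  set S : Submodule R M := LocCoh.torsionBy (IsLocalRing.maximalIdeal R) M with hS
  -- socle is essential
  have hess : ∀ x : M, x ≠ 0 → ∃ r : R, r • x ≠ 0 ∧ r • x ∈ S := by
    intro x hx0
    have hex := hM x
    have hN0 : Nat.find hex ≠ 0 := by
      intro h0
      have := Nat.find_spec hex
      rw [h0, pow_zero] at this
      exact hx0 (by simpa using this 1 (by simp))
    obtain ⟨N, hN⟩ := Nat.exists_eq_succ_of_ne_zero hN0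
    have hmin : ¬ ∀ a ∈ IsLocalRing.maximalIdeal R ^ N, a • x = 0 :=
      Nat.find_min hex (by omega)
    push Not at hmin
    obtain ⟨a, ha, hax⟩ := hmin
    refine ⟨a, hax, ?_⟩
    rw [hS, Submodule.mem_torsionBySet_iff]
    rintro ⟨r, hr⟩
    change r • a • x = 0
    rw [← mul_smul]
    apply Nat.find_spec hex
    rw [hN, pow_succ']
    exact Ideal.mul_mem_mul hr ha
  -- coordinates on the socle
  let b := Module.finBasisOfFinrankEq (R ⧸ IsLocalRing.maximalIdeal R) S hn
  let e : S →ₗ[R] (Fin n → R ⧸ IsLocalRing.maximalIdeal R) :=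
    (b.equivFun.toLinearMap).restrictScalars R
  have he : Function.Injective e := b.equivFun.injective
  let φ : S →ₗ[R] (Fin n → E) := (f.compLeft (Fin n)) ∘ₗ e
  have hφ : Function.Injective φ := by
    intro x y hxy
    apply he
    funext i
    exact hf.injective (congrFun hxy i)
  have hEn : Module.Injective R (Fin n → E) := inferInstance
  obtain ⟨ψ, hψ⟩ := hEn.out S.subtype S.injective_subtype φ
  refine ⟨ψ, ?_⟩
  rw [injective_iff_map_eq_zero]
  intro x hx
  by_contra hx0
  obtain ⟨r, hr0, hr⟩ := hess x hx0
  have h1 : φ ⟨r • x, hr⟩ = 0 := by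
    rw [← hψ ⟨r • x, hr⟩, Submodule.subtype_apply, map_smul, hx, smul_zero]
  have h2 : (⟨r • x, hr⟩ : S) = 0 := hφ (by rw [h1, map_zero])
  exact hr0 (congrArg Subtype.val h2)

end Groth.Agent.S0310
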