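-- Statement S0315.
import Groth.Statements.S0315
import Groth.Agent.Lib.Helper1.Matlis
import Groth.Agent.S0310
import Groth.Agent.S0314

set_option autoImplicit false
universe u v
open Matlis

namespace Groth.Agent.S0315

/-- Over a Noetherian local ring a module has the descending chain condition exactly when it is killed
elementwise by powers of the maximal ideal and its socle is finite-dimensional over the residue
field. -/
theorem result (R : Type u) [CommRing R] [IsLocalRing R] [IsNoetherianRing R] (M : Type u) [AddCommGroup M] [Module R M] : IsArtinian R M ↔ (LocCoh.IsPowerTorsion (IsLocalRing.maximalIdeal R) M ∧ Module.Finite (R ⧸ IsLocalRing.maximalIdeal R) ↥(LocCoh.torsionBy (IsLocalRing.maximalIdeal R) M)) := by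
  classical
  letI : Field (R ⧸ IsLocalRing.maximalIdeal R) := Ideal.Quotient.field _
  constructor
  · intro hM
    constructor
    · -- power torsion
      intro x
      let g : ℕ →o (Submodule R M)ᵒᵈ :=
        ⟨fun n => OrderDual.toDual ((IsLocalRing.maximalIdeal R) ^ n • (R ∙ x)), by
          intro a b hab
          change (IsLocalRing.maximalIdeal R) ^ b • (R ∙ x) ≤ (IsLocalRing.maximalIdeal R) ^ a • (R ∙ x)
          exact Submodule.smul_mono_left (Ideal.pow_le_pow_right hab)⟩
      obtain ⟨n, hn⟩ := IsArtinian.monotone_stabilizes g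
      have h1 : (IsLocalRing.maximalIdeal R) ^ n • (R ∙ x) =
          (IsLocalRing.maximalIdeal R) ^ (n + 1) • (R ∙ x) :=
        congrArg OrderDual.ofDual (hn (n + 1) (Nat.le_succ n))
      have hfg : ((IsLocalRing.maximalIdeal R) ^ n • (R ∙ x)).FG :=
        Submodule.FG.smul (IsNoetherian.noetherian _) (Submodule.fg_span_singleton x)
      have h2 : (IsLocalRing.maximalIdeal R) ^ n • (R ∙ x) = ⊥ := by
        apply Submodule.eq_bot_of_le_smul_of_le_jacobson_bot (IsLocalRing.maximalIdeal R) _ hfg
        · conv_lhs => rw [h1]
          rw [pow_succ', mul_smul]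
        · exact IsLocalRing.maximalIdeal_le_jacobson _
      refine ⟨n, fun a ha => ?_⟩
      have : a • x ∈ (IsLocalRing.maximalIdeal R) ^ n • (R ∙ x) :=
        Submodule.smul_mem_smul ha (Submodule.mem_span_singleton_self x)
      rw [h2] at this
      exact this
    · -- socle finite
      have h1 : IsArtinian R ↥(LocCoh.torsionBy (IsLocalRing.maximalIdeal R) M) := inferInstance
      have h2 : IsArtinian (R ⧸ IsLocalRing.maximalIdeal R)
          ↥(LocCoh.torsionBy (IsLocalRing.maximalIdeal R) M) := isArtinian_of_tower R h1
      exact (IsSemisimpleModule.finite_tfae.out 0 2).mpr h2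
  · rintro ⟨hpt, hfin⟩
    obtain ⟨E, _, _, f, hf⟩ := Groth.Agent.Lib.Helper1.InjHullLib.exists_injective_hull R
      (IsLocalRing.ResidueField R)
    obtain ⟨g, hg⟩ := Groth.Agent.S0310.result R E f hf M hpt _ rfl
    haveI := Groth.Agent.S0314.result R E f hf
    exact isArtinian_of_injective g hg

end Groth.Agent.S0315
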