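-- Statement S0317.
import Groth.Statements.S0317
import Groth.Agent.Lib.Helper1.MatlisComplete
import Groth.Agent.S0310
import Groth.Agent.S0315

set_option autoImplicit false
universe u v
open Matlis

namespace Groth.Agent.S0317

/-- Over a complete Noetherian local ring with E an injective hull of the residue field, the E-dual of
an Artinian module is a finite module and the evaluation map into the double E-dual is bijective. -/
theorem result (R : Type u) [CommRing R] [IsLocalRing R] [IsNoetherianRing R] [IsAdicComplete (IsLocalRing.maximalIdeal R) R] (E : Type u) [AddCommGroup E] [Module R E] (f : IsLocalRing.ResidueField R →ₗ[R] E) (hf : InjHull.IsInjectiveHull f) (M : Type u) [AddCommGroup M] [Module R M] [IsArtinian R M] : Module.Finite R (M →ₗ[R] E) ∧ Function.Bijective (LinearMap.applyₗ : M →ₗ[R] (M →ₗ[R] E) →ₗ[R] E) := by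
  classical
  letI : Field (R ⧸ IsLocalRing.maximalIdeal R) := Ideal.Quotient.field _
  obtain ⟨hpt, hfin⟩ := (Groth.Agent.S0315.result R M).1 inferInstance
  obtain ⟨n, hn⟩ : ∃ n, Module.finrank (R ⧸ IsLocalRing.maximalIdeal R)
    ↥(LocCoh.torsionBy (IsLocalRing.maximalIdeal R) M) = n := ⟨_, rfl⟩
  obtain ⟨g, hg⟩ := Groth.Agent.S0310.result R E f hf M hpt n hn
  -- the dual is finite
  have hfinite : Module.Finite R (M →ₗ[R] E) := by
    let l : (Fin n → R) →ₗ[R] (M →ₗ[R] E) :=
      Fintype.linearCombination R (fun i => (LinearMap.proj i : (Fin n → E) →ₗ[R] E) ∘ₗ g)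
    refine Module.Finite.of_surjective l ?_
    intro χ
    obtain ⟨χ', hχ'⟩ := hf.isInjective.out g hg χ
    have h : ∀ i : Fin n, ∃ r : R, ∀ e : E, χ' (Pi.single i e) = r • e := fun i =>
      Groth.Agent.Lib.Helper1.Matlis.exists_end_eq_smul f hf
        (χ' ∘ₗ (LinearMap.single R (fun _ : Fin n => E) i))
    choose v hv using h
    refine ⟨v, ?_⟩
    apply LinearMap.ext
    intro x
    rw [Fintype.linearCombination_apply, LinearMap.sum_apply, ← hχ']
    conv_rhs => rw [← Finset.univ_sum_single (g x), map_sum]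
    refine Finset.sum_congr rfl (fun i _ => ?_)
    rw [hv i]
    rfl
  refine ⟨hfinite, Groth.Agent.Lib.Helper1.Matlis.applyₗ_injective f hf M, ?_⟩
  -- surjectivity
  rw [← LinearMap.range_eq_top]
  by_contra hne
  set ev : M →ₗ[R] (M →ₗ[R] E) →ₗ[R] E := LinearMap.applyₗ with hev
  have hnt : Nontrivial (((M →ₗ[R] E) →ₗ[R] E) ⧸ LinearMap.range ev) :=
    Submodule.Quotient.nontrivial_iff.2 hne
  obtain ⟨c, hc⟩ := exists_ne (0 : ((M →ₗ[R] E) →ₗ[R] E) ⧸ LinearMap.range ev)
  obtain ⟨χ, hχ⟩ := Groth.Agent.Lib.Helper1.Matlis.exists_hom_apply_ne_zero f hf _ c hc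
  obtain ⟨ψ, rfl⟩ := Submodule.Quotient.mk_surjective _ c
  let Θ : ((M →ₗ[R] E) →ₗ[R] E) →ₗ[R] E := χ ∘ₗ (LinearMap.range ev).mkQ
  obtain ⟨δ, hδ⟩ := Groth.Agent.Lib.Helper1.Matlis.applyₗ_surjective_of_finite f hf (M →ₗ[R] E) Θ
  have hδ0 : δ = 0 := by
    apply LinearMap.ext
    intro x
    have h1 : Θ (ev x) = (ev x) δ := (LinearMap.congr_fun hδ (ev x)).symm
    have h2 : Θ (ev x) = 0 := by
      change χ ((LinearMap.range ev).mkQ (ev x)) = 0
      rw [Submodule.mkQ_apply, (Submodule.Quotient.mk_eq_zero _).2 (LinearMap.mem_range_self ev x), map_zero]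
    rw [h2] at h1
    exact h1.symm
  apply hχ
  have h3 : Θ ψ = ψ δ := (LinearMap.congr_fun hδ ψ).symm
  rw [hδ0, map_zero] at h3
  exact h3

end Groth.Agent.S0317
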