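-- Statement S2195.
import Groth.Statements.S2195
import Mathlib

set_option autoImplicit false
universe u v
open Disc

namespace Groth.Agent.S2195

section helpers
open TensorProduct

variable {A : Type u} {B : Type v} [CommRing A] [CommRing B] [Algebra A B] {ι : Type} [Fintype ι]
  [DecidableEq ι] (b : Module.Basis ι A B)

include b in
lemma trace_eq_sum (y : B) : Algebra.trace A B y = ∑ k, b.repr (y * b k) k := by
  rw [Algebra.trace_eq_matrix_trace b, Matrix.trace]
  simp [Algebra.leftMulMatrix_eq_repr_mul]

/-- `x ⊗ y ↦ l x • y`. -/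
noncomputable def Lam (l : B →ₗ[A] A) : B ⊗[A] B →ₗ[A] B :=
  (TensorProduct.lid A B).toLinearMap ∘ₗ l.rTensor B

lemma Lam_tmul (l : B →ₗ[A] A) (x y : B) : Lam l (x ⊗ₜ[A] y) = l x • y := by
  simp [Lam]

/-- `x ⊗ y ↦ l x * coord_k y`. -/
noncomputable def FF (l : B →ₗ[A] A) (k : ι) : B ⊗[A] B →ₗ[A] A :=
  LinearMap.mul' A A ∘ₗ TensorProduct.map l (b.coord k)

lemma FF_tmul (l : B →ₗ[A] A) (k : ι) (x y : B) : FF b l k (x ⊗ₜ[A] y) = l x * b.repr y k := by
  simp [FF]

include b in
lemma key (l : B →ₗ[A] A) (z : B) (u : B ⊗[A] B)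
    (hu : ∀ s : B, ((1 : B) ⊗ₜ[A] s - s ⊗ₜ[A] (1 : B)) * u = 0) :
    Algebra.trace A B (Lam l u * z) = l (z * Algebra.TensorProduct.lmul' A u) := by
  have h1 : ∀ (k : ι) (w : B) (u : B ⊗[A] B),
      b.repr (Lam l u * w) k = FF b l k (u * ((1 : B) ⊗ₜ[A] w)) := by
    intro k w u
    induction u with
    | zero => simp
    | tmul x y =>
      rw [Lam_tmul, Algebra.TensorProduct.tmul_mul_tmul, FF_tmul, smul_mul_assoc, map_smul,
        Finsupp.smul_apply, smul_eq_mul, mul_one]
    | add u v hu hv => rw [map_add, add_mul, map_add, Finsupp.add_apply, hu, hv, add_mul, map_add]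
  have h2 : ∀ u : B ⊗[A] B, ∑ k, FF b l k (((z * b k) ⊗ₜ[A] (1 : B)) * u) =
      l (z * Algebra.TensorProduct.lmul' A u) := by
    intro u
    induction u with
    | zero => simp
    | tmul x y =>
      simp only [Algebra.TensorProduct.tmul_mul_tmul, FF_tmul, one_mul,
        Algebra.TensorProduct.lmul'_apply_tmul]
      have : z * (x * y) = ∑ k, b.repr y k • (z * b k * x) := by
        conv_lhs => rw [← b.sum_repr y]
        rw [Finset.mul_sum, Finset.mul_sum]
        refine Finset.sum_congr rfl fun k _ => ?_
        rw [mul_smul_comm, mul_smul_comm]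
        congr 1
        ring
      rw [this, map_sum]
      refine Finset.sum_congr rfl fun k _ => ?_
      rw [map_smul, smul_eq_mul, mul_comm]
    | add u v hu hv =>
      simp only [mul_add, map_add, Finset.sum_add_distrib, hu, hv]
  rw [trace_eq_sum b, ← h2 u]
  refine Finset.sum_congr rfl fun k _ => ?_
  rw [mul_assoc, h1 k (z * b k) u, mul_comm u]
  congr 1
  have := hu (z * b k)
  rw [sub_mul, sub_eq_zero] at this
  exact this

lemma discr_isUnit_of_etale [Algebra.Etale A B] : IsUnit (Algebra.discr A b) := by
  obtain ⟨t, ht1, ht2⟩ :=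
    (Algebra.FormallyUnramified.iff_exists_tensorProduct (R := A) (S := B)).mp inferInstance
  have ha : ∀ k z, Algebra.trace A B (Lam (b.coord k) t * z) = b.repr z k := by
    intro k z
    rw [key b _ z t ht1, ht2, mul_one, Module.Basis.coord_apply]
  let C : Matrix ι ι A := fun k i => b.repr (Lam (b.coord k) t) i
  have hCT : C * Algebra.traceMatrix A b = 1 := by
    ext k j
    rw [Matrix.mul_apply, Matrix.one_apply]
    have : ∑ i, C k i * Algebra.traceMatrix A b i j =
        Algebra.trace A B (Lam (b.coord k) t * b j) := by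
      conv_rhs => rw [← b.sum_repr (Lam (b.coord k) t), Finset.sum_mul, map_sum]
      refine Finset.sum_congr rfl fun i _ => ?_
      rw [smul_mul_assoc, map_smul, smul_eq_mul]
      rfl
    rw [this, ha, b.repr_self, Finsupp.single_apply]
    simp only [eq_comm]
  rw [Algebra.discr_def]
  exact Matrix.isUnit_det_of_left_inverse hCT

include b in
lemma etale_of_isUnit_discr (h : IsUnit (Algebra.discr A b)) : Algebra.Etale A B := by
  haveI : Module.Finite A B := Module.Finite.of_basis b
  haveI : Module.Free A B := Module.Free.of_basis b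
  haveI : Module.FinitePresentation A B := Module.finitePresentation_of_projective A B
  set T := Algebra.traceMatrix A b with hT
  have hdet : IsUnit T.det := h
  have hTT : T⁻¹ * T = 1 := Matrix.nonsing_inv_mul T hdet
  have hTT' : T * T⁻¹ = 1 := Matrix.mul_nonsing_inv T hdet
  let c : ι → B := fun i => ∑ j, T⁻¹ i j • b j
  have F1 : ∀ i k, Algebra.trace A B (c i * b k) = if i = k then 1 else 0 := by
    intro i k
    have : Algebra.trace A B (c i * b k) = (T⁻¹ * T) i k := by
      rw [Matrix.mul_apply]
      simp only [c, Finset.sum_mul, map_sum, smul_mul_assoc, map_smul, smul_eq_mul]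
      rfl
    rw [this, hTT, Matrix.one_apply]
  have ND : ∀ v : B, (∀ k, Algebra.trace A B (v * b k) = 0) → v = 0 := by
    intro v hv
    have h1 : Matrix.vecMul (fun i => b.repr v i) T = 0 := by
      ext k
      rw [Matrix.vecMul, dotProduct, Pi.zero_apply, ← hv k]
      conv_rhs => rw [← b.sum_repr v, Finset.sum_mul, map_sum]
      refine Finset.sum_congr rfl fun i _ => ?_
      rw [smul_mul_assoc, map_smul, smul_eq_mul]
      rfl
    have h2 : (fun i => b.repr v i) = 0 := by
      have := congrArg (fun w => Matrix.vecMul w T⁻¹) h1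
      simp only [Matrix.vecMul_vecMul, hTT', Matrix.vecMul_one, Matrix.zero_vecMul] at this
      exact this
    apply b.repr.injective
    ext i
    simpa using congrFun h2 i
  have F2 : ∀ y : B, y = ∑ j, Algebra.trace A B (y * c j) • b j := by
    intro y
    conv_lhs => rw [← b.sum_repr y]
    refine Finset.sum_congr rfl fun j _ => ?_
    congr 1
    conv_rhs => rw [← b.sum_repr y, Finset.sum_mul, map_sum]
    simp only [smul_mul_assoc, map_smul, smul_eq_mul]
    rw [Finset.sum_eq_single j]
    · rw [mul_comm (b j), F1, if_pos rfl, mul_one]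
    · intro k _ hk
      rw [mul_comm (b k), F1, if_neg (Ne.symm hk), mul_zero]
    · intro hj; exact absurd (Finset.mem_univ j) hj
  have F3 : ∀ y : B, y = ∑ j, Algebra.trace A B (y * b j) • c j := by
    intro y
    rw [← sub_eq_zero]
    apply ND
    intro k
    rw [sub_mul, map_sub, Finset.sum_mul, map_sum, sub_eq_zero]
    simp only [smul_mul_assoc, map_smul, smul_eq_mul, F1]
    simp
  let t : B ⊗[A] B := ∑ i, b i ⊗ₜ[A] c i
  haveI : Algebra.FormallyUnramified A B := by
    rw [Algebra.FormallyUnramified.iff_exists_tensorProduct]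
    refine ⟨t, fun s => ?_, ?_⟩
    · have hL : ∀ i, b i ⊗ₜ[A] (s * c i) =
          ∑ j, Algebra.trace A B (s * c i * b j) • (b i ⊗ₜ[A] c j) := by
        intro i
        conv_lhs => rw [F3 (s * c i)]
        rw [TensorProduct.tmul_sum]
        simp only [TensorProduct.tmul_smul]
      have hR : ∀ i, (s * b i) ⊗ₜ[A] c i =
          ∑ j, Algebra.trace A B (s * b i * c j) • (b j ⊗ₜ[A] c i) := by
        intro i
        conv_lhs => rw [F2 (s * b i)]
        rw [TensorProduct.sum_tmul]
        simp only [TensorProduct.smul_tmul']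
      have e1 : ((1 : B) ⊗ₜ[A] s - s ⊗ₜ[A] (1 : B)) * t =
          ∑ i, b i ⊗ₜ[A] (s * c i) - ∑ i, (s * b i) ⊗ₜ[A] c i := by
        simp only [t, Finset.mul_sum, sub_mul, Algebra.TensorProduct.tmul_mul_tmul, one_mul,
          Finset.sum_sub_distrib]
      rw [e1, sub_eq_zero, Finset.sum_congr rfl (fun i _ => hL i),
        Finset.sum_congr rfl (fun i _ => hR i), Finset.sum_comm]
      refine Finset.sum_congr rfl fun j _ => Finset.sum_congr rfl fun i _ => ?_
      congr 2
      ring
    · have e2 : Algebra.TensorProduct.lmul' A t = ∑ i, b i * c i := by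
        simp only [t, map_sum, Algebra.TensorProduct.lmul'_apply_tmul]
      rw [e2, ← sub_eq_zero]
      apply ND
      intro k
      rw [sub_mul, map_sub, one_mul, sub_eq_zero, trace_eq_sum b (b k), Finset.sum_mul, map_sum]
      refine Finset.sum_congr rfl fun i _ => ?_
      have := congrArg (fun w => b.repr w i) (F2 (b k * b i))
      simp only [map_sum, map_smul, Finsupp.coe_finset_sum, Finsupp.coe_smul, Finset.sum_apply,
        Pi.smul_apply, b.repr_self, smul_eq_mul, Finsupp.single_apply] at this
      rw [this]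
      simp only [mul_ite, mul_one, mul_zero, Finset.sum_ite_eq', Finset.mem_univ, if_true]
      congr 1
      ring
  exact Algebra.Etale.of_formallyUnramified_of_flat

end helpers

/-- Ring form of the statement: let B be an A-algebra which is finite free as an A-module with basis b.
Then A -> B is etale if and only if the discriminant of b (the determinant of the matrix of traces
Tr(b_i b_j)) is a unit of A, i.e. the discriminant locus is empty. -/
theorem result {A : Type u} {B : Type v} [CommRing A] [CommRing B]
    [Algebra A B] {ι : Type} [Fintype ι] [DecidableEq ι] (b : Module.Basis ι A B) :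
    Algebra.Etale A B ↔ IsUnit (Algebra.discr A b) := by
  exact ⟨fun _ => discr_isUnit_of_etale b, etale_of_isUnit_discr b⟩

end Groth.Agent.S2195
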