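-- Statement S2215.
import Groth.Statements.S2215
import Mathlib
import Groth.Agent.S2195

set_option autoImplicit false
universe u v
open Disc

namespace Groth.Agent.S2215

section helpers
open TensorProduct Groth.Agent.S2195

variable {A : Type u} {B : Type v} [CommRing A] [CommRing B] [Algebra A B] {ι : Type} [Fintype ι]
  [DecidableEq ι] (b : Module.Basis ι A B)

lemma Lam_mul_left (l : B →ₗ[A] A) (s : B) (u : B ⊗[A] B) :
    Lam l ((s ⊗ₜ[A] (1 : B)) * u) = Lam (l ∘ₗ LinearMap.mulLeft A s) u := by
  induction u with
  | zero => simp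
  | tmul x y => simp [Lam_tmul, Algebra.TensorProduct.tmul_mul_tmul]
  | add u v hu hv => rw [mul_add, map_add, map_add, hu, hv]

lemma Lam_mul_right (l : B →ₗ[A] A) (s : B) (u : B ⊗[A] B) :
    Lam l (((1 : B) ⊗ₜ[A] s) * u) = s * Lam l u := by
  induction u with
  | zero => simp
  | tmul x y => simp [Lam_tmul, Algebra.TensorProduct.tmul_mul_tmul]
  | add u v hu hv => rw [mul_add, map_add, map_add, hu, hv, mul_add]

lemma sum_mul_Lam_coord (u : B ⊗[A] B) :
    ∑ k, b k * Lam (b.coord k) u = Algebra.TensorProduct.lmul' A u := by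
  induction u with
  | zero => simp
  | tmul x y =>
    simp only [Lam_tmul, Algebra.TensorProduct.lmul'_apply_tmul, Module.Basis.coord_apply]
    conv_rhs => rw [← b.sum_repr x, Finset.sum_mul]
    refine Finset.sum_congr rfl fun k _ => ?_
    rw [mul_smul_comm, smul_mul_assoc]
  | add u v hu hv => simp only [map_add, mul_add, Finset.sum_add_distrib, hu, hv]

lemma Lam_add (l l' : B →ₗ[A] A) (u : B ⊗[A] B) : Lam (l + l') u = Lam l u + Lam l' u := by
  induction u with
  | zero => simp
  | tmul x y => simp [Lam_tmul, add_smul]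
  | add u v hu hv => rw [map_add, map_add, map_add, hu, hv]; abel

lemma Lam_sum {κ : Type*} (s : Finset κ) (l : κ → (B →ₗ[A] A)) (u : B ⊗[A] B) :
    Lam (∑ k ∈ s, l k) u = ∑ k ∈ s, Lam (l k) u := by
  classical
  induction s using Finset.induction_on with
  | empty =>
    simp only [Finset.sum_empty]
    induction u with
    | zero => simp
    | tmul x y => simp [Lam_tmul]
    | add u v hu hv => rw [map_add, hu, hv, add_zero]
  | insert a s ha ih => rw [Finset.sum_insert ha, Finset.sum_insert ha, Lam_add, ih]

include b in
lemma trace_eq_sum_comp : (Algebra.trace A B : B →ₗ[A] A) =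
    ∑ k, (b.coord k) ∘ₗ LinearMap.mulLeft A (b k) := by
  ext y
  rw [trace_eq_sum b y]
  simp only [LinearMap.coe_sum, Finset.sum_apply, LinearMap.comp_apply, LinearMap.mulLeft_apply,
    Module.Basis.coord_apply]
  exact Finset.sum_congr rfl fun k _ => by rw [mul_comm]

/-- `toLinearMap` as an additive monoid hom. -/
def toLM : Disc.Omega A B →+ (B →ₗ[A] A) where
  toFun := Disc.Omega.toLinearMap
  map_zero' := rfl
  map_add' _ _ := rfl

lemma toLM_apply (l : Disc.Omega A B) : toLM l = l.toLinearMap := rfl

lemma toLinearMap_sum {κ : Type*} (s : Finset κ) (l : κ → Disc.Omega A B) :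
    (∑ k ∈ s, l k).toLinearMap = ∑ k ∈ s, (l k).toLinearMap := by
  rw [← toLM_apply, map_sum]
  rfl

lemma lmul'_surjective : Function.Surjective (Algebra.TensorProduct.lmul' (S := B) A) :=
  fun x => ⟨x ⊗ₜ 1, by simp⟩

include b in
theorem main [Module.Finite A B] [Module.Free A B] :
    (Disc.noetherDifferent A B : Set B) =
      Set.range (fun φ : Disc.Omega A B →ₗ[B] B => φ (Disc.Omega.trace A B)) := by
  ext x
  simp only [SetLike.mem_coe, Set.mem_range]
  constructor
  · intro hx
    rw [Disc.noetherDifferent, Ideal.mem_map_iff_of_surjective _ lmul'_surjective] at hx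
    obtain ⟨e, he, rfl⟩ := hx
    have he' : ∀ s : B, ((1 : B) ⊗ₜ[A] s) * e = (s ⊗ₜ[A] (1 : B)) * e := by
      intro s
      rw [← sub_eq_zero, ← sub_mul, mul_comm]
      exact Submodule.mem_annihilator.1 he _
        (KaehlerDifferential.one_smul_sub_smul_one_mem_ideal A s)
    let φ : Disc.Omega A B →ₗ[B] B :=
      { toFun := fun l => Lam l.toLinearMap e
        map_add' := fun l l' => Lam_add _ _ e
        map_smul' := fun s l => by
          show Lam (l.toLinearMap ∘ₗ LinearMap.mulLeft A s) e = s • Lam l.toLinearMap e
          rw [← Lam_mul_left, ← he', Lam_mul_right, smul_eq_mul] }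
    refine ⟨φ, ?_⟩
    show Lam (Algebra.trace A B) e = Algebra.TensorProduct.lmul' A e
    rw [trace_eq_sum_comp b, Lam_sum]
    simp only [← Lam_mul_left, ← he', Lam_mul_right]
    exact sum_mul_Lam_coord b e
  · rintro ⟨φ, rfl⟩
    rw [Disc.noetherDifferent, Ideal.mem_map_iff_of_surjective _ lmul'_surjective]
    let bs : ι → Disc.Omega A B := fun j => ⟨b.coord j⟩
    refine ⟨∑ j, b j ⊗ₜ[A] φ (bs j), ?_, ?_⟩
    · have hker : RingHom.ker (Algebra.TensorProduct.lmul' (S := B) A) =
          Ideal.span (Set.range fun s : B => (1 : B) ⊗ₜ[A] s - s ⊗ₜ[A] (1 : B)) :=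
        (KaehlerDifferential.span_range_eq_ideal A B).symm
      rw [hker, Ideal.span, Submodule.mem_annihilator_span]
      rintro ⟨_, s, rfl⟩
      have hs : ∀ j, s * φ (bs j) = ∑ k, b.repr (s * b k) j • φ (bs k) := by
        intro j
        have h1 : s • bs j = ∑ k, (algebraMap A B (b.repr (s * b k) j)) • bs k := by
          apply Disc.Omega.ext
          apply b.ext
          intro i
          rw [toLinearMap_sum]
          simp only [Disc.Omega.smul_toLinearMap_apply, LinearMap.coe_sum, Finset.sum_apply, bs,
            Module.Basis.coord_apply]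
          rw [Finset.sum_eq_single i]
          · rw [← Algebra.smul_def, map_smul, b.repr_self]
            simp
          · intro k _ hk
            rw [← Algebra.smul_def, map_smul, b.repr_self]
            simp [Finsupp.single_apply, Ne.symm hk]
          · intro hi; exact absurd (Finset.mem_univ i) hi
        rw [← smul_eq_mul, ← map_smul, h1, map_sum]
        refine Finset.sum_congr rfl fun k _ => ?_
        rw [map_smul, smul_eq_mul, Algebra.smul_def]
      show (∑ j, b j ⊗ₜ[A] φ (bs j)) * ((1 : B) ⊗ₜ[A] s - s ⊗ₜ[A] (1 : B)) = 0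
      rw [mul_sub, sub_eq_zero, Finset.sum_mul, Finset.sum_mul]
      simp only [Algebra.TensorProduct.tmul_mul_tmul, mul_one]
      have e1 : ∀ j, b j ⊗ₜ[A] (φ (bs j) * s) =
          ∑ k, b.repr (s * b k) j • (b j ⊗ₜ[A] φ (bs k)) := by
        intro j
        rw [mul_comm, hs j, TensorProduct.tmul_sum]
        simp only [TensorProduct.tmul_smul]
      have e2 : ∀ k, (b k * s) ⊗ₜ[A] φ (bs k) =
          ∑ j, b.repr (s * b k) j • (b j ⊗ₜ[A] φ (bs k)) := by
        intro k
        conv_lhs => rw [mul_comm, ← b.sum_repr (s * b k)]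
        rw [TensorProduct.sum_tmul]
        simp only [TensorProduct.smul_tmul']
      rw [Finset.sum_congr rfl (fun j _ => e1 j), Finset.sum_congr rfl (fun k _ => e2 k),
        Finset.sum_comm]
    · simp only [map_sum, Algebra.TensorProduct.lmul'_apply_tmul]
      have hτ : Disc.Omega.trace A B = ∑ j, b j • bs j := by
        apply Disc.Omega.ext
        rw [toLinearMap_sum]
        show (Algebra.trace A B : B →ₗ[A] A) = _
        rw [trace_eq_sum_comp b]
        rfl
      rw [hτ, map_sum]
      simp only [map_smul, smul_eq_mul]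

end helpers

/-- Special case: B finite free over A (the source allows flat quasi-finite maps of Noetherian rings).
Let omega = Hom_A(B, A) with its B-module structure through the argument and tau in omega the trace.
Then an element of B lies in the Noether different of B over A exactly when it is of the form
phi(tau) for some B-linear map phi : omega -> B. -/
theorem result {A : Type u} {B : Type v} [CommRing A]
    [CommRing B] [Algebra A B] [IsNoetherianRing A] [Module.Finite A B] [Module.Free A B] :
    (Disc.noetherDifferent A B : Set B) =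
      Set.range (fun φ : Disc.Omega A B →ₗ[B] B => φ (Disc.Omega.trace A B)) := by
  classical
  exact main ((Module.Free.chooseBasis A B).reindex
    (Fintype.equivFin (Module.Free.ChooseBasisIndex A B)))

end Groth.Agent.S2215
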