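import Groth.Statements.S2228
import Mathlib

set_option autoImplicit false
universe u
open TensorProduct
open Disc

namespace Groth.Agent.S2228

section Helpers

variable {A B : Type u} [CommRing A] [CommRing B] [Algebra A B]

/-- evaluation pairing -/
noncomputable def ev (l : Disc.Omega A B) : B ⊗[A] B →ₗ[A] B :=
  TensorProduct.lift ((LinearMap.lsmul A B).comp l.toLinearMap)

theorem ev_tmul (l : Disc.Omega A B) (x y : B) : ev l (x ⊗ₜ[A] y) = l.toLinearMap x • y := by
  simp [ev]

theorem ev_mul_tmul (l : Disc.Omega A B) (ξ : B ⊗[A] B) (b c : B) :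
    ev l (ξ * (b ⊗ₜ[A] c)) = c * ev (b • l) ξ := by
  induction ξ using TensorProduct.induction_on with
  | zero => simp
  | add x y hx hy => rw [add_mul, map_add, map_add, hx, hy, mul_add]
  | tmul x y =>
    rw [Algebra.TensorProduct.tmul_mul_tmul, ev_tmul, ev_tmul, Disc.Omega.smul_toLinearMap_apply,
      mul_smul_comm, mul_comm x b, mul_comm y c]

theorem ev_mul (Φ : Disc.Omega A B →ₗ[B] B) (ξ : B ⊗[A] B) (hξ : ∀ l, Φ l = ev l ξ)
    (l : Disc.Omega A B) (z : B ⊗[A] B) :
    ev l (ξ * z) = Algebra.TensorProduct.lmul' (S := B) A z * Φ l := by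
  induction z using TensorProduct.induction_on with
  | zero => simp
  | add x y hx hy => rw [mul_add, map_add, map_add, hx, hy, add_mul]
  | tmul b c =>
    rw [ev_mul_tmul, ← hξ, map_smul, Algebra.TensorProduct.lmul'_apply_tmul, smul_eq_mul]
    ring

theorem eq_zero_of_ev [Module.Finite A B] [Module.Free A B] (ξ : B ⊗[A] B)
    (h : ∀ l : Disc.Omega A B, ev l ξ = 0) : ξ = 0 := by
  classical
  let b := Module.Free.chooseBasis A B
  have h1 : ∀ i, TensorProduct.equivFinsuppOfBasisLeft (N := B) b ξ i = 0 := by
    intro i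
    rw [TensorProduct.equivFinsuppOfBasisLeft_apply]
    have h2 := h ⟨b.coord i⟩
    have h3 : ∀ ζ : B ⊗[A] B, ev (⟨b.coord i⟩ : Disc.Omega A B) ζ =
        TensorProduct.lid A B ((b.coord i).rTensor B ζ) := by
      intro ζ
      induction ζ using TensorProduct.induction_on with
      | zero => simp
      | add x y hx hy => rw [map_add, map_add, map_add, hx, hy]
      | tmul x y => simp [ev_tmul]
    rw [← h3]
    exact h2
  have h4 : TensorProduct.equivFinsuppOfBasisLeft (N := B) b ξ = 0 := Finsupp.ext h1
  exact (TensorProduct.equivFinsuppOfBasisLeft (N := B) b).injective (by rw [h4, map_zero])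

/-- `toLinearMap` as an additive hom. -/
def toLMHom : Disc.Omega A B →+ (B →ₗ[A] A) where
  toFun := Disc.Omega.toLinearMap
  map_zero' := rfl
  map_add' := fun _ _ => rfl

end Helpers

/-- Special case: B finite free over the Noetherian ring A (the source allows flat quasi-finite maps).
Let J be the annihilator of the kernel of the multiplication map B tensor_A B -> B and omega =
Hom_A(B, A) with its B-module structure through the argument. Pairing xi = sum of b_i tensor c_i in
J with lambda in omega to the sum of lambda(b_i) c_i identifies J with the B-linear maps omega -> B: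
every B-linear Phi : omega -> B arises from exactly one xi in J in this way. -/
theorem result {A B : Type u} [CommRing A] [CommRing B] [Algebra A B]
    [IsNoetherianRing A] [Module.Finite A B] [Module.Free A B] (Φ : Disc.Omega A B →ₗ[B] B) :
    ∃! ξ : B ⊗[A] B,
      ξ ∈ Submodule.annihilator (RingHom.ker (Algebra.TensorProduct.lmul' (S := B) A)) ∧
        ∀ l : Disc.Omega A B,
          Φ l = TensorProduct.lift ((LinearMap.lsmul A B).comp l.toLinearMap) ξ := by
  classical
  let b := Module.Free.chooseBasis A B
  let ξ : B ⊗[A] B := ∑ i, b i ⊗ₜ[A] Φ ⟨b.coord i⟩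
  have hξ : ∀ l : Disc.Omega A B, Φ l = ev l ξ := by
    intro l
    have hl : l = ∑ i, (algebraMap A B (l.toLinearMap (b i))) • (⟨b.coord i⟩ : Disc.Omega A B) := by
      apply Disc.Omega.ext
      apply b.ext
      intro j
      show l.toLinearMap (b j) = (toLMHom (∑ i, algebraMap A B (l.toLinearMap (b i)) •
        (⟨b.coord i⟩ : Disc.Omega A B))) (b j)
      rw [map_sum, LinearMap.sum_apply, Finset.sum_eq_single j]
      · show _ = (b.coord j) (algebraMap A B (l.toLinearMap (b j)) * b j)
        rw [← Algebra.smul_def, map_smul, Module.Basis.coord_apply, Module.Basis.repr_self,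
          Finsupp.single_eq_same, smul_eq_mul, mul_one]
      · intro i _ hij
        show (b.coord i) (algebraMap A B (l.toLinearMap (b i)) * b j) = 0
        rw [← Algebra.smul_def, map_smul, Module.Basis.coord_apply, Module.Basis.repr_self,
          Finsupp.single_apply, if_neg (fun h => hij h.symm), smul_zero]
      · intro h
        exact absurd (Finset.mem_univ j) h
    calc Φ l = Φ (∑ i, (algebraMap A B (l.toLinearMap (b i))) • (⟨b.coord i⟩ : Disc.Omega A B)) := by
          rw [← hl]
      _ = ∑ i, algebraMap A B (l.toLinearMap (b i)) * Φ ⟨b.coord i⟩ := by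
          rw [map_sum]
          refine Finset.sum_congr rfl fun i _ => ?_
          rw [map_smul, smul_eq_mul]
      _ = ev l ξ := by
          show _ = ev l (∑ i, b i ⊗ₜ[A] Φ ⟨b.coord i⟩)
          rw [map_sum]
          refine Finset.sum_congr rfl fun i _ => ?_
          rw [ev_tmul, Algebra.smul_def]
  refine ⟨ξ, ⟨?_, fun l => hξ l⟩, ?_⟩
  · rw [Submodule.mem_annihilator]
    intro z hz
    apply eq_zero_of_ev
    intro l
    rw [smul_eq_mul, ev_mul Φ ξ hξ l z, RingHom.mem_ker.1 hz, zero_mul]
  · rintro ξ' ⟨-, hξ'⟩
    have h0 : ξ' - ξ = 0 := eq_zero_of_ev _ (fun l => by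
      have h1 : ev l ξ' = Φ l := (hξ' l).symm
      rw [map_sub, h1, ← hξ l, sub_self])
    exact sub_eq_zero.1 h0

end Groth.Agent.S2228
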