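import Groth.Statements.S2217
import Mathlib
import Groth.Agent.Lib.Helper4.Frob3

set_option autoImplicit false
universe u
open Disc

namespace Groth.Agent.S2217

/-- Equivalence of (2) and (4) in the affine finite free case: let A be a Noetherian ring and B an
A-algebra which is finite free as an A-module (so A -> B is flat and quasi-finite). Then all fibre
rings kappa(p) tensor_A B are Gorenstein if and only if omega_{B/A} = Hom_A(B, A), with its B-module
structure through the argument, is an invertible B-module. -/
theorem result {A B : Type u} [CommRing A] [CommRing B]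
    [Algebra A B] [IsNoetherianRing A] [Module.Finite A B] [Module.Free A B] :
    (∀ (p : Ideal A) [p.IsPrime], LocCoh.IsGorensteinRing (p.Fiber B)) ↔
      Module.Invertible B (Disc.Omega A B) := by
  classical
  constructor
  · intro h
    apply Groth.Agent.Lib.Helper4.Frob.invertible_of_cycAt (A := A) B (Disc.Omega A B)
    intro p hp
    haveI := hp.isPrime
    obtain ⟨b, hb⟩ : ∃ b : Module.Basis (Module.Free.ChooseBasisIndex A B) A B,
      b = Module.Free.chooseBasis A B := ⟨_, rfl⟩
    obtain ⟨e, he⟩ := Groth.Agent.Lib.Helper4.Frob.exists_nondeg p.ResidueField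
      (TensorProduct A p.ResidueField B) (h p)
    obtain ⟨s, hs, w, hw⟩ := Groth.Agent.Lib.Helper4.Frob.exists_lift b p e
    have hdet : (Groth.Agent.Lib.Helper4.Frob.gram b w).det ∉ p := by
      rw [← Ideal.algebraMap_residueField_eq_zero,
        ← Groth.Agent.Lib.Helper4.Frob.det_gram_bcFun]
      apply Groth.Agent.Lib.Helper4.Frob.det_gram_ne_zero
      intro c hc
      obtain ⟨c', hc'⟩ := he c hc
      refine ⟨c', ?_⟩
      rw [hw, LinearMap.smul_apply, smul_eq_mul]
      exact mul_ne_zero (by rwa [Ne, Ideal.algebraMap_residueField_eq_zero]) hc'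
    refine ⟨(Groth.Agent.Lib.Helper4.Frob.gram b w).det, hdet, ⟨w⟩, ?_, ?_⟩
    · intro v
      obtain ⟨β, hβ⟩ := Groth.Agent.Lib.Helper4.Frob.exists_mul_of_det b w v.toLinearMap
      refine ⟨β, ?_⟩
      apply Disc.Omega.ext
      apply LinearMap.ext
      intro x
      show v.toLinearMap (algebraMap A B _ * x) = w (β * x)
      rw [← Algebra.smul_def, map_smul, smul_eq_mul]
      exact hβ x
    · intro β hβ
      rw [← Algebra.smul_def]
      apply Groth.Agent.Lib.Helper4.Frob.smul_eq_zero_of_forall b w
      intro x
      have h1 := congrArg (fun φ => φ.toLinearMap x) hβ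
      exact h1
  · intro hinv p _
    exact Groth.Agent.Lib.Helper4.Frob.gor_fiber_of_invertible p hinv

end Groth.Agent.S2217
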