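import Groth.Statements.S2221
import Groth.Agent.S2228

set_option autoImplicit false
universe u
open Disc

namespace Groth.Agent.S2221

open TensorProduct
open Groth.Agent.S2228 (ev ev_tmul ev_mul_tmul ev_mul eq_zero_of_ev toLMHom)

section Helpers

variable {A B : Type u} [CommRing A] [CommRing B] [Algebra A B]

theorem smul_symm {M : Type*} [AddCommGroup M] [Module B M] [Module.Invertible B M]
    (Φ : M →ₗ[B] B) (x y : M) : Φ x • y = Φ y • x := by
  have h := Module.Invertible.tensorProductComm_eq_refl (R := B) (M := M)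
  let F : M ⊗[B] M →ₗ[B] M := TensorProduct.lift ((LinearMap.lsmul B M).comp Φ)
  have hF : ∀ u v, F (u ⊗ₜ[B] v) = Φ u • v := fun u v => by simp [F]
  have h1 : F (TensorProduct.comm B M M (x ⊗ₜ[B] y)) = F (x ⊗ₜ[B] y) := by
    rw [h]
    rfl
  rw [TensorProduct.comm_tmul, hF, hF] at h1
  exact h1.symm

theorem ev_add (l l' : Disc.Omega A B) (ξ : B ⊗[A] B) : ev (l + l') ξ = ev l ξ + ev l' ξ := by
  induction ξ using TensorProduct.induction_on with
  | zero => simp
  | add x y hx hy =>
    rw [map_add, map_add, map_add, hx, hy]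
    abel
  | tmul x y =>
    rw [ev_tmul, ev_tmul, ev_tmul, Disc.Omega.add_toLinearMap, LinearMap.add_apply, add_smul]

theorem ev_smul_of_mem (ξ : B ⊗[A] B)
    (hξ : ξ ∈ Submodule.annihilator (RingHom.ker (Algebra.TensorProduct.lmul' (S := B) A)))
    (c : B) (l : Disc.Omega A B) : ev (c • l) ξ = c * ev l ξ := by
  have hz : (c ⊗ₜ[A] (1 : B) - (1 : B) ⊗ₜ[A] c) ∈
      RingHom.ker (Algebra.TensorProduct.lmul' (S := B) A) := by
    rw [RingHom.mem_ker, map_sub, Algebra.TensorProduct.lmul'_apply_tmul,
      Algebra.TensorProduct.lmul'_apply_tmul, mul_one, one_mul, sub_self]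
  have h0 := Submodule.mem_annihilator.1 hξ _ hz
  rw [smul_eq_mul, mul_sub, sub_eq_zero] at h0
  have h1 := ev_mul_tmul l ξ c 1
  have h2 := ev_mul_tmul l ξ 1 c
  rw [one_mul] at h1
  rw [one_smul] at h2
  rw [← h1, h0, h2]

theorem sum_mul_ev {ι : Type*} [Fintype ι] (b : Module.Basis ι A B) (ξ : B ⊗[A] B) :
    ∑ i, b i * ev (⟨b.coord i⟩ : Disc.Omega A B) ξ =
      Algebra.TensorProduct.lmul' (S := B) A ξ := by
  induction ξ using TensorProduct.induction_on with
  | zero => simp
  | add x y hx hy => simp only [map_add, mul_add, Finset.sum_add_distrib, hx, hy]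
  | tmul x y =>
    simp only [ev_tmul, Algebra.TensorProduct.lmul'_apply_tmul, Module.Basis.coord_apply]
    conv_rhs => rw [← b.sum_repr x, Finset.sum_mul]
    refine Finset.sum_congr rfl fun i _ => ?_
    rw [mul_smul_comm, smul_mul_assoc]

theorem trace_eq_sum {ι : Type*} [Fintype ι] [DecidableEq ι] [Module.Finite A B] [Module.Free A B]
    (b : Module.Basis ι A B) :
    (Disc.Omega.trace A B) = ∑ i, b i • (⟨b.coord i⟩ : Disc.Omega A B) := by
  apply Disc.Omega.ext
  apply LinearMap.ext
  intro x
  show Algebra.trace A B x = (toLMHom (∑ i, b i • (⟨b.coord i⟩ : Disc.Omega A B))) x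
  rw [map_sum, LinearMap.sum_apply, Algebra.trace_eq_matrix_trace b, Matrix.trace]
  refine Finset.sum_congr rfl fun i _ => ?_
  show _ = (b.coord i) (b i * x)
  rw [Matrix.diag_apply, Algebra.leftMulMatrix_eq_repr_mul, Module.Basis.coord_apply, mul_comm]

theorem apply_trace {ι : Type*} [Fintype ι] [DecidableEq ι] [Module.Finite A B] [Module.Free A B]
    (b : Module.Basis ι A B) (Φ : Disc.Omega A B →ₗ[B] B) (ξ : B ⊗[A] B)
    (hξ : ∀ l, Φ l = ev l ξ) :
    Φ (Disc.Omega.trace A B) = Algebra.TensorProduct.lmul' (S := B) A ξ := by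
  rw [trace_eq_sum b, map_sum, ← sum_mul_ev b ξ]
  refine Finset.sum_congr rfl fun i _ => ?_
  rw [map_smul, smul_eq_mul, hξ]

end Helpers

/-- Affine finite free case: let A be a Noetherian ring and B an A-algebra which is finite free as an
A-module, and suppose omega = Hom_A(B, A) is an invertible B-module. Then the different of B over A
(the b with b omega inside B Trace) equals the Noether different of B over A. -/
theorem result {A B : Type u} [CommRing A]
    [CommRing B] [Algebra A B] [IsNoetherianRing A] [Module.Finite A B] [Module.Free A B]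
    [Module.Invertible B (Disc.Omega A B)] :
    Disc.differentSet A B = (Disc.noetherDifferent A B : Set B) := by
  classical
  let b := Module.Free.chooseBasis A B
  have hμsurj : Function.Surjective (Algebra.TensorProduct.lmul' (S := B) A) :=
    fun y => ⟨y ⊗ₜ[A] (1 : B), by simp⟩
  apply Set.eq_of_subset_of_subset
  · -- differentSet ⊆ noetherDifferent
    intro b₀ hb
    have hb' : ∀ l : Disc.Omega A B, ∃ c : B, b₀ • l = c • Disc.Omega.trace A B := by
      intro l
      obtain ⟨c, hc⟩ := hb l.toLinearMap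
      refine ⟨c, ?_⟩
      apply Disc.Omega.ext
      apply LinearMap.ext
      intro x
      exact hc x
    let f : B →ₗ[B] Disc.Omega A B := LinearMap.toSpanSingleton B (Disc.Omega A B) (Disc.Omega.trace A B)
    let g : Disc.Omega A B →ₗ[B] Disc.Omega A B := b₀ • LinearMap.id
    have hg : ∀ l, g l ∈ LinearMap.range f := by
      intro l
      obtain ⟨c, hc⟩ := hb' l
      exact ⟨c, hc.symm⟩
    obtain ⟨Φ, hΦ⟩ := Module.projective_lifting_property f.rangeRestrict
      (g.codRestrict (LinearMap.range f) hg) f.surjective_rangeRestrict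
    have hΦ' : ∀ l, Φ l • Disc.Omega.trace A B = b₀ • l := by
      intro l
      have h1 := congrArg Subtype.val (LinearMap.congr_fun hΦ l)
      exact h1
    have hΦτ : Φ (Disc.Omega.trace A B) = b₀ := by
      apply FaithfulSMul.eq_of_smul_eq_smul (α := Disc.Omega A B)
      intro l
      rw [smul_symm Φ (Disc.Omega.trace A B) l, hΦ']
    obtain ⟨ξ, ⟨hJ, hξ⟩, -⟩ := Groth.Agent.S2228.result Φ
    have h2 := apply_trace b Φ ξ (fun l => hξ l)
    show b₀ ∈ Ideal.map (Algebra.TensorProduct.lmul' (S := B) A)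
      (Submodule.annihilator (RingHom.ker (Algebra.TensorProduct.lmul' (S := B) A)))
    rw [Ideal.mem_map_iff_of_surjective _ hμsurj]
    exact ⟨ξ, hJ, by rw [← h2, hΦτ]⟩
  · -- noetherDifferent ⊆ differentSet
    intro b₀ hb
    have hb1 : b₀ ∈ Ideal.map (Algebra.TensorProduct.lmul' (S := B) A)
      (Submodule.annihilator (RingHom.ker (Algebra.TensorProduct.lmul' (S := B) A))) := hb
    rw [Ideal.mem_map_iff_of_surjective _ hμsurj] at hb1
    obtain ⟨ξ, hJ, hξb⟩ := hb1
    let Φ : Disc.Omega A B →ₗ[B] B :=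
      { toFun := fun l => ev l ξ
        map_add' := fun l l' => ev_add l l' ξ
        map_smul' := fun c l => by
          show ev (c • l) ξ = c • ev l ξ
          rw [ev_smul_of_mem ξ hJ c l, smul_eq_mul] }
    have h2 := apply_trace b Φ ξ (fun l => rfl)
    intro φ
    refine ⟨Φ ⟨φ⟩, fun x => ?_⟩
    have h3 := smul_symm Φ (Disc.Omega.trace A B) (⟨φ⟩ : Disc.Omega A B)
    rw [h2, hξb] at h3
    have h4 := congrArg (fun w : Disc.Omega A B => w.toLinearMap x) h3
    exact h4

end Groth.Agent.S2221
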