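import Groth.Statements.S2237
-- import your own Groth.Agent.* helpers here
import Mathlib
import Groth.Agent.Lib.Helper24.FlatLCISynt
import Groth.Agent.Lib.Helper24.CIGen

set_option autoImplicit false
universe u
attribute [local instance] HasDerivedCategory.standard
open LCI

namespace Groth.Agent.S2237

theorem aux {A T : Type u} [CommRing A] [CommRing T] [Algebra A T] (N K : ℕ)
    (hqf : Algebra.QuasiFinite A T) (hnt : Nontrivial T)
    (h : ∀ p : PrimeSpectrum A, Nontrivial (p.asIdeal.Fiber T) →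
      K ≤ N ∧ ringKrullDim (p.asIdeal.Fiber T) = ((N - K : ℕ) : WithBot ℕ∞)) : K = N := by
  obtain ⟨Q⟩ := (PrimeSpectrum.nonempty_iff_nontrivial (R := T)).mpr hnt
  haveI hnt' : Nontrivial ((PrimeSpectrum.comap (algebraMap A T) Q).asIdeal.Fiber T) :=
    (PrimeSpectrum.nonempty_iff_nontrivial).mp
      ⟨PrimeSpectrum.preimageHomeomorphFiber A _ _ ⟨Q, rfl⟩⟩
  obtain ⟨hKN, hdim⟩ := h _ hnt'
  have h0 : ringKrullDim ((PrimeSpectrum.comap (algebraMap A T) Q).asIdeal.Fiber T) = 0 :=
    ringKrullDimZero_iff_ringKrullDim_eq_zero.mp inferInstance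
  rw [h0] at hdim
  have hNK : N - K = 0 := by
    have h1 : ((N - K : ℕ) : WithBot ℕ∞) = 0 := hdim.symm
    exact_mod_cast h1
  omega

/-- Implication (2) to (5), affine form: let A -> B be flat, quasi-finite and a local complete
intersection homomorphism (finite type with a Koszul-regular presentation). Then for every prime q
of B there are g in B outside q, a natural number n and polynomials f_1, ..., f_n in A[x_1, ...,
x_n] such that B_g is isomorphic as an A-algebra to A[x_1, ..., x_n]/(f_1, ..., f_n). -/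
theorem result {A B : Type u} [CommRing A]
    [CommRing B] [Algebra A B] [Module.Flat A B] [Algebra.QuasiFinite A B] (hlci : LCI.IsLCI A B)
    (q : Ideal B) [q.IsPrime] :
    ∃ g : B, g ∉ q ∧ ∃ (n : ℕ) (f : Fin n → MvPolynomial (Fin n) A),
      Nonempty (Localization.Away g ≃ₐ[A]
        (MvPolynomial (Fin n) A ⧸ Ideal.span (Set.range f))) := by
  have hsynt : Synt.IsSyntomic A B :=
    Groth.Agent.Lib.Helper24.FlatLCISynt.isSyntomic_of_flat_of_isLCI A B inferInstance hlci
  obtain ⟨g, hg, N, K, G, hG, ⟨e⟩⟩ :=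
    Groth.Agent.Lib.Helper24.SyntRelGCI.exists_relGCI_away A B hsynt q
  haveI : Nontrivial (Localization.Away g) :=
    Groth.Agent.Lib.Helper24.CIGen.nontrivial_away q g hg
  have hnt : Nontrivial (Synt.RelGCIRing A N K G) := e.symm.toEquiv.nontrivial
  have hqf : Algebra.QuasiFinite A (Synt.RelGCIRing A N K G) :=
    (Algebra.QuasiFinite.iff_of_algEquiv e).mp inferInstance
  have hKN' : K = N := aux (T := Synt.RelGCIRing A N K G) N K hqf hnt hG
  subst hKN'
  exact ⟨g, hg, K, G, ⟨e⟩⟩

end Groth.Agent.S2237
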