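import Groth.Statements.S2969
import Groth.Agent.Lib.Helper19.IsoTriv

set_option autoImplicit false
universe u
open TensorProduct SGA3b
open SGA3b

namespace Groth.Agent.S2969

/-- Let k be a field and H = Spec A a k-group of multiplicative type and of finite type. Then H is
isotrivial: there is a finite separable extension k' of k over which H becomes diagonalisable (of
finite type). (Affine group schemes over an affine base are taken in Hopf-algebra form; base change
is the tensor product.) -/
theorem result (k : Type u) [Field k] (A : Type u) [CommRing A] [HopfAlgebra k A]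
    (hft : Algebra.FiniteType k A) (h : IsMultType k A) :
    ∃ (k' : Type u) (_ : Field k') (_ : Algebra k k'), Module.Finite k k' ∧ Algebra.IsSeparable k k' ∧ IsDiagFT k' (k' ⊗[k] A) := by
  classical
  obtain ⟨K, _, _, hK⟩ := Groth.Agent.Lib.Helper19.IsoTriv.exists_field_isDiagonalizable k A h
  obtain ⟨hco, hP⟩ := Groth.Agent.Lib.Helper19.MultType.forward K hK
  haveI := hco
  haveI := hft
  have hF : HopfRep.IsDiagonalizable ↥(separableClosure k (AlgebraicClosure k))
      (↥(separableClosure k (AlgebraicClosure k)) ⊗[k] A) :=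
    Groth.Agent.Lib.Helper19.IsoTriv.isDiagonalizable_of_purelyInseparable
      (F := ↥(separableClosure k (AlgebraicClosure k))) (AlgebraicClosure k)
      (H := ↥(separableClosure k (AlgebraicClosure k)) ⊗[k] A)
      (Groth.Agent.Lib.Helper19.MultType.primitive_baseChange
        ↥(separableClosure k (AlgebraicClosure k)) hP)
  obtain ⟨E, hE, hD⟩ := Groth.Agent.Lib.Helper19.IsoTriv.exists_finite_isDiagonalizable
    (k := k) (F := ↥(separableClosure k (AlgebraicClosure k))) (A := A) hF
  unfold HopfRep.IsDiagonalizable at hD
  obtain ⟨M, _, ⟨e⟩⟩ := Groth.Agent.Lib.Helper28.MultQuot.isDiag_of_span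
    (K := ↥E) (H := ↥E ⊗[k] A) hD
  refine ⟨↥E, inferInstance, inferInstance, hE, inferInstance, M, inferInstance, ?_, ⟨e⟩⟩
  have h1 : Algebra.FiniteType ↥E (↥E ⊗[k] A) := inferInstance
  have h2 : Algebra.FiniteType ↥E (MonoidAlgebra ↥E M) := h1.equiv e.toAlgEquiv
  exact MonoidAlgebra.finiteType_iff_group_fg.1 h2

end Groth.Agent.S2969
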