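import Groth.Statements.S18939
import Groth.Agent.Lib.Helper27.KoszulRel2
open Groth.Agent.Lib.Helper27

set_option autoImplicit false
universe u
open LCI

namespace Groth.Agent.S18939

/-- Let R be a commutative ring, I a proper ideal of R and f_1, …, f_r a Koszul-regular sequence of
elements of I generating I. Then I/I² is a free R/I-module of rank r, with basis the classes of f_1,
…, f_r. -/
theorem result {R : Type u} [CommRing R] {I : Ideal R} (hI : I ≠ ⊤)
    (r : ℕ) (f : Fin r → I) (hf : LCI.IsKoszulRegularSeq R (List.ofFn (fun i => (f i : R))))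
    (hfI : Ideal.span (Set.range (fun i => (f i : R))) = I) :
    ∃ b : Module.Basis (Fin r) (R ⧸ I) I.Cotangent, ∀ i, b i = I.toCotangent (f i) := by
  have hsm : ∀ (a : R) (x : I.Cotangent), (Ideal.Quotient.mk I a) • x = a • x := by
    intro a x
    exact algebraMap_smul (R ⧸ I) a x
  have hli : LinearIndependent (R ⧸ I) (fun i => I.toCotangent (f i)) := by
    rw [Fintype.linearIndependent_iff]
    intro c hc i
    choose a ha using fun i => Ideal.Quotient.mk_surjective (c i)
    have h1 : I.toCotangent (∑ i, a i • f i) = 0 := by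
      rw [map_sum, ← hc]
      refine Finset.sum_congr rfl fun j _ => ?_
      rw [map_smul, ← ha j, hsm]
    rw [Ideal.toCotangent_eq_zero] at h1
    have h2 : ∀ x ∈ I ^ 2, ∃ b : Fin r → R, (∀ i, b i ∈ I) ∧ ∑ i, b i * (f i : R) = x := by
      intro x hx
      rw [pow_two] at hx
      refine Submodule.mul_induction_on hx ?_ ?_
      · intro c hc m hm
        have hm' : m ∈ Ideal.span (Set.range (fun i => (f i : R))) := by rw [hfI]; exact hm
        obtain ⟨d, hd⟩ := Ideal.mem_span_range_iff_exists_fun.mp hm'
        refine ⟨fun i => c * d i, fun i => I.mul_mem_right _ hc, ?_⟩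
        rw [← hd, Finset.mul_sum]
        refine Finset.sum_congr rfl fun j _ => ?_
        ring
      · rintro x y ⟨b, hb, rfl⟩ ⟨b', hb', rfl⟩
        refine ⟨fun i => b i + b' i, fun i => I.add_mem (hb i) (hb' i), ?_⟩
        rw [← Finset.sum_add_distrib]
        refine Finset.sum_congr rfl fun j _ => ?_
        ring
    obtain ⟨b, hb, hbe⟩ := h2 _ h1
    have h3 : ∑ j, (a j - b j) * (f j : R) = 0 := by
      have : ((∑ i, a i • f i : I) : R) = ∑ i, a i * (f i : R) := by
        simp
      rw [this] at hbe
      simp only [sub_mul, Finset.sum_sub_distrib, hbe, sub_self]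
    have h4 := KRel.rel_mem R (fun i => (f i : R)) hf (fun j => a j - b j) h3 i
    rw [hfI] at h4
    have h5 : a i ∈ I := by
      have := I.add_mem h4 (hb i)
      simpa using this
    rw [← ha i]
    exact Ideal.Quotient.eq_zero_iff_mem.mpr h5
  have hsp : ⊤ ≤ Submodule.span (R ⧸ I) (Set.range fun i => I.toCotangent (f i)) := by
    intro x _
    obtain ⟨y, rfl⟩ := Ideal.toCotangent_surjective I x
    have hy : (y : R) ∈ Ideal.span (Set.range fun i => (f i : R)) := by rw [hfI]; exact y.2
    obtain ⟨d, hd⟩ := Ideal.mem_span_range_iff_exists_fun.mp hy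
    have hyd : y = ∑ i, d i • f i := by
      ext
      simp [hd]
    rw [hyd, map_sum]
    refine Submodule.sum_mem _ fun i _ => ?_
    rw [map_smul, ← hsm]
    exact Submodule.smul_mem _ _ (Submodule.subset_span ⟨i, rfl⟩)
  exact ⟨Module.Basis.mk hli hsp, fun i => by rw [Module.Basis.mk_apply]⟩

end Groth.Agent.S18939
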