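import Groth.Statements.S7221
import Mathlib

set_option autoImplicit false
universe u
open CategoryTheory CategoryTheory.Limits TensorProduct
attribute [local instance] HasDerivedCategory.standard
open FlatMor

namespace Groth.Agent.S7221

section Abstract

variable {R S R' S' : Type u} [CommRing R] [CommRing S] [CommRing R'] [CommRing S']
  [Algebra R S] [Algebra R' S'] [Algebra R R'] [Algebra S S'] [Algebra R S']
  [IsScalarTower R R' S'] [IsScalarTower R S S']

/-- In a cocartesian square, the kernel of `P' → S'` is generated by the image of the kernel of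
`P → S`, provided `P'` is generated over `R'` by the image of `P`. -/
theorem ker_le_map_of_adjoin [Algebra.IsPushout R R' S S']
    {P : Algebra.Extension.{u} R S} {P' : Algebra.Extension.{u} R' S'} (f : P.Hom P')
    (hgen : Algebra.adjoin R' (Set.range f.toRingHom) = ⊤) :
    P'.ker ≤ Ideal.map f.toRingHom P.ker := by
  set J := Ideal.map f.toRingHom P.ker with hJ
  let θ : P.Ring →ₐ[R] (P'.Ring ⧸ J) := (Ideal.Quotient.mkₐ R J).comp f.toAlgHom
  have hθ : ∀ p ∈ RingHom.ker (IsScalarTower.toAlgHom R P.Ring S), θ p = 0 := by
    intro p hp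
    exact Ideal.Quotient.eq_zero_iff_mem.mpr (Ideal.mem_map_of_mem _ (show p ∈ P.ker from hp))
  have hsurj : Function.Surjective (IsScalarTower.toAlgHom R P.Ring S) := P.algebraMap_surjective
  let e := Ideal.quotientKerAlgEquivOfSurjective hsurj
  let a : S →ₐ[R] (P'.Ring ⧸ J) := (Ideal.Quotient.liftₐ _ θ hθ).comp e.symm.toAlgHom
  have ha : ∀ p : P.Ring, a (algebraMap P.Ring S p) = θ p := by
    intro p
    have h1 : e.symm (algebraMap P.Ring S p) = Ideal.Quotient.mk _ p := by
      rw [AlgEquiv.symm_apply_eq]; rfl
    show (Ideal.Quotient.liftₐ _ θ hθ) (e.symm (algebraMap P.Ring S p)) = θ p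
    rw [h1]; rfl
  let b : R' →ₐ[R] (P'.Ring ⧸ J) := IsScalarTower.toAlgHom R R' (P'.Ring ⧸ J)
  let ψ : S' →ₐ[R] (P'.Ring ⧸ J) := Algebra.pushoutDesc S' b a (fun x y => mul_comm _ _)
  have hψ : ∀ x : P'.Ring, ψ (algebraMap P'.Ring S' x) = Ideal.Quotient.mk J x := by
    intro x
    have hx : x ∈ Algebra.adjoin R' (Set.range f.toRingHom) := by rw [hgen]; exact Algebra.mem_top
    induction hx using Algebra.adjoin_induction with
    | mem y hy =>
      obtain ⟨p, rfl⟩ := hy
      rw [f.algebraMap_toRingHom]
      show Algebra.pushoutDesc S' b a _ (algebraMap S S' (algebraMap P.Ring S p)) = _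
      rw [Algebra.pushoutDesc_right, ha]
      rfl
    | algebraMap r =>
      rw [← IsScalarTower.algebraMap_apply R' P'.Ring S']
      show Algebra.pushoutDesc S' b a _ (algebraMap R' S' r) = _
      rw [Algebra.pushoutDesc_left]
      rfl
    | add y z _ _ hy hz => rw [map_add, map_add, map_add, hy, hz]
    | mul y z _ _ hy hz => rw [map_mul, map_mul, map_mul, hy, hz]
  intro q hq
  have h1 : Ideal.Quotient.mk J q = 0 := by
    rw [← hψ q, show algebraMap P'.Ring S' q = 0 from hq, map_zero]
  exact Ideal.Quotient.eq_zero_iff_mem.mp h1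

/-- Surjectivity of `S' ⊗ I/I² → I'/I'²` when `I'` is generated by the image of `I`. -/
theorem cotangent_bc_surjective
    {P : Algebra.Extension.{u} R S} {P' : Algebra.Extension.{u} R' S'} (f : P.Hom P')
    (hker : P'.ker ≤ Ideal.map f.toRingHom P.ker) :
    Function.Surjective (LinearMap.liftBaseChange S' (Algebra.Extension.Cotangent.map f)) := by
  have hle : Ideal.map f.toRingHom P.ker ≤ P'.ker := by
    rw [Ideal.map_le_iff_le_comap]
    intro p hp
    rw [Ideal.mem_comap, RingHom.mem_ker, f.algebraMap_toRingHom, RingHom.mem_ker.mp hp, map_zero]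
  have key : ∀ q (hq : q ∈ Ideal.map f.toRingHom P.ker),
      Algebra.Extension.Cotangent.mk ⟨q, hle hq⟩ ∈
        LinearMap.range (LinearMap.liftBaseChange S' (Algebra.Extension.Cotangent.map f)) := by
    intro q hq
    refine Submodule.span_induction (p := fun q hq => Algebra.Extension.Cotangent.mk ⟨q, hle hq⟩ ∈
        LinearMap.range (LinearMap.liftBaseChange S' (Algebra.Extension.Cotangent.map f)))
      ?_ ?_ ?_ ?_ hq
    · rintro _ ⟨p, hp, rfl⟩
      refine ⟨(1 : S') ⊗ₜ[S] Algebra.Extension.Cotangent.mk ⟨p, hp⟩, ?_⟩
      rw [LinearMap.liftBaseChange_tmul, one_smul, Algebra.Extension.Cotangent.map_mk]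
      rfl
    · have h0 : (⟨0, hle (Submodule.zero_mem _)⟩ : P'.ker) = 0 := rfl
      rw [h0, map_zero]
      exact Submodule.zero_mem _
    · intro x y hx hy ihx ihy
      have h0 : (⟨x + y, hle (Submodule.add_mem _ hx hy)⟩ : P'.ker) =
          ⟨x, hle hx⟩ + ⟨y, hle hy⟩ := rfl
      rw [h0, map_add]
      exact Submodule.add_mem _ ihx ihy
    · intro c x hx ihx
      have h0 : (⟨c • x, hle (Submodule.smul_mem _ c hx)⟩ : P'.ker) = c • ⟨x, hle hx⟩ := rfl
      rw [h0, LinearMap.map_smul, ← algebraMap_smul S' c]
      exact Submodule.smul_mem _ _ ihx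
  intro x
  obtain ⟨⟨q, hq⟩, rfl⟩ := Algebra.Extension.Cotangent.mk_surjective x
  exact key q (hker hq)

/-- The map on `H^{-1}` is surjective when the degree `-1` map is surjective and the degree `0`
map is injective. -/
theorem bcH1Map_surjective_of
    {P : Algebra.Extension.{u} R S} {P' : Algebra.Extension.{u} R' S'} (f : P.Hom P')
    (h1 : Function.Surjective (LinearMap.liftBaseChange S' (Algebra.Extension.Cotangent.map f)))
    (h2 : Function.Injective
      (LinearMap.liftBaseChange S' (Algebra.Extension.CotangentSpace.map f))) :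
    Function.Surjective (NLCx.bcH1Map (S' := S') f) := by
  intro x
  obtain ⟨y, hy⟩ := h1 x.1
  have key : P'.cotangentComplex ∘ₗ
      LinearMap.liftBaseChange S' (Algebra.Extension.Cotangent.map f) =
      LinearMap.liftBaseChange S' (Algebra.Extension.CotangentSpace.map f) ∘ₗ
        P.cotangentComplex.baseChange S' := by
    ext z
    simpa using (Algebra.Extension.CotangentSpace.map_cotangentComplex f z).symm
  have hyk : y ∈ NLCx.bcH1 P S' := by
    show P.cotangentComplex.baseChange S' y = 0
    apply h2
    rw [map_zero]
    have h3 := congr($key y)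
    simp only [LinearMap.coe_comp, Function.comp_apply] at h3
    rw [← h3, hy]
    exact x.2
  refine ⟨⟨y, hyk⟩, Algebra.Extension.h1Cotangentι_ext _ _ ?_⟩
  exact hy

/-- Compatibility of `bcH1Map` with composition with a morphism of extensions of `S'` over `R'`. -/
theorem bcH1Map_comp
    {P : Algebra.Extension.{u} R S} {P' P'' : Algebra.Extension.{u} R' S'} (f : P.Hom P')
    (g : P'.Hom P'') (w : NLCx.bcH1 P S') :
    NLCx.bcH1Map (S' := S') (g.comp f) w =
      Algebra.Extension.H1Cotangent.map g (NLCx.bcH1Map (S' := S') f w) := by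
  apply Algebra.Extension.h1Cotangentι_ext
  show LinearMap.liftBaseChange S' (Algebra.Extension.Cotangent.map (g.comp f)) w.1 =
    Algebra.Extension.Cotangent.map g
      (LinearMap.liftBaseChange S' (Algebra.Extension.Cotangent.map f) w.1)
  generalize w.1 = y
  induction y using TensorProduct.induction_on with
  | zero => simp
  | tmul s c =>
    rw [LinearMap.liftBaseChange_tmul, LinearMap.liftBaseChange_tmul, LinearMap.map_smul,
      Algebra.Extension.Cotangent.map_comp]
    rfl
  | add y z hy hz => rw [map_add, map_add, map_add, hy, hz]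

end Abstract

section Gen

variable {R S R' S' : Type u} [CommRing R] [CommRing S] [CommRing R'] [CommRing S']
  [Algebra R S] [Algebra R' S'] [Algebra R R'] [Algebra S S'] [Algebra R S']
  [IsScalarTower R R' S'] [IsScalarTower R S S']
  {ι : Type u} (G : Algebra.Generators R S ι) (G' : Algebra.Generators R' S' ι)
  (h : ∀ i, G'.val i = algebraMap S S' (G.val i))

theorem adjoin_range_sameVars :
    Algebra.adjoin R' (Set.range (NLCx.sameVarsHom G G' h).toExtensionHom.toRingHom) = ⊤ := by
  have h1 : Algebra.adjoin R' (Set.range (MvPolynomial.X : ι → MvPolynomial ι R')) = ⊤ :=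
    MvPolynomial.adjoin_range_X
  have h2 : Set.range (MvPolynomial.X : ι → MvPolynomial ι R') ⊆
      Set.range (NLCx.sameVarsHom G G' h).toExtensionHom.toRingHom := by
    rintro _ ⟨i, rfl⟩
    exact ⟨MvPolynomial.X i, Algebra.Generators.Hom.toAlgHom_X _ i⟩
  exact le_antisymm le_top (h1.symm.le.trans (Algebra.adjoin_mono h2))

theorem cotangentSpace_bc_bijective :
    Function.Bijective (LinearMap.liftBaseChange S'
      (Algebra.Extension.CotangentSpace.map (NLCx.sameVarsHom G G' h).toExtensionHom)) := by
  have key : LinearMap.liftBaseChange S'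
      (Algebra.Extension.CotangentSpace.map (NLCx.sameVarsHom G G' h).toExtensionHom) =
      ((G.cotangentSpaceBasis.baseChange S').equiv G'.cotangentSpaceBasis
        (Equiv.refl ι)).toLinearMap := by
    apply (G.cotangentSpaceBasis.baseChange S').ext
    intro i
    have e1 : Algebra.Extension.CotangentSpace.map (NLCx.sameVarsHom G G' h).toExtensionHom
        (G.cotangentSpaceBasis i) = G'.cotangentSpaceBasis i := by
      have a1 := Algebra.Extension.CotangentSpace.map_tmul
        (NLCx.sameVarsHom G G' h).toExtensionHom (1 : S) (MvPolynomial.X i)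
      rw [Algebra.Generators.cotangentSpaceBasis_apply,
        Algebra.Generators.cotangentSpaceBasis_apply]
      refine a1.trans ?_
      rw [map_one]
      have e0 : (NLCx.sameVarsHom G G' h).toExtensionHom.toAlgHom (MvPolynomial.X i) =
          MvPolynomial.X i := Algebra.Generators.Hom.toAlgHom_X _ i
      rw [e0]
      rfl
    have e2 : LinearMap.liftBaseChange S'
        (Algebra.Extension.CotangentSpace.map (NLCx.sameVarsHom G G' h).toExtensionHom)
        ((G.cotangentSpaceBasis.baseChange S') i) = G'.cotangentSpaceBasis i := by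
      rw [Module.Basis.baseChange_apply, LinearMap.liftBaseChange_tmul, one_smul, e1]
    rw [e2]
    show _ = ((G.cotangentSpaceBasis.baseChange S').equiv G'.cotangentSpaceBasis
      (Equiv.refl ι)) ((G.cotangentSpaceBasis.baseChange S') i)
    rw [Module.Basis.equiv_apply]
    rfl
  rw [key]
  exact LinearEquiv.bijective _

theorem conj1 [Algebra.IsPushout R R' S S'] :
    Function.Surjective (NLCx.bcH1Map (S' := S') (NLCx.sameVarsHom G G' h).toExtensionHom) :=
  bcH1Map_surjective_of _
    (cotangent_bc_surjective _ (ker_le_map_of_adjoin _ (adjoin_range_sameVars G G' h)))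
    (cotangentSpace_bc_bijective G G' h).1

end Gen

/-- Let R → S and R → R' be ring homomorphisms and let S' be an algebra over R' and over S making the
square cocartesian, S' = S ⊗_R R'. Let G be a presentation of S over R by a polynomial algebra and
G' the presentation of S' over R' on the same set of variables, each variable mapping to the image
of the corresponding generator (the base change of G). Then the canonical map H^{-1}(NL(G) ⊗_S S') →
H^{-1}(NL(G')) is surjective. The same holds for the canonical map H^{-1}(NL_{S/R} ⊗_S S') →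
H^{-1}(NL_{S'/R'}) between the complexes of the presentations on all elements. (In degree 0 the
corresponding map S' ⊗_S Ω_{S/R} → Ω_{S'/R'} is bijective; that part is not restated.) -/
theorem result (R S R' S' : Type u) [CommRing R] [CommRing S] [CommRing R']
    [CommRing S'] [Algebra R S] [Algebra R' S'] [Algebra R R'] [Algebra S S'] [Algebra R S']
    [IsScalarTower R R' S'] [IsScalarTower R S S'] [Algebra.IsPushout R R' S S']
    {ι : Type u} (G : Algebra.Generators R S ι) (G' : Algebra.Generators R' S' ι)
    (h : ∀ i, G'.val i = algebraMap S S' (G.val i)) :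
    Function.Surjective (NLCx.bcH1Map (NLCx.sameVarsHom G G' h).toExtensionHom) ∧
      Function.Surjective (NLCx.bcH1Map
        ((Algebra.Generators.self R S).defaultHom (Algebra.Generators.self R' S')).toExtensionHom) := by
  refine ⟨conj1 G G' h, ?_⟩
  -- the base-changed presentation on the variables `S`
  have hsurj : Function.Surjective
      (MvPolynomial.aeval (R := R') (fun s : S => algebraMap S S' s)) := by
    intro x
    have hbc : IsBaseChange R' (IsScalarTower.toAlgHom R S S').toLinearMap :=
      Algebra.IsPushout.out (R := R) (S := R') (R' := S) (S' := S')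
    refine hbc.inductionOn x
      (fun x => x ∈ (MvPolynomial.aeval (R := R') (fun s : S => algebraMap S S' s)).range)
      ?_ ?_ ?_ ?_
    · exact Subalgebra.zero_mem _
    · intro s
      exact ⟨MvPolynomial.X s, MvPolynomial.aeval_X _ s⟩
    · intro r' n hn
      exact Subalgebra.smul_mem _ hn r'
    · intro n₁ n₂ h₁ h₂
      exact Subalgebra.add_mem _ h₁ h₂
  let G₁ : Algebra.Generators R' S' S :=
    Algebra.Generators.ofSurjective (fun s : S => algebraMap S S' s) hsurj
  have h₁ : ∀ s, G₁.val s = algebraMap S S' ((Algebra.Generators.self R S).val s) := fun s => rfl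
  let g : G₁.Hom (Algebra.Generators.self R' S') :=
    ⟨fun s => MvPolynomial.X (algebraMap S S' s), fun s => by
      rw [MvPolynomial.aeval_X]; rfl⟩
  have hdef : (Algebra.Generators.self R S).defaultHom (Algebra.Generators.self R' S') =
      g.comp (NLCx.sameVarsHom (Algebra.Generators.self R S) G₁ h₁) := by
    apply Algebra.Generators.Hom.ext
    funext s
    show (Algebra.Generators.self R' S').σ (algebraMap S S' s) =
      MvPolynomial.aeval g.val (MvPolynomial.X s)
    rw [MvPolynomial.aeval_X]
    rfl
  have hdef' : ((Algebra.Generators.self R S).defaultHom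
      (Algebra.Generators.self R' S')).toExtensionHom =
      g.toExtensionHom.comp
        (NLCx.sameVarsHom (Algebra.Generators.self R S) G₁ h₁).toExtensionHom := by
    rw [hdef, Algebra.Generators.Hom.toExtensionHom_comp]
  rw [hdef']
  intro x
  obtain ⟨z, hz⟩ := (Algebra.Extension.H1Cotangent.equiv g.toExtensionHom
    ((Algebra.Generators.self R' S').defaultHom G₁).toExtensionHom).surjective x
  obtain ⟨w, hw⟩ := conj1 (Algebra.Generators.self R S) G₁ h₁ z
  refine ⟨w, ?_⟩
  rw [bcH1Map_comp, hw]
  exact hz

end Groth.Agent.S7221
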