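import Groth.Statements.S12292
import Mathlib

set_option autoImplicit false
universe u w m
open scoped TensorProduct
open DefT

namespace Groth.Agent.S12292

section Gen

open CotT

variable {A B M : Type u} [CommRing A] [CommRing B] [Algebra A B] [AddCommGroup M] [Module B M]

/-- the polynomial ring of the choice-free presentation -/
abbrev RR (A B : Type u) [CommRing A] [CommRing B] [Algebra A B] : Type u :=
  (CotT.canon A B).toExtension.Ring

/-- the variables of the polynomial ring -/
noncomputable abbrev Xv (b : B) : RR A B := MvPolynomial.X b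

theorem one_tmul_smul_L1 (r : RR A B) (y : relMod (canon A B)) :
    ((1 : B) ⊗ₜ[RR A B] (r • y) : L1 (canon A B)) =
      algebraMap (RR A B) B r • ((1 : B) ⊗ₜ[RR A B] y : L1 (canon A B)) := by
  calc ((1 : B) ⊗ₜ[RR A B] (r • y) : L1 (canon A B))
      = (r • (1 : B)) ⊗ₜ[RR A B] y := (TensorProduct.smul_tmul r 1 y).symm
    _ = (algebraMap (RR A B) B r • (1 : B)) ⊗ₜ[RR A B] y := by rw [algebraMap_smul]
    _ = algebraMap (RR A B) B r • ((1 : B) ⊗ₜ[RR A B] y : L1 (canon A B)) :=
        (TensorProduct.smul_tmul' _ _ _).symm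

theorem one_tmul_smul_L0 (r : RR A B) (ω : Ω[RR A B⁄A]) :
    ((1 : B) ⊗ₜ[RR A B] (r • ω) : L0 (canon A B)) =
      algebraMap (RR A B) B r • ((1 : B) ⊗ₜ[RR A B] ω : L0 (canon A B)) := by
  calc ((1 : B) ⊗ₜ[RR A B] (r • ω) : L0 (canon A B))
      = (r • (1 : B)) ⊗ₜ[RR A B] ω := (TensorProduct.smul_tmul r 1 ω).symm
    _ = (algebraMap (RR A B) B r • (1 : B)) ⊗ₜ[RR A B] ω := by rw [algebraMap_smul]
    _ = algebraMap (RR A B) B r • ((1 : B) ⊗ₜ[RR A B] ω : L0 (canon A B)) :=
        (TensorProduct.smul_tmul' _ _ _).symm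

theorem proj_incl (X : Exal.Ext A B M) (m : M) : X.proj (X.incl m) = 0 :=
  (X.isExtension.exact _).2 ⟨m, rfl⟩

theorem incl_mul_incl (X : Exal.Ext A B M) (m m' : M) : X.incl m * X.incl m' = 0 := by
  rw [X.isExtension.mul_incl, proj_incl, zero_smul, map_zero]

/-- lifts of `R → B` to the middle ring of an extension -/
def IsLift (X : Exal.Ext A B M) (f : RR A B →ₐ[A] X.E) : Prop :=
  ∀ r, X.proj (f r) = algebraMap (RR A B) B r

theorem exists_lift (X : Exal.Ext A B M) : ∃ f : RR A B →ₐ[A] X.E, IsLift X f := by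
  choose t ht using X.isExtension.proj_surjective
  let f0 : MvPolynomial B A →ₐ[A] X.E := MvPolynomial.aeval t
  refine ⟨f0, fun r => ?_⟩
  have h : X.proj.comp f0 = IsScalarTower.toAlgHom A (RR A B) B := by
    apply MvPolynomial.algHom_ext
    intro b
    rw [AlgHom.comp_apply, MvPolynomial.aeval_X, ht]
    change b = algebraMap (RR A B) B (MvPolynomial.X b)
    rw [CotT.algebraMap_toExtension, MvPolynomial.aeval_X]
    rfl
  exact AlgHom.congr_fun h r

theorem incl_smul (X : Exal.Ext A B M) (f : RR A B →ₐ[A] X.E) (hf : IsLift X f) (r : RR A B)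
    (m : M) : X.incl (algebraMap (RR A B) B r • m) = f r * X.incl m := by
  rw [X.isExtension.mul_incl, hf]

theorem proj_rel (X : Exal.Ext A B M) (f : RR A B →ₐ[A] X.E) (hf : IsLift X f)
    (s : CanonRels A B) : X.proj (f s.val) = 0 := by
  rw [hf]; exact RingHom.mem_ker.1 s.2

/-- values of the cocycle of a lift on the basis -/
noncomputable def gOf (X : Exal.Ext A B M) (f : RR A B →ₐ[A] X.E) (hf : IsLift X f)
    (s : CanonRels A B) : M :=
  X.kerLift (f s.val) (proj_rel X f hf s)

theorem incl_gOf (X : Exal.Ext A B M) (f : RR A B →ₐ[A] X.E) (hf : IsLift X f)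
    (s : CanonRels A B) : X.incl (gOf X f hf s) = f s.val := X.incl_kerLift _ _

/-- the cocycle of a lift -/
noncomputable def cOf (X : Exal.Ext A B M) (f : RR A B →ₐ[A] X.E) (hf : IsLift X f) :
    L1 (canon A B) →ₗ[B] M :=
  (L1basis (canon A B)).constr B (gOf X f hf)

theorem cOf_basis (X : Exal.Ext A B M) (f : RR A B →ₐ[A] X.E) (hf : IsLift X f)
    (s : CanonRels A B) :
    cOf X f hf ((1 : B) ⊗ₜ[RR A B] Finsupp.single s (1 : RR A B)) = gOf X f hf s := by
  rw [← L1basis_apply]
  exact Module.Basis.constr_basis _ _ _ _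

theorem incl_cOf_one_tmul (X : Exal.Ext A B M) (f : RR A B →ₐ[A] X.E) (hf : IsLift X f)
    (q : relMod (canon A B)) :
    X.incl (cOf X f hf ((1 : B) ⊗ₜ[RR A B] q)) = f (jmap (canon A B) q) := by
  induction q using Finsupp.induction_linear with
  | zero => rw [TensorProduct.tmul_zero, map_zero, map_zero, map_zero, map_zero]
  | add p q hp hq =>
    rw [TensorProduct.tmul_add, map_add, map_add, hp, hq, map_add, map_add]
  | single s r =>
    have e : ((1 : B) ⊗ₜ[RR A B] Finsupp.single s r : L1 (canon A B)) =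
        algebraMap (RR A B) B r • ((1 : B) ⊗ₜ[RR A B] Finsupp.single s (1 : RR A B)) := by
      rw [← one_tmul_smul_L1, Finsupp.smul_single_one]
    rw [e, map_smul, cOf_basis, incl_smul X f hf, incl_gOf, jmap_single, map_mul]
    rfl

theorem cOf_cocycle (X : Exal.Ext A B M) (f : RR A B →ₐ[A] X.E) (hf : IsLift X f) :
    cOf X f hf ∈ cocycles1 (canon A B) M := by
  rw [LinearMap.mem_ker, d2Star_apply]
  refine LinearMap.ext fun z => ?_
  obtain ⟨t, rfl⟩ := Submodule.Quotient.mk_surjective _ z
  rw [LinearMap.comp_apply, LinearMap.zero_apply]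
  induction t using TensorProduct.induction_on with
  | zero => rw [Submodule.Quotient.mk_zero, map_zero, map_zero]
  | tmul b q =>
    rw [d2_mk_tmul]
    have h1 : X.incl (cOf X f hf ((1 : B) ⊗ₜ[RR A B] (q : relMod (canon A B)))) = 0 := by
      rw [incl_cOf_one_tmul]
      have hq : jmap (canon A B) (q : relMod (canon A B)) = 0 := q.2
      rw [hq, map_zero]
    have h2 : cOf X f hf ((1 : B) ⊗ₜ[RR A B] (q : relMod (canon A B))) = 0 :=
      X.isExtension.incl_injective (by rw [h1, map_zero])
    rw [← mul_one b, ← smul_eq_mul, ← TensorProduct.smul_tmul', map_smul, h2, smul_zero]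
  | add x y hx hy =>
    rw [Submodule.Quotient.mk_add, map_add, map_add, hx, hy, add_zero]

theorem exists_psi (X : Exal.Ext A B M) (f f' : RR A B →ₐ[A] X.E) (hf : IsLift X f)
    (hf' : IsLift X f') :
    ∃ ψ : L0 (canon A B) →ₗ[B] M, ψ ∘ₗ d1 (canon A B) = cOf X f' hf' - cOf X f hf := by
  have hδ : ∀ r, X.proj (f' r - f r) = 0 := fun r => by rw [map_sub, hf', hf, sub_self]
  obtain ⟨ψ, hψ⟩ : ∃ ψ : L0 (canon A B) →ₗ[B] M, ∀ b : B,
      ψ ((1 : B) ⊗ₜ[RR A B] KaehlerDifferential.D A (RR A B) (Xv b : RR A B)) =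
        X.kerLift (f' (Xv b : RR A B) - f (Xv b : RR A B)) (hδ _) := by
    refine ⟨((canon A B).cotangentSpaceBasis).constr B
      (fun b => X.kerLift (f' (Xv b : RR A B) - f (Xv b : RR A B)) (hδ _)), fun b => ?_⟩
    have := Module.Basis.constr_basis ((canon A B).cotangentSpaceBasis) B
      (fun b => X.kerLift (f' (Xv b : RR A B) - f (Xv b : RR A B)) (hδ _)) b
    rw [Algebra.Generators.cotangentSpaceBasis_apply] at this
    exact this
  have hmul : ∀ r r' : RR A B, (f' r - f r) * (f' r' - f r') = 0 := by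
    intro r r'
    rw [← X.incl_kerLift _ (hδ r), ← X.incl_kerLift _ (hδ r'), incl_mul_incl]
  have hC : ∀ a : A, X.incl (ψ ((1 : B) ⊗ₜ[RR A B] KaehlerDifferential.D A (RR A B)
      (algebraMap A (RR A B) a))) = f' (algebraMap A (RR A B) a) - f (algebraMap A (RR A B) a) := by
    intro a
    rw [Derivation.map_algebraMap, TensorProduct.tmul_zero, map_zero, map_zero,
      AlgHom.commutes, AlgHom.commutes, sub_self]
  have hadd : ∀ p q : RR A B,
      X.incl (ψ ((1 : B) ⊗ₜ[RR A B] KaehlerDifferential.D A (RR A B) p)) = f' p - f p →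
      X.incl (ψ ((1 : B) ⊗ₜ[RR A B] KaehlerDifferential.D A (RR A B) q)) = f' q - f q →
      X.incl (ψ ((1 : B) ⊗ₜ[RR A B] KaehlerDifferential.D A (RR A B) (p + q))) =
        f' (p + q) - f (p + q) := by
    intro p q hp hq
    rw [map_add, TensorProduct.tmul_add, map_add, map_add, hp, hq, map_add, map_add]
    ring
  have hmulX : ∀ (p : RR A B) (b : B),
      X.incl (ψ ((1 : B) ⊗ₜ[RR A B] KaehlerDifferential.D A (RR A B) p)) = f' p - f p →
      X.incl (ψ ((1 : B) ⊗ₜ[RR A B] KaehlerDifferential.D A (RR A B)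
        (p * (Xv b : RR A B)))) =
        f' (p * (Xv b : RR A B)) - f (p * (Xv b : RR A B)) := by
    intro p b hp
    rw [Derivation.leibniz, TensorProduct.tmul_add, one_tmul_smul_L0, one_tmul_smul_L0,
      map_add, map_smul, map_smul, map_add, incl_smul X f hf, incl_smul X f hf, hp, hψ,
      X.incl_kerLift, map_mul, map_mul]
    have h0 := hmul p (Xv b : RR A B)
    linear_combination (-1 : X.E) * h0
  have key : ∀ r : RR A B,
      X.incl (ψ ((1 : B) ⊗ₜ[RR A B] KaehlerDifferential.D A (RR A B) r)) = f' r - f r :=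
    fun r => MvPolynomial.induction_on (motive := fun r : MvPolynomial B A =>
      X.incl (ψ ((1 : B) ⊗ₜ[RR A B] KaehlerDifferential.D A (RR A B) r)) = f' r - f r)
      r hC hadd hmulX
  refine ⟨ψ, (L1basis (canon A B)).ext fun s => ?_⟩
  apply X.isExtension.incl_injective
  rw [LinearMap.comp_apply, L1basis_apply, d1_tmul, one_smul, jmap_single, one_mul,
    LinearMap.sub_apply, map_sub, cOf_basis, cOf_basis, incl_gOf, incl_gOf]
  exact key _

/-- the class of an extension with a chosen lift -/
noncomputable def clOf (X : Exal.Ext A B M) (f : RR A B →ₐ[A] X.E) (hf : IsLift X f) :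
    T1 (canon A B) M :=
  Submodule.Quotient.mk ⟨cOf X f hf, cOf_cocycle X f hf⟩

theorem clOf_eq_iff (X Y : Exal.Ext A B M) (f : RR A B →ₐ[A] X.E) (hf : IsLift X f)
    (f' : RR A B →ₐ[A] Y.E) (hf' : IsLift Y f') :
    clOf X f hf = clOf Y f' hf' ↔
      ∃ ψ : L0 (canon A B) →ₗ[B] M, ψ ∘ₗ d1 (canon A B) = cOf X f hf - cOf Y f' hf' := by
  rw [clOf, clOf, Submodule.Quotient.eq, Submodule.mem_comap]
  constructor
  · rintro ⟨ψ, hψ⟩
    exact ⟨ψ, hψ⟩
  · rintro ⟨ψ, hψ⟩
    exact ⟨ψ, hψ⟩

theorem clOf_indep (X : Exal.Ext A B M) (f f' : RR A B →ₐ[A] X.E) (hf : IsLift X f)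
    (hf' : IsLift X f') : clOf X f hf = clOf X f' hf' :=
  (clOf_eq_iff X X f hf f' hf').2 (exists_psi X f' f hf' hf)

/-- the class of an extension -/
noncomputable def Phi (X : Exal.Ext A B M) : T1 (canon A B) M :=
  clOf X (exists_lift X).choose (exists_lift X).choose_spec

theorem Phi_eq (X : Exal.Ext A B M) (f : RR A B →ₐ[A] X.E) (hf : IsLift X f) :
    Phi X = clOf X f hf := clOf_indep X _ _ _ _

theorem Phi_equiv (X Y : Exal.Ext A B M) (e : Exal.Ext.Equiv X Y) : Phi X = Phi Y := by
  obtain ⟨f, hf⟩ := exists_lift X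
  have hf' : IsLift Y ((e.toAlgEquiv : X.E →ₐ[A] Y.E).comp f) := fun r => by
    rw [AlgHom.comp_apply]
    exact (e.proj_apply (f r)).trans (hf r)
  rw [Phi_eq X f hf, Phi_eq Y _ hf']
  have hc : cOf X f hf = cOf Y _ hf' := by
    refine (L1basis (canon A B)).ext fun s => ?_
    rw [L1basis_apply, cOf_basis, cOf_basis]
    apply Y.isExtension.incl_injective
    rw [incl_gOf, ← e.apply_incl, incl_gOf]
    rfl
  unfold clOf
  congr 1
  exact Subtype.ext hc

end Gen

section Part2

open CotT

variable {A B M : Type u} [CommRing A] [CommRing B] [Algebra A B] [AddCommGroup M] [Module B M]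

/-- a refined version of `exists_psi`: any `ψ` with the right values on the basis works -/
theorem psi_comp_d1 (X : Exal.Ext A B M) (f f' : RR A B →ₐ[A] X.E) (hf : IsLift X f)
    (hf' : IsLift X f') (ψ : L0 (canon A B) →ₗ[B] M)
    (hψ : ∀ b : B, X.incl (ψ ((1 : B) ⊗ₜ[RR A B] KaehlerDifferential.D A (RR A B) (Xv b : RR A B))) =
      f' (Xv b : RR A B) - f (Xv b : RR A B)) :
    ψ ∘ₗ d1 (canon A B) = cOf X f' hf' - cOf X f hf := by
  obtain ⟨ψ', hψ'⟩ := exists_psi X f f' hf hf'
  have hδ : ∀ r, X.proj (f' r - f r) = 0 := fun r => by rw [map_sub, hf', hf, sub_self]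
  -- ψ and the ψ of exists_psi need not agree; redo: show ψ∘d1 on basis directly
  have hmul : ∀ r r' : RR A B, (f' r - f r) * (f' r' - f r') = 0 := by
    intro r r'
    rw [← X.incl_kerLift _ (hδ r), ← X.incl_kerLift _ (hδ r'), incl_mul_incl]
  have hC : ∀ a : A, X.incl (ψ ((1 : B) ⊗ₜ[RR A B] KaehlerDifferential.D A (RR A B)
      (algebraMap A (RR A B) a))) = f' (algebraMap A (RR A B) a) - f (algebraMap A (RR A B) a) := by
    intro a
    rw [Derivation.map_algebraMap, TensorProduct.tmul_zero, map_zero, map_zero,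
      AlgHom.commutes, AlgHom.commutes, sub_self]
  have hadd : ∀ p q : RR A B,
      X.incl (ψ ((1 : B) ⊗ₜ[RR A B] KaehlerDifferential.D A (RR A B) p)) = f' p - f p →
      X.incl (ψ ((1 : B) ⊗ₜ[RR A B] KaehlerDifferential.D A (RR A B) q)) = f' q - f q →
      X.incl (ψ ((1 : B) ⊗ₜ[RR A B] KaehlerDifferential.D A (RR A B) (p + q))) =
        f' (p + q) - f (p + q) := by
    intro p q hp hq
    rw [map_add, TensorProduct.tmul_add, map_add, map_add, hp, hq, map_add, map_add]
    ring
  have hmulX : ∀ (p : RR A B) (b : B),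
      X.incl (ψ ((1 : B) ⊗ₜ[RR A B] KaehlerDifferential.D A (RR A B) p)) = f' p - f p →
      X.incl (ψ ((1 : B) ⊗ₜ[RR A B] KaehlerDifferential.D A (RR A B)
        (p * (Xv b : RR A B)))) =
        f' (p * (Xv b : RR A B)) - f (p * (Xv b : RR A B)) := by
    intro p b hp
    rw [Derivation.leibniz, TensorProduct.tmul_add, one_tmul_smul_L0, one_tmul_smul_L0,
      map_add, map_smul, map_smul, map_add, incl_smul X f hf, incl_smul X f hf, hp, hψ,
      map_mul, map_mul]
    have h0 := hmul p (Xv b : RR A B)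
    linear_combination (-1 : X.E) * h0
  have key : ∀ r : RR A B,
      X.incl (ψ ((1 : B) ⊗ₜ[RR A B] KaehlerDifferential.D A (RR A B) r)) = f' r - f r :=
    fun r => MvPolynomial.induction_on (motive := fun r : MvPolynomial B A =>
      X.incl (ψ ((1 : B) ⊗ₜ[RR A B] KaehlerDifferential.D A (RR A B) r)) = f' r - f r)
      r hC hadd hmulX
  refine (L1basis (canon A B)).ext fun s => ?_
  apply X.isExtension.incl_injective
  rw [LinearMap.comp_apply, L1basis_apply, d1_tmul, one_smul, jmap_single, one_mul,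
    LinearMap.sub_apply, map_sub, cOf_basis, cOf_basis, incl_gOf, incl_gOf]
  exact key _

theorem mul_decomp (X : Exal.Ext A B M) (f : RR A B →ₐ[A] X.E) (hf : IsLift X f)
    (r r' : RR A B) (m m' : M) :
    (f r + X.incl m) * (f r' + X.incl m') =
      f (r * r') + X.incl (algebraMap (RR A B) B r • m' + algebraMap (RR A B) B r' • m) := by
  rw [map_add, incl_smul X f hf, incl_smul X f hf, map_mul]
  have h0 := incl_mul_incl X m m'
  linear_combination h0

theorem exists_decomp (X : Exal.Ext A B M) (f : RR A B →ₐ[A] X.E) (hf : IsLift X f) (x : X.E) :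
    ∃ (r : RR A B) (m : M), x = f r + X.incl m := by
  obtain ⟨r, hr⟩ := (canon A B).toExtension.algebraMap_surjective (X.proj x)
  have h0 : X.proj (x - f r) = 0 := by rw [map_sub, hf, hr, sub_self]
  refine ⟨r, X.kerLift _ h0, ?_⟩
  rw [X.incl_kerLift]; ring

/-- a morphism of extensions is an equivalence -/
theorem equiv_of_hom (X Y : Exal.Ext A B M) (θ : X.E →ₐ[A] Y.E)
    (h1 : ∀ x, Y.proj (θ x) = X.proj x) (h2 : ∀ m, θ (X.incl m) = Y.incl m) :
    Nonempty (Exal.Ext.Equiv X Y) := by
  have hinj : Function.Injective θ := by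
    rw [injective_iff_map_eq_zero]
    intro x hx
    have hp : X.proj x = 0 := by rw [← h1, hx, map_zero]
    obtain ⟨m, rfl⟩ := (X.isExtension.exact x).1 hp
    rw [h2] at hx
    have : m = 0 := Y.isExtension.incl_injective (by rw [hx, map_zero])
    rw [this, map_zero]
  have hsurj : Function.Surjective θ := by
    intro y
    obtain ⟨x, hx⟩ := X.isExtension.proj_surjective (Y.proj y)
    have hp : Y.proj (y - θ x) = 0 := by rw [map_sub, h1, hx, sub_self]
    obtain ⟨m, hm⟩ := (Y.isExtension.exact _).1 hp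
    refine ⟨x + X.incl m, ?_⟩
    rw [map_add, h2, hm]; ring
  exact ⟨{ toAlgEquiv := AlgEquiv.ofBijective θ ⟨hinj, hsurj⟩
           proj_apply := fun x => h1 x
           apply_incl := fun m => h2 m }⟩

theorem equiv_of_cOf_eq (X Y : Exal.Ext A B M) (f : RR A B →ₐ[A] X.E) (hf : IsLift X f)
    (f' : RR A B →ₐ[A] Y.E) (hf' : IsLift Y f') (hc : cOf X f hf = cOf Y f' hf') :
    Nonempty (Exal.Ext.Equiv X Y) := by
  have hg : ∀ s, gOf X f hf s = gOf Y f' hf' s := fun s => by
    rw [← cOf_basis X f hf s, ← cOf_basis Y f' hf' s, hc]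
  choose ρ μ hρμ using exists_decomp X f hf
  -- the key well-definedness
  have key : ∀ (x : X.E) (r : RR A B) (m : M), x = f r + X.incl m →
      f' (ρ x) + Y.incl (μ x) = f' r + Y.incl m := by
    intro x r m hx
    have h1 : f (ρ x - r) = X.incl (m - μ x) := by
      have h := hρμ x
      rw [map_sub, map_sub]
      linear_combination hx - h
    have h0 : algebraMap (RR A B) B (ρ x - r) = 0 := by
      have := congrArg X.proj h1
      rw [hf, proj_incl] at this
      exact this
    have hker : ρ x - r ∈ (Algebra.Generators.self A B).ker := RingHom.mem_ker.2 h0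
    have h2 : gOf X f hf ⟨ρ x - r, hker⟩ = m - μ x := by
      apply X.isExtension.incl_injective
      rw [incl_gOf, h1]
    have h3 : f' (ρ x - r) = Y.incl (m - μ x) := by
      rw [← h2, hg, incl_gOf]
    rw [map_sub, map_sub] at h3
    linear_combination h3
  let θ : X.E →ₐ[A] Y.E :=
    { toFun := fun x => f' (ρ x) + Y.incl (μ x)
      map_one' := by
        have := key 1 1 0 (by rw [map_one, map_zero, add_zero])
        rw [this, map_one, map_zero, add_zero]
      map_mul' := by
        intro x y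
        have hx := hρμ x
        have hy := hρμ y
        have hxy : x * y = f (ρ x * ρ y) + X.incl (algebraMap (RR A B) B (ρ x) • μ y +
            algebraMap (RR A B) B (ρ y) • μ x) := by
          conv_lhs => rw [hx, hy]
          exact mul_decomp X f hf _ _ _ _
        rw [key _ _ _ hxy, mul_decomp Y f' hf']
      map_zero' := by
        have := key 0 0 0 (by rw [map_zero, map_zero, add_zero])
        rw [this, map_zero, map_zero, add_zero]
      map_add' := by
        intro x y
        have hxy : x + y = f (ρ x + ρ y) + X.incl (μ x + μ y) := by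
          conv_lhs => rw [hρμ x, hρμ y]
          rw [map_add, map_add]; ring
        rw [key _ _ _ hxy, map_add, map_add]; ring
      commutes' := by
        intro a
        have := key (algebraMap A X.E a) (algebraMap A (RR A B) a) 0
          (by rw [AlgHom.commutes, map_zero, add_zero])
        rw [this, AlgHom.commutes, map_zero, add_zero] }
  refine equiv_of_hom X Y θ (fun x => ?_) (fun m => ?_)
  · change Y.proj (f' (ρ x) + Y.incl (μ x)) = X.proj x
    rw [map_add, hf', proj_incl, add_zero]
    conv_rhs => rw [hρμ x]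
    rw [map_add, hf, proj_incl, add_zero]
  · change f' (ρ (X.incl m)) + Y.incl (μ (X.incl m)) = Y.incl m
    rw [key (X.incl m) 0 m (by rw [map_zero, zero_add]), map_zero, zero_add]

theorem Phi_injective (X Y : Exal.Ext A B M) (h : Phi X = Phi Y) :
    Nonempty (Exal.Ext.Equiv X Y) := by
  obtain ⟨f, hf⟩ := exists_lift X
  obtain ⟨f', hf'⟩ := exists_lift Y
  rw [Phi_eq X f hf, Phi_eq Y f' hf'] at h
  obtain ⟨ψ, hψ⟩ := (clOf_eq_iff X Y f hf f' hf').1 h
  -- modify f'
  let f0 : MvPolynomial B A →ₐ[A] Y.E := MvPolynomial.aeval (fun b : B =>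
    f' (Xv b : RR A B) + Y.incl (ψ ((1 : B) ⊗ₜ[RR A B] KaehlerDifferential.D A (RR A B) (Xv b : RR A B))))
  let f'' : RR A B →ₐ[A] Y.E := f0
  have hX : ∀ b : B, f'' (Xv b : RR A B) =
      f' (Xv b : RR A B) + Y.incl (ψ ((1 : B) ⊗ₜ[RR A B] KaehlerDifferential.D A (RR A B) (Xv b : RR A B))) :=
    fun b => MvPolynomial.aeval_X _ b
  have hf'' : IsLift Y f'' := by
    intro r
    have h : Y.proj.comp f0 = IsScalarTower.toAlgHom A (RR A B) B := by
      apply MvPolynomial.algHom_ext
      intro b
      rw [AlgHom.comp_apply]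
      have := hX b
      change f0 (MvPolynomial.X b) = _ at this
      rw [this, map_add, hf', proj_incl, add_zero]
      rfl
    exact AlgHom.congr_fun h r
  have h2 := psi_comp_d1 Y f' f'' hf' hf'' ψ (fun b => by rw [hX b]; ring)
  have hc : cOf X f hf = cOf Y f'' hf'' := by
    rw [hψ] at h2
    have : cOf Y f'' hf'' = (cOf X f hf - cOf Y f' hf') + cOf Y f' hf' := by
      rw [h2]; abel
    rw [this]; abel
  exact equiv_of_cOf_eq X Y f hf f'' hf'' hc

end Part2

section Part3

open CotT

attribute [local instance] Exal.opModule Exal.isCentralScalar_opModule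

/-- the canonical section of the trivial extension -/
noncomputable def sec0 (A C N : Type u) [CommRing A] [CommRing C] [Algebra A C] [AddCommGroup N]
    [Module C N] : C →ₐ[A] (Exal.Ext.trivial A C N).E :=
  { (TrivSqZeroExt.inlHom C N : C →+* Exal.Ext.TrivCarrier A C N) with
    commutes' := fun _ => rfl }

theorem proj_sec0 (A C N : Type u) [CommRing A] [CommRing C] [Algebra A C] [AddCommGroup N]
    [Module C N] (c : C) : (Exal.Ext.trivial A C N).proj (sec0 A C N c) = c := rfl

variable {A B M : Type u} [CommRing A] [CommRing B] [Algebra A B] [AddCommGroup M] [Module B M]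

theorem clOf_eq_zero (X : Exal.Ext A B M) (f : RR A B →ₐ[A] X.E) (hf : IsLift X f)
    (hc : cOf X f hf = 0) : clOf X f hf = 0 := by
  unfold clOf
  rw [Submodule.Quotient.mk_eq_zero]
  have : (⟨cOf X f hf, cOf_cocycle X f hf⟩ : cocycles1 (canon A B) M) = 0 := Subtype.ext hc
  rw [this]
  exact Submodule.zero_mem _

theorem Phi_trivial : Phi (Exal.Ext.trivial A B M) = 0 := by
  have hf₀ : IsLift (Exal.Ext.trivial A B M)
      ((sec0 A B M).comp (IsScalarTower.toAlgHom A (RR A B) B)) := fun r => rfl
  rw [Phi_eq _ _ hf₀]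
  apply clOf_eq_zero
  refine (L1basis (canon A B)).ext fun s => ?_
  rw [L1basis_apply, cOf_basis, LinearMap.zero_apply]
  apply (Exal.Ext.trivial A B M).isExtension.incl_injective
  rw [incl_gOf, map_zero]
  change sec0 A B M (algebraMap (RR A B) B (rel (canon A B) s)) = 0
  rw [algebraMap_rel, map_zero]

end Part3

section Surj

open CotT

variable (A B M : Type u) [CommRing A] [CommRing B] [Algebra A B] [AddCommGroup M] [Module B M]

/-- `M` as a module over the polynomial ring -/
@[reducible] noncomputable def modR : Module (RR A B) M :=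
  Module.compHom M (algebraMap (RR A B) B)

attribute [local instance] modR

theorem modR_smul (r : RR A B) (m : M) : r • m = algebraMap (RR A B) B r • m := rfl

variable {A B} in
/-- the relation, typed in `RR A B` -/
noncomputable abbrev rl (s : CanonRels A B) : RR A B := CotT.rel (CotT.canon A B) s

variable {A B} in
theorem rl_mem (s : CanonRels A B) : algebraMap (RR A B) B (rl s) = 0 := algebraMap_rel _ s

variable {A B} in
/-- an element of the kernel as a relation -/
noncomputable def mkRel (r : RR A B) (h : algebraMap (RR A B) B r = 0) : CanonRels A B :=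
  ⟨r, RingHom.mem_ker.2 h⟩

variable {A B} in
theorem rl_mkRel (r : RR A B) (h : algebraMap (RR A B) B r = 0) : rl (mkRel r h) = r := rfl

/-- the trivial extension of the polynomial ring by `M` -/
noncomputable abbrev ZZ : Exal.Ext A (RR A B) M := Exal.Ext.trivial A (RR A B) M

variable {A B M}
variable (c : L1 (canon A B) →ₗ[B] M) (hc : c ∘ₗ d2 (canon A B) = 0)

/-- values of a cocycle on the basis -/
noncomputable def gc (s : CanonRels A B) : M :=
  c ((1 : B) ⊗ₜ[RR A B] Finsupp.single s (1 : RR A B))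

include hc in
theorem c_of_jmap_zero (q : relMod (canon A B)) (hq : jmap (canon A B) q = 0) :
    c ((1 : B) ⊗ₜ[RR A B] q) = 0 := by
  have := LinearMap.congr_fun hc (Submodule.Quotient.mk
    ((1 : B) ⊗ₜ[RR A B] (⟨q, LinearMap.mem_ker.2 hq⟩ : relKer (canon A B))))
  rwa [LinearMap.comp_apply, d2_mk_tmul, LinearMap.zero_apply] at this

include hc in
theorem gc_zero (s : CanonRels A B) (h : rl s = 0) : gc c s = 0 := by
  apply c_of_jmap_zero c hc
  rw [jmap_single, one_mul]
  exact h

include hc in
theorem gc_add (s₁ s₂ s₃ : CanonRels A B) (h : rl s₃ = rl s₁ + rl s₂) :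
    gc c s₃ = gc c s₁ + gc c s₂ := by
  have := c_of_jmap_zero c hc
    (Finsupp.single s₃ (1 : RR A B) - Finsupp.single s₁ 1 - Finsupp.single s₂ 1) (by
      rw [map_sub, map_sub, jmap_single, jmap_single, jmap_single, one_mul, one_mul, one_mul]
      change rl s₃ - rl s₁ - rl s₂ = 0
      rw [h]; ring)
  rw [TensorProduct.tmul_sub, TensorProduct.tmul_sub, map_sub, map_sub] at this
  unfold gc
  rw [sub_sub, sub_eq_zero] at this
  exact this

include hc in
theorem gc_smul (s s' : CanonRels A B) (r : RR A B) (h : rl s' = r * rl s) :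
    gc c s' = algebraMap (RR A B) B r • gc c s := by
  have := c_of_jmap_zero c hc
    (Finsupp.single s' (1 : RR A B) - Finsupp.single s r) (by
      rw [map_sub, jmap_single, jmap_single, one_mul]
      change rl s' - r * rl s = 0
      rw [h]; ring)
  rw [TensorProduct.tmul_sub, map_sub, sub_eq_zero] at this
  unfold gc
  rw [this, ← Finsupp.smul_single_one s r, one_tmul_smul_L1, map_smul]

theorem ZZ_decomp (z : (ZZ A B M).E) :
    ∃ m : M, z = sec0 A (RR A B) M ((ZZ A B M).proj z) + (ZZ A B M).incl m := by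
  have h0 : (ZZ A B M).proj (z - sec0 A (RR A B) M ((ZZ A B M).proj z)) = 0 := by
    rw [map_sub, proj_sec0, sub_self]
  refine ⟨(ZZ A B M).kerLift _ h0, ?_⟩
  rw [(ZZ A B M).incl_kerLift]; ring

/-- the ideal defining the extension attached to a cocycle -/
noncomputable def Jc : Ideal (ZZ A B M).E where
  carrier := {z | ∃ s : CanonRels A B,
    z = sec0 A (RR A B) M (rl s) - (ZZ A B M).incl (gc c s)}
  zero_mem' := ⟨mkRel 0 (map_zero _), by
    rw [gc_zero c hc _ (rl_mkRel _ _), rl_mkRel, map_zero, map_zero, sub_zero]⟩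
  add_mem' := by
    rintro _ _ ⟨s₁, rfl⟩ ⟨s₂, rfl⟩
    have h0 : algebraMap (RR A B) B (rl s₁ + rl s₂) = 0 := by
      rw [map_add, rl_mem, rl_mem, add_zero]
    refine ⟨mkRel (rl s₁ + rl s₂) h0, ?_⟩
    rw [gc_add c hc s₁ s₂ (mkRel (rl s₁ + rl s₂) h0) (rl_mkRel _ _), rl_mkRel, map_add, map_add]
    ring
  smul_mem' := by
    rintro z _ ⟨s, rfl⟩
    obtain ⟨m, hm⟩ := ZZ_decomp z
    have h0 : algebraMap (RR A B) B ((ZZ A B M).proj z * rl s) = 0 := by
      rw [map_mul, rl_mem, mul_zero]
    refine ⟨mkRel ((ZZ A B M).proj z * rl s) h0, ?_⟩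
    rw [gc_smul c hc s (mkRel ((ZZ A B M).proj z * rl s) h0)
      ((ZZ A B M).proj z) (rl_mkRel _ _), rl_mkRel, smul_eq_mul, map_mul]
    have h1 : sec0 A (RR A B) M ((ZZ A B M).proj z) * (ZZ A B M).incl (gc c s) =
        (ZZ A B M).incl (algebraMap (RR A B) B ((ZZ A B M).proj z) • gc c s) := by
      rw [(ZZ A B M).isExtension.mul_incl, proj_sec0]
      rfl
    have h2 : sec0 A (RR A B) M (rl s) * (ZZ A B M).incl m = 0 := by
      rw [(ZZ A B M).isExtension.mul_incl, proj_sec0, modR_smul, rl_mem,
        zero_smul, map_zero]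
    have h3 := incl_mul_incl (ZZ A B M) m (gc c s)
    conv_lhs => rw [hm]
    linear_combination (-1 : (ZZ A B M).E) * h1 + h2 - h3

theorem mem_Jc (z : (ZZ A B M).E) : z ∈ Jc c hc ↔ ∃ s : CanonRels A B,
    z = sec0 A (RR A B) M (rl s) - (ZZ A B M).incl (gc c s) := Iff.rfl

theorem mk_sec0_rel (s : CanonRels A B) :
    Ideal.Quotient.mk (Jc c hc) (sec0 A (RR A B) M (rl s)) =
      Ideal.Quotient.mk (Jc c hc) ((ZZ A B M).incl (gc c s)) := by
  rw [Ideal.Quotient.eq]
  exact ⟨s, rfl⟩

/-- the augmentation of the extension attached to a cocycle -/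
noncomputable def projC : ((ZZ A B M).E ⧸ Jc c hc) →ₐ[A] B :=
  Ideal.Quotient.liftₐ (Jc c hc)
    ((IsScalarTower.toAlgHom A (RR A B) B).comp (ZZ A B M).proj) (by
      rintro z ⟨s, rfl⟩
      rw [AlgHom.comp_apply, map_sub, proj_sec0, proj_incl, sub_zero]
      exact rl_mem s)

theorem projC_mk (z : (ZZ A B M).E) :
    projC c hc (Ideal.Quotient.mk (Jc c hc) z) = algebraMap (RR A B) B ((ZZ A B M).proj z) := by
  unfold projC
  rw [Ideal.Quotient.liftₐ_apply, Ideal.Quotient.lift_mk]
  rfl

/-- the extension attached to a cocycle -/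
noncomputable def Ec : Exal.Ext A B M where
  E := (ZZ A B M).E ⧸ Jc c hc
  proj := projC c hc
  incl := (Ideal.Quotient.mk (Jc c hc) : (ZZ A B M).E →+* _).toAddMonoidHom.comp (ZZ A B M).incl
  isExtension :=
    { proj_surjective := by
        intro b
        obtain ⟨r, rfl⟩ := (canon A B).toExtension.algebraMap_surjective b
        refine ⟨Ideal.Quotient.mk (Jc c hc) (sec0 A (RR A B) M r), ?_⟩
        rw [projC_mk, proj_sec0]
      incl_injective := by
        rw [injective_iff_map_eq_zero]
        intro m hm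
        change Ideal.Quotient.mk (Jc c hc) ((ZZ A B M).incl m) = 0 at hm
        rw [Ideal.Quotient.eq_zero_iff_mem] at hm
        obtain ⟨s, hs⟩ := hm
        have h1 := congrArg (ZZ A B M).proj hs
        rw [map_sub, proj_sec0, proj_incl, proj_incl, sub_zero] at h1
        rw [gc_zero c hc s h1.symm, ← h1, map_zero, map_zero, sub_zero] at hs
        exact (ZZ A B M).isExtension.incl_injective (by rw [hs, map_zero])
      exact := by
        intro x
        obtain ⟨z, rfl⟩ := Ideal.Quotient.mk_surjective x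
        constructor
        · intro hx
          rw [projC_mk] at hx
          obtain ⟨m, hm⟩ := ZZ_decomp z
          refine ⟨gc c (mkRel ((ZZ A B M).proj z) hx) + m, ?_⟩
          change Ideal.Quotient.mk (Jc c hc) ((ZZ A B M).incl _) = _
          conv_rhs => rw [hm]
          rw [map_add, map_add, map_add,
            ← mk_sec0_rel c hc (mkRel ((ZZ A B M).proj z) hx), rl_mkRel]
        · rintro ⟨m, hm⟩
          change Ideal.Quotient.mk (Jc c hc) ((ZZ A B M).incl m) = _ at hm
          rw [← hm, projC_mk, proj_incl, map_zero]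
      mul_incl := by
        intro x m
        obtain ⟨z, rfl⟩ := Ideal.Quotient.mk_surjective x
        change Ideal.Quotient.mk (Jc c hc) z * Ideal.Quotient.mk (Jc c hc) ((ZZ A B M).incl m) =
          Ideal.Quotient.mk (Jc c hc) ((ZZ A B M).incl (projC c hc (Ideal.Quotient.mk _ z) • m))
        rw [← map_mul, (ZZ A B M).isExtension.mul_incl, projC_mk]
        rfl }

/-- the canonical lift into the extension attached to a cocycle -/
noncomputable def fC : RR A B →ₐ[A] (Ec c hc).E :=
  (Ideal.Quotient.mkₐ A (Jc c hc)).comp (sec0 A (RR A B) M)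

theorem fC_isLift : IsLift (Ec c hc) (fC c hc) := by
  intro r
  change projC c hc (Ideal.Quotient.mk (Jc c hc) (sec0 A (RR A B) M r)) = _
  rw [projC_mk, proj_sec0]

theorem cOf_Ec : cOf (Ec c hc) (fC c hc) (fC_isLift c hc) = c := by
  refine (L1basis (canon A B)).ext fun s => ?_
  rw [L1basis_apply, cOf_basis]
  apply (Ec c hc).isExtension.incl_injective
  rw [incl_gOf]
  change Ideal.Quotient.mk (Jc c hc) (sec0 A (RR A B) M (rl s)) =
    Ideal.Quotient.mk (Jc c hc) ((ZZ A B M).incl (gc c s))
  exact mk_sec0_rel c hc s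

theorem Phi_surjective (t : T1 (canon A B) M) : ∃ X : Exal.Ext A B M, Phi X = t := by
  obtain ⟨⟨c, hc⟩, rfl⟩ := Submodule.Quotient.mk_surjective _ t
  have hc' : c ∘ₗ d2 (canon A B) = 0 := hc
  refine ⟨Ec c hc', ?_⟩
  rw [Phi_eq _ _ (fC_isLift c hc')]
  unfold clOf
  congr 1
  exact Subtype.ext (cOf_Ec c hc')

end Surj

/-- Let A → B be a ring homomorphism and M a B-module. The equivalence classes of extensions of B by M
as A-algebras (surjections of A-algebras B' → B whose kernel is an ideal of square zero identified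
with M, two extensions being equivalent when there is an isomorphism compatible with the identities
of B and M) are in bijection with T^1(B/A, M), computed from the choice-free presentation, the class
of the trivial extension B ⊕ M corresponding to zero. (The published statement calls the
correspondence natural; this row asserts the existence of a bijection taking the trivial class to
zero.) -/
theorem result
    (A B : Type u) [CommRing A] [CommRing B] [Algebra A B] (M : Type u) [AddCommGroup M] [Module B M] :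
    ∃ e : Exal.Exalcom A B M ≃ CotT.T1 (CotT.canon A B) M, e 0 = 0 := by
  classical
  let Φ : Exal.Exalcom A B M → CotT.T1 (CotT.canon A B) M :=
    Quotient.lift (s := Exal.Ext.setoid A B M) Phi (fun X Y h => by
      obtain ⟨e⟩ := h
      exact Phi_equiv X Y e)
  have hinj : Function.Injective Φ := by
    intro x y hxy
    induction x using Quotient.inductionOn with
    | _ X =>
    induction y using Quotient.inductionOn with
    | _ Y =>
    exact Quotient.sound (Phi_injective X Y hxy)
  have hsurj : Function.Surjective Φ := by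
    intro t
    obtain ⟨X, hX⟩ := Phi_surjective t
    exact ⟨Quotient.mk _ X, hX⟩
  refine ⟨Equiv.ofBijective Φ ⟨hinj, hsurj⟩, ?_⟩
  change Phi (Exal.Ext.trivial A B M) = 0
  exact Phi_trivial

end Groth.Agent.S12292
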