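import Groth.Statements.S6511
import Groth.Agent.Lib.Helper13.KInjMV

set_option autoImplicit false
universe u
open CategoryTheory
attribute [local instance] HasDerivedCategory.standard
open DCoh

namespace Groth.Agent.S6511

open AlgebraicGeometry CategoryTheory.Limits in
/-- Let f : X → Y be a morphism of schemes and X = U ∪ V with U, V open; write a, b, c for the
restrictions of f to U, V, U ∩ V. For every E ∈ D(O_X) there is a distinguished triangle Rf_*E →
Ra_*(E|_U) ⊕ Rb_*(E|_V) → Rc_*(E|_{U∩V}) → Rf_*E[1] in D(O_Y). The objects are the stated ones; the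
morphisms are only asserted to exist. (The published statement is for ringed spaces; this row is for
schemes.) -/
theorem result {X Y : Scheme.{u}} (f : X ⟶ Y) (U V : X.Opens) (hUV : U ⊔ V = ⊤)
    [DCoh.HasRpush f] [DCoh.HasRpush (U.ι ≫ f)] [DCoh.HasRpush (V.ι ≫ f)] [DCoh.HasRpush ((U ⊓ V).ι ≫ f)]
    [PreservesFiniteLimits (Scheme.Modules.restrictFunctor U.ι)]
    [PreservesFiniteLimits (Scheme.Modules.restrictFunctor V.ι)]
    [PreservesFiniteLimits (Scheme.Modules.restrictFunctor (U ⊓ V).ι)] (E : DCoh.D X) :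
    ∃ (a : (DCoh.Rpush f).obj E ⟶ ((DCoh.Rpush (U.ι ≫ f)).obj ((DCoh.restrictD U.ι).obj E) ⊞ (DCoh.Rpush (V.ι ≫ f)).obj ((DCoh.restrictD V.ι).obj E))) (b : ((DCoh.Rpush (U.ι ≫ f)).obj ((DCoh.restrictD U.ι).obj E) ⊞ (DCoh.Rpush (V.ι ≫ f)).obj ((DCoh.restrictD V.ι).obj E)) ⟶ (DCoh.Rpush ((U ⊓ V).ι ≫ f)).obj ((DCoh.restrictD (U ⊓ V).ι).obj E)) (c : (DCoh.Rpush ((U ⊓ V).ι ≫ f)).obj ((DCoh.restrictD (U ⊓ V).ι).obj E) ⟶ ((DCoh.Rpush f).obj E)⟦(1 : ℤ)⟧),
      Pretriangulated.Triangle.mk a b c ∈ Pretriangulated.distinguishedTriangles := by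
  obtain ⟨I, hI, hInj, ⟨e⟩⟩ := Groth.Agent.Lib.Helper13.KInjCompute.exists_model
    (Groth.Agent.Lib.Helper13.KInjSch.hasKInjInj X) E
  obtain ⟨a, b, c, h⟩ := Groth.Agent.Lib.Helper13.KInjMV.exists_triangle
    (Functor.whiskerRight (Groth.Agent.Lib.Helper13.RelMVMod.η U) (Scheme.Modules.pushforward f))
    (Functor.whiskerRight (Groth.Agent.Lib.Helper13.RelMVMod.η V) (Scheme.Modules.pushforward f))
    (Functor.whiskerRight (Groth.Agent.Lib.Helper13.RelMVMod.rhoH (inf_le_left : U ⊓ V ≤ U))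
      (Scheme.Modules.pushforward f))
    (Functor.whiskerRight (Groth.Agent.Lib.Helper13.RelMVMod.rhoH (inf_le_right : U ⊓ V ≤ V))
      (Scheme.Modules.pushforward f)) I
    (fun n => (Groth.Agent.Lib.Helper13.KInjMV.isPullback_H U V hUV (I.X n)).map
      (Scheme.Modules.pushforward f))
    (fun n => Groth.Agent.Lib.Helper13.KInjMV.epi_pushforward_rhoH_of_injective f _ (I.X n) (hInj n))
  have e1 : DerivedCategory.Q.obj (((𝟭 X.Modules ⋙ Scheme.Modules.pushforward f).mapHomologicalComplex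
      (ComplexShape.up ℤ)).obj I) ≅ (DCoh.Rpush f).obj E :=
    (Groth.Agent.Lib.Helper13.KInjCompute.iso (Scheme.Modules.pushforward f)
      (Groth.Agent.Lib.Helper13.KInjSch.hasKInj X) I hI).symm ≪≫ (DCoh.Rpush f).mapIso e.symm
  have e2 : ∀ W : X.Opens, ∀ [DCoh.HasRpush (W.ι ≫ f)],
      DerivedCategory.Q.obj (((Groth.Agent.Lib.Helper13.RelMVMod.H W ⋙
        Scheme.Modules.pushforward f).mapHomologicalComplex (ComplexShape.up ℤ)).obj I) ≅
      (DCoh.Rpush (W.ι ≫ f)).obj ((DCoh.restrictD W.ι).obj E) := fun W _ =>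
    DerivedCategory.Q.mapIso ((NatIso.mapHomologicalComplex
      (Functor.associator _ _ _ ≪≫ Functor.isoWhiskerLeft (Scheme.Modules.restrictFunctor W.ι)
        (Scheme.Modules.pushforwardComp W.ι f)) (ComplexShape.up ℤ)).app I) ≪≫
    (Groth.Agent.Lib.Helper13.KInjMV.isoRestrict W (Scheme.Modules.pushforward (W.ι ≫ f)) I hI e).symm
  exact Groth.Agent.Lib.Helper13.KInjMV.exists_triangle_of_iso _ h e1
    (biprod.mapIso (e2 U) (e2 V)) (e2 (U ⊓ V))

end Groth.Agent.S6511
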