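import Groth.Statements.S1438
-- import your own Groth.Agent.* helpers here

set_option autoImplicit false
universe u
open FlatMor

namespace Groth.Agent.S1438

open AlgebraicGeometry CategoryTheory Limits in
/-- A separated scheme with an open covering by n + 1 affine opens has affine stratification number at
most n: it admits an affine stratification with index set {0, …, n}. -/
theorem result (X : Scheme.{u}) [X.IsSeparated] (n : ℕ) (U : Fin (n + 1) → X.Opens)
    (hU : ∀ i, IsAffineOpen (U i)) (hcov : ⨆ i, U i = ⊤) :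
    MoreMor.HasAffineStratification X n := by
  classical
  have hex : ∀ x : X, ∃ j, x ∈ U j := by
    intro x
    have : x ∈ (⨆ i, U i) := by rw [hcov]; trivial
    simpa [TopologicalSpace.Opens.mem_iSup] using this
  have hne : ∀ x : X, (Finset.univ.filter (fun j => x ∈ U j)).Nonempty := by
    intro x
    obtain ⟨j, hj⟩ := hex x
    exact ⟨j, by simp [hj]⟩
  let m : X → Fin (n + 1) := fun x => (Finset.univ.filter (fun j => x ∈ U j)).min' (hne x)
  have hm1 : ∀ x, x ∈ U (m x) := by
    intro x
    have := Finset.min'_mem _ (hne x)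
    simpa using this
  have hm2 : ∀ x j, x ∈ U j → m x ≤ j := fun x j hj => Finset.min'_le _ j (by simp [hj])
  have hm3 : ∀ x k, k ≤ m x ↔ ∀ j, j < k → x ∉ U j := by
    intro x k
    constructor
    · intro hk j hj hx
      exact absurd (lt_of_le_of_lt (hm2 x j hx) hj) (not_lt.mpr hk)
    · intro h
      by_contra hlt
      exact h _ (not_le.mp hlt) (hm1 x)
  have hm4 : ∀ x k, m x = k ↔ x ∈ U k ∧ ∀ j, j < k → x ∉ U j := by
    intro x k
    constructor
    · rintro rfl
      exact ⟨hm1 x, (hm3 x _).mp le_rfl⟩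
    · rintro ⟨h1, h2⟩
      exact le_antisymm (hm2 x k h1) ((hm3 x k).mpr h2)
  have hC : ∀ k : Fin (n + 1), IsClosed {x : X | ∀ j, j < k → x ∉ U j} := by
    intro k
    have : {x : X | ∀ j, j < k → x ∉ U j} = ⋂ j, ⋂ (_ : j < k), ((U j : Set X))ᶜ := by
      ext x; simp
    rw [this]
    exact isClosed_iInter fun j => isClosed_iInter fun _ => (U j).2.isClosed_compl
  refine ⟨fun x => Fin.rev (m x), ?_, ?_⟩
  · intro i
    have : {x : X | Fin.rev (m x) ≤ i} = {x : X | ∀ j, j < Fin.rev i → x ∉ U j} := by
      ext x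
      simp only [Set.mem_setOf_eq]
      rw [Fin.rev_le_iff, hm3]
    rw [this]
    exact hC _
  · intro i
    let C : TopologicalSpace.Closeds X := ⟨_, hC (Fin.rev i)⟩
    let I := Scheme.IdealSheafData.vanishingIdeal C
    have hUa : IsAffine (U (Fin.rev i) : Scheme.{u}) := hU _
    have hιa : IsAffineHom (U (Fin.rev i)).ι := by
      have : IsAffineHom ((U (Fin.rev i)).ι ≫ terminal.from X) := inferInstance
      exact IsAffineHom.of_comp _ (terminal.from X)
    refine ⟨pullback I.subschemeι (U (Fin.rev i)).ι,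
      pullback.snd I.subschemeι (U (Fin.rev i)).ι ≫ (U (Fin.rev i)).ι, inferInstance, ?_, inferInstance, ?_⟩
    · exact isAffine_of_isAffineHom (pullback.snd I.subschemeι (U (Fin.rev i)).ι)
    · rw [Scheme.Pullback.range_snd_comp, Scheme.IdealSheafData.range_subschemeι,
        Scheme.IdealSheafData.coe_support_vanishingIdeal, Scheme.Opens.range_ι]
      ext x
      simp only [Set.mem_inter_iff, Set.mem_setOf_eq]
      rw [Fin.rev_eq_iff, hm4]
      exact ⟨fun ⟨h1, h2⟩ => ⟨h2, h1⟩, fun ⟨h1, h2⟩ => ⟨h2, h1⟩⟩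

end Groth.Agent.S1438
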