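import Groth.Statements.S0021
import Mathlib
import Groth.Agent.S0014
import Groth.Agent.Lib.Helper17.ChevSub
import Groth.Agent.Lib.Helper17.ChevStep
import Groth.Agent.Lib.Helper17.DevPow
import Groth.Agent.Lib.Helper17.DevSS

set_option autoImplicit false
universe u
open Coherent

namespace Groth.Agent.S0021

open AlgebraicGeometry in
/-- Let f : Y → X be finite and surjective with Y affine and X Noetherian. Then X is affine. -/
theorem result {Y X : Scheme.{u}} (f : Y ⟶ X) [IsFinite f]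
    [Surjective f] [IsAffine Y] [IsNoetherian X] : IsAffine X := by
  apply Groth.Agent.S0014.result X
  intro I i _ hI hFT
  have hIcoh : Coh.IsCoh I := ⟨hI, hFT⟩
  change Groth.Agent.Lib.Helper17.ChevP.P I
  have hext : ∀ S : CategoryTheory.ShortComplex X.Modules, S.ShortExact → Coh.IsCoh S.X₁ →
      Coh.IsCoh S.X₂ → Coh.IsCoh S.X₃ → CohB1.support S.X₂ ⊆ Set.univ →
      Groth.Agent.Lib.Helper17.ChevP.P S.X₁ → Groth.Agent.Lib.Helper17.ChevP.P S.X₃ →
      Groth.Agent.Lib.Helper17.ChevP.P S.X₂ :=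
    fun S hS _ _ _ _ p1 p3 => Groth.Agent.Lib.Helper17.ChevP.P_ext S hS p1 p3
  refine Groth.Agent.Lib.Helper17.DevEngine.engine X Groth.Agent.Lib.Helper17.ChevP.P
    (fun M N ⟨e⟩ h => Groth.Agent.Lib.Helper17.ChevP.P_of_iso e h) Set.univ
    Groth.Agent.Lib.Helper17.ChevP.P_of_isZero hext ?_ I hIcoh (Set.subset_univ _)
  intro Z hZ hirr _ IH F hF hFs _
  obtain ⟨y, hy⟩ := QuasiSober.sober hirr hZ
  obtain ⟨ξ', rfl⟩ := f.surjective y
  have hy' : closure {f ξ'} = ((⟨Z, hZ⟩ : TopologicalSpace.Closeds X) : Set X) := hy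
  have hy'' : closure {f ξ'} = Z := hy
  have hyZ : f ξ' ∈ Z := hy'' ▸ subset_closure (Set.mem_singleton (f ξ'))
  have hgenZ : ∀ x ∈ Z, f ξ' ⤳ x := fun x hx => specializes_iff_mem_closure.mpr (hy''.symm ▸ hx)
  have IH' : ∀ F' : X.Modules, Coh.IsCoh F' → CohB1.support F' ⊆ Z →
      f ξ' ∉ CohB1.support F' → Groth.Agent.Lib.Helper17.ChevP.P F' :=
    fun F' hF' hs hn => IH F' hF' hs (fun h => hn (h ▸ hyZ))
  set J := Scheme.IdealSheafData.vanishingIdeal (⟨Z, hZ⟩ : TopologicalSpace.Closeds X) with hJ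
  have hA : Coh.IsCoh (Groth.Agent.Lib.Helper17.DevTest.A J) :=
    Groth.Agent.Lib.Helper17.DevTest.isCoh_A _
  have hAs : CohB1.support (Groth.Agent.Lib.Helper17.DevTest.A J) ⊆ Z := by
    rw [Groth.Agent.Lib.Helper17.DevTest.support_A, hJ,
      Scheme.IdealSheafData.coe_support_vanishingIdeal]
    rfl
  have hAl := Groth.Agent.Lib.Helper17.DevTest.length_stalk_A ⟨Z, hZ⟩ (f ξ') hy'
  -- the test module `B = f_* O_{Z'}`
  have hB := Groth.Agent.Lib.Helper17.ChevSub.isCoh_pushA f ξ'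
  have hBs : CohB1.support (Groth.Agent.Lib.Helper17.DevFin.pushA f ξ') ⊆ Z :=
    (Groth.Agent.Lib.Helper17.DevFin.support_pushA_subset f ξ').trans hy''.le
  have hBy : f ξ' ∈ CohB1.support (Groth.Agent.Lib.Helper17.DevFin.pushA f ξ') :=
    Groth.Agent.Lib.Helper17.DevFin.mem_support_pushA f ξ' ξ' (subset_closure rfl)
  have hfin := Groth.Agent.Lib.Helper17.DevKey.length_ne_top _ hB Z (f ξ') hgenZ hBs
  obtain ⟨d, hd⟩ := ENat.ne_top_iff_exists.mp hfin
  have hd0 : d ≠ 0 := by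
    rintro rfl
    rw [Nat.cast_zero] at hd
    exact hBy (Module.length_eq_zero_iff.mp hd.symm)
  obtain ⟨d', rfl⟩ := Nat.exists_eq_succ_of_ne_zero hd0
  refine Groth.Agent.Lib.Helper17.DevKeyExt.keyExt Groth.Agent.Lib.Helper17.ChevP.P Set.univ hext Z
    (Set.subset_univ _) (f ξ') hgenZ IH' _ hA hAs hAl
    (fun K hK k _ hyK => Groth.Agent.Lib.Helper17.DevTest.isZero_of_mono_of_notMem ⟨Z, hZ⟩ (f ξ')
      hy' hK k hyK) ?_ F hF hFs
  intro G'' hG'' ι'' _ hyG''
  have hG''c : Coh.IsCoh G'' := Groth.Agent.Lib.Helper17.DevBasic.isCoh_of_mono ι'' hG'' hA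
  have hG''s : CohB1.support G'' ⊆ Z :=
    (Groth.Agent.Lib.Helper17.DevBasic.support_subset_of_mono ι'').trans hAs
  have hG''k : ClSub.KilledByIdeal J G'' :=
    Groth.Agent.Lib.Helper17.DevBasic.killed_of_mono J ι''
      (Groth.Agent.Lib.Helper17.DevTest.killed_A J)
  have hG''l : Module.length (X.presheaf.stalk (f ξ')) (G''.presheaf.stalk (f ξ')) = 1 := by
    apply le_antisymm
    · rw [← hAl]
      exact Module.length_le_of_injective
        (Groth.Agent.Lib.Helper17.StalkExact.stalkLin ι'' (f ξ'))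
        (Groth.Agent.Lib.Helper17.StalkExact.stalkLin_injective ι'' (f ξ'))
    · rw [ENat.one_le_iff_ne_zero]
      intro h0
      exact hyG'' (Module.length_eq_zero_iff.mp h0)
  have hPw := Groth.Agent.Lib.Helper17.DevPow.isCoh_pow G'' hG''c (d' + 1)
  have hPws := (Groth.Agent.Lib.Helper17.DevPow.support_pow_subset G'' (d' + 1)).trans hG''s
  have hPwl := Groth.Agent.Lib.Helper17.DevPow.length_pow G'' (f ξ') (d' + 1)
  rw [hG''l, mul_one] at hPwl
  haveI := hB.1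
  haveI := hB.2
  haveI := hPw.1
  haveI := hPw.2
  haveI := Groth.Agent.Lib.Helper17.CohStalk.finite_stalk
    (Groth.Agent.Lib.Helper17.DevFin.pushA f ξ') (f ξ')
  haveI := Groth.Agent.Lib.Helper17.CohStalk.finite_stalk
    (Groth.Agent.Lib.Helper17.DevPow.pow G'' (d' + 1)) (f ξ')
  obtain ⟨ψ⟩ := Groth.Agent.Lib.Helper17.DevSS.nonempty_linearEquiv_of_killed
    (fun a ha t => Groth.Agent.Lib.Helper17.DevFin.smul_eq_zero_pushA f ξ' a ha t)
    (Groth.Agent.Lib.Helper17.DevPow.stalk_smul_eq_zero ⟨Z, hZ⟩ (f ξ') hy' _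
      (Groth.Agent.Lib.Helper17.DevPow.killed_pow _ _ hG''k (d' + 1)))
    (hd.symm.trans hPwl.symm)
  obtain ⟨C, hC, sC, hlen, hPC⟩ := Groth.Agent.Lib.Helper17.ChevStep.stepExt'
    Groth.Agent.Lib.Helper17.ChevP.P Set.univ hext Z (Set.subset_univ _) (f ξ') IH'
    (Groth.Agent.Lib.Helper17.DevFin.pushA f ξ') hB hBs hBy
    (fun K hK k _ hyK => Groth.Agent.Lib.Helper17.ChevTF.isZero_of_mono_pushA f ξ' hK k hyK)
    (fun G' hG' ι _ hbij => Groth.Agent.Lib.Helper17.ChevSub.P_of_full_sub f ξ'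
      (fun F' hF' hs hn => IH' F' hF' (hs.trans hy''.le) hn) G' hG' ι hbij)
    _ hPw hPws ψ.toLinearMap ψ.injective
  have hC0 : Module.length (X.presheaf.stalk (f ξ')) (C.presheaf.stalk (f ξ')) = 0 := by
    rw [← hd, hPwl] at hlen
    apply ENat.add_left_injective_of_ne_top (ENat.coe_ne_top (d' + 1))
    change _ + ((d' + 1 : ℕ) : ℕ∞) = 0 + ((d' + 1 : ℕ) : ℕ∞)
    rw [zero_add]
    exact hlen
  have hCy : f ξ' ∉ CohB1.support C := fun h => h (Module.length_eq_zero_iff.mp hC0)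
  have hPpow := hPC (IH' C hC sC hCy)
  obtain ⟨i₀, r₀, hir⟩ := Groth.Agent.Lib.Helper17.DevPow.retract_pow G'' d'
  exact Groth.Agent.Lib.Helper17.ChevP.P_of_retract i₀ r₀ hir hPpow

end Groth.Agent.S0021
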