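import Groth.Statements.S7066
import Mathlib
import Groth.Agent.Lib.Helper18.DRFib2
import Groth.Agent.Lib.Helper18.DRReg3
import Groth.Agent.Lib.Helper18.KProjG
import Groth.Agent.Lib.Helper18.DRTorZ2
import Groth.Agent.Lib.Helper18.DRRel4

set_option autoImplicit false
universe u
attribute [local instance] HasDerivedCategory.standard
open MoreMor

namespace Groth.Agent.S7066

open CategoryTheory CategoryTheory.Limits DerivedCategory TensorProduct
open Groth.Agent.Lib.Helper18.DR

set_option linter.style.haveILetI false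

/-- the `A`-module `B`, restricted from the polynomial ring, is the `A`-module `B` -/
noncomputable def resIso {A B : Type u} [CommRing A] [CommRing B] [Algebra A B] {n : ℕ}
    (φ : MvPolynomial (Fin n) A →ₐ[A] B) :
    letI : Algebra (MvPolynomial (Fin n) A) B := φ.toRingHom.toAlgebra
    resM (algebraMap A (MvPolynomial (Fin n) A)) (ModuleCat.of (MvPolynomial (Fin n) A) B) ≅
      ModuleCat.of A B :=
  letI : Algebra (MvPolynomial (Fin n) A) B := φ.toRingHom.toAlgebra
  let e : ↑(resM (algebraMap A (MvPolynomial (Fin n) A))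
      (ModuleCat.of (MvPolynomial (Fin n) A) B)) ≃ₗ[A] B :=
    { toFun := fun x => x
      invFun := fun x => x
      map_add' := fun _ _ => rfl
      map_smul' := fun a x => by
        have key : ∀ y : B, (algebraMap A (MvPolynomial (Fin n) A) a) • y = a • y := fun y => by
          rw [Algebra.smul_def, Algebra.smul_def]
          change φ (algebraMap A (MvPolynomial (Fin n) A) a) * y = _
          rw [φ.commutes]
        exact key x
      left_inv := fun _ => rfl
      right_inv := fun _ => rfl }
  e.toModuleIso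



/-- A homomorphism of commutative rings A → B is perfect, i.e. pseudo-coherent with B of finite tor
dimension as an A-module, if and only if B is a quotient of a polynomial ring A[x_1, …, x_n] over
which B is a perfect module, i.e. B placed in degree 0 is isomorphic in the derived category of the
polynomial ring to a bounded complex of finite projective modules. -/
theorem result (A B : Type u) [CommRing A] [CommRing B] [Algebra A B] :
    MoreMor.IsPerfectHom A B ↔
      ∃ (n : ℕ) (φ : MvPolynomial (Fin n) A →ₐ[A] B), Function.Surjective φ ∧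
        letI := φ.toRingHom.toAlgebra
        DRing.IsPerfectModule (MvPolynomial (Fin n) A) B := by
  constructor
  · rintro ⟨⟨n, φ, hφ, hpc⟩, ⟨d, hd⟩⟩
    refine ⟨n, φ, hφ, ?_⟩
    letI : Algebra (MvPolynomial (Fin n) A) B := φ.toRingHom.toAlgebra
    have hgl : ∀ (p : PrimeSpectrum A) (M : Type u) [AddCommGroup M]
        [Module (TensorProduct A p.asIdeal.ResidueField (MvPolynomial (Fin n) A)) M],
        HasProjectiveDimensionLT (ModuleCat.of
          (TensorProduct A p.asIdeal.ResidueField (MvPolynomial (Fin n) A)) M) (n + 1) := by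
      intro p M _ _
      have e : MvPolynomial (Fin n) p.asIdeal.ResidueField ≃+*
          TensorProduct A p.asIdeal.ResidueField (MvPolynomial (Fin n) A) :=
        (MvPolynomial.algebraTensorAlgEquiv A p.asIdeal.ResidueField).symm.toRingEquiv
      haveI : IsRegularRing (TensorProduct A p.asIdeal.ResidueField (MvPolynomial (Fin n) A)) :=
        IsRegularRing.of_ringEquiv (R := MvPolynomial (Fin n) p.asIdeal.ResidueField) e
      refine globalDim_le_of_regular (fun q => inferInstance) n ?_ M
      rw [← ringKrullDim_eq_of_ringEquiv e, MvPolynomial.ringKrullDim_of_isNoetherianRing,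
        ringKrullDim_eq_zero_of_field, Nat.card_fin, zero_add]
    have hKa : DRing.HasTorAmplitudeIn A (-(d : ℤ)) 0
        ((DRing.restrictD (algebraMap A (MvPolynomial (Fin n) A))).obj
          (Dual.inD (MvPolynomial (Fin n) A) B)) := by
      have h0 := (hasTorDimLE_iff_hasTorAmplitudeIn_single A B d).1.1 hd
      refine hasTorAmplitudeIn_of_iso ?_ h0
      exact ((DerivedCategory.singleFunctor (ModuleCat.{u} A) 0).mapIso (resIso φ)).symm ≪≫
        (restrictDSgIso (algebraMap A (MvPolynomial (Fin n) A)) 0
          (ModuleCat.of (MvPolynomial (Fin n) A) B)).symm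
    exact (isPerfect_of_flat_fibres_finite_globalDimension n hgl (-(d : ℤ)) 0 _ hpc hKa).1
  · rintro ⟨n, φ, hφ, hperf⟩
    letI : Algebra (MvPolynomial (Fin n) A) B := φ.toRingHom.toAlgebra
    obtain ⟨hpc, a, b, hTA⟩ := isRelPerfect_of_isPerfect A (MvPolynomial (Fin n) A)
      (Dual.inD (MvPolynomial (Fin n) A) B) hperf
    refine ⟨⟨n, φ, hφ, hpc⟩, ?_⟩
    have hTA' : DRing.HasTorAmplitudeIn A a b (Dual.inD A B) :=
      hasTorAmplitudeIn_of_iso
        ((restrictDSgIso (algebraMap A (MvPolynomial (Fin n) A)) 0
          (ModuleCat.of (MvPolynomial (Fin n) A) B)) ≪≫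
          (DerivedCategory.singleFunctor (ModuleCat.{u} A) 0).mapIso (resIso φ)) hTA
    obtain ⟨d, hda⟩ : ∃ d : ℕ, -(d : ℤ) ≤ a := ⟨(-a).toNat, by omega⟩
    refine ⟨d, (hasTorDimLE_iff_hasTorAmplitudeIn_single A B d).1.2 ?_⟩
    obtain ⟨Pc, hP, hfree, ⟨e⟩, hex, ⟨eM⟩⟩ := exists_flat_resolution (R := A) B
    have hflat : ∀ i, Module.Flat A (Pc.X i) := fun i => by haveI := hfree i; infer_instance
    have h1 : DRing.HasTorAmplitudeIn A (-(d : ℤ)) (max b 0) (DRing.toD Pc) :=
      hasTorAmplitudeIn_of_iso e.symm (hasTorAmplitudeIn_mono hTA' hda (le_max_left _ _))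
    have hcok : Module.Flat A (cok Pc (-(d : ℤ) - 1) (-(d : ℤ))) :=
      flat_cok_of_flat_of_hasTorAmplitudeIn Pc 0 hP hflat (-(d : ℤ)) (max b 0) h1
    refine hasTorAmplitudeIn_of_iso e
      (hasTorAmplitudeIn_of_flat_cok Pc 0 (-(d : ℤ)) 0 (-(d : ℤ) - 1) (by omega) hP hflat
        (fun i hi => ?_) (fun i hi => ?_) hcok)
    · exact (isZero_of_isGE (Sg 0 (ModuleCat.of A B)) 0 i (by omega)).of_iso ((H A i).mapIso e)
    · exact (isZero_of_isLE (Sg 0 (ModuleCat.of A B)) 0 i hi).of_iso ((H A i).mapIso e)

end Groth.Agent.S7066
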