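import Groth.Statements.S7070
import Mathlib
import Groth.Agent.S7066
import Groth.Agent.Lib.Helper25.KoszulPerfect

set_option autoImplicit false
universe u
attribute [local instance] HasDerivedCategory.standard
open MoreMor

namespace Groth.Agent.S7070

/-- A local complete intersection homomorphism of commutative rings A → B (finite type, with some
polynomial presentation whose kernel is a Koszul-regular ideal) is perfect: pseudo-coherent with B
of finite tor dimension over A. -/
theorem result (A B : Type u) [CommRing A] [CommRing B] [Algebra A B]
    (h : LCI.IsLCI A B) : MoreMor.IsPerfectHom A B := by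
  rw [Groth.Agent.S7066.result]
  obtain ⟨_, n, φ, hφ, hI⟩ := h
  refine ⟨n, φ, hφ, ?_⟩
  letI : Algebra (MvPolynomial (Fin n) A) B := φ.toRingHom.toAlgebra
  exact Groth.Agent.Lib.Helper25.KoszulPerfect.isPerfectModule_of_isKoszulRegularIdeal_ker
    (fun b => hφ b) hI

end Groth.Agent.S7070
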