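import Groth.Statements.S0921
import Groth.Agent.Lib.Helper2.Stk.PerfPull

set_option autoImplicit false
universe u
open CategoryTheory
attribute [local instance] HasDerivedCategory.standard
open DCoh

namespace Groth.Agent.S0921

open AlgebraicGeometry in
/-- For f : X -> Y and a perfect object E of D(O_Y), the derived pullback Lf^* E (under its existence
binder) is perfect. -/
theorem result {X Y : Scheme.{u}} (f : X ⟶ Y) [DCoh.HasLpull f] (E : DCoh.D Y)
    (hE : DCoh.IsPerfect E) : DCoh.IsPerfect ((DCoh.Lpull f).obj E) := by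
  classical
  intro x
  obtain ⟨V, hyV, hV⟩ := hE (f.base x)
  refine ⟨f ⁻¹ᵁ V, hyV, ?_⟩
  rintro G ⟨eG⟩
  -- a K-flat representative of `E`
  obtain ⟨F, s, _, hF0, _, hs, _⟩ := Groth.Agent.Lib.Helper2.LDer.DC.exists_good_resolution
    (DerivedCategory.Q.objPreimage E)
  have hF : Groth.Agent.Lib.Helper2.Tot.KFlat (DCoh.tensorBi (X := Y)) F :=
    (Groth.Agent.Lib.Helper2.Tot.DC.isKFlat_iff F).1 hF0
  haveI : QuasiIso s := hs
  have eF : DCoh.toD Y F ≅ E :=
    asIso (DerivedCategory.Q.map s) ≪≫ DerivedCategory.Q.objObjPreimageIso E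
  obtain ⟨P, hP, ⟨eP⟩⟩ := hV F ⟨eF⟩
  exact Groth.Agent.Lib.Helper2.Stk.perfect_pull_aux f V F hF P hP eP G
    (eG ≪≫ (DCoh.Lpull f).mapIso eF.symm)

end Groth.Agent.S0921
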