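import Groth.Statements.S0910
import Groth.Agent.Lib.Helper2.Stk.PCohPull

set_option autoImplicit false
universe u
open CategoryTheory
attribute [local instance] HasDerivedCategory.standard
open DCoh

namespace Groth.Agent.S0910

open AlgebraicGeometry in
/-- Let f : X → Y be a morphism of schemes and E an m-pseudo-coherent object of D(O_Y). Then Lf^*E is
m-pseudo-coherent. Here Lf^* is the total left derived functor of f^*, whose existence is assumed as
an instance argument. (The published statement is for morphisms of ringed spaces; stated here for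
schemes.) -/
theorem result {X Y : Scheme.{u}} (f : X ⟶ Y) [DCoh.HasLpull f] (m : ℤ) (E : DCoh.D Y)
    (hE : DCoh.IsPseudoCoherentD m E) : DCoh.IsPseudoCoherentD m ((DCoh.Lpull f).obj E) := by
  classical
  intro x
  obtain ⟨V, hyV, hV⟩ := hE (f.base x)
  refine ⟨f ⁻¹ᵁ V, hyV, ?_⟩
  rintro G ⟨eG⟩
  obtain ⟨F, s, _, hF0, _, hs, _⟩ := Groth.Agent.Lib.Helper2.LDer.DC.exists_good_resolution
    (DerivedCategory.Q.objPreimage E)
  have hF : Groth.Agent.Lib.Helper2.Tot.KFlat (DCoh.tensorBi (X := Y)) F :=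
    (Groth.Agent.Lib.Helper2.Tot.DC.isKFlat_iff F).1 hF0
  haveI : QuasiIso s := hs
  have eF : DCoh.toD Y F ≅ E :=
    asIso (DerivedCategory.Q.map s) ≪≫ DerivedCategory.Q.objObjPreimageIso E
  obtain ⟨P, α, hP, h1, h2⟩ := hV F ⟨eF⟩
  exact Groth.Agent.Lib.Helper2.Stk.pcoh_pull_aux f V F hF P hP α m h1 h2 G
    (eG ≪≫ (DCoh.Lpull f).mapIso eF.symm)

end Groth.Agent.S0910
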