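import Mathlib
import Groth.Statements.S5488
import Groth.Agent.Lib.Helper29.RootDBasic

set_option autoImplicit false
open RootPairing
open scoped Pointwise
open RootD

open RootPairing
open Groth.Agent.Lib.Helper29.RootDBasic
namespace Aux5488
variable {ι M N : Type*} [AddCommGroup M] [AddCommGroup N] (P : RootPairing ι ℤ M N)

theorem reflection_eq_of_two_smul [Finite ι] (i j : ι) (h : (2 : ℤ) • P.root j = P.root i) :
    Equiv.reflection P i = Equiv.reflection P j := by
  have : Module.IsTorsionFree ℤ N := torsionFree P.flip
  have : IsAddTorsionFree N := .of_isTorsionFree ℤ N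
  have hco : (2 : ℤ) • P.coroot i = P.coroot j := P.smul_coroot_eq_of_root_eq_smul j i 2 h.symm
  apply Equiv.weightHom_injective P
  ext x
  change Equiv.reflection P i • x = Equiv.reflection P j • x
  rw [Equiv.reflection_smul, Equiv.reflection_smul, P.reflection_apply, P.reflection_apply, ← h]
  unfold RootPairing.coroot'
  rw [← hco]
  simp only [map_smul, LinearMap.smul_apply, smul_eq_mul, mul_smul]
  rw [smul_comm]

theorem not_four_smul (i k : ι) (h : (4 : ℤ) • P.root k = P.root i) : False := by
  have h1 := congrArg (fun x => P.toLinearMap x (P.coroot i)) h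
  simp only [map_smul, LinearMap.smul_apply, P.root_coroot_eq_pairing, P.pairing_same, smul_eq_mul] at h1
  omega

theorem main [Finite ι] :
    Subgroup.closure ((fun i : ι => Equiv.reflection P i) '' {i : ι | RootD.IsIndiv P i}) = P.weylGroup := by
  apply le_antisymm
  · apply Subgroup.closure_mono
    rintro _ ⟨i, -, rfl⟩
    exact ⟨i, rfl⟩
  · unfold RootPairing.weylGroup
    rw [Subgroup.closure_le]
    rintro _ ⟨i, rfl⟩
    by_cases hi : RootD.IsIndiv P i
    · exact Subgroup.subset_closure ⟨i, hi, rfl⟩
    · unfold RootD.IsIndiv at hi
      push Not at hi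
      obtain ⟨j, hj⟩ := hi
      rw [reflection_eq_of_two_smul P i j hj]
      refine Subgroup.subset_closure ⟨j, ?_, rfl⟩
      intro k hk
      apply not_four_smul P i k
      rw [← hj, ← hk, smul_smul]
      norm_num

end Aux5488

namespace Groth.Agent.S5488

/-- The reduced datum of indivisible roots has the same Weyl group: the reflections in indivisible roots
generate W. -/
theorem result {ι M N : Type*} [AddCommGroup M] [AddCommGroup N]
    (P : RootPairing ι ℤ M N) [Finite ι] :
    Subgroup.closure ((fun i : ι => Equiv.reflection P i) '' {i : ι | RootD.IsIndiv P i}) = P.weylGroup := by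
  exact Aux5488.main P

end Groth.Agent.S5488
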