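import Mathlib
import Groth.Statements.S5503


set_option autoImplicit false
open RootPairing
open scoped Pointwise
open RootD

open RootPairing
namespace Aux5503
variable {ι R M N : Type*} [CommRing R] [AddCommGroup M] [Module R M] [AddCommGroup N] [Module R N]
  (P : RootPairing ι R M N)

/-- transposition: `⟨u m, n⟩ = ⟨m, u^T n⟩` -/
theorem pairing_weightMap (u : P.Aut) (m : M) (n : N) :
    P.toLinearMap (u.weightMap m) n = P.toLinearMap m (u.coweightMap n) := by
  have := Hom.weight_coweight_transpose_apply P P n u.toHom
  have h2 := LinearMap.congr_fun this m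
  simpa using h2

theorem smul_def (u : P.Aut) (m : M) : u • m = u.weightMap m := rfl

theorem main (u : P.Aut) (i : ι) :
    u * Equiv.reflection P i * u⁻¹ = Equiv.reflection P (u • i) := by
  apply Equiv.weightHom_injective P
  ext x
  simp only [map_mul, LinearEquiv.mul_apply]
  change u • (Equiv.reflection P i • (u⁻¹ • x)) = Equiv.reflection P (u • i) • x
  rw [Equiv.reflection_smul, Equiv.reflection_smul, P.reflection_apply, P.reflection_apply, smul_sub,
    smul_inv_smul, smul_comm u]
  congr 2
  · -- pairing
    change P.toLinearMap (u⁻¹ • x) (P.coroot i) = P.toLinearMap x (P.coroot (u.indexEquiv i))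
    have h1 : P.coroot i = u.coweightMap (P.coroot (u.indexEquiv i)) := by
      rw [Hom.coroot_coweightMap_apply]; simp
    rw [h1, ← pairing_weightMap, ← smul_def, smul_inv_smul]
  · exact (Equiv.root_indexEquiv_eq_smul P i u).symm

end Aux5503

namespace Groth.Agent.S5503

/-- For an automorphism u of a root datum and a root α, u s_α u⁻¹ = s_{u(α)}; hence W(R) is a normal
subgroup of Aut(R). -/
theorem result {ι M N : Type*} [AddCommGroup M] [AddCommGroup N]
    (P : RootPairing ι ℤ M N) [Finite ι] (u : P.Aut) (i : ι) :
    u * Equiv.reflection P i * u⁻¹ = Equiv.reflection P (u • i) := by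
  exact Aux5503.main P u i

end Groth.Agent.S5503
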