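import Mathlib
import Groth.Statements.S5508
import Groth.Agent.Lib.Helper29.RootDPart
import Groth.Agent.Lib.Helper2.RootD.Weyl
import Groth.Agent.S5488
import Groth.Agent.S5503

set_option autoImplicit false
open RootPairing
open scoped Pointwise
open RootD

open RootPairing
open Groth.Agent.Lib.Helper2.RootD
namespace Aux5508
variable {ι M N : Type*} [AddCommGroup M] [AddCommGroup N] {P : RootPairing ι ℤ M N}
  {Δ : Set ι} (hΔ : RootD.IsSimpleSys P Δ)

theorem isIndiv_reflectionPerm (P : RootPairing ι ℤ M N) (d k : ι) (h : RootD.IsIndiv P k) :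
    RootD.IsIndiv P (P.reflectionPerm d k) := by
  intro j hj
  apply h (P.reflectionPerm d j)
  rw [P.root_reflectionPerm, ← map_smul, hj, ← P.root_reflectionPerm, P.reflectionPerm_self]

theorem isIndiv_neg (P : RootPairing ι ℤ M N) (k : ι) (h : RootD.IsIndiv P k) :
    RootD.IsIndiv P (P.reflectionPerm k k) := by
  intro j hj
  apply h (P.reflectionPerm j j)
  rw [Groth.Agent.Lib.Helper29.RootDBasic.root_neg, smul_neg, hj,
    Groth.Agent.Lib.Helper29.RootDBasic.root_neg, neg_neg]

include hΔ

theorem ht_reflectionPerm (d : Δ) (k : ι) :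
    ht hΔ (P.reflectionPerm d k) = ht hΔ k - P.pairing k d := by
  unfold ht
  rw [coef_reflectionPerm, map_sub, map_smul, coef_of_mem, htL_single]
  simp

theorem conj_pos [Finite ι] : ∀ (n : ℕ) (k : ι), k ∈ RootD.posOf P Δ → RootD.IsIndiv P k → ht hΔ k ≤ n →
    ∃ g ∈ Subgroup.closure ((fun i : ι => Equiv.reflection P i) '' Δ), ∃ i ∈ Δ, g • i = k := by
  intro n
  induction n with
  | zero =>
    intro k hk _ hht
    have := ht_pos_of_mem_posOf hΔ hk
    omega
  | succ n ih =>
    intro k hk hind hht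
    by_cases hkΔ : k ∈ Δ
    · exact ⟨1, one_mem _, k, hkΔ, one_smul _ _⟩
    · obtain ⟨δ, hc, hp⟩ := exists_simple_pairing_pos hΔ hk
      have hli : LinearIndependent ℤ ![P.root k, P.root δ] := by
        by_contra hli
        rcases eq_or_eq_two_smul_of_not_linearIndependent hΔ hk δ.2 hli with h | h
        · exact hkΔ (h ▸ δ.2)
        · exact hind δ h.symm
      have hk' := reflectionPerm_mem_posOf hΔ hk δ.2 hli
      have hht' : ht hΔ (P.reflectionPerm δ k) ≤ n := by
        rw [ht_reflectionPerm hΔ δ k]; omega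
      obtain ⟨g', hg', i, hi, hgi⟩ := ih _ hk' (isIndiv_reflectionPerm P δ k hind) hht'
      refine ⟨Equiv.reflection P δ * g', mul_mem (Subgroup.subset_closure ⟨δ, δ.2, rfl⟩) hg', i, hi, ?_⟩
      rw [mul_smul, hgi, reflection_aut_smul, P.reflectionPerm_self]

theorem conj [Finite ι] (k : ι) (hind : RootD.IsIndiv P k) :
    ∃ g ∈ Subgroup.closure ((fun i : ι => Equiv.reflection P i) '' Δ), ∃ i ∈ Δ, g • i = k := by
  rcases mem_posOf_or_neg hΔ k with hk | hk
  · exact conj_pos hΔ (ht hΔ k).toNat k hk hind (by omega)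
  · obtain ⟨g, hg, i, hi, hgi⟩ := conj_pos hΔ (ht hΔ (P.reflectionPerm k k)).toNat _ hk
      (isIndiv_neg P k hind) (by omega)
    refine ⟨g * Equiv.reflection P i, mul_mem hg (Subgroup.subset_closure ⟨i, hi, rfl⟩), i, hi, ?_⟩
    rw [mul_smul, reflection_aut_smul, smul_neg_index, hgi,
      Groth.Agent.Lib.Helper29.RootDBasic.neg_neg_idx]

theorem main [Finite ι] :
    Subgroup.closure ((fun i : ι => Equiv.reflection P i) '' Δ) = P.weylGroup ∧
      ∀ k : ι, RootD.IsIndiv P k → ∃ g : P.Aut, g ∈ P.weylGroup ∧ ∃ i ∈ Δ, g • i = k := by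
  have hle : Subgroup.closure ((fun i : ι => Equiv.reflection P i) '' Δ) ≤ P.weylGroup := by
    apply Subgroup.closure_mono
    rintro _ ⟨i, -, rfl⟩
    exact ⟨i, rfl⟩
  refine ⟨le_antisymm hle ?_, ?_⟩
  · unfold RootPairing.weylGroup
    rw [Subgroup.closure_le]
    rintro _ ⟨i, rfl⟩
    have key : ∀ i, RootD.IsIndiv P i →
        Equiv.reflection P i ∈ Subgroup.closure ((fun i : ι => Equiv.reflection P i) '' Δ) := by
      intro i hi
      obtain ⟨g, hg, d, hd, hgd⟩ := conj hΔ i hi
      rw [← hgd, ← Groth.Agent.S5503.result P g d]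
      exact mul_mem (mul_mem hg (Subgroup.subset_closure ⟨d, hd, rfl⟩)) (inv_mem hg)
    by_cases hi : RootD.IsIndiv P i
    · exact key i hi
    · unfold RootD.IsIndiv at hi
      push Not at hi
      obtain ⟨j, hj⟩ := hi
      rw [Aux5488.reflection_eq_of_two_smul P i j hj]
      apply key
      intro l hl
      apply Aux5488.not_four_smul P i l
      rw [← hj, ← hl, smul_smul]
      norm_num
  · intro k hk
    obtain ⟨g, hg, i, hi, hgi⟩ := conj hΔ k hk
    exact ⟨g, hle hg, i, hi, hgi⟩

end Aux5508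

namespace Groth.Agent.S5508

/-- For an arbitrary (possibly non-reduced) root datum and a system of simple roots Δ in the root-only
sense: the simple reflections generate the Weyl group, and every indivisible root is conjugate under
the Weyl group to a simple root. -/
theorem result {ι M N : Type*} [AddCommGroup M] [AddCommGroup N]
    (P : RootPairing ι ℤ M N) [Finite ι] (Δ : Set ι) (hΔ : RootD.IsSimpleSys P Δ) :
    Subgroup.closure ((fun i : ι => Equiv.reflection P i) '' Δ) = P.weylGroup ∧
      ∀ k : ι, RootD.IsIndiv P k → ∃ g : P.Aut, g ∈ P.weylGroup ∧ ∃ i ∈ Δ, g • i = k := by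
  exact Aux5508.main hΔ

end Groth.Agent.S5508
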