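import Groth.Statements.S5457
import Groth.Agent.Lib.Helper2.RootD.Weyl
-- import your own Groth.Agent.* helpers here

set_option autoImplicit false
open RootD

namespace Groth.Agent.S5457

/-- Given a translation-invariant partial order (pulled back along an additive map to an ordered abelian
group) for which every root is > 0 or < 0, the roots > 0 form a system of positive roots. -/
theorem result {ι M N : Type*} [AddCommGroup M] [AddCommGroup N]
    (P : RootPairing ι ℤ M N) [Finite ι] {G : Type*} [AddCommGroup G] [PartialOrder G]
    [IsOrderedAddMonoid G] (φ : M →+ G) (hφ : ∀ i : ι, 0 < φ (P.root i) ∨ φ (P.root i) < 0) :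
    RootD.IsPosSys P {i : ι | 0 < φ (P.root i)} := by
  open Groth.Agent.Lib.Helper2.RootD in
  have hnn : ∀ x ∈ RootD.natSpan P {i : ι | 0 < φ (P.root i)}, 0 ≤ φ x := by
    intro x hx
    induction hx using AddSubmonoid.closure_induction with
    | mem y hy =>
      obtain ⟨i, hi, rfl⟩ := hy
      exact le_of_lt hi
    | zero => rw [map_zero]
    | add y z _ _ hy hz => rw [map_add]; exact add_nonneg hy hz
  refine ⟨?_, ?_, ?_⟩
  · intro i hi hneg
    have h1 : 0 < φ (P.root i) := hi
    have h2 : 0 < φ (P.root (P.reflectionPerm i i)) := hneg
    rw [root_neg, map_neg] at h2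
    have h3 : φ (P.root i) < 0 := neg_pos.mp h2
    exact lt_asymm h1 h3
  · intro i
    rcases hφ i with h | h
    · left; exact h
    · right
      show 0 < φ (P.root (P.reflectionPerm i i))
      rw [root_neg, map_neg]
      exact neg_pos.mpr h
  · intro k n hn hmem
    have h1 := hnn _ hmem
    rw [map_nsmul] at h1
    rcases hφ k with h | h
    · exact h
    · exfalso
      have h2 : n • φ (P.root k) < 0 := by
        have := nsmul_pos (neg_pos.mpr h) hn.ne'
        rw [smul_neg] at this
        exact neg_pos.mp this
      exact absurd h1 (not_le_of_gt h2)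

end Groth.Agent.S5457
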