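import Groth.Statements.S5452
import Groth.Agent.Lib.Helper2.RootD.Aut
-- import your own Groth.Agent.* helpers here

set_option autoImplicit false
open RootPairing
open scoped Pointwise
open RootD

namespace Groth.Agent.S5452

/-- The Weyl group of a root datum acts faithfully on the set of roots. -/
theorem result {ι M N : Type*} [AddCommGroup M] [AddCommGroup N]
    (P : RootPairing ι ℤ M N) [Finite ι] :
    Function.Injective P.weylGroupToPerm := by
  rw [injective_iff_map_eq_one]
  intro g hg
  have hfix : ∀ i : ι, (g : P.Aut) • i = i := fun i => by
    have := congrArg (fun σ : Equiv.Perm ι => σ i) hg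
    exact this
  exact Subtype.ext (Groth.Agent.Lib.Helper2.RootD.weyl_eq_one_of_fix P g.2 hfix)

end Groth.Agent.S5452
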