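import Groth.Statements.S1677
-- import your own Groth.Agent.* helpers here
import Mathlib
import Groth.Agent.S8660
import Groth.Agent.Lib.Helper1.SmDesc3
import Groth.Agent.Lib.Helper22.RelRegReg
import Groth.Agent.Lib.Helper22.QRegNoeth

set_option autoImplicit false
universe u
open CategoryTheory CategoryTheory.Limits AlgebraicGeometry TopologicalSpace
open SDiv

namespace Groth.Agent.S1677

/-- Let X ⟶ S be smooth, Y ⟶ S flat, locally of finite presentation with complete-intersection fibre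
local rings (syntomic), and i : Y ⟶ X a closed immersion over S. Then i is a regular closed
immersion. -/
theorem result {X Y S : Scheme.{u}} (p : X ⟶ S) [Smooth p] (i : Y ⟶ X)
    [IsClosedImmersion i] (hY : CInt.IsCIMorphism (i ≫ p)) : Mor2.IsRegularClosedImmersion i := by
  obtain ⟨hfl, hfp, hci⟩ := hY
  haveI := hfl
  haveI := hfp
  have hK : ∀ y : Y, Synt.IsKoszulAt (i ≫ p) y :=
    (Groth.Agent.S8660.result (i ≫ p)).2 ⟨hfl, hfp, hci⟩
  have h1 : RegImm.IsRegularImmersion RegImm.Kind.koszul i :=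
    Groth.Agent.Lib.Helper1.SmDesc.isRegularImmersion_of_isKoszulAt (i ≫ p) hK p i rfl
  have h2 : RegImm.IsRegularImmersion RegImm.Kind.quasi i := by
    refine ⟨h1.1, fun z => ?_⟩
    obtain ⟨U, hzU, hcl, rs, hrs, hker⟩ := h1.2 z
    refine ⟨U, hzU, hcl, rs, ?_, hker⟩
    have hrs' : LCI.IsKoszulRegularSeq Γ(X, U.1) rs := hrs
    have h2 : CAlgX.IsH1Regular rs.get := fun a ha =>
      H10KL.h1_of_isZero_homology _ rs (hrs' (-1) (by norm_num)) a ha
    exact Groth.Agent.Lib.Helper14.H1Reg.qr_of_h1 rs.get h2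
  have h3 : RegImm.IsRegularImmersion RegImm.Kind.regular i :=
    Groth.Agent.Lib.Helper22.RelRegReg.regular_of_relQuasi p i ⟨h2, hfl⟩
  refine ⟨inferInstance, fun z => ?_⟩
  obtain ⟨U, hzU, hcl, rs, hrs, hker⟩ := h3.2 z
  refine ⟨U.1, U.2, hzU, rs, hrs, ?_⟩
  rw [Scheme.Hom.ker_apply]
  exact hker

end Groth.Agent.S1677
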