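-- Statement S0300.
import Groth.Statements.S0300
import Mathlib.Algebra.Module.Injective
import Mathlib.Algebra.DirectSum.Module
import Mathlib.RingTheory.Noetherian.Basic

set_option autoImplicit false
universe u v
open InjHull

namespace Groth.Agent.S0300

/-- Over a Noetherian ring, injectivity of modules is preserved under arbitrary direct sums. -/
theorem result (R : Type u) [CommRing R] [IsNoetherianRing R] {ι : Type u} (E : ι → Type u) [∀ i, AddCommGroup (E i)] [∀ i, Module R (E i)] (hE : ∀ i, Module.Injective R (E i)) : Module.Injective R (DirectSum ι E) := by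
  classical
  apply Module.Baer.injective
  intro I g
  obtain ⟨T, hT⟩ := (isNoetherianRing_iff_ideal_fg R).1 inferInstance I
  have hTI : ∀ a ∈ T, a ∈ I := fun a ha => hT ▸ Ideal.subset_span ha
  let s : Finset ι := T.attach.biUnion (fun a => DFinsupp.support (g ⟨a.1, hTI a.1 a.2⟩))
  have hzero : ∀ j, j ∉ s → ∀ x : I, (g x) j = 0 := by
    intro j hj
    let K : Submodule R I := LinearMap.ker ((DirectSum.component R ι E j) ∘ₗ g)
    have hle : I ≤ K.map I.subtype := by
      refine hT.symm.le.trans (Ideal.span_le.2 ?_)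
      intro a ha
      refine ⟨⟨a, hTI a ha⟩, ?_, rfl⟩
      change (g ⟨a, hTI a ha⟩) j = 0
      by_contra hne
      apply hj
      rw [Finset.mem_biUnion]
      exact ⟨⟨a, ha⟩, Finset.mem_attach _ _, DFinsupp.mem_support_iff.2 hne⟩
    intro x
    obtain ⟨y, hy, hyx⟩ := hle x.2
    have : y = x := Subtype.ext hyx
    subst this
    exact hy
  have hB : ∀ i, Module.Baer R (E i) := fun i => Module.Baer.of_injective (hE i)
  choose g' hg' using fun i => hB i I ((DirectSum.component R ι E i) ∘ₗ g)
  refine ⟨(DirectSum.lmk R ι E s) ∘ₗ (LinearMap.pi (fun i : (↑s : Set ι) => g' i.1)), ?_⟩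
  intro x hx
  apply DFinsupp.ext
  intro j
  by_cases hj : j ∈ s
  · have h1 : ((DirectSum.lmk R ι E s) ∘ₗ (LinearMap.pi (fun i : (↑s : Set ι) => g' i.1))) x j =
        g' j x := by
      change (DFinsupp.mk s (fun i : (↑s : Set ι) => g' i.1 x)) j = _
      rw [DFinsupp.mk_apply, dif_pos hj]
    rw [h1, hg' j x hx]
    rfl
  · have h1 : ((DirectSum.lmk R ι E s) ∘ₗ (LinearMap.pi (fun i : (↑s : Set ι) => g' i.1))) x j =
        0 := by
      change (DFinsupp.mk s (fun i : (↑s : Set ι) => g' i.1 x)) j = _
      rw [DFinsupp.mk_apply, dif_neg hj]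
    rw [h1, hzero j hj ⟨x, hx⟩]

end Groth.Agent.S0300
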