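import Mathlib
import Groth.Agent.Lib.Helper20.GrSerre2
import Groth.Statements.S17770
-- import your own Groth.Agent.* helpers here

set_option autoImplicit false
universe u
open BigOperators
open GrLC

namespace Groth.Agent.S17770

/-- Let R = ⊕_{n ≥ 0} R_n be a Noetherian positively ℤ-graded ring which is standard graded (irrelevant
ideal generated by R_1), with R_0 Artinian, *local with unique homogeneous maximal ideal m, and of
Krull dimension d. Let M be a finitely generated graded R-module, H_M(n) = ℓ_{R_0}(M_n) its Hilbert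
function and P_M ∈ ℚ[X] its Hilbert polynomial, i.e. a polynomial with P_M(n) = H_M(n) for all
sufficiently large n (taken as given). Then for every integer n, H_M(n) − P_M(n) = Σ_{i = 0}^{d}
(−1)^i ℓ_{R_0}(H^i_m(M)_n), where H^i_m(M)_n are the homogeneous pieces of graded local cohomology
with support in m computed from any *injective resolution of M (their lengths are finite, and the
pieces vanish for i > d). -/
theorem result (R : Type u) [CommRing R] [IsNoetherianRing R] (𝒜 : ℤ → AddSubgroup R) [GradedRing 𝒜] (hpos : ∀ n : ℤ, n < 0 → 𝒜 n = ⊥) (hstd : Ideal.span (⋃ n ∈ Set.Ioi (0 : ℤ), (𝒜 n : Set R)) = Ideal.span ((𝒜 1 : AddSubgroup R) : Set R)) [IsArtinianRing (GrLC.deg0 𝒜)] (m : HomogeneousIdeal 𝒜) (hm : GrLC.IsStarLocal 𝒜 m) (d : ℕ) (hd : ringKrullDim R = d) (M : Type u) [AddCommGroup M] [Module R M] [Module.Finite R M] (ℳ : ℤ → AddSubgroup M) [DirectSum.Decomposition ℳ] [SetLike.GradedSMul 𝒜 ℳ] (E : GrLC.StarInjRes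 𝒜 ℳ) (P : Polynomial ℚ) (hP : ∃ N : ℤ, ∀ n : ℤ, N ≤ n → P.eval (n : ℚ) = ((Module.length (GrLC.deg0 𝒜) (GrLC.comp 𝒜 ℳ n)).toNat : ℚ)) (n : ℤ) : ((Module.length (GrLC.deg0 𝒜) (GrLC.comp 𝒜 ℳ n)).toNat : ℚ) - P.eval (n : ℚ) = ∑ i ∈ Finset.range (d + 1), (-1 : ℚ) ^ i * ((Module.length (GrLC.deg0 𝒜) (E.Hcomp m i n)).toNat : ℚ) := by
  classical
  have ha : (GrSyz.irrel 𝒜).toIdeal = Ideal.span (⋃ n ∈ Set.Ioi (0 : ℤ), (𝒜 n : Set R)) := by
    change Ideal.span {r : R | ∃ n : ℤ, 0 < n ∧ r ∈ 𝒜 n} = _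
    congr 1
    ext r
    simp only [Set.mem_ofPred_eq, Set.mem_iUnion, Set.mem_Ioi, SetLike.mem_coe, exists_prop]
  have hhom : (GrSyz.irrel 𝒜).toIdeal = Ideal.span ((𝒜 1 : AddSubgroup R) : Set R) := by
    rw [ha, hstd]
  have hB : ∀ N : ModuleCat.{u} R,
      Subsingleton (Groth.Agent.Lib.Helper4.LC.HH (GrSyz.irrel 𝒜).toIdeal N (d + 1)) := by
    intro N
    apply Groth.Agent.Lib.Helper4.LC.HH.subsingleton_of_ringKrullDim_lt
    rw [hd]
    exact_mod_cast Nat.lt_succ_self d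
  have key := Groth.Agent.Lib.Helper20.GrSerre2.serre_irrel (GrSyz.irrel 𝒜) ha hhom (d + 1)
    (by omega) hB E P hP n
  have hlen : ∀ i : ℕ, Groth.Agent.Lib.Helper20.LenEuler.len (GrLC.deg0 𝒜) (E.Hcomp m i n) =
      Groth.Agent.Lib.Helper20.LenEuler.len (GrLC.deg0 𝒜) (E.Hcomp (GrSyz.irrel 𝒜) i n) :=
    fun i => Groth.Agent.Lib.Helper20.GrSerre2.len_Hcomp_sameGam E m (GrSyz.irrel 𝒜)
      (fun X _ _ => Groth.Agent.Lib.Helper20.GrIrrelRad.gam_eq_irrel 𝒜 hpos m hm X) i n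
  have hsum : ∑ i ∈ Finset.range (d + 1), (-1 : ℚ) ^ i *
      ((Module.length (GrLC.deg0 𝒜) (E.Hcomp m i n)).toNat : ℚ) =
      Groth.Agent.Lib.Helper20.GrEulerLES.chi (GrSyz.irrel 𝒜) E n (d + 1) := by
    unfold Groth.Agent.Lib.Helper20.GrEulerLES.chi
    apply Finset.sum_congr rfl
    intro i _
    rw [← hlen i]
    rfl
  rw [hsum, ← key]
  rfl

end Groth.Agent.S17770
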