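import Mathlib
import Groth.Agent.Lib.Helper20.GrIrrelRad
import Groth.Agent.Lib.Helper20.GrChop2
import Groth.Agent.Lib.Helper20.DepthMaxLoc
import Groth.Agent.Lib.Helper20.GrAinv
import Groth.Statements.S17771
-- import your own Groth.Agent.* helpers here

set_option autoImplicit false
universe u
open GrLC

namespace Groth.Agent.S17771

/-- Let R = ⊕_{n ≥ 0} R_n be a positively ℤ-graded ring which is standard graded (irrelevant ideal
generated by R_1), with R_0 Artinian, *local with unique homogeneous maximal ideal m, and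
Cohen–Macaulay of Krull dimension d. Then the a-invariant of R is at least −d: the end (largest
nonzero degree) of the graded local cohomology module H^d_m(R), computed from any *injective
resolution of R in the graded category, is ≥ −d. (Equality holds exactly for polynomial rings
R_0[T_1, …, T_d]; that characterisation is not part of this statement.) -/
theorem result (R : Type u) [CommRing R] [LocCoh.IsCohenMacaulayRing R] (𝒜 : ℤ → AddSubgroup R) [GradedRing 𝒜] (hpos : ∀ n : ℤ, n < 0 → 𝒜 n = ⊥) (hstd : Ideal.span (⋃ n ∈ Set.Ioi (0 : ℤ), (𝒜 n : Set R)) = Ideal.span ((𝒜 1 : AddSubgroup R) : Set R)) [IsArtinianRing (GrLC.deg0 𝒜)] (m : HomogeneousIdeal 𝒜) (hm : GrLC.IsStarLocal 𝒜 m) (d : ℕ) (hd : ringKrullDim R = d) (I : GrLC.StarInjRes 𝒜 𝒜) : (((-(d : ℤ) : ℤ) : WithTop ℤ) : WithBot (WithTop ℤ)) ≤ GrLC.endDeg (I.Hgr m d) := by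
  classical
  have hmax : m.toIdeal.IsMaximal :=
    Groth.Agent.Lib.Helper20.GrArtin.isMaximal_of_isCoatom 𝒜 hpos m hm.1
  have hdim := Groth.Agent.Lib.Helper20.GrHeight2.ringKrullDim_eq_height 𝒜 m hm hpos
  rw [hd] at hdim
  have hht : m.toIdeal.height = ((d : ℕ) : ℕ∞) := by
    have : ((m.toIdeal.height : ℕ∞) : WithBot ℕ∞) = (((d : ℕ) : ℕ∞) : WithBot ℕ∞) := by
      rw [← hdim]
      rfl
    exact_mod_cast this
  by_contra hcon
  -- vanishing of the top cohomology in degrees `≥ -d`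
  have htop : ∀ e : ℤ, -(d : ℤ) ≤ e → I.Hcomp m d e = ⊥ := by
    intro e he
    by_contra hne
    apply hcon
    have hne' : I.Hgr m d e ≠ ⊥ := by
      intro h
      apply hne
      rw [Submodule.eq_bot_iff]
      intro z hz
      have : z ∈ I.Hgr m d e := hz
      rw [h] at this
      exact (AddSubgroup.mem_bot).1 this
    calc (((-(d : ℤ) : ℤ) : WithTop ℤ) : WithBot (WithTop ℤ))
        ≤ ((e : WithTop ℤ) : WithBot (WithTop ℤ)) := by exact_mod_cast he
      _ ≤ GrLC.endDeg (I.Hgr m d) :=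
        le_iSup₂ (f := fun (n : ℤ) (_ : I.Hgr m d n ≠ ⊥) =>
          ((n : WithTop ℤ) : WithBot (WithTop ℤ))) e hne'
  -- vanishing for `m`
  have hvan : ∀ (q : ℕ) (e : ℤ), (q = d → -(d : ℤ) ≤ e) →
      Groth.Agent.Lib.Helper20.GrVan.Van m 𝒜 q e := by
    intro q e hqe
    rcases lt_trichotomy q d with hlt | heq | hgt
    · apply Groth.Agent.Lib.Helper20.GrVan.van_of_HH
      exact Groth.Agent.Lib.Helper20.DepthMaxLoc.HH.subsingleton_of_lt_height m.toIdeal q (by
        rw [hht]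
        exact_mod_cast hlt)
    · subst heq
      exact Groth.Agent.Lib.Helper20.GrVan.van_of_Hcomp_eq_bot m I q e (htop e (hqe rfl))
    · apply Groth.Agent.Lib.Helper20.GrVan.van_of_HH
      apply Groth.Agent.Lib.Helper4.LC.HH.subsingleton_of_ringKrullDim_lt
      rw [hd]
      exact_mod_cast hgt
  -- transfer to the irrelevant ideal
  have hvan' : ∀ (q : ℕ) (e : ℤ), (q = d → -(d : ℤ) ≤ e) →
      Groth.Agent.Lib.Helper20.GrVan.Van (GrSyz.irrel 𝒜) 𝒜 q e := by
    intro q e hqe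
    exact Groth.Agent.Lib.Helper20.GrIrrelRad.van_of_sameGam 𝒜 m (GrSyz.irrel 𝒜)
      (fun X _ _ => Groth.Agent.Lib.Helper20.GrIrrelRad.gam_eq_irrel 𝒜 hpos m hm X) q e
      (hvan q e hqe)
  have hhom : (GrSyz.irrel 𝒜).toIdeal = Ideal.span ((𝒜 1 : AddSubgroup R) : Set R) := by
    rw [← hstd]
    change Ideal.span {r : R | ∃ n : ℤ, 0 < n ∧ r ∈ 𝒜 n} = _
    congr 1
    ext r
    simp only [Set.mem_ofPred_eq, Set.mem_iUnion, Set.mem_Ioi, SetLike.mem_coe, exists_prop]
  obtain ⟨l, hl⟩ := Groth.Agent.Lib.Helper20.GrChop2.exists_list (GrSyz.irrel 𝒜) hhom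
  have h1 := Groth.Agent.Lib.Helper20.GrChop.mem_smul_top_of_van (GrSyz.irrel 𝒜) 𝒜 l hl 0
    (hvan' 0 0 (fun h => by rw [← h]; simp))
    (fun q hq => hvan' q (0 - q) (fun h => by rw [h]; simp))
    (1 : R) (SetLike.GradedOne.one_mem (A := 𝒜))
  have h2 : (1 : R) ∈ (GrSyz.irrel 𝒜).toIdeal := by
    have : (GrSyz.irrel 𝒜).toIdeal • (⊤ : Submodule R R) = (GrSyz.irrel 𝒜).toIdeal := by
      rw [smul_eq_mul, Ideal.mul_top]
    rw [this] at h1
    exact h1
  have h3 : (1 : R) ∈ m.toIdeal :=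
    Groth.Agent.Lib.Helper20.GrIrrelRad.irrel_le 𝒜 hpos m hm h2
  exact hm.1.1 (HomogeneousIdeal.toIdeal_injective ((Ideal.eq_top_iff_one _).2 h3))

end Groth.Agent.S17771
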