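import Mathlib
import Groth.Agent.Lib.Helper20.GrCanonType
import Groth.Agent.Lib.Helper20.BassInjDim
import Groth.Agent.S18636
import Groth.Agent.S7700
import Groth.Statements.S18639
-- import your own Groth.Agent.* helpers here

set_option autoImplicit false
universe u
open GrLC

namespace Groth.Agent.S18639

/-- Let R be a graded ring defined over a field which is Cohen–Macaulay, with graded maximal ideal m and
canonical module K_R. Then (i) K_R is a Cohen–Macaulay R-module — stated here at m: the localisation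
of K_R at m is a Cohen–Macaulay module over R_m, which is what the published proof computes (the Ext
groups of the residue field into K_R vanish outside degree n = dim R) — and (ii) K_R has finite
injective dimension as an R-module. Here 'graded ring defined over a field' means R = ⊕_{n ≥ 0} R_n
is Noetherian with R_0 a field (so R is finitely generated over R_0), m = R_+ is its unique graded
maximal ideal and n = dim R; the canonical module K_R (the graded dual of H^n_m(R)) is represented
by a finitely generated graded module C together with a homogeneous isomorphism from Hom_R(C, E)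
onto H^n_m(R), where E is a *injective envelope of R/m and H^n_m(R) is computed from a *injective
resolution of R in the graded category; by graded Matlis duality this says exactly that C ≅ K_R as
graded modules. -/
theorem result (R : Type u) [CommRing R] [LocCoh.IsCohenMacaulayRing R] (𝒜 : ℤ → AddSubgroup R) [GradedRing 𝒜] (hpos : ∀ n : ℤ, n < 0 → 𝒜 n = ⊥) (h0 : IsField (GrLC.deg0 𝒜)) (m : HomogeneousIdeal 𝒜) (hm : GrLC.IsStarLocal 𝒜 m) (hmsp : m.toIdeal = Ideal.span (⋃ n ∈ Set.Ioi (0 : ℤ), (𝒜 n : Set R))) [m.toIdeal.IsMaximal] (n : ℕ) (hn : ringKrullDim R = n) (I : GrLC.StarInjRes 𝒜 𝒜) (E' : Type u) [AddCommGroup E'] [Module R E'] (𝓔 : ℤ → AddSubgroup E') [DirectSum.Decomposition 𝓔] [SetLike.GradedSMul 𝒜 𝓔] (e : (R ⧸ m.toIdeal) →ₗ[R] E') (he : GrLC.IsStarInjHull 𝒜 (GrLC.quotGr 𝒜 m) 𝓔 e) (C : Type u) [AddCommGroup C] [Module R C] (𝒞 : ℤ → AddSubgroup C) [DirectSum.Decomposition 𝒞] [SetLike.GradedSMul 𝒜 𝒞] (hC : GrLC.IsStarCanonical 𝒜 𝒞 𝓔 m n I) : LocCoh.IsCohenMacaulayModule (Localization.AtPrime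 m.toIdeal) (LocalizedModule m.toIdeal.primeCompl C) ∧ ∃ N : ℕ, CategoryTheory.HasInjectiveDimensionLT (ModuleCat.of R C) N := by
  haveI : IsNoetherianRing R := inferInstance
  haveI hCMA : LocCoh.IsCohenMacaulayLocalRing (Localization.AtPrime m.toIdeal) :=
    LocCoh.IsCohenMacaulayRing.isCohenMacaulayLocalRing_localization m.toIdeal
  have hdimA : ringKrullDim (Localization.AtPrime m.toIdeal) = n := by
    rw [IsLocalization.AtPrime.ringKrullDim_eq_height m.toIdeal (Localization.AtPrime m.toIdeal),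
      ← Groth.Agent.Lib.Helper20.GrHeight2.ringKrullDim_eq_height 𝒜 m hm hpos, hn]
  obtain ⟨hfin, φ, hφ⟩ := hC
  obtain ⟨f, hf, ⟨eK⟩⟩ := Groth.Agent.Lib.Helper20.GrCanonBridge.exists_local_canonical_of_graded
    𝒜 m 𝓔 e he I C n φ
  haveI : Module.Finite (Localization.AtPrime m.toIdeal)
      (LocalizedModule m.toIdeal.primeCompl C) := inferInstance
  obtain ⟨hinj, -, hcm, -⟩ := Groth.Agent.S7700.result (Localization.AtPrime m.toIdeal) n hdimA _ f hf
    (LocalizedModule m.toIdeal.primeCompl C) eK
  refine ⟨hcm, n + 1 + 1, ?_⟩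
  haveI : Module.Finite R C := hfin
  apply Groth.Agent.Lib.Helper20.BassInjDim.hasInjectiveDimensionLT_of_bassNum C (n + 1)
  have hhom : ∀ (Q : Ideal R) [Q.IsPrime], Q.IsHomogeneous 𝒜 → ∀ i : ℕ, n < i →
      GrLC.bassNum Q C i = 0 := by
    intro Q hQp hQ i hi
    have hne : (⟨Q, hQ⟩ : HomogeneousIdeal 𝒜) ≠ ⊤ := by
      intro h
      have h1 : Q = ⊤ := congrArg HomogeneousIdeal.toIdeal h
      exact hQp.ne_top h1
    have hQm : Q ≤ m.toIdeal :=
      Groth.Agent.Lib.Helper20.GrHeight2.le_of_isStarLocal 𝒜 m hm _ hne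
    exact Groth.Agent.Lib.Helper20.BassInjDim.bassNum_eq_zero_of_le Q m.toIdeal hQm C i
      (CategoryTheory.HasInjectiveDimensionLT.subsingleton _ (n + 1) i (by omega) _)
  intro P hPp i hi
  by_cases hP : P.IsHomogeneous 𝒜
  · exact hhom P hP i (by omega)
  · haveI : (Ideal.homogeneousCore 𝒜 P).toIdeal.IsPrime := Ideal.IsPrime.homogeneousCore hPp
    obtain ⟨j, rfl⟩ : ∃ j, i = j + 1 := ⟨i - 1, by omega⟩
    rw [(Groth.Agent.S18636.result R 𝒜 C 𝒞 P hP).2 j]
    exact hhom _ (Ideal.homogeneousCore 𝒜 P).isHomogeneous j (by omega)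

end Groth.Agent.S18639
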