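import Mathlib
import Groth.Agent.Lib.Helper20.GrAinv
import Groth.Agent.Lib.Helper20.GrCMDepth
import Groth.Agent.Lib.Helper20.DepthMaxLoc
import Groth.Agent.Lib.Helper20.GrArtin
import Groth.Statements.S18645
-- import your own Groth.Agent.* helpers here

set_option autoImplicit false
universe u
open GrLC

open GrLC Groth.Agent.Lib.Helper20.GrLES2 Groth.Agent.Lib.Helper20.GrArtin

namespace Groth.Agent.S18645

/-- Let R be a graded ring defined over a field which is Cohen–Macaulay, of dimension n, and let f_1, …,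
f_t be an R-regular sequence of homogeneous elements of positive degrees d_1, …, d_t, with S =
R/(f_1, …, f_t). The canonical module of S is (K_R/(f_1, …, f_t)K_R)(d_1 + ⋯ + d_t); consequently —
this is the form stated here — the a-invariants satisfy a(S) = a(R) + d_1 + ⋯ + d_t, where a(S) is
the largest nonzero degree of H^{n−t}_m(S) and a(R) that of H^n_m(R), both graded local cohomologies
over R with support in m = R_+ computed from *injective resolutions in the graded category, and S is
presented as a graded R-module N with a degree-preserving surjection π : R → N whose kernel is (f_1,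
…, f_t). Here 'graded ring defined over a field' means R = ⊕_{n ≥ 0} R_n is Noetherian with R_0 a
field, and m = R_+ is its unique graded maximal ideal. -/
theorem result (R : Type u) [CommRing R] [LocCoh.IsCohenMacaulayRing R] (𝒜 : ℤ → AddSubgroup R) [GradedRing 𝒜] (hpos : ∀ n : ℤ, n < 0 → 𝒜 n = ⊥) (h0 : IsField (GrLC.deg0 𝒜)) (m : HomogeneousIdeal 𝒜) (hm : GrLC.IsStarLocal 𝒜 m) (hmsp : m.toIdeal = Ideal.span (⋃ n ∈ Set.Ioi (0 : ℤ), (𝒜 n : Set R))) (n : ℕ) (hn : ringKrullDim R = n) (I : GrLC.StarInjRes 𝒜 𝒜) (t : ℕ) (htn : t ≤ n) (f : Fin t → R) (deg : Fin t → ℤ) (hfdeg : ∀ i, f i ∈ 𝒜 (deg i)) (hfm : ∀ i, f i ∈ m.toIdeal) (hreg : RingTheory.Sequence.IsRegular R (List.ofFn f)) (N : Type u) [AddCommGroup N] [Module R N] (𝒩 : ℤ → AddSubgroup N) [DirectSum.Decomposition 𝒩] [SetLike.GradedSMul 𝒜 𝒩] (π : R →ₗ[R] N) (hπ : GrLC.IsGrHom 𝒜 𝒩 π) (hπs : Function.Surjective π) (hπk : LinearMap.ker π = Ideal.span (Set.range f)) (F : GrLC.StarInjRes 𝒜 𝒩) : GrLC.endDeg (F.Hgr m (n - t)) = GrLC.endDeg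 (I.Hgr m n) + ((((Finset.univ : Finset (Fin t)).sum deg : ℤ) : WithTop ℤ) : WithBot (WithTop ℤ)) := by
  haveI hmax : m.toIdeal.IsMaximal := isMaximal_of_isCoatom 𝒜 hpos m hm.1
  have hht : (m.toIdeal.height : WithBot ℕ∞) = ringKrullDim R :=
    Groth.Agent.Lib.Helper20.GrCMDepth.height_irrelevant 𝒜 hpos h0 m.toIdeal hmsp
  have hhn : m.toIdeal.height = (n : ℕ∞) := by
    rw [hn] at hht
    exact_mod_cast hht
  have hvan : ∀ i < n, Subsingleton (I.H m i) := by
    intro i hi
    apply subsingleton_H_of_HH I m i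
    apply Groth.Agent.Lib.Helper20.DepthMaxLoc.HH.subsingleton_of_lt_height m.toIdeal i
    rw [hhn]
    exact_mod_cast hi
  have hk : LinearMap.ker π = Ideal.span (Set.range f) • (⊤ : Submodule R R) := by
    rw [hπk]
    simp
  exact Groth.Agent.Lib.Helper20.GrAinv.endDeg_regular_quotient m hpos t R 𝒜 I n hvan htn f deg
    hfdeg hfm hreg.toIsWeaklyRegular N 𝒩 π hπ hπs hk F

end Groth.Agent.S18645
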