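import Mathlib
import Groth.Agent.Lib.Helper20.GrHilbMono
import Groth.Agent.Lib.Helper20.GrCMDepth
import Groth.Agent.Lib.Helper20.GrHeight2
import Groth.Agent.Lib.Helper20.DepthMaxLoc
import Groth.Agent.Lib.Helper20.GrChop2
import Groth.Agent.Lib.Helper4.LC1
import Groth.Statements.S18654
-- import your own Groth.Agent.* helpers here

set_option autoImplicit false
universe u
open GrLC

namespace Groth.Agent.S18654

/-- Let R be a graded ring defined over a field k = R_0 which is Cohen–Macaulay and generated over k by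
R_1, with dim R ≥ 1, and write H(n, R) = dim_k R_n. Then H(n + 1, R) ≥ H(n, R) for every integer n.
Here 'graded ring defined over a field' means R = ⊕_{n ≥ 0} R_n is Noetherian with R_0 a field, and
m = R_+ is its unique graded maximal ideal. -/
theorem result (R : Type u) [CommRing R] [LocCoh.IsCohenMacaulayRing R] (𝒜 : ℤ → AddSubgroup R) [GradedRing 𝒜] (hpos : ∀ n : ℤ, n < 0 → 𝒜 n = ⊥) (h0 : IsField (GrLC.deg0 𝒜)) (hstd : Ideal.span (⋃ n ∈ Set.Ioi (0 : ℤ), (𝒜 n : Set R)) = Ideal.span ((𝒜 1 : AddSubgroup R) : Set R)) (h1 : 1 ≤ ringKrullDim R) (n : ℤ) : Module.finrank (GrLC.deg0 𝒜) (GrLC.comp 𝒜 𝒜 n) ≤ Module.finrank (GrLC.deg0 𝒜) (GrLC.comp 𝒜 𝒜 (n + 1)) := by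
  classical
  haveI : Nontrivial (GrLC.deg0 𝒜) := h0.nontrivial
  haveI : Nontrivial R := by
    refine ⟨⟨0, 1, fun h => ?_⟩⟩
    exact zero_ne_one (α := GrLC.deg0 𝒜) (Subtype.ext h)
  -- a `*`maximal ideal
  have hsm : StrictMono (fun J : HomogeneousIdeal 𝒜 => J.toIdeal) := fun a b h => h
  haveI : WellFoundedGT (HomogeneousIdeal 𝒜) := hsm.wellFoundedGT
  haveI : IsCoatomic (HomogeneousIdeal 𝒜) := isCoatomic_of_orderTop_gt_wellFounded wellFounded_gt
  have hbt : (⊥ : HomogeneousIdeal 𝒜) ≠ ⊤ := by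
    intro h
    have h1 : (1 : R) ∈ (⊤ : HomogeneousIdeal 𝒜).toIdeal := trivial
    rw [← h] at h1
    exact one_ne_zero ((Submodule.mem_bot R).1 h1)
  have hcoatom : ∀ m : HomogeneousIdeal 𝒜, IsCoatom m →
      m.toIdeal = Ideal.span (⋃ n ∈ Set.Ioi (0 : ℤ), (𝒜 n : Set R)) := by
    intro m hm
    apply le_antisymm
    · apply Groth.Agent.Lib.Helper20.GrCMDepth.le_irrelevant 𝒜 hpos h0 m.toIdeal m.isHomogeneous
      intro h
      exact hm.1 (HomogeneousIdeal.toIdeal_injective h)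
    · rw [Ideal.span_le]
      intro x hx
      obtain ⟨n, hn, hxn⟩ := Set.mem_iUnion₂.1 hx
      exact Groth.Agent.Lib.Helper20.GrArtin.mem_of_pos 𝒜 hpos m hm hn hxn
  rcases eq_top_or_exists_le_coatom (⊥ : HomogeneousIdeal 𝒜) with h | ⟨m, hmc, -⟩
  · exact absurd h hbt
  have hm : GrLC.IsStarLocal 𝒜 m := by
    refine ⟨hmc, fun n' hn' => ?_⟩
    apply HomogeneousIdeal.toIdeal_injective
    rw [hcoatom n' hn', hcoatom m hmc]
  have hmsp := hcoatom m hmc
  haveI hmax : m.toIdeal.IsMaximal :=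
    Groth.Agent.Lib.Helper20.GrArtin.isMaximal_of_isCoatom 𝒜 hpos m hm.1
  have hdim := Groth.Agent.Lib.Helper20.GrHeight2.ringKrullDim_eq_height 𝒜 m hm hpos
  have hht : (0 : ℕ∞) < m.toIdeal.height := by
    rw [hdim] at h1
    have h2 : ((1 : ℕ∞) : WithBot ℕ∞) ≤ (m.toIdeal.height : WithBot ℕ∞) := by exact_mod_cast h1
    have h3 : (1 : ℕ∞) ≤ m.toIdeal.height := by exact_mod_cast h2
    exact lt_of_lt_of_le (by norm_num) h3
  have hHH := Groth.Agent.Lib.Helper20.DepthMaxLoc.HH.subsingleton_of_lt_height m.toIdeal 0 (by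
    exact_mod_cast hht)
  have htors := (Groth.Agent.Lib.Helper4.LC.HH0_subsingleton_iff m.toIdeal (ModuleCat.of R R)).1 hHH
  have hhom : m.toIdeal = Ideal.span ((𝒜 1 : AddSubgroup R) : Set R) := by rw [hmsp, hstd]
  obtain ⟨l, hl⟩ := Groth.Agent.Lib.Helper20.GrChop2.exists_list m hhom
  apply Groth.Agent.Lib.Helper20.GrHilbMono.finrank_le_succ 𝒜 (l.map Subtype.val) ?_ h0 ?_ n
  · intro x hx
    obtain ⟨y, -, rfl⟩ := List.mem_map.1 hx
    exact y.2
  · intro a ha
    have hmem : a ∈ DRing.torsionSub m.toIdeal R := by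
      refine ⟨1, fun r hr => ?_⟩
      rw [pow_one, hl] at hr
      induction hr using Submodule.span_induction with
      | mem r hr =>
        obtain ⟨y, hy, rfl⟩ := hr
        rw [smul_eq_mul, mul_comm]
        exact ha _ (List.mem_map.2 ⟨y, hy, rfl⟩)
      | zero => rw [zero_smul]
      | add r r' _ _ hr hr' => rw [add_smul, hr, hr', add_zero]
      | smul c r _ hr => rw [smul_assoc, hr, smul_zero]
    have : a ∈ (⊥ : Submodule R R) := by
      rw [← htors]
      exact hmem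
    exact (Submodule.mem_bot R).1 this

end Groth.Agent.S18654
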