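-- Statement S0307.
import Groth.Statements.S0307
import Groth.Agent.Lib.Helper1.InjHullLib2
import Groth.Agent.S0300
import Mathlib.RingTheory.Ideal.AssociatedPrime.Basic
import Mathlib.LinearAlgebra.DFinsupp
import Mathlib.Algebra.DirectSum.Module

set_option autoImplicit false
universe u v
open InjHull

namespace Groth.Agent.S0307

open Classical in
/-- Over a Noetherian ring every injective module is an internal direct sum of indecomposable injective
submodules. -/
theorem result (R : Type u) [CommRing R] [IsNoetherianRing R] (I : Type u) [AddCommGroup I] [Module R I] (hI : Module.Injective R I) : ∃ (ι : Type u) (E : ι → Submodule R I), DirectSum.IsInternal E ∧ ∀ i, InjHull.IsIndecomposable R ↥(E i) ∧ Module.Injective R ↥(E i) := by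
  classical
  -- Zorn: a maximal independent set of indecomposable injective submodules
  have zorn := zorn_subset
    (S := {S : Set (Submodule R I) | sSupIndep S ∧
      ∀ N ∈ S, InjHull.IsIndecomposable R ↥N ∧ Module.Injective R ↥N})
    (fun c hc1 hc2 =>
      ⟨⋃₀ c,
        ⟨iSupIndep_sUnion_of_directed hc2.directedOn fun s hs => (hc1 hs).1,
          fun N ⟨s, sc, hNs⟩ => (hc1 sc).2 N hNs⟩,
        fun _ => Set.subset_sUnion_of_mem⟩)
  obtain ⟨S, ⟨hSind, hSprop⟩, hSmax⟩ := zorn
  have hiind : iSupIndep ((↑) : S → Submodule R I) := (sSupIndep_iff S).1 hSind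
  -- the sum of the members of `S` is injective
  have hinjsum : Module.Injective R ↥(⨆ i : S, (i : Submodule R I)) := by
    have h1 : Module.Injective R (DirectSum S fun i => ↥(i : Submodule R I)) :=
      Groth.Agent.S0300.result R (fun i : S => ↥(i : Submodule R I))
        (fun i => (hSprop i.1 i.2).2)
    have hΦ : Function.Injective (DirectSum.coeLinearMap ((↑) : S → Submodule R I)) :=
      hiind.dfinsupp_lsum_injective
    let e1 := LinearEquiv.ofInjective (DirectSum.coeLinearMap ((↑) : S → Submodule R I)) hΦ
    let e2 := LinearEquiv.ofEq _ _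
      (DirectSum.range_coeLinearMap (A := ((↑) : S → Submodule R I)))
    exact Groth.Agent.Lib.Helper1.InjHullLib.injective_of_linearEquiv (e1.trans e2)
  obtain ⟨C, hC⟩ := Groth.Agent.Lib.Helper1.InjHullLib.exists_isCompl_of_injective_submodule
    (⨆ i : S, (i : Submodule R I))
  have hCbot : C = ⊥ := by
    by_contra hCne
    have hCnt : Nontrivial ↥C := Submodule.nontrivial_iff_ne_bot.2 hCne
    obtain ⟨p, hp⟩ := associatedPrimes.nonempty R ↥C
    obtain ⟨hprime, x, hpx⟩ := isAssociatedPrime_iff.1 hp
    have hmem : ∀ r : R, r ∈ p ↔ r • (x : I) = 0 := by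
      intro r
      rw [hpx, Submodule.mem_colon_singleton, Submodule.mem_bot]
      constructor
      · intro h; exact congrArg Subtype.val h
      · intro h; exact Subtype.ext h
    have hx0 : (x : I) ≠ 0 := by
      intro h0
      apply hprime.ne_top
      rw [Ideal.eq_top_iff_one, hmem, h0, smul_zero]
    obtain ⟨E', hE', hmax⟩ :=
      Groth.Agent.Lib.Helper1.InjHullLib.exists_maximal_essIn (Submodule.span R {(x : I)})
    obtain ⟨C', hC'⟩ :=
      Groth.Agent.Lib.Helper1.InjHullLib.exists_isCompl_of_maximal_essIn hE' hmax
    have hE'inj : Module.Injective R ↥E' :=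
      Groth.Agent.Lib.Helper1.InjHullLib.injective_of_isCompl hC'
    have hE'ind : InjHull.IsIndecomposable R ↥E' :=
      Groth.Agent.Lib.Helper1.InjHullLib.indecomposable_of_essIn_span (x : I) p hmem E' hE'
    have hxE' : (x : I) ∈ E' := hE'.1 (Submodule.mem_span_singleton_self _)
    -- `E'` is disjoint from the sum
    have hdisj : Disjoint (sSup S) E' := by
      rw [disjoint_iff]
      by_contra hne
      have h2 := hE'.inf_ne_bot (N := sSup S ⊓ E') inf_le_right hne
      obtain ⟨y, hy, hy0⟩ := Submodule.exists_mem_ne_zero_of_ne_bot h2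
      have hyC : y ∈ C := by
        obtain ⟨a, rfl⟩ := Submodule.mem_span_singleton.1 hy.2
        exact C.smul_mem a x.2
      have hyS : y ∈ ⨆ i : S, (i : Submodule R I) := by
        rw [← sSup_eq_iSup']; exact hy.1.1
      have : y ∈ (⨆ i : S, (i : Submodule R I)) ⊓ C := ⟨hyS, hyC⟩
      rw [hC.inf_eq_bot, Submodule.mem_bot] at this
      exact hy0 this
    have hE'S : E' ∉ S := by
      intro hmemS
      have hle : E' ≤ sSup S := le_sSup hmemS
      have : E' ≤ ⊥ := by
        have := hdisj.le_bot
        exact le_trans (le_inf hle le_rfl) this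
      exact hx0 ((Submodule.mem_bot R).1 (this hxE'))
    -- the enlarged set is still independent
    have hins : sSupIndep (insert E' S) := by
      intro a ha
      rcases ha with rfl | haS
      · have : insert a S \ {a} = S := by
          rw [Set.insert_diff_of_mem _ (Set.mem_singleton a)]
          exact Set.diff_singleton_eq_self hE'S
        rw [this]
        exact hdisj.symm
      · have hne : a ≠ E' := fun h => hE'S (h ▸ haS)
        have h1 : insert E' S \ {a} = insert E' (S \ {a}) := by
          rw [Set.insert_diff_of_notMem _ (by simpa using hne.symm)]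
        rw [h1, sSup_insert, sup_comm]
        apply Disjoint.disjoint_sup_right_of_disjoint_sup_left (hSind haS)
        have h2 : a ⊔ sSup (S \ {a}) = sSup S := by
          rw [← sSup_insert, Set.insert_diff_singleton, Set.insert_eq_of_mem haS]
        rw [h2]
        exact hdisj
    have hmem' : insert E' S ∈ {S : Set (Submodule R I) | sSupIndep S ∧
        ∀ N ∈ S, InjHull.IsIndecomposable R ↥N ∧ Module.Injective R ↥N} := by
      refine ⟨hins, ?_⟩
      rintro N (rfl | hN)
      · exact ⟨hE'ind, hE'inj⟩
      · exact hSprop N hN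
    have := hSmax hmem' (Set.subset_insert E' S)
    exact hE'S (this (Set.mem_insert E' S))
  have htop : (⨆ i : S, (i : Submodule R I)) = ⊤ := by
    have := hC.sup_eq_top
    rwa [hCbot, sup_bot_eq] at this
  refine ⟨S, fun i => (i : Submodule R I), ?_, fun i => hSprop i.1 i.2⟩
  convert DirectSum.isInternal_submodule_of_iSupIndep_of_iSup_eq_top hiind htop

end Groth.Agent.S0307
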