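import Groth.Statements.S5168
import Mathlib

set_option autoImplicit false
universe u
open InjHull

namespace Groth.Agent.S5168

/-- Let A be a Noetherian ring, J an ideal and H a J-power torsion A-module. Then H is injective if and
only if Hom_A(−, H) is exact on finite A-modules killed by a power of J, i.e. every linear map to H
from a submodule of such a module M extends to M. -/
theorem result (A : Type u) [CommRing A] [IsNoetherianRing A] (J : Ideal A) (H : Type u) [AddCommGroup H] [Module A H] (hH : LocCoh.IsPowerTorsion J H) : Module.Injective A H ↔ ∀ (M : Type u) [AddCommGroup M] [Module A M], Module.Finite A M → (∃ k : ℕ, (J ^ k) • (⊤ : Submodule A M) = ⊥) → ∀ (N : Submodule A M) (g : N →ₗ[A] H), ∃ g' : M →ₗ[A] H, g'.comp N.subtype = g := by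
  classical
  constructor
  · intro hinj M _ _ _ _ N g
    exact Module.Injective.extension_property A H N M N.subtype N.injective_subtype g
  · intro hext
    apply Module.Baer.injective
    intro 𝔞 g
    have hk : ∃ k : ℕ, ∀ x : 𝔞, ∀ b ∈ J ^ k, b • g x = 0 := by
      let T : ℕ →o Submodule A 𝔞 :=
        { toFun := fun n =>
            { carrier := {x | ∀ b ∈ J ^ n, b • g x = 0}
              add_mem' := fun {x y} hx hy b hb => by
                rw [map_add, smul_add, hx b hb, hy b hb, add_zero]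
              zero_mem' := fun b _ => by rw [map_zero, smul_zero]
              smul_mem' := fun c x hx b hb => by rw [map_smul, smul_comm, hx b hb, smul_zero] }
          monotone' := fun n m hnm x hx b hb => hx b (Ideal.pow_le_pow_right hnm hb) }
      have hTmem : ∀ (n : ℕ) (x : 𝔞), x ∈ T n ↔ ∀ b ∈ J ^ n, b • g x = 0 := fun n x => Iff.rfl
      obtain ⟨n, hn⟩ :=
        monotone_stabilizes_iff_noetherian.mpr (inferInstance : IsNoetherian A 𝔞) T
      refine ⟨n, fun x => ?_⟩
      obtain ⟨m, hm⟩ := hH (g x)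
      have hxm : x ∈ T (max n m) :=
        (hTmem _ x).mpr fun b hb => hm b (Ideal.pow_le_pow_right (le_max_right n m) hb)
      rw [← hn (max n m) (le_max_left n m)] at hxm
      exact (hTmem n x).mp hxm
    obtain ⟨k, hk⟩ := hk
    obtain ⟨c, hc⟩ := Ideal.exists_pow_inf_eq_pow_smul J (𝔞 : Submodule A A)
    obtain ⟨n, hn⟩ : ∃ n : ℕ, n = c + k := ⟨_, rfl⟩
    have hAR : J ^ n • (⊤ : Submodule A A) ⊓ 𝔞 ≤ J ^ k • (𝔞 : Submodule A A) := by
      rw [hc n (by omega)]
      have hnk : n - c = k := by omega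
      rw [hnk]
      exact Submodule.smul_mono le_rfl inf_le_right
    have hker : ∀ z : 𝔞, (z : A) ∈ J ^ n → g z = 0 := by
      intro z hz
      have h1 : (z : A) ∈ J ^ n • (⊤ : Submodule A A) ⊓ 𝔞 := by
        refine Submodule.mem_inf.mpr ⟨?_, z.2⟩
        have h0 : (z : A) • (1 : A) ∈ J ^ n • (⊤ : Submodule A A) :=
          Submodule.smul_mem_smul hz Submodule.mem_top
        have h00 : (z : A) • (1 : A) = z := by rw [smul_eq_mul, mul_one]
        rwa [h00] at h0
      have h2 := hAR h1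
      have h3 : J ^ k • (𝔞 : Submodule A A) =
          Submodule.map (Submodule.subtype 𝔞) (J ^ k • (⊤ : Submodule A 𝔞)) := by
        rw [Submodule.map_smul'', Submodule.map_top, Submodule.range_subtype]
      rw [h3] at h2
      obtain ⟨w, hw, hwz⟩ := h2
      have hwz' : w = z := Subtype.ext hwz
      rw [← hwz']
      have h4 : J ^ k • (⊤ : Submodule A 𝔞) ≤ LinearMap.ker g := by
        rw [Submodule.smul_le]
        intro b hb y _
        rw [LinearMap.mem_ker, map_smul]
        exact hk y b hb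
      exact h4 hw
    obtain ⟨π, hπ⟩ : ∃ π : A →ₗ[A] (A ⧸ (J ^ n)), π = Submodule.mkQ (J ^ n) := ⟨_, rfl⟩
    obtain ⟨φ, hφ⟩ : ∃ φ : 𝔞 →ₗ[A] (A ⧸ (J ^ n)), φ = π ∘ₗ Submodule.subtype 𝔞 := ⟨_, rfl⟩
    obtain ⟨ψ, hψ⟩ : ∃ ψ : 𝔞 →ₗ[A] LinearMap.range φ, ψ = φ.rangeRestrict := ⟨_, rfl⟩
    have hψs : Function.Surjective ψ := by rw [hψ]; exact LinearMap.surjective_rangeRestrict φ
    have hle : LinearMap.ker ψ ≤ LinearMap.ker g := by
      intro z hz
      rw [hψ, LinearMap.ker_rangeRestrict, LinearMap.mem_ker, hφ, LinearMap.comp_apply, hπ,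
        Submodule.mkQ_apply, Submodule.subtype_apply, Submodule.Quotient.mk_eq_zero] at hz
      rw [LinearMap.mem_ker]; exact hker z hz
    obtain ⟨gbar, hgbar'⟩ : ∃ gbar : LinearMap.range φ →ₗ[A] H, gbar =
        ((LinearMap.ker ψ).liftQ g hle) ∘ₗ (ψ.quotKerEquivOfSurjective hψs).symm.toLinearMap :=
      ⟨_, rfl⟩
    have hgbar : ∀ z : 𝔞, gbar (ψ z) = g z := by
      intro z
      have h1 : (ψ.quotKerEquivOfSurjective hψs).symm (ψ z) = Submodule.Quotient.mk z := by
        rw [LinearEquiv.symm_apply_eq, LinearMap.quotKerEquivOfSurjective_apply_mk]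
      rw [hgbar', LinearMap.comp_apply, LinearEquiv.coe_coe, h1, Submodule.liftQ_apply]
    have hfin : Module.Finite A (A ⧸ (J ^ n)) := inferInstance
    have hkill : ∃ k' : ℕ, (J ^ k') • (⊤ : Submodule A (A ⧸ (J ^ n))) = ⊥ := by
      refine ⟨n, ?_⟩
      rw [eq_bot_iff, Submodule.smul_le]
      intro b hb y _
      obtain ⟨y', rfl⟩ := Submodule.mkQ_surjective (J ^ n) y
      rw [Submodule.mem_bot, ← map_smul, Submodule.mkQ_apply, Submodule.Quotient.mk_eq_zero,
        smul_eq_mul]
      exact Ideal.mul_mem_right _ _ hb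
    obtain ⟨G', hG'⟩ := hext (A ⧸ (J ^ n)) hfin hkill (LinearMap.range φ) gbar
    refine ⟨G' ∘ₗ π, fun x hx => ?_⟩
    have h1 : π x = (LinearMap.range φ).subtype (ψ ⟨x, hx⟩) := by
      rw [hψ, hφ]; rfl
    rw [LinearMap.comp_apply, h1, ← LinearMap.comp_apply, hG', hgbar]

end Groth.Agent.S5168
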