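import Groth.Statements.S18646
import Mathlib.RingTheory.FiniteStability
import Mathlib.RingTheory.Polynomial.Basic
-- import your own Groth.Agent.* helpers here

set_option autoImplicit false
universe u
open scoped TensorProduct
open GrSegre

namespace Groth.Agent.S18646

section proj

variable {k : Type u} [Field k] {R : Type u} [CommRing R] [Algebra k R] (𝒜 : ℤ → Submodule k R)
  [GradedAlgebra 𝒜] {S : Type u} [CommRing S] [Algebra k S] (ℬ : ℤ → Submodule k S) [GradedAlgebra ℬ]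

/-- the bilinear map `(a, b) ↦ ∑ₙ aₙ ⊗ bₙ` -/
noncomputable def diagBil : R →ₗ[k] S →ₗ[k] R ⊗[k] S :=
  (DirectSum.toModule k ℤ (S →ₗ[k] R ⊗[k] S)
    (fun n => ((LinearMap.lcomp k (R ⊗[k] S) (GradedAlgebra.proj ℬ n)).comp
      (TensorProduct.mk k R S)).comp (𝒜 n).subtype)).comp
    (DirectSum.decomposeLinearEquiv 𝒜).toLinearMap

/-- the projection of `R ⊗ S` onto its diagonal part `⨁ₙ Rₙ ⊗ Sₙ` -/
noncomputable def diagProj : R ⊗[k] S →ₗ[k] R ⊗[k] S :=
  TensorProduct.lift (diagBil 𝒜 ℬ)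

theorem diagProj_tmul_of_mem {i j : ℤ} {c : R} {d : S} (hc : c ∈ 𝒜 i) (hd : d ∈ ℬ j) :
    diagProj 𝒜 ℬ (c ⊗ₜ[k] d) = if i = j then c ⊗ₜ[k] d else 0 := by
  classical
  simp only [diagProj, diagBil, TensorProduct.lift.tmul, LinearMap.comp_apply,
    LinearEquiv.coe_coe, DirectSum.decomposeLinearEquiv_apply]
  rw [DirectSum.decompose_of_mem 𝒜 hc]
  erw [DirectSum.toModule_lof]
  simp only [LinearMap.comp_apply, Submodule.subtype_apply, LinearMap.lcomp_apply,
    TensorProduct.mk_apply, GradedAlgebra.proj_apply]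
  split_ifs with h
  · subst h
    rw [DirectSum.decompose_of_mem_same ℬ hd]
  · rw [DirectSum.decompose_of_mem_ne ℬ hd (Ne.symm h), TensorProduct.tmul_zero]


/-- induction principle: every tensor is a sum of tensors of homogeneous elements -/
theorem bihom_induction {P : R ⊗[k] S → Prop} (h0 : P 0) (hadd : ∀ x y, P x → P y → P (x + y))
    (hmem : ∀ (i j : ℤ) (c : R) (d : S), c ∈ 𝒜 i → d ∈ ℬ j → P (c ⊗ₜ[k] d)) (y : R ⊗[k] S) : P y := by
  classical
  induction y using TensorProduct.induction_on with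
  | zero => exact h0
  | add x y hx hy => exact hadd x y hx hy
  | tmul a b =>
    rw [← DirectSum.sum_support_decompose 𝒜 a, TensorProduct.sum_tmul]
    refine Finset.sum_induction _ P hadd h0 fun i _ => ?_
    rw [← DirectSum.sum_support_decompose ℬ b, TensorProduct.tmul_sum]
    refine Finset.sum_induction _ P hadd h0 fun j _ => ?_
    exact hmem i j _ _ (SetLike.coe_mem _) (SetLike.coe_mem _)

end proj

section main

variable {k : Type u} [Field k] {R : Type u} [CommRing R] [Algebra k R] (𝒜 : ℤ → Submodule k R)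
  [GradedAlgebra 𝒜] {S : Type u} [CommRing S] [Algebra k S] (ℬ : ℤ → Submodule k S) [GradedAlgebra ℬ]
  {T : Type u} [CommRing T] [Algebra k T] (𝒯 : ℤ → Submodule k T) [GradedAlgebra 𝒯]
  (ψ : T →ₐ[k] TensorProduct k R S)
  (hdegT : ∀ n : ℤ, (𝒯 n).map ψ.toLinearMap =
    Submodule.span k {x : TensorProduct k R S | ∃ a ∈ 𝒜 n, ∃ b ∈ ℬ n, x = a ⊗ₜ[k] b})

include hdegT

/-- induction principle for elements in the image of `ψ` -/
theorem psi_induction {P : R ⊗[k] S → Prop} (h0 : P 0) (hadd : ∀ x y, P x → P y → P (x + y))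
    (hmem : ∀ (n : ℤ) (a : R) (b : S), a ∈ 𝒜 n → b ∈ ℬ n → P (a ⊗ₜ[k] b)) (t : T) : P (ψ t) := by
  classical
  rw [← DirectSum.sum_support_decompose 𝒯 t, map_sum]
  refine Finset.sum_induction _ P hadd h0 fun n _ => ?_
  have hmemn : ψ (DirectSum.decompose 𝒯 t n : T) ∈ (𝒯 n).map ψ.toLinearMap :=
    ⟨_, SetLike.coe_mem _, rfl⟩
  rw [hdegT n] at hmemn
  generalize ψ (DirectSum.decompose 𝒯 t n : T) = z at hmemn ⊢
  suffices h : ∀ l : k, P (l • z) by simpa using h 1
  induction hmemn using Submodule.span_induction with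
  | mem x hx =>
    obtain ⟨a, ha, b, hb, rfl⟩ := hx
    intro l
    rw [TensorProduct.smul_tmul']
    exact hmem n _ _ (Submodule.smul_mem _ _ ha) hb
  | zero => intro l; simpa using h0
  | add x y _ _ hx hy => intro l; rw [smul_add]; exact hadd _ _ (hx l) (hy l)
  | smul r x _ hx => intro l; rw [smul_smul]; exact hx _

omit [GradedAlgebra 𝒜] [GradedAlgebra ℬ] [GradedAlgebra 𝒯] in
theorem tmul_mem_range {n : ℤ} {a : R} {b : S} (ha : a ∈ 𝒜 n) (hb : b ∈ ℬ n) :
    a ⊗ₜ[k] b ∈ ψ.range := by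
  have : a ⊗ₜ[k] b ∈ (𝒯 n).map ψ.toLinearMap := by
    rw [hdegT n]
    exact Submodule.subset_span ⟨a, ha, b, hb, rfl⟩
  obtain ⟨t, _, ht⟩ := this
  exact ⟨t, ht⟩

theorem diagProj_mem_range (y : R ⊗[k] S) : diagProj 𝒜 ℬ y ∈ ψ.range := by
  induction y using bihom_induction 𝒜 ℬ with
  | h0 => rw [map_zero]; exact zero_mem _
  | hadd x y hx hy => rw [map_add]; exact add_mem hx hy
  | hmem i j c d hc hd =>
    rw [diagProj_tmul_of_mem 𝒜 ℬ hc hd]
    split_ifs with h
    · subst h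
      exact tmul_mem_range 𝒜 ℬ 𝒯 ψ hdegT hc hd
    · exact zero_mem _

theorem diagProj_psi_mul (t : T) (y : R ⊗[k] S) :
    diagProj 𝒜 ℬ (ψ t * y) = ψ t * diagProj 𝒜 ℬ y := by
  revert y
  refine psi_induction 𝒜 ℬ 𝒯 ψ hdegT
    (P := fun z => ∀ y, diagProj 𝒜 ℬ (z * y) = z * diagProj 𝒜 ℬ y) ?_ ?_ ?_ t
  · intro y; simp
  · intro x y hx hy z; rw [add_mul, map_add, hx, hy, add_mul]
  · intro n a b ha hb y
    induction y using bihom_induction 𝒜 ℬ with
    | h0 => simp
    | hadd x y hx hy => rw [mul_add, map_add, hx, hy, map_add, mul_add]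
    | hmem i j c d hc hd =>
      rw [Algebra.TensorProduct.tmul_mul_tmul,
        diagProj_tmul_of_mem 𝒜 ℬ (SetLike.GradedMul.mul_mem ha hc) (SetLike.GradedMul.mul_mem hb hd),
        diagProj_tmul_of_mem 𝒜 ℬ hc hd]
      by_cases h : i = j
      · subst h
        simp [Algebra.TensorProduct.tmul_mul_tmul]
      · have : ¬ (n + i = n + j) := by simpa using h
        simp [h]

theorem diagProj_psi (t : T) : diagProj 𝒜 ℬ (ψ t) = ψ t := by
  refine psi_induction 𝒜 ℬ 𝒯 ψ hdegT (P := fun z => diagProj 𝒜 ℬ z = z) ?_ ?_ ?_ t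
  · simp
  · intro x y hx hy; rw [map_add, hx, hy]
  · intro n a b ha hb; rw [diagProj_tmul_of_mem 𝒜 ℬ ha hb]; simp

theorem comap_map_eq (hψ : Function.Injective ψ) (I : Ideal T) :
    (I.map ψ).comap ψ = I := by
  refine le_antisymm ?_ Ideal.le_comap_map
  intro x hx
  rw [Ideal.mem_comap] at hx
  have key : ∀ z ∈ I.map ψ, ∀ r : R ⊗[k] S, ∃ w ∈ I, ψ w = diagProj 𝒜 ℬ (r * z) := by
    intro z hz
    induction hz using Submodule.span_induction with
    | mem z hz =>
      obtain ⟨a, ha, rfl⟩ := hz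
      intro r
      obtain ⟨t, ht⟩ := diagProj_mem_range 𝒜 ℬ 𝒯 ψ hdegT r
      refine ⟨a * t, I.mul_mem_right _ ha, ?_⟩
      rw [mul_comm r, diagProj_psi_mul 𝒜 ℬ 𝒯 ψ hdegT, map_mul]
      congr 1
    | zero => intro r; exact ⟨0, zero_mem _, by simp⟩
    | add x y _ _ hx hy =>
      intro r
      obtain ⟨w1, hw1, h1⟩ := hx r
      obtain ⟨w2, hw2, h2⟩ := hy r
      exact ⟨w1 + w2, add_mem hw1 hw2, by rw [map_add, h1, h2, mul_add, map_add]⟩
    | smul r' x _ hx =>
      intro r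
      obtain ⟨w, hw, h⟩ := hx (r * r')
      exact ⟨w, hw, by rw [h, smul_eq_mul, mul_assoc]⟩
  obtain ⟨w, hw, h⟩ := key _ hx 1
  rw [one_mul, diagProj_psi 𝒜 ℬ 𝒯 ψ hdegT] at h
  rwa [← hψ h]

end main

/-- Let R and S be graded rings defined over a field k. Then their Segre product T = R # S is a
Noetherian ring (hence again a graded ring defined over k). Here a graded ring defined over k is a
commutative k-algebra of finite type, graded in nonnegative degrees by k-subspaces with degree-zero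
part k·1; the Segre product T = R # S = ⊕_n R_n ⊗_k S_n (graded by T_n = R_n ⊗_k S_n) is presented
abstractly as a graded k-algebra T with an injective k-algebra homomorphism ψ : T → R ⊗_k S carrying
T_n onto the k-span of the elementary tensors a ⊗ b with a ∈ R_n, b ∈ S_n, for every n. -/
theorem result (k : Type u) [Field k] (R : Type u) [CommRing R] [Algebra k R] (𝒜 : ℤ → Submodule k R) [GradedAlgebra 𝒜] (hposR : ∀ n : ℤ, n < 0 → 𝒜 n = ⊥) (h0R : 𝒜 0 = Submodule.span k {(1 : R)}) [Algebra.FiniteType k R] (S : Type u) [CommRing S] [Algebra k S] (ℬ : ℤ → Submodule k S) [GradedAlgebra ℬ] (hposS : ∀ n : ℤ, n < 0 → ℬ n = ⊥) (h0S : ℬ 0 = Submodule.span k {(1 : S)}) [Algebra.FiniteType k S] (T : Type u) [CommRing T] [Algebra k T] (𝒯 : ℤ → Submodule k T) [GradedAlgebra 𝒯] (ψ : T →ₐ[k] TensorProduct k R S) (hψ : Function.Injective ψ) (hdegT : ∀ n : ℤ, (𝒯 n).map ψ.toLinearMap = Submodule.span k {x : TensorProduct k R S | ∃ a ∈ 𝒜 n, ∃ b ∈ ℬ n, x = a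 ⊗ₜ[k] b}) : IsNoetherianRing T := by
  have hft : Algebra.FiniteType k (TensorProduct k R S) :=
    Algebra.FiniteType.trans (S := R) inferInstance inferInstance
  have hN : IsNoetherianRing (TensorProduct k R S) := Algebra.FiniteType.isNoetherianRing k _
  rw [isNoetherianRing_iff, isNoetherian_iff']
  rw [isNoetherianRing_iff, isNoetherian_iff'] at hN
  have hsm : StrictMono (fun I : Ideal T => I.map ψ) := by
    intro I J hIJ
    refine lt_of_le_of_ne (Ideal.map_mono hIJ.le) fun h => hIJ.ne ?_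
    rw [← comap_map_eq 𝒜 ℬ 𝒯 ψ hdegT hψ I, ← comap_map_eq 𝒜 ℬ 𝒯 ψ hdegT hψ J]
    exact congrArg (Ideal.comap ψ) h
  exact hsm.wellFoundedGT

end Groth.Agent.S18646
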