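import Groth.Statements.S18647
-- import your own Groth.Agent.* helpers here
import Mathlib
import Groth.Agent.Lib.Helper22.SegreDim3

set_option autoImplicit false
universe u
open scoped TensorProduct
open GrSegre

namespace Groth.Agent.S18647

/-- Let R and S be graded rings defined over a field k with dim R = r ≥ 1 and dim S = s ≥ 1. Then the
Segre product T = R # S has Krull dimension r + s − 1. Here a graded ring defined over k is a
commutative k-algebra of finite type, graded in nonnegative degrees by k-subspaces with degree-zero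
part k·1; the Segre product T = R # S = ⊕_n R_n ⊗_k S_n (graded by T_n = R_n ⊗_k S_n) is presented
abstractly as a graded k-algebra T with an injective k-algebra homomorphism ψ : T → R ⊗_k S carrying
T_n onto the k-span of the elementary tensors a ⊗ b with a ∈ R_n, b ∈ S_n, for every n. -/
theorem result (k : Type u) [Field k] (R : Type u) [CommRing R] [Algebra k R] (𝒜 : ℤ → Submodule k R) [GradedAlgebra 𝒜] (hposR : ∀ n : ℤ, n < 0 → 𝒜 n = ⊥) (h0R : 𝒜 0 = Submodule.span k {(1 : R)}) [Algebra.FiniteType k R] (S : Type u) [CommRing S] [Algebra k S] (ℬ : ℤ → Submodule k S) [GradedAlgebra ℬ] (hposS : ∀ n : ℤ, n < 0 → ℬ n = ⊥) (h0S : ℬ 0 = Submodule.span k {(1 : S)}) [Algebra.FiniteType k S] (T : Type u) [CommRing T] [Algebra k T] (𝒯 : ℤ → Submodule k T) [GradedAlgebra 𝒯] (ψ : T →ₐ[k] TensorProduct k R S) (hψ : Function.Injective ψ) (hdegT : ∀ n : ℤ, (𝒯 n).map ψ.toLinearMap = Submodule.span k {x : TensorProduct k R S | ∃ a ∈ 𝒜 n, ∃ b ∈ ℬ n, x = a ⊗ₜ[k] b}) (r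 s : ℕ) (hr : ringKrullDim R = r) (hs : ringKrullDim S = s) (h1r : 1 ≤ r) (h1s : 1 ≤ s) : ringKrullDim T = ((r + s - 1 : ℕ) : WithBot ℕ∞) := by
  obtain ⟨DR, hDR, hR⟩ := Groth.Agent.Lib.Helper22.SegreDim.exists_parameters_int 𝒜 hposR h0R r hr
  obtain ⟨DS, hDS, hS⟩ := Groth.Agent.Lib.Helper22.SegreDim.exists_parameters_int ℬ hposS h0S s hs
  obtain ⟨x, hx, hxalg, hxint⟩ := hR DS hDS
  obtain ⟨y, hy, hyalg, hyint⟩ := hS DR hDR
  have hy' : ∀ j, y j ∈ ℬ ((DS * DR : ℕ) : ℤ) := by
    intro j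
    have := hy j
    rwa [mul_comm] at this
  refine Groth.Agent.Lib.Helper22.SegreDim.ringKrullDim_eq_of_parameters 𝒜 ℬ x y 𝒯 ψ hψ hdegT
    ((DS * DR : ℕ) : ℤ) ?_ hx hy' (by omega) (by omega) hxalg hyalg hxint hyint
  have : 0 < DS * DR := Nat.mul_pos hDS hDR
  exact_mod_cast this.ne'

end Groth.Agent.S18647
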