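import Mathlib
import Groth.Agent.Lib.Helper20.SegConv
import Groth.Statements.S18673
-- import your own Groth.Agent.* helpers here

set_option autoImplicit false
universe u
open scoped TensorProduct
open GrSegre

namespace Groth.Agent.S18673

/-- The case M = R, N = S of the published statement, degree by degree. Let R and S be graded rings
defined over a field k with Segre product T = R # S, write m = R_+, n = S_+, P = T_+, and assume
that H^q_m(R) and H^q_n(S) vanish for q = 0, 1. Then for every q ≥ 0, H^q_P(T) ≅ (R # H^q_n(S)) ⊕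
(H^q_m(R) # S) ⊕ ⊕_{i+j=q+1} (H^i_m(R) # H^j_n(S)). Stated here degree by degree as the equality of
(finite) dimensions dim H^q_P(T)_d = dim R_d · dim H^q_n(S)_d + dim H^q_m(R)_d · dim S_d +
Σ_{i+j=q+1} dim H^i_m(R)_d · dim H^j_n(S)_d (the published statement is for graded modules M, N in
place of R, S and gives the isomorphism itself). Here a graded ring defined over k is a non-zero
commutative k-algebra of finite type, graded in nonnegative degrees by k-subspaces with degree-zero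
part k·1 (a copy of the field k); the graded local cohomology pieces are computed from *injective
resolutions in the graded categories of R, S and T and their dimensions are taken over the
respective degree-zero fields (all equal to k); the Segre product T = ⊕_d R_d ⊗_k S_d is presented
abstractly as a graded k-algebra T with an injective k-algebra homomorphism ψ : T → R ⊗_k S carrying
T_d onto the k-span of the elementary tensors a ⊗ b with a ∈ R_d, b ∈ S_d. -/
theorem result (k : Type u) [Field k] (R : Type u) [CommRing R] [Nontrivial R] [Algebra k R] (𝒜 : ℤ → Submodule k R) [GradedAlgebra 𝒜] (hposR : ∀ n : ℤ, n < 0 → 𝒜 n = ⊥) (h0R : 𝒜 0 = Submodule.span k {(1 : R)}) [Algebra.FiniteType k R] (S : Type u) [CommRing S] [Nontrivial S] [Algebra k S] (ℬ : ℤ → Submodule k S) [GradedAlgebra ℬ] (hposS : ∀ n : ℤ, n < 0 → ℬ n = ⊥) (h0S : ℬ 0 = Submodule.span k {(1 : S)}) [Algebra.FiniteType k S] (T : Type u) [CommRing T] [Algebra k T] (𝒯 : ℤ → Submodule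 k T) [GradedAlgebra 𝒯] (ψ : T →ₐ[k] TensorProduct k R S) (hψ : Function.Injective ψ) (hdegT : ∀ n : ℤ, (𝒯 n).map ψ.toLinearMap = Submodule.span k {x : TensorProduct k R S | ∃ a ∈ 𝒜 n, ∃ b ∈ ℬ n, x = a ⊗ₜ[k] b}) (mR : HomogeneousIdeal 𝒜) (hmR : mR.toIdeal = Ideal.span (⋃ n ∈ Set.Ioi (0 : ℤ), (𝒜 n : Set R))) (I : GrLC.StarInjRes 𝒜 𝒜) (mS : HomogeneousIdeal ℬ) (hmS : mS.toIdeal = Ideal.span (⋃ n ∈ Set.Ioi (0 : ℤ), (ℬ n : Set S))) (J : GrLC.StarInjRes ℬ ℬ) (mT : HomogeneousIdeal 𝒯) (hmT : mT.toIdeal = Ideal.span (⋃ n ∈ Set.Ioi (0 : ℤ), (𝒯 n : Set T))) (IT : GrLC.StarInjRes 𝒯 𝒯) (hR : ∀ (q : ℕ) (d : ℤ), q ≤ 1 → I.Hcomp mR q d = ⊥) (hS : ∀ (q : ℕ) (d : ℤ), q ≤ 1 → J.Hcomp mS q d = ⊥) (q : ℕ) (d : ℤ) : Module.finrank (GrLC.deg0 𝒯) (IT.Hcomp mT q d) = Module.finrank k (𝒜 d) * Module.finrank (GrLC.deg0 ℬ) (J.Hcomp mS q d) + Module.finrank (GrLC.deg0 𝒜) (I.Hcomp mR q d) * Module.finrank k (ℬ d) + (Finset.range (q + 2)).sum (fun i => Module.finrank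 (GrLC.deg0 𝒜) (I.Hcomp mR i d) * Module.finrank (GrLC.deg0 ℬ) (J.Hcomp mS (q + 1 - i) d)) := by
  classical
  have := Groth.Agent.Lib.Helper20.SegGr.gradedSMul_modToAS 𝒜 𝒜
  have := Groth.Agent.Lib.Helper20.SegGr.gradedSMul_modToAS ℬ ℬ
  have := Groth.Agent.Lib.Helper20.SegGr.gradedSMul_modToAS 𝒯 𝒯
  have hT : GrSeg.IsSegreRing 𝒜 ℬ 𝒯 ψ := ⟨hψ, hdegT⟩
  have hP : GrSeg.IsSegreMod ψ (Groth.Agent.Lib.Helper20.GrConv.toAS 𝒜)
      (Groth.Agent.Lib.Helper20.GrConv.toAS ℬ) (Groth.Agent.Lib.Helper20.GrConv.toAS 𝒯)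
      ψ.toLinearMap :=
    { injective := hψ
      image_piece := fun n => by
        have h := hdegT n
        have h2 := congrArg (fun X : Submodule k (TensorProduct k R S) =>
          (X : Set (TensorProduct k R S))) h
        exact h2
      map_smul := fun t p => by
        rw [Groth.Agent.Lib.Helper20.SegGr.act_self]
        exact map_mul ψ t p }
  have key := Groth.Agent.Lib.Helper20.SegGr.kunneth k R 𝒜 hposR h0R S ℬ hposS h0S T 𝒯 ψ hT mR hmR
    mS hmS mT hmT R (Groth.Agent.Lib.Helper20.GrConv.toAS 𝒜)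
    (Groth.Agent.Lib.Helper20.SegGr.resModTo 𝒜 𝒜 I) S (Groth.Agent.Lib.Helper20.GrConv.toAS ℬ)
    (Groth.Agent.Lib.Helper20.SegGr.resModTo ℬ ℬ J) T (Groth.Agent.Lib.Helper20.GrConv.toAS 𝒯)
    ψ.toLinearMap hP (Groth.Agent.Lib.Helper20.SegGr.resModTo 𝒯 𝒯 IT) hR hS q d
  rw [Groth.Agent.Lib.Helper20.SegGr.finrank_comp_self 𝒜 h0R d,
    Groth.Agent.Lib.Helper20.SegGr.finrank_comp_self ℬ h0S d] at key
  exact key

end Groth.Agent.S18673
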