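import Mathlib
import Groth.Statements.S19750
import Groth.Agent.Lib.Helper29.GrDual

set_option autoImplicit false
universe u
open scoped TensorProduct
open GrSegre

namespace Aux19750

open TensorProduct Groth.Agent.Lib.Helper29.GrDual

section Std

variable {k : Type u} [Field k] {R : Type u} [CommRing R] [Algebra k R] (𝒜 : ℤ → Submodule k R)
  [GradedAlgebra 𝒜]

/-- standard graded: pieces of positive degree are products with degree one -/
theorem mem_span_mul_of_std
    (hstd : Ideal.span (⋃ n ∈ Set.Ioi (0 : ℤ), (𝒜 n : Set R)) = Ideal.span ((𝒜 1 : Submodule k R) : Set R))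
    {m : ℤ} (hm : 0 < m) {x : R} (hx : x ∈ 𝒜 m) :
    x ∈ Submodule.span k {z : R | ∃ u ∈ 𝒜 1, ∃ x' ∈ 𝒜 (m - 1), z = u * x'} := by
  have hx' : x ∈ Ideal.span ((𝒜 1 : Submodule k R) : Set R) := by
    rw [← hstd]
    exact Ideal.subset_span (Set.mem_biUnion (Set.mem_Ioi.mpr hm) hx)
  have key : ∀ z ∈ Ideal.span ((𝒜 1 : Submodule k R) : Set R),
      pr 𝒜 m z ∈ Submodule.span k {z : R | ∃ u ∈ 𝒜 1, ∃ x' ∈ 𝒜 (m - 1), z = u * x'} := by
    intro z hz
    induction hz using Submodule.closure_induction with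
    | zero => rw [pr_zero]; exact zero_mem _
    | add y z _ _ hy hz => rw [pr_add]; exact add_mem hy hz
    | smul_mem c u hu =>
      rw [pr_smul_of_mem 𝒜 𝒜 hu c m, smul_eq_mul, mul_comm]
      exact Submodule.subset_span ⟨u, hu, _, pr_mem 𝒜 (m - 1) c, rfl⟩
  have := key x hx'
  rwa [pr_of_mem_same 𝒜 hx] at this

end Std

theorem main (k : Type u) [Field k] (R : Type u) [CommRing R] [Algebra k R] (𝒜 : ℤ → Submodule k R) [GradedAlgebra 𝒜] (hposR : ∀ n : ℤ, n < 0 → 𝒜 n = ⊥) (h0R : 𝒜 0 = Submodule.span k {(1 : R)}) [Algebra.FiniteType k R] (S : Type u) [CommRing S] [Algebra k S] (ℬ : ℤ → Submodule k S) [GradedAlgebra ℬ] (hposS : ∀ n : ℤ, n < 0 → ℬ n = ⊥) (h0S : ℬ 0 = Submodule.span k {(1 : S)}) [Algebra.FiniteType k S] (T : Type u) [CommRing T] [Algebra k T] (𝒯 : ℤ → Submodule k T) [GradedAlgebra 𝒯] (ψ : T →ₐ[k] TensorProduct k R S) (hT : GrSeg.IsSegreRing 𝒜 ℬ 𝒯 ψ) (hstdR : Ideal.span (⋃ n ∈ Set.Ioi (0 : ℤ), (𝒜 n : Set R)) = Ideal.span ((𝒜 1 : Submodule k R) : Set R)) (hstdS : Ideal.span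 (⋃ n ∈ Set.Ioi (0 : ℤ), (ℬ n : Set S)) = Ideal.span ((ℬ 1 : Submodule k S) : Set S)) (hr1 : 1 ≤ ringKrullDim R) (hs1 : 1 ≤ ringKrullDim S) (mT : HomogeneousIdeal 𝒯) (hmT : mT.toIdeal = Ideal.span (⋃ n ∈ Set.Ioi (0 : ℤ), (𝒯 n : Set T))) (a b : ℤ) (hab : b ≤ a) (P : Type u) [AddCommGroup P] [Module T P] [Module k P] [IsScalarTower k T P] (𝒬 : ℤ → AddSubgroup P) [DirectSum.Decomposition 𝒬] (φ : P →ₗ[k] TensorProduct k R S) (hP : GrSeg.IsSegreMod ψ (fun n : ℤ => 𝒜 (n + a)) (fun n : ℤ => ℬ (n + b)) 𝒬 φ) : Module.finrank k (P ⧸ (mT.toIdeal • (⊤ : Submodule T P))) = Module.finrank k (𝒜 (a - b)) := by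
  classical
  -- basic facts
  have hφpiece : ∀ n, ∀ p ∈ 𝒬 n,
      φ p ∈ GrSeg.segrePiece k (fun n : ℤ => 𝒜 (n + a)) (fun n : ℤ => ℬ (n + b)) n := by
    intro n p hp
    have h1 : φ p ∈ φ '' (𝒬 n : Set P) := ⟨p, hp, rfl⟩
    rw [hP.image_piece n] at h1
    exact h1
  have hpiece_mem : ∀ n, ∀ e ∈ GrSeg.segrePiece k (fun n : ℤ => 𝒜 (n + a))
      (fun n : ℤ => ℬ (n + b)) n, ∃ p ∈ 𝒬 n, φ p = e := by
    intro n e he
    have h1 : e ∈ φ '' (𝒬 n : Set P) := by rw [hP.image_piece n]; exact he
    obtain ⟨p, hp, rfl⟩ := h1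
    exact ⟨p, hp, rfl⟩
  have hψpiece : ∀ i, ∀ t ∈ 𝒯 i, ψ t ∈ GrSeg.segrePiece k 𝒜 ℬ i := by
    intro i t ht
    rw [← hT.2 i]
    exact Submodule.mem_map_of_mem ht
  -- the action respects the pieces
  have hact : ∀ i j, ∀ α ∈ GrSeg.segrePiece k 𝒜 ℬ i,
      ∀ e ∈ GrSeg.segrePiece k (fun n : ℤ => 𝒜 (n + a)) (fun n : ℤ => ℬ (n + b)) j,
      GrSeg.act k R S R S α e ∈
        GrSeg.segrePiece k (fun n : ℤ => 𝒜 (n + a)) (fun n : ℤ => ℬ (n + b)) (i + j) := by
    intro i j α hα e he
    induction hα using Submodule.span_induction with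
    | mem α hα =>
      obtain ⟨x, hx, y, hy, rfl⟩ := hα
      induction he using Submodule.span_induction with
      | mem e he =>
        obtain ⟨x', hx', y', hy', rfl⟩ := he
        rw [GrSeg.act_tmul]
        refine Submodule.subset_span ⟨_, ?_, _, ?_, rfl⟩
        · have := SetLike.GradedMul.mul_mem hx hx'
          rw [smul_eq_mul]
          show x * x' ∈ 𝒜 (i + j + a)
          rwa [add_assoc]
        · have := SetLike.GradedMul.mul_mem hy hy'
          rw [smul_eq_mul]
          show y * y' ∈ ℬ (i + j + b)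
          rwa [add_assoc]
      | zero => rw [map_zero]; exact zero_mem _
      | add e e' _ _ he he' => rw [map_add]; exact add_mem he he'
      | smul c e _ he => rw [map_smul]; exact Submodule.smul_mem _ c he
    | zero => rw [map_zero, LinearMap.zero_apply]; exact zero_mem _
    | add α α' _ _ hα hα' => rw [map_add, LinearMap.add_apply]; exact add_mem hα hα'
    | smul c α _ hα => rw [map_smul, LinearMap.smul_apply]; exact Submodule.smul_mem _ c hα
  haveI hgs : SetLike.GradedSMul 𝒯 𝒬 := by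
    refine ⟨fun {i j t p} ht hp => ?_⟩
    obtain ⟨p', hp', hpp⟩ := hpiece_mem (i + j) _
      (hact i j (ψ t) (hψpiece i t ht) (φ p) (hφpiece j p hp))
    rw [← hP.map_smul] at hpp
    rw [vadd_eq_add, ← hP.injective hpp]
    exact hp'
  have hposT : ∀ n : ℤ, n < 0 → 𝒯 n = ⊥ := by
    intro n hn
    rw [eq_bot_iff]
    intro t ht
    have h1 := hψpiece n t ht
    have h2 : GrSeg.segrePiece k 𝒜 ℬ n = ⊥ := by
      rw [eq_bot_iff]
      apply Submodule.span_le.mpr
      rintro _ ⟨x, hx, y, hy, rfl⟩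
      rw [hposR n hn] at hx
      rw [(Submodule.mem_bot k).mp hx, zero_tmul]
      exact zero_mem _
    rw [h2] at h1
    have h3 : ψ t = ψ 0 := by rw [map_zero]; exact (Submodule.mem_bot k).mp h1
    rw [hT.1 h3]
    exact zero_mem _
  -- pieces below -b vanish
  have hlow : ∀ n, n < -b → ∀ p ∈ 𝒬 n, p = 0 := by
    intro n hn p hp
    have h1 := hφpiece n p hp
    have h2 : GrSeg.segrePiece k (fun n : ℤ => 𝒜 (n + a)) (fun n : ℤ => ℬ (n + b)) n = ⊥ := by
      rw [eq_bot_iff]
      apply Submodule.span_le.mpr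
      rintro _ ⟨x, hx, y, hy, rfl⟩
      have hy' : y ∈ ℬ (n + b) := hy
      rw [hposS (n + b) (by omega)] at hy'
      rw [(Submodule.mem_bot k).mp hy', tmul_zero]
      exact zero_mem _
    rw [h2] at h1
    have h3 : φ p = φ 0 := by rw [map_zero]; exact (Submodule.mem_bot k).mp h1
    exact hP.injective h3
  have hallMge : ∀ p : P, p ∈ Mge 𝒯 𝒬 hposT (-b) := by
    intro p m hm
    exact hlow m hm _ (pr_mem 𝒬 m p)
  -- W ≤ Mge (-b+1)
  have hW : mT.toIdeal • (⊤ : Submodule T P) ≤ Mge 𝒯 𝒬 hposT (-b + 1) := by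
    rw [Submodule.smul_le]
    intro t ht p _
    rw [hmT] at ht
    induction ht using Submodule.span_induction with
    | mem t ht =>
      simp only [Set.mem_iUnion, Set.mem_Ioi] at ht
      obtain ⟨i, hi, hti⟩ := ht
      intro m hm
      rw [pr_smul_hom' 𝒯 𝒬 hti, hallMge p (m - i) (by omega), smul_zero]
    | zero => rw [zero_smul]; exact zero_mem _
    | add t t' _ _ ht ht' => rw [add_smul]; exact add_mem ht ht'
    | smul c t _ ht => rw [smul_eq_mul, mul_smul]; exact Submodule.smul_mem _ c ht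
  have hshift : ∀ x ∈ 𝒜 (a - b), x ∈ 𝒜 (-b + a) := by
    intro x hx
    rwa [show a - b = -b + a by ring] at hx
  -- the map r ↦ r ⊗ 1 lands in the range of φ
  have hι : ∀ r : 𝒜 (a - b), ((r : R) ⊗ₜ[k] (1 : S)) ∈ LinearMap.range φ := by
    intro r
    obtain ⟨p, -, hp⟩ := hpiece_mem (-b) ((r : R) ⊗ₜ[k] (1 : S))
      (Submodule.subset_span ⟨r, hshift r r.2, 1, by
        show (1 : S) ∈ ℬ (-b + b)
        rw [neg_add_cancel]
        exact SetLike.GradedOne.one_mem, rfl⟩)
    exact ⟨p, hp⟩
  let e := LinearEquiv.ofInjective φ hP.injective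
  let ι₀ : 𝒜 (a - b) →ₗ[k] TensorProduct k R S :=
    ((TensorProduct.mk k R S).flip 1).comp (𝒜 (a - b)).subtype
  have hι₀ : ∀ r : 𝒜 (a - b), ι₀ r = (r : R) ⊗ₜ[k] (1 : S) := fun r => rfl
  let θ₀ : 𝒜 (a - b) →ₗ[k] P := e.symm.toLinearMap.comp (ι₀.codRestrict (LinearMap.range φ) hι)
  have hθ₀ : ∀ r : 𝒜 (a - b), φ (θ₀ r) = (r : R) ⊗ₜ[k] (1 : S) := by
    intro r
    have h1 : e (θ₀ r) = ι₀.codRestrict (LinearMap.range φ) hι r := e.apply_symm_apply _
    have h2 := congrArg Subtype.val h1
    exact h2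
  let θ : 𝒜 (a - b) →ₗ[k] (P ⧸ (mT.toIdeal • (⊤ : Submodule T P))) :=
    ((mT.toIdeal • (⊤ : Submodule T P)).mkQ.restrictScalars k).comp θ₀
  have hθ : ∀ r, θ r = Submodule.Quotient.mk (θ₀ r) := fun r => rfl
  -- injectivity
  haveI : Nontrivial S := by
    by_contra hnt
    rw [not_nontrivial_iff_subsingleton] at hnt
    rw [ringKrullDim_eq_bot_of_subsingleton] at hs1
    simp at hs1
  have hincl : Function.Injective (fun r : R => r ⊗ₜ[k] (1 : S)) :=
    Algebra.TensorProduct.includeLeft_injective (R := k) (S := k) (A := R) (B := S)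
      (algebraMap k S).injective
  have hθinj : Function.Injective θ := by
    rw [← LinearMap.ker_eq_bot, LinearMap.ker_eq_bot']
    intro r hr
    rw [hθ, Submodule.Quotient.mk_eq_zero] at hr
    have h1 := hW hr (-b) (by omega)
    have hmem : θ₀ r ∈ 𝒬 (-b) := by
      obtain ⟨p, hp, hpr⟩ := hpiece_mem (-b) ((r : R) ⊗ₜ[k] (1 : S))
        (Submodule.subset_span ⟨r, hshift r r.2, 1, by
          show (1 : S) ∈ ℬ (-b + b)
          rw [neg_add_cancel]
          exact SetLike.GradedOne.one_mem, rfl⟩)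
      rw [← hθ₀ r] at hpr
      rw [← hP.injective hpr]
      exact hp
    rw [pr_of_mem_same 𝒬 hmem] at h1
    have h2 := hθ₀ r
    rw [h1, map_zero] at h2
    apply Subtype.ext
    apply hincl
    show (r : R) ⊗ₜ[k] (1 : S) = (0 : R) ⊗ₜ[k] (1 : S)
    rw [← h2, zero_tmul]
  -- surjectivity
  have hθsurj : Function.Surjective θ := by
    intro q
    obtain ⟨p, rfl⟩ := Submodule.Quotient.mk_surjective _ q
    -- every homogeneous element is congruent to something in the image
    have key : ∀ p : P, ∃ r : 𝒜 (a - b), p - θ₀ r ∈ mT.toIdeal • (⊤ : Submodule T P) := by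
      intro p
      induction p using DirectSum.Decomposition.inductionOn 𝒬 with
      | zero => exact ⟨0, by rw [map_zero, sub_zero]; exact zero_mem _⟩
      | add x y hx hy =>
        obtain ⟨r, hr⟩ := hx
        obtain ⟨r', hr'⟩ := hy
        refine ⟨r + r', ?_⟩
        have : x + y - θ₀ (r + r') = (x - θ₀ r) + (y - θ₀ r') := by rw [map_add]; abel
        rw [this]
        exact add_mem hr hr'
      | @homogeneous n p =>
        rcases lt_trichotomy n (-b) with hn | hn | hn
        · refine ⟨0, ?_⟩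
          rw [hlow n hn p p.2, map_zero, sub_zero]
          exact zero_mem _
        · -- degree -b
          have h1 := hφpiece n p p.2
          have h2 : ∀ e ∈ GrSeg.segrePiece k (fun n : ℤ => 𝒜 (n + a)) (fun n : ℤ => ℬ (n + b)) n,
              ∃ r : 𝒜 (a - b), e = (r : R) ⊗ₜ[k] (1 : S) := by
            intro e he
            induction he using Submodule.span_induction with
            | mem e he =>
              obtain ⟨x, hx, y, hy, rfl⟩ := he
              have hy' : y ∈ ℬ 0 := by
                have : y ∈ ℬ (n + b) := hy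
                rwa [hn, neg_add_cancel] at this
              obtain ⟨c, rfl⟩ := exists_eq_algebraMap ℬ hposS h0S hy'
              have hx' : x ∈ 𝒜 (a - b) := by
                have : x ∈ 𝒜 (n + a) := hx
                rwa [hn, show -b + a = a - b by ring] at this
              refine ⟨⟨c • x, (𝒜 (a - b)).smul_mem c hx'⟩, ?_⟩
              rw [Algebra.algebraMap_eq_smul_one, tmul_smul, smul_tmul']
            | zero => exact ⟨0, by simp⟩
            | add e e' _ _ he he' =>
              obtain ⟨r, rfl⟩ := he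
              obtain ⟨r', rfl⟩ := he'
              exact ⟨r + r', by rw [Submodule.coe_add, add_tmul]⟩
            | smul c e _ he =>
              obtain ⟨r, rfl⟩ := he
              exact ⟨c • r, by rw [Submodule.coe_smul, smul_tmul']⟩
          obtain ⟨r, hr⟩ := h2 _ h1
          refine ⟨r, ?_⟩
          have : (p : P) = θ₀ r := hP.injective (by rw [hr, hθ₀])
          rw [this, sub_self]
          exact zero_mem _
        · -- degree > -b : in W
          refine ⟨0, ?_⟩
          rw [map_zero, sub_zero]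
          -- show the k-subspace φ(W) contains the piece
          have h1 := hφpiece n p p.2
          have h2 : ∀ e ∈ GrSeg.segrePiece k (fun n : ℤ => 𝒜 (n + a)) (fun n : ℤ => ℬ (n + b)) n,
              e ∈ ((mT.toIdeal • (⊤ : Submodule T P)).restrictScalars k).map φ := by
            intro e he
            induction he using Submodule.span_induction with
            | mem e he =>
              obtain ⟨x, hx, y, hy, rfl⟩ := he
              have hx1 := mem_span_mul_of_std 𝒜 hstdR (m := n + a) (by omega) hx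
              have hy1 := mem_span_mul_of_std ℬ hstdS (m := n + b) (by omega) hy
              -- bilinear induction
              have step1 : ∀ u ∈ 𝒜 1, ∀ x' ∈ 𝒜 (n + a - 1), ∀ y₀ ∈ Submodule.span k
                  {z : S | ∃ v ∈ ℬ 1, ∃ y' ∈ ℬ (n + b - 1), z = v * y'},
                  (u * x') ⊗ₜ[k] y₀ ∈
                    ((mT.toIdeal • (⊤ : Submodule T P)).restrictScalars k).map φ := by
                intro u hu x' hx' y₀ hy₀
                induction hy₀ using Submodule.span_induction with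
                | mem y₀ hy₀ =>
                  obtain ⟨v, hv, y', hy', rfl⟩ := hy₀
                  have huv : u ⊗ₜ[k] v ∈ GrSeg.segrePiece k 𝒜 ℬ 1 :=
                    Submodule.subset_span ⟨u, hu, v, hv, rfl⟩
                  rw [← hT.2 1] at huv
                  obtain ⟨t, ht, htuv⟩ := huv
                  obtain ⟨p', -, hp'⟩ := hpiece_mem (n - 1) (x' ⊗ₜ[k] y')
                    (Submodule.subset_span ⟨x', by
                      show x' ∈ 𝒜 (n - 1 + a)
                      rwa [show n - 1 + a = n + a - 1 by ring], y', by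
                      show y' ∈ ℬ (n - 1 + b)
                      rwa [show n - 1 + b = n + b - 1 by ring], rfl⟩)
                  refine ⟨t • p', ?_, ?_⟩
                  · refine Submodule.smul_mem_smul ?_ Submodule.mem_top
                    rw [hmT]
                    exact Ideal.subset_span (Set.mem_biUnion (Set.mem_Ioi.mpr one_pos) ht)
                  · rw [hP.map_smul, hp']
                    have : ψ t = u ⊗ₜ[k] v := htuv
                    rw [this, GrSeg.act_tmul, smul_eq_mul, smul_eq_mul]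
                | zero => rw [tmul_zero]; exact zero_mem _
                | add y₀ y₁ _ _ h₀ h₁ => rw [tmul_add]; exact add_mem h₀ h₁
                | smul c y₀ _ h₀ => rw [tmul_smul]; exact Submodule.smul_mem _ c h₀
              have step2 : ∀ x₀ ∈ Submodule.span k
                  {z : R | ∃ u ∈ 𝒜 1, ∃ x' ∈ 𝒜 (n + a - 1), z = u * x'},
                  x₀ ⊗ₜ[k] y ∈
                    ((mT.toIdeal • (⊤ : Submodule T P)).restrictScalars k).map φ := by
                intro x₀ hx₀
                induction hx₀ using Submodule.span_induction with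
                | mem x₀ hx₀ =>
                  obtain ⟨u, hu, x', hx', rfl⟩ := hx₀
                  exact step1 u hu x' hx' y hy1
                | zero => rw [zero_tmul]; exact zero_mem _
                | add x₀ x₁ _ _ h₀ h₁ => rw [add_tmul]; exact add_mem h₀ h₁
                | smul c x₀ _ h₀ => rw [← smul_tmul']; exact Submodule.smul_mem _ c h₀
              exact step2 x hx1
            | zero => exact zero_mem _
            | add e e' _ _ he he' => exact add_mem he he'
            | smul c e _ he => exact Submodule.smul_mem _ c he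
          obtain ⟨w, hw, hwp⟩ := h2 _ h1
          rw [← hP.injective hwp]
          exact hw
    obtain ⟨r, hr⟩ := key p
    refine ⟨r, ?_⟩
    rw [hθ]
    exact ((Submodule.Quotient.eq _).mpr hr).symm
  exact (LinearEquiv.finrank_eq (LinearEquiv.ofBijective θ ⟨hθinj, hθsurj⟩)).symm

end Aux19750

namespace Groth.Agent.S19750

/-- Let R and S be graded rings defined over a field k, both generated over k by their degree-one parts
and of positive Krull dimension, T = R # S with irrelevant ideal T_+, and let a ≥ b be integers.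
Then the number of generators ν_T(R(a) # S(b)) = dim_k (R(a) # S(b)) / T_+ (R(a) # S(b)) equals
dim_k R_{a−b}. Here a graded ring defined over k is a commutative k-algebra of finite type, graded
in nonnegative degrees by k-subspaces with degree-zero part k·1; the Segre product T = R # S = ⊕_n
R_n ⊗_k S_n is presented abstractly as a graded k-algebra T with an injective k-algebra homomorphism
ψ : T → R ⊗_k S carrying T_n onto the k-span of the elementary tensors a ⊗ b with a ∈ R_n, b ∈ S_n;
the Segre product R(a) # S(b) = ⊕_n R_{n+a} ⊗_k S_{n+b} of the shifted modules is presented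
abstractly as a graded T-module P with an injective k-linear map φ : P → R ⊗_k S carrying P_n onto
the k-span of the tensors x ⊗ y with x ∈ R_{n+a}, y ∈ S_{n+b} and turning the action of t ∈ T into
that of ψ(t); T_+ is the ideal spanned by the T_n with n > 0. -/
theorem result (k : Type u) [Field k] (R : Type u) [CommRing R] [Algebra k R] (𝒜 : ℤ → Submodule k R) [GradedAlgebra 𝒜] (hposR : ∀ n : ℤ, n < 0 → 𝒜 n = ⊥) (h0R : 𝒜 0 = Submodule.span k {(1 : R)}) [Algebra.FiniteType k R] (S : Type u) [CommRing S] [Algebra k S] (ℬ : ℤ → Submodule k S) [GradedAlgebra ℬ] (hposS : ∀ n : ℤ, n < 0 → ℬ n = ⊥) (h0S : ℬ 0 = Submodule.span k {(1 : S)}) [Algebra.FiniteType k S] (T : Type u) [CommRing T] [Algebra k T] (𝒯 : ℤ → Submodule k T) [GradedAlgebra 𝒯] (ψ : T →ₐ[k] TensorProduct k R S) (hT : GrSeg.IsSegreRing 𝒜 ℬ 𝒯 ψ) (hstdR : Ideal.span (⋃ n ∈ Set.Ioi (0 : ℤ), (𝒜 n : Set R)) = Ideal.span ((𝒜 1 : Submodule k R) : Set R)) (hstdS : Ideal.span (⋃ n ∈ Set.Ioi (0 : ℤ), (ℬ n : Set S)) = Ideal.span ((ℬ 1 :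 Submodule k S) : Set S)) (hr1 : 1 ≤ ringKrullDim R) (hs1 : 1 ≤ ringKrullDim S) (mT : HomogeneousIdeal 𝒯) (hmT : mT.toIdeal = Ideal.span (⋃ n ∈ Set.Ioi (0 : ℤ), (𝒯 n : Set T))) (a b : ℤ) (hab : b ≤ a) (P : Type u) [AddCommGroup P] [Module T P] [Module k P] [IsScalarTower k T P] (𝒬 : ℤ → AddSubgroup P) [DirectSum.Decomposition 𝒬] (φ : P →ₗ[k] TensorProduct k R S) (hP : GrSeg.IsSegreMod ψ (fun n : ℤ => 𝒜 (n + a)) (fun n : ℤ => ℬ (n + b)) 𝒬 φ) : Module.finrank k (P ⧸ (mT.toIdeal • (⊤ : Submodule T P))) = Module.finrank k (𝒜 (a - b)) := by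
  exact Aux19750.main k R 𝒜 hposR h0R S ℬ hposS h0S T 𝒯 ψ hT hstdR hstdS hr1 hs1 mT hmT a b hab P 𝒬 φ hP

end Groth.Agent.S19750
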