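import Mathlib
import Groth.Statements.S19747
import Groth.Agent.Lib.Helper29.GrDual

set_option autoImplicit false
universe u
open scoped TensorProduct
open GrSegre

namespace Aux19747

open TensorProduct Groth.Agent.Lib.Helper29.GrDual

section ModAE

variable {k : Type u} [Field k] {R S : Type u} [CommRing R] [CommRing S] [Algebra k R] [Algebra k S]
  {M N : Type u} [AddCommGroup M] [Module R M] [Module k M] [IsScalarTower k R M]
  [AddCommGroup N] [Module S N] [Module k N] [IsScalarTower k S N]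

theorem act_one (e : M ⊗[k] N) : GrSeg.act k R S M N 1 e = e := by
  rw [Algebra.TensorProduct.one_def]
  induction e using TensorProduct.induction_on with
  | zero => simp
  | tmul m n => rw [GrSeg.act_tmul, one_smul, one_smul]
  | add x y hx hy => rw [map_add, hx, hy]

theorem act_mul (a a' : R ⊗[k] S) (e : M ⊗[k] N) :
    GrSeg.act k R S M N (a * a') e = GrSeg.act k R S M N a (GrSeg.act k R S M N a' e) := by
  induction a using TensorProduct.induction_on with
  | zero => simp
  | tmul r s =>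
    induction a' using TensorProduct.induction_on with
    | zero => simp
    | tmul r' s' =>
      induction e using TensorProduct.induction_on with
      | zero => simp
      | tmul m n =>
        rw [Algebra.TensorProduct.tmul_mul_tmul, GrSeg.act_tmul, GrSeg.act_tmul, GrSeg.act_tmul,
          mul_smul, mul_smul]
      | add x y hx hy => simp only [map_add, hx, hy]
    | add x y hx hy => simp only [mul_add, map_add, LinearMap.add_apply, hx, hy]
  | add x y hx hy => simp only [add_mul, map_add, LinearMap.add_apply, hx, hy]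

/-- the module structure of `R ⊗ S` on `M ⊗ N` given by `GrSeg.act` -/
@[reducible] noncomputable def modAE : Module (R ⊗[k] S) (M ⊗[k] N) where
  smul a e := GrSeg.act k R S M N a e
  one_smul := act_one
  mul_smul := act_mul
  smul_zero a := map_zero _
  smul_add a := map_add _
  add_smul a a' e := by
    show GrSeg.act k R S M N (a + a') e = _
    rw [map_add]; rfl
  zero_smul e := by
    show GrSeg.act k R S M N 0 e = 0
    rw [map_zero]; rfl

attribute [local instance] modAE

theorem smul_def (a : R ⊗[k] S) (e : M ⊗[k] N) : a • e = GrSeg.act k R S M N a e := rfl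

theorem tmul_smul_tmul (r : R) (s : S) (m : M) (n : N) :
    (r ⊗ₜ[k] s) • (m ⊗ₜ[k] n) = (r • m) ⊗ₜ[k] (s • n) := GrSeg.act_tmul r s m n

theorem smul_ksmul (a : R ⊗[k] S) (c : k) (e : M ⊗[k] N) : a • (c • e) = c • (a • e) := by
  rw [smul_def, smul_def, map_smul]

theorem finite_AE [Module.Finite R M] [Module.Finite S N] :
    Module.Finite (R ⊗[k] S) (M ⊗[k] N) := by
  classical
  obtain ⟨X, hX⟩ := (Module.Finite.fg_top : (⊤ : Submodule R M).FG)
  obtain ⟨Y, hY⟩ := (Module.Finite.fg_top : (⊤ : Submodule S N).FG)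
  refine ⟨(Submodule.fg_def).mpr ⟨Set.image2 (fun x y => x ⊗ₜ[k] y) (X : Set M) (Y : Set N),
    Set.Finite.image2 _ X.finite_toSet Y.finite_toSet, ?_⟩⟩
  set W := Submodule.span (R ⊗[k] S) (Set.image2 (fun x y => x ⊗ₜ[k] y) (X : Set M) (Y : Set N))
    with hW
  have h1 : ∀ m ∈ (X : Set M), ∀ n : N, m ⊗ₜ[k] n ∈ W := by
    intro m hm n
    have hn : n ∈ Submodule.span S (Y : Set N) := by rw [hY]; trivial
    induction hn using Submodule.span_induction with
    | mem n hn => exact Submodule.subset_span ⟨m, hm, n, hn, rfl⟩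
    | zero => rw [tmul_zero]; exact W.zero_mem
    | add y z _ _ hy hz => rw [tmul_add]; exact W.add_mem hy hz
    | smul s n _ hn =>
      have : m ⊗ₜ[k] (s • n) = ((1 : R) ⊗ₜ[k] s) • (m ⊗ₜ[k] n) := by
        rw [tmul_smul_tmul, one_smul]
      rw [this]; exact W.smul_mem _ hn
  have h2 : ∀ m : M, ∀ n : N, m ⊗ₜ[k] n ∈ W := by
    intro m n
    have hm : m ∈ Submodule.span R (X : Set M) := by rw [hX]; trivial
    induction hm using Submodule.span_induction with
    | mem m hm => exact h1 m hm n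
    | zero => rw [zero_tmul]; exact W.zero_mem
    | add y z _ _ hy hz => rw [add_tmul]; exact W.add_mem hy hz
    | smul r m _ hm =>
      have : (r • m) ⊗ₜ[k] n = (r ⊗ₜ[k] (1 : S)) • (m ⊗ₜ[k] n) := by
        rw [tmul_smul_tmul, one_smul]
      rw [this]; exact W.smul_mem _ hm
  rw [eq_top_iff]
  intro e _
  induction e using TensorProduct.induction_on with
  | zero => exact W.zero_mem
  | tmul m n => exact h2 m n
  | add x y hx hy => exact W.add_mem (hx trivial) (hy trivial)

end ModAE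


section Main

variable {k : Type u} [Field k] {R : Type u} [CommRing R] [Algebra k R] (𝒜 : ℤ → Submodule k R)
  [GradedAlgebra 𝒜]
  {S : Type u} [CommRing S] [Algebra k S] (ℬ : ℤ → Submodule k S) [GradedAlgebra ℬ]
  {M : Type u} [AddCommGroup M] [Module R M] [Module k M] [IsScalarTower k R M]
  (ℳ : ℤ → AddSubgroup M) [DirectSum.Decomposition ℳ] [SetLike.GradedSMul 𝒜 ℳ]
  {N : Type u} [AddCommGroup N] [Module S N] [Module k N] [IsScalarTower k S N]
  (𝒩 : ℤ → AddSubgroup N) [DirectSum.Decomposition 𝒩] [SetLike.GradedSMul ℬ 𝒩]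

attribute [local instance] modAE

/-- diagonal projection on `R ⊗ S` -/
noncomputable def pA (m : ℤ) : R ⊗[k] S →ₗ[k] R ⊗[k] S :=
  TensorProduct.map (prL 𝒜 𝒜 m) (prL ℬ ℬ m)

/-- diagonal projection on `M ⊗ N` -/
noncomputable def qE (n : ℤ) : M ⊗[k] N →ₗ[k] M ⊗[k] N :=
  TensorProduct.map (prL 𝒜 ℳ n) (prL ℬ 𝒩 n)

theorem pA_mem (m : ℤ) (a : R ⊗[k] S) : pA 𝒜 ℬ m a ∈ GrSeg.segrePiece k 𝒜 ℬ m := by
  induction a using TensorProduct.induction_on with
  | zero => rw [map_zero]; exact zero_mem _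
  | tmul r s =>
    rw [pA, TensorProduct.map_tmul]
    exact Submodule.subset_span ⟨_, pr_mem 𝒜 m r, _, pr_mem ℬ m s, rfl⟩
  | add x y hx hy => rw [map_add]; exact add_mem hx hy

theorem qE_of_mem {n' : ℤ} {e : M ⊗[k] N} (he : e ∈ GrSeg.segrePiece k ℳ 𝒩 n') (n : ℤ) :
    qE 𝒜 ℬ ℳ 𝒩 n e = if n = n' then e else 0 := by
  induction he using Submodule.span_induction with
  | mem e he =>
    obtain ⟨x, hx, y, hy, rfl⟩ := he
    rw [qE, TensorProduct.map_tmul, prL_apply, prL_apply]
    split_ifs with h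
    · subst h; rw [pr_of_mem_same ℳ hx, pr_of_mem_same 𝒩 hy]
    · rw [pr_of_mem_ne ℳ hx (fun e => h e.symm), zero_tmul]
  | zero => simp
  | add x y _ _ hx hy => rw [map_add, hx, hy]; split_ifs <;> simp
  | smul c x _ hx => rw [map_smul, hx]; split_ifs <;> simp

theorem qE_smul {n' : ℤ} {e : M ⊗[k] N} (he : e ∈ GrSeg.segrePiece k ℳ 𝒩 n')
    (a : R ⊗[k] S) (n : ℤ) :
    qE 𝒜 ℬ ℳ 𝒩 n (a • e) = (pA 𝒜 ℬ (n - n') a) • e := by
  induction he using Submodule.span_induction with
  | mem e he =>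
    obtain ⟨x, hx, y, hy, rfl⟩ := he
    induction a using TensorProduct.induction_on with
    | zero => rw [zero_smul, map_zero, map_zero, zero_smul]
    | tmul r s =>
      rw [tmul_smul_tmul, qE, TensorProduct.map_tmul, prL_apply, prL_apply,
        pr_smul_of_mem 𝒜 ℳ hx, pr_smul_of_mem ℬ 𝒩 hy, pA, TensorProduct.map_tmul,
        tmul_smul_tmul, prL_apply, prL_apply]
    | add a a' ha ha' => rw [add_smul, map_add, ha, ha', map_add, add_smul]
  | zero => rw [smul_zero, map_zero, smul_zero]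
  | add x y _ _ hx hy => rw [smul_add, map_add, hx, hy, smul_add]
  | smul c x _ hx => rw [smul_ksmul, map_smul, hx, smul_ksmul]

end Main

attribute [local instance] modAE in
theorem main (k : Type u) [Field k] (R : Type u) [CommRing R] [Algebra k R] (𝒜 : ℤ → Submodule k R) [GradedAlgebra 𝒜] (hposR : ∀ n : ℤ, n < 0 → 𝒜 n = ⊥) (h0R : 𝒜 0 = Submodule.span k {(1 : R)}) [Algebra.FiniteType k R] (S : Type u) [CommRing S] [Algebra k S] (ℬ : ℤ → Submodule k S) [GradedAlgebra ℬ] (hposS : ∀ n : ℤ, n < 0 → ℬ n = ⊥) (h0S : ℬ 0 = Submodule.span k {(1 : S)}) [Algebra.FiniteType k S] (T : Type u) [CommRing T] [Algebra k T] (𝒯 : ℤ → Submodule k T) [GradedAlgebra 𝒯] (ψ : T →ₐ[k] TensorProduct k R S) (hT : GrSeg.IsSegreRing 𝒜 ℬ 𝒯 ψ) (M : Type u) [AddCommGroup M] [Module R M] [Module k M] [IsScalarTower k R M] (ℳ : ℤ → AddSubgroup M) [DirectSum.Decomposition ℳ] [SetLike.GradedSMul 𝒜 ℳ] [Module.Finite R M] (N : Type u) [AddCommGroup N] [Module S N] [Module k N] [IsScalarTower k S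 N] (𝒩 : ℤ → AddSubgroup N) [DirectSum.Decomposition 𝒩] [SetLike.GradedSMul ℬ 𝒩] [Module.Finite S N] (P : Type u) [AddCommGroup P] [Module T P] [Module k P] [IsScalarTower k T P] (𝒬 : ℤ → AddSubgroup P) [DirectSum.Decomposition 𝒬] (φ : P →ₗ[k] TensorProduct k M N) (hP : GrSeg.IsSegreMod ψ ℳ 𝒩 𝒬 φ) : Module.Finite T P := by
  classical
  haveI : IsNoetherianRing R := Algebra.FiniteType.isNoetherianRing k R
  haveI : IsNoetherianRing (R ⊗[k] S) := Algebra.FiniteType.isNoetherianRing R (R ⊗[k] S)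
  haveI : Module.Finite (R ⊗[k] S) (M ⊗[k] N) := finite_AE
  haveI : IsNoetherian (R ⊗[k] S) (M ⊗[k] N) := isNoetherian_of_isNoetherianRing_of_finite _ _
  have hφT : ∀ (t : T) (p : P), φ (t • p) = ψ t • φ p := hP.map_smul
  have hφpiece : ∀ n, ∀ p ∈ 𝒬 n, φ p ∈ GrSeg.segrePiece k ℳ 𝒩 n := by
    intro n p hp
    have h1 : φ p ∈ φ '' (𝒬 n : Set P) := ⟨p, hp, rfl⟩
    rw [hP.image_piece n] at h1
    exact h1
  have claim : ∀ (H : Set P), (∀ h ∈ H, ∃ n, h ∈ 𝒬 n) →
      ∀ e ∈ Submodule.span (R ⊗[k] S) (φ '' H), ∀ n,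
        ∃ l ∈ Submodule.span T H, φ l = qE 𝒜 ℬ ℳ 𝒩 n e := by
    intro H hH e he n
    induction he using Submodule.closure_induction with
    | zero => exact ⟨0, Submodule.zero_mem _, by rw [map_zero, map_zero]⟩
    | add x y _ _ hx hy =>
      obtain ⟨l, hl, hlx⟩ := hx
      obtain ⟨l', hl', hly⟩ := hy
      exact ⟨l + l', Submodule.add_mem _ hl hl', by rw [map_add, map_add, hlx, hly]⟩
    | smul_mem a e he =>
      obtain ⟨h, hh, rfl⟩ := he
      obtain ⟨n', hn'⟩ := hH h hh
      rw [qE_smul 𝒜 ℬ ℳ 𝒩 (hφpiece n' h hn') a n]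
      have hp := pA_mem 𝒜 ℬ (n - n') a
      rw [← hT.2 (n - n')] at hp
      obtain ⟨t, -, ht⟩ := hp
      refine ⟨t • h, Submodule.smul_mem _ t (Submodule.subset_span hh), ?_⟩
      rw [hφT, ← ht]; rfl
  let 𝒞 : Set (Submodule (R ⊗[k] S) (M ⊗[k] N)) :=
    {Ξ | ∃ H : Set P, H.Finite ∧ (∀ h ∈ H, ∃ n, h ∈ 𝒬 n) ∧
      Ξ = Submodule.span (R ⊗[k] S) (φ '' H)}
  have hne : 𝒞.Nonempty :=
    ⟨_, ∅, Set.finite_empty, fun h hh => absurd hh (Set.notMem_empty h), rfl⟩
  obtain ⟨Ξ₀, ⟨H₀, hfin, hhom, rfl⟩, hmax⟩ :=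
    set_has_maximal_iff_noetherian.mpr inferInstance 𝒞 hne
  have hall : ∀ n, ∀ x ∈ 𝒬 n, x ∈ Submodule.span T H₀ := by
    intro n x hx
    have hmem : Submodule.span (R ⊗[k] S) (φ '' insert x H₀) ∈ 𝒞 :=
      ⟨insert x H₀, hfin.insert x, fun h hh => by
        rcases Set.mem_insert_iff.mp hh with rfl | hh
        · exact ⟨n, hx⟩
        · exact hhom h hh, rfl⟩
    have hle : Submodule.span (R ⊗[k] S) (φ '' H₀) ≤
        Submodule.span (R ⊗[k] S) (φ '' insert x H₀) :=
      Submodule.span_mono (Set.image_mono (Set.subset_insert x H₀))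
    have heq : Submodule.span (R ⊗[k] S) (φ '' insert x H₀) ≤
        Submodule.span (R ⊗[k] S) (φ '' H₀) := by
      by_contra hnot
      exact hmax _ hmem (lt_of_le_not_ge hle hnot)
    have hφx : φ x ∈ Submodule.span (R ⊗[k] S) (φ '' H₀) :=
      heq (Submodule.subset_span ⟨x, Set.mem_insert x H₀, rfl⟩)
    obtain ⟨l, hl, hlx⟩ := claim H₀ hhom (φ x) hφx n
    rw [qE_of_mem 𝒜 ℬ ℳ 𝒩 (hφpiece n x hx) n, if_pos rfl] at hlx
    rw [← hP.injective hlx]
    exact hl
  have htop : Submodule.span T H₀ = ⊤ := by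
    rw [eq_top_iff]
    intro p _
    induction p using DirectSum.Decomposition.inductionOn 𝒬 with
    | zero => exact Submodule.zero_mem _
    | @homogeneous n x => exact hall n x x.2
    | add x y hx hy => exact Submodule.add_mem _ (hx trivial) (hy trivial)
  exact ⟨(Submodule.fg_def).mpr ⟨H₀, hfin, htop⟩⟩

end Aux19747

namespace Groth.Agent.S19747

/-- Let R and S be graded rings defined over a field k with Segre product T = R # S, and let M be a
finitely generated graded R-module and N a finitely generated graded S-module. Then M # N is a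
finitely generated T-module. Here a graded ring defined over k is a commutative k-algebra of finite
type, graded in nonnegative degrees by k-subspaces with degree-zero part k·1; the Segre product T =
R # S = ⊕_n R_n ⊗_k S_n is presented abstractly as a graded k-algebra T with an injective k-algebra
homomorphism ψ : T → R ⊗_k S carrying T_n onto the k-span of the elementary tensors a ⊗ b with a ∈
R_n, b ∈ S_n; the Segre product M # N = ⊕_n M_n ⊗_k N_n of a graded R-module M and a graded S-module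
N is presented abstractly as a graded T-module P with an injective k-linear map φ : P → M ⊗_k N
carrying P_n onto the k-span of the tensors x ⊗ y with x ∈ M_n, y ∈ N_n and turning the action of t
∈ T into that of ψ(t) (acting factorwise on M ⊗_k N). -/
theorem result (k : Type u) [Field k] (R : Type u) [CommRing R] [Algebra k R] (𝒜 : ℤ → Submodule k R) [GradedAlgebra 𝒜] (hposR : ∀ n : ℤ, n < 0 → 𝒜 n = ⊥) (h0R : 𝒜 0 = Submodule.span k {(1 : R)}) [Algebra.FiniteType k R] (S : Type u) [CommRing S] [Algebra k S] (ℬ : ℤ → Submodule k S) [GradedAlgebra ℬ] (hposS : ∀ n : ℤ, n < 0 → ℬ n = ⊥) (h0S : ℬ 0 = Submodule.span k {(1 : S)}) [Algebra.FiniteType k S] (T : Type u) [CommRing T] [Algebra k T] (𝒯 : ℤ → Submodule k T) [GradedAlgebra 𝒯] (ψ : T →ₐ[k] TensorProduct k R S) (hT : GrSeg.IsSegreRing 𝒜 ℬ 𝒯 ψ) (M : Type u) [AddCommGroup M] [Module R M] [Module k M] [IsScalarTower k R M] (ℳ : ℤ → AddSubgroup M) [DirectSum.Decomposition ℳ] [SetLike.GradedSMul 𝒜 ℳ] [Module.Finite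 R M] (N : Type u) [AddCommGroup N] [Module S N] [Module k N] [IsScalarTower k S N] (𝒩 : ℤ → AddSubgroup N) [DirectSum.Decomposition 𝒩] [SetLike.GradedSMul ℬ 𝒩] [Module.Finite S N] (P : Type u) [AddCommGroup P] [Module T P] [Module k P] [IsScalarTower k T P] (𝒬 : ℤ → AddSubgroup P) [DirectSum.Decomposition 𝒬] (φ : P →ₗ[k] TensorProduct k M N) (hP : GrSeg.IsSegreMod ψ ℳ 𝒩 𝒬 φ) : Module.Finite T P := by
  exact Aux19747.main k R 𝒜 hposR h0R S ℬ hposS h0S T 𝒯 ψ hT M ℳ N 𝒩 P 𝒬 φ hP

end Groth.Agent.S19747
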