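import Mathlib
import Groth.Agent.Lib.Helper20.SegCM3
import Groth.Statements.S18652
-- import your own Groth.Agent.* helpers here

set_option autoImplicit false
universe u
open scoped TensorProduct
open GrSegre

open Groth.Agent.Lib.Helper20.SegBase Groth.Agent.Lib.Helper20.SegGr Groth.Agent.Lib.Helper20.GrConv

namespace Groth.Agent.S18652

/-- Let R and S be graded rings defined over a field k which are Cohen–Macaulay, of dimensions r ≥ 2 and
s ≥ 2. Then the Segre product T = R # S is a Cohen–Macaulay ring if and only if R # H^s_{S_+}(S) = 0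
and H^r_{R_+}(R) # S = 0, that is, for every degree n, R_n = 0 or H^s_{S_+}(S)_n = 0, and
H^r_{R_+}(R)_n = 0 or S_n = 0. Here a graded ring defined over k is a commutative k-algebra of
finite type, graded in nonnegative degrees by k-subspaces with degree-zero part k·1; the graded
local cohomology pieces are computed from *injective resolutions of R and S in the graded category;
the Segre product T = ⊕_n R_n ⊗_k S_n is presented abstractly as a graded k-algebra T with an
injective k-algebra homomorphism ψ : T → R ⊗_k S carrying T_n onto the k-span of the elementary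
tensors a ⊗ b with a ∈ R_n, b ∈ S_n. -/
theorem result (k : Type u) [Field k] (R : Type u) [CommRing R] [Algebra k R] (𝒜 : ℤ → Submodule k R) [GradedAlgebra 𝒜] (hposR : ∀ n : ℤ, n < 0 → 𝒜 n = ⊥) (h0R : 𝒜 0 = Submodule.span k {(1 : R)}) [Algebra.FiniteType k R] (S : Type u) [CommRing S] [Algebra k S] (ℬ : ℤ → Submodule k S) [GradedAlgebra ℬ] (hposS : ∀ n : ℤ, n < 0 → ℬ n = ⊥) (h0S : ℬ 0 = Submodule.span k {(1 : S)}) [Algebra.FiniteType k S] (T : Type u) [CommRing T] [Algebra k T] (𝒯 : ℤ → Submodule k T) [GradedAlgebra 𝒯] (ψ : T →ₐ[k] TensorProduct k R S) (hψ : Function.Injective ψ) (hdegT : ∀ n : ℤ, (𝒯 n).map ψ.toLinearMap = Submodule.span k {x : TensorProduct k R S | ∃ a ∈ 𝒜 n, ∃ b ∈ ℬ n, x = a ⊗ₜ[k] b}) [LocCoh.IsCohenMacaulayRing R] [LocCoh.IsCohenMacaulayRing S] (mR : HomogeneousIdeal 𝒜) (hmR : mR.toIdeal = Ideal.span (⋃ n ∈ Set.Ioi (0 : ℤ), (𝒜 n : Set R))) (I : GrLC.StarInjRes 𝒜 𝒜) (mS : HomogeneousIdeal ℬ) (hmS : mS.toIdeal = Ideal.span (⋃ n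 ∈ Set.Ioi (0 : ℤ), (ℬ n : Set S))) (J : GrLC.StarInjRes ℬ ℬ) (r s : ℕ) (hr : ringKrullDim R = r) (hs : ringKrullDim S = s) (h2r : 2 ≤ r) (h2s : 2 ≤ s) : LocCoh.IsCohenMacaulayRing T ↔ (∀ n : ℤ, 𝒜 n = ⊥ ∨ J.Hcomp mS s n = ⊥) ∧ (∀ n : ℤ, I.Hcomp mR r n = ⊥ ∨ ℬ n = ⊥) := by
  classical
  have : Nontrivial R := by
    by_contra h
    rw [not_nontrivial_iff_subsingleton] at h
    rw [ringKrullDim_eq_bot_of_subsingleton] at hr
    exact WithBot.bot_ne_coe hr
  have : Nontrivial S := by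
    by_contra h
    rw [not_nontrivial_iff_subsingleton] at h
    rw [ringKrullDim_eq_bot_of_subsingleton] at hs
    exact WithBot.bot_ne_coe hs
  have : IsNoetherianRing R := Algebra.FiniteType.isNoetherianRing k R
  have : IsNoetherianRing S := Algebra.FiniteType.isNoetherianRing k S
  have hgA := gradedSMul_modToAS 𝒜 𝒜
  have hgB := gradedSMul_modToAS ℬ ℬ
  have hRlt : ∀ i < r, ∀ d, I.Hcomp mR i d = ⊥ :=
    (isCohenMacaulayRing_iff 𝒜 hposR h0R mR hmR I r hr).1 inferInstance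
  have hSlt : ∀ i < s, ∀ d, J.Hcomp mS i d = ⊥ :=
    (isCohenMacaulayRing_iff ℬ hposS h0S mS hmS J s hs).1 inferInstance
  have hRz : ∀ i, i ≠ r → ∀ d, Module.finrank (GrLC.deg0 𝒜) (I.Hcomp mR i d) = 0 := by
    intro i hi d
    rcases lt_or_gt_of_ne hi with h | h
    · rw [hRlt i h d]
      exact finrank_bot _ _
    · rw [Hcomp_eq_bot_of_gt 𝒜 hposR h0R mR hmR 𝒜 I r hr i h d]
      exact finrank_bot _ _
  have hSz : ∀ i, i ≠ s → ∀ d, Module.finrank (GrLC.deg0 ℬ) (J.Hcomp mS i d) = 0 := by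
    intro i hi d
    rcases lt_or_gt_of_ne hi with h | h
    · rw [hSlt i h d]
      exact finrank_bot _ _
    · rw [Hcomp_eq_bot_of_gt ℬ hposS h0S mS hmS ℬ J s hs i h d]
      exact finrank_bot _ _
  have hRb : ∀ i d, I.Hcomp mR i d = ⊥ ↔ Module.finrank (GrLC.deg0 𝒜) (I.Hcomp mR i d) = 0 :=
    fun i d => Hcomp_eq_bot_iff_finrank 𝒜 h0R mR hmR (toAS 𝒜) (resModTo 𝒜 𝒜 I) i d
  have hSb : ∀ i d, J.Hcomp mS i d = ⊥ ↔ Module.finrank (GrLC.deg0 ℬ) (J.Hcomp mS i d) = 0 :=
    fun i d => Hcomp_eq_bot_iff_finrank ℬ h0S mS hmS (toAS ℬ) (resModTo ℬ ℬ J) i d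
  rw [segre_cm_iff k R 𝒜 hposR h0R S ℬ hposS h0S T 𝒯 ψ hψ hdegT mR hmR I mS hmS J r s hr hs
    (by omega) (by omega) (fun q d hq => hRlt q (by omega) d) (fun q d hq => hSlt q (by omega) d)]
  constructor
  · intro h
    constructor
    · intro n
      have h1 := h s (by omega) n
      rw [Nat.add_eq_zero_iff, Nat.add_eq_zero_iff] at h1
      rcases Nat.mul_eq_zero.1 h1.1.1 with h2 | h2
      · left
        exact (piece_eq_bot_iff 𝒜 h0R n).2 h2
      · right
        exact (hSb s n).2 h2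
    · intro n
      have h1 := h r (by omega) n
      rw [Nat.add_eq_zero_iff, Nat.add_eq_zero_iff] at h1
      rcases Nat.mul_eq_zero.1 h1.1.2 with h2 | h2
      · left
        exact (hRb r n).2 h2
      · right
        exact (piece_eq_bot_iff ℬ h0S n).2 h2
  · rintro ⟨h1, h2⟩ q hq d
    have t1 : Module.finrank k (𝒜 d) * Module.finrank (GrLC.deg0 ℬ) (J.Hcomp mS q d) = 0 := by
      by_cases hqs : q = s
      · subst hqs
        rcases h1 d with h | h
        · rw [(piece_eq_bot_iff 𝒜 h0R d).1 h, zero_mul]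
        · rw [(hSb q d).1 h, mul_zero]
      · rw [hSz q hqs d, mul_zero]
    have t2 : Module.finrank (GrLC.deg0 𝒜) (I.Hcomp mR q d) * Module.finrank k (ℬ d) = 0 := by
      by_cases hqr : q = r
      · subst hqr
        rcases h2 d with h | h
        · rw [(hRb q d).1 h, zero_mul]
        · rw [(piece_eq_bot_iff ℬ h0S d).1 h, mul_zero]
      · rw [hRz q hqr d, zero_mul]
    have t3 : (Finset.range (q + 2)).sum (fun i =>
        Module.finrank (GrLC.deg0 𝒜) (I.Hcomp mR i d) *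
          Module.finrank (GrLC.deg0 ℬ) (J.Hcomp mS (q + 1 - i) d)) = 0 := by
      apply Finset.sum_eq_zero
      intro i _
      by_cases hi : i = r
      · have hne : q + 1 - i ≠ s := by omega
        rw [hSz _ hne d, mul_zero]
      · rw [hRz i hi d, zero_mul]
    rw [t1, t2, t3]

end Groth.Agent.S18652
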