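import Mathlib
import Groth.Agent.Lib.Helper20.SegStd
import Groth.Agent.S18652
import Groth.Statements.S18648
-- import your own Groth.Agent.* helpers here

set_option autoImplicit false
universe u
open scoped TensorProduct
open GrSegre

open Groth.Agent.Lib.Helper20.SegBase Groth.Agent.Lib.Helper20.SegGr Groth.Agent.Lib.Helper20.GrConv

namespace Groth.Agent.S18648

/-- Let R and S be standard graded rings defined over a field k which are Cohen–Macaulay, of dimensions
r ≥ 2 and s ≥ 2. Then the Segre product T = R # S is a Cohen–Macaulay ring if and only if a(R) < 0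
and a(S) < 0. Here a graded ring defined over k is a commutative k-algebra of finite type, graded in
nonnegative degrees by k-subspaces with degree-zero part k·1, and it is standard graded when its
irrelevant ideal is generated by the degree-one piece; the a-invariant a(R) is the largest degree in
which the graded local cohomology H^{dim R}_{R_+}(R), computed from a *injective resolution of R in
the graded category, is nonzero; the Segre product T = R # S = ⊕_n R_n ⊗_k S_n is presented
abstractly as a graded k-algebra T with an injective k-algebra homomorphism ψ : T → R ⊗_k S carrying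
T_n onto the k-span of the elementary tensors a ⊗ b with a ∈ R_n, b ∈ S_n. -/
theorem result (k : Type u) [Field k] (R : Type u) [CommRing R] [Algebra k R] (𝒜 : ℤ → Submodule k R) [GradedAlgebra 𝒜] (hposR : ∀ n : ℤ, n < 0 → 𝒜 n = ⊥) (h0R : 𝒜 0 = Submodule.span k {(1 : R)}) [Algebra.FiniteType k R] (S : Type u) [CommRing S] [Algebra k S] (ℬ : ℤ → Submodule k S) [GradedAlgebra ℬ] (hposS : ∀ n : ℤ, n < 0 → ℬ n = ⊥) (h0S : ℬ 0 = Submodule.span k {(1 : S)}) [Algebra.FiniteType k S] (T : Type u) [CommRing T] [Algebra k T] (𝒯 : ℤ → Submodule k T) [GradedAlgebra 𝒯] (ψ : T →ₐ[k] TensorProduct k R S) (hψ : Function.Injective ψ) (hdegT : ∀ n : ℤ, (𝒯 n).map ψ.toLinearMap = Submodule.span k {x : TensorProduct k R S | ∃ a ∈ 𝒜 n, ∃ b ∈ ℬ n, x = a ⊗ₜ[k] b}) [LocCoh.IsCohenMacaulayRing R] [LocCoh.IsCohenMacaulayRing S] (mR : HomogeneousIdeal 𝒜) (hmR : mR.toIdeal = Ideal.span (⋃ n ∈ Set.Ioi (0 : ℤ), (𝒜 n : Set R))) (hstdR : Ideal.span (⋃ n ∈ Set.Ioi (0 : ℤ), (𝒜 n : Set R)) = Ideal.span ((𝒜 1 : Submodule k R) : Set R)) (I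 : GrLC.StarInjRes 𝒜 𝒜) (mS : HomogeneousIdeal ℬ) (hmS : mS.toIdeal = Ideal.span (⋃ n ∈ Set.Ioi (0 : ℤ), (ℬ n : Set S))) (hstdS : Ideal.span (⋃ n ∈ Set.Ioi (0 : ℤ), (ℬ n : Set S)) = Ideal.span ((ℬ 1 : Submodule k S) : Set S)) (J : GrLC.StarInjRes ℬ ℬ) (r s : ℕ) (hr : ringKrullDim R = r) (hs : ringKrullDim S = s) (h2r : 2 ≤ r) (h2s : 2 ≤ s) : LocCoh.IsCohenMacaulayRing T ↔ GrLC.endDeg (I.Hgr mR r) < 0 ∧ GrLC.endDeg (J.Hgr mS s) < 0 := by
  classical
  have : Nontrivial R := by
    by_contra h
    rw [not_nontrivial_iff_subsingleton] at h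
    rw [ringKrullDim_eq_bot_of_subsingleton] at hr
    exact WithBot.bot_ne_coe hr
  have : Nontrivial S := by
    by_contra h
    rw [not_nontrivial_iff_subsingleton] at h
    rw [ringKrullDim_eq_bot_of_subsingleton] at hs
    exact WithBot.bot_ne_coe hs
  have h1R : 1 ≤ ringKrullDim R := by
    rw [hr]
    exact_mod_cast (by omega : 1 ≤ r)
  have h1S : 1 ≤ ringKrullDim S := by
    rw [hs]
    exact_mod_cast (by omega : 1 ≤ s)
  rw [Groth.Agent.S18652.result k R 𝒜 hposR h0R S ℬ hposS h0S T 𝒯 ψ hψ hdegT mR hmR I mS hmS J r s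
    hr hs h2r h2s, endDeg_lt_zero_iff, endDeg_lt_zero_iff]
  constructor
  · rintro ⟨h1, h2⟩
    constructor
    · intro n hn
      rcases h2 n with h | h
      · rw [AddSubgroup.eq_bot_iff_forall]
        intro x hx
        have hx' : x ∈ I.Hcomp mR r n := hx
        rw [h] at hx'
        exact hx'
      · exact absurd h (piece_ne_bot ℬ hposS h0S hstdS h1S n hn)
    · intro n hn
      rcases h1 n with h | h
      · exact absurd h (piece_ne_bot 𝒜 hposR h0R hstdR h1R n hn)
      · rw [AddSubgroup.eq_bot_iff_forall]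
        intro x hx
        have hx' : x ∈ J.Hcomp mS s n := hx
        rw [h] at hx'
        exact hx'
  · rintro ⟨h1, h2⟩
    constructor
    · intro n
      by_cases hn : 0 ≤ n
      · right
        rw [Submodule.eq_bot_iff]
        intro x hx
        have hx' : x ∈ J.Hgr mS s n := hx
        rw [h2 n hn] at hx'
        exact hx'
      · left
        exact hposR n (not_le.1 hn)
    · intro n
      by_cases hn : 0 ≤ n
      · left
        rw [Submodule.eq_bot_iff]
        intro x hx
        have hx' : x ∈ I.Hgr mR r n := hx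
        rw [h1 n hn] at hx'
        exact hx'
      · right
        exact hposS n (not_le.1 hn)

end Groth.Agent.S18648
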