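import Groth.Statements.S8684
import Groth.Agent.Lib.Helper20.SymWeights

set_option autoImplicit false
universe u v w
open LambdaRing Finset

namespace Groth.Agent.S8684

open MvPolynomial Groth.Agent.Lib.Helper20.SymFT Groth.Agent.Lib.Helper20.SymWeights

theorem result (n : ℕ) :
    ∃ P : MvPolynomial (Fin n ⊕ Fin n) ℤ, LambdaRing.IsMulPoly n P := by
  classical
  obtain ⟨P₀, hP₀⟩ := exists_Phi_eq n (LambdaRing.mulGen n n)
    (fun σ => by
      have := mulGen_rename n n σ (Equiv.refl _)
      rwa [Equiv.coe_refl] at this)
    (fun τ => by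
      have := mulGen_rename n n (Equiv.refl _) τ
      rwa [Equiv.coe_refl] at this)
  refine ⟨weightedHomogeneousComponent (wXY n) (n, n) P₀, ?_, ?_⟩
  · show Phi n n _ = LambdaRing.mulGen n n
    rw [Phi_weightedHomogeneousComponent, hP₀]
    exact (mulGen_isWeightedHomogeneous n n).weightedHomogeneousComponent_same
  · exact weightedHomogeneousComponent_isWeightedHomogeneous (n, n) P₀

end Groth.Agent.S8684
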