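import Groth.Statements.S8685
import Groth.Agent.Lib.Helper20.SymWeights

set_option autoImplicit false
universe u v w
open LambdaRing Finset

namespace Groth.Agent.S8685

open MvPolynomial Groth.Agent.Lib.Helper20.SymFT Groth.Agent.Lib.Helper20.SymWeights

/-- one-family version: a symmetric polynomial is a polynomial in the elementary ones, and a
homogeneous one is the image of an isobaric polynomial. -/
theorem exists_isobaric (N d : ℕ) (f : MvPolynomial (Fin N) ℤ) (hsym : f.IsSymmetric)
    (hf : IsWeightedHomogeneous (fun _ : Fin N => (1 : ℕ)) f d) :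
    ∃ Q : MvPolynomial (Fin N) ℤ, epsU N N Q = f ∧
      IsWeightedHomogeneous (fun k : Fin N => (k : ℕ) + 1) Q d := by
  classical
  obtain ⟨Q₀, hQ₀⟩ := (esymmAlgHom_fin_bijective ℤ N).2 ⟨f, hsym⟩
  have hQ₀' : epsU N N Q₀ = f := by
    have := congrArg Subtype.val hQ₀
    rw [esymmAlgHom_apply] at this
    exact this
  refine ⟨weightedHomogeneousComponent (fun k : Fin N => (k : ℕ) + 1) d Q₀, ?_,
    weightedHomogeneousComponent_isWeightedHomogeneous d Q₀⟩
  have h := aeval_weightedHomogeneousComponent (fun k : Fin N => (k : ℕ) + 1)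
    (fun _ : Fin N => (1 : ℕ)) (fun j : Fin N => esymm (Fin N) ℤ ((j : ℕ) + 1))
    (fun j => esymm_isWeightedHomogeneous_one N _) d Q₀
  show aeval (fun j : Fin N => esymm (Fin N) ℤ ((j : ℕ) + 1)) _ = f
  rw [h]
  show weightedHomogeneousComponent _ d (epsU N N Q₀) = f
  rw [hQ₀']
  exact hf.weightedHomogeneousComponent_same

theorem result (i j : ℕ) :
    ∃ Q : MvPolynomial (Fin (i * j)) ℤ, LambdaRing.IsCompPoly i j Q := by
  obtain ⟨Q, h1, h2⟩ := exists_isobaric (i * j) (i * j) (LambdaRing.compGen (i * j) i j)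
    (fun σ => compGen_rename _ _ _ σ) (compGen_isWeightedHomogeneous _ _ _)
  exact ⟨Q, h1, h2⟩

end Groth.Agent.S8685
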