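import Groth.Statements.S19540
import Mathlib

set_option autoImplicit false
open CategoryTheory CategoryTheory.Limits Opposite
universe w v u
open CohSite

namespace Groth.Agent.S19540

/-- Let (C, J) be a site and B a class of objects of C, each weakly contractible (every epimorphism of
sheaves of sets, valued in a fixed universe, is surjective on sections over it), such that every
object V of C has a covering sieve all of whose arrows factor through some object of B. Then a
three-term complex F ⟶ G ⟶ H of abelian sheaves on (C, J) is exact if and only if for every U in B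
the sequence of section groups F(U) ⟶ G(U) ⟶ H(U) is exact. (The published statement is for sheaves
of modules over a sheaf of rings O; this row is the case of the constant sheaf of rings ℤ, i.e.
abelian sheaves, to which exactness questions for O-modules reduce. The universe set-up assumes that
abelian sheafification exists and inverts exactly the locally bijective maps, as on any small site.) -/
theorem result
    {C : Type u} [Category.{v} C] (J : GrothendieckTopology C) [HasSheafify J AddCommGrpCat.{w}]
    [J.WEqualsLocallyBijective AddCommGrpCat.{w}]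
    (B : C → Prop)
    (hB : ∀ U : C, B U → ∀ (P Q : Sheaf J (Type w)) (ψ : P ⟶ Q), Epi ψ → Function.Surjective (ψ.hom.app (op U)))
    (hcov : ∀ V : C, ∃ S : Sieve V, S ∈ J V ∧ ∀ ⦃W : C⦄ (f : W ⟶ V), S.arrows f →
      ∃ (U : C) (g : W ⟶ U) (h : U ⟶ V), B U ∧ g ≫ h = f)
    (S : ShortComplex (Sheaf J AddCommGrpCat.{w})) :
    S.Exact ↔ ∀ U : C, B U →
      (S.map (sheafToPresheaf J AddCommGrpCat.{w} ⋙ (evaluation Cᵒᵖ AddCommGrpCat.{w}).obj (op U))).Exact := by
  classical
  -- the forgetful functor to types is corepresentable, hence compatible with the sheaf condition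
  haveI hcomp : J.HasSheafCompose (forget AddCommGrpCat.{w}) :=
    ⟨fun P hP => by
      rw [isSheaf_iff_isSheaf_of_type]
      exact Presieve.isSheaf_iso J
        (Functor.isoWhiskerLeft P AddCommGrpCat.coyonedaObjIsoForget.{w}) (hP _)⟩
  -- epimorphisms are surjective on sections over members of `B`
  have hsurj : ∀ (U : C), B U → ∀ {F G : Sheaf J AddCommGrpCat.{w}} (φ : F ⟶ G), Epi φ →
      Function.Surjective (φ.hom.app (op U)).hom := by
    intro U hU F G φ hφ
    have h1 : Sheaf.IsLocallySurjective φ := (Sheaf.isLocallySurjective_iff_epi' AddCommGrpCat.{w} φ).2 hφ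
    have h2 : Sheaf.IsLocallySurjective ((sheafCompose J (forget AddCommGrpCat.{w})).map φ) :=
      (Presheaf.isLocallySurjective_iff_whisker_forget J φ.hom).1 h1
    have h3 : Epi ((sheafCompose J (forget AddCommGrpCat.{w})).map φ) := inferInstance
    exact hB U hU _ _ _ h3
  -- monomorphisms are injective on sections
  have hinj : ∀ (U : C) {F G : Sheaf J AddCommGrpCat.{w}} (φ : F ⟶ G), Mono φ →
      Function.Injective (φ.hom.app (op U)).hom := by
    intro U F G φ hφ
    have : Mono ((sheafToPresheaf J AddCommGrpCat.{w} ⋙
        (evaluation Cᵒᵖ AddCommGrpCat.{w}).obj (op U)).map φ) := inferInstance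
    exact (AddCommGrpCat.mono_iff_injective _).1 this
  have hzi : ∀ (U : C) (z : S.cycles.obj.obj (op U)),
      (S.g.hom.app (op U)).hom ((S.iCycles.hom.app (op U)).hom z) = 0 := by
    intro U z
    have h := S.iCycles_g
    have h2 : (S.iCycles ≫ S.g).hom.app (op U) = 0 := by rw [h]; rfl
    exact ConcreteCategory.congr_hom h2 z
  have hti : ∀ (U : C) (s : S.X₁.obj.obj (op U)),
      (S.iCycles.hom.app (op U)).hom ((S.toCycles.hom.app (op U)).hom s) =
        (S.f.hom.app (op U)).hom s := by
    intro U s
    have h2 : (S.toCycles ≫ S.iCycles).hom.app (op U) = S.f.hom.app (op U) := by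
      rw [S.toCycles_i]
    exact ConcreteCategory.congr_hom h2 s
  constructor
  · intro hS U hU
    rw [ShortComplex.ab_exact_iff]
    intro x₂ hx₂
    let T : ShortComplex (Sheaf J AddCommGrpCat.{w}) := ShortComplex.mk S.iCycles S.g S.iCycles_g
    have hT : T.Exact := ShortComplex.exact_of_f_is_kernel _ S.cyclesIsKernel
    have hΓ : PreservesFiniteLimits (sheafToPresheaf J AddCommGrpCat.{w} ⋙
        (evaluation Cᵒᵖ AddCommGrpCat.{w}).obj (op U)) := inferInstance
    have key : ∀ (T : ShortComplex (Sheaf J AddCommGrpCat.{w})), T.Exact ∧ Mono T.f →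
        (T.map (sheafToPresheaf J AddCommGrpCat.{w} ⋙
          (evaluation Cᵒᵖ AddCommGrpCat.{w}).obj (op U))).Exact ∧
        Mono ((sheafToPresheaf J AddCommGrpCat.{w} ⋙
          (evaluation Cᵒᵖ AddCommGrpCat.{w}).obj (op U)).map T.f) :=
      ((Functor.preservesFiniteLimits_tfae (sheafToPresheaf J AddCommGrpCat.{w} ⋙
        (evaluation Cᵒᵖ AddCommGrpCat.{w}).obj (op U))).out 3 1).1 hΓ
    have hT' := key T ⟨hT, (inferInstance : Mono S.iCycles)⟩
    have hT'' := hT'.1
    rw [ShortComplex.ab_exact_iff] at hT''
    obtain ⟨z, hz⟩ := hT'' x₂ hx₂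
    have hepi : Epi S.toCycles := (S.exact_iff_epi_toCycles).1 hS
    obtain ⟨s, hs⟩ := hsurj U hU S.toCycles hepi z
    refine ⟨s, ?_⟩
    change (S.f.hom.app (op U)).hom s = x₂
    rw [← hti, hs]
    exact hz
  · intro h
    rw [ShortComplex.exact_iff_epi_toCycles]
    haveI : Sheaf.IsLocallySurjective S.toCycles := by
      constructor
      intro V z
      obtain ⟨R, hR, hfac⟩ := hcov V
      refine J.superset_covering ?_ hR
      intro W f hf
      obtain ⟨U, g, k, hU, rfl⟩ := hfac f hf
      have hex := h U hU
      rw [ShortComplex.ab_exact_iff] at hex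
      have hz0 : (S.g.hom.app (op U)).hom ((S.iCycles.hom.app (op U)).hom
          ((S.cycles.obj.map k.op).hom z)) = 0 := hzi U _
      obtain ⟨s, hs⟩ := hex _ hz0
      refine ⟨(S.X₁.obj.map g.op).hom s, ?_⟩
      apply hinj W S.iCycles inferInstance
      have hs' : (S.f.hom.app (op U)).hom s =
          (S.iCycles.hom.app (op U)).hom ((S.cycles.obj.map k.op).hom z) := hs
      change (S.iCycles.hom.app (op W)).hom ((S.toCycles.hom.app (op W)).hom
        ((S.X₁.obj.map g.op).hom s)) =
          (S.iCycles.hom.app (op W)).hom ((S.cycles.obj.map (g ≫ k).op).hom z)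
      rw [hti, NatTrans.naturality_apply, hs', ← NatTrans.naturality_apply, op_comp,
        Functor.map_comp]
      rfl
    infer_instance

end Groth.Agent.S19540
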