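import Groth.Statements.S2189
import Mathlib
import Groth.Agent.Lib.Helper7.VascLoc
import Groth.Agent.Lib.Helper5.RegSeqSpread
import Groth.Agent.Lib.Helper29.ProjDimBC

set_option autoImplicit false
universe u
open CategoryTheory
open LCI

namespace Groth.Agent.S2189

/-- Let R be a Noetherian ring and I an ideal which has finite projective dimension as an R-module and
whose conormal module I/I^2 is finite locally free (projective) over R/I. Then I is a regular ideal:
for every prime p containing I there is g outside p such that the extension of I to R_g is generated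
by a regular sequence of R_g. -/
theorem result {R : Type u} [CommRing R]
    [IsNoetherianRing R] (I : Ideal R) (n : ℕ)
    (hpd : HasProjectiveDimensionLT (ModuleCat.of R I) n)
    [Module.Projective (R ⧸ I) I.Cotangent] (p : Ideal R) [p.IsPrime] (hIp : I ≤ p) :
    ∃ g : R, g ∉ p ∧ ∃ rs : List (Localization.Away g),
      RingTheory.Sequence.IsRegular (Localization.Away g) rs ∧
        Ideal.ofList rs = I.map (algebraMap R (Localization.Away g)) := by
  classical
  have hpp : p.IsPrime := inferInstance
  have hJ : I.map (algebraMap R (Localization.AtPrime p)) ≠ ⊤ := by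
    intro h
    have h1 : I.map (algebraMap R (Localization.AtPrime p)) ≤
        IsLocalRing.maximalIdeal (Localization.AtPrime p) := by
      rw [Ideal.map_le_iff_le_comap]
      have h2 : (IsLocalRing.maximalIdeal (Localization.AtPrime p)).comap
          (algebraMap R (Localization.AtPrime p)) = p := Localization.AtPrime.under_maximalIdeal
      rw [h2]
      exact hIp
    exact (IsLocalRing.maximalIdeal.isMaximal (Localization.AtPrime p)).ne_top
      (top_le_iff.1 (h ▸ h1))
  have hbc : IsBaseChange (Localization.AtPrime p) (Algebra.idealMap (Localization.AtPrime p) I) :=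
    IsLocalizedModule.isBaseChange p.primeCompl (Localization.AtPrime p) _
  have hpd1 : CategoryTheory.HasProjectiveDimensionLT (ModuleCat.of R ↥I) (n + 1) :=
    CategoryTheory.hasProjectiveDimensionLT_of_ge _ n (n + 1) (by omega)
  have hpdS := Groth.Agent.Lib.Helper29.ProjDimBC.hasProjectiveDimensionLT_baseChange
    (B := Localization.AtPrime p) n ↥I hpd1
  have hpdJ : CategoryTheory.HasProjectiveDimensionLT (ModuleCat.of (Localization.AtPrime p)
      ↥(I.map (algebraMap R (Localization.AtPrime p)))) (n + 1) := by
    haveI := hpdS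
    exact CategoryTheory.hasProjectiveDimensionLT_of_iso hbc.equiv.toModuleIso (n + 1)
  haveI : Module.Finite R I.Cotangent :=
    Module.Finite.of_surjective I.toCotangent I.toCotangent_surjective
  haveI : Module.Finite (R ⧸ I) I.Cotangent := Module.Finite.of_restrictScalars_finite R (R ⧸ I) _
  haveI : Module.Projective (Localization.AtPrime p ⧸ I.map (algebraMap R (Localization.AtPrime p)))
      (I.map (algebraMap R (Localization.AtPrime p))).Cotangent :=
    Groth.Agent.Lib.Helper7.VascLoc.projective_cotangent_map I p.primeCompl (Localization.AtPrime p)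
  obtain ⟨r, x, hx1, hx2⟩ := Groth.Agent.Lib.Helper7.VascLoc.exists_regular_generators_local
    (I.map (algebraMap R (Localization.AtPrime p))) hJ (n + 1) hpdJ
  let φ : Localization.AtPrime p → Localization.AtPrime p := fun t =>
    algebraMap R (Localization.AtPrime p) (IsLocalization.sec p.primeCompl t).1
  have hφ : ∀ t : Localization.AtPrime p, ∃ u : (Localization.AtPrime p)ˣ, φ t = t * u := fun t =>
    ⟨(IsLocalization.map_units (Localization.AtPrime p) (IsLocalization.sec p.primeCompl t).2).unit,
      (IsLocalization.sec_spec p.primeCompl t).symm⟩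
  let rsA : List R := List.ofFn (fun i => (IsLocalization.sec p.primeCompl (x i)).1)
  have hrsA : rsA.map (algebraMap R (Localization.AtPrime p)) = (List.ofFn x).map φ := by
    simp only [rsA, List.map_ofFn]
    rfl
  have hregS : RingTheory.Sequence.IsWeaklyRegular (Localization.AtPrime p)
      (rsA.map (algebraMap R (Localization.AtPrime p))) := by
    rw [hrsA]
    exact Groth.Agent.Lib.Helper5.RegSeq.isWeaklyRegular_map_unit _ φ (fun s _ => hφ s) hx1
  have hJrs : (Ideal.ofList rsA).map (algebraMap R (Localization.AtPrime p)) =
      I.map (algebraMap R (Localization.AtPrime p)) := by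
    rw [Ideal.map_ofList, hrsA,
      Groth.Agent.Lib.Helper5.RegSeq.ofList_map_unit _ φ (fun s _ => hφ s), Ideal.ofList, ← hx2]
    congr 1
    ext a
    simp [List.mem_ofFn]
  obtain ⟨h, hhp, hcol⟩ := Groth.Agent.Lib.Helper5.RegSeq.exists_notMem_forall_colon
    (S := Localization.AtPrime p) p rsA hregS
  obtain ⟨u, hup, hu⟩ := Groth.Agent.Lib.Helper5.RegSeq.exists_notMem_forall_mul_mem
    (S := Localization.AtPrime p) p I (Ideal.ofList rsA) (IsNoetherian.noetherian I)
    (fun z hz => by rw [hJrs]; exact Ideal.mem_map_of_mem _ hz)
  obtain ⟨u', hu'p, hu'⟩ := Groth.Agent.Lib.Helper5.RegSeq.exists_notMem_forall_mul_mem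
    (S := Localization.AtPrime p) p (Ideal.ofList rsA) I (IsNoetherian.noetherian _)
    (fun z hz => by rw [← hJrs]; exact Ideal.mem_map_of_mem _ hz)
  have hgp : h * u * u' ∉ p := fun hmem =>
    (hpp.mem_or_mem hmem).elim (fun h2 => (hpp.mem_or_mem h2).elim hhp hup) hu'p
  have hmap_eq : Ideal.ofList (rsA.map (algebraMap R (Localization.Away (h * u * u')))) =
      I.map (algebraMap R (Localization.Away (h * u * u'))) := by
    rw [← Ideal.map_ofList]
    apply le_antisymm
    · rw [Ideal.map_le_iff_le_comap]
      intro z hz
      rw [Ideal.mem_comap]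
      refine Groth.Agent.Lib.Helper5.RegSeq.algebraMap_mem_map_of_mul_mem (h * u * u') I z ?_
      have h2 : h * u * u' * z = (h * u) * (u' * z) := by ring
      rw [h2]
      exact Ideal.mul_mem_left _ _ (hu' z hz)
    · rw [Ideal.map_le_iff_le_comap]
      intro z hz
      rw [Ideal.mem_comap]
      refine Groth.Agent.Lib.Helper5.RegSeq.algebraMap_mem_map_of_mul_mem (h * u * u')
        (Ideal.ofList rsA) z ?_
      have h2 : h * u * u' * z = (h * u') * (u * z) := by ring
      rw [h2]
      exact Ideal.mul_mem_left _ _ (hu z hz)
  refine ⟨h * u * u', hgp, rsA.map (algebraMap R (Localization.Away (h * u * u'))), ?_, hmap_eq⟩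
  have hweak := Groth.Agent.Lib.Helper5.RegSeq.isWeaklyRegular_map_of_away
    (B := Localization.Away (h * u * u')) (h * u * u') rsA (fun i hi z hz => by
      have h3 := hcol i hi z hz
      have h2 : h * u * u' * z = (u * u') * (h * z) := by ring
      rw [h2]
      exact Ideal.mul_mem_left _ _ h3)
  apply Groth.Agent.Lib.Helper7.Vasc.isRegular_of_mem
    (I.map (algebraMap R (Localization.Away (h * u * u')))) ?_ _ ?_ hweak
  · rw [IsLocalization.map_algebraMap_ne_top_iff_disjoint (Submonoid.powers (h * u * u'))]
    rw [Set.disjoint_left]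
    rintro a ⟨k, rfl⟩ haI
    exact hgp (hpp.mem_of_pow_mem k (hIp haI))
  · intro a ha
    rw [← hmap_eq]
    exact Ideal.subset_span ha

end Groth.Agent.S2189
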