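import Groth.Statements.S0546
import Mathlib

set_option autoImplicit false
universe u
open CAlg

namespace Groth.Agent.S0546

/-- If `I ≤ J` are ideals with `I` finitely generated and `M` is `J`-adically complete, then `M` is
`I`-adically complete. -/
theorem result (A : Type u) [CommRing A] (I J : Ideal A) (hIJ : I ≤ J)
    (hI : I.FG) (M : Type u) [AddCommGroup M] [Module A M] [IsAdicComplete J M] :
    IsAdicComplete I M := by
  classical
  haveI hH : IsHausdorff I M := by
    refine ⟨fun x hx => IsHausdorff.haus (inferInstance : IsHausdorff J M) x (fun n => ?_)⟩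
    have h := hx n
    rw [SModEq.zero] at h ⊢
    exact Submodule.smul_mono_left (Ideal.pow_right_mono hIJ n) h
  haveI hP : IsPrecomplete I M := by
    refine ⟨fun f hf => ?_⟩
    have hIJn : ∀ n, (I ^ n • ⊤ : Submodule A M) ≤ J ^ n • ⊤ := fun n =>
      Submodule.smul_mono_left (Ideal.pow_right_mono hIJ n)
    obtain ⟨x, hx⟩ := IsPrecomplete.prec (inferInstance : IsPrecomplete J M) (f := f)
      (by
        intro m n hmn
        have h := hf hmn
        rw [SModEq.sub_mem] at h ⊢
        exact hIJn m h)
    refine ⟨x, fun n => ?_⟩
    obtain ⟨k, g, hg⟩ :=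
      (Submodule.fg_iff_exists_fin_generating_family (N := (I ^ n : Ideal A))).1 (hI.pow (n := n))
    have hgmem : ∀ j, g j ∈ I ^ n := fun j => hg ▸ Submodule.subset_span (Set.mem_range_self j)
    have hdec : ∀ (N : Submodule A M) (z : M), z ∈ I ^ n • N →
        ∃ y : Fin k → M, (∀ j, y j ∈ N) ∧ z = ∑ j, g j • y j := by
      intro N z hz
      refine Submodule.smul_induction_on hz ?_ ?_
      · intro r hr m hm
        rw [← hg] at hr
        obtain ⟨c, hc⟩ := (Ideal.mem_span_range_iff_exists_fun).1 hr
        refine ⟨fun j => c j • m, fun j => N.smul_mem _ hm, ?_⟩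
        rw [← hc, Finset.sum_smul]
        refine Finset.sum_congr rfl fun j _ => ?_
        rw [smul_smul, mul_comm]
      · rintro z₁ z₂ ⟨y₁, h₁, rfl⟩ ⟨y₂, h₂, rfl⟩
        refine ⟨fun j => y₁ j + y₂ j, fun j => N.add_mem (h₁ j) (h₂ j), ?_⟩
        rw [← Finset.sum_add_distrib]
        exact Finset.sum_congr rfl fun j _ => (smul_add _ _ _).symm
    have hd : ∀ t : ℕ, f (n + t + 1) - f (n + t) ∈ I ^ n • (I ^ t • ⊤ : Submodule A M) := by
      intro t
      have h := hf (Nat.le_succ (n + t))
      rw [SModEq.sub_mem] at h
      rw [← Submodule.mul_smul, ← pow_add]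
      have h2 : f (n + t + 1) - f (n + t) = -(f (n + t) - f (n + t + 1)) := by abel
      rw [h2]
      exact neg_mem h
    choose y hy hsum using fun t => hdec (I ^ t • ⊤) _ (hd t)
    let z : ℕ → Fin k → M := fun t j => ∑ i ∈ Finset.range t, y i j
    have hz : ∀ t, f (n + t) - f n = ∑ j, g j • z t j := by
      intro t
      induction t with
      | zero => simp [z]
      | succ t ih =>
        have h2 : f (n + (t + 1)) - f n = (f (n + t + 1) - f (n + t)) + (f (n + t) - f n) := by
          rw [← add_assoc]; abel
        rw [h2, hsum t, ih, ← Finset.sum_add_distrib]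
        refine Finset.sum_congr rfl fun j _ => ?_
        simp only [z, Finset.sum_range_succ, smul_add]
        abel
    have hzc : ∀ j, ∀ {t t' : ℕ}, t ≤ t' →
        z t j ≡ z t' j [SMOD (J ^ t • ⊤ : Submodule A M)] := by
      intro j t t' htt'
      induction t', htt' using Nat.le_induction with
      | base => exact SModEq.refl _
      | succ t' htt' ih =>
        rw [SModEq.sub_mem] at ih ⊢
        have h2 : z t j - z (t' + 1) j = (z t j - z t' j) - y t' j := by
          simp only [z, Finset.sum_range_succ]; abel
        rw [h2]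
        refine sub_mem ih ?_
        exact Submodule.smul_mono_left (Ideal.pow_le_pow_right htt') (hIJn t' (hy t' j))
    choose w hw using fun j =>
      IsPrecomplete.prec (inferInstance : IsPrecomplete J M) (f := fun t => z t j)
        (by intro t t' h; exact hzc j h)
    have hkey : x - f n = ∑ j, g j • w j := by
      rw [← sub_eq_zero]
      apply IsHausdorff.haus (inferInstance : IsHausdorff J M)
      intro t
      rw [SModEq.zero]
      have h1 : x - f (n + t) ∈ (J ^ t • ⊤ : Submodule A M) := by
        have h := hx (n + t)
        rw [SModEq.sub_mem] at h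
        have h2 : x - f (n + t) = -(f (n + t) - x) := by abel
        rw [h2]
        exact neg_mem (Submodule.smul_mono_left (Ideal.pow_le_pow_right (Nat.le_add_left t n)) h)
      have h3 : x - f n - ∑ j, g j • w j = (x - f (n + t)) + ∑ j, g j • (z t j - w j) := by
        have h4 := hz t
        simp only [smul_sub, Finset.sum_sub_distrib]
        rw [← h4]; abel
      rw [h3]
      refine add_mem h1 (Submodule.sum_mem _ fun j _ => Submodule.smul_mem _ _ ?_)
      have h5 := hw j t
      rw [SModEq.sub_mem] at h5
      exact h5
    rw [SModEq.sub_mem]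
    have h4 : f n - x = -(x - f n) := by abel
    rw [h4, hkey]
    exact neg_mem (Submodule.sum_mem _ fun j _ =>
      Submodule.smul_mem_smul (hgmem j) Submodule.mem_top)
  exact {}

end Groth.Agent.S0546
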