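import Groth.Statements.S3866
import Mathlib.RingTheory.AdicCompletion.AsTensorProduct
import Mathlib.RingTheory.AdicCompletion.Noetherian

set_option autoImplicit false
universe u
open AdicRing

namespace Groth.Agent.S3866

/-- Let A be a Noetherian ring that is complete and separated for the J-adic topology, where J is an
ideal of A. Then every finite A-module M is itself complete and separated for the J-adic topology.
(This is the algebraic fact behind the statement that the global sections of the sheaf M^Δ on the
formal spectrum of A recover M.) -/
theorem result (A : Type u) [CommRing A] [IsNoetherianRing A]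
    (J : Ideal A) [IsAdicComplete J A] (M : Type u) [AddCommGroup M] [Module A M] [Module.Finite A M] :
    IsAdicComplete J M := by
  rw [← AdicCompletion.of_bijective_iff]
  haveI : IsHausdorff J M := IsHausdorff.of_le_jacobson J M (IsAdicComplete.le_jacobson_bot J)
  refine ⟨AdicCompletion.of_injective J M, ?_⟩
  intro y
  obtain ⟨t, rfl⟩ := AdicCompletion.ofTensorProduct_surjective_of_finite J M y
  induction t using TensorProduct.induction_on with
  | zero => exact ⟨0, by simp⟩
  | tmul r x =>
    obtain ⟨a, rfl⟩ := AdicCompletion.of_surjective J A r
    refine ⟨a • x, ?_⟩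
    rw [AdicCompletion.ofTensorProduct_tmul, map_smul]
    have h : AdicCompletion.of J A a = algebraMap A (AdicCompletion J A) a := rfl
    rw [h, algebraMap_smul]
  | add t₁ t₂ h₁ h₂ =>
    obtain ⟨m₁, h₁⟩ := h₁
    obtain ⟨m₂, h₂⟩ := h₂
    exact ⟨m₁ + m₂, by rw [map_add, h₁, h₂, map_add]⟩

end Groth.Agent.S3866
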