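import Groth.Statements.S2460
import Groth.Agent.Lib.Helper26.CompleteFinite

set_option autoImplicit false
universe u
open EGA41

namespace Groth.Agent.S2460

open IsLocalRing in
/-- Let A be a complete Noetherian local domain containing a field k₀ such that the residue field of A
is a finite extension of k₀. Then there are n and an injective local k₀-algebra homomorphism from
the power series ring k₀[[T_1, …, T_n]] into A making A a finite module over it. -/
theorem result {k₀ A : Type u} [Field k₀] [CommRing A] [IsDomain A] [IsLocalRing A] [IsNoetherianRing A]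
    [IsAdicComplete (maximalIdeal A) A] [Algebra k₀ A] [Module.Finite k₀ (ResidueField A)] :
    ∃ (n : ℕ) (w : MvPowerSeries (Fin n) k₀ →ₐ[k₀] A), Function.Injective w ∧ IsLocalHom w.toRingHom ∧ w.toRingHom.Finite := by
  classical
  obtain ⟨s, hs_min, hs_card⟩ :=
    Ideal.exists_finset_card_eq_height_of_isNoetherianRing (maximalIdeal A)
  let n := s.card
  let e : s ≃ Fin n := s.equivFin
  let x : Fin n → A := fun i => (e.symm i : A)
  have hrange : Set.range x = (s : Set A) := by
    ext a
    constructor
    · rintro ⟨i, rfl⟩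
      exact (e.symm i).2
    · intro ha
      exact ⟨e ⟨a, ha⟩, by simp [x]⟩
  have hle : Ideal.span (s : Set A) ≤ maximalIdeal A := hs_min.1.2
  have hx : ∀ i, x i ∈ maximalIdeal A := fun i =>
    hle (Ideal.subset_span (e.symm i).2)
  obtain ⟨ψ, hψ⟩ := Groth.Agent.Lib.Helper26.PowerSeriesRLR.exists_algHom k₀ x hx
  have hfun : (fun i => ψ (MvPowerSeries.X i)) = x := funext hψ
  have hmin : maximalIdeal A ∈
      (Ideal.span (Set.range fun i => ψ (MvPowerSeries.X i))).minimalPrimes := by
    rw [hfun, hrange]
    exact hs_min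
  obtain ⟨hloc, hfin⟩ := Groth.Agent.Lib.Helper26.CompleteFinite.finite_of_primary ψ hmin
  refine ⟨n, ψ, ?_, hloc, hfin⟩
  have hint : ψ.toRingHom.IsIntegral := RingHom.IsIntegral.of_finite hfin
  have hd : (n : WithBot ℕ∞) ≤ ringKrullDim A := by
    rw [← IsLocalRing.maximalIdeal_height_eq_ringKrullDim, ← hs_card]
    exact le_rfl
  exact Groth.Agent.Lib.Helper26.CompleteFinite.injective_of_isIntegral_of_le_ringKrullDim k₀ n ψ.toRingHom hint hd

end Groth.Agent.S2460
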