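import Groth.Statements.S16230
import Groth.Agent.Lib.Helper14.FormalMorse

set_option autoImplicit false
universe u
open VanCyc

namespace Groth.Agent.S16230

/-- Let A be a local ring, n and m natural numbers with 2 ≤ m, q an n × n coefficient table over A whose
quadratic form Q(x) = Σ_{i≤j} q_ij x_i x_j is non-degenerate (the polar bilinear form has unit Gram
determinant, i.e. is a perfect pairing — the reading of non-degeneracy over the local ring A used
here), a an element of A, and F a formal power series in x_1, …, x_n over A all of whose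
coefficients in total degree at most m agree with those of Q + a. Then there are power series h_1,
…, h_n with no terms of total degree less than m such that substituting x_i + h_i for x_i in F gives
exactly Q + a; consequently A[[x]]/(F) and A[[x]]/(Q + a) are isomorphic as A-algebras. -/
theorem result
    (A : Type u) [CommRing A] [IsLocalRing A] (n m : ℕ) (hm : 2 ≤ m)
    (q : Fin n → Fin n → A) (hq : VanCyc.QuadNondeg q) (a : A)
    (F : MvPowerSeries (Fin n) A)
    (hF : ∀ e : Fin n →₀ ℕ, e.degree ≤ m →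
      MvPowerSeries.coeff e F = MvPowerSeries.coeff e ((VanCyc.quadPoly q + MvPolynomial.C a : MvPolynomial (Fin n) A) : MvPowerSeries (Fin n) A)) :
    ∃ h : Fin n → MvPowerSeries (Fin n) A,
      (∀ (i : Fin n) (e : Fin n →₀ ℕ), e.degree < m → MvPowerSeries.coeff e (h i) = 0) ∧
      MvPowerSeries.HasSubst (fun i => MvPowerSeries.X i + h i) ∧
      MvPowerSeries.subst (fun i => MvPowerSeries.X i + h i) F = ((VanCyc.quadPoly q + MvPolynomial.C a : MvPolynomial (Fin n) A) : MvPowerSeries (Fin n) A) ∧
      Nonempty ((MvPowerSeries (Fin n) A ⧸ Ideal.span {F}) ≃ₐ[A]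
        (MvPowerSeries (Fin n) A ⧸ Ideal.span {((VanCyc.quadPoly q + MvPolynomial.C a : MvPolynomial (Fin n) A) : MvPowerSeries (Fin n) A)})) := by
  classical
  obtain ⟨Q, hQ⟩ : ∃ Q : Matrix (Fin n) (Fin n) A,
      Q = Matrix.of fun i j => if i ≤ j then q i j else 0 := ⟨_, rfl⟩
  have hQcoe : ((VanCyc.quadPoly q : MvPolynomial (Fin n) A) : MvPowerSeries (Fin n) A) =
      Groth.Agent.Lib.Helper14.FormalMorse.qf Q Groth.Agent.Lib.Helper14.FormalMorse.Xv := by
    rw [VanCyc.quadPoly, Groth.Agent.Lib.Helper14.FormalMorse.qf,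
      ← Groth.Agent.Lib.Helper14.FormalIFT.coeA_apply, map_sum]
    apply Finset.sum_congr rfl
    intro i _
    rw [map_sum]
    apply Finset.sum_congr rfl
    intro j _
    rw [hQ, Matrix.of_apply]
    split_ifs with hij
    · rw [map_mul, map_mul, Groth.Agent.Lib.Helper14.FormalIFT.coeA_apply,
        Groth.Agent.Lib.Helper14.FormalIFT.coeA_apply, Groth.Agent.Lib.Helper14.FormalIFT.coeA_apply,
        MvPolynomial.coe_C, MvPolynomial.coe_X, MvPolynomial.coe_X]
      rfl
    · rw [map_zero, map_zero, zero_mul, zero_mul]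
  have hpol : Q + Q.transpose = VanCyc.polarMatrix q := by
    ext i j
    rw [Matrix.add_apply, Matrix.transpose_apply, hQ, Matrix.of_apply, Matrix.of_apply,
      VanCyc.polarMatrix]
    by_cases hij : i = j
    · subst hij
      simp [two_mul]
    · rw [if_neg hij]
      rcases lt_or_gt_of_ne hij with h | h
      · rw [if_pos h.le, if_neg (not_le.mpr h), if_pos h, add_zero]
      · rw [if_neg (not_le.mpr h), if_pos h.le, if_neg (not_lt.mpr h.le), zero_add]
  have hH : IsUnit (Q + Q.transpose).det := by
    rw [hpol]; exact hq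
  have hcoe : ((VanCyc.quadPoly q + MvPolynomial.C a : MvPolynomial (Fin n) A) :
      MvPowerSeries (Fin n) A) =
      Groth.Agent.Lib.Helper14.FormalMorse.qf Q Groth.Agent.Lib.Helper14.FormalMorse.Xv +
        MvPowerSeries.C a := by
    rw [MvPolynomial.coe_add, hQcoe, MvPolynomial.coe_C]
  rw [hcoe] at hF ⊢
  have hFil : Groth.Agent.Lib.Helper14.FormalIFT.Fil (m + 1)
      (F - (Groth.Agent.Lib.Helper14.FormalMorse.qf Q Groth.Agent.Lib.Helper14.FormalMorse.Xv +
        MvPowerSeries.C a)) := by
    intro e he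
    rw [map_sub, hF e (by omega), sub_self]
  obtain ⟨χ, h, hh, hχ, hχF⟩ := Groth.Agent.Lib.Helper14.FormalMorse.exists_algEquiv_eq Q hH m hm a F hFil
  have hh0 : ∀ i, MvPowerSeries.constantCoeff (h i) = 0 := by
    intro i
    rw [← MvPowerSeries.coeff_zero_eq_constantCoeff_apply]
    exact hh i 0 (by simp; omega)
  obtain ⟨hs, hsub⟩ := Groth.Agent.Lib.Helper14.FormalIFT.subst_eq_algEquiv χ h hh0 hχ
  refine ⟨h, fun i e he => hh i e he, hs, ?_, ?_⟩
  · rw [hsub, hχF]
  · refine ⟨Ideal.quotientEquivAlg _ _ χ ?_⟩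
    rw [Ideal.map_span, Set.image_singleton]
    have : ((χ : MvPowerSeries (Fin n) A ≃ₐ[A] MvPowerSeries (Fin n) A) :
        MvPowerSeries (Fin n) A →+* MvPowerSeries (Fin n) A) F =
        Groth.Agent.Lib.Helper14.FormalMorse.qf Q Groth.Agent.Lib.Helper14.FormalMorse.Xv +
          MvPowerSeries.C a := hχF
    rw [this]


end Groth.Agent.S16230
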