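import Mathlib
import Groth.Statements.S19878
import Groth.Agent.Lib.Helper6.IdealComap

set_option autoImplicit false
universe u
open LVCorr

namespace Aux

open AlgebraicGeometry CategoryTheory CategoryTheory.Limits AlgebraicGeometry.Scheme

/-- On a locally Noetherian scheme, an ideal sheaf with `J ^ k ≤ J ^ (k+1)` has open support. -/
lemma isOpen_support_of_pow_le {Y : Scheme.{u}} [IsLocallyNoetherian Y] (J : Y.IdealSheafData)
    (k : ℕ) (hJ : J ^ k ≤ J ^ (k + 1)) : IsOpen (J.support : Set Y) := by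
  rw [isOpen_iff_forall_mem_open]
  intro x hx
  obtain ⟨_, ⟨U, hU : IsAffineOpen U, rfl⟩, hxU, -⟩ :=
    (isBasis_affineOpens Y).exists_subset_of_mem_open (Set.mem_univ x) isOpen_univ
  let U' : Y.affineOpens := ⟨U, hU⟩
  set 𝔞 : Ideal Γ(Y, U) := J.ideal U' with h𝔞
  have hN : IsNoetherianRing Γ(Y, U) := IsLocallyNoetherian.component_noetherian U'
  have hle : 𝔞 ^ k ≤ 𝔞 ^ (k + 1) := by
    have := hJ U'
    simpa using this
  have heq : 𝔞 ^ (k + 1) = 𝔞 ^ k := le_antisymm (Ideal.pow_le_pow_right (Nat.le_succ k)) hle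
  have hstab : ∀ n, 𝔞 ^ (k + n) = 𝔞 ^ k := by
    intro n
    induction n with
    | zero => rfl
    | succ n ih => rw [← add_assoc, pow_succ, ih, ← pow_succ, heq]
  obtain ⟨𝔟, h𝔟⟩ : ∃ 𝔟 : Ideal Γ(Y, U), 𝔟 = 𝔞 ^ (k + 1) := ⟨_, rfl⟩
  have hidem : IsIdempotentElem 𝔟 := by
    show 𝔟 * 𝔟 = 𝔟
    rw [h𝔟, ← pow_add, show k + 1 + (k + 1) = k + (k + 2) by ring, hstab, heq]
  obtain ⟨e, he, hbe⟩ := (Ideal.isIdempotentElem_iff_of_fg 𝔟 (IsNoetherian.noetherian 𝔟)).mp hidem
  have he𝔞 : e ∈ 𝔞 := by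
    have : e ∈ 𝔟 := by rw [hbe]; exact Submodule.mem_span_singleton_self e
    rw [h𝔟] at this
    exact Ideal.pow_le_self (Nat.succ_ne_zero k) this
  refine ⟨(Y.basicOpen (1 - e) : Set Y), ?_, (Y.basicOpen (1 - e)).isOpen, ?_⟩
  · intro y hy
    have hyU : y ∈ U := Y.basicOpen_le _ hy
    rw [SetLike.mem_coe, IdealSheafData.mem_support_iff_of_mem (U := U') hyU, Scheme.mem_zeroLocus_iff]
    intro f hf hyf
    have hfb : f ^ (k + 1) ∈ 𝔟 := by rw [h𝔟]; exact Ideal.pow_mem_pow hf _
    rw [hbe] at hfb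
    obtain ⟨g, hg⟩ := Submodule.mem_span_singleton.mp hfb
    have h1 : y ∈ Y.basicOpen (f ^ (k + 1)) := by
      rw [Scheme.basicOpen_pow _ _ (Nat.succ_pos k)]; exact hyf
    rw [← hg, smul_eq_mul, Scheme.basicOpen_mul] at h1
    have h2 : y ∈ Y.basicOpen (e * (1 - e)) := by
      rw [Scheme.basicOpen_mul]; exact ⟨h1.2, hy⟩
    have h3 : e * (1 - e) = 0 := by rw [mul_sub, mul_one, he.eq, sub_self]
    rw [h3, Scheme.basicOpen_zero] at h2
    exact h2
  · have hx' := (IdealSheafData.mem_support_iff_of_mem (U := U') hxU).mp hx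
    rw [Scheme.mem_zeroLocus_iff] at hx'
    have hxe : x ∉ Y.basicOpen e := hx' e he𝔞
    rw [SetLike.mem_coe, Y.mem_basicOpen _ x hxU]
    rw [Y.mem_basicOpen _ x hxU] at hxe
    have hsum : Y.presheaf.germ U x hxU e + Y.presheaf.germ U x hxU (1 - e) = 1 := by
      rw [← map_add]; simp
    exact (IsLocalRing.isUnit_or_isUnit_of_add_one hsum).resolve_left hxe

end Aux

namespace Groth.Agent.S19878

open AlgebraicGeometry CategoryTheory CategoryTheory.Limits in
/-- Let k be a field, C a k-scheme of finite type, X a k-scheme and c = (c₁, c₂) : C → X ×_k X a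
correspondence; let Fix(c) = C ×_{X ×_k X} X be its scheme of fixed points (pullback along the
diagonal), with projections i : Fix(c) → C and δ : Fix(c) → X. Let Z ⊂ X be the closed subscheme of
a quasi-coherent ideal I and suppose c is contracting near Z in a neighbourhood of the fixed points:
there is an open W ⊆ C containing the image of Fix(c) such that on W the inverse image ideal of I
under c₁ is contained in the inverse image ideal of I under c₂ (c stabilizes Z on W) and some power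
(I·O_W via c₁)^k₀ is contained in (I·O_W via c₂)^(k₀+1). Then every connected open subset β of
Fix(c) whose image under δ meets Z is contained, as a set, in δ⁻¹(Z). (The source works with
separated schemes of finite type over an algebraically closed field; this row assumes only that C is
of finite type over a field k.) -/
theorem result {C X Fx : Scheme.{u}} (k : Type u) [Field k]
    (pC : C ⟶ Spec (CommRingCat.of k)) [LocallyOfFiniteType pC] [QuasiCompact pC]
    (pX : X ⟶ Spec (CommRingCat.of k)) (c₁ c₂ : C ⟶ X) (hc : c₁ ≫ pX = c₂ ≫ pX)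
    (i : Fx ⟶ C) (δ : Fx ⟶ X) (hF : IsPullback i δ (pullback.lift c₁ c₂ hc) (pullback.diagonal pX))
    (I : X.IdealSheafData) (W : C.Opens) (hW : Set.range i.base ⊆ (W : Set C))
    (hle : I.comap (W.ι ≫ c₁) ≤ I.comap (W.ι ≫ c₂))
    (k₀ : ℕ) (hpow : I.comap (W.ι ≫ c₁) ^ k₀ ≤ I.comap (W.ι ≫ c₂) ^ (k₀ + 1))
    (β : Fx.Opens) (hβ : _root_.IsConnected (β : Set Fx))
    (hβZ : (δ.base '' (β : Set Fx) ∩ (I.support : Set X)).Nonempty) :
    (β : Set Fx) ⊆ δ.base ⁻¹' (I.support : Set X) := by
  have hi : IsImmersion i :=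
    MorphismProperty.of_isPullback (P := @IsImmersion) hF.flip inferInstance
  have hCN : IsLocallyNoetherian C := LocallyOfFiniteType.isLocallyNoetherian pC
  have hFN : IsLocallyNoetherian Fx := LocallyOfFiniteType.isLocallyNoetherian i
  have h1 : i ≫ c₁ = δ := by
    have := hF.w =≫ pullback.fst pX pX
    rw [Category.assoc, pullback.lift_fst, Category.assoc, pullback.diagonal_fst,
      Category.comp_id] at this
    exact this
  have h2 : i ≫ c₂ = δ := by
    have := hF.w =≫ pullback.snd pX pX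
    rw [Category.assoc, pullback.lift_snd, Category.assoc, pullback.diagonal_snd,
      Category.comp_id] at this
    exact this
  have hW' : Set.range i.base ⊆ Set.range W.ι.base := by
    simpa using hW
  let i' : Fx ⟶ W.toScheme := IsOpenImmersion.lift W.ι i hW'
  have hi' : i' ≫ W.ι = i := IsOpenImmersion.lift_fac _ _ _
  set J := I.comap δ with hJ
  have hJ1 : J = (I.comap (W.ι ≫ c₁)).comap i' := by
    rw [← Scheme.IdealSheafData.comap_comp, ← Category.assoc, hi', h1]
  have hJ2 : J = (I.comap (W.ι ≫ c₂)).comap i' := by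
    rw [← Scheme.IdealSheafData.comap_comp, ← Category.assoc, hi', h2]
  have hJpow : J ^ k₀ ≤ J ^ (k₀ + 1) := by
    calc J ^ k₀ = ((I.comap (W.ι ≫ c₁)) ^ k₀).comap i' := by
          rw [Groth.Agent.Lib.Helper6.IdealComap.comap_pow, ← hJ1]
      _ ≤ ((I.comap (W.ι ≫ c₂)) ^ (k₀ + 1)).comap i' :=
          Scheme.IdealSheafData.comap_mono _ hpow
      _ = J ^ (k₀ + 1) := by
          rw [Groth.Agent.Lib.Helper6.IdealComap.comap_pow, ← hJ2]
  have hsupp : (J.support : Set Fx) = δ.base ⁻¹' (I.support : Set X) := by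
    rw [hJ, Scheme.IdealSheafData.support_comap]; rfl
  have hopen : IsOpen (J.support : Set Fx) := Aux.isOpen_support_of_pow_le J k₀ hJpow
  have hclopen : IsClopen (J.support : Set Fx) := ⟨J.support.isClosed, hopen⟩
  rw [← hsupp]
  apply hβ.isPreconnected.subset_isClopen hclopen
  obtain ⟨y, ⟨x, hxβ, rfl⟩, hy⟩ := hβZ
  exact ⟨x, hxβ, by rw [hsupp]; exact hy⟩

end Groth.Agent.S19878
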