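import Groth.Statements.S4989
-- import your own Groth.Agent.* helpers here
import Mathlib
import Groth.Agent.Lib.Helper22.SmoothNormalSch

set_option autoImplicit false
universe u
open CategoryTheory CategoryTheory.Limits AlgebraicGeometry TopologicalSpace
open Unram17

namespace Groth.Agent.S4989

/-- Let f : X ⟶ Y be locally of finite presentation and smooth at a point x with image y. Then the local
ring of X at x is reduced if and only if the local ring of Y at y is reduced, and it is an
integrally closed domain if and only if the local ring of Y at y is one. (The published statement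
also covers geometrically unibranch local rings; this row states only the reduced and the integrally
closed cases.) -/
theorem result {X Y : Scheme.{u}} (f : X ⟶ Y)
    [LocallyOfFinitePresentation f] (x : ↥X) (hx : x ∈ f.smoothLocus) :
    (IsReduced ↑(X.presheaf.stalk x) ↔ IsReduced ↑(Y.presheaf.stalk (f.base x))) ∧
    ((IsDomain ↑(X.presheaf.stalk x) ∧ IsIntegrallyClosed ↑(X.presheaf.stalk x)) ↔
      (IsDomain ↑(Y.presheaf.stalk (f.base x)) ∧ IsIntegrallyClosed ↑(Y.presheaf.stalk (f.base x)))) := by
  classical
  set U := f.smoothLocus with hU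
  haveI hsm : Smooth (U.ι ≫ f) := by
    rw [← Scheme.Hom.smoothLocus_eq_top_iff, ← Scheme.Hom.preimage_smoothLocus_eq]
    ext y
    simp only [Scheme.Hom.mem_preimage, TopologicalSpace.Opens.coe_top, Set.mem_univ, iff_true,
      SetLike.mem_coe]
    exact y.2
  let x' : ↥(U.toScheme) := ⟨x, hx⟩
  have h := Groth.Agent.Lib.Helper22.SmoothNormalSch.stalk_iff_of_smooth (U.ι ≫ f) x'
  let e : X.presheaf.stalk x ≃+* (U : Scheme.{u}).presheaf.stalk x' :=
    (asIso (U.ι.stalkMap x')).commRingCatIsoToRingEquiv
  obtain ⟨h1, h2⟩ := h
  constructor
  · constructor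
    · intro hh
      haveI := hh
      exact h1.mp (isReduced_of_injective e.symm.toRingHom e.symm.injective)
    · intro hh
      haveI := h1.mpr hh
      exact isReduced_of_injective e.toRingHom e.injective
  · constructor
    · rintro ⟨hd, hic⟩
      haveI := hd
      haveI := hic
      exact h2.mp ⟨MulEquiv.isDomain _ e.symm.toMulEquiv, IsIntegrallyClosed.of_equiv e⟩
    · intro hh
      obtain ⟨hd, hic⟩ := h2.mpr hh
      haveI := hd
      haveI := hic
      exact ⟨MulEquiv.isDomain _ e.toMulEquiv, IsIntegrallyClosed.of_equiv e.symm⟩

end Groth.Agent.S4989
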