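-- Statement S9296.
import Groth.Statements.S9296
import Mathlib
import Groth.Agent.Lib.Helper1.NagataTop
import Groth.Agent.Lib.Helper4.RkLift

set_option autoImplicit false
universe u
open EGA4

namespace Groth.Agent.S9296

/-- For a Noetherian ring R, the set of primes at which R is regular is open in Spec R (R is J-1)
exactly when, for each such prime p, some nonempty open part of the closed set V(p) consists of
primes at which R is regular. Stated with an open U of Spec R whose trace on V(p) is nonempty and
contained in the regular locus. -/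
theorem result (R : Type u) [CommRing R] [IsNoetherianRing R] :
    IsOpen (EGA4.regLocus R) ↔
      ∀ p ∈ EGA4.regLocus R, ∃ U : Set (PrimeSpectrum R), IsOpen U ∧
        (U ∩ PrimeSpectrum.zeroLocus (p.asIdeal : Set R)).Nonempty ∧
        U ∩ PrimeSpectrum.zeroLocus (p.asIdeal : Set R) ⊆ EGA4.regLocus R := by
  constructor
  · intro h p hp
    refine ⟨_, h, ⟨p, hp, ?_⟩, Set.inter_subset_left⟩
    rw [PrimeSpectrum.mem_zeroLocus]
  · intro H
    apply Groth.Agent.Lib.Helper1.NagataTop.isOpen_of_nagata
    · intro x y hyx hx
      have hle : y.asIdeal ≤ x.asIdeal := (PrimeSpectrum.le_iff_specializes y x).2 hyx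
      haveI : IsRegularLocalRing (Localization.AtPrime x.asIdeal) := hx
      exact Groth.Agent.Lib.Helper4.RkLift.isRegularLocalRing_atPrime_of_le y.asIdeal x.asIdeal hle
    · intro x hx
      obtain ⟨U, hU, hne, hsub⟩ := H x hx
      rw [PrimeSpectrum.closure_singleton]
      exact ⟨U, hU, hne, hsub⟩

end Groth.Agent.S9296
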