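import Groth.Statements.S5774
import Mathlib
import Groth.Agent.Lib.Helper9.RegFlat

set_option autoImplicit false
universe u
open EGA41

namespace Groth.Agent.S5774


open TensorProduct RingTheory.Sequence
open scoped Pointwise
open Groth.Agent.Lib.Helper9.RegFlat Groth.Agent.Lib.Helper9.FlatCoker

theorem main (A B : Type u) [CommRing A] [CommRing B]
    [IsLocalRing A] [IsLocalRing B] [IsNoetherianRing A] [IsNoetherianRing B] [Algebra A B]
    [IsLocalHom (algebraMap A B)] (fs : List B) :
    ∀ (M : Type u) [AddCommGroup M] [Module B M] [Module A M]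
    [IsScalarTower A B M] [Module.Finite B M] [Module.Flat A M],
    RingTheory.Sequence.IsWeaklyRegular
      (M ⧸ ((IsLocalRing.maximalIdeal A).map (algebraMap A B) • (⊤ : Submodule B M))) fs →
    RingTheory.Sequence.IsWeaklyRegular M fs ∧
      ∀ i ≤ fs.length, Module.Flat A (M ⧸ (Ideal.ofList (fs.take i) • (⊤ : Submodule B M))) := by
  induction fs with
  | nil =>
    intro M _ _ _ _ _ _ _
    refine ⟨IsWeaklyRegular.nil B M, ?_⟩
    intro i _
    have hp : Ideal.ofList (([] : List B).take i) • (⊤ : Submodule B M) = ⊥ := by
      rw [List.take_nil, Ideal.ofList_nil, Submodule.bot_smul]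
    exact Module.Flat.of_linearEquiv ((Submodule.quotEquivOfEqBot _ hp).restrictScalars A)
  | cons f fs ih =>
    intro M _ _ _ _ _ _ hreg
    rw [isWeaklyRegular_cons_iff] at hreg ⊢
    obtain ⟨h1, h2⟩ := hreg
    obtain ⟨hf, hflat⟩ := regular_and_flat_quot M f h1
    haveI := hflat
    have h2' := ((quotSwap M ((IsLocalRing.maximalIdeal A).map (algebraMap A B)) f).isWeaklyRegular_congr
      fs).mp h2
    obtain ⟨ih1, ih2⟩ := ih (QuotSMulTop f M) h2'
    refine ⟨⟨hf, ih1⟩, ?_⟩
    intro i hi
    cases i with
    | zero =>
      have hp : Ideal.ofList ((f :: fs).take 0) • (⊤ : Submodule B M) = ⊥ := by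
        rw [List.take_zero, Ideal.ofList_nil, Submodule.bot_smul]
      exact Module.Flat.of_linearEquiv ((Submodule.quotEquivOfEqBot _ hp).restrictScalars A)
    | succ j =>
      have hj : j ≤ fs.length := Nat.le_of_succ_le_succ hi
      haveI := ih2 j hj
      exact Module.Flat.of_linearEquiv
        ((Submodule.quotOfListConsSMulTopEquivQuotSMulTopInner M f (fs.take j)).restrictScalars A)

/-- Let A → B be a local homomorphism of Noetherian local rings, m the maximal ideal of A and k = A/m, M
a finitely generated B-module which is flat over A, and f_1, ..., f_n elements of B whose images g_i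
in B ⊗_A k form an (M ⊗_A k)-regular sequence. Then (f_i) is an M-regular sequence and the quotients
M/(f_1 M + ... + f_i M), 0 ≤ i ≤ n, are flat over A. (The f_i are not required to lie in the maximal
ideal of B.) -/
theorem result (A B : Type u) [CommRing A] [CommRing B]
    [IsLocalRing A] [IsLocalRing B] [IsNoetherianRing A] [IsNoetherianRing B] [Algebra A B]
    [IsLocalHom (algebraMap A B)] (M : Type u) [AddCommGroup M] [Module B M] [Module A M]
    [IsScalarTower A B M] [Module.Finite B M] [Module.Flat A M] (fs : List B)
    (hreg : RingTheory.Sequence.IsWeaklyRegular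
      (M ⧸ ((IsLocalRing.maximalIdeal A).map (algebraMap A B) • (⊤ : Submodule B M))) fs) :
    RingTheory.Sequence.IsWeaklyRegular M fs ∧
      ∀ i ≤ fs.length, Module.Flat A (M ⧸ (Ideal.ofList (fs.take i) • (⊤ : Submodule B M))) := by
  exact main A B fs M hreg

end Groth.Agent.S5774
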