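import Groth.Statements.S14577
import Groth.Agent.Lib.Helper11.AA4

set_option autoImplicit false
universe u
open CategoryTheory MonoidalCategory CartesianMonoidalCategory MonObj GrpObj AlgebraicGeometry CategoryTheory.Limits
open AlgGrp

namespace Groth.Agent.S14577

open Groth.Agent.Lib.Helper11 in
theorem main (k : Type u) [Field k]
    (X Y Z : Over (Spec (CommRingCat.of k))) [QuasiCompact X.hom] [IsSeparated X.hom]
    (hX : Function.Bijective ((Scheme.ΓSpecIso (CommRingCat.of k)).inv ≫ X.hom.appTop).hom)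
    [IsLocallyNoetherian Y.left] [IrreducibleSpace ↥Y.left] [IsReduced Y.left] [IsSeparated Z.hom]
    (x₀ : 𝟙_ (Over (Spec (CommRingCat.of k))) ⟶ X) (y₀ : 𝟙_ (Over (Spec (CommRingCat.of k))) ⟶ Y) (f : X ⊗ Y ⟶ Z)
    (hf : (X ◁ y₀) ≫ f = toUnit _ ≫ lift x₀ y₀ ≫ f) :
    f = snd X Y ≫ lift (toUnit Y ≫ x₀) (𝟙 Y) ≫ f := by
  set g : X ⊗ Y ⟶ Z := snd X Y ≫ lift (toUnit Y ≫ x₀) (𝟙 Y) ≫ f with hg_def
  have hg : (X ◁ y₀) ≫ g = toUnit _ ≫ lift x₀ y₀ ≫ f := by
    rw [hg_def, ← Category.assoc, whiskerLeft_snd, Category.assoc, ← Category.assoc y₀]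
    have h1 : y₀ ≫ lift (toUnit Y ≫ x₀) (𝟙 Y) = lift x₀ y₀ := by
      apply CartesianMonoidalCategory.hom_ext
      · rw [Category.assoc, lift_fst, lift_fst, ← Category.assoc]
        have : y₀ ≫ toUnit Y = 𝟙 _ := toUnit_unique _ _
        rw [this, Category.id_comp]
      · rw [Category.assoc, lift_snd, lift_snd, Category.comp_id]
    rw [h1]
    congr 1
    exact toUnit_unique _ _
  have hfg : (x₀ ▷ Y) ≫ f = (x₀ ▷ Y) ≫ g := by
    rw [hg_def, ← Category.assoc, whiskerRight_snd, ← Category.assoc]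
    congr 1
    apply CartesianMonoidalCategory.hom_ext
    · rw [whiskerRight_fst, Category.assoc, lift_fst, ← Category.assoc]
      congr 1
      exact toUnit_unique _ _
    · rw [whiskerRight_snd, Category.assoc, lift_snd, Category.comp_id]
  haveI : Flat X.hom := inferInstance
  obtain ⟨V, hV1, hV2⟩ := AA4.local_rigidity_over X Y Z hX x₀ y₀ (lift x₀ y₀ ≫ f) f g hf hg hfg
  exact AA4.eq_of_good_of_integral f g V ⟨_, hV1⟩ hV2

/-- Let k be a field, X a quasi-compact separated k-scheme with O(X) = k, Y a separated, reduced and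
irreducible locally Noetherian k-scheme, Z a separated k-scheme, and x₀, y₀ rational points of X, Y.
If a k-morphism f : X × Y → Z satisfies f(x, y₀) = f(x₀, y₀) identically (as morphisms from X), then
f(x, y) = f(x₀, y) identically on X × Y. (The published statement does not ask Y to be reduced; the
final density step of its proof uses that the infinitesimal neighbourhoods of y₀ are schematically
dense in Y, which holds when Y is moreover reduced, so Y is taken reduced, hence integral, here.) -/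
theorem result (k : Type u) [Field k]
    (X Y Z : Over (Spec (CommRingCat.of k))) [QuasiCompact X.hom] [IsSeparated X.hom]
    (hX : Function.Bijective ((Scheme.ΓSpecIso (CommRingCat.of k)).inv ≫ X.hom.appTop).hom)
    [IsSeparated Y.hom] [IsLocallyNoetherian Y.left] [IrreducibleSpace ↥Y.left] [IsReduced Y.left] [IsSeparated Z.hom]
    (x₀ : 𝟙_ (Over (Spec (CommRingCat.of k))) ⟶ X) (y₀ : 𝟙_ (Over (Spec (CommRingCat.of k))) ⟶ Y) (f : X ⊗ Y ⟶ Z)
    (hf : (X ◁ y₀) ≫ f = toUnit _ ≫ lift x₀ y₀ ≫ f) :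
    f = snd X Y ≫ lift (toUnit Y ≫ x₀) (𝟙 Y) ≫ f := by
  exact main k X Y Z hX x₀ y₀ f hf

end Groth.Agent.S14577
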