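import Groth.Statements.S12724
import Mathlib
import Groth.Agent.Lib.Helper19.ArtFunBasic
import Groth.Agent.Lib.Helper19.ArtFunLength

set_option autoImplicit false
universe u v
open CategoryTheory
open ArtFun

namespace Groth.Agent.S12724

open Groth.Agent.Lib.Helper19.ArtFunBasic Groth.Agent.Lib.Helper19.ArtFunLength
open ArtFun.Art

/-- the property propagated along factorizations of a surjection -/
def P {Λ : Type u} {k : Type u} [CommRing Λ] [Field k] [Algebra Λ k]
    (F : ArtFun.Art Λ k ⥤ Type v) ⦃A A'' : ArtFun.Art Λ k⦄ (f'' : A'' ⟶ A) : Prop :=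
  Function.Surjective f'' ∧
    ∀ ⦃B A' : ArtFun.Art Λ k⦄ (p' : B ⟶ A') (p'' : B ⟶ A'') (f' : A' ⟶ A)
      (h : IsFibreProd p' p'' f' f''), Function.Surjective (cmp F h)

theorem P_iso {Λ : Type u} {k : Type u} [CommRing Λ] [Field k] [Algebra Λ k]
    (F : ArtFun.Art Λ k ⥤ Type v) ⦃A A'' : ArtFun.Art Λ k⦄ (e : A'' ⟶ A) (he : IsIso e) :
    P F e := by
  have hbij : Function.Bijective e := bijective_of_isIso e
  refine ⟨hbij.2, ?_⟩
  intro B A' p' p'' f' h x
  have hp' : Function.Bijective p' := by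
    constructor
    · intro b₁ b₂ hb
      apply h.inj b₁ b₂ hb
      apply hbij.1
      rw [← h.w_apply, ← h.w_apply]
      exact congrArg _ hb
    · intro a'
      obtain ⟨a'', ha''⟩ := hbij.2 (f' a')
      obtain ⟨b, hb, -⟩ := h.surj a' a'' ha''.symm
      exact ⟨b, hb⟩
  haveI : IsIso p' := isIso_of_bijective p' hp'
  refine ⟨F.map (inv p') x.1.1, ?_⟩
  have h1 : F.map p' (F.map (inv p') x.1.1) = x.1.1 := by
    change (F.map (inv p') ≫ F.map p') x.1.1 = x.1.1
    rw [← F.map_comp, IsIso.inv_hom_id, F.map_id]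
    rfl
  apply FibProd.ext
  · exact h1
  · change F.map p'' (F.map (inv p') x.1.1) = x.1.2
    have hinj : Function.Injective (F.map e) := by
      have : IsIso (F.map e) := inferInstance
      exact ((isIso_iff_bijective (F.map e)).mp this).1
    apply hinj
    have h2 : F.map e (F.map p'' (F.map (inv p') x.1.1)) =
        F.map f' (F.map p' (F.map (inv p') x.1.1)) := by
      change (F.map p'' ≫ F.map e) _ = (F.map p' ≫ F.map f') _
      rw [← F.map_comp, ← F.map_comp, h.w]
    rw [h2, h1]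
    exact x.2

theorem P_comp {Λ : Type u} {k : Type u} [CommRing Λ] [Field k] [Algebra Λ k]
    [IsNoetherianRing Λ] [Module.Finite Λ k]
    (F : ArtFun.Art Λ k ⥤ Type v) ⦃A B₀ C : ArtFun.Art Λ k⦄ (p : C ⟶ B₀) (q : B₀ ⟶ A)
    (hp : P F p) (hq : P F q) : P F (p ≫ q) := by
  refine ⟨hq.1.comp hp.1, ?_⟩
  intro B A' p' p'' f' h x
  obtain ⟨B₁, r', r'', hB₁⟩ := exists_isFibreProd f' q hq.1
  -- the map `t : B ⟶ B₁`
  have hφ : f'.toAlgHom.comp p'.toAlgHom = q.toAlgHom.comp (p.toAlgHom.comp p''.toAlgHom) := by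
    have := congrArg Art.Hom.toAlgHom h.w
    simpa [AlgHom.comp_assoc] using this
  obtain ⟨t₀, ht₁, ht₂⟩ := exists_lift_of_isFibreProd hB₁ p'.toAlgHom
    (p.toAlgHom.comp p''.toAlgHom) hφ
  have htres : B₁.res.comp t₀ = B.res := by
    rw [← r'.res_comp, AlgHom.comp_assoc, ht₁, p'.res_comp]
  let t : B ⟶ B₁ := Art.homMk t₀ htres
  have ht₁' : ∀ b, r' (t b) = p' b := fun b => AlgHom.congr_fun ht₁ b
  have ht₂' : ∀ b, r'' (t b) = p (p'' b) := fun b => AlgHom.congr_fun ht₂ b
  have hsq : IsFibreProd t p'' r'' p := by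
    refine ⟨?_, ?_, ?_⟩
    · apply Art.hom_ext
      exact ht₂
    · intro b₁ b₂ h1 h2
      apply h.inj b₁ b₂ _ h2
      rw [← ht₁', ← ht₁', h1]
    · intro b₁ c hbc
      have h3 : f' (r' b₁) = (p ≫ q) c := by
        rw [hB₁.w_apply, hbc]
        rfl
      obtain ⟨b, hb1, hb2⟩ := h.surj (r' b₁) c h3
      refine ⟨b, ?_, hb2⟩
      apply hB₁.inj
      · rw [ht₁', hb1]
      · rw [ht₂', hb2, hbc]
  -- first step
  have hx : F.map f' x.1.1 = F.map q (F.map p x.1.2) := by
    have h1 : F.map f' x.1.1 = F.map (p ≫ q) x.1.2 := x.2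
    have h2 : ∀ w, F.map (p ≫ q) w = F.map q (F.map p w) := by
      intro w
      rw [F.map_comp]
      rfl
    exact h1.trans (h2 _)
  obtain ⟨y, hy⟩ := hq.2 r' r'' f' hB₁ ⟨(x.1.1, F.map p x.1.2), hx⟩
  have hy1 : F.map r' y = x.1.1 := congrArg (fun w => w.1.1) hy
  have hy2 : F.map r'' y = F.map p x.1.2 := congrArg (fun w => w.1.2) hy
  obtain ⟨z, hz⟩ := hp.2 t p'' r'' hsq ⟨(y, x.1.2), hy2⟩
  have hz1 : F.map t z = y := congrArg (fun w => w.1.1) hz
  have hz2 : F.map p'' z = x.1.2 := congrArg (fun w => w.1.2) hz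
  refine ⟨z, ?_⟩
  apply FibProd.ext
  · change F.map p' z = x.1.1
    have : p' = t ≫ r' := by
      apply Art.hom_ext
      exact ht₁.symm
    rw [this, F.map_comp]
    change F.map r' (F.map t z) = _
    rw [hz1, hy1]
  · exact hz2

/-- For functors, condition (S1) on a functor F on Artinian local Λ-algebras with residue field k
(surjectivity of F(A₁ ×_A A₂) → F(A₁) ×_{F(A)} F(A₂) for A₂ → A surjective) is equivalent to the
same condition restricted to small extensions A₂ → A. -/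
theorem result {Λ : Type u} {k : Type u} [CommRing Λ] [Field k] [Algebra Λ k]
    [IsNoetherianRing Λ] [Module.Finite Λ k]
    (F : ArtFun.Art Λ k ⥤ Type v) : ArtFun.S1 F ↔ ArtFun.Hbar F := by
  constructor
  · intro h B A A' A'' p' p'' f' f'' hsq hsm
    exact h p' p'' f' f'' hsq hsm.1
  · intro h B A A' A'' p' p'' f' f'' hsq hsurj
    have key : P F f'' := by
      refine surjective_induction (P F) (P_iso F) ?_ (P_comp F) f'' hsurj
      intro A B p hp
      exact ⟨hp.1, fun B' A' p' p'' f' hsq' => h p' p'' f' p hsq' hp⟩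
    exact key.2 p' p'' f' hsq

end Groth.Agent.S12724
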