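import Groth.Statements.S11268
import Mathlib

set_option autoImplicit false
open W4bk4grassmannian

namespace Groth.Agent.S11268

open W4bk4grassmannian in
/-- Let τ < w in I(d,n), the strictly increasing maps Fin d → Fin n ordered entrywise. Then there is a
Schubert divisor φ of w, i.e. φ < w with Σ_t (φ_t - t) + 1 = Σ_t (w_t - t), such that τ ≤ φ: every
proper Schubert subvariety of X(w) lies in a Schubert divisor of X(w). -/
theorem result (d n : ℕ) (τ w : Idx d n) (h : τ < w) :
    ∃ φ ∈ divisors w, τ ≤ φ := by
  classical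
  have hle : ∀ s, τ.1 s ≤ w.1 s := fun s => (le_of_lt h) s
  have hex : ∃ t, τ.1 t < w.1 t := by
    by_contra hne
    push_neg at hne
    exact lt_irrefl _ (lt_of_lt_of_le h (fun s => hne s))
  obtain ⟨t, ht, hmin⟩ := WellFounded.has_min (wellFounded_lt (α := Fin d)) {t | τ.1 t < w.1 t} hex
  have heq : ∀ s, s < t → τ.1 s = w.1 s := by
    intro s hs
    by_contra hne
    exact hmin s (lt_of_le_of_ne (hle s) hne) hs
  have hval : ∀ (a : Idx d n) (k : ℕ) (hk : k < d), k ≤ (a.1 ⟨k, hk⟩).val := by
    intro a k
    induction k with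
    | zero => intro _; exact Nat.zero_le _
    | succ k ih =>
      intro hk
      have h1 := ih (by omega)
      have h2 : a.1 ⟨k, by omega⟩ < a.1 ⟨k + 1, hk⟩ := a.2 (by simp [Fin.lt_def])
      have h3 := Fin.lt_def.mp h2
      omega
  have htτ : t.val ≤ (τ.1 t).val := hval τ t.val t.isLt
  have htw : (τ.1 t).val < (w.1 t).val := Fin.lt_def.mp ht
  have hwn : (w.1 t).val < n := (w.1 t).isLt
  let f : Fin d → Fin n := fun s => if s = t then ⟨(w.1 t).val - 1, by omega⟩ else w.1 s
  have hft : (f t).val = (w.1 t).val - 1 := by simp [f]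
  have hfs : ∀ s, s ≠ t → f s = w.1 s := by intro s hs; simp [f, hs]
  have hf : StrictMono f := by
    intro a b hab
    by_cases ha : a = t
    · subst ha
      have hb : b ≠ a := ne_of_gt hab
      rw [hfs b hb, Fin.lt_def, hft]
      have := Fin.lt_def.mp (w.2 hab)
      omega
    · by_cases hb : b = t
      · subst hb
        rw [hfs a ha, Fin.lt_def, hft, ← heq a hab]
        have := Fin.lt_def.mp (τ.2 hab)
        omega
      · rw [hfs a ha, hfs b hb]
        exact w.2 hab
  refine ⟨⟨f, hf⟩, ⟨?_, ?_⟩, ?_⟩
  · refine lt_of_le_of_ne ?_ ?_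
    · intro s
      by_cases hs : s = t
      · subst hs
        show f s ≤ w.1 s
        rw [Fin.le_def, hft]; omega
      · show f s ≤ w.1 s
        rw [hfs s hs]
    · intro hfw
      have : f t = w.1 t := congrFun (congrArg Subtype.val hfw) t
      have := congrArg Fin.val this
      rw [hft] at this
      omega
  · unfold codeg
    rw [← Finset.add_sum_erase Finset.univ _ (Finset.mem_univ t),
      ← Finset.add_sum_erase Finset.univ (fun s => (w.1 s).val - s.val) (Finset.mem_univ t)]
    have : ∀ s ∈ Finset.univ.erase t, ((⟨f, hf⟩ : Idx d n).1 s).val - s.val = (w.1 s).val - s.val := by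
      intro s hs
      have hs' : s ≠ t := (Finset.mem_erase.mp hs).1
      show (f s).val - s.val = _
      rw [hfs s hs']
    rw [Finset.sum_congr rfl this]
    show (f t).val - t.val + _ + 1 = _
    rw [hft]
    omega
  · intro s
    by_cases hs : s = t
    · subst hs
      show τ.1 s ≤ f s
      rw [Fin.le_def, hft]; omega
    · show τ.1 s ≤ f s
      rw [hfs s hs]; exact hle s

end Groth.Agent.S11268
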