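import Groth.Statements.S18020
import Mathlib

set_option autoImplicit false
open W4c5stacksedinertia

namespace Groth.Agent.S18020


universe u in
theorem card_rep_of (G : Type u) [Group G] [Finite G] :
    (Idx.of G).card = Nat.card G := by
  unfold Idx.card Idx.rep Idx.of
  obtain ⟨e⟩ : Nonempty ((Quotient.out (s := FinGrp.setoid) (Quotient.mk FinGrp.setoid (FinGrp.of G))).carrier ≃*
      (FinGrp.of G).carrier) := Quotient.mk_out (s := FinGrp.setoid) (FinGrp.of G)
  rw [Nat.card_congr e.toEquiv]
  change Nat.card (Fin (Nat.card G)) = Nat.card G
  simp

open W4c5stacksedinertia in
/-- In the rational vector space K with basis the isomorphism classes of finite groups (the class of a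
group standing for its classifying groupoid), the inertia operator, which sends the class of a
finite group to the sum over its conjugacy classes of the classes of the centralizers of
representatives, preserves the subspace spanned by the classes of groups of order at most `n`. -/
theorem result (n : ℕ) (v : K) (hv : v ∈ Kle n) :
    inertia v ∈ Kle n := by
  classical
  unfold inertia inertiaR
  rw [Finsupp.linearCombination_apply]
  apply Submodule.sum_mem
  intro i hi
  apply Submodule.smul_mem
  have hin : i.card ≤ n := (Finsupp.mem_supported _ _).mp hv hi
  unfold inertiaROf
  apply finsum_induction (p := fun x => x ∈ Kle n)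
  · exact Submodule.zero_mem _
  · intro x y hx hy; exact Submodule.add_mem _ hx hy
  · intro O
    unfold cl
    apply Finsupp.single_mem_supported
    change (Idx.of _).card ≤ n
    rw [card_rep_of]
    refine le_trans ?_ hin
    exact Subgroup.card_le_card_group _

end Groth.Agent.S18020
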