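import Groth.Statements.S3581
import Mathlib

set_option autoImplicit false
universe u
open CategoryTheory CategoryTheory.Limits AlgebraicGeometry
open EGA2

namespace Groth.Agent.S3581

/-- Over an affine base Spec A, Proj of the graded polynomial algebra A[T] (T of degree one) is
identified with Spec A by its structure morphism: the structure morphism from projective 0-space
over A to Spec A is an isomorphism. -/
theorem result (A : Type u) [CommRing A] :
    IsIso (CohB1.ProjSpace.toSpec 0 A) := by
  classical
  have hf : (MvPolynomial.X 0 : MvPolynomial (Fin (0 + 1)) A) ∈ CohB1.polyGrading 0 A 1 :=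
    MvPolynomial.isHomogeneous_X A 0
  have hmono : ∀ (i : ℕ) (g : MvPolynomial (Fin (0 + 1)) A), g ∈ CohB1.polyGrading 0 A i →
      g = MvPolynomial.C (MvPolynomial.coeff (Finsupp.single 0 i) g) *
        (MvPolynomial.X 0) ^ i := by
    intro i g hg
    rw [MvPolynomial.C_mul_X_pow_eq_monomial]
    ext d
    rw [MvPolynomial.coeff_monomial]
    split_ifs with h
    · rw [h]
    · have hg' : MvPolynomial.IsHomogeneous g i := hg
      apply hg'.coeff_eq_zero
      intro hd
      apply h
      have h1 : d = Finsupp.single 0 (d 0) := by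
        ext j
        have hj : j = 0 := by
          apply Fin.ext
          have := j.isLt
          simp only [Fin.val_zero]
          omega
        rw [hj, Finsupp.single_eq_same]
      have h2 : d.degree = d 0 := by
        have := Finsupp.degree_single (0 : Fin (0 + 1)) (d 0)
        rw [← h1] at this
        exact this
      exact (h1.trans (congrArg (Finsupp.single 0) (h2.symm.trans hd))).symm
  have htop : Proj.basicOpen (CohB1.polyGrading 0 A) (MvPolynomial.X 0) = ⊤ := by
    have h := Proj.iSup_basicOpen_eq_top (CohB1.polyGrading 0 A)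
      (fun _ : Unit => (MvPolynomial.X 0 : MvPolynomial (Fin (0 + 1)) A)) (by
        rw [HomogeneousIdeal.toIdeal_irrelevant_le]
        intro i hi g hg
        have hg' : g ∈ CohB1.polyGrading 0 A i := hg
        rw [hmono i g hg']
        apply Ideal.mul_mem_left
        exact Ideal.pow_mem_of_mem _ (Ideal.subset_span (Set.mem_range_self ())) i hi)
    rwa [iSup_const] at h
  let ψ : A →+* HomogeneousLocalization.Away (CohB1.polyGrading 0 A)
      (MvPolynomial.X 0 : MvPolynomial (Fin (0 + 1)) A) :=
    (HomogeneousLocalization.fromZeroRingHom (CohB1.polyGrading 0 A) _).comp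
      (algebraMap A (CohB1.polyGrading 0 A 0))
  have hψval : ∀ c : A, (ψ c).val = Localization.mk (MvPolynomial.C c) 1 := fun c => rfl
  have hsurj : Function.Surjective ψ := by
    intro x
    obtain ⟨n, a, ha, rfl⟩ :=
      HomogeneousLocalization.Away.mk_surjective (CohB1.polyGrading 0 A) hf x
    have key := hmono (n • 1) a ha
    rw [smul_eq_mul, mul_one] at key
    refine ⟨MvPolynomial.coeff (Finsupp.single 0 n) a, ?_⟩
    apply HomogeneousLocalization.val_injective
    rw [hψval, HomogeneousLocalization.Away.val_mk, Localization.mk_eq_mk_iff,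
      Localization.r_iff_exists]
    refine ⟨1, ?_⟩
    simp only [OneMemClass.coe_one, one_mul]
    rw [mul_comm]
    exact key.symm
  have hinj : Function.Injective ψ := by
    intro c1 c2 h
    have h' := congrArg HomogeneousLocalization.val h
    rw [hψval, hψval, Localization.mk_eq_mk_iff, Localization.r_iff_exists] at h'
    obtain ⟨⟨u, k, rfl⟩, hu⟩ := h'
    simp only [OneMemClass.coe_one, one_mul] at hu
    have e : ∀ c : A, (MvPolynomial.X 0 : MvPolynomial (Fin (0 + 1)) A) ^ k * MvPolynomial.C c =
        MvPolynomial.monomial (Finsupp.single 0 k) c := fun c => by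
      rw [mul_comm, MvPolynomial.C_mul_X_pow_eq_monomial]
    rw [e, e] at hu
    have := congrArg (MvPolynomial.coeff (Finsupp.single 0 k)) hu
    simpa [MvPolynomial.coeff_monomial] using this
  have hiso1 : IsIso (Spec.map (CommRingCat.ofHom ψ)) := by
    have : IsIso (CommRingCat.ofHom ψ) := by
      rw [ConcreteCategory.isIso_iff_bijective]
      exact ⟨hinj, hsurj⟩
    infer_instance
  have hcomp : Proj.awayι (CohB1.polyGrading 0 A) (MvPolynomial.X 0) hf Nat.one_pos ≫
      CohB1.ProjSpace.toSpec 0 A = Spec.map (CommRingCat.ofHom ψ) := by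
    change _ ≫ (Proj.toSpecZero (CohB1.polyGrading 0 A) ≫ Spec.map _) = _
    rw [Proj.awayι_toSpecZero_assoc, ← Spec.map_comp]
    rfl
  have hiso2 : IsIso (Proj.awayι (CohB1.polyGrading 0 A) (MvPolynomial.X 0) hf Nat.one_pos) := by
    apply isIso_of_isOpenImmersion_of_opensRange_eq_top
    rw [Proj.opensRange_awayι, htop]
  rw [← hcomp] at hiso1
  exact IsIso.of_isIso_comp_left
    (Proj.awayι (CohB1.polyGrading 0 A) (MvPolynomial.X 0) hf Nat.one_pos) _

end Groth.Agent.S3581
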