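import Groth.Statements.S11000
import Mathlib.RingTheory.Polynomial.GaussLemma
import Mathlib.RingTheory.AdjoinRoot
import Mathlib.FieldTheory.PrimitiveElement
import Mathlib.FieldTheory.Perfect
import Mathlib.Algebra.Field.Equiv

set_option autoImplicit false
universe u v
open FunFld

namespace Groth.Agent.S11000


open Polynomial in
theorem mem_lifts_of_monic_dvd {k : Type u} {K : Type v} [Field k] [Field K] [Algebra k K]
    (hcl : ∀ y : K, IsAlgebraic k y → y ∈ Set.range (algebraMap k K))
    {f : k[X]} (hf : f.Monic) {g : K[X]} (hg : g.Monic) (hd : g ∣ f.map (algebraMap k K)) :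
    ∃ g' : k[X], g'.map (algebraMap k K) = g ∧ g'.Monic := by
  have h1 := integralClosure.mem_lifts_of_monic_of_dvd_map K hf hg hd
  have h2 : g ∈ lifts (algebraMap k K) := by
    rw [lifts_iff_coeff_lifts] at h1 ⊢
    intro n
    obtain ⟨⟨y, hy⟩, hyn⟩ := h1 n
    have hy' : IsAlgebraic k y := hy.isAlgebraic
    obtain ⟨c, hc⟩ := hcl y hy'
    refine ⟨c, ?_⟩
    rw [hc, ← hyn]
    rfl
  obtain ⟨g', hg', -, hm⟩ := lifts_and_degree_eq_and_monic h2 hg
  exact ⟨g', hg', hm⟩

open Polynomial in
theorem irreducible_map {k : Type u} {K : Type v} [Field k] [Field K] [Algebra k K]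
    (hcl : ∀ y : K, IsAlgebraic k y → y ∈ Set.range (algebraMap k K))
    {f : k[X]} (hf : f.Monic) (hirr : Irreducible f) : Irreducible (f.map (algebraMap k K)) := by
  have hinj : Function.Injective (Polynomial.map (algebraMap k K)) :=
    Polynomial.map_injective _ (algebraMap k K).injective
  rw [(hf.map _).irreducible_iff_natDegree]
  refine ⟨?_, ?_⟩
  · intro h1
    have : f = 1 := hinj (by rw [h1, Polynomial.map_one])
    exact hirr.not_isUnit (this ▸ isUnit_one)
  · intro a b ha hb hab
    obtain ⟨a', rfl, ha'⟩ := mem_lifts_of_monic_dvd hcl hf ha ⟨b, hab.symm⟩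
    obtain ⟨b', rfl, hb'⟩ := mem_lifts_of_monic_dvd hcl hf hb ⟨_, (mul_comm _ _).trans hab |>.symm⟩
    rw [← Polynomial.map_mul] at hab
    have hab' : a' * b' = f := hinj hab
    rw [natDegree_map, natDegree_map]
    exact (hf.irreducible_iff_natDegree.mp hirr).2 a' b' ha' hb' hab'

/-- Over a perfect ground field every function field of one variable is geometric (`k' ⊗_k K` is a field
for all finite `k'/k`). -/
theorem result (k : Type u) (K : Type v) [Field k] [Field K] [Algebra k K] [PerfectField k]
    (hK : FunFld.IsFunctionField k K) : FunFld.IsGeometric k K := by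
  intro k' _ _ hfin
  obtain ⟨-, hcl⟩ := hK
  haveI : FiniteDimensional k k' := hfin
  haveI : Algebra.IsSeparable k k' := inferInstance
  let pb := Field.powerBasisOfFiniteOfSeparable k k'
  obtain ⟨f, hf⟩ : ∃ f, f = minpoly k pb.gen := ⟨_, rfl⟩
  have hfm : f.Monic := hf ▸ minpoly.monic (pb.isIntegral_gen)
  have hfirr : Irreducible f := hf ▸ minpoly.irreducible pb.isIntegral_gen
  have e1 : AdjoinRoot f ≃ₐ[k] k' :=
    AdjoinRoot.equiv' f pb (by rw [← hf, AdjoinRoot.aeval_eq, AdjoinRoot.mk_self])
      (by rw [hf]; exact minpoly.aeval _ _)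
  haveI : Fact (Irreducible (f.map (algebraMap k K))) := ⟨irreducible_map hcl hfm hfirr⟩
  have hfield : IsField (AdjoinRoot (f.map (algebraMap k K))) := Field.toIsField _
  let q : Polynomial (TensorProduct k K k) :=
    f.map (Algebra.TensorProduct.includeRight (R := k) (A := K) (B := k)).toRingHom
  let e2 : TensorProduct k K (AdjoinRoot f) ≃ₐ[K] AdjoinRoot q := AdjoinRoot.tensorAlgEquiv f q rfl
  have hq : q.map ((Algebra.TensorProduct.rid k K K).toRingEquiv : TensorProduct k K k →+* K) =
      f.map (algebraMap k K) := by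
    rw [Polynomial.map_map]
    congr 1
    ext c
    simp [Algebra.algebraMap_eq_smul_one]
  let e3 : AdjoinRoot q ≃+* AdjoinRoot (f.map (algebraMap k K)) :=
    AdjoinRoot.mapRingEquiv (Algebra.TensorProduct.rid k K K).toRingEquiv q _
      (by rw [hq])
  let e0 : TensorProduct k k' K ≃ₐ[k] TensorProduct k K k' := Algebra.TensorProduct.comm k k' K
  let e1' : TensorProduct k K k' ≃ₐ[k] TensorProduct k K (AdjoinRoot f) :=
    Algebra.TensorProduct.congr AlgEquiv.refl e1.symm
  let total : TensorProduct k k' K ≃+* AdjoinRoot (f.map (algebraMap k K)) :=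
    e0.toRingEquiv.trans (e1'.toRingEquiv.trans (e2.toRingEquiv.trans e3))
  exact MulEquiv.isField hfield total.toMulEquiv

end Groth.Agent.S11000
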