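import Groth.Statements.S11040
-- import your own Groth.Agent.* helpers here
import Groth.Agent.Lib.Helper23.FFZeta7
import Groth.Agent.Lib.Helper23.FFPal3

set_option autoImplicit false
open FunFld

namespace Groth.Agent.S11040



/-- The numerator of the zeta function of a function field of one variable of genus `g` over a finite
field with `q` elements factors over `ℂ` as `∏ (1 - αᵢ t)` with `α₁, …, α_{2g}` algebraic integers,
numbered so that `αᵢ α_{2g-i+1} = q`. -/
theorem result
    (k K : Type*) [Field k] [Finite k] [Field K] [Algebra k K]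
    (hK : FunFld.IsFunctionField k K) :
    ∃ α : Fin (2 * FunFld.genus k K) → ℂ, (∀ i, IsIntegral ℤ (α i)) ∧
      PowerSeries.map (Int.castRingHom ℂ) (FunFld.numerZ k K) =
        ((∏ i, (1 - Polynomial.C (α i) * Polynomial.X) : Polynomial ℂ) : PowerSeries ℂ) ∧
      ∀ i, α i * α (Fin.rev i) = (Nat.card k : ℂ) := by
  classical
  set g := FunFld.genus k K with hg
  set cZ : ℕ → ℤ := fun i => PowerSeries.coeff i (FunFld.numerZ k K) with hcZ
  set c : ℕ → ℂ := fun i => ((cZ i : ℤ) : ℂ) with hcdef
  have hq0 : (Nat.card k : ℂ) ≠ 0 := by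
    have : 0 < Nat.card k := Nat.card_pos
    exact_mod_cast this.ne'
  have hcZ0 : cZ 0 = 1 := Groth.Agent.Lib.Helper23.FF.coeff_numerZ_zero hK
  have hc0 : c 0 = 1 := by
    show ((cZ 0 : ℤ) : ℂ) = 1
    rw [hcZ0]
    norm_num
  have hc : ∀ i ≤ g, c (2 * g - i) = (Nat.card k : ℂ) ^ (g - i) * c i := by
    intro i hi
    have h1 := Groth.Agent.Lib.Helper23.FF.coeff_numerZ_symm hK (i := i) (by omega)
    have e : ((FunFld.genus k K : ℤ) - i) = ((g - i : ℕ) : ℤ) := by
      rw [Nat.cast_sub hi]
    rw [e, zpow_natCast] at h1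
    have h2 := congrArg (fun x : ℚ => (x : ℂ)) h1
    simp only [Rat.cast_mul, Rat.cast_pow, Rat.cast_natCast, Rat.cast_intCast] at h2
    exact h2
  obtain ⟨α, hprod, hpair⟩ :=
    Groth.Agent.Lib.Helper23.Pal.exists_reciprocal_roots (Nat.card k : ℂ) g c hc0 hc
  refine ⟨α, ?_, ?_, hpair⟩
  · intro j
    have hαne : α j ≠ 0 := by
      intro h0
      have := hpair j
      rw [h0, zero_mul] at this
      exact hq0 this.symm
    have h0 : Polynomial.eval (α j)⁻¹
        (∑ i ∈ Finset.range (2 * g + 1), Polynomial.C (c i) * Polynomial.X ^ i) = 0 := by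
      rw [hprod, Polynomial.eval_prod]
      apply Finset.prod_eq_zero (Finset.mem_univ j)
      simp [mul_inv_cancel₀ hαne]
    rw [Polynomial.eval_finsetSum] at h0
    simp only [Polynomial.eval_mul, Polynomial.eval_C, Polynomial.eval_pow, Polynomial.eval_X]
      at h0
    have h1 : ∑ i ∈ Finset.range (2 * g + 1), c i * (α j) ^ (2 * g - i) = 0 := by
      have h2 : ∑ i ∈ Finset.range (2 * g + 1), c i * (α j) ^ (2 * g - i)
          = (α j) ^ (2 * g) * ∑ i ∈ Finset.range (2 * g + 1), c i * ((α j)⁻¹) ^ i := by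
        rw [Finset.mul_sum]
        apply Finset.sum_congr rfl
        intro i hi
        rw [Finset.mem_range] at hi
        rw [pow_sub₀ _ hαne (by omega : i ≤ 2 * g), inv_pow]
        ring
      rw [h2, h0, mul_zero]
    refine ⟨Polynomial.X ^ (2 * g) + ∑ i ∈ Finset.range (2 * g),
      Polynomial.C (cZ (i + 1)) * Polynomial.X ^ (2 * g - 1 - i), ?_, ?_⟩
    · apply Polynomial.monic_X_pow_add
      apply (Polynomial.degree_sum_le _ _).trans_lt
      rw [Finset.sup_lt_iff (by exact_mod_cast WithBot.bot_lt_coe (2 * g))]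
      intro i hi
      rw [Finset.mem_range] at hi
      apply (Polynomial.degree_C_mul_X_pow_le _ _).trans_lt
      exact_mod_cast (by omega : 2 * g - 1 - i < 2 * g)
    · rw [Polynomial.eval₂_add, Polynomial.eval₂_X_pow, Polynomial.eval₂_finsetSum]
      rw [Finset.sum_range_succ', hc0] at h1
      simp only [Polynomial.eval₂_mul, Polynomial.eval₂_C, Polynomial.eval₂_X_pow]
      rw [add_comm]
      convert h1 using 2
      · apply Finset.sum_congr rfl
        intro i hi
        rw [Finset.mem_range] at hi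
        have e1 : 2 * g - (i + 1) = 2 * g - 1 - i := by omega
        rw [e1]
        rfl
      · simp
  · ext n
    rw [PowerSeries.coeff_map, Polynomial.coeff_coe, ← hprod, Polynomial.finsetSum_coeff]
    simp only [Polynomial.coeff_C_mul_X_pow]
    rw [Finset.sum_ite_eq (Finset.range (2 * g + 1)) n]
    split_ifs with h
    · rfl
    · rw [Finset.mem_range, not_lt] at h
      rw [Groth.Agent.Lib.Helper23.FF.coeff_numerZ_eq_zero hK (by omega)]
      simp

end Groth.Agent.S11040
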