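import Groth.Statements.S12589
-- import your own Groth.Agent.* helpers here
import Groth.Agent.Lib.Helper23.IntCl1
import Groth.Agent.Lib.Helper27.Geo6

set_option autoImplicit false
universe u v
open FunFld

namespace Groth.Agent.S12589



/-- If a place `P` of a geometric function field of one variable `K/k` is nonsingular with respect to
the finite extension `k'/k` (the integral closure of `O_P` in `K' = k' ⊗_k K` is `O_P[k']`) and `Q`
is a place of `K'` above `P`, then `F_Q = k' F_P`. -/
theorem result (k k' : Type u) (K K' : Type v) [Field k] [Field k'] [Field K] [Field K']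
    [Algebra k k'] [FiniteDimensional k k'] [Algebra k K] [Algebra K K'] [Algebra k' K'] [Algebra k K']
    [IsScalarTower k k' K'] [IsScalarTower k K K']
    (h : Function.Bijective (Algebra.TensorProduct.productMap
      (IsScalarTower.toAlgHom k k' K') (IsScalarTower.toAlgHom k K K')))
    (hK : FunFld.IsFunctionField k K) (hg : FunFld.IsGeometric k K)
    (P : FunFld.Place k K) [Algebra P.O K'] [IsScalarTower P.O K K']
    (hns : (integralClosure P.O K').toSubring = (Algebra.adjoin P.O (Set.range (algebraMap k' K'))).toSubring)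
    (Q : FunFld.Place k K') [P.1.HasExtension Q.1] (hk' : ∀ c : k', Q.1 (algebraMap k' K' c) ≤ 1) :
    Algebra.adjoin (IsLocalRing.ResidueField P.O)
      (Set.range fun c : k' => IsLocalRing.residue Q.O ⟨algebraMap k' K' c, hk' c⟩) = ⊤ := by
  classical
  haveI hfd : FiniteDimensional K K' := Groth.Agent.Lib.Helper27.Geo.finiteDimensional_of_bijective h
  -- `Q` lies over `P`
  obtain ⟨P', e, he'⟩ := Groth.Agent.Lib.Helper27.FF.exists_isOverWith hK Q
  have hPP' : P' = P := by
    apply Groth.Agent.Lib.Helper27.FF.place_eq_of_le_one_iff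
    intro x
    rw [← Groth.Agent.Lib.Helper27.FF.isOverWith_val_le_one_iff he' x]
    exact Valuation.HasExtension.val_map_le_one_iff P.1 Q.1 x
  subst hPP'
  have he := he'
  rw [eq_top_iff]
  rintro a -
  obtain ⟨u, hu, hua, hother⟩ := Groth.Agent.Lib.Helper23.Inert.exists_lift hK he a
  have hint : IsIntegral P'.O u := by
    apply Groth.Agent.Lib.Helper23.IntCl.isIntegral_of_forall_isOver hK P'
    intro Q' hQ'
    by_cases hQQ : Q' = Q
    · rw [hQQ]; exact hu
    · exact (hother Q' hQ' hQQ).le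
  have hmem : u ∈ Algebra.adjoin P'.O (Set.range (algebraMap k' K')) := by
    have h1 : u ∈ (integralClosure P'.O K').toSubring := hint
    rw [hns] at h1
    exact h1
  have key : ∀ w ∈ Algebra.adjoin P'.O (Set.range (algebraMap k' K')), ∃ hw : Q.1 w ≤ 1,
      IsLocalRing.residue Q.O ⟨w, hw⟩ ∈ Algebra.adjoin (IsLocalRing.ResidueField P'.O)
        (Set.range fun c : k' => IsLocalRing.residue Q.O ⟨algebraMap k' K' c, hk' c⟩) := by
    intro w hw
    induction hw using Algebra.adjoin_induction with
    | mem x hx =>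
      obtain ⟨c, rfl⟩ := hx
      exact ⟨hk' c, Algebra.subset_adjoin ⟨c, rfl⟩⟩
    | algebraMap r =>
      have h1 : algebraMap P'.O K' r = algebraMap K K' (r : K) :=
        Groth.Agent.Lib.Helper23.IntCl.algebraMap_O_eq P' r
      have h2 : Q.1 (algebraMap P'.O K' r) ≤ 1 := by
        rw [h1, Groth.Agent.Lib.Helper27.FF.isOverWith_val_le_one_iff he]
        exact (Valuation.mem_valuationSubring_iff _ _).mp r.2
      refine ⟨h2, ?_⟩
      have h3 : (⟨algebraMap P'.O K' r, h2⟩ : Q.O) = algebraMap P'.O Q.O r := Subtype.ext h1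
      rw [h3]
      exact Subalgebra.algebraMap_mem _ (IsLocalRing.residue P'.O r)
    | add x y _ _ hx hy =>
      obtain ⟨hx1, hx2⟩ := hx
      obtain ⟨hy1, hy2⟩ := hy
      refine ⟨(Q.1.map_add _ _).trans (max_le hx1 hy1), ?_⟩
      have h3 : (⟨x + y, (Q.1.map_add _ _).trans (max_le hx1 hy1)⟩ : Q.O) =
          (⟨x, hx1⟩ : Q.O) + ⟨y, hy1⟩ := rfl
      rw [h3, map_add]
      exact Subalgebra.add_mem _ hx2 hy2
    | mul x y _ _ hx hy =>
      obtain ⟨hx1, hx2⟩ := hx
      obtain ⟨hy1, hy2⟩ := hy
      have hxy : Q.1 (x * y) ≤ 1 := by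
        rw [map_mul]; exact mul_le_one' hx1 hy1
      refine ⟨hxy, ?_⟩
      have h3 : (⟨x * y, hxy⟩ : Q.O) = (⟨x, hx1⟩ : Q.O) * ⟨y, hy1⟩ := rfl
      rw [h3, map_mul]
      exact Subalgebra.mul_mem _ hx2 hy2
  obtain ⟨hw, hres⟩ := key u hmem
  rw [← hua]
  exact hres

end Groth.Agent.S12589
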