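import Groth.Statements.S15886
-- import your own Groth.Agent.* helpers here
import Groth.Agent.Lib.Helper23.BMExt

set_option autoImplicit false
universe u
open CategoryTheory AlgebraicGeometry Opposite
open BMCoh

namespace Groth.Agent.S15886



/-- Let T be a twisted Borel–Moore cohomology theory with coefficients in A on a constructible class V
of Noetherian schemes, X an object of V, M a coefficient module, j a natural number and i, n
integers. If for every point x of X of codimension j + 1 (that is, dim X − dim closure(x) = j + 1)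
the groups H^{i−2(j+1)}(x, M(n−j−1)) and H^{i+1−2(j+1)}(x, M(n−j−1)) of the point x are zero, then
the restriction map H^i(F_{j+1}X, M(n)) → H^i(F_jX, M(n)) is bijective. (The published lemma is the
exact sequence, obtained from the Gysin sequences by passage to the colimit, whose terms around
these two are the direct sums of those groups of points over the points of codimension j + 1; its
residue and push-forward maps on the colimits are not part of the definitions used here, and this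
row records the resulting bijectivity criterion.) -/
theorem result (V : ObjectProperty Scheme.{u}) [BMCoh.IsConstructible V] (R : Type u) [CommRing R] (A : BMCoh.Coefs R) (T : BMCoh.TheoryOn V R A) (X : BMCoh.Obj V) (M : A.Cat) (j : ℕ) (i n : ℤ) (h0 : ∀ x : X.scheme, WeilCoh.codim X.scheme x = j + 1 → Limits.IsZero (T.ptGp X x M (i - 2 * ((j : ℤ) + 1)) (n - ((j : ℤ) + 1)))) (h1 : ∀ x : X.scheme, WeilCoh.codim X.scheme x = j + 1 → Limits.IsZero (T.ptGp X x M (i + 1 - 2 * ((j : ℤ) + 1)) (n - ((j : ℤ) + 1)))) : Function.Bijective ((T.fjRes X (Nat.le_succ j) i n).app M).hom := by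
  open Groth.Agent.Lib.Helper23.BMObj Groth.Agent.Lib.Helper23.BMColim
    Groth.Agent.Lib.Helper23.BMObj2 Groth.Agent.Lib.Helper23.BMData
    Groth.Agent.Lib.Helper23.BMMulti Groth.Agent.Lib.Helper23.BMGeom
    Groth.Agent.Lib.Helper23.BMGysin Groth.Agent.Lib.Helper23.BMShrink
    Groth.Agent.Lib.Helper23.BMRes Groth.Agent.Lib.Helper23.BMPart
    Groth.Agent.Lib.Helper23.BMRes2 Groth.Agent.Lib.Helper23.BMRes3
    Groth.Agent.Lib.Helper23.BMExt in
  classical
  constructor
  · rw [injective_iff_map_eq_zero]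
    intro α hα
    obtain ⟨U', hU'F, S, hScod, c, hrep⟩ := exists_sum_rep_of_fjRes_eq_zero T.toPreTheory X j M
      (i - 2 * ((j : ℤ) + 1)) (n - ((j : ℤ) + 1)) i n (by ring) (by ring) α hα
    have hmemU' : ∀ y ∈ S, y ∈ U' := fun y hy => hU'F y (le_of_eq (hScod y hy))
    have hrcy : ∀ y : ↥S, relCodim (pc X U' y.1).scheme (X.res U').scheme = ((j + 1 : ℕ) : ℤ) :=
      fun y => relCodim_std (X := X) (j := j + 1) ⟨y.1, hScod y.1 y.2⟩ U' hU'F (hmemU' y.1 y.2)
    have hjc : ((j + 1 : ℕ) : ℤ) = (j : ℤ) + 1 := by push_cast; ring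
    have hiy : ∀ y : ↥S, i = i - 2 * ((j : ℤ) + 1) +
        2 * relCodim (pc X U' y.1).scheme (X.res U').scheme := fun y => by
      rw [hrcy y, hjc]; ring
    have hny : ∀ y : ↥S, n = n - ((j : ℤ) + 1) +
        relCodim (pc X U' y.1).scheme (X.res U').scheme := fun y => by
      rw [hrcy y, hjc]; ring
    rw [hrep hiy hny]
    -- the classes c y die on smaller pieces
    have hq : ∀ y : ↥S, ∃ (W' : ptIdx X y.1) (h : W'.1 ≤ ptOpen X y.1 U')
        (hd : WeilCoh.dim (W'.1 : Scheme.{u}) =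
          WeilCoh.dim ((ptOpen X y.1 U' : (X.ptSub y.1).scheme.Opens) : Scheme.{u})),
        (T.pull ((X.ptSub y.1).resLE h hd) M (i - 2 * ((j : ℤ) + 1)) (n - ((j : ℤ) + 1))).hom
          (c y) = 0 := by
      intro y
      haveI := ModuleCat.subsingleton_of_isZero (h0 y.1 (hScod y.1 y.2))
      have h1 : ((T.ptι X y.1 (i - 2 * ((j : ℤ) + 1)) (n - ((j : ℤ) + 1))
          (pieceIdx X y.1 U' (hmemU' y.1 y.2))).app M).hom (c y) = 0 := Subsingleton.elim _ _
      exact (ocolimι_eq_zero_iff' T.toPreTheory (X.ptSub y.1)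
        (fun U => (U : Set (X.ptSub y.1).scheme).Nonempty) M _ _
        (pieceIdx X y.1 U' (hmemU' y.1 y.2)) _).mp h1
    choose Wc hWle hWd hWz using hq
    let Wfun : ∀ y : X.scheme, (X.ptSub y).scheme.Opens :=
      fun y => if hy : y ∈ S then (Wc ⟨y, hy⟩).1 else ⊤
    have hWfun : ∀ y : ↥S, Wfun y.1 = (Wc y).1 := fun y => dif_pos y.2
    obtain ⟨U₂, hU₂F, hU₂⟩ := exists_shrink_finset X (j + 1) S hScod Wfun (fun y hy => by
      rw [hWfun ⟨y, hy⟩]
      exact (Wc ⟨y, hy⟩).2.1)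
    have hU''F : ContainsFj X (j + 1) (U' ⊓ U₂) := containsFj_inf hU'F hU₂F
    have hmemU'' : ∀ y ∈ S, y ∈ U' ⊓ U₂ := fun y hy => hU''F y (le_of_eq (hScod y hy))
    have hdU'' : WeilCoh.dim ((U' ⊓ U₂ : X.scheme.Opens) : Scheme.{u}) =
        WeilCoh.dim (U' : Scheme.{u}) :=
      (dim_eq_of_containsFj X (j + 1) _ hU''F).trans (dim_eq_of_containsFj X (j + 1) _ hU'F).symm
    have hrcy'' : ∀ y : ↥S, relCodim (pc X (U' ⊓ U₂) y.1).scheme (X.res (U' ⊓ U₂)).scheme =
        ((j + 1 : ℕ) : ℤ) :=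
      fun y => relCodim_std (X := X) (j := j + 1) ⟨y.1, hScod y.1 y.2⟩ (U' ⊓ U₂) hU''F
        (hmemU'' y.1 y.2)
    rw [← fjι_resLE_apply T.toPreTheory X (j + 1) M i n U' (U' ⊓ U₂) hU'F hU''F inf_le_left hdU'']
    rw [map_sum]
    have hzero : ∀ y : ↥S, (T.pull (X.resLE (inf_le_left : U' ⊓ U₂ ≤ U') hdU'') M i n).hom
        ((T.push (X := pc X U' y.1) (Y := X.res U') (pcι X U' y.1) M (i - 2 * ((j : ℤ) + 1))
          (n - ((j : ℤ) + 1)) i n (hiy y) (hny y)).hom (c y)) = 0 := by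
      intro y
      rw [pull_push_pcι T.toPreTheory X (inf_le_left : U' ⊓ U₂ ≤ U') hdU'' y.1
        (dim_ptOpen_eq X (hmemU' y.1 y.2) (hmemU'' y.1 y.2)) M _ _ i n (hiy y) (hny y)
        (by rw [hrcy'' y, hjc]; ring) (by rw [hrcy'' y, hjc]; ring) (c y)]
      have hle2 : ptOpen X y.1 (U' ⊓ U₂) ≤ (Wc y).1 := by
        rw [← hWfun y]
        exact (ptOpen_mono (inf_le_right : U' ⊓ U₂ ≤ U₂)).trans (hU₂ y.1 y.2)
      have hd2 : WeilCoh.dim ((ptOpen X y.1 (U' ⊓ U₂) : (X.ptSub y.1).scheme.Opens) :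
          Scheme.{u}) = WeilCoh.dim ((Wc y).1 : Scheme.{u}) :=
        (dim_ptOpen_eq X (hmemU' y.1 y.2) (hmemU'' y.1 y.2)).trans (hWd y).symm
      rw [← resLE_comp (X.ptSub y.1) hle2 (hWle y) hd2 (hWd y), pull_comp_apply, hWz y, map_zero,
        map_zero]
    rw [Finset.sum_congr rfl (fun y _ => hzero y), Finset.sum_const_zero, map_zero]
  · intro a
    obtain ⟨U₀, hU₀, a₀, rfl⟩ := fj_exists_rep T.toPreTheory X j M i n a
    refine mem_range_fjRes_of_vanish T.toPreTheory X j M i n (i + 1 - 2 * ((j : ℤ) + 1))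
      (n - ((j : ℤ) + 1)) rfl rfl U₀ hU₀ a₀ ?_
    intro C hle hd hiD hnD y hy
    haveI := ModuleCat.subsingleton_of_isZero (h1 y.1 hy)
    exact Subsingleton.elim _ _

end Groth.Agent.S15886
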