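import Groth.Statements.S4466
import Groth.Agent.S0843
import Groth.Agent.S0844
import Groth.Agent.S0845
import Groth.Agent.Lib.Helper25.PointsP2

set_option autoImplicit false
universe u
open Coherent

namespace Groth.Agent.S4466

open AlgebraicGeometry CategoryTheory in
/-- Let k be a field, r > 0 and n any integer. Then the Euler characteristic of the twisting sheaf O(n)
on projective r-space over k, namely the alternating sum of the dimensions of H^j(P^r_k, O(n)) for 0
≤ j ≤ r, equals the binomial coefficient C(n+r, r), understood as the binomial polynomial evaluated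
at the integer n+r (so that it makes sense and is correct for negative n too). -/
theorem result (k : Type u) [Field k] (r : ℕ) (hr : 0 < r)
    (n : ℤ) :
    ((Finset.range (r + 1)).sum fun j => (-1 : ℤ) ^ j *
        (Module.finrank k (Coh.HH (CohB1.ProjSpace r k) (Twist.twistProjSpace r k n) j) : ℤ)) =
      Ring.choose (n + r) r := by
  classical
  obtain ⟨s, rfl⟩ : ∃ s, r = s + 1 := ⟨r - 1, by omega⟩
  have hV : ∀ j : ℕ, ¬ (j = 0 ∧ 0 ≤ n) → ¬ (j = s + 1 ∧ n ≤ -(((s + 1 : ℕ) : ℤ) + 1)) →
      Module.finrank k (Coh.HH (CohB1.ProjSpace (s + 1) k)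
        (Twist.twistProjSpace (s + 1) k n) j) = 0 := by
    intro j h0 hn
    haveI := Groth.Agent.S0844.result k (s + 1) n j h0 hn
    exact Module.finrank_zero_of_subsingleton
  have hmid : ∀ j ∈ Finset.range s, (-1 : ℤ) ^ (j + 1) *
      (Module.finrank k (Coh.HH (CohB1.ProjSpace (s + 1) k)
        (Twist.twistProjSpace (s + 1) k n) (j + 1)) : ℤ) = 0 := by
    intro j hj
    rw [Finset.mem_range] at hj
    rw [hV (j + 1) (fun h => by omega) (fun h => by omega), Nat.cast_zero, mul_zero]
  rw [Finset.sum_range_succ, Finset.sum_range_succ', Finset.sum_eq_zero hmid, zero_add, pow_zero,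
    one_mul]
  by_cases h0 : 0 ≤ n
  · -- global sections only
    obtain ⟨d, rfl⟩ := Int.eq_ofNat_of_zero_le h0
    rw [hV (s + 1) (fun h => by omega) (fun h => by omega), Nat.cast_zero, mul_zero, add_zero]
    obtain ⟨e⟩ := Groth.Agent.S0843.result k (s + 1) d
    rw [LinearEquiv.finrank_eq e, Groth.Agent.Helper25.PointsP2.finrank_homog_fin,
      ← Nat.cast_add, Ring.choose_natCast]
  · push Not at h0
    rw [hV 0 (fun h => by omega) (fun h => by omega), Nat.cast_zero, zero_add]
    by_cases hn : n ≤ -(((s + 1 : ℕ) : ℤ) + 1)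
    · -- top cohomology only
      obtain ⟨k', hk'⟩ : ∃ k' : ℕ, n = -(((s + 1 : ℕ) : ℤ) + 1 + k') :=
        ⟨(-(((s + 1 : ℕ) : ℤ) + 1) - n).toNat, by omega⟩
      subst hk'
      obtain ⟨e⟩ := Groth.Agent.S0845.result k (s + 1) k'
      rw [LinearEquiv.finrank_eq e, Groth.Agent.Helper25.PointsP2.finrank_homog_fin]
      have h1 : -(((s + 1 : ℕ) : ℤ) + 1 + k') + ((s + 1 : ℕ) : ℤ) = -(((k' + 1 : ℕ) : ℤ)) := by
        push_cast
        ring
      rw [h1, Ring.choose_neg, Units.smul_def, Int.coe_negOnePow_natCast]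
      have h2 : (((k' + 1 : ℕ) : ℤ)) + ((s + 1 : ℕ) : ℤ) - 1 = ((k' + (s + 1) : ℕ) : ℤ) := by
        push_cast
        ring
      rw [h2, Ring.choose_natCast]
      rfl
    · -- everything vanishes
      push Not at hn
      rw [hV (s + 1) (fun h => by omega) (fun h => by omega), Nat.cast_zero, mul_zero]
      obtain ⟨m, hm⟩ : ∃ m : ℕ, n + ((s + 1 : ℕ) : ℤ) = m := ⟨(n + ((s + 1 : ℕ) : ℤ)).toNat, by omega⟩
      rw [hm, Ring.choose_natCast, Nat.choose_eq_zero_of_lt (by omega)]
      rfl

end Groth.Agent.S4466
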