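import Groth.Statements.S19396
-- import your own Groth.Agent.* helpers here
import Groth.Agent.Lib.Helper23.FFOrd
import Groth.Agent.Lib.Helper27.FunFldCore

set_option autoImplicit false
universe u v
open FunFld

namespace Groth.Agent.S19396

/-- On an elliptic curve with base point 0, if f has a double pole at 0 and no other pole and g a triple
pole at 0 and no other pole, then for n ≥ 2 the functions 1, f, …, f^[n/2], g, fg, …, f^[(n−3)/2] g
form a basis of the space of functions with at most an n-fold pole at 0. Stated for a function field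
K/k of one variable of genus 1 with a place P of degree 1 in the role of the curve and its base
point: the family indexed by Fin (n/2 + 1) ⊕ Fin ((n − 1)/2), sending i on the left to f^i and i on
the right to f^i g, is linearly independent over k and spans L(nP). -/
theorem result (k : Type u) (K : Type v) [Field k] [Field K]
    [Algebra k K] (hK : FunFld.IsFunctionField k K) (hgen : FunFld.genus k K = 1)
    (P : FunFld.Place k K) (hP : P.deg = 1) (f g : K)
    (hf : f ∈ FunFld.L (Finsupp.single P 2)) (hf2 : P.ord f = -2)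
    (hg : g ∈ FunFld.L (Finsupp.single P 3)) (hg3 : P.ord g = -3) (n : ℕ) (hn : 2 ≤ n) :
    LinearIndependent k
        (Sum.elim (fun i : Fin (n / 2 + 1) => f ^ (i : ℕ)) (fun i : Fin ((n - 1) / 2) => f ^ (i : ℕ) * g)) ∧
      Submodule.span k (Set.range
        (Sum.elim (fun i : Fin (n / 2 + 1) => f ^ (i : ℕ)) (fun i : Fin ((n - 1) / 2) => f ^ (i : ℕ) * g))) =
        FunFld.L (Finsupp.single P (n : ℤ)) := by
  classical
  have C := Groth.Agent.Lib.Helper27.FF.core_of hK
  have hf0 : f ≠ 0 := Groth.Agent.Lib.Helper23.FF.ne_zero_of_ord_ne_zero P (by rw [hf2]; norm_num)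
  have hg0 : g ≠ 0 := Groth.Agent.Lib.Helper23.FF.ne_zero_of_ord_ne_zero P (by rw [hg3]; norm_num)
  set w : Fin (n / 2 + 1) ⊕ Fin ((n - 1) / 2) → K :=
    Sum.elim (fun i : Fin (n / 2 + 1) => f ^ (i : ℕ)) (fun i : Fin ((n - 1) / 2) => f ^ (i : ℕ) * g)
    with hw
  have hw0 : ∀ i, w i ≠ 0 := by
    rintro (i | i)
    · exact pow_ne_zero _ hf0
    · exact mul_ne_zero (pow_ne_zero _ hf0) hg0
  have hord : ∀ i, P.ord (w i) = Sum.elim (fun i : Fin (n / 2 + 1) => -2 * ((i : ℕ) : ℤ))
      (fun i : Fin ((n - 1) / 2) => -2 * ((i : ℕ) : ℤ) - 3) i := by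
    rintro (i | i)
    · show P.ord (f ^ (i : ℕ)) = _
      rw [Groth.Agent.Lib.Helper23.FF.ord_pow P hf0, hf2]
      simp only [Sum.elim_inl]
      ring
    · show P.ord (f ^ (i : ℕ) * g) = _
      rw [Groth.Agent.Lib.Helper27.FF.ord_mul P (pow_ne_zero _ hf0) hg0,
        Groth.Agent.Lib.Helper23.FF.ord_pow P hf0, hf2, hg3]
      simp only [Sum.elim_inr]
      ring
  have hinj : Function.Injective (fun i => P.ord (w i)) := by
    intro a b hab
    simp only [hord] at hab
    rcases a with a | a <;> rcases b with b | b <;> simp only [Sum.elim_inl, Sum.elim_inr] at hab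
    · congr 1; apply Fin.ext; omega
    · omega
    · omega
    · congr 1; apply Fin.ext; omega
  have hli : LinearIndependent k w := Groth.Agent.Lib.Helper23.FF.li_of_ord_injective P w hw0 hinj
  refine ⟨hli, ?_⟩
  have hmem : ∀ i, w i ∈ FunFld.L (Finsupp.single P (n : ℤ)) := by
    rintro (i | i)
    · have h1 := Groth.Agent.Lib.Helper23.FF.pow_mem_L_nsmul hf (i : ℕ)
      rw [Finsupp.smul_single] at h1
      refine Groth.Agent.Lib.Helper23.FF.L_mono ?_ h1
      intro Q
      rw [Finsupp.single_apply, Finsupp.single_apply]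
      have := i.2
      split_ifs
      · simp only [smul_eq_mul, nsmul_eq_mul]
        omega
      · exact le_rfl
    · have h1 := Groth.Agent.Lib.Helper23.FF.mul_mem_L_add
        (Groth.Agent.Lib.Helper23.FF.pow_mem_L_nsmul hf (i : ℕ)) hg
      rw [Finsupp.smul_single, ← Finsupp.single_add] at h1
      refine Groth.Agent.Lib.Helper23.FF.L_mono ?_ h1
      intro Q
      rw [Finsupp.single_apply, Finsupp.single_apply]
      have := i.2
      split_ifs
      · simp only [smul_eq_mul, nsmul_eq_mul]
        omega
      · exact le_rfl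
  haveI := C.finDimL (Finsupp.single P (n : ℤ))
  have hell : Module.finrank k ↥(FunFld.L (Finsupp.single P (n : ℤ))) = n := by
    have h1 := C.ell_eq_of_deg_ge (D := Finsupp.single P (n : ℤ)) (by
      rw [Groth.Agent.Lib.Helper23.FF.deg_single, hP, hgen]
      push_cast
      omega)
    rw [Groth.Agent.Lib.Helper23.FF.deg_single, hP, hgen] at h1
    have h2 : (FunFld.ell (Finsupp.single P (n : ℤ) : FunFld.Divisor k K) : ℤ) = n := by
      push_cast at h1
      linarith
    exact_mod_cast h2
  apply Groth.Agent.Lib.Helper23.FF.span_eq_of_li_of_card _ w hmem hli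
  rw [hell, Fintype.card_sum, Fintype.card_fin, Fintype.card_fin]
  omega

end Groth.Agent.S19396
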