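import Groth.Statements.S11066
import Groth.Agent.Lib.Helper17.FunFldBasic

set_option autoImplicit false
open FunFld

namespace Groth.Agent.S11066

open Groth.Agent.Lib.Helper17

variable {k K : Type*} [Field k] [Field K] [Algebra k K]

theorem le_exp_neg_one_of_lt_one {v : WithZero (Multiplicative ℤ)} (h : v < 1) :
    v ≤ WithZero.exp (-1 : ℤ) := by
  by_cases h0 : v = 0
  · rw [h0]; exact zero_le
  · rw [← WithZero.exp_zero, ← WithZero.log_lt_iff_lt_exp h0] at h
    rw [← WithZero.log_le_iff_le_exp h0]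
    omega

theorem exp_neg_one_lt_one : (WithZero.exp (-1 : ℤ) : WithZero (Multiplicative ℤ)) < 1 := by
  rw [← WithZero.exp_zero, WithZero.exp_lt_exp]; norm_num

theorem exp_neg_two_lt_exp_neg_one :
    (WithZero.exp (-2 : ℤ) : WithZero (Multiplicative ℤ)) < WithZero.exp (-1 : ℤ) := by
  rw [WithZero.exp_lt_exp]; norm_num

theorem exp_neg_one_mul_self : (WithZero.exp (-1 : ℤ) : WithZero (Multiplicative ℤ)) *
    WithZero.exp (-1 : ℤ) = WithZero.exp (-2 : ℤ) := by
  rw [← WithZero.exp_add]; norm_num

/-- Some entry has value one, when `1` is in the span and all entries are integral. -/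
theorem exists_val_eq_one {n : ℕ} (φ : Fin (n + 1) → K) (P : FunFld.Place k K)
    (heff : (1 : K) ∈ Submodule.span k (Set.range φ)) (hnorm : ∀ i, P.1 (φ i) ≤ 1) :
    ∃ j, P.1 (φ j) = 1 := by
  by_contra hcon
  push Not at hcon
  have hlt : ∀ i, P.1 (φ i) < 1 := fun i => lt_of_le_of_ne (hnorm i) (hcon i)
  have : ∀ x ∈ Submodule.span k (Set.range φ), P.1 x < 1 := by
    intro x hx
    induction hx using Submodule.span_induction with
    | mem x hx =>
      obtain ⟨i, rfl⟩ := hx
      exact hlt i
    | zero => simp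
    | add x y _ _ hx hy => exact (P.1.map_add _ _).trans_lt (max_lt hx hy)
    | smul c x _ hx =>
      rw [Algebra.smul_def, map_mul]
      calc P.1 (algebraMap k K c) * P.1 x ≤ 1 * P.1 x := mul_le_mul_left (P.2.1 c) _
        _ = P.1 x := one_mul _
        _ < 1 := hx
  have h1 := this 1 heff
  rw [map_one] at h1
  exact lt_irrefl _ h1

theorem div_mem_adjoin_of_mem_span {n : ℕ} (φ : Fin (n + 1) → K) (j : Fin (n + 1)) {x : K}
    (hx : x ∈ Submodule.span k (Set.range φ)) :
    x / φ j ∈ Algebra.adjoin k (Set.range fun i => φ i / φ j) := by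
  induction hx using Submodule.span_induction with
  | mem x hx =>
    obtain ⟨i, rfl⟩ := hx
    exact Algebra.subset_adjoin ⟨i, rfl⟩
  | zero => rw [zero_div]; exact Subalgebra.zero_mem _
  | add x y _ _ hx hy => rw [add_div]; exact Subalgebra.add_mem _ hx hy
  | smul c x _ hx => rw [smul_div_assoc]; exact Subalgebra.smul_mem _ hx c

theorem backward_dir {n : ℕ} (φ : Fin (n + 1) → K) (P : FunFld.Place k K)
    (heff : (1 : K) ∈ Submodule.span k (Set.range φ)) (hnorm : ∀ i, P.1 (φ i) ≤ 1)
    (t : K) (ht : t ∈ Submodule.span k (Set.range φ)) : FunFld.InLocRing φ P t := by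
  obtain ⟨j, hj⟩ := exists_val_eq_one φ P heff hnorm
  have hj0 : φ j ≠ 0 := by
    rintro h0
    rw [h0, map_zero] at hj
    exact zero_ne_one hj
  refine ⟨j, hj0, fun i => by rw [hj]; exact hnorm i, t / φ j,
    div_mem_adjoin_of_mem_span φ j ht, 1 / φ j, div_mem_adjoin_of_mem_span φ j heff, ?_, ?_⟩
  · rw [map_div₀, hj, map_one, div_one]
  · rw [mul_one_div]

/-- The set of elements of the form `c + s / φ j + r`, with `c` constant, `s` in the span of `φ`
of positive order, and `r` of order at least two. -/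
def decompAlg {n : ℕ} (φ : Fin (n + 1) → K) (P : FunFld.Place k K) (j : Fin (n + 1))
    (hj : P.1 (φ j) = 1) : Subalgebra k K where
  carrier := {x | ∃ c : k, ∃ s ∈ Submodule.span k (Set.range φ), P.1 s < 1 ∧
    P.1 (x - algebraMap k K c - s / φ j) ≤ WithZero.exp (-2 : ℤ)}
  algebraMap_mem' := by
    intro c
    exact ⟨c, 0, Submodule.zero_mem _, by simp, by simp⟩
  add_mem' := by
    rintro x x' ⟨c, s, hs, hs1, hr⟩ ⟨c', s', hs', hs1', hr'⟩
    refine ⟨c + c', s + s', Submodule.add_mem _ hs hs', ?_, ?_⟩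
    · exact (P.1.map_add _ _).trans_lt (max_lt hs1 hs1')
    · have e : x + x' - algebraMap k K (c + c') - (s + s') / φ j =
          (x - algebraMap k K c - s / φ j) + (x' - algebraMap k K c' - s' / φ j) := by
        rw [map_add, add_div]; ring
      rw [e]
      exact (P.1.map_add _ _).trans (max_le hr hr')
  mul_mem' := by
    rintro x x' ⟨c, s, hs, hs1, hr⟩ ⟨c', s', hs', hs1', hr'⟩
    refine ⟨c * c', c • s' + c' • s,
      Submodule.add_mem _ (Submodule.smul_mem _ _ hs') (Submodule.smul_mem _ _ hs), ?_, ?_⟩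
    · refine (P.1.map_add _ _).trans_lt (max_lt ?_ ?_)
      · rw [Algebra.smul_def, map_mul]
        calc P.1 (algebraMap k K c) * P.1 s' ≤ 1 * P.1 s' := mul_le_mul_left (P.2.1 c) _
          _ = P.1 s' := one_mul _
          _ < 1 := hs1'
      · rw [Algebra.smul_def, map_mul]
        calc P.1 (algebraMap k K c') * P.1 s ≤ 1 * P.1 s := mul_le_mul_left (P.2.1 c') _
          _ = P.1 s := one_mul _
          _ < 1 := hs1
    · set r := x - algebraMap k K c - s / φ j with hrdef
      set r' := x' - algebraMap k K c' - s' / φ j with hrdef'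
      set ℓ := s / φ j with hℓ
      set ℓ' := s' / φ j with hℓ'
      have hℓ1 : P.1 ℓ ≤ WithZero.exp (-1 : ℤ) := by
        apply le_exp_neg_one_of_lt_one
        rw [hℓ, map_div₀, hj, div_one]; exact hs1
      have hℓ1' : P.1 ℓ' ≤ WithZero.exp (-1 : ℤ) := by
        apply le_exp_neg_one_of_lt_one
        rw [hℓ', map_div₀, hj, div_one]; exact hs1'
      have hx' : P.1 x' ≤ 1 := by
        have e : x' = r' + algebraMap k K c' + ℓ' := by rw [hrdef']; ring
        rw [e]
        refine (P.1.map_add _ _).trans (max_le ((P.1.map_add _ _).trans (max_le ?_ (P.2.1 c'))) ?_)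
        · exact hr'.trans (exp_neg_two_lt_exp_neg_one.trans exp_neg_one_lt_one).le
        · exact hℓ1'.trans exp_neg_one_lt_one.le
      have hcl : P.1 (algebraMap k K c + ℓ) ≤ 1 :=
        (P.1.map_add _ _).trans (max_le (P.2.1 c) (hℓ1.trans exp_neg_one_lt_one.le))
      have e : x * x' - algebraMap k K (c * c') - (c • s' + c' • s) / φ j =
          ℓ * ℓ' + r * x' + r' * (algebraMap k K c + ℓ) := by
        rw [hrdef, hrdef', hℓ, hℓ', map_mul, Algebra.smul_def, Algebra.smul_def]
        field_simp
        ring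
      rw [e]
      refine (P.1.map_add _ _).trans (max_le ((P.1.map_add _ _).trans (max_le ?_ ?_)) ?_)
      · rw [map_mul, ← exp_neg_one_mul_self]
        exact mul_le_mul' hℓ1 hℓ1'
      · rw [map_mul]
        calc P.1 r * P.1 x' ≤ WithZero.exp (-2 : ℤ) * 1 := mul_le_mul' hr hx'
          _ = WithZero.exp (-2 : ℤ) := mul_one _
      · rw [map_mul]
        calc P.1 r' * P.1 (algebraMap k K c + ℓ) ≤ WithZero.exp (-2 : ℤ) * 1 :=
              mul_le_mul' hr' hcl
          _ = WithZero.exp (-2 : ℤ) := mul_one _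

theorem forward_dir [IsAlgClosed k] (hK : FunFld.IsFunctionField k K) {n : ℕ}
    (φ : Fin (n + 1) → K) (P : FunFld.Place k K)
    (heff : (1 : K) ∈ Submodule.span k (Set.range φ)) (hnorm : ∀ i, P.1 (φ i) ≤ 1)
    (t : K) (hloc : FunFld.InLocRing φ P t) (ht : P.1 t = WithZero.exp (-1 : ℤ)) :
    ∃ t ∈ Submodule.span k (Set.range φ), P.1 t = WithZero.exp (-1 : ℤ) := by
  obtain ⟨j, hj0, hPj, u, hu, w, hw, hPw, htw⟩ := hloc
  obtain ⟨j₁, hj₁⟩ := exists_val_eq_one φ P heff hnorm
  have hj : P.1 (φ j) = 1 := le_antisymm (hnorm j) (hj₁.symm.le.trans (hPj j₁))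
  have hPu : P.1 u = WithZero.exp (-1 : ℤ) := by rw [← htw, map_mul, hPw, mul_one, ht]
  have hle : Algebra.adjoin k (Set.range fun i => φ i / φ j) ≤ decompAlg φ P j hj := by
    apply Algebra.adjoin_le
    rintro _ ⟨i, rfl⟩
    have hyi : P.1 (φ i / φ j) ≤ 1 := by
      rw [map_div₀, hj, div_one]; exact hnorm i
    obtain ⟨c, hc⟩ := place_exists_const_sub_lt_one hK P hyi
    have hsmem : φ i - c • φ j ∈ Submodule.span k (Set.range φ) :=
      Submodule.sub_mem _ (Submodule.subset_span ⟨i, rfl⟩)
        (Submodule.smul_mem _ _ (Submodule.subset_span ⟨j, rfl⟩))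
    have e : (φ i - c • φ j) / φ j = φ i / φ j - algebraMap k K c := by
      rw [Algebra.smul_def]; field_simp
    refine ⟨c, φ i - c • φ j, hsmem, ?_, ?_⟩
    · have : P.1 (φ i - c • φ j) = P.1 ((φ i - c • φ j) / φ j) := by
        rw [map_div₀, hj, div_one]
      rw [this, e]; exact hc
    · show P.1 (φ i / φ j - algebraMap k K c - (φ i - c • φ j) / φ j) ≤ WithZero.exp (-2 : ℤ)
      rw [e, sub_self, map_zero]; exact zero_le
  obtain ⟨c, s, hs, hs1, hr⟩ := hle hu
  have hℓ1 : P.1 (s / φ j) < 1 := by rw [map_div₀, hj, div_one]; exact hs1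
  have hc0 : c = 0 := by
    by_contra hc
    have h1 : P.1 (u - algebraMap k K c) < 1 := by
      have e : u - algebraMap k K c = (u - algebraMap k K c - s / φ j) + s / φ j := by ring
      rw [e]
      refine (P.1.map_add _ _).trans_lt (max_lt ?_ hℓ1)
      exact hr.trans_lt (exp_neg_two_lt_exp_neg_one.trans exp_neg_one_lt_one)
    have h2 : P.1 (u - algebraMap k K c) < P.1 (algebraMap k K c) := by
      rw [place_val_algebraMap P hc]; exact h1
    have := Valuation.map_eq_of_sub_lt _ h2
    rw [place_val_algebraMap P hc, hPu] at this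
    exact absurd this exp_neg_one_lt_one.ne
  rw [hc0, map_zero, sub_zero] at hr
  refine ⟨s, hs, ?_⟩
  have h3 : P.1 (s / φ j - u) < P.1 u := by
    rw [Valuation.map_sub_swap, hPu]
    exact hr.trans_lt exp_neg_two_lt_exp_neg_one
  have := Valuation.map_eq_of_sub_lt _ h3
  rw [map_div₀, hj, div_one, hPu] at this
  exact this

/-- Over an algebraically closed constant field, for an effective projective map `φ` normalized at the
place `P` (`1` in the span of the entries, all entries integral at `P`), the local ring of `φ` at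
`P` has an element of order one at `P` (a local parameter) exactly when the span of the entries has
one. The local ring consists of the quotients of polynomials over `k` in the ratios `φᵢ/φⱼ`, `φⱼ` of
least order at `P`, with denominator a unit at `P`. -/
theorem result
    (k K : Type*) [Field k] [IsAlgClosed k] [Field K] [Algebra k K]
    (hK : FunFld.IsFunctionField k K) {n : ℕ} (φ : Fin (n + 1) → K)
    (P : FunFld.Place k K) (heff : (1 : K) ∈ Submodule.span k (Set.range φ))
    (hnorm : ∀ i, P.1 (φ i) ≤ 1) :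
    (∃ t : K, FunFld.InLocRing φ P t ∧ P.1 t = WithZero.exp (-1)) ↔
      ∃ t ∈ Submodule.span k (Set.range φ), P.1 t = WithZero.exp (-1) := by
  constructor
  · rintro ⟨t, hloc, ht⟩
    exact forward_dir hK φ P heff hnorm t hloc ht
  · rintro ⟨t, ht, hPt⟩
    exact ⟨t, backward_dir φ P heff hnorm t ht, hPt⟩

end Groth.Agent.S11066
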