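import Groth.Statements.S11078
import Groth.Agent.Lib.Helper17.FunFldBasic

set_option autoImplicit false
open FunFld

namespace Groth.Agent.S11078

open Groth.Agent.Lib.Helper17

variable {k K : Type*} [Field k] [Field K] [Algebra k K]

/-- `y` is congruent to the constant `c` modulo the maximal ideals of both `P` and `Q`. -/
def CR (P Q : FunFld.Place k K) (y : K) (c : k) : Prop :=
  P.1 (y - algebraMap k K c) < 1 ∧ Q.1 (y - algebraMap k K c) < 1

theorem val_le_one_of_sub_lt (P : FunFld.Place k K) {y : K} {c : k}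
    (h : P.1 (y - algebraMap k K c) < 1) : P.1 y ≤ 1 := by
  have : y = (y - algebraMap k K c) + algebraMap k K c := by ring
  rw [this]
  exact (P.1.map_add _ _).trans (max_le h.le (P.2.1 c))

theorem val_eq_one_of_sub_lt (P : FunFld.Place k K) {y : K} {c : k} (hc : c ≠ 0)
    (h : P.1 (y - algebraMap k K c) < 1) : P.1 y = 1 := by
  have h1 := place_val_algebraMap P hc
  have h2 : P.1 (y - algebraMap k K c) < P.1 (algebraMap k K c) := by rw [h1]; exact h
  rw [Valuation.map_eq_of_sub_lt _ h2, h1]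

theorem val_lt_one_iff_of_sub_lt (P : FunFld.Place k K) {y : K} {c : k}
    (h : P.1 (y - algebraMap k K c) < 1) : P.1 y < 1 ↔ c = 0 := by
  constructor
  · intro hy
    by_contra hc
    rw [val_eq_one_of_sub_lt P hc h] at hy
    exact lt_irrefl _ hy
  · rintro rfl
    simpa using h

theorem CR.add {P Q : FunFld.Place k K} {y y' : K} {c c' : k} (h : CR P Q y c)
    (h' : CR P Q y' c') : CR P Q (y + y') (c + c') := by
  have e : y + y' - algebraMap k K (c + c') =
      (y - algebraMap k K c) + (y' - algebraMap k K c') := by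
    rw [map_add]; ring
  refine ⟨?_, ?_⟩
  · rw [e]; exact (P.1.map_add _ _).trans_lt (max_lt h.1 h'.1)
  · rw [e]; exact (Q.1.map_add _ _).trans_lt (max_lt h.2 h'.2)

theorem mul_aux (P : FunFld.Place k K) {y y' : K} {c c' : k}
    (h : P.1 (y - algebraMap k K c) < 1) (h' : P.1 (y' - algebraMap k K c') < 1) :
    P.1 (y * y' - algebraMap k K (c * c')) < 1 := by
  have e : y * y' - algebraMap k K (c * c') =
      (y - algebraMap k K c) * y' + algebraMap k K c * (y' - algebraMap k K c') := by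
    rw [map_mul]; ring
  rw [e]
  refine (P.1.map_add _ _).trans_lt (max_lt ?_ ?_)
  · rw [map_mul]
    calc P.1 (y - algebraMap k K c) * P.1 y' ≤ P.1 (y - algebraMap k K c) * 1 :=
          mul_le_mul_right (val_le_one_of_sub_lt P h') _
      _ = P.1 (y - algebraMap k K c) := mul_one _
      _ < 1 := h
  · rw [map_mul]
    calc P.1 (algebraMap k K c) * P.1 (y' - algebraMap k K c')
        ≤ 1 * P.1 (y' - algebraMap k K c') := mul_le_mul_left (P.2.1 c) _
      _ = P.1 (y' - algebraMap k K c') := one_mul _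
      _ < 1 := h'

theorem CR.mul {P Q : FunFld.Place k K} {y y' : K} {c c' : k} (h : CR P Q y c)
    (h' : CR P Q y' c') : CR P Q (y * y') (c * c') :=
  ⟨mul_aux P h.1 h'.1, mul_aux Q h.2 h'.2⟩

theorem inv_aux (P : FunFld.Place k K) {y : K} {c : k} (hc : c ≠ 0)
    (h : P.1 (y - algebraMap k K c) < 1) :
    P.1 (y⁻¹ - algebraMap k K c⁻¹) < 1 := by
  have hy1 := val_eq_one_of_sub_lt P hc h
  have hy0 : y ≠ 0 := by
    rintro rfl
    simp at hy1
  have hc' : algebraMap k K c ≠ 0 := by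
    rw [Ne, map_eq_zero_iff _ (algebraMap k K).injective]; exact hc
  have e : y⁻¹ - algebraMap k K c⁻¹ = -(y - algebraMap k K c) * (y⁻¹ * algebraMap k K c⁻¹) := by
    rw [map_inv₀]
    field_simp
    ring
  rw [e, map_mul, Valuation.map_neg, map_mul, map_inv₀, hy1, inv_one, one_mul,
    place_val_algebraMap P (inv_ne_zero hc), mul_one]
  exact h

theorem CR.inv {P Q : FunFld.Place k K} {y : K} {c : k} (hc : c ≠ 0) (h : CR P Q y c) :
    CR P Q y⁻¹ c⁻¹ :=
  ⟨inv_aux P hc h.1, inv_aux Q hc h.2⟩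

/-- The subalgebra of elements congruent to a common constant modulo both maximal ideals. -/
def crAlg (P Q : FunFld.Place k K) : Subalgebra k K where
  carrier := {y | ∃ c : k, CR P Q y c}
  mul_mem' := by
    rintro y y' ⟨c, h⟩ ⟨c', h'⟩
    exact ⟨c * c', h.mul h'⟩
  add_mem' := by
    rintro y y' ⟨c, h⟩ ⟨c', h'⟩
    exact ⟨c + c', h.add h'⟩
  algebraMap_mem' := by
    intro c
    refine ⟨c, ?_, ?_⟩ <;> simp

theorem forward_dir {n : ℕ} (φ : Fin (n + 1) → K) (P Q : FunFld.Place k K)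
    (h : FunFld.SameImage φ P Q) (z : K) (hz : FunFld.InLocRing φ P z) :
    Q.1 z ≤ 1 ∧ (Q.1 z < 1 ↔ P.1 z < 1) := by
  obtain ⟨j, hj0, hPj, hQj, hc⟩ := h
  obtain ⟨j', hj'0, hPj', u, hu, w, hw, hPw, hzw⟩ := hz
  -- the ratio φ j' / φ j
  obtain ⟨c', hc'⟩ := hc j'
  have hPeq : P.1 (φ j' / φ j) = 1 := by
    have h1 : P.1 (φ j') = P.1 (φ j) := le_antisymm (hPj j') (hPj' j)
    rw [map_div₀, h1, div_self]
    rw [Ne, map_eq_zero]; exact hj0
  have hc'0 : c' ≠ 0 := by
    rintro rfl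
    have := (val_lt_one_iff_of_sub_lt P hc'.1).2 rfl
    rw [hPeq] at this
    exact lt_irrefl _ this
  have hinv : CR P Q (φ j' / φ j)⁻¹ c'⁻¹ := CR.inv hc'0 hc'
  have hle : Algebra.adjoin k (Set.range fun i => φ i / φ j') ≤ crAlg P Q := by
    apply Algebra.adjoin_le
    rintro _ ⟨i, rfl⟩
    obtain ⟨c, hci⟩ := hc i
    refine ⟨c * c'⁻¹, ?_⟩
    have e : φ i / φ j' = (φ i / φ j) * (φ j' / φ j)⁻¹ := by
      field_simp
    show CR P Q (φ i / φ j') (c * c'⁻¹)
    rw [e]
    exact CR.mul hci hinv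
  obtain ⟨u₀, hu₀⟩ := hle hu
  obtain ⟨w₀, hw₀⟩ := hle hw
  have hw₀0 : w₀ ≠ 0 := by
    rintro rfl
    have := (val_lt_one_iff_of_sub_lt P hw₀.1).2 rfl
    rw [hPw] at this
    exact lt_irrefl _ this
  have hQw : Q.1 w = 1 := val_eq_one_of_sub_lt Q hw₀0 hw₀.2
  have hQz : Q.1 z = Q.1 u := by rw [← hzw, map_mul, hQw, mul_one]
  have hPz : P.1 z = P.1 u := by rw [← hzw, map_mul, hPw, mul_one]
  rw [hQz, hPz]
  refine ⟨val_le_one_of_sub_lt Q hu₀.2, ?_⟩
  rw [val_lt_one_iff_of_sub_lt Q hu₀.2, val_lt_one_iff_of_sub_lt P hu₀.1]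

theorem backward_dir [IsAlgClosed k] (hK : FunFld.IsFunctionField k K) {n : ℕ}
    (φ : Fin (n + 1) → K) (hφ : LinearIndependent k φ) (P Q : FunFld.Place k K)
    (H : ∀ z : K, FunFld.InLocRing φ P z → (Q.1 z ≤ 1 ∧ (Q.1 z < 1 ↔ P.1 z < 1))) :
    FunFld.SameImage φ P Q := by
  obtain ⟨j, -, hj⟩ := Finset.exists_max_image Finset.univ (fun i => P.1 (φ i))
    Finset.univ_nonempty
  have hj0 : φ j ≠ 0 := hφ.ne_zero j
  have hPj : ∀ i, P.1 (φ i) ≤ P.1 (φ j) := fun i => hj i (Finset.mem_univ i)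
  have hloc : ∀ y ∈ Algebra.adjoin k (Set.range fun i => φ i / φ j), FunFld.InLocRing φ P y := by
    intro y hy
    exact ⟨j, hj0, hPj, y, hy, 1, Subalgebra.one_mem _, map_one _, mul_one y⟩
  have hmem : ∀ i, φ i / φ j ∈ Algebra.adjoin k (Set.range fun i => φ i / φ j) :=
    fun i => Algebra.subset_adjoin ⟨i, rfl⟩
  have hQj0 : Q.1 (φ j) ≠ 0 := by rw [Ne, map_eq_zero]; exact hj0
  have hPj0 : P.1 (φ j) ≠ 0 := by rw [Ne, map_eq_zero]; exact hj0
  refine ⟨j, hj0, hPj, ?_, ?_⟩
  · intro i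
    have := (H _ (hloc _ (hmem i))).1
    rw [map_div₀] at this
    exact (div_le_one₀ (zero_lt_iff.mpr hQj0)).mp this
  · intro i
    have hPi : P.1 (φ i / φ j) ≤ 1 := by
      rw [map_div₀]
      exact (div_le_one₀ (zero_lt_iff.mpr hPj0)).mpr (hPj i)
    obtain ⟨c, hc⟩ := place_exists_const_sub_lt_one hK P hPi
    refine ⟨c, hc, ?_⟩
    have hin : φ i / φ j - algebraMap k K c ∈
        Algebra.adjoin k (Set.range fun i => φ i / φ j) :=
      Subalgebra.sub_mem _ (hmem i) (Subalgebra.algebraMap_mem _ c)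
    exact (H _ (hloc _ hin)).2.mpr hc

/-- Over an algebraically closed constant field, for a projective map `φ = (φ₀, …, φₙ)`, `n ≥ 1`, and a
point `a = φ(P)` with local ring `O_a`, the fibre `φ⁻¹(a)` consists of the places `Q` with `O_a ⊆
O_Q` and `m_Q ∩ O_a` equal to the maximal ideal of `O_a` (which is `m_P ∩ O_a`). Here `O_a` consists
of the quotients of polynomials over `k` in the ratios `φᵢ/φⱼ`, `φⱼ` of least order at `P`, with
denominator a unit at `P`; and `Q` has the same image point as `P` when some entry has least order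
at both places and the ratios are congruent to common constants modulo both maximal ideals. -/
theorem result
    (k K : Type*) [Field k] [IsAlgClosed k] [Field K] [Algebra k K]
    (hK : FunFld.IsFunctionField k K) {n : ℕ} (hn : 1 ≤ n) (φ : Fin (n + 1) → K)
    (hφ : LinearIndependent k φ) (P Q : FunFld.Place k K) :
    FunFld.SameImage φ P Q ↔
      ∀ z : K, FunFld.InLocRing φ P z → (Q.1 z ≤ 1 ∧ (Q.1 z < 1 ↔ P.1 z < 1)) := by
  constructor
  · intro h z hz
    exact forward_dir φ P Q h z hz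
  · intro H
    exact backward_dir hK φ hφ P Q H

end Groth.Agent.S11078
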