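import Groth.Statements.S1561
import Groth.Agent.Lib.Helper14.GeomRegSmooth
import Groth.Agent.Lib.Helper26.RegularSmooth
import Groth.Agent.Lib.Helper26.RegularRing


set_option autoImplicit false
universe u
open CategoryTheory CategoryTheory.Limits AlgebraicGeometry
open Variety

namespace Groth.Agent.S1561

/-- Let X be reduced and locally of finite type over a perfect field k. Then a point lies in the smooth
locus of X → Spec k exactly when its local ring is regular, and this locus is dense in X. -/
theorem result (k : Type u) [Field k] (X : Scheme.{u}) [X.Over (Spec (CommRingCat.of k))] [PerfectField k] [IsReduced X]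
    [LocallyOfFinitePresentation (X ↘ (Spec (CommRingCat.of k)))] :
    (∀ x : X, x ∈ (X ↘ (Spec (CommRingCat.of k))).smoothLocus ↔ IsRegularLocalRing (X.presheaf.stalk x)) ∧
      Dense ((X ↘ (Spec (CommRingCat.of k))).smoothLocus : Set X) := by
  haveI : IsLocallyNoetherian X :=
    LocallyOfFiniteType.isLocallyNoetherian (X ↘ (Spec (CommRingCat.of k)))
  refine ⟨fun x => ⟨fun hx =>
    Groth.Agent.Lib.Helper14.GeomRegSmooth.isRegularLocalRing_stalk_of_mem_smoothLocus k
      (X ↘ (Spec (CommRingCat.of k))) x hx, fun hreg => ?_⟩,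
    Scheme.Hom.dense_smoothLocus_of_perfectField _⟩
  apply Groth.Agent.Lib.Helper14.GeomRegSmooth.mem_smoothLocus_of_formallySmooth_stalkStr
    (X ↘ (Spec (CommRingCat.of k))) x
  letI : Algebra k (X.presheaf.stalk x) :=
    (Groth.Agent.Lib.Helper14.GeomRegSmooth.stalkStr (X ↘ (Spec (CommRingCat.of k))) x).toAlgebra
  show Algebra.FormallySmooth k (X.presheaf.stalk x)
  haveI : Algebra.EssFiniteType k (X.presheaf.stalk x) :=
    Groth.Agent.Lib.Helper14.GeomRegSmooth.essFiniteType_stalkStr
      (X ↘ (Spec (CommRingCat.of k))) x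
  apply Groth.Agent.Lib.Helper14.GeomRegSmooth.formallySmooth_of_isGeometricallyRegular_local
  intro k' _ _ hfin
  haveI := hfin
  haveI : Algebra.IsAlgebraic k k' := Algebra.IsAlgebraic.of_finite k k'
  haveI : Algebra.IsSeparable k k' := Algebra.IsAlgebraic.isSeparable_of_perfectField
  haveI : Algebra.FormallyEtale k k' := Algebra.FormallyEtale.of_isSeparable k k'
  haveI : Algebra.FinitePresentation k k' := Algebra.FinitePresentation.of_finiteType.mp inferInstance
  haveI : Algebra.Etale k k' := ⟨inferInstance, inferInstance⟩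
  haveI := hreg
  haveI : IsRegularRing (X.presheaf.stalk x) :=
    Groth.Agent.Lib.Helper26.RegularRing.isRegularRing_of_isRegularLocalRing _
  haveI : Algebra.Etale (X.presheaf.stalk x) (TensorProduct k (X.presheaf.stalk x) k') :=
    inferInstance
  haveI : IsRegularRing (TensorProduct k (X.presheaf.stalk x) k') :=
    Groth.Agent.Lib.Helper26.RegularSmooth.isRegularRing_of_smooth (X.presheaf.stalk x) _
  exact IsRegularRing.of_ringEquiv
    (Algebra.TensorProduct.comm k (X.presheaf.stalk x) k').toRingEquiv

end Groth.Agent.S1561
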