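import Groth.Statements.S15733
-- import your own Groth.Agent.* helpers here
import Mathlib
import Groth.Agent.Lib.Helper23.HJ

set_option autoImplicit false
open W4c2invhilbsl2

namespace Groth.Agent.S15733

/-- Let 0 < p < q be coprime integers and m ≥ 1 such that q − p does not divide m; put g = gcd(m, q−p),
b = (q−p)/g, α = ⌊mp/(q−p)⌋, β = the remainder of mp modulo q−p and t = (q−p−β)/g, so that 1 ≤ t <
b, and let b/t = c₁ − 1/(c₂ − 1/(⋯ − 1/c_r)) be the negative-regular (Hirzebruch–Jung) continued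
fraction expansion with every cᵢ ≥ 2; set P₀ = 0, P₁ = 1, Q₀ = −1, Q₁ = 0, Pᵢ = cᵢ₋₁Pᵢ₋₁ − Pᵢ₋₂, Qᵢ
= cᵢ₋₁Qᵢ₋₁ − Qᵢ₋₂ for 2 ≤ i ≤ r+1, and eᵢ = (α+1+m)Pᵢ − Qᵢ, lᵢ = (α+1)Pᵢ − Qᵢ, nᵢ = q·lᵢ − p·eᵢ,
which are non-negative integers for 0 ≤ i ≤ r+1. Then for every 1 < i ≤ r and every integer x with 0
< x < Pᵢ, the remainder of pmx + nᵢ on division by q − p equals nᵢ plus the remainder of pmx on
division by q − p (in particular nᵢ + (pmx mod (q−p)) < q − p). -/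
theorem result (p q m : ℕ) (hp : 0 < p) (hpq : p < q) (hcop : Nat.Coprime p q) (hm : 0 < m) (hnt : ¬ (q - p ∣ m)) (c : List ℤ) (hc : W4c2invhilbsl2.IsHJDigits p q m c) (i : ℕ) (hi : 1 < i) (hir : i ≤ c.length)
    (x : ℤ) (hx0 : 0 < x) (hx : x < W4c2invhilbsl2.hjP c i) :
    Int.emod ((p : ℤ) * m * x + W4c2invhilbsl2.nN p q m c i) ((q : ℤ) - p) = W4c2invhilbsl2.nN p q m c i + Int.emod ((p : ℤ) * m * x) ((q : ℤ) - p) := by
  obtain ⟨hG, hGB, hGT, hT0, hTB, hn, hdec, hone, hzero⟩ :=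
    Groth.Agent.Lib.Helper23.HJ.hj_facts hp hpq hcop hm hnt c hc
  obtain ⟨hlow, -⟩ := Groth.Agent.Lib.Helper23.HJ.emod_bounds hc.1 hdec hzero i hi hir x hx0 hx
  have hBpos : (0 : ℤ) < W4c2invhilbsl2.bB p q m := lt_trans hT0 hTB
  set G : ℤ := (W4c2invhilbsl2.gcdK p q m : ℤ) with hGdef
  set B : ℤ := (W4c2invhilbsl2.bB p q m : ℤ) with hBdef
  set T : ℤ := (W4c2invhilbsl2.tT p q m : ℤ) with hTdef
  set A : ℤ := (W4c2invhilbsl2.alpha p q m : ℤ) with hAdef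
  have hρB : (T * x) % B < B := Int.emod_lt_of_pos _ hBpos
  have hρ : (T * x) % B = T * x - B * ((T * x) / B) := Int.emod_def _ _
  set ρ : ℤ := (T * x) % B with hρdef
  set k : ℤ := (T * x) / B with hkdef
  have hti1 : Groth.Agent.Lib.Helper23.HJ.sq c B T i < Groth.Agent.Lib.Helper23.HJ.sq c B T (i - 1) := by
    have := hdec (i - 1) (by omega)
    have e : i - 1 + 1 = i := by omega
    rwa [e] at this
  have hti0 : 0 < Groth.Agent.Lib.Helper23.HJ.sq c B T i := by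
    have := Groth.Agent.Lib.Helper23.HJ.sq_antitone hdec i (c.length + 1) (by omega) le_rfl
    rwa [hzero] at this
  have hni : W4c2invhilbsl2.nN p q m c i = G * Groth.Agent.Lib.Helper23.HJ.sq c B T i := hn i
  have hM : (p : ℤ) * m * x = ((q : ℤ) - p - G * ρ) + ((q : ℤ) - p) * (A * x + x - k - 1) := by
    rw [hρ]
    linear_combination x * hGT - k * hGB
  have hGρ : G * ρ < (q : ℤ) - p := by
    rw [← hGB]; exact mul_lt_mul_of_pos_left hρB hG
  have hGρ0 : 0 < G * ρ := mul_pos hG (by linarith)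
  have hGt : G * Groth.Agent.Lib.Helper23.HJ.sq c B T i < G * ρ := mul_lt_mul_of_pos_left (by linarith) hG
  have hGt0 : 0 < G * Groth.Agent.Lib.Helper23.HJ.sq c B T i := mul_pos hG hti0
  have h1 : ((p : ℤ) * m * x) % ((q : ℤ) - p) = (q : ℤ) - p - G * ρ :=
    Groth.Agent.Lib.Helper23.HJ.emod_eq_of_repr hM (by linarith) (by linarith)
  have h2 : ((p : ℤ) * m * x + W4c2invhilbsl2.nN p q m c i) % ((q : ℤ) - p)
      = (q : ℤ) - p - G * ρ + G * Groth.Agent.Lib.Helper23.HJ.sq c B T i :=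
    Groth.Agent.Lib.Helper23.HJ.emod_eq_of_repr (k := A * x + x - k - 1) (by rw [hni]; linarith)
      (by linarith) (by linarith)
  show ((p : ℤ) * m * x + W4c2invhilbsl2.nN p q m c i) % ((q : ℤ) - p)
      = W4c2invhilbsl2.nN p q m c i + ((p : ℤ) * m * x) % ((q : ℤ) - p)
  rw [h1, h2, hni]; ring

end Groth.Agent.S15733
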