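import Groth.Statements.S12111
import Groth.Agent.Lib.Helper7.ClTransfer
import Groth.Agent.Lib.Helper7.GGTwist
import Groth.Agent.Lib.Helper7.Mumford

set_option autoImplicit false
universe u
open CategoryTheory CategoryTheory.Limits AlgebraicGeometry
open Pic13

namespace Groth.Agent.S12111

/-- Let k be an algebraically closed field, i : X ⟶ P^n_k a closed immersion and O_X(1) = i^*O(1). If a
coherent O_X-module F is m-regular (H^q(X, F(m - q)) = 0 for every q ≥ 1) then for every integer n'
≥ m, F is n'-regular and F(n') is generated by its global sections. (The published statement is for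
a projective k-scheme with an ample O_X(1) generated by its sections at the points of the support of
F; this row is the case of a closed subscheme of projective space.) -/
theorem result (k : Type u) [Field k] [IsAlgClosed k] (n : ℕ) {X : Scheme.{u}}
    (i : X ⟶ CohB1.ProjSpace n k) [IsClosedImmersion i] (F : X.Modules) (hF : Coh.IsCoh F) (m : ℤ)
    (h : Pic13.IsMRegular k i F m) (n' : ℤ) (hn' : m ≤ n') :
    Pic13.IsMRegular k i F n' ∧ Curv2.IsGloballyGenerated (Pic13.twistOn k i F n') := by
  have hF' := Groth.Agent.Lib.Helper7.ClTransfer.isCoh_push k i F hF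
  have hreg : ∀ q : ℕ, 1 ≤ q → Subsingleton (Coh.HH (CohB1.ProjSpace n k)
      (CohB1.tensorMod ((Scheme.Modules.pushforward i).obj F)
        (Twist.twistProjSpace n k (m - q))) q) :=
    fun q hq => (Groth.Agent.Lib.Helper7.ClTransfer.sub_iff k i F (m - q) q).mp (h q hq)
  have hge : ∀ (q : ℕ) (r : ℤ), 1 ≤ q → m - q ≤ r → Subsingleton (Coh.HH (CohB1.ProjSpace n k)
      (CohB1.tensorMod ((Scheme.Modules.pushforward i).obj F)
        (Twist.twistProjSpace n k r)) q) :=
    fun q r hq hr => Groth.Agent.Lib.Helper7.Mumford.regular_ge n k _ hF'.1 m hreg q r hq hr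
  refine ⟨fun q hq => (Groth.Agent.Lib.Helper7.ClTransfer.sub_iff k i F (n' - q) q).mpr
    (hge q _ hq (by omega)), ?_⟩
  obtain ⟨I, p, hp⟩ := Groth.Agent.Lib.Helper7.GGTwist.isGloballyGenerated_twist n k
    ((Scheme.Modules.pushforward i).obj F) hF' n' (fun q hq => hge q _ hq (by omega))
  have hτ : Epi (p ≫ (Groth.Agent.Lib.Helper7.ClTransfer.pushTw k i F n').hom) :=
    @epi_comp _ _ _ _ _ p hp _
      (@IsIso.epi_of_iso _ _ _ _ _ (Iso.isIso_hom (Groth.Agent.Lib.Helper7.ClTransfer.pushTw k i F n')))
  obtain ⟨σ, hσ⟩ := @Groth.Agent.Lib.Helper13.ClImmPC.exists_epi_free_of_push _ _ i _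
    (Pic13.twistOn k i F n') I (p ≫ (Groth.Agent.Lib.Helper7.ClTransfer.pushTw k i F n').hom) hτ
  exact ⟨I, σ, hσ⟩

end Groth.Agent.S12111
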