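import Groth.Statements.S11011
-- import your own Groth.Agent.* helpers here
import Groth.Agent.Lib.Helper23.PIns1

set_option autoImplicit false
universe u v
open FunFld

namespace Groth.Agent.S11011



/-- For a place `P` of a geometric function field of one variable `K/k` and a finite extension `k'/k`
with either `k'/k` or `F_P/k` purely inseparable, `P` has exactly one place of `k' ⊗_k K` above it. -/
theorem result (k k' : Type u) (K K' : Type v) [Field k] [Field k'] [Field K] [Field K']
    [Algebra k k'] [FiniteDimensional k k'] [Algebra k K] [Algebra K K'] [Algebra k' K'] [Algebra k K']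
    [IsScalarTower k k' K'] [IsScalarTower k K K']
    (h : Function.Bijective (Algebra.TensorProduct.productMap
      (IsScalarTower.toAlgHom k k' K') (IsScalarTower.toAlgHom k K K')))
    (hK : FunFld.IsFunctionField k K) (hg : FunFld.IsGeometric k K) (P : FunFld.Place k K)
    (hpi : IsPurelyInseparable k k' ∨ IsPurelyInseparable k (IsLocalRing.ResidueField P.O)) :
    ∃! Q : FunFld.Place k K', FunFld.IsOver Q P := by
  classical
  haveI hfd : FiniteDimensional K K' := Groth.Agent.Lib.Helper27.Geo.finiteDimensional_of_bijective h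
  obtain ⟨Q, hQ⟩ := Groth.Agent.Lib.Helper23.PIns.exists_isOver (K' := K') hK P
  refine ⟨Q, hQ, fun Q' hQ' => ?_⟩
  obtain ⟨q, hq⟩ := ExpChar.exists k
  haveI : ExpChar K' q := expChar_of_injective_algebraMap (algebraMap k K').injective q
  have hq0 : ∀ n : ℕ, q ^ n ≠ 0 := fun n => pow_ne_zero _ (expChar_pos k q).ne'
  rcases hpi with hpi | hpi
  · -- `k'/k` purely inseparable
    haveI := hpi
    apply Groth.Agent.Lib.Helper23.PIns.isOver_unique_of_pow_mem (P := P) _ hQ' hQ
    intro z
    obtain ⟨n, hn⟩ := Groth.Agent.Lib.Helper23.PIns.pow_mem_of_generated h.2 q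
      (⊥ : IntermediateField K K') (fun c => by
        obtain ⟨n, b, hb⟩ := IsPurelyInseparable.pow_mem k q c
        refine ⟨n, ?_⟩
        rw [← map_pow, ← hb, ← IsScalarTower.algebraMap_apply,
          IsScalarTower.algebraMap_apply k K K']
        exact IntermediateField.algebraMap_mem _ _) z
    obtain ⟨x, hx⟩ := IntermediateField.mem_bot.mp hn
    exact ⟨q ^ n, hq0 n, x, hx.symm⟩
  · -- `F_P/k` purely inseparable
    haveI := hpi
    obtain ⟨α₀, hα₀⟩ := Field.exists_primitive_element k (separableClosure k k')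
    obtain ⟨α, hα⟩ : ∃ α : k', α = (α₀ : k') := ⟨_, rfl⟩
    have hαsep : (minpoly k α).Separable := by
      rw [hα]; exact mem_separableClosure_iff.mp α₀.2
    have hαint : IsIntegral k α := Algebra.IsIntegral.isIntegral α
    obtain ⟨α', hα'⟩ : ∃ α' : K', α' = algebraMap k' K' α := ⟨_, rfl⟩
    obtain ⟨E, hE⟩ : ∃ E : IntermediateField K K', E = IntermediateField.adjoin K {α'} := ⟨_, rfl⟩
    have hα'E : α' ∈ E := by rw [hE]; exact IntermediateField.mem_adjoin_simple_self K α'
    -- the image of the separable closure lies in `E`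
    have hk₀E : ∀ b : separableClosure k k', algebraMap k' K' (b : k') ∈ E := by
      intro b
      let ψ : separableClosure k k' →ₐ[k] K' :=
        (IsScalarTower.toAlgHom k k' K').comp (separableClosure k k').val
      have h1 : ψ b ∈ (IntermediateField.adjoin k ({α₀} : Set (separableClosure k k'))).map ψ :=
        ⟨b, by rw [hα₀]; trivial, rfl⟩
      rw [IntermediateField.adjoin_map, Set.image_singleton] at h1
      have h2 : IntermediateField.adjoin k ({ψ α₀} : Set K') ≤ E.restrictScalars k := by
        rw [IntermediateField.adjoin_le_iff]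
        rintro _ rfl
        show ψ α₀ ∈ E
        have : ψ α₀ = α' := by rw [hα', hα]; rfl
        rw [this]; exact hα'E
      exact h2 h1
    haveI : ExpChar (separableClosure k k') q :=
      expChar_of_injective_algebraMap (algebraMap k (separableClosure k k')).injective q
    have hE1 : ∀ c : k', ∃ n : ℕ, (algebraMap k' K' c) ^ q ^ n ∈ E := by
      intro c
      obtain ⟨n, b, hb⟩ := IsPurelyInseparable.pow_mem (separableClosure k k') q c
      refine ⟨n, ?_⟩
      rw [← map_pow, ← hb]
      exact hk₀E b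
    have hpowE := Groth.Agent.Lib.Helper23.PIns.pow_mem_of_generated h.2 q E hE1
    haveI : IsScalarTower k E K' := IsScalarTower.of_algebraMap_eq (fun c => rfl)
    -- uniqueness of the place of `E` over `P`
    have hα'int : IsIntegral k α' := by rw [hα']; exact hαint.map (IsScalarTower.toAlgHom k k' K')
    have hminα' : minpoly k α' = minpoly k α := by
      rw [hα']; exact minpoly.algebraMap_eq (algebraMap k' K').injective α
    obtain ⟨a, ha⟩ : ∃ a : E, (a : K') = α' := ⟨⟨α', hα'E⟩, rfl⟩
    have hmina : minpoly k a = minpoly k α := by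
      rw [← hminα', ← ha]
      exact (minpoly.algebraMap_eq (algebraMap E K').injective a).symm
    have haint : IsIntegral k a := by
      rw [← isIntegral_algebraMap_iff (algebraMap E K').injective]
      show IsIntegral k (a : K')
      rw [ha]; exact hα'int
    have hnpos : 0 < (minpoly k α).natDegree := minpoly.natDegree_pos hαint
    have hfrE : Module.finrank K E ≤ (minpoly k α).natDegree := by
      have hint' : IsIntegral K α' := hα'int.tower_top
      rw [hE, IntermediateField.adjoin.finrank hint', ← hminα']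
      have hdvd := minpoly.dvd_map_of_isScalarTower k K α'
      have hne : (minpoly k α').map (algebraMap k K) ≠ 0 :=
        ((minpoly.monic hα'int).map _).ne_zero
      have := Polynomial.natDegree_le_of_dvd hdvd hne
      rwa [Polynomial.natDegree_map] at this
    have hterm : ∀ Q₁ : FunFld.Place k E, FunFld.IsOver Q₁ P →
        (minpoly k α).natDegree * P.deg ≤ FunFld.ramIdx Q₁ P * Q₁.deg := by
      intro Q₁ hQ₁
      obtain ⟨e₁, he₁⟩ := hQ₁
      have hpos := Groth.Agent.Lib.Helper23.PIns.deg_pos_tower (K' := E) hK Q₁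
      have h1 := Groth.Agent.Lib.Helper23.PIns.deg_ge_of_residue_root he₁ hpos a haint
        (by rw [hmina]; exact hαsep)
      rw [hmina] at h1
      rw [Groth.Agent.Lib.Helper27.FF.ramIdx_eq he₁]
      have h2 := Groth.Agent.Lib.Helper27.FF.isOverWith_pos he₁
      calc (minpoly k α).natDegree * P.deg ≤ Q₁.deg := h1
        _ = 1 * Q₁.deg := (one_mul _).symm
        _ ≤ e₁ * Q₁.deg := Nat.mul_le_mul_right _ h2
    have huniqE : ∀ Q₁ Q₂ : FunFld.Place k E, FunFld.IsOver Q₁ P → FunFld.IsOver Q₂ P →
        Q₁ = Q₂ := by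
      intro Q₁ Q₂ h₁ h₂
      by_contra hne
      obtain ⟨hfin, hsum⟩ := Groth.Agent.Lib.Helper27.FF.sum_ramIdx_mul_deg (K' := E) hK P
      have hS := hsum hfin.toFinset (fun Q => hfin.mem_toFinset)
      have hpair : ({Q₁, Q₂} : Finset (FunFld.Place k E)) ⊆ hfin.toFinset := by
        intro Q₃ hQ₃
        rw [Finset.mem_insert, Finset.mem_singleton] at hQ₃
        rw [hfin.mem_toFinset]
        rcases hQ₃ with rfl | rfl
        · exact h₁
        · exact h₂
      have hle := Finset.sum_le_sum_of_subset (f := fun Q => FunFld.ramIdx Q P * Q.deg) hpair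
      rw [Finset.sum_pair hne, hS] at hle
      have t1 := hterm Q₁ h₁
      have t2 := hterm Q₂ h₂
      have hPdeg := Groth.Agent.Lib.Helper27.FF.one_le_deg' hK P
      have h5 : Module.finrank K E * P.deg ≤ (minpoly k α).natDegree * P.deg :=
        Nat.mul_le_mul_right _ hfrE
      have h6 : 0 < (minpoly k α).natDegree * P.deg := Nat.mul_pos hnpos (by omega)
      linarith
    -- places of `E` below `Q` and `Q'`
    have hbelow : ∀ Q₁ : FunFld.Place k K', FunFld.IsOver Q₁ P →
        ∃ Q₀ : FunFld.Place k E, FunFld.IsOver Q₁ Q₀ ∧ FunFld.IsOver Q₀ P := by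
      intro Q₁ hQ₁
      obtain ⟨e, he⟩ := hQ₁
      obtain ⟨Q₀, e₀, h₀⟩ := Groth.Agent.Lib.Helper23.Inert.exists_below_tower hK (E := E) Q₁
      obtain ⟨P₀, e₁, h₁⟩ := Groth.Agent.Lib.Helper27.FF.exists_isOverWith hK Q₀
      have h2 := Groth.Agent.Lib.Helper23.FF.isOverWith_trans h₀ h₁
      obtain ⟨hP, -⟩ := Groth.Agent.Lib.Helper27.FF.isOverWith_unique h2 he
      subst hP
      exact ⟨Q₀, ⟨e₀, h₀⟩, ⟨e₁, h₁⟩⟩
    obtain ⟨Q₀, hQQ₀, hQ₀P⟩ := hbelow Q hQ
    obtain ⟨Q₀', hQ'Q₀', hQ₀'P⟩ := hbelow Q' hQ'
    have hQ₀eq : Q₀' = Q₀ := huniqE _ _ hQ₀'P hQ₀P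
    subst hQ₀eq
    apply Groth.Agent.Lib.Helper23.PIns.isOver_unique_of_pow_mem (K := E) (P := Q₀') _ hQ'Q₀' hQQ₀
    intro z
    obtain ⟨n, hn⟩ := hpowE z
    exact ⟨q ^ n, hq0 n, ⟨_, hn⟩, rfl⟩

end Groth.Agent.S11011
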