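import Groth.Statements.S11012
-- import your own Groth.Agent.* helpers here
import Groth.Agent.Lib.Helper23.IntCl2

set_option autoImplicit false
universe u v
open FunFld

namespace Groth.Agent.S11012



/-- Under a finite separable constant extension `k'/k` of a geometric function field of one variable,
the integral closure of `O_P` in `k' ⊗_k K` is `k' ⊗_k O_P` and every place above `P` has
ramification index `1`. -/
theorem result (k k' : Type u) (K K' : Type v) [Field k] [Field k'] [Field K] [Field K']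
    [Algebra k k'] [FiniteDimensional k k'] [Algebra k K] [Algebra K K'] [Algebra k' K'] [Algebra k K']
    [IsScalarTower k k' K'] [IsScalarTower k K K']
    (h : Function.Bijective (Algebra.TensorProduct.productMap
      (IsScalarTower.toAlgHom k k' K') (IsScalarTower.toAlgHom k K K')))
    (hK : FunFld.IsFunctionField k K) (hg : FunFld.IsGeometric k K) [Algebra.IsSeparable k k']
    (P : FunFld.Place k K) [Algebra P.O K'] [IsScalarTower P.O K K']
    (Q : FunFld.Place k K') (hQ : FunFld.IsOver Q P) :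
    (integralClosure P.O K').toSubring =
      (Algebra.adjoin P.O (Set.range (algebraMap k' K'))).toSubring ∧
    FunFld.IsOverWith Q P 1 := by
  classical
  haveI hfd : FiniteDimensional K K' := Groth.Agent.Lib.Helper27.Geo.finiteDimensional_of_bijective h
  haveI : Algebra.FormallyUnramified k k' := Algebra.FormallyUnramified.of_isSeparable k k'
  have hred0 : IsReduced (TensorProduct k (Groth.Agent.Lib.Helper23.IntCl.ResF P) k') :=
    Algebra.FormallyUnramified.isReduced_of_field (Groth.Agent.Lib.Helper23.IntCl.ResF P)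
      (TensorProduct k (Groth.Agent.Lib.Helper23.IntCl.ResF P) k')
  have hred : IsReduced (TensorProduct k k' (Groth.Agent.Lib.Helper23.IntCl.ResF P)) :=
    isReduced_of_injective (Algebra.TensorProduct.comm k k' (Groth.Agent.Lib.Helper23.IntCl.ResF P))
      (Algebra.TensorProduct.comm k k' (Groth.Agent.Lib.Helper23.IntCl.ResF P)).injective
  obtain ⟨t, ht0, ht⟩ := Groth.Agent.Lib.Helper27.FF.exists_unif P
  have hexp1 : (WithZero.exp (-1 : ℤ) : WithZero (Multiplicative ℤ)) ≤ 1 := by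
    rw [← WithZero.exp_zero, WithZero.exp_le_exp]; norm_num
  have hexp2 : (WithZero.exp (-2 : ℤ) : WithZero (Multiplicative ℤ)) ≤ WithZero.exp (-1 : ℤ) := by
    rw [WithZero.exp_le_exp]; norm_num
  have htle : P.1 t ≤ 1 := by rw [ht]; exact hexp1
  obtain ⟨hcl, hredS⟩ := Groth.Agent.Lib.Helper23.IntCl.adjoin_core h P
    (Groth.Agent.Lib.Helper23.IntCl.resHom P) (Groth.Agent.Lib.Helper23.IntCl.resHom_surjective P)
    (Groth.Agent.Lib.Helper23.IntCl.resHom_eq_zero_iff P) hred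
    ⟨t, (Valuation.mem_valuationSubring_iff _ _).mpr htle⟩ ht
  refine ⟨hcl, ?_⟩
  obtain ⟨e, he⟩ := hQ
  have hepos := Groth.Agent.Lib.Helper27.FF.isOverWith_pos he
  suffices hsuff : e = 1 by subst hsuff; exact he
  by_contra hne
  have he2 : 2 ≤ e := by omega
  obtain ⟨hfin, -⟩ := Groth.Agent.Lib.Helper27.FF.sum_ramIdx_mul_deg (K' := K') hK P
  obtain ⟨T, hT⟩ : ∃ T : Finset (FunFld.Place k K'), T = hfin.toFinset := ⟨_, rfl⟩
  have hmemT : ∀ Q' : FunFld.Place k K', Q' ∈ T ↔ FunFld.IsOver Q' P := by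
    intro Q'; rw [hT]; exact hfin.mem_toFinset
  have hQT : Q ∈ T := (hmemT Q).mpr ⟨e, he⟩
  obtain ⟨π, hπ0, hπ⟩ := Groth.Agent.Lib.Helper27.FF.exists_unif Q
  obtain ⟨u, hu⟩ := Groth.Agent.Lib.Helper23.FF.weak_approx
    (fun Q' : ↥T => (Q' : FunFld.Place k K')) Subtype.coe_injective
    (fun Q' => if (Q' : FunFld.Place k K') = Q then π else 0) 2
  have huQ : Q.1 u = WithZero.exp (-1 : ℤ) := by
    have h1 := hu ⟨Q, hQT⟩
    rw [if_pos rfl] at h1
    rw [← hπ]
    apply Valuation.map_eq_of_sub_lt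
    refine lt_of_le_of_lt h1 ?_
    rw [hπ, WithZero.exp_lt_exp]; norm_num
  have huQ' : ∀ Q' : FunFld.Place k K', FunFld.IsOver Q' P → Q' ≠ Q →
      Q'.1 u ≤ WithZero.exp (-2 : ℤ) := by
    intro Q' hQ' hne'
    have h1 := hu ⟨Q', (hmemT Q').mpr hQ'⟩
    rw [if_neg hne', sub_zero] at h1
    exact h1
  have hu1 : ∀ Q' : FunFld.Place k K', FunFld.IsOver Q' P → Q'.1 u ≤ WithZero.exp (-1 : ℤ) := by
    intro Q' hQ'
    by_cases hQQ : Q' = Q
    · rw [hQQ, huQ]
    · exact (huQ' Q' hQ' hQQ).trans hexp2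
  obtain ⟨N, hNdef⟩ : ∃ N : ℕ, N = ∑ Q' ∈ T, FunFld.ramIdx Q' P := ⟨_, rfl⟩
  have hN : ∀ (Q' : FunFld.Place k K') (e' : ℕ), FunFld.IsOverWith Q' P e' → e' ≤ N := by
    intro Q' e' he'
    rw [hNdef, ← Groth.Agent.Lib.Helper27.FF.ramIdx_eq he']
    exact Finset.single_le_sum (f := fun Q' => FunFld.ramIdx Q' P) (fun _ _ => Nat.zero_le _)
      ((hmemT Q').mpr ⟨e', he'⟩)
  obtain ⟨S, hS⟩ : ∃ S : Subalgebra P.O K',
    S = Algebra.adjoin P.O (Set.range (algebraMap k' K')) := ⟨_, rfl⟩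
  rw [← hS] at hcl hredS
  have hmemS : ∀ z : K', (∀ Q' : FunFld.Place k K', FunFld.IsOver Q' P → Q'.1 z ≤ 1) → z ∈ S := by
    intro z hz
    have h1 : z ∈ (integralClosure P.O K').toSubring :=
      Groth.Agent.Lib.Helper23.IntCl.isIntegral_of_forall_isOver hK P hz
    rw [hcl] at h1
    exact h1
  have hvalS : ∀ z ∈ S, Q.1 z ≤ 1 := by
    intro z hz
    have h1 : z ∈ (integralClosure P.O K').toSubring := by rw [hcl]; exact hz
    exact Groth.Agent.Lib.Helper23.IntCl.val_le_one_of_isIntegral_O ⟨e, he⟩ h1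
  have huS : u ∈ S := hmemS u (fun Q' hQ' => (hu1 Q' hQ').trans hexp1)
  obtain ⟨t', ht'def⟩ : ∃ t' : K', t' = algebraMap P.O K'
    ⟨t, (Valuation.mem_valuationSubring_iff _ _).mpr htle⟩ := ⟨_, rfl⟩
  rw [← ht'def] at hredS
  have ht' : t' = algebraMap K K' t := by
    rw [ht'def]; exact Groth.Agent.Lib.Helper23.IntCl.algebraMap_O_eq P _
  have ht'0 : t' ≠ 0 := by rw [ht']; exact (map_ne_zero _).mpr ht0
  have hrS : u ^ N / t' ∈ S := hmemS _ (fun Q' hQ' => by
    obtain ⟨e', he'⟩ := hQ'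
    rw [map_div₀, map_pow, ht', he' t, ht]
    apply div_le_one_of_le₀ _ zero_le
    calc Q'.1 u ^ N ≤ WithZero.exp (-1 : ℤ) ^ N := pow_le_pow_left₀ zero_le (hu1 Q' ⟨e', he'⟩) N
      _ ≤ WithZero.exp (-1 : ℤ) ^ e' := pow_le_pow_of_le_one zero_le hexp1 (hN Q' e' he'))
  have hpow : u ^ N = t' * (u ^ N / t') := (mul_div_cancel₀ _ ht'0).symm
  obtain ⟨r, hr, hur⟩ := hredS u huS N ⟨_, hrS, hpow⟩
  have h5 : Q.1 u ≤ Q.1 t' := by
    rw [hur, map_mul]
    exact mul_le_of_le_one_right' (hvalS r hr)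
  rw [huQ, ht', he t, ht, ← WithZero.exp_nsmul, WithZero.exp_le_exp] at h5
  simp only [smul_eq_mul, nsmul_eq_mul, mul_neg, mul_one, neg_le_neg_iff] at h5
  have h6 : e ≤ 1 := by exact_mod_cast h5
  omega

end Groth.Agent.S11012
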