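import Groth.Statements.S14765
-- import your own Groth.Agent.* helpers here
import Groth.Agent.Lib.Helper22.Subtr
import Groth.Agent.Lib.Helper23.SubtrA
import Groth.Agent.Lib.Helper23.SubtrB
import Groth.Agent.Lib.Helper23.SubtrD

set_option autoImplicit false
universe u
open CategoryTheory CategoryTheory.Limits AlgebraicGeometry
open Subtr

namespace Groth.Agent.S14765



/-- Let V be a valuation ring and f : X ⟶ Spec V any morphism of schemes. The following are equivalent:
(a) after every base change, every ordered pair of points of the target (a point and a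
specialization of it) lifts to an ordered pair of points of the source; (b) every ordered pair of
points of Spec V lifts to an ordered pair of points of X; (c) every point of Spec V is the image of
a point of X lying in the closure of the generic fibre; (d) the pair formed by the closed point and
the generic point of Spec V lifts to points x, x' of X with x a specialization of x'; (e) there are
a valuation ring W and a morphism Spec W ⟶ X whose composite with f is surjective; (f) there is a
closed subscheme Z of X such that Z ⟶ Spec V is flat and surjective. (The published list also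
contains subtrusiveness and universal subtrusiveness, which add submersiveness for the constructible
topology, and the lifting of arbitrary chains of points; this row omits those items and keeps the
lifting property alone in (a).) -/
theorem result (V : Type u) [CommRing V] [IsDomain V] [ValuationRing V]
    {X : Scheme.{u}} (f : X ⟶ Spec (CommRingCat.of V)) :
    List.TFAE [
      Subtr.UnivSSubtrusive f,
      Subtr.IsSSubtrusive f,
      ∀ y : Spec (CommRingCat.of V), ∃ x : X,
        x ∈ closure (f ⁻¹' {(⟨⊥, Ideal.isPrime_bot⟩ : PrimeSpectrum V)}) ∧ f x = y,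
      ∃ x x' : X, x' ⤳ x ∧ f x = IsLocalRing.closedPoint V ∧
        f x' = (⟨⊥, Ideal.isPrime_bot⟩ : PrimeSpectrum V),
      ∃ (W : Type u) (_ : CommRing W) (_ : IsDomain W) (_ : ValuationRing W)
        (g : Spec (CommRingCat.of W) ⟶ X), Surjective (g ≫ f),
      ∃ (Z : Scheme.{u}) (i : Z ⟶ X), IsClosedImmersion i ∧ Flat (i ≫ f) ∧ Surjective (i ≫ f)] := by
  open Groth.Agent.Lib.Helper22.SubtrLib in
  tfae_have 1 → 2 := fun h => h (𝟙 _) (𝟙 _) f (IsPullback.id_vert f)
  tfae_have 2 → 3 := by
    intro h y
    obtain ⟨x, x', hxx', hx, hx'⟩ := h (Groth.Agent.Lib.Helper23.SubtrD.genPt_specializes V y)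
    have hsub : ({x'} : Set X) ⊆ f ⁻¹' {(⟨⊥, Ideal.isPrime_bot⟩ : PrimeSpectrum V)} := by
      rw [Set.singleton_subset_iff]
      exact hx'
    exact ⟨x, closure_mono hsub hxx'.mem_closure, hx⟩
  tfae_have 3 → 4 := by
    intro h
    obtain ⟨x, hxcl, hx⟩ := h (IsLocalRing.closedPoint V : PrimeSpectrum V)
    obtain ⟨x', hx'x, hx'⟩ :=
      Groth.Agent.Lib.Helper23.SubtrB.exists_generization_genPt V f x hxcl
    exact ⟨x, x', hx'x, hx, hx'⟩
  tfae_have 4 → 5 := by
    rintro ⟨x, x', hspec, hx, hx'⟩
    obtain ⟨W, i1, i2, i3, g, hcl, hgen⟩ :=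
      Groth.Agent.Lib.Helper22.SubtrLib.exists_valuationRing_of_specializes hspec
    refine ⟨W, i1, i2, i3, g,
      Groth.Agent.Lib.Helper22.SubtrLib.surjective_of_clPt_genPt (g ≫ f) ?_ ?_⟩
    · rw [Scheme.Hom.comp_apply, hcl, hx]
    · rw [Scheme.Hom.comp_apply, hgen, hx']
  tfae_have 5 → 6 := by
    rintro ⟨W, i1, i2, i3, g, hs⟩
    exact Groth.Agent.Lib.Helper23.SubtrD.exists_flat_closed f g hs
  tfae_have 6 → 1 := by
    rintro ⟨Z, i, _, hflat, hsurj⟩
    exact Groth.Agent.Lib.Helper23.SubtrA.univSSubtrusive_of_flat_surjective f i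
  tfae_finish

end Groth.Agent.S14765
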