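import Groth.Statements.S12606
import Groth.Agent.Lib.Helper27.HD18
open Groth.Agent.Lib.Helper27

set_option autoImplicit false
open FunFld

namespace Groth.Agent.S12606

/-- Over an algebraically closed constant field, let `P` be a strong fixed point of the `k`-endomorphism
`τ`, `φ = (φ₀, …, φₙ)` (`n ≥ 1`) an effective projective map normalized at `P` with `τ(φ)` not a
`K`-multiple of `φ`, `t` a local parameter at `P`, `j₁, …, jₙ` the `τ`-orders of `φ` and `j'₁, …,
j'ₙ` the orders of `φ` at `P`. Then `jₗ ≤ j'ₗ - j'₁` for `1 ≤ l ≤ n`. -/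
theorem result
    (k K : Type*) [Field k] [IsAlgClosed k] [Field K] [Algebra k K]
    (hK : FunFld.IsFunctionField k K) (τ : K →ₐ[k] K) (P : FunFld.Place k K) (hP : FunFld.IsStrongFixedPt τ P)
    {n : ℕ} (hn : 0 < n) (φ : Fin (n + 1) → K) (hφ : LinearIndependent k φ)
    (heff : (1 : K) ∈ Submodule.span k (Set.range φ)) (hnorm : ∀ i, P.1 (φ i) ≤ 1)
    (hτφ : ¬ ∃ y : K, ∀ i, τ (φ i) = y * φ i)
    (t : K) (ht : P.1 t = WithZero.exp (-1))
    (Ht : K →ₐ[k] PowerSeries K) (hHt : LocRes.IsHasseFamily t Ht)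
    (J : Fin n → ℕ) (hJ : FunFld.IsOrders K (FunFld.hcol τ Ht φ) J)
    (J' : Fin n → ℕ) (hJ' : FunFld.IsOrders (IsLocalRing.ResidueField P.O) (FunFld.hcolAt P Ht φ) J') :
    ∀ l, J l + J' ⟨0, hn⟩ ≤ J' l := by
  obtain ⟨ψ, hspan, h0v, h0e, hl⟩ := HD.exists_adapted_basis hK P ht hHt φ hφ heff hnorm hJ'
  obtain ⟨A, hAdet, hA⟩ := HD.exists_matrix_of_span_eq φ ψ hφ hspan
  have ht0 : t ≠ 0 := HD.Expand.t_ne_zero ht
  set c : ℕ := J' ⟨0, hn⟩ with hcdef
  have hc : 1 ≤ c := HD.one_le_orders hK P ht hHt φ hnorm hJ' ⟨0, hn⟩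
  have hcle : ∀ l, c ≤ J' l := by
    intro l
    apply hJ'.1.monotone
    show (⟨0, hn⟩ : Fin n) ≤ l
    rw [Fin.le_def]; simp
  set h : K := (t ^ c)⁻¹ with hh
  have hh0 : h ≠ 0 := inv_ne_zero (pow_ne_zero _ ht0)
  set χ : Fin (n + 1) → K := fun i => h * ψ i with hχdef
  set E : Fin n → ℕ := fun l => J' l - c with hEdef
  have hE : StrictMono E := by
    intro a b hab
    have h1 := hJ'.1 hab
    have h2 := hcle a
    simp only [hEdef]
    omega
  have hχ0 : P.1 (χ 0 * t ^ c) = 1 := by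
    have : χ 0 * t ^ c = ψ 0 := by
      simp only [hχdef, hh]; field_simp
    rw [this]; exact h0v
  have hχ : ∀ l : Fin n, P.1 (χ l.succ) = WithZero.exp (-(E l : ℤ)) ∧
      evalP P (χ l.succ / t ^ E l) = 1 := by
    intro l
    obtain ⟨h1, h2⟩ := hl l
    constructor
    · simp only [hχdef, hh, hEdef]
      rw [map_mul, map_inv₀, map_pow, ht, h1, ← WithZero.exp_nsmul, ← WithZero.exp_neg,
        ← WithZero.exp_add]
      congr 1
      have := hcle l
      push_cast [Nat.cast_sub this]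
      ring
    · have : χ l.succ / t ^ E l = ψ l.succ / t ^ J' l := by
        simp only [hχdef, hh, hEdef]
        have e : t ^ J' l = t ^ c * t ^ (J' l - c) := by
          rw [← pow_add]; congr 1; have := hcle l; omega
        rw [e]; field_simp
      rw [this]; exact h2
  have hdet := HD.det_wrMat_scaled_ne_zero hK P ht hHt τ hP χ c hc E hE hχ0 hχ
  have hJχ : IsOrders K (hcol τ Ht χ) J :=
    (HD.isOrders_scale_iff τ hHt ψ h hh0 J).mpr ((HD.isOrders_linear_iff τ Ht φ ψ A hA hAdet J).mpr hJ)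
  have hli : LinearIndependent K (fun i : Fin (n + 1) => hcol τ Ht χ (HD.idx E i)) := by
    have h1 := Matrix.linearIndependent_cols_of_det_ne_zero hdet
    have h2 : (wrMat τ Ht χ E).col = fun i => hcol τ Ht χ (HD.idx E i) :=
      funext (HD.wrMat_col τ Ht χ E)
    rwa [h2] at h1
  intro l
  have h1 := HD.orders_le_of_linearIndependent (hcol τ Ht χ) J hJχ E hE hli l
  have h2 := hcle l
  simp only [hEdef] at h1
  omega

end Groth.Agent.S12606
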