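import Groth.Statements.S11044
-- import your own Groth.Agent.* helpers here
import Groth.Agent.Lib.Helper23.FFGap

set_option autoImplicit false
open FunFld

namespace Groth.Agent.S11044

/-- Over an algebraically closed constant field, if the genus `g` is positive and `D` has degree at
least `2g` or is canonical, then `ℓ(D - P) < ℓ(D)` for every place `P`; that is, `D` is the divisor
of the projective map given by `L(D)`. -/
theorem result
    (k K : Type*) [Field k] [IsAlgClosed k] [Field K] [Algebra k K]
    (hK : FunFld.IsFunctionField k K) (hg : 0 < FunFld.genus k K)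
    (D : FunFld.Divisor k K)
    (hD : 2 * (FunFld.genus k K : ℤ) ≤ D.deg ∨ FunFld.IsCanonical k K D) (P : FunFld.Place k K) :
    FunFld.ell (D - Finsupp.single P 1) < FunFld.ell D := by
  have C := Groth.Agent.Lib.Helper27.FF.core_of hK
  have hP := Groth.Agent.Lib.Helper23.FF.deg_eq_one hK P
  have hdeg : (D - Finsupp.single P 1).deg = D.deg - 1 := by
    rw [Groth.Agent.Lib.Helper23.FF.deg_sub, Groth.Agent.Lib.Helper23.FF.deg_single, hP]
    norm_num
  rcases hD with hD | hD
  · have h1 := C.ell_eq_of_deg_ge (D := D) (by omega)
    have h2 := C.ell_eq_of_deg_ge (D := D - Finsupp.single P 1) (by rw [hdeg]; omega)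
    rw [hdeg] at h2
    have : (FunFld.ell (D - Finsupp.single P 1) : ℤ) < FunFld.ell D := by omega
    exact_mod_cast this
  · have h1 := C.ell_canonical hD
    have h2 := C.riemann_roch hD (D - Finsupp.single P 1)
    rw [hdeg, C.deg_canonical hD, sub_sub_cancel] at h2
    have h3 : FunFld.ell (Finsupp.single P (1 : ℤ) : FunFld.Divisor k K) ≤ 1 := by
      by_contra hlt
      have := Groth.Agent.Lib.Helper23.FF.genus_eq_zero_of_two_le_ell_single hK P hP (by omega)
      omega
    have : (FunFld.ell (D - Finsupp.single P 1) : ℤ) < FunFld.ell D := by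
      rw [h1]
      have h3' : (FunFld.ell (Finsupp.single P (1 : ℤ) : FunFld.Divisor k K) : ℤ) ≤ 1 := by
        exact_mod_cast h3
      omega
    exact_mod_cast this

end Groth.Agent.S11044
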