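import Groth.Statements.S11046
-- import your own Groth.Agent.* helpers here
import Groth.Agent.Lib.Helper23.FFGap

set_option autoImplicit false
open FunFld

namespace Groth.Agent.S11046

/-- Over an algebraically closed constant field, for a place `P` of a function field of genus `g` and a
natural number `n ≤ 2g - 2` one has `ℓ(nP) ≤ 1 + n/2` (Clifford's bound for multiples of a point). -/
theorem result
    (k K : Type*) [Field k] [IsAlgClosed k] [Field K] [Algebra k K]
    (hK : FunFld.IsFunctionField k K) (P : FunFld.Place k K) (n : ℕ)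
    (hn : (n : ℤ) ≤ 2 * (FunFld.genus k K : ℤ) - 2) :
    2 * FunFld.ell (Finsupp.single P (n : ℤ)) ≤ n + 2 := by
  classical
  have hP := Groth.Agent.Lib.Helper23.FF.deg_eq_one hK P
  have h2 := Groth.Agent.Lib.Helper23.FF.ell_single_add_card_gaps hK P hP n
  by_cases hn0 : n = 0
  · subst hn0
    omega
  · have hl : 1 ≤ (n + 1) / 2 := by omega
    have hlg : (n + 1) / 2 ≤ FunFld.genus k K := by omega
    have h3 := Groth.Agent.Lib.Helper23.FF.le_card_gaps_two_mul_sub_one hK P hP hl hlg
    have h4 := Groth.Agent.Lib.Helper23.FF.card_gapsLE_mono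
      (fun m : ℕ => Groth.Agent.Lib.Helper23.FF.IsPoleNumber P (m : ℤ))
      (show 2 * ((n + 1) / 2) - 1 ≤ n by omega)
    omega

end Groth.Agent.S11046
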