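import Groth.Statements.S12618
-- import your own Groth.Agent.* helpers here
import Groth.Agent.Lib.Helper23.Wp5

set_option autoImplicit false
open FunFld

namespace Groth.Agent.S12618



/-- Over an algebraically closed constant field of characteristic `0` or greater than `2g - 2`, let `K`
have genus `g > 1` and let the Weierstrass points of `K` be the support of the Weierstrass divisor
`W(φ)` of the canonical map `φ` (a basis of `L(C)`, `C` canonical; the divisor of `ds` in `W` read
through a family of Laurent expansions). Then either the number of Weierstrass points exceeds `2g +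
2` and the automorphism group of `K/k` acts faithfully on them, or that number is exactly `2g + 2`
and the automorphisms fixing all of them are exactly those fixing some `x` with `[K : k(x)] = 2`. -/
theorem result
    (k K : Type*) [Field k] [IsAlgClosed k] [Field K] [Algebra k K]
    (hK : FunFld.IsFunctionField k K) (hg : 1 < FunFld.genus k K)
    (hchar : ringChar k = 0 ∨ 2 * FunFld.genus k K - 2 < ringChar k)
    (C : FunFld.Divisor k K) (hC : FunFld.IsCanonical k K C)
    {n : ℕ} (φ : Fin (n + 1) → K) (hφ : LinearIndependent k φ)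
    (hspan : Submodule.span k (Set.range φ) = FunFld.L C)
    (s : K) (H : K →ₐ[k] PowerSeries K) (hH : LocRes.IsHasseFamily s H)
    (J : Fin n → ℕ) (hJ : FunFld.IsOrders K (FunFld.hcol (AlgHom.id k K) H φ) J)
    (Φ : FunFld.Place k K → (K →ₐ[k] LaurentSeries k))
    (hΦ : ∀ P : FunFld.Place k K, LocRes.IsExpansionAt P.1 (Φ P)) :
    (2 * FunFld.genus k K + 2 < Set.ncard {P : FunFld.Place k K | FunFld.wDiv (AlgHom.id k K) H Φ s φ J P ≠ 0} ∧
      ∀ σ : K ≃ₐ[k] K, (∀ P : FunFld.Place k K, FunFld.wDiv (AlgHom.id k K) H Φ s φ J P ≠ 0 →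
        FunFld.IsFixedPt (σ : K →ₐ[k] K) P) → σ = AlgEquiv.refl) ∨
    (Set.ncard {P : FunFld.Place k K | FunFld.wDiv (AlgHom.id k K) H Φ s φ J P ≠ 0} = 2 * FunFld.genus k K + 2 ∧
      ∃ x : K, Module.finrank (IntermediateField.adjoin k ({x} : Set K)) K = 2 ∧
        ∀ σ : K ≃ₐ[k] K, (∀ P : FunFld.Place k K, FunFld.wDiv (AlgHom.id k K) H Φ s φ J P ≠ 0 →
          FunFld.IsFixedPt (σ : K →ₐ[k] K) P) ↔ σ x = x) := by
  classical
  have hJeq := Groth.Agent.Lib.Helper23.Wp.canonical_orders hK C hC φ hφ hspan hchar s H hH J hJ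
  subst hJeq
  have hgn := Groth.Agent.Lib.Helper23.Wp.genus_eq_of_canonical_basis hK C hC φ hφ hspan
  have hn : 0 < n := by omega
  obtain ⟨hcard, hcase⟩ := Groth.Agent.Lib.Helper23.Wp.weierstrass_count hK C hC hn φ hφ hspan
    hchar s H hH hJ Φ hΦ
  set W := FunFld.wDiv (AlgHom.id k K) H Φ s φ (fun l : Fin n => (l : ℕ) + 1) with hW
  have hSeq : {P : FunFld.Place k K | W P ≠ 0} = ↑W.support := by
    ext P
    simp [Finsupp.mem_support_iff]
  rw [hSeq, Set.ncard_coe_finset]
  by_cases hlt : 2 * n + 4 < W.support.card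
  · left
    refine ⟨by omega, ?_⟩
    intro σ hσ
    have := Groth.Agent.Lib.Helper23.FF.algEquiv_eq_one_of_many_fixed hK σ ?_
    · exact this
    · have hsub : (↑W.support : Set (FunFld.Place k K)) ⊆
          {P | ∀ x : K, P.1 x < 1 → P.1 (σ x) < 1} := by
        intro P hP
        have hP' : W P ≠ 0 := Finsupp.mem_support_iff.mp hP
        exact hσ P hP'
      refine lt_of_lt_of_le ?_ (Set.encard_le_encard hsub)
      rw [Set.encard_coe_eq_coe_finsetCard]
      exact_mod_cast (by omega : 2 * FunFld.genus k K + 2 < W.support.card)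
  · right
    have hceq : W.support.card = 2 * n + 4 := by omega
    refine ⟨by omega, ?_⟩
    obtain ⟨x, hx, hiff⟩ := Groth.Agent.Lib.Helper23.Wp.hyperelliptic_fixed_iff hK (by omega)
      W.support (by omega) (hcase hceq)
    refine ⟨x, hx, fun σ => ?_⟩
    rw [← hiff σ]
    constructor
    · intro h P hP
      exact h P (Finsupp.mem_support_iff.mp hP)
    · intro h P hP
      exact h P (Finsupp.mem_support_iff.mpr hP)

end Groth.Agent.S12618
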