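import Groth.Statements.S2964
import Groth.Agent.Lib.Helper24.FibNil
import Groth.Agent.Lib.Helper9.FiberAss

set_option autoImplicit false
universe u
open scoped TensorProduct
open SGA3t2b

namespace Groth.Agent.S2964

open Groth.Agent.Lib.Helper24.FibNil

section field

variable {K : Type*} [Field K] {L : Type*} [LieRing L] [LieAlgebra K L] [Module.Finite K L]

theorem lcs_eq_bot_of_finrank_le (h : LieRing.IsNilpotent L) {d : ℕ}
    (hd : Module.finrank K L ≤ d) : LieModule.lowerCentralSeries K L L d = ⊥ := by
  obtain ⟨N, hN⟩ := (LieModule.isNilpotent_iff K L L).mp h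
  have hstab : ∀ k, LieModule.lowerCentralSeries K L L (k + 1) =
      LieModule.lowerCentralSeries K L L k →
      ∀ j, LieModule.lowerCentralSeries K L L (k + j) = LieModule.lowerCentralSeries K L L k := by
    intro k hk j
    induction j with
    | zero => rfl
    | succ j ih =>
      rw [← add_assoc, LieModule.lowerCentralSeries_succ, ih, ← LieModule.lowerCentralSeries_succ,
        hk]
  have hanti := LieModule.antitone_lowerCentralSeries K L L
  have hkey : ∀ k, LieModule.lowerCentralSeries K L L k = ⊥ ∨
      Module.finrank K (LieModule.lowerCentralSeries K L L k).toSubmodule + k ≤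
        Module.finrank K L := by
    intro k
    induction k with
    | zero =>
      right
      rw [LieModule.lowerCentralSeries_zero, LieSubmodule.top_toSubmodule, finrank_top, add_zero]
    | succ k ih =>
      rcases ih with h0 | hle
      · left
        exact le_bot_iff.mp (h0 ▸ hanti (Nat.le_succ k))
      · by_cases heq : LieModule.lowerCentralSeries K L L (k + 1) =
            LieModule.lowerCentralSeries K L L k
        · left
          have h1 := hstab k heq N
          have h2 : LieModule.lowerCentralSeries K L L (k + N) ≤ ⊥ :=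
            hN ▸ hanti (Nat.le_add_left N k)
          rw [heq, ← h1]
          exact le_bot_iff.mp h2
        · right
          have hlt : (LieModule.lowerCentralSeries K L L (k + 1)).toSubmodule <
              (LieModule.lowerCentralSeries K L L k).toSubmodule := by
            refine lt_of_le_of_ne ?_ (fun hh => heq (LieSubmodule.toSubmodule_injective hh))
            exact (LieSubmodule.toSubmodule_le_toSubmodule _ _).mpr (hanti (Nat.le_succ k))
          have := Submodule.finrank_lt_finrank_of_lt hlt
          omega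
  rcases hkey d with h | h
  · exact h
  · have h0 : Module.finrank K (LieModule.lowerCentralSeries K L L d).toSubmodule = 0 := by
      omega
    rw [Submodule.finrank_eq_zero] at h0
    exact (LieSubmodule.toSubmodule_eq_bot _).mp h0

end field

section fibre

variable {A : Type u} [CommRing A] {L : Type u} [LieRing L] [LieAlgebra A L]

/-- The family `ad (g i)`. -/
noncomputable def adT {n : ℕ} (g : Fin n → L) : Fin n → Module.End A L :=
  fun i => LieAlgebra.ad A L (g i)

theorem adT_apply {n : ℕ} (g : Fin n → L) (i : Fin n) (y : L) :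
    adT (A := A) g i y = ⁅g i, y⁆ := rfl

theorem one_tmul_op_mem_lcs (K : Type u) [Field K] [Algebra A K] {n : ℕ} (g : Fin n → L)
    (w : List (Fin n)) (y : L) :
    (1 : K) ⊗ₜ[A] (op (adT (A := A) g) w y) ∈
      LieModule.lowerCentralSeries K (K ⊗[A] L) (K ⊗[A] L) w.length := by
  induction w with
  | nil =>
    rw [List.length_nil, LieModule.lowerCentralSeries_zero]
    exact LieSubmodule.mem_top _
  | cons i w ih =>
    rw [op_cons_apply, adT_apply, List.length_cons, LieModule.lowerCentralSeries_succ]
    have : (1 : K) ⊗ₜ[A] ⁅g i, op (adT (A := A) g) w y⁆ =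
        ⁅(1 : K) ⊗ₜ[A] g i, (1 : K) ⊗ₜ[A] (op (adT (A := A) g) w y)⁆ := by
      rw [LieAlgebra.ExtendScalars.bracket_tmul, one_mul]
    rw [this]
    exact LieSubmodule.lie_mem_lie (LieSubmodule.mem_top _) ih

theorem finrank_baseChange_le (K : Type u) [Field K] [Algebra A K] {n : ℕ} (g : Fin n → L)
    (hg : Submodule.span A (Set.range g) = ⊤) : Module.finrank K (K ⊗[A] L) ≤ n := by
  have hspan : Submodule.span K (Set.range (fun i => (1 : K) ⊗ₜ[A] g i)) = ⊤ := by
    have h1 : Set.range (fun i => (1 : K) ⊗ₜ[A] g i) =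
        (TensorProduct.mk A K L 1) '' Set.range g := by
      rw [← Set.range_comp]; rfl
    rw [h1, ← Submodule.baseChange_span, hg, Submodule.baseChange_top]
  have h2 := finrank_range_le_card (R := K) (fun i : Fin n => (1 : K) ⊗ₜ[A] g i)
  rw [Set.finrank, hspan, finrank_top, Fintype.card_fin] at h2
  exact h2

theorem lcs_le_span {n : ℕ} (g : Fin n → L) (hg : Submodule.span A (Set.range g) = ⊤) (k : ℕ) :
    (LieModule.lowerCentralSeries A L L k).toSubmodule ≤
      Submodule.span A {u | ∃ (w : List (Fin n)) (y : L), w.length = k ∧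
        op (adT (A := A) g) w y = u} := by
  induction k with
  | zero =>
    intro z _
    exact Submodule.subset_span ⟨[], z, rfl, op_nil_apply _ z⟩
  | succ k ih =>
    rw [LieModule.lowerCentralSeries_succ, LieSubmodule.lieIdeal_oper_eq_linear_span']
    refine Submodule.span_le.mpr ?_
    rintro _ ⟨x, -, z, hz, rfl⟩
    have hx : x ∈ Submodule.span A (Set.range g) := by rw [hg]; exact Submodule.mem_top
    have hz' := ih hz
    refine Submodule.span_induction (p := fun x _ => ⁅x, z⁆ ∈
      Submodule.span A {u | ∃ (w : List (Fin n)) (y : L), w.length = k + 1 ∧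
        op (adT (A := A) g) w y = u}) ?_ ?_ ?_ ?_ hx
    · rintro _ ⟨i, rfl⟩
      refine Submodule.span_induction (p := fun z _ => ⁅g i, z⁆ ∈
        Submodule.span A {u | ∃ (w : List (Fin n)) (y : L), w.length = k + 1 ∧
          op (adT (A := A) g) w y = u}) ?_ ?_ ?_ ?_ hz'
      · rintro _ ⟨w, y, hw, rfl⟩
        exact Submodule.subset_span ⟨i :: w, y, by rw [List.length_cons, hw],
          by rw [op_cons_apply, adT_apply]⟩
      · rw [lie_zero]; exact Submodule.zero_mem _
      · intro a b _ _ ha hb; rw [lie_add]; exact Submodule.add_mem _ ha hb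
      · intro r a _ ha; rw [lie_smul]; exact Submodule.smul_mem _ r ha
    · rw [zero_lie]; exact Submodule.zero_mem _
    · intro a b _ _ ha hb; rw [add_lie]; exact Submodule.add_mem _ ha hb
    · intro r a _ ha; rw [smul_lie]; exact Submodule.smul_mem _ r ha

theorem part_one [Module.FinitePresentation A L]
    (hfib : ∀ p : PrimeSpectrum A, LieRing.IsNilpotent (p.asIdeal.ResidueField ⊗[A] L)) :
    LieRing.IsNilpotent L := by
  obtain ⟨m, g, hg⟩ := Module.Finite.exists_fin (R := A) (M := L)
  have hfz : ∀ w : List (Fin m), w.length = m → ∀ y, FibZero A (op (adT (A := A) g) w y) := by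
    intro w hw y p hp
    have := hp
    have hnil := hfib ⟨p, hp⟩
    have hbot := lcs_eq_bot_of_finrank_le (K := p.ResidueField) hnil
      (finrank_baseChange_le p.ResidueField g hg)
    have hmem := one_tmul_op_mem_lcs (A := A) p.ResidueField g w y
    rw [hw, hbot, LieSubmodule.mem_bot] at hmem
    exact Groth.Agent.Lib.Helper9.FiberAss.exists_smul_mem_of_one_tmul_eq_zero p L hmem
  obtain ⟨N, hN⟩ := exists_op_eq_zero m A L g hg m (adT (A := A) g) m hfz
  refine (LieModule.isNilpotent_iff A L L).mpr ⟨N, ?_⟩
  rw [LieSubmodule.eq_bot_iff]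
  intro z hz
  have h1 := lcs_le_span g hg N hz
  have h2 : Submodule.span A {u | ∃ (w : List (Fin m)) (y : L), w.length = N ∧
      op (adT (A := A) g) w y = u} ≤ ⊥ := by
    refine Submodule.span_le.mpr ?_
    rintro _ ⟨w, y, hw, rfl⟩
    rw [hN w hw, LinearMap.zero_apply]
    exact Submodule.zero_mem _
  exact (Submodule.mem_bot A).mp (h2 h1)

theorem exists_frac (p : Ideal A) [p.IsPrime] (k : p.ResidueField) :
    ∃ a s : A, s ∉ p ∧ algebraMap A p.ResidueField s * k = algebraMap A p.ResidueField a := by
  obtain ⟨x, rfl⟩ := IsLocalRing.residue_surjective (R := Localization.AtPrime p) k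
  obtain ⟨a, s, rfl⟩ := IsLocalization.exists_mk'_eq p.primeCompl x
  refine ⟨a, s, s.2, ?_⟩
  have hres : ∀ x : Localization.AtPrime p, IsLocalRing.residue (Localization.AtPrime p) x =
      algebraMap (Localization.AtPrime p) p.ResidueField x := fun _ => rfl
  rw [IsScalarTower.algebraMap_apply A (Localization.AtPrime p) p.ResidueField,
    IsScalarTower.algebraMap_apply A (Localization.AtPrime p) p.ResidueField a, hres, ← map_mul,
    IsLocalization.mk'_spec']

theorem exists_pure (p : Ideal A) [p.IsPrime] (z : p.ResidueField ⊗[A] L) :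
    ∃ (k : p.ResidueField) (l : L), z = k ⊗ₜ[A] l := by
  induction z using TensorProduct.induction_on with
  | zero => exact ⟨0, 0, (TensorProduct.zero_tmul _ _).symm⟩
  | tmul k l => exact ⟨k, l, rfl⟩
  | add z₁ z₂ h₁ h₂ =>
    obtain ⟨k₁, l₁, rfl⟩ := h₁
    obtain ⟨k₂, l₂, rfl⟩ := h₂
    obtain ⟨a₁, s₁, hs₁, e₁⟩ := exists_frac p k₁
    obtain ⟨a₂, s₂, hs₂, e₂⟩ := exists_frac p k₂
    have hs₁' : algebraMap A p.ResidueField s₁ ≠ 0 := fun h0 =>
      hs₁ (Ideal.algebraMap_residueField_eq_zero.mp h0)
    have hs₂' : algebraMap A p.ResidueField s₂ ≠ 0 := fun h0 =>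
      hs₂ (Ideal.algebraMap_residueField_eq_zero.mp h0)
    have hk₁ : k₁ = (a₁ * s₂) • (algebraMap A p.ResidueField s₁ *
        algebraMap A p.ResidueField s₂)⁻¹ := by
      rw [Algebra.smul_def, map_mul, eq_mul_inv_iff_mul_eq₀ (mul_ne_zero hs₁' hs₂')]
      linear_combination (algebraMap A p.ResidueField s₂) * e₁
    have hk₂ : k₂ = (a₂ * s₁) • (algebraMap A p.ResidueField s₁ *
        algebraMap A p.ResidueField s₂)⁻¹ := by
      rw [Algebra.smul_def, map_mul, eq_mul_inv_iff_mul_eq₀ (mul_ne_zero hs₁' hs₂')]
      linear_combination (algebraMap A p.ResidueField s₁) * e₂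
    refine ⟨(algebraMap A p.ResidueField s₁ * algebraMap A p.ResidueField s₂)⁻¹,
      (a₁ * s₂) • l₁ + (a₂ * s₁) • l₂, ?_⟩
    rw [TensorProduct.tmul_add, TensorProduct.tmul_smul, TensorProduct.tmul_smul,
      TensorProduct.smul_tmul', TensorProduct.smul_tmul', ← hk₁, ← hk₂]

theorem ad_tmul (K : Type u) [Field K] [Algebra A K] (k : K) (l : L) :
    LieAlgebra.ad K (K ⊗[A] L) (k ⊗ₜ[A] l) = k • (LieAlgebra.ad A L l).baseChange K := by
  refine TensorProduct.AlgebraTensorModule.ext (fun k' y => ?_)
  rw [LieAlgebra.ad_apply, LieAlgebra.ExtendScalars.bracket_tmul, LinearMap.smul_apply,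
    LinearMap.baseChange_tmul, LieAlgebra.ad_apply, TensorProduct.smul_tmul', smul_eq_mul]

theorem part_two [Module.FinitePresentation A L]
    (h : ∀ x : L, IsNilpotent (LieAlgebra.ad A L x)) : LieRing.IsNilpotent L := by
  refine part_one (A := A) (L := L) (fun p => ?_)
  rw [LieAlgebra.isNilpotent_iff_forall (R := p.asIdeal.ResidueField)]
  intro z
  obtain ⟨k, l, rfl⟩ := exists_pure p.asIdeal z
  rw [ad_tmul]
  obtain ⟨j, hj⟩ := h l
  refine ⟨j, ?_⟩
  rw [smul_pow, ← LinearMap.baseChange_pow, hj, LinearMap.baseChange_zero, smul_zero]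

end fibre


/-- (i) ⇒ (iii): let d be a Lie algebra over a commutative ring A which is finitely presented as an
A-module. If for every prime p of A the fibre Lie algebra κ(p) ⊗_A d is nilpotent, then d is
nilpotent (its lower central series vanishes, i.e. there is N with ad(x_1) ⋯ ad(x_N) = 0 for all
x_i); and the same conclusion holds if ad(x) is nilpotent for every x in d. -/
theorem result {A : Type u} [CommRing A] {L : Type u} [LieRing L] [LieAlgebra A L]
    [Module.FinitePresentation A L] :
    ((∀ p : PrimeSpectrum A, LieRing.IsNilpotent (p.asIdeal.ResidueField ⊗[A] L)) → LieRing.IsNilpotent L) ∧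
    ((∀ x : L, IsNilpotent (LieAlgebra.ad A L x)) → LieRing.IsNilpotent L) := by
  exact ⟨part_one, part_two⟩

end Groth.Agent.S2964
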