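-- Statement S0237.
import Groth.Statements.S0237
import Groth.Agent.S0063
import Mathlib.AlgebraicGeometry.Morphisms.UniversallyOpen
import Mathlib.AlgebraicGeometry.Morphisms.Etale
import Mathlib.AlgebraicGeometry.PullbackCarrier

set_option autoImplicit false
universe u
open Pi1

namespace Groth.Agent.S0237

open AlgebraicGeometry CategoryTheory CategoryTheory.Limits in
/-- If a morphism of schemes has dense image, pulling back finite etale covers along it is faithful. -/
theorem result {X Y : Scheme.{u}} (f : X ⟶ Y)
    (h : DenseRange f.base) : (FEt.restrict f).Faithful := by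
  classical
  refine ⟨fun {Y₁ Y₂} a b hab => ?_⟩
  have hfin : IsFinite Y₂.hom := Y₂.prop.1
  have het : Etale Y₂.hom := Y₂.prop.2
  have het1 : Etale Y₁.hom := Y₁.prop.2
  -- equality after composing with the first projection
  have hfst : pullback.fst Y₁.hom f ≫ a.left = pullback.fst Y₁.hom f ≫ b.left := by
    have h1 := congrArg (fun φ => φ.left ≫ pullback.fst Y₂.hom f) hab
    simp only [FEt.restrict, MorphismProperty.Over.pullback, MorphismProperty.Over.homMk_hom,
      Over.homMk_left] at h1
    rw [pullback.lift_fst, pullback.lift_fst] at h1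
    exact h1
  let Y₁' : Over Y := Over.mk Y₁.hom
  let Y₂' : Over Y := Over.mk Y₂.hom
  let a' : Y₁' ⟶ Y₂' := Over.homMk a.left (MorphismProperty.Over.w a)
  let b' : Y₁' ⟶ Y₂' := Over.homMk b.left (MorphismProperty.Over.w b)
  have hsep : IsSeparated Y₂'.hom := inferInstanceAs (IsSeparated Y₂.hom)
  have hdiag : IsOpenImmersion (pullback.diagonal Y₂'.hom) :=
    inferInstanceAs (IsOpenImmersion (pullback.diagonal Y₂.hom))
  have hcl : IsClosedImmersion (equalizer.ι a' b').left := inferInstance
  have hop : IsOpenImmersion (equalizer.ι a' b').left :=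
    Groth.Agent.S0063.isOpenImmersion_equalizer_ι_left a' b'
  let P' : Over Y := Over.mk (pullback.fst Y₁.hom f ≫ Y₁.hom)
  let p' : P' ⟶ Y₁' := Over.homMk (pullback.fst Y₁.hom f) rfl
  have hp : p' ≫ a' = p' ≫ b' := by ext1; exact hfst
  have hsub : Set.range (pullback.fst Y₁.hom f).base ⊆
      Set.range (equalizer.ι a' b').left.base := by
    rintro _ ⟨z, rfl⟩
    refine ⟨(equalizer.lift p' hp).left.base z, ?_⟩
    rw [← Scheme.Hom.comp_apply, ← Over.comp_left, equalizer.lift_ι]
    rfl
  have hdense : Dense (Set.range (pullback.fst Y₁.hom f).base) := by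
    rw [Scheme.Pullback.range_fst]
    exact h.preimage (Scheme.Hom.isOpenMap Y₁.hom)
  have huniv : Set.range (equalizer.ι a' b').left.base = Set.univ := by
    have hclosed : IsClosed (Set.range (equalizer.ι a' b').left.base) :=
      (Scheme.Hom.isClosedEmbedding _).isClosed_range
    rw [← hclosed.closure_eq]
    exact (hdense.mono hsub).closure_eq
  have hsurj : Surjective (equalizer.ι a' b').left := ⟨Set.range_eq_univ.mp huniv⟩
  have hiso : IsIso (equalizer.ι a' b').left :=
    (isIso_iff_isOpenImmersion_and_surjective _).mpr ⟨hop, hsurj⟩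
  have hleft : a.left = b.left := by
    rw [← cancel_epi (equalizer.ι a' b').left]
    exact congr($(equalizer.condition a' b').left)
  exact MorphismProperty.Over.Hom.ext hleft

end Groth.Agent.S0237
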