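import Groth.Statements.S1223
import Mathlib

set_option autoImplicit false
universe u
open FlatMor

namespace Groth.Agent.S1223


open TensorProduct AlgebraicGeometry CategoryTheory

attribute [local instance] Algebra.TensorProduct.rightAlgebra

theorem domain_of_geomIntegral {A B : Type u} [CommRing A] [CommRing B] [Algebra A B]
    (h : FlatCA.GeomIntegralFibres A B) (K : Type u) [Field K] [Algebra A K] :
    IsDomain (B ⊗[A] K) := by
  have h1 := h.geometrically_isIntegral
  haveI h2 : IsIntegral (Limits.pullback (Spec.map (CommRingCat.ofHom (algebraMap A B)))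
      (Spec.map (CommRingCat.ofHom (algebraMap A K)))) :=
    pullback_of_geometrically h1 K (Spec.map (CommRingCat.ofHom (algebraMap A K)))
  haveI h3 : IsIntegral (Spec (.of (B ⊗[A] K))) :=
    IsIntegral.of_isIso (pullbackSpecIso A B K).hom
  exact (affine_isIntegral_iff _).mp h3

theorem ker_includeRight {A' B' : Type u} [CommRing A'] [CommRing B'] [Algebra A' B']
    [Module.Flat A' B'] (t : Ideal A') [t.IsPrime] :
    RingHom.ker (Algebra.TensorProduct.includeRight (R := A') (A := t.ResidueField)
      (B := B')).toRingHom = t.map (algebraMap A' B') := by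
  apply le_antisymm
  · intro b hb
    rw [RingHom.mem_ker] at hb
    have hb' : (1 : t.ResidueField) ⊗ₜ[A'] b = 0 := hb
    let ι : (A' ⧸ t) →ₗ[A'] t.ResidueField :=
      (IsScalarTower.toAlgHom A' (A' ⧸ t) t.ResidueField).toLinearMap
    have hι : Function.Injective ι := Ideal.injective_algebraMap_quotient_residueField t
    have hinj := Module.Flat.rTensor_preserves_injective_linearMap (M := B') ι hι
    have h1 : (ι.rTensor B') ((1 : A' ⧸ t) ⊗ₜ[A'] b) = 0 := by
      rw [LinearMap.rTensor_tmul]
      have h0 : ι 1 = 1 := map_one (algebraMap (A' ⧸ t) t.ResidueField)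
      rw [h0]; exact hb'
    have h2 : ((1 : A' ⧸ t) ⊗ₜ[A'] b) = 0 := hinj (by rw [h1, map_zero])
    have h3 := congrArg (TensorProduct.quotTensorEquivQuotSMul B' t) h2
    rw [TensorProduct.quotTensorEquivQuotSMul_mk_one_tmul, map_zero,
      Submodule.Quotient.mk_eq_zero, Ideal.smul_top_eq_map] at h3
    exact h3
  · rw [Ideal.map_le_iff_le_comap]
    intro a ha
    rw [Ideal.mem_comap, RingHom.mem_ker]
    show (1 : t.ResidueField) ⊗ₜ[A'] (algebraMap A' B' a) = 0
    rw [Algebra.algebraMap_eq_smul_one, ← TensorProduct.smul_tmul, Algebra.smul_def, mul_one,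
      Ideal.algebraMap_residueField_eq_zero.mpr ha, TensorProduct.zero_tmul]

theorem fiber_isDomain {A B : Type u} [CommRing A] [CommRing B] [Algebra A B]
    (h : FlatCA.GeomIntegralFibres A B) (A' B' : Type u) [CommRing A'] [CommRing B']
    [Algebra A A'] [Algebra B B'] [Algebra A' B'] [Algebra A B'] [IsScalarTower A B B']
    [IsScalarTower A A' B'] [Algebra.IsPushout A B A' B'] (t : Ideal A') [t.IsPrime] :
    IsDomain (t.Fiber B') := by
  haveI := domain_of_geomIntegral h t.ResidueField
  let e1 : B' ⊗[A'] t.ResidueField ≃ₐ[B] B ⊗[A] t.ResidueField :=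
    Algebra.IsPushout.cancelBaseChangeAlg A B A' B' t.ResidueField
  haveI : IsDomain (B' ⊗[A'] t.ResidueField) := MulEquiv.isDomain _ e1.toRingEquiv.toMulEquiv
  exact MulEquiv.isDomain _ (Algebra.TensorProduct.comm A' t.ResidueField B').toRingEquiv.toMulEquiv

theorem ass_bot {A' B' N' B : Type u} [CommRing A'] [CommRing B'] [CommRing B] [Algebra A' B']
    [Algebra B B'] [AddCommGroup N'] [Module B' N'] [Module B N'] [IsScalarTower B B' N']
    (f : B →ₗ[B] N') (hbc : IsBaseChange B' f)
    (t' : Ideal A') [t'.IsPrime] [IsDomain (t'.Fiber B')] (q : Ideal (t'.Fiber B'))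
    (hq : q ∈ associatedPrimes (t'.Fiber B') (FlatCA.fiberMod t' B' N')) : q = ⊥ := by
  change q ∈ associatedPrimes (t'.Fiber B') ((t'.Fiber B') ⊗[B'] N') at hq
  obtain ⟨hqp, x, hx⟩ := hq
  let e1 : N' ≃ₗ[B'] B' := hbc.equiv.symm ≪≫ₗ AlgebraTensorModule.rid B B' B'
  let E : (t'.Fiber B') ⊗[B'] N' ≃ₗ[t'.Fiber B'] (t'.Fiber B') :=
    (AlgebraTensorModule.congr (LinearEquiv.refl (t'.Fiber B') (t'.Fiber B')) e1) ≪≫ₗ
      (AlgebraTensorModule.rid B' (t'.Fiber B') (t'.Fiber B'))
  have hcol : ∀ a : t'.Fiber B',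
      a ∈ (⊥ : Submodule (t'.Fiber B') ((t'.Fiber B') ⊗[B'] N')).colon {x} ↔ a * E x = 0 := by
    intro a
    rw [Submodule.mem_colon_singleton, Submodule.mem_bot, ← smul_eq_mul, ← map_smul]
    exact ⟨fun h => by rw [h, map_zero], fun h => E.injective (by rw [h, map_zero])⟩
  by_cases hy : E x = 0
  · exfalso
    apply hqp.ne_top
    rw [hx, Ideal.radical_eq_top, Ideal.eq_top_iff_one, hcol, hy, mul_zero]
  · rw [hx]
    have h0 : (⊥ : Submodule (t'.Fiber B') ((t'.Fiber B') ⊗[B'] N')).colon {x} = ⊥ := by
      ext a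
      rw [hcol, Ideal.mem_bot, mul_eq_zero]
      exact ⟨fun h => h.resolve_right hy, fun h => Or.inl h⟩
    rw [h0]
    exact Ideal.radical_bot_of_noZeroDivisors



/-- Ring form, X = Spec B affine: a finite type, flat A-algebra B with geometrically integral fibres is
universally pure relative to Spec A. -/
theorem result {A B : Type u} [CommRing A] [CommRing B] [Algebra A B] [Algebra.FiniteType A B] [Module.Flat A B]
    (h : FlatCA.GeomIntegralFibres A B) : FlatCA.IsUnivPure A B B := by
  intro p hp A' B' N' _ _ _ _ _ _ _ _ _ _ _ _ _ _ f t' t _ _ P _ himp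
  obtain ⟨hpush, hbc, hle, htp, hPt', hass, hno⟩ := himp
  haveI := hpush
  haveI hflat : Module.Flat A' B' :=
    Module.Flat.isBaseChange (R := A) (M := B) (S := A') B' (Algebra.IsPushout.symm hpush).out
  haveI hdom : IsDomain (t'.Fiber B') := fiber_isDomain h A' B' t'
  have hbot : FlatCA.fiberIdeal t' P = ⊥ := ass_bot f hbc t' _ hass
  have hP : P ≤ t'.map (algebraMap A' B') := by
    rw [← ker_includeRight t']
    exact (Ideal.map_eq_bot_iff_le_ker _).mp hbot
  haveI hdomt : IsDomain (t.Fiber B') := fiber_isDomain h A' B' t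
  haveI hprime : (t.map (algebraMap A' B')).IsPrime := by
    rw [← ker_includeRight t]
    exact RingHom.ker_isPrime _
  have hover : (t.map (algebraMap A' B')).LiesOver t := by
    constructor
    apply le_antisymm
    · exact Ideal.le_comap_map
    · intro a ha
      by_contra hat
      have h1 : algebraMap A' B' a ∈ RingHom.ker (Algebra.TensorProduct.includeRight (R := A')
          (A := t.ResidueField) (B := B')).toRingHom := by
        rw [ker_includeRight t]; exact ha
      rw [RingHom.mem_ker] at h1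
      have h1' : (1 : t.ResidueField) ⊗ₜ[A'] (algebraMap A' B' a) = 0 := h1
      have hu : IsUnit (algebraMap A' t.ResidueField a) := by
        rw [isUnit_iff_ne_zero, Ne, Ideal.algebraMap_residueField_eq_zero]; exact hat
      have h2 : (algebraMap A' t.ResidueField a) ⊗ₜ[A'] (1 : B') = 0 := by
        rw [← h1', Algebra.algebraMap_eq_smul_one (A := B'), ← TensorProduct.smul_tmul,
          Algebra.smul_def, mul_one]
      have h3 : IsUnit ((algebraMap A' t.ResidueField a) ⊗ₜ[A'] (1 : B') : t.Fiber B') :=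
        hu.map (Algebra.TensorProduct.includeLeft : t.ResidueField →ₐ[A'] t.Fiber B')
      rw [h2] at h3
      exact not_isUnit_zero h3
  exact hno (t.map (algebraMap A' B')) (hP.trans (Ideal.map_mono hle)) hover

end Groth.Agent.S1223
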