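import Groth.Statements.S4542
import Groth.Agent.Lib.Helper6.AdicLift
open Groth.Agent.Lib.Helper6.AdicLift Ideal.Quotient

set_option autoImplicit false
universe u
open EGA41

namespace Groth.Agent.S4542

/-- Let B (𝔟-adic) be formally smooth over A (𝔞-adic); let C be a topological A-algebra for the 𝔠-adic
topology (a power of 𝔞 maps into 𝔠) which is complete, and J an ideal which is closed, i.e. C/J is
Hausdorff for the 𝔠-adic topology, and whose powers tend to 0, i.e. some power of J lies in 𝔠. Then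
every continuous A-algebra homomorphism u : B → C/J (a power of 𝔟 maps into the image of 𝔠) factors
as B → C → C/J with B → C a continuous A-algebra homomorphism (a power of 𝔟 maps into 𝔠). -/
theorem result {A B C : Type u} [CommRing A] [CommRing B] [CommRing C] [Algebra A B]
    [Algebra A C] (𝔞 : Ideal A) (𝔟 : Ideal B) (𝔠 : Ideal C) (hB : EGA41.IsFormallySmoothAdic A 𝔞 B 𝔟)
    [IsAdicComplete 𝔠 C] (hAC : ∃ k : ℕ, (𝔞 ^ k).map (algebraMap A C) ≤ 𝔠)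
    (J : Ideal C) (hJ : ∃ t : ℕ, J ^ t ≤ 𝔠) [IsHausdorff (𝔠.map (Ideal.Quotient.mk J)) (C ⧸ J)]
    (u : B →ₐ[A] C ⧸ J) (hu : ∃ k : ℕ, (𝔟 ^ k).map u.toRingHom ≤ 𝔠.map (Ideal.Quotient.mk J)) :
    ∃ v : B →ₐ[A] C, (∃ k : ℕ, (𝔟 ^ k).map v.toRingHom ≤ 𝔠) ∧ (Ideal.Quotient.mkₐ A J).comp v = u := by
  obtain ⟨k₀, hk₀⟩ := hAC
  obtain ⟨t, ht⟩ := hJ
  obtain ⟨k, hk⟩ := hu
  let S : ℕ → Type u := fun n => {v : B →ₐ[A] C ⧸ 𝔠 ^ n //
    (factorₐ A (le_sup_right : 𝔠 ^ n ≤ J ⊔ 𝔠 ^ n)).comp v =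
      (factorₐ A (le_sup_left : J ≤ J ⊔ 𝔠 ^ n)).comp u}
  haveI hsub : Subsingleton (C ⧸ 𝔠 ^ 0) := by
    rw [pow_zero, Ideal.one_eq_top]
    exact Ideal.Quotient.subsingleton_iff.mpr rfl
  haveI hsub' : Subsingleton (C ⧸ (J ⊔ 𝔠 ^ 0)) := by
    rw [pow_zero, Ideal.one_eq_top, sup_top_eq]
    exact Ideal.Quotient.subsingleton_iff.mpr rfl
  let base : S 0 := ⟨zeroAlgHom _, by ext b; exact Subsingleton.elim _ _⟩
  have stepS : ∀ n (s : S n), ∃ s' : S (n + 1),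
      (factorₐ A (Ideal.pow_le_pow_right n.le_succ : 𝔠 ^ (n + 1) ≤ 𝔠 ^ n)).comp s'.1 = s.1 :=
    fun n s => by
      obtain ⟨v', h1, h2⟩ := step 𝔞 𝔟 𝔠 hB k₀ hk₀ J t ht u k hk n s.1 s.2
      exact ⟨⟨v', h1⟩, h2⟩
  let seq : ∀ n, S n := fun n => Nat.rec base (fun n s => Classical.choose (stepS n s)) n
  have hseq : ∀ n, (factorₐ A (Ideal.pow_le_pow_right n.le_succ : 𝔠 ^ (n + 1) ≤ 𝔠 ^ n)).comp
      (seq (n + 1)).1 = (seq n).1 := fun n => Classical.choose_spec (stepS n (seq n))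
  have hcompat : ∀ {m n : ℕ} (hle : m ≤ n),
      (factorₐ A (Ideal.pow_le_pow_right hle : 𝔠 ^ n ≤ 𝔠 ^ m)).comp (seq n).1 = (seq m).1 := by
    intro m n hle
    induction n, hle using Nat.le_induction with
    | base => rw [Ideal.Quotient.factorₐ_refl]; exact AlgHom.id_comp _
    | succ n hmn ih =>
      rw [← ih, ← hseq n, ← AlgHom.comp_assoc, Ideal.Quotient.factorₐ_comp]
  let v : B →ₐ[A] C := IsAdicComplete.liftAlgHom 𝔠 (fun n => (seq n).1) hcompat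
  have hmk : ∀ n b, Ideal.Quotient.mk (𝔠 ^ n) (v b) = (seq n).1 b := fun n b =>
    IsAdicComplete.mk_liftAlgHom 𝔠 (fun n => (seq n).1) hcompat n b
  refine ⟨v, ⟨k * 1 * (t * 1 + 1), ?_⟩, ?_⟩
  · rw [Ideal.map_le_iff_le_comap]
    intro x hx
    have h1 : (seq 1).1 x = 0 := v_kills 𝔟 𝔠 J t ht u k hk 1 (seq 1).1 (seq 1).2 x hx
    have h2 := hmk 1 x
    rw [h1, Ideal.Quotient.eq_zero_iff_mem, pow_one] at h2
    exact h2
  · refine AlgHom.ext fun b => ?_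
    show Ideal.Quotient.mk J (v b) = u b
    have key : ∀ n, Ideal.Quotient.mk J (v b) - u b ∈ (𝔠.map (Ideal.Quotient.mk J)) ^ n := by
      intro n
      have h1 : (factorₐ A (le_sup_left : J ≤ J ⊔ 𝔠 ^ n)) (Ideal.Quotient.mk J (v b)) =
          (factorₐ A (le_sup_left : J ≤ J ⊔ 𝔠 ^ n)) (u b) := by
        have h2 := hmk n b
        have h3 := AlgHom.congr_fun (seq n).2 b
        rw [AlgHom.comp_apply, AlgHom.comp_apply, ← h2] at h3
        exact h3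
      have h4 : (factorₐ A (le_sup_left : J ≤ J ⊔ 𝔠 ^ n))
          (Ideal.Quotient.mk J (v b) - u b) = 0 := by rw [map_sub, h1, sub_self]
      obtain ⟨c, hc⟩ := Ideal.Quotient.mk_surjective (Ideal.Quotient.mk J (v b) - u b)
      rw [← hc] at h4 ⊢
      have h5 : c ∈ J ⊔ 𝔠 ^ n := Ideal.Quotient.eq_zero_iff_mem.mp h4
      obtain ⟨j, hj, c', hc', rfl⟩ := Submodule.mem_sup.mp h5
      rw [← Ideal.map_pow, map_add, Ideal.Quotient.eq_zero_iff_mem.mpr hj, zero_add]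
      exact Ideal.mem_map_of_mem _ hc'
    have hH := IsHausdorff.haus (inferInstance : IsHausdorff (𝔠.map (Ideal.Quotient.mk J)) (C ⧸ J))
      (Ideal.Quotient.mk J (v b) - u b) (fun n => by
        rw [SModEq.zero, smul_eq_mul, Ideal.mul_top]; exact key n)
    exact sub_eq_zero.mp hH

end Groth.Agent.S4542
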