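import Groth.Statements.S6302
import Mathlib
-- import your own Groth.Agent.* helpers here

set_option autoImplicit false
universe u
open CAlg

open scoped TensorProduct

namespace Groth.Agent.S6302

section aux
open TensorProduct

variable {R : Type u} [CommRing R]

/-- the linear map `(Fin m → R) → (Fin r → R)` with matrix `a` -/
noncomputable def cmap {m r : ℕ} (a : Fin r → Fin m → R) : (Fin m → R) →ₗ[R] (Fin r → R) :=
  LinearMap.pi (fun j => Fintype.linearCombination R (a j))

theorem cmap_apply {m r : ℕ} (a : Fin r → Fin m → R) (v : Fin m → R) (j : Fin r) :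
    cmap a v j = ∑ i, v i * a j i := by
  simp [cmap, Fintype.linearCombination_apply]

theorem piScalarRight_cmap {m r : ℕ} (a : Fin r → Fin m → R) (N : Type u) [AddCommGroup N]
    [Module R N] (η : N ⊗[R] (Fin m → R)) (j : Fin r) :
    piScalarRight R R N (Fin r) (((cmap a).lTensor N) η) j =
      ∑ i, a j i • (piScalarRight R R N (Fin m) η) i := by
  induction η using TensorProduct.induction_on with
  | zero => simp
  | tmul n v =>
    rw [LinearMap.lTensor_tmul, piScalarRight_apply, piScalarRightHom_tmul, piScalarRight_apply,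
      piScalarRightHom_tmul]
    show (cmap a) v j • n = ∑ i, a j i • (v i • n)
    rw [cmap_apply, Finset.sum_smul]
    refine Finset.sum_congr rfl (fun i _ => ?_)
    rw [smul_smul, mul_comm]
  | add x y hx hy =>
    rw [map_add, map_add, map_add, Pi.add_apply, hx, hy, ← Finset.sum_add_distrib]
    refine Finset.sum_congr rfl (fun i _ => ?_)
    rw [Pi.add_apply, smul_add]

theorem piScalarRight_rTensor {r : ℕ} {M₁ M₂ : Type u} [AddCommGroup M₁] [Module R M₁]
    [AddCommGroup M₂] [Module R M₂] (f : M₁ →ₗ[R] M₂) (ξ : M₁ ⊗[R] (Fin r → R)) (j : Fin r) :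
    piScalarRight R R M₂ (Fin r) ((f.rTensor (Fin r → R)) ξ) j =
      f (piScalarRight R R M₁ (Fin r) ξ j) := by
  induction ξ using TensorProduct.induction_on with
  | zero => simp
  | tmul n v =>
    rw [LinearMap.rTensor_tmul, piScalarRight_apply, piScalarRightHom_tmul, piScalarRight_apply,
      piScalarRightHom_tmul]
    show v j • f n = f (v j • n)
    rw [map_smul]
  | add x y hx hy =>
    rw [map_add, map_add, map_add, Pi.add_apply, hx, hy, Pi.add_apply, map_add]

/-- the equational form of universal injectivity -/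
theorem eqLift {M₁ M₂ : Type u} [AddCommGroup M₁] [Module R M₁] [AddCommGroup M₂] [Module R M₂]
    (f : M₁ →ₗ[R] M₂) (hf : CAlgX.UniversallyInjective R f) {m r : ℕ} (a : Fin r → Fin m → R)
    (x : Fin r → M₁) (y : Fin m → M₂) (h : ∀ j, f (x j) = ∑ i, a j i • y i) :
    ∃ z : Fin m → M₁, ∀ j, x j = ∑ i, a j i • z i := by
  have hsurj : Function.Surjective (LinearMap.range (cmap a)).mkQ := Submodule.mkQ_surjective _
  have hexact : Function.Exact (cmap a) (LinearMap.range (cmap a)).mkQ :=
    LinearMap.exact_map_mkQ_range (cmap a)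
  obtain ⟨ξ, hξ⟩ : ∃ ξ, ξ = (piScalarRight R R M₁ (Fin r)).symm x := ⟨_, rfl⟩
  obtain ⟨η₂, hη₂⟩ : ∃ η₂, η₂ = (piScalarRight R R M₂ (Fin m)).symm y := ⟨_, rfl⟩
  have h1 : (f.rTensor (Fin r → R)) ξ = ((cmap a).lTensor M₂) η₂ := by
    apply (piScalarRight R R M₂ (Fin r)).injective
    funext j
    rw [piScalarRight_rTensor, piScalarRight_cmap, hξ, hη₂, LinearEquiv.apply_symm_apply,
      LinearEquiv.apply_symm_apply, h]
  have h2 : ((LinearMap.range (cmap a)).mkQ.lTensor M₂) ((f.rTensor (Fin r → R)) ξ) = 0 := by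
    rw [h1]
    exact (lTensor_exact M₂ hexact hsurj).apply_apply_eq_zero η₂
  have h3 : (f.rTensor ((Fin r → R) ⧸ LinearMap.range (cmap a)))
      (((LinearMap.range (cmap a)).mkQ.lTensor M₁) ξ) = 0 := by
    rw [← h2, ← LinearMap.comp_apply, ← LinearMap.comp_apply, LinearMap.rTensor_comp_lTensor,
      LinearMap.lTensor_comp_rTensor]
  have h4 : ((LinearMap.range (cmap a)).mkQ.lTensor M₁) ξ = 0 := by
    apply hf ((Fin r → R) ⧸ LinearMap.range (cmap a))
    rw [h3, map_zero]
  obtain ⟨η, hη⟩ := (lTensor_exact M₁ hexact hsurj ξ).mp h4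
  refine ⟨piScalarRight R R M₁ (Fin m) η, fun j => ?_⟩
  rw [← piScalarRight_cmap, hη, hξ, LinearEquiv.apply_symm_apply]

theorem exists_factor {F P T : Type u} [AddCommGroup F] [Module R F] [AddCommGroup P] [Module R P]
    [AddCommGroup T] [Module R T] (π : F →ₗ[R] P) (hπ : Function.Surjective π) (ψ : F →ₗ[R] T)
    (h : ∀ n, π n = 0 → ψ n = 0) : ∃ σ : P →ₗ[R] T, ∀ f, σ (π f) = ψ f := by
  have hle : LinearMap.ker π ≤ LinearMap.ker ψ := fun n hn => h n hn
  refine ⟨(LinearMap.ker π).liftQ ψ hle ∘ₗ (π.quotKerEquivOfSurjective hπ).symm.toLinearMap,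
    fun f => ?_⟩
  have : (π.quotKerEquivOfSurjective hπ).symm (π f) = Submodule.Quotient.mk f := by
    rw [LinearEquiv.symm_apply_eq]
    rfl
  rw [LinearMap.comp_apply, LinearEquiv.coe_coe, this, Submodule.liftQ_apply]

end aux

/-- Let 0 → M₁ → M₂ → M₃ → 0 be a short exact sequence of R-modules with M₃ of finite presentation. If
the sequence is universally exact (its first map is universally injective) then it is split: M₂ → M₃
admits a section. (The converse, split implies universally exact, is elementary and not stated.) -/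
theorem result {R : Type u} [CommRing R] {M₁ M₂ M₃ : Type u} [AddCommGroup M₁] [Module R M₁] [AddCommGroup M₂] [Module R M₂] [AddCommGroup M₃] [Module R M₃] [Module.FinitePresentation R M₃] (f : M₁ →ₗ[R] M₂) (g : M₂ →ₗ[R] M₃) (hexact : Function.Exact f g) (hg : Function.Surjective g) (hf : CAlgX.UniversallyInjective R f) : ∃ s : M₃ →ₗ[R] M₂, g.comp s = LinearMap.id := by
  classical
  obtain ⟨m, r, π₃, c₀, hπ₃, hc₀⟩ := Module.FinitePresentation.exists_fin' R M₃
  obtain ⟨πt, hπt⟩ := Module.projective_lifting_property g π₃ hg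
  have hπt' : ∀ v, g (πt v) = π₃ v := fun v => LinearMap.congr_fun hπt v
  -- the relations
  obtain ⟨k, hk⟩ : ∃ k : Fin r → (Fin m → R),
      k = fun j => c₀ (fun j' => if j = j' then 1 else 0) := ⟨_, rfl⟩
  obtain ⟨y, hy⟩ : ∃ y : Fin m → M₂, y = fun i => πt (fun i' => if i = i' then 1 else 0) :=
    ⟨_, rfl⟩
  have hkker : ∀ j, π₃ (k j) = 0 := by
    intro j
    rw [hk]
    exact hc₀.apply_apply_eq_zero _
  have hx : ∀ j, ∃ xj : M₁, f xj = πt (k j) := by
    intro j
    have : g (πt (k j)) = 0 := by rw [hπt', hkker]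
    exact (hexact _).mp this
  choose x hx using hx
  have hrel : ∀ j, f (x j) = ∑ i, k j i • y i := by
    intro j
    rw [hx, LinearMap.pi_apply_eq_sum_univ πt (k j), hy]
  obtain ⟨z, hz⟩ := eqLift f hf k x y hrel
  obtain ⟨πt', hπt'def⟩ : ∃ πt' : (Fin m → R) →ₗ[R] M₂,
      πt' = πt - f ∘ₗ Fintype.linearCombination R z := ⟨_, rfl⟩
  have hπt'k : ∀ j, πt' (k j) = 0 := by
    intro j
    rw [hπt'def, LinearMap.sub_apply, LinearMap.comp_apply, Fintype.linearCombination_apply,
      ← hz j, hx, sub_self]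
  have hker : ∀ v, π₃ v = 0 → πt' v = 0 := by
    intro v hv
    obtain ⟨w, rfl⟩ := (hc₀ v).mp hv
    rw [LinearMap.pi_apply_eq_sum_univ c₀ w, map_sum]
    apply Finset.sum_eq_zero
    intro j _
    rw [map_smul]
    have : c₀ (fun j' => if j = j' then 1 else 0) = k j := by rw [hk]
    rw [this, hπt'k, smul_zero]
  obtain ⟨σ, hσ⟩ := exists_factor π₃ hπ₃ πt' hker
  refine ⟨σ, ?_⟩
  apply LinearMap.ext
  intro w
  obtain ⟨v, rfl⟩ := hπ₃ w
  rw [LinearMap.comp_apply, hσ, hπt'def, LinearMap.sub_apply, map_sub, hπt', LinearMap.comp_apply,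
    hexact.apply_apply_eq_zero, sub_zero, LinearMap.id_apply]

end Groth.Agent.S6302
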