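import Groth.Statements.S6388
import Mathlib
-- import your own Groth.Agent.* helpers here

set_option autoImplicit false
universe u
open CAlg

open scoped TensorProduct

namespace Groth.Agent.S6388

/-- Let f : M → N and g : M → M' be maps of R-modules and let N' be their pushout, realised as the
quotient of M' × N by the submodule of elements (g x, -f x). Then g dominates f — for every module Q
the kernel of f ⊗ id_Q is contained in the kernel of g ⊗ id_Q — if and only if the canonical map M'
→ N' is universally injective. -/
theorem result (R : Type u) [CommRing R] {M N M' : Type u}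
    [AddCommGroup M] [Module R M] [AddCommGroup N] [Module R N] [AddCommGroup M'] [Module R M']
    (f : M →ₗ[R] N) (g : M →ₗ[R] M') :
    (∀ (Q : Type u) [AddCommGroup Q] [Module R Q], LinearMap.ker (f.rTensor Q) ≤ LinearMap.ker (g.rTensor Q)) ↔
      CAlgX.UniversallyInjective R
        ((LinearMap.range (g.prod (-f))).mkQ ∘ₗ LinearMap.inl R M' N) := by
  have hcomp1 : LinearMap.fst R M' N ∘ₗ (g.prod (-f)) = g := by
    apply LinearMap.ext; intro x; simp
  have hcomp2 : LinearMap.snd R M' N ∘ₗ (g.prod (-f)) = -f := by
    apply LinearMap.ext; intro x; simp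
  have hsi : LinearMap.snd R M' N ∘ₗ LinearMap.inl R M' N = 0 := by
    apply LinearMap.ext; intro x; simp
  have hfi : LinearMap.fst R M' N ∘ₗ LinearMap.inl R M' N = LinearMap.id := by
    apply LinearMap.ext; intro x; simp
  have hπj : (LinearMap.range (g.prod (-f))).mkQ ∘ₗ (g.prod (-f)) = 0 := by
    apply LinearMap.ext
    intro x
    rw [LinearMap.comp_apply, Submodule.mkQ_apply, LinearMap.zero_apply,
      Submodule.Quotient.mk_eq_zero]
    exact LinearMap.mem_range_self _ x
  have hinlg : LinearMap.inl R M' N ∘ₗ g = g.prod (-f) + LinearMap.inr R M' N ∘ₗ f := by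
    apply LinearMap.ext
    intro x
    apply Prod.ext <;> simp
  constructor
  · intro hdom Q _ _
    rw [injective_iff_map_eq_zero]
    intro y hy
    rw [LinearMap.rTensor_comp_apply] at hy
    have hex : Function.Exact ((g.prod (-f)).rTensor Q)
        ((LinearMap.range (g.prod (-f))).mkQ.rTensor Q) :=
      rTensor_exact Q (LinearMap.exact_map_mkQ_range _) (Submodule.mkQ_surjective _)
    obtain ⟨x, hx⟩ := (hex _).1 hy
    have h1 := congrArg ((LinearMap.snd R M' N).rTensor Q) hx
    rw [← LinearMap.rTensor_comp_apply, ← LinearMap.rTensor_comp_apply, hcomp2, hsi,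
      LinearMap.rTensor_zero, LinearMap.zero_apply, LinearMap.rTensor_neg, LinearMap.neg_apply,
      neg_eq_zero] at h1
    have h2 : g.rTensor Q x = 0 := LinearMap.mem_ker.mp (hdom Q (LinearMap.mem_ker.mpr h1))
    have h3 := congrArg ((LinearMap.fst R M' N).rTensor Q) hx
    rw [← LinearMap.rTensor_comp_apply, ← LinearMap.rTensor_comp_apply, hcomp1, hfi,
      LinearMap.rTensor_id_apply, h2] at h3
    exact h3.symm
  · intro huniv Q _ _ x hx
    rw [LinearMap.mem_ker] at hx ⊢
    apply huniv Q
    rw [map_zero, ← LinearMap.rTensor_comp_apply, LinearMap.comp_assoc, hinlg, LinearMap.comp_add,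
      hπj, zero_add, ← LinearMap.comp_assoc, LinearMap.rTensor_comp_apply, hx, map_zero]

end Groth.Agent.S6388
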