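import Groth.Statements.S6361
import Mathlib
import Groth.Agent.Lib.Helper10.Dom
import Groth.Agent.S6388
import Groth.Agent.S6302
open scoped TensorProduct

set_option autoImplicit false
universe u
open CAlg

namespace Groth.Agent.S6361


section helpers

variable (R : Type u) [CommRing R]

theorem exists_retraction {A B C : Type u} [AddCommGroup A] [Module R A] [AddCommGroup B]
    [Module R B] [AddCommGroup C] [Module R C] [Module.Finite R A] [Module.FinitePresentation R C]
    (g : A →ₗ[R] B) (w : A →ₗ[R] C)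
    (hdom : ∀ (N : Type u) [AddCommGroup N] [Module R N],
      LinearMap.ker (w.rTensor N) ≤ LinearMap.ker (g.rTensor N)) :
    ∃ r : C →ₗ[R] B, ∀ a, r (w a) = g a := by
  have hui : CAlgX.UniversallyInjective R
      ((LinearMap.range (g.prod (-w))).mkQ ∘ₗ LinearMap.inl R B C) :=
    (Groth.Agent.S6388.result R w g).1 hdom
  set W : Submodule R (B × C) := LinearMap.range (g.prod (-w)) with hW
  set ι : B →ₗ[R] (B × C) ⧸ W := W.mkQ ∘ₗ LinearMap.inl R B C with hι
  have hmemW : ∀ a, (g a, - w a) ∈ W := fun a => ⟨a, by simp⟩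
  let π : (B × C) ⧸ W →ₗ[R] C ⧸ LinearMap.range w :=
    W.liftQ ((LinearMap.range w).mkQ ∘ₗ LinearMap.snd R B C) (by
      rintro _ ⟨a, rfl⟩
      rw [LinearMap.mem_ker]
      show (LinearMap.range w).mkQ ((-w) a) = 0
      rw [LinearMap.neg_apply, map_neg, neg_eq_zero, Submodule.mkQ_apply,
        Submodule.Quotient.mk_eq_zero]
      exact LinearMap.mem_range_self w a)
  have hπmk : ∀ b c, π (W.mkQ (b, c)) = (LinearMap.range w).mkQ c := fun b c => rfl
  haveI : Module.FinitePresentation R (C ⧸ LinearMap.range w) :=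
    Module.finitePresentation_of_surjective (LinearMap.range w).mkQ (Submodule.mkQ_surjective _)
      (by
        rw [Submodule.ker_mkQ, LinearMap.range_eq_map]
        exact Submodule.FG.map _ Module.Finite.fg_top)
  have hπsurj : Function.Surjective π := by
    intro d
    obtain ⟨c, rfl⟩ := Submodule.mkQ_surjective _ d
    exact ⟨W.mkQ (0, c), hπmk 0 c⟩
  have hexact : Function.Exact ι π := by
    intro n'
    constructor
    · intro hn
      obtain ⟨⟨b, c⟩, rfl⟩ := Submodule.mkQ_surjective W n'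
      rw [hπmk, Submodule.mkQ_apply, Submodule.Quotient.mk_eq_zero] at hn
      obtain ⟨a, rfl⟩ := hn
      refine ⟨b + g a, ?_⟩
      show W.mkQ (b + g a, 0) = W.mkQ (b, w a)
      rw [Submodule.mkQ_apply, Submodule.mkQ_apply, Submodule.Quotient.eq]
      have h1 : ((b + g a, (0:C)) - (b, w a)) = (g a, - w a) := by ext <;> simp
      rw [h1]; exact hmemW a
    · rintro ⟨b, rfl⟩
      show π (W.mkQ (b, 0)) = 0
      rw [hπmk, map_zero]
  have hinj : Function.Injective ι := by
    have h1 := hui R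
    intro b b' hbb
    have h2 : ι.rTensor R (b ⊗ₜ[R] (1:R)) = ι.rTensor R (b' ⊗ₜ[R] (1:R)) := by
      rw [LinearMap.rTensor_tmul, LinearMap.rTensor_tmul, hbb]
    have h3 := congrArg (TensorProduct.rid R B) (h1 h2)
    simpa using h3
  obtain ⟨s, hs⟩ := Groth.Agent.S6302.result ι π hexact hπsurj hui
  have hl' : ∃ l : (B × C) ⧸ W →ₗ[R] B, l ∘ₗ ι = LinearMap.id :=
    ((hexact.split_tfae hinj hπsurj).out 0 1 rfl rfl).1 ⟨s, hs⟩
  obtain ⟨l, hl⟩ := hl'
  refine ⟨l ∘ₗ W.mkQ ∘ₗ LinearMap.inr R B C, ?_⟩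
  intro a
  simp only [LinearMap.comp_apply, LinearMap.inr_apply]
  have h1 : W.mkQ (0, w a) = ι (g a) := by
    show W.mkQ (0, w a) = W.mkQ (g a, 0)
    rw [Submodule.mkQ_apply, Submodule.mkQ_apply, Submodule.Quotient.eq]
    have h2 : (((0:B), w a) - (g a, (0:C))) = -(g a, - w a) := by ext <;> simp
    rw [h2]; exact W.neg_mem (hmemW a)
  rw [h1]
  exact LinearMap.congr_fun hl (g a)

theorem glue {M T : Type u} [AddCommGroup M] [Module R M] [AddCommGroup T] [Module R T]
    (Q : ℕ → Type u) [∀ n, AddCommGroup (Q n)] [∀ n, Module R (Q n)]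
    (h : ∀ n, Q n →ₗ[R] M) (g : ∀ n, Q n →ₗ[R] Q (n+1)) (hg : ∀ n q, h (n+1) (g n q) = h n q)
    (hsurj : ∀ m : M, ∃ n q, h n q = m)
    (z : ∀ n, Q n →ₗ[R] T) (hz : ∀ n q, z (n+1) (g n q) = z n q)
    (hker : ∀ n q, h n q = 0 → z n q = 0) :
    ∃ b : M →ₗ[R] T, ∀ n q, b (h n q) = z n q := by
  have hpush : ∀ n (q : Q n) n', n ≤ n' → ∃ q'' : Q n', h n' q'' = h n q ∧ z n' q'' = z n q := by
    intro n q n' hnn'
    induction n', hnn' using Nat.le_induction with
    | base => exact ⟨q, rfl, rfl⟩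
    | succ n' hn' ih =>
      obtain ⟨q'', h1, h2⟩ := ih
      exact ⟨g n' q'', by rw [hg, h1], by rw [hz, h2]⟩
  have hwd : ∀ n (q : Q n) n' (q' : Q n'), h n q = h n' q' → z n q = z n' q' := by
    intro n q n' q' heq
    rcases le_total n n' with hle | hle
    · obtain ⟨q'', h1, h2⟩ := hpush n q n' hle
      rw [← h2]
      have h3 : z n' (q'' - q') = 0 := hker _ _ (by rw [map_sub, h1, heq, sub_self])
      rwa [map_sub, sub_eq_zero] at h3
    · obtain ⟨q'', h1, h2⟩ := hpush n' q' n hle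
      rw [← h2]
      have h3 : z n (q - q'') = 0 := hker _ _ (by rw [map_sub, h1, heq, sub_self])
      rwa [map_sub, sub_eq_zero] at h3
  choose cn cq hc using hsurj
  refine ⟨{ toFun := fun m => z (cn m) (cq m), map_add' := ?_, map_smul' := ?_ }, ?_⟩
  · intro m₁ m₂
    obtain ⟨q₁, h1, h1'⟩ := hpush (cn m₁) (cq m₁) (max (cn m₁) (cn m₂)) (le_max_left _ _)
    obtain ⟨q₂, h2, h2'⟩ := hpush (cn m₂) (cq m₂) (max (cn m₁) (cn m₂)) (le_max_right _ _)
    rw [← h1', ← h2', ← map_add]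
    apply hwd
    rw [map_add, h1, h2, hc, hc, hc]
  · intro r m
    simp only [RingHom.id_apply]
    rw [← map_smul]
    apply hwd
    rw [map_smul, hc, hc]
  · intro n q
    exact hwd _ _ _ _ (hc _)

structure Stg (M : Type u) [AddCommGroup M] [Module R M] where
  Q : Type u
  [acg : AddCommGroup Q]
  [mod : Module R Q]
  [fp : Module.FinitePresentation R Q]
  h : Q →ₗ[R] M

attribute [instance] Stg.acg Stg.mod Stg.fp

variable {M : Type u} [AddCommGroup M] [Module R M]

theorem step_exists (hML : CAlg.IsMittagLeffler R M) (S : Stg R M) (x : M) :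
    ∃ (S' : Stg R M) (t : S.Q →ₗ[R] S'.Q), (∀ q, S'.h (t q) = S.h q) ∧
      x ∈ LinearMap.range S'.h ∧
      ∀ (N : Type u) [AddCommGroup N] [Module R N],
        LinearMap.ker (S.h.rTensor N) ≤ LinearMap.ker (t.rTensor N) := by
  let φ : S.Q × R →ₗ[R] M := S.h.coprod (LinearMap.toSpanSingleton R M x)
  obtain ⟨j, hj⟩ := Groth.Agent.Lib.Helper10.exists_dominating R hML φ
  refine ⟨⟨j.Q, j.h⟩, j.g ∘ₗ LinearMap.inl R S.Q R, ?_, ?_, ?_⟩
  · intro q
    have h1 := LinearMap.congr_fun j.h_comp_g (q, 0)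
    simpa [φ] using h1
  · refine ⟨j.g (0, 1), ?_⟩
    have h1 := LinearMap.congr_fun j.h_comp_g ((0 : S.Q), (1 : R))
    simpa [φ] using h1
  · intro N _ _ y hy
    rw [LinearMap.mem_ker] at hy ⊢
    rw [LinearMap.rTensor_comp_apply]
    have h1 : φ.rTensor N ((LinearMap.inl R S.Q R).rTensor N y) = 0 := by
      rw [← LinearMap.rTensor_comp_apply]
      have h2 : φ ∘ₗ LinearMap.inl R S.Q R = S.h := by
        apply LinearMap.ext; intro q; simp [φ]
      rw [h2]; exact hy
    exact hj N h1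

noncomputable def nextStg (hML : CAlg.IsMittagLeffler R M) (S : Stg R M) (x : M) : Stg R M :=
  Classical.choose (step_exists R hML S x)

noncomputable def nextMap (hML : CAlg.IsMittagLeffler R M) (S : Stg R M) (x : M) :
    S.Q →ₗ[R] (nextStg R hML S x).Q :=
  Classical.choose (Classical.choose_spec (step_exists R hML S x))

theorem next_spec (hML : CAlg.IsMittagLeffler R M) (S : Stg R M) (x : M) :
    (∀ q, (nextStg R hML S x).h (nextMap R hML S x q) = S.h q) ∧
      x ∈ LinearMap.range (nextStg R hML S x).h ∧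
      ∀ (N : Type u) [AddCommGroup N] [Module R N],
        LinearMap.ker (S.h.rTensor N) ≤ LinearMap.ker ((nextMap R hML S x).rTensor N) :=
  Classical.choose_spec (Classical.choose_spec (step_exists R hML S x))

noncomputable def tower (hML : CAlg.IsMittagLeffler R M) (S₀ : Stg R M) (x : ℕ → M) :
    ℕ → Stg R M
  | 0 => S₀
  | (n+1) => nextStg R hML (tower hML S₀ x n) (x n)

noncomputable def tmap (hML : CAlg.IsMittagLeffler R M) (S₀ : Stg R M) (x : ℕ → M) (n : ℕ) :
    (tower R hML S₀ x n).Q →ₗ[R] (tower R hML S₀ x (n+1)).Q :=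
  nextMap R hML (tower R hML S₀ x n) (x n)

theorem tmap_spec (hML : CAlg.IsMittagLeffler R M) (S₀ : Stg R M) (x : ℕ → M) (n : ℕ) :
    (∀ q, (tower R hML S₀ x (n+1)).h (tmap R hML S₀ x n q) = (tower R hML S₀ x n).h q) ∧
      x n ∈ LinearMap.range (tower R hML S₀ x (n+1)).h ∧
      ∀ (N : Type u) [AddCommGroup N] [Module R N],
        LinearMap.ker ((tower R hML S₀ x n).h.rTensor N) ≤
          LinearMap.ker ((tmap R hML S₀ x n).rTensor N) :=
  next_spec R hML (tower R hML S₀ x n) (x n)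

end helpers


/-- Let M be a Mittag-Leffler, countably generated module over a commutative ring R, and f : P → M a
linear map with P finitely generated. Then there is an endomorphism a of M which factors through
some finitely presented module and satisfies a ∘ f = f. -/
theorem result (R : Type u)
    [CommRing R] (M : Type u) [AddCommGroup M] [Module R M] (hML : CAlg.IsMittagLeffler R M)
    (hc : CAlg.IsCountablyGenerated R M) {P : Type u} [AddCommGroup P] [Module R P] [Module.Finite R P]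
    (f : P →ₗ[R] M) :
    ∃ (Q : Type u) (_ : AddCommGroup Q) (_ : Module R Q) (_ : Module.FinitePresentation R Q)
      (b : M →ₗ[R] Q) (c : Q →ₗ[R] M), (c ∘ₗ b) ∘ₗ f = f := by
  classical
  obtain ⟨s, hsc, hs⟩ := hc
  obtain ⟨x, hx⟩ : ∃ x : ℕ → M, s ⊆ Set.range x := by
    rcases s.eq_empty_or_nonempty with rfl | hne
    · exact ⟨fun _ => 0, Set.empty_subset _⟩
    · obtain ⟨x, hx⟩ := hsc.exists_eq_range hne
      exact ⟨x, hx.le⟩
  obtain ⟨m, π, hπ⟩ := Module.Finite.exists_fin' R P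
  let S₀ : Stg R M := ⟨Fin m → R, f ∘ₗ π⟩
  let tw : ℕ → Stg R M := tower R hML S₀ x
  let g : ∀ n, (tw n).Q →ₗ[R] (tw (n+1)).Q := tmap R hML S₀ x
  have hg : ∀ n q, (tw (n+1)).h (g n q) = (tw n).h q := fun n => (tmap_spec R hML S₀ x n).1
  have hmem : ∀ n, x n ∈ LinearMap.range (tw (n+1)).h := fun n => (tmap_spec R hML S₀ x n).2.1
  have hdom : ∀ n (N : Type u) [AddCommGroup N] [Module R N],
      LinearMap.ker ((tw n).h.rTensor N) ≤ LinearMap.ker ((g n).rTensor N) :=
    fun n => (tmap_spec R hML S₀ x n).2.2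
  -- pushing elements up
  have hup : ∀ n (q : (tw n).Q) n', n ≤ n' → ∃ q' : (tw n').Q, (tw n').h q' = (tw n).h q := by
    intro n q n' hnn'
    induction n', hnn' using Nat.le_induction with
    | base => exact ⟨q, rfl⟩
    | succ n' hn' ih =>
      obtain ⟨q', h1⟩ := ih
      exact ⟨g n' q', by rw [hg, h1]⟩
  have hsurj : ∀ y : M, ∃ n, ∃ q : (tw n).Q, (tw n).h q = y := by
    intro y
    have hy : y ∈ Submodule.span R s := by rw [hs]; trivial
    refine Submodule.span_induction (p := fun y _ => ∃ n, ∃ q : (tw n).Q, (tw n).h q = y)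
      ?_ ?_ ?_ ?_ hy
    · intro y hy
      obtain ⟨k, rfl⟩ := hx hy
      obtain ⟨q, hq⟩ := hmem k
      exact ⟨k+1, q, hq⟩
    · exact ⟨0, 0, map_zero _⟩
    · rintro y₁ y₂ _ _ ⟨n₁, q₁, h1⟩ ⟨n₂, q₂, h2⟩
      obtain ⟨q₁', h1'⟩ := hup n₁ q₁ (max n₁ n₂) (le_max_left _ _)
      obtain ⟨q₂', h2'⟩ := hup n₂ q₂ (max n₁ n₂) (le_max_right _ _)
      exact ⟨max n₁ n₂, q₁' + q₂', by rw [map_add, h1', h2', h1, h2]⟩
    · rintro r y _ ⟨n, q, h1⟩
      exact ⟨n, r • q, by rw [map_smul, h1]⟩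
  -- retractions
  have hret : ∀ n, ∃ r : (tw (n+2)).Q →ₗ[R] (tw (n+1)).Q,
      ∀ a, r (g (n+1) (g n a)) = g n a := by
    intro n
    have := exists_retraction R (g n) (g (n+1) ∘ₗ g n) (by
      intro N _ _ y hy
      apply hdom n N
      rw [LinearMap.mem_ker] at hy ⊢
      have h1 : (tw n).h = (tw (n+2)).h ∘ₗ (g (n+1) ∘ₗ g n) := by
        apply LinearMap.ext; intro q
        rw [LinearMap.comp_apply, LinearMap.comp_apply, hg, hg]
      rw [h1, LinearMap.rTensor_comp_apply, hy, map_zero])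
    obtain ⟨r, hr⟩ := this
    exact ⟨r, fun a => hr a⟩
  choose r hr using hret
  let w : ∀ n, (tw (n+1)).Q →ₗ[R] (tw 1).Q := fun n =>
    Nat.rec (motive := fun n => (tw (n+1)).Q →ₗ[R] (tw 1).Q) LinearMap.id
      (fun n wn => wn ∘ₗ r n) n
  have hw0 : ∀ q, w 0 q = q := fun q => rfl
  have hwS : ∀ n q, w (n+1) q = w n (r n q) := fun n q => rfl
  let z : ∀ n, (tw n).Q →ₗ[R] (tw 1).Q := fun n => w n ∘ₗ g n
  have hz : ∀ n q, z (n+1) (g n q) = z n q := by
    intro n q
    show w (n+1) (g (n+1) (g n q)) = w n (g n q)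
    rw [hwS, hr]
  have hker : ∀ n q, (tw n).h q = 0 → z n q = 0 := by
    intro n q hq
    have h2 : (q ⊗ₜ[R] (1 : R)) ∈ LinearMap.ker ((tw n).h.rTensor R) := by
      rw [LinearMap.mem_ker, LinearMap.rTensor_tmul, hq, TensorProduct.zero_tmul]
    have h3 := hdom n R h2
    rw [LinearMap.mem_ker, LinearMap.rTensor_tmul] at h3
    have h4 := congrArg (TensorProduct.rid R (tw (n+1)).Q) h3
    have h5 : g n q = 0 := by simpa using h4
    show w n (g n q) = 0
    rw [h5, map_zero]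
  obtain ⟨b, hb⟩ := glue R (fun n => (tw n).Q) (fun n => (tw n).h) g hg hsurj z hz hker
  refine ⟨(tw 1).Q, (tw 1).acg, (tw 1).mod, (tw 1).fp, b, (tw 1).h, ?_⟩
  apply LinearMap.ext
  intro y
  obtain ⟨v, rfl⟩ := hπ y
  show (tw 1).h (b ((tw 0).h v)) = (tw 0).h v
  rw [hb]
  show (tw 1).h (w 0 (g 0 v)) = (tw 0).h v
  rw [hw0, hg]

end Groth.Agent.S6361
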