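import Groth.Statements.S0584
import Mathlib
import Groth.Agent.Lib.Helper25.FlatMLProj
import Groth.Agent.Lib.Helper25.Kaplansky
import Groth.Agent.Lib.Helper10.ML2
open Groth.Agent.Lib.Helper25

set_option autoImplicit false
universe u
open scoped Classical
open CAlg

namespace Groth.Agent.S0584


open Groth.Agent.Lib.Helper25 in
theorem dsum_of_retract_of_free (R : Type u) [CommRing R] (M : Type u) [AddCommGroup M] [Module R M]
    (F : Type u) [AddCommGroup F] [Module R F] {κ : Type u} (bs : Module.Basis κ R F)
    (s : M →ₗ[R] F) (p : F →ₗ[R] M) (hps : ∀ m, p (s m) = m) :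
    ∃ (ι : Type u) (N : ι → Submodule R M), DirectSum.IsInternal N ∧
      ∀ i, CAlg.IsCountablyGenerated R (N i) := by
  have hsinj : Function.Injective s := Function.LeftInverse.injective hps
  let P : Submodule R F := LinearMap.range s
  let π : F →ₗ[R] F := s ∘ₗ p
  let Nb : κ → Submodule R F := fun b => Submodule.span R {bs b}
  have hind : iSupIndep Nb := bs.linearIndependent.iSupIndep_span_singleton
  have hsup : ⨆ b, Nb b = ⊤ := by
    rw [← Submodule.span_range_eq_iSup]
    exact bs.span_eq
  have hcg : ∀ b, Kaplansky.CG (Nb b) :=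
    fun b => ⟨{bs b}, Set.countable_singleton _, rfl⟩
  obtain ⟨𝓛, hLcg, hLind, hLsup⟩ := Kaplansky.main π P Nb (fun x => ⟨p x, rfl⟩)
    (by rintro _ ⟨m, rfl⟩; show s (p (s m)) = s m; rw [hps]) hind hsup hcg
  have hint := Kaplansky.internal_of_sSupIndep hLind hLsup
  let e : M ≃ₗ[R] P := LinearEquiv.ofInjective s hsinj
  let oi := Submodule.orderIsoMapComap e.symm
  refine ⟨↥𝓛, fun k => (Submodule.comap P.subtype k.1).map (e.symm : P →ₗ[R] M), ?_, ?_⟩
  · apply DirectSum.isInternal_submodule_of_iSupIndep_of_iSup_eq_top
      (dec_ι := fun a b => Classical.propDecidable (a = b))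
    · exact hint.1.map_orderIso oi
    · have h1 := congrArg oi hint.2
      rw [OrderIso.map_iSup, OrderIso.map_top] at h1
      exact h1
  · intro k
    have hle : k.1 ≤ P := hLsup ▸ le_sSup k.2
    have h2 : CAlg.IsCountablyGenerated R ↥(Submodule.comap P.subtype k.1) :=
      (hLcg k.1 k.2).isCountablyGenerated_comap hle
    exact Kaplansky.isCountablyGenerated_of_surjective
      ((e.symm : P →ₗ[R] M).submoduleMap (Submodule.comap P.subtype k.1))
      ((e.symm : P →ₗ[R] M).submoduleMap_surjective _) h2


/-- Projectivity of a module is equivalent to the conjunction of three conditions — flatness, the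
Mittag-Leffler property, and being an internal direct sum of countably generated submodules. -/
theorem result (R : Type u) [CommRing R] (M : Type u)
    [AddCommGroup M] [Module R M] :
    Module.Projective R M ↔ (Module.Flat R M ∧ CAlg.IsMittagLeffler R M ∧
      ∃ (ι : Type u) (N : ι → Submodule R M), DirectSum.IsInternal N ∧
        ∀ i, CAlg.IsCountablyGenerated R (N i)) := by
  constructor
  · intro hproj
    obtain ⟨s, hs⟩ := Module.projective_def'.1 hproj
    set p : (M →₀ R) →ₗ[R] M := Finsupp.linearCombination R id with hp
    have hps : ∀ m, p (s m) = m := fun m => LinearMap.congr_fun hs m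
    refine ⟨inferInstance, ?_, ?_⟩
    · have hR : CAlg.IsMittagLeffler R (DirectSum M (fun _ => R)) :=
        (Groth.Agent.S6337.result R (fun _ : M => R)).2
          (fun _ => Groth.Agent.Lib.Helper10.isML_self R)
      have hF : CAlg.IsMittagLeffler R (M →₀ R) :=
        Groth.Agent.Lib.Helper10.isML_of_equiv R (finsuppLEquivDirectSum R R M).symm hR
      refine Groth.Agent.S6338.result R s ?_ hF
      intro Q _ _
      apply Function.LeftInverse.injective (g := p.rTensor Q)
      intro x
      rw [← LinearMap.rTensor_comp_apply, hs, LinearMap.rTensor_id, LinearMap.id_apply]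
    · exact dsum_of_retract_of_free R M (M →₀ R) Finsupp.basisSingleOne s p hps
  · rintro ⟨hflat, hML, ι, N, hN, hNc⟩
    let e : (DirectSum ι fun i => N i) ≃ₗ[R] M :=
      LinearEquiv.ofBijective (DirectSum.coeLinearMap N) hN
    have : Module.Flat R (DirectSum ι fun i => N i) := Module.Flat.of_linearEquiv e
    have hflat_i : ∀ i, Module.Flat R (N i) := Module.Flat.directSum_iff.1 inferInstance
    have hML' : CAlg.IsMittagLeffler R (DirectSum ι fun i => N i) :=
      Groth.Agent.Lib.Helper10.isML_of_equiv R e.symm hML
    have hML_i : ∀ i, CAlg.IsMittagLeffler R (N i) :=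
      (Groth.Agent.S6337.result R (fun i => ↥(N i))).1 hML'
    have : ∀ i, Module.Projective R (N i) := fun i =>
      haveI := hflat_i i
      FlatMLProj.projective_of_flat_ml_countable R (hML_i i) (hNc i)
    have : Module.Projective R (DirectSum ι fun i => N i) :=
      (inferInstance : Module.Projective R (Π₀ i, N i))
    exact Module.Projective.of_equiv' e

end Groth.Agent.S0584
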