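import Groth.Statements.S0586
import Mathlib
import Groth.Agent.Lib.Helper26.PureProd

set_option autoImplicit false
universe u
open CAlg

namespace Groth.Agent.S0586

open TensorProduct

section helpers

variable (R : Type u) [CommRing R] (S : Type u) [CommRing S] [Algebra R S]
  (M : Type u) [AddCommGroup M] [Module R M]

/-- `M ⊗[R] N ≃ (S ⊗[R] M) ⊗[S] N` for an `S`-module `N`. -/
noncomputable def Φ (N : Type u) [AddCommGroup N] [Module R N] [Module S N] [IsScalarTower R S N] :
    M ⊗[R] N ≃+ (S ⊗[R] M) ⊗[S] N :=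
  (TensorProduct.comm R M N).toAddEquiv.trans
    ((TensorProduct.AlgebraTensorModule.cancelBaseChange R S S N M).symm.toAddEquiv.trans
      (TensorProduct.comm S N (S ⊗[R] M)).toAddEquiv)

lemma Φ_tmul (N : Type u) [AddCommGroup N] [Module R N] [Module S N] [IsScalarTower R S N]
    (m : M) (n : N) : Φ R S M N (m ⊗ₜ[R] n) = ((1 : S) ⊗ₜ[R] m) ⊗ₜ[S] n := by
  simp [Φ]

lemma Φ_nat {ι : Type u} (N : ι → Type u) [∀ i, AddCommGroup (N i)] [∀ i, Module R (N i)]
    [∀ i, Module S (N i)] [∀ i, IsScalarTower R S (N i)] (z : M ⊗[R] (∀ i, N i)) (i : ι) :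
    TensorProduct.piRightHom S S (S ⊗[R] M) N (Φ R S M (∀ i, N i) z) i =
      Φ R S M (N i) (TensorProduct.piRightHom R R M N z i) := by
  induction z using TensorProduct.induction_on with
  | zero => simp
  | tmul m n => simp only [Φ_tmul, TensorProduct.piRightHom_tmul]
  | add x y hx hy => simp only [map_add, Pi.add_apply, hx, hy]

lemma nat_right {ι : Type u} (Q Q' : ι → Type u) [∀ i, AddCommGroup (Q i)] [∀ i, Module R (Q i)]
    [∀ i, AddCommGroup (Q' i)] [∀ i, Module R (Q' i)] (g : ∀ i, Q i →ₗ[R] Q' i)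
    (z : M ⊗[R] (∀ i, Q i)) (i : ι) :
    TensorProduct.piRightHom R R M Q'
      (LinearMap.lTensor M (LinearMap.pi fun i => g i ∘ₗ LinearMap.proj i) z) i =
      LinearMap.lTensor M (g i) (TensorProduct.piRightHom R R M Q z i) := by
  induction z using TensorProduct.induction_on with
  | zero => simp
  | tmul m n => simp
  | add x y hx hy => simp only [map_add, Pi.add_apply, hx, hy]

end helpers


/-- Let `R → S` be faithfully flat and `M` an `R`-module. If `S ⊗ M` is a Mittag-Leffler `S`-module then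
`M` is a Mittag-Leffler `R`-module. -/
theorem result (R : Type u) [CommRing R] (S : Type u)
    [CommRing S] [Algebra R S] [Module.FaithfullyFlat R S] (M : Type u) [AddCommGroup M] [Module R M]
    (h : CAlg.IsMittagLeffler S (TensorProduct R S M)) : CAlg.IsMittagLeffler R M := by
  intro ι Q _ _
  rw [injective_iff_map_eq_zero]
  intro z hz
  have hJ := Groth.Agent.Lib.Helper26.PureProd.lTensor_pi_mk_injective (R := R) (S := S) M Q
  apply hJ
  rw [map_zero]
  have h1 : TensorProduct.piRightHom R R M (fun i => S ⊗[R] Q i)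
      (LinearMap.lTensor M (LinearMap.pi fun i =>
        (TensorProduct.mk R S (Q i) 1) ∘ₗ LinearMap.proj i) z) = 0 := by
    funext i
    rw [nat_right R M Q (fun i => S ⊗[R] Q i) (fun i => TensorProduct.mk R S (Q i) 1) z i, hz]
    simp
  have h2 : TensorProduct.piRightHom S S (S ⊗[R] M) (fun i => S ⊗[R] Q i)
      (Φ R S M (∀ i, S ⊗[R] Q i) (LinearMap.lTensor M (LinearMap.pi fun i =>
        (TensorProduct.mk R S (Q i) 1) ∘ₗ LinearMap.proj i) z)) = 0 := by
    funext i
    rw [Φ_nat, h1]
    simp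
  have h3 := (injective_iff_map_eq_zero _).1 (h ι (fun i => S ⊗[R] Q i)) _ h2
  exact (AddEquiv.map_eq_zero_iff (Φ R S M (∀ i, S ⊗[R] Q i))).mp h3

end Groth.Agent.S0586
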