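import Groth.Statements.S6383
import Mathlib

set_option autoImplicit false
universe u
open scoped TensorProduct
open CAlg

namespace Groth.Agent.S6383

/-- For a ring map R → S and an R-module M whose base change S ⊗_R M is an internal direct sum of
countably generated S-submodules Q_i (i ∈ I), every countably generated submodule N ≤ M can be
enlarged to a countably generated submodule N' ≤ M, together with a subset I' ⊆ I, so that the
S-span of the image 1 ⊗ N' inside S ⊗_R M equals the sum of the Q_i over i ∈ I'. -/
theorem result (R S : Type u) [CommRing R] [CommRing S] [Algebra R S]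
    (M : Type u) [AddCommGroup M] [Module R M] {I : Type u} [DecidableEq I] (Q : I → Submodule S (S ⊗[R] M))
    (hQ : DirectSum.IsInternal Q) (hQc : ∀ i, ∃ t : Set (S ⊗[R] M), t.Countable ∧ Submodule.span S t = Q i)
    (N : Submodule R M) (hN : ∃ s : Set M, s.Countable ∧ Submodule.span R s = N) :
    ∃ (N' : Submodule R M) (I' : Set I), N ≤ N' ∧ (∃ s : Set M, s.Countable ∧ Submodule.span R s = N') ∧
      Submodule.span S ((TensorProduct.mk R S M 1) '' (N' : Set M)) = ⨆ i ∈ I', Q i := by
  classical
  have htop : (⨆ i, Q i) = ⊤ := hQ.submodule_iSup_eq_top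
  have hJ : ∀ x : S ⊗[R] M, ∃ J : Finset I, x ∈ ⨆ i ∈ J, Q i := by
    intro x
    have hx : x ∈ ⨆ i, Q i := by rw [htop]; trivial
    exact Submodule.exists_finset_of_mem_iSup Q hx
  choose J hJ using hJ
  have hF : ∀ y : S ⊗[R] M, ∃ F : Finset M,
      y ∈ Submodule.span S ((TensorProduct.mk R S M 1) '' (F : Set M)) := by
    intro y
    induction y using TensorProduct.induction_on with
    | zero => exact ⟨∅, Submodule.zero_mem _⟩
    | tmul a m =>
      refine ⟨{m}, ?_⟩
      have h : a ⊗ₜ[R] m = a • (TensorProduct.mk R S M 1 m) := by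
        rw [TensorProduct.mk_apply, TensorProduct.smul_tmul', smul_eq_mul, mul_one]
      rw [h]
      exact Submodule.smul_mem _ _ (Submodule.subset_span ⟨m, by simp, rfl⟩)
    | add x y hx hy =>
      obtain ⟨F1, h1⟩ := hx
      obtain ⟨F2, h2⟩ := hy
      refine ⟨F1 ∪ F2, Submodule.add_mem _ ?_ ?_⟩
      · exact Submodule.span_mono
          (Set.image_mono (Finset.coe_subset.2 Finset.subset_union_left)) h1
      · exact Submodule.span_mono
          (Set.image_mono (Finset.coe_subset.2 Finset.subset_union_right)) h2
  choose F hF using hF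
  choose gen hgenc hgen using hQc
  obtain ⟨s, hsc, hs⟩ := hN
  let step : Set M × Set I → Set M × Set I := fun p =>
    (p.1 ∪ ⋃ i ∈ p.2, ⋃ t ∈ gen i, (F t : Set M),
      p.2 ∪ ⋃ m ∈ p.1, (J ((1 : S) ⊗ₜ[R] m) : Set I))
  let seq : ℕ → Set M × Set I := fun k => step^[k] (s, ∅)
  have hseq_succ : ∀ k, seq (k+1) = step (seq k) :=
    fun k => Function.iterate_succ_apply' step k _
  have hc : ∀ k, (seq k).1.Countable ∧ (seq k).2.Countable := by
    intro k
    induction k with
    | zero => exact ⟨hsc, Set.countable_empty⟩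
    | succ k ih =>
      rw [hseq_succ]
      exact ⟨ih.1.union (ih.2.biUnion fun i _ =>
          (hgenc i).biUnion fun t _ => Finset.countable_toSet _),
        ih.2.union (ih.1.biUnion fun m _ => Finset.countable_toSet _)⟩
  let s' : Set M := ⋃ k, (seq k).1
  let I' : Set I := ⋃ k, (seq k).2
  have hs's : s ⊆ s' := fun m hm => Set.mem_iUnion.2 ⟨0, hm⟩
  refine ⟨Submodule.span R s', I', ?_,
    ⟨s', Set.countable_iUnion fun k => (hc k).1, rfl⟩, ?_⟩
  · rw [← hs]; exact Submodule.span_mono hs's
  · have hspan : Submodule.span S ((TensorProduct.mk R S M 1) ''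
          ((Submodule.span R s' : Submodule R M) : Set M))
        = Submodule.span S ((TensorProduct.mk R S M 1) '' s') := by
      apply le_antisymm
      · rw [Submodule.span_le]
        rintro _ ⟨m, hm, rfl⟩
        refine Submodule.span_induction
          (p := fun m _ => TensorProduct.mk R S M 1 m ∈
            Submodule.span S ((TensorProduct.mk R S M 1) '' s')) ?_ ?_ ?_ ?_ hm
        · intro x hx; exact Submodule.subset_span ⟨x, hx, rfl⟩
        · simp
        · intro x y _ _ hx hy; rw [map_add]; exact Submodule.add_mem _ hx hy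
        · intro r x _ hx
          rw [map_smul]
          exact Submodule.smul_of_tower_mem _ r hx
      · exact Submodule.span_mono (Set.image_mono Submodule.subset_span)
    rw [hspan]
    apply le_antisymm
    · rw [Submodule.span_le]
      rintro _ ⟨m, hm, rfl⟩
      obtain ⟨k, hk⟩ := Set.mem_iUnion.1 hm
      have h1 := hJ ((1 : S) ⊗ₜ[R] m)
      have hle : (⨆ i ∈ J ((1 : S) ⊗ₜ[R] m), Q i) ≤ ⨆ i ∈ I', Q i := by
        refine iSup₂_le fun i hi => ?_
        have hi' : i ∈ I' := by
          refine Set.mem_iUnion.2 ⟨k+1, ?_⟩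
          show i ∈ (seq (k+1)).2
          rw [hseq_succ k]
          exact Or.inr (Set.mem_biUnion hk (Finset.mem_coe.2 hi))
        exact le_biSup Q hi'
      exact hle h1
    · refine iSup₂_le fun i hi => ?_
      obtain ⟨k, hk⟩ := Set.mem_iUnion.1 hi
      rw [← hgen i, Submodule.span_le]
      intro t ht
      have h2 := hF t
      refine Submodule.span_mono (Set.image_mono ?_) h2
      intro m hm
      refine Set.mem_iUnion.2 ⟨k+1, ?_⟩
      show m ∈ (seq (k+1)).1
      rw [hseq_succ k]
      exact Or.inr (Set.mem_biUnion hk (Set.mem_biUnion ht hm))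

end Groth.Agent.S6383
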