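import Groth.Statements.S0585
import Mathlib
import Groth.Agent.S0584
import Groth.Agent.S0586
import Groth.Agent.S6383
import Groth.Agent.Lib.Helper25.FlatMLProj
import Groth.Agent.Lib.Helper25.Kaplansky
import Groth.Agent.Lib.Helper17.FlatMixed
open scoped TensorProduct

set_option autoImplicit false
universe u
open CAlg

namespace Groth.Agent.S0585


open Groth.Agent.Lib.Helper25

section prelim

variable (R S M : Type u) [CommRing R] [CommRing S] [Algebra R S] [AddCommGroup M] [Module R M]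

/-- the `S`-submodule of `S ⊗ M` generated by `1 ⊗ A` -/
def E (A : Submodule R M) : Submodule S (S ⊗[R] M) :=
  Submodule.span S ((TensorProduct.mk R S M 1) '' (A : Set M))

theorem E_span (X : Set M) :
    E R S M (Submodule.span R X) = Submodule.span S ((TensorProduct.mk R S M 1) '' X) := by
  apply le_antisymm
  · unfold E
    rw [Submodule.span_le]
    rintro _ ⟨m, hm, rfl⟩
    refine Submodule.span_induction
      (p := fun m _ => TensorProduct.mk R S M 1 m ∈
        Submodule.span S ((TensorProduct.mk R S M 1) '' X)) ?_ ?_ ?_ ?_ hm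
    · intro x hx; exact Submodule.subset_span ⟨x, hx, rfl⟩
    · simp
    · intro x y _ _ hx hy; rw [map_add]; exact Submodule.add_mem _ hx hy
    · intro r x _ hx
      rw [map_smul]
      exact Submodule.smul_of_tower_mem _ r hx
  · exact Submodule.span_mono (Set.image_mono Submodule.subset_span)

theorem E_iSup {κ : Type*} (A : κ → Submodule R M) :
    E R S M (⨆ k, A k) = ⨆ k, E R S M (A k) := by
  rw [Submodule.iSup_eq_span, E_span, Set.image_iUnion, Submodule.span_iUnion]
  rfl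

theorem E_sup (A B : Submodule R M) : E R S M (A ⊔ B) = E R S M A ⊔ E R S M B := by
  have h1 : A ⊔ B = Submodule.span R ((A : Set M) ∪ (B : Set M)) := by
    rw [Submodule.span_union, Submodule.span_eq, Submodule.span_eq]
  rw [h1, E_span, Set.image_union, Submodule.span_union]
  rfl

theorem E_bot : E R S M ⊥ = ⊥ := by
  have h1 : (⊥ : Submodule R M) = Submodule.span R ∅ := Submodule.span_empty.symm
  rw [h1, E_span, Set.image_empty, Submodule.span_empty]

theorem range_baseChange (A : Submodule R M) :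
    LinearMap.range ((A.subtype).baseChange S) = E R S M A := by
  apply le_antisymm
  · rintro _ ⟨z, rfl⟩
    induction z using TensorProduct.induction_on with
    | zero => simp
    | tmul s a =>
      rw [LinearMap.baseChange_tmul]
      have h : s ⊗ₜ[R] (A.subtype a) = s • (TensorProduct.mk R S M 1 a.1) := by
        rw [TensorProduct.mk_apply, TensorProduct.smul_tmul', smul_eq_mul, mul_one]; rfl
      rw [h]
      exact Submodule.smul_mem _ _ (Submodule.subset_span ⟨a.1, a.2, rfl⟩)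
    | add x y hx hy => rw [map_add]; exact Submodule.add_mem _ hx hy
  · unfold E
    rw [Submodule.span_le]
    rintro _ ⟨a, ha, rfl⟩
    exact ⟨(1 : S) ⊗ₜ[R] (⟨a, ha⟩ : A), by rw [LinearMap.baseChange_tmul]; rfl⟩

theorem KL [Module.FaithfullyFlat R S] (P : Type u) [AddCommGroup P] [Module R P]
    (hc : CAlg.IsCountablyGenerated R P) [Module.Projective S (S ⊗[R] P)] :
    Module.Projective R P := by
  haveI : Module.Flat R P := by
    haveI : Module.Flat R (S ⊗[R] P) := Module.Flat.trans R S (S ⊗[R] P)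
    exact Groth.Agent.Lib.Helper17.FlatMixed.flat_of_flat_tensor (R := R) (A := R) (B := S)
      (M := P) inferInstance
  have hML : CAlg.IsMittagLeffler R P := by
    apply Groth.Agent.S0586.result R S P
    exact ((Groth.Agent.S0584.result S (TensorProduct R S P)).1 inferInstance).2.1
  exact FlatMLProj.projective_of_flat_ml_countable R hML hc

theorem projective_quotient_baseChange [Module.Flat R S] (A B : Submodule R M) (hAB : A ≤ B)
    [Module.Projective S (S ⊗[R] M)] (ε π' : (S ⊗[R] M) →ₗ[S] (S ⊗[R] M))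
    (ha : ∀ t ∈ E R S M A, ε t = 0) (hb' : ∀ t, π' t ∈ E R S M B)
    (hb'' : ∀ t ∈ E R S M B, π' t = t)
    (hb : ∀ t ∈ E R S M B, ε t ∈ E R S M B) (hc : ∀ t ∈ E R S M B, t - ε t ∈ E R S M A) :
    Module.Projective S (S ⊗[R] (↥B ⧸ Submodule.comap B.subtype A)) := by
  set A' : Submodule R ↥B := Submodule.comap B.subtype A with hA'
  let φ : S ⊗[R] ↥B →ₗ[S] S ⊗[R] M := (B.subtype).baseChange S
  let q : S ⊗[R] ↥B →ₗ[S] S ⊗[R] (↥B ⧸ A') := (A'.mkQ).baseChange S
  let α : S ⊗[R] ↥A' →ₗ[S] S ⊗[R] ↥B := (A'.subtype).baseChange S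
  have hφinj : Function.Injective φ :=
    Module.Flat.lTensor_preserves_injective_linearMap (M := S) B.subtype B.injective_subtype
  have hqsurj : Function.Surjective q := LinearMap.lTensor_surjective S A'.mkQ_surjective
  have hexact : Function.Exact α q :=
    lTensor_exact S (LinearMap.exact_subtype_mkQ A') A'.mkQ_surjective
  have hφα : ∀ z, φ (α z) ∈ E R S M A := by
    intro z
    induction z using TensorProduct.induction_on with
    | zero => simp
    | tmul s a =>
      have h1 : φ (α (s ⊗ₜ[R] a)) = s • (TensorProduct.mk R S M 1 (a.1.1 : M)) := by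
        show s ⊗ₜ[R] (a.1.1 : M) = _
        rw [TensorProduct.mk_apply, TensorProduct.smul_tmul', smul_eq_mul, mul_one]
      rw [h1]
      exact Submodule.smul_mem _ _ (Submodule.subset_span ⟨a.1.1, a.2, rfl⟩)
    | add x y hx hy => rw [map_add, map_add]; exact Submodule.add_mem _ hx hy
  have hEA : ∀ t ∈ E R S M A, ∃ z, φ (α z) = t := by
    have h1 : E R S M A ≤ LinearMap.range (φ ∘ₗ α) := by
      unfold E
      rw [Submodule.span_le]
      rintro _ ⟨a, ha, rfl⟩
      exact ⟨(1 : S) ⊗ₜ[R] (⟨⟨a, hAB ha⟩, ha⟩ : A'), rfl⟩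
    intro t ht
    obtain ⟨z, hz⟩ := h1 ht
    exact ⟨z, hz⟩
  have hker : LinearMap.ker q ≤ LinearMap.ker (ε ∘ₗ φ) := by
    intro y hy
    obtain ⟨z, rfl⟩ := (hexact y).1 (LinearMap.mem_ker.1 hy)
    rw [LinearMap.mem_ker, LinearMap.comp_apply]
    exact ha _ (hφα z)
  let i : S ⊗[R] (↥B ⧸ A') →ₗ[S] S ⊗[R] M :=
    (LinearMap.ker q).liftQ (ε ∘ₗ φ) hker ∘ₗ (q.quotKerEquivOfSurjective hqsurj).symm.toLinearMap
  have hi : ∀ y, i (q y) = ε (φ y) := by
    intro y
    show (LinearMap.ker q).liftQ (ε ∘ₗ φ) hker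
      ((q.quotKerEquivOfSurjective hqsurj).symm (q y)) = _
    rw [LinearMap.quotKerEquivOfSurjective_symm_apply, Submodule.liftQ_apply]
    rfl
  have hrange : LinearMap.range φ = E R S M B := range_baseChange R S M B
  have hπr : ∀ t, π' t ∈ LinearMap.range φ := fun t => by rw [hrange]; exact hb' t
  let eφ := LinearEquiv.ofInjective φ hφinj
  let ψ : S ⊗[R] M →ₗ[S] S ⊗[R] ↥B :=
    eφ.symm.toLinearMap ∘ₗ π'.codRestrict (LinearMap.range φ) hπr
  have hψ : ∀ t, φ (ψ t) = π' t := by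
    intro t
    have h1 := eφ.apply_symm_apply (π'.codRestrict (LinearMap.range φ) hπr t)
    exact congrArg Subtype.val h1
  refine Module.Projective.of_split i (q ∘ₗ ψ) ?_
  apply LinearMap.ext
  intro x
  obtain ⟨y, rfl⟩ := hqsurj x
  rw [LinearMap.comp_apply, hi, LinearMap.comp_apply, LinearMap.id_apply]
  have hφy : φ y ∈ E R S M B := by rw [← hrange]; exact ⟨y, rfl⟩
  have h1 : φ (ψ (ε (φ y))) = ε (φ y) := by rw [hψ, hb'' _ (hb _ hφy)]
  have h2 : φ (y - ψ (ε (φ y))) ∈ E R S M A := by rw [map_sub, h1]; exact hc _ hφy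
  obtain ⟨z, hz⟩ := hEA _ h2
  have h3 : y - ψ (ε (φ y)) = α z := (hφinj hz).symm
  have h4 : q (y - ψ (ε (φ y))) = 0 := by rw [h3]; exact (hexact _).2 ⟨z, rfl⟩
  rw [map_sub, sub_eq_zero] at h4
  exact h4.symm

theorem step [Module.FaithfullyFlat R S] [Module.Projective S (S ⊗[R] M)] {I : Type u}
    (Q : I → Submodule S (S ⊗[R] M)) (hind : iSupIndep Q) (hsup : ⨆ i, Q i = ⊤)
    (hQc : ∀ i, ∃ t : Set (S ⊗[R] M), t.Countable ∧ Submodule.span S t = Q i)
    (A : Submodule R M) (J : Set I) (hAJ : E R S M A = ⨆ i ∈ J, Q i) (x : M) :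
    ∃ (C : Submodule R M) (J₂ : Set I), x ∈ A ⊔ C ∧ Disjoint A C ∧
      Module.Projective R C ∧ E R S M (A ⊔ C) = ⨆ i ∈ J ∪ J₂, Q i := by
  classical
  have hQint : DirectSum.IsInternal Q :=
    DirectSum.isInternal_submodule_of_iSupIndep_of_iSup_eq_top hind hsup
  obtain ⟨N', J', hxN', ⟨s, hsc, hsN'⟩, hEN'⟩ := Groth.Agent.S6383.result R S M Q hQint hQc
    (Submodule.span R {x}) ⟨{x}, Set.countable_singleton x, rfl⟩
  have hcompl : ∀ K : Set I, IsCompl (⨆ i ∈ K, Q i) (⨆ i ∈ Kᶜ, Q i) := fun K =>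
    ⟨hind.disjoint_biSup_biSup disjoint_compl_right, by
      rw [codisjoint_iff, ← iSup_union, Set.union_compl_self, iSup_univ, hsup]⟩
  set B := A ⊔ N' with hB
  have hAB : A ≤ B := le_sup_left
  have hEN'' : E R S M N' = ⨆ i ∈ J', Q i := hEN'
  have hEB : E R S M B = ⨆ i ∈ J ∪ J', Q i := by rw [hB, E_sup, hAJ, hEN'', iSup_union]
  let ε := (⨆ i ∈ Jᶜ, Q i).projection (⨆ i ∈ J, Q i) (hcompl J).symm
  let π' := (⨆ i ∈ J ∪ J', Q i).projection (⨆ i ∈ (J ∪ J')ᶜ, Q i) (hcompl (J ∪ J'))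
  have hεc : ∀ t, t - ε t ∈ ⨆ i ∈ J, Q i := by
    intro t
    show t - (⨆ i ∈ Jᶜ, Q i).projection (⨆ i ∈ J, Q i) (hcompl J).symm t ∈ _
    rw [← Submodule.projection_eq_self_sub_projection (hcompl J).symm t]
    exact Submodule.projection_apply_mem _ t
  haveI : Module.Projective S (S ⊗[R] (↥B ⧸ Submodule.comap B.subtype A)) :=
    projective_quotient_baseChange R S M A B hAB ε π'
      (fun t ht => Submodule.projection_apply_of_mem_right _ (by rw [← hAJ]; exact ht))
      (fun t => by rw [hEB]; exact Submodule.projection_apply_mem _ t)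
      (fun t ht => Submodule.projection_apply_of_mem_left _ (by rw [← hEB]; exact ht))
      (fun t ht => by
        have h1 : ε t = t - (t - ε t) := by abel
        rw [h1]
        refine Submodule.sub_mem _ ht ?_
        rw [hEB]
        exact (biSup_mono Set.subset_union_left : (⨆ i ∈ J, Q i) ≤ ⨆ i ∈ J ∪ J', Q i) (hεc t))
      (fun t _ => by rw [hAJ]; exact hεc t)
  have hPc : CAlg.IsCountablyGenerated R (↥B ⧸ Submodule.comap B.subtype A) := by
    have hN'cg : CAlg.IsCountablyGenerated R ↥N' :=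
      Kaplansky.CG.isCountablyGenerated ⟨s, hsc, hsN'⟩
    refine Kaplansky.isCountablyGenerated_of_surjective
      ((Submodule.comap B.subtype A).mkQ ∘ₗ Submodule.inclusion (le_sup_right : N' ≤ B)) ?_ hN'cg
    intro p
    obtain ⟨b, rfl⟩ := Submodule.mkQ_surjective _ p
    obtain ⟨a, ha, n, hn, hab⟩ := Submodule.mem_sup.1 b.2
    refine ⟨⟨n, hn⟩, ?_⟩
    rw [LinearMap.comp_apply, Submodule.mkQ_apply, Submodule.mkQ_apply, Submodule.Quotient.eq]
    show B.subtype (Submodule.inclusion (le_sup_right : N' ≤ B) ⟨n, hn⟩ - b) ∈ A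
    rw [map_sub]
    have h1 : (B.subtype (Submodule.inclusion (le_sup_right : N' ≤ B) ⟨n, hn⟩) : M)
        - B.subtype b = -a := by
      show n - (b : M) = -a
      rw [← hab]; abel
    rw [h1]; exact A.neg_mem ha
  haveI : Module.Projective R (↥B ⧸ Submodule.comap B.subtype A) := KL R S _ hPc
  obtain ⟨σ, hσ⟩ := Module.projective_lifting_property (Submodule.comap B.subtype A).mkQ
    LinearMap.id (Submodule.mkQ_surjective _)
  have hσ' : ∀ p, (Submodule.comap B.subtype A).mkQ (σ p) = p := fun p => LinearMap.congr_fun hσ p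
  let f : (↥B ⧸ Submodule.comap B.subtype A) →ₗ[R] M := B.subtype ∘ₗ σ
  have hfinj : Function.Injective f :=
    B.injective_subtype.comp (Function.LeftInverse.injective hσ')
  have hsupeq : A ⊔ LinearMap.range f = B := by
    apply le_antisymm
    · refine sup_le hAB ?_
      rintro _ ⟨p, rfl⟩
      exact (σ p).2
    · intro b hb
      have hd : (Submodule.comap B.subtype A).mkQ
          ((⟨b, hb⟩ : B) - σ ((Submodule.comap B.subtype A).mkQ ⟨b, hb⟩)) = 0 := by
        rw [map_sub, hσ', sub_self]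
      rw [Submodule.mkQ_apply, Submodule.Quotient.mk_eq_zero] at hd
      have hd' : b - f ((Submodule.comap B.subtype A).mkQ ⟨b, hb⟩) ∈ A := hd
      have h1 : b = (b - f ((Submodule.comap B.subtype A).mkQ ⟨b, hb⟩))
          + f ((Submodule.comap B.subtype A).mkQ ⟨b, hb⟩) := by abel
      rw [h1]
      exact Submodule.add_mem_sup hd' ⟨_, rfl⟩
  refine ⟨LinearMap.range f, J', ?_, ?_, ?_, ?_⟩
  · rw [hsupeq]
    exact (le_sup_right : N' ≤ B) (hxN' (Submodule.subset_span rfl))
  · rw [Submodule.disjoint_def]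
    rintro c hcA ⟨p, rfl⟩
    have h1 : σ p ∈ Submodule.comap B.subtype A := hcA
    have h2 : (Submodule.comap B.subtype A).mkQ (σ p) = 0 := by
      rw [Submodule.mkQ_apply, Submodule.Quotient.mk_eq_zero]; exact h1
    rw [hσ'] at h2
    rw [h2, map_zero]
  · exact Module.Projective.of_equiv' (LinearEquiv.ofInjective f hfinj)
  · rw [hsupeq, hEB]

theorem zorn_part [Module.FaithfullyFlat R S] [Module.Projective S (S ⊗[R] M)] {I : Type u}
    (Q : I → Submodule S (S ⊗[R] M)) (hind : iSupIndep Q) (hsup : ⨆ i, Q i = ⊤)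
    (hQc : ∀ i, ∃ t : Set (S ⊗[R] M), t.Countable ∧ Submodule.span S t = Q i) :
    ∃ 𝒞 : Set (Submodule R M), (∀ C ∈ 𝒞, Module.Projective R C) ∧ sSupIndep 𝒞 ∧ sSup 𝒞 = ⊤ := by
  classical
  let ZS : Set (Set I × Set (Submodule R M)) :=
    {z | E R S M (sSup z.2) = ⨆ i ∈ z.1, Q i ∧ (∀ C ∈ z.2, Module.Projective R C) ∧
      sSupIndep z.2}
  have h0 : ((∅, ∅) : Set I × Set (Submodule R M)) ∈ ZS := by
    refine ⟨?_, by simp, sSupIndep_empty⟩
    show E R S M (sSup ∅) = ⨆ i ∈ (∅ : Set I), Q i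
    rw [sSup_empty, E_bot]; simp
  have hchain : ∀ c ⊆ ZS, IsChain (· ≤ ·) c → ∀ y ∈ c, ∃ ub ∈ ZS, ∀ z ∈ c, z ≤ ub := by
    intro c hc' hch y hy
    haveI : Nonempty c := ⟨⟨y, hy⟩⟩
    have hdir : ∀ z z' : c, ∃ w : c, z.1 ≤ w.1 ∧ z'.1 ≤ w.1 := by
      intro z z'
      obtain ⟨w, hw, h1, h2⟩ := hch.directedOn z.1 z.2 z'.1 z'.2
      exact ⟨⟨w, hw⟩, h1, h2⟩
    refine ⟨(⋃ z : c, z.1.1, ⋃ z : c, z.1.2), ⟨?_, ?_, ?_⟩, ?_⟩
    · show E R S M (sSup (⋃ z : c, z.1.2)) = ⨆ i ∈ ⋃ z : c, z.1.1, Q i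
      rw [sSup_iUnion, E_iSup, iSup_iUnion]
      exact iSup_congr fun z => (hc' z.2).1
    · intro C hC
      obtain ⟨z, hz⟩ := Set.mem_iUnion.1 hC
      exact (hc' z.2).2.1 C hz
    · show sSupIndep (⋃ z : c, z.1.2)
      rw [← Set.sUnion_range]
      apply iSupIndep_sUnion_of_directed
      · rintro _ ⟨z, rfl⟩ _ ⟨z', rfl⟩
        obtain ⟨w, hw1, hw2⟩ := hdir z z'
        exact ⟨_, ⟨w, rfl⟩, hw1.2, hw2.2⟩
      · rintro _ ⟨z, rfl⟩
        exact (hc' z.2).2.2
    · intro z hz
      exact ⟨Set.subset_iUnion (fun z : c => z.1.1) ⟨z, hz⟩,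
        Set.subset_iUnion (fun z : c => z.1.2) ⟨z, hz⟩⟩
  obtain ⟨⟨J, 𝒞⟩, -, hmax⟩ := zorn_le_nonempty₀ ZS hchain _ h0
  obtain ⟨hE, hCp, hCind⟩ := hmax.prop
  refine ⟨𝒞, hCp, hCind, ?_⟩
  by_contra hne
  obtain ⟨x, hx⟩ : ∃ x, x ∉ sSup 𝒞 := by
    by_contra h
    push Not at h
    exact hne (eq_top_iff.2 fun x _ => h x)
  obtain ⟨C, J₂, hxC, hdisj, hCproj, hEC⟩ := step R S M Q hind hsup hQc (sSup 𝒞) J hE x
  have hnew : ((J ∪ J₂, insert C 𝒞) : Set I × Set (Submodule R M)) ∈ ZS := by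
    refine ⟨?_, ?_, ?_⟩
    · show E R S M (sSup (insert C 𝒞)) = _
      rw [sSup_insert, sup_comm, hEC]
    · intro L hL
      rcases Set.mem_insert_iff.1 hL with rfl | hL
      · exact hCproj
      · exact hCp L hL
    · intro a ha
      rcases Set.mem_insert_iff.1 ha with rfl | ha
      · refine Disjoint.mono_right ?_ hdisj.symm
        apply sSup_le_sSup
        rintro b ⟨hb, hba⟩
        rcases Set.mem_insert_iff.1 hb with rfl | hb
        · exact absurd (Set.mem_singleton _) hba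
        · exact hb
      · have h1 : Disjoint a (sSup (𝒞 \ {a})) := hCind ha
        have h2 : Disjoint (a ⊔ sSup (𝒞 \ {a})) C := by
          refine Disjoint.mono_left ?_ hdisj
          exact sup_le (le_sSup ha) (sSup_le_sSup Set.sdiff_subset)
        have h3 := h1.disjoint_sup_right_of_disjoint_sup_left h2
        refine h3.mono_right ?_
        apply sSup_le
        rintro b ⟨hb, hba⟩
        rcases Set.mem_insert_iff.1 hb with rfl | hb
        · exact le_sup_right
        · exact le_sup_of_le_left (le_sSup ⟨hb, hba⟩)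
  have hle := hmax.le_of_ge hnew ⟨Set.subset_union_left, Set.subset_insert _ _⟩
  have hCmem : C ∈ 𝒞 := hle.2 (Set.mem_insert _ _)
  have hCbot : C = ⊥ := le_bot_iff.1 (hdisj (le_sSup hCmem) le_rfl)
  rw [hCbot, sup_bot_eq] at hxC
  exact hx hxC

end prelim


/-- Let `R → S` be faithfully flat and `M` an `R`-module. If `S ⊗ M` is a projective `S`-module then `M`
is a projective `R`-module. -/
theorem result (R : Type u) [CommRing R] (S : Type u) [CommRing S]
    [Algebra R S] [Module.FaithfullyFlat R S] (M : Type u) [AddCommGroup M] [Module R M]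
    [Module.Projective S (TensorProduct R S M)] : Module.Projective R M := by
  classical
  obtain ⟨I, Q, hQ, hQc0⟩ :=
    ((Groth.Agent.S0584.result S (TensorProduct R S M)).1 inferInstance).2.2
  have hind := hQ.submodule_iSupIndep
  have hsup := hQ.submodule_iSup_eq_top
  have hQc : ∀ i, ∃ t : Set (S ⊗[R] M), t.Countable ∧ Submodule.span S t = Q i :=
    fun i => Kaplansky.CG.of_isCountablyGenerated (hQc0 i)
  obtain ⟨𝒞, hCp, hCind, hCsup⟩ := zorn_part R S M Q hind hsup hQc
  have hind' : iSupIndep (fun k : 𝒞 => k.1) := (sSupIndep_iff 𝒞).1 hCind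
  have hsup' : (⨆ k : 𝒞, k.1) = ⊤ := by rw [← sSup_eq_iSup', hCsup]
  have hint := DirectSum.isInternal_submodule_of_iSupIndep_of_iSup_eq_top hind' hsup'
  let e : (DirectSum 𝒞 fun k => k.1) ≃ₗ[R] M :=
    LinearEquiv.ofBijective (DirectSum.coeLinearMap fun k : 𝒞 => k.1) hint
  have : ∀ k : 𝒞, Module.Projective R k.1 := fun k => hCp k.1 k.2
  have : Module.Projective R (DirectSum 𝒞 fun k => k.1) :=
    (inferInstance : Module.Projective R (Π₀ k : 𝒞, k.1))
  exact Module.Projective.of_equiv' e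

end Groth.Agent.S0585
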