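import Groth.Statements.S1340
import Mathlib
import Groth.Agent.Lib.Helper17.PushIso

set_option autoImplicit false
universe u
open FlatMor

namespace Groth.Agent.S1340

open AlgebraicGeometry CategoryTheory Limits in
theorem integral_app {X S : Scheme.{u}} (f : X ⟶ S) [UniversallyClosed f] [QuasiSeparated f]
    (W : S.Opens) (hW : IsAffineOpen W) : (f.app W).hom.IsIntegral := by
  haveI : IsAffine W.toScheme := hW
  have h1 := isIntegral_appTop_of_universallyClosed (f ∣_ W)
  have h2 : (f ∣_ W).appTop = (f ∣_ W).appLE ⊤ ⊤ (by simp) := by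
    rw [Scheme.Hom.appTop, Scheme.Hom.app_eq_appLE]
    rfl
  rw [h2, morphismRestrict_appLE] at h1
  rw [Scheme.Hom.app_eq_appLE]
  refine (Scheme.Hom.appLE_congr f _ ?_ ?_ (fun φ => φ.hom.IsIntegral)).mp h1
  · simp
  · simp

open AlgebraicGeometry CategoryTheory Limits in
/-- Stein factorization, universally closed case: let f : X ⟶ S be universally closed and
quasi-separated, and let X ⟶ X' ⟶ S be its factorization through the normalization X' of S in X.
Then the canonical morphism X ⟶ X' identifies the structure sheaf of X' with the pushforward of the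
structure sheaf of X: for every open U of X' the induced map from O_{X'}(U) to the sections of O_X
over the inverse image of U is an isomorphism. (That X ⟶ X' is surjective and universally closed and
that X' ⟶ S is integral are separate facts not restated here.) -/
theorem result {X S : Scheme.{u}} (f : X ⟶ S) [UniversallyClosed f] [QuasiSeparated f]
    (U : f.normalization.Opens) : IsIso (f.toNormalization.app U) := by
  refine Groth.Agent.Lib.Helper17.PushIso.isIso_app_of_cover f.toNormalization
    {V | ∃ W : S.affineOpens, V = f.fromNormalization ⁻¹ᵁ W.1} ?_ ?_ ?_ U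
  · rintro V ⟨W, rfl⟩
    exact W.2.preimage f.fromNormalization
  · intro y
    obtain ⟨W, hW, hy, -⟩ := TopologicalSpace.Opens.isBasis_iff_nbhd.mp S.isBasis_affineOpens
      (U := ⊤) (x := f.fromNormalization y) trivial
    exact ⟨f.fromNormalization ⁻¹ᵁ W, ⟨⟨W, hW⟩, rfl⟩, hy⟩
  · rintro V ⟨W, rfl⟩
    letI := (f.app W.1).hom.toAlgebra
    rw [f.toNormalization_app_preimage W]
    have htop : integralClosure Γ(S, W.1) Γ(X, f ⁻¹ᵁ W.1) = ⊤ := by
      rw [integralClosure_eq_top_iff, ← algebraMap_isIntegral_iff, RingHom.algebraMap_toAlgebra]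
      exact integral_app f W.1 W.2
    have hmid : IsIso (CommRingCat.ofHom
        (integralClosure Γ(S, W.1) Γ(X, f ⁻¹ᵁ W.1)).val.toRingHom) := by
      rw [htop]
      exact inferInstanceAs (IsIso (Subalgebra.topEquiv
        (R := Γ(S, W.1)) (A := ↑Γ(X, f ⁻¹ᵁ W.1))).toCommRingCatIso.hom)
    exact @IsIso.comp_isIso _ _ _ _ _ _ _ inferInstance
      (@IsIso.comp_isIso _ _ _ _ _ _ _ hmid inferInstance)

end Groth.Agent.S1340
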