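import Groth.Statements.S17153
import Mathlib
import Groth.Agent.Lib.Helper25.IsocStd
open Groth.Agent.Lib.Helper25.Isoc

set_option autoImplicit false
universe u
open Isoc

namespace Groth.Agent.S17153

/-- Let k be a perfect field of characteristic p, W = W(k), L its fraction field, a ∈ ℤ, and λ = d/h
with h > 0 and gcd(d, h) = 1. The standard σ^a-F-isocrystal N_λ of slope λ — the space L^h with the
σ^a-semilinear F determined by F e_i = e_{i+1} (i + 1 < h) and F e_{h−1} = p^d · e_0 — is a simple
isocrystal: an L-subspace of L^h carried into itself by F is either 0 or everything. (The source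
introduces N_λ for a ≠ 0 only; the simplicity argument, via sub-isocrystals of an isoclinic
isocrystal having the same slope, does not use that restriction, and the statement is made for all
a.) -/
theorem result (p : ℕ) [Fact p.Prime] (k : Type u) [Field k] [CharP k p] [PerfectRing k p]
    (a : ℤ) (d : ℤ) (h : ℕ) (hh : 0 < h) (hdh : Int.gcd d h = 1)
    (P : Submodule (FractionRing (WittVector p k)) (Fin h → (FractionRing (WittVector p k))))
    (hP : ∀ x ∈ P, Isoc.stdIsoc (Isoc.frob p k a) d h x ∈ P) : P = ⊥ ∨ P = ⊤ := by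
  classical
  obtain ⟨n, rfl⟩ : ∃ n, h = n + 1 := ⟨h - 1, by omega⟩
  have hτ : Good (Isoc.frob p k a) := good_frob a
  haveI := frob_ringHomSurjective p k a
  obtain ⟨F, hFdef⟩ : ∃ F, F = Isoc.stdIsoc (Isoc.frob p k a) d (n + 1) := ⟨_, rfl⟩
  rw [← hFdef] at hP
  have hF : Isoc.IsIsoc F :=
    ⟨inferInstance, by rw [hFdef]; exact stdIsoc_bijective _ d n (frob_surjective p k a)⟩
  by_cases hP0 : P = ⊥
  · exact Or.inl hP0
  right
  have hback : ∀ x, (⇑F)^[n + 1] x ∈ P → x ∈ P := fun x hx =>
    mem_of_iterate_mem F hF.bijective.injective P hP (n + 1) hx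
  have hlat : Isoc.latImg (F.restrict hP) (n + 1) (resL P (stdLattice (n + 1))) =
      Isoc.pPow d (resL P (stdLattice (n + 1))) := by
    rw [← resL_latImg F hτ hP (n + 1) hback, hFdef, stdIsoc_latImg _ d n hτ, resL_pPow]
  have hM' : (resL P (stdLattice (p := p) (k := k) (n + 1))).IsLattice
      (FractionRing (WittVector p k)) := resL_isLattice (stdLattice_isLattice (n + 1))
  obtain ⟨h', hh'⟩ : ∃ h', Module.finrank (FractionRing (WittVector p k)) P = h' := ⟨_, rfl⟩
  let b' : Module.Basis (Fin h') (FractionRing (WittVector p k)) P :=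
    (Module.finBasis (FractionRing (WittVector p k)) P).reindex (finCongr hh')
  obtain ⟨e, he⟩ := exists_latticeBasis b' hM'
  have h3 := isOrdP_det_of_img_eq he (Isoc.iter (F.restrict hP) (n + 1)) (hτ.pow (n + 1))
    (r := d) hlat
  have hne : (smat e (F.restrict hP)).det ≠ 0 := by
    have h4 := isOrdP_ne_zero h3
    rw [det_smat_comp e (F.restrict hP) (Isoc.iter (F.restrict hP) n)
      (Isoc.iter (F.restrict hP) (n + 1)) (fun x => by
        rw [Isoc.iter_apply, Isoc.iter_apply, Function.iterate_succ_apply'])] at h4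
    exact left_ne_zero_of_mul h4
  obtain ⟨d', hd'⟩ := exists_isOrdP hne
  have h5 := isOrdP_det_iter e (F.restrict hP) hτ hd' (n + 1)
  have h6 : d * h' = ((n + 1 : ℕ) : ℤ) * d' := isOrdP_unique h3 h5
  have h7 : ((n + 1 : ℕ) : ℤ) ∣ (h' : ℤ) := by
    have h8 : ((n + 1 : ℕ) : ℤ) ∣ d * h' := ⟨d', h6⟩
    exact Int.dvd_of_dvd_mul_right_of_gcd_one (by rwa [mul_comm] at h8)
      (by rw [Int.gcd_comm]; exact hdh)
  have h9 : 0 < h' := by
    rw [← hh']
    apply Nat.pos_of_ne_zero
    intro h0
    exact hP0 (Submodule.finrank_eq_zero.1 h0)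
  have h10 : n + 1 ≤ h' := Nat.le_of_dvd h9 (Int.natCast_dvd_natCast.1 h7)
  apply Submodule.eq_top_of_finrank_eq
  rw [hh', Module.finrank_fin_fun]
  apply le_antisymm
  · have := Submodule.finrank_le P
    rw [hh', Module.finrank_fin_fun] at this
    exact this
  · exact h10

end Groth.Agent.S17153
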