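import Groth.Statements.S17141
import Mathlib
import Groth.Agent.Lib.Helper25.IsocLib
open Groth.Agent.Lib.Helper25.Isoc

set_option autoImplicit false
universe u v
open Isoc

namespace Groth.Agent.S17141

/-- Let k be a perfect field of characteristic p, a ∈ ℤ, W = W(k) with fraction field L, and (N, F) a
σ^a-F-isocrystal over k (N finite-dimensional over L, F a bijective σ^a-semilinear endomorphism),
with N ≠ 0, and let M be any W-lattice in N. Then for every n ≥ 1 the order ord_M(F^n) (the largest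
r with F^n(M) ⊆ p^r M) is defined, say o(n), and the limit of o(n)/n as n → ∞ exists in ℝ. -/
theorem result (p : ℕ) [Fact p.Prime] (k : Type u) [Field k] [CharP k p] [PerfectRing k p] (a : ℤ)
    (N : Type v) [AddCommGroup N] [Module (WittVector p k) N] [Module (FractionRing (WittVector p k)) N]
    [IsScalarTower (WittVector p k) (FractionRing (WittVector p k)) N]
    [Nontrivial N] (F : N →ₛₗ[Isoc.frob p k a] N) (hF : Isoc.IsIsoc F)
    (M : Submodule (WittVector p k) N) (hM : M.IsLattice (FractionRing (WittVector p k))) :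
    ∃ o : ℕ → ℤ, (∀ n : ℕ, 1 ≤ n → Isoc.IsOrd M F n (o n)) ∧
      ∃ lam : ℝ, Filter.Tendsto (fun n : ℕ => (o n : ℝ) / n) Filter.atTop (nhds lam) := by
  classical
  have hτ := good_frob (p := p) (k := k) a
  have hM0 : M ≠ ⊥ := ne_bot_of_isLattice hM
  have hsurj : Function.Surjective F := hF.bijective.2
  have hex : ∀ n : ℕ, ∃ r : ℤ, Isoc.IsOrd M F n r := fun n =>
    exists_isOrd F hτ hsurj hM hM0 n
  choose o ho using hex
  refine ⟨o, fun n _ => ho n, ?_⟩
  have hadd : ∀ m n, o m + o n ≤ o (m + n) := fun m n =>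
    isOrd_add_le hτ (ho m) (ho n) (ho (m + n))
  obtain ⟨c, hc⟩ := exists_pPow_le hM.fg (latImg_isLattice F hτ hsurj 1 hM).span_eq_top
  have hub : ∀ n : ℕ, o n ≤ (c : ℤ) * n := fun n => by
    have h1 := pPow_mul_le_latImg F hτ hc n
    exact le_of_pPow_le_pPow hM.fg hM0 (h1.trans (ho n).1)
  let u : ℕ → ℝ := fun n => -(o n : ℝ)
  have hsub : Subadditive u := fun m n => by
    show -((o (m + n) : ℤ) : ℝ) ≤ -(o m : ℝ) + -(o n : ℝ)
    have h2 : ((o m + o n : ℤ) : ℝ) ≤ (o (m + n) : ℝ) := by exact_mod_cast hadd m n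
    push_cast at h2
    linarith
  have hbdd : BddBelow (Set.range fun n => u n / n) := by
    refine ⟨-(c : ℝ), ?_⟩
    rintro _ ⟨n, rfl⟩
    show -(c : ℝ) ≤ -(o n : ℝ) / n
    rcases Nat.eq_zero_or_pos n with rfl | hn
    · simp
    · have hn' : (0 : ℝ) < n := by exact_mod_cast hn
      rw [le_div_iff₀ hn']
      have h2 : ((o n : ℤ) : ℝ) ≤ (((c : ℤ) * n : ℤ) : ℝ) := by exact_mod_cast hub n
      push_cast at h2
      linarith
  refine ⟨-hsub.lim, ?_⟩
  have h3 := (hsub.tendsto_lim hbdd).neg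
  refine h3.congr (fun n => ?_)
  show -(u n / n) = (o n : ℝ) / n
  simp only [u]
  ring

end Groth.Agent.S17141
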