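import Groth.Statements.S17142
import Mathlib
import Groth.Agent.Lib.Helper25.IsocLib
open Groth.Agent.Lib.Helper25.Isoc

set_option autoImplicit false
universe u v
open Isoc

namespace Groth.Agent.S17142

/-- Let k be a perfect field of characteristic p, a ∈ ℤ, W = W(k) with fraction field L, and (N, F) a
σ^a-F-isocrystal over k (N finite-dimensional over L, F a bijective σ^a-semilinear endomorphism).
Let M₁, M₂ be W-lattices in N and let o₁(n) = ord_{M₁}(F^n), o₂(n) = ord_{M₂}(F^n) for n ≥ 1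
(largest r with F^n(M_i) ⊆ p^r M_i). If o₁(n)/n → lam₁ and o₂(n)/n → lam₂ then lam₁ = lam₂; so the
limit defining the first Newton slope is independent of the chosen lattice. -/
theorem result (p : ℕ) [Fact p.Prime] (k : Type u) [Field k] [CharP k p] [PerfectRing k p] (a : ℤ)
    (N : Type v) [AddCommGroup N] [Module (WittVector p k) N] [Module (FractionRing (WittVector p k)) N]
    [IsScalarTower (WittVector p k) (FractionRing (WittVector p k)) N]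
    (F : N →ₛₗ[Isoc.frob p k a] N) (hF : Isoc.IsIsoc F)
    (M₁ M₂ : Submodule (WittVector p k) N) (hM₁ : M₁.IsLattice (FractionRing (WittVector p k))) (hM₂ : M₂.IsLattice (FractionRing (WittVector p k)))
    (o₁ o₂ : ℕ → ℤ) (ho₁ : ∀ n : ℕ, 1 ≤ n → Isoc.IsOrd M₁ F n (o₁ n))
    (ho₂ : ∀ n : ℕ, 1 ≤ n → Isoc.IsOrd M₂ F n (o₂ n)) (lam₁ lam₂ : ℝ)
    (h₁ : Filter.Tendsto (fun n : ℕ => (o₁ n : ℝ) / n) Filter.atTop (nhds lam₁))
    (h₂ : Filter.Tendsto (fun n : ℕ => (o₂ n : ℝ) / n) Filter.atTop (nhds lam₂)) :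
    lam₁ = lam₂ := by
  have hτ := good_frob (p := p) (k := k) a
  have hsurj : Function.Surjective F := hF.bijective.2
  have key : ∀ (M₁ M₂ : Submodule (WittVector p k) N) (c c' : ℕ)
      (hc : Isoc.pPow (c : ℤ) M₁ ≤ M₂) (hc' : Isoc.pPow (c' : ℤ) M₂ ≤ M₁)
      (n : ℕ) (r₁ r₂ : ℤ) (h₁ : Isoc.IsOrd M₁ F n r₁) (h₂ : Isoc.IsOrd M₂ F n r₂),
      r₁ - (c + c') ≤ r₂ := by
    intro M₁ M₂ c c' hc hc' n r₁ r₂ h₁ h₂
    rw [← isOrd_le_iff h₂]
    have h1 : M₂ ≤ Isoc.pPow (-(c' : ℤ)) M₁ := pPow_le_iff.1 hc'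
    calc Isoc.latImg F n M₂ ≤ Isoc.latImg F n (Isoc.pPow (-(c' : ℤ)) M₁) := latImg_mono F n h1
      _ = Isoc.pPow (-(c' : ℤ)) (Isoc.latImg F n M₁) := latImg_pPow F hτ n _ M₁
      _ ≤ Isoc.pPow (-(c' : ℤ)) (Isoc.pPow r₁ M₁) := pPow_mono h₁.1
      _ = Isoc.pPow (r₁ - (c + c')) (Isoc.pPow (c : ℤ) M₁) := by
          rw [← pPow_add, ← pPow_add]; congr 1; ring
      _ ≤ Isoc.pPow (r₁ - (c + c')) M₂ := pPow_mono hc
  obtain ⟨c, hc⟩ := exists_pPow_le hM₁.fg hM₂.span_eq_top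
  obtain ⟨c', hc'⟩ := exists_pPow_le hM₂.fg hM₁.span_eq_top
  have h3 : Filter.Tendsto (fun n : ℕ => ((o₁ n : ℝ) - (o₂ n : ℝ)) / n) Filter.atTop
      (nhds (lam₁ - lam₂)) := by
    have := h₁.sub h₂
    refine this.congr (fun n => ?_)
    rw [sub_div]
  have h4 : Filter.Tendsto (fun n : ℕ => ((o₁ n : ℝ) - (o₂ n : ℝ)) / n) Filter.atTop (nhds 0) := by
    apply squeeze_zero_norm' (a := fun n : ℕ => (((c + c' : ℕ)) : ℝ) / n)
    · filter_upwards [Filter.eventually_ge_atTop 1] with n hn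
      have k₁ := key M₁ M₂ c c' hc hc' n _ _ (ho₁ n hn) (ho₂ n hn)
      have k₂ := key M₂ M₁ c' c hc' hc n _ _ (ho₂ n hn) (ho₁ n hn)
      have hn' : (0 : ℝ) < n := by exact_mod_cast hn
      rw [Real.norm_eq_abs, abs_div, abs_of_pos hn']
      apply div_le_div_of_nonneg_right _ hn'.le
      rw [abs_le]
      have e₁ : ((o₁ n - ((c : ℤ) + c') : ℤ) : ℝ) ≤ (o₂ n : ℝ) := by exact_mod_cast k₁
      have e₂ : ((o₂ n - ((c' : ℤ) + c) : ℤ) : ℝ) ≤ (o₁ n : ℝ) := by exact_mod_cast k₂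
      push_cast at e₁ e₂ ⊢
      constructor <;> linarith
    · exact tendsto_const_div_atTop_nhds_zero_nat _
  exact sub_eq_zero.1 (tendsto_nhds_unique h3 h4)

end Groth.Agent.S17142
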