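import Groth.Statements.S17152
import Mathlib
import Groth.Agent.Lib.Helper25.IsocIndep
import Groth.Agent.S17141
import Groth.Agent.S17142
open Groth.Agent.Lib.Helper25.Isoc

set_option autoImplicit false
universe u v
open Isoc

namespace Groth.Agent.S17152

/-- Let k be a perfect field of characteristic p, a ∈ ℤ, W = W(k) with fraction field L, and (N, F) a
σ^a-F-isocrystal over k (N finite-dimensional over L, F a bijective σ^a-semilinear endomorphism).
For μ ∈ ℚ let N_μ be the slope-μ part of N (the sum of all F-stable L-subspaces that are isoclinic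
of slope μ, which is the maximal such sub-isocrystal). Then N is the internal direct sum of the N_μ
over μ ∈ ℚ; together with the F-stability of each N_μ this is the slope decomposition (N, F) = ⊕_μ
(N_μ, F). -/
theorem result (p : ℕ) [Fact p.Prime] (k : Type u) [Field k] [CharP k p] [PerfectRing k p] (a : ℤ)
    (N : Type v) [AddCommGroup N] [Module (WittVector p k) N] [Module (FractionRing (WittVector p k)) N]
    [IsScalarTower (WittVector p k) (FractionRing (WittVector p k)) N]
    (F : N →ₛₗ[Isoc.frob p k a] N) (hF : Isoc.IsIsoc F) :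
    DirectSum.IsInternal (fun μ : ℚ => Isoc.slopePart F μ) := by
  have hτ : Good (Isoc.frob p k a) := good_frob a
  haveI := frob_ringHomSurjective p k a
  haveI := hF.finite
  rw [DirectSum.isInternal_submodule_iff_iSupIndep_and_iSup_eq_top]
  refine ⟨iSupIndep_slopePart F hτ hF.bijective.injective, ?_⟩
  rw [eq_top_iff]
  have hdata : ∀ (P : Submodule (FractionRing (WittVector p k)) N) (hP : ∀ x ∈ P, F x ∈ P),
      P ≠ ⊥ → ∃ (r : ℤ) (s : ℕ) (M : Submodule (WittVector p k) ↥P), 0 < s ∧
        M.IsLattice (FractionRing (WittVector p k)) ∧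
        Isoc.latImg (F.restrict hP) s M ≤ Isoc.pPow r M ∧
        ∀ n : ℕ, 1 ≤ n → ¬ Isoc.latImg (F.restrict hP) (s * n) M ≤ Isoc.pPow (r * n + 1) M := by
    intro P hP hP0
    have hbij := restrict_bijective F hF.bijective.injective hP
    have hIsoc : Isoc.IsIsoc (F.restrict hP) := ⟨inferInstance, hbij⟩
    haveI : Nontrivial ↥P := Submodule.nontrivial_iff_ne_bot.2 hP0
    obtain ⟨M₀, hM₀⟩ := exists_lattice (p := p) (k := k) (N := ↥P)
    obtain ⟨o, ho, lam, hlim⟩ :=
      Groth.Agent.S17141.result p k a ↥P (F.restrict hP) hIsoc M₀ hM₀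
    have hlam : Isoc.IsFirstSlope (F.restrict hP) lam := ⟨M₀, hM₀, o, ho, hlim⟩
    have hindep : ∀ M : Submodule (WittVector p k) ↥P,
        M.IsLattice (FractionRing (WittVector p k)) →
        ∃ o' : ℕ → ℤ, (∀ n, 1 ≤ n → Isoc.IsOrd M (F.restrict hP) n (o' n)) ∧
          Filter.Tendsto (fun n : ℕ => (o' n : ℝ) / n) Filter.atTop (nhds lam) := by
      intro M hM
      obtain ⟨o', ho', lam', hlim'⟩ :=
        Groth.Agent.S17141.result p k a ↥P (F.restrict hP) hIsoc M hM
      have hEq : lam' = lam :=
        Groth.Agent.S17142.result p k a ↥P (F.restrict hP) hIsoc M M₀ hM hM₀ o' o ho' ho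
          lam' lam hlim' hlim
      rw [hEq] at hlim'
      exact ⟨o', ho', hlim'⟩
    have hh : 0 < Module.finrank (FractionRing (WittVector p k)) ↥P := Module.finrank_pos
    obtain ⟨r, s, M, hs, _, _, hM, hFM, hnQ⟩ :=
      rational_slope_core' (F.restrict hP) hτ hbij.surjective hh
        (Module.finBasis (FractionRing (WittVector p k)) ↥P) hlam hindep
    exact ⟨r, s, M, hs, hM, hFM, hnQ⟩
  exact le_iSup_slopePart F hτ hF.bijective.injective hdata _ ⊤ (fun x _ => trivial) rfl

end Groth.Agent.S17152
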