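import Groth.Statements.S18526
import Mathlib
import Groth.Agent.Lib.Helper25.ParShB
set_option linter.style.haveILetI false

set_option autoImplicit false
universe u
open CategoryTheory CategoryTheory.Limits AlgebraicGeometry Polynomial
open ParSh

namespace Groth.Agent.S18526

/-- Let X be a scheme proper over a field k with an ample invertible sheaf L, and E a coherent
O_X-module with a finite weighted filtration 𝓔 by coherent sub-modules E = E₀ ⊇ E₁ ⊇ ⋯ ⊇ E_l ⊇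
E_{l+1} = B, B coherent, with weights 0 ≤ w₀ < ⋯ < w_l < 1 and w_{l+1} := 1. Let P be the Hilbert
polynomial of E with respect to L and, for 1 ≤ j ≤ l+1, H_j the Hilbert polynomial of the quotient
E/E_j. Then for every natural number m the parabolic Hilbert function χ(B(m)) + Σ_{j ≤ l} w_j
(χ(E_j(m)) − χ(E_{j+1}(m))) equals P(m) − Σ_{j=1}^{l+1} (w_j − w_{j−1}) H_j(m). The published
statement is for a parabolic sheaf along effective Cartier divisors on a projective scheme over an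
algebraically closed field (B = E(−D)), averaged over several divisors; the identity holds for each
weighted filtration separately. -/
theorem result (k : Type u) [Field k] (X : Scheme.{u})
    [X.Over (Spec (CommRingCat.of k))] [IsProper (X ↘ Spec (CommRingCat.of k))]
    (L : X.Modules) (hL : CohB1.IsAmple L) (E : X.Modules) (hE : Coh.IsCoh E) (𝓔 : ParSh.Str E)
    (hcoh : ∀ j, Coh.IsCoh ((𝓔.pieceX j : Subobject E) : X.Modules))
    (P : ℚ[X]) (hP : ShStab.IsHilbPoly k X L E P) (H : Fin (𝓔.l + 2) → ℚ[X])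
    (hH : ∀ j, ShStab.IsHilbPoly k X L (cokernel (𝓔.pieceX j).arrow) (H j)) (m : ℕ) :
    𝓔.parHilb k X L m =
      ((P.eval (m : ℚ) : ℚ) : ℝ) -
        ∑ j : Fin (𝓔.l + 1), (𝓔.wtX j.succ - 𝓔.wtX j.castSucc) * (((H j.succ).eval (m : ℚ) : ℚ) : ℝ) := by
  obtain ⟨f, hf⟩ : ∃ f : X.Modules → ℝ, ∀ G' : X.Modules,
      f G' = (Curv2.euler k X (ShStab.twist X L G' m) : ℝ) := ⟨_, fun _ => rfl⟩
  obtain ⟨a, ha⟩ : ∃ a : Fin (𝓔.l + 2) → ℝ, ∀ j, a j = (((H j).eval (m : ℚ) : ℚ) : ℝ) :=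
    ⟨_, fun _ => rfl⟩
  obtain ⟨Pm, hPm⟩ : ∃ Pm : ℝ, Pm = ((P.eval (m : ℚ) : ℚ) : ℝ) := ⟨_, rfl⟩
  have hχ : ∀ j : Fin (𝓔.l + 2), f ((𝓔.pieceX j : Subobject E) : X.Modules) = Pm - a j := by
    intro j
    have hSj : (ShortComplex.mk (𝓔.pieceX j).arrow (cokernel.π (𝓔.pieceX j).arrow)
        (cokernel.condition _)).ShortExact :=
      ShortComplex.ShortExact.mk' (ShortComplex.exact_cokernel _) (by dsimp; infer_instance)
        (by dsimp; infer_instance)
    have hcok : Coh.IsCoh (cokernel (𝓔.pieceX j).arrow) :=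
      Groth.Agent.Lib.Helper17.DevBasic.isCoh_cokernel _ (hcoh j).1 hE
    have h1 := Groth.Agent.Lib.Helper23.HilbP.euler_twist_add k X hL.1 _ hSj (hcoh j) hE hcok m
    dsimp at h1
    have h2 := hP m
    have h3 := hH j m
    rw [hf, hPm, ha, ← h2, ← h3, h1]
    push_cast
    ring
  have ha0 : a 0 = 0 := by
    have h0 : 𝓔.pieceX 0 = ⊤ := by
      have : (0 : Fin (𝓔.l + 2)) = Fin.castSucc 0 := rfl
      rw [this, ParSh.Str.pieceX_castSucc, 𝓔.piece_zero]
    have hz : IsZero (cokernel (𝓔.pieceX 0).arrow) := by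
      rw [h0]
      exact isZero_cokernel_of_epi _
    have h4 := Groth.Agent.Lib.Helper23.HilbP.isHilbPoly_unique k (hH 0)
      (Groth.Agent.Lib.Helper23.HilbP.isHilbPoly_zero k hz)
    rw [ha, h4]
    simp
  have hfun : (fun G' : X.Modules => (Curv2.euler k X (ShStab.twist X L G' m) : ℝ)) = f :=
    funext fun G' => (hf G').symm
  unfold ParSh.Str.parHilb
  rw [hfun, Groth.Agent.Lib.Helper25.ParShA.parSum_eq]
  simp only [hχ, ← ha, ← hPm]
  obtain ⟨g, hg⟩ : ∃ g : Fin (𝓔.l + 2) → ℝ, ∀ i, g i = 𝓔.wtX i * a i := ⟨_, fun _ => rfl⟩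
  have hg1 : ∑ i, g i = g 0 + ∑ j : Fin (𝓔.l + 1), g j.succ := Fin.sum_univ_succ g
  have hg2 : ∑ i, g i = ∑ j : Fin (𝓔.l + 1), g j.castSucc + g (Fin.last _) :=
    Fin.sum_univ_castSucc g
  have hg0 : g 0 = 0 := by rw [hg, ha0, mul_zero]
  have hgl : g (Fin.last (𝓔.l + 1)) = a (Fin.last (𝓔.l + 1)) := by
    rw [hg, ParSh.Str.wtX_last, one_mul]
  have hL1 : ∑ j : Fin (𝓔.l + 1), 𝓔.wt j * ((Pm - a j.castSucc) - (Pm - a j.succ)) =
      ∑ j : Fin (𝓔.l + 1), 𝓔.wt j * a j.succ - ∑ j : Fin (𝓔.l + 1), g j.castSucc := by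
    rw [← Finset.sum_sub_distrib]
    refine Finset.sum_congr rfl (fun j _ => ?_)
    rw [hg, ParSh.Str.wtX_castSucc]
    ring
  have hR1 : ∑ j : Fin (𝓔.l + 1), (𝓔.wtX j.succ - 𝓔.wtX j.castSucc) * a j.succ =
      ∑ j : Fin (𝓔.l + 1), g j.succ - ∑ j : Fin (𝓔.l + 1), 𝓔.wt j * a j.succ := by
    rw [← Finset.sum_sub_distrib]
    refine Finset.sum_congr rfl (fun j _ => ?_)
    rw [hg, ParSh.Str.wtX_castSucc]
    ring
  rw [hL1, hR1]
  linarith

end Groth.Agent.S18526
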