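import Groth.Statements.S18524
import Mathlib
import Groth.Agent.Lib.Helper25.ParShB
set_option linter.style.haveILetI false

set_option autoImplicit false
universe u
open CategoryTheory CategoryTheory.Limits AlgebraicGeometry
open ParSh

namespace Groth.Agent.S18524

/-- Let X be a scheme proper over a field k with an ample invertible sheaf L, and 0 → F → E → G → 0 a
short exact sequence of coherent O_X-modules. Let 𝓔 be a finite weighted filtration of E by coherent
sub-modules E = E₀ ⊇ E₁ ⊇ ⋯ ⊇ E_l ⊇ B with B coherent and weights 0 ≤ w₀ < ⋯ < w_l < 1, and give F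
the filtration pulled back along F → E and G the image filtration along E → G, so that the sequence
is a parabolic extension. Then for every natural number m the parabolic Hilbert functions are
additive: par-χ(F, m) + par-χ(G, m) = par-χ(E, m), where par-χ(E, m) = χ(B ⊗ L^m) + Σ_j w_j (χ(E_j ⊗
L^m) − χ(E_{j+1} ⊗ L^m)) with E_{l+1} = B. The published statement is for parabolic sheaves along
effective Cartier divisors D on a projective scheme over an algebraically closed field, with B =
E(−D) and the functions averaged over several divisors; the identity holds for each weighted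
filtration separately, over any field and for any coherent bottom piece. -/
theorem result (k : Type u) [Field k] (X : Scheme.{u})
    [X.Over (Spec (CommRingCat.of k))] [IsProper (X ↘ Spec (CommRingCat.of k))]
    (L : X.Modules) (hL : CohB1.IsAmple L) {F E G : X.Modules}
    (hF : Coh.IsCoh F) (hE : Coh.IsCoh E) (hG : Coh.IsCoh G)
    (i : F ⟶ E) (p : E ⟶ G) [Epi p] (𝓕 : ParSh.Str F) (𝓔 : ParSh.Str E) (𝓖 : ParSh.Str G)
    (hext : ParSh.IsParExt i p 𝓕 𝓔 𝓖)
    (hcoh : ∀ j, Coh.IsCoh ((𝓔.piece j : Subobject E) : X.Modules))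
    (hbot : Coh.IsCoh ((𝓔.bot : Subobject E) : X.Modules)) (m : ℕ) :
    𝓕.parHilb k X L m + 𝓖.parHilb k X L m = 𝓔.parHilb k X L m := by
  obtain ⟨w, hS, rfl, rfl⟩ := hext
  have hcX : ∀ j : Fin (𝓔.l + 2), Coh.IsCoh ((𝓔.pieceX j : Subobject E) : X.Modules) := by
    intro j
    induction j using Fin.lastCases with
    | last => rw [ParSh.Str.pieceX_last]; exact hbot
    | cast j => rw [ParSh.Str.pieceX_castSucc]; exact hcoh j
  obtain ⟨f, hf⟩ : ∃ f : X.Modules → ℝ, ∀ G' : X.Modules,
      f G' = (Curv2.euler k X (ShStab.twist X L G' m) : ℝ) := ⟨_, fun _ => rfl⟩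
  have hterm : ∀ j : Fin (𝓔.l + 2),
      f (((𝓔.induced i).pieceX j : Subobject F) : X.Modules) +
      f (((𝓔.coinduced p).pieceX j : Subobject G) : X.Modules) =
      f ((𝓔.pieceX j : Subobject E) : X.Modules) := by
    intro j
    rw [Groth.Agent.Lib.Helper25.ParShA.pieceX_induced,
      Groth.Agent.Lib.Helper25.ParShA.pieceX_coinduced, hf, hf, hf]
    exact Groth.Agent.Lib.Helper25.ParShB.euler_piece_add k X L hL.1 i p w hS hG
      (𝓔.pieceX j) (hcX j) m
  have e1 : (𝓔.induced i).parSum f =
      f (((𝓔.induced i).pieceX (Fin.last (𝓔.l + 1)) : Subobject F) : X.Modules) +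
      ∑ j : Fin (𝓔.l + 1), 𝓔.wt j *
        (f (((𝓔.induced i).pieceX j.castSucc : Subobject F) : X.Modules) -
          f (((𝓔.induced i).pieceX j.succ : Subobject F) : X.Modules)) :=
    Groth.Agent.Lib.Helper25.ParShA.parSum_eq (𝓔.induced i) f
  have e2 : (𝓔.coinduced p).parSum f =
      f (((𝓔.coinduced p).pieceX (Fin.last (𝓔.l + 1)) : Subobject G) : X.Modules) +
      ∑ j : Fin (𝓔.l + 1), 𝓔.wt j *
        (f (((𝓔.coinduced p).pieceX j.castSucc : Subobject G) : X.Modules) -
          f (((𝓔.coinduced p).pieceX j.succ : Subobject G) : X.Modules)) :=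
    Groth.Agent.Lib.Helper25.ParShA.parSum_eq (𝓔.coinduced p) f
  have e3 := Groth.Agent.Lib.Helper25.ParShA.parSum_eq 𝓔 f
  have hfun : (fun G' : X.Modules => (Curv2.euler k X (ShStab.twist X L G' m) : ℝ)) = f :=
    funext fun G' => (hf G').symm
  unfold ParSh.Str.parHilb
  rw [hfun, e1, e2, e3, ← hterm (Fin.last (𝓔.l + 1))]
  have hsum : ∑ j : Fin (𝓔.l + 1), 𝓔.wt j *
        (f ((𝓔.pieceX j.castSucc : Subobject E) : X.Modules) -
          f ((𝓔.pieceX j.succ : Subobject E) : X.Modules)) =
      (∑ j : Fin (𝓔.l + 1), 𝓔.wt j *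
        (f (((𝓔.induced i).pieceX j.castSucc : Subobject F) : X.Modules) -
          f (((𝓔.induced i).pieceX j.succ : Subobject F) : X.Modules))) +
      (∑ j : Fin (𝓔.l + 1), 𝓔.wt j *
        (f (((𝓔.coinduced p).pieceX j.castSucc : Subobject G) : X.Modules) -
          f (((𝓔.coinduced p).pieceX j.succ : Subobject G) : X.Modules))) := by
    rw [← Finset.sum_add_distrib]
    refine Finset.sum_congr rfl (fun j _ => ?_)
    rw [← hterm j.castSucc, ← hterm j.succ]
    ring
  rw [hsum]
  ring

end Groth.Agent.S18524
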