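import Groth.Statements.S8770
import Mathlib

set_option autoImplicit false
universe u
open PureExt

namespace Groth.Agent.S8770

open TensorProduct

theorem pure_of_LP {R : Type u} [CommRing R] {P M : Type u} [AddCommGroup P] [Module R P]
    [AddCommGroup M] [Module R M] (g : P →ₗ[R] M)
    (LP : ∀ (t s : ℕ) (a : Fin t → Fin s → R) (mb : Fin t → M), (∀ l, ∑ i, a i l • mb i = 0) →
      ∃ m' : Fin t → P, (∀ i, g (m' i) = mb i) ∧ ∀ l, ∑ i, a i l • m' i = 0) :
    CAlgX.UniversallyInjective R (LinearMap.ker g).subtype := by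
  classical
  intro Q _ _
  rw [injective_iff_map_eq_zero]
  intro x hx
  obtain ⟨S, rfl⟩ := TensorProduct.exists_finset x
  let k : S → P := fun i => ((i.1.1 : LinearMap.ker g) : P)
  let q : S → Q := fun i => i.1.2
  have hkg : ∀ i, g (k i) = 0 := fun i => LinearMap.mem_ker.1 i.1.1.2
  have hx' : ∑ i : S, k i ⊗ₜ[R] q i = 0 := by
    rw [map_sum] at hx
    simp only [LinearMap.rTensor_tmul, Submodule.subtype_apply] at hx
    refine Eq.trans ?_ hx
    exact Finset.sum_coe_sort S (fun i => ((i.1 : LinearMap.ker g) : P) ⊗ₜ[R] i.2)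
  let N : Submodule R P := Submodule.span R (Set.range k)
  have hNfg : N.FG := Submodule.fg_span (Set.finite_range k)
  have hkN : ∀ i, k i ∈ N := fun i => Submodule.subset_span ⟨i, rfl⟩
  let x' : N ⊗[R] Q := ∑ i : S, (⟨k i, hkN i⟩ : N) ⊗ₜ[R] q i
  have h1 : N.subtype.rTensor Q x' = N.subtype.rTensor Q 0 := by
    rw [map_zero]
    show N.subtype.rTensor Q (∑ i : S, (⟨k i, hkN i⟩ : N) ⊗ₜ[R] q i) = 0
    rw [map_sum]
    simp only [LinearMap.rTensor_tmul, Submodule.subtype_apply]
    exact hx'
  obtain ⟨N', hN'fg, hle, heq⟩ := hNfg.exists_rTensor_fg_inclusion_eq h1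
  rw [map_zero] at heq
  obtain ⟨r, m'', hm''⟩ := Submodule.fg_iff_exists_fin_generating_family.1 hN'fg
  have hm''N : ∀ j, m'' j ∈ N' := fun j => by
    rw [← hm'']; exact Submodule.subset_span ⟨j, rfl⟩
  let mm : S ⊕ Fin r → N' :=
    Sum.elim (fun i => ⟨k i, hle (hkN i)⟩) (fun j => ⟨m'' j, hm''N j⟩)
  let nn : S ⊕ Fin r → Q := Sum.elim q (fun _ => 0)
  have hspan : Submodule.span R (Set.range mm) = ⊤ := by
    apply Submodule.map_injective_of_injective (Submodule.injective_subtype N')
    rw [Submodule.map_span, Submodule.map_top, Submodule.range_subtype, ← Set.range_comp]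
    apply le_antisymm
    · rw [Submodule.span_le]
      rintro _ ⟨i, rfl⟩
      exact (mm i).2
    · intro z hz
      rw [← hm''] at hz
      refine Submodule.span_le.2 ?_ hz
      rintro _ ⟨j, rfl⟩
      exact Submodule.subset_span ⟨Sum.inr j, rfl⟩
  have hsum : ∑ i, mm i ⊗ₜ[R] nn i = 0 := by
    rw [Fintype.sum_sum_type]
    simp only [mm, nn, Sum.elim_inl, Sum.elim_inr, TensorProduct.tmul_zero,
      Finset.sum_const_zero, add_zero]
    refine Eq.trans ?_ heq
    show _ = (N.inclusion hle).rTensor Q (∑ i : S, (⟨k i, hkN i⟩ : N) ⊗ₜ[R] q i)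
    rw [map_sum]
    rfl
  obtain ⟨k₀, a, y, hn, hm⟩ := TensorProduct.vanishesTrivially_of_sum_tmul_eq_zero R hspan hsum
  have hmP : ∀ l, ∑ i, a i l • ((mm i : N') : P) = 0 := by
    intro l
    have := congrArg N'.subtype (hm l)
    simpa using this
  have hrel : ∀ l, ∑ j, a (Sum.inr j) l • g (m'' j) = 0 := by
    intro l
    have := congrArg g (hmP l)
    rw [map_zero, map_sum, Fintype.sum_sum_type] at this
    simp only [map_smul] at this
    have h0 : ∑ i : S, a (Sum.inl i) l • g ((mm (Sum.inl i) : N') : P) = 0 :=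
      Finset.sum_eq_zero (fun i _ => by
        show a _ l • g (k i) = 0
        rw [hkg, smul_zero])
    rw [h0, zero_add] at this
    exact this
  obtain ⟨m', hm'g, hm'rel⟩ := LP r k₀ (fun j l => a (Sum.inr j) l) (fun j => g (m'' j)) hrel
  let kk : S ⊕ Fin r → LinearMap.ker g := Sum.elim (fun i => i.1.1)
    (fun j => ⟨m'' j - m' j, by rw [LinearMap.mem_ker, map_sub, hm'g, sub_self]⟩)
  have hkk : ∀ l, ∑ i, a i l • kk i = 0 := by
    intro l
    apply Submodule.injective_subtype (LinearMap.ker g)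
    rw [map_zero, map_sum, Fintype.sum_sum_type]
    simp only [map_smul, Submodule.subtype_apply]
    have h2 := hmP l
    rw [Fintype.sum_sum_type] at h2
    have h3 := hm'rel l
    have h4 : ∑ j, a (Sum.inr j) l • ((kk (Sum.inr j) : LinearMap.ker g) : P) =
        ∑ j, a (Sum.inr j) l • m'' j - ∑ j, a (Sum.inr j) l • m' j := by
      rw [← Finset.sum_sub_distrib]
      exact Finset.sum_congr rfl (fun j _ => smul_sub _ _ _)
    rw [h4, h3, sub_zero]
    exact h2
  have hfinal : ∑ i ∈ S, i.1 ⊗ₜ[R] i.2 = ∑ i, kk i ⊗ₜ[R] nn i := by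
    rw [Fintype.sum_sum_type]
    simp only [kk, nn, Sum.elim_inl, Sum.elim_inr, TensorProduct.tmul_zero,
      Finset.sum_const_zero, add_zero]
    exact (Finset.sum_coe_sort S (fun i => i.1 ⊗ₜ[R] i.2)).symm
  rw [hfinal]
  exact TensorProduct.sum_tmul_eq_zero_of_vanishesTrivially R ⟨k₀, a, y, hn, hkk⟩

structure Idx (R : Type u) [CommRing R] (M : Type u) [AddCommGroup M] [Module R M] :
    Type u where
  t : ℕ
  s : ℕ
  a : Fin t → Fin s → R
  mb : Fin t → M
  h : ∀ l, ∑ i, a i l • mb i = 0

section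
variable {R : Type u} [CommRing R] {M : Type u} [AddCommGroup M] [Module R M]

def rel (x : Idx R M) : Submodule R (Fin x.t → R) :=
  Submodule.span R (Set.range fun l : Fin x.s => fun i => x.a i l)

def Qm (x : Idx R M) : Type u := (Fin x.t → R) ⧸ rel x

instance instACGQm (x : Idx R M) : AddCommGroup (Qm x) :=
  inferInstanceAs (AddCommGroup ((Fin x.t → R) ⧸ rel x))

instance instModQm (x : Idx R M) : Module R (Qm x) :=
  inferInstanceAs (Module R ((Fin x.t → R) ⧸ rel x))

def mkQm (x : Idx R M) : (Fin x.t → R) →ₗ[R] Qm x := (rel x).mkQ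

theorem mkQm_surjective (x : Idx R M) : Function.Surjective (mkQm x) :=
  Submodule.mkQ_surjective (rel x)

theorem ker_mkQm (x : Idx R M) : LinearMap.ker (mkQm x) = rel x := Submodule.ker_mkQ (rel x)

instance instFPQm (x : Idx R M) : Module.FinitePresentation R (Qm x) :=
  Module.finitePresentation_of_free_of_surjective (mkQm x) (mkQm_surjective x)
    (by rw [ker_mkQm]; exact Submodule.fg_span (Set.finite_range _))

noncomputable def gx (x : Idx R M) : Qm x →ₗ[R] M :=
  (rel x).liftQ (Fintype.linearCombination R x.mb) (by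
    rw [rel, Submodule.span_le]
    rintro _ ⟨l, rfl⟩
    rw [SetLike.mem_coe, LinearMap.mem_ker, Fintype.linearCombination_apply]
    exact x.h l)

theorem gx_mkQm (x : Idx R M) (v : Fin x.t → R) :
    gx x (mkQm x v) = Fintype.linearCombination R x.mb v := rfl

noncomputable def gAll : (Π₀ x : Idx R M, Qm x) →ₗ[R] M := by
  classical
  exact DFinsupp.lsum ℕ (fun x => gx x)

theorem gAll_LP (t s : ℕ) (a : Fin t → Fin s → R) (mb : Fin t → M)
    (h : ∀ l, ∑ i, a i l • mb i = 0) :
    ∃ m' : Fin t → (Π₀ x : Idx R M, Qm x), (∀ i, (gAll (R := R) (M := M)) (m' i) = mb i) ∧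
      ∀ l, ∑ i, a i l • m' i = 0 := by
  classical
  let x : Idx R M := ⟨t, s, a, mb, h⟩
  let φ : (Fin t → R) →ₗ[R] (Π₀ x : Idx R M, Qm x) := DFinsupp.lsingle x ∘ₗ mkQm x
  refine ⟨fun i => φ (Pi.single i 1), ?_, ?_⟩
  · intro i
    show gAll (DFinsupp.single x (mkQm x (Pi.single i 1))) = mb i
    unfold gAll
    rw [DFinsupp.lsum_single, gx_mkQm]
    show Fintype.linearCombination R mb (Pi.single i 1) = mb i
    rw [Fintype.linearCombination_apply_single, one_smul]
  · intro l
    have h5 : (∑ i, a i l • (Pi.single i (1 : R) : Fin t → R)) = fun i => a i l := by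
      ext j
      simp [Pi.single_apply]
    simp only [← map_smul, ← map_sum]
    rw [h5]
    show (DFinsupp.single x (mkQm x (fun i => a i l)) : Π₀ x : Idx R M, Qm x) = 0
    have h6 : mkQm x (fun i => a i l) = 0 := by
      rw [← LinearMap.mem_ker, ker_mkQm]
      exact Submodule.subset_span ⟨l, rfl⟩
    rw [h6, DFinsupp.single_zero]

end


/-- For every `R`-module `M` there is a universally exact sequence `0 → N → P → M → 0` with `P` pure
projective; this row takes `P` to be a direct sum of finitely presented modules, which is pure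
projective: there is a surjection from such a direct sum onto `M` whose kernel inclusion is
universally injective. -/
theorem result (R : Type u) [CommRing R]
    (M : Type u) [AddCommGroup M] [Module R M] :
    ∃ (ι : Type u) (Q : ι → Type u) (_ : ∀ i, AddCommGroup (Q i)) (_ : ∀ i, Module R (Q i)),
      (∀ i, Module.FinitePresentation R (Q i)) ∧
      ∃ g : (Π₀ i, Q i) →ₗ[R] M, Function.Surjective g ∧
        CAlgX.UniversallyInjective R (LinearMap.ker g).subtype := by
  have hsurj : Function.Surjective (gAll (R := R) (M := M)) := by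
    intro m
    obtain ⟨m', h, _⟩ := gAll_LP (R := R) (M := M) 1 0 (fun _ l => l.elim0) (fun _ => m)
      (fun l => l.elim0)
    exact ⟨m' 0, h 0⟩
  have hpure : CAlgX.UniversallyInjective R (LinearMap.ker (gAll (R := R) (M := M))).subtype :=
    pure_of_LP gAll gAll_LP
  exact ⟨Idx R M, Qm, fun x => instACGQm x, fun x => instModQm x, fun x => instFPQm x, gAll,
    hsurj, hpure⟩

end Groth.Agent.S8770
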