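import Mathlib
import Groth.Statements.S18590
import Groth.Agent.Lib.Helper29.WittIso

set_option autoImplicit false
universe u
open CAlg

open MvPolynomial WittVector

namespace Aux18590
open Groth.Agent.Lib.Helper29.WittIso

variable {A K : Type*} [CommRing A] [CommRing K] [Algebra A K] (M : ℕ → Submodule A K)

/-- modified family with `N 0 = A·1` -/
def N (d : ℕ) : Submodule A K := if d = 0 then (1 : Submodule A K) else M d

lemma one_mem_N : (1:K) ∈ N M 0 := by
  simp only [N, if_true]
  exact Submodule.mem_one.mpr ⟨1, map_one _⟩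

lemma N_mul (hmul : ∀ (i j : ℕ) (a b : K), a ∈ M i → b ∈ M j → a * b ∈ M (i + j))
    (i j : ℕ) (a b : K) (ha : a ∈ N M i) (hb : b ∈ N M j) : a * b ∈ N M (i + j) := by
  by_cases hi : i = 0
  · subst hi
    simp only [N, if_true] at ha
    obtain ⟨r, rfl⟩ := Submodule.mem_one.mp ha
    rw [zero_add, ← Algebra.smul_def]
    exact Submodule.smul_mem _ _ hb
  · by_cases hj : j = 0
    · subst hj
      simp only [N, if_true] at hb
      obtain ⟨r, rfl⟩ := Submodule.mem_one.mp hb
      rw [add_zero, mul_comm, ← Algebra.smul_def]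
      exact Submodule.smul_mem _ _ ha
    · have hij : i + j ≠ 0 := by omega
      simp only [N, if_neg hi, if_neg hj, if_neg hij] at *
      exact hmul i j a b ha hb

lemma prod_mem {σ : Type*}
    (hmul : ∀ (i j : ℕ) (a b : K), a ∈ M i → b ∈ M j → a * b ∈ M (i + j))
    (W : σ → ℕ) (X : σ → K) (hX : ∀ v, X v ∈ N M (W v)) (μ : σ →₀ ℕ) :
    (∏ v ∈ μ.support, X v ^ μ v) ∈ N M (Finsupp.weight W μ) := by
  classical
  have hpow : ∀ v (k : ℕ), X v ^ k ∈ N M (k * W v) := by
    intro v k
    induction k with
    | zero => simpa using one_mem_N M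
    | succ k ih => rw [pow_succ, Nat.succ_mul]; exact N_mul M hmul _ _ _ _ ih (hX v)
  rw [Finsupp.weight_apply, Finsupp.sum]
  have : ∀ s : Finset σ, (∏ v ∈ s, X v ^ μ v) ∈ N M (∑ v ∈ s, μ v • W v) := by
    intro s
    induction s using Finset.induction_on with
    | empty => simpa using one_mem_N M
    | insert a s ha ih =>
      rw [Finset.prod_insert ha, Finset.sum_insert ha]
      exact N_mul M hmul _ _ _ _ (by simpa using hpow a (μ a)) ih
  exact this _

lemma aeval_mem {σ : Type*}
    (hmul : ∀ (i j : ℕ) (a b : K), a ∈ M i → b ∈ M j → a * b ∈ M (i + j))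
    (W : σ → ℕ) (X : σ → K) (hX : ∀ v, X v ∈ N M (W v)) (φ : MvPolynomial σ ℤ) (d : ℕ)
    (hφ : IsWeightedHomogeneous W φ d) : aeval X φ ∈ N M d := by
  rw [aeval_def, eval₂_eq]
  apply Submodule.sum_mem
  intro μ hμ
  have hw : Finsupp.weight W μ = d := hφ (mem_support_iff.mp hμ)
  rw [← hw, eq_intCast, ← zsmul_eq_mul]
  exact zsmul_mem (prod_mem M hmul W X hX μ) _

theorem main (p : ℕ) [Fact p.Prime] (A K : Type*) [CommRing A] [CommRing K] [Algebra A K]
    (M : ℕ → Submodule A K)
    (hmul : ∀ (i j : ℕ) (a b : K), a ∈ M i → b ∈ M j → a * b ∈ M (i + j)) :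
    (∀ φ ψ : WittVector p K, (∀ n : ℕ, φ.coeff n ∈ M (p ^ n)) → (∀ n : ℕ, ψ.coeff n ∈ M (p ^ n)) →
        ∀ n : ℕ, (φ + ψ).coeff n ∈ M (p ^ n)) ∧
      (∀ (x : WittVector p A) (φ : WittVector p K), (∀ n : ℕ, φ.coeff n ∈ M (p ^ n)) →
        ∀ n : ℕ, (WittVector.map (algebraMap A K) x * φ).coeff n ∈ M (p ^ n)) := by
  have hpos : ∀ n, p ^ n ≠ 0 := fun n => pow_ne_zero _ (Fact.out : p.Prime).ne_zero
  have hN : ∀ n, N M (p ^ n) = M (p ^ n) := fun n => by unfold N; rw [if_neg (hpos n)]
  refine ⟨fun φ ψ hφ hψ n => ?_, fun x φ hφ n => ?_⟩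
  · rw [← hN, WittVector.add_coeff]
    apply aeval_mem M hmul (wt p (fun _ : Fin 2 => 1)) _ _ _ _ (wittAdd_isobaric p n)
    rintro ⟨i, l⟩
    fin_cases i
    · simpa [wt, hN, Function.uncurry] using hφ l
    · simpa [wt, hN, Function.uncurry] using hψ l
  · rw [← hN, WittVector.mul_coeff]
    apply aeval_mem M hmul (wt p (fun i : Fin 2 => if i = 1 then 1 else 0)) _ _ _ _
      (wittMul_isobaric_right p n)
    rintro ⟨i, l⟩
    fin_cases i
    · simp only [wt, Function.uncurry, N]
      simp only [Fin.zero_eta, Fin.isValue, zero_ne_one, ↓reduceIte, zero_mul,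
        Matrix.cons_val_zero, WittVector.map_coeff]
      exact Submodule.mem_one.mpr ⟨_, rfl⟩
    · simpa [wt, hN, Function.uncurry] using hφ l

end Aux18590
namespace Groth.Agent.S18590

/-- Let p be a prime, A a commutative ring, K a commutative A-algebra of characteristic p and M_0, M_1,
M_2, … A-submodules of K with M_i · M_j ⊆ M_(i+j) for all i, j. Then the subset of the ring W(K) of
p-typical Witt vectors consisting of the vectors whose n-th coordinate lies in M_(p^n) for every n
is closed under addition and under multiplication by the image of W(A) under W of the structure map;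
in other words it is a W(A)-submodule of W(K). (The published statement is the case of an integral
normal noetherian scheme X of characteristic p with function field K, an affine open subset U with
coordinate ring A, and M_k the module of sections over U of the divisorial sheaf of k·D for a real
Weil divisor D on X; these form such a multiplicative family, and the subset is then the module of
sections over U of the Witt divisorial sheaf of D inside W(K). Only the two stated properties of
that family enter.) -/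
theorem result
    (p : ℕ) [Fact p.Prime] (A K : Type u) [CommRing A] [CommRing K] [Algebra A K] [CharP K p]
    (M : ℕ → Submodule A K)
    (hmul : ∀ (i j : ℕ) (a b : K), a ∈ M i → b ∈ M j → a * b ∈ M (i + j)) :
    (∀ φ ψ : WittVector p K, (∀ n : ℕ, φ.coeff n ∈ M (p ^ n)) → (∀ n : ℕ, ψ.coeff n ∈ M (p ^ n)) →
        ∀ n : ℕ, (φ + ψ).coeff n ∈ M (p ^ n)) ∧
      (∀ (x : WittVector p A) (φ : WittVector p K), (∀ n : ℕ, φ.coeff n ∈ M (p ^ n)) →
        ∀ n : ℕ, (WittVector.map (algebraMap A K) x * φ).coeff n ∈ M (p ^ n)) := by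
  exact Aux18590.main p A K M hmul

end Groth.Agent.S18590
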