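import Groth.Statements.S17541
import Mathlib.RingTheory.Filtration
-- import your own Groth.Agent.* helpers here

set_option autoImplicit false
universe u v w
open W4c5adicflatcompl
open CAlg

namespace Groth.Agent.S17541

section helpers
variable {A : Type u} [CommRing A] (I : Ideal A) {M : Type w} [AddCommGroup M] [Module A M]

lemma mem_smul_top_subtype_iff (N : Submodule A M) (n : ℕ) (x : N) :
    x ∈ (I ^ n • ⊤ : Submodule A N) ↔ (x : M) ∈ (I ^ n • N : Submodule A M) := by
  have h1 : (I ^ n • ⊤ : Submodule A N).map N.subtype = I ^ n • N := by
    rw [Submodule.map_smul'', Submodule.map_subtype_top]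
  rw [← h1]
  constructor
  · intro hx; exact Submodule.mem_map_of_mem hx
  · rintro ⟨y, hy, hxy⟩
    have : y = x := Subtype.ext hxy
    rwa [← this]

end helpers

/-- Over a Noetherian ring A which is I-adically complete, for a finitely generated A-module M, a
submodule N and a set Z, a function Z → N decays I-adically in N exactly when it decays I-adically
in M (decaying functions into N are the decaying functions into M with values in N). -/
theorem result {A : Type u} [CommRing A] [IsNoetherianRing A] (I : Ideal A)
    [IsAdicComplete I A] (Z : Type v) (M : Type w) [AddCommGroup M] [Module A M]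
    [Module.Finite A M] (N : Submodule A M) (f : Z → N) :
    f ∈ decaying I Z N ↔ (fun z => (f z : M)) ∈ decaying I Z M := by
  obtain ⟨c, hc⟩ := Ideal.exists_pow_inf_eq_pow_smul I N
  constructor
  · intro hf n
    refine (hf n).subset ?_
    intro z hz hmemz
    apply hz
    have := (mem_smul_top_subtype_iff I N n (f z)).mp hmemz
    exact Submodule.smul_mono le_rfl le_top this
  · intro hf n
    refine (hf (n + c)).subset ?_
    intro z hz hmemz
    apply hz
    rw [mem_smul_top_subtype_iff]
    have h1 : ((f z : N) : M) ∈ (I ^ (n + c) • ⊤ ⊓ N : Submodule A M) := ⟨hmemz, (f z).2⟩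
    rw [hc (n + c) (by omega), Nat.add_sub_cancel] at h1
    exact Submodule.smul_mono le_rfl inf_le_right h1

end Groth.Agent.S17541
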