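import Groth.Statements.S0549
import Groth.Agent.Lib.Helper8.ComplDim
import Groth.Agent.Lib.Helper9.RegLocal

set_option autoImplicit false
universe u
open CAlg

namespace Groth.Agent.S0549

open IsLocalRing in
/-- A Noetherian local ring is a discrete valuation ring (and a domain) iff it is regular of dimension one. -/
theorem dvr_iff_regular_dim_one (R : Type u) [CommRing R] [IsLocalRing R] [IsNoetherianRing R] :
    (∃ _ : IsDomain R, IsDiscreteValuationRing R) ↔ IsRegularLocalRing R ∧ ringKrullDim R = 1 := by
  constructor
  · rintro ⟨hd, hdvr⟩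
    exact ⟨inferInstance, IsDiscreteValuationRing.ringKrullDim_eq_one R⟩
  · rintro ⟨hreg, hdim⟩
    have hd : IsDomain R := Groth.Agent.Lib.Helper9.RegLocal.isDomain_of_isRegularLocalRing R
    refine ⟨hd, ?_⟩
    rw [← IsLocalRing.finrank_CotangentSpace_eq_one_iff]
    have h := (IsRegularLocalRing.iff_finrank_cotangentSpace R).1 hreg
    rw [hdim] at h
    exact_mod_cast h

/-- A Noetherian local ring is a discrete valuation ring exactly when its completion at the maximal
ideal is a discrete valuation ring. -/
theorem result (A : Type u) [CommRing A] [IsLocalRing A]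
    [IsNoetherianRing A] :
    (∃ _ : IsDomain A, IsDiscreteValuationRing A) ↔
      ∃ _ : IsDomain (AdicCompletion (IsLocalRing.maximalIdeal A) A),
        IsDiscreteValuationRing (AdicCompletion (IsLocalRing.maximalIdeal A) A) := by
  rw [dvr_iff_regular_dim_one, dvr_iff_regular_dim_one,
    ← Groth.Agent.Lib.Helper8.isRegularLocalRing_adicCompletion_iff,
    Groth.Agent.Lib.Helper8.ringKrullDim_adicCompletion]

end Groth.Agent.S0549
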