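import Groth.Statements.S15573
-- import your own Groth.Agent.* helpers here
import Mathlib

set_option autoImplicit false
universe u v
open RInv

namespace Groth.Agent.S15573



/-- Let `R` be a commutative ring with an involution `lam` and let `S` be its fixed ring. If there is an
element `r` of `R` such that `r - lam r` is a unit, then `R` is a quadratic etale `S`-algebra. -/
theorem result (S : Type u) (R : Type v) [CommRing S] [CommRing R]
    [Algebra S R] (lam : R ≃+* R) (hlam : Function.Involutive lam) (hS : RInv.IsFixedRing S R lam)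
    (h : ∃ r : R, IsUnit (r - lam r)) : RInv.IsQuadEtale S R := by
  obtain ⟨r, hu⟩ := h
  obtain ⟨u, hu_def⟩ : ∃ u : R, u = r - lam r := ⟨_, rfl⟩
  rw [← hu_def] at hu
  obtain ⟨w, huw⟩ := hu.exists_right_inv
  have hwu : w * u = 1 := by rw [mul_comm]; exact huw
  have hlu : lam u = -u := by rw [hu_def, map_sub, hlam r]; ring
  have hlw : lam w = -w := by
    have h1 : lam u * lam w = 1 := by rw [← map_mul, huw, map_one]
    rw [hlu] at h1
    calc lam w = (w * u) * lam w := by rw [hwu, one_mul]
      _ = -(w * ((-u) * lam w)) := by ring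
      _ = -w := by rw [h1, mul_one]
  have hfix : ∀ s : S, lam (algebraMap S R s) = algebraMap S R s :=
    fun s => (hS.2 _).mpr ⟨s, rfl⟩
  have hdecomp : ∀ x : R, ∃ a b : S, x = algebraMap S R a + algebraMap S R b * r := by
    intro x
    have hb' : lam ((x - lam x) * w) = (x - lam x) * w := by
      rw [map_mul, map_sub, hlam x, hlw]; ring
    obtain ⟨b, hb⟩ := (hS.2 _).mp hb'
    have ha' : lam (x - (x - lam x) * w * r) = x - (x - lam x) * w * r := by
      rw [map_sub, map_mul, hb']
      have h1 : (x - lam x) * w * (r - lam r) = x - lam x := by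
        rw [← hu_def, mul_assoc, hwu, mul_one]
      linear_combination h1
    obtain ⟨a, ha⟩ := (hS.2 _).mp ha'
    exact ⟨a, b, by rw [ha, hb]; ring⟩
  have huniq : ∀ a b : S, algebraMap S R a + algebraMap S R b * r = 0 → a = 0 ∧ b = 0 := by
    intro a b h0
    have h1 := congrArg lam h0
    rw [map_add, map_mul, hfix, hfix, map_zero] at h1
    have h2 : algebraMap S R b * u = 0 := by rw [hu_def]; linear_combination h0 - h1
    have h3 : algebraMap S R b = 0 := by
      calc algebraMap S R b = algebraMap S R b * u * w := by rw [mul_assoc, huw, mul_one]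
        _ = 0 := by rw [h2, zero_mul]
    have hb0 : b = 0 := hS.1 (by rw [h3, map_zero])
    rw [h3, zero_mul, add_zero] at h0
    exact ⟨hS.1 (by rw [h0, map_zero]), hb0⟩
  have hDr : KaehlerDifferential.D S R r = 0 := by
    obtain ⟨t, ht⟩ := (hS.2 (r + lam r)).mp (by rw [map_add, hlam r, add_comm])
    obtain ⟨n, hn⟩ := (hS.2 (r * lam r)).mp (by rw [map_mul, hlam r, mul_comm])
    have hrel : r * r = algebraMap S R t * r - algebraMap S R n := by rw [ht, hn]; ring
    have h1 := congrArg (KaehlerDifferential.D S R) hrel
    rw [Derivation.leibniz, map_sub, Derivation.leibniz, Derivation.map_algebraMap,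
      Derivation.map_algebraMap, smul_zero, add_zero, sub_zero, ht, add_smul] at h1
    have h2 : u • KaehlerDifferential.D S R r = 0 := by
      rw [hu_def, sub_smul]
      exact sub_eq_zero.mpr (add_left_cancel h1)
    calc KaehlerDifferential.D S R r = (w * u) • KaehlerDifferential.D S R r := by
          rw [hwu, one_smul]
      _ = w • (u • KaehlerDifferential.D S R r) := mul_smul _ _ _
      _ = 0 := by rw [h2, smul_zero]
  have hD : ∀ x : R, KaehlerDifferential.D S R x = 0 := by
    intro x
    obtain ⟨a, b, rfl⟩ := hdecomp x
    rw [map_add, Derivation.leibniz, Derivation.map_algebraMap, Derivation.map_algebraMap, hDr]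
    simp
  have hΩ : Subsingleton (KaehlerDifferential S R) := by
    have hspan := KaehlerDifferential.span_range_derivation S R
    have hle : Submodule.span R (Set.range (KaehlerDifferential.D S R)) ≤ ⊥ := by
      rw [Submodule.span_le]
      rintro _ ⟨x, rfl⟩
      exact (Submodule.mem_bot R).mpr (hD x)
    rw [hspan, top_le_iff] at hle
    exact (Submodule.subsingleton_iff R).mp (subsingleton_of_bot_eq_top hle)
  let e0 : (S × S) →ₗ[S] R :=
    (LinearMap.toSpanSingleton S R 1).coprod (LinearMap.toSpanSingleton S R r)
  have he0 : ∀ ab : S × S, e0 ab = algebraMap S R ab.1 + algebraMap S R ab.2 * r := by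
    intro ab
    simp [e0, LinearMap.coprod_apply, LinearMap.toSpanSingleton_apply, Algebra.smul_def]
  have hbij : Function.Bijective e0 := by
    constructor
    · rw [← LinearMap.ker_eq_bot, LinearMap.ker_eq_bot']
      intro ab hab
      rw [he0] at hab
      obtain ⟨h1, h2⟩ := huniq _ _ hab
      exact Prod.ext h1 h2
    · intro x
      obtain ⟨a, b, hab⟩ := hdecomp x
      exact ⟨(a, b), by rw [he0]; exact hab.symm⟩
  let e := LinearEquiv.ofBijective e0 hbij
  haveI : Module.Finite S R := Module.Finite.equiv e
  haveI : Module.Free S R := Module.Free.of_equiv e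
  refine ⟨inferInstance, inferInstance, ⟨hΩ⟩, fun p => ?_⟩
  haveI : Nontrivial S := p.nontrivial
  have h1 : Module.finrank S R = 2 := by
    rw [← LinearEquiv.finrank_eq e, Module.finrank_prod, Module.finrank_self]
  have h2 := congrFun (Module.rankAtStalk_eq_finrank_of_free (R := S) (M := R)) p
  rw [h2]
  simpa using h1

end Groth.Agent.S15573
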