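import Groth.Statements.S15577
import Mathlib

set_option autoImplicit false
universe u v
open RInv

namespace Groth.Agent.S15577

open TensorProduct in
/-- Two algebra maps from an unramified algebra which agree modulo the Jacobson radical of the
target are equal (same argument as `Lib.Helper8.algHom_eq_of_sub_mem_jacobson`). -/
theorem algHom_eq_of_sub_mem_jacobson {A C A₂ : Type*} [CommRing A] [CommRing C]
    [Algebra A C] [Algebra.EssFiniteType A C] [Algebra.FormallyUnramified A C]
    [CommRing A₂] [Algebra A A₂] (φ φ' : C →ₐ[A] A₂)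
    (h : ∀ x : C, φ x - φ' x ∈ Ideal.jacobson (⊥ : Ideal A₂)) : φ = φ' := by
  obtain ⟨t, ht₁, ht₂⟩ := (Algebra.FormallyUnramified.iff_exists_tensorProduct (R := A) (S := C)).1
    inferInstance
  let Φ : C ⊗[A] C →ₐ[A] A₂ := Algebra.TensorProduct.lift φ φ' (fun _ _ => Commute.all _ _)
  have hΦ : ∀ c c' : C, Φ (c ⊗ₜ c') = φ c * φ' c' := fun c c' => by
    simp [Φ]
  have hres : ∀ x : C ⊗[A] C,
      Φ x - φ (Algebra.TensorProduct.lmul' A x) ∈ Ideal.jacobson (⊥ : Ideal A₂) := by
    intro x
    induction x using TensorProduct.induction_on with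
    | zero => simp
    | tmul c c' =>
      rw [hΦ, Algebra.TensorProduct.lmul'_apply_tmul, map_mul]
      have : φ c * φ' c' - φ c * φ c' = -(φ c * (φ c' - φ' c')) := by ring
      rw [this]
      exact neg_mem (Ideal.mul_mem_left _ _ (h c'))
    | add x y hx hy =>
      have : Φ (x + y) - φ (Algebra.TensorProduct.lmul' A (x + y)) =
          (Φ x - φ (Algebra.TensorProduct.lmul' A x)) +
            (Φ y - φ (Algebra.TensorProduct.lmul' A y)) := by
        simp only [map_add]; ring
      rw [this]
      exact add_mem hx hy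
  have hunit : IsUnit (Φ t) := by
    have h1 := hres t
    rw [ht₂, map_one] at h1
    have := Ideal.mem_jacobson_bot.mp h1 1
    rwa [mul_one, sub_add_cancel] at this
  apply AlgHom.ext
  intro s
  have h2 := congrArg Φ (ht₁ s)
  rw [map_mul, map_sub, hΦ, hΦ, map_one, map_one, one_mul, mul_one, map_zero] at h2
  have h3 := hunit.mul_left_eq_zero.mp h2
  exact (sub_eq_zero.mp h3).symm


/-- Let `R` be a commutative ring with an involution `lam` whose fixed ring `S` is local. If `lam`
induces the identity on `R` modulo its Jacobson radical, then `R` is a local ring and is not a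
quadratic etale `S`-algebra. -/
theorem result (S : Type u) (R : Type v) [CommRing S] [CommRing R]
    [Algebra S R] (lam : R ≃+* R) (hlam : Function.Involutive lam) (hS : RInv.IsFixedRing S R lam)
    [IsLocalRing S] (h : ∀ r : R, lam r - r ∈ Ring.jacobson R) :
    IsLocalRing R ∧ ¬ RInv.IsQuadEtale S R := by
  have hinj : Function.Injective (algebraMap S R) := hS.1
  have hfix : ∀ r : R, lam r = r → ∃ s : S, algebraMap S R s = r := fun r hr => (hS.2 r).1 hr
  have hfix' : ∀ s : S, lam (algebraMap S R s) = algebraMap S R s := fun s =>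
    (hS.2 _).2 ⟨s, rfl⟩
  have hN : ∀ r : R, ∃ s : S, algebraMap S R s = r * lam r := fun r =>
    hfix _ (by rw [map_mul, hlam r, mul_comm])
  have hT : ∀ r : R, ∃ s : S, algebraMap S R s = r + lam r := fun r =>
    hfix _ (by rw [map_add, hlam r, add_comm])
  haveI : Nontrivial R := hinj.nontrivial
  have hjac : ∀ n : Ideal R, n.IsMaximal → Ring.jacobson R ≤ n := by
    intro n hn
    rw [← Ideal.jacobson_bot]
    exact sInf_le ⟨bot_le, hn⟩
  have hstab : ∀ n : Ideal R, n.IsMaximal → ∀ r ∈ n, lam r ∈ n := by
    intro n hn r hr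
    have : lam r = r + (lam r - r) := by ring
    rw [this]
    exact n.add_mem hr (hjac n hn (h r))
  have claim1 : ∀ n : Ideal R, n.IsMaximal → ∀ s : S, algebraMap S R s ∈ n →
      s ∈ IsLocalRing.maximalIdeal S := by
    intro n hn s hs
    rw [IsLocalRing.mem_maximalIdeal, mem_nonunits_iff]
    intro hu
    exact hn.ne_top (Ideal.eq_top_of_isUnit_mem _ hs (hu.map (algebraMap S R)))
  have claim2 : ∀ n : Ideal R, n.IsMaximal → ∀ s ∈ IsLocalRing.maximalIdeal S,
      algebraMap S R s ∈ n := by
    intro n hn s hs
    by_contra hsn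
    obtain ⟨r, t, ht, hrt⟩ := hn.exists_inv hsn
    obtain ⟨c, hc⟩ := hT r
    obtain ⟨d, hd⟩ := hN r
    have ht' : t = 1 - r * algebraMap S R s := by rw [← hrt]; ring
    have key : t * lam t = algebraMap S R (1 - (s * c - s * s * d)) := by
      rw [ht', map_sub lam, map_one, map_mul lam, hfix' s, map_sub (algebraMap S R), map_one,
        map_sub (algebraMap S R), map_mul (algebraMap S R), map_mul (algebraMap S R),
        map_mul (algebraMap S R), hc, hd]
      ring
    have hunit : IsUnit (1 - (s * c - s * s * d)) := by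
      apply IsLocalRing.isUnit_one_sub_self_of_mem_nonunits
      exact (IsLocalRing.maximalIdeal S).sub_mem (Ideal.mul_mem_right _ _ hs)
        (Ideal.mul_mem_right _ _ (Ideal.mul_mem_right _ _ hs))
    have hu2 : IsUnit (t * lam t) := by rw [key]; exact hunit.map _
    exact hn.ne_top (Ideal.eq_top_of_isUnit_mem _ ht (isUnit_of_mul_isUnit_left hu2))
  have hle : ∀ n n' : Ideal R, n.IsMaximal → n'.IsMaximal → n' ≤ n := by
    intro n n' hn hn' r hr
    obtain ⟨s, hs⟩ := hN r
    have h1 : algebraMap S R s ∈ n' := by rw [hs]; exact n'.mul_mem_right _ hr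
    have h2 : algebraMap S R s ∈ n := claim2 n hn s (claim1 n' hn' s h1)
    rw [hs] at h2
    rcases hn.isPrime.mem_or_mem h2 with h3 | h3
    · exact h3
    · have := hstab n hn _ h3
      rwa [hlam r] at this
  constructor
  · obtain ⟨n0, hn0⟩ := Ideal.exists_maximal R
    exact IsLocalRing.of_unique_max_ideal ⟨n0, hn0, fun n' hn' =>
      hn'.eq_of_le hn0.ne_top (hle n0 n' hn0 hn')⟩
  · rintro ⟨hfin, hproj, hunr, hrank⟩
    haveI := hfin
    haveI := hunr
    let lamA : R →ₐ[S] R := { lam.toRingHom with commutes' := hfix' }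
    have hid : lamA = AlgHom.id S R := by
      apply algHom_eq_of_sub_mem_jacobson
      intro x
      rw [Ideal.jacobson_bot]
      exact h x
    have hall : ∀ r : R, lam r = r := fun r => by
      have := AlgHom.congr_fun hid r
      exact this
    have hsurj : Function.Surjective (algebraMap S R) := fun r => hfix r (hall r)
    let e : S ≃ₗ[S] R := LinearEquiv.ofBijective (Algebra.linearMap S R) ⟨hinj, hsurj⟩
    have h1 := Module.rankAtStalk_eq_of_equiv e
    have h2 := hrank (IsLocalRing.closedPoint S)
    rw [← h1, Module.rankAtStalk_self] at h2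
    simp at h2

end Groth.Agent.S15577
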