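import Groth.Statements.S15574
import Mathlib
import Groth.Agent.Lib.Helper26.InvLocal
import Groth.Agent.S15577

set_option autoImplicit false
universe u v
open RInv

namespace Groth.Agent.S15574

open Groth.Agent.Lib.Helper26.InvLocal

/-- Let `R` be a commutative ring with an involution `lam` whose fixed ring `S` is local, and suppose
`R` is a quadratic etale `S`-algebra. Then some `r` in `R` has `r - lam r` invertible. -/
theorem result (S : Type u) (R : Type v) [CommRing S] [CommRing R]
    [Algebra S R] (lam : R ≃+* R) (hlam : Function.Involutive lam) (hS : RInv.IsFixedRing S R lam)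
    [IsLocalRing S] (hq : RInv.IsQuadEtale S R) : ∃ r : R, IsUnit (r - lam r) := by
  by_contra hno
  push_neg at hno
  have h : ∀ r : R, lam r - r ∈ Ring.jacobson R := by
    intro r
    by_contra hr
    have hu : IsUnit (lam r - r) := isUnit_lam_sub_of_not_mem_jacobson hlam hS hr
    apply hno r
    have : r - lam r = -(lam r - r) := by ring
    rw [this]; exact hu.neg
  exact (Groth.Agent.S15577.result S R lam hlam hS h).2 hq

end Groth.Agent.S15574
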