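import Groth.Statements.S9137
import Mathlib

set_option autoImplicit false
universe u
open CAlg

namespace Groth.Agent.S9137


open IsLocalRing in
/-- The closed fibre ring is finite over the base. -/
theorem finite_quot (R S : Type u) [CommRing R] [CommRing S]
    [IsLocalRing R] [IsLocalRing S] [Algebra R S] [IsLocalHom (algebraMap R S)]
    [Algebra.EssFiniteType R S]
    (hres : Module.Finite (IsLocalRing.ResidueField R) (IsLocalRing.ResidueField S))
    (hdim : ringKrullDim (S ⧸ (IsLocalRing.maximalIdeal R).map (algebraMap R S)) = 0) :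
    Module.Finite R (S ⧸ (IsLocalRing.maximalIdeal R).map (algebraMap R S)) := by
  set I := (maximalIdeal R).map (algebraMap R S) with hIdef
  have hI : I ≤ maximalIdeal S := by
    rw [hIdef, Ideal.map_le_iff_le_comap]
    intro a ha
    rw [Ideal.mem_comap, mem_maximalIdeal, mem_nonunits_iff]
    intro hu
    exact (mem_nonunits_iff.mp ((mem_maximalIdeal a).mp ha)) (isUnit_of_map_unit (algebraMap R S) a hu)
  have hItop : I ≠ ⊤ := fun h => (maximalIdeal.isMaximal S).ne_top (top_le_iff.mp (h ▸ hI))
  haveI : Nontrivial (S ⧸ I) := Ideal.Quotient.nontrivial_iff.mpr hItop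
  haveI : IsLocalRing (S ⧸ I) :=
    IsLocalRing.of_surjective' (Ideal.Quotient.mk I) Ideal.Quotient.mk_surjective
  letI : Field (R ⧸ maximalIdeal R) := Ideal.Quotient.field _
  haveI : IsNoetherianRing (S ⧸ I) :=
    Algebra.EssFiniteType.isNoetherianRing (R ⧸ maximalIdeal R) (S ⧸ I)
  haveI : Ring.KrullDimLE 0 (S ⧸ I) := by
    rw [Ring.krullDimLE_iff, hdim]
    simp
  haveI : IsArtinianRing (S ⧸ I) :=
    isArtinianRing_iff_isNoetherianRing_krullDimLE_zero.mpr ⟨inferInstance, inferInstance⟩
  have hjac : Ring.jacobson (S ⧸ I) = maximalIdeal (S ⧸ I) := by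
    rw [← Ideal.jacobson_bot, IsLocalRing.jacobson_eq_maximalIdeal ⊥ bot_ne_top]
  haveI : Module.Finite R (IsLocalRing.ResidueField S) :=
    Module.Finite.trans (IsLocalRing.ResidueField R) (IsLocalRing.ResidueField S)
  haveI : Module.Finite R ((S ⧸ I) ⧸ Ring.jacobson (S ⧸ I)) := by
    let g : S →ₐ[R] (S ⧸ I) ⧸ Ring.jacobson (S ⧸ I) :=
      (Ideal.Quotient.mkₐ R (Ring.jacobson (S ⧸ I))).comp (Ideal.Quotient.mkₐ R I)
    have hg : Function.Surjective g :=
      (Ideal.Quotient.mkₐ_surjective R _).comp (Ideal.Quotient.mkₐ_surjective R I)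
    have hker : ∀ x ∈ maximalIdeal S, g x = 0 := by
      intro x hx
      change Ideal.Quotient.mk _ (Ideal.Quotient.mk I x) = 0
      rw [Ideal.Quotient.eq_zero_iff_mem, hjac, mem_maximalIdeal, mem_nonunits_iff]
      intro hu
      obtain ⟨y, hy⟩ := hu.exists_right_inv
      obtain ⟨y, rfl⟩ := Ideal.Quotient.mk_surjective y
      rw [← map_mul, ← map_one (Ideal.Quotient.mk I), Ideal.Quotient.eq] at hy
      have h1 : x * y ∈ maximalIdeal S := Ideal.mul_mem_right _ _ hx
      have h2 : (1 : S) ∈ maximalIdeal S := by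
        have := Ideal.sub_mem _ h1 (hI hy)
        simpa using this
      exact (maximalIdeal.isMaximal S).ne_top ((Ideal.eq_top_iff_one _).mpr h2)
    let gbar : (S ⧸ maximalIdeal S) →ₐ[R] (S ⧸ I) ⧸ Ring.jacobson (S ⧸ I) :=
      Ideal.Quotient.liftₐ (maximalIdeal S) g hker
    have hgbar : Function.Surjective gbar :=
      Ideal.Quotient.lift_surjective_of_surjective _ _ hg
    haveI : Module.Finite R (S ⧸ maximalIdeal S) :=
      ‹Module.Finite R (IsLocalRing.ResidueField S)›
    exact Module.Finite.of_surjective gbar.toLinearMap hgbar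
  exact IsSemiprimaryRing.finite_of_isArtinian R (S ⧸ I) (S ⧸ I)

/-- Transfer of a localization at a prime to a subalgebra that agrees after inverting `r`. -/
theorem atPrime_of_awayMap {R S₀ S : Type*} [CommRing R] [CommRing S₀] [CommRing S]
    [Algebra R S₀] [Algebra S₀ S] (q₀ : Ideal S₀) [q₀.IsPrime] [IsLocalization.AtPrime S q₀]
    (S' : Subalgebra R S₀) (r : S') (hr : r.1 ∉ q₀)
    (hsurj : ∀ a : S₀, ∃ (b : S') (m : ℕ), (b : S₀) = r.1 ^ m * a)
    (q : Ideal S') [q.IsPrime] (hq : q = q₀.comap (algebraMap S' S₀)) :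
    IsLocalization.AtPrime S q := by
  have halg : ∀ y : S', algebraMap S' S y = algebraMap S₀ S y.1 := fun y => rfl
  have hmem : ∀ y : S', y ∈ q ↔ y.1 ∈ q₀ := by
    intro y
    rw [hq, Ideal.mem_comap]
    rfl
  have hrpow : ∀ n : ℕ, r.1 ^ n ∉ q₀ := fun n h => hr (Ideal.IsPrime.mem_of_pow_mem inferInstance n h)
  refine (isLocalization_iff _ _).mpr ⟨?_, ?_, ?_⟩
  · rintro ⟨y, hy⟩
    rw [halg]
    have hy' : y.1 ∈ q₀.primeCompl := fun h => hy ((hmem y).mpr h)
    exact IsLocalization.map_units (M := q₀.primeCompl) S ⟨y.1, hy'⟩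
  · intro z
    obtain ⟨⟨a₀, b₀⟩, h⟩ := IsLocalization.surj q₀.primeCompl z
    obtain ⟨a', m₁, ha'⟩ := hsurj a₀
    obtain ⟨b', m₂, hb'⟩ := hsurj b₀.1
    have hb0 : b₀.1 ∉ q₀ := b₀.2
    have hmemb : (r ^ m₁ * b') ∉ q := by
      rw [hmem]
      change r.1 ^ m₁ * b'.1 ∉ q₀
      rw [hb']
      intro hh
      rcases Ideal.IsPrime.mem_or_mem inferInstance hh with h1 | h1
      · exact hrpow _ h1
      · rcases Ideal.IsPrime.mem_or_mem inferInstance h1 with h2 | h2
        · exact hrpow _ h2
        · exact hb0 h2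
    refine ⟨⟨r ^ m₂ * a', ⟨r ^ m₁ * b', hmemb⟩⟩, ?_⟩
    change z * algebraMap S' S (r ^ m₁ * b') = algebraMap S' S (r ^ m₂ * a')
    rw [halg, halg]
    change z * algebraMap S₀ S (r.1 ^ m₁ * b'.1) = algebraMap S₀ S (r.1 ^ m₂ * a'.1)
    rw [ha', hb']
    simp only [map_mul, map_pow] at h ⊢
    rw [← h]
    ring
  · intro x y hxy
    rw [halg, halg] at hxy
    obtain ⟨c₀, hc₀⟩ := IsLocalization.exists_of_eq (M := q₀.primeCompl) hxy
    obtain ⟨c', m, hc'⟩ := hsurj c₀.1
    have hc0 : c₀.1 ∉ q₀ := c₀.2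
    have hmemc : c' ∉ q := by
      rw [hmem, hc']
      intro hh
      rcases Ideal.IsPrime.mem_or_mem inferInstance hh with h1 | h1
      · exact hrpow _ h1
      · exact hc0 h1
    refine ⟨⟨c', hmemc⟩, ?_⟩
    apply Subtype.ext
    change c'.1 * x.1 = c'.1 * y.1
    rw [hc', mul_assoc, hc₀, mul_assoc]


/-- Let R → S be a local ring homomorphism between local rings, essentially of finite type, such that
the residue field of S is finite over that of R and S/m_R S has dimension zero. Then S is, as an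
R-algebra, the localization of a finite R-algebra at a prime. -/
theorem result (R S : Type u) [CommRing R] [CommRing S]
    [IsLocalRing R] [IsLocalRing S] [Algebra R S] [IsLocalHom (algebraMap R S)]
    [Algebra.EssFiniteType R S]
    (hres : Module.Finite (IsLocalRing.ResidueField R) (IsLocalRing.ResidueField S))
    (hdim : ringKrullDim (S ⧸ (IsLocalRing.maximalIdeal R).map (algebraMap R S)) = 0) :
    ∃ (S' : Type u) (_ : CommRing S') (_ : Algebra R S') (_ : Algebra S' S) (_ : IsScalarTower R S' S)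
      (q : Ideal S') (_ : q.IsPrime), Module.Finite R S' ∧ IsLocalization.AtPrime S q := by
  classical
  let S₀ : Subalgebra R S := Algebra.EssFiniteType.subalgebra R S
  let q₀ : Ideal S₀ := (IsLocalRing.maximalIdeal S).comap (algebraMap S₀ S)
  haveI hq₀ : q₀.IsPrime := Ideal.comap_isPrime _ _
  have hM : Algebra.EssFiniteType.submonoid R S = q₀.primeCompl := by
    ext x
    simp only [Algebra.EssFiniteType.submonoid, Submonoid.mem_comap, IsUnit.mem_submonoid_iff,
      Ideal.mem_primeCompl_iff, q₀, Ideal.mem_comap, IsLocalRing.mem_maximalIdeal,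
      mem_nonunits_iff, not_not]
    exact Iff.rfl
  haveI hloc : IsLocalization.AtPrime S q₀ := by
    have := Algebra.EssFiniteType.isLocalization (R := R) (S := S)
    rwa [hM] at this
  have hunder : q₀.under R = IsLocalRing.maximalIdeal R := by
    ext a
    rw [Ideal.under_def, Ideal.mem_comap, Ideal.mem_comap, ← IsScalarTower.algebraMap_apply,
      IsLocalRing.mem_maximalIdeal, IsLocalRing.mem_maximalIdeal, mem_nonunits_iff,
      mem_nonunits_iff, isUnit_map_iff]
  haveI : Algebra.WeaklyQuasiFiniteAt R q₀ := by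
    rw [Algebra.weaklyQuasiFiniteAt_iff, hunder]
    haveI hfin := finite_quot R S hres hdim
    haveI : Algebra.QuasiFinite R (S ⧸ (IsLocalRing.maximalIdeal R).map (algebraMap R S)) :=
      inferInstance
    let e : S ≃ₐ[S₀] Localization.AtPrime q₀ := IsLocalization.algEquiv q₀.primeCompl S _
    let g : S →ₐ[R] Localization.AtPrime q₀ ⧸
        (IsLocalRing.maximalIdeal R).map (algebraMap R (Localization.AtPrime q₀)) :=
      (Ideal.Quotient.mkₐ R _).comp (e.restrictScalars R).toAlgHom
    have hg : Function.Surjective g :=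
      (Ideal.Quotient.mkₐ_surjective R _).comp (e.restrictScalars R).surjective
    have hker : ∀ x ∈ (IsLocalRing.maximalIdeal R).map (algebraMap R S), g x = 0 := by
      intro x hx
      have : (IsLocalRing.maximalIdeal R).map (algebraMap R S) ≤ RingHom.ker g.toRingHom := by
        rw [Ideal.map_le_iff_le_comap]
        intro a ha
        rw [Ideal.mem_comap, RingHom.mem_ker]
        change g (algebraMap R S a) = 0
        rw [g.commutes, IsScalarTower.algebraMap_apply R (Localization.AtPrime q₀) (_ ⧸ _),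
          Ideal.Quotient.algebraMap_eq, Ideal.Quotient.eq_zero_iff_mem]
        exact Ideal.mem_map_of_mem _ ha
      exact this hx
    let gbar := Ideal.Quotient.liftₐ _ g hker
    have hgbar : Function.Surjective gbar := Ideal.Quotient.lift_surjective_of_surjective _ _ hg
    exact Algebra.QuasiFinite.of_surjective_algHom gbar hgbar
  obtain ⟨S', hS', r, hr, hbij⟩ :=
    Algebra.QuasiFiniteAt.exists_fg_and_exists_notMem_and_awayMap_bijective (R := R) q₀
  have hsurj := Localization.awayMap_surjective_iff.mp hbij.2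
  haveI : Module.Finite R S' := ⟨(Submodule.fg_top _).mpr hS'⟩
  haveI hq : (q₀.comap (algebraMap S' S₀)).IsPrime := Ideal.comap_isPrime _ _
  refine ⟨S', inferInstance, inferInstance, inferInstance, inferInstance,
    q₀.comap (algebraMap S' S₀), hq, inferInstance, ?_⟩
  exact atPrime_of_awayMap q₀ S' r hr hsurj _ rfl

end Groth.Agent.S9137
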