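import Groth.Statements.S16086
import Groth.Agent.Lib.Helper26.RefShJ


set_option autoImplicit false
universe u
open CategoryTheory CategoryTheory.Limits AlgebraicGeometry TopologicalSpace
open SDiv

namespace Groth.Agent.S16086

/-- The class map is well defined and injective: fix a scheme X that is integral, normal and locally
Noetherian, and write η for its generic point; suppose F and G are rank one coherent reflexive
O_X-modules and let s ∈ F_η and t ∈ G_η be nonzero rational sections. At a point x of codimension 1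
the stalks F_x, G_x are free of rank one over the discrete valuation ring O_{X,x}, so s and t have
orders ord_{x,F}(s), ord_{x,G}(t). Then F ≅ G if and only if the Weil divisors of s and t are
linearly equivalent: for some nonzero rational function f one has ord_{x,F}(s) = ord_{x,G}(t) +
ord_x(f) at every point x of codimension 1. -/
theorem result (X : Scheme.{u}) [IsIntegral X] [IsLocallyNoetherian X]
    (hX : Pi1.IsNormalScheme X) (F G : X.Modules) (hF : RefHull.IsRef1 F) (hG : RefHull.IsRef1 G)
    (s : Cyc.secFibre F (genericPoint ↥X)) (hs : s ≠ 0) (t : Cyc.secFibre G (genericPoint ↥X)) (ht : t ≠ 0) :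
    Nonempty (F ≅ G) ↔
      ∃ f : ↑X.functionField, f ≠ 0 ∧
        ∀ (x : ↥X), Order.coheight x = 1 →
          Cyc.secOrdAt F (genericPoint ↥X) x ((genericPoint_spec ↥X).specializes (Set.mem_univ x)) s =
            Cyc.secOrdAt G (genericPoint ↥X) x ((genericPoint_spec ↥X).specializes (Set.mem_univ x)) t +
              Scheme.ord f x := by
  obtain ⟨wF, rfl⟩ := Submodule.Quotient.mk_surjective _ s
  obtain ⟨wG, rfl⟩ := Submodule.Quotient.mk_surjective _ t
  have hwF : wF ≠ 0 := by
    rintro rfl
    exact hs (Submodule.Quotient.mk_zero _)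
  have hwG : wG ≠ 0 := by
    rintro rfl
    exact ht (Submodule.Quotient.mk_zero _)
  haveI : F.IsQuasicoherent := hF.1.1
  haveI : G.IsQuasicoherent := hG.1.1
  have hFtf := Groth.Agent.Lib.Helper26.RefSh.isTorsionFree_of_isRef1 hF
  have hGtf := Groth.Agent.Lib.Helper26.RefSh.isTorsionFree_of_isRef1 hG
  have hFst := Groth.Agent.Lib.Helper26.RefSh.isReflexiveAt_of_isRef1 hF
  have hGst := Groth.Agent.Lib.Helper26.RefSh.isReflexiveAt_of_isRef1 hG
  have hspec : ∀ x : X, genericPoint X ⤳ x :=
    fun x => (genericPoint_spec X).specializes (Set.mem_univ x)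
  haveI : Module.IsTorsionFree (X.presheaf.stalk (genericPoint X))
      (F.presheaf.stalk (genericPoint X)) := hFtf (genericPoint X)
  haveI : Module.IsTorsionFree (X.presheaf.stalk (genericPoint X))
      (G.presheaf.stalk (genericPoint X)) := hGtf (genericPoint X)
  have hgenF := Groth.Agent.Lib.Helper26.RefSh.generator_of_ne_zero F hF.2.2 wF hwF
  have hgenG := Groth.Agent.Lib.Helper26.RefSh.generator_of_ne_zero G hG.2.2 wG hwG
  constructor
  · rintro ⟨e⟩
    have hbijη := Groth.Agent.Lib.Helper26.RefSh.stalkMapₗ_bijective_of_isIso e.hom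
      (genericPoint X)
    obtain ⟨f, hf⟩ := hgenG (RefHull.stalkMapₗ e.hom (genericPoint X) wF)
    have hf0 : f ≠ 0 := by
      rintro rfl
      rw [zero_smul] at hf
      exact hwF (hbijη.1 (hf.symm.trans (map_zero _).symm))
    refine ⟨f, hf0, fun x hx => ?_⟩
    obtain ⟨tF, φF, hspanF, hφF, hwFeq, hordF⟩ :=
      Groth.Agent.Lib.Helper26.RefSh.secOrdAt_spec hX F hF x hx (hspec x) wF hwF
    obtain ⟨tG, φG, hspanG, hφG, hwGeq, hordG⟩ :=
      Groth.Agent.Lib.Helper26.RefSh.secOrdAt_spec hX G hG x hx (hspec x) wG hwG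
    have hbijx := Groth.Agent.Lib.Helper26.RefSh.stalkMapₗ_bijective_of_isIso e.hom x
    have hspecne : (G.presheaf.stalkSpecializes (hspec x)).hom tG ≠ 0 := by
      intro h0
      apply hwG
      rw [hwGeq, h0, smul_zero]
    have htG0 : tG ≠ 0 := by
      rintro rfl
      exact hspecne (map_zero _)
    haveI : Module.IsTorsionFree (X.presheaf.stalk x) (G.presheaf.stalk x) := hGtf x
    obtain ⟨u, hunit, hmul⟩ := Groth.Agent.Lib.Helper26.RefSh.unit_relation
      (X.presheaf.stalkSpecializes (hspec x)).hom
      (F.presheaf.stalkSpecializes (hspec x)).hom (G.presheaf.stalkSpecializes (hspec x)).hom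
      (fun a n => Groth.Agent.Lib.Helper26.RefSh.specHom_smul G (hspec x) a n)
      (RefHull.stalkMapₗ e.hom x) hbijx.2 (RefHull.stalkMapₗ e.hom (genericPoint X))
      (fun m => Groth.Agent.Lib.Helper26.RefSh.spec_stalkMap e.hom (hspec x) m)
      wF wG f φF φG tF tG
      (fun m => Submodule.mem_span_singleton.mp (by rw [hspanF]; trivial))
      (fun n => Submodule.mem_span_singleton.mp (by rw [hspanG]; trivial))
      hwFeq hwGeq hf
      (fun a b h => smul_left_injective (X.presheaf.stalk (genericPoint X)) hspecne h)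
      (fun a b h => smul_left_injective (X.presheaf.stalk x) htG0 h)
    have hu0 : (X.presheaf.stalkSpecializes (hspec x)).hom u ≠ 0 :=
      (hunit.map (X.presheaf.stalkSpecializes (hspec x)).hom).ne_zero
    have h1 := Scheme.ord_mul (x := x) hφF hu0
    have h2 := Scheme.ord_mul (x := x) hf0 hφG
    have h3 := Groth.Agent.Lib.Helper26.RefSh.ord_spec_unit x hx (hspec x) u hunit
    have h4 : Scheme.ord (φF * (X.presheaf.stalkSpecializes (hspec x)).hom u) x =
        Scheme.ord (f * φG) x := congrArg (fun z => Scheme.ord z x) hmul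
    have h5 : Scheme.ord φF x + Scheme.ord ((X.presheaf.stalkSpecializes (hspec x)).hom u) x =
        Scheme.ord f x + Scheme.ord φG x := h1.symm.trans (h4.trans h2)
    have h6 : Scheme.ord φF x = Scheme.ord φG x + Scheme.ord f x := by
      have h7 : Scheme.ord φF x + 0 = Scheme.ord f x + Scheme.ord φG x :=
        (congrArg (fun z => Scheme.ord φF x + z) h3.symm).trans h5
      omega
    exact hordF.trans (h6.trans (congrArg (fun z => z + Scheme.ord f x) hordG.symm))
  · rintro ⟨f, hf0, hord⟩
    obtain ⟨f', hff'⟩ :=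
      Groth.Agent.Lib.Helper26.RefSh.isField_stalk_genericPoint.mul_inv_cancel hf0
    have hf'0 : f' ≠ 0 := by
      rintro rfl
      rw [mul_zero] at hff'
      exact zero_ne_one hff'
    have hf'f : f' * f = 1 := (mul_comm f' f).trans hff'
    obtain ⟨T, hT⟩ := Groth.Agent.Lib.Helper26.RefSh.exists_linearMap_of_generator wF hwF hgenF
      (f • wG)
    obtain ⟨T', hT'⟩ := Groth.Agent.Lib.Helper26.RefSh.exists_linearMap_of_generator wG hwG hgenG
      (f' • wF)
    have hT'T : ∀ m, T' (T m) = m := fun m =>
      Groth.Agent.Lib.Helper26.RefSh.linearMap_eq_of_generator wF hgenF (T'.comp T)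
        LinearMap.id (by
          show T' (T wF) = wF
          rw [hT, map_smul, hT', smul_smul, hff', one_smul]) m
    have hTT' : ∀ m, T (T' m) = m := fun m =>
      Groth.Agent.Lib.Helper26.RefSh.linearMap_eq_of_generator wG hgenG (T.comp T')
        LinearMap.id (by
          show T (T' wG) = wG
          rw [hT', map_smul, hT, smul_smul, hf'f, one_smul]) m
    have hcondF : ∀ x : X, ringKrullDim (X.presheaf.stalk x) = 1 →
        ∀ hsp : genericPoint X ⤳ x, ∀ g : F.presheaf.stalk x, ∃ n : G.presheaf.stalk x,
          (G.presheaf.stalkSpecializes hsp).hom n =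
            T ((F.presheaf.stalkSpecializes hsp).hom g) := by
      intro x hdim hsp g
      have hx := Groth.Agent.Lib.Helper26.RefSh.coheight_eq_one_of_ringKrullDim x hdim
      exact Groth.Agent.Lib.Helper26.RefSh.extension_condition hX F G hF hG wF hwF wG hwG f hf0
        T hT x hx hsp (hord x hx) g
    have hcondG : ∀ x : X, ringKrullDim (X.presheaf.stalk x) = 1 →
        ∀ hsp : genericPoint X ⤳ x, ∀ g : G.presheaf.stalk x, ∃ n : F.presheaf.stalk x,
          (F.presheaf.stalkSpecializes hsp).hom n =
            T' ((G.presheaf.stalkSpecializes hsp).hom g) := by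
      intro x hdim hsp g
      have hx := Groth.Agent.Lib.Helper26.RefSh.coheight_eq_one_of_ringKrullDim x hdim
      have hA : Cyc.secOrdAt F (genericPoint X) x hsp (Submodule.Quotient.mk wF) =
          Cyc.secOrdAt G (genericPoint X) x hsp (Submodule.Quotient.mk wG) + Scheme.ord f x :=
        hord x hx
      have h1 := Scheme.ord_mul (x := x) hf0 hf'0
      have h2 : Scheme.ord (f * f') x = Scheme.ord (1 : X.functionField) x :=
        congrArg (fun z => Scheme.ord z x) hff'
      have h3 := Groth.Agent.Lib.Helper26.RefSh.ord_one x hx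
      have hsum : Scheme.ord f x + Scheme.ord f' x = 0 := h1.symm.trans (h2.trans h3)
      have hB : Cyc.secOrdAt G (genericPoint X) x hsp (Submodule.Quotient.mk wG) =
          Cyc.secOrdAt F (genericPoint X) x hsp (Submodule.Quotient.mk wF) + Scheme.ord f' x := by
        omega
      exact Groth.Agent.Lib.Helper26.RefSh.extension_condition hX G F hG hF wG hwG wF hwF f' hf'0
        T' hT' x hx hsp hB g
    obtain ⟨ψ, hψ⟩ := Groth.Agent.Lib.Helper26.RefSh.exists_hom_extending hX F G hF.1 hG.1 hGst T
      hcondF
    obtain ⟨ψ', hψ'⟩ := Groth.Agent.Lib.Helper26.RefSh.exists_hom_extending hX G F hG.1 hF.1 hFst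
      T' hcondG
    have hbij : ∀ y : X, Function.Bijective (RefHull.stalkMapₗ ψ y) := by
      intro y
      have hinjF := Groth.Agent.Lib.Helper26.RefSh.specHom_injective_of_torsionFree F hFtf y
        (hspec y)
      have hinjG := Groth.Agent.Lib.Helper26.RefSh.specHom_injective_of_torsionFree G hGtf y
        (hspec y)
      refine Function.bijective_iff_has_inverse.mpr
        ⟨RefHull.stalkMapₗ ψ' y, fun g => ?_, fun g => ?_⟩
      · apply hinjF
        rw [Groth.Agent.Lib.Helper26.RefSh.spec_stalkMap,
          Groth.Agent.Lib.Helper26.RefSh.spec_stalkMap, hψ, hψ']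
        exact hT'T _
      · apply hinjG
        rw [Groth.Agent.Lib.Helper26.RefSh.spec_stalkMap,
          Groth.Agent.Lib.Helper26.RefSh.spec_stalkMap, hψ', hψ]
        exact hTT' _
    haveI := Groth.Agent.Lib.Helper26.ModIso.isIso_of_stalkMapₗ_bijective ψ hbij
    exact ⟨asIso ψ⟩

end Groth.Agent.S16086
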