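import Groth.Statements.S16090
import Groth.Agent.Lib.Helper26.RefShK


set_option autoImplicit false
universe u
open CategoryTheory CategoryTheory.Limits AlgebraicGeometry TopologicalSpace
open SDiv

namespace Groth.Agent.S16090

/-- The class map is additive for the reflexive tensor product: suppose X is a scheme that is integral,
normal and locally Noetherian, write η for its generic point, and take F and G to be rank one
coherent reflexive O_X-modules with s ∈ F_η, t ∈ G_η nonzero rational sections, with orders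
ord_{x,F}(s), ord_{x,G}(t) at the points x of codimension 1 taken with respect to generators of the
free rank one stalks. Then the reflexive hull (F ⊗_{O_X} G)^** admits a nonzero rational section w
whose order at every codimension-1 point x is ord_{x,F}(s) + ord_{x,G}(t); so the Weil divisor class
of (F ⊗ G)^** is the sum of the classes of F and G. -/
theorem result (X : Scheme.{u}) [IsIntegral X] [IsLocallyNoetherian X]
    (hX : Pi1.IsNormalScheme X) (F G : X.Modules) (hF : RefHull.IsRef1 F) (hG : RefHull.IsRef1 G)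
    (s : Cyc.secFibre F (genericPoint ↥X)) (hs : s ≠ 0) (t : Cyc.secFibre G (genericPoint ↥X)) (ht : t ≠ 0) :
    ∃ w : Cyc.secFibre (RefHull.ddual (CohB1.tensorMod F G)) (genericPoint ↥X), w ≠ 0 ∧
      ∀ (x : ↥X), Order.coheight x = 1 →
        Cyc.secOrdAt (RefHull.ddual (CohB1.tensorMod F G)) (genericPoint ↥X) x
            ((genericPoint_spec ↥X).specializes (Set.mem_univ x)) w =
          Cyc.secOrdAt F (genericPoint ↥X) x ((genericPoint_spec ↥X).specializes (Set.mem_univ x)) s +
            Cyc.secOrdAt G (genericPoint ↥X) x ((genericPoint_spec ↥X).specializes (Set.mem_univ x)) t := by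
  obtain ⟨wF, rfl⟩ := Submodule.Quotient.mk_surjective _ s
  obtain ⟨wG, rfl⟩ := Submodule.Quotient.mk_surjective _ t
  have hwF : wF ≠ 0 := by
    rintro rfl
    exact hs (Submodule.Quotient.mk_zero _)
  have hwG : wG ≠ 0 := by
    rintro rfl
    exact ht (Submodule.Quotient.mk_zero _)
  haveI : F.IsQuasicoherent := hF.1.1
  haveI : G.IsQuasicoherent := hG.1.1
  haveI : F.IsFiniteType := hF.1.2
  haveI : G.IsFiniteType := hG.1.2
  haveI : (CohB1.tensorMod F G).IsQuasicoherent :=
    Groth.Agent.Lib.Helper17.TensorSec.isQuasicoherent_tensorMod F G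
  haveI : (CohB1.tensorMod F G).IsFiniteType :=
    Groth.Agent.Lib.Helper17.TensorSec.isFiniteType_tensorMod F G
  have hP : Coh.IsCoh (CohB1.tensorMod F G) := ⟨inferInstance, inferInstance⟩
  have hMcoh := Groth.Agent.Lib.Helper26.RefSh.isCoh_ddual hP
  haveI : (RefHull.ddual (CohB1.tensorMod F G)).IsQuasicoherent := hMcoh.1
  have hMr : ∀ x : X, RefHull.IsReflexiveAt (RefHull.ddual (CohB1.tensorMod F G)) x := fun x =>
    Groth.Agent.Lib.Helper26.RefSh.isReflexiveAt_dual
      (Groth.Agent.Lib.Helper26.RefSh.isCoh_dual hP) x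
  have hMtf : TorSh.IsTorsionFree (RefHull.ddual (CohB1.tensorMod F G)) := fun x => by
    haveI : Module.IsReflexive (X.presheaf.stalk x)
      ((RefHull.ddual (CohB1.tensorMod F G)).presheaf.stalk x) := hMr x
    infer_instance
  have hcη : Function.Injective
      (RefHull.stalkMapₗ (RefHull.bidualMap (CohB1.tensorMod F G)) (genericPoint X)) :=
    ((Groth.Agent.Lib.Helper26.RefSh.stalkMap_bidual_bijective_iff hP (genericPoint X)).mpr
      (Groth.Agent.Lib.Helper26.RefSh.isReflexiveAt_genericPoint hX hP)).1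
  have hspec : ∀ x : X, genericPoint X ⤳ x :=
    fun x => (genericPoint_spec X).specializes (Set.mem_univ x)
  have hgenF := Groth.Agent.Lib.Helper26.RefSh.generator_of_ne_zero F hF.2.2 wF hwF
  have hgenG := Groth.Agent.Lib.Helper26.RefSh.generator_of_ne_zero G hG.2.2 wG hwG
  have hw0 : Groth.Agent.Lib.Helper26.RefSh.stalkTensor F G (genericPoint X) wF wG ≠ 0 :=
    Groth.Agent.Lib.Helper26.RefSh.stalkTensor_ne_zero F G (genericPoint X) wF hgenF wG hgenG
      hwF hwG
  have hwM : RefHull.stalkMapₗ (RefHull.bidualMap (CohB1.tensorMod F G)) (genericPoint X)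
      (Groth.Agent.Lib.Helper26.RefSh.stalkTensor F G (genericPoint X) wF wG) ≠ 0 :=
    fun h => hw0 (hcη (h.trans (map_zero _).symm))
  refine ⟨Submodule.Quotient.mk
    (RefHull.stalkMapₗ (RefHull.bidualMap (CohB1.tensorMod F G)) (genericPoint X)
      (Groth.Agent.Lib.Helper26.RefSh.stalkTensor F G (genericPoint X) wF wG)), ?_, fun x hx => ?_⟩
  · intro h0
    exact hwM (Groth.Agent.Lib.Helper26.RefSh.mk_secFibre_injective _
      (h0.trans (Submodule.Quotient.mk_zero _).symm))
  · obtain ⟨tF, φF, hspanF, hφF, hwFeq, hordF⟩ :=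
      Groth.Agent.Lib.Helper26.RefSh.secOrdAt_spec hX F hF x hx (hspec x) wF hwF
    obtain ⟨tG, φG, hspanG, hφG, hwGeq, hordG⟩ :=
      Groth.Agent.Lib.Helper26.RefSh.secOrdAt_spec hX G hG x hx (hspec x) wG hwG
    have hdim1 := Groth.Agent.Lib.Helper26.RefSh.ringKrullDim_eq_one_of_coheight x hx
    have hdim : ¬ (2 : WithBot ℕ∞) ≤ ringKrullDim (X.presheaf.stalk x) := by
      rw [hdim1]
      decide
    have hsurj := Groth.Agent.Lib.Helper26.RefSh.surjective_stalkMap_bidual hX hP x hdim
    have hspanM : Submodule.span (X.presheaf.stalk x)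
        {RefHull.stalkMapₗ (RefHull.bidualMap (CohB1.tensorMod F G)) x
          (Groth.Agent.Lib.Helper26.RefSh.stalkTensor F G x tF tG)} = ⊤ := by
      rw [eq_top_iff]
      intro m _
      obtain ⟨p, rfl⟩ := hsurj m
      obtain ⟨r, rfl⟩ := Groth.Agent.Lib.Helper26.RefSh.exists_smul_stalkTensor F G x tF
        (fun f => Submodule.mem_span_singleton.mp (by rw [hspanF]; trivial)) tG
        (fun g => Submodule.mem_span_singleton.mp (by rw [hspanG]; trivial)) p
      rw [map_smul]
      exact Submodule.smul_mem _ _ (Submodule.mem_span_singleton_self _)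
    have hwMeq : RefHull.stalkMapₗ (RefHull.bidualMap (CohB1.tensorMod F G)) (genericPoint X)
        (Groth.Agent.Lib.Helper26.RefSh.stalkTensor F G (genericPoint X) wF wG) =
        (φF * φG) • ((RefHull.ddual (CohB1.tensorMod F G)).presheaf.stalkSpecializes
          (hspec x)).hom (RefHull.stalkMapₗ (RefHull.bidualMap (CohB1.tensorMod F G)) x
            (Groth.Agent.Lib.Helper26.RefSh.stalkTensor F G x tF tG)) := by
      have e1 : Groth.Agent.Lib.Helper26.RefSh.stalkTensor F G (genericPoint X) wF wG =
          (φF * φG) • ((CohB1.tensorMod F G).presheaf.stalkSpecializes (hspec x)).hom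
            (Groth.Agent.Lib.Helper26.RefSh.stalkTensor F G x tF tG) := by
        rw [Groth.Agent.Lib.Helper26.RefSh.spec_stalkTensor, mul_smul,
          ← Groth.Agent.Lib.Helper26.RefSh.stalkTensor_smul_right,
          ← Groth.Agent.Lib.Helper26.RefSh.stalkTensor_smul_left, ← hwFeq, ← hwGeq]
      rw [e1, map_smul, Groth.Agent.Lib.Helper26.RefSh.spec_stalkMap]
    have hmain := Groth.Agent.Lib.Helper26.RefSh.secOrdAt_eq_of_generator
      (RefHull.ddual (CohB1.tensorMod F G)) hMtf x hx (hspec x) _ hspanM (φF * φG)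
      (mul_ne_zero hφF hφG) _ hwM hwMeq
    exact hmain.trans ((Scheme.ord_mul hφF hφG).trans
      (congrArg₂ (fun a b : ℤ => a + b) hordF.symm hordG.symm))

end Groth.Agent.S16090
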