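import Groth.Statements.S16087
import Groth.Agent.Lib.Helper26.RefShR
import Groth.Agent.Lib.Helper1.LocFinCodim1

set_option autoImplicit false
universe u
open CategoryTheory CategoryTheory.Limits AlgebraicGeometry TopologicalSpace
open SDiv

namespace Groth.Agent.S16087

open Groth.Agent.Lib.Helper26 in

/-- The class map takes values in Weil divisor classes and is surjective: suppose X is a normal scheme
that is integral and locally Noetherian, and denote its generic point by η. For a rank one coherent
reflexive O_X-module F and a nonzero rational section s ∈ F_η write ord_{x,F}(s) for the order of s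
with respect to a generator of the free rank one O_{X,x}-module F_x at a point x of codimension 1.
Then (1) the function sending a codimension-1 point x to ord_{x,F}(s) and every other point to 0 has
locally finite support, so it is a Weil divisor; and (2) every Weil divisor D on X (an
integer-valued function with locally finite support vanishing outside the codimension-1 points)
arises this way: D(x) = ord_{x,F}(s) at all codimension-1 points x for some rank one coherent
reflexive F and nonzero s ∈ F_η. -/
theorem result (X : Scheme.{u}) [IsIntegral X] [IsLocallyNoetherian X]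
    (hX : Pi1.IsNormalScheme X) :
    (∀ (F : X.Modules) (hF : RefHull.IsRef1 F) (s : Cyc.secFibre F (genericPoint ↥X)), s ≠ 0 →
        ∃ D : AlgebraicCycle X ℤ, (∀ x : ↥X, Order.coheight x ≠ 1 → D x = 0) ∧
          ∀ (x : ↥X), Order.coheight x = 1 →
            D x = Cyc.secOrdAt F (genericPoint ↥X) x ((genericPoint_spec ↥X).specializes (Set.mem_univ x)) s) ∧
      ∀ D : AlgebraicCycle X ℤ, (∀ x : ↥X, Order.coheight x ≠ 1 → D x = 0) →
        ∃ (F : X.Modules) (_ : RefHull.IsRef1 F) (s : Cyc.secFibre F (genericPoint ↥X)), s ≠ 0 ∧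
          ∀ (x : ↥X), Order.coheight x = 1 →
            D x = Cyc.secOrdAt F (genericPoint ↥X) x ((genericPoint_spec ↥X).specializes (Set.mem_univ x)) s := by
  classical
  have hspec : ∀ x : X, genericPoint X ⤳ x :=
    fun x => (genericPoint_spec X).specializes (Set.mem_univ x)
  constructor
  · intro F hF s hs
    obtain ⟨U₀, hηU₀, hzero⟩ := RefSh.exists_open_secOrdAt_eq_zero hF s hs
    let d : X → ℤ := fun x =>
      if h : Order.coheight x = 1 then Cyc.secOrdAt F (genericPoint X) x (hspec x) s else 0
    have hlf : ∀ z ∈ (Set.univ : Set X), ∃ t ∈ nhds z, (t ∩ Function.support d).Finite := by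
      intro z _
      have hLF := Groth.Agent.Lib.Helper1.LocFinCodim1.locallyFinite_closure X U₀ hηU₀
        (fun i : {x : X // Order.coheight x = 1 ∧ x ∉ U₀} => i.1) Subtype.val_injective
        (fun i => i.2.1) (fun i => i.2.2)
      obtain ⟨t, ht, hfin⟩ := hLF z
      refine ⟨t, ht, (hfin.image Subtype.val).subset ?_⟩
      rintro y ⟨hyt, hy⟩
      have hc : Order.coheight y = 1 := by
        by_contra hc
        exact hy (dif_neg hc)
      have hyU : y ∉ U₀ := by
        intro hyU
        apply hy
        exact (dif_pos hc).trans (hzero y hyU hc)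
      exact ⟨⟨y, hc, hyU⟩, ⟨y, subset_closure rfl, hyt⟩, rfl⟩
    exact ⟨⟨d, fun _ _ => Set.mem_univ _, hlf⟩, fun x hx => dif_neg hx, fun x hx => dif_pos hx⟩
  · intro D hD
    let Ep : X → ℕ := fun x => (D x).toNat
    let En : X → ℕ := fun x => (-D x).toNat
    have hEp : LocallyFiniteSupport Ep := by
      intro z
      obtain ⟨t, ht, hfin⟩ := D.supportLocallyFiniteWithinDomain' z (Set.mem_univ z)
      refine ⟨t, ht, hfin.subset ?_⟩
      rintro y ⟨hyt, hy⟩
      refine ⟨hyt, fun h0 => hy ?_⟩
      have h1 : D y = 0 := h0
      show (D y).toNat = 0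
      rw [h1]
      rfl
    have hEn : LocallyFiniteSupport En := by
      intro z
      obtain ⟨t, ht, hfin⟩ := D.supportLocallyFiniteWithinDomain' z (Set.mem_univ z)
      refine ⟨t, ht, hfin.subset ?_⟩
      rintro y ⟨hyt, hy⟩
      refine ⟨hyt, fun h0 => hy ?_⟩
      have h1 : D y = 0 := h0
      show (-D y).toNat = 0
      rw [h1]
      rfl
    obtain ⟨Fp, hFp, sp, hsp0, hordp⟩ := RefSh.exists_ref1_neg hX hEp
    obtain ⟨Fn, hFn, sn, hsn0, hordn⟩ := RefSh.exists_ref1_neg hX hEn
    obtain ⟨tp, htp0, hordtp⟩ := RefSh.exists_dual_section hX hFp sp hsp0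
    have hDp := RefSh.isRef1_dual hFp
    obtain ⟨w, hw, hordw⟩ :=
      Groth.Agent.S16090.result X hX (RefHull.dual Fp) Fn hDp hFn tp htp0 sn hsn0
    refine ⟨RefHull.ddual (CohB1.tensorMod (RefHull.dual Fp) Fn),
      RefSh.isRef1_ddual_tensorMod hX hDp hFn, w, hw, fun x hx => ?_⟩
    rw [hordw x hx, hordtp x hx, hordp x hx, hordn x hx]
    show D x = - -((D x).toNat : ℤ) + -((-D x).toNat : ℤ)
    omega

end Groth.Agent.S16087
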