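import Groth.Statements.S13055
import Mathlib
import Groth.Agent.Lib.Helper18.ExpLog

set_option autoImplicit false
universe u
open CategoryTheory AlgebraicGeometry
open Zeta

namespace Groth.Agent.S13055

/-- Let X be a scheme of finite type over a finite field k with q elements and P = a_d y^d + ⋯ + a_0 ∈
ℤ[y] with N_m = P(q^m) for every m ≥ 1 (X is of polynomial count). Then Z(X, t) = ∏_{i = 0}^{d} (1 −
q^i t)^{−a_i}; stated cleared of denominators, with the factors of positive exponent moved to the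
left. -/
theorem result {k : Type u} [Field k] [Finite k] {X : Scheme.{u}}
    (f : X ⟶ Spec (CommRingCat.of k)) [LocallyOfFiniteType f] [QuasiCompact f] (P : Polynomial ℤ)
    (hP : ∀ m : ℕ, 1 ≤ m → (Zeta.nPts f m : ℤ) = P.eval ((Nat.card k : ℤ) ^ m)) :
    Zeta.zetaFun f * ∏ i ∈ Finset.range (P.natDegree + 1),
        (1 - PowerSeries.C ((Nat.card k : ℚ) ^ i) * PowerSeries.X) ^ (P.coeff i).toNat =
      ∏ i ∈ Finset.range (P.natDegree + 1),
        (1 - PowerSeries.C ((Nat.card k : ℚ) ^ i) * PowerSeries.X) ^ (-P.coeff i).toNat := by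
  classical
  have hcz : ∀ (r : ℚ) (φ : PowerSeries ℚ), PowerSeries.constantCoeff φ = 0 →
      PowerSeries.constantCoeff (r • φ) = 0 := by
    intro r φ h
    rw [← PowerSeries.coeff_zero_eq_constantCoeff_apply, PowerSeries.coeff_smul,
      PowerSeries.coeff_zero_eq_constantCoeff_apply, h, smul_zero]
  have hlam0 : ∀ c : ℚ, PowerSeries.constantCoeff (-Groth.Agent.Lib.Helper18.ExpLog.lam c) = 0 := by
    intro c
    rw [map_neg, Groth.Agent.Lib.Helper18.ExpLog.constantCoeff_lam, neg_zero]
  -- logZeta as a combination of the `lam`s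
  have hlog : Zeta.logZeta f = ∑ i ∈ Finset.range (P.natDegree + 1),
      (P.coeff i : ℚ) • Groth.Agent.Lib.Helper18.ExpLog.lam ((Nat.card k : ℚ) ^ i) := by
    ext m
    rw [Zeta.logZeta, PowerSeries.coeff_mk, map_sum]
    simp only [PowerSeries.coeff_smul, Groth.Agent.Lib.Helper18.ExpLog.lam, PowerSeries.coeff_mk,
      smul_eq_mul]
    by_cases hm : m = 0
    · subst hm; simp
    · have h := hP m (Nat.one_le_iff_ne_zero.mpr hm)
      have h' : (Zeta.nPts f m : ℚ) = ∑ i ∈ Finset.range (P.natDegree + 1),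
          (P.coeff i : ℚ) * ((Nat.card k : ℚ) ^ i) ^ m := by
        have h2 := congrArg (fun z : ℤ => (z : ℚ)) h
        simp only [Int.cast_natCast] at h2
        rw [h2, Polynomial.eval_eq_sum_range]
        push_cast
        refine Finset.sum_congr rfl fun i _ => ?_
        rw [← pow_mul, ← pow_mul, mul_comm m i]
      rw [h', Finset.sum_div]
      refine Finset.sum_congr rfl fun i _ => ?_
      rw [mul_div_assoc]
  have hfac : ∀ (c : ℚ) (n : ℕ), (1 - PowerSeries.C c * PowerSeries.X) ^ n =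
      (PowerSeries.exp ℚ).subst ((n : ℚ) • (-Groth.Agent.Lib.Helper18.ExpLog.lam c)) := by
    intro c n
    rw [Nat.cast_smul_eq_nsmul, Groth.Agent.Lib.Helper18.ExpLog.exp_subst_nsmul n (hlam0 c),
      Groth.Agent.Lib.Helper18.ExpLog.exp_subst_neg_lam]
  simp_rw [hfac]
  rw [Zeta.zetaFun, hlog,
    ← Groth.Agent.Lib.Helper18.ExpLog.exp_subst_sum _ _ (fun i _ => hcz _ _ (hlam0 _)),
    ← Groth.Agent.Lib.Helper18.ExpLog.exp_subst_sum _ _ (fun i _ => hcz _ _ (hlam0 _)),
    ← Groth.Agent.Lib.Helper18.ExpLog.exp_subst_add, ← Finset.sum_add_distrib]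
  · congr 1
    refine Finset.sum_congr rfl fun i _ => ?_
    have h1 := Int.toNat_sub_toNat_neg (P.coeff i)
    have h2 : (P.coeff i : ℚ) = ((P.coeff i).toNat : ℚ) - ((-P.coeff i).toNat : ℚ) := by
      have h3 := congrArg (fun z : ℤ => (z : ℚ)) h1
      simp only [Int.cast_sub, Int.cast_natCast] at h3
      exact h3.symm
    rw [h2, sub_smul, smul_neg, smul_neg]
    abel
  · rw [map_sum]
    exact Finset.sum_eq_zero fun i _ =>
      hcz _ _ (Groth.Agent.Lib.Helper18.ExpLog.constantCoeff_lam _)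
  · rw [map_sum]
    exact Finset.sum_eq_zero fun i _ => hcz _ _ (hlam0 _)

end Groth.Agent.S13055
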