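import Groth.Statements.S18404
import Mathlib
import Groth.Agent.Lib.Helper27.CubicPlane

set_option autoImplicit false
universe u
open Cubic

namespace Groth.Agent.S18404

open MvPolynomial in
/-- Let k ∈ ℂ with k³ ≠ 1 and let h = X₀³ + X₁³ + X₂³ − 3k·X₀X₁X₂ be the Hesse cubic. For a nonzero
vector v with h(v) = 0, the corresponding point is a flex of the plane curve of h — some line
through it meets the curve there with multiplicity three, i.e. there is a vector w linearly
independent from v with h(v + t·w) = t³·h(w) for every t — exactly when v is a scalar multiple of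
one of the nine vectors (0, 1, −γ), (−γ, 0, 1), (1, −γ, 0) with γ³ = 1. -/
theorem result (k : ℂ) (hk : k ^ 3 ≠ 1) (v : Fin 3 → ℂ) (hv : v ≠ 0)
    (hCv : eval v (HesseCubic.form k) = 0) :
    (∃ w : Fin 3 → ℂ, LinearIndependent ℂ ![v, w] ∧
        ∀ t : ℂ, eval (v + t • w) (HesseCubic.form k) = t ^ 3 * eval w (HesseCubic.form k)) ↔
      ∃ γ c : ℂ, γ ^ 3 = 1 ∧ (v = c • ![0, 1, -γ] ∨ v = c • ![-γ, 0, 1] ∨ v = c • ![1, -γ, 0]) := by
  open Groth.Agent.Lib.Helper27.Cubic in
  constructor
  · rintro ⟨w, hlin, hw⟩
    have hxyz := hesse_flex_coord_zero k hk v w hCv hlin hw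
    rw [hesse_eval] at hCv
    have hv' : v 0 ≠ 0 ∨ v 1 ≠ 0 ∨ v 2 ≠ 0 := by
      by_contra hcon
      push Not at hcon
      apply hv
      funext i
      fin_cases i
      · exact hcon.1
      · exact hcon.2.1
      · exact hcon.2.2
    rcases mul_eq_zero.mp hxyz with hxy | hz
    · rcases mul_eq_zero.mp hxy with hx | hy
      · -- v 0 = 0
        have h1 : v 1 ≠ 0 := by
          intro h1
          have : v 2 ^ 3 = 0 := by rw [hx, h1] at hCv; linear_combination hCv
          have h2 : v 2 = 0 := by simpa using this
          rcases hv' with h | h | h <;> contradiction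
        refine ⟨-(v 2 / v 1), v 1, ?_, Or.inl ?_⟩
        · field_simp
          rw [hx] at hCv
          linear_combination -hCv
        · funext i
          fin_cases i
          · simp [hx]
          · simp
          · simp; field_simp
      · -- v 1 = 0
        have h2 : v 2 ≠ 0 := by
          intro h2
          have : v 0 ^ 3 = 0 := by rw [hy, h2] at hCv; linear_combination hCv
          have h0 : v 0 = 0 := by simpa using this
          rcases hv' with h | h | h <;> contradiction
        refine ⟨-(v 0 / v 2), v 2, ?_, Or.inr (Or.inl ?_)⟩
        · field_simp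
          rw [hy] at hCv
          linear_combination -hCv
        · funext i
          fin_cases i
          · simp; field_simp
          · simp [hy]
          · simp
    · -- v 2 = 0
      have h0 : v 0 ≠ 0 := by
        intro h0
        have : v 1 ^ 3 = 0 := by rw [hz, h0] at hCv; linear_combination hCv
        have h1 : v 1 = 0 := by simpa using this
        rcases hv' with h | h | h <;> contradiction
      refine ⟨-(v 1 / v 0), v 0, ?_, Or.inr (Or.inr ?_)⟩
      · field_simp
        rw [hz] at hCv
        linear_combination -hCv
      · funext i
        fin_cases i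
        · simp
        · simp; field_simp
        · simp [hz]
  · rintro ⟨γ, c, hγ, hcase⟩
    have hc : c ≠ 0 := by
      rintro rfl
      apply hv
      rcases hcase with h | h | h <;> simpa using h
    rcases hcase with h | h | h
    · refine ⟨![1, -(k * γ), 0], ?_, ?_⟩
      · rw [LinearIndependent.pair_iff]
        intro s t hst
        have e0 := congrFun hst 0
        have e1 := congrFun hst 1
        simp [h] at e0 e1
        subst e0
        simpa [hc] using e1
      · intro t
        simp only [hesse_eval, h, Pi.add_apply, Pi.smul_apply, smul_eq_mul]
        simp only [Matrix.cons_val_zero, Matrix.cons_val_one, Matrix.cons_val_two, Matrix.head_cons,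
          Matrix.tail_cons]
        linear_combination (-c ^ 3) * hγ
    · refine ⟨![0, 1, -(k * γ)], ?_, ?_⟩
      · rw [LinearIndependent.pair_iff]
        intro s t hst
        have e1 := congrFun hst 1
        have e2 := congrFun hst 2
        simp [h] at e1 e2
        subst e1
        simpa [hc] using e2
      · intro t
        simp only [hesse_eval, h, Pi.add_apply, Pi.smul_apply, smul_eq_mul]
        simp only [Matrix.cons_val_zero, Matrix.cons_val_one, Matrix.cons_val_two, Matrix.head_cons,
          Matrix.tail_cons]
        linear_combination (-c ^ 3) * hγ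
    · refine ⟨![-(k * γ), 0, 1], ?_, ?_⟩
      · rw [LinearIndependent.pair_iff]
        intro s t hst
        have e2 := congrFun hst 2
        have e0 := congrFun hst 0
        simp [h] at e0 e2
        subst e2
        simpa [hc] using e0
      · intro t
        simp only [hesse_eval, h, Pi.add_apply, Pi.smul_apply, smul_eq_mul]
        simp only [Matrix.cons_val_zero, Matrix.cons_val_one, Matrix.cons_val_two, Matrix.head_cons,
          Matrix.tail_cons]
        linear_combination (-c ^ 3) * hγ

end Groth.Agent.S18404
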