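import Groth.Statements.S11525
import Groth.Agent.Lib.Helper27.AdicBase
open Groth.Agent.Lib.Helper27

set_option autoImplicit false
universe u
open AdicRing

namespace Groth.Agent.S11525

/-- Let R be a base ring of class (N) or (V) for the ideal I and A an R-algebra topologically of finite
type without I-power torsion. Then A is topologically of finite presentation. -/
theorem result
    (R : Type u) [CommRing R] (I : Ideal R) (hR : AdicRing.IsBase R I)
    (A : Type u) [CommRing A] [Algebra R A] (hA : AdicRing.TopFiniteType R I A)
    (hT : AdicRing.NoPowTorsion I A) :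
    AdicRing.TopFinitePresentation R I A := by
  obtain ⟨n, φ, hφ⟩ := hA
  refine ⟨n, φ, hφ, ?_⟩
  obtain ⟨hc, h | h⟩ := hR
  · obtain ⟨hN, _⟩ := h
    haveI := hN
    haveI := AdicBase.isNoetherianRing_rpow R I n
    exact IsNoetherian.noetherian _
  · obtain ⟨hD, hV, hK, t, ht, rfl⟩ := h
    haveI := hD
    haveI := hV
    haveI : ValuationRing R := {}
    haveI := hK
    haveI := hc
    apply RPowKey.fg_of_saturated_tft R t ht (RPow R (Ideal.span {t}) n)
      (AdicBase.tft_rpow R _ n) (RPow R (Ideal.span {t}) n) (RingHom.ker φ.toRingHom)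
    intro x hx
    rw [RingHom.mem_ker] at hx ⊢
    have h1 : t • φ x = 0 := by
      have : φ.toRingHom (t • x) = t • φ x := map_smul φ t x
      rw [← this, hx]
    apply hT (φ x) 1
    intro a ha
    rw [pow_one, Ideal.mem_span_singleton] at ha
    obtain ⟨b, rfl⟩ := ha
    rw [mul_comm, mul_smul, h1, smul_zero]

end Groth.Agent.S11525
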