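import Groth.Statements.S7138
import Groth.Agent.S0549
import Groth.Agent.Lib.Helper27.ApxA
import Groth.Agent.Lib.Helper27.KrF

set_option autoImplicit false
universe u
open EtAlg

namespace Groth.Agent.S7138

open TensorProduct in
/-- Let A be a discrete valuation ring, K its field of fractions, A^ its completion and K^ the fraction
field of A^. Every finite separable extension M of K^ arises by base change: M ≅ K^ ⊗_K L as
K^-algebras for some finite separable extension L/K. -/
theorem result (A K : Type u) [CommRing A] [IsDomain A]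
    [IsDiscreteValuationRing A] [Field K] [Algebra A K] [IsFractionRing A K]
    (Kh : Type u) [Field Kh] [Algebra (AdicCompletion (IsLocalRing.maximalIdeal A) A) Kh]
    [IsFractionRing (AdicCompletion (IsLocalRing.maximalIdeal A) A) Kh] [Algebra A Kh] [Algebra K Kh]
    [IsScalarTower A (AdicCompletion (IsLocalRing.maximalIdeal A) A) Kh] [IsScalarTower A K Kh]
    (M : Type u) [Field M] [Algebra Kh M] [FiniteDimensional Kh M] [Algebra.IsSeparable Kh M] :
    ∃ (L : Type u) (_ : Field L) (_ : Algebra K L), FiniteDimensional K L ∧ Algebra.IsSeparable K L ∧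
      Nonempty ((Kh ⊗[K] L) ≃ₐ[Kh] M) := by
  classical
  obtain ⟨hdom, hdvr⟩ := (Groth.Agent.S0549.result A).1 ⟨inferInstance, inferInstance⟩
  have hdense : ∀ (N : ℕ) (x : AdicCompletion (IsLocalRing.maximalIdeal A) A),
      ∃ a : A, x - algebraMap A (AdicCompletion (IsLocalRing.maximalIdeal A) A) a ∈
        IsLocalRing.maximalIdeal (AdicCompletion (IsLocalRing.maximalIdeal A) A) ^ N := by
    intro N x
    obtain ⟨a, ha⟩ := Groth.Agent.Lib.Helper27.ApxA.exists_sub_mem (IsLocalRing.maximalIdeal A)
      (IsNoetherian.noetherian _) N x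
    refine ⟨a, ?_⟩
    rw [AdicCompletion.maximalIdeal_eq_map, ← Ideal.map_pow]
    exact ha
  obtain ⟨G, hG, ⟨e⟩⟩ := Groth.Agent.Lib.Helper27.KrE.exists_poly A
    (AdicCompletion (IsLocalRing.maximalIdeal A) A) Kh M hdense
  exact Groth.Agent.Lib.Helper27.KrF.exists_field A K Kh M G hG e

end Groth.Agent.S7138
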