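import Groth.Statements.S5338
import Mathlib
import Groth.Agent.Lib.Helper9.NilpFlat

set_option autoImplicit false
universe u
open CategoryTheory CategoryTheory.Limits MonoidalCategory CartesianMonoidalCategory MonObj GrpObj AlgebraicGeometry
open SGA3

namespace Groth.Agent.S5338


section
open TensorProduct Groth.Agent.Lib.Helper9.NilpFlat

variable (A B C : Type u) [CommRing A] [CommRing B] [CommRing C]
    [Algebra A B] [Algebra B C] [Algebra A C] [IsScalarTower A B C] (n : Ideal A)

lemma map_map_eq : (n.map (algebraMap A B)).map (algebraMap B C) = n.map (algebraMap A C) := by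
  rw [Ideal.map_map, ← IsScalarTower.algebraMap_eq]

lemma mem_smul_top_iff (c : C) :
    c ∈ n • (⊤ : Submodule A C) ↔ c ∈ (n.map (algebraMap A B)).map (algebraMap B C) := by
  rw [map_map_eq, Ideal.smul_top_eq_map]; rfl

theorem part1 (hn : IsNilpotent n)
    (h : Algebra.FiniteType (B ⧸ n.map (algebraMap A B))
      (C ⧸ (n.map (algebraMap A B)).map (algebraMap B C))) :
    Algebra.FiniteType B C := by
  classical
  obtain ⟨s, hs⟩ := h.out
  let lift : C ⧸ (n.map (algebraMap A B)).map (algebraMap B C) → C :=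
    Function.surjInv Ideal.Quotient.mk_surjective
  have hlift : ∀ y, Ideal.Quotient.mk ((n.map (algebraMap A B)).map (algebraMap B C)) (lift y) = y :=
    Function.surjInv_eq _
  let t : Finset C := s.image lift
  let B' : Subalgebra B C := Algebra.adjoin B (t : Set C)
  have h1 : ∀ y ∈ Algebra.adjoin (B ⧸ n.map (algebraMap A B))
      (s : Set (C ⧸ (n.map (algebraMap A B)).map (algebraMap B C))),
      ∃ b' ∈ B', Ideal.Quotient.mk ((n.map (algebraMap A B)).map (algebraMap B C)) b' = y := by
    intro y hy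
    induction hy using Algebra.adjoin_induction with
    | mem y hy =>
      exact ⟨lift y, Algebra.subset_adjoin (Finset.mem_coe.mpr (Finset.mem_image_of_mem _ hy)),
        hlift y⟩
    | algebraMap r =>
      obtain ⟨b, rfl⟩ := Ideal.Quotient.mk_surjective r
      exact ⟨algebraMap B C b, Subalgebra.algebraMap_mem _ _, rfl⟩
    | add y z _ _ hy hz =>
      obtain ⟨y', hy', rfl⟩ := hy; obtain ⟨z', hz', rfl⟩ := hz
      exact ⟨y' + z', add_mem hy' hz', map_add _ _ _⟩
    | mul y z _ _ hy hz =>
      obtain ⟨y', hy', rfl⟩ := hy; obtain ⟨z', hz', rfl⟩ := hz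
      exact ⟨y' * z', mul_mem hy' hz', map_mul _ _ _⟩
  have h2 : ∀ c : C, ∃ b' ∈ B', c - b' ∈ n • (⊤ : Submodule A C) := by
    intro c
    obtain ⟨b', hb', hb'c⟩ := h1 (Ideal.Quotient.mk _ c) (by rw [hs]; trivial)
    refine ⟨b', hb', ?_⟩
    rw [mem_smul_top_iff A B C n, ← Ideal.Quotient.eq]
    exact hb'c.symm
  let B'A : Submodule A C := (Subalgebra.toSubmodule B').restrictScalars A
  have h3 : ∀ q : C ⧸ B'A, q = 0 := by
    apply eq_zero_of_forall_mem_smul n hn
    intro q
    obtain ⟨c, rfl⟩ := Submodule.Quotient.mk_surjective _ q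
    obtain ⟨b', hb', hcb⟩ := h2 c
    have hb'' : b' ∈ B'A := hb'
    have e1 : Submodule.Quotient.mk (p := B'A) c = B'A.mkQ (c - b') := by
      rw [map_sub, Submodule.mkQ_apply, Submodule.mkQ_apply,
        (Submodule.Quotient.mk_eq_zero (p := B'A)).mpr hb'', sub_zero]
    rw [e1]
    have e2 : B'A.mkQ (c - b') ∈ (n • (⊤ : Submodule A C)).map B'A.mkQ :=
      Submodule.mem_map_of_mem hcb
    rw [Submodule.map_smul''] at e2
    exact Submodule.smul_mono le_rfl le_top e2
  refine ⟨⟨t, ?_⟩⟩
  rw [eq_top_iff]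
  intro c _
  have := h3 (Submodule.Quotient.mk c)
  rw [Submodule.Quotient.mk_eq_zero] at this
  exact this

theorem part2 (hn : IsNilpotent n) [Module.Flat A C]
    (hFT : Algebra.FiniteType B C)
    (h : Algebra.FinitePresentation (B ⧸ n.map (algebraMap A B))
      (C ⧸ (n.map (algebraMap A B)).map (algebraMap B C))) :
    Algebra.FinitePresentation B C := by
  classical
  obtain ⟨r, f, hf⟩ := Algebra.FiniteType.iff_quotient_mvPolynomial''.mp hFT
  let φ : MvPolynomial (Fin r) B →+* MvPolynomial (Fin r) (B ⧸ n.map (algebraMap A B)) :=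
    MvPolynomial.map (Ideal.Quotient.mk (n.map (algebraMap A B)))
  have hφ : Function.Surjective φ := MvPolynomial.map_surjective _ Ideal.Quotient.mk_surjective
  let fbar : MvPolynomial (Fin r) (B ⧸ n.map (algebraMap A B)) →ₐ[B ⧸ n.map (algebraMap A B)]
      (C ⧸ (n.map (algebraMap A B)).map (algebraMap B C)) :=
    MvPolynomial.aeval (fun i => Ideal.Quotient.mk _ (f (MvPolynomial.X i)))
  have hcomm : ∀ p, fbar (φ p) =
      Ideal.Quotient.mk ((n.map (algebraMap A B)).map (algebraMap B C)) (f p) := by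
    intro p
    have : (fbar : MvPolynomial (Fin r) (B ⧸ n.map (algebraMap A B)) →+*
        (C ⧸ (n.map (algebraMap A B)).map (algebraMap B C))).comp φ =
        (Ideal.Quotient.mk ((n.map (algebraMap A B)).map (algebraMap B C))).comp
          (f : MvPolynomial (Fin r) B →+* C) := by
      apply MvPolynomial.ringHom_ext
      · intro b
        simp only [RingHom.comp_apply, φ, fbar, MvPolynomial.map_C, RingHom.coe_coe,
          MvPolynomial.algHom_C]
        rfl
      · intro i
        simp only [RingHom.comp_apply, φ, fbar, MvPolynomial.map_X, RingHom.coe_coe,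
          MvPolynomial.aeval_X]
    exact RingHom.congr_fun this p
  have hfbar : Function.Surjective fbar := by
    intro y
    obtain ⟨c, rfl⟩ := Ideal.Quotient.mk_surjective y
    obtain ⟨p, rfl⟩ := hf c
    exact ⟨φ p, hcomm p⟩
  have hFG : (RingHom.ker fbar.toRingHom).FG :=
    Algebra.FinitePresentation.ker_fG_of_surjective fbar hfbar
  obtain ⟨s, hs⟩ := hFG
  set K : Ideal (MvPolynomial (Fin r) B) := RingHom.ker f.toRingHom with hK
  have hmemK : ∀ p, p ∈ K ↔ f p = 0 := fun p => Iff.rfl
  have hkerφ_iff : ∀ p, p ∈ n • (⊤ : Submodule A (MvPolynomial (Fin r) B)) ↔ φ p = 0 := by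
    intro p
    have h0 : n.map (algebraMap A (MvPolynomial (Fin r) B)) =
        (n.map (algebraMap A B)).map (MvPolynomial.C) := by
      rw [Ideal.map_map]; rfl
    have h1 : RingHom.ker φ = (n.map (algebraMap A B)).map MvPolynomial.C := by
      show RingHom.ker (MvPolynomial.map _) = _
      rw [MvPolynomial.ker_map, Ideal.mk_ker]
    rw [Ideal.smul_top_eq_map, Submodule.restrictScalars_mem, h0, ← h1, RingHom.mem_ker]
  let fA : MvPolynomial (Fin r) B →ₗ[A] C := (f.restrictScalars A).toLinearMap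
  have hfA : ∀ p, fA p = f p := fun _ => rfl
  have h2 : ∀ c ∈ n • (⊤ : Submodule A C),
      ∃ p' ∈ n • (⊤ : Submodule A (MvPolynomial (Fin r) B)), f p' = c := by
    intro c hc
    refine Submodule.smul_induction_on hc ?_ ?_
    · intro a ha c _
      obtain ⟨p', rfl⟩ := hf c
      refine ⟨a • p', Submodule.smul_mem_smul ha Submodule.mem_top, ?_⟩
      rw [← hfA, map_smul, hfA]
    · rintro c d ⟨p1, hp1, rfl⟩ ⟨p2, hp2, rfl⟩
      exact ⟨p1 + p2, add_mem hp1 hp2, map_add _ _ _⟩
  have hlift : ∀ x : MvPolynomial (Fin r) (B ⧸ n.map (algebraMap A B)),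
      ∃ k : MvPolynomial (Fin r) B,
      x ∈ RingHom.ker fbar.toRingHom → (k ∈ K ∧ φ k = x) := by
    intro x
    by_cases hx : x ∈ RingHom.ker fbar.toRingHom
    · obtain ⟨p, rfl⟩ := hφ x
      have h1 : Ideal.Quotient.mk ((n.map (algebraMap A B)).map (algebraMap B C)) (f p) = 0 := by
        rw [← hcomm]; exact hx
      rw [Ideal.Quotient.eq_zero_iff_mem, ← mem_smul_top_iff A B C n] at h1
      obtain ⟨p', hp', hfp'⟩ := h2 _ h1
      refine ⟨p - p', fun _ => ⟨?_, ?_⟩⟩
      · rw [hmemK, map_sub, hfp', sub_self]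
      · rw [map_sub, (hkerφ_iff p').mp hp', sub_zero]
    · exact ⟨0, fun h => absurd h hx⟩
  choose g hg using hlift
  have hsker : ∀ x ∈ s, x ∈ RingHom.ker fbar.toRingHom := fun x hx => by
    rw [← hs]; exact Ideal.subset_span hx
  let K₀ : Ideal (MvPolynomial (Fin r) B) := Ideal.span ((s.image g : Finset _) : Set _)
  have hK₀K : K₀ ≤ K := by
    rw [Ideal.span_le]
    intro k hk
    rw [Finset.coe_image] at hk
    obtain ⟨x, hx, rfl⟩ := hk
    exact (hg x (hsker x hx)).1
  have h3 : ∀ y ∈ Ideal.span (s : Set (MvPolynomial (Fin r) (B ⧸ n.map (algebraMap A B)))),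
      ∃ k₀ ∈ K₀, φ k₀ = y := by
    intro y hy
    induction hy using Submodule.span_induction with
    | mem y hy =>
      exact ⟨g y, Ideal.subset_span (by rw [Finset.coe_image]; exact ⟨y, hy, rfl⟩),
        (hg y (hsker y hy)).2⟩
    | zero => exact ⟨0, zero_mem _, map_zero _⟩
    | add y z _ _ hy hz =>
      obtain ⟨y', hy', rfl⟩ := hy; obtain ⟨z', hz', rfl⟩ := hz
      exact ⟨y' + z', add_mem hy' hz', map_add _ _ _⟩
    | smul a y _ hy =>
      obtain ⟨y', hy', rfl⟩ := hy
      obtain ⟨a', rfl⟩ := hφ a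
      exact ⟨a' * y', K₀.mul_mem_left _ hy', by rw [map_mul, smul_eq_mul]⟩
  let KA : Submodule A (MvPolynomial (Fin r) B) := K.restrictScalars A
  have hex : Function.Exact KA.subtype fA := by
    intro p
    constructor
    · intro hp; exact ⟨⟨p, hp⟩, rfl⟩
    · rintro ⟨k, rfl⟩; exact k.2
  have hinj : Function.Injective (KA.subtype.lTensor (A ⧸ n)) :=
    lTensor_quotient_injective n KA.subtype fA KA.injective_subtype hex hf
      (Module.Flat.rTensor_preserves_injective_linearMap _ n.injective_subtype)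
  have hflat : ∀ w : KA, (w : MvPolynomial (Fin r) B) ∈
      n • (⊤ : Submodule A (MvPolynomial (Fin r) B)) → w ∈ n • (⊤ : Submodule A KA) := by
    intro w hw
    rw [← one_tmul_eq_zero_iff] at hw ⊢
    apply hinj
    rw [map_zero, LinearMap.lTensor_tmul]
    exact hw
  let K₀A : Submodule A (MvPolynomial (Fin r) B) := K₀.restrictScalars A
  let N : Submodule A KA := K₀A.comap KA.subtype
  have hX : ∀ x : KA ⧸ N, x = 0 := by
    apply eq_zero_of_forall_mem_smul n hn
    intro x
    obtain ⟨k, rfl⟩ := Submodule.Quotient.mk_surjective _ x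
    have hk : f (k : MvPolynomial (Fin r) B) = 0 := k.2
    obtain ⟨k₀, hk₀, hφk₀⟩ := h3 (φ k) (by
      rw [hs]; show fbar (φ k) = 0; rw [hcomm, hk, map_zero])
    have hk₀K : k₀ ∈ KA := hK₀K hk₀
    have hw : ((k - ⟨k₀, hk₀K⟩ : KA) : MvPolynomial (Fin r) B) ∈
        n • (⊤ : Submodule A (MvPolynomial (Fin r) B)) := by
      rw [hkerφ_iff]
      show φ ((k : MvPolynomial (Fin r) B) - k₀) = 0
      rw [map_sub, hφk₀, sub_self]
    have hk₀N : (⟨k₀, hk₀K⟩ : KA) ∈ N := hk₀
    have e1 : Submodule.Quotient.mk (p := N) k = N.mkQ (k - ⟨k₀, hk₀K⟩) := by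
      rw [map_sub, Submodule.mkQ_apply, Submodule.mkQ_apply,
        (Submodule.Quotient.mk_eq_zero (p := N)).mpr hk₀N, sub_zero]
    rw [e1]
    have e2 : N.mkQ (k - ⟨k₀, hk₀K⟩) ∈ (n • (⊤ : Submodule A KA)).map N.mkQ :=
      Submodule.mem_map_of_mem (hflat _ hw)
    rw [Submodule.map_smul''] at e2
    exact Submodule.smul_mono le_rfl le_top e2
  have hKK₀ : K ≤ K₀ := by
    intro k hk
    have := hX (Submodule.Quotient.mk ⟨k, hk⟩)
    rw [Submodule.Quotient.mk_eq_zero] at this
    exact this
  exact ⟨⟨r, f, hf, ⟨s.image g, le_antisymm hK₀K hKK₀⟩⟩⟩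

end

/-- Let A → B → C be homomorphisms of commutative rings and n a nilpotent ideal of A; write nB and nC
for the extended ideals. (i) If C/nC is a (B/nB)-algebra of finite type, then C is a B-algebra of
finite type. (ii) If moreover C is flat over A and C/nC is a (B/nB)-algebra of finite presentation,
then C is a B-algebra of finite presentation. -/
theorem result (A B C : Type u) [CommRing A] [CommRing B] [CommRing C]
    [Algebra A B] [Algebra B C] [Algebra A C] [IsScalarTower A B C] (n : Ideal A) (hn : IsNilpotent n) :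
    (Algebra.FiniteType (B ⧸ n.map (algebraMap A B)) (C ⧸ (n.map (algebraMap A B)).map (algebraMap B C)) →
      Algebra.FiniteType B C) ∧
    (Module.Flat A C →
      Algebra.FinitePresentation (B ⧸ n.map (algebraMap A B)) (C ⧸ (n.map (algebraMap A B)).map (algebraMap B C)) →
      Algebra.FinitePresentation B C) := by
  refine ⟨fun h => part1 A B C n hn h, fun hfl h => ?_⟩
  haveI := hfl
  haveI := h
  exact part2 A B C n hn (part1 A B C n hn inferInstance) h

end Groth.Agent.S5338
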