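import Groth.Statements.S8804
import Groth.Agent.Lib.Helper15.ComplSemilocal

set_option autoImplicit false
universe u
open AdicRing

namespace Groth.Agent.S8804

/-- Let A be a Noetherian ring which is complete for the adic topology of an ideal I, and let q be a
prime ideal of A. The following are equivalent: (1) I ⊄ q and q is maximal among the primes not
containing I; (5) dim(A/q) = 1 and I ⊄ q; (8) A/q is a one-dimensional complete local ring whose
maximal ideal is the radical of the image of I (stated as: the Krull dimension of A/q is 1, every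
maximal ideal of A/q equals the radical of I(A/q), and A/q is adically complete for that radical).
(The other equivalent forms, for other ideals of definition or for the induced topology, are not
stated.) -/
theorem result (A : Type u) [CommRing A] [IsNoetherianRing A] (I : Ideal A) [IsAdicComplete I A] (q : PrimeSpectrum A) : List.TFAE [¬ I ≤ q.asIdeal ∧ ∀ q' : PrimeSpectrum A, q ≤ q' → ¬ I ≤ q'.asIdeal → q' = q, ringKrullDim (A ⧸ q.asIdeal) = 1 ∧ ¬ I ≤ q.asIdeal, ringKrullDim (A ⧸ q.asIdeal) = 1 ∧ (∀ m : Ideal (A ⧸ q.asIdeal), m.IsMaximal → m = (I.map (Ideal.Quotient.mk q.asIdeal)).radical) ∧ IsAdicComplete (I.map (Ideal.Quotient.mk q.asIdeal)).radical (A ⧸ q.asIdeal)] := by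
  haveI := q.isPrime
  have hjac : I ≤ Ideal.jacobson ⊥ := IsAdicComplete.le_jacobson_bot I
  haveI hcompl : IsAdicComplete (I.map (Ideal.Quotient.mk q.asIdeal)) (A ⧸ q.asIdeal) :=
    Groth.Agent.Lib.Helper15.CS.isAdicComplete_quotient I q.asIdeal
  have hker : RingHom.ker (Ideal.Quotient.mk q.asIdeal) = q.asIdeal := Ideal.mk_ker
  have hKbot : I.map (Ideal.Quotient.mk q.asIdeal) = ⊥ ↔ I ≤ q.asIdeal := by
    rw [Ideal.map_eq_bot_iff_le_ker, hker]
  tfae_have 1 → 3 := by
    rintro ⟨hI, hmaxq⟩
    apply Groth.Agent.Lib.Helper15.ComplSemilocal.main (I.map (Ideal.Quotient.mk q.asIdeal))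
    · exact fun h => hI (hKbot.mp h)
    · intro P hP hP0
      haveI := hP
      by_contra hKP
      have hIq' : ¬ I ≤ P.comap (Ideal.Quotient.mk q.asIdeal) :=
        fun h => hKP (Ideal.map_le_iff_le_comap.mpr h)
      have hqq' : q ≤ ⟨P.comap (Ideal.Quotient.mk q.asIdeal), inferInstance⟩ := by
        show q.asIdeal ≤ P.comap (Ideal.Quotient.mk q.asIdeal)
        intro x hx
        rw [Ideal.mem_comap, Ideal.Quotient.eq_zero_iff_mem.mpr hx]
        exact P.zero_mem
      have heq := hmaxq ⟨P.comap (Ideal.Quotient.mk q.asIdeal), inferInstance⟩ hqq' hIq'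
      apply hP0
      have h1 : P.comap (Ideal.Quotient.mk q.asIdeal) = q.asIdeal :=
        congrArg PrimeSpectrum.asIdeal heq
      rw [← Ideal.map_comap_of_surjective _ Ideal.Quotient.mk_surjective P, h1]
      exact Ideal.map_quotient_self _
  tfae_have 3 → 2 := by
    rintro ⟨hdim, hall, -⟩
    refine ⟨hdim, fun hIq => ?_⟩
    have hK0 : I.map (Ideal.Quotient.mk q.asIdeal) = ⊥ := hKbot.mpr hIq
    have hall' : ∀ m : Ideal (A ⧸ q.asIdeal), m.IsMaximal → m = ⊥ := by
      intro m hm
      rw [hall m hm, hK0]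
      exact Ideal.radical_bot_of_noZeroDivisors
    have h0 : Ring.KrullDimLE 0 (A ⧸ q.asIdeal) := by
      rw [Ring.krullDimLE_zero_iff]
      intro P hP
      obtain ⟨m, hm, hPm⟩ := Ideal.exists_le_maximal P hP.ne_top
      have hm0 := hall' m hm
      have hP0 : P = m := le_antisymm hPm (by rw [hm0]; exact bot_le)
      rw [hP0]
      exact hm
    have h1 := Ring.krullDimLE_iff.mp h0
    rw [hdim, Nat.cast_zero] at h1
    exact absurd h1 (not_le.mpr zero_lt_one)
  tfae_have 2 → 1 := by
    rintro ⟨hdim, hI⟩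
    refine ⟨hI, fun q' hqq' hIq' => ?_⟩
    by_contra hne
    haveI := q'.isPrime
    have hle : q.asIdeal ≤ q'.asIdeal := hqq'
    have hkle : RingHom.ker (Ideal.Quotient.mk q.asIdeal) ≤ q'.asIdeal := by
      rw [hker]; exact hle
    have hPprime : (q'.asIdeal.map (Ideal.Quotient.mk q.asIdeal)).IsPrime :=
      Ideal.map_isPrime_of_surjective Ideal.Quotient.mk_surjective hkle
    have hcomap : (q'.asIdeal.map (Ideal.Quotient.mk q.asIdeal)).comap
        (Ideal.Quotient.mk q.asIdeal) = q'.asIdeal := by
      rw [Ideal.comap_map_of_surjective _ Ideal.Quotient.mk_surjective,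
        ← RingHom.ker_eq_comap_bot, hker]
      exact sup_eq_left.mpr hle
    have hP0 : q'.asIdeal.map (Ideal.Quotient.mk q.asIdeal) ≠ ⊥ := by
      intro h
      apply hne
      apply PrimeSpectrum.ext
      rw [← hcomap, h, ← RingHom.ker_eq_comap_bot, hker]
    haveI : Ring.KrullDimLE 1 (A ⧸ q.asIdeal) := by
      rw [Ring.krullDimLE_iff, hdim, Nat.cast_one]
    haveI hPmax : (q'.asIdeal.map (Ideal.Quotient.mk q.asIdeal)).IsMaximal :=
      hPprime.isMaximal_of_ne_bot hP0
    have hq'max : q'.asIdeal.IsMaximal := by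
      rw [← hcomap]
      exact Ideal.comap_isMaximal_of_surjective _ Ideal.Quotient.mk_surjective
    exact hIq' (hjac.trans (sInf_le ⟨bot_le, hq'max⟩))
  tfae_finish

end Groth.Agent.S8804
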