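import Groth.Statements.S8829
import Groth.Agent.S8804
import Groth.Agent.Lib.Helper15.ComplSemilocal

set_option autoImplicit false
universe u
open AdicRing

namespace Groth.Agent.S8829

theorem finite_of_quot_finite' {A : Type*} [CommRing A] (I : Ideal A) [IsAdicComplete I A]
    (D : Type*) [CommRing D] [Algebra A D] (K : Ideal D) (hK : K = I.map (algebraMap A D))
    [IsHausdorff K D] [Module.Finite A (D ⧸ K)] : Module.Finite A D := by
  subst hK
  exact Groth.Agent.Lib.Helper15.ComplSemilocal.finite_of_quot_finite I D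

/-- In the case of adic Noetherian topological rings: let A be a Noetherian ring complete for the adic
topology of an ideal I, and B a Noetherian A-algebra complete for the IB-adic topology with B/IB of
finite type over A (so A → B is an adic morphism, topologically of finite type). Let q be a
rig-closed prime of B (IB ⊄ q and q maximal among the primes not containing IB) and p its inverse
image in A. Three conditions turn out to be equivalent: (1) whenever m is a maximal ideal of B with
m ⊇ q, the quotient B/m is finite as an A-module (that is, residue fields of B/q are finite over A);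
(2) p is rig-closed in A (I ⊄ p and p maximal among the primes not containing I); (3) B/q is a
finite A-module, i.e. A/p ⊆ B/q is a finite extension of rings. -/
theorem result (A : Type u) [CommRing A] [IsNoetherianRing A] (I : Ideal A) [IsAdicComplete I A] (B : Type u) [CommRing B] [Algebra A B] [IsNoetherianRing B] [IsAdicComplete (I.map (algebraMap A B)) B] (hft : Algebra.FiniteType A (B ⧸ (I.map (algebraMap A B)))) (q : PrimeSpectrum B) (hq : (¬ (I.map (algebraMap A B)) ≤ q.asIdeal ∧ ∀ y : PrimeSpectrum B, q ≤ y → ¬ (I.map (algebraMap A B)) ≤ y.asIdeal → y = q)) : List.TFAE [∀ m : Ideal B, m.IsMaximal → q.asIdeal ≤ m → Module.Finite A (B ⧸ m), (¬ I ≤ (PrimeSpectrum.comap (algebraMap A B) q).asIdeal ∧ ∀ y : PrimeSpectrum A, (PrimeSpectrum.comap (algebraMap A B) q) ≤ y → ¬ I ≤ y.asIdeal → y = (PrimeSpectrum.comap (algebraMap A B) q)), Module.Finite A (B ⧸ q.asIdeal)] := by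
  haveI := q.isPrime
  have hjacB : I.map (algebraMap A B) ≤ Ideal.jacobson ⊥ := IsAdicComplete.le_jacobson_bot _
  tfae_have 3 → 2 := by
    intro h3
    haveI : Module.Finite A (B ⧸ q.asIdeal) := h3
    haveI : Algebra.IsIntegral A (B ⧸ q.asIdeal) := Algebra.IsIntegral.of_finite A _
    refine ⟨fun hIp => hq.1 (Ideal.map_le_iff_le_comap.mpr hIp), fun y hpy hIy => ?_⟩
    haveI := y.isPrime
    have hpy' : q.asIdeal.comap (algebraMap A B) ≤ y.asIdeal := hpy
    have hker : RingHom.ker (algebraMap A (B ⧸ q.asIdeal)) ≤ y.asIdeal := by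
      intro a ha
      apply hpy'
      show algebraMap A B a ∈ q.asIdeal
      exact Ideal.Quotient.eq_zero_iff_mem.mp (RingHom.mem_ker.mp ha)
    obtain ⟨Q', hQ'prime, hQ'⟩ :=
      Ideal.exists_ideal_over_prime_of_isIntegral_of_isDomain (S := B ⧸ q.asIdeal) y.asIdeal hker
    haveI := hQ'prime
    have hqQ : q ≤ ⟨Q'.comap (Ideal.Quotient.mk q.asIdeal), inferInstance⟩ := by
      show q.asIdeal ≤ Q'.comap (Ideal.Quotient.mk q.asIdeal)
      intro x hx
      rw [Ideal.mem_comap, Ideal.Quotient.eq_zero_iff_mem.mpr hx]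
      exact Q'.zero_mem
    have hQy : (Q'.comap (Ideal.Quotient.mk q.asIdeal)).comap (algebraMap A B) = y.asIdeal := by
      rw [← hQ']
      exact Ideal.ext (fun a => Iff.rfl)
    have hIQ : ¬ I.map (algebraMap A B) ≤ Q'.comap (Ideal.Quotient.mk q.asIdeal) := fun h =>
      hIy (by rw [← hQy]; exact Ideal.map_le_iff_le_comap.mp h)
    have hQq := hq.2 ⟨Q'.comap (Ideal.Quotient.mk q.asIdeal), inferInstance⟩ hqQ hIQ
    apply PrimeSpectrum.ext
    show y.asIdeal = q.asIdeal.comap (algebraMap A B)
    rw [← hQy]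
    exact congrArg (fun P : PrimeSpectrum B => P.asIdeal.comap (algebraMap A B)) hQq
  tfae_have 2 → 1 := by
    intro h2 m hm hqm
    haveI := hm
    have hIBm : I.map (algebraMap A B) ≤ m := hjacB.trans (sInf_le ⟨bot_le, hm⟩)
    have hIn : I ≤ m.comap (algebraMap A B) := Ideal.map_le_iff_le_comap.mp hIBm
    have hpn : q.asIdeal.comap (algebraMap A B) ≤ m.comap (algebraMap A B) :=
      Ideal.comap_mono hqm
    have hne : m.comap (algebraMap A B) ≠ q.asIdeal.comap (algebraMap A B) := fun h =>
      h2.1 (by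
        show I ≤ q.asIdeal.comap (algebraMap A B)
        rw [← h]
        exact hIn)
    have h21 := ((Groth.Agent.S8804.result A I (PrimeSpectrum.comap (algebraMap A B) q)).out 0 1).mp h2
    have hdim : ringKrullDim (A ⧸ q.asIdeal.comap (algebraMap A B)) = 1 := h21.1
    haveI : (q.asIdeal.comap (algebraMap A B)).IsPrime := inferInstance
    haveI : (m.comap (algebraMap A B)).IsPrime := inferInstance
    haveI hnmax : (m.comap (algebraMap A B)).IsMaximal :=
      Groth.Agent.Lib.Helper15.ComplSemilocal.isMaximal_of_ne_of_dim_one _ _ hdim hpn hne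
    haveI := hft
    haveI : Algebra.FiniteType A (B ⧸ m) :=
      Algebra.FiniteType.of_surjective (Ideal.Quotient.factorₐ A hIBm)
        (Ideal.Quotient.factor_surjective hIBm)
    haveI : IsScalarTower A (A ⧸ m.comap (algebraMap A B)) (B ⧸ m) :=
      IsScalarTower.of_algebraMap_eq (fun a => rfl)
    haveI : Algebra.FiniteType (A ⧸ m.comap (algebraMap A B)) (B ⧸ m) :=
      Algebra.FiniteType.of_restrictScalars_finiteType A _ _
    haveI : Module.Finite (A ⧸ m.comap (algebraMap A B)) (B ⧸ m) := by
      letI : Field (B ⧸ m) := Ideal.Quotient.field m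
      letI : Field (A ⧸ m.comap (algebraMap A B)) := Ideal.Quotient.field _
      exact finite_of_finite_type_of_isJacobsonRing _ _
    exact Module.Finite.trans (A ⧸ m.comap (algebraMap A B)) (B ⧸ m)
  tfae_have 1 → 3 := by
    intro h1
    obtain ⟨hdimD, hallD, hcomplD⟩ :=
      ((Groth.Agent.S8804.result B (I.map (algebraMap A B)) q).out 0 2).mp hq
    obtain ⟨M, hM⟩ := Ideal.exists_maximal (B ⧸ q.asIdeal)
    have hMrad := hallD M hM
    haveI := hM
    have hmmax : (M.comap (Ideal.Quotient.mk q.asIdeal)).IsMaximal :=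
      Ideal.comap_isMaximal_of_surjective _ Ideal.Quotient.mk_surjective
    have hqm : q.asIdeal ≤ M.comap (Ideal.Quotient.mk q.asIdeal) := by
      intro x hx
      rw [Ideal.mem_comap, Ideal.Quotient.eq_zero_iff_mem.mpr hx]
      exact M.zero_mem
    haveI hfin : Module.Finite A (B ⧸ M.comap (Ideal.Quotient.mk q.asIdeal)) :=
      h1 _ hmmax hqm
    haveI : Module.Finite A ((B ⧸ q.asIdeal) ⧸
        (M.comap (Ideal.Quotient.mk q.asIdeal)).map (Ideal.Quotient.mkₐ A q.asIdeal)) :=
      Module.Finite.equiv (DoubleQuot.quotQuotEquivQuotOfLEₐ A hqm).symm.toLinearEquiv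
    haveI : Algebra.IsIntegral A ((B ⧸ q.asIdeal) ⧸
        (M.comap (Ideal.Quotient.mk q.asIdeal)).map (Ideal.Quotient.mkₐ A q.asIdeal)) :=
      Algebra.IsIntegral.of_finite A _
    have hm'le : (M.comap (Ideal.Quotient.mk q.asIdeal)).map (Ideal.Quotient.mkₐ A q.asIdeal) ≤
        ((I.map (algebraMap A B)).map (Ideal.Quotient.mk q.asIdeal)).radical := by
      rw [← hMrad, Ideal.map_le_iff_le_comap]
      exact fun x hx => hx
    haveI hint : Algebra.IsIntegral A ((B ⧸ q.asIdeal) ⧸
        (I.map (algebraMap A B)).map (Ideal.Quotient.mk q.asIdeal)) :=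
      Groth.Agent.Lib.Helper15.ComplSemilocal.isIntegral_quot_of_radical _ _ hm'le
    haveI := hft
    haveI hftD : Algebra.FiniteType A ((B ⧸ q.asIdeal) ⧸
        (I.map (algebraMap A B)).map (Ideal.Quotient.mk q.asIdeal)) := by
      have h0 : ∀ x ∈ I.map (algebraMap A B),
          ((Ideal.Quotient.mkₐ A
            ((I.map (algebraMap A B)).map (Ideal.Quotient.mk q.asIdeal))).comp
            (Ideal.Quotient.mkₐ A q.asIdeal)) x = 0 := fun x hx =>
        Ideal.Quotient.eq_zero_iff_mem.mpr (Ideal.mem_map_of_mem _ hx)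
      refine Algebra.FiniteType.of_surjective (Ideal.Quotient.liftₐ _ _ h0) ?_
      intro z
      obtain ⟨d, rfl⟩ := Ideal.Quotient.mk_surjective z
      obtain ⟨b, rfl⟩ := Ideal.Quotient.mk_surjective d
      exact ⟨Ideal.Quotient.mk _ b, rfl⟩
    haveI : Module.Finite A ((B ⧸ q.asIdeal) ⧸
        (I.map (algebraMap A B)).map (Ideal.Quotient.mk q.asIdeal)) := Algebra.IsIntegral.finite
    have hKeq : (I.map (algebraMap A B)).map (Ideal.Quotient.mk q.asIdeal) =
        I.map (algebraMap A (B ⧸ q.asIdeal)) := by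
      rw [Ideal.map_map]
      rfl
    haveI hcompl : IsAdicComplete ((I.map (algebraMap A B)).map (Ideal.Quotient.mk q.asIdeal))
        (B ⧸ q.asIdeal) := Groth.Agent.Lib.Helper15.CS.isAdicComplete_quotient _ q.asIdeal
    exact finite_of_quot_finite' I (B ⧸ q.asIdeal) _ hKeq
  tfae_finish

end Groth.Agent.S8829
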