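import Groth.Statements.S8837
import Mathlib

set_option autoImplicit false
universe u
open AdicRing

namespace Groth.Agent.S8837


namespace H8837

open AdicCompletion

abbrev Jf {A : Type u} [CommRing A] (I : Ideal A) (f : A) : Ideal (Localization.Away f) :=
  I.map (algebraMap A (Localization.Away f))

abbrev Cf {A : Type u} [CommRing A] (I : Ideal A) (f : A) : Type u :=
  AdicCompletion (Jf I f) (Localization.Away f)

section
variable {A : Type u} [CommRing A] (p : Ideal A) (f : A)

lemma psi_surj (hf : IsUnit (Ideal.Quotient.mk p f)) (c : Localization.Away f) :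
    ∃ a : A, c - algebraMap A (Localization.Away f) a ∈
      p.map (algebraMap A (Localization.Away f)) := by
  obtain ⟨g', hg'⟩ := hf.exists_right_inv
  obtain ⟨g, rfl⟩ := Ideal.Quotient.mk_surjective g'
  have h1 : f * g - 1 ∈ p := by
    rw [← Ideal.Quotient.eq, map_mul, map_one]; exact hg'
  have h2 : Ideal.Quotient.mk (p.map (algebraMap A (Localization.Away f)))
        (algebraMap A _ f) *
      Ideal.Quotient.mk (p.map (algebraMap A (Localization.Away f))) (algebraMap A _ g) = 1 := by
    rw [← map_mul, ← map_mul, ← map_one (Ideal.Quotient.mk _), Ideal.Quotient.eq,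
      ← map_one (algebraMap A (Localization.Away f)), ← map_sub]
    exact Ideal.mem_map_of_mem _ h1
  obtain ⟨⟨a, s⟩, h⟩ := IsLocalization.surj (Submonoid.powers f) c
  obtain ⟨k, hk⟩ := (Submonoid.mem_powers_iff _ _).mp s.2
  dsimp only at h
  refine ⟨a * g ^ k, ?_⟩
  rw [← Ideal.Quotient.eq]
  calc Ideal.Quotient.mk (p.map (algebraMap A (Localization.Away f))) c
      = Ideal.Quotient.mk _ c * (Ideal.Quotient.mk _ (algebraMap A _ f) *
          Ideal.Quotient.mk _ (algebraMap A _ g)) ^ k := by rw [h2, one_pow, mul_one]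
    _ = Ideal.Quotient.mk _ (c * algebraMap A _ (f ^ k)) *
          Ideal.Quotient.mk _ (algebraMap A _ (g ^ k)) := by
        simp only [map_mul, map_pow]; ring
    _ = Ideal.Quotient.mk _ (algebraMap A _ (a * g ^ k)) := by
        rw [hk, h, ← map_mul, ← map_mul]

variable {r : ℕ} (π : Fin r → A)

lemma map_eq_span {C : Type*} [CommRing C] (φ : A →+* C)
    (hπ : Ideal.span (Set.range π) = p) :
    p.map φ = Ideal.span (Set.range (fun k => φ (π k))) := by
  rw [← hπ, Ideal.map_span, ← Set.range_comp]; rfl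

lemma decomp (hπ : Ideal.span (Set.range π) = p)
    (hf : IsUnit (Ideal.Quotient.mk p f)) (c : Localization.Away f) :
    ∃ a : A, ∃ δ : Fin r → Localization.Away f,
      c = algebraMap A _ a + ∑ k, algebraMap A (Localization.Away f) (π k) * δ k := by
  obtain ⟨a, ha⟩ := psi_surj p f hf c
  rw [map_eq_span p π _ hπ, Ideal.mem_span_range_iff_exists_fun] at ha
  obtain ⟨δ, hδ⟩ := ha
  refine ⟨a, δ, ?_⟩
  have : ∑ k, algebraMap A (Localization.Away f) (π k) * δ k =
      ∑ k, δ k * algebraMap A (Localization.Away f) (π k) :=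
    Finset.sum_congr rfl (fun k _ => mul_comm _ _)
  rw [this, hδ]; ring

lemma decompJ (hπ : Ideal.span (Set.range π) = p) (I : Ideal A)
    (hf : IsUnit (Ideal.Quotient.mk p f)) (n : ℕ) (c : Localization.Away f)
    (hc : c ∈ (Jf I f) ^ n) :
    ∃ a ∈ I ^ n, ∃ γ : Fin r → Localization.Away f,
      (∀ k, γ k ∈ (Jf I f) ^ n) ∧
      c = algebraMap A _ a + ∑ k, algebraMap A (Localization.Away f) (π k) * γ k := by
  have hJ : ∀ a ∈ I ^ n, algebraMap A (Localization.Away f) a ∈ (Jf I f) ^ n := by
    intro a ha; rw [← Ideal.map_pow]; exact Ideal.mem_map_of_mem _ ha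
  rw [← Ideal.map_pow] at hc
  have hc' : c ∈ Submodule.span (Localization.Away f)
      (algebraMap A (Localization.Away f) '' ((I ^ n : Ideal A) : Set A)) := hc
  refine Submodule.span_induction (p := fun c _ => ∃ a ∈ I ^ n, ∃ γ : Fin r → Localization.Away f,
      (∀ k, γ k ∈ (Jf I f) ^ n) ∧
      c = algebraMap A _ a + ∑ k, algebraMap A (Localization.Away f) (π k) * γ k)
    ?_ ?_ ?_ ?_ hc'
  · rintro x ⟨i, hi, rfl⟩
    exact ⟨i, hi, 0, fun _ => zero_mem _, by simp⟩
  · exact ⟨0, zero_mem _, 0, fun _ => zero_mem _, by simp⟩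
  · rintro x y _ _ ⟨a1, ha1, γ1, hγ1, rfl⟩ ⟨a2, ha2, γ2, hγ2, rfl⟩
    refine ⟨a1 + a2, add_mem ha1 ha2, γ1 + γ2, fun k => add_mem (hγ1 k) (hγ2 k), ?_⟩
    simp only [Pi.add_apply, mul_add, Finset.sum_add_distrib, map_add]; ring
  · rintro b x _ ⟨a, ha, γ, hγ, rfl⟩
    obtain ⟨a', δ, hb⟩ := decomp p f π hπ hf b
    refine ⟨a' * a, Ideal.mul_mem_left _ _ ha,
      fun k => δ k * algebraMap A _ a + b * γ k,
      fun k => add_mem (Ideal.mul_mem_left _ _ (hJ a ha)) (Ideal.mul_mem_left _ _ (hγ k)), ?_⟩
    have e1 : ∑ k, algebraMap A (Localization.Away f) (π k) *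
          (δ k * algebraMap A _ a + b * γ k) =
        (∑ k, algebraMap A (Localization.Away f) (π k) * δ k) * algebraMap A _ a +
          b * ∑ k, algebraMap A (Localization.Away f) (π k) * γ k := by
      rw [Finset.sum_mul, Finset.mul_sum, ← Finset.sum_add_distrib]
      exact Finset.sum_congr rfl (fun k _ => by ring)
    rw [e1, map_mul, smul_eq_mul]
    linear_combination (algebraMap A (Localization.Away f) a) * hb

lemma surj (hπ : Ideal.span (Set.range π) = p) (I : Ideal A) [IsPrecomplete I A]
    (hf : IsUnit (Ideal.Quotient.mk p f)) (ξ : Cf I f) :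
    ∃ a : A, ξ - algebraMap A (Cf I f) a ∈ p.map (algebraMap A (Cf I f)) := by
  obtain ⟨b, rfl⟩ := AdicCompletion.mk_surjective (Jf I f) (Localization.Away f) ξ
  have hd : ∀ n, b (n+1) - b n ∈ (Jf I f) ^ n := by
    intro n
    have h := b.2 (Nat.le_succ n)
    rw [SModEq.sub_mem] at h
    have h' : b n - b (n+1) ∈ (Jf I f) ^ n := by simpa using h
    simpa using neg_mem h'
  choose a ha γ hγ hd' using fun n => decompJ p f π hπ I hf n (b (n+1) - b n) (hd n)
  obtain ⟨a', δ, h0⟩ := decomp p f π hπ hf (b 0)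
  let s : ℕ → A := fun n => a' + ∑ m ∈ Finset.range n, a m
  let t : Fin r → ℕ → Localization.Away f := fun k n => δ k + ∑ m ∈ Finset.range n, γ m k
  have hb : ∀ n, b n = algebraMap A _ (s n) +
      ∑ k, algebraMap A (Localization.Away f) (π k) * t k n := by
    intro n
    induction n with
    | zero => simpa [s, t] using h0
    | succ n ih =>
      have h1 : b (n+1) = b n + (algebraMap A _ (a n) +
          ∑ k, algebraMap A (Localization.Away f) (π k) * γ n k) := by
        rw [← hd' n]; ring
      rw [h1, ih]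
      simp only [s, t, Finset.sum_range_succ, map_add, mul_add, Finset.sum_add_distrib]
      ring
  have hs : ∀ n, s n ≡ s (n+1) [SMOD (I ^ n • ⊤ : Submodule A A)] := by
    intro n
    rw [SModEq.sub_mem]
    have : s n - s (n+1) = -(a n) := by simp only [s, Finset.sum_range_succ]; ring
    rw [this]
    simpa using neg_mem (ha n)
  obtain ⟨L, hL⟩ := IsPrecomplete.prec (inferInstance : IsPrecomplete I A)
    (fun {m n} h => (AdicCompletion.isAdicCauchy_iff I A s).mpr hs h)
  have hL' : ∀ n, s n - L ∈ I ^ n := by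
    intro n
    have := hL n
    rw [SModEq.sub_mem] at this
    simpa using this
  have ht : ∀ k n, t k n ≡ t k (n+1)
      [SMOD ((Jf I f) ^ n • ⊤ : Submodule (Localization.Away f) (Localization.Away f))] := by
    intro k n
    rw [SModEq.sub_mem]
    have : t k n - t k (n+1) = -(γ n k) := by simp only [t, Finset.sum_range_succ]; ring
    rw [this]
    simpa using neg_mem (hγ n k)
  let ξ : Fin r → Cf I f := fun k => AdicCompletion.mk (Jf I f) (Localization.Away f)
    (AdicCompletion.AdicCauchySequence.mk (Jf I f) (Localization.Away f) (t k) (ht k))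
  refine ⟨L, ?_⟩
  have key : AdicCompletion.mk (Jf I f) (Localization.Away f) b - algebraMap A (Cf I f) L =
      ∑ k, algebraMap A (Cf I f) (π k) * ξ k := by
    apply AdicCompletion.ext_evalₐ
    intro n
    have e1 : evalₐ (Jf I f) n (AdicCompletion.mk (Jf I f) (Localization.Away f) b) =
        Ideal.Quotient.mk ((Jf I f) ^ n) (b n) := evalₐ_mk (Jf I f) n b
    have e2 : ∀ x : A, evalₐ (Jf I f) n (algebraMap A (Cf I f) x) =
        Ideal.Quotient.mk ((Jf I f) ^ n) (algebraMap A _ x) := by
      intro x; rw [AdicCompletion.algebraMap_apply]; exact evalₐ_of (Jf I f) n _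
    have e4 : ∀ k, evalₐ (Jf I f) n (ξ k) = Ideal.Quotient.mk ((Jf I f) ^ n) (t k n) :=
      fun k => evalₐ_mk (Jf I f) n _
    rw [map_sub, map_sum, e1, e2]
    simp only [map_mul, e2, e4]
    rw [hb n, map_add, map_sum]
    simp only [map_mul]
    have e5 : Ideal.Quotient.mk ((Jf I f) ^ n) (algebraMap A _ (s n)) =
        Ideal.Quotient.mk ((Jf I f) ^ n) (algebraMap A _ L) := by
      rw [Ideal.Quotient.eq, ← map_sub, ← Ideal.map_pow]
      exact Ideal.mem_map_of_mem _ (hL' n)
    rw [e5]; ring
  rw [key]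
  refine Ideal.sum_mem _ (fun k _ => Ideal.mul_mem_right _ _ (Ideal.mem_map_of_mem _ ?_))
  rw [← hπ]; exact Ideal.subset_span (Set.mem_range_self k)

lemma inj (hπ : Ideal.span (Set.range π) = p) (I : Ideal A) [IsNoetherianRing A]
    [IsAdicComplete I A] (hf : IsUnit (Ideal.Quotient.mk p f)) :
    (p.map (algebraMap A (Cf I f))).comap (algebraMap A (Cf I f)) ≤ p := by
  intro x hx
  rw [Ideal.mem_comap, map_eq_span p π _ hπ, Ideal.mem_span_range_iff_exists_fun] at hx
  obtain ⟨ξ, hξ⟩ := hx
  obtain ⟨g', hg'⟩ := hf.exists_right_inv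
  obtain ⟨g, rfl⟩ := Ideal.Quotient.mk_surjective g'
  have hmem : ∀ n, x ∈ I ^ n ⊔ p := by
    intro n
    have h1 := congrArg (evalₐ (Jf I f) n) hξ
    rw [map_sum] at h1
    have e2 : ∀ y : A, evalₐ (Jf I f) n (algebraMap A (Cf I f) y) =
        Ideal.Quotient.mk ((Jf I f) ^ n) (algebraMap A _ y) := by
      intro y; rw [AdicCompletion.algebraMap_apply]; exact evalₐ_of (Jf I f) n _
    simp only [map_mul, e2] at h1
    choose c hc using fun k => Ideal.Quotient.mk_surjective (evalₐ (Jf I f) n (ξ k))
    simp only [← hc] at h1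
    simp only [← map_mul, ← map_sum] at h1
    rw [Ideal.Quotient.eq] at h1
    have h2 : algebraMap A (Localization.Away f) x ∈
        (I ^ n ⊔ p).map (algebraMap A (Localization.Away f)) := by
      rw [Ideal.map_sup, Ideal.map_pow]
      have h3 : algebraMap A (Localization.Away f) x =
          -(∑ k, c k * algebraMap A (Localization.Away f) (π k) - algebraMap A _ x) +
            ∑ k, c k * algebraMap A (Localization.Away f) (π k) := by ring
      rw [h3]
      refine Submodule.add_mem_sup (neg_mem h1)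
        (Ideal.sum_mem _ (fun k _ => Ideal.mul_mem_left _ _ (Ideal.mem_map_of_mem _ ?_)))
      rw [← hπ]; exact Ideal.subset_span (Set.mem_range_self k)
    rw [IsLocalization.algebraMap_mem_map_algebraMap_iff (Submonoid.powers f)] at h2
    obtain ⟨m, hm, hmx⟩ := h2
    obtain ⟨k, rfl⟩ := (Submonoid.mem_powers_iff _ _).mp hm
    have h4 : 1 - (f * g) ^ k ∈ p := by
      rw [← Ideal.Quotient.eq_zero_iff_mem, map_sub, map_one, map_pow, map_mul, hg', one_pow,
        sub_self]
    have h5 : x = (1 - (f * g) ^ k) * x + g ^ k * (f ^ k * x) := by ring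
    rw [h5]
    exact add_mem (Ideal.mem_sup_right (Ideal.mul_mem_right _ _ h4)) (Ideal.mul_mem_left _ _ hmx)
  have hK := Ideal.iInf_pow_smul_eq_bot_of_le_jacobson (M := A ⧸ p) I
    (IsAdicComplete.le_jacobson_bot I)
  have h6 : Ideal.Quotient.mk p x ∈ (⨅ i : ℕ, I ^ i • ⊤ : Submodule A (A ⧸ p)) := by
    rw [Submodule.mem_iInf]
    intro n
    obtain ⟨y, hy, z, hz, rfl⟩ := Submodule.mem_sup.mp (hmem n)
    have : Ideal.Quotient.mk p (y + z) = y • (1 : A ⧸ p) := by
      rw [map_add, Ideal.Quotient.eq_zero_iff_mem.mpr hz, add_zero, Algebra.smul_def, mul_one]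
      rfl
    rw [this]
    exact Submodule.smul_mem_smul hy Submodule.mem_top
  rw [hK, Submodule.mem_bot] at h6
  exact Ideal.Quotient.eq_zero_iff_mem.mp h6

end

theorem main (A : Type u) [CommRing A] [IsNoetherianRing A] (I : Ideal A) [IsAdicComplete I A]
    (p : Ideal A) [p.IsPrime] (f : A) (hf : IsUnit (Ideal.Quotient.mk p f)) :
    (p.map (algebraMap A (Cf I f))).IsPrime ∧
      Function.Bijective (Ideal.quotientMap (p.map (algebraMap A (Cf I f)))
        (algebraMap A (Cf I f)) Ideal.le_comap_map) := by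
  obtain ⟨r, π, hπ⟩ := Submodule.fg_iff_exists_fin_generating_family.mp
    (IsNoetherian.noetherian p)
  have hπ' : Ideal.span (Set.range π) = p := hπ
  have hbij : Function.Bijective (Ideal.quotientMap (p.map (algebraMap A (Cf I f)))
        (algebraMap A (Cf I f)) Ideal.le_comap_map) := by
    constructor
    · exact Ideal.quotientMap_injective' (inj p f π hπ' I hf)
    · intro y
      obtain ⟨ξ, rfl⟩ := Ideal.Quotient.mk_surjective y
      obtain ⟨a, ha⟩ := surj p f π hπ' I hf ξ
      refine ⟨Ideal.Quotient.mk p a, ?_⟩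
      rw [Ideal.quotientMap_mk]
      exact (Ideal.Quotient.eq.mpr ha).symm
  refine ⟨?_, hbij⟩
  rw [← Ideal.Quotient.isDomain_iff_prime]
  exact MulEquiv.isDomain (A ⧸ p) (RingEquiv.ofBijective _ hbij).symm.toMulEquiv

end H8837

/-- Let A be a Noetherian ring complete for the adic topology of an ideal I (an adic Noetherian
topological ring), p a prime ideal of A, and f ∈ A an element mapping to a unit in A/p. Let A_{f}
denote the completed principal localization, i.e. the I-adic completion of A_f = A[1/f]. Then the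
ideal p A_{f} generated by p is prime, and the canonical map A/p → A_{f}/p A_{f} is bijective (so p
A_{f} = p ⊗_A A_{f} is the completion of p_f, with quotient A/p). -/
theorem result (A : Type u) [CommRing A] [IsNoetherianRing A] (I : Ideal A) [IsAdicComplete I A] (p : Ideal A) [p.IsPrime] (f : A) (hf : IsUnit (Ideal.Quotient.mk p f)) : (p.map (algebraMap A (AdicCompletion (I.map (algebraMap A (Localization.Away f))) (Localization.Away f)))).IsPrime ∧ Function.Bijective (Ideal.quotientMap (p.map (algebraMap A (AdicCompletion (I.map (algebraMap A (Localization.Away f))) (Localization.Away f)))) (algebraMap A (AdicCompletion (I.map (algebraMap A (Localization.Away f))) (Localization.Away f))) Ideal.le_comap_map) := by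
  exact H8837.main A I p f hf

end Groth.Agent.S8837
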