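import Groth.Statements.S8840
import Groth.Agent.S8804
import Groth.Agent.S8829
import Groth.Agent.S8837
import Groth.Agent.Lib.Helper27.RigCL3
import Groth.Agent.Lib.Helper27.RigFin
open Groth.Agent.Lib.Helper27

set_option autoImplicit false
universe u
open AdicRing

namespace Groth.Agent.S8840

/-- Let A be a Noetherian ring complete for the adic topology of an ideal I, and B a Noetherian
A-algebra complete for the IB-adic topology with B/IB of finite type over A (an adic morphism,
topologically of finite type, of adic Noetherian topological rings). Let q be a prime of B which is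
rig-closed (IB ⊄ q and q maximal among the primes not containing IB). Then there exists f ∈ A which
maps to a unit in B/q such that the following holds. Let A_{f} and B_{f} be the completed principal
localizations (the I-adic completions of A_f and B_f) and ψ : A_{f} → B_{f} the canonical map,
characterised here as any ring map compatible with A_f → B_f (there is exactly one). Then the
inverse image p' under ψ of the ideal q' = q B_{f} is a rig-closed prime of A_{f}: p' is prime, I
A_{f} ⊄ p', and p' is maximal among the primes of A_{f} not containing I A_{f}. (That q B_{f} is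
itself prime with quotient B/q holds because f is a unit modulo q; it is not restated.) -/
theorem result (A : Type u) [CommRing A] [IsNoetherianRing A] (I : Ideal A) [IsAdicComplete I A] (B : Type u) [CommRing B] [Algebra A B] [IsNoetherianRing B] [IsAdicComplete (I.map (algebraMap A B)) B] (hft : Algebra.FiniteType A (B ⧸ (I.map (algebraMap A B)))) (q : PrimeSpectrum B) (hq : (¬ (I.map (algebraMap A B)) ≤ q.asIdeal ∧ ∀ y : PrimeSpectrum B, q ≤ y → ¬ (I.map (algebraMap A B)) ≤ y.asIdeal → y = q)) : ∃ f : A, IsUnit (Ideal.Quotient.mk q.asIdeal (algebraMap A B f)) ∧ ∀ ψ : (AdicCompletion (I.map (algebraMap A (Localization.Away f))) (Localization.Away f)) →+* (AdicCompletion ((I.map (algebraMap A B)).map (algebraMap B (Localization.Away (algebraMap A B f)))) (Localization.Away (algebraMap A B f))), ψ.comp (algebraMap (Localization.Away f) (AdicCompletion (I.map (algebraMap A (Localization.Away f))) (Localization.Away f))) = (algebraMap (Localization.Away (algebraMap A B f)) (AdicCompletion ((I.map (algebraMap A B)).map (algebraMap B (Localization.Away (algebraMap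 A B f)))) (Localization.Away (algebraMap A B f)))).comp (Localization.awayMap (algebraMap A B) f) → (((q.asIdeal.map (algebraMap B (AdicCompletion ((I.map (algebraMap A B)).map (algebraMap B (Localization.Away (algebraMap A B f)))) (Localization.Away (algebraMap A B f))))).comap ψ).IsPrime ∧ ¬ (I.map (algebraMap A (AdicCompletion (I.map (algebraMap A (Localization.Away f))) (Localization.Away f)))) ≤ ((q.asIdeal.map (algebraMap B (AdicCompletion ((I.map (algebraMap A B)).map (algebraMap B (Localization.Away (algebraMap A B f)))) (Localization.Away (algebraMap A B f))))).comap ψ) ∧ ∀ y : PrimeSpectrum (AdicCompletion (I.map (algebraMap A (Localization.Away f))) (Localization.Away f)), ((q.asIdeal.map (algebraMap B (AdicCompletion ((I.map (algebraMap A B)).map (algebraMap B (Localization.Away (algebraMap A B f)))) (Localization.Away (algebraMap A B f))))).comap ψ) ≤ y.asIdeal → ¬ (I.map (algebraMap A (AdicCompletion (I.map (algebraMap A (Localization.Away f))) (Localization.Away f)))) ≤ y.asIdeal → y.asIdeal = ((q.asIdeal.map (algebraMap B (AdicCompletion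 ((I.map (algebraMap A B)).map (algebraMap B (Localization.Away (algebraMap A B f)))) (Localization.Away (algebraMap A B f))))).comap ψ)) := by
  classical
  haveI := q.isPrime
  -- S8804 for `q` in `B`
  have h04 := Groth.Agent.S8804.result B (I.map (algebraMap A B)) q
  have h01 := (h04.out 0 1).mp hq
  have h02 := (h04.out 0 2).mp hq
  have hdim : ringKrullDim (B ⧸ q.asIdeal) = 1 := h01.1
  have hloc := h02.2.1
  -- a maximal ideal `M ⊇ q`, unique
  obtain ⟨M, hM, hqM⟩ := Ideal.exists_le_maximal q.asIdeal Ideal.IsPrime.ne_top'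
  have huniq : ∀ M' : Ideal B, M'.IsMaximal → q.asIdeal ≤ M' → M' = M := by
    intro M' hM' hqM'
    have key : ∀ N : Ideal B, N.IsMaximal → q.asIdeal ≤ N →
        N = ((I.map (algebraMap A B)).map (Ideal.Quotient.mk q.asIdeal)).radical.comap
          (Ideal.Quotient.mk q.asIdeal) := by
      intro N hN hqN
      have hker : RingHom.ker (Ideal.Quotient.mk q.asIdeal) ≤ N := by rw [Ideal.mk_ker]; exact hqN
      have hcmN : (N.map (Ideal.Quotient.mk q.asIdeal)).comap (Ideal.Quotient.mk q.asIdeal) = N := by
        rw [Ideal.comap_map_of_surjective _ Ideal.Quotient.mk_surjective,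
          ← RingHom.ker_eq_comap_bot]
        exact sup_eq_left.mpr hker
      have h1 : (N.map (Ideal.Quotient.mk q.asIdeal)).IsMaximal := by
        refine (Ideal.map_eq_top_or_isMaximal_of_surjective _ Ideal.Quotient.mk_surjective
          hN).resolve_left (fun htop => ?_)
        rw [htop, Ideal.comap_top] at hcmN
        exact hN.ne_top hcmN.symm
      rw [← hloc _ h1, hcmN]
    rw [key M' hM' hqM', ← key M hM hqM]
  -- `κ = B ⧸ M` is a field of finite type over `A`
  letI : Field (B ⧸ M) := Ideal.Quotient.field M
  have hJM : I.map (algebraMap A B) ≤ M :=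
    (IsAdicComplete.le_jacobson_bot _).trans (sInf_le ⟨bot_le, hM⟩)
  haveI := hft
  haveI : Algebra.FiniteType A (B ⧸ M) :=
    Algebra.FiniteType.of_surjective (Ideal.Quotient.factorₐ A hJM)
      (Ideal.Quotient.factor_surjective hJM)
  obtain ⟨f, hf0, s, hs, hint⟩ := RigFin.exists_integral_gens A (B ⧸ M)
  have hfM : algebraMap A B f ∉ M := fun h => hf0 (Ideal.Quotient.eq_zero_iff_mem.mpr h)
  have hfu : IsUnit (Ideal.Quotient.mk q.asIdeal (algebraMap A B f)) := by
    by_contra hnu
    obtain ⟨m, hm, hfm⟩ := exists_max_ideal_of_mem_nonunits (mem_nonunits_iff.mpr hnu)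
    have h1 : (m.comap (Ideal.Quotient.mk q.asIdeal)).IsMaximal :=
      Ideal.comap_isMaximal_of_surjective _ Ideal.Quotient.mk_surjective
    have h2 : q.asIdeal ≤ m.comap (Ideal.Quotient.mk q.asIdeal) := by
      intro x hx
      rw [Ideal.mem_comap, Ideal.Quotient.eq_zero_iff_mem.mpr hx]
      exact m.zero_mem
    have h3 := huniq _ h1 h2
    apply hfM
    rw [← h3]
    exact hfm
  refine ⟨f, hfu, ?_⟩
  intro ψ hψ
  have hcompat := RigCL3.compat_of_comp I f ψ hψ
  haveI hNB := RigCL.isNoetherianRing_cLoc (I.map (algebraMap A B)) (algebraMap A B f)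
  haveI hNA := RigCL.isNoetherianRing_cLoc I f
  haveI hCA := RigCL.isAdicComplete_cLoc' I f
  haveI hCB := RigCL.isAdicComplete_cLoc' (I.map (algebraMap A B)) (algebraMap A B f)
  letI := ψ.toAlgebra
  haveI hST := RigCL3.isScalarTower_psi I f ψ hcompat
  haveI hCB' : IsAdicComplete ((I.map (algebraMap A (CLoc (R := A) I f))).map
      (algebraMap (CLoc (R := A) I f)
        (CLoc (R := B) (I.map (algebraMap A B)) (algebraMap A B f))))
      (CLoc (R := B) (I.map (algebraMap A B)) (algebraMap A B f)) :=
    RigCL3.isAdicComplete_psi I f ψ hcompat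
  have hft' : Algebra.FiniteType (CLoc (R := A) I f)
      (CLoc (R := B) (I.map (algebraMap A B)) (algebraMap A B f) ⧸
        (I.map (algebraMap A (CLoc (R := A) I f))).map (algebraMap (CLoc (R := A) I f)
        (CLoc (R := B) (I.map (algebraMap A B)) (algebraMap A B f)))) :=
    RigCL3.finiteType_quot_psi I f ψ hcompat hft
  have hmm : (I.map (algebraMap A (CLoc (R := A) I f))).map (algebraMap (CLoc (R := A) I f)
        (CLoc (R := B) (I.map (algebraMap A B)) (algebraMap A B f))) =
      (I.map (algebraMap A B)).map
        (algebraMap B (CLoc (R := B) (I.map (algebraMap A B)) (algebraMap A B f))) :=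
    RigCL3.map_map_psi I f ψ hcompat I
  -- the prime `q B_{f}`
  obtain ⟨hq''prime, hbij⟩ := Groth.Agent.S8837.result B (I.map (algebraMap A B)) q.asIdeal
    (algebraMap A B f) hfu
  have hcomapq : (q.asIdeal.map (algebraMap B
      (CLoc (R := B) (I.map (algebraMap A B)) (algebraMap A B f)))).comap
      (algebraMap B (CLoc (R := B) (I.map (algebraMap A B)) (algebraMap A B f))) = q.asIdeal := by
    apply le_antisymm
    · intro x hx
      rw [Ideal.mem_comap] at hx
      have h1 : Ideal.quotientMap (q.asIdeal.map (algebraMap B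
          (CLoc (R := B) (I.map (algebraMap A B)) (algebraMap A B f))))
          (algebraMap B (CLoc (R := B) (I.map (algebraMap A B)) (algebraMap A B f)))
          Ideal.le_comap_map (Ideal.Quotient.mk q.asIdeal x) = 0 := by
        rw [Ideal.quotientMap_mk]
        exact Ideal.Quotient.eq_zero_iff_mem.mpr hx
      rw [← map_zero (Ideal.quotientMap (q.asIdeal.map (algebraMap B
          (CLoc (R := B) (I.map (algebraMap A B)) (algebraMap A B f))))
          (algebraMap B (CLoc (R := B) (I.map (algebraMap A B)) (algebraMap A B f)))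
          Ideal.le_comap_map)] at h1
      exact Ideal.Quotient.eq_zero_iff_mem.mp (hbij.1 h1)
    · exact Ideal.le_comap_map
  obtain ⟨q'', hq''def⟩ : ∃ q'' : PrimeSpectrum
      (CLoc (R := B) (I.map (algebraMap A B)) (algebraMap A B f)),
      q'' = ⟨q.asIdeal.map (algebraMap B
        (CLoc (R := B) (I.map (algebraMap A B)) (algebraMap A B f))), hq''prime⟩ := ⟨_, rfl⟩
  have hq''as : q''.asIdeal = q.asIdeal.map (algebraMap B
        (CLoc (R := B) (I.map (algebraMap A B)) (algebraMap A B f))) := by rw [hq''def]
  -- `q''` is rig-closed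
  have hq''rig : ¬ (I.map (algebraMap A (CLoc (R := A) I f))).map (algebraMap (CLoc (R := A) I f)
        (CLoc (R := B) (I.map (algebraMap A B)) (algebraMap A B f))) ≤ q''.asIdeal ∧
      ∀ y : PrimeSpectrum (CLoc (R := B) (I.map (algebraMap A B)) (algebraMap A B f)), q'' ≤ y →
        ¬ (I.map (algebraMap A (CLoc (R := A) I f))).map (algebraMap (CLoc (R := A) I f)
        (CLoc (R := B) (I.map (algebraMap A B)) (algebraMap A B f))) ≤ y.asIdeal → y = q'' := by
    rw [hmm]
    have h04' := Groth.Agent.S8804.result
      (CLoc (R := B) (I.map (algebraMap A B)) (algebraMap A B f))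
      ((I.map (algebraMap A B)).map
        (algebraMap B (CLoc (R := B) (I.map (algebraMap A B)) (algebraMap A B f)))) q''
    have h10 := (h04'.out 1 0).mp
    refine h10 ⟨?_, ?_⟩
    · rw [hq''as, ← hdim]
      exact (ringKrullDim_eq_of_ringEquiv (RingEquiv.ofBijective _ hbij)).symm
    · intro hle
      apply hq.1
      rw [← hcomapq, ← Ideal.map_le_iff_le_comap, ← hq''as]
      exact hle
  -- residue fields are finite
  have hfin : ∀ m : Ideal (CLoc (R := B) (I.map (algebraMap A B)) (algebraMap A B f)),
      m.IsMaximal → q''.asIdeal ≤ m → Module.Finite (CLoc (R := A) I f)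
        (CLoc (R := B) (I.map (algebraMap A B)) (algebraMap A B f) ⧸ m) := by
    intro m hm hqm
    let e₀ : B →ₐ[A] (CLoc (R := B) (I.map (algebraMap A B)) (algebraMap A B f) ⧸ m) :=
      (Ideal.Quotient.mkₐ A m).comp (IsScalarTower.toAlgHom A B
        (CLoc (R := B) (I.map (algebraMap A B)) (algebraMap A B f)))
    have he₀ : ∀ b, e₀ b = Ideal.Quotient.mk m (algebraMap B _ b) := fun b => rfl
    have hsurj₀ : Function.Surjective e₀ := by
      intro z
      obtain ⟨b', rfl⟩ := Ideal.Quotient.mk_surjective z
      obtain ⟨bbar, hb⟩ := hbij.2 (Ideal.Quotient.mk _ b')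
      obtain ⟨b, rfl⟩ := Ideal.Quotient.mk_surjective bbar
      refine ⟨b, ?_⟩
      rw [Ideal.quotientMap_mk] at hb
      rw [he₀]
      apply Ideal.Quotient.eq.mpr
      apply hqm
      rw [hq''as]
      exact Ideal.Quotient.eq.mp hb
    have hkermax : (RingHom.ker e₀.toRingHom).IsMaximal := by
      letI : Field (CLoc (R := B) (I.map (algebraMap A B)) (algebraMap A B f) ⧸ m) :=
        Ideal.Quotient.field m
      exact RingHom.ker_isMaximal_of_surjective e₀.toRingHom hsurj₀
    have hqker : q.asIdeal ≤ RingHom.ker e₀.toRingHom := by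
      intro x hx
      rw [RingHom.mem_ker]
      show e₀ x = 0
      rw [he₀]
      apply Ideal.Quotient.eq_zero_iff_mem.mpr
      apply hqm
      rw [hq''as]
      exact Ideal.mem_map_of_mem _ hx
    have hkerM := huniq _ hkermax hqker
    have hkill : ∀ x ∈ M, e₀ x = 0 := by
      intro x hx
      rw [← hkerM] at hx
      exact RingHom.mem_ker.mp hx
    let e : (B ⧸ M) →ₐ[A] (CLoc (R := B) (I.map (algebraMap A B)) (algebraMap A B f) ⧸ m) :=
      Ideal.Quotient.liftₐ M e₀ hkill
    have hesurj : Function.Surjective e := by
      intro z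
      obtain ⟨b, rfl⟩ := hsurj₀ z
      exact ⟨Ideal.Quotient.mk M b, rfl⟩
    exact RigFin.finite_of_integral_gens e hesurj f (RigCL.isUnit_algebraMap_cLoc I f) s hs hint
  have h29 := Groth.Agent.S8829.result (CLoc (R := A) I f) (I.map (algebraMap A (CLoc (R := A) I f)))
    (CLoc (R := B) (I.map (algebraMap A B)) (algebraMap A B f)) hft' q'' hq''rig
  have hp' := (h29.out 0 1).mp hfin
  have hcm : (PrimeSpectrum.comap (algebraMap (CLoc (R := A) I f)
      (CLoc (R := B) (I.map (algebraMap A B)) (algebraMap A B f))) q'').asIdeal =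
      (q.asIdeal.map (algebraMap B
        (CLoc (R := B) (I.map (algebraMap A B)) (algebraMap A B f)))).comap ψ := by
    rw [← hq''as]
    rfl
  refine ⟨?_, ?_, ?_⟩
  · rw [← hcm]
    exact (PrimeSpectrum.comap _ q'').isPrime
  · intro hle
    apply hp'.1
    rw [hcm]
    exact hle
  · intro y hy hIy
    have h1 := hp'.2 y (by
      show (PrimeSpectrum.comap _ q'').asIdeal ≤ y.asIdeal
      rw [hcm]
      exact hy) hIy
    rw [h1, hcm]

end Groth.Agent.S8840
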