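import Groth.Statements.S7658
import Groth.Agent.Lib.Helper12.GenericPts

set_option autoImplicit false
universe u
open CategoryTheory CategoryTheory.Limits AlgebraicGeometry
open Variety

namespace Groth.Agent.S7658

open Groth.Agent.Lib.Helper12

theorem injective_aux {X Y : Scheme.{u}} (f : X ⟶ Y) [IsSeparated f]
    (U U' : X.Opens) [IsOpenImmersion (U.ι ≫ f)] [IsOpenImmersion (U'.ι ≫ f)]
    (x x' x0 : X) (hx : x ∈ U) (hx' : x' ∈ U') (hx0 : x0 ∈ U) (hx0' : x0 ∈ U')
    (h0 : x0 ⤳ x) (hfx : f.base x = f.base x') : x = x' := by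
  let V : Y.Opens := (U.ι ≫ f).opensRange ⊓ (U'.ι ≫ f).opensRange
  have hVU : Set.range V.ι.base ⊆ Set.range (U.ι ≫ f).base := by
    rw [Scheme.Opens.range_ι]; exact fun y hy => hy.1
  have hVU' : Set.range V.ι.base ⊆ Set.range (U'.ι ≫ f).base := by
    rw [Scheme.Opens.range_ι]; exact fun y hy => hy.2
  let a : V.toScheme ⟶ U.toScheme := IsOpenImmersion.lift (U.ι ≫ f) V.ι hVU
  let b : V.toScheme ⟶ U'.toScheme := IsOpenImmersion.lift (U'.ι ≫ f) V.ι hVU'
  have ha : a ≫ U.ι ≫ f = V.ι := IsOpenImmersion.lift_fac _ _ _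
  have hb : b ≫ U'.ι ≫ f = V.ι := IsOpenImmersion.lift_fac _ _ _
  let XV : Over Y := Over.mk V.ι
  let XX : Over Y := Over.mk f
  let A' : XV ⟶ XX := Over.homMk (a ≫ U.ι) (show (a ≫ U.ι) ≫ f = V.ι by rw [Category.assoc]; exact ha)
  let B' : XV ⟶ XX := Over.homMk (b ≫ U'.ι) (show (b ≫ U'.ι) ≫ f = V.ι by rw [Category.assoc]; exact hb)
  haveI : IsSeparated XX.hom := ‹IsSeparated f›
  let e : (equalizer A' B').left ⟶ V.toScheme := (equalizer.ι A' B').left
  haveI : IsClosedImmersion e := inferInstance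
  have he : e ≫ (a ≫ U.ι) = e ≫ (b ≫ U'.ι) :=
    congrArg CommaMorphism.left (equalizer.condition A' B')
  let W : X.Opens := U ⊓ U'
  have hWV : Set.range (W.ι ≫ f).base ⊆ Set.range V.ι.base := by
    rw [Scheme.Opens.range_ι]
    rintro _ ⟨w, rfl⟩
    exact ⟨⟨⟨w.1, w.2.1⟩, rfl⟩, ⟨⟨w.1, w.2.2⟩, rfl⟩⟩
  let c0 : W.toScheme ⟶ V.toScheme := IsOpenImmersion.lift V.ι (W.ι ≫ f) hWV
  have hc0 : c0 ≫ V.ι = W.ι ≫ f := IsOpenImmersion.lift_fac _ _ _
  have hcA : c0 ≫ (a ≫ U.ι) = W.ι := by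
    have h1 : c0 ≫ a = X.homOfLE (inf_le_left : W ≤ U) := by
      rw [← cancel_mono (U.ι ≫ f), Category.assoc, ha, hc0, ← Category.assoc, Scheme.homOfLE_ι]
    rw [← Category.assoc, h1, Scheme.homOfLE_ι]
  have hcB : c0 ≫ (b ≫ U'.ι) = W.ι := by
    have h1 : c0 ≫ b = X.homOfLE (inf_le_right : W ≤ U') := by
      rw [← cancel_mono (U'.ι ≫ f), Category.assoc, hb, hc0, ← Category.assoc, Scheme.homOfLE_ι]
    rw [← Category.assoc, h1, Scheme.homOfLE_ι]
  let XW : Over Y := Over.mk (W.ι ≫ f)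
  let c' : XW ⟶ XV := Over.homMk c0 hc0
  have hc' : c' ≫ A' = c' ≫ B' := by
    ext1
    simp only [Over.comp_left, Over.homMk_left, A', B', c']
    rw [hcA, hcB]
  let l := equalizer.lift c' hc'
  have hl : l.left ≫ e = c0 :=
    congrArg CommaMorphism.left (equalizer.lift_ι c' hc')
  let x0W : W := ⟨x0, hx0, hx0'⟩
  have hv0 : c0.base x0W ∈ Set.range e.base :=
    ⟨l.left.base x0W, by rw [← Scheme.Hom.comp_apply, hl]⟩
  have hv0ι : V.ι.base (c0.base x0W) = f.base x0 := by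
    rw [← Scheme.Hom.comp_apply, hc0]; rfl
  have hfxV : f.base x ∈ V := ⟨⟨⟨x, hx⟩, rfl⟩, ⟨⟨x', hx'⟩, hfx.symm⟩⟩
  let v : V := ⟨f.base x, hfxV⟩
  have hspec : c0.base x0W ⤳ v := by
    rw [← V.ι.isOpenEmbedding.isInducing.specializes_iff, hv0ι]
    exact h0.map f.continuous
  have hv : v ∈ Set.range e.base :=
    hspec.mem_closed e.isClosedEmbedding.isClosed_range hv0
  obtain ⟨ε, hε⟩ := hv
  have hAB : (a ≫ U.ι).base v = (b ≫ U'.ι).base v := by
    rw [← hε, ← Scheme.Hom.comp_apply, ← Scheme.Hom.comp_apply, he]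
  have hAx : (a ≫ U.ι).base v = x := by
    have h1 : a.base v = (⟨x, hx⟩ : U) := by
      apply (U.ι ≫ f).isOpenEmbedding.injective
      rw [← Scheme.Hom.comp_apply, ha]; rfl
    rw [Scheme.Hom.comp_apply, h1]; rfl
  have hBx' : (b ≫ U'.ι).base v = x' := by
    have h1 : b.base v = (⟨x', hx'⟩ : U') := by
      apply (U'.ι ≫ f).isOpenEmbedding.injective
      rw [← Scheme.Hom.comp_apply, hb]; exact hfx
    rw [Scheme.Hom.comp_apply, h1]; rfl
  rw [← hAx, ← hBx', hAB]

/-- A separated morphism of schemes f : X → Y such that X has an open covering on whose members f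
restricts to open immersions, and such that no two distinct generic points of irreducible components
of X have the same image under f, is an open immersion. -/
theorem result {X Y : Scheme.{u}}
    (f : X ⟶ Y) [IsSeparated f]
    (hloc : ∀ x : X, ∃ U : X.Opens, x ∈ U ∧ IsOpenImmersion (U.ι ≫ f))
    (hinj : ∀ ξ ξ' : X, closure ({ξ} : Set X) ∈ irreducibleComponents (X : Type u) → closure ({ξ'} : Set X) ∈ irreducibleComponents (X : Type u) →
      f.base ξ = f.base ξ' → ξ = ξ') :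
    IsOpenImmersion f := by
  have hstalk : ∀ x, IsIso (f.stalkMap x) := by
    intro x
    obtain ⟨U, hxU, hU⟩ := hloc x
    haveI := hU
    have key : ∀ x' : U, IsIso (f.stalkMap (U.ι.base x')) := by
      intro x'
      have h1 : (U.ι ≫ f).stalkMap x' = f.stalkMap (U.ι.base x') ≫ U.ι.stalkMap x' :=
        Scheme.Hom.stalkMap_comp _ _ _
      have h2 : IsIso ((U.ι ≫ f).stalkMap x') := inferInstance
      rw [h1] at h2
      exact @IsIso.of_isIso_comp_right _ _ _ _ _ (f.stalkMap (U.ι.base x')) (U.ι.stalkMap x')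
        inferInstance h2
    exact key ⟨x, hxU⟩
  have hopen : IsOpenMap f.base := by
    intro O hO
    rw [isOpen_iff_forall_mem_open]
    rintro _ ⟨x, hxO, rfl⟩
    obtain ⟨U, hxU, hU⟩ := hloc x
    haveI := hU
    refine ⟨Set.image (U.ι ≫ f).base (U.ι.base ⁻¹' O), ?_, ?_, ?_⟩
    · rintro _ ⟨x', hx', rfl⟩
      exact ⟨U.ι.base x', hx', rfl⟩
    · exact (U.ι ≫ f).isOpenEmbedding.isOpenMap _ (hO.preimage U.ι.continuous)
    · exact ⟨⟨x, hxU⟩, hxO, rfl⟩
  have hinjective : Function.Injective f.base := by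
    intro x x' hfx
    obtain ⟨U, hxU, hU⟩ := hloc x
    obtain ⟨U', hxU', hU'⟩ := hloc x'
    haveI := hU
    haveI := hU'
    obtain ⟨x0, hx0comp, hx0x⟩ := exists_generic_specializes x
    have hx0U : x0 ∈ U := hx0x.mem_open U.2 hxU
    have hfx0 : f.base x0 ⤳ f.base x' := hfx ▸ hx0x.map f.continuous
    have hO' : IsOpen (Set.range (U'.ι ≫ f).base) := (U'.ι ≫ f).isOpenEmbedding.isOpen_range
    obtain ⟨x0', hx0'⟩ : f.base x0 ∈ Set.range (U'.ι ≫ f).base :=
      hfx0.mem_open hO' ⟨⟨x', hxU'⟩, rfl⟩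
    have hgen' : closure ({x0'.1} : Set X) ∈ irreducibleComponents X := by
      apply mem_irreducibleComponents_of_forall_specializes
      intro z hz
      have hzU' : z ∈ U' := hz.mem_open U'.2 x0'.2
      have hfz : f.base z ⤳ f.base x0 := by
        have := hz.map f.continuous
        rwa [show f.base x0'.1 = f.base x0 from hx0'] at this
      have hO : IsOpen (Set.range (U.ι ≫ f).base) := (U.ι ≫ f).isOpenEmbedding.isOpen_range
      obtain ⟨z2, hz2⟩ : f.base z ∈ Set.range (U.ι ≫ f).base :=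
        hfz.mem_open hO ⟨⟨x0, hx0U⟩, rfl⟩
      have hz2spec : z2 ⤳ (⟨x0, hx0U⟩ : U) := by
        rw [← (U.ι ≫ f).isOpenEmbedding.isInducing.specializes_iff, hz2]
        exact hfz
      have hz2x0 : z2.1 ⤳ x0 := hz2spec.map U.ι.continuous
      have hz2eq : z2.1 = x0 := eq_of_specializes_of_mem_irreducibleComponents hx0comp hz2x0
      have hfzx0 : f.base z = f.base x0 := by
        rw [← hz2]; exact congrArg f.base hz2eq
      have : (⟨z, hzU'⟩ : U') = x0' := by
        apply (U'.ι ≫ f).isOpenEmbedding.injective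
        show f.base z = (U'.ι ≫ f).base x0'
        rw [hx0', hfzx0]
      exact congrArg Subtype.val this
    have hx0eq : x0 = x0'.1 := hinj x0 x0'.1 hx0comp hgen' hx0'.symm
    have hx0U' : x0 ∈ U' := hx0eq ▸ x0'.2
    exact injective_aux f U U' x x' x0 hxU hxU' hx0U hx0U' hx0x hfx
  haveI := hstalk
  exact IsOpenImmersion.of_isIso_stalkMap f
    (Topology.IsOpenEmbedding.of_continuous_injective_isOpenMap f.continuous hinjective hopen)

end Groth.Agent.S7658
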