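import Groth.Statements.S16572
import Mathlib

set_option autoImplicit false
universe u
open CAlg

namespace Groth.Agent.S16572

section
variable (A : Type u) [CommRing A]

abbrev Idx := {P : Polynomial A // P.Monic ∧ 0 < P.natDegree}
abbrev RR := MvPolynomial (Idx A) A
noncomputable abbrev II : Ideal (RR A) := Ideal.span (Set.range fun P : Idx A =>
  Polynomial.aeval (MvPolynomial.X (R := A) P) P.1)
abbrev TT := RR A ⧸ II A

lemma xbar_root (P : Idx A) :
    Polynomial.aeval (Ideal.Quotient.mk (II A) (MvPolynomial.X P)) P.1 = 0 := by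
  have := Polynomial.aeval_algHom_apply (Ideal.Quotient.mkₐ A (II A)) (MvPolynomial.X P) P.1
  rw [Ideal.Quotient.mkₐ_eq_mk] at this
  rw [this]
  exact Ideal.Quotient.eq_zero_iff_mem.mpr (Ideal.subset_span ⟨P, rfl⟩)

lemma isIntegral_TT (t : TT A) : IsIntegral A t := by
  obtain ⟨f, rfl⟩ := Ideal.Quotient.mk_surjective t
  induction f using MvPolynomial.induction_on with
  | C a => exact isIntegral_algebraMap (R := A) (A := TT A) (x := a)
  | add f g hf hg => rw [map_add]; exact hf.add hg
  | mul_X f P hf =>
    rw [map_mul]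
    refine hf.mul ⟨P.1, P.2.1, ?_⟩
    rw [← Polynomial.aeval_def]
    exact xbar_root A P

theorem comap_surjective :
    Function.Surjective (PrimeSpectrum.comap (algebraMap A (TT A))) := by
  classical
  intro p
  have hroot : ∀ P : Idx A, ∃ r : AlgebraicClosure p.asIdeal.ResidueField,
      Polynomial.aeval r P.1 = 0 := by
    intro P
    have hnd : 0 < (P.1.map (algebraMap A (AlgebraicClosure p.asIdeal.ResidueField))).natDegree := by
      rw [P.2.1.natDegree_map]; exact P.2.2
    obtain ⟨r, hr⟩ := IsAlgClosed.exists_root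
      (P.1.map (algebraMap A (AlgebraicClosure p.asIdeal.ResidueField)))
      (ne_of_gt (Polynomial.natDegree_pos_iff_degree_pos.mp hnd))
    exact ⟨r, by rwa [Polynomial.IsRoot.def, Polynomial.eval_map_algebraMap] at hr⟩
  choose r hr using hroot
  have hg : ∀ a ∈ II A,
      (MvPolynomial.aeval r : RR A →ₐ[A] AlgebraicClosure p.asIdeal.ResidueField) a = 0 := by
    intro a ha
    refine Submodule.span_induction ?_ ?_ ?_ ?_ ha
    · rintro _ ⟨P, rfl⟩
      show (MvPolynomial.aeval r : RR A →ₐ[A] AlgebraicClosure p.asIdeal.ResidueField)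
        (Polynomial.aeval (MvPolynomial.X P) P.1) = 0
      rw [← Polynomial.aeval_algHom_apply, MvPolynomial.aeval_X]; exact hr P
    · exact map_zero _
    · intro x y _ _ hx hy; rw [map_add, hx, hy, add_zero]
    · intro c x _ hx; rw [smul_eq_mul, map_mul, hx, mul_zero]
  let gbar : TT A →ₐ[A] AlgebraicClosure p.asIdeal.ResidueField :=
    Ideal.Quotient.liftₐ (II A) (MvPolynomial.aeval r) hg
  refine ⟨⟨RingHom.ker gbar.toRingHom, RingHom.ker_isPrime _⟩, ?_⟩
  apply PrimeSpectrum.ext
  ext x
  show algebraMap A (TT A) x ∈ RingHom.ker gbar.toRingHom ↔ x ∈ p.asIdeal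
  rw [RingHom.mem_ker]
  show gbar (algebraMap A (TT A) x) = 0 ↔ _
  rw [AlgHom.commutes, IsScalarTower.algebraMap_apply A p.asIdeal.ResidueField
    (AlgebraicClosure p.asIdeal.ResidueField),
    map_eq_zero_iff _ (algebraMap p.asIdeal.ResidueField
      (AlgebraicClosure p.asIdeal.ResidueField)).injective,
    Ideal.algebraMap_residueField_eq_zero]

abbrev FFt (Q : Ideal (TT A)) [Q.IsPrime] : Type u :=
  Ideal.ResidueField (Q.comap (algebraMap A (TT A)))

theorem residue (Q : Ideal (TT A)) [Q.IsPrime] :
    IsAlgClosed Q.ResidueField ∧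
    (Ideal.ResidueField.map (Q.comap (algebraMap A (TT A))) Q (algebraMap A (TT A)) rfl).IsIntegral := by
  classical
  letI : Algebra (FFt A Q) Q.ResidueField :=
    (Ideal.ResidueField.map (Q.comap (algebraMap A (TT A))) Q (algebraMap A (TT A)) rfl).toAlgebra
  have halg : ∀ z, algebraMap (FFt A Q) Q.ResidueField z =
      Ideal.ResidueField.map (Q.comap (algebraMap A (TT A))) Q (algebraMap A (TT A)) rfl z :=
    fun z => rfl
  haveI : IsScalarTower A (FFt A Q) Q.ResidueField := IsScalarTower.of_algebraMap_eq (fun x => by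
    rw [halg, Ideal.ResidueField.map_algebraMap, ← IsScalarTower.algebraMap_apply A (TT A) Q.ResidueField])
  -- integrality
  have h1 : ∀ t : TT A, IsIntegral (FFt A Q) (algebraMap (TT A) Q.ResidueField t) := by
    intro t
    have h2 : IsIntegral A (algebraMap (TT A) Q.ResidueField t) :=
      (isIntegral_TT A t).map (IsScalarTower.toAlgHom A (TT A) Q.ResidueField)
    exact h2.tower_top
  have hEint : ∀ z : Q.ResidueField, IsIntegral (FFt A Q) z := by
    intro z
    obtain ⟨x, y, _, rfl⟩ := IsFractionRing.div_surjective (A := TT A ⧸ Q) z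
    obtain ⟨x, rfl⟩ := Ideal.Quotient.mk_surjective x
    obtain ⟨y, rfl⟩ := Ideal.Quotient.mk_surjective y
    rw [div_eq_mul_inv]
    exact (h1 x).mul (h1 y).inv
  haveI : Algebra.IsAlgebraic (FFt A Q) Q.ResidueField := ⟨fun z => (hEint z).isAlgebraic⟩
  have hac : IsAlgClosure (FFt A Q) Q.ResidueField := by
    refine IsAlgClosure.of_exists_root (fun q hqm hqi => ?_)
    have hn : 0 < q.natDegree := hqi.natDegree_pos
    -- common denominator
    obtain ⟨b, hb⟩ := IsLocalization.exist_integer_multiples_of_finset
      (nonZeroDivisors (A ⧸ Q.comap (algebraMap A (TT A)))) (S := FFt A Q) q.coeffs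
    set s0 : FFt A Q := algebraMap (A ⧸ Q.comap (algebraMap A (TT A))) (FFt A Q) b with hs0
    have hs0ne : s0 ≠ 0 := (IsLocalization.map_units (FFt A Q) b).ne_zero
    have hrange : ∀ t : A ⧸ Q.comap (algebraMap A (TT A)),
        algebraMap (A ⧸ Q.comap (algebraMap A (TT A))) (FFt A Q) t ∈ (algebraMap A (FFt A Q)).range := by
      intro t
      obtain ⟨t, rfl⟩ := Ideal.Quotient.mk_surjective t
      exact ⟨t, rfl⟩
    have hlift : Polynomial.scaleRoots q s0 ∈ Polynomial.lifts (algebraMap A (FFt A Q)) := by
      rw [Polynomial.lifts_iff_coeff_lifts]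
      intro i
      rw [Polynomial.coeff_scaleRoots]
      rw [← RingHom.coe_range, SetLike.mem_coe]
      by_cases hci : q.coeff i = 0
      · rw [hci, zero_mul]; exact zero_mem _
      · by_cases hi : q.natDegree - i = 0
        · have hile : i ≤ q.natDegree := Polynomial.le_natDegree_of_ne_zero hci
          have hieq : i = q.natDegree := by omega
          rw [hi, pow_zero, mul_one, hieq]
          have : q.coeff q.natDegree = 1 := hqm
          rw [this]; exact one_mem _
        · obtain ⟨m, hm⟩ := Nat.exists_eq_succ_of_ne_zero hi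
          rw [hm, pow_succ', ← mul_assoc]
          refine mul_mem ?_ (pow_mem (hrange b) m)
          obtain ⟨c, hc⟩ := hb _ (Polynomial.coeff_mem_coeffs hci)
          rw [mul_comm]
          have : s0 * q.coeff i = algebraMap _ (FFt A Q) c := by
            rw [hc, Algebra.smul_def]
          rw [this]; exact hrange c
    obtain ⟨P0, hP0map, hP0deg, hP0monic⟩ :=
      Polynomial.lifts_and_degree_eq_and_monic hlift ((Polynomial.monic_scaleRoots_iff s0).mpr hqm)
    have hP0pos : 0 < P0.natDegree := by
      rw [Polynomial.natDegree_eq_of_degree_eq hP0deg, Polynomial.natDegree_scaleRoots]; exact hn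
    let Pi : Idx A := ⟨P0, hP0monic, hP0pos⟩
    set y : Q.ResidueField := algebraMap (TT A) Q.ResidueField (Ideal.Quotient.mk (II A) (MvPolynomial.X Pi)) with hy
    have hy0 : Polynomial.aeval y P0 = 0 := by
      have := Polynomial.aeval_algHom_apply (IsScalarTower.toAlgHom A (TT A) Q.ResidueField)
        (Ideal.Quotient.mk (II A) (MvPolynomial.X Pi)) P0
      rw [xbar_root A Pi, map_zero] at this
      exact this
    have hy1 : Polynomial.eval₂ (algebraMap (FFt A Q) Q.ResidueField) y (Polynomial.scaleRoots q s0) = 0 := by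
      rw [← hP0map, Polynomial.eval₂_map, ← IsScalarTower.algebraMap_eq A (FFt A Q) Q.ResidueField,
        ← Polynomial.aeval_def]
      exact hy0
    have hfs : algebraMap (FFt A Q) Q.ResidueField s0 ≠ 0 := by
      rw [Ne, map_eq_zero_iff _ (algebraMap (FFt A Q) Q.ResidueField).injective]; exact hs0ne
    refine ⟨(algebraMap (FFt A Q) Q.ResidueField s0)⁻¹ * y, ?_⟩
    have h3 := Polynomial.scaleRoots_eval₂_mul (p := q) (algebraMap (FFt A Q) Q.ResidueField)
      ((algebraMap (FFt A Q) Q.ResidueField s0)⁻¹ * y) s0
    rw [← mul_assoc, mul_inv_cancel₀ hfs, one_mul, hy1] at h3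
    rw [Polynomial.aeval_def]
    rcases mul_eq_zero.mp h3.symm with h4 | h4
    · exact absurd (pow_eq_zero_iff (by omega) |>.mp h4) hfs
    · exact h4
  exact ⟨hac.isAlgClosed, fun z => hEint z⟩

end

/-- Let A be a commutative ring and T the quotient of the polynomial ring over A in indeterminates X_P,
one for each monic polynomial P over A of positive degree, by the ideal generated by the elements
P(X_P). Then the map on prime spectra Spec T → Spec A is surjective, and for every prime ideal Q of
T, with p its contraction to A, the residue field of Q is algebraically closed and integral over the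
residue field of p under the induced map of residue fields (so it is an algebraic closure of it). -/
theorem result (A : Type u) [CommRing A] :
    Function.Surjective (PrimeSpectrum.comap (algebraMap A (MvPolynomial {P : Polynomial A // P.Monic ∧ 0 < P.natDegree} A ⧸
      Ideal.span (Set.range fun P : {P : Polynomial A // P.Monic ∧ 0 < P.natDegree} =>
        Polynomial.aeval (MvPolynomial.X (R := A) P) P.1)))) ∧
    ∀ (Q : Ideal (MvPolynomial {P : Polynomial A // P.Monic ∧ 0 < P.natDegree} A ⧸
      Ideal.span (Set.range fun P : {P : Polynomial A // P.Monic ∧ 0 < P.natDegree} =>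
        Polynomial.aeval (MvPolynomial.X (R := A) P) P.1))) [Q.IsPrime],
      IsAlgClosed Q.ResidueField ∧
      (Ideal.ResidueField.map (Q.comap (algebraMap A (MvPolynomial {P : Polynomial A // P.Monic ∧ 0 < P.natDegree} A ⧸
      Ideal.span (Set.range fun P : {P : Polynomial A // P.Monic ∧ 0 < P.natDegree} =>
        Polynomial.aeval (MvPolynomial.X (R := A) P) P.1)))) Q (algebraMap A (MvPolynomial {P : Polynomial A // P.Monic ∧ 0 < P.natDegree} A ⧸
      Ideal.span (Set.range fun P : {P : Polynomial A // P.Monic ∧ 0 < P.natDegree} =>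
        Polynomial.aeval (MvPolynomial.X (R := A) P) P.1))) rfl).IsIntegral := by
  refine ⟨comap_surjective A, fun Q _ => residue A Q⟩

end Groth.Agent.S16572
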