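import Groth.Statements.S0076
import Groth.Agent.Lib.Helper11.PerfLib

set_option autoImplicit false
open CategoryTheory CategoryTheory.Limits AlgebraicGeometry Opposite
universe u
open EtBase

namespace Groth.Agent.S0076

open Groth.Agent.Lib.Helper11.PerfLib in
theorem eq_of_comp_surjective {S X Y Y' : Scheme.{u}} (q : X ⟶ S) [AlgebraicGeometry.Etale q]
    (π : Y' ⟶ Y) [Surjective π] (a b : Y ⟶ X) (hab : a ≫ q = b ≫ q) (h : π ≫ a = π ≫ b) :
    a = b := by
  let c : Y ⟶ pullback q q := pullback.lift a b hab
  have hc1 : c ≫ pullback.fst q q = a := pullback.lift_fst _ _ _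
  have hc2 : c ≫ pullback.snd q q = b := pullback.lift_snd _ _ _
  have hrange : Set.range c.base ⊆ Set.range (pullback.diagonal q).base := by
    rintro _ ⟨y, rfl⟩
    obtain ⟨y', rfl⟩ := π.surjective y
    refine ⟨(π ≫ a) y', ?_⟩
    have : (π ≫ a) ≫ pullback.diagonal q = π ≫ c := by
      apply pullback.hom_ext
      · rw [Category.assoc, pullback.diagonal_fst, Category.comp_id, Category.assoc, hc1]
      · rw [Category.assoc, pullback.diagonal_snd, Category.comp_id, Category.assoc, hc2, h]
    rw [← Scheme.Hom.comp_apply, this, Scheme.Hom.comp_apply]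
  let l := IsOpenImmersion.lift (pullback.diagonal q) c hrange
  have hl : l ≫ pullback.diagonal q = c := IsOpenImmersion.lift_fac _ _ _
  have h1 : l = a := by
    have := congrArg (· ≫ pullback.fst q q) hl
    simp only [Category.assoc, pullback.diagonal_fst, Category.comp_id, hc1] at this
    exact this
  have h2 : l = b := by
    have := congrArg (· ≫ pullback.snd q q) hl
    simp only [Category.assoc, pullback.diagonal_snd, Category.comp_id, hc2] at this
    exact this
  rw [← h1, h2]

theorem isIso_of_etale_ui_surj {U Y : Scheme.{u}} (q : U ⟶ Y) [AlgebraicGeometry.Etale q]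
    [UniversallyInjective q] [Surjective q] : IsIso q := by
  haveI : Surjective (pullback.diagonal q) := (UniversallyInjective.iff_diagonal _).mp inferInstance
  haveI : IsIso (pullback.diagonal q) :=
    (isIso_iff_isOpenImmersion_and_surjective _).mpr ⟨inferInstance, inferInstance⟩
  haveI : Mono q := (pullback.isIso_diagonal_iff (f := q)).mp inferInstance
  haveI : IsOpenImmersion q := IsOpenImmersion.of_flat_of_mono _
  exact (isIso_iff_isOpenImmersion_and_surjective _).mpr ⟨inferInstance, inferInstance⟩

theorem isOpen_image_of_uh {P' P : Scheme.{u}} (ρ : P' ⟶ P) [IsIntegralHom ρ]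
    [UniversallyInjective ρ] [Surjective ρ] (W : Set P') (hW : IsOpen W) :
    IsOpen (ρ.base '' W) := by
  have hbij : Function.Bijective ρ.base := ⟨ρ.injective, ρ.surjective⟩
  have : ρ.base '' W = (ρ.base '' Wᶜ)ᶜ := by rw [Set.image_compl_eq hbij, compl_compl]
  rw [this]
  exact (ρ.isClosedMap _ hW.isClosed_compl).isOpen_compl

theorem ui_of_comp {A B C : Scheme.{u}} (f : A ⟶ B) (h : B ⟶ C) [UniversallyInjective (f ≫ h)] :
    UniversallyInjective f := by
  have h1 : UniversallyInjective (f ≫ h) := inferInstance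
  rw [Groth.Agent.Lib.Helper22.Frob.universallyInjective_iff_field] at h1 ⊢
  intro K _ g₁ g₂ hg
  apply h1 K
  show g₁ ≫ f ≫ h = g₂ ≫ f ≫ h
  have hg' : g₁ ≫ f = g₂ ≫ f := hg
  rw [← Category.assoc, hg', Category.assoc]

/-- the existence part -/
theorem exists_descent {S S' : Scheme.{u}} (g : S' ⟶ S) [IsIntegralHom g] [UniversallyInjective g]
    [Surjective g] {X Y : Scheme.{u}} (x : X ⟶ S) (y : Y ⟶ S) [AlgebraicGeometry.Etale x]
    (ψ : pullback y g ⟶ pullback x g) (hψ : ψ ≫ pullback.snd x g = pullback.snd y g) :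
    ∃ φ : Y ⟶ X, φ ≫ x = y ∧ pullback.fst y g ≫ φ = ψ ≫ pullback.fst x g := by
  haveI : IsIntegralHom (pullback.fst y g) :=
    MorphismProperty.pullback_fst (P := @IsIntegralHom) _ _ inferInstance
  haveI : UniversallyInjective (pullback.fst y g) :=
    MorphismProperty.pullback_fst (P := @UniversallyInjective) _ _ inferInstance
  haveI : Surjective (pullback.fst y g) :=
    MorphismProperty.pullback_fst (P := @Surjective) _ _ inferInstance
  -- the product and the projection to Y
  haveI : AlgebraicGeometry.Etale (pullback.snd x y) :=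
    MorphismProperty.pullback_snd (P := @AlgebraicGeometry.Etale) _ _ inferInstance
  haveI : IsIntegralHom (pullback.fst (pullback.snd x y) (pullback.fst y g)) :=
    MorphismProperty.pullback_fst (P := @IsIntegralHom) _ _ inferInstance
  haveI : UniversallyInjective (pullback.fst (pullback.snd x y) (pullback.fst y g)) :=
    MorphismProperty.pullback_fst (P := @UniversallyInjective) _ _ inferInstance
  haveI : Surjective (pullback.fst (pullback.snd x y) (pullback.fst y g)) :=
    MorphismProperty.pullback_fst (P := @Surjective) _ _ inferInstance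
  haveI : AlgebraicGeometry.Etale (pullback.snd (pullback.snd x y) (pullback.fst y g)) :=
    MorphismProperty.pullback_snd (P := @AlgebraicGeometry.Etale) _ _ inferInstance
  -- the graph
  have hcomm : (ψ ≫ pullback.fst x g) ≫ x = pullback.fst y g ≫ y := by
    rw [Category.assoc, pullback.condition, ← Category.assoc, hψ, pullback.condition]
  let a : pullback y g ⟶ pullback x y := pullback.lift (ψ ≫ pullback.fst x g) (pullback.fst y g) hcomm
  have ha1 : a ≫ pullback.fst x y = ψ ≫ pullback.fst x g := pullback.lift_fst _ _ _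
  have ha2 : a ≫ pullback.snd x y = pullback.fst y g := pullback.lift_snd _ _ _
  let σ : pullback y g ⟶ pullback (pullback.snd x y) (pullback.fst y g) :=
    pullback.lift a (𝟙 _) (by rw [ha2, Category.id_comp])
  have hσ1 : σ ≫ pullback.fst (pullback.snd x y) (pullback.fst y g) = a := pullback.lift_fst _ _ _
  have hσ2 : σ ≫ pullback.snd (pullback.snd x y) (pullback.fst y g) = 𝟙 _ := pullback.lift_snd _ _ _
  haveI : AlgebraicGeometry.Etale (σ ≫ pullback.snd (pullback.snd x y) (pullback.fst y g)) := by
    rw [hσ2]; infer_instance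
  haveI : AlgebraicGeometry.Etale σ :=
    MorphismProperty.of_postcomp (W := @AlgebraicGeometry.Etale) (W' := @AlgebraicGeometry.Etale) σ
      (pullback.snd (pullback.snd x y) (pullback.fst y g)) inferInstance inferInstance
  haveI : Mono σ := mono_of_mono_fac hσ2
  haveI : IsOpenImmersion σ := IsOpenImmersion.of_flat_of_mono _
  -- the open subscheme of the product
  let Ω : (pullback x y).Opens :=
    ⟨(pullback.fst (pullback.snd x y) (pullback.fst y g)).base '' Set.range σ.base,
      isOpen_image_of_uh _ _ σ.isOpenEmbedding.isOpen_range⟩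
  have hrange : Set.range a.base ⊆ Set.range Ω.ι.base := by
    rw [Scheme.Opens.range_ι]
    rintro _ ⟨y', rfl⟩
    refine ⟨σ y', ⟨y', rfl⟩, ?_⟩
    rw [← Scheme.Hom.comp_apply, hσ1]
  let τ : pullback y g ⟶ (Ω : Scheme.{u}) := IsOpenImmersion.lift Ω.ι a hrange
  have hτ : τ ≫ Ω.ι = a := IsOpenImmersion.lift_fac _ _ _
  have w : 𝟙 _ ≫ pullback.fst y g = τ ≫ (Ω.ι ≫ pullback.snd x y) := by
    rw [Category.id_comp, ← Category.assoc, hτ, ha2]
  haveI : UniversallyInjective (τ ≫ Ω.ι) := by
    rw [hτ, ← hσ1]
    exact MorphismProperty.comp_mem (W := @UniversallyInjective) _ _ inferInstance inferInstance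
  haveI : UniversallyInjective τ := ui_of_comp τ Ω.ι
  haveI : Surjective τ := by
    constructor
    intro u
    have hu : Ω.ι u ∈ Set.range Ω.ι.base := ⟨u, rfl⟩
    rw [Scheme.Opens.range_ι] at hu
    obtain ⟨_, ⟨y', rfl⟩, hy'⟩ := hu
    refine ⟨y', ?_⟩
    apply Ω.ι.isOpenEmbedding.injective
    rw [← Scheme.Hom.comp_apply, hτ, ← hσ1, Scheme.Hom.comp_apply]
    exact hy'
  haveI : UniversallyInjective (Ω.ι ≫ pullback.snd x y) :=
    (Groth.Agent.Lib.Helper11.PerfLib.ui_iff τ (pullback.fst y g) (Ω.ι ≫ pullback.snd x y) (𝟙 _) w).mpr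
      inferInstance
  haveI : Surjective (Ω.ι ≫ pullback.snd x y) :=
    (Groth.Agent.Lib.Helper11.PerfLib.surj_iff τ (pullback.fst y g) (Ω.ι ≫ pullback.snd x y) (𝟙 _) w).mpr
      inferInstance
  haveI : IsIso (Ω.ι ≫ pullback.snd x y) := isIso_of_etale_ui_surj _
  have hτ' : pullback.fst y g ≫ inv (Ω.ι ≫ pullback.snd x y) = τ := by
    rw [IsIso.comp_inv_eq, ← w, Category.id_comp]
  refine ⟨inv (Ω.ι ≫ pullback.snd x y) ≫ Ω.ι ≫ pullback.fst x y, ?_, ?_⟩
  · rw [Category.assoc, Category.assoc, pullback.condition, ← Category.assoc Ω.ι,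
      IsIso.inv_hom_id_assoc]
  · rw [← Category.assoc, hτ', ← Category.assoc, hτ, ha1]

/-- For X étale over S and any S-scheme Y, base change along an integral, universally injective,
surjective S' → S gives a bijection between S-morphisms Y → X and S'-morphisms of the base changes. -/
theorem result {S S' : Scheme.{u}} (g : S' ⟶ S) [IsIntegralHom g] [UniversallyInjective g]
    [Surjective g] (X Y : Over S) [AlgebraicGeometry.Etale X.hom] :
    Function.Bijective (fun φ : Y ⟶ X => (Over.pullback g).map φ) := by

  constructor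
  · intro φ₁ φ₂ h
    have h' : (Over.pullback g).map φ₁ = (Over.pullback g).map φ₂ := h
    have hl := congrArg (fun t => t.left ≫ pullback.fst X.hom g) h'
    simp only [Over.pullback_map_left, pullback.lift_fst] at hl
    haveI : Surjective (pullback.fst Y.hom g) :=
      MorphismProperty.pullback_fst (P := @Surjective) _ _ inferInstance
    apply Over.OverMorphism.ext
    exact eq_of_comp_surjective X.hom (pullback.fst Y.hom g) φ₁.left φ₂.left
      ((Over.w φ₁).trans (Over.w φ₂).symm) hl
  · intro ψ
    have hψ : ψ.left ≫ pullback.snd X.hom g = pullback.snd Y.hom g := Over.w ψ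
    obtain ⟨φ, hφ1, hφ2⟩ := exists_descent g X.hom Y.hom ψ.left hψ
    refine ⟨Over.homMk φ hφ1, ?_⟩
    apply Over.OverMorphism.ext
    show ((Over.pullback g).map (Over.homMk φ hφ1)).left = ψ.left
    simp only [Over.pullback_map_left]
    apply pullback.hom_ext
    · rw [pullback.lift_fst]
      exact hφ2
    · rw [pullback.lift_snd]
      exact hψ.symm

end Groth.Agent.S0076
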