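import Groth.Statements.S14002
import Groth.Agent.Lib.Helper8.LocalCriterion2

set_option autoImplicit false
universe u
open CAlg

namespace Groth.Agent.S14002

open TensorProduct in
/-- Flatness of an adic morphism of locally Noetherian formal schemes is detected on the truncations.
Let B → A be a homomorphism of Noetherian rings and J an ideal of B such that A is adically
separated and complete with respect to the extended ideal JA. Then A is a flat B-module if and only
if for every n ≥ 1 the base change (B/Jⁿ) ⊗_B A = A/JⁿA is a flat (B/Jⁿ)-module. The ring B is not
assumed separated or complete for the J-adic topology. (The published statement is about an adic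
morphism of locally Noetherian formal schemes, so that both rings are adic there; the criterion
holds without that assumption on B.) -/
theorem result (B A : Type u) [CommRing B] [CommRing A]
    [IsNoetherianRing B] [IsNoetherianRing A] [Algebra B A] (J : Ideal B)
    [IsAdicComplete (J.map (algebraMap B A)) A] :
    Module.Flat B A ↔ ∀ n : ℕ, 0 < n → Module.Flat (B ⧸ J ^ n) ((B ⧸ J ^ n) ⊗[B] A) := by
  constructor
  · intro h n _
    infer_instance
  · intro h
    apply Groth.Agent.Lib.Helper8.flat_of_forall_flat_quotient_pow J A h
    intro 𝔞
    rw [eq_bot_iff]
    intro x hx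
    rw [Submodule.mem_iInf] at hx
    rw [Submodule.mem_bot]
    have hJ : J.map (algebraMap B A) ≤ Ideal.jacobson ⊥ := IsAdicComplete.le_jacobson_bot _
    have hkrull := Ideal.iInf_pow_smul_eq_bot_of_le_jacobson (M := A ⊗[B] 𝔞)
      (J.map (algebraMap B A)) hJ
    have hmem : (TensorProduct.comm B 𝔞 A) x ∈
        ⨅ i : ℕ, (J.map (algebraMap B A)) ^ i • (⊤ : Submodule A (A ⊗[B] 𝔞)) := by
      rw [Submodule.mem_iInf]
      intro n
      refine Submodule.smul_induction_on (hx n) ?_ ?_
      · intro j hj t _
        rw [map_smul, ← algebraMap_smul A j ((TensorProduct.comm B 𝔞 A) t)]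
        refine Submodule.smul_mem_smul ?_ Submodule.mem_top
        rw [← Ideal.map_pow]
        exact Ideal.mem_map_of_mem _ hj
      · intro t1 t2 h1 h2
        rw [map_add]
        exact add_mem h1 h2
    rw [hkrull, Submodule.mem_bot] at hmem
    exact (TensorProduct.comm B 𝔞 A).injective (by rw [hmem, map_zero])

end Groth.Agent.S14002
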