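import Groth.Statements.S14954
import Mathlib
import Groth.Agent.S14952
import Groth.Agent.Lib.Helper22.Milnor

set_option autoImplicit false
universe u
open TensorProduct
open EtAlg

namespace Groth.Agent.S14954


open TensorProduct

/-- finiteness of `S ⊗ ker π` when the quotient is flat and `S ⊗ quotient` is finitely presented -/
lemma finite_baseChange_ker {R : Type u} [CommRing R] (S : Type u) [CommRing S] [Algebra R S]
    {F L : Type u} [AddCommGroup F] [AddCommGroup L] [Module R F] [Module R L]
    [Module.Finite R F] [Module.Flat R L] [Module.FinitePresentation S (S ⊗[R] L)]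
    (π : F →ₗ[R] L) (hπ : Function.Surjective π) :
    Module.Finite S (S ⊗[R] LinearMap.ker π) := by
  have hex0 : Function.Exact (LinearMap.ker π).subtype π := LinearMap.exact_subtype_ker_map π
  have hinj : Function.Injective ((LinearMap.ker π).subtype.lTensor S) :=
    LinearMap.lTensor_injective_of_exact_of_flat π hπ (LinearMap.ker π).subtype
      (LinearMap.ker π).subtype_injective hex0 S
  have hex := lTensor_exact S (M := LinearMap.ker π) hex0 hπ
  have hsurj' : Function.Surjective (π.baseChange S) := by
    have h : (π.baseChange S : S ⊗[R] F → S ⊗[R] L) = π.lTensor S :=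
      LinearMap.baseChange_eq_ltensor _
    rw [h]
    exact LinearMap.lTensor_surjective S hπ
  have hfg : (LinearMap.ker (π.baseChange S)).FG :=
    Module.FinitePresentation.fg_ker (π.baseChange S) hsurj'
  have hinj' : Function.Injective ((LinearMap.ker π).subtype.baseChange S) := by
    have h : (((LinearMap.ker π).subtype.baseChange S) : S ⊗[R] (LinearMap.ker π) → S ⊗[R] F) =
        (LinearMap.ker π).subtype.lTensor S := LinearMap.baseChange_eq_ltensor _
    rw [h]
    exact hinj
  have hrange : LinearMap.range ((LinearMap.ker π).subtype.baseChange S) =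
      LinearMap.ker (π.baseChange S) := by
    ext x
    rw [LinearMap.mem_ker, LinearMap.mem_range]
    have h1 : (π.baseChange S) x = (π.lTensor S) x := by
      rw [← LinearMap.baseChange_eq_ltensor]
    rw [h1]
    constructor
    · rintro ⟨y, rfl⟩
      have h2 : ((LinearMap.ker π).subtype.baseChange S) y =
          ((LinearMap.ker π).subtype.lTensor S) y := by
        rw [← LinearMap.baseChange_eq_ltensor]
      rw [h2]
      exact hex.apply_apply_eq_zero y
    · intro hx
      obtain ⟨y, hy⟩ := (hex x).mp hx
      refine ⟨y, ?_⟩
      rw [← hy, ← LinearMap.baseChange_eq_ltensor]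
  have hfin : Module.Finite S (LinearMap.range ((LinearMap.ker π).subtype.baseChange S)) := by
    rw [Module.Finite.iff_fg, hrange]
    exact hfg
  exact Module.Finite.equiv (LinearEquiv.ofInjective _ hinj').symm

/-- Let B' = B ×_A A' be a fibre product of commutative rings with A' → A surjective and L' a B'-module.
If B ⊗_{B'} L' is flat and finitely presented over B and A' ⊗_{B'} L' is flat and finitely presented
over A', then L' is finitely presented over B'. (Together with descent of flatness, L' is then flat
of finite presentation, i.e. finite locally free.) -/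
theorem result (B' B A' A : Type u) [CommRing B'] [CommRing B] [CommRing A'] [CommRing A]
    [Algebra B' B] [Algebra B' A'] [Algebra B A] [Algebra A' A] [Algebra B' A] [IsScalarTower B' B A] [IsScalarTower B' A' A]
    (hsq : EtMil.IsFibreSquare B' B A' A)
    (L' : Type u) [AddCommGroup L'] [Module B' L']
    [Module.Flat B (B ⊗[B'] L')] [Module.FinitePresentation B (B ⊗[B'] L')]
    [Module.Flat A' (A' ⊗[B'] L')] [Module.FinitePresentation A' (A' ⊗[B'] L')] :
    Module.FinitePresentation B' L' := by
  classical
  haveI hfin : Module.Finite B' L' := Groth.Agent.Lib.Helper22.Milnor.finite_of_baseChange L' hsq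
  haveI hflat : Module.Flat B' L' := Groth.Agent.S14952.result B' B A' A hsq L'
  obtain ⟨n, π, hπ⟩ := Module.Finite.exists_fin' B' L'
  haveI h1 : Module.Finite B (B ⊗[B'] LinearMap.ker π) := finite_baseChange_ker B π hπ
  haveI h2 : Module.Finite A' (A' ⊗[B'] LinearMap.ker π) := finite_baseChange_ker A' π hπ
  haveI hK : Module.Finite B' (LinearMap.ker π) :=
    Groth.Agent.Lib.Helper22.Milnor.finite_of_baseChange (LinearMap.ker π) hsq
  exact Module.finitePresentation_of_surjective π hπ (Module.Finite.iff_fg.mp hK)

end Groth.Agent.S14954
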