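import Groth.Statements.S2019
import Groth.Agent.Lib.Lead.MilnorGlue

set_option autoImplicit false
universe u
open TensorProduct
open EtAlg

namespace Groth.Agent.S2019

/-- Let B' = B ×_A A' be a fibre product of rings with A' -> A surjective, N a B-module, M' an A'-module
and φ : A ⊗_B N ≅ A ⊗_{A'} M' an A-linear isomorphism. For the glued B'-module N' = N ×_φ M' (pairs
with matching images), the canonical maps B ⊗_{B'} N' -> N and A' ⊗_{B'} N' -> M' induced by the two
projections are bijective. -/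
theorem result (B' B A' A : Type u) [CommRing B'] [CommRing B] [CommRing A'] [CommRing A]
    [Algebra B' B] [Algebra B' A'] [Algebra B A] [Algebra A' A] [Algebra B' A] [IsScalarTower B' B A] [IsScalarTower B' A' A]
    (hsq : EtMil.IsFibreSquare B' B A' A)
    (N M' : Type u) [AddCommGroup N] [Module B N] [Module B' N] [IsScalarTower B' B N]
    [AddCommGroup M'] [Module A' M'] [Module B' M'] [IsScalarTower B' A' M'] (φ : A ⊗[B] N ≃ₗ[A] A ⊗[A'] M') :
    Function.Bijective (LinearMap.liftBaseChange B (EtMil.glueFst B' φ)) ∧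
    Function.Bijective (LinearMap.liftBaseChange A' (EtMil.glueSnd B' φ)) := by
  have hinj : ∀ x : EtMil.glue B' φ, EtMil.glueFst B' φ x = 0 → EtMil.glueSnd B' φ x = 0 → x = 0 := by
    intro x h1 h2
    apply Subtype.ext
    exact Prod.ext h1 h2
  have himg : ∀ (n : N) (m' : M'), φ ((1 : A) ⊗ₜ[B] n) = (1 : A) ⊗ₜ[A'] m' ↔
      ∃ x : EtMil.glue B' φ, EtMil.glueFst B' φ x = n ∧ EtMil.glueSnd B' φ x = m' := by
    intro n m'
    constructor
    · intro h
      exact ⟨⟨(n, m'), h⟩, rfl, rfl⟩
    · rintro ⟨x, rfl, rfl⟩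
      exact x.2
  exact ⟨⟨Groth.Agent.Lib.Lead.MilnorGlue.liftFst_injective hsq _ _ φ hinj himg,
      Groth.Agent.Lib.Lead.MilnorGlue.liftFst_surjective hsq _ _ φ himg⟩,
    ⟨Groth.Agent.Lib.Lead.MilnorGlue.liftSnd_injective hsq _ _ φ hinj himg,
      Groth.Agent.Lib.Lead.MilnorGlue.liftSnd_surjective hsq _ _ φ himg⟩⟩

end Groth.Agent.S2019
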