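import Groth.Statements.S2020
import Groth.Agent.S2019
import Groth.Agent.S14952

set_option autoImplicit false
universe u
open TensorProduct
open EtAlg

namespace Groth.Agent.S2020

/-- Let B' → B, B' → A', B → A and A' → A be ring homomorphisms forming a commutative square that is a
fibre product, B' = B ×_A A', with A' → A surjective. (1) Given a flat B-module N, a flat A'-module
M' and an A-linear isomorphism φ : A ⊗_B N ≅ A ⊗_{A'} M', the glued module N ×_φ M' (pairs (n, m')
with φ(1 ⊗ n) = 1 ⊗ m') is a flat B'-module. (2) For every flat B'-module L', the map L' → (B ⊗_{B'}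
L') × (A' ⊗_{B'} L') is injective, and any pair (x, y) whose two images in A ⊗_{B'} L' agree comes
from an element of L'. -/
theorem result (B' B A' A : Type u) [CommRing B'] [CommRing B] [CommRing A'] [CommRing A]
    [Algebra B' B] [Algebra B' A'] [Algebra B A] [Algebra A' A] [Algebra B' A] [IsScalarTower B' B A] [IsScalarTower B' A' A]
    (hsq : EtMil.IsFibreSquare B' B A' A) :
    (∀ (N M' : Type u) [AddCommGroup N] [Module B N] [Module B' N] [IsScalarTower B' B N]
    [AddCommGroup M'] [Module A' M'] [Module B' M'] [IsScalarTower B' A' M'] (φ : A ⊗[B] N ≃ₗ[A] A ⊗[A'] M'), Module.Flat B N → Module.Flat A' M' → Module.Flat B' ↥(EtMil.glue B' φ)) ∧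
    (∀ (L' : Type u) [AddCommGroup L'] [Module B' L'], Module.Flat B' L' →
      Function.Injective (fun l : L' => (((1 : B) ⊗ₜ[B'] l : B ⊗[B'] L'), ((1 : A') ⊗ₜ[B'] l : A' ⊗[B'] L'))) ∧
      ∀ (x : B ⊗[B'] L') (y : A' ⊗[B'] L'),
        (IsScalarTower.toAlgHom B' B A).toLinearMap.rTensor L' x = (IsScalarTower.toAlgHom B' A' A).toLinearMap.rTensor L' y →
          ∃ l : L', (1 : B) ⊗ₜ[B'] l = x ∧ (1 : A') ⊗ₜ[B'] l = y) := by
  constructor
  · intro N M' _ _ _ _ _ _ _ _ φ hN hM
    obtain ⟨h1, h2⟩ := Groth.Agent.S2019.result B' B A' A hsq N M' φ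
    obtain ⟨e₁, -⟩ : ∃ e : B ⊗[B'] (EtMil.glue B' φ) ≃ₗ[B] N, e = LinearEquiv.ofBijective _ h1 :=
      ⟨_, rfl⟩
    obtain ⟨e₂, -⟩ : ∃ e : A' ⊗[B'] (EtMil.glue B' φ) ≃ₗ[A'] M', e = LinearEquiv.ofBijective _ h2 :=
      ⟨_, rfl⟩
    haveI : Module.Flat B (B ⊗[B'] (EtMil.glue B' φ)) := Module.Flat.of_linearEquiv e₁
    haveI : Module.Flat A' (A' ⊗[B'] (EtMil.glue B' φ)) := Module.Flat.of_linearEquiv e₂
    exact Groth.Agent.S14952.result B' B A' A hsq _
  · intro L' _ _ hL
    obtain ⟨f, hfdef⟩ : ∃ f : B →ₗ[B'] A, f = (IsScalarTower.toAlgHom B' B A).toLinearMap :=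
      ⟨_, rfl⟩
    obtain ⟨g, hgdef⟩ : ∃ g : A' →ₗ[B'] A, g = (IsScalarTower.toAlgHom B' A' A).toLinearMap :=
      ⟨_, rfl⟩
    have hf : ∀ b, f b = algebraMap B A b := by intro b; rw [hfdef]; rfl
    have hg : ∀ a, g a = algebraMap A' A a := by intro a; rw [hgdef]; rfl
    rw [← hfdef, ← hgdef]
    obtain ⟨i, hidef⟩ : ∃ i : B' →ₗ[B'] B × A',
        i = LinearMap.prod (Algebra.linearMap B' B) (Algebra.linearMap B' A') := ⟨_, rfl⟩
    obtain ⟨d, hddef⟩ : ∃ d : B × A' →ₗ[B'] A, d = LinearMap.coprod f (-g) := ⟨_, rfl⟩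
    have hi_apply : ∀ b', i b' = (algebraMap B' B b', algebraMap B' A' b') := by
      intro b'; rw [hidef]; rfl
    have hd_apply : ∀ p : B × A', d p = algebraMap B A p.1 - algebraMap A' A p.2 := by
      intro p
      rw [hddef, LinearMap.coprod_apply, LinearMap.neg_apply, hf, hg, sub_eq_add_neg]
    have hi : Function.Injective i := by
      intro b₁ b₂ h
      rw [hi_apply, hi_apply] at h
      have h1 : algebraMap B' B b₁ = algebraMap B' B b₂ := congrArg Prod.fst h
      have h2 : algebraMap B' A' b₁ = algebraMap B' A' b₂ := congrArg Prod.snd h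
      have hcomp : algebraMap B A (algebraMap B' B b₂) = algebraMap A' A (algebraMap B' A' b₂) := by
        rw [← IsScalarTower.algebraMap_apply, ← IsScalarTower.algebraMap_apply]
      exact (hsq.2 _ _ hcomp).unique ⟨h1, h2⟩ ⟨rfl, rfl⟩
    have hex : Function.Exact i d := by
      intro p
      constructor
      · intro hp
        rw [hd_apply, sub_eq_zero] at hp
        obtain ⟨b', ⟨hb1, hb2⟩, -⟩ := hsq.2 p.1 p.2 hp
        refine ⟨b', ?_⟩
        rw [hi_apply]
        exact Prod.ext hb1 hb2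
      · rintro ⟨b', rfl⟩
        rw [hd_apply, hi_apply, sub_eq_zero]
        show algebraMap B A (algebraMap B' B b') = algebraMap A' A (algebraMap B' A' b')
        rw [← IsScalarTower.algebraMap_apply, ← IsScalarTower.algebraMap_apply]
    have hexT : Function.Exact (i.rTensor L') (d.rTensor L') := Module.Flat.rTensor_exact L' hex
    have hinjT : Function.Injective (i.rTensor L') :=
      Module.Flat.rTensor_preserves_injective_linearMap i hi
    obtain ⟨P, hPdef⟩ : ∃ P : (B × A') ⊗[B'] L' ≃ₗ[B'] (B ⊗[B'] L') × (A' ⊗[B'] L'),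
        P = TensorProduct.prodLeft B' B' B A' L' := ⟨_, rfl⟩
    have k1 : ∀ l : L', P (i.rTensor L' ((1 : B') ⊗ₜ[B'] l)) =
        (((1 : B) ⊗ₜ[B'] l : B ⊗[B'] L'), ((1 : A') ⊗ₜ[B'] l : A' ⊗[B'] L')) := by
      intro l
      rw [LinearMap.rTensor_tmul, hi_apply, map_one, map_one, hPdef, TensorProduct.prodLeft_tmul]
    have k2 : ∀ z : (B × A') ⊗[B'] L', d.rTensor L' z =
        f.rTensor L' (P z).1 - g.rTensor L' (P z).2 := by
      intro z
      induction z using TensorProduct.induction_on with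
      | zero => simp
      | tmul p l =>
        obtain ⟨b, a'⟩ := p
        rw [hPdef, TensorProduct.prodLeft_tmul, LinearMap.rTensor_tmul, LinearMap.rTensor_tmul,
          LinearMap.rTensor_tmul, hd_apply, hf, hg, TensorProduct.sub_tmul]
      | add x y hx hy =>
        rw [map_add, map_add, hx, hy, Prod.fst_add, Prod.snd_add, map_add, map_add]
        abel
    constructor
    · intro l₁ l₂ h
      have h' : (((1 : B) ⊗ₜ[B'] l₁ : B ⊗[B'] L'), ((1 : A') ⊗ₜ[B'] l₁ : A' ⊗[B'] L')) =
          (((1 : B) ⊗ₜ[B'] l₂ : B ⊗[B'] L'), ((1 : A') ⊗ₜ[B'] l₂ : A' ⊗[B'] L')) := h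
      rw [← k1, ← k1] at h'
      have h2 := hinjT (P.injective h')
      have h3 := congrArg (TensorProduct.lid B' L') h2
      rwa [TensorProduct.lid_tmul, TensorProduct.lid_tmul, one_smul, one_smul] at h3
    · intro x y hxy
      have hz : d.rTensor L' (P.symm (x, y)) = 0 := by
        rw [k2, LinearEquiv.apply_symm_apply, hxy, sub_self]
      obtain ⟨w, hw⟩ := (hexT _).1 hz
      have hw' : w = (1 : B') ⊗ₜ[B'] (TensorProduct.lid B' L' w) := by
        rw [← TensorProduct.lid_symm_apply, LinearEquiv.symm_apply_apply]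
      have h4 : P (i.rTensor L' w) = (x, y) := by
        rw [hw, LinearEquiv.apply_symm_apply]
      rw [hw', k1] at h4
      exact ⟨TensorProduct.lid B' L' w, congrArg Prod.fst h4, congrArg Prod.snd h4⟩

end Groth.Agent.S2020
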