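import Groth.Statements.S2021
import Groth.Agent.S2019
import Groth.Agent.S14952
import Groth.Agent.S14953
import Groth.Agent.S14954

set_option autoImplicit false
universe u
open TensorProduct
open EtAlg

namespace Groth.Agent.S2021

/-- Let B' = B ×_A A' be a fibre product of rings with A' -> A surjective, N a B-module, M' an A'-module
and φ : A ⊗_B N ≅ A ⊗_{A'} M'. If N and M' are finitely generated then so is the glued B'-module N
×_φ M'; if N and M' are finite projective then N ×_φ M' is finite projective over B'. -/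
theorem result (B' B A' A : Type u) [CommRing B'] [CommRing B] [CommRing A'] [CommRing A]
    [Algebra B' B] [Algebra B' A'] [Algebra B A] [Algebra A' A] [Algebra B' A] [IsScalarTower B' B A] [IsScalarTower B' A' A]
    (hsq : EtMil.IsFibreSquare B' B A' A)
    (N M' : Type u) [AddCommGroup N] [Module B N] [Module B' N] [IsScalarTower B' B N]
    [AddCommGroup M'] [Module A' M'] [Module B' M'] [IsScalarTower B' A' M'] (φ : A ⊗[B] N ≃ₗ[A] A ⊗[A'] M') :
    (Module.Finite B N → Module.Finite A' M' → Module.Finite B' ↥(EtMil.glue B' φ)) ∧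
    (Module.Finite B N → Module.Projective B N → Module.Finite A' M' → Module.Projective A' M' →
      Module.Finite B' ↥(EtMil.glue B' φ) ∧ Module.Projective B' ↥(EtMil.glue B' φ)) := by
  obtain ⟨h1, h2⟩ := Groth.Agent.S2019.result B' B A' A hsq N M' φ
  obtain ⟨e₁, -⟩ : ∃ e : B ⊗[B'] (EtMil.glue B' φ) ≃ₗ[B] N, e = LinearEquiv.ofBijective _ h1 :=
    ⟨_, rfl⟩
  obtain ⟨e₂, -⟩ : ∃ e : A' ⊗[B'] (EtMil.glue B' φ) ≃ₗ[A'] M', e = LinearEquiv.ofBijective _ h2 :=
    ⟨_, rfl⟩
  have part1 : Module.Finite B N → Module.Finite A' M' → Module.Finite B' ↥(EtMil.glue B' φ) := by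
    intro hN hM
    haveI : Module.Finite B (B ⊗[B'] (EtMil.glue B' φ)) := Module.Finite.equiv e₁.symm
    haveI : Module.Finite A' (A' ⊗[B'] (EtMil.glue B' φ)) := Module.Finite.equiv e₂.symm
    exact Groth.Agent.S14953.result B' B A' A hsq _
  refine ⟨part1, ?_⟩
  intro hN hNp hM hMp
  refine ⟨part1 hN hM, ?_⟩
  haveI : Module.Flat B (B ⊗[B'] (EtMil.glue B' φ)) := Module.Flat.of_linearEquiv e₁
  haveI : Module.Flat A' (A' ⊗[B'] (EtMil.glue B' φ)) := Module.Flat.of_linearEquiv e₂
  haveI : Module.FinitePresentation B N := Module.finitePresentation_of_projective B N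
  haveI : Module.FinitePresentation A' M' := Module.finitePresentation_of_projective A' M'
  haveI : Module.FinitePresentation B (B ⊗[B'] (EtMil.glue B' φ)) :=
    Module.FinitePresentation.of_equiv e₁.symm
  haveI : Module.FinitePresentation A' (A' ⊗[B'] (EtMil.glue B' φ)) :=
    Module.FinitePresentation.of_equiv e₂.symm
  haveI : Module.Flat B' (EtMil.glue B' φ) := Groth.Agent.S14952.result B' B A' A hsq _
  haveI : Module.FinitePresentation B' (EtMil.glue B' φ) :=
    Groth.Agent.S14954.result B' B A' A hsq _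
  exact Module.Flat.projective_of_finitePresentation

end Groth.Agent.S2021
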