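import Groth.Statements.S6916
import Mathlib

set_option autoImplicit false
universe u
open TensorProduct
open EtAlg

namespace Groth.Agent.S6916

/-- `1 ⊗ lid w` is the image of `w` under the structure map tensored with `L'`. -/
theorem one_tmul_lid {B' C L' : Type u} [CommRing B'] [CommRing C] [Algebra B' C]
    [AddCommGroup L'] [Module B' L'] (w : B' ⊗[B'] L') :
    (1 : C) ⊗ₜ[B'] (TensorProduct.lid B' L' w) = (Algebra.linearMap B' C).rTensor L' w := by
  induction w using TensorProduct.induction_on with
  | zero => simp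
  | tmul b l =>
    simp only [TensorProduct.lid_tmul, LinearMap.rTensor_tmul, Algebra.linearMap_apply]
    rw [← TensorProduct.smul_tmul, Algebra.algebraMap_eq_smul_one]
  | add a b ha hb => simp only [map_add, TensorProduct.tmul_add, ha, hb]

/-- Let `B' = B ×_A A'` be a fibre square of rings with `A' → A` surjective and `L'` any `B'`-module.
Then the canonical map from `L'` to the glueing of `(L' ⊗_{B'} B, L' ⊗_{B'} A')` is surjective:
every pair `(x, y) ∈ (B ⊗_{B'} L') × (A' ⊗_{B'} L')` with equal images in `A ⊗_{B'} L'` is of the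
form `(1 ⊗ l, 1 ⊗ l)`. (It is in general not injective.) -/
theorem result (B' B A' A : Type u) [CommRing B'] [CommRing B] [CommRing A'] [CommRing A]
    [Algebra B' B] [Algebra B' A'] [Algebra B A] [Algebra A' A] [Algebra B' A] [IsScalarTower B' B A] [IsScalarTower B' A' A]
    (hsq : EtMil.IsFibreSquare B' B A' A)
    (L' : Type u) [AddCommGroup L'] [Module B' L'] (x : B ⊗[B'] L') (y : A' ⊗[B'] L')
    (hxy : (IsScalarTower.toAlgHom B' B A).toLinearMap.rTensor L' x = (IsScalarTower.toAlgHom B' A' A).toLinearMap.rTensor L' y) :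
    ∃ l : L', (1 : B) ⊗ₜ[B'] l = x ∧ (1 : A') ⊗ₜ[B'] l = y := by
  -- the maps
  let α : B →ₗ[B'] A := (IsScalarTower.toAlgHom B' B A).toLinearMap
  let β : A' →ₗ[B'] A := (IsScalarTower.toAlgHom B' A' A).toLinearMap
  let f : B' →ₗ[B'] B × A' := LinearMap.prod (Algebra.linearMap B' B) (Algebra.linearMap B' A')
  let g : B × A' →ₗ[B'] A := α.comp (LinearMap.fst B' B A') - β.comp (LinearMap.snd B' B A')
  have hg : Function.Surjective g := by
    intro a
    obtain ⟨a', rfl⟩ := hsq.1 a
    refine ⟨(0, -a'), ?_⟩
    simp [g, α, β]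
  have hfg : Function.Exact f g := by
    rintro ⟨b, a'⟩
    constructor
    · intro h
      have h' : algebraMap B A b = algebraMap A' A a' := by
        have : algebraMap B A b - algebraMap A' A a' = 0 := by simpa [g, α, β] using h
        exact sub_eq_zero.1 this
      obtain ⟨b', ⟨hb1, hb2⟩, -⟩ := hsq.2 b a' h'
      exact ⟨b', by simp [f, hb1, hb2]⟩
    · rintro ⟨b', hb'⟩
      have h1 : algebraMap B' B b' = b := by simpa [f] using congrArg Prod.fst hb'
      have h2 : algebraMap B' A' b' = a' := by simpa [f] using congrArg Prod.snd hb'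
      simp only [g, α, β, LinearMap.sub_apply, LinearMap.comp_apply, LinearMap.fst_apply,
        LinearMap.snd_apply, AlgHom.toLinearMap_apply, IsScalarTower.coe_toAlgHom']
      rw [← h1, ← h2, ← IsScalarTower.algebraMap_apply, ← IsScalarTower.algebraMap_apply, sub_self]
  have hex := rTensor_exact L' hfg hg
  -- the element z
  let z : (B × A') ⊗[B'] L' :=
    (LinearMap.inl B' B A').rTensor L' x + (LinearMap.inr B' B A').rTensor L' y
  have hz : g.rTensor L' z = 0 := by
    simp only [z, map_add]
    rw [← LinearMap.comp_apply, ← LinearMap.comp_apply, ← LinearMap.rTensor_comp,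
      ← LinearMap.rTensor_comp]
    have e1 : g.comp (LinearMap.inl B' B A') = α := by
      ext b; simp [g]
    have e2 : g.comp (LinearMap.inr B' B A') = -β := by
      ext a'; simp [g]
    rw [e1, e2, LinearMap.rTensor_neg, LinearMap.neg_apply]
    show α.rTensor L' x + -(β.rTensor L' y) = 0
    rw [show α.rTensor L' x = β.rTensor L' y from hxy, add_neg_cancel]
  obtain ⟨w, hw⟩ := (hex z).1 hz
  refine ⟨TensorProduct.lid B' L' w, ?_, ?_⟩
  · have hw1 := congrArg ((LinearMap.fst B' B A').rTensor L') hw
    rw [← LinearMap.comp_apply, ← LinearMap.rTensor_comp] at hw1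
    simp only [z, map_add] at hw1
    rw [← LinearMap.comp_apply, ← LinearMap.comp_apply, ← LinearMap.rTensor_comp,
      ← LinearMap.rTensor_comp, LinearMap.fst_comp_inl, LinearMap.fst_comp_inr,
      LinearMap.rTensor_id, LinearMap.rTensor_zero] at hw1
    simp only [LinearMap.id_coe, id_eq, LinearMap.zero_apply, add_zero] at hw1
    rw [← hw1]
    have e : (LinearMap.fst B' B A').comp f = Algebra.linearMap B' B := by
      ext; simp [f]
    rw [e]
    exact one_tmul_lid w
  · have hw1 := congrArg ((LinearMap.snd B' B A').rTensor L') hw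
    rw [← LinearMap.comp_apply, ← LinearMap.rTensor_comp] at hw1
    simp only [z, map_add] at hw1
    rw [← LinearMap.comp_apply, ← LinearMap.comp_apply, ← LinearMap.rTensor_comp,
      ← LinearMap.rTensor_comp, LinearMap.snd_comp_inl, LinearMap.snd_comp_inr,
      LinearMap.rTensor_id, LinearMap.rTensor_zero] at hw1
    simp only [LinearMap.id_coe, id_eq, LinearMap.zero_apply, zero_add] at hw1
    rw [← hw1]
    have e : (LinearMap.snd B' B A').comp f = Algebra.linearMap B' A' := by
      ext; simp [f]
    rw [e]
    exact one_tmul_lid w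

end Groth.Agent.S6916
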