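import Groth.Statements.S14578
import Groth.Agent.Lib.Helper11.AA5
import Groth.Agent.Lib.Helper11.GrpD

set_option autoImplicit false
universe u
open CategoryTheory MonoidalCategory CartesianMonoidalCategory MonObj GrpObj AlgebraicGeometry CategoryTheory.Limits
open AlgGrp

namespace Groth.Agent.S14578

theorem mul_inv_inv_iff {H : Type*} [Group H] (x y z : H) : x * y⁻¹ * z⁻¹ = 1 ↔ x = z * y := by
  constructor
  · intro h
    calc x = (x * y⁻¹ * z⁻¹) * (z * y) := by group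
      _ = z * y := by rw [h, _root_.one_mul]
  · rintro rfl
    group

open Groth.Agent.Lib.Helper11 in
theorem main (k : Type u) [Field k]
    (H G : Over (Spec (CommRingCat.of k))) [GrpObj H] [GrpObj G] [LocallyOfFiniteType H.hom] [QuasiCompact H.hom]
    (hH : Function.Bijective ((Scheme.ΓSpecIso (CommRingCat.of k)).inv ≫ H.hom.appTop).hom) (f : H ⟶ G) (hf : η[H] ≫ f = η[G]) : IsMonHom f := by
  haveI hconn : ConnectedSpace H.left := AA1.connectedSpace_of_bijective H.hom hH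
  haveI : IsSeparated H.hom := GrpD.isSeparated_hom H
  haveI : IsSeparated G.hom := GrpD.isSeparated_hom G
  haveI : IsLocallyNoetherian H.left := LocallyOfFiniteType.isLocallyNoetherian H.hom
  have hf1 : ∀ (T : Over (Spec (CommRingCat.of k))), (1 : T ⟶ H) ≫ f = 1 := by
    intro T
    rw [Hom.one_def, Category.assoc, hf, Hom.one_def]
  let F₁ : H ⊗ H ⟶ G := ((fst H H * snd H H) ≫ f) * (snd H H ≫ f)⁻¹ * (fst H H ≫ f)⁻¹
  let F₂ : H ⊗ H ⟶ G := 1
  have F₁_comp : ∀ (T : Over (Spec (CommRingCat.of k))) (c : T ⟶ H ⊗ H), c ≫ F₁ =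
      (((c ≫ fst H H) * (c ≫ snd H H)) ≫ f) * ((c ≫ snd H H) ≫ f)⁻¹ * ((c ≫ fst H H) ≫ f)⁻¹ := by
    intro T c
    simp only [F₁]
    rw [MonObj.comp_mul, MonObj.comp_mul, GrpObj.comp_inv, GrpObj.comp_inv, ← Category.assoc,
      MonObj.comp_mul, ← Category.assoc, ← Category.assoc]
  -- pointwise form
  let P : ∀ (T : Over (Spec (CommRingCat.of k))), (T ⟶ H) → Prop := fun T b =>
    ∀ (T' : Over (Spec (CommRingCat.of k))) (a' : T' ⟶ H) (t : T' ⟶ T),
      (a' * (t ≫ b)) ≫ f = (a' ≫ f) * ((t ≫ b) ≫ f)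
  have inC_iff : ∀ (T : Over (Spec (CommRingCat.of k))) (b : T ⟶ H),
      AA5.InC F₁ F₂ b ↔ P T b := by
    intro T b
    constructor
    · intro h T' a' t
      unfold AA5.InC at h
      have h1 : lift a' t ≫ (H ◁ b) ≫ F₁ = lift a' t ≫ (H ◁ b) ≫ F₂ := by rw [h]
      rw [← Category.assoc, ← Category.assoc, lift_whiskerLeft, F₁_comp, lift_fst, lift_snd] at h1
      simp only [F₂] at h1
      rw [MonObj.comp_one] at h1
      exact (mul_inv_inv_iff _ _ _).mp h1
    · intro h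
      unfold AA5.InC
      rw [F₁_comp, whiskerLeft_fst, whiskerLeft_snd]
      simp only [F₂]
      rw [MonObj.comp_one]
      exact (mul_inv_inv_iff _ _ _).mpr (h _ (fst H T) (snd H T))
  have hmul : ∀ (T : Over (Spec (CommRingCat.of k))) (b₁ b₂ : T ⟶ H), AA5.InC F₁ F₂ b₁ →
      AA5.InC F₁ F₂ b₂ → AA5.InC F₁ F₂ (b₁ * b₂) := by
    intro T b₁ b₂ h1 h2
    rw [inC_iff] at h1 h2 ⊢
    intro T' a' t
    rw [MonObj.comp_mul, ← _root_.mul_assoc, h2 T' (a' * (t ≫ b₁)) t, h1 T' a' t,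
      h2 T' (t ≫ b₁) t, _root_.mul_assoc]
  have hinv : ∀ (T : Over (Spec (CommRingCat.of k))) (b : T ⟶ H), AA5.InC F₁ F₂ b →
      AA5.InC F₁ F₂ b⁻¹ := by
    intro T b h1
    rw [inC_iff] at h1 ⊢
    intro T' a' t
    rw [GrpObj.comp_inv]
    have e1 : ∀ a'' : T' ⟶ H, (a'' * (t ≫ b)⁻¹) ≫ f = (a'' ≫ f) * ((t ≫ b) ≫ f)⁻¹ := by
      intro a''
      have := h1 T' (a'' * (t ≫ b)⁻¹) t
      rw [inv_mul_cancel_right] at this
      rw [this, mul_inv_cancel_right]
    have e2 : ((t ≫ b)⁻¹) ≫ f = ((t ≫ b) ≫ f)⁻¹ := by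
      have := e1 1
      rw [_root_.one_mul, hf1, _root_.one_mul] at this
      exact this
    rw [e1, e2]
  have hf' : (H ◁ η[H]) ≫ F₁ = toUnit _ ≫ η[G] := by
    rw [F₁_comp, whiskerLeft_fst, whiskerLeft_snd, ← Hom.one_def]
    have h1 : snd H (𝟙_ (Over (Spec (CommRingCat.of k)))) ≫ η[H] = 1 := by
      rw [Hom.one_def]
      congr 1
      exact toUnit_unique _ _
    rw [h1, _root_.mul_one, hf1]
    group
  have hg' : (H ◁ η[H]) ≫ F₂ = toUnit _ ≫ η[G] := by
    simp only [F₂]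
    rw [MonObj.comp_one, Hom.one_def]
  have hfg' : (η[H] ▷ H) ≫ F₁ = (η[H] ▷ H) ≫ F₂ := by
    rw [F₁_comp, whiskerRight_fst, whiskerRight_snd]
    simp only [F₂]
    rw [MonObj.comp_one]
    have h1 : fst (𝟙_ (Over (Spec (CommRingCat.of k)))) H ≫ η[H] = 1 := by
      rw [Hom.one_def]
      congr 1
    rw [h1, _root_.one_mul, hf1]
    group
  obtain ⟨V, hV1, hV2⟩ := AA4.local_rigidity_over H H G hH η[H] η[H] η[G] F₁ F₂ hf' hg' hfg'
  have key : F₁ = F₂ := AA5.eq_of_subgroup_functor F₁ F₂ hmul hinv V hV1 hV2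
  have hP : P H (𝟙 H) := by
    rw [← inC_iff]
    unfold AA5.InC
    rw [key]
  have hmain := hP (H ⊗ H) (fst H H) (snd H H)
  rw [Category.comp_id] at hmain
  refine ⟨hf, ?_⟩
  have e1 : μ[H] = fst H H * snd H H := by
    rw [Hom.mul_def, lift_fst_snd, Category.id_comp]
  have e2 : (f ⊗ₘ f) ≫ μ[G] = (fst H H ≫ f) * (snd H H ≫ f) := by
    rw [Hom.mul_def]
    congr 1
  rw [e1, e2, hmain]

/-- Let k be a field, H an anti-affine k-group scheme of finite type (its only global functions are the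
constants), G a k-group scheme of finite type and f : H → G a morphism of k-schemes with f(e_H) =
e_G. Then f is a homomorphism. (The second assertion, that f factors through the centre of the
neutral component of G, is not restated here.) -/
theorem result (k : Type u) [Field k]
    (H G : Over (Spec (CommRingCat.of k))) [GrpObj H] [GrpObj G] [LocallyOfFiniteType H.hom] [QuasiCompact H.hom]
    [LocallyOfFiniteType G.hom] [QuasiCompact G.hom]
    (hH : Function.Bijective ((Scheme.ΓSpecIso (CommRingCat.of k)).inv ≫ H.hom.appTop).hom) (f : H ⟶ G) (hf : η[H] ≫ f = η[G]) : IsMonHom f := by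
  exact main k H G hH f hf

end Groth.Agent.S14578
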