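import Groth.Statements.S0755
import Mathlib
import Groth.Agent.Lib.Helper8.IndEtColim
import Groth.Agent.Lib.Helper8.IndEtLiftKer

set_option autoImplicit false
open CategoryTheory CategoryTheory.Limits AlgebraicGeometry Opposite Topology
universe u
open ProEtW

namespace Groth.Agent.S0755

/-- Let I be an ideal of a ring A. For every ind-etale (A/I)-algebra Cbar there is an ind-etale
A-algebra C with C/IC isomorphic to Cbar as (A/I)-algebras. -/
theorem result (A : Type u) [CommRing A] (I : Ideal A) (Cb : Type u)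
    [CommRing Cb] [Algebra (A ⧸ I) Cb] (h : EtPBC.IsIndEtale (A ⧸ I) Cb) :
    ∃ (C : Type u) (_ : CommRing C) (_ : Algebra A C),
      EtPBC.IsIndEtale A C ∧ Nonempty ((C ⧸ I.map (algebraMap A C)) ≃ₐ[A ⧸ I] Cb) := by

  classical
  letI : Algebra A Cb := ((algebraMap (A ⧸ I) Cb).comp (algebraMap A (A ⧸ I))).toAlgebra
  haveI : IsScalarTower A (A ⧸ I) Cb := IsScalarTower.of_algebraMap_eq (fun _ => rfl)
  have hstar := Groth.Agent.Lib.Helper8.IndEt.indEtaleStar_of_isIndEtale h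
  refine ⟨Groth.Agent.Lib.Helper8.IndEt.Colim A Cb, inferInstance, inferInstance, Groth.Agent.Lib.Helper8.IndEt.isIndEtale_colim, ?_⟩
  have hW := Groth.Agent.Lib.Helper8.IndEt.isWeakColim_colim (A := A) (B := Cb)
  -- general fact: algebra maps preserve the extension of `I`
  have hmapI : ∀ {S T : Type u} [CommRing S] [CommRing T] [Algebra A S] [Algebra A T]
      (g : S →ₐ[A] T) (s : S), s ∈ I.map (algebraMap A S) → g s ∈ I.map (algebraMap A T) := by
    intro S T _ _ _ _ g s hs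
    have := Ideal.mem_map_of_mem g.toRingHom hs
    rwa [Ideal.map_map, AlgHom.toRingHom_eq_coe, AlgHom.comp_algebraMap] at this
  have hπI : I.map (algebraMap A (Groth.Agent.Lib.Helper8.IndEt.Colim A Cb)) ≤ RingHom.ker (Groth.Agent.Lib.Helper8.IndEt.colimπ (A := A) (B := Cb)).toRingHom := by
    rw [Ideal.map_le_iff_le_comap]
    intro a ha
    change Groth.Agent.Lib.Helper8.IndEt.colimπ (algebraMap A (Groth.Agent.Lib.Helper8.IndEt.Colim A Cb) a) = 0
    rw [AlgHom.commutes, IsScalarTower.algebraMap_apply A (A ⧸ I) Cb]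
    have : algebraMap A (A ⧸ I) a = 0 := Ideal.Quotient.eq_zero_iff_mem.mpr ha
    rw [this, map_zero]
  let πb : (Groth.Agent.Lib.Helper8.IndEt.Colim A Cb ⧸ I.map (algebraMap A (Groth.Agent.Lib.Helper8.IndEt.Colim A Cb))) →ₐ[A] Cb :=
    Ideal.Quotient.liftₐ _ Groth.Agent.Lib.Helper8.IndEt.colimπ hπI
  have hπb : ∀ c : Groth.Agent.Lib.Helper8.IndEt.Colim A Cb, πb (Ideal.Quotient.mk _ c) = Groth.Agent.Lib.Helper8.IndEt.colimπ c := fun c => rfl
  have hbij : Function.Bijective πb := by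
    constructor
    · rw [injective_iff_map_eq_zero]
      intro z hz
      obtain ⟨c, rfl⟩ := Ideal.Quotient.mk_surjective z
      rw [hπb] at hz
      obtain ⟨X, x, rfl⟩ := hW.surj c
      rw [Groth.Agent.Lib.Helper8.IndEt.colimπ_ι] at hz
      obtain ⟨E₃, _, _, _, ψ, φ₃, hcomp, hmem⟩ := Groth.Agent.Lib.Helper8.IndEt.exists_kill_mod I Cb hstar X.E X.φ x hz
      obtain ⟨Y, eY, heY⟩ := Groth.Agent.Lib.Helper8.IndEt.EtOver.exists_realize E₃ φ₃
      let f : X ⟶ Y := ⟨eY.symm.toAlgHom.comp ψ, by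
        rw [← heY, ← hcomp]
        ext u
        simp⟩
      have h1 : Groth.Agent.Lib.Helper8.IndEt.colimι X x = Groth.Agent.Lib.Helper8.IndEt.colimι Y (f.1 x) := (AlgHom.congr_fun (Groth.Agent.Lib.Helper8.IndEt.colimι_comp f) x).symm
      rw [h1, Ideal.Quotient.eq_zero_iff_mem]
      apply hmapI (Groth.Agent.Lib.Helper8.IndEt.colimι Y)
      exact hmapI eY.symm.toAlgHom _ hmem
    · intro cb
      obtain ⟨Eb, _, _, _, ψ, yb, rfl⟩ := hstar.1 cb
      obtain ⟨E, _, _, hE, ⟨e⟩⟩ := Groth.Agent.Lib.Helper8.EtLift.exists_lift A I Eb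
      letI : Algebra A Eb := ((algebraMap (A ⧸ I) Eb).comp (algebraMap A (A ⧸ I))).toAlgebra
      haveI : IsScalarTower A (A ⧸ I) Eb := IsScalarTower.of_algebraMap_eq (fun _ => rfl)
      let φE : E →ₐ[A] Cb := (ψ.restrictScalars A).comp
        ((e.toAlgHom.restrictScalars A).comp Algebra.TensorProduct.includeRight)
      obtain ⟨z, hz⟩ := e.surjective yb
      obtain ⟨y, rfl⟩ := TensorProduct.mk_surjective A E (A ⧸ I) Ideal.Quotient.mk_surjective z
      obtain ⟨X, eX, heX⟩ := Groth.Agent.Lib.Helper8.IndEt.EtOver.exists_realize E φE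
      refine ⟨Ideal.Quotient.mk _ (Groth.Agent.Lib.Helper8.IndEt.colimι X (eX.symm y)), ?_⟩
      rw [hπb, Groth.Agent.Lib.Helper8.IndEt.colimπ_ι, ← heX]
      simp only [AlgHom.comp_apply, AlgEquiv.coe_toAlgHom, AlgEquiv.apply_symm_apply]
      change ψ (e ((1 : A ⧸ I) ⊗ₜ[A] y)) = _
      exact congrArg ψ hz
  exact ⟨AlgEquiv.extendScalarsOfSurjective Ideal.Quotient.mk_surjective
    (AlgEquiv.ofBijective πb hbij)⟩


end Groth.Agent.S0755
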