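import Mathlib
import Groth.Statements.S19473

set_option autoImplicit false
universe u
open CategoryTheory CategoryTheory.Limits MonoidalCategory CartesianMonoidalCategory MonObj GrpObj AlgebraicGeometry
open AlgGrp

namespace Groth.Agent.S19473

section General

variable {C : Type*} [Category C] [CartesianMonoidalCategory C] {G : C} [GrpObj G]

theorem aux1 {T : C} (a b : T ⟶ G)
    (h : a ≫ lift (𝟙 G) (𝟙 G) = b ≫ lift (𝟙 G) (1 : G ⟶ G)) :
    toUnit T ≫ η[G] = a ∧ toUnit T ≫ η[G] = b := by
  have h1 := congrArg (fun f => f ≫ fst G G) h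
  have h2 := congrArg (fun f => f ≫ snd G G) h
  simp only [Category.assoc, lift_fst, lift_snd, Category.comp_id, MonObj.comp_one] at h1 h2
  refine ⟨?_, ?_⟩
  · rw [h2, Hom.one_def]
  · rw [← h1, h2, Hom.one_def]

theorem aux2 {T : C} (a : T ⟶ G ⊗ G) (c : T ⟶ 𝟙_ C)
    (h : a ≫ ((fst G G)⁻¹ * snd G G) = c ≫ η[G]) : a ≫ fst G G = a ≫ snd G G := by
  rw [MonObj.comp_mul, Hom.inv_def, ← Category.assoc, ← Hom.inv_def,
    toUnit_unique c (toUnit T), ← Hom.one_def, inv_mul_eq_one] at h
  exact h

/-- The unit section is the base change of the diagonal along `g ↦ (g, 1)`. -/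
theorem isPullback_unit_diag :
    IsPullback η[G] η[G] (lift (𝟙 G) (𝟙 G)) (lift (𝟙 G) (1 : G ⟶ G)) := by
  have hη : (1 : 𝟙_ C ⟶ G) = η[G] := by
    rw [Hom.one_def, toUnit_unit, Category.id_comp]
  have w : η[G] ≫ lift (𝟙 G) (𝟙 G) = η[G] ≫ lift (𝟙 G) (1 : G ⟶ G) := by
    rw [comp_lift, comp_lift, MonObj.comp_one, Category.comp_id, hη]
  refine ⟨⟨w⟩, ⟨PullbackCone.IsLimit.mk w (fun s => toUnit s.pt) ?_ ?_ ?_⟩⟩
  · intro s
    exact (aux1 s.fst s.snd s.condition).1
  · intro s
    exact (aux1 s.fst s.snd s.condition).2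
  · intro s m _ _
    exact toUnit_unique _ _

/-- The diagonal is the base change of the unit section along `(g, h) ↦ g⁻¹ h`. -/
theorem isPullback_diag_unit :
    IsPullback (lift (𝟙 G) (𝟙 G)) (toUnit G) ((fst G G)⁻¹ * snd G G) η[G] := by
  have w : lift (𝟙 G) (𝟙 G) ≫ ((fst G G)⁻¹ * snd G G) = toUnit G ≫ η[G] := by
    rw [MonObj.comp_mul, Hom.inv_def, ← Category.assoc, lift_fst, lift_snd, ← Hom.inv_def,
      inv_mul_cancel, Hom.one_def]
  refine ⟨⟨w⟩, ⟨PullbackCone.IsLimit.mk w (fun s => s.fst ≫ fst G G) ?_ ?_ ?_⟩⟩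
  · intro s
    have hc := aux2 s.fst s.snd s.condition
    apply CartesianMonoidalCategory.hom_ext
    · rw [Category.assoc, lift_fst, Category.comp_id]
    · rw [Category.assoc, lift_snd, Category.comp_id, hc]
  · intro s
    exact toUnit_unique _ _
  · intro s m hm _
    rw [← hm, Category.assoc, lift_fst, Category.comp_id]

end General

/-- Let S be a scheme and G an S-group scheme whose structure morphism G → S is locally of finite type.
Then G → S is unramified — formally unramified, since it is locally of finite type — if and only if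
the identity section S → G is an open immersion. (The separated and quasi-separated clauses of the
published item are separate results.) -/
theorem result (S : Scheme.{u})
    (G : Over S) [GrpObj G] [LocallyOfFiniteType G.hom] :
    FormallyUnramified G.hom ↔ IsOpenImmersion η[G].left := by
  have hdiag : (lift (𝟙 G) (𝟙 G)).left = pullback.diagonal G.hom := rfl
  constructor
  · intro h
    have hΔ : IsOpenImmersion (lift (𝟙 G) (𝟙 G)).left := by
      rw [hdiag]; infer_instance
    have sq := (isPullback_unit_diag (G := G)).map (Over.forget S)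
    exact MorphismProperty.of_isPullback (P := @IsOpenImmersion) sq hΔ
  · intro h
    have sq := ((isPullback_diag_unit (G := G)).flip).map (Over.forget S)
    have hΔ : IsOpenImmersion (lift (𝟙 G) (𝟙 G)).left :=
      MorphismProperty.of_isPullback (P := @IsOpenImmersion) sq h
    rw [hdiag] at hΔ
    infer_instance

end Groth.Agent.S19473
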