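import Groth.Statements.S12908
import Mathlib
import Groth.Agent.Lib.Helper7.HilbBurch
import Groth.Agent.Lib.Helper4.Depth
import Groth.Agent.Lib.Helper5.RegSeqSpread

set_option autoImplicit false
universe u
open CAlgX

namespace Groth.Agent.S12908

/-- Let R be a Noetherian ring, t a natural number, Ψ a (t+1) × t matrix over R such that the
I_t(Ψ)-depth of R is at least 2, where I_t(Ψ) is the ideal generated by the t × t minors of Ψ, and a
a non-zero-divisor of R. Put Δ_i = a · (-1)^i det Ψ_i, where Ψ_i is Ψ with row i deleted. Then 0 →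
R^t → R^{t+1} → R, with first map Ψ and second map v ↦ Σ_i Δ_i v_i, is exact: Ψ is injective and the
kernel of the second map equals the image of Ψ; moreover the image of the second map is the ideal a
· I_t(Ψ). (The published statement adds that this ideal has depth 2 exactly when a is a unit; that
clause is not stated here.) -/
theorem result {R : Type u} [CommRing R] [IsNoetherianRing R] (t : ℕ)
    (Ψ : Matrix (Fin (t + 1)) (Fin t) R) (hdepth : 2 ≤ LocCoh.idealDepth (CAlgX.minorIdeal Ψ t) R)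
    (a : R) (ha : a ∈ nonZeroDivisors R) :
    LinearMap.ker Ψ.mulVecLin = ⊥ ∧
      LinearMap.ker (Fintype.linearCombination R
          (fun i : Fin (t + 1) => a * ((-1 : R) ^ (i : ℕ) * (Ψ.submatrix i.succAbove id).det))) =
        LinearMap.range Ψ.mulVecLin ∧
      LinearMap.range (Fintype.linearCombination R
          (fun i : Fin (t + 1) => a * ((-1 : R) ^ (i : ℕ) * (Ψ.submatrix i.succAbove id).det))) =
        Ideal.span {a} * CAlgX.minorIdeal Ψ t := by
  classical
  have hI : CAlgX.minorIdeal Ψ t =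
      Ideal.span (Set.range (Groth.Agent.Lib.Helper7.HilbBurch.dd Ψ)) :=
    Groth.Agent.Lib.Helper7.HilbBurch.minorIdeal_eq Ψ
  have hkillw : ∀ w : Fin t → R, Ψ.mulVec w = 0 → ∀ z ∈ CAlgX.minorIdeal Ψ t, z • w = 0 := by
    intro w hw z hz
    rw [hI, Ideal.mem_span_range_iff_exists_fun] at hz
    obtain ⟨c, rfl⟩ := hz
    rw [Finset.sum_smul]
    refine Finset.sum_eq_zero fun k _ => ?_
    rw [mul_smul, Groth.Agent.Lib.Helper7.HilbBurch.smul_eq_zero_of_mulVec_eq_zero Ψ w hw k,
      smul_zero]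
  have hLapp : ∀ v : Fin (t + 1) → R, Fintype.linearCombination R
      (fun i : Fin (t + 1) => a * ((-1 : R) ^ (i : ℕ) * (Ψ.submatrix i.succAbove id).det)) v =
      ∑ i, v i * (a * ((-1 : R) ^ (i : ℕ) * Groth.Agent.Lib.Helper7.HilbBurch.dd Ψ i)) := by
    intro v
    rw [Fintype.linearCombination_apply]
    rfl
  have hQ : ∀ v : Fin (t + 1) → R, Fintype.linearCombination R
      (fun i : Fin (t + 1) => a * ((-1 : R) ^ (i : ℕ) * (Ψ.submatrix i.succAbove id).det)) v = 0 →
      ∀ z ∈ CAlgX.minorIdeal Ψ t, ∃ N : ℕ, (z ^ N) • v ∈ LinearMap.range Ψ.mulVecLin := by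
    intro v hv z hz
    rw [hI, Ideal.mem_span_range_iff_exists_fun] at hz
    obtain ⟨c, rfl⟩ := hz
    refine ⟨(Finset.univ : Finset (Fin (t + 1))).card * 1 + 1, ?_⟩
    have h1 := Ideal.sum_pow_mem_span_pow (Finset.univ : Finset (Fin (t + 1)))
      (fun k => c k * Groth.Agent.Lib.Helper7.HilbBurch.dd Ψ k) 1
    have h2 : Ideal.span ((fun k => (c k * Groth.Agent.Lib.Helper7.HilbBurch.dd Ψ k) ^ (1 + 1)) ''
        ((Finset.univ : Finset (Fin (t + 1))) : Set (Fin (t + 1)))) ≤
        (LinearMap.range Ψ.mulVecLin).colon {v} := by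
      rw [Ideal.span_le]
      rintro _ ⟨k, -, rfl⟩
      rw [SetLike.mem_coe, Submodule.mem_colon_singleton]
      have h4 := Groth.Agent.Lib.Helper7.HilbBurch.sq_smul_mem_range Ψ a ha v
        (by rw [← hLapp]; exact hv) k
      have h3 : (c k * Groth.Agent.Lib.Helper7.HilbBurch.dd Ψ k) ^ (1 + 1) • v =
          (c k ^ 2) • ((Groth.Agent.Lib.Helper7.HilbBurch.dd Ψ k ^ 2) • v) := by
        rw [smul_smul]
        congr 1
        ring
      rw [h3]
      exact Submodule.smul_mem _ _ h4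
    exact Submodule.mem_colon_singleton.1 (h2 h1)
  -- regular sequence data
  have hdata : ∃ x ∈ CAlgX.minorIdeal Ψ t, ∃ y ∈ CAlgX.minorIdeal Ψ t,
      (∀ r : R, x * r = 0 → r = 0) ∧
      (∀ r : R, (∃ s, y * r = x * s) → ∃ s', r = x * s') := by
    by_cases hIM : CAlgX.minorIdeal Ψ t • (⊤ : Submodule R R) = ⊤
    · have h1I : (1 : R) ∈ CAlgX.minorIdeal Ψ t := by
        have h2 : CAlgX.minorIdeal Ψ t = ⊤ := by rwa [smul_eq_mul, Ideal.mul_top] at hIM
        rw [h2]
        trivial
      refine ⟨1, h1I, 1, h1I, fun r hr => by rwa [one_mul] at hr, fun r hr => ?_⟩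
      obtain ⟨s, hs⟩ := hr
      exact ⟨s, by simpa using hs⟩
    · obtain ⟨rs, hlen, hmem, hreg⟩ :=
        Groth.Agent.Lib.Helper4.exists_isWeaklyRegular_of_le_idealDepth _ hIM 2 hdepth
      obtain ⟨x, y, rfl⟩ := List.length_eq_two.1 hlen
      rw [Groth.Agent.Lib.Helper5.RegSeq.isWeaklyRegular_iff_forall_mem] at hreg
      refine ⟨x, hmem x (by simp), y, hmem y (by simp), fun r hr => ?_, fun r hr => ?_⟩
      · have h1 := hreg 0 (by simp) r
        simp only [List.getElem_cons_zero, List.take_zero, Ideal.ofList_nil, Ideal.mem_bot] at h1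
        exact h1 hr
      · have h1 := hreg 1 (by simp) r
        simp only [List.getElem_cons_succ, List.getElem_cons_zero, List.take_succ_cons,
          List.take_zero, Ideal.ofList_singleton, Ideal.mem_span_singleton'] at h1
        obtain ⟨s, hs⟩ := hr
        obtain ⟨s', hs'⟩ := h1 ⟨s, by rw [hs, mul_comm]⟩
        exact ⟨s', by rw [← hs', mul_comm]⟩
  obtain ⟨x, hx, y, hy, hxreg, hyreg⟩ := hdata
  have hinj : ∀ w : Fin t → R, Ψ.mulVec w = 0 → w = 0 := by
    intro w hw
    have h1 := hkillw w hw x hx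
    funext j
    have h2 := congrFun h1 j
    rw [Pi.smul_apply, smul_eq_mul, Pi.zero_apply] at h2
    exact hxreg _ h2
  have hyN : ∀ (N : ℕ) (r : R), (∃ s, y ^ N * r = x * s) → ∃ s', r = x * s' := by
    intro N
    induction N with
    | zero =>
      rintro r ⟨s, hs⟩
      exact ⟨s, by rw [pow_zero, one_mul] at hs; exact hs⟩
    | succ N ih =>
      rintro r ⟨s, hs⟩
      obtain ⟨s', hs'⟩ := hyreg (y ^ N * r) ⟨s, by rw [← hs]; ring⟩
      exact ih r ⟨s', hs'⟩
  have hA : ∀ v : Fin (t + 1) → R, (∃ N : ℕ, (y ^ N) • v ∈ LinearMap.range Ψ.mulVecLin) →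
      x • v ∈ LinearMap.range Ψ.mulVecLin → v ∈ LinearMap.range Ψ.mulVecLin := by
    rintro v ⟨N, w₂, hw₂⟩ ⟨w₁, hw₁⟩
    rw [Matrix.mulVecLin_apply] at hw₁ hw₂
    have h1 : Ψ.mulVec (y ^ N • w₁ - x • w₂) = 0 := by
      rw [Matrix.mulVec_sub, Matrix.mulVec_smul, Matrix.mulVec_smul, hw₁, hw₂, smul_comm, sub_self]
    have h2 : y ^ N • w₁ = x • w₂ := sub_eq_zero.1 (hinj _ h1)
    have h3 : ∀ j, ∃ u, w₁ j = x * u := fun j => hyN N (w₁ j) ⟨w₂ j, by
      have := congrFun h2 j
      simpa using this⟩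
    choose u hu using h3
    refine ⟨u, ?_⟩
    rw [Matrix.mulVecLin_apply]
    have h4 : w₁ = x • u := funext fun j => by rw [hu j]; rfl
    rw [h4, Matrix.mulVec_smul] at hw₁
    funext i
    have h5 := congrFun hw₁ i
    rw [Pi.smul_apply, Pi.smul_apply, smul_eq_mul, smul_eq_mul] at h5
    have h6 : x * ((Ψ.mulVec u) i - v i) = 0 := by rw [mul_sub, h5, sub_self]
    exact sub_eq_zero.1 (hxreg _ h6)
  have hB : ∀ (N : ℕ) (v : Fin (t + 1) → R),
      (∀ z ∈ CAlgX.minorIdeal Ψ t, ∃ M : ℕ, (z ^ M) • v ∈ LinearMap.range Ψ.mulVecLin) →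
      (x ^ N) • v ∈ LinearMap.range Ψ.mulVecLin → v ∈ LinearMap.range Ψ.mulVecLin := by
    intro N
    induction N with
    | zero =>
      intro v _ h
      rwa [pow_zero, one_smul] at h
    | succ N ih =>
      intro v hQv h
      apply ih v hQv
      apply hA
      · obtain ⟨M, hM⟩ := hQv y hy
        refine ⟨M, ?_⟩
        rw [smul_comm]
        exact Submodule.smul_mem _ _ hM
      · rw [smul_smul, ← pow_succ']
        exact h
  refine ⟨LinearMap.ker_eq_bot'.2 (fun w hw => hinj w (by rwa [Matrix.mulVecLin_apply] at hw)),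
    ?_, ?_⟩
  · apply le_antisymm
    · intro v hv
      rw [LinearMap.mem_ker] at hv
      obtain ⟨N, hN⟩ := hQ v hv x hx
      exact hB N v (hQ v hv) hN
    · rintro _ ⟨w, rfl⟩
      rw [LinearMap.mem_ker, hLapp, Matrix.mulVecLin_apply]
      exact Groth.Agent.Lib.Helper7.HilbBurch.sum_mulVec Ψ a w
  · rw [Fintype.range_linearCombination]
    apply le_antisymm
    · rw [Submodule.span_le]
      rintro _ ⟨i, rfl⟩
      refine Ideal.mul_mem_mul (Ideal.mem_span_singleton_self a) ?_
      apply Ideal.mul_mem_left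
      rw [hI]
      exact Ideal.subset_span ⟨i, rfl⟩
    · rw [Ideal.span_singleton_mul_le_iff]
      intro z hz
      rw [hI, Ideal.mem_span_range_iff_exists_fun] at hz
      obtain ⟨c, rfl⟩ := hz
      rw [Finset.mul_sum]
      refine Submodule.sum_mem _ fun k _ => ?_
      have h1 : a * (c k * Groth.Agent.Lib.Helper7.HilbBurch.dd Ψ k) =
          (c k * (-1 : R) ^ (k : ℕ)) •
            (a * ((-1 : R) ^ (k : ℕ) * (Ψ.submatrix k.succAbove id).det)) := by
        have h2 : (-1 : R) ^ (k : ℕ) * (-1 : R) ^ (k : ℕ) = 1 := by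
          rw [← mul_pow, neg_one_mul, neg_neg, one_pow]
        show a * (c k * (Ψ.submatrix k.succAbove id).det) = _
        rw [smul_eq_mul]
        calc a * (c k * (Ψ.submatrix k.succAbove id).det)
            = ((-1 : R) ^ (k : ℕ) * (-1 : R) ^ (k : ℕ)) *
              (a * (c k * (Ψ.submatrix k.succAbove id).det)) := by rw [h2, one_mul]
          _ = _ := by ring
      rw [h1]
      exact Submodule.smul_mem _ _ (Submodule.subset_span ⟨k, rfl⟩)

end Groth.Agent.S12908
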