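import Groth.Statements.S12907
import Mathlib
import Groth.Agent.Lib.Helper7.HilbBurch2
import Groth.Agent.S12908

set_option autoImplicit false
universe u
open CAlgX

namespace Groth.Agent.S12907

/-- Let R be a Noetherian ring and I a nonzero ideal admitting a free resolution 0 → R^m → R^n → I → 0:
an injective matrix Ψ with n rows and m columns, and a linear map π : R^n → R with image I whose
kernel is the image of Ψ. Then n = m + 1; there is a non-zero-divisor a with I = a · I_m(Ψ), where
I_m(Ψ) is the ideal generated by the m × m minors of Ψ; and the I_m(Ψ)-depth of R is at least 2.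
(The published statement also asserts that this depth is exactly 2; only the lower bound is stated
here. The hypothesis that I is nonzero is implicit in the published statement.) -/
theorem result {R : Type u} [CommRing R] [IsNoetherianRing R] (m n : ℕ)
    (Ψ : Matrix (Fin n) (Fin m) R) (π : (Fin n → R) →ₗ[R] R)
    (hΨ : LinearMap.ker Ψ.mulVecLin = ⊥) (hex : LinearMap.ker π = LinearMap.range Ψ.mulVecLin)
    (hI : LinearMap.range π ≠ ⊥) :
    n = m + 1 ∧
      (∃ a : R, a ∈ nonZeroDivisors R ∧ LinearMap.range π = Ideal.span {a} * CAlgX.minorIdeal Ψ m) ∧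
      2 ≤ LocCoh.idealDepth (CAlgX.minorIdeal Ψ m) R := by
  classical
  haveI : Nontrivial R := by
    by_contra hne
    rw [not_nontrivial_iff_subsingleton] at hne
    exact hI (Subsingleton.elim _ _)
  have hrk0 : Groth.Agent.Lib.Helper7.FFRRank.RankConst R
      ↥(LinearMap.ker Ψ.mulVecLin.rangeRestrict) 0 := by
    rw [LinearMap.ker_rangeRestrict, hΨ]
    have h := Groth.Agent.Lib.Helper7.FFRRank.rankConst_of_free (R := R)
      ↥(⊥ : Submodule R (Fin m → R))
    rwa [finrank_bot, Nat.cast_zero] at h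
  have hrkΨ : Groth.Agent.Lib.Helper7.FFRRank.RankConst R ↥(LinearMap.range Ψ.mulVecLin)
      ((Module.finrank R (Fin m → R) : ℤ) - 0) :=
    hrk0.of_surjective Ψ.mulVecLin.rangeRestrict (LinearMap.surjective_rangeRestrict _)
  have hrkI : Groth.Agent.Lib.Helper7.FFRRank.RankConst R ↥(LinearMap.range π)
      ((Module.finrank R (Fin n → R) : ℤ) - ((Module.finrank R (Fin m → R) : ℤ) - 0)) := by
    apply Groth.Agent.Lib.Helper7.FFRRank.RankConst.of_surjective π.rangeRestrict
      (LinearMap.surjective_rangeRestrict _)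
    rw [LinearMap.ker_rangeRestrict, hex]
    exact hrkΨ
  have hgood : Groth.Agent.Lib.Helper7.FFRRank.Good R ↥(LinearMap.range π) := by
    apply Groth.Agent.Lib.Helper7.FFRRank.Good.of_surjective π.rangeRestrict
      (LinearMap.surjective_rangeRestrict _)
    rw [LinearMap.ker_rangeRestrict, hex]
    apply Groth.Agent.Lib.Helper7.FFRRank.Good.of_surjective Ψ.mulVecLin.rangeRestrict
      (LinearMap.surjective_rangeRestrict _)
    rw [LinearMap.ker_rangeRestrict, hΨ]
    exact Groth.Agent.Lib.Helper7.FFRRank.good_of_free _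
  obtain ⟨P, hP⟩ := associatedPrimes.nonempty R R
  haveI := hP.isPrime
  have hnot := Groth.Agent.Lib.Helper7.FFRRank.not_le_of_mem_associatedPrimes
    (LinearMap.range π) hI hgood P hP
  obtain ⟨hfree, hfr⟩ := Groth.Agent.Lib.Helper7.HilbBurch2.free_finrank_localization_of_not_le
    (LinearMap.range π) P hnot
  have h1 := hrkI P hfree
  rw [hfr, Module.finrank_fin_fun, Module.finrank_fin_fun] at h1
  have hnm : n = m + 1 := by
    push_cast at h1
    omega
  subst hnm
  obtain ⟨x, hxJ, y, hyJ, hxreg, hyreg⟩ :=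
    Groth.Agent.Lib.Helper7.HilbBurch2.exists_regular_pair Ψ π hΨ hex
  have hdepth : 2 ≤ LocCoh.idealDepth (CAlgX.minorIdeal Ψ m) R :=
    Groth.Agent.Lib.Helper7.HilbBurch2.two_le_idealDepth_of_pair _ x y hxJ hyJ hxreg hyreg
  refine ⟨rfl, ?_, hdepth⟩
  obtain ⟨-, hker, hrange⟩ := Groth.Agent.S12908.result m Ψ hdepth 1 (one_mem _)
  set s : Fin (m + 1) → R :=
    fun i => 1 * ((-1 : R) ^ (i : ℕ) * (Ψ.submatrix i.succAbove id).det) with hs
  have hstar : ∀ i j, s j * π (Pi.single i 1) = s i * π (Pi.single j 1) := by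
    intro i j
    have h2 : s j • (Pi.single i 1 : Fin (m + 1) → R) - s i • (Pi.single j 1 : Fin (m + 1) → R) ∈
        LinearMap.ker (Fintype.linearCombination R s) := by
      rw [LinearMap.mem_ker, map_sub, map_smul, map_smul,
        Fintype.linearCombination_apply_single, Fintype.linearCombination_apply_single, one_smul,
        one_smul, smul_eq_mul, smul_eq_mul, mul_comm, sub_self]
    rw [hker, ← hex, LinearMap.mem_ker, map_sub, map_smul, map_smul, smul_eq_mul,
      smul_eq_mul] at h2
    exact sub_eq_zero.1 h2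
  have hJs : ∀ z ∈ CAlgX.minorIdeal Ψ m, ∃ c : Fin (m + 1) → R, ∑ i, c i * s i = z := by
    intro z hz
    rw [Groth.Agent.Lib.Helper7.HilbBurch.minorIdeal_eq,
      Ideal.mem_span_range_iff_exists_fun] at hz
    obtain ⟨c, rfl⟩ := hz
    refine ⟨fun i => c i * (-1 : R) ^ (i : ℕ), ?_⟩
    refine Finset.sum_congr rfl fun i _ => ?_
    have h2 : (-1 : R) ^ (i : ℕ) * (-1 : R) ^ (i : ℕ) = 1 := by
      rw [← mul_pow, neg_one_mul, neg_neg, one_pow]
    show c i * (-1 : R) ^ (i : ℕ) * (1 * ((-1 : R) ^ (i : ℕ) * (Ψ.submatrix i.succAbove id).det)) =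
      c i * (Ψ.submatrix i.succAbove id).det
    calc c i * (-1 : R) ^ (i : ℕ) * (1 * ((-1 : R) ^ (i : ℕ) * (Ψ.submatrix i.succAbove id).det))
        = c i * ((-1 : R) ^ (i : ℕ) * (-1 : R) ^ (i : ℕ)) * (Ψ.submatrix i.succAbove id).det := by
          ring
      _ = c i * (Ψ.submatrix i.succAbove id).det := by rw [h2, mul_one]
  obtain ⟨c, hc⟩ := hJs x hxJ
  obtain ⟨c', hc'⟩ := hJs y hyJ
  have hxp : ∀ j, x * π (Pi.single j 1) = s j * ∑ i, c i * π (Pi.single i 1) := by
    intro j
    rw [← hc, Finset.sum_mul, Finset.mul_sum]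
    refine Finset.sum_congr rfl fun i _ => ?_
    have h3 := hstar i j
    calc c i * s i * π (Pi.single j 1) = c i * (s i * π (Pi.single j 1)) := by ring
      _ = c i * (s j * π (Pi.single i 1)) := by rw [h3]
      _ = s j * (c i * π (Pi.single i 1)) := by ring
  have hyp : ∀ j, y * π (Pi.single j 1) = s j * ∑ i, c' i * π (Pi.single i 1) := by
    intro j
    rw [← hc', Finset.sum_mul, Finset.mul_sum]
    refine Finset.sum_congr rfl fun i _ => ?_
    have h3 := hstar i j
    calc c' i * s i * π (Pi.single j 1) = c' i * (s i * π (Pi.single j 1)) := by ring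
      _ = c' i * (s j * π (Pi.single i 1)) := by rw [h3]
      _ = s j * (c' i * π (Pi.single i 1)) := by ring
  have hyq : y * ∑ i, c i * π (Pi.single i 1) = x * ∑ i, c' i * π (Pi.single i 1) := by
    calc y * ∑ i, c i * π (Pi.single i 1) = ∑ i, c i * (y * π (Pi.single i 1)) := by
          rw [Finset.mul_sum]
          exact Finset.sum_congr rfl fun i _ => by ring
      _ = ∑ i, (c i * s i) * ∑ k, c' k * π (Pi.single k 1) := by
          refine Finset.sum_congr rfl fun i _ => ?_
          rw [hyp i]; ring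
      _ = x * ∑ i, c' i * π (Pi.single i 1) := by rw [← Finset.sum_mul, hc]
  obtain ⟨a, ha⟩ := hyreg _ ⟨_, hyq⟩
  have hpa : ∀ j, π (Pi.single j 1) = a * s j := by
    intro j
    have h3 : x * (π (Pi.single j 1) - a * s j) = 0 := by
      rw [mul_sub, hxp j, ha]; ring
    exact sub_eq_zero.1 (hxreg _ h3)
  have hπ : ∀ v, π v = a * Fintype.linearCombination R s v := by
    intro v
    conv_lhs => rw [pi_eq_sum_univ' v]
    rw [map_sum, Fintype.linearCombination_apply, Finset.mul_sum]
    refine Finset.sum_congr rfl fun j _ => ?_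
    rw [map_smul, smul_eq_mul, smul_eq_mul, hpa j]
    ring
  obtain ⟨b, hbI, hb⟩ := Groth.Agent.Lib.Helper7.FFRRank.exists_nonZeroDivisor_mem
    (LinearMap.range π) hI hgood
  obtain ⟨v₀, rfl⟩ := hbI
  refine ⟨a, ?_, ?_⟩
  · have key : ∀ r, a * r = 0 → r = 0 := by
      intro r hr0
      have h3 : r * π v₀ = 0 := by
        rw [hπ v₀]
        calc r * (a * Fintype.linearCombination R s v₀)
            = (a * r) * Fintype.linearCombination R s v₀ := by ring
          _ = 0 := by rw [hr0, zero_mul]
      exact (mul_right_mem_nonZeroDivisors_eq_zero_iff hb).1 h3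
    exact mem_nonZeroDivisors_iff.2 ⟨key, fun r hr0 => key r (by rwa [mul_comm])⟩
  · have hrange' : LinearMap.range (Fintype.linearCombination R s) = CAlgX.minorIdeal Ψ m := by
      rw [hrange, Ideal.span_singleton_one, Ideal.top_mul]
    apply le_antisymm
    · rintro _ ⟨v, rfl⟩
      rw [hπ v]
      refine Ideal.mul_mem_mul (Ideal.mem_span_singleton_self a) ?_
      rw [← hrange']
      exact ⟨v, rfl⟩
    · rw [Ideal.span_singleton_mul_le_iff]
      intro z hz
      rw [← hrange'] at hz
      obtain ⟨v, rfl⟩ := hz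
      exact ⟨v, hπ v⟩

end Groth.Agent.S12907
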