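import Groth.Statements.S11449
import Mathlib
import Groth.Agent.Lib.Helper7.SyzFree
import Groth.Agent.Lib.Helper7.PdRestrict
import Groth.Agent.Lib.Helper7.HilbBurch
import Groth.Agent.Lib.Helper4.FaltPd
import Groth.Agent.Lib.Helper4.FiniteExt
import Groth.Agent.Lib.Helper26.SerreReg
import Groth.Agent.S12907
import Groth.Agent.S12908

set_option autoImplicit false
universe u
open DefT

namespace Groth.Agent.S11449

/-- Let A be a regular local ring and I an ideal such that A/I is a Cohen–Macaulay local ring whose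
Krull dimension is dim A − 2. Then for some r there is an (r+1) × r matrix φ with entries in A such
that, writing f_i for (−1)^i times the determinant of φ with its i-th row removed (i = 0, …, r), the
elements f_0, …, f_r generate I, no family of fewer than r + 1 elements generates I, multiplication
by φ is an injective map A^r → A^{r+1}, and the image of that map is exactly the kernel of the map
A^{r+1} → A sending v to Σ_i v_i f_i; together with A → A/I this is a free resolution 0 → A^r →
A^{r+1} → A → A/I → 0. -/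
theorem result
    (A : Type u) [CommRing A] [IsRegularLocalRing A] (I : Ideal A)
    [LocCoh.IsCohenMacaulayLocalRing (A ⧸ I)]
    (hcodim : ringKrullDim (A ⧸ I) + 2 = ringKrullDim A) :
    ∃ (r : ℕ) (φ : Matrix (Fin (r + 1)) (Fin r) A),
      Ideal.span (Set.range (fun i : Fin (r + 1) => (-1 : A) ^ (i : ℕ) * (φ.submatrix i.succAbove id).det)) = I ∧
      I.spanFinrank = r + 1 ∧
      Function.Injective φ.mulVecLin ∧
      LinearMap.range φ.mulVecLin =
        LinearMap.ker (Fintype.linearCombination A (fun i : Fin (r + 1) => (-1 : A) ^ (i : ℕ) * (φ.submatrix i.succAbove id).det)) := by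
  classical
  haveI : IsNoetherianRing (A ⧸ I) := inferInstance
  haveI : IsLocalRing (A ⧸ I) := inferInstance
  obtain ⟨d, hd⟩ := Groth.Agent.Lib.Helper26.SerreReg.exists_nat_ringKrullDim A
  obtain ⟨c, hc⟩ := Groth.Agent.Lib.Helper26.SerreReg.exists_nat_ringKrullDim (A ⧸ I)
  have hcd : c + 2 = d := by
    rw [hd, hc] at hcodim
    exact_mod_cast hcodim
  have hI0 : I ≠ ⊥ := by
    intro hI
    have h1 : ringKrullDim (A ⧸ I) = ringKrullDim A := by
      rw [hI]
      exact ringKrullDim_eq_of_ringEquiv (RingEquiv.quotientBot A)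
    rw [hc, hd] at h1
    have h2 : c = d := by exact_mod_cast h1
    omega
  have hdepth : LocCoh.depth A (A ⧸ I) = c := by
    have h1 : LocCoh.depth A (A ⧸ I) = LocCoh.depth (A ⧸ I) (A ⧸ I) := by
      unfold LocCoh.depth
      rw [Groth.Agent.Lib.Helper4.idealDepth_map_eq (A := A) (B := A ⧸ I)
        (IsLocalRing.maximalIdeal A) (A ⧸ I),
        Groth.Agent.Lib.Helper7.PdRestrict.map_maximalIdeal_quotient A I]
    have h2 := LocCoh.IsCohenMacaulayLocalRing.supportDim_eq_depth (R := A ⧸ I)
    rw [Module.supportDim_self_eq_ringKrullDim, hc] at h2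
    rw [h1]
    exact_mod_cast h2.symm
  have hpd3 : CategoryTheory.HasProjectiveDimensionLE (ModuleCat.of A (A ⧸ I)) 2 :=
    Groth.Agent.Lib.Helper4.Falt.hasProjectiveDimensionLE_of_depth A d hd c (A ⧸ I) 2
      (le_of_eq hdepth.symm) (by omega)
  have hpdI : CategoryTheory.HasProjectiveDimensionLT (ModuleCat.of A ↥I) 2 := by
    let S : CategoryTheory.ShortComplex (ModuleCat.{u} A) :=
      ModuleCat.shortComplexOfCompEqZero (Submodule.subtype I) (Submodule.mkQ I)
        (LinearMap.exact_subtype_mkQ I).linearMap_comp_eq_zero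
    have hS : S.ShortExact := ModuleCat.shortComplex_shortExact S
      (LinearMap.exact_subtype_mkQ I) (Submodule.injective_subtype I) (Submodule.mkQ_surjective I)
    haveI : CategoryTheory.Projective (ModuleCat.of A A) :=
      (IsProjective.iff_projective (R := A) A).1 inferInstance
    have hF : CategoryTheory.HasProjectiveDimensionLT S.X₂ 2 :=
      CategoryTheory.hasProjectiveDimensionLT_of_ge (ModuleCat.of A A) 1 2 (by omega)
    exact hS.hasProjectiveDimensionLT_X₁ 2 hF hpd3
  obtain ⟨b, hb, p, hp⟩ : ∃ b : ℕ, b = I.spanFinrank ∧ ∃ p : (Fin b → A) →ₗ[A] ↥I,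
      Function.Surjective p := by
    obtain ⟨t, ht1, ht2⟩ :=
      (IsNoetherian.noetherian I : (I : Submodule A A).FG).exists_span_finset_card_eq_spanFinrank
    have htI : ∀ x ∈ t, x ∈ I := fun x hx => ht2 ▸ Submodule.subset_span hx
    let eq := Finset.equivFinOfCardEq ht1
    let g : Fin (Submodule.spanFinrank I) → ↥I := fun i => ⟨((eq.symm i : t) : A), htI _ (eq.symm i).2⟩
    refine ⟨_, rfl, Fintype.linearCombination A g, ?_⟩
    rw [← LinearMap.range_eq_top, Fintype.range_linearCombination]
    apply Submodule.map_injective_of_injective (Submodule.injective_subtype I)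
    rw [Submodule.map_span, Submodule.map_subtype_top, ← Set.range_comp]
    have hr : Set.range (⇑(Submodule.subtype I) ∘ g) = (t : Set A) := by
      ext x
      constructor
      · rintro ⟨i, rfl⟩
        exact (eq.symm i).2
      · intro hx
        refine ⟨eq ⟨x, hx⟩, ?_⟩
        simp [g]
    rw [hr, ht2]
  have hpdK : CategoryTheory.HasProjectiveDimensionLT (ModuleCat.of A ↥(LinearMap.ker p)) 1 := by
    let S : CategoryTheory.ShortComplex (ModuleCat.{u} A) :=
      ModuleCat.shortComplexOfCompEqZero (LinearMap.ker p).subtype p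
        (LinearMap.exact_subtype_ker_map p).linearMap_comp_eq_zero
    have hS : S.ShortExact := ModuleCat.shortComplex_shortExact S
      (LinearMap.exact_subtype_ker_map p) (LinearMap.ker p).injective_subtype hp
    haveI : CategoryTheory.Projective (ModuleCat.of A (Fin b → A)) :=
      (IsProjective.iff_projective (R := A) (Fin b → A)).1 inferInstance
    have hF : CategoryTheory.HasProjectiveDimensionLT S.X₂ 1 :=
      CategoryTheory.projective_iff_hasProjectiveDimensionLT_one.mp
        (inferInstanceAs (CategoryTheory.Projective (ModuleCat.of A (Fin b → A))))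
    exact hS.hasProjectiveDimensionLT_X₁ 1 hF hpdI
  haveI : Module.Free A ↥(LinearMap.ker p) :=
    Groth.Agent.Lib.Helper7.SyzFree.free_of_hasProjectiveDimensionLT_one A ↥(LinearMap.ker p) hpdK
  obtain ⟨s, ⟨e⟩⟩ : ∃ s : ℕ, Nonempty ((Fin s → A) ≃ₗ[A] ↥(LinearMap.ker p)) :=
    ⟨_, ⟨(Module.finBasis A ↥(LinearMap.ker p)).equivFun.symm⟩⟩
  let Φ : (Fin s → A) →ₗ[A] (Fin b → A) := (LinearMap.ker p).subtype ∘ₗ e.toLinearMap
  let Ψ : Matrix (Fin b) (Fin s) A := LinearMap.toMatrix' Φ
  have hΨ : Ψ.mulVecLin = Φ := by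
    rw [← Matrix.toLin'_apply']
    exact Matrix.toLin'_toMatrix' Φ
  let π : (Fin b → A) →ₗ[A] A := (Submodule.subtype I) ∘ₗ p
  have hkerΨ : LinearMap.ker Ψ.mulVecLin = ⊥ := by
    rw [hΨ, LinearMap.ker_eq_bot]
    exact (Submodule.injective_subtype _).comp e.injective
  have hrangeΨ : LinearMap.range Ψ.mulVecLin = LinearMap.ker p := by
    rw [hΨ, LinearMap.range_comp, LinearEquiv.range, Submodule.map_top, Submodule.range_subtype]
  have hkerπ : LinearMap.ker π = LinearMap.ker p :=
    LinearMap.ker_comp_of_ker_eq_bot p (Submodule.ker_subtype I)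
  have hex : LinearMap.ker π = LinearMap.range Ψ.mulVecLin := by rw [hkerπ, hrangeΨ]
  have hrangeπ : LinearMap.range π = I := by
    rw [LinearMap.range_comp, LinearMap.range_eq_top.2 hp, Submodule.map_top,
      Submodule.range_subtype]
  obtain ⟨hbs, ⟨a, ha, hIa⟩, hdep2⟩ := Groth.Agent.S12907.result s b Ψ π hkerΨ hex
    (by rw [hrangeπ]; exact hI0)
  subst hbs
  rw [hrangeπ] at hIa
  have haU : IsUnit a := by
    by_contra hna
    have ham : a ∈ IsLocalRing.maximalIdeal A := (IsLocalRing.mem_maximalIdeal a).2 hna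
    have hIle : I ≤ Ideal.span {a} := by
      rw [hIa]
      exact Ideal.mul_le_left
    have h1 : ringKrullDim (A ⧸ Ideal.span {a}) ≤ ringKrullDim (A ⧸ I) :=
      ringKrullDim_le_of_surjective (Ideal.Quotient.factor hIle)
        (Ideal.Quotient.factor_surjective hIle)
    have h2 := ringKrullDim_quotient_span_singleton_succ_eq_ringKrullDim_of_mem_nonZeroDivisors
      ha ham
    rw [hd] at h2
    rw [hc] at h1
    have h3 : (d : WithBot ℕ∞) ≤ (c : WithBot ℕ∞) + 1 := by
      rw [← h2]
      exact add_le_add_left h1 1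
    have h4 : d ≤ c + 1 := by exact_mod_cast h3
    omega
  have hIJ : I = CAlgX.minorIdeal Ψ s := by
    rw [hIa, Ideal.span_singleton_eq_top.2 haU, Ideal.top_mul]
  obtain ⟨-, hker8, -⟩ := Groth.Agent.S12908.result s Ψ hdep2 1 (one_mem _)
  have hfun : (fun i : Fin (s + 1) =>
      (1 : A) * ((-1 : A) ^ (i : ℕ) * (Ψ.submatrix i.succAbove id).det)) =
      fun i : Fin (s + 1) => (-1 : A) ^ (i : ℕ) * (Ψ.submatrix i.succAbove id).det := by
    funext i
    rw [one_mul]
  rw [hfun] at hker8
  refine ⟨s, Ψ, ?_, hb.symm, LinearMap.ker_eq_bot.1 hkerΨ, hker8.symm⟩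
  have hmin := Groth.Agent.Lib.Helper7.HilbBurch.minorIdeal_eq Ψ
  rw [← hIJ] at hmin
  rw [hmin]
  apply le_antisymm
  · rw [Ideal.span_le]
    rintro _ ⟨i, rfl⟩
    exact Ideal.mul_mem_left _ _ (Ideal.subset_span ⟨i, rfl⟩)
  · rw [Ideal.span_le]
    rintro _ ⟨i, rfl⟩
    show Groth.Agent.Lib.Helper7.HilbBurch.dd Ψ i ∈ Ideal.span _
    have h1 : Groth.Agent.Lib.Helper7.HilbBurch.dd Ψ i =
        (-1 : A) ^ (i : ℕ) * ((-1 : A) ^ (i : ℕ) * (Ψ.submatrix i.succAbove id).det) := by
      rw [← mul_assoc, ← mul_pow, neg_mul_neg, one_mul, one_pow, one_mul]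
      rfl
    rw [h1]
    exact Ideal.mul_mem_left _ _ (Ideal.subset_span ⟨i, rfl⟩)

end Groth.Agent.S11449
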