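import Groth.Statements.S0701
-- import your own Groth.Agent.* helpers here

set_option autoImplicit false
open CategoryTheory CategoryTheory.Limits AlgebraicGeometry Opposite Topology
universe u
open ProEtW

namespace Groth.Agent.S0701

/-- If any two comparable primes of `B` are equal, then `Spec B` is Hausdorff. -/
theorem t2Space_of_incomparable (B : Type u) [CommRing B]
    (h : ∀ q q' : PrimeSpectrum B, q.asIdeal ≤ q'.asIdeal → q = q') :
    T2Space (PrimeSpectrum B) := by
  classical
  refine ⟨fun q q' hne => ?_⟩
  -- the multiplicative set (B \ q)(B \ q')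
  let S : Submonoid B := q.asIdeal.primeCompl ⊔ q'.asIdeal.primeCompl
  by_cases h0 : (0 : B) ∈ S
  · obtain ⟨f, hf, g, hg, hfg⟩ := Submonoid.mem_sup.1 h0
    refine ⟨PrimeSpectrum.basicOpen f, PrimeSpectrum.basicOpen g,
      (PrimeSpectrum.basicOpen f).isOpen, (PrimeSpectrum.basicOpen g).isOpen, hf, hg, ?_⟩
    rw [Set.disjoint_iff_inter_eq_empty, ← TopologicalSpace.Opens.coe_inf,
      ← PrimeSpectrum.basicOpen_mul, hfg, PrimeSpectrum.basicOpen_zero]
    rfl
  · exfalso
    have hdisj : Disjoint ((⊥ : Ideal B) : Set B) (S : Set B) := by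
      rw [Set.disjoint_left]
      intro a ha haS
      have : a = 0 := by simpa using ha
      exact h0 (this ▸ haS)
    obtain ⟨P, hP, -, hPd⟩ := Ideal.exists_le_prime_disjoint (⊥ : Ideal B) S hdisj
    have h1 : P ≤ q.asIdeal := by
      intro a ha
      by_contra hna
      exact Set.disjoint_left.1 hPd ha (Submonoid.mem_sup_left (show a ∈ q.asIdeal.primeCompl from hna))
    have h2 : P ≤ q'.asIdeal := by
      intro a ha
      by_contra hna
      exact Set.disjoint_left.1 hPd ha (Submonoid.mem_sup_right (show a ∈ q'.asIdeal.primeCompl from hna))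
    have e1 := h ⟨P, hP⟩ q h1
    have e2 := h ⟨P, hP⟩ q' h2
    exact hne (e1.symm.trans e2)

/-- If any two comparable primes of `B` are equal, then `Spec B` is profinite. -/
theorem isProfinite_of_incomparable (B : Type u) [CommRing B]
    (h : ∀ q q' : PrimeSpectrum B, q.asIdeal ≤ q'.asIdeal → q = q') :
    ProEtW.IsProfinite (PrimeSpectrum B) := by
  haveI := t2Space_of_incomparable B h
  exact ⟨inferInstance, inferInstance, inferInstance⟩


/-- Let Spec A be profinite (quasi-compact, Hausdorff, totally disconnected) and A -> B a ring map such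
that two distinct primes of B over the same prime of A are never comparable. Then Spec B is
profinite. -/
theorem result (A B : Type u) [CommRing A] [CommRing B]
    [Algebra A B] [T2Space (PrimeSpectrum A)] [TotallyDisconnectedSpace (PrimeSpectrum A)]
    (h : ∀ q q' : PrimeSpectrum B, q.asIdeal.comap (algebraMap A B) = q'.asIdeal.comap (algebraMap A B) →
      q.asIdeal ≤ q'.asIdeal → q = q') :
    ProEtW.IsProfinite (PrimeSpectrum B) := by
  apply isProfinite_of_incomparable
  intro q q' hle
  apply h q q' _ hle
  -- primes of A are maximal since Spec A is T1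
  have hmax : (q.asIdeal.comap (algebraMap A B)).IsMaximal :=
    (PrimeSpectrum.isClosed_singleton_iff_isMaximal (PrimeSpectrum.comap (algebraMap A B) q)).1
      (T1Space.t1 _)
  have hle' : q.asIdeal.comap (algebraMap A B) ≤ q'.asIdeal.comap (algebraMap A B) :=
    Ideal.comap_mono hle
  exact hmax.eq_of_le (Ideal.IsPrime.ne_top inferInstance) hle'

end Groth.Agent.S0701
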