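import Groth.Statements.S4418
import Groth.Agent.Lib.Helper3.ProjProper
import Groth.Agent.Lib.Helper3.SymGenAmple
import Groth.Agent.Lib.Helper3.RelTwistExist

set_option autoImplicit false
universe u
open CategoryTheory CategoryTheory.Limits AlgebraicGeometry
open EGA2

namespace Groth.Agent.S4418

/-- Every projective morphism f : X → Y is quasi-projective (of finite type with an f-ample module) and
proper. -/
theorem result {X Y : Scheme.{u}} (f : X ⟶ Y) (hf : RelProj.IsProjective f) :
    RelProj.IsQuasiProjective f ∧ IsProper f := by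
  obtain ⟨𝒮, P, p, chart, e, hgen, hft, hP, he⟩ := hf
  haveI hp : IsProper p := Groth.Agent.Lib.Helper3.ProjProper.isProper_of_isGenDegOne hP hgen hft
  have hprop : IsProper f := by
    rw [← he]
    infer_instance
  haveI := hprop
  refine ⟨⟨inferInstance, inferInstance, ?_⟩, hprop⟩
  obtain ⟨O1, lam, hO1⟩ := Groth.Agent.Lib.Helper3.RelTwistExist.exists_isRelTwist hP 1
  refine ⟨(Scheme.Modules.pullback e.hom).obj O1, ?_⟩
  haveI : QuasiCompact (e.hom ≫ p) := by rw [he]; infer_instance
  have h := Groth.Agent.Lib.Helper3.SymGenAmple.isRelAmple_pullback_of_isEmbedding hP hgen hO1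
    e.hom e.hom.isOpenEmbedding.isEmbedding
  rwa [he] at h

end Groth.Agent.S4418
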