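import Groth.Statements.S12144
import Groth.Agent.Lib.Helper3.RLPsiInv
import Groth.Agent.Lib.Helper3.InvCoh

set_option autoImplicit false
universe u
open CategoryTheory CategoryTheory.Limits AlgebraicGeometry TopologicalSpace Opposite
open scoped HomogeneousIdeal
noncomputable section
open EGA2

namespace Groth.Agent.S12144

/-- Let q : X → Y be a morphism with Y affine, L an invertible O_X-module, 𝒮L = ⊕_{n≥0} L^{⊗n} its
graded symmetric algebra (whose Proj, presented with its charts, is identified with X by its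
structure morphism pL), 𝒮 a quasi-coherent positively graded O_Y-algebra with S = Γ(Y, 𝒮), ψ : q^*𝒮
→ 𝒮L a graded homomorphism given as a graded q-morphism u = ψ♭ : 𝒮 → q_*𝒮L, P = Proj(𝒮), and r =
r_{L,ψ} : G(ψ) → P the associated morphism on its open of definition G(ψ) ⊆ Proj(𝒮L). For f ∈ S_d
with d > 0 and t = ψ♭(f) ∈ Γ(X, L^{⊗d}), the inverse image r⁻¹(D_+(f)) ⊆ G(ψ), regarded as an open
of Proj(𝒮L), equals the inverse image under pL of the open X_t of X where t does not vanish; in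
particular the part of Proj(𝒮L) over X_t lies inside G(ψ) (X_t is written as the union of the affine
opens V of X over which Γ(V, L^{⊗d}) = 𝒮L(V)_d lies in the ideal of 𝒮L(V) generated by t|V). -/
theorem result {Y X P PL : Scheme.{u}} (q : X ⟶ Y)
    (L : X.Modules) (hL : PicF.IsInvertible L) (hLq : Coh.IsQCoh L)
    (𝒮 : RelProj.QCGrAlg Y) (𝒮L : RelProj.QCGrAlg X) (j : L ⟶ 𝒮L.toModule) (hj : RelProj.IsGrSymAlg L 𝒮L j)
    (u : RelProj.QGrHom q 𝒮 𝒮L)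
    (p : P ⟶ Y) (chart : ∀ (U : Y.Opens) (hU : IsAffineOpen U), (((p ⁻¹ᵁ U : P.Opens) : Scheme.{u}) ≅ Proj (𝒮.deg U hU)))
    (hP : RelProj.IsRelProj 𝒮 p chart)
    (pL : PL ⟶ X) (chartL : ∀ (U : X.Opens) (hU : IsAffineOpen U), (((pL ⁻¹ᵁ U : PL.Opens) : Scheme.{u}) ≅ Proj (𝒮L.deg U hU)))
    (hPL : RelProj.IsRelProj 𝒮L pL chartL)
    (r : ((RelProj.domQ u pL chartL : PL.Opens) : Scheme.{u}) ⟶ P)
    (hr : RelProj.IsProjQMapOn u p chart pL chartL (RelProj.domQ u pL chartL) r)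
    (hY : IsAffineOpen (⊤ : Y.Opens)) (d : ℕ) (hd : 0 < d) (f : 𝒮.presheaf.obj (op ⊤)) (hf : f ∈ 𝒮.deg ⊤ hY d) :
    (RelProj.domQ u pL chartL).ι ''ᵁ (r ⁻¹ᵁ ((RelProj.emb p chart ⊤ hY) ''ᵁ Proj.basicOpen (𝒮.deg ⊤ hY) f)) =
      pL ⁻¹ᵁ
        (⨆ V : {V : X.affineOpens //
          ((𝒮L.deg V.1 V.2 d : AddSubgroup (𝒮L.presheaf.obj (op (V.1 : X.Opens)))) : Set (𝒮L.presheaf.obj (op (V.1 : X.Opens)))) ⊆
            (Ideal.span {(u.appLE ⊤ (V.1 : X.Opens) (le_top.trans (Scheme.Hom.preimage_top q).ge)).hom f} : Set (𝒮L.presheaf.obj (op (V.1 : X.Opens))))},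
          (V.1.1 : X.Opens)) := by
  haveI : L.IsQuasicoherent := Groth.Agent.Lib.Helper3.InvCoh.isQuasicoherent_of_isInvertible hL
  have hle : ∀ V : X.Opens, V ≤ q ⁻¹ᵁ (⊤ : Y.Opens) := fun V =>
    le_top.trans (Scheme.Hom.preimage_top q).ge
  apply le_antisymm
  · rintro x' ⟨z, hz, rfl⟩
    rw [Scheme.Hom.mem_preimage]
    have hz' : r z ∈ (RelProj.emb p chart ⊤ hY) ''ᵁ Proj.basicOpen (𝒮.deg ⊤ hY) f := hz
    obtain ⟨V, e, hV, hxV, hg⟩ := Groth.Agent.Lib.Helper3.InvGen.exists_affine_isGen hL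
      (pL ((RelProj.domQ u pL chartL).ι z))
    obtain ⟨y, hy⟩ := Groth.Agent.Lib.Helper3.ProjQMap.exists_emb_eq pL chartL V hV _ hxV
    have hfy := (Groth.Agent.Lib.Helper3.RLPsi.r_mem_iff u r hr hPL z ⊤ hY V hV (hle V) y hy
      hd f hf).mp hz'
    have ha : (u.appLE ⊤ V (hle V)).hom f ∈ 𝒮L.deg V hV d :=
      (u.gradedAt ⊤ hY V hV (hle V)).map_mem hf
    obtain ⟨V₁, hV₁, hle₁, hxV₁, hspan⟩ :=
      Groth.Agent.Lib.Helper3.RLPsiInv.exists_affine_span hj hPL hV hg ha y hfy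
    rw [hy] at hxV₁
    refine Opens.mem_iSup.mpr ⟨⟨⟨V₁, hV₁⟩, ?_⟩, hxV₁⟩
    rw [← Groth.Agent.Lib.Helper3.RLPsi.appLE_res u ⊤ (hle V) hle₁ f]
    exact hspan
  · intro x' hx
    rw [Scheme.Hom.mem_preimage] at hx
    obtain ⟨⟨⟨V, hV⟩, hspan⟩, hxV⟩ := Opens.mem_iSup.mp hx
    obtain ⟨y, hy⟩ := Groth.Agent.Lib.Helper3.ProjQMap.exists_emb_eq pL chartL V hV x' hxV
    have hfy := Groth.Agent.Lib.Helper3.RLPsiInv.notMem_of_span hj V hV y hspan
    have hdom : x' ∈ RelProj.domQ u pL chartL :=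
      Groth.Agent.Lib.Helper3.RLPsi.mem_domQ_of_loc u x' ⊤ hY V hV (hle V)
        ⟨y, hy, d, hd, f, hf, hfy⟩
    refine ⟨⟨x', hdom⟩, ?_, rfl⟩
    exact (Groth.Agent.Lib.Helper3.RLPsi.r_mem_iff u r hr hPL ⟨x', hdom⟩ ⊤ hY V hV (hle V) y hy
      hd f hf).mpr hfy

end Groth.Agent.S12144
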