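import Groth.Statements.S2324
import Groth.Agent.Lib.Helper3.InvSum

set_option autoImplicit false
universe u
open CategoryTheory CategoryTheory.Limits AlgebraicGeometry
open EGA2

namespace Groth.Agent.S2324

open Groth.Agent.Lib.Helper3 QCSec InvGen InvAmple InvSum in
theorem exists_closed_points_of_finite {X : Type*} [TopologicalSpace X] [T0Space X] (Z : Set X)
    (hZ : Z.Finite) :
    ∃ Z' ⊆ Z, (∀ z ∈ Z, ∃ w ∈ Z', z ⤳ w) ∧ ∀ z ∈ Z', z ∉ closure (Z' \ {z}) := by
  letI := specializationPreorder X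
  refine ⟨{b | Minimal (· ∈ Z) b}, fun b hb => hb.1, ?_, ?_⟩
  · intro z hz
    obtain ⟨b, hba, hb⟩ := hZ.exists_le_minimal hz
    exact ⟨b, hb, hba⟩
  · intro z hz hcl
    have hfin : ({b | Minimal (· ∈ Z) b} \ {z}).Finite :=
      hZ.subset (fun b hb => hb.1.1)
    have h1 := hfin.closure_biUnion (fun w => ({w} : Set X))
    rw [Set.biUnion_of_singleton] at h1
    rw [h1] at hcl
    simp only [Set.mem_iUnion] at hcl
    obtain ⟨w, hw, hzw⟩ := hcl
    have h2 : w ⤳ z := specializes_iff_mem_closure.mpr hzw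
    have h3 : z ⤳ w := hw.1.2 hz.1 h2
    exact hw.2 (h2.antisymm h3).eq

open Groth.Agent.Lib.Helper3 QCSec InvGen InvAmple InvSum in

/-- Let X be a quasi-compact separated scheme, L an ample invertible O_X-module, Z a finite set of
points of X and U an open subset containing Z. Then for some n > 0 and some global section s of
L^{⊗n}, the open X_s where s generates is affine, contains Z and is contained in U. -/
theorem result (X : Scheme.{u}) [CompactSpace X] [X.IsSeparated] (L : X.Modules) (hL : CohB1.IsAmple L)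
    (Z : Set X) (hZ : Z.Finite) (U : X.Opens) (hZU : Z ⊆ U) :
    ∃ (n : ℕ) (s : Coh.structureModule X ⟶ CohB1.tensorPow L (n + 1)),
      Z ⊆ CohB1.genLocus _ s ∧ (CohB1.genLocus _ s : Set X) ⊆ U ∧ IsAffineOpen (CohB1.genLocus _ s) := by
  classical
  have hinv : PicF.IsInvertible L := hL.1
  obtain ⟨Z', hZ'Z, hspec, hcl⟩ := exists_closed_points_of_finite Z hZ
  have hZ'fin : Z'.Finite := hZ.subset hZ'Z
  haveI : Fintype Z' := hZ'fin.fintype
  -- neighbourhoods
  have hnb : ∀ z : Z', ∃ W ∈ SecLocus L, (z : X) ∈ W ∧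
      W ≤ U ⊓ ⟨(closure (Z' \ {(z : X)}))ᶜ, isClosed_closure.isOpen_compl⟩ ∧ IsAffineOpen W := by
    intro z
    exact exists_secLocus_nbhd hL z _ ⟨hZU (hZ'Z z.2), hcl z z.2⟩
  choose W hWsec hzW hWle hWaff using hnb
  obtain ⟨d, hd, ht⟩ := exists_common_degree_finite hinv W hWsec
  choose t ht using ht
  obtain ⟨n, rfl⟩ : ∃ n, d = n + 1 := ⟨d - 1, by omega⟩
  have hN := InvTensor.isInvertible_tensorPow hinv (n + 1)
  refine ⟨n, ∑ z ∈ (Finset.univ : Finset Z'), t z, ?_, ?_, ?_⟩
  · intro z hz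
    obtain ⟨w, hw, hzw⟩ := hspec z hz
    have hw' : w ∈ CohB1.genLocus _ (∑ z ∈ (Finset.univ : Finset Z'), t z) := by
      apply mem_genLocus_sum_of_unique hN Finset.univ t w ⟨w, hw⟩ (Finset.mem_univ _)
      · rw [ht]; exact hzW ⟨w, hw⟩
      · intro i _ hi hwi
        rw [ht] at hwi
        have h1 := (hWle i hwi).2
        apply h1
        apply subset_closure
        refine ⟨hw, ?_⟩
        intro h2
        apply hi
        exact Subtype.ext h2.symm
    exact hzw.mem_open (CohB1.genLocus _ _).2 hw'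
  · intro x hx
    obtain ⟨i, -, hi⟩ := exists_mem_genLocus_of_mem_genLocus_sum hN Finset.univ t x hx
    rw [ht] at hi
    exact (hWle i hi).1
  · apply isAffineOpen_genLocus_sum hN
    intro i _
    rw [ht]
    exact hWaff i

end Groth.Agent.S2324
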