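import Groth.Statements.S2192
import Groth.Agent.Lib.Helper19.DPPrime2

set_option autoImplicit false
universe u
open DPow

namespace Groth.Agent.S2192

open Groth.Agent.Lib.Helper19.DPPrime MvPolynomial

/-- The data of the statement. -/
structure RD (A : Type u) [CommRing A] where
  I : Ideal A
  d : ℕ → A → A
  h_zero : ∀ x ∈ I, d 0 x = 1
  h_one : ∀ x ∈ I, d 1 x = x
  h_mem : ∀ (n : ℕ) (x : A), n ≠ 0 → x ∈ I → d n x ∈ I
  h_add : ∀ (n : ℕ) (x y : A), x ∈ I → y ∈ I →
      d n (x + y) = (Finset.HasAntidiagonal.antidiagonal n).sum fun k => d k.1 x * d k.2 y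
  h_mul : ∀ (n : ℕ) (a x : A), x ∈ I → d n (a * x) = a ^ n * d n x

namespace RD

variable {A : Type u} [CommRing A] (R : RD A)

/-- Elements of `I` satisfying the product and composition rules. -/
def Good (x : A) : Prop :=
  x ∈ R.I ∧ (∀ m n, R.d m x * R.d n x = ((m + n).choose m : A) * R.d (m + n) x) ∧
    ∀ m n, n ≠ 0 → R.d m (R.d n x) = (Nat.uniformBell m n : A) * R.d (m * n) x

theorem d_zero_elt {n : ℕ} (hn : n ≠ 0) : R.d n 0 = 0 := by
  have := R.h_mul n 0 0 R.I.zero_mem
  rw [mul_zero, zero_pow hn, zero_mul] at this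
  exact this

theorem good_zero : R.Good 0 := by
  refine ⟨R.I.zero_mem, fun m n => ?_, fun m n hn => ?_⟩
  · by_cases hm : m = 0
    · subst hm
      rw [R.h_zero 0 R.I.zero_mem, one_mul, zero_add, Nat.choose_zero_right, Nat.cast_one, one_mul]
    · rw [R.d_zero_elt hm, zero_mul, R.d_zero_elt (show m + n ≠ 0 by omega), mul_zero]
  · rw [R.d_zero_elt hn]
    by_cases hm : m = 0
    · subst hm
      rw [R.h_zero 0 R.I.zero_mem, Nat.uniformBell_zero_left, Nat.cast_one, one_mul, zero_mul,
        R.h_zero 0 R.I.zero_mem]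
    · rw [R.d_zero_elt hm, R.d_zero_elt (Nat.mul_ne_zero hm hn), mul_zero]

theorem good_smul (a : A) {x : A} (hx : R.Good x) : R.Good (a * x) := by
  obtain ⟨hxI, h1, h2⟩ := hx
  refine ⟨R.I.mul_mem_left a hxI, fun m n => ?_, fun m n hn => ?_⟩
  · rw [R.h_mul m a x hxI, R.h_mul n a x hxI, R.h_mul (m + n) a x hxI]
    calc a ^ m * R.d m x * (a ^ n * R.d n x) = a ^ (m + n) * (R.d m x * R.d n x) := by ring
      _ = _ := by rw [h1]; ring
  · rw [R.h_mul n a x hxI, R.h_mul m (a ^ n) _ (R.h_mem n x hn hxI), h2 m n hn,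
      R.h_mul (m * n) a x hxI]
    ring

/-- The system attached to two good elements. -/
noncomputable def sysG {x y : A} (hx : R.Good x) (hy : R.Good y) : DPSys A where
  e b n := R.d n (cond b y x)
  e_zero b := by
    cases b
    · exact R.h_zero _ hx.1
    · exact R.h_zero _ hy.1
  e_mul b m n := by
    cases b
    · exact hx.2.1 m n
    · exact hy.2.1 m n

theorem cond_good {x y : A} (hx : R.Good x) (hy : R.Good y) (b : Bool) : R.Good (cond b y x) := by
  cases b
  · exact hx
  · exact hy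

theorem sysG_mem {x y : A} (hx : R.Good x) (hy : R.Good y) {F : TT} (hF : F ∈ Tplus) :
    (R.sysG hx hy).theta F ∈ R.I :=
  theta_mem _ R.I (fun b n hn => R.h_mem n _ hn (R.cond_good hx hy b).1) hF

theorem claim {x y : A} (hx : R.Good x) (hy : R.Good y) {F : TT} (hF : F ∈ Tplus) :
    ∀ n, ∃ F' : TT, sysR.theta F' = eps.dpow n (sysR.theta F) ∧
      (R.sysG hx hy).theta F' = R.d n ((R.sysG hx hy).theta F) := by
  refine Submodule.span_induction (p := fun F _ => ∀ n, ∃ F' : TT,
    sysR.theta F' = eps.dpow n (sysR.theta F) ∧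
      (R.sysG hx hy).theta F' = R.d n ((R.sysG hx hy).theta F)) ?_ ?_ ?_ ?_ hF
  · rintro _ ⟨⟨b, k⟩, rfl⟩ n
    refine ⟨(Nat.uniformBell n (k + 1) : TT) * UU b (n * (k + 1)), ?_, ?_⟩
    · rw [map_mul, map_natCast, DPSys.theta_UU, DPSys.theta_X]
      show _ = eps.dpow n (eps.dpow (k + 1) (X b))
      rw [eps.dpow_comp (Nat.succ_ne_zero k) (mem_top' _)]
      rfl
    · rw [map_mul, map_natCast, DPSys.theta_UU, DPSys.theta_X]
      show _ = R.d n (R.d (k + 1) (cond b y x))
      rw [(R.cond_good hx hy b).2.2 n (k + 1) (Nat.succ_ne_zero k)]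
      rfl
  · intro n
    by_cases hn : n = 0
    · subst hn
      refine ⟨1, ?_, ?_⟩
      · rw [map_one, map_zero, eps.dpow_zero (mem_top' _)]
      · rw [map_one, map_zero, R.h_zero 0 R.I.zero_mem]
    · refine ⟨0, ?_, ?_⟩
      · rw [map_zero, eps.dpow_eval_zero hn]
      · rw [map_zero, R.d_zero_elt hn]
  · intro F G hF hG ihF ihG n
    choose rF hrF1 hrF2 using ihF
    choose rG hrG1 hrG2 using ihG
    have ha : (R.sysG hx hy).theta F ∈ R.I := R.sysG_mem hx hy hF
    have hb : (R.sysG hx hy).theta G ∈ R.I := R.sysG_mem hx hy hG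
    refine ⟨∑ k ∈ Finset.HasAntidiagonal.antidiagonal n, rF k.1 * rG k.2, ?_, ?_⟩
    · rw [map_add, eps.dpow_add (mem_top' _) (mem_top' _), map_sum]
      refine Finset.sum_congr rfl (fun k _ => ?_)
      rw [map_mul, hrF1, hrG1]
    · rw [map_add, R.h_add n _ _ ha hb, map_sum]
      refine Finset.sum_congr rfl (fun k _ => ?_)
      rw [map_mul, hrF2, hrG2]
  · intro G F hF ih n
    obtain ⟨F', h1, h2⟩ := ih n
    have ha : (R.sysG hx hy).theta F ∈ R.I := R.sysG_mem hx hy hF
    refine ⟨G ^ n * F', ?_, ?_⟩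
    · rw [smul_eq_mul, map_mul, map_mul, map_pow, h1, eps.dpow_mul (mem_top' _)]
    · rw [smul_eq_mul, map_mul, map_mul, map_pow, h2, R.h_mul n _ _ ha]

theorem psi_rep {x y : A} (hx : R.Good x) (hy : R.Good y) {F : TT} (hF : F ∈ Tplus) (n : ℕ)
    (Fn : TT) (h : sysR.theta Fn = eps.dpow n (sysR.theta F)) :
    (R.sysG hx hy).theta Fn = R.d n ((R.sysG hx hy).theta F) := by
  obtain ⟨F', h1, h2⟩ := R.claim hx hy hF n
  rw [← h2]
  exact theta_functional _ (h.trans h1.symm)

theorem good_of_F {x y : A} (hx : R.Good x) (hy : R.Good y) {F : TT} (hF : F ∈ Tplus) :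
    R.Good ((R.sysG hx hy).theta F) := by
  obtain ⟨rF, hrF, hrF'⟩ := exists_rep (F := F) hF
  refine ⟨R.sysG_mem hx hy hF, fun m n => ?_, fun m n hn => ?_⟩
  · have hid : sysR.theta (rF m * rF n) =
        sysR.theta ((((m + n).choose m : ℕ) : TT) * rF (m + n)) := by
      rw [map_mul, map_mul, map_natCast, hrF, hrF, hrF, eps.mul_dpow (mem_top' _)]
    have h2 := theta_functional (R.sysG hx hy) hid
    rw [map_mul, map_mul, map_natCast, R.psi_rep hx hy hF m _ (hrF m),
      R.psi_rep hx hy hF n _ (hrF n), R.psi_rep hx hy hF (m + n) _ (hrF (m + n))] at h2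
    exact h2
  · have hFn : rF n ∈ Tplus := hrF' n hn
    obtain ⟨r2, hr2, -⟩ := exists_rep (F := rF n) hFn
    have hid : sysR.theta (r2 m) =
        sysR.theta (((Nat.uniformBell m n : ℕ) : TT) * rF (m * n)) := by
      rw [map_mul, map_natCast, hr2, hrF, hrF, eps.dpow_comp hn (mem_top' _)]
    have h2 := theta_functional (R.sysG hx hy) hid
    rw [map_mul, map_natCast, R.psi_rep hx hy hFn m _ (hr2 m), R.psi_rep hx hy hF n _ (hrF n),
      R.psi_rep hx hy hF (m * n) _ (hrF (m * n))] at h2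
    exact h2

theorem good_add {x y : A} (hx : R.Good x) (hy : R.Good y) : R.Good (x + y) := by
  have hF : (X (false, 0) + X (true, 0) : TT) ∈ Tplus :=
    Tplus.add_mem (X_mem_Tplus _) (X_mem_Tplus _)
  have h := R.good_of_F hx hy hF
  rw [map_add, DPSys.theta_X, DPSys.theta_X] at h
  have e1 : (R.sysG hx hy).e (false, 0).1 ((false, 0).2 + 1) = x := R.h_one x hx.1
  have e2 : (R.sysG hx hy).e (true, 0).1 ((true, 0).2 + 1) = y := R.h_one y hy.1
  rw [e1, e2] at h
  exact h

end RD


/-- Let I be an ideal of a ring A generated by a set S, and let d n : A -> A (n a natural number) be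
maps with d 0 = 1 and d 1 = id on I, d n mapping I into I for n > 0, vanishing off I, additive in
the divided-power sense and satisfying d n (a x) = a^n d n x for all x in I. If the product rule d m
x * d n x = C(m+n, m) d (m+n) x and the composition rule for d m (d n x) hold for all x in S, then
the d n form a divided power structure on I. -/
theorem result {A : Type u} [CommRing A] (I : Ideal A) (S : Set A)
    (hS : Ideal.span S = I) (d : ℕ → A → A) (h_null : ∀ (n : ℕ) (x : A), x ∉ I → d n x = 0)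
    (h_zero : ∀ x ∈ I, d 0 x = 1) (h_one : ∀ x ∈ I, d 1 x = x)
    (h_mem : ∀ (n : ℕ) (x : A), n ≠ 0 → x ∈ I → d n x ∈ I)
    (h_add : ∀ (n : ℕ) (x y : A), x ∈ I → y ∈ I →
      d n (x + y) = (Finset.antidiagonal n).sum fun k => d k.1 x * d k.2 y)
    (h_mul : ∀ (n : ℕ) (a x : A), x ∈ I → d n (a * x) = a ^ n * d n x)
    (h_mul_dpow : ∀ (m n : ℕ) (x : A), x ∈ S → d m x * d n x = (m + n).choose m * d (m + n) x)
    (h_comp : ∀ (m n : ℕ) (x : A), n ≠ 0 → x ∈ S →
      d m (d n x) = Nat.uniformBell m n * d (m * n) x) :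
    ∃ γ : DividedPowers I, γ.dpow = d := by
  let R : RD A := ⟨I, d, h_zero, h_one, h_mem, h_add, h_mul⟩
  have hgood : ∀ x ∈ I, R.Good x := by
    intro x hx
    rw [← hS] at hx
    refine Submodule.span_induction (p := fun x _ => R.Good x) ?_ ?_ ?_ ?_ hx
    · intro x hxS
      refine ⟨?_, fun m n => h_mul_dpow m n x hxS, fun m n hn => h_comp m n x hn hxS⟩
      show x ∈ I
      rw [← hS]
      exact Ideal.subset_span hxS
    · exact R.good_zero
    · intro x y _ _ hx hy
      exact R.good_add hx hy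
    · intro a x _ hx
      exact R.good_smul a hx
  exact ⟨{ dpow := d
           dpow_null := fun {n x} hx => h_null n x hx
           dpow_zero := fun {x} hx => h_zero x hx
           dpow_one := fun {x} hx => h_one x hx
           dpow_mem := fun {n x} hn hx => h_mem n x hn hx
           dpow_add := fun {n x y} hx hy => h_add n x y hx hy
           dpow_mul := fun {n a x} hx => h_mul n a x hx
           mul_dpow := fun {m n x} hx => (hgood x hx).2.1 m n
           dpow_comp := fun {m n x} hn hx => (hgood x hx).2.2 m n hn }, rfl⟩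

end Groth.Agent.S2192
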