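import Groth.Statements.S2191
import Groth.Agent.S2192

set_option autoImplicit false
universe u v
open DPow

namespace Groth.Agent.S2191

section Sup

variable {A : Type u} [CommRing A] {I J : Ideal A} (γ : DividedPowers I) (δ : DividedPowers J)

theorem exp_zero' {K : Ideal A} (η : DividedPowers K) : η.exp 0 = 1 := by
  ext n
  rw [DividedPowers.exp, PowerSeries.coeff_mk, PowerSeries.coeff_one]
  by_cases hn : n = 0
  · subst hn
    rw [η.dpow_zero K.zero_mem, if_pos rfl]
  · rw [η.dpow_eval_zero hn, if_neg hn]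

theorem coeff_exp_mul (n : ℕ) (x y : A) :
    PowerSeries.coeff n (γ.exp x * δ.exp y) =
      ∑ k ∈ Finset.HasAntidiagonal.antidiagonal n, γ.dpow k.1 x * δ.dpow k.2 y := by
  rw [PowerSeries.coeff_mul]
  refine Finset.sum_congr rfl (fun k _ => ?_)
  rw [DividedPowers.exp, DividedPowers.exp, PowerSeries.coeff_mk, PowerSeries.coeff_mk]

variable (h : ∀ (n : ℕ) (x : A), x ∈ I ⊓ J → γ.dpow n x = δ.dpow n x)

include h in
theorem exp_mul_eq {x x' y y' : A} (hx : x ∈ I) (hx' : x' ∈ I) (hy : y ∈ J) (hy' : y' ∈ J)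
    (e : x + y = x' + y') : γ.exp x * δ.exp y = γ.exp x' * δ.exp y' := by
  have hzI : x - x' ∈ I := I.sub_mem hx hx'
  have hz : x - x' = y' - y := by linear_combination e
  have hzJ : x - x' ∈ J := by rw [hz]; exact J.sub_mem hy' hy
  have e1 : γ.exp x = γ.exp x' * γ.exp (x - x') := by
    rw [← γ.exp_add hx' hzI]; congr 1; ring
  have e2 : δ.exp y' = δ.exp y * δ.exp (x - x') := by
    rw [← δ.exp_add hy hzJ]; congr 1; rw [hz]; ring
  have e3 : γ.exp (x - x') = δ.exp (x - x') := by
    ext n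
    rw [DividedPowers.exp, DividedPowers.exp, PowerSeries.coeff_mk, PowerSeries.coeff_mk]
    exact h n _ ⟨hzI, hzJ⟩
  rw [e1, e2, e3]; ring

/-- The divided power operations on `I + J`. -/
noncomputable def eFun (n : ℕ) (z : A) : A := by
  classical
  exact if hz : ∃ x ∈ I, ∃ y ∈ J, x + y = z then
    PowerSeries.coeff n (γ.exp hz.choose * δ.exp hz.choose_spec.2.choose) else 0

include h in
theorem eFun_eq (n : ℕ) {x y : A} (hx : x ∈ I) (hy : y ∈ J) :
    eFun γ δ n (x + y) = PowerSeries.coeff n (γ.exp x * δ.exp y) := by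
  classical
  have hz : ∃ x' ∈ I, ∃ y' ∈ J, x' + y' = x + y := ⟨x, hx, y, hy, rfl⟩
  unfold eFun
  rw [dif_pos hz]
  have h1 := hz.choose_spec.1
  have h2 := hz.choose_spec.2.choose_spec.1
  have h3 := hz.choose_spec.2.choose_spec.2
  rw [exp_mul_eq γ δ h h1 hx h2 hy h3]

theorem eFun_null (n : ℕ) {z : A} (hz : z ∉ I ⊔ J) : eFun γ δ n z = 0 := by
  classical
  unfold eFun
  rw [dif_neg]
  rintro ⟨x, hx, y, hy, rfl⟩
  exact hz (Submodule.add_mem_sup hx hy)

include h in
theorem eFun_left (n : ℕ) {x : A} (hx : x ∈ I) : eFun γ δ n x = γ.dpow n x := by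
  have := eFun_eq γ δ h n hx J.zero_mem
  rw [add_zero, exp_zero', mul_one] at this
  rw [this, DividedPowers.exp, PowerSeries.coeff_mk]

include h in
theorem eFun_right (n : ℕ) {y : A} (hy : y ∈ J) : eFun γ δ n y = δ.dpow n y := by
  have := eFun_eq γ δ h n I.zero_mem hy
  rw [zero_add, exp_zero', one_mul] at this
  rw [this, DividedPowers.exp, PowerSeries.coeff_mk]

end Sup


/-- Part (2): if two ideals I and J of a ring carry divided power structures agreeing on their
intersection, then exactly one divided power structure on the ideal I + J restricts to the given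
ones on I and on J. -/
theorem result {A : Type u} [CommRing A] {I J : Ideal A} (γ : DividedPowers I)
    (δ : DividedPowers J) (h : ∀ (n : ℕ) (x : A), x ∈ I ⊓ J → γ.dpow n x = δ.dpow n x) :
    ∃! ε : DividedPowers (I ⊔ J),
      (∀ (n : ℕ) (x : A), x ∈ I → ε.dpow n x = γ.dpow n x) ∧
        (∀ (n : ℕ) (x : A), x ∈ J → ε.dpow n x = δ.dpow n x) := by
  classical
  have hdec : ∀ z ∈ I ⊔ J, ∃ x ∈ I, ∃ y ∈ J, x + y = z := fun z hz => Submodule.mem_sup.1 hz
  have hIle : I ≤ I ⊔ J := le_sup_left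
  have hJle : J ≤ I ⊔ J := le_sup_right
  have hS : Ideal.span ((I : Set A) ∪ (J : Set A)) = I ⊔ J := by
    rw [Ideal.span_union, Ideal.span_eq, Ideal.span_eq]
  obtain ⟨ε, hε⟩ := Groth.Agent.S2192.result (I ⊔ J) ((I : Set A) ∪ (J : Set A)) hS (eFun γ δ)
    (fun n z hz => eFun_null γ δ n hz)
    (by
      intro z hz
      obtain ⟨x, hx, y, hy, rfl⟩ := hdec z hz
      rw [eFun_eq γ δ h 0 hx hy, coeff_exp_mul]
      simp [γ.dpow_zero hx, δ.dpow_zero hy])
    (by
      intro z hz
      obtain ⟨x, hx, y, hy, rfl⟩ := hdec z hz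
      rw [eFun_eq γ δ h 1 hx hy, coeff_exp_mul,
        Finset.Nat.sum_antidiagonal_eq_sum_range_succ (fun i j => γ.dpow i x * δ.dpow j y),
        Finset.sum_range_succ, Finset.sum_range_one]
      simp [γ.dpow_zero hx, δ.dpow_zero hy, γ.dpow_one hx, δ.dpow_one hy, add_comm])
    (by
      intro n z hn hz
      obtain ⟨x, hx, y, hy, rfl⟩ := hdec z hz
      rw [eFun_eq γ δ h n hx hy, coeff_exp_mul]
      refine Ideal.sum_mem _ (fun k hk => ?_)
      have hk' := Finset.HasAntidiagonal.mem_antidiagonal.1 hk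
      by_cases h1 : k.1 = 0
      · have h2 : k.2 ≠ 0 := by omega
        exact Ideal.mul_mem_left _ _ (hJle (δ.dpow_mem h2 hy))
      · exact Ideal.mul_mem_right _ _ (hIle (γ.dpow_mem h1 hx)))
    (by
      intro n z z' hz hz'
      obtain ⟨x, hx, y, hy, rfl⟩ := hdec z hz
      obtain ⟨x', hx', y', hy', rfl⟩ := hdec z' hz'
      have e : x + y + (x' + y') = (x + x') + (y + y') := by ring
      rw [e, eFun_eq γ δ h n (I.add_mem hx hx') (J.add_mem hy hy'), γ.exp_add hx hx',
        δ.exp_add hy hy']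
      have e2 : γ.exp x * γ.exp x' * (δ.exp y * δ.exp y') =
          (γ.exp x * δ.exp y) * (γ.exp x' * δ.exp y') := by ring
      rw [e2, PowerSeries.coeff_mul]
      refine Finset.sum_congr rfl (fun k _ => ?_)
      rw [eFun_eq γ δ h k.1 hx hy, eFun_eq γ δ h k.2 hx' hy'])
    (by
      intro n a z hz
      obtain ⟨x, hx, y, hy, rfl⟩ := hdec z hz
      rw [mul_add, eFun_eq γ δ h n (I.mul_mem_left a hx) (J.mul_mem_left a hy),
        eFun_eq γ δ h n hx hy, coeff_exp_mul, coeff_exp_mul, Finset.mul_sum]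
      refine Finset.sum_congr rfl (fun k hk => ?_)
      have hk' := Finset.HasAntidiagonal.mem_antidiagonal.1 hk
      rw [γ.dpow_mul hx, δ.dpow_mul hy, ← hk', pow_add]
      ring)
    (by
      intro m n x hx
      rcases hx with hx | hx
      · rw [eFun_left γ δ h m hx, eFun_left γ δ h n hx, eFun_left γ δ h (m + n) hx]
        exact γ.mul_dpow hx
      · rw [eFun_right γ δ h m hx, eFun_right γ δ h n hx, eFun_right γ δ h (m + n) hx]
        exact δ.mul_dpow hx)
    (by
      intro m n x hn hx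
      rcases hx with hx | hx
      · rw [eFun_left γ δ h n hx, eFun_left γ δ h m (γ.dpow_mem hn hx),
          eFun_left γ δ h (m * n) hx]
        exact γ.dpow_comp hn hx
      · rw [eFun_right γ δ h n hx, eFun_right γ δ h m (δ.dpow_mem hn hx),
          eFun_right γ δ h (m * n) hx]
        exact δ.dpow_comp hn hx)
  refine ⟨ε, ⟨fun n x hx => ?_, fun n x hx => ?_⟩, ?_⟩
  · rw [hε]; exact eFun_left γ δ h n hx
  · rw [hε]; exact eFun_right γ δ h n hx
  · rintro ε' ⟨h1, h2⟩
    refine DividedPowers.ext _ _ (fun n z hz => ?_)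
    obtain ⟨x, hx, y, hy, rfl⟩ := hdec z hz
    rw [hε, eFun_eq γ δ h n hx hy, coeff_exp_mul, ε'.dpow_add (hIle hx) (hJle hy)]
    refine Finset.sum_congr rfl (fun k _ => ?_)
    rw [h1 k.1 x hx, h2 k.2 y hy]

end Groth.Agent.S2191
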