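import Mathlib
import Groth.Statements.S18420

set_option autoImplicit false
universe u v
open DPow

namespace Groth.Agent.S18420

open MvPolynomial

section Comb

variable (N : ℕ)

def binE (e1 e2 : Fin N →₀ ℕ) : ℕ := ∏ i, (e1 i + e2 i).choose (e1 i)

def factE (e : Fin N →₀ ℕ) : ℕ := ∏ i, (e i).factorial

lemma exists_apply_ne_zero {e : Fin N →₀ ℕ} (he : e ≠ 0) : ∃ i, e i ≠ 0 := by
  by_contra h
  have h' : ∀ i, e i = 0 := fun i => not_not.1 (not_exists.1 h i)
  exact he (Finsupp.ext (fun i => by rw [h' i]; rfl))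

end Comb

section Model

variable (R : Type u) [CommRing R] (N : ℕ)

noncomputable def ιhom : MvPolynomial R ℤ →+* MvPolynomial R ℚ :=
  MvPolynomial.map (Int.castRingHom ℚ)

lemma ιhom_injective : Function.Injective (ιhom R) :=
  MvPolynomial.map_injective _ (RingHom.injective_int (Int.castRingHom ℚ))

noncomputable def πhom : MvPolynomial R ℤ →+* R :=
  MvPolynomial.eval₂Hom (Int.castRingHom R) id

lemma πhom_X (r : R) : πhom R (X r) = r := by
  unfold πhom
  rw [MvPolynomial.eval₂Hom_X']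
  rfl

abbrev QQ := MvPolynomial (Fin N) (MvPolynomial R ℚ)

abbrev MM := (Fin N →₀ ℕ) →₀ MvPolynomial R ℤ

noncomputable def algQ : Algebra (MvPolynomial R ℤ) (QQ R N) :=
  ((C : MvPolynomial R ℚ →+* QQ R N).comp (ιhom R)).toAlgebra

attribute [local instance] algQ

lemma smul_Q (a : MvPolynomial R ℤ) (q : QQ R N) : a • q = C (ιhom R a) * q := by
  rw [Algebra.smul_def]
  rfl

noncomputable def IQ : Ideal (QQ R N) := Ideal.span (Set.range (X : Fin N → QQ R N))

lemma X_mem_IQ (i : Fin N) : (X i : QQ R N) ∈ IQ R N := Ideal.subset_span ⟨i, rfl⟩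

noncomputable def hQ : DividedPowers (IQ R N) := by
  classical
  exact DividedPowers.RatAlgebra.dividedPowers (IQ R N)

noncomputable def dgen (i : Fin N) (k : ℕ) : QQ R N := (hQ R N).dpow k (X i)

lemma dgen_zero (i : Fin N) : dgen R N i 0 = 1 := (hQ R N).dpow_zero (X_mem_IQ R N i)

lemma dgen_one (i : Fin N) : dgen R N i 1 = X i := (hQ R N).dpow_one (X_mem_IQ R N i)

lemma dgen_mul (i : Fin N) (n m : ℕ) :
    dgen R N i n * dgen R N i m = ((n + m).choose n : QQ R N) * dgen R N i (n + m) :=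
  (hQ R N).mul_dpow (X_mem_IQ R N i)

lemma dgen_mem (i : Fin N) {k : ℕ} (hk : k ≠ 0) : dgen R N i k ∈ IQ R N :=
  (hQ R N).dpow_mem hk (X_mem_IQ R N i)

lemma fact_mul_dgen (i : Fin N) (k : ℕ) :
    (k.factorial : QQ R N) * dgen R N i k = X i ^ k :=
  (hQ R N).factorial_mul_dpow_eq_pow (X_mem_IQ R N i)

noncomputable def dE (e : Fin N →₀ ℕ) : QQ R N := ∏ i, dgen R N i (e i)

lemma dE_zero : dE R N 0 = 1 := by
  unfold dE
  exact Finset.prod_eq_one (fun i _ => dgen_zero R N i)

lemma dE_mul (e1 e2 : Fin N →₀ ℕ) :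
    dE R N e1 * dE R N e2 = ((binE N e1 e2 : ℕ) : QQ R N) * dE R N (e1 + e2) := by
  unfold dE binE
  rw [← Finset.prod_mul_distrib, Nat.cast_prod, ← Finset.prod_mul_distrib]
  refine Finset.prod_congr rfl (fun i _ => ?_)
  rw [dgen_mul, Finsupp.add_apply]

lemma dE_single (i : Fin N) (k : ℕ) : dE R N (Finsupp.single i k) = dgen R N i k := by
  unfold dE
  rw [Finset.prod_eq_single i]
  · rw [Finsupp.single_eq_same]
  · intro j _ hj
    rw [Finsupp.single_apply, if_neg (Ne.symm hj), dgen_zero]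
  · intro h
    exact absurd (Finset.mem_univ i) h

lemma dE_split (e : Fin N →₀ ℕ) (i0 : Fin N) :
    dE R N e = dgen R N i0 (e i0) * ∏ i ∈ Finset.univ.erase i0, dgen R N i (e i) := by
  unfold dE
  exact (Finset.mul_prod_erase Finset.univ (fun i => dgen R N i (e i)) (Finset.mem_univ i0)).symm

lemma dE_mem {e : Fin N →₀ ℕ} (he : e ≠ 0) : dE R N e ∈ IQ R N := by
  obtain ⟨i0, hi0⟩ := exists_apply_ne_zero N he
  rw [dE_split R N e i0]
  exact Ideal.mul_mem_right _ _ (dgen_mem R N i0 hi0)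

lemma factE_mul_dE (e : Fin N →₀ ℕ) :
    ((factE N e : ℕ) : QQ R N) * dE R N e = monomial e 1 := by
  unfold factE dE
  rw [Nat.cast_prod, ← Finset.prod_mul_distrib, MvPolynomial.monomial_eq, C_1, one_mul,
    Finsupp.prod_fintype _ _ (fun i => pow_zero _)]
  exact Finset.prod_congr rfl (fun i _ => fact_mul_dgen R N i (e i))

lemma factE_isUnit (e : Fin N →₀ ℕ) : IsUnit (((factE N e : ℕ) : MvPolynomial R ℚ)) := by
  have h0 : ((factE N e : ℕ) : ℚ) ≠ 0 := by
    rw [Nat.cast_ne_zero]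
    unfold factE
    exact Finset.prod_ne_zero_iff.2 (fun i _ => Nat.factorial_ne_zero _)
  have h1 := (isUnit_iff_ne_zero.2 h0).map (algebraMap ℚ (MvPolynomial R ℚ))
  rwa [map_natCast] at h1

lemma coeff_dE_self (e : Fin N →₀ ℕ) :
    ((factE N e : ℕ) : MvPolynomial R ℚ) * coeff e (dE R N e) = 1 := by
  classical
  have h := congrArg (coeff e) (factE_mul_dE R N e)
  rw [← map_natCast (C : MvPolynomial R ℚ →+* QQ R N), coeff_C_mul, coeff_monomial,
    if_pos rfl] at h
  exact h

lemma coeff_dE_ne {e e' : Fin N →₀ ℕ} (hne : e ≠ e') : coeff e' (dE R N e) = 0 := by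
  classical
  have h := congrArg (coeff e') (factE_mul_dE R N e)
  rw [← map_natCast (C : MvPolynomial R ℚ →+* QQ R N), coeff_C_mul, coeff_monomial,
    if_neg hne] at h
  exact (factE_isUnit R N e).mul_right_eq_zero.1 h

noncomputable def θ : MM R N →ₗ[MvPolynomial R ℤ] QQ R N :=
  Finsupp.linearCombination (MvPolynomial R ℤ) (dE R N)

lemma θ_single (e : Fin N →₀ ℕ) (a : MvPolynomial R ℤ) :
    θ R N (Finsupp.single e a) = a • dE R N e := by
  show Finsupp.linearCombination _ _ _ = _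
  rw [Finsupp.linearCombination_single]

lemma θ_apply (u : MM R N) : θ R N u = ∑ e ∈ u.support, u e • dE R N e := by
  show Finsupp.linearCombination _ _ _ = _
  rw [Finsupp.linearCombination_apply]
  rfl

lemma coeff_θ (u : MM R N) (e' : Fin N →₀ ℕ) :
    ((factE N e' : ℕ) : MvPolynomial R ℚ) * coeff e' (θ R N u) = ιhom R (u e') := by
  classical
  refine Finsupp.induction_linear u ?_ ?_ ?_
  · simp
  · intro f g hf hg
    rw [map_add, coeff_add, mul_add, hf, hg, Finsupp.add_apply, map_add]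
  · intro a r
    rw [θ_single, smul_Q, coeff_C_mul]
    by_cases h : a = e'
    · subst h
      rw [Finsupp.single_eq_same, mul_left_comm, coeff_dE_self, mul_one]
    · rw [coeff_dE_ne R N h, mul_zero, mul_zero, Finsupp.single_apply, if_neg h, map_zero]

lemma θ_injective : Function.Injective (θ R N) := by
  intro u v h
  refine Finsupp.ext (fun e => ?_)
  apply ιhom_injective R
  rw [← coeff_θ R N u e, ← coeff_θ R N v e, h]

noncomputable def μ : MM R N →ₗ[MvPolynomial R ℤ] MM R N →ₗ[MvPolynomial R ℤ] MM R N :=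
  Finsupp.linearCombination (MvPolynomial R ℤ) (fun e1 : Fin N →₀ ℕ =>
    Finsupp.linearCombination (MvPolynomial R ℤ) (fun e2 : Fin N →₀ ℕ =>
      (Finsupp.single (e1 + e2) ((binE N e1 e2 : ℕ) : MvPolynomial R ℤ) : MM R N)))

lemma μ_single (a a' : Fin N →₀ ℕ) (r r' : MvPolynomial R ℤ) :
    μ R N (Finsupp.single a r) (Finsupp.single a' r') =
      Finsupp.single (a + a') (r * (r' * ((binE N a a' : ℕ) : MvPolynomial R ℤ))) := by
  simp only [μ, Finsupp.linearCombination_single, LinearMap.smul_apply, Finsupp.smul_single,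
    smul_eq_mul]

lemma θ_mul (u v : MM R N) : θ R N (μ R N u v) = θ R N u * θ R N v := by
  refine Finsupp.induction_linear u ?_ ?_ ?_
  · simp
  · intro f g hf hg
    rw [map_add, LinearMap.add_apply, map_add, hf, hg, map_add, add_mul]
  · intro a r
    refine Finsupp.induction_linear v ?_ ?_ ?_
    · simp
    · intro f g hf hg
      rw [map_add, map_add, hf, hg, map_add, mul_add]
    · intro a' r'
      rw [μ_single, θ_single, θ_single, θ_single]
      simp only [smul_Q, map_mul, map_natCast]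
      rw [show C (ιhom R r) * dE R N a * (C (ιhom R r') * dE R N a') =
        C (ιhom R r) * C (ιhom R r') * (dE R N a * dE R N a') by ring, dE_mul]
      ring

noncomputable def Psub : Subring (QQ R N) where
  carrier := Set.range (θ R N)
  mul_mem' := by
    rintro _ _ ⟨u, rfl⟩ ⟨v, rfl⟩
    exact ⟨μ R N u v, θ_mul R N u v⟩
  one_mem' := ⟨Finsupp.single 0 1, by rw [θ_single, one_smul, dE_zero]⟩
  add_mem' := by
    rintro _ _ ⟨u, rfl⟩ ⟨v, rfl⟩
    exact ⟨u + v, map_add _ _ _⟩
  zero_mem' := ⟨0, map_zero _⟩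
  neg_mem' := by
    rintro _ ⟨u, rfl⟩
    exact ⟨-u, map_neg _ _⟩

lemma mem_Psub {q : QQ R N} : q ∈ Psub R N ↔ ∃ u, θ R N u = q := Iff.rfl

noncomputable def el (u : MM R N) : Psub R N := ⟨θ R N u, (mem_Psub R N).2 ⟨u, rfl⟩⟩

lemma el_val (u : MM R N) : ((el R N u : Psub R N) : QQ R N) = θ R N u := rfl

noncomputable def pre (y : Psub R N) : MM R N := Classical.choose ((mem_Psub R N).1 y.2)

lemma θ_pre (y : Psub R N) : θ R N (pre R N y) = (y : QQ R N) :=
  Classical.choose_spec ((mem_Psub R N).1 y.2)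

lemma pre_el (u : MM R N) : pre R N (el R N u) = u :=
  θ_injective R N (θ_pre R N (el R N u))

lemma el_pre (y : Psub R N) : el R N (pre R N y) = y := Subtype.ext (θ_pre R N y)

lemma pre_zero : pre R N 0 = 0 :=
  θ_injective R N (by rw [θ_pre, Subring.coe_zero, map_zero])

lemma pre_one : pre R N 1 = Finsupp.single 0 1 :=
  θ_injective R N (by rw [θ_pre, Subring.coe_one, θ_single, one_smul, dE_zero])

lemma pre_add (y z : Psub R N) : pre R N (y + z) = pre R N y + pre R N z :=
  θ_injective R N (by rw [θ_pre, Subring.coe_add, map_add, θ_pre, θ_pre])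

lemma pre_mul (y z : Psub R N) : pre R N (y * z) = μ R N (pre R N y) (pre R N z) :=
  θ_injective R N (by rw [θ_pre, Subring.coe_mul, θ_mul, θ_pre, θ_pre])

lemma C_mem_Psub (a : MvPolynomial R ℤ) : (C (ιhom R a) : QQ R N) ∈ Psub R N :=
  (mem_Psub R N).2 ⟨Finsupp.single 0 a, by rw [θ_single, dE_zero, smul_Q, mul_one]⟩

lemma dgen_mem_Psub (i : Fin N) (k : ℕ) : dgen R N i k ∈ Psub R N :=
  (mem_Psub R N).2 ⟨Finsupp.single (Finsupp.single i k) 1, by
    rw [θ_single, one_smul, dE_single]⟩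

lemma X_mem_Psub (i : Fin N) : (X i : QQ R N) ∈ Psub R N := by
  rw [← dgen_one R N i]
  exact dgen_mem_Psub R N i 1

lemma dpow_dE_mem_Psub {e : Fin N →₀ ℕ} (he : e ≠ 0) (n : ℕ) :
    (hQ R N).dpow n (dE R N e) ∈ Psub R N := by
  obtain ⟨i0, hi0⟩ := exists_apply_ne_zero N he
  have hcomp : (hQ R N).dpow n (dgen R N i0 (e i0)) =
      ((Nat.uniformBell n (e i0) : ℕ) : QQ R N) * dgen R N i0 (n * e i0) :=
    (hQ R N).dpow_comp hi0 (X_mem_IQ R N i0)
  rw [dE_split R N e i0, mul_comm, (hQ R N).dpow_mul (dgen_mem R N i0 hi0), hcomp]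
  exact Subring.mul_mem _
    (Subring.pow_mem _ (Subring.prod_mem _ (fun i _ => dgen_mem_Psub R N i (e i))) n)
    (Subring.mul_mem _ (natCast_mem _ _) (dgen_mem_Psub R N i0 _))

lemma IQ_le_ker : IQ R N ≤ RingHom.ker (constantCoeff : QQ R N →+* MvPolynomial R ℚ) := by
  unfold IQ
  rw [Ideal.span_le]
  rintro _ ⟨i, rfl⟩
  exact RingHom.mem_ker.2 (constantCoeff_X _ i)

lemma u_zero_of_mem {u : MM R N} (h : θ R N u ∈ IQ R N) : u 0 = 0 := by
  have h1 : coeff 0 (θ R N u) = 0 := by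
    have h0 := RingHom.mem_ker.1 (IQ_le_ker R N h)
    rwa [constantCoeff_eq] at h0
  have h2 := coeff_θ R N u 0
  rw [h1, mul_zero] at h2
  exact ιhom_injective R (by rw [← h2, map_zero])

lemma dpow_mem_Psub {q : QQ R N} (hq : q ∈ Psub R N) (hqI : q ∈ IQ R N) (n : ℕ) :
    (hQ R N).dpow n q ∈ Psub R N := by
  obtain ⟨u, rfl⟩ := (mem_Psub R N).1 hq
  have hu0 : u 0 = 0 := u_zero_of_mem R N hqI
  rw [θ_apply]
  have key : (∑ e ∈ u.support, u e • dE R N e) ∈ IQ R N ∧
      ∀ n, (hQ R N).dpow n (∑ e ∈ u.support, u e • dE R N e) ∈ Psub R N := by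
    refine Finset.sum_induction _
      (fun q => q ∈ IQ R N ∧ ∀ n, (hQ R N).dpow n q ∈ Psub R N) ?_ ?_ ?_
    · rintro q1 q2 ⟨h1, h1'⟩ ⟨h2, h2'⟩
      refine ⟨Ideal.add_mem _ h1 h2, fun n => ?_⟩
      rw [(hQ R N).dpow_add h1 h2]
      exact Subring.sum_mem _ (fun k _ => Subring.mul_mem _ (h1' _) (h2' _))
    · refine ⟨Ideal.zero_mem _, fun n => ?_⟩
      rcases Nat.eq_zero_or_pos n with rfl | hn
      · rw [(hQ R N).dpow_zero (Ideal.zero_mem _)]
        exact Subring.one_mem _
      · rw [(hQ R N).dpow_eval_zero hn.ne']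
        exact Subring.zero_mem _
    · intro e he
      have he0 : e ≠ 0 := by
        rintro rfl
        exact (Finsupp.mem_support_iff.1 he) hu0
      have hdI := dE_mem R N he0
      refine ⟨?_, fun n => ?_⟩
      · rw [smul_Q]
        exact Ideal.mul_mem_left _ _ hdI
      · rw [smul_Q, (hQ R N).dpow_mul hdI]
        exact Subring.mul_mem _ (Subring.pow_mem _ (C_mem_Psub R N _) n)
          (dpow_dE_mem_Psub R N he0 n)
  exact key.2 n

noncomputable def IP : Ideal (Psub R N) := (IQ R N).comap (Psub R N).subtype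

lemma mem_IP {y : Psub R N} : y ∈ IP R N ↔ (y : QQ R N) ∈ IQ R N := Iff.rfl

lemma IP_map : (IP R N).map (Psub R N).subtype = IQ R N := by
  apply le_antisymm Ideal.map_comap_le
  unfold IQ
  rw [Ideal.span_le]
  rintro _ ⟨i, rfl⟩
  have h1 : (⟨X i, X_mem_Psub R N i⟩ : Psub R N) ∈ IP R N := (mem_IP R N).2 (X_mem_IQ R N i)
  exact Ideal.mem_map_of_mem _ h1

noncomputable def hP : DividedPowers (IP R N) :=
  DividedPowers.ofInjective (IP R N) (IQ R N) (Psub R N).subtype
    (Subring.subtype_injective _) (hQ R N) (IP_map R N)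
    (fun n {y} hy => ⟨⟨(hQ R N).dpow n y.1, dpow_mem_Psub R N y.2 hy n⟩,
      fun hn => (hQ R N).dpow_mem hn hy, rfl⟩)

lemma hP_coe (n : ℕ) {y : Psub R N} (hy : y ∈ IP R N) :
    (((hP R N).dpow n y : Psub R N) : QQ R N) = (hQ R N).dpow n (y : QQ R N) := by
  have h1 := congrArg Subtype.val ((hP R N).factorial_mul_dpow_eq_pow (n := n) hy)
  have h2 := (hQ R N).factorial_mul_dpow_eq_pow (n := n) ((mem_IP R N).1 hy)
  simp only [Subring.coe_mul, Subring.coe_natCast, Subring.coe_pow] at h1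
  exact (IsUnit.natCast_factorial_of_algebra ℚ n).mul_left_cancel (h1.trans h2.symm)

lemma hP_dpow_single (i : Fin N) (n : ℕ) :
    (hP R N).dpow n (el R N (Finsupp.single (Finsupp.single i 1) 1)) =
      el R N (Finsupp.single (Finsupp.single i n) 1) := by
  have h1 : el R N (Finsupp.single (Finsupp.single i 1) 1) ∈ IP R N := by
    rw [mem_IP, el_val, θ_single, one_smul, dE_single]
    exact dgen_mem R N i one_ne_zero
  apply Subtype.ext
  rw [hP_coe R N n h1, el_val, el_val, θ_single, θ_single, one_smul, one_smul, dE_single,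
    dE_single, dgen_one]
  rfl

end Model

section Target

variable {R : Type u} [CommRing R] {N : ℕ} {P : Type v} [CommRing P] [Algebra R P]

variable (R P) in
noncomputable def algP : Algebra (MvPolynomial R ℤ) P :=
  ((algebraMap R P).comp (πhom R)).toAlgebra

attribute [local instance] algP algQ

lemma smul_P (a : MvPolynomial R ℤ) (p : P) : a • p = (πhom R a) • p := by
  rw [Algebra.smul_def, Algebra.smul_def]
  rfl

variable (x : Fin N → ℕ → P) (b : Module.Basis (Fin N →₀ ℕ) R P)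

lemma b_eq (hx0 : ∀ i, x i 0 = 1)
    (hb : ∀ e : Fin N →₀ ℕ, b e = e.prod (fun i k => x i k)) (e : Fin N →₀ ℕ) :
    b e = ∏ i, x i (e i) := by
  rw [hb, Finsupp.prod_fintype _ _ (fun i => hx0 i)]

lemma b_zero (hb : ∀ e : Fin N →₀ ℕ, b e = e.prod (fun i k => x i k)) : b 0 = 1 := by
  rw [hb, Finsupp.prod_zero_index]

lemma b_mul (hx0 : ∀ i, x i 0 = 1)
    (hxmul : ∀ i n m, x i n * x i m = ((n + m).choose n : P) * x i (n + m))
    (hb : ∀ e : Fin N →₀ ℕ, b e = e.prod (fun i k => x i k)) (e1 e2 : Fin N →₀ ℕ) :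
    b e1 * b e2 = ((binE N e1 e2 : ℕ) : P) * b (e1 + e2) := by
  rw [b_eq x b hx0 hb, b_eq x b hx0 hb, b_eq x b hx0 hb]
  unfold binE
  rw [← Finset.prod_mul_distrib, Nat.cast_prod, ← Finset.prod_mul_distrib]
  refine Finset.prod_congr rfl (fun i _ => ?_)
  rw [hxmul, Finsupp.add_apply]

lemma b_mem_span (hx0 : ∀ i, x i 0 = 1)
    (hb : ∀ e : Fin N →₀ ℕ, b e = e.prod (fun i k => x i k)) {e : Fin N →₀ ℕ} (he : e ≠ 0) :
    b e ∈ Ideal.span {y : P | ∃ (i : Fin N) (n : ℕ), 1 ≤ n ∧ y = x i n} := by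
  classical
  obtain ⟨i0, hi0⟩ := exists_apply_ne_zero N he
  rw [b_eq x b hx0 hb, ← Finset.mul_prod_erase Finset.univ _ (Finset.mem_univ i0)]
  exact Ideal.mul_mem_right _ _
    (Ideal.subset_span ⟨i0, e i0, Nat.one_le_iff_ne_zero.2 hi0, rfl⟩)

noncomputable def ψ : MM R N →ₗ[MvPolynomial R ℤ] P :=
  Finsupp.linearCombination (MvPolynomial R ℤ) (b : (Fin N →₀ ℕ) → P)

lemma ψ_single (e : Fin N →₀ ℕ) (a : MvPolynomial R ℤ) :
    ψ b (Finsupp.single e a) = a • b e := by
  show Finsupp.linearCombination _ _ _ = _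
  rw [Finsupp.linearCombination_single]

lemma ψ_apply (u : MM R N) : ψ b u = ∑ e ∈ u.support, u e • b e := by
  show Finsupp.linearCombination _ _ _ = _
  rw [Finsupp.linearCombination_apply]
  rfl

lemma ψ_mul (hx0 : ∀ i, x i 0 = 1)
    (hxmul : ∀ i n m, x i n * x i m = ((n + m).choose n : P) * x i (n + m))
    (hb : ∀ e : Fin N →₀ ℕ, b e = e.prod (fun i k => x i k)) (u v : MM R N) :
    ψ b (μ R N u v) = ψ b u * ψ b v := by
  refine Finsupp.induction_linear u ?_ ?_ ?_
  · simp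
  · intro f g hf hg
    rw [map_add, LinearMap.add_apply, map_add, hf, hg, map_add, add_mul]
  · intro a r
    refine Finsupp.induction_linear v ?_ ?_ ?_
    · simp
    · intro f g hf hg
      rw [map_add, map_add, hf, hg, map_add, mul_add]
    · intro a' r'
      rw [μ_single, ψ_single, ψ_single, ψ_single]
      simp only [Algebra.smul_def, map_mul, map_natCast]
      rw [show algebraMap (MvPolynomial R ℤ) P r * b a * (algebraMap (MvPolynomial R ℤ) P r' * b a') =
        algebraMap (MvPolynomial R ℤ) P r * algebraMap (MvPolynomial R ℤ) P r' * (b a * b a') by ring,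
        b_mul x b hx0 hxmul hb]
      ring

lemma π_eq_zero_of_ψ_eq_zero {u : MM R N} (h : ψ b u = 0) (e : Fin N →₀ ℕ) :
    πhom R (u e) = 0 := by
  have h1 : ∑ e ∈ u.support, (πhom R (u e)) • b e = 0 := by
    rw [← h, ψ_apply]
    exact Finset.sum_congr rfl (fun e _ => (smul_P _ _).symm)
  by_cases he : u e = 0
  · rw [he, map_zero]
  · exact linearIndependent_iff'.1 b.linearIndependent u.support (fun e => πhom R (u e)) h1 e
      (Finsupp.mem_support_iff.2 he)

variable (hx0 : ∀ i, x i 0 = 1)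
  (hxmul : ∀ i n m, x i n * x i m = ((n + m).choose n : P) * x i (n + m))
  (hb : ∀ e : Fin N →₀ ℕ, b e = e.prod (fun i k => x i k))

noncomputable def φ : Psub R N →+* P where
  toFun y := ψ b (pre R N y)
  map_one' := by
    rw [pre_one, ψ_single, one_smul, b_zero x b hb]
  map_mul' y z := by
    rw [pre_mul, ψ_mul x b hx0 hxmul hb]
  map_zero' := by
    rw [pre_zero, map_zero]
  map_add' y z := by
    rw [pre_add, map_add]

lemma φ_apply (y : Psub R N) : φ x b hx0 hxmul hb y = ψ b (pre R N y) := rfl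

lemma φ_el (u : MM R N) : φ x b hx0 hxmul hb (el R N u) = ψ b u := by
  rw [φ_apply, pre_el]

lemma φ_el_single (i : Fin N) (m : ℕ) :
    φ x b hx0 hxmul hb (el R N (Finsupp.single (Finsupp.single i m) 1)) = x i m := by
  rw [φ_el, ψ_single, one_smul, hb, Finsupp.prod_single_index (hx0 i)]

lemma φ_surj : Function.Surjective (φ x b hx0 hxmul hb) := by
  intro p
  have hp : p ∈ Submodule.span R (Set.range b) := b.mem_span p
  induction hp using Submodule.span_induction with
  | mem p h =>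
    obtain ⟨e, rfl⟩ := h
    exact ⟨el R N (Finsupp.single e 1), by rw [φ_el, ψ_single, one_smul]⟩
  | zero => exact ⟨0, map_zero _⟩
  | add p q _ _ hp hq =>
    obtain ⟨y, rfl⟩ := hp
    obtain ⟨z, rfl⟩ := hq
    exact ⟨y + z, map_add _ _ _⟩
  | smul r p _ hp =>
    obtain ⟨y, rfl⟩ := hp
    refine ⟨el R N (Finsupp.single 0 (X r)) * y, ?_⟩
    rw [map_mul, φ_el, ψ_single, b_zero x b hb, smul_P, πhom_X, smul_mul_assoc, one_mul]

lemma el_single_mem_IP {e : Fin N →₀ ℕ} (he : e ≠ 0) :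
    el R N (Finsupp.single e 1) ∈ IP R N := by
  rw [mem_IP, el_val, θ_single, one_smul]
  exact dE_mem R N he

lemma el_single_eq (e : Fin N →₀ ℕ) (a : MvPolynomial R ℤ) :
    el R N (Finsupp.single e a) = el R N (Finsupp.single 0 a) * el R N (Finsupp.single e 1) := by
  apply Subtype.ext
  rw [Subring.coe_mul, el_val, el_val, el_val, θ_single, θ_single, θ_single, dE_zero, one_smul,
    smul_mul_assoc, one_mul]

lemma IP_map_φ :
    Ideal.span {y : P | ∃ (i : Fin N) (n : ℕ), 1 ≤ n ∧ y = x i n} =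
      (IP R N).map (φ x b hx0 hxmul hb) := by
  apply le_antisymm
  · rw [Ideal.span_le]
    rintro _ ⟨i, n, hn, rfl⟩
    have hne : Finsupp.single i n ≠ 0 :=
      Finsupp.single_ne_zero.2 (Nat.one_le_iff_ne_zero.1 hn)
    have h1 := el_single_mem_IP (R := R) hne
    have h2 : φ x b hx0 hxmul hb (el R N (Finsupp.single (Finsupp.single i n) 1)) = x i n := by
      rw [φ_el, ψ_single, one_smul, hb, Finsupp.prod_single_index (hx0 i)]
    rw [← h2]
    exact Ideal.mem_map_of_mem _ h1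
  · rw [Ideal.map_le_iff_le_comap]
    intro y hy
    rw [Ideal.mem_comap, φ_apply, ψ_apply]
    have hu0 : pre R N y 0 = 0 := u_zero_of_mem R N (by rw [θ_pre]; exact hy)
    refine Ideal.sum_mem _ (fun e he => ?_)
    have he0 : e ≠ 0 := by
      rintro rfl
      exact (Finsupp.mem_support_iff.1 he) hu0
    rw [Algebra.smul_def]
    exact Ideal.mul_mem_left _ _ (b_mem_span x b hx0 hb he0)

lemma key {y : Psub R N} (hy : y ∈ IP R N) (hφ : φ x b hx0 hxmul hb y = 0) {n : ℕ}
    (hn : n ≠ 0) : φ x b hx0 hxmul hb ((hP R N).dpow n y) = 0 := by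
  obtain ⟨u, hu⟩ : ∃ u, u = pre R N y := ⟨_, rfl⟩
  have hψ : ψ b u = 0 := by
    rw [hu]
    exact hφ
  have hu0 : u 0 = 0 := u_zero_of_mem R N (by rw [hu, θ_pre]; exact hy)
  have hπ : ∀ e, πhom R (u e) = 0 := π_eq_zero_of_ψ_eq_zero b hψ
  have hsum : y = ∑ e ∈ u.support, el R N (Finsupp.single e (u e)) := by
    apply Subring.subtype_injective
    rw [map_sum]
    show (y : QQ R N) = ∑ e ∈ u.support, θ R N (Finsupp.single e (u e))
    rw [← map_sum, ← θ_pre, ← hu]
    congr 1
    exact (Finsupp.sum_single u).symm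
  have hind : (∑ e ∈ u.support, el R N (Finsupp.single e (u e))) ∈ IP R N ∧
      ∀ n : ℕ, n ≠ 0 → φ x b hx0 hxmul hb
        ((hP R N).dpow n (∑ e ∈ u.support, el R N (Finsupp.single e (u e)))) = 0 := by
    refine Finset.sum_induction _ (fun z => z ∈ IP R N ∧
      ∀ n : ℕ, n ≠ 0 → φ x b hx0 hxmul hb ((hP R N).dpow n z) = 0) ?_ ?_ ?_
    · rintro y z ⟨hy, hy'⟩ ⟨hz, hz'⟩
      refine ⟨Ideal.add_mem _ hy hz, fun n hn => ?_⟩
      rw [(hP R N).dpow_add hy hz, map_sum]
      refine Finset.sum_eq_zero (fun k hk => ?_)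
      rw [map_mul]
      by_cases hk1 : k.1 = 0
      · have hk2 : k.2 ≠ 0 := by
          have h4 : k.1 + k.2 = n := Finset.HasAntidiagonal.mem_antidiagonal.1 hk
          omega
        rw [hz' _ hk2, mul_zero]
      · rw [hy' _ hk1, zero_mul]
    · refine ⟨Ideal.zero_mem _, fun n hn => ?_⟩
      rw [(hP R N).dpow_eval_zero hn, map_zero]
    · intro e he
      have he0 : e ≠ 0 := by
        rintro rfl
        exact (Finsupp.mem_support_iff.1 he) hu0
      have hD := el_single_mem_IP (R := R) he0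
      rw [el_single_eq]
      refine ⟨Ideal.mul_mem_left _ _ hD, fun n hn => ?_⟩
      rw [(hP R N).dpow_mul hD, map_mul, map_pow, φ_el, ψ_single, smul_P, hπ, zero_smul,
        zero_pow hn, zero_mul]
  have h3 := hind.2 n hn
  rwa [← hsum] at h3

end Target

/-- Let R be a commutative ring and P = R⟨X_1, …, X_N⟩ the divided power polynomial algebra over R,
presented concretely as an R-algebra P with elements x i n = X_i^[n] (i < N, n ≥ 0) such that
X_i^[0] = 1, X_i^[n] · X_i^[m] = C(n+m, n) X_i^[n+m], and the monomials ∏_i X_i^[e_i] (e ranging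
over exponent vectors) form an R-basis of P. Let P_+ be the ideal generated by the X_i^[n] with n ≥
1 (the augmentation ideal). Then there is exactly one divided power structure γ on P_+ with
γ_n(X_i^[1]) = X_i^[n] for all i and all n. (The universal property that the source states alongside
is not restated here.) -/
theorem result (R : Type u) [CommRing R] (N : ℕ)
    (P : Type v) [CommRing P] [Algebra R P] (x : Fin N → ℕ → P)
    (hx0 : ∀ i, x i 0 = 1)
    (hxmul : ∀ i n m, x i n * x i m = ((n + m).choose n : P) * x i (n + m))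
    (b : Module.Basis (Fin N →₀ ℕ) R P) (hb : ∀ e : Fin N →₀ ℕ, b e = e.prod (fun i k => x i k)) :
    ∃! γ : DividedPowers (Ideal.span {y : P | ∃ (i : Fin N) (n : ℕ), 1 ≤ n ∧ y = x i n}),
      ∀ (i : Fin N) (n : ℕ), γ.dpow n (x i 1) = x i n := by
  classical
  have hsurj := φ_surj x b hx0 hxmul hb
  have hJ := IP_map_φ x b hx0 hxmul hb
  have hsub : (hP R N).IsSubDPIdeal (RingHom.ker (φ x b hx0 hxmul hb) ⊓ IP R N) := by
    refine ⟨inf_le_right, ?_⟩
    intro n hn y hy
    exact ⟨RingHom.mem_ker.2 (key x b hx0 hxmul hb hy.2 (RingHom.mem_ker.1 hy.1) hn),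
      (hP R N).dpow_mem hn hy.2⟩
  have hγ : ∀ (i : Fin N) (n : ℕ),
      (DividedPowers.Quotient.OfSurjective.dividedPowers (hP R N) hsurj hJ hsub).dpow n (x i 1) =
        x i n := by
    intro i n
    have hne : Finsupp.single i 1 ≠ 0 := Finsupp.single_ne_zero.2 one_ne_zero
    have h1 := el_single_mem_IP (R := R) hne
    rw [← φ_el_single x b hx0 hxmul hb i 1,
      DividedPowers.Quotient.OfSurjective.dpow_apply (hP R N) hsurj hJ hsub h1,
      hP_dpow_single, φ_el_single]
  generalize DividedPowers.Quotient.OfSurjective.dividedPowers (hP R N) hsurj hJ hsub = γ at hγ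
  refine ⟨γ, hγ, ?_⟩
  intro γ' hγ'
  refine DividedPowers.dpow_eq_from_gens γ γ' rfl ?_
  intro n a ha
  obtain ⟨i, m, hm, rfl⟩ := ha
  have hmem : x i 1 ∈ Ideal.span {y : P | ∃ (i : Fin N) (n : ℕ), 1 ≤ n ∧ y = x i n} :=
    Ideal.subset_span ⟨i, 1, le_refl 1, rfl⟩
  have hm0 : m ≠ 0 := Nat.one_le_iff_ne_zero.1 hm
  calc γ.dpow n (x i m) = γ.dpow n (γ.dpow m (x i 1)) := by rw [hγ i m]
    _ = ((Nat.uniformBell n m : ℕ) : P) * γ.dpow (n * m) (x i 1) := γ.dpow_comp hm0 hmem
    _ = ((Nat.uniformBell n m : ℕ) : P) * γ'.dpow (n * m) (x i 1) := by rw [hγ, hγ']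
    _ = γ'.dpow n (γ'.dpow m (x i 1)) := (γ'.dpow_comp hm0 hmem).symm
    _ = γ'.dpow n (x i m) := by rw [hγ' i m]

end Groth.Agent.S18420
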