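import Mathlib
import Groth.Statements.S19919


set_option autoImplicit false
universe u v w
open DPow

namespace Groth.Agent.S19919

/-- Let R be a commutative ring and P = R⟨X_1, …, X_N⟩ the divided power polynomial algebra over R,
presented concretely as an R-algebra P with elements x i n = X_i^[n] (i < N, n ≥ 0) such that
X_i^[0] = 1, X_i^[n] · X_i^[m] = C(n+m, n) X_i^[n+m], and the monomials ∏_i X_i^[e_i] form an
R-basis of P; let P_+ be the ideal generated by the X_i^[n] with n ≥ 1 and γ the divided power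
structure on P_+ with γ_n(X_i^[1]) = X_i^[n]. Then (P, P_+, γ) is the free divided power R-algebra
on N variables: for every commutative R-algebra S, every ideal J of S with a divided power structure
δ and every family s_1, …, s_N of elements of J there is exactly one R-algebra homomorphism φ : P →
S that is a divided power morphism from (P_+, γ) to (J, δ) and satisfies φ(X_i^[1]) = s_i for all i. -/
theorem result (R : Type u) [CommRing R] (N : ℕ)
    (P : Type v) [CommRing P] [Algebra R P] (x : Fin N → ℕ → P)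
    (hx0 : ∀ i, x i 0 = 1)
    (hxmul : ∀ i n m, x i n * x i m = ((n + m).choose n : P) * x i (n + m))
    (b : Module.Basis (Fin N →₀ ℕ) R P) (hb : ∀ e : Fin N →₀ ℕ, b e = e.prod (fun i k => x i k))
    (γ : DividedPowers (Ideal.span {y : P | ∃ (i : Fin N) (n : ℕ), 1 ≤ n ∧ y = x i n}))
    (hγ : ∀ (i : Fin N) (n : ℕ), γ.dpow n (x i 1) = x i n)
    (S : Type w) [CommRing S] [Algebra R S] (J : Ideal S) (δ : DividedPowers J)
    (s : Fin N → S) (hs : ∀ i, s i ∈ J) :
    ∃! φ : P →ₐ[R] S, γ.IsDPMorphism δ φ.toRingHom ∧ ∀ i, φ (x i 1) = s i := by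
  classical
  have hxI : ∀ i n, 1 ≤ n → x i n ∈ Ideal.span {y : P | ∃ (i : Fin N) (n : ℕ), 1 ≤ n ∧ y = x i n} :=
    fun i n hn => Ideal.subset_span ⟨i, n, hn, rfl⟩
  -- basis elements as products over all of `Fin N`
  have hbX : ∀ e : Fin N →₀ ℕ, b e = ∏ i, x i (e i) := by
    intro e
    rw [hb e, Finsupp.prod_fintype _ _ (fun i => hx0 i)]
  have hδ0 : ∀ i, δ.dpow 0 (s i) = 1 := fun i => δ.dpow_zero (hs i)
  let D : (Fin N →₀ ℕ) → S := fun e => ∏ i, δ.dpow (e i) (s i)
  let c : (Fin N →₀ ℕ) → (Fin N →₀ ℕ) → ℕ := fun e e' => ∏ i, (e i + e' i).choose (e i)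
  have hbmul : ∀ e e', b e * b e' = (c e e' : P) * b (e + e') := by
    intro e e'
    rw [hbX, hbX, hbX, ← Finset.prod_mul_distrib, Nat.cast_prod, ← Finset.prod_mul_distrib]
    exact Finset.prod_congr rfl fun i _ => by rw [hxmul]; rfl
  have hDmul : ∀ e e', D e * D e' = (c e e' : S) * D (e + e') := by
    intro e e'
    simp only [D]
    rw [← Finset.prod_mul_distrib, Nat.cast_prod, ← Finset.prod_mul_distrib]
    exact Finset.prod_congr rfl fun i _ => by rw [δ.mul_dpow (hs i)]; rfl
  let φl : P →ₗ[R] S := b.constr R D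
  have hφl : ∀ e, φl (b e) = D e := fun e => b.constr_basis R D e
  have hmul : ∀ p q : P, φl (p * q) = φl p * φl q := by
    have h2 : (LinearMap.mul R P).compr₂ φl = (LinearMap.mul R S).compl₁₂ φl φl := by
      apply b.ext
      intro e
      apply b.ext
      intro e'
      simp only [LinearMap.compr₂_apply, LinearMap.mul_apply', LinearMap.compl₁₂_apply]
      rw [hbmul, hφl, hφl, hDmul, ← nsmul_eq_mul, map_nsmul, hφl, nsmul_eq_mul]
    intro p q
    exact LinearMap.congr_fun₂ h2 p q
  have hone : φl 1 = 1 := by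
    have h1 : (1 : P) = b 0 := by rw [hbX]; simp [hx0]
    rw [h1, hφl]
    simp [D, hδ0]
  let φ : P →ₐ[R] S := AlgHom.ofLinearMap φl hone hmul
  have hφx : ∀ i n, φ (x i n) = δ.dpow n (s i) := by
    intro i n
    have h1 : x i n = b (Finsupp.single i n) := by
      rw [hb, Finsupp.prod_single_index (hx0 i)]
    show φl (x i n) = _
    rw [h1, hφl]
    simp only [D]
    rw [Finset.prod_eq_single i]
    · simp
    · intro j _ hji
      rw [Finsupp.single_eq_of_ne hji, hδ0]
    · intro h; exact absurd (Finset.mem_univ i) h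
  refine ⟨φ, ⟨?_, fun i => ?_⟩, ?_⟩
  · apply DividedPowers.IsDPMorphism.on_span γ δ rfl
    · rintro y ⟨i, n, hn, rfl⟩
      show φ (x i n) ∈ J
      rw [hφx]
      exact δ.dpow_mem (by omega) (hs i)
    · rintro k y ⟨i, n, hn, rfl⟩
      show φ (γ.dpow k (x i n)) = δ.dpow k (φ (x i n))
      rw [hφx, ← hγ i n, γ.dpow_comp (by omega) (hxI i 1 le_rfl), hγ,
        δ.dpow_comp (by omega) (hs i), map_mul, map_natCast, hφx]
  · rw [hφx]; exact δ.dpow_one (hs i)
  · rintro ψ ⟨hψ, hψx⟩
    have hψxn : ∀ i n, ψ (x i n) = δ.dpow n (s i) := by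
      intro i n
      have := hψ.dpow_comp (n := n) (x i 1) (hxI i 1 le_rfl)
      rw [hγ] at this
      show ψ.toRingHom (x i n) = _
      rw [← this]
      show δ.dpow n (ψ (x i 1)) = _
      rw [hψx]
    apply AlgHom.toLinearMap_injective
    apply b.ext
    intro e
    show ψ (b e) = φl (b e)
    rw [hφl, hbX, map_prod]
    exact Finset.prod_congr rfl fun i _ => hψxn i (e i)

end Groth.Agent.S19919
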