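import Groth.Statements.S15779
import Mathlib
import Groth.Agent.S0497

set_option autoImplicit false
universe u
open Polynomial
open CAlg

namespace Groth.Agent.S15779

section Rev
variable {R : Type u} [CommRing R]

/-- reversal of a polynomial with respect to the degree bound `N` -/
noncomputable def rev (N : ℕ) (p : R[X]) : R[X] :=
  ∑ i ∈ Finset.range (N + 1), monomial (N - i) (p.coeff i)

theorem coeff_rev_top (N : ℕ) (p : R[X]) : (rev N p).coeff N = p.coeff 0 := by
  unfold rev
  rw [finset_sum_coeff, Finset.sum_eq_single 0]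
  · rw [coeff_monomial, Nat.sub_zero, if_pos rfl]
  · intro i hi hi0
    rw [coeff_monomial, if_neg]
    rw [Finset.mem_range] at hi
    omega
  · intro h
    exact absurd (Finset.mem_range.2 (Nat.succ_pos N)) h

theorem coeff_rev_zero (N : ℕ) (p : R[X]) : (rev N p).coeff 0 = p.coeff N := by
  unfold rev
  rw [finset_sum_coeff, Finset.sum_eq_single N]
  · rw [coeff_monomial, Nat.sub_self, if_pos rfl]
  · intro i hi hiN
    rw [coeff_monomial, if_neg]
    rw [Finset.mem_range] at hi
    omega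
  · intro h
    exact absurd (Finset.mem_range.2 (Nat.lt_succ_self N)) h

theorem natDegree_rev_le (N : ℕ) (p : R[X]) : (rev N p).natDegree ≤ N := by
  unfold rev
  apply natDegree_sum_le_of_forall_le
  intro i _
  exact (natDegree_monomial_le _).trans (Nat.sub_le N i)

theorem monic_rev (N : ℕ) (p : R[X]) (hp : p.coeff 0 = 1) : (rev N p).Monic :=
  monic_of_natDegree_le_of_coeff_eq_one N (natDegree_rev_le N p) ((coeff_rev_top N p).trans hp)

theorem map_rev {S : Type*} [CommRing S] (f g : R[X] →+* S) (hC : ∀ r, f (C r) = g (C r))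
    (hX : f X * g X = 1) (N : ℕ) (p : R[X]) (hp : p.natDegree ≤ N) :
    f (rev N p) = (f X) ^ N * g p := by
  have hp' : p = ∑ i ∈ Finset.range (N + 1), monomial i (p.coeff i) :=
    as_sum_range' p (N + 1) (Nat.lt_succ_of_le hp)
  conv_rhs => rw [hp']
  unfold rev
  rw [map_sum, map_sum, Finset.mul_sum]
  refine Finset.sum_congr rfl fun i hi => ?_
  rw [Finset.mem_range] at hi
  rw [← C_mul_X_pow_eq_monomial, ← C_mul_X_pow_eq_monomial, map_mul, map_mul, map_pow, map_pow, hC]
  have h1 : f X ^ N = f X ^ (N - i) * f X ^ i := by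
    rw [← pow_add]; congr 1; omega
  rw [h1]
  have h2 : f X ^ i * g X ^ i = 1 := by rw [← mul_pow, hX, one_pow]
  linear_combination (-(g (C (p.coeff i)) * f X ^ (N - i))) * h2

theorem closure_form (s : R[X])
    (hs : s ∈ Submonoid.closure ({f : R[X] | f.coeff 0 = 1} ∪ {X})) :
    ∃ (k : ℕ) (h : R[X]), h.coeff 0 = 1 ∧ s = X ^ k * h := by
  induction hs using Submonoid.closure_induction with
  | mem x hx =>
    rcases hx with hx | hx
    · exact ⟨0, x, hx, by rw [pow_zero, one_mul]⟩
    · rw [Set.mem_singleton_iff] at hx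
      subst hx
      exact ⟨1, 1, by simp, by rw [pow_one, mul_one]⟩
  | one => exact ⟨0, 1, by simp, by rw [pow_zero, one_mul]⟩
  | mul x y _ _ hx hy =>
    obtain ⟨k₁, h₁, hh₁, rfl⟩ := hx
    obtain ⟨k₂, h₂, hh₂, rfl⟩ := hy
    exact ⟨k₁ + k₂, h₁ * h₂, by rw [mul_coeff_zero, hh₁, hh₂, mul_one], by rw [pow_add]; ring⟩

end Rev

/-- Nakayama: a monic polynomial is a unit modulo an ideal comaximal with `𝔪 R[X]`. -/
theorem monic_unit_mod (R : Type u) [CommRing R] [IsLocalRing R] (I : Ideal R[X])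
    (hI : I ⊔ (IsLocalRing.maximalIdeal R).map (C : R →+* R[X]) = ⊤) (g : R[X]) (hg : g.Monic) :
    ∃ h : R[X], g * h - 1 ∈ I := by
  obtain ⟨K, hK⟩ : ∃ K : Ideal R[X], K = I ⊔ Ideal.span {g} := ⟨_, rfl⟩
  have hle : Ideal.span {g} ≤ K := hK ▸ le_sup_right
  have hIK : I ≤ K := hK ▸ le_sup_left
  haveI h0 : Module.Finite R (R[X] ⧸ Ideal.span {g}) := hg.finite_adjoinRoot
  haveI : Module.Finite R (R[X] ⧸ K) :=
    Module.Finite.of_surjective (Ideal.Quotient.factorₐ R hle).toLinearMap
      (Ideal.Quotient.factor_surjective hle)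
  have htop : (IsLocalRing.maximalIdeal R).map (algebraMap R (R[X] ⧸ K)) = ⊤ := by
    have h1 : (I ⊔ (IsLocalRing.maximalIdeal R).map (C : R →+* R[X])).map
        (Ideal.Quotient.mk K) = ⊤ := by
      rw [hI, Ideal.map_top]
    rw [Ideal.map_sup, Ideal.map_map] at h1
    have h2 : I.map (Ideal.Quotient.mk K) = ⊥ := by
      rw [Ideal.map_eq_bot_iff_le_ker, Ideal.mk_ker]
      exact hIK
    rw [h2, bot_sup_eq] at h1
    exact h1
  have hN : (⊤ : Submodule R (R[X] ⧸ K)) = ⊥ := by
    apply Submodule.eq_bot_of_le_smul_of_le_jacobson_bot (IsLocalRing.maximalIdeal R) ⊤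
      Module.Finite.fg_top
    · rw [Ideal.smul_top_eq_map, htop, Submodule.restrictScalars_top]
    · rw [IsLocalRing.jacobson_eq_maximalIdeal ⊥ bot_ne_top]
  have h1 : (1 : R[X] ⧸ K) = 0 := by
    have h2 : (1 : R[X] ⧸ K) ∈ (⊤ : Submodule R (R[X] ⧸ K)) := trivial
    rw [hN] at h2
    exact h2
  have h2 : (1 : R[X]) ∈ K := by
    rw [← Ideal.Quotient.eq_zero_iff_mem, map_one]
    exact h1
  rw [hK] at h2
  obtain ⟨i, hi, z, hz, hiz⟩ := Submodule.mem_sup.1 h2
  obtain ⟨c, rfl⟩ := Ideal.mem_span_singleton'.1 hz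
  refine ⟨c, ?_⟩
  have h3 : g * c - 1 = -i := by linear_combination hiz
  rw [h3]
  exact I.neg_mem hi

theorem main (R : Type u) [CommRing R] [HenselianLocalRing R] (L : Type u) [CommRing L]
    [Algebra R[X] L]
    [IsLocalization (Submonoid.closure ({f : R[X] | f.coeff 0 = 1} ∪ {X})) L]
    (ψr : R[X] →+* L) (hC : ∀ r, ψr (C r) = algebraMap R[X] L (C r))
    (hX : ψr X * algebraMap R[X] L X = 1) :
    (∀ I : Ideal R[X], I ⊔ (IsLocalRing.maximalIdeal R).map (C : R →+* R[X]) = ⊤ →
        (I.map ψr).comap ψr = I ∧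
        I.map ψr ⊔ (IsLocalRing.maximalIdeal R).map (ψr.comp C) = ⊤ ∧
        Function.Bijective (Ideal.quotientMap (I.map ψr) ψr Ideal.le_comap_map)) ∧
    (∀ J : Ideal L, J ⊔ (IsLocalRing.maximalIdeal R).map (ψr.comp C) = ⊤ →
        (J.comap ψr).map ψr = J ∧
        J.comap ψr ⊔ (IsLocalRing.maximalIdeal R).map (C : R →+* R[X]) = ⊤) := by
  obtain ⟨α, hα⟩ : ∃ α : R[X] →+* L, α = algebraMap R[X] L := ⟨_, rfl⟩
  rw [← hα] at hC hX
  have hX' : α X * ψr X = 1 := by rw [mul_comm]; exact hX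
  have hC' : ∀ r, α (C r) = ψr (C r) := fun r => (hC r).symm
  have hαunit : ∀ h : R[X], h.coeff 0 = 1 → IsUnit (α h) := fun h hh => by
    rw [hα]
    exact IsLocalization.map_units L
      (⟨h, Submonoid.subset_closure (Or.inl hh)⟩ :
        Submonoid.closure ({f : R[X] | f.coeff 0 = 1} ∪ {X}))
  have hτunit : IsUnit (α X) := IsUnit.of_mul_eq_one _ hX'
  -- (B) monic polynomials become units
  have hunit : ∀ g : R[X], g.Monic → IsUnit (ψr g) := by
    intro g hg
    have h1 := map_rev α ψr hC' hX' g.natDegree g le_rfl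
    have h2 : IsUnit (α (rev g.natDegree g)) :=
      hαunit _ ((coeff_rev_zero _ g).trans hg.coeff_natDegree)
    rw [h1] at h2
    exact isUnit_of_mul_isUnit_right h2
  -- (C) fractions with monic denominators
  have hsurj : ∀ x : L, ∃ p g : R[X], g.Monic ∧ x * ψr g = ψr p := by
    intro x
    obtain ⟨a, s, rfl⟩ := IsLocalization.exists_mk'_eq
      (Submonoid.closure ({f : R[X] | f.coeff 0 = 1} ∪ {X})) x
    have hspec : IsLocalization.mk' L a s * α s = α a := by
      rw [hα]; exact IsLocalization.mk'_spec L a s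
    obtain ⟨k, h, hh, hs⟩ := closure_form (s : R[X]) s.2
    have e1 : ψr (rev (a.natDegree + k + h.natDegree) a) =
        ψr X ^ (a.natDegree + k + h.natDegree) * α a :=
      map_rev ψr α hC hX _ a (by omega)
    have e2 : ψr (rev h.natDegree h) = ψr X ^ h.natDegree * α h :=
      map_rev ψr α hC hX _ h le_rfl
    have e3 : α s = α X ^ k * α h := by rw [hs, map_mul, map_pow]
    have e4 : ψr X ^ k * α X ^ k = 1 := by rw [← mul_pow, hX, one_pow]
    refine ⟨rev (a.natDegree + k + h.natDegree) a, X ^ a.natDegree * rev h.natDegree h,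
      (monic_X_pow _).mul (monic_rev _ h hh), ?_⟩
    rw [map_mul, map_pow, e2, e1, ← hspec, e3]
    have e5 : ψr X ^ (a.natDegree + k + h.natDegree) =
        ψr X ^ a.natDegree * ψr X ^ k * ψr X ^ h.natDegree := by
      rw [← pow_add, ← pow_add]
    rw [e5]
    linear_combination
      (-(IsLocalization.mk' L a s * ψr X ^ a.natDegree * ψr X ^ h.natDegree * α h)) * e4
  refine ⟨?_, ?_⟩
  · -- Part 1
    intro I hI
    obtain ⟨hXi, hhXi⟩ := monic_unit_mod R I hI X monic_X
    obtain ⟨π, hπ⟩ : ∃ π : R[X] →+* (R[X] ⧸ I), π = Ideal.Quotient.mk I := ⟨_, rfl⟩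
    have hπmem : ∀ p, p ∈ I → π p = 0 := fun p hp => by
      rw [hπ]; exact Ideal.Quotient.eq_zero_iff_mem.2 hp
    have hπinv : ∀ g h : R[X], g * h - 1 ∈ I → π g * π h = 1 := fun g h hgh => by
      have := hπmem _ hgh
      rw [map_sub, map_mul, map_one] at this
      exact sub_eq_zero.mp this
    have hπX : π X * π hXi = 1 := hπinv _ _ hhXi
    obtain ⟨f, hf⟩ : ∃ f : R[X] →+* (R[X] ⧸ I), f = eval₂RingHom (π.comp C) (π hXi) := ⟨_, rfl⟩
    have hfC : ∀ r, f (C r) = π (C r) := fun r => by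
      rw [hf, coe_eval₂RingHom, eval₂_C, RingHom.comp_apply]
    have hfX : f X = π hXi := by rw [hf, coe_eval₂RingHom, eval₂_X]
    have hunitπ : ∀ g : R[X], g.Monic → IsUnit (π g) := fun g hg => by
      obtain ⟨h, hh⟩ := monic_unit_mod R I hI g hg
      exact IsUnit.of_mul_eq_one _ (hπinv _ _ hh)
    have hfunits : ∀ s : Submonoid.closure ({f : R[X] | f.coeff 0 = 1} ∪ {X}),
        IsUnit (f s) := by
      rintro ⟨s, hs⟩
      obtain ⟨k, h, hh, rfl⟩ := closure_form s hs
      show IsUnit (f (X ^ k * h))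
      rw [map_mul, map_pow, hfX]
      refine IsUnit.mul (IsUnit.pow _ (IsUnit.of_mul_eq_one _ (by rw [mul_comm]; exact hπX))) ?_
      have h1 := map_rev π f (fun r => (hfC r).symm) (by rw [hfX]; exact hπX) h.natDegree h le_rfl
      have hu := hunitπ _ (monic_rev h.natDegree h hh)
      rw [h1] at hu
      exact isUnit_of_mul_isUnit_right hu
    obtain ⟨lam, hlam⟩ : ∃ lam : L →+* (R[X] ⧸ I), ∀ p, lam (α p) = f p := by
      refine ⟨IsLocalization.lift (M := Submonoid.closure ({f : R[X] | f.coeff 0 = 1} ∪ {X}))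
        (g := f) hfunits, fun p => ?_⟩
      rw [hα]
      exact IsLocalization.lift_eq _ p
    have hcomp : lam.comp ψr = π := by
      apply Polynomial.ringHom_ext
      · intro r
        rw [RingHom.comp_apply, hC r, hlam, hfC]
      · rw [RingHom.comp_apply]
        have h1 : lam (ψr X) * π hXi = 1 := by
          rw [← hfX, ← hlam, ← map_mul, hX, map_one]
        calc lam (ψr X) = lam (ψr X) * (π X * π hXi) := by rw [hπX, mul_one]
          _ = (lam (ψr X) * π hXi) * π X := by ring
          _ = π X := by rw [h1, one_mul]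
    have h1a : (I.map ψr).comap ψr = I := by
      refine le_antisymm (fun p hp => ?_) Ideal.le_comap_map
      have h1 : lam (ψr p) ∈ (I.map ψr).map lam := Ideal.mem_map_of_mem _ hp
      rw [Ideal.map_map, hcomp] at h1
      have h2 : I.map π = ⊥ := by rw [hπ]; exact Ideal.map_quotient_self I
      rw [h2, Ideal.mem_bot, ← RingHom.comp_apply, hcomp, hπ] at h1
      exact Ideal.Quotient.eq_zero_iff_mem.1 h1
    refine ⟨h1a, ?_, ?_, ?_⟩
    · have h2 := congrArg (Ideal.map ψr) hI
      rw [Ideal.map_sup, Ideal.map_map, Ideal.map_top] at h2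
      exact h2
    · exact Ideal.quotientMap_injective' h1a.le
    · intro y
      obtain ⟨x, rfl⟩ := Ideal.Quotient.mk_surjective y
      obtain ⟨p, g, hg, hx⟩ := hsurj x
      obtain ⟨h, hh⟩ := monic_unit_mod R I hI g hg
      refine ⟨Ideal.Quotient.mk I (p * h), ?_⟩
      rw [Ideal.quotientMap_mk, Ideal.Quotient.eq]
      have h3 : ψr (p * h) - x = x * ψr (g * h - 1) := by
        rw [map_mul, ← hx, map_sub, map_mul, map_one]; ring
      rw [h3]
      exact Ideal.mul_mem_left _ _ (Ideal.mem_map_of_mem _ hh)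
  · -- Part 2
    intro J hJ
    have h2a : (J.comap ψr).map ψr = J := by
      refine le_antisymm Ideal.map_comap_le (fun x hx => ?_)
      obtain ⟨p, g, hg, hxg⟩ := hsurj x
      have hp : p ∈ J.comap ψr := by
        rw [Ideal.mem_comap, ← hxg]
        exact Ideal.mul_mem_right _ _ hx
      obtain ⟨u, hu⟩ := hunit g hg
      have h1 : x = ψr p * ↑u⁻¹ := by
        rw [← hxg, ← hu, mul_assoc, Units.mul_inv, mul_one]
      rw [h1]
      exact Ideal.mul_mem_right _ _ (Ideal.mem_map_of_mem ψr hp)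
    refine ⟨h2a, ?_⟩
    -- fractions of elements of an extended ideal
    have H1 : ∀ (𝔞 : Ideal R[X]) (x : L), x ∈ 𝔞.map ψr →
        ∃ g a : R[X], g.Monic ∧ a ∈ 𝔞 ∧ x * ψr g = ψr a := by
      intro 𝔞 x hx
      unfold Ideal.map at hx
      induction hx using Submodule.span_induction with
      | mem y hy =>
        obtain ⟨a, ha, rfl⟩ := hy
        exact ⟨1, a, monic_one, ha, by rw [map_one, mul_one]⟩
      | zero => exact ⟨1, 0, monic_one, 𝔞.zero_mem, by rw [map_zero, zero_mul]⟩
      | add y z _ _ hy hz =>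
        obtain ⟨g₁, a₁, hg₁, ha₁, e₁⟩ := hy
        obtain ⟨g₂, a₂, hg₂, ha₂, e₂⟩ := hz
        refine ⟨g₁ * g₂, a₁ * g₂ + a₂ * g₁, hg₁.mul hg₂,
          𝔞.add_mem (𝔞.mul_mem_right _ ha₁) (𝔞.mul_mem_right _ ha₂), ?_⟩
        simp only [map_mul, map_add]
        linear_combination (ψr g₂) * e₁ + (ψr g₁) * e₂
      | smul l y _ hy =>
        obtain ⟨g, a, hg, ha, e⟩ := hy
        obtain ⟨p', g', hg', e'⟩ := hsurj l
        refine ⟨g' * g, p' * a, hg'.mul hg, 𝔞.mul_mem_left _ ha, ?_⟩
        rw [smul_eq_mul]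
        simp only [map_mul]
        linear_combination (l * ψr g') * e + (ψr a) * e'
    have h1 : (1 : L) ∈ J ⊔ (IsLocalRing.maximalIdeal R).map (ψr.comp C) := by
      rw [hJ]; trivial
    obtain ⟨j, hj, ν, hν, hjν⟩ := Submodule.mem_sup.1 h1
    rw [← Ideal.map_map] at hν
    obtain ⟨g, μ, hg, hμ, hνg⟩ := H1 _ ν hν
    have hq : g - μ ∈ J.comap ψr := by
      rw [Ideal.mem_comap, map_sub, ← hνg]
      have h2 : ψr g - ν * ψr g = j * ψr g := by
        have : j = 1 - ν := by linear_combination hjν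
        rw [this]; ring
      rw [h2]
      exact Ideal.mul_mem_right _ _ hj
    have hμ0 : Polynomial.map (IsLocalRing.residue R) μ = 0 := by
      ext n
      rw [coeff_map, coeff_zero, IsLocalRing.residue_eq_zero_iff]
      exact Ideal.mem_map_C_iff.1 hμ n
    obtain ⟨P, v, hPv, hP, -, hv⟩ := Groth.Agent.S0497.result R (g - μ)
      (Polynomial.map (IsLocalRing.residue R) g) 1 (hg.map _) isCoprime_one_right
      (by rw [Polynomial.map_sub, hμ0, sub_zero, mul_one])
    have hvJ : v ∈ J.comap ψr := by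
      rw [Ideal.mem_comap]
      obtain ⟨u, hu⟩ := hunit P hP
      have h2 : ψr v = ↑u⁻¹ * ψr (g - μ) := by
        rw [hPv, map_mul, ← hu, ← mul_assoc, Units.inv_mul, one_mul]
      rw [h2]
      exact Ideal.mul_mem_left _ _ hq
    have hv1 : v - 1 ∈ (IsLocalRing.maximalIdeal R).map (C : R →+* R[X]) := by
      rw [Ideal.mem_map_C_iff]
      intro n
      rw [← IsLocalRing.residue_eq_zero_iff, ← coeff_map, Polynomial.map_sub, hv,
        Polynomial.map_one, sub_self, coeff_zero]
    rw [Ideal.eq_top_iff_one]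
    exact Submodule.mem_sup.2 ⟨v, hvJ, -(v - 1), neg_mem hv1, by ring⟩

/-- For a Henselian local ring (R, m), L the localisation of R[t] at the monoid generated by t and the
polynomials with constant term 1, and ψ : R[s] → L the R-algebra map with s ↦ t⁻¹, extension and
contraction along ψ are mutually inverse bijections between the ideals of R[s] comaximal with mR[s]
and the ideals of L comaximal with mL, and R[s]/I → L/IL is bijective for every such I. -/
theorem result (R : Type u) [CommRing R]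
    [HenselianLocalRing R] (L : Type u) [CommRing L] [Algebra R[X] L]
    [IsLocalization (Submonoid.closure ({f : R[X] | f.coeff 0 = 1} ∪ {X})) L]
    [Algebra R L] [IsScalarTower R R[X] L]
    (ψ : R[X] →ₐ[R] L) (hψ : ψ X * algebraMap R[X] L X = 1) :
    (∀ I : Ideal R[X], I ⊔ (IsLocalRing.maximalIdeal R).map (algebraMap R R[X]) = ⊤ →
        (I.map ψ.toRingHom).comap ψ.toRingHom = I ∧
        I.map ψ.toRingHom ⊔ (IsLocalRing.maximalIdeal R).map (algebraMap R L) = ⊤ ∧
        Function.Bijective (Ideal.quotientMap (I.map ψ.toRingHom) ψ.toRingHom Ideal.le_comap_map)) ∧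
    (∀ J : Ideal L, J ⊔ (IsLocalRing.maximalIdeal R).map (algebraMap R L) = ⊤ →
        (J.comap ψ.toRingHom).map ψ.toRingHom = J ∧
        J.comap ψ.toRingHom ⊔ (IsLocalRing.maximalIdeal R).map (algebraMap R R[X]) = ⊤) := by
  have h1 : algebraMap R L = ψ.toRingHom.comp C := by
    refine RingHom.ext fun r => ?_
    rw [RingHom.comp_apply]
    exact (ψ.commutes r).symm
  rw [h1, Polynomial.algebraMap_eq]
  refine main R L ψ.toRingHom (fun r => ?_) hψ
  show ψ (algebraMap R R[X] r) = algebraMap R[X] L (algebraMap R R[X] r)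
  rw [ψ.commutes, ← IsScalarTower.algebraMap_apply]

end Groth.Agent.S15779
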