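import Groth.Statements.S5071
import Groth.Agent.S5802
import Groth.Agent.Lib.Helper3.FlatSES

set_option autoImplicit false
universe u
open CInt

namespace Groth.Agent.S5071


section gen

variable (A : Type u) {B : Type u} [CommRing A] [CommRing B] [Algebra A B]

attribute [local instance] RestrictScalars.moduleOrig

theorem flatA_of_equiv {M N : Type u} [AddCommGroup M] [Module B M] [AddCommGroup N] [Module B N]
    (e : M ≃ₗ[B] N) (h : Module.Flat A (RestrictScalars A B N)) :
    Module.Flat A (RestrictScalars A B M) := by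
  let e' : RestrictScalars A B M ≃ₗ[B] RestrictScalars A B N := e
  exact Module.Flat.of_linearEquiv (e'.restrictScalars A)

theorem flatA_of_tower (N : Type u) [AddCommGroup N] [Module A N] [Module B N]
    [IsScalarTower A B N] [Module.Flat A N] : Module.Flat A (RestrictScalars A B N) := by
  let e : RestrictScalars A B N ≃ₗ[A] N :=
    { RestrictScalars.addEquiv A B N with
      map_smul' := fun a x => by
        show (RestrictScalars.addEquiv A B N) (a • x) = a • (RestrictScalars.addEquiv A B N) x
        rw [RestrictScalars.addEquiv_map_smul]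
        exact algebraMap_smul B a _ }
  exact Module.Flat.of_linearEquiv e

theorem flatA_ext {M' M M'' : Type u} [AddCommGroup M'] [Module B M'] [AddCommGroup M]
    [Module B M] [AddCommGroup M''] [Module B M''] (f : M' →ₗ[B] M) (g : M →ₗ[B] M'')
    (hf : Function.Injective f) (hfg : Function.Exact f g) (hg : Function.Surjective g)
    (h' : Module.Flat A (RestrictScalars A B M')) (h'' : Module.Flat A (RestrictScalars A B M'')) :
    Module.Flat A (RestrictScalars A B M) := by
  letI : Module A M' := Module.compHom M' (algebraMap A B)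
  letI : Module A M := Module.compHom M (algebraMap A B)
  letI : Module A M'' := Module.compHom M'' (algebraMap A B)
  haveI : IsScalarTower A B M' := IsScalarTower.of_algebraMap_smul (fun _ _ => rfl)
  haveI : IsScalarTower A B M := IsScalarTower.of_algebraMap_smul (fun _ _ => rfl)
  haveI : IsScalarTower A B M'' := IsScalarTower.of_algebraMap_smul (fun _ _ => rfl)
  haveI : Module.Flat A M' := h'
  haveI : Module.Flat A M'' := h''
  have key : Module.Flat A M :=
    Groth.Agent.Lib.Helper3.flat_of_exact (f.restrictScalars A) (g.restrictScalars A) hf hfg hg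
  exact key

theorem flatA_left {M' M M'' : Type u} [AddCommGroup M'] [Module B M'] [AddCommGroup M]
    [Module B M] [AddCommGroup M''] [Module B M''] (f : M' →ₗ[B] M) (g : M →ₗ[B] M'')
    (hf : Function.Injective f) (hfg : Function.Exact f g) (hg : Function.Surjective g)
    (h : Module.Flat A (RestrictScalars A B M)) (h'' : Module.Flat A (RestrictScalars A B M'')) :
    Module.Flat A (RestrictScalars A B M') := by
  letI : Module A M' := Module.compHom M' (algebraMap A B)
  letI : Module A M := Module.compHom M (algebraMap A B)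
  letI : Module A M'' := Module.compHom M'' (algebraMap A B)
  haveI : IsScalarTower A B M' := IsScalarTower.of_algebraMap_smul (fun _ _ => rfl)
  haveI : IsScalarTower A B M := IsScalarTower.of_algebraMap_smul (fun _ _ => rfl)
  haveI : IsScalarTower A B M'' := IsScalarTower.of_algebraMap_smul (fun _ _ => rfl)
  haveI : Module.Flat A M := h
  haveI : Module.Flat A M'' := h''
  have key : Module.Flat A M' :=
    Groth.Agent.Lib.Helper3.flat_of_exact_left (f.restrictScalars A) (g.restrictScalars A)
      hf hfg hg
  exact key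

open TensorProduct in
theorem flat_of_isLocalizedModule' {M M' : Type u} [AddCommGroup M] [AddCommGroup M']
    [Module A M] [Module B M] [IsScalarTower A B M] [Module A M'] [Module B M']
    [IsScalarTower A B M'] (S : Submonoid B) (g : M →ₗ[B] M') [IsLocalizedModule S g]
    [Module.Flat A M] : Module.Flat A M' := by
  rw [Module.Flat.iff_lTensor_preserves_injective_linearMap]
  intro N P _ _ _ _ f hf
  have h1 := IsLocalizedModule.map_lTensor (R := A) B S f g
  rw [← TensorProduct.AlgebraTensorModule.coe_lTensor (A := B), ← h1]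
  exact IsLocalizedModule.map_injective S _ _ _
    (Module.Flat.lTensor_preserves_injective_linearMap (M := M) f hf)

theorem loc_flat {M : Type u} [AddCommGroup M] [Module B M] (S : Submonoid B)
    (h : Module.Flat A (RestrictScalars A B M)) :
    Module.Flat A (RestrictScalars A B (LocalizedModule S M)) := by
  letI : Module A M := Module.compHom M (algebraMap A B)
  haveI : IsScalarTower A B M := IsScalarTower.of_algebraMap_smul (fun _ _ => rfl)
  haveI : Module.Flat A M := h
  haveI : Module.Flat A (LocalizedModule S M) :=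
    flat_of_isLocalizedModule' A S (LocalizedModule.mkLinearMap S M)
  exact flatA_of_tower A (LocalizedModule S M)

end gen

section ses

variable {B : Type u} [CommRing B] (I I' : Ideal B)

noncomputable def iota : (↥I ⧸ Submodule.comap I.subtype I') →ₗ[B] (B ⧸ I') :=
  Submodule.liftQ _ (Submodule.mkQ I' ∘ₗ I.subtype) (by
    intro x hx
    rw [LinearMap.mem_ker, LinearMap.comp_apply, Submodule.mkQ_apply,
      Submodule.Quotient.mk_eq_zero]
    exact hx)

theorem iota_injective : Function.Injective (iota I I') := by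
  rw [← LinearMap.ker_eq_bot, LinearMap.ker_eq_bot']
  intro x hx
  induction x using Submodule.Quotient.induction_on with
  | H x =>
    rw [Submodule.Quotient.mk_eq_zero, Submodule.mem_comap]
    have : Submodule.Quotient.mk (x : B) = (0 : B ⧸ I') := hx
    exact (Submodule.Quotient.mk_eq_zero I').1 this

noncomputable def pi (h : I' ≤ I) : (B ⧸ I') →ₗ[B] (B ⧸ I) :=
  Submodule.liftQ I' (Submodule.mkQ I) (by rw [Submodule.ker_mkQ]; exact h)

theorem pi_surjective (h : I' ≤ I) : Function.Surjective (pi I I' h) := by
  intro y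
  obtain ⟨b, rfl⟩ := Submodule.mkQ_surjective I y
  exact ⟨Submodule.mkQ I' b, rfl⟩

theorem iota_pi_exact (h : I' ≤ I) : Function.Exact (iota I I') (pi I I' h) := by
  intro y
  constructor
  · intro hy
    obtain ⟨b, rfl⟩ := Submodule.mkQ_surjective I' y
    have hb : b ∈ I := (Submodule.Quotient.mk_eq_zero I).1 hy
    exact ⟨Submodule.Quotient.mk ⟨b, hb⟩, rfl⟩
  · rintro ⟨z, rfl⟩
    induction z using Submodule.Quotient.induction_on with
    | H x => exact (Submodule.Quotient.mk_eq_zero I).2 x.2

end ses

section grade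

variable {B : Type u} [CommRing B] {c : ℕ} (f : Fin c → B)

open MvPolynomial

/-- monomial values -/
noncomputable def fm (d : Fin c →₀ ℕ) : B := eval f (monomial d 1)

theorem fm_mem (d : Fin c →₀ ℕ) (k : ℕ) (hd : d.degree = k) :
    fm f d ∈ Ideal.span (Set.range f) ^ k :=
  (Ideal.mem_span_pow_iff_exists_isHomogeneous f _).2
    ⟨monomial d 1, isHomogeneous_monomial 1 hd, rfl⟩

theorem eval_monomial' (d : Fin c →₀ ℕ) (b : B) : eval f (monomial d b) = b * fm f d := by
  have : monomial d b = C b * monomial d (1 : B) := by rw [C_mul_monomial, mul_one]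
  rw [this, map_mul, eval_C, fm]

theorem eval_eq_sum_fm (P : MvPolynomial (Fin c) B) :
    eval f P = ∑ e ∈ P.support, coeff e P * fm f e := by
  conv_lhs => rw [← support_sum_monomial_coeff P]
  rw [map_sum]
  exact Finset.sum_congr rfl (fun e _ => eval_monomial' f e _)

abbrev Dk (c k : ℕ) := {d : Fin c →₀ ℕ // d.degree = k}

theorem grade_equiv (k : ℕ) (hq : CAlgX.IsQuasiRegular f) :
    Nonempty ((↥(Ideal.span (Set.range f) ^ k) ⧸
      Submodule.comap (Ideal.span (Set.range f) ^ k).subtype
        (Ideal.span (Set.range f) ^ (k + 1))) ≃ₗ[B]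
        (Dk c k →₀ (B ⧸ Ideal.span (Set.range f)))) := by
  classical
  set J := Ideal.span (Set.range f) with hJ
  let w : Dk c k → ↥(J ^ k) := fun d => ⟨fm f d.1, fm_mem f d.1 k d.2⟩
  let lc : (Dk c k →₀ B) →ₗ[B] ↥(J ^ k) := Finsupp.linearCombination B w
  let Φ : (Dk c k →₀ B) →ₗ[B] (↥(J ^ k) ⧸ Submodule.comap (J ^ k).subtype (J ^ (k + 1))) :=
    (Submodule.mkQ _) ∘ₗ lc
  let Θ : (Dk c k →₀ B) →ₗ[B] (Dk c k →₀ (B ⧸ J)) :=
    Finsupp.mapRange.linearMap (Submodule.mkQ J)
  have hlc : ∀ cc : Dk c k →₀ B,
      ((lc cc : ↥(J ^ k)) : B) = ∑ d ∈ cc.support, cc d * fm f d.1 := by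
    intro cc
    have : ((lc cc : ↥(J ^ k)) : B) = (J ^ k).subtype (lc cc) := rfl
    rw [this, Finsupp.apply_linearCombination, Finsupp.linearCombination_apply, Finsupp.sum]
    rfl
  have hker : ∀ cc : Dk c k →₀ B, Φ cc = 0 ↔ ∀ d, cc d ∈ J := by
    intro cc
    have h1 : Φ cc = 0 ↔ (∑ d ∈ cc.support, cc d * fm f d.1) ∈ J ^ (k + 1) := by
      show Submodule.Quotient.mk (lc cc) = 0 ↔ _
      rw [Submodule.Quotient.mk_eq_zero, Submodule.mem_comap, ← hlc]
      rfl
    rw [h1]
    constructor
    · intro h d₀
      let P : MvPolynomial (Fin c) B := ∑ d ∈ cc.support, monomial d.1 (cc d)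
      have hP : P.IsHomogeneous k :=
        IsHomogeneous.sum _ _ _ (fun d _ => isHomogeneous_monomial _ d.2)
      have hev : eval f P = ∑ d ∈ cc.support, cc d * fm f d.1 := by
        rw [map_sum]; exact Finset.sum_congr rfl (fun d _ => eval_monomial' f d.1 _)
      have hco : coeff d₀.1 P = cc d₀ := by
        simp only [P, coeff_sum, coeff_monomial]
        have : ∀ x : Dk c k, (if x.1 = d₀.1 then cc x else 0) = if x = d₀ then cc x else 0 := by
          intro x
          by_cases hx : x = d₀
          · subst hx; simp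
          · have : x.1 ≠ d₀.1 := fun h => hx (Subtype.ext h)
            simp [hx, this]
        simp only [this, Finset.sum_ite_eq', Finsupp.mem_support_iff]
        by_cases h0 : cc d₀ = 0 <;> simp [h0]
      rw [← hco]
      exact hq k P hP (by rw [hev]; exact h) d₀.1
    · intro h
      rw [pow_succ']
      exact Ideal.sum_mem _ (fun d _ => Ideal.mul_mem_mul (h d) (fm_mem f d.1 k d.2))
  have hspan : ∀ x ∈ J ^ k,
      x ∈ Submodule.span B (Set.range (fun d : Dk c k => fm f d.1)) := by
    intro x hx
    obtain ⟨P, hP, rfl⟩ := (Ideal.mem_span_pow_iff_exists_isHomogeneous f x).1 hx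
    rw [eval_eq_sum_fm]
    refine Submodule.sum_mem _ (fun e he => ?_)
    have hdeg : e.degree = k := by
      have := hP (mem_support_iff.1 he)
      rw [Finsupp.degree_eq_weight_one]
      exact this
    exact Submodule.smul_mem _ _ (Submodule.subset_span ⟨⟨e, hdeg⟩, rfl⟩)
  have hΦ : Function.Surjective Φ := by
    intro y
    obtain ⟨x, rfl⟩ := Submodule.mkQ_surjective _ y
    have hx : (x : B) ∈ Submodule.span B (Set.range (fun d : Dk c k => fm f d.1)) :=
      hspan x.1 x.2
    have hx' : x ∈ Submodule.span B (Set.range w) := by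
      have h2 : Submodule.map (J ^ k).subtype (Submodule.span B (Set.range w)) =
          Submodule.span B (Set.range (fun d : Dk c k => fm f d.1)) := by
        rw [Submodule.map_span, ← Set.range_comp]; rfl
      rw [← h2] at hx
      obtain ⟨z, hz, hzx⟩ := hx
      have : z = x := Subtype.ext hzx
      rwa [← this]
    rw [← Finsupp.range_linearCombination] at hx'
    obtain ⟨cc, hcc⟩ := hx'
    exact ⟨cc, by show Submodule.mkQ _ (lc cc) = _; rw [show lc cc = x from hcc]⟩
  have hΘ : Function.Surjective Θ := by
    intro y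
    obtain ⟨x, hx⟩ := Finsupp.mapRange_surjective (Submodule.mkQ J) (map_zero _)
      (Submodule.mkQ_surjective J) y
    exact ⟨x, hx⟩
  have hkerΘ : ∀ cc : Dk c k →₀ B, Θ cc = 0 ↔ ∀ d, cc d ∈ J := by
    intro cc
    rw [Finsupp.ext_iff]
    constructor
    · intro h d
      have := h d
      simp only [Θ, Finsupp.mapRange.linearMap_apply, Finsupp.mapRange_apply, Finsupp.coe_zero,
        Pi.zero_apply] at this
      exact (Submodule.Quotient.mk_eq_zero J).1 this
    · intro h d
      simp only [Θ, Finsupp.mapRange.linearMap_apply, Finsupp.mapRange_apply, Finsupp.coe_zero,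
        Pi.zero_apply]
      exact (Submodule.Quotient.mk_eq_zero J).2 (h d)
  have hkk : LinearMap.ker Φ = LinearMap.ker Θ := by
    ext cc; rw [LinearMap.mem_ker, LinearMap.mem_ker, hker, hkerΘ]
  exact ⟨(Φ.quotKerEquivOfSurjective hΦ).symm ≪≫ₗ (Submodule.quotEquivOfEq _ _ hkk) ≪≫ₗ
    (Θ.quotKerEquivOfSurjective hΘ)⟩

end grade

section chain

variable (A : Type u) {B : Type u} [CommRing A] [CommRing B] [Algebra A B] (J : Ideal B)

theorem quot_pow_flat
    (hG : ∀ k, Module.Flat A (RestrictScalars A B
      (↥(J ^ k) ⧸ Submodule.comap (J ^ k).subtype (J ^ (k + 1))))) (m : ℕ) :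
    Module.Flat A (RestrictScalars A B (B ⧸ J ^ m)) := by
  induction m with
  | zero =>
    haveI : Subsingleton (RestrictScalars A B (B ⧸ J ^ 0)) :=
      (Ideal.Quotient.subsingleton_iff.2 (by rw [pow_zero, Ideal.one_eq_top]) :
        Subsingleton (B ⧸ J ^ 0))
    haveI := Module.Free.of_subsingleton A (RestrictScalars A B (B ⧸ J ^ 0))
    infer_instance
  | succ m ih =>
    exact flatA_ext A (iota (J ^ m) (J ^ (m + 1)))
      (pi (J ^ m) (J ^ (m + 1)) (Ideal.pow_le_pow_right (Nat.le_succ m)))
      (iota_injective _ _) (iota_pi_exact _ _ _) (pi_surjective _ _ _) (hG m) ih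

theorem gr_flat (hQ : ∀ m, Module.Flat A (RestrictScalars A B (B ⧸ J ^ m))) (n m : ℕ)
    (hnm : n ≤ m) :
    Module.Flat A (RestrictScalars A B
      (↥(J ^ n) ⧸ Submodule.comap (J ^ n).subtype (J ^ m))) :=
  flatA_left A (iota (J ^ n) (J ^ m)) (pi (J ^ n) (J ^ m) (Ideal.pow_le_pow_right hnm))
    (iota_injective _ _) (iota_pi_exact _ _ _) (pi_surjective _ _ _) (hQ m) (hQ n)

theorem pow_flat (hB : Module.Flat A B)
    (hQ : ∀ m, Module.Flat A (RestrictScalars A B (B ⧸ J ^ m))) (n : ℕ) :
    Module.Flat A (RestrictScalars A B ↥(J ^ n)) :=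
  flatA_left A (J ^ n).subtype (Submodule.mkQ (J ^ n)) Subtype.val_injective
    (LinearMap.exact_subtype_mkQ _) (Submodule.mkQ_surjective _) (flatA_of_tower A B) (hQ n)

theorem main_aux {c : ℕ} (f : Fin c → B) (hq : CAlgX.IsQuasiRegular f)
    (hBJ : Module.Flat A (B ⧸ Ideal.span (Set.range f))) (hB : Module.Flat A B)
    (n m : ℕ) (hnm : n < m) :
    Module.Flat A (RestrictScalars A B
      (↥(Ideal.span (Set.range f) ^ n) ⧸
        (Submodule.comap (Ideal.span (Set.range f) ^ n).subtype
          (Ideal.span (Set.range f) ^ m)))) ∧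
      ∀ (q : Ideal B) [q.IsPrime], Ideal.span (Set.range f) ≤ q →
        Module.Flat A (RestrictScalars A B
          (LocalizedModule q.primeCompl ↥(Ideal.span (Set.range f) ^ n))) := by
  have hG : ∀ k, Module.Flat A (RestrictScalars A B
      (↥(Ideal.span (Set.range f) ^ k) ⧸
        Submodule.comap (Ideal.span (Set.range f) ^ k).subtype
          (Ideal.span (Set.range f) ^ (k + 1)))) := by
    intro k
    obtain ⟨e⟩ := grade_equiv f k hq
    refine flatA_of_equiv A e ?_
    classical
    haveI : Module.Flat A (Dk c k →₀ (B ⧸ Ideal.span (Set.range f))) :=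
      Module.Flat.of_linearEquiv (finsuppLequivDFinsupp A)
    exact flatA_of_tower A (Dk c k →₀ (B ⧸ Ideal.span (Set.range f)))
  have hQ := quot_pow_flat A (Ideal.span (Set.range f)) hG
  exact ⟨gr_flat A _ hQ n m hnm.le,
    fun q _ _ => loc_flat A q.primeCompl (pow_flat A _ hB hQ n)⟩

end chain


/-- Let B be an A-algebra and J an ideal of B generated by a sequence which is transversally regular
relative to A. Then for n < m the module J^n/J^m is flat over A, and for every prime q of B
containing J the localisation (J^n)_q is flat over A (modules regarded as A-modules by restriction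
of scalars). -/
theorem result (A B : Type u) [CommRing A] [CommRing B] [Algebra A B]
    (rs : List B) (hrs : RegImm.IsTransRegularSeq A B rs) (n m : ℕ) (hnm : n < m) :
    Module.Flat A (RestrictScalars A B
      (↥(Ideal.ofList rs ^ n) ⧸ (Submodule.comap (Ideal.ofList rs ^ n).subtype (Ideal.ofList rs ^ m)))) ∧
      ∀ (q : Ideal B) [q.IsPrime], Ideal.ofList rs ≤ q →
        Module.Flat A (RestrictScalars A B (LocalizedModule q.primeCompl ↥(Ideal.ofList rs ^ n))) := by
  obtain ⟨hreg, hflat⟩ := hrs
  have hJspan : Ideal.ofList rs = Ideal.span (Set.range rs.get) := by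
    rw [Ideal.ofList, Set.range_list_get]
  have hqr : CAlgX.IsQuasiRegular rs.get :=
    Groth.Agent.S5802.result B rs.length rs.get (by rwa [List.ofFn_get])
  have hBJ : Module.Flat A (B ⧸ Ideal.ofList rs) := by
    have := hflat rs.length le_rfl
    rwa [List.take_length] at this
  have hB : Module.Flat A B := by
    have h0 := hflat 0 (Nat.zero_le _)
    have hbot : Ideal.ofList (rs.take 0) = ⊥ := by simp
    exact Module.Flat.of_linearEquiv
      ((Submodule.quotEquivOfEqBot _ hbot).symm.restrictScalars A)
  rw [hJspan] at hBJ ⊢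
  exact main_aux A rs.get hqr hBJ hB n m hnm

end Groth.Agent.S5071
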