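import Groth.Statements.S18703
import Groth.Agent.Lib.Helper28.EvalLoc

set_option autoImplicit false
universe u
open QGor

namespace Groth.Agent.S18703

/-- Affine form. Let A be a Noetherian ring and I an ideal with depth_I A ≥ 1. Let G be a finite
A-module such that G_p is a reflexive A_p-module for every prime p not containing I (G is reflexive
off V(I)). If depth_I G ≥ 2, then G is reflexive. -/
theorem result (A : Type u) [CommRing A] [IsNoetherianRing A] (I : Ideal A)
    (hA : 1 ≤ LocCoh.idealDepth I A)
    (G : Type u) [AddCommGroup G] [Module A G] [Module.Finite A G]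
    (hU : ∀ p : PrimeSpectrum A, ¬ I ≤ p.asIdeal →
      Module.IsReflexive (Localization.AtPrime p.asIdeal) (LocalizedModule p.asIdeal.primeCompl G))
    (hG : 2 ≤ LocCoh.idealDepth I G) : Module.IsReflexive A G := by
  open Groth.Agent.Lib.Helper28 in
  have hK : ∀ p : PrimeSpectrum A, ¬ I ≤ p.asIdeal →
      Subsingleton (LocalizedModule p.asIdeal.primeCompl
        (LinearMap.ker (Module.Dual.eval A G))) := fun p hp =>
    subsingleton_localized_ker_eval G p.asIdeal.primeCompl
      (@Module.bijective_dual_eval (Localization.AtPrime p.asIdeal)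
        (LocalizedModule p.asIdeal.primeCompl G) _ _ _ (hU p hp)).1
  open Groth.Agent.Lib.Helper28 in
  have hC : ∀ p : PrimeSpectrum A, ¬ I ≤ p.asIdeal →
      Subsingleton (LocalizedModule p.asIdeal.primeCompl
        (Module.Dual A (Module.Dual A G) ⧸ LinearMap.range (Module.Dual.eval A G))) :=
    fun p hp =>
    subsingleton_localized_coker_eval G p.asIdeal.primeCompl
      (@Module.bijective_dual_eval (Localization.AtPrime p.asIdeal)
        (LocalizedModule p.asIdeal.primeCompl G) _ _ _ (hU p hp)).2
  have hinj : Function.Injective (Module.Dual.eval A G) := by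
    rw [← LinearMap.ker_eq_bot]
    by_contra hne
    have hnt : Nontrivial (LinearMap.ker (Module.Dual.eval A G)) :=
      Submodule.nontrivial_iff_ne_bot.mpr hne
    obtain ⟨P, hP, hIP⟩ :=
      Groth.Agent.Lib.Helper28.exists_le_associatedPrime_of_forall_subsingleton I _ hK
    have hP' : P ∈ associatedPrimes A G :=
      associatedPrimes.subset_of_injective (LinearMap.ker (Module.Dual.eval A G)).injective_subtype hP
    have h0 := Groth.Agent.Lib.Helper28.idealDepth_eq_zero_of_le_associatedPrime I hP' hIP
    rw [h0] at hG
    simp at hG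
  have hsurj : Function.Surjective (Module.Dual.eval A G) := by
    rw [← LinearMap.range_eq_top]
    by_contra hne
    have hnt : Nontrivial
        (Module.Dual A (Module.Dual A G) ⧸ LinearMap.range (Module.Dual.eval A G)) :=
      Submodule.Quotient.nontrivial_iff.mpr hne
    obtain ⟨P, hP, hIP⟩ :=
      Groth.Agent.Lib.Helper28.exists_le_associatedPrime_of_forall_subsingleton I _ hC
    have h0 := Groth.Agent.Lib.Helper28.idealDepth_eq_zero_of_le_associatedPrime I hP hIP
    have hex : Function.Exact (Module.Dual.eval A G)
        (LinearMap.range (Module.Dual.eval A G)).mkQ := by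
      intro y
      rw [Submodule.mkQ_apply, Submodule.Quotient.mk_eq_zero]
      rfl
    have hdl := (Groth.Agent.Lib.Helper4.idealDepth_shortExact I (Module.Dual.eval A G)
      (LinearMap.range (Module.Dual.eval A G)).mkQ hinj (Submodule.mkQ_surjective _) hex).2.1
    rw [h0] at hdl
    have h1 := Groth.Agent.Lib.Helper28.one_le_idealDepth_dual I hA (Module.Dual A G)
    have h2 : 1 ≤ LocCoh.idealDepth I G - 1 := by
      generalize LocCoh.idealDepth I G = d at hG
      induction d using ENat.recTopCoe with
      | top => simp
      | coe d =>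
        have : 2 ≤ d := by exact_mod_cast hG
        have h3 : ((d : ℕ∞) - 1) = ((d - 1 : ℕ) : ℕ∞) := by norm_cast
        rw [h3]
        exact_mod_cast (by omega : 1 ≤ d - 1)
    have := le_trans (le_min h1 h2) hdl
    simp at this
  exact ⟨⟨hinj, hsurj⟩⟩

end Groth.Agent.S18703
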