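import Groth.Statements.S18415
import Groth.Agent.Lib.Helper15.EtGlue
import Groth.Agent.Lib.Helper15.ASRing

set_option autoImplicit false
universe u
open CategoryTheory AlgebraicGeometry
open EtCoh

namespace Groth.Agent.S18415

/-- Let p be a prime and X a scheme with p = 0 in Γ(X, O_X). Then the Artin–Schreier endomorphism x ↦
x^p − x of the additive group sheaf G_a on the small étale site of X is an epimorphism of abelian
étale sheaves (the right-hand exactness of 0 → Z/p → G_a → G_a → 0 on X_et). (The published example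
takes X a variety over a field of characteristic p; this row assumes only that p = 0 in Γ(X, O_X).) -/
theorem result
    (p : ℕ) (hp : p.Prime) {X : Scheme.{u}} (h0 : (p : Γ(X, ⊤)) = 0) :
    Epi (W4c5etcohweilstudent.artinSchreierEndo X p hp h0) := by
  rw [← Sheaf.isLocallySurjective_iff_epi' AddCommGrpCat.{u + 1}]
  constructor
  intro U x
  rw [Groth.Agent.Lib.Helper15.EtGlue.mem_iff]
  intro pt
  obtain ⟨R, j, hjo, ⟨p', hp'⟩, -⟩ :=
    Scheme.exists_affine_mem_range_and_range_subset (x := pt) (U := ⊤) trivial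
  haveI := hjo
  let x₀ : Γ(U.left, ⊤) := ULift.down x
  let ρ : Γ(U.left, ⊤) ⟶ R := j.appTop ≫ (Scheme.ΓSpecIso R).hom
  have h0R : ((p : ℕ) : R) = 0 := by
    have := congrArg (U.hom.appTop ≫ ρ).hom h0
    rwa [map_natCast, map_zero] at this
  let a : R := ρ.hom x₀
  let φ : R ⟶ CommRingCat.of (Groth.Agent.Lib.Helper15.ASRing.B a p) :=
    CommRingCat.ofHom (algebraMap R (Groth.Agent.Lib.Helper15.ASRing.B a p))
  haveI : Etale (Spec.map φ) := by
    rw [HasRingHomProperty.Spec_iff (P := @Etale)]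
    exact RingHom.etale_algebraMap.mpr (Groth.Agent.Lib.Helper15.ASRing.etale a p hp.two_le h0R)
  let gl : Spec (CommRingCat.of (Groth.Agent.Lib.Helper15.ASRing.B a p)) ⟶ U.left := Spec.map φ ≫ j
  let Z : X.Etale := Scheme.Etale.mk (gl ≫ U.hom)
  let g : Z ⟶ U := MorphismProperty.Over.homMk gl rfl trivial
  obtain ⟨z, hz⟩ := Groth.Agent.Lib.Helper15.ASRing.comap_surjective a p hp.two_le p'
  let t : Γ(Spec (CommRingCat.of (Groth.Agent.Lib.Helper15.ASRing.B a p)), ⊤) :=
    (Scheme.ΓSpecIso (CommRingCat.of (Groth.Agent.Lib.Helper15.ASRing.B a p))).inv.hom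
      (AdjoinRoot.root (Groth.Agent.Lib.Helper15.ASRing.poly a p))
  have key : (Scheme.ΓSpecIso R).hom ≫ φ ≫
      (Scheme.ΓSpecIso (CommRingCat.of (Groth.Agent.Lib.Helper15.ASRing.B a p))).inv =
      (Spec.map φ).appTop := by
    rw [Scheme.ΓSpecIso_inv_naturality, Iso.hom_inv_id_assoc]
  have happ : gl.appTop = j.appTop ≫ (Spec.map φ).appTop := Scheme.Hom.comp_appTop _ _
  have hval : t ^ p - t = gl.appTop.hom x₀ := by
    rw [happ, ← key]
    show ((Scheme.ΓSpecIso (CommRingCat.of (Groth.Agent.Lib.Helper15.ASRing.B a p))).inv.hom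
        (AdjoinRoot.root (Groth.Agent.Lib.Helper15.ASRing.poly a p))) ^ p -
      (Scheme.ΓSpecIso (CommRingCat.of (Groth.Agent.Lib.Helper15.ASRing.B a p))).inv.hom
        (AdjoinRoot.root (Groth.Agent.Lib.Helper15.ASRing.poly a p)) =
      (Scheme.ΓSpecIso (CommRingCat.of (Groth.Agent.Lib.Helper15.ASRing.B a p))).inv.hom
        (algebraMap R (Groth.Agent.Lib.Helper15.ASRing.B a p) (ρ.hom x₀))
    rw [← map_pow, ← map_sub, Groth.Agent.Lib.Helper15.ASRing.root_pow]
  refine ⟨Z, g, z, ⟨ULift.up t, ?_⟩, ?_⟩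
  · show ULift.up (t ^ p - t) = ULift.up (gl.appTop.hom x₀)
    rw [hval]
  · show j.base ((Spec.map φ).base z) = pt
    rw [← hp']
    exact congrArg j.base hz

end Groth.Agent.S18415
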