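-- Statement S0077.
import Groth.Statements.S0077
import Mathlib

set_option autoImplicit false
universe u
open EtBase

namespace Groth.Agent.S0077

section helpers
open Polynomial Finset

variable {k V : Type u} [Field k] [IsAlgClosed k] (p : ℕ) [Fact p.Prime] [CharP k p]
    [AddCommGroup V] [Module k V] [FiniteDimensional k V] (F : V →+ V)

omit [IsAlgClosed k] in
/-- some iterate lies in the span of the previous ones -/
theorem exists_rel (u : V) : ∃ (n : ℕ) (c : ℕ → k),
    F^[n] u = ∑ i ∈ range n, c i • F^[i] u := by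
  let W : ℕ →o Submodule k V :=
    ⟨fun n => Submodule.span k ((fun i => F^[i] u) '' (Set.Iio n)), by
      intro a b hab
      apply Submodule.span_mono
      apply Set.image_mono
      intro i hi
      exact lt_of_lt_of_le hi hab⟩
  obtain ⟨n, hn⟩ := (monotone_stabilizes_iff_noetherian.mpr inferInstance) W
  have h1 : F^[n] u ∈ W (n+1) := Submodule.subset_span ⟨n, Nat.lt_succ_self n, rfl⟩
  rw [← hn (n+1) (Nat.le_succ n)] at h1
  have h2 : F^[n] u ∈ Submodule.span k (Set.range (fun i : Fin n => F^[i] u)) := by
    refine Submodule.span_mono ?_ h1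
    rintro _ ⟨i, hi, rfl⟩
    exact ⟨⟨i, hi⟩, rfl⟩
  obtain ⟨c, hc⟩ := (Submodule.mem_span_range_iff_exists_fun k).mp h2
  refine ⟨n, fun i => if h : i < n then c ⟨i, h⟩ else 0, ?_⟩
  rw [← hc, ← Fin.sum_univ_eq_sum_range (fun i => (if h : i < n then c ⟨i, h⟩ else 0) • F^[i] u)]
  refine Finset.sum_congr rfl fun i _ => ?_
  rw [dif_pos i.2]

variable {k V : Type u} [Field k] [IsAlgClosed k] (p : ℕ) [Fact p.Prime] [CharP k p]
    [AddCommGroup V] [Module k V] [FiniteDimensional k V] (F : V →+ V)

/-- the polynomials -/
noncomputable def P (c : ℕ → k) : ℕ → k[X]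
  | 0 => C (c 0) * X ^ p - 1
  | (i+1) => (P c i) ^ p + C (c (i+1)) * X ^ p

omit [IsAlgClosed k] [Fact p.Prime] in
theorem derivative_P (c : ℕ → k) (i : ℕ) : derivative (P p c i) = 0 := by
  induction i with
  | zero => simp [P, derivative_pow]
  | succ i ih => simp [P, derivative_pow]

theorem exists_root (c : ℕ → k) (m : ℕ) : ∃ t : k, (P p c m).eval t = t := by
  have hdeg : (P p c m - X).degree ≠ 0 := by
    intro h
    have h1 := eq_C_of_degree_eq_zero h
    have h2 : derivative (P p c m - X) = -1 := by
      rw [derivative_sub, derivative_P, derivative_X, zero_sub]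
    rw [h1, derivative_C] at h2
    have : (1 : k[X]) = 0 := by
      have := congrArg Neg.neg h2
      simpa using this.symm
    exact one_ne_zero this
  obtain ⟨t, ht⟩ := IsAlgClosed.exists_root _ hdeg
  refine ⟨t, ?_⟩
  have : (P p c m).eval t - t = 0 := by simpa [IsRoot] using ht
  exact sub_eq_zero.mp this

theorem surj (hF : ∀ (c : k) (v : V), F (c • v) = c ^ p • F v) :
    Function.Surjective fun v => F v - v := by
  intro u
  obtain ⟨n, c, hc⟩ := exists_rel (k := k) F u
  cases n with
  | zero =>
    refine ⟨0, ?_⟩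
    simp at hc
    simp [hc]
  | succ m =>
    obtain ⟨t, ht⟩ := exists_root p c m
    set x : ℕ → k := fun i => (P p c i).eval t with hx
    have hx0 : x 0 + 1 = c 0 * t ^ p := by simp [hx, P]
    have hxs : ∀ i, x (i+1) = (x i) ^ p + c (i+1) * t ^ p := fun i => by simp [hx, P]
    have hxm : x m = t := ht
    refine ⟨∑ i ∈ range (m+1), x i • F^[i] u, ?_⟩
    show F (∑ i ∈ range (m+1), x i • F^[i] u) - (∑ i ∈ range (m+1), x i • F^[i] u) = u
    rw [sub_eq_iff_eq_add']
    have hFv : F (∑ i ∈ range (m+1), x i • F^[i] u) =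
        ∑ i ∈ range m, (x i) ^ p • F^[i+1] u +
          t ^ p • (∑ i ∈ range m, c (i+1) • F^[i+1] u + c 0 • u) := by
      rw [map_sum, sum_range_succ]
      congr 1
      · refine sum_congr rfl fun i _ => ?_
        rw [hF, Function.iterate_succ_apply']
      · rw [hF, ← Function.iterate_succ_apply' F, hc, hxm, sum_range_succ']
        rfl
    rw [hFv, sum_range_succ' (fun i => x i • F^[i] u)]
    rw [smul_add, Finset.smul_sum, ← add_assoc, ← sum_add_distrib, add_assoc]
    congr 1
    · refine sum_congr rfl fun i _ => ?_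
      rw [smul_smul, ← add_smul, hxs, mul_comm]
    · rw [smul_smul, Function.iterate_zero, id_eq]
      nth_rewrite 3 [← one_smul k u]
      rw [← add_smul, hx0, mul_comm]

end helpers

/-- First half — on a finite-dimensional vector space over an algebraically closed field of
characteristic p, any additive p-semilinear map F has F − id surjective. -/
theorem result {k V : Type u} [Field k] [IsAlgClosed k] (p : ℕ) [Fact p.Prime] [CharP k p]
    [AddCommGroup V] [Module k V] [FiniteDimensional k V] (F : V →+ V)
    (hF : ∀ (c : k) (v : V), F (c • v) = c ^ p • F v) :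
    Function.Surjective fun v => F v - v := by
  exact surj p F hF

end Groth.Agent.S0077
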