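-- Statement S0078.
import Groth.Statements.S0078
import Mathlib

set_option autoImplicit false
universe u
open EtBase

namespace Groth.Agent.S0078

section helpers
open Polynomial Finset

variable {k V : Type u} [Field k] (p : ℕ) [Fact p.Prime]
    [AddCommGroup V] [Module k V] [FiniteDimensional k V] (F : V →+ V)

theorem main (hF : ∀ (c : k) (v : V), F (c • v) = c ^ p • F v) :
    Set.Finite {v : V | F v = v} ∧ Nat.card {v : V | F v = v} ≤ p ^ Module.finrank k V := by
  classical
  set Fix : Set V := {v : V | F v = v} with hFix
  obtain ⟨b, hbF, hspan, hli⟩ := exists_linearIndependent k Fix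
  have hbfin : Finite b := hli.finite
  have := Fintype.ofFinite b
  -- roots
  have hp1 : 1 < p := (Fact.out : p.Prime).one_lt
  set Q : k[X] := X ^ p - X with hQ
  have hQ0 : Q ≠ 0 := FiniteField.X_pow_card_sub_X_ne_zero k hp1
  have hQdeg : Q.natDegree = p := FiniteField.X_pow_card_sub_X_natDegree_eq k hp1
  set R : Finset k := Q.roots.toFinset with hR
  have hRcard : R.card ≤ p := by
    calc R.card ≤ Multiset.card Q.roots := Multiset.toFinset_card_le _
      _ ≤ Q.natDegree := Polynomial.card_roots' Q
      _ = p := hQdeg
  have hRmem : ∀ a : k, a ^ p = a → a ∈ R := by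
    intro a ha
    rw [hR, Multiset.mem_toFinset, mem_roots hQ0]
    simp [hQ, IsRoot, ha]
  -- F on linear combinations
  have hFlc : ∀ l : b →₀ k, F (Finsupp.linearCombination k (Subtype.val : b → V) l) =
      Finsupp.linearCombination k (Subtype.val : b → V) (l.mapRange (· ^ p) (zero_pow (Fact.out : p.Prime).ne_zero)) := by
    intro l
    rw [Finsupp.linearCombination_apply, Finsupp.linearCombination_apply, Finsupp.sum, map_sum,
      Finsupp.sum_mapRange_index (by intro i; simp)]
    rw [Finsupp.sum]
    refine Finset.sum_congr rfl fun i _ => ?_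
    rw [hF, hbF i.2]
  have hcoef : ∀ v : Fix, ∃ l : b →₀ k,
      Finsupp.linearCombination k (Subtype.val : b → V) l = v.1 := by
    intro v
    have hv : v.1 ∈ Submodule.span k (Set.range (Subtype.val : b → V)) := by
      rw [Subtype.range_coe, hspan]
      exact Submodule.subset_span v.2
    exact (Finsupp.mem_span_range_iff_exists_finsupp).mp hv
  choose l hl using hcoef
  have hlR : ∀ (v : Fix) (i : b), l v i ∈ R := by
    intro v i
    apply hRmem
    have h1 := hFlc (l v)
    rw [hl v, v.2, ← hl v] at h1
    have h2 := hli h1
    have := congrArg (fun m : b →₀ k => m i) h2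
    simpa using this.symm
  let G : Fix → (b → R) := fun v i => ⟨l v i, hlR v i⟩
  have hG : Function.Injective G := by
    intro v w hvw
    apply Subtype.ext
    rw [← hl v, ← hl w]
    congr 1
    ext i
    exact congrArg (fun g => (g i).1) hvw
  have hfinFix : Finite Fix := Finite.of_injective G hG
  refine ⟨Set.toFinite Fix, ?_⟩
  calc Nat.card Fix ≤ Nat.card (b → R) := Nat.card_le_card_of_injective G hG
    _ = Nat.card R ^ Nat.card b := by rw [Nat.card_fun]
    _ = R.card ^ Fintype.card b := by
        rw [Nat.card_eq_fintype_card, Nat.card_eq_fintype_card, Fintype.card_coe]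
    _ ≤ p ^ Fintype.card b := Nat.pow_le_pow_left hRcard _
    _ ≤ p ^ Module.finrank k V :=
        Nat.pow_le_pow_right (Fact.out : p.Prime).pos hli.fintype_card_le_finrank

end helpers

/-- Second half — for such an F the fixed vectors F v = v form a finite set of size at most p ^ dim V
(an F_p-space of dimension at most dim V). -/
theorem result {k V : Type u} [Field k] [IsAlgClosed k] (p : ℕ) [Fact p.Prime] [CharP k p]
    [AddCommGroup V] [Module k V] [FiniteDimensional k V] (F : V →+ V)
    (hF : ∀ (c : k) (v : V), F (c • v) = c ^ p • F v) :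
    Set.Finite {v : V | F v = v} ∧ Nat.card {v : V | F v = v} ≤ p ^ Module.finrank k V := by
  exact main p F hF

end Groth.Agent.S0078
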