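import Groth.Statements.S0667
import Mathlib
import Groth.Agent.Lib.Helper15.CechGen
import Groth.Agent.Lib.Helper13.DiscFibLan
import Groth.Agent.Lib.Helper13.FlatPullback

set_option autoImplicit false
open CategoryTheory CategoryTheory.Limits AlgebraicGeometry Opposite
universe u
open EtCore

namespace Groth.Agent.S0667


open Groth.Agent.Lib.Helper13 Groth.Agent.Lib.Helper15

section helpers

universe v' u'

/-- Local decomposition data for `Over.forget X` at `W`: the morphisms `W ⟶ X` (general universes). -/
def localDataForget' {C : Type u'} [Category.{v'} C] (X : C) (W : C) :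
    DiscFibLan.LocalData.{v', v', max u' v', u', v'} (Over.forget X) W where
  α := W ⟶ X
  V φ := Over.mk φ
  e φ := Iso.refl _
  exists_lift {V'} g := by
    refine ⟨g ≫ V'.hom, Over.homMk g rfl, ?_⟩
    simp
  unique {V'} φ φ' m m' h := by
    have h1 : m.left = m'.left := by simpa using h
    have e1 : m.left ≫ V'.hom = φ := Over.w m
    have e2 : m'.left ≫ V'.hom = φ' := Over.w m'
    exact e1.symm.trans ((congrArg (· ≫ V'.hom) h1).trans e2)

end helpers

/-- Let f : X -> Y be a morphism of schemes, I an injective abelian sheaf on the small etale site of X,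
V an etale Y-scheme and (V_j -> V) an etale covering of V, i.e. a jointly surjective family of
morphisms of etale Y-schemes (finite products in the over category, i.e. fibre products over V,
assumed as a binder). Then the Cech cohomology of the presheaf underlying f_* I with respect to this
covering vanishes in positive degrees. -/
theorem result {X Y : Scheme.{u}} (f : X ⟶ Y) (I : EtCoh.Ab X) [Injective I]
    (V : Y.Etale) [HasFiniteProducts (Over V)] {κ : Type (u + 1)} (Vf : κ → Over V)
    (hV : ∀ v : V.left, ∃ (j : κ) (y : (Vf j).left.left), (Vf j).hom.left.base y = v) (p : ℕ) :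
    IsZero (EtCech.cechH Vf ((EtCoh.push f).obj I).obj (p + 1)) := by
  haveI h1 : Injective ((EtCoh.push f).obj I) :=
    Injective.injective_of_adjoint (EtCoh.pullPushAdj f) I
  haveI h2 : Injective ((EtCoh.push f).obj I).obj := by
    have h2' := Injective.injective_of_adjoint
      (sheafificationAdjunction Y.smallEtaleTopology AddCommGrpCat.{u + 1}) ((EtCoh.push f).obj I)
    exact h2'
  haveI h3 : PreservesFiniteLimits ((Over.forget V).op.lan :
      ((Over V)ᵒᵖ ⥤ AddCommGrpCat.{u + 1}) ⥤ (Y.Etale)ᵒᵖ ⥤ AddCommGrpCat.{u + 1}) := by
    have ab4 : AB4OfSize.{u} AddCommGrpCat.{u + 1} :=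
      AB4OfSize_shrink.{u, u + 1} AddCommGrpCat.{u + 1}
    have : ∀ W : Y.Etale,
        HasExactColimitsOfShape (Discrete (localDataForget' V W).α) AddCommGrpCat.{u + 1} :=
      fun W => inferInstance
    exact DiscFibLan.lan_preservesFiniteLimits AddCommGrpCat.{u + 1} (Over.forget V)
      (localDataForget' V)
  haveI h4 : Injective ((Over.forget V).op ⋙ ((EtCoh.push f).obj I).obj) :=
    Injective.injective_of_adjoint ((Over.forget V).op.lanAdjunction AddCommGrpCat.{u + 1}) _
  exact CechGen.isZero_homology_of_injective Vf _ p

end Groth.Agent.S0667
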