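import Groth.Statements.S0665
import Mathlib
import Groth.Agent.Lib.Helper15.CechGen
import Groth.Agent.Lib.Helper13.DiscFibLan
import Groth.Agent.S0667

set_option autoImplicit false
open CategoryTheory CategoryTheory.Limits Opposite
universe w v u
open EtCore

namespace Groth.Agent.S0665


open Groth.Agent.Lib.Helper13 Groth.Agent.Lib.Helper15

/-- Let C be a category whose Hom-sets are small relative to the coefficient universe, U an object, (U_i
-> U) a family of morphisms with target U such that the relevant fibre products exist (finite
products in the over category), and I an injective object of the category of abelian presheaves on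
C. Then the Cech cohomology of I with respect to the family vanishes in every positive degree. -/
theorem result {C : Type u} [Category.{v} C] [LocallySmall.{w} C] {U : C} [HasFiniteProducts (Over U)]
    {ι : Type w} (Uf : ι → Over U) (I : Cᵒᵖ ⥤ AddCommGrpCat.{w}) [Injective I] (p : ℕ) :
    IsZero (EtCech.cechH Uf I (p + 1)) := by
  haveI hls : LocallySmall.{w} (Over U) :=
    ⟨fun A B => small_of_injective (f := fun φ : A ⟶ B => φ.left)
      (fun φ ψ h => Over.OverMorphism.ext h)⟩
  haveI hdisc : ∀ W : C,
      HasColimitsOfShape (Discrete (Groth.Agent.S0667.localDataForget' U W).α) AddCommGrpCat.{w} :=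
    fun W => hasColimitsOfShape_of_equivalence
      (Discrete.equivalence (equivShrink.{w} (W ⟶ U)).symm)
  haveI hex : ∀ W : C,
      HasExactColimitsOfShape (Discrete (Groth.Agent.S0667.localDataForget' U W).α)
        AddCommGrpCat.{w} :=
    fun W => HasExactColimitsOfShape.of_domain_equivalence AddCommGrpCat.{w}
      (Discrete.equivalence (equivShrink.{w} (W ⟶ U)).symm)
  haveI : ∀ X : Cᵒᵖ,
      HasColimitsOfShape (CostructuredArrow (Over.forget U).op X) AddCommGrpCat.{w} := by
    intro X
    induction X using Opposite.rec with
    | _ W =>
      exact Functor.Final.hasColimitsOfShape_of_final (Groth.Agent.S0667.localDataForget' U W).ι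
  haveI h3 : PreservesFiniteLimits ((Over.forget U).op.lan :
      ((Over U)ᵒᵖ ⥤ AddCommGrpCat.{w}) ⥤ Cᵒᵖ ⥤ AddCommGrpCat.{w}) :=
    DiscFibLan.lan_preservesFiniteLimits AddCommGrpCat.{w} (Over.forget U)
      (Groth.Agent.S0667.localDataForget' U)
  haveI h4 : Injective ((Over.forget U).op ⋙ I) :=
    Injective.injective_of_adjoint ((Over.forget U).op.lanAdjunction AddCommGrpCat.{w}) I
  exact CechGen.isZero_homology_of_injective Uf _ p

end Groth.Agent.S0665
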