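import Groth.Statements.S0099
import Mathlib
import Groth.Agent.Lib.Helper5.EtaleQcqs

set_option autoImplicit false
open CategoryTheory CategoryTheory.Limits AlgebraicGeometry Opposite
universe u
open EtBase

namespace Groth.Agent.S0099

/-- On a quasi-compact quasi-separated scheme, étale cohomology in each degree commutes with filtered
colimits of abelian sheaves (stated for small filtered index categories). -/
theorem result (X : Scheme.{u}) [CompactSpace X] [QuasiSeparatedSpace X] (n : ℕ)
    (J : Type u) [SmallCategory J] [IsFiltered J] :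
    PreservesColimitsOfShape J (EtCoh.HF X n) := by
  unfold EtCoh.HF
  haveI : IsFiltered (AsSmall.{u + 1} J) :=
    IsFiltered.of_equivalence (AsSmall.equiv.{u, u, u + 1} (C := J))
  have key := Groth.Agent.Lib.Helper5.SmallModelH.preservesColimitsOfShape_functorH
      X.smallEtaleTopology (Groth.Agent.Lib.Helper5.EtaleQcqs.Bq X)
      (Groth.Agent.Lib.Helper5.EtaleQcqs.Cov X)
      (fun _ _ e h => Groth.Agent.Lib.Helper5.EtaleQcqs.Bq_iso e h)
      (Groth.Agent.Lib.Helper5.EtaleQcqs.h1 X)
      (Groth.Agent.Lib.Helper5.EtaleQcqs.h2 X)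
      (Groth.Agent.Lib.Helper5.EtaleQcqs.topIsTerminal X)
      (Groth.Agent.Lib.Helper5.EtaleQcqs.top_mem X) n (AsSmall.{u + 1} J)
  exact preservesColimitsOfShape_of_equiv (AsSmall.equiv.{u, u, u + 1} (C := J)).symm _

end Groth.Agent.S0099
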