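import Groth.Statements.S0068
import Groth.Agent.Lib.Helper15.ClosedStalk

set_option autoImplicit false
open CategoryTheory CategoryTheory.Limits AlgebraicGeometry Opposite
universe u
open EtBase

namespace Groth.Agent.S0068


open Groth.Agent.Lib.Helper15 Groth.Agent.Lib.Helper13.StalkPull
  Groth.Agent.Lib.Helper13.StalkConservative

/-- Part (2), second half — an abelian étale sheaf is a pushforward from a closed subscheme exactly when
its sections vanish over every étale scheme mapping into the open complement. -/
theorem result {Z X : Scheme.{u}} (i : Z ⟶ X) [IsClosedImmersion i] [EtCoh.BCCont i]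
    (F : EtCoh.Ab X) :
    (EtCoh.push i).essImage F ↔
      ∀ U : X.Etale, Disjoint (Set.range U.hom.base) (Set.range i.base) → IsZero (F.obj.obj (op U)) := by
  constructor
  · rintro ⟨G, ⟨e⟩⟩ V hV
    have h0 := ClosedStalk.isZero_push_sections i G V hV
    exact IsZero.of_iso h0 (((sheafToPresheaf _ _).mapIso e.symm).app (op V))
  · intro hF
    haveI : IsIso ((EtCoh.pullPushAdj i).unit.app F) := by
      rw [isIso_iff_stalks]
      intro p
      by_cases h : p.ξ.base default ∈ Set.range i.base
      · obtain ⟨ζ, hζ⟩ := ClosedStalk.exists_factor i p.ξ h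
        exact ClosedStalk.isIso_stalk_unit i F p.ξ ζ hζ
      · have hsrc := ClosedStalk.isZero_stalk_of_vanish i F hF p.ξ h
        have htgt := ClosedStalk.isZero_stalk_of_vanish i
          ((EtCoh.push i).obj ((EtCoh.pull i).obj F))
          (fun V hV => ClosedStalk.isZero_push_sections i _ V hV) p.ξ h
        exact ⟨⟨htgt.to_ _, hsrc.eq_of_src _ _, htgt.eq_of_src _ _⟩⟩
    exact ⟨(EtCoh.pull i).obj F, ⟨(asIso ((EtCoh.pullPushAdj i).unit.app F)).symm⟩⟩

end Groth.Agent.S0068
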