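import Groth.Statements.S0671
import Groth.Agent.Lib.Helper13.StalkConservative

set_option autoImplicit false
open CategoryTheory CategoryTheory.Limits AlgebraicGeometry Opposite
universe u
open EtCore

open Groth.Agent.Lib.Helper13.StalkConservative

namespace Groth.Agent.S0671

/-- For an abelian sheaf F on the small etale site of S and a section σ over an etale S-scheme U, the
support of σ is a closed subset of U; and a point of S has a nonzero geometric stalk exactly when it
is the image of a point lying in the support of some section over some etale S-scheme. -/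
theorem result {S : Scheme.{u}} (F : EtCoh.Ab S) :
    (∀ (U : S.Etale) (σ : EtCoh.sect F U), IsClosed (EtShriek.sectSupp F U σ)) ∧
    EtPBC.supp F = ⋃ (U : S.Etale) (σ : EtCoh.sect F U), U.hom.base '' EtShriek.sectSupp F U σ := by
  refine ⟨?_, ?_⟩
  · intro U σ
    rw [← isOpen_compl_iff, isOpen_iff_forall_mem_open]
    intro x hx
    have hx' : ¬ ∀ (W : S.Etale) (g : W ⟶ U), (∃ w : W.left, g.left.base w = x) →
        F.obj.map g.op σ ≠ 0 := hx
    push_neg at hx'
    obtain ⟨W, g, ⟨w, hw⟩, h0⟩ := hx'
    haveI : Etale g.left := inferInstance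
    refine ⟨Set.range g.left.base, ?_, g.left.isOpenMap.isOpen_range, ⟨w, hw⟩⟩
    rintro _ ⟨w', rfl⟩ hmem
    exact hmem W g ⟨w', rfl⟩ h0
  · ext x
    constructor
    · rintro ⟨Ω, _, _, ξ, hξ, hnz⟩
      obtain ⟨p, hp⟩ : ∃ p : ToType ((Scheme.pointSmallEtale ξ).presheafFiber.obj F.obj), p ≠ 0 := by
        by_contra hcon
        push_neg at hcon
        exact hnz (@AddCommGrpCat.isZero_of_subsingleton _
          ⟨fun a b => (hcon a).trans (hcon b).symm⟩)
      obtain ⟨U, ub, z, rfl⟩ := (Scheme.pointSmallEtale ξ).toPresheafFiber_jointly_surjective p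
      have hub : ub.left ≫ U.hom = ξ := Over.w ub
      refine Set.mem_iUnion.mpr ⟨U, Set.mem_iUnion.mpr ⟨z, ⟨ub.left.base (default : Spec (CommRingCat.of Ω)), ?_, ?_⟩⟩⟩
      · rintro W g ⟨w, hw⟩ h0
        haveI : Etale g.left := inferInstance
        obtain ⟨l, hl, -⟩ := Scheme.exists_fac_of_etale_of_isSepClosed g.left ub.left w hw
        have hgw : g.left ≫ U.hom = W.hom := MorphismProperty.Over.w g
        let wb : (Scheme.pointSmallEtale ξ).fiber.obj W := Over.homMk l (by
          show l ≫ W.hom = ξ
          calc l ≫ W.hom = l ≫ (g.left ≫ U.hom) := by rw [hgw]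
            _ = (l ≫ g.left) ≫ U.hom := (Category.assoc _ _ _).symm
            _ = ub.left ≫ U.hom := congrArg (· ≫ U.hom) hl
            _ = ξ := hub)
        have hfib : (Scheme.pointSmallEtale ξ).fiber.map g wb = ub := by
          apply Over.OverMorphism.ext
          exact hl
        apply hp
        rw [← hfib, ← (Scheme.pointSmallEtale ξ).toPresheafFiber_w_apply g wb F.obj z, h0]
        exact map_zero _
      · have h2 : U.hom.base (ub.left.base (default : Spec (CommRingCat.of Ω))) = ξ.base default := by
          exact congrArg (fun φ : Spec (CommRingCat.of Ω) ⟶ S => φ.base default) hub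
        have h3 : ξ.base default ∈ Set.range ξ := ⟨default, rfl⟩
        rw [hξ] at h3
        exact h2.trans h3
    · intro hx
      obtain ⟨U, hx⟩ := Set.mem_iUnion.mp hx
      obtain ⟨σ, u, hu, rfl⟩ := Set.mem_iUnion.mp hx
      let ub : Spec (CommRingCat.of (SeparableClosure (U.left.residueField u))) ⟶ U.left :=
        (Scheme.SpecToEquivOfField (SeparableClosure (U.left.residueField u)) _).2
          ⟨u, CommRingCat.ofHom (algebraMap (U.left.residueField u) _)⟩
      have hub : ub.base default = u := by simp [ub, Scheme.SpecToEquivOfField]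
      refine ⟨SeparableClosure (U.left.residueField u), inferInstance, inferInstance,
        ub ≫ U.hom, ?_, ?_⟩
      · ext y
        constructor
        · rintro ⟨a, rfl⟩
          obtain rfl : a = default := Subsingleton.elim _ _
          show U.hom.base (ub.base default) = U.hom.base u
          rw [hub]
        · rintro rfl
          exact ⟨default, by show U.hom.base (ub.base default) = U.hom.base u; rw [hub]⟩
      · intro hz
        let ue : (Scheme.pointSmallEtale (ub ≫ U.hom)).fiber.obj U := Over.homMk ub rfl
        haveI := AddCommGrpCat.subsingleton_of_isZero hz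
        have h0 : (Scheme.pointSmallEtale (ub ≫ U.hom)).toPresheafFiber U ue F.obj σ =
            (Scheme.pointSmallEtale (ub ≫ U.hom)).toPresheafFiber U ue F.obj 0 :=
          Subsingleton.elim (α := ((EtCoh.stalk (ub ≫ U.hom)).obj F : AddCommGrpCat)) _ _
        rw [(Scheme.pointSmallEtale (ub ≫ U.hom)).toPresheafFiber_eq_iff'] at h0
        obtain ⟨Y, f, y, hy, hf⟩ := h0
        refine hu Y f ⟨y.left.base (default : Spec (CommRingCat.of (SeparableClosure (U.left.residueField u)))), ?_⟩ (hf.trans (map_zero _))
        have h1 : y.left ≫ f.left = ub := congrArg (fun t => t.left) hy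
        exact (congrArg (fun φ : Spec (CommRingCat.of (SeparableClosure
          (U.left.residueField u))) ⟶ U.left => φ.base default) h1).trans hub

end Groth.Agent.S0671
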