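import Groth.Statements.S0108
import Mathlib
import Groth.Agent.Lib.Helper15.EtGlue
import Groth.Agent.Lib.Helper15.KummerRing

set_option autoImplicit false
open CategoryTheory CategoryTheory.Limits AlgebraicGeometry Opposite
universe u
open EtBase

namespace Groth.Agent.S0108


open Groth.Agent.Lib.Helper15

lemma nsmul_id_app {X : Scheme.{u}} (F : EtCoh.Ab X) (n : ℕ) (V : X.Etaleᵒᵖ) (y : F.obj.obj V) :
    (n • 𝟙 F : F ⟶ F).hom.app V y = n • y := by
  induction n with
  | zero => rw [zero_nsmul, zero_nsmul]; rfl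
  | succ k ih =>
    rw [succ_nsmul, Sheaf.Hom.add_app, succ_nsmul]
    show ((k • 𝟙 F : F ⟶ F).hom.app V) y + ((𝟙 F : F ⟶ F).hom.app V) y = _
    rw [ih]; rfl

/-- The Kummer sequence — when n is invertible on S, the n-th power map on the multiplicative group
sheaf is an epimorphism of étale sheaves (its kernel μ_n is, by definition in the prelude, the sheaf
of n-th roots of unity, so the sequence 0 → μ_n → G_m → G_m → 0 is exact). -/
theorem result (S : Scheme.{u}) (n : ℕ) (hn : IsUnit (n : Γ(S, ⊤))) : Epi (EtCoh.powMap S n) := by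
  rw [← Sheaf.isLocallySurjective_iff_epi' AddCommGrpCat.{u + 1}]
  constructor
  intro U x
  rw [EtGlue.mem_iff]
  intro p
  obtain ⟨R, j, hjo, ⟨p', hp'⟩, -⟩ :=
    Scheme.exists_affine_mem_range_and_range_subset (x := p) (U := ⊤) trivial
  haveI := hjo
  let x₀ : (Γ(U.left, ⊤))ˣ := Additive.toMul (ULift.down x)
  let ρ : Γ(U.left, ⊤) ⟶ R := j.appTop ≫ (Scheme.ΓSpecIso R).hom
  have hnR : IsUnit ((n : ℕ) : R) := by
    have := hn.map (U.hom.appTop ≫ ρ).hom
    rwa [map_natCast] at this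
  haveI : Nontrivial R := PrimeSpectrum.nontrivial p'
  have hn0 : n ≠ 0 := by
    rintro rfl
    rw [Nat.cast_zero, isUnit_zero_iff] at hnR
    exact zero_ne_one hnR
  let a : (R : Type u)ˣ := Units.map ρ.hom.toMonoidHom x₀
  let φ : R ⟶ CommRingCat.of (KummerRing.B a n) :=
    CommRingCat.ofHom (algebraMap R (KummerRing.B a n))
  haveI : Etale (Spec.map φ) := by
    rw [HasRingHomProperty.Spec_iff (P := @Etale)]
    exact RingHom.etale_algebraMap.mpr (KummerRing.etale a n hn0 hnR)
  let gl : Spec (CommRingCat.of (KummerRing.B a n)) ⟶ U.left := Spec.map φ ≫ j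
  let Z : S.Etale := Scheme.Etale.mk (gl ≫ U.hom)
  let g : Z ⟶ U := MorphismProperty.Over.homMk gl rfl trivial
  obtain ⟨z, hz⟩ := KummerRing.comap_surjective a n hn0 p'
  have hroot : IsUnit (AdjoinRoot.root (KummerRing.poly a n)) := by
    rw [← isUnit_pow_iff hn0, KummerRing.root_pow]
    exact a.isUnit.map (algebraMap R (KummerRing.B a n))
  let t : (Γ(Spec (CommRingCat.of (KummerRing.B a n)), ⊤))ˣ :=
    Units.map (Scheme.ΓSpecIso (CommRingCat.of (KummerRing.B a n))).inv.hom.toMonoidHom hroot.unit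
  have key : (Scheme.ΓSpecIso R).hom ≫ φ ≫ (Scheme.ΓSpecIso (CommRingCat.of (KummerRing.B a n))).inv =
      (Spec.map φ).appTop := by
    rw [Scheme.ΓSpecIso_inv_naturality, Iso.hom_inv_id_assoc]
  have happ : gl.appTop = j.appTop ≫ (Spec.map φ).appTop := Scheme.Hom.comp_appTop _ _
  have hval : (t : Γ(Spec (CommRingCat.of (KummerRing.B a n)), ⊤)) ^ n =
      gl.appTop.hom (x₀ : Γ(U.left, ⊤)) := by
    rw [happ, ← key]
    show ((Scheme.ΓSpecIso (CommRingCat.of (KummerRing.B a n))).inv.hom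
      (AdjoinRoot.root (KummerRing.poly a n))) ^ n =
      (Scheme.ΓSpecIso (CommRingCat.of (KummerRing.B a n))).inv.hom
        (algebraMap R (KummerRing.B a n) (ρ.hom (x₀ : Γ(U.left, ⊤))))
    rw [← map_pow, KummerRing.root_pow]
    rfl
  have ht : t ^ n = Units.map gl.appTop.hom.toMonoidHom x₀ := Units.ext hval
  refine ⟨Z, g, z, ⟨ULift.up (Additive.ofMul t), ?_⟩, ?_⟩
  · have h1 := nsmul_id_app (EtCoh.Gm S) n (op Z) (ULift.up (Additive.ofMul t))
    refine Eq.trans h1 ?_
    show ULift.up (Additive.ofMul (t ^ n)) = ULift.up (Additive.ofMul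
      (Units.map gl.appTop.hom.toMonoidHom x₀))
    rw [ht]
  · show j.base ((Spec.map φ).base z) = p
    rw [← hp']
    exact congrArg j.base hz

end Groth.Agent.S0108
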