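import Groth.Statements.S3244
import Mathlib
import Groth.Agent.S0108

set_option autoImplicit false
universe u
open CategoryTheory AlgebraicGeometry
open Dix

namespace Groth.Agent.S3244


lemma isUnit_of_invertibleOn (X : Scheme.{u}) (n : ℕ) (hX : Dix.InvertibleOn X n) :
    IsUnit (n : Γ(X, ⊤)) := by
  refine X.toLocallyRingedSpace.toRingedSpace.isUnit_of_isUnit_germ ⊤ _ ?_
  intro x hx
  have h1 : x ∈ X.basicOpen (n : Γ(X, ⊤)) :=
    (X.evaluation_ne_zero_iff_mem_basicOpen (U := ⊤) x trivial (n : Γ(X, ⊤))).mp (by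
      rw [map_natCast]; exact hX x)
  exact (Scheme.mem_basicOpen X _ x hx).mp h1

instance (X : Scheme.{u}) (i : ℕ) : (EtCoh.HF X i).Additive := by
  unfold EtCoh.HF
  infer_instance

/-- Kummer theory at finite level: let n > 0 be an integer invertible on the scheme X (nonzero in every
residue field). Then for every i ≥ 1 the image of H^i(X_ét, μ_n) → H^i(X_ét, G_m), induced by the
inclusion μ_n → G_m, is exactly the subgroup of elements of H^i(X_ét, G_m) killed by n; in
particular H²(X_ét, μ_n) maps onto the n-torsion of the cohomological Brauer group H²(X_ét, G_m).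
(The published statement gives exact sequences obtained as the colimit of these over the powers n =
ℓ^m of a prime ℓ.) -/
theorem result (X : Scheme.{u}) (n : ℕ) (hn : 0 < n) (hX : Dix.InvertibleOn X n) (i : ℕ) (hi : 1 ≤ i) : Set.range ⇑((EtCoh.HF X i).map (EtCoh.muι X n)) = {ξ : (EtCoh.HF X i).obj (EtCoh.Gm X) | n • ξ = 0} := by
  have hu := isUnit_of_invertibleOn X n hX
  haveI : Epi (EtCoh.powMap X n) := Groth.Agent.S0108.result X n hu
  let S : ShortComplex (EtCoh.Ab X) :=
    ShortComplex.mk (EtCoh.muι X n) (EtCoh.powMap X n) (Limits.kernel.condition _)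
  have hS : S.ShortExact :=
    { exact := ShortComplex.exact_of_f_is_kernel _ (Limits.kernelIsKernel _)
      mono_f := by
        show Mono (EtCoh.muι X n)
        unfold EtCoh.muι
        exact Limits.equalizer.ι_mono
      epi_g := by dsimp [S]; infer_instance }
  have hpow : (EtCoh.HF X i).map (EtCoh.powMap X n) = n • 𝟙 _ := by
    unfold EtCoh.powMap
    rw [Functor.map_nsmul, CategoryTheory.Functor.map_id]
  have hn_smul : ∀ ζ : (EtCoh.HF X i).obj (EtCoh.Gm X),
      (EtCoh.HF X i).map (EtCoh.powMap X n) ζ = n • ζ := by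
    intro ζ
    rw [hpow]
    rfl
  ext ξ
  simp only [Set.mem_range, Set.mem_setOf_eq]
  constructor
  · rintro ⟨η, rfl⟩
    rw [← hn_smul, ← ConcreteCategory.comp_apply, ← Functor.map_comp]
    have h0 : EtCoh.muι X n ≫ EtCoh.powMap X n = 0 := Limits.kernel.condition _
    rw [h0, Functor.map_zero]
    rfl
  · intro h
    rw [← hn_smul] at h
    obtain ⟨η, hη⟩ := Abelian.Ext.covariant_sequence_exact₂ _ hS (n := i) ξ h
    exact ⟨η, hη⟩

end Groth.Agent.S3244
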