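import Groth.Statements.S3246
import Mathlib
import Groth.Agent.S3244

set_option autoImplicit false
universe u
open CategoryTheory AlgebraicGeometry
open Dix

namespace Groth.Agent.S3246


open CategoryTheory.Limits Opposite Groth.Agent.Lib.Helper15

lemma killed_kernel (X : Scheme.{u}) (m : ℕ) (U : X.Etaleᵒᵖ)
    (s : (kernel (EtCoh.powMap X m)).obj.obj U) : m • s = 0 := by
  apply EtGlue.injective_of_mono_ab (kernel.ι (EtCoh.powMap X m)) U
  rw [map_nsmul, map_zero, ← Groth.Agent.S0108.nsmul_id_app (EtCoh.Gm X) m U]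
  have h0 : kernel.ι (EtCoh.powMap X m) ≫ (m • 𝟙 (EtCoh.Gm X)) = 0 :=
    kernel.condition (EtCoh.powMap X m)
  exact congrArg (fun φ : kernel (EtCoh.powMap X m) ⟶ EtCoh.Gm X => φ.hom.app U s) h0

lemma killed_cokernel (X : Scheme.{u}) (m : ℕ) (U : X.Etaleᵒᵖ)
    (c : (cokernel (EtCoh.powMap X m)).obj.obj U) : m • c = 0 := by
  have h0 : (m • 𝟙 (cokernel (EtCoh.powMap X m)) :
      cokernel (EtCoh.powMap X m) ⟶ cokernel (EtCoh.powMap X m)) = 0 := by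
    rw [← cancel_epi (cokernel.π (EtCoh.powMap X m)), comp_zero, Preadditive.comp_nsmul,
      Category.comp_id]
    have h1 : (m • 𝟙 (EtCoh.Gm X)) ≫ cokernel.π (EtCoh.powMap X m) = 0 :=
      cokernel.condition (EtCoh.powMap X m)
    rw [Preadditive.nsmul_comp, Category.id_comp] at h1
    exact h1
  rw [← Groth.Agent.S0108.nsmul_id_app (cokernel (EtCoh.powMap X m)) m U c, h0]
  rfl

lemma isPrimaryTorsion_of_killed {X : Scheme.{u}} (ℓ k : ℕ) (F : EtCoh.Ab X)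
    (h : ∀ (U : X.Etaleᵒᵖ) (s : F.obj.obj U), ℓ ^ k • s = 0) : Dix.IsPrimaryTorsion ℓ F := by
  intro U s x
  exact ⟨U, 𝟙 U, ⟨x, rfl⟩, k, h _ _⟩

/-- Let X be a scheme, ℓ a prime and n an integer with cd_ℓ(X) ≤ n (étale cohomology of ℓ-primary
torsion sheaves vanishes above degree n). Then the ℓ-primary torsion of H^i(X_ét, G_m) is zero for i
> n + 1; if moreover ℓ is invertible on X, it is zero for i > n. -/
theorem result (X : Scheme.{u}) (ℓ : ℕ) (hℓ : ℓ.Prime) (n : ℕ) (hcd : Dix.CohDimLEAt X ℓ n) : (∀ i : ℕ, n + 1 < i → ∀ ξ : EtCoh.H X (EtCoh.Gm X) i, (∃ k : ℕ, ℓ ^ k • ξ = 0) → ξ = 0) ∧ (Dix.InvertibleOn X ℓ → ∀ i : ℕ, n < i → ∀ ξ : EtCoh.H X (EtCoh.Gm X) i, (∃ k : ℕ, ℓ ^ k • ξ = 0) → ξ = 0) := by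
  have key : ∀ (m i : ℕ) (ζ : (EtCoh.HF X i).obj (EtCoh.Gm X)),
      (EtCoh.HF X i).map (EtCoh.powMap X m) ζ = m • ζ := by
    intro m i ζ
    have hpow : (EtCoh.HF X i).map (EtCoh.powMap X m) = m • 𝟙 _ := by
      unfold EtCoh.powMap
      rw [Functor.map_nsmul, CategoryTheory.Functor.map_id]
    rw [hpow]
    rfl
  refine ⟨?_, ?_⟩
  · rintro i hi ξ ⟨k, hk⟩
    obtain ⟨j, rfl⟩ : ∃ j, i = j + 1 := ⟨i - 1, by omega⟩
    have hj : n < j := by omega
    have hp : Abelian.factorThruImage (EtCoh.powMap X (ℓ ^ k)) ≫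
        Abelian.image.ι (EtCoh.powMap X (ℓ ^ k)) = EtCoh.powMap X (ℓ ^ k) :=
      Abelian.image.fac _
    have w₁ : kernel.ι (EtCoh.powMap X (ℓ ^ k)) ≫
        Abelian.factorThruImage (EtCoh.powMap X (ℓ ^ k)) = 0 := by
      rw [← cancel_mono (Abelian.image.ι (EtCoh.powMap X (ℓ ^ k))), Category.assoc, hp,
        kernel.condition, zero_comp]
    let S₁ : ShortComplex (EtCoh.Ab X) := ShortComplex.mk (kernel.ι (EtCoh.powMap X (ℓ ^ k)))
      (Abelian.factorThruImage (EtCoh.powMap X (ℓ ^ k))) w₁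
    have hS₁ : S₁.ShortExact :=
      { exact := ShortComplex.exact_of_f_is_kernel _
          (isKernelOfComp (Abelian.image.ι (EtCoh.powMap X (ℓ ^ k))) (EtCoh.powMap X (ℓ ^ k))
            (kernelIsKernel (EtCoh.powMap X (ℓ ^ k))) w₁ hp)
        mono_f := equalizer.ι_mono
        epi_g := by dsimp [S₁]; infer_instance }
    let S₂ : ShortComplex (EtCoh.Ab X) :=
      ShortComplex.mk (Abelian.image.ι (EtCoh.powMap X (ℓ ^ k)))
        (cokernel.π (EtCoh.powMap X (ℓ ^ k))) (kernel.condition _)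
    have hS₂ : S₂.ShortExact :=
      { exact := ShortComplex.exact_of_f_is_kernel _ (kernelIsKernel _)
        mono_f := equalizer.ι_mono
        epi_g := by dsimp [S₂]; infer_instance }
    have hK : Dix.IsPrimaryTorsion ℓ (kernel (EtCoh.powMap X (ℓ ^ k))) :=
      isPrimaryTorsion_of_killed ℓ k _ (killed_kernel X (ℓ ^ k))
    have hC : Dix.IsPrimaryTorsion ℓ (cokernel (EtCoh.powMap X (ℓ ^ k))) :=
      isPrimaryTorsion_of_killed ℓ k _ (killed_cokernel X (ℓ ^ k))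
    haveI sK : Subsingleton (EtCoh.H X (kernel (EtCoh.powMap X (ℓ ^ k))) (j + 1)) :=
      hcd _ hK _ (by omega)
    haveI sC : Subsingleton (EtCoh.H X (cokernel (EtCoh.powMap X (ℓ ^ k))) j) := hcd _ hC _ hj
    have h1 : Sheaf.H.map (EtCoh.powMap X (ℓ ^ k)) (j + 1) ξ = 0 := (key _ _ ξ).trans hk
    have h2 : Sheaf.H.map (Abelian.image.ι (EtCoh.powMap X (ℓ ^ k))) (j + 1)
        (Sheaf.H.map (Abelian.factorThruImage (EtCoh.powMap X (ℓ ^ k))) (j + 1) ξ) = 0 := by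
      rw [← Sheaf.H.map_comp_apply, hp]; exact h1
    obtain ⟨x₃, hx₃⟩ := Abelian.Ext.covariant_sequence_exact₁ _ hS₂
      (Sheaf.H.map (Abelian.factorThruImage (EtCoh.powMap X (ℓ ^ k))) (j + 1) ξ) h2
      (rfl : j + 1 = j + 1)
    have h3 : Sheaf.H.map (Abelian.factorThruImage (EtCoh.powMap X (ℓ ^ k))) (j + 1) ξ = 0 := by
      rw [← hx₃, Subsingleton.elim x₃ 0, Abelian.Ext.zero_comp]
    obtain ⟨x₁, hx₁⟩ := Abelian.Ext.covariant_sequence_exact₂ _ hS₁ ξ h3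
    rw [← hx₁, Subsingleton.elim x₁ 0, Abelian.Ext.zero_comp]
  · rintro hinv i hi ξ ⟨k, hk⟩
    have hpos : 0 < ℓ ^ k := Nat.pos_of_ne_zero (pow_ne_zero k hℓ.ne_zero)
    have hinv' : Dix.InvertibleOn X (ℓ ^ k) := fun x => by
      rw [Nat.cast_pow]; exact pow_ne_zero k (hinv x)
    have hmem : ξ ∈ {ξ : (EtCoh.HF X i).obj (EtCoh.Gm X) | (ℓ ^ k) • ξ = 0} := hk
    rw [← Groth.Agent.S3244.result X (ℓ ^ k) hpos hinv' i (by omega)] at hmem
    obtain ⟨η, rfl⟩ := hmem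
    have hK : Dix.IsPrimaryTorsion ℓ (EtCoh.mu X (ℓ ^ k)) :=
      isPrimaryTorsion_of_killed ℓ k _ (killed_kernel X (ℓ ^ k))
    have hη : η = 0 :=
      @Subsingleton.elim (EtCoh.H X (EtCoh.mu X (ℓ ^ k)) i) (hcd _ hK _ hi) η 0
    rw [hη]
    exact map_zero _

end Groth.Agent.S3246
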