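import Groth.Statements.S13507
import Mathlib
import Groth.Agent.S3246

set_option autoImplicit false
universe u
open CategoryTheory CategoryTheory.Limits AlgebraicGeometry
open EtCore

namespace Groth.Agent.S13507

open Opposite Groth.Agent.Lib.Helper15

lemma aeval_map_int {A B : Type*} [CommRing A] [CommRing B] (f : A →+* B) (a : A)
    (p : Polynomial ℤ) : Polynomial.aeval (f a) p = f (Polynomial.aeval a p) := by
  rw [Polynomial.aeval_def, Polynomial.aeval_def, Polynomial.hom_eval₂]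
  congr 1
  exact Subsingleton.elim _ _

lemma isPrimitiveRoot_of_aeval {K : Type*} [Field K] (n : ℕ) (hn : (n : K) ≠ 0) (z : K)
    (hz : Polynomial.aeval z (Polynomial.cyclotomic n ℤ) = 0) : IsPrimitiveRoot z n := by
  haveI : NeZero (n : K) := ⟨hn⟩
  rw [← Polynomial.isRoot_cyclotomic_iff, Polynomial.IsRoot.def,
    ← Polynomial.map_cyclotomic_int n K, Polynomial.eval_map, ← algebraMap_int_eq,
    ← Polynomial.aeval_def]
  exact hz

lemma pow_eq_one_of_aeval {R : Type*} [CommRing R] (n : ℕ) (z : R)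
    (hz : Polynomial.aeval z (Polynomial.cyclotomic n ℤ) = 0) : z ^ n = 1 := by
  obtain ⟨q, hq⟩ := Polynomial.cyclotomic.dvd_X_pow_sub_one n ℤ
  have h := congrArg (Polynomial.aeval z) hq
  rw [map_mul, hz, zero_mul, map_sub, map_pow, Polynomial.aeval_X, map_one] at h
  exact sub_eq_zero.mp h

lemma isUnit_of_basicOpen_eq_top (X : Scheme.{u}) (f : Γ(X, ⊤)) (h : X.basicOpen f = ⊤) :
    IsUnit f := by
  refine X.toLocallyRingedSpace.toRingedSpace.isUnit_of_isUnit_germ ⊤ _ ?_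
  intro x hx
  have h1 : x ∈ X.basicOpen f := by rw [h]; trivial
  exact (Scheme.mem_basicOpen X _ x hx).mp h1

/-- residue-field data at a point -/
lemma isPrimitiveRoot_eval (V : Scheme.{u}) (n : ℕ) (hu : IsUnit (n : Γ(V, ⊤)))
    (ζ : Γ(V, ⊤)) (hζ : Polynomial.aeval ζ (Polynomial.cyclotomic n ℤ) = 0) (x : V) :
    IsPrimitiveRoot ((V.evaluation ⊤ x trivial).hom ζ) n := by
  have hnK : ((n : ℕ) : V.residueField x) ≠ 0 := by
    have h := hu.map (V.evaluation ⊤ x trivial).hom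
    rw [map_natCast] at h
    exact h.ne_zero
  apply isPrimitiveRoot_of_aeval n hnK
  rw [aeval_map_int, hζ, map_zero]

lemma dvd_of_pow_eq_one (V : Scheme.{u}) (n : ℕ) (hu : IsUnit (n : Γ(V, ⊤)))
    (ζ : Γ(V, ⊤)) (hζ : Polynomial.aeval ζ (Polynomial.cyclotomic n ℤ) = 0) (x : V)
    (k : ℕ) (hk : ζ ^ k = 1) : n ∣ k := by
  apply (isPrimitiveRoot_eval V n hu ζ hζ x).dvd_of_pow_eq_one k
  rw [← map_pow, hk, map_one]

lemma exists_open_eq_pow (V : Scheme.{u}) (n : ℕ) (hn : 0 < n) (hu : IsUnit (n : Γ(V, ⊤)))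
    (ζ : Γ(V, ⊤)) (hζ : Polynomial.aeval ζ (Polynomial.cyclotomic n ℤ) = 0)
    (a : Γ(V, ⊤)) (ha : a ^ n = 1) (x : V) :
    ∃ (W : V.Opens) (i : ℕ), x ∈ W ∧ W.ι.appTop.hom a = W.ι.appTop.hom (ζ ^ i) := by
  haveI : NeZero n := ⟨hn.ne'⟩
  have hprim := isPrimitiveRoot_eval V n hu ζ hζ x
  have hnK : ((n : ℕ) : V.residueField x) ≠ 0 := by
    have h := hu.map (V.evaluation ⊤ x trivial).hom
    rw [map_natCast] at h
    exact h.ne_zero
  have haK : ((V.evaluation ⊤ x trivial).hom a) ^ n = 1 := by rw [← map_pow, ha, map_one]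
  obtain ⟨i, -, hi⟩ := hprim.eq_pow_of_pow_eq_one haK
  have hζn : ζ ^ n = 1 := pow_eq_one_of_aeval n ζ hζ
  obtain ⟨w, hwdef⟩ : ∃ w : Γ(V, ⊤), w = ∑ j ∈ Finset.range n, a ^ j * (ζ ^ i) ^ (n - 1 - j) :=
    ⟨_, rfl⟩
  have hw : w * (a - ζ ^ i) = 0 := by
    rw [hwdef, geom_sum₂_mul, ha, ← pow_mul, mul_comm i n, pow_mul, hζn, one_pow, sub_self]
  have ha0 : (V.evaluation ⊤ x trivial).hom a ≠ 0 := by
    intro h0
    rw [h0, zero_pow hn.ne'] at haK
    exact zero_ne_one haK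
  have hevw : (V.evaluation ⊤ x trivial).hom w =
      (n : V.residueField x) * ((V.evaluation ⊤ x trivial).hom a) ^ (n - 1) := by
    rw [hwdef, map_sum]
    have hterm : ∀ j ∈ Finset.range n,
        (V.evaluation ⊤ x trivial).hom (a ^ j * (ζ ^ i) ^ (n - 1 - j)) =
          ((V.evaluation ⊤ x trivial).hom a) ^ (n - 1) := by
      intro j hj
      rw [map_mul, map_pow, map_pow, map_pow, hi, ← pow_add]
      congr 1
      have := Finset.mem_range.mp hj
      omega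
    rw [Finset.sum_congr rfl hterm, Finset.sum_const, Finset.card_range, nsmul_eq_mul]
  have hne : (V.evaluation ⊤ x trivial).hom w ≠ 0 := by
    rw [hevw]
    exact mul_ne_zero hnK (pow_ne_zero _ ha0)
  have hxw : x ∈ V.basicOpen w :=
    (V.evaluation_ne_zero_iff_mem_basicOpen (U := ⊤) x trivial w).mp hne
  refine ⟨V.basicOpen w, i, hxw, ?_⟩
  have htop : (V.basicOpen w : Scheme.{u}).basicOpen ((V.basicOpen w).ι.appTop.hom w) = ⊤ :=
    (Scheme.preimage_basicOpen_top (V.basicOpen w).ι w).symm.trans (V.basicOpen w).ι_preimage_self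
  have hunit := isUnit_of_basicOpen_eq_top _ _ htop
  have h0 : (V.basicOpen w).ι.appTop.hom w *
      ((V.basicOpen w).ι.appTop.hom a - (V.basicOpen w).ι.appTop.hom (ζ ^ i)) = 0 := by
    rw [← map_sub, ← map_mul, hw, map_zero]
  exact sub_eq_zero.mp ((hunit.mul_right_eq_zero).mp h0)

section sheafpart

variable (S : Scheme.{u})

/-- The terminal object of the small etale site. -/
noncomputable abbrev T : S.Etale := Scheme.Etale.mk (𝟙 S)

noncomputable def toT (U : S.Etale) : U ⟶ T S :=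
  MorphismProperty.Over.homMk U.hom (Category.comp_id _) trivial

lemma toT_unique (U : S.Etale) (g : U ⟶ T S) : g = toT S U := by
  apply MorphismProperty.Over.Hom.ext
  have h : g.left ≫ 𝟙 S = U.hom := MorphismProperty.Over.w g
  exact (Category.comp_id _).symm.trans h

variable {S} {n : ℕ} (ζS : (Γ(S, ⊤))ˣ) (hζS : ζS ^ n = 1)

noncomputable def zhom : ZMod n →+ Additive (Γ(S, ⊤))ˣ :=
  ZMod.lift n ⟨zmultiplesHom _ (Additive.ofMul ζS), by
    rw [zmultiplesHom_apply, natCast_zsmul, ← ofMul_pow, hζS]; rfl⟩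

lemma zhom_natCast (m : ℕ) : zhom ζS hζS (m : ZMod n) = Additive.ofMul (ζS ^ m) := by
  unfold zhom
  have hm : ((m : ℕ) : ZMod n) = ((m : ℤ) : ZMod n) := (Int.cast_natCast m).symm
  rw [hm, ZMod.lift_coe]
  show zmultiplesHom _ (Additive.ofMul ζS) (m : ℤ) = _
  rw [zmultiplesHom_apply, natCast_zsmul, ofMul_pow]

noncomputable def cHom : AddCommGrpCat.of (ULift.{u + 1} (ZMod n)) ⟶
    (EtCoh.Gm S).obj.obj (op (T S)) :=
  AddCommGrpCat.ofHom
    ((AddEquiv.ulift.symm : Additive (Γ(S, ⊤))ˣ ≃+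
      ULift.{u + 1} (Additive (Γ(S, ⊤))ˣ)).toAddMonoidHom.comp
      ((zhom ζS hζS).comp (AddEquiv.ulift : ULift.{u + 1} (ZMod n) ≃+ ZMod n).toAddMonoidHom))

noncomputable def alpha : (Functor.const S.Etaleᵒᵖ).obj (AddCommGrpCat.of (ULift.{u + 1} (ZMod n))) ⟶
    (EtCoh.Gm S).obj where
  app U := cHom ζS hζS ≫ (EtCoh.Gm S).obj.map (toT S U.unop).op
  naturality U V f := by
    dsimp
    rw [Category.id_comp, Category.assoc, ← Functor.map_comp]
    have h : (toT S V.unop).op = (toT S U.unop).op ≫ f := by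
      show (toT S V.unop).op = (f.unop ≫ toT S U.unop).op
      rw [toT_unique S _ (f.unop ≫ toT S U.unop)]
    rw [h]

lemma alpha_app (U : S.Etale) (m : ℕ) :
    (alpha ζS hζS).app (op U) (ULift.up (m : ZMod n)) =
      ULift.up (Additive.ofMul ((Units.map U.hom.appTop.hom.toMonoidHom ζS) ^ m)) := by
  show (EtCoh.Gm S).obj.map (toT S U).op (cHom ζS hζS (ULift.up (m : ZMod n))) = _
  have h1 : cHom ζS hζS (ULift.up (m : ZMod n)) = ULift.up (Additive.ofMul (ζS ^ m)) := by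
    show ULift.up (zhom ζS hζS (m : ZMod n)) = _
    rw [zhom_natCast]
  rw [h1]
  show ULift.up (Additive.ofMul (Units.map U.hom.appTop.hom.toMonoidHom (ζS ^ m))) = _
  rw [map_pow]

noncomputable def psi' : EtCoh.const S (ZMod n) ⟶ EtCoh.Gm S :=
  ⟨sheafifyLift S.smallEtaleTopology (alpha ζS hζS) (EtCoh.Gm S).property⟩

lemma toSheafify_psi' : toSheafify S.smallEtaleTopology _ ≫ (psi' ζS hζS).hom = alpha ζS hζS :=
  toSheafify_sheafifyLift _ _ _

lemma psi'_toSheafify_app (U : S.Etale) (m : ℕ) :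
    (psi' ζS hζS).hom.app (op U)
      ((toSheafify S.smallEtaleTopology
        ((Functor.const S.Etaleᵒᵖ).obj (AddCommGrpCat.of (ULift.{u + 1} (ZMod n))))).app (op U)
        (ULift.up (m : ZMod n))) =
      ULift.up (Additive.ofMul ((Units.map U.hom.appTop.hom.toMonoidHom ζS) ^ m)) := by
  rw [← alpha_app ζS hζS U m, ← toSheafify_psi' ζS hζS]
  rfl

end sheafpart

section sheafpart2

variable {S : Scheme.{u}} {n : ℕ} (ζS : (Γ(S, ⊤))ˣ) (hζS : ζS ^ n = 1)

lemma psi'_pow : psi' ζS hζS ≫ EtCoh.powMap S n = 0 := by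
  apply Sheaf.hom_ext
  apply sheafify_hom_ext _ _ _ (EtCoh.Gm S).property
  show (toSheafify S.smallEtaleTopology _ ≫ (psi' ζS hζS).hom) ≫ (EtCoh.powMap S n).hom =
    toSheafify S.smallEtaleTopology _ ≫ 0
  rw [toSheafify_psi', comp_zero]
  ext U x
  show (EtCoh.powMap S n).hom.app U ((alpha ζS hζS).app U x) = 0
  unfold EtCoh.powMap
  rw [Groth.Agent.S0108.nsmul_id_app, ← map_nsmul]
  have hx : n • x = 0 := by
    apply ULift.ext
    show n • x.down = 0
    rw [nsmul_eq_mul, ZMod.natCast_self, zero_mul]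
  rw [hx, map_zero]

noncomputable def psi : EtCoh.const S (ZMod n) ⟶ EtCoh.mu S n :=
  kernel.lift (EtCoh.powMap S n) (psi' ζS hζS) (psi'_pow ζS hζS)

lemma psi_ι : psi ζS hζS ≫ kernel.ι (EtCoh.powMap S n) = psi' ζS hζS := kernel.lift_ι _ _ _

lemma mono_psi' (hn : 0 < n) (hunit : IsUnit (n : Γ(S, ⊤)))
    (hζ : Polynomial.aeval (ζS : Γ(S, ⊤)) (Polynomial.cyclotomic n ℤ) = 0) :
    Mono (psi' ζS hζS) := by
  haveI : NeZero n := ⟨hn.ne'⟩
  apply EtGlue.mono_of_injective_ab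
  rintro ⟨U⟩
  rw [injective_iff_map_eq_zero]
  intro s hs
  apply EtGlue.eq_of_locally_ab (EtCoh.const S (ZMod n)) (U := U) s 0
  intro p
  have hmem := Presheaf.imageSieve_mem S.smallEtaleTopology
    (toSheafify S.smallEtaleTopology
      ((Functor.const S.Etaleᵒᵖ).obj (AddCommGrpCat.of (ULift.{u + 1} (ZMod n))))) (U := op U) s
  rw [EtGlue.mem_iff] at hmem
  obtain ⟨Z, g, z, ⟨t, ht⟩, hz⟩ := hmem p
  refine ⟨Z, g, z, hz, ?_⟩
  obtain ⟨m, hm⟩ := ZMod.natCast_zmod_surjective (n := n) (ULift.down t)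
  have ht' : t = ULift.up (m : ZMod n) := by apply ULift.ext; exact hm.symm
  have h1 : (psi' ζS hζS).hom.app (op Z)
      ((toSheafify S.smallEtaleTopology
        ((Functor.const S.Etaleᵒᵖ).obj (AddCommGrpCat.of (ULift.{u + 1} (ZMod n))))).app (op Z) t)
        = 0 := by
    refine (congrArg ((psi' ζS hζS).hom.app (op Z)) ht).trans ?_
    refine (EtGlue.ab_hom_nat (psi' ζS hζS) g.op s).trans ?_
    rw [hs, map_zero]
  rw [ht', psi'_toSheafify_app] at h1
  have h2 : (Units.map Z.hom.appTop.hom.toMonoidHom ζS) ^ m = 1 := congrArg ULift.down h1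
  have h3 : (Z.hom.appTop.hom (ζS : Γ(S, ⊤))) ^ m = 1 := by
    have := congrArg Units.val h2
    simpa using this
  have hunitZ : IsUnit ((n : ℕ) : Γ(Z.left, ⊤)) := by
    have := hunit.map Z.hom.appTop.hom
    rwa [map_natCast] at this
  have hdvd : n ∣ m := dvd_of_pow_eq_one Z.left n hunitZ
    (Z.hom.appTop.hom (ζS : Γ(S, ⊤))) (by rw [aeval_map_int, hζ, map_zero]) z m h3
  have hm0 : (m : ZMod n) = 0 := (ZMod.natCast_eq_zero_iff m n).mpr hdvd
  rw [map_zero]
  refine ht.symm.trans ?_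
  rw [ht', hm0]
  exact map_zero _

lemma epi_psi (hn : 0 < n) (hunit : IsUnit (n : Γ(S, ⊤)))
    (hζ : Polynomial.aeval (ζS : Γ(S, ⊤)) (Polynomial.cyclotomic n ℤ) = 0) :
    Epi (psi ζS hζS) := by
  rw [← Sheaf.isLocallySurjective_iff_epi' AddCommGrpCat.{u + 1}]
  constructor
  intro U t
  rw [EtGlue.mem_iff]
  intro p
  obtain ⟨v, hv⟩ : ∃ v, v = (kernel.ι (EtCoh.powMap S n)).hom.app (op U) t := ⟨_, rfl⟩
  have hk : n • t = 0 := Groth.Agent.S3246.killed_kernel S n (op U) t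
  have hnv : n • v = 0 := by
    rw [hv, ← map_nsmul]
    exact (congrArg ((kernel.ι (EtCoh.powMap S n)).hom.app (op U)) hk).trans (map_zero _)
  obtain ⟨a, ha⟩ : ∃ a : (Γ(U.left, ⊤))ˣ, a = Additive.toMul (ULift.down v) := ⟨_, rfl⟩
  have han : a ^ n = 1 := by
    have h := congrArg (fun y => Additive.toMul (ULift.down y)) hnv
    rw [ha]
    exact h
  have hunitU : IsUnit ((n : ℕ) : Γ(U.left, ⊤)) := by
    have := hunit.map U.hom.appTop.hom
    rwa [map_natCast] at this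
  have hζU : Polynomial.aeval (U.hom.appTop.hom (ζS : Γ(S, ⊤))) (Polynomial.cyclotomic n ℤ) = 0 := by
    rw [aeval_map_int, hζ, map_zero]
  obtain ⟨W, i, hpW, hWi⟩ := exists_open_eq_pow U.left n hn hunitU _ hζU (a : Γ(U.left, ⊤))
    (by rw [← Units.val_pow_eq_pow_val, han, Units.val_one]) p
  let Z : S.Etale := Scheme.Etale.mk (W.ι ≫ U.hom)
  let g : Z ⟶ U := MorphismProperty.Over.homMk W.ι rfl trivial
  refine ⟨Z, g, ⟨p, hpW⟩, ⟨(toSheafify S.smallEtaleTopology
      ((Functor.const S.Etaleᵒᵖ).obj (AddCommGrpCat.of (ULift.{u + 1} (ZMod n))))).app (op Z)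
        (ULift.up (i : ZMod n)), ?_⟩, rfl⟩
  apply EtGlue.injective_of_mono_ab (kernel.ι (EtCoh.powMap S n)) (op Z)
  have hL : ∀ x, (kernel.ι (EtCoh.powMap S n)).hom.app (op Z) ((psi ζS hζS).hom.app (op Z) x) =
      (psi' ζS hζS).hom.app (op Z) x := fun x =>
    congrArg (fun φ : EtCoh.const S (ZMod n) ⟶ EtCoh.Gm S => φ.hom.app (op Z) x) (psi_ι ζS hζS)
  refine (hL _).trans ?_
  rw [psi'_toSheafify_app]
  refine Eq.trans ?_ (EtGlue.ab_hom_nat (kernel.ι (EtCoh.powMap S n)) g.op t).symm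
  rw [← hv]
  have hR : (EtCoh.Gm S).obj.map g.op v =
      ULift.up (Additive.ofMul (Units.map W.ι.appTop.hom.toMonoidHom a)) := by
    rw [ha]; rfl
  refine Eq.trans ?_ hR.symm
  congr 2
  apply Units.ext
  show (Z.hom.appTop.hom (ζS : Γ(S, ⊤))) ^ i = W.ι.appTop.hom (a : Γ(U.left, ⊤))
  rw [hWi, map_pow]
  congr 1

end sheafpart2

/-- Let S be a scheme and n ≥ 1 with n invertible in the ring of global functions Γ(S, O_S). If Γ(S,
O_S) contains a root ζ of the n-th cyclotomic polynomial, then the sheaf μ_n of n-th roots of unity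
on the small étale site of S is isomorphic to the constant sheaf with value Z/n (existence of an
isomorphism only; the published isomorphism is the one sending 1 to ζ). -/
theorem result (S : Scheme.{u}) (n : ℕ) (hn : 1 ≤ n)
    (hunit : IsUnit (n : Γ(S, ⊤))) (ζ : Γ(S, ⊤))
    (hζ : Polynomial.aeval ζ (Polynomial.cyclotomic n ℤ) = 0) :
    Nonempty (EtCoh.mu S n ≅ EtCoh.const S (ZMod n)) := by
  have hpos : 0 < n := hn
  have hζn : ζ ^ n = 1 := pow_eq_one_of_aeval n ζ hζ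
  obtain ⟨ζS, hζSval⟩ : ∃ ζS : (Γ(S, ⊤))ˣ, (ζS : Γ(S, ⊤)) = ζ :=
    ⟨Units.ofPowEqOne ζ n hζn hpos.ne', rfl⟩
  have hζS : ζS ^ n = 1 := by
    apply Units.ext
    rw [Units.val_pow_eq_pow_val, hζSval, hζn]
    rfl
  have hζ' : Polynomial.aeval (ζS : Γ(S, ⊤)) (Polynomial.cyclotomic n ℤ) = 0 := by
    rw [hζSval]; exact hζ
  have := mono_psi' ζS hζS hpos hunit hζ'
  have : Mono (psi ζS hζS) := mono_of_mono_fac (psi_ι ζS hζS)
  have := epi_psi ζS hζS hpos hunit hζ'
  have : IsIso (psi ζS hζS) := isIso_of_mono_of_epi _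
  exact ⟨(asIso (psi ζS hζS)).symm⟩

end Groth.Agent.S13507
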