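import Groth.Statements.S10831
import Mathlib

set_option autoImplicit false
universe u
open Topology TopologicalSpace
open TopDim

namespace Groth.Agent.S10831

theorem isIrreducible_preimage_val {X : Type u} [TopologicalSpace X] (Y : Set X) (w : Set X)
    (hw : IsIrreducible w) (h : w ⊆ Y) : IsIrreducible (Subtype.val ⁻¹' w : Set ↥Y) := by
  obtain ⟨⟨x, hx⟩, hpre⟩ := hw
  refine ⟨⟨⟨x, h hx⟩, hx⟩, ?_⟩
  intro u v hu hv ⟨a, ha1, ha2⟩ ⟨b, hb1, hb2⟩
  obtain ⟨u', hu', rfl⟩ := isOpen_induced_iff.mp hu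
  obtain ⟨v', hv', rfl⟩ := isOpen_induced_iff.mp hv
  obtain ⟨c, hc1, hc2, hc3⟩ := hpre u' v' hu' hv' ⟨a.1, ha1, ha2⟩ ⟨b.1, hb1, hb2⟩
  exact ⟨⟨c, h hc1⟩, hc1, hc2, hc3⟩

/-- restriction of an irreducible closed subset contained in `Y` to the subspace `Y` -/
def restrictIC {X : Type u} [TopologicalSpace X] (Y : Set X) (w : IrreducibleCloseds X)
    (h : (w : Set X) ⊆ Y) : IrreducibleCloseds ↥Y where
  carrier := Subtype.val ⁻¹' (w : Set X)
  isIrreducible' := isIrreducible_preimage_val Y w w.isIrreducible h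
  isClosed' := w.isClosed.preimage continuous_subtype_val

theorem restrictIC_lt {X : Type u} [TopologicalSpace X] (Y : Set X) (w w' : IrreducibleCloseds X)
    (h : (w : Set X) ⊆ Y) (h' : (w' : Set X) ⊆ Y) (hlt : w < w') :
    restrictIC Y w h < restrictIC Y w' h' := by
  rw [← SetLike.coe_ssubset_coe] at hlt ⊢
  obtain ⟨hsub, hne⟩ := Set.ssubset_iff_subset_ne.mp hlt
  refine Set.ssubset_iff_subset_ne.mpr ⟨fun a ha => hsub ha, fun heq => hne ?_⟩
  apply Set.Subset.antisymm hsub
  intro x hx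
  have : (⟨x, h' hx⟩ : ↥Y) ∈ (restrictIC Y w' h' : Set ↥Y) := hx
  rw [← heq] at this
  exact this

/-- The Krull dimension of a topological space is the supremum of the Krull dimensions of its
irreducible components. -/
theorem result (X : Type u) [TopologicalSpace X] :
    topologicalKrullDim X = ⨆ Y ∈ irreducibleComponents X, topologicalKrullDim ↥Y := by
  apply le_antisymm
  · unfold topologicalKrullDim
    rw [Order.krullDim_eq_iSup_height]
    apply iSup_le
    intro z
    rw [Order.height_eq_krullDim_Iic]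
    obtain ⟨Y, hYirr, hzY, hmax⟩ := exists_preirreducible (z : Set X) z.isIrreducible.isPreirreducible
    have hYcomp : Y ∈ irreducibleComponents X := by
      refine ⟨⟨z.isIrreducible.nonempty.mono hzY, hYirr⟩, fun Y' hY' hle => ?_⟩
      rw [hmax Y' hY'.2 hle]
    refine le_trans ?_ (le_iSup₂ (f := fun Y (_ : Y ∈ irreducibleComponents X) =>
      Order.krullDim (IrreducibleCloseds ↥Y)) Y hYcomp)
    refine Order.krullDim_le_of_strictMono
      (fun w : Set.Iic z => restrictIC Y w.1 (le_trans (show (w.1 : Set X) ⊆ z from w.2) hzY)) ?_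
    intro w w' hlt
    exact restrictIC_lt Y w.1 w'.1 _ _ hlt
  · exact iSup₂_le (fun Y _ => topologicalKrullDim_subspace_le X Y)

end Groth.Agent.S10831
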