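import Groth.Statements.S1667
import Groth.Agent.S1497
import Groth.Agent.Lib.Helper3.PIso
import Groth.Agent.Lib.Helper3.AmpleMisc
import Groth.Agent.Lib.Helper26.AmpleCurve


set_option autoImplicit false
universe u
open CategoryTheory CategoryTheory.Limits AlgebraicGeometry
open Variety

namespace Groth.Agent.S1667

open AlgebraicGeometry CategoryTheory Limits in
/-- A scheme separated over a field is separated. -/
theorem isSeparated_of_over (k : Type u) [Field k] (X : Scheme.{u})
    (f : X ⟶ Spec (CommRingCat.of k)) [IsSeparated f] : X.IsSeparated := by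
  refine ⟨?_⟩
  have h : terminal.from X = f ≫ terminal.from (Spec (CommRingCat.of k)) :=
    (terminal.comp_from f).symm
  rw [h]
  infer_instance


/-- A separated scheme of finite type over k of dimension at most one is H-quasi-projective: it admits
an immersion into some P^n_k over k. -/
theorem result (k : Type u) [Field k] (X : Scheme.{u}) [X.Over (Spec (CommRingCat.of k))] [IsSeparated (X ↘ (Spec (CommRingCat.of k)))] [LocallyOfFiniteType (X ↘ (Spec (CommRingCat.of k)))] [QuasiCompact (X ↘ (Spec (CommRingCat.of k)))] (hdim : topologicalKrullDim X ≤ 1) :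
    ∃ (n : ℕ) (i : X ⟶ CohB1.ProjSpace n k), IsImmersion i ∧ i ≫ CohB1.ProjSpace.toSpec n k = X ↘ (Spec (CommRingCat.of k)) := by
  classical
  set f : X ⟶ Spec (CommRingCat.of k) := X ↘ Spec (CommRingCat.of k) with hf
  haveI : IsLocallyNoetherian X := LocallyOfFiniteType.isLocallyNoetherian f
  haveI : CompactSpace X := QuasiCompact.compactSpace_of_compactSpace f
  haveI : IsNoetherian X := {}
  haveI : X.IsSeparated := isSeparated_of_over k X f
  obtain ⟨L, hL⟩ := Groth.Agent.Lib.Helper26.AmpleCurve.exists_isAmple_of_dim_le_one hdim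
  have hS : ∃ N : (Spec (CommRingCat.of k)).Modules, CohB1.IsAmple N :=
    ⟨_, Groth.Agent.Lib.Helper3.AmpleMisc.isAmple_of_isAffine
      (Groth.Agent.Lib.Helper3.InvGen.isInvertible_structureModule _)⟩
  obtain ⟨n, i, hi, -, hif⟩ := (Groth.Agent.S1497.result hS f).2
    ⟨inferInstance, inferInstance, L, hL⟩
  have hP := IsPullback.of_hasPullback (CohB1.ProjSpace.toSpec n (ULift.{u} ℤ))
    (specULiftZIsTerminal.from (Spec (CommRingCat.of k)))
  haveI hiso := Groth.Agent.Lib.Helper3.PIso.isIso_lift n (R := k) _ _ hP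
  let c : CohB1.ProjSpace n k ⟶ CohB1.ProjSpaceOver n (Spec (CommRingCat.of k)) :=
    hP.lift (Groth.Agent.Lib.Helper3.PEmb2.gmap n k) (CohB1.ProjSpace.toSpec n k)
      (specULiftZIsTerminal.hom_ext _ _)
  haveI : IsIso c := hiso
  have hc : c ≫ pullback.snd (CohB1.ProjSpace.toSpec n (ULift.{u} ℤ))
      (specULiftZIsTerminal.from (Spec (CommRingCat.of k))) = CohB1.ProjSpace.toSpec n k :=
    hP.lift_snd _ _ _
  refine ⟨n, i ≫ inv c, inferInstance, ?_⟩
  rw [← hc, Category.assoc, IsIso.inv_hom_id_assoc, hif]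

end Groth.Agent.S1667
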