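import Groth.Statements.S9964
import Groth.Agent.Lib.Helper16.SchImg
open Groth.Agent.Lib.Helper16

set_option autoImplicit false
universe u
open CategoryTheory CategoryTheory.Limits AlgebraicGeometry
open AlgSp

namespace Groth.Agent.S9964

/-- Every morphism of algebraic spaces has a scheme theoretic image, a smallest closed subspace of the
target through which it factors. -/
theorem result {S : Scheme.{u}} {X Y : AlgSp.Space S} (f : X ⟶ Y) :
    ∃ (Z : AlgSp.Space S) (i : Z ⟶ Y), AlgSp.IsSchImage f.hom i.hom := by
  obtain ⟨Z, i, hZ, h⟩ := SchImg.exists_isSchImage X.property Y.property f.hom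
  exact ⟨⟨Z, hZ⟩, ObjectProperty.homMk i, h⟩

end Groth.Agent.S9964
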