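import Groth.Statements.S10630
import Groth.Agent.Lib.Helper16.FormalF

open Groth.Agent.Lib.Helper16 Groth.Agent.Lib.Helper16.Formal Groth.Agent.Lib.Helper26.AlgSpFormal

set_option autoImplicit false
universe u
open CategoryTheory CategoryTheory.Limits AlgebraicGeometry
open AlgSp

namespace Groth.Agent.S10630

/-- (1) ⇔ (3): let h : Z ⟶ X be a morphism of algebraic spaces over S and let i : Z ⟶ Z', h' : Z' ⟶ X be
a first order thickening of Z over X (i ≫ h' = h). Then (i, h') is a universal first order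
thickening of Z over X if and only if for every first order thickening j : T ⟶ T' of schemes over S
with T' affine, every a : T ⟶ Z and b : T' ⟶ X with j ≫ b = a ≫ h, there is exactly one a' : T' ⟶ Z'
with j ≫ a' = a ≫ i and a' ≫ h' = b. -/
theorem result {S : Scheme.{u}} {Z Z' X : AlgSp.Space S} (h : Z ⟶ X) (i : Z ⟶ Z')
    (h' : Z' ⟶ X) (hi : AlgSp.IsFOThickMor i.hom) (w : i ≫ h' = h) :
    AlgSp.IsUnivFOThick h.hom i.hom h'.hom ↔
      ∀ (T T' : Over S) (j : T ⟶ T'), IsAffine T'.left → AlgSp.IsFOThickMor ((AlgSp.yon S).map j) →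
        ∀ (a : (AlgSp.yon S).obj T ⟶ Z.obj) (b : (AlgSp.yon S).obj T' ⟶ X.obj),
          (AlgSp.yon S).map j ≫ b = a ≫ h.hom →
          ∃! a' : (AlgSp.yon S).obj T' ⟶ Z'.obj, (AlgSp.yon S).map j ≫ a' = a ≫ i.hom ∧ a' ≫ h'.hom = b := by
  have hw : i.hom ≫ h'.hom = h.hom := congrArg (fun t => t.hom) w
  constructor
  · intro HU T T' j _ hj a b hcomm
    exact HU.2.2 (AlgSp.IsAlgSpace.yon_obj T) (AlgSp.IsAlgSpace.yon_obj T') ((AlgSp.yon S).map j) a b hj hcomm
  · intro H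
    refine ⟨hi, hw, fun T T' hT hT' j a b hj hcomm => ?_⟩
    have hjr : AlgSp.Representable j := hj.1.rep
    -- the unique lift on an affine etale chart
    have key : ∀ ⦃V : Over S⦄, IsAffine V.left → ∀ (p : (AlgSp.yon S).obj V ⟶ T'), AlgSp.RepWith @Etale p →
        ∀ ⦃W : Over S⦄ (fst : (AlgSp.yon S).obj W ⟶ T) (snd : W ⟶ V),
          IsPullback fst ((AlgSp.yon S).map snd) j p →
          ∃! a' : (AlgSp.yon S).obj V ⟶ Z'.obj,
            (AlgSp.yon S).map snd ≫ a' = (fst ≫ a) ≫ i.hom ∧ a' ≫ h'.hom = p ≫ b := by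
      intro V hV p hp W fst snd sq
      refine H W V snd hV (isFOThickMor_yon_map_of_isPullback hj hp sq) (fst ≫ a) (p ≫ b) ?_
      rw [← Category.assoc, ← sq.w, Category.assoc, hcomm, Category.assoc]
    have HUq : AffUniq h'.hom j (a ≫ i.hom) b := by
      intro V hV p hp ℓ ℓ' hℓ hℓ'
      obtain ⟨W, snd, fst, sq⟩ := hjr p
      obtain ⟨a', -, hu⟩ := key hV p hp fst snd sq
      rw [hu ℓ ⟨by rw [hℓ.1 fst snd sq, Category.assoc], hℓ.2⟩,
        hu ℓ' ⟨by rw [hℓ'.1 fst snd sq, Category.assoc], hℓ'.2⟩]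
    have HEx : AffExist h'.hom j (a ≫ i.hom) b := by
      intro V hV p hp
      obtain ⟨W, snd, fst, sq⟩ := hjr p
      obtain ⟨a', ⟨h1, h2⟩, -⟩ := key hV p hp fst snd sq
      exact ⟨a', IsLiftOn.of_one fst snd sq (by rw [h1, Category.assoc]) h2⟩
    obtain ⟨l, h1, h2⟩ := exists_of_charts hT' hjr HUq HEx
    exact ⟨l, ⟨h1, h2⟩, fun l' hl' => eq_of_charts hT' hjr HUq l' l hl'.1 hl'.2 h1 h2⟩

end Groth.Agent.S10630
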