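import Groth.Statements.S4809
import Groth.Agent.Lib.Helper11.Birat4
import Groth.Agent.S2347
import Groth.Agent.Lib.Helper12.IntSection

set_option autoImplicit false
universe u
open CategoryTheory AlgebraicGeometry
open Lim8

namespace Groth.Agent.S4809

open AlgebraicGeometry CategoryTheory TopologicalSpace

/-- Only the generic point lies over the image of the generic point. -/
theorem fibre_generic {X Y : Scheme.{u}} [IsIntegral X] (f : X ⟶ Y)
    (hbir : IsIso (f.stalkMap (genericPoint X))) (x' : X)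
    (hx' : f.base x' = f.base (genericPoint X)) : x' = genericPoint X := by
  have h1 : genericPoint X ⤳ x' := genericPoint_specializes x'
  have hs : Function.Surjective (f.stalkMap (genericPoint X)) :=
    (ConcreteCategory.bijective_of_isIso (f.stalkMap (genericPoint X))).2
  have h2 : x' ⤳ genericPoint X :=
    Groth.Agent.Lib.Helper11.Birat.specializes_of_stalkMap_surjective f h1 hx'.symm hs
  exact (h2.antisymm h1).eq

/-- Two morphisms into `X` landing in the generalizations of `ξ` and agreeing after `f` are equal,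
if the stalk map of `f` at `ξ` is an isomorphism. -/
theorem hom_ext_of_generic {X Y P : Scheme.{u}} (f : X ⟶ Y) (ξ : X)
    (hbir : IsIso (f.stalkMap ξ)) (a₁ a₂ : P ⟶ X)
    (h₁ : ∀ p : P, a₁.base p ⤳ ξ) (h₂ : ∀ p : P, a₂.base p ⤳ ξ)
    (h : a₁ ≫ f = a₂ ≫ f) : a₁ = a₂ := by
  obtain ⟨b₁, hb₁⟩ := Groth.Agent.Lib.Helper11.Birat.exists_lift_fromSpecStalk a₁ ξ h₁
  obtain ⟨b₂, hb₂⟩ := Groth.Agent.Lib.Helper11.Birat.exists_lift_fromSpecStalk a₂ ξ h₂
  have key : ∀ b : P ⟶ Spec (X.presheaf.stalk ξ),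
      (b ≫ X.fromSpecStalk ξ) ≫ f =
        (b ≫ Spec.map (f.stalkMap ξ)) ≫ Y.fromSpecStalk (f.base ξ) := by
    intro b
    rw [Category.assoc, Category.assoc, Scheme.SpecMap_stalkMap_fromSpecStalk]
  have e : (b₁ ≫ Spec.map (f.stalkMap ξ)) ≫ Y.fromSpecStalk (f.base ξ) =
      (b₂ ≫ Spec.map (f.stalkMap ξ)) ≫ Y.fromSpecStalk (f.base ξ) := by
    rw [← key, ← key, hb₁, hb₂, h]
  have e' := (cancel_mono (Y.fromSpecStalk (f.base ξ))).mp e
  haveI : IsIso (Spec.map (f.stalkMap ξ)) := inferInstance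
  have e'' := (cancel_mono (Spec.map (f.stalkMap ξ))).mp e'
  rw [← hb₁, ← hb₂, e'']

/-- Zariski's main theorem for birational quasi-finite separated morphisms to a normal scheme. -/
theorem isOpenImmersion_of_birational {X Y : Scheme.{u}} [IsIntegral X] [IsIntegral Y]
    (hN : ∀ y : Y, IsIntegrallyClosed (Y.presheaf.stalk y)) (g : X ⟶ Y) [LocallyQuasiFinite g]
    [LocallyOfFiniteType g] [IsSeparated g] [QuasiCompact g]
    (hbir : IsIso (g.stalkMap (genericPoint X))) : IsOpenImmersion g := by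
  haveI : IsOpenImmersion g.toNormalization := inferInstance
  have hfin : (irreducibleComponents ↥Y).Finite := by
    rw [irreducibleComponents_eq_singleton]; exact Set.finite_singleton _
  have hs : g.base (genericPoint X) = (𝟙 Y : Y ⟶ Y).base (g.base (genericPoint X)) := rfl
  have e1 : (𝟙 Y : Y ⟶ Y).stalkMap (g.base (genericPoint X)) = 𝟙 _ := Scheme.Hom.stalkMap_id _ _
  have e2 : Y.presheaf.stalkSpecializes (Inseparable.of_eq hs).specializes = 𝟙 _ :=
    TopCat.Presheaf.stalkSpecializes_refl _ _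
  have ha : (𝟙 Y : Y ⟶ Y).stalkMap (g.base (genericPoint X)) ≫ g.stalkMap (genericPoint X) =
      Y.presheaf.stalkSpecializes (Inseparable.of_eq hs).specializes ≫
        g.stalkMap (genericPoint X) :=
    (congrArg (· ≫ g.stalkMap (genericPoint X)) e1).trans
      (congrArg (· ≫ g.stalkMap (genericPoint X)) e2).symm
  haveI := hbir
  obtain ⟨U', V', iso, hpU', hyV', hiso⟩ :=
    Groth.Agent.Lib.Helper11.Birat.exists_iso_opens_of_stalkIso_lft g (𝟙 Y) hfin
      (genericPoint X) (g.base (genericPoint X)) hs (g.stalkMap (genericPoint X)) ha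
  have hs' : (iso.inv ≫ U'.ι ≫ g.toNormalization) ≫ g.fromNormalization = V'.ι := by
    rw [Category.assoc, Category.assoc, Scheme.Hom.toNormalization_fromNormalization, ← hiso,
      Iso.inv_hom_id_assoc, Category.comp_id]
  have hV'd : Dense (V' : Set Y) := V'.2.dense ⟨_, hyV'⟩
  have hX : Pi1.IsNormalScheme Y := fun y => ⟨inferInstance, hN y⟩
  haveI : IsIso g.fromNormalization :=
    Groth.Agent.S2347.result hX g.fromNormalization V' hV'd _ hs'
  rw [← g.toNormalization_fromNormalization]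
  infer_instance

/-- A local section through a point of an open on which `f` is an open immersion. -/
theorem exists_section {X Y : Scheme.{u}} (f : X ⟶ Y) (U : X.Opens)
    [IsOpenImmersion (U.ι ≫ f)] (W : Y.Opens) (hW : W ≤ (U.ι ≫ f).opensRange) (x : X)
    (hx : x ∈ U) (hy : f.base x ∈ W) :
    ∃ σ : W.toScheme ⟶ X, σ ≫ f = W.ι ∧ σ.base ⟨f.base x, hy⟩ = x := by
  have hr : Set.range (W.ι : W.toScheme ⟶ Y) ⊆ Set.range (U.ι ≫ f : U.toScheme ⟶ Y) := by
    rintro _ ⟨w, rfl⟩; exact hW w.2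
  refine ⟨IsOpenImmersion.lift (U.ι ≫ f) W.ι hr ≫ U.ι, ?_, ?_⟩
  · rw [Category.assoc, IsOpenImmersion.lift_fac]
  · have h1 : (U.ι ≫ f).base ((IsOpenImmersion.lift (U.ι ≫ f) W.ι hr).base ⟨f.base x, hy⟩) =
        (U.ι ≫ f).base ⟨x, hx⟩ :=
      congrArg (fun ψ : W.toScheme ⟶ Y => ψ.base ⟨f.base x, hy⟩)
        (IsOpenImmersion.lift_fac (U.ι ≫ f) W.ι hr)
    have h2 := (U.ι ≫ f).isOpenEmbedding.injective h1
    exact congrArg (fun u : U => (u : X)) h2

/-- Let Y be an integral normal scheme (every local ring integrally closed), X an integral scheme, and f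
: X ⟶ Y a locally quasi-finite morphism (locally of finite type with discrete fibres) which is
birational: f maps the generic point of X to that of Y and its stalk map at the generic point of X,
the induced homomorphism of function fields, is an isomorphism. Then f is a local isomorphism, and f
is an open immersion as soon as it is separated. -/
theorem result {X Y : Scheme.{u}} [IsIntegral X] [IsIntegral Y]
    (hN : ∀ y : Y, IsIntegrallyClosed (Y.presheaf.stalk y)) (f : X ⟶ Y) [LocallyQuasiFinite f]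
    [LocallyOfFiniteType f] (hgen : f (genericPoint X) = genericPoint Y)
    (hbir : IsIso (f.stalkMap (genericPoint X))) :
    IsLocalIso f ∧ (IsSeparated f → IsOpenImmersion f) := by

  have hfib : ∀ x' : X, f.base x' = genericPoint Y → x' = genericPoint X := fun x' hx' =>
    fibre_generic f hbir x' (hx'.trans hgen.symm)
  have hz : ∀ z : X, z = genericPoint X → IsIso (f.stalkMap z) := by
    rintro _ rfl; exact hbir
  have hloc : ∀ x : X, ∃ U : X.Opens, x ∈ U ∧ IsOpenImmersion (U.ι ≫ f) := by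
    intro x
    obtain ⟨V, hV, hxV⟩ : ∃ V : Y.Opens, IsAffineOpen V ∧ f.base x ∈ V := by
      obtain ⟨_, ⟨V, hV, rfl⟩, hxV, -⟩ :=
        Y.isBasis_affineOpens.exists_subset_of_mem_open (Set.mem_univ (f.base x)) isOpen_univ
      exact ⟨V, hV, hxV⟩
    obtain ⟨U, hU, hxU, e⟩ : ∃ U : X.Opens, IsAffineOpen U ∧ x ∈ U ∧ U ≤ f ⁻¹ᵁ V := by
      obtain ⟨_, ⟨U, hU, rfl⟩, hxU, hUV⟩ :=
        X.isBasis_affineOpens.exists_subset_of_mem_open
          (show x ∈ ((f ⁻¹ᵁ V : X.Opens) : Set X) from hxV) (f ⁻¹ᵁ V).2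
      exact ⟨U, hU, hxU, hUV⟩
    refine ⟨U, hxU, ?_⟩
    haveI : Nonempty U := ⟨⟨x, hxU⟩⟩
    haveI : Nonempty V := ⟨⟨f.base x, hxV⟩⟩
    haveI : IsAffine U.toScheme := hU
    haveI : IsAffine V.toScheme := hV
    have hgι : f.resLE V U e ≫ V.ι = U.ι ≫ f := Scheme.Hom.resLE_comp_ι f e
    have hpU : U.ι.base (genericPoint U.toScheme) = genericPoint X :=
      genericPoint_eq_of_isOpenImmersion U.ι
    have hgiso : IsIso ((f.resLE V U e).stalkMap (genericPoint U.toScheme)) := by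
      have key : ∀ (h : U.toScheme ⟶ Y), h = U.ι ≫ f →
          IsIso (h.stalkMap (genericPoint U.toScheme)) := by
        rintro _ rfl
        rw [Scheme.Hom.stalkMap_comp]
        have i1 : IsIso (f.stalkMap (U.ι.base (genericPoint U.toScheme))) := hz _ hpU
        have i2 : IsIso (U.ι.stalkMap (genericPoint U.toScheme)) := inferInstance
        exact @IsIso.comp_isIso _ _ _ _ _ _ _ i1 i2
      have h1 : IsIso ((f.resLE V U e ≫ V.ι).stalkMap (genericPoint U.toScheme)) := key _ hgι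
      rw [Scheme.Hom.stalkMap_comp] at h1
      exact @IsIso.of_isIso_comp_left _ _ _ _ _
        (V.ι.stalkMap ((f.resLE V U e).base (genericPoint U.toScheme)))
        ((f.resLE V U e).stalkMap (genericPoint U.toScheme)) inferInstance h1
    have hNV : ∀ y : V.toScheme, IsIntegrallyClosed (V.toScheme.presheaf.stalk y) := by
      intro y
      haveI := hN (V.ι.base y)
      exact IsIntegrallyClosed.of_equiv (asIso (V.ι.stalkMap y)).commRingCatIsoToRingEquiv
    haveI : IsOpenImmersion (f.resLE V U e) :=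
      isOpenImmersion_of_birational hNV (f.resLE V U e) hgiso
    rw [← hgι]
    infer_instance
  refine ⟨⟨hloc⟩, fun hsep => ?_⟩
  haveI := hsep
  have hinj : Function.Injective f.base := by
    intro x₁ x₂ h12
    obtain ⟨U₁, hx₁, hU₁⟩ := hloc x₁
    obtain ⟨U₂, hx₂, hU₂⟩ := hloc x₂
    haveI := hU₁
    haveI := hU₂
    have hyW : f.base x₁ ∈ (U₁.ι ≫ f).opensRange ⊓ (U₂.ι ≫ f).opensRange :=
      TopologicalSpace.Opens.mem_inf.mpr ⟨⟨⟨x₁, hx₁⟩, rfl⟩, ⟨⟨x₂, hx₂⟩, h12.symm⟩⟩
    have hyW₂ : f.base x₂ ∈ (U₁.ι ≫ f).opensRange ⊓ (U₂.ι ≫ f).opensRange := h12 ▸ hyW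
    obtain ⟨σ₁, hσ₁, hv₁⟩ := exists_section f U₁ _ inf_le_left x₁ hx₁ hyW
    obtain ⟨σ₂, hσ₂, hv₂⟩ := exists_section f U₂ _ inf_le_right x₂ hx₂ hyW₂
    have hηW : genericPoint Y ∈ (U₁.ι ≫ f).opensRange ⊓ (U₂.ι ≫ f).opensRange :=
      Groth.Agent.Lib.Helper12.NormAff.genericPoint_mem Y ⟨_, hyW⟩
    haveI : IsDominant (((U₁.ι ≫ f).opensRange ⊓ (U₂.ι ≫ f).opensRange).fromSpecStalkOfMem
        (genericPoint Y) hηW) :=
      Groth.Agent.Lib.Helper12.IntSection.isDominant_fromSpecStalkOfMem _ hηW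
    have hpt : ∀ σ : ((U₁.ι ≫ f).opensRange ⊓ (U₂.ι ≫ f).opensRange).toScheme ⟶ X,
        σ ≫ f = ((U₁.ι ≫ f).opensRange ⊓ (U₂.ι ≫ f).opensRange).ι → ∀ p,
        ((((U₁.ι ≫ f).opensRange ⊓ (U₂.ι ≫ f).opensRange).fromSpecStalkOfMem
          (genericPoint Y) hηW) ≫ σ).base p = genericPoint X := by
      intro σ hσ p
      apply hfib
      have e1 : ((((U₁.ι ≫ f).opensRange ⊓ (U₂.ι ≫ f).opensRange).fromSpecStalkOfMem
          (genericPoint Y) hηW) ≫ σ) ≫ f = Y.fromSpecStalk (genericPoint Y) := by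
        rw [Category.assoc, hσ, Scheme.Opens.fromSpecStalkOfMem_ι]
      have e2 : f.base (((((U₁.ι ≫ f).opensRange ⊓ (U₂.ι ≫ f).opensRange).fromSpecStalkOfMem
          (genericPoint Y) hηW) ≫ σ).base p) = (Y.fromSpecStalk (genericPoint Y)).base p :=
        congrArg (fun ψ : Spec (Y.presheaf.stalk (genericPoint Y)) ⟶ Y => ψ.base p) e1
      have h3 : (Y.fromSpecStalk (genericPoint Y)).base p ⤳ genericPoint Y := by
        have : (Y.fromSpecStalk (genericPoint Y)).base p ∈
            Set.range (Y.fromSpecStalk (genericPoint Y)) := ⟨p, rfl⟩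
        rw [Scheme.range_fromSpecStalk] at this
        exact this
      exact e2.trans (h3.antisymm (genericPoint_specializes _)).eq
    have key : (((U₁.ι ≫ f).opensRange ⊓ (U₂.ι ≫ f).opensRange).fromSpecStalkOfMem
        (genericPoint Y) hηW) ≫ σ₁ =
        (((U₁.ι ≫ f).opensRange ⊓ (U₂.ι ≫ f).opensRange).fromSpecStalkOfMem
        (genericPoint Y) hηW) ≫ σ₂ := by
      refine hom_ext_of_generic f (genericPoint X) hbir _ _ ?_ ?_ ?_
      · intro p; exact specializes_of_eq (hpt σ₁ hσ₁ p)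
      · intro p; exact specializes_of_eq (hpt σ₂ hσ₂ p)
      · rw [Category.assoc, Category.assoc, hσ₁, hσ₂]
    have hσ : σ₁ = σ₂ := ext_of_isDominant_of_isSeparated f (hσ₁.trans hσ₂.symm) _ key
    have hw : (⟨f.base x₁, hyW⟩ : ((U₁.ι ≫ f).opensRange ⊓ (U₂.ι ≫ f).opensRange : Y.Opens)) =
        ⟨f.base x₂, hyW₂⟩ := Subtype.ext h12
    calc x₁ = σ₁.base ⟨f.base x₁, hyW⟩ := hv₁.symm
      _ = σ₂.base ⟨f.base x₂, hyW₂⟩ := by rw [hσ, hw]
      _ = x₂ := hv₂
  exact IsOpenImmersion.of_forall_source_exists f hinj fun x => by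
    obtain ⟨U, hxU, hU⟩ := hloc x
    exact ⟨U.toScheme, U.ι, inferInstance, ⟨⟨x, hxU⟩, rfl⟩, hU⟩

end Groth.Agent.S4809
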