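import Groth.Statements.S4529
import Mathlib

set_option autoImplicit false
universe u
open EGA41

namespace Groth.Agent.S4529

/-- Let A be a ring, M, N two A-modules with N projective, u : M → N a homomorphism and J an ideal of A;
suppose either (i) J is nilpotent, or (ii) J is contained in the Jacobson radical of A and M is of
finite type. Then u is left invertible if and only if the induced map u₀ : M/JM → N/JN is left
invertible. (A left inverse of u₀ composed with N → N/JN is an A-linear map v : N → M/JM with v ∘ u
the projection, and conversely; the right-hand side is written in that form.) -/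
theorem result {A : Type u} [CommRing A] {M N : Type u} [AddCommGroup M] [Module A M]
    [AddCommGroup N] [Module A N] [Module.Projective A N] (u : M →ₗ[A] N) (J : Ideal A)
    (hJ : IsNilpotent J ∨ (J ≤ (⊥ : Ideal A).jacobson ∧ Module.Finite A M)) :
    (∃ w : N →ₗ[A] M, w ∘ₗ u = LinearMap.id) ↔
      ∃ v : N →ₗ[A] M ⧸ (J • ⊤ : Submodule A M), v ∘ₗ u = (J • ⊤ : Submodule A M).mkQ := by
  constructor
  · rintro ⟨w, hw⟩
    refine ⟨(J • ⊤ : Submodule A M).mkQ ∘ₗ w, ?_⟩
    rw [LinearMap.comp_assoc, hw, LinearMap.comp_id]
  · rintro ⟨v, hv⟩
    obtain ⟨w₀, hw₀⟩ := Module.projective_lifting_property (J • ⊤ : Submodule A M).mkQ v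
      (Submodule.mkQ_surjective _)
    set e : M →ₗ[A] M := w₀ ∘ₗ u with he
    have hδ : ∀ x, x - e x ∈ (J • ⊤ : Submodule A M) := by
      intro x
      rw [← Submodule.Quotient.mk_eq_zero, Submodule.Quotient.mk_sub, sub_eq_zero]
      have h1 := LinearMap.congr_fun hw₀ (u x)
      have h2 := LinearMap.congr_fun hv x
      simp only [LinearMap.comp_apply, Submodule.mkQ_apply] at h1 h2
      rw [he, LinearMap.comp_apply, h1, h2]
    have hbij : Function.Bijective e := by
      rcases hJ with hnil | ⟨hjac, hfin⟩
      · let δ : Module.End A M := LinearMap.id - e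
        have hδpow : ∀ k : ℕ, ∀ x, (δ ^ k) x ∈ (J ^ k • ⊤ : Submodule A M) := by
          intro k
          induction k with
          | zero => intro x; simp
          | succ k ih =>
            intro x
            have hx : (δ ^ (k + 1)) x = (δ ^ k) (δ x) := by
              rw [pow_succ δ k]; rfl
            rw [hx]
            have h1 : δ x ∈ (J • ⊤ : Submodule A M) := hδ x
            have h2 : (J • ⊤ : Submodule A M).map (δ ^ k) ≤ J ^ (k + 1) • ⊤ := by
              rw [Submodule.map_smul'']
              calc J • (⊤ : Submodule A M).map (δ ^ k) ≤ J • (J ^ k • ⊤) :=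
                    Submodule.smul_mono le_rfl (by rintro _ ⟨y, -, rfl⟩; exact ih y)
                _ = J ^ (k + 1) • ⊤ := by rw [← mul_smul, ← pow_succ']
            exact h2 ⟨δ x, h1, rfl⟩
        obtain ⟨N, hN⟩ := hnil
        have hδnil : IsNilpotent δ := ⟨N, by
          ext x
          have := hδpow N x
          rw [hN] at this
          simpa using this⟩
        have hunit : IsUnit (1 - δ) := hδnil.isUnit_one_sub
        have h1 : (1 : Module.End A M) - δ = e := by
          simp only [δ]
          ext x
          simp
        rw [h1] at hunit
        exact (Module.End.isUnit_iff e).mp hunit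
      · have hsurj : Function.Surjective e := by
          rw [← LinearMap.range_eq_top, eq_top_iff]
          apply Submodule.le_of_le_smul_of_le_jacobson_bot Module.Finite.fg_top hjac
          intro x _
          have : x = e x + (x - e x) := by abel
          rw [this]
          exact Submodule.add_mem_sup (LinearMap.mem_range_self e x) (hδ x)
        exact ⟨OrzechProperty.injective_of_surjective_endomorphism e hsurj, hsurj⟩
    let e' := LinearEquiv.ofBijective e hbij
    refine ⟨e'.symm.toLinearMap ∘ₗ w₀, ?_⟩
    ext x
    show e'.symm (w₀ (u x)) = x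
    exact e'.symm_apply_apply x

end Groth.Agent.S4529
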