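import Groth.Statements.S16954
import Groth.Agent.Lib.Helper13.SerreCrit1
import Groth.Agent.Lib.Helper13.RelMVMod
import Groth.Agent.Lib.Helper13.ModGrothendieck
import Groth.Agent.Lib.Helper3.QCProps

set_option autoImplicit false
universe u
open CohCmp

namespace Groth.Agent.S16954

open AlgebraicGeometry CategoryTheory Scheme.Modules Opposite in
/-- The comparison map is locally surjective. Let f : X → Y be a morphism of schemes, F an O_X-module
and p a natural number; R^p f_* F is the p-th right derived functor of direct image on O-modules and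
ε_V : H^p(f⁻¹V, F|_{f⁻¹V}) → Γ(V, R^p f_* F) the pinned comparison maps (the structure SectCmp,
taken as a hypothesis). Then for every open V of Y, every section t of R^p f_* F over V and every
point y of V there are an open neighbourhood W ⊆ V of y and a class x ∈ H^p(f⁻¹W, F|_{f⁻¹W}) with
ε_W(x) equal to the restriction of t to W. -/
theorem result
    {X Y : Scheme.{u}} (f : X ⟶ Y) [HasInjectiveResolutions X.Modules]
    {Δ : RDer.DerivedLES (pushforward f)} (E : CohCmp.SectCmp f Δ) (F : X.Modules) (p : ℕ)
    (V : Y.Opens) (t : ((Coh.Rpush f p).obj F).presheaf.obj (op V)) (y : Y) (hy : y ∈ V) :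
    ∃ (W : Y.Opens) (hWV : W ≤ V), y ∈ W ∧
      ∃ x : Coh.HHon X F (f ⁻¹ᵁ W) p,
        E.ε W F p x = ((Coh.Rpush f p).obj F).presheaf.map (homOfLE hWV).op t := by
  classical
  haveI : CategoryTheory.EnoughInjectives X.Modules :=
    Groth.Agent.Lib.Helper13.ModGrothendieck.enoughInjectives X.ringCatSheaf
  -- local lifting along an epimorphism of modules on `Y`
  have lift : ∀ {M N : Y.Modules} (φ : M ⟶ N), CategoryTheory.Epi φ → ∀ (V : Y.Opens)
      (t : N.presheaf.obj (Opposite.op V)) (y : Y), y ∈ V →
      ∃ (W : Y.Opens) (hWV : W ≤ V), y ∈ W ∧ ∃ t' : M.presheaf.obj (Opposite.op W),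
        φ.app W t' = N.presheaf.map (CategoryTheory.homOfLE hWV).op t := by
    intro M N φ hφ V t y hy
    haveI := hφ
    have hepi : CategoryTheory.Epi ((Groth.Agent.Lib.Helper13.SerreCrit1.TT Y).map φ) :=
      inferInstance
    have hloc : CategoryTheory.Presheaf.IsLocallySurjective (Opens.grothendieckTopology Y)
        ((Groth.Agent.Lib.Helper13.SerreCrit1.TT Y).map φ).hom :=
      (CategoryTheory.Sheaf.isLocallySurjective_iff_epi' AddCommGrpCat.{u} _).2 hepi
    obtain ⟨W, g, ⟨t', ht'⟩, hyW⟩ := hloc.imageSieve_mem t y hy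
    exact ⟨W, g.le, hyW, t', ht'⟩
  have key : ∀ (p : ℕ) (F : X.Modules) (V : Y.Opens)
      (t : ((Coh.Rpush f p).obj F).presheaf.obj (Opposite.op V)), y ∈ V →
      ∃ (W : Y.Opens) (hWV : W ≤ V), y ∈ W ∧
        ∃ x : Coh.HHon X F (f ⁻¹ᵁ W) p,
          E.ε W F p x =
            ((Coh.Rpush f p).obj F).presheaf.map (CategoryTheory.homOfLE hWV).op t := by
    intro p
    induction p with
    | zero =>
      intro F V t hy
      haveI : CategoryTheory.IsIso ((pushforward f).toRightDerivedZero.app F) := inferInstance
      let s : F.presheaf.obj (Opposite.op (f ⁻¹ᵁ V)) :=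
        (CategoryTheory.inv ((pushforward f).toRightDerivedZero.app F)).app V t
      refine ⟨V, le_rfl, hy, CohPull.sectH0 F (f ⁻¹ᵁ V) s, ?_⟩
      rw [E.zero]
      have h1 : ((pushforward f).toRightDerivedZero.app F).app V s = t := by
        change ((pushforward f).toRightDerivedZero.app F).app V
          ((CategoryTheory.inv ((pushforward f).toRightDerivedZero.app F)).app V t) = t
        rw [← CategoryTheory.ConcreteCategory.comp_apply, ← Scheme.Modules.Hom.comp_app,
          CategoryTheory.IsIso.inv_hom_id]
        rfl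
      rw [h1]
      have h2 : (CategoryTheory.homOfLE (le_refl V)).op = 𝟙 (Opposite.op V) := rfl
      rw [h2, CategoryTheory.Functor.map_id]
      rfl
    | succ p ih =>
      intro F V t hy
      let ι : F ⟶ CategoryTheory.Injective.under F := CategoryTheory.Injective.ι F
      let S : CategoryTheory.ShortComplex X.Modules :=
        CategoryTheory.ShortComplex.mk ι (CategoryTheory.Limits.cokernel.π ι)
          (CategoryTheory.Limits.cokernel.condition ι)
      have hS : S.ShortExact :=
        { exact := CategoryTheory.ShortComplex.exact_cokernel ι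
          mono_f := inferInstanceAs (CategoryTheory.Mono ι)
          epi_g := inferInstanceAs (CategoryTheory.Epi (CategoryTheory.Limits.cokernel.π ι)) }
      have hz : CategoryTheory.Limits.IsZero
          (((pushforward f).rightDerived (p + 1)).obj S.X₂) :=
        CategoryTheory.Functor.isZero_rightDerived_obj_injective_succ (pushforward f) p
          (CategoryTheory.Injective.under F)
      have hepi : CategoryTheory.Epi (Δ.δ S hS p (p + 1) rfl) :=
        (Δ.exact₁ S hS p (p + 1) rfl).epi_f (hz.eq_of_tgt _ _)
      obtain ⟨W, hWV, hyW, t', ht'⟩ := lift (Δ.δ S hS p (p + 1) rfl) hepi V t y hy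
      obtain ⟨W', hW'W, hyW', x', hx'⟩ := ih S.X₃ W t' hyW
      have hA : (S.map (CohCmp.toAbOn X (f ⁻¹ᵁ W'))).ShortExact := by
        haveI : CategoryTheory.Limits.PreservesFiniteLimits
            (SheafOfModules.toSheaf.{u} ((f ⁻¹ᵁ W' : X.Opens) : Scheme.{u}).ringCatSheaf) :=
          Groth.Agent.Lib.Helper13.SerreCrit1.toSheaf_pfl _
        haveI : CategoryTheory.Limits.PreservesFiniteColimits
            (SheafOfModules.toSheaf.{u} ((f ⁻¹ᵁ W' : X.Opens) : Scheme.{u}).ringCatSheaf) :=
          Groth.Agent.Lib.Helper13.SerreCrit1.toSheaf_pfc _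
        haveI : CategoryTheory.Limits.PreservesFiniteLimits (CohCmp.toAbOn X (f ⁻¹ᵁ W')) :=
          CategoryTheory.Limits.comp_preservesFiniteLimits _ _
        haveI : CategoryTheory.Limits.PreservesFiniteColimits (CohCmp.toAbOn X (f ⁻¹ᵁ W')) :=
          CategoryTheory.Limits.comp_preservesFiniteColimits _ _
        exact hS.map_of_exact _
      refine ⟨W', hW'W.trans hWV, hyW', CohCmp.extδ hA p x', ?_⟩
      rw [E.delta W' S hS hA p x', hx']
      have nat := (Δ.δ S hS p (p + 1) rfl).mapPresheaf.naturality
        (CategoryTheory.homOfLE hW'W).op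
      have h1 := CategoryTheory.ConcreteCategory.congr_hom nat t'
      rw [CategoryTheory.ConcreteCategory.comp_apply,
        CategoryTheory.ConcreteCategory.comp_apply] at h1
      refine h1.trans ?_
      change ((Coh.Rpush f (p + 1)).obj F).presheaf.map (CategoryTheory.homOfLE hW'W).op
        ((Δ.δ S hS p (p + 1) rfl).app W t') = _
      rw [ht', ← CategoryTheory.ConcreteCategory.comp_apply, ← CategoryTheory.Functor.map_comp]
      rfl
  exact key p F V t hy

end Groth.Agent.S16954
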