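import Groth.Statements.S10193
import Groth.Agent.Lib.Helper16.Rep
import Groth.Agent.Lib.Helper16.FppfLocal2

set_option autoImplicit false
universe u
open CategoryTheory CategoryTheory.Limits AlgebraicGeometry Topology TopologicalSpace
open AlgSp

namespace Groth.Agent.S10193

/-- Let X, Y be algebraic spaces over a scheme S, i : Z ⟶ X a closed subspace (a morphism representable
by closed immersions) and assume Y is reduced. Then a morphism f : Y ⟶ X factors through Z if and
only if |f|(|Y|) is contained in |Z|. -/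
theorem result {S : Scheme.{u}} {X Y Z : AlgSp.Space S}
    (i : Z ⟶ X) (hi : AlgSp.RepWith @IsClosedImmersion i.hom) (hY : AlgSp.IsReducedSp Y.obj) (f : Y ⟶ X) :
    (∃ g : Y ⟶ Z, g ≫ i = f) ↔
      Set.range (AlgSp.Points.map f.hom) ⊆ Set.range (AlgSp.Points.map i.hom) := by
  constructor
  · rintro ⟨g, rfl⟩ _ ⟨y, rfl⟩
    exact ⟨AlgSp.Points.map g.hom y, (AlgSp.Points.map_comp g.hom i.hom y).symm⟩
  · intro h
    haveI : Mono i.hom := Groth.Agent.Lib.Helper16.mono_of_repWith (P := @IsClosedImmersion)
      (fun _ _ f hf => by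
        haveI : IsClosedImmersion f := hf
        exact (MorphismProperty.monomorphisms.iff f).2 inferInstance) i.hom hi
    obtain ⟨V, q, hqe, hqs, hV⟩ := hY
    haveI : IsReduced V.left := hV
    have sq := hi.rep.isPullback (q ≫ f.hom)
    haveI hci : IsClosedImmersion (hi.rep.snd (q ≫ f.hom)).left := hi.property_snd _
    haveI hsurj : Surjective (hi.rep.snd (q ≫ f.hom)).left := by
      constructor
      intro v
      have hv : AlgSp.Points.ofPt (q ≫ f.hom) v ∈ Set.range (AlgSp.Points.map i.hom) :=
        h ⟨AlgSp.Points.ofPt q v, AlgSp.Points.map_ofPt q f.hom v⟩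
      obtain ⟨z, hz⟩ := hv
      obtain ⟨w, -, hw⟩ := Groth.Agent.Lib.Helper16.exists_point_of_isPullback_yon sq z v hz
      exact ⟨w, hw⟩
    have hiso : IsIso (hi.rep.snd (q ≫ f.hom)).left :=
      isIso_of_isClosedImmersion_of_surjective _
    have hiso0 : IsIso ((Over.forget S).map (hi.rep.snd (q ≫ f.hom))) := hiso
    haveI hiso' : IsIso (hi.rep.snd (q ≫ f.hom)) :=
      isIso_of_reflects_iso (hi.rep.snd (q ≫ f.hom)) (Over.forget S)
    have ha : ((AlgSp.yon S).map (inv (hi.rep.snd (q ≫ f.hom))) ≫ hi.rep.fst (q ≫ f.hom)) ≫ i.hom =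
        q ≫ f.hom := by
      rw [Category.assoc, sq.w, ← Category.assoc, ← Functor.map_comp, IsIso.inv_hom_id,
        (AlgSp.yon S).map_id, Category.id_comp]
    haveI : Sheaf.IsLocallySurjective q :=
      Groth.Agent.Lib.Helper16.isLocallySurjective_of_etale_surjective q hqe hqs
    haveI : Epi q := (Sheaf.isLocallySurjective_iff_epi q).1 inferInstance
    have hepi : Epi (pullback.fst f.hom i.hom) := by
      have hfac : pullback.lift q _ ha.symm ≫ pullback.fst f.hom i.hom = q :=
        pullback.lift_fst _ _ _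
      exact epi_of_epi_fac hfac
    haveI : IsIso (pullback.fst f.hom i.hom) := isIso_of_mono_of_epi _
    refine ⟨ObjectProperty.homMk (inv (pullback.fst f.hom i.hom) ≫ pullback.snd f.hom i.hom), ?_⟩
    apply ObjectProperty.hom_ext
    rw [ObjectProperty.FullSubcategory.comp_hom, ObjectProperty.homMk_hom, Category.assoc,
      ← pullback.condition, IsIso.inv_hom_id_assoc]

end Groth.Agent.S10193
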