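import Groth.Statements.S9934
import Groth.Agent.Lib.Helper16.Descent
import Groth.Agent.Lib.Helper16.Charts
import Groth.Agent.S0083
open Groth.Agent.Lib.Helper16

set_option autoImplicit false
universe u
open CategoryTheory CategoryTheory.Limits AlgebraicGeometry
open AlgSp

namespace Groth.Agent.S9934

/-- An immersion of algebraic spaces is a closed immersion exactly when its image on points is closed. -/
theorem result {S : Scheme.{u}} {Z X : AlgSp.Space S} (i : Z ⟶ X)
    (hi : AlgSp.RepWith @IsImmersion i.hom) :
    AlgSp.RepWith @IsClosedImmersion i.hom ↔ IsClosed (Set.range (AlgSp.Points.map i.hom)) := by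
  haveI : MorphismProperty.DescendsAlong @IsClosedImmersion
      (@Surjective ⊓ @Flat ⊓ @QuasiCompact : MorphismProperty Scheme.{u}) := Groth.Agent.S0083.result
  obtain ⟨U, a, hae, has⟩ := X.property.atlas
  obtain ⟨W, j, φ, sq⟩ := hi.rep a
  have hj : IsImmersion j.left := hi.property _ _ _ sq
  have hqm : Topology.IsQuotientMap (Points.ofPt a) :=
    (isOpenMap_ofPt_of_etale a hae).isQuotientMap (Points.continuous_ofPt a)
      (ofPt_surjective_of_surjective a has)
  have key : Points.ofPt a ⁻¹' (Set.range (Points.map i.hom)) = Set.range j.left := by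
    ext u
    constructor
    · rintro ⟨z, hz⟩
      obtain ⟨w, -, hw⟩ := exists_point_of_isPullback_yon sq z u hz
      exact ⟨w, hw⟩
    · rintro ⟨w, rfl⟩
      refine ⟨Points.ofPt φ w, ?_⟩
      rw [Points.map_ofPt, sq.w, ofPt_yon_map_comp]
  rw [(Topology.isQuotientMap_iff_isClosed.1 hqm).2, key]
  constructor
  · intro h
    have : IsClosedImmersion j.left := h.property _ _ _ sq
    exact j.left.isClosedEmbedding.isClosed_range
  · intro h
    have : IsClosedImmersion j.left := IsClosedImmersion.of_isPreimmersion j.left h
    exact repWith_of_chart_of_descends i.hom hi.rep a hae has φ j sq @IsClosedImmersion this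

end Groth.Agent.S9934
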