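import Groth.Statements.S9966
import Groth.Agent.S10192
import Groth.Agent.S10193
import Groth.Agent.S9934
import Groth.Agent.Lib.Helper17.AlgSpProper
open Groth.Agent.Lib.Helper16

set_option autoImplicit false
universe u
open CategoryTheory CategoryTheory.Limits AlgebraicGeometry
open AlgSp

namespace Groth.Agent.S9966

/-- The scheme theoretic image of a morphism from a reduced algebraic space is the reduced induced
structure on the closure of its image. -/
theorem result {S : Scheme.{u}} {X Y Z : AlgSp.Space S} (f : X ⟶ Y) (i : Z ⟶ Y)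
    (hX : AlgSp.IsReducedSp X.obj) (hZ : AlgSp.IsSchImage f.hom i.hom) :
    AlgSp.IsRedInduced (closure (Set.range (AlgSp.Points.map f.hom))) i.hom := by
  obtain ⟨hic, ⟨f', hf'⟩, hmin⟩ := hZ
  obtain ⟨Z₁, i₁, hi₁c, hrange₁, hred₁⟩ := Groth.Agent.S10192.result Y
    (closure (Set.range (AlgSp.Points.map f.hom))) isClosed_closure
  have hle : (@IsClosedImmersion : MorphismProperty Scheme.{u}) ≤ MorphismProperty.monomorphisms _ :=
    fun A B k hk => by
      have : IsClosedImmersion k := hk
      exact (MorphismProperty.monomorphisms.iff _).2 inferInstance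
  have hmi : Mono i.hom := mono_of_repWith hle _ hic
  have hmi₁ : Mono i₁.hom := mono_of_repWith hle _ hi₁c
  -- `f` factors through `i₁`
  obtain ⟨g, hg⟩ := (Groth.Agent.S10193.result i₁ hi₁c hX f).2 (by rw [hrange₁]; exact subset_closure)
  obtain ⟨k, hk⟩ := hmin i₁.hom Z₁.property hi₁c ⟨g.hom, congrArg (fun m => m.hom) hg⟩
  -- the image of `i` is closed and contains the image of `f`
  have himm : AlgSp.RepWith @IsImmersion i.hom :=
    MorphismProperty.relative_monotone (fun A B m hm => by
      have : IsClosedImmersion m.left := hm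
      exact (inferInstance : IsImmersion m.left)) _ hic
  have hcl : IsClosed (Set.range (AlgSp.Points.map i.hom)) := (Groth.Agent.S9934.result i himm).1 hic
  have hsub : closure (Set.range (AlgSp.Points.map f.hom)) ⊆ Set.range (AlgSp.Points.map i.hom) := by
    refine closure_minimal ?_ hcl
    rintro _ ⟨x, rfl⟩
    refine ⟨AlgSp.Points.map f' x, ?_⟩
    rw [← AlgSp.Points.map_comp, hf']
  obtain ⟨k', hk'⟩ := (Groth.Agent.S10193.result i hic hred₁ i₁).2 (by rw [hrange₁]; exact hsub)
  have hk'1 : k'.hom ≫ i.hom = i₁.hom := congrArg (fun m => m.hom) hk'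
  have hiso : IsIso k'.hom := by
    refine ⟨k, ?_, ?_⟩
    · rw [← cancel_mono i₁.hom, Category.assoc, hk, hk'1, Category.id_comp]
    · rw [← cancel_mono i.hom, Category.assoc, hk'1, hk, Category.id_comp]
  refine ⟨hic, ?_, ?_⟩
  · apply subset_antisymm _ hsub
    rintro _ ⟨z, rfl⟩
    rw [← hrange₁]
    refine ⟨AlgSp.Points.map k z, ?_⟩
    rw [← AlgSp.Points.map_comp, hk]
  · obtain ⟨U, p, hpe, hps, hU⟩ := hred₁
    refine ⟨U, p ≫ k'.hom, ?_, ?_, hU⟩
    · exact (AlgSp.RepWith (S := S) @Etale).comp_mem _ _ hpe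
        (Groth.Agent.Lib.Helper17.repWith_of_isIso @Etale k'.hom)
    · exact (AlgSp.RepWith (S := S) @Surjective).comp_mem _ _ hps
        (Groth.Agent.Lib.Helper17.repWith_of_isIso @Surjective k'.hom)

end Groth.Agent.S9966
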