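import Groth.Statements.S0786
import Mathlib
import Groth.Agent.Lib.Helper17.ClImmUnit
import Groth.Agent.Lib.Helper17.PbFinite

set_option autoImplicit false
universe u
open Coherent

namespace Groth.Agent.S0786

open CategoryTheory AlgebraicGeometry in
/-- Let i : Z → X be a closed immersion with X locally Noetherian, and let F be a coherent O_X-module
annihilated by the kernel ideal sheaf of i. Then F is isomorphic to i_* G for some coherent
O_Z-module G. (Together with full faithfulness of i_* on quasi-coherent modules this is the
equivalence of the source.) -/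
theorem result {Z X : Scheme.{u}} (i : Z ⟶ X)
    [IsClosedImmersion i] [IsLocallyNoetherian X] (F : X.Modules) (hF : Coh.IsCoh F)
    (hk : ClSub.KilledByIdeal i.ker F) :
    ∃ G : Z.Modules, Coh.IsCoh G ∧ Nonempty ((Scheme.Modules.pushforward i).obj G ≅ F) := by
  haveI : F.IsQuasicoherent := hF.1
  haveI : F.IsFiniteType := hF.2
  haveI hiso : IsIso ((Scheme.Modules.pullbackPushforwardAdjunction i).unit.app F) :=
    (Groth.Agent.Lib.Helper17.ClImmUnit.isIso_unit_iff i F).mpr hk
  exact ⟨(Scheme.Modules.pullback i).obj F,
    ⟨Groth.Agent.Lib.Helper17.PbStalk.isQuasicoherent_pullback i F,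
      Groth.Agent.Lib.Helper17.PbFinite.isFiniteType_pullback i F⟩,
    ⟨(asIso ((Scheme.Modules.pullbackPushforwardAdjunction i).unit.app F)).symm⟩⟩

end Groth.Agent.S0786
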