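import Groth.Statements.S0846
import Groth.Agent.Lib.Helper3.TwistMul
import Groth.Agent.Lib.Helper3.TwistProj
import Groth.Agent.Lib.Helper3.GlobGen
import Groth.Agent.Lib.Helper3.FreeSec
import Groth.Agent.Lib.Helper3.InvCoh
import Groth.Agent.Lib.Helper6.ProjDegree
import Groth.Agent.S4402

set_option autoImplicit false
universe u
open Coherent

namespace Groth.Agent.S0846


section tw0846

open CategoryTheory CategoryTheory.Limits AlgebraicGeometry TopologicalSpace Opposite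
  Scheme.Modules
open Groth.Agent.Lib.Helper3 Groth.Agent.Lib.Helper3.QCSec Groth.Agent.Lib.Helper3.InvGen
  Groth.Agent.Lib.Helper3.InvTensor Groth.Agent.Lib.Helper3.InvMonoidal
  Groth.Agent.Lib.Helper3.TwistBasic Groth.Agent.Lib.Helper3.TwistMul

variable {R A : Type u} [CommRing R] [CommRing A] [Algebra R A] {𝒜 : ℕ → Submodule R A}
  [GradedAlgebra 𝒜]

/-- `O(nD) ≅ O(D)^{⊗ n}` when `O(D)` is locally generated by unit fractions -/
noncomputable def powIsoD0846 (D : ℤ)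
    (h : ∀ x : Proj 𝒜, ∃ U : (Proj 𝒜).Opens, x ∈ U ∧ HasUnitFrac D U) :
    (n : ℕ) → (Twist.twist 𝒜 ((n : ℤ) * D) ≅ CohB1.tensorPow (Twist.twist 𝒜 D) n)
  | 0 => twistCast (by simp) ≪≫ (unitIso (𝒜 := 𝒜)).symm
  | n + 1 => twistCast (by push_cast; ring) ≪≫ (mulIsoRight ((n : ℤ) * D) D h).symm ≪≫
      tensorMapIso (powIsoD0846 D h n) (Iso.refl _)

theorem exists_cover0846 (hfg : (HomogeneousIdeal.irrelevant 𝒜).toIdeal.FG) :
    ∃ E : ℕ, 0 < E ∧ ∀ x : Proj 𝒜, ∃ g : 𝒜 E, x ∈ Proj.basicOpen 𝒜 (g : A) := by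
  obtain ⟨D, hD⟩ := Groth.Agent.Lib.Helper6.exists_irrelevant_le_span_of_fg 𝒜 hfg
  refine ⟨D.factorial, Nat.factorial_pos D, fun x => ?_⟩
  have hsub : (⋃ i ∈ Set.Ioc 0 D, (𝒜 i : Set A)) ⊆
      Set.range (fun a : {a : A // ∃ i ∈ Set.Ioc 0 D, a ∈ 𝒜 i} => (a : A)) := by
    intro a ha
    simp only [Set.mem_iUnion] at ha
    obtain ⟨i, hi, hai⟩ := ha
    exact ⟨⟨a, i, hi, hai⟩, rfl⟩
  obtain ⟨⟨a, i, hi, ha⟩, hxa⟩ := TwistProj.exists_mem_basicOpen_of_span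
    (fun a : {a : A // ∃ i ∈ Set.Ioc 0 D, a ∈ 𝒜 i} => (a : A))
    (hD.trans (Ideal.span_mono hsub)) x
  have hdvd : i ∣ D.factorial := Nat.dvd_factorial hi.1 hi.2
  have hk : D.factorial / i * i = D.factorial := Nat.div_mul_cancel hdvd
  have hkpos : 0 < D.factorial / i :=
    Nat.div_pos (Nat.le_of_dvd (Nat.factorial_pos D) hdvd) hi.1
  refine ⟨⟨a ^ (D.factorial / i), ?_⟩, ?_⟩
  · have := SetLike.pow_mem_graded (D.factorial / i) ha
    rwa [smul_eq_mul, hk] at this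
  · change x ∈ Proj.basicOpen 𝒜 (a ^ (D.factorial / i))
    rw [Proj.basicOpen_pow 𝒜 a _ hkpos]
    exact hxa

theorem compactSpace_proj0846 (hfg : (HomogeneousIdeal.irrelevant 𝒜).toIdeal.FG) :
    CompactSpace (Proj 𝒜) := by
  classical
  obtain ⟨D, hD⟩ := Groth.Agent.Lib.Helper6.exists_irrelevant_le_span_of_fg 𝒜 hfg
  obtain ⟨S, hS⟩ : ∃ S : Set A, S = ⋃ i ∈ Set.Ioc 0 D, (𝒜 i : Set A) := ⟨_, rfl⟩
  have hSmem : ∀ a ∈ S, ∃ i, 0 < i ∧ a ∈ 𝒜 i := by
    intro a ha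
    rw [hS] at ha
    simp only [Set.mem_iUnion] at ha
    obtain ⟨i, hi, hai⟩ := ha
    exact ⟨i, hi.1, hai⟩
  have heq : (HomogeneousIdeal.irrelevant 𝒜).toIdeal = Ideal.span S := by
    apply le_antisymm (hS ▸ hD)
    rw [Ideal.span_le]
    intro a ha
    obtain ⟨i, hi, hai⟩ := hSmem a ha
    exact HomogeneousIdeal.mem_irrelevant_of_mem 𝒜 hi hai
  have hfg' : (Submodule.span A S).FG := by
    have h1 : (Ideal.span S).FG := heq ▸ hfg
    exact h1
  obtain ⟨T, hTS, hT⟩ := (Submodule.fg_span_iff_fg_span_finset_subset S).mp hfg'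
  refine TwistProj.compactSpace_of_finite_affine_cover (ι := T)
    (fun t => Proj.basicOpen 𝒜 (t : A)) ?_ ?_
  · intro t
    obtain ⟨i, hi, hti⟩ := hSmem t.1 (hTS t.2)
    exact Proj.isAffineOpen_basicOpen 𝒜 (t : A) hti hi
  · intro x
    apply TwistProj.exists_mem_basicOpen_of_span (fun t : T => (t : A))
    rw [heq]
    change Submodule.span A S ≤ _
    rw [hT]
    apply Submodule.span_mono
    intro a ha
    exact ⟨⟨a, ha⟩, rfl⟩

end tw0846

open CategoryTheory CategoryTheory.Limits AlgebraicGeometry TopologicalSpace Opposite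
  Scheme.Modules
  Groth.Agent.Lib.Helper3 Groth.Agent.Lib.Helper3.QCSec Groth.Agent.Lib.Helper3.InvGen
  Groth.Agent.Lib.Helper3.InvTensor Groth.Agent.Lib.Helper3.InvMonoidal
  Groth.Agent.Lib.Helper3.TwistBasic Groth.Agent.Lib.Helper3.TwistMul Groth.Agent.S4402 in

open CategoryTheory CategoryTheory.Limits AlgebraicGeometry in
/-- Let A be a Noetherian graded ring (graded by ℕ as an R-algebra) and X = Proj A. Then every coherent
O_X-module is a quotient of a finite coproduct of twisting modules O_X(d_1), …, O_X(d_r). -/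
theorem result {R A : Type u} [CommRing R] [CommRing A] [Algebra R A]
    (𝒜 : ℕ → Submodule R A) [GradedAlgebra 𝒜] [IsNoetherianRing A] (F : (Proj 𝒜).Modules) (hF : Coh.IsCoh F) :
    ∃ (r : ℕ) (d : Fin r → ℤ) (φ : (∐ fun j : Fin r => Twist.twist 𝒜 (d j)) ⟶ F), Epi φ := by
  classical
  have hfg : (HomogeneousIdeal.irrelevant 𝒜).toIdeal.FG :=
    (isNoetherianRing_iff_ideal_fg A).1 ‹_› _
  obtain ⟨E, hE, hcovE⟩ := exists_cover0846 (𝒜 := 𝒜) hfg
  have : CompactSpace (Proj 𝒜) := compactSpace_proj0846 hfg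
  have hA : CohB1.IsAmple (Twist.twist 𝒜 (E : ℤ)) := TwistProj.isAmple_twist_of_cover hE hcovE
  have : F.IsQuasicoherent := hF.1
  have : F.IsFiniteType := hF.2
  have hunitE : ∀ (k : ℤ) (x : Proj 𝒜), ∃ U : (Proj 𝒜).Opens, x ∈ U ∧
      HasUnitFrac (k * (E : ℤ)) U := by
    intro k x
    obtain ⟨g, hg⟩ := hcovE x
    exact ⟨Proj.basicOpen 𝒜 (g : A), hg, (hasUnitFrac_basicOpen g.2).zsmul k⟩
  have hunit1 : ∀ x : Proj 𝒜, ∃ U : (Proj 𝒜).Opens, x ∈ U ∧ HasUnitFrac (E : ℤ) U := by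
    intro x
    obtain ⟨g, hg⟩ := hcovE x
    exact ⟨Proj.basicOpen 𝒜 (g : A), hg, hasUnitFrac_basicOpen g.2⟩
  obtain ⟨n₀, hn₀⟩ := GlobGen.exists_isSpanned_twist hA F
  obtain ⟨N, hN⟩ : ∃ N : ℤ, N = (n₀ : ℤ) * (E : ℤ) := ⟨_, rfl⟩
  have hunit : ∀ x : Proj 𝒜, ∃ U : (Proj 𝒜).Opens, x ∈ U ∧ HasUnitFrac N U := by
    intro x
    rw [hN]
    exact hunitE _ x
  have hunitneg : ∀ x : Proj 𝒜, ∃ U : (Proj 𝒜).Opens, x ∈ U ∧ HasUnitFrac (-N) U := by
    intro x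
    obtain ⟨U, hxU, hU⟩ := hunit x
    exact ⟨U, hxU, hU.neg⟩
  have hinv : PicF.IsInvertible (Twist.twist 𝒜 N) := isInvertible_twist_of_cover _ hunit
  have : (CohB1.tensorMod F (Twist.twist 𝒜 N)).IsQuasicoherent :=
    InvCoh.isQuasicoherent_tensorMod F _ hinv
  have : (CohB1.tensorMod F (Twist.twist 𝒜 N)).IsFiniteType :=
    InvCoh.isFiniteType_tensorMod F _ hinv
  have h2 : GlobGen.IsSpanned (CohB1.tensorMod F (Twist.twist 𝒜 N)) :=
    (hn₀ n₀ le_rfl).of_iso (tensorMapIso (Iso.refl F)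
      (twistCast hN ≪≫ powIsoD0846 (E : ℤ) hunit1 n₀).symm)
  obtain ⟨I, σ, hσ⟩ := h2
  obtain ⟨T, hT⟩ := exists_finite_spanning4402 _ σ hσ
  have hepi : Epi (GlobGen.freeHom _ (fun i : T => σ i.1)) := GlobGen.epi_freeHom _ _ hT
  have hloc := FreeSec.isLocSpannedBy_of_epi (GlobGen.freeHom _ (fun i : T => σ i.1))
  rw [FreeSec.secOfHom_freeHom] at hloc
  -- the morphism
  let e : T ≃ Fin T.card := T.equivFin
  let pj : Fin T.card → (Twist.twist 𝒜 (-N) ⟶ F) := fun j =>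
    P4402 F N hunitneg (add_neg4402 _) (σ (e.symm j).1)
  refine ⟨T.card, fun _ => -N, Sigma.desc pj, ?_⟩
  apply QCExact.epi_of_locally_surjective
  intro W t x hxW
  obtain ⟨U₁, hxU₁, i, j, a, b, ha, hb, hd⟩ := hunit x
  have hd' : (j : ℤ) = i + -N := by omega
  let V : (Proj 𝒜).Opens := W ⊓ U₁
  have hVU₁ : V ≤ U₁ := inf_le_right
  let g : Γ(CohB1.tensorMod F (Twist.twist 𝒜 N), V) :=
    tm F _ V (res F inf_le_left t) (frac V a b (fun y => hb ⟨y.1, hVU₁ y.2⟩) N hd)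
  obtain ⟨V', hV', hxV', hspan⟩ := hloc V g x ⟨hxW, hxU₁⟩
  obtain ⟨c, hc⟩ := (Submodule.mem_span_range_iff_exists_fun _).mp hspan
  have hV'U₁ : V' ≤ U₁ := hV'.trans hVU₁
  have hV'W : V' ≤ W := hV'.trans inf_le_left
  have haV' : ∀ y : V', a.1 ∉ y.1.asHomogeneousIdeal := fun y => ha ⟨y.1, hV'U₁ y.2⟩
  have hbV' : ∀ y : V', b.1 ∉ y.1.asHomogeneousIdeal := fun y => hb ⟨y.1, hV'U₁ y.2⟩
  have hg : res _ hV' g = tm F _ V' (res F hV'W t) (frac V' a b hbV' N hd) := by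
    change res _ hV' (tm F _ V _ _) = _
    rw [tm_res, res_res, res_frac]
  let em : Γ(Twist.twist 𝒜 (-N), V') := frac V' b a haV' (-N) hd'
  refine ⟨V', hV'W, hxV', ∑ i : T, (Sigma.ι (fun _ : Fin T.card => Twist.twist 𝒜 (-N))
    (e i)).app V' (c i • em), ?_⟩
  rw [map_sum]
  have h3 : ∀ i : T, (Sigma.desc pj).app V' ((Sigma.ι (fun _ : Fin T.card =>
      Twist.twist 𝒜 (-N)) (e i)).app V' (c i • em)) =
      (psi4402 F N hunitneg (add_neg4402 _)).hom.app V'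
        (tm _ _ V' (c i • res _ (le_top : V' ≤ ⊤) (σ i.1)) em) := by
    intro i
    have h4 : (Sigma.ι (fun _ : Fin T.card => Twist.twist 𝒜 (-N)) (e i) ≫
        Sigma.desc pj) = pj (e i) := Sigma.ι_desc _ _
    have h5 : pj (e i) = P4402 F N hunitneg (add_neg4402 _) (σ i.1) := by
      change P4402 F N hunitneg (add_neg4402 _) (σ (e.symm (e i)).1) = _
      rw [Equiv.symm_apply_apply]
    refine (comp_app4402 (Sigma.ι (fun _ : Fin T.card => Twist.twist 𝒜 (-N)) (e i))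
      (Sigma.desc pj) V' (c i • em)).symm.trans ?_
    rw [h4, h5, P_smul4402]
  rw [Finset.sum_congr rfl (fun i _ => h3 i), ← map_sum, ← tm_sum_left, hc, hg]
  exact psi_tm4402 F N hunitneg (add_neg4402 _) V' a b haV' hbV' hd hd' _

end Groth.Agent.S0846
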