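import Groth.Statements.S12714
import Mathlib

set_option autoImplicit false
universe u v
open CategoryTheory
open ArtFun ArtFun.CRing

namespace Groth.Agent.S12714

theorem mem_maximalIdeal_iff {Λ : Type u} {k : Type u} [CommRing Λ] [Field k] [Algebra Λ k]
    (R : ArtFun.CRing Λ k) (a : R.carrier) :
    a ∈ IsLocalRing.maximalIdeal R.carrier ↔ R.res a = 0 := by
  have hmax : (RingHom.ker (R.res : R.carrier →+* k)).IsMaximal :=
    RingHom.ker_isMaximal_of_surjective (R.res : R.carrier →+* k) R.res_surjective
  rw [← IsLocalRing.eq_maximalIdeal hmax, RingHom.mem_ker]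
  rfl

theorem map_le {Λ : Type u} {k : Type u} [CommRing Λ] [Field k] [Algebra Λ k]
    (R S : ArtFun.CRing Λ k) (f : R.carrier →ₐ[Λ] S.carrier) (hf : S.res.comp f = R.res) :
    Ideal.map f (IsLocalRing.maximalIdeal R.carrier) ≤ IsLocalRing.maximalIdeal S.carrier := by
  rw [Ideal.map_le_iff_le_comap]
  intro r hr
  rw [Ideal.mem_comap, mem_maximalIdeal_iff]
  rw [mem_maximalIdeal_iff] at hr
  rw [← hr, ← hf]
  rfl

theorem two_imp_one {Λ : Type u} {k : Type u} [CommRing Λ] [Field k] [Algebra Λ k]
    (R S : ArtFun.CRing Λ k) (f : R.carrier →ₐ[Λ] S.carrier) (hf : S.res.comp f = R.res)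
    (h : Ideal.map f (IsLocalRing.maximalIdeal R.carrier) ⊔ IsLocalRing.maximalIdeal S.carrier ^ 2 =
        IsLocalRing.maximalIdeal S.carrier) : Function.Surjective f := by
  have hle : IsLocalRing.maximalIdeal S.carrier ≤
      Ideal.map f (IsLocalRing.maximalIdeal R.carrier) := by
    apply Submodule.le_of_le_smul_of_le_jacobson_bot (I := IsLocalRing.maximalIdeal S.carrier)
      (IsNoetherian.noetherian _) (IsLocalRing.maximalIdeal_le_jacobson ⊥)
    rw [Ideal.smul_eq_mul, ← pow_two, h]
  have heq : Ideal.map (f : R.carrier →+* S.carrier) (IsLocalRing.maximalIdeal R.carrier) =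
      IsLocalRing.maximalIdeal S.carrier := le_antisymm (map_le R S f hf) hle
  haveI := R.isAdicComplete
  haveI := S.isAdicComplete
  haveI : IsPrecomplete (IsLocalRing.maximalIdeal R.carrier) R.carrier := inferInstance
  haveI : IsHausdorff (Ideal.map (f : R.carrier →+* S.carrier)
      (IsLocalRing.maximalIdeal R.carrier)) S.carrier := by
    rw [heq]; infer_instance
  have hsurj : Function.Surjective (f : R.carrier →+* S.carrier) := by
    apply surjective_of_mk_map_comp_surjective (I := IsLocalRing.maximalIdeal R.carrier)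
    intro y
    obtain ⟨s, rfl⟩ := Ideal.Quotient.mk_surjective y
    obtain ⟨r, hr⟩ := R.res_surjective (S.res s)
    refine ⟨r, ?_⟩
    rw [RingHom.comp_apply, Ideal.Quotient.eq, heq, mem_maximalIdeal_iff, map_sub, ← hr, ← hf]
    exact sub_self _
  exact hsurj

/-- For a morphism f : R → S of complete local Noetherian Λ-algebras with residue field k (compatible
with the augmentations to k), the following are equivalent: (1) f is surjective; (2) m_R/m_R² →
m_S/m_S² is surjective, written as f(m_R)S + m_S² = m_S; (3) the map of cotangent spaces relative to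
Λ is surjective, written as m_Λ S + f(m_R)S + m_S² = m_S with m_Λ the kernel of Λ → k. -/
theorem result {Λ : Type u} {k : Type u} [CommRing Λ] [Field k] [Algebra Λ k]
    [IsNoetherianRing Λ] [Module.Finite Λ k]
    (R S : ArtFun.CRing Λ k) (f : R.carrier →ₐ[Λ] S.carrier) (hf : S.res.comp f = R.res) :
    List.TFAE [Function.Surjective f,
      Ideal.map f (IsLocalRing.maximalIdeal R.carrier) ⊔ IsLocalRing.maximalIdeal S.carrier ^ 2 =
        IsLocalRing.maximalIdeal S.carrier,
      Ideal.map (algebraMap Λ S.carrier) (RingHom.ker (algebraMap Λ k)) ⊔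
        Ideal.map f (IsLocalRing.maximalIdeal R.carrier) ⊔ IsLocalRing.maximalIdeal S.carrier ^ 2 =
        IsLocalRing.maximalIdeal S.carrier] := by
  have hle := map_le R S f hf
  have hΛ : Ideal.map (algebraMap Λ S.carrier) (RingHom.ker (algebraMap Λ k)) ≤
      Ideal.map f (IsLocalRing.maximalIdeal R.carrier) := by
    rw [Ideal.map_le_iff_le_comap]
    intro l hl
    rw [Ideal.mem_comap, ← f.commutes l]
    apply Ideal.mem_map_of_mem
    rw [mem_maximalIdeal_iff, AlgHom.commutes]
    exact hl
  tfae_have 1 → 2 := by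
    intro hsurj
    apply le_antisymm
    · exact sup_le hle (Ideal.pow_le_self two_ne_zero)
    · refine le_trans ?_ le_sup_left
      intro s hs
      obtain ⟨r, rfl⟩ := hsurj s
      apply Ideal.mem_map_of_mem
      rw [mem_maximalIdeal_iff] at hs ⊢
      rw [← hs, ← hf]
      rfl
  tfae_have 2 → 3 := by
    intro h
    rw [sup_eq_right.mpr hΛ]
    exact h
  tfae_have 3 → 1 := by
    intro h
    rw [sup_eq_right.mpr hΛ] at h
    exact two_imp_one R S f hf h
  tfae_finish

end Groth.Agent.S12714
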