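import Groth.Statements.S12716
import Mathlib
import Groth.Agent.S12714

set_option autoImplicit false
universe u v
open CategoryTheory
open ArtFun

namespace Groth.Agent.S12716

/-- A proper ideal `J < m` of a Noetherian local ring `S` with residue field `k` is contained in the
kernel of a surjective `S`-linear map `m → k`. -/
theorem exists_functional {k : Type u} [Field k]
    (S : Type u) [CommRing S] [IsLocalRing S] [IsNoetherianRing S] [Algebra S k]
    (hres : Function.Surjective (algebraMap S k))
    (J : Ideal S) (hJ : J < IsLocalRing.maximalIdeal S) :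
    ∃ ψ : (IsLocalRing.maximalIdeal S) →ₗ[S] k, Function.Surjective ψ ∧
      ∀ x : IsLocalRing.maximalIdeal S, (x : S) ∈ J → ψ x = 0 := by
  classical
  let m := IsLocalRing.maximalIdeal S
  let J' : Submodule S m := Submodule.comap m.subtype J
  have hJ' : J' ≠ ⊤ := by
    intro h
    obtain ⟨x, hxm, hxJ⟩ := SetLike.exists_of_lt hJ
    have : (⟨x, hxm⟩ : m) ∈ J' := by rw [h]; trivial
    exact hxJ this
  obtain ⟨N, hN, hJN⟩ := (eq_top_or_exists_le_coatom J').resolve_left hJ'
  haveI hs : IsSimpleModule S (m ⧸ N) := isSimpleModule_iff_isCoatom.mpr hN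
  obtain ⟨I, hI, ⟨e⟩⟩ := isSimpleModule_iff_quot_maximal.mp hs
  have hIm : I = IsLocalRing.maximalIdeal S := IsLocalRing.eq_maximalIdeal hI
  have hker : LinearMap.ker (Algebra.linearMap S k) = IsLocalRing.maximalIdeal S := by
    have hmax : (RingHom.ker (algebraMap S k)).IsMaximal :=
      RingHom.ker_isMaximal_of_surjective _ hres
    have := IsLocalRing.eq_maximalIdeal hmax
    rw [← this]
    rfl
  let e2 : (S ⧸ LinearMap.ker (Algebra.linearMap S k)) ≃ₗ[S] k :=
    LinearMap.quotKerEquivOfSurjective (Algebra.linearMap S k) hres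
  subst hIm
  rw [← hker] at e
  refine ⟨((e.trans e2) : (m ⧸ N) →ₗ[S] k).comp N.mkQ, ?_, ?_⟩
  · exact (e.trans e2).surjective.comp N.mkQ_surjective
  · intro x hx
    have hxN : x ∈ N := hJN hx
    rw [LinearMap.comp_apply, Submodule.mkQ_apply, (Submodule.Quotient.mk_eq_zero N).mpr hxN,
      map_zero]

/-- Let f : R → S be a morphism of complete local Noetherian Λ-algebras with residue field k (Λ
Noetherian, Λ → k finite). If the restriction map Der_Λ(S, k) → Der_Λ(R, k) is injective — two
Λ-derivations S → k that agree after composing with f are equal — then f is surjective. -/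
theorem result {Λ : Type u} {k : Type u} [CommRing Λ] [Field k] [Algebra Λ k]
    [IsNoetherianRing Λ] [Module.Finite Λ k]
    (R : ArtFun.CRing Λ k)
    (S : Type u) [CommRing S] [Algebra Λ S] [IsLocalRing S] [IsNoetherianRing S]
    [IsAdicComplete (IsLocalRing.maximalIdeal S) S] [Algebra S k] [IsScalarTower Λ S k]
    (hres : Function.Surjective (algebraMap S k))
    (f : R.carrier →ₐ[Λ] S) (hf : (IsScalarTower.toAlgHom Λ S k).comp f = R.res)
    (hinj : ∀ D₁ D₂ : Derivation Λ S k, (∀ r : R.carrier, D₁ (f r) = D₂ (f r)) → D₁ = D₂) :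
    Function.Surjective f := by
  classical
  let S' : ArtFun.CRing Λ k :=
    { carrier := S
      res := IsScalarTower.toAlgHom Λ S k
      res_surjective := hres
      isAdicComplete := inferInstance }
  refine Groth.Agent.S12714.two_imp_one R S' f hf ?_
  change Ideal.map f (IsLocalRing.maximalIdeal R.carrier) ⊔ IsLocalRing.maximalIdeal S ^ 2 =
    IsLocalRing.maximalIdeal S
  by_contra hne
  have hmapJ : Ideal.map f (IsLocalRing.maximalIdeal R.carrier) ≤ IsLocalRing.maximalIdeal S :=
    Groth.Agent.S12714.map_le R S' f hf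
  have hJle : Ideal.map f (IsLocalRing.maximalIdeal R.carrier) ⊔ IsLocalRing.maximalIdeal S ^ 2 ≤
      IsLocalRing.maximalIdeal S := sup_le hmapJ (Ideal.pow_le_self two_ne_zero)
  obtain ⟨ψ, hψs, hψJ⟩ := exists_functional S hres _ (lt_of_le_of_ne hJle hne)
  have hmS : ∀ s : S, s ∈ IsLocalRing.maximalIdeal S ↔ algebraMap S k s = 0 :=
    fun s => Groth.Agent.S12714.mem_maximalIdeal_iff S' s
  have hfres : ∀ r : R.carrier, algebraMap S k (f r) = R.res r := fun r => by
    rw [← hf]; rfl
  -- the chosen lifts
  let rc : S → R.carrier := fun s => (R.res_surjective (algebraMap S k s)).choose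
  have hrc : ∀ s, R.res (rc s) = algebraMap S k s :=
    fun s => (R.res_surjective (algebraMap S k s)).choose_spec
  have hmem : ∀ (s : S) (r : R.carrier), R.res r = algebraMap S k s →
      s - f r ∈ IsLocalRing.maximalIdeal S := by
    intro s r h
    rw [hmS, map_sub, hfres, h, sub_self]
  let D₀ : S → k := fun s => ψ ⟨s - f (rc s), hmem s (rc s) (hrc s)⟩
  have hD₀ : ∀ (s : S) (r : R.carrier) (h : R.res r = algebraMap S k s),
      D₀ s = ψ ⟨s - f r, hmem s r h⟩ := by
    intro s r h
    have h1 : rc s - r ∈ IsLocalRing.maximalIdeal R.carrier := by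
      rw [Groth.Agent.S12714.mem_maximalIdeal_iff, map_sub, hrc, h, sub_self]
    have h2 : f (rc s - r) ∈ Ideal.map f (IsLocalRing.maximalIdeal R.carrier) ⊔
        IsLocalRing.maximalIdeal S ^ 2 :=
      Ideal.mem_sup_left (Ideal.mem_map_of_mem _ h1)
    have h3 : (⟨s - f r, hmem s r h⟩ : IsLocalRing.maximalIdeal S) =
        ⟨s - f (rc s), hmem s (rc s) (hrc s)⟩ + ⟨f (rc s - r), hJle h2⟩ := by
      apply Subtype.ext
      change s - f r = (s - f (rc s)) + f (rc s - r)
      rw [map_sub]; ring
    rw [h3, map_add, hψJ ⟨f (rc s - r), hJle h2⟩ h2, add_zero]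
  let Dl : S →ₗ[Λ] k :=
    { toFun := D₀
      map_add' := by
        intro s t
        have h : R.res (rc s + rc t) = algebraMap S k (s + t) := by
          rw [map_add, map_add, hrc, hrc]
        rw [hD₀ (s + t) _ h, ← map_add]
        congr 1
        apply Subtype.ext
        change s + t - f (rc s + rc t) = (s - f (rc s)) + (t - f (rc t))
        rw [map_add]; ring
      map_smul' := by
        intro l s
        have h : R.res (l • rc s) = algebraMap S k (l • s) := by
          rw [map_smul, hrc, Algebra.smul_def, Algebra.smul_def, map_mul,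
            ← IsScalarTower.algebraMap_apply]
        rw [hD₀ (l • s) _ h, RingHom.id_apply]
        have h2 : (⟨l • s - f (l • rc s), hmem _ _ h⟩ : IsLocalRing.maximalIdeal S) =
            (algebraMap Λ S l) • ⟨s - f (rc s), hmem s (rc s) (hrc s)⟩ := by
          apply Subtype.ext
          change l • s - f (l • rc s) = algebraMap Λ S l * (s - f (rc s))
          rw [map_smul, Algebra.smul_def, Algebra.smul_def]; ring
        rw [h2, map_smul, algebraMap_smul] }
  have hDl : ∀ s, Dl s = D₀ s := fun s => rfl
  let D : Derivation Λ S k := Derivation.mk' Dl (by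
    intro s t
    have h : R.res (rc s * rc t) = algebraMap S k (s * t) := by
      rw [map_mul, map_mul, hrc, hrc]
    rw [hDl, hDl, hDl, hD₀ (s * t) _ h]
    have h2 : (⟨s * t - f (rc s * rc t), hmem _ _ h⟩ : IsLocalRing.maximalIdeal S) =
        s • ⟨t - f (rc t), hmem t (rc t) (hrc t)⟩ +
          f (rc t) • ⟨s - f (rc s), hmem s (rc s) (hrc s)⟩ := by
      apply Subtype.ext
      change s * t - f (rc s * rc t) = s * (t - f (rc t)) + f (rc t) * (s - f (rc s))
      rw [map_mul]; ring
    rw [h2, map_add, map_smul, map_smul]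
    congr 1
    rw [Algebra.smul_def, Algebra.smul_def, hfres, hrc])
  have hD0 : D = 0 := by
    apply hinj D 0
    intro r
    change D₀ (f r) = 0
    rw [hD₀ (f r) r (hfres r).symm]
    have : (⟨f r - f r, hmem _ _ (hfres r).symm⟩ : IsLocalRing.maximalIdeal S) = 0 := by
      apply Subtype.ext
      exact sub_self _
    rw [this, map_zero]
  obtain ⟨x, hx⟩ := hψs 1
  have hx0 : R.res 0 = algebraMap S k (x : S) := by
    rw [map_zero]
    exact ((hmS _).mp x.2).symm
  have h1 : D (x : S) = 1 := by
    change D₀ (x : S) = 1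
    rw [hD₀ (x : S) 0 hx0, ← hx]
    congr 1
    apply Subtype.ext
    change (x : S) - f 0 = x
    rw [map_zero, sub_zero]
  rw [hD0] at h1
  exact zero_ne_one h1

end Groth.Agent.S12716
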