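import Groth.Statements.S14510
-- import your own Groth.Agent.* helpers here
import Mathlib
import Groth.Agent.Lib.Helper22.Hopf1

set_option autoImplicit false
universe u v
open CAlgX

namespace Groth.Agent.S14510

/-- Let k be an algebraically closed field, U, V, W finite-dimensional k-vector spaces with U and V
nonzero, and φ : U ⊗ V → W a linear map which is 1-generic, i.e. φ(u ⊗ v) ≠ 0 for all nonzero u and
v (φ is given here as a bilinear map). Then dim W ≥ dim U + dim V − 1. (Algebraic closedness
matters: complex multiplication ℂ ⊗ ℂ → ℂ over the reals is 1-generic with 2 + 2 − 1 > 2.) -/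
theorem result (k : Type u) [Field k] [IsAlgClosed k]
    (U V W : Type v) [AddCommGroup U] [Module k U] [AddCommGroup V] [Module k V] [AddCommGroup W] [Module k W]
    [Module.Finite k U] [Module.Finite k V] [Module.Finite k W] [Nontrivial U] [Nontrivial V]
    (φ : U →ₗ[k] V →ₗ[k] W) (hφ : ∀ (a : U) (b : V), a ≠ 0 → b ≠ 0 → φ a b ≠ 0) :
    Module.finrank k U + Module.finrank k V ≤ Module.finrank k W + 1 := by
  classical
  have hr : 0 < Module.finrank k U := Module.finrank_pos
  have hs : 0 < Module.finrank k V := Module.finrank_pos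
  let bU := Module.finBasis k U
  let bV := Module.finBasis k V
  let bW := Module.finBasis k W
  refine Groth.Agent.Lib.Helper22.Hopf1.core hr hs (Module.finrank k W)
    (fun i j l => bW.equivFun (φ (bU i) (bV j)) l) ?_
  intro a b ha hb
  have hu : bU.equivFun.symm a ≠ 0 := fun h => ha ((LinearEquiv.map_eq_zero_iff _).1 h)
  have hv : bV.equivFun.symm b ≠ 0 := fun h => hb ((LinearEquiv.map_eq_zero_iff _).1 h)
  have h := hφ _ _ hu hv
  have h2 : bW.equivFun (φ (bU.equivFun.symm a) (bV.equivFun.symm b)) ≠ 0 :=
    fun h' => h ((LinearEquiv.map_eq_zero_iff _).1 h')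
  obtain ⟨l, hl⟩ := Function.ne_iff.1 h2
  refine ⟨l, ?_⟩
  rw [Pi.zero_apply] at hl
  convert hl using 1
  rw [Module.Basis.equivFun_symm_apply, Module.Basis.equivFun_symm_apply]
  simp only [map_sum, LinearMap.sum_apply, map_smul, LinearMap.smul_apply, Finset.sum_apply,
    Pi.smul_apply, smul_eq_mul, Pi.zero_apply]
  rw [Finset.sum_comm]
  refine Finset.sum_congr rfl fun j _ => ?_
  rw [Finset.mul_sum]
  refine Finset.sum_congr rfl fun i _ => ?_
  ring

end Groth.Agent.S14510
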