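import Groth.Statements.S14262
import Mathlib

set_option autoImplicit false
universe u
open FrobAlg

namespace Groth.Agent.S14262

/-- Let p be a prime, A a perfect ring of characteristic p and f ∈ A. The radical of the principal ideal
(f) — equivalently the ideal generated by all p^n-th roots of f, n ≥ 0 — is a flat A-module. -/
theorem result (p : ℕ) [Fact p.Prime] (A : Type u) [CommRing A]
    [CharP A p] [PerfectRing A p] (f : A) :
    Module.Flat A ((Ideal.span {f}).radical) := by
  have hp : p.Prime := Fact.out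
  set g : ℕ → A := fun n => (iterateFrobeniusEquiv A p n).symm f with hg
  have hroot : ∀ n (c : A), ((iterateFrobeniusEquiv A p n).symm c) ^ p ^ n = c := fun n c => by
    have := (iterateFrobeniusEquiv A p n).apply_symm_apply c
    rwa [iterateFrobeniusEquiv_def] at this
  have hgpow : ∀ n, g n ^ p ^ n = f := fun n => hroot n f
  have hinj : ∀ n (x y : A), x ^ p ^ n = y ^ p ^ n → x = y :=
    fun n x y h => (iterateFrobeniusEquiv A p n).injective h
  have hgsucc : ∀ n, g (n + 1) ^ p = g n := fun n => by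
    apply hinj n
    rw [← pow_mul, ← pow_succ', hgpow, hgpow]
  have hgadd : ∀ n d, g (n + d) ^ p ^ d = g n := by
    intro n d
    induction d with
    | zero => simp
    | succ d ih =>
      rw [pow_succ', pow_mul, ← add_assoc, hgsucc, ih]
  have hgI : ∀ n, g n ∈ (Ideal.span {f}).radical := fun n =>
    ⟨p ^ n, by rw [hgpow]; exact Ideal.subset_span rfl⟩
  have hmem : ∀ x ∈ (Ideal.span {f}).radical, ∃ n, ∀ m, n ≤ m → ∃ c, x = c * g m := by
    rintro x ⟨k, hk⟩
    obtain ⟨n, hn⟩ : ∃ n, k ≤ p ^ n := ⟨k, (Nat.lt_pow_self hp.one_lt).le⟩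
    have h1 : x ^ p ^ n ∈ Ideal.span {f} := by
      rw [← Nat.sub_add_cancel hn, pow_add]; exact Ideal.mul_mem_left _ _ hk
    obtain ⟨c, hc⟩ := Ideal.mem_span_singleton'.1 h1
    refine ⟨n, fun m hm => ?_⟩
    obtain ⟨d, rfl⟩ := Nat.exists_eq_add_of_le hm
    have hx : x = (iterateFrobeniusEquiv A p n).symm c * g n := by
      apply hinj n
      rw [mul_pow, hgpow, hroot, hc]
    have hpos : 0 < p ^ d := pow_pos hp.pos d
    refine ⟨(iterateFrobeniusEquiv A p n).symm c * g (n + d) ^ (p ^ d - 1), ?_⟩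
    rw [mul_assoc, ← pow_succ, Nat.sub_add_cancel hpos, hgadd]
    exact hx
  rw [Module.Flat.iff_forall_isTrivialRelation]
  intro l a x hx
  choose n hn using fun k => hmem (x k) (x k).2
  set N := Finset.univ.sup n with hN
  choose c hc using fun k => hn k N (Finset.le_sup (Finset.mem_univ k))
  set G := g (N + 1) with hG
  have hGp : G ^ p = g N := hgsucc N
  have hx' : ∑ k, a k * (x k : A) = 0 := by
    have := congrArg Subtype.val hx
    simpa using this
  set s := ∑ k, a k * c k with hs
  have hsG : s * G ^ p = 0 := by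
    rw [hs, Finset.sum_mul, ← hx']
    apply Finset.sum_congr rfl
    intro k _
    rw [hc k, hGp, mul_assoc]
  have hsG1 : s * G = 0 := by
    apply hinj 1 _ 0
    rw [pow_one, zero_pow hp.ne_zero, mul_pow]
    obtain ⟨q, hq⟩ : ∃ q, p = q + 1 := ⟨p - 1, (Nat.sub_add_cancel hp.pos).symm⟩
    rw [hq, pow_succ s, mul_assoc, ← hq, hsG, mul_zero]
  obtain ⟨q, hq⟩ : ∃ q, p = q + 2 := ⟨p - 2, (Nat.sub_add_cancel hp.two_le).symm⟩
  refine ⟨1, fun k _ => c k * G ^ (p - 1), fun _ => ⟨G, hgI (N + 1)⟩, ?_, ?_⟩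
  · intro k
    apply Subtype.ext
    simp only [Finset.univ_unique, Finset.sum_singleton, Submodule.coe_smul, smul_eq_mul]
    rw [hc k, ← hGp, mul_assoc, ← pow_succ, Nat.sub_add_cancel hp.pos]
  · intro _
    have : ∑ k, a k * (c k * G ^ (p - 1)) = s * G ^ (p - 1) := by
      rw [hs, Finset.sum_mul]
      exact Finset.sum_congr rfl fun k _ => (mul_assoc _ _ _).symm
    rw [this]
    have hp1 : p - 1 = q + 1 := by omega
    rw [hp1, pow_succ', ← mul_assoc, hsG1, zero_mul]

end Groth.Agent.S14262
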