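import Groth.Statements.S4926
import Groth.Agent.Lib.Helper8.UnivOpen

set_option autoImplicit false
open CategoryTheory AlgebraicGeometry
universe u v w
open EGA43

namespace Groth.Agent.S4926

/-- Let f : X ⟶ Y and g : Y ⟶ Z be morphisms of schemes and x a point of X. If f ≫ g is universally open
at x, then g is universally open at the point f x. -/
theorem result {X Y Z : Scheme.{u}} (f : X ⟶ Y) (g : Y ⟶ Z) (x : X)
    (h : EGA43.IsUnivOpenAt (f ≫ g) x) : EGA43.IsUnivOpenAt g (f.base x) := by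
  intro Z' t y' hy'
  obtain ⟨c, hc1, hc2, sq⟩ := Groth.Agent.Lib.Helper8.exists_isPullback_comp f g t
  obtain ⟨x', hx'1, hx'2⟩ : ∃ x' : ↥(Limits.pullback (f ≫ g) t),
      (Limits.pullback.fst (f ≫ g) t).base x' = x ∧ c.base x' = y' := by
    obtain ⟨z, hz1, hz2⟩ := Scheme.Pullback.exists_preimage_pullback
      (f := f) (g := Limits.pullback.fst g t) x y' hy'.symm
    refine ⟨sq.isoPullback.inv.base z, ?_, ?_⟩
    · rw [← Scheme.Hom.comp_apply, sq.isoPullback_inv_fst]; exact hz1
    · rw [← Scheme.Hom.comp_apply, sq.isoPullback_inv_snd]; exact hz2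
  have h1 : IsOpenAt (Limits.pullback.snd (f ≫ g) t).base x' := h Z' t x' hx'1
  rw [← hc2, Groth.Agent.Lib.Helper8.coe_comp_base] at h1
  have h2 := Groth.Agent.Lib.Helper8.isOpenAt_of_comp_right c.base c.continuous _ x' h1
  rw [hx'2] at h2
  exact h2

end Groth.Agent.S4926
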