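import Groth.Statements.S5057
import Mathlib

set_option autoImplicit false
open CategoryTheory CategoryTheory.Limits AlgebraicGeometry
universe u
open Hensel

namespace Groth.Agent.S5057

/-- Let i : S₀ ⟶ S be a closed immersion such that for every finite morphism g : S' ⟶ S every
open-closed subset of S' ×_S S₀ is the inverse image under the first projection of exactly one
open-closed subset of S'. Then for every finite morphism g : S' ⟶ S, every open subset of S'
containing the image of S' ×_S S₀ is all of S'. -/
theorem result {S S₀ : Scheme.{u}} (i : S₀ ⟶ S) [IsClosedImmersion i]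
    (ha : ∀ (S' : Scheme.{u}) (g : S' ⟶ S), IsFinite g →
      ∀ V : Set ↥(pullback g i), IsClopen V → ∃! U : Set ↥S', IsClopen U ∧ (pullback.fst g i).base ⁻¹' U = V)
    {S' : Scheme.{u}} (g : S' ⟶ S) [IsFinite g] (U : Set ↥S') (hU : IsOpen U)
    (hU₀ : Set.range (pullback.fst g i).base ⊆ U) : U = Set.univ := by
  classical
  by_contra hne
  let Z : TopologicalSpace.Closeds S' := ⟨Uᶜ, hU.isClosed_compl⟩
  have hrange : Set.range (Scheme.IdealSheafData.vanishingIdeal Z).subschemeι.base = Uᶜ := by
    have h1 := Scheme.IdealSheafData.range_subschemeι (Scheme.IdealSheafData.vanishingIdeal Z)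
    have h2 := Scheme.IdealSheafData.coe_support_vanishingIdeal Z
    exact h1.trans h2
  have hfin : IsFinite ((Scheme.IdealSheafData.vanishingIdeal Z).subschemeι ≫ g) := inferInstance
  have hempty : IsEmpty ↥(pullback ((Scheme.IdealSheafData.vanishingIdeal Z).subschemeι ≫ g) i) := by
    constructor
    intro p
    have h1 : g.base ((Scheme.IdealSheafData.vanishingIdeal Z).subschemeι.base
        ((pullback.fst ((Scheme.IdealSheafData.vanishingIdeal Z).subschemeι ≫ g) i).base p)) =
        i.base ((pullback.snd ((Scheme.IdealSheafData.vanishingIdeal Z).subschemeι ≫ g) i).base p) := by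
      have := congrArg (fun φ : pullback ((Scheme.IdealSheafData.vanishingIdeal Z).subschemeι ≫ g) i ⟶ S =>
        φ.base p) (pullback.condition (f := (Scheme.IdealSheafData.vanishingIdeal Z).subschemeι ≫ g)
          (g := i))
      simpa only [Scheme.Hom.comp_apply] using this
    obtain ⟨z, hz1, -⟩ := Scheme.Pullback.exists_preimage_pullback _ _ h1
    have h2 : (Scheme.IdealSheafData.vanishingIdeal Z).subschemeι.base
        ((pullback.fst ((Scheme.IdealSheafData.vanishingIdeal Z).subschemeι ≫ g) i).base p) ∈ U :=
      hU₀ ⟨z, hz1⟩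
    have h3 : (Scheme.IdealSheafData.vanishingIdeal Z).subschemeι.base
        ((pullback.fst ((Scheme.IdealSheafData.vanishingIdeal Z).subschemeι ≫ g) i).base p) ∈ Uᶜ := by
      rw [← hrange]; exact ⟨_, rfl⟩
    exact h3 h2
  obtain ⟨U', -, huniq⟩ := ha (Scheme.IdealSheafData.vanishingIdeal Z).subscheme
    ((Scheme.IdealSheafData.vanishingIdeal Z).subschemeι ≫ g) hfin ∅ isClopen_empty
  have e1 := huniq ∅ ⟨isClopen_empty, Set.preimage_empty⟩
  have e2 := huniq Set.univ ⟨isClopen_univ, by ext p; exact (hempty.false p).elim⟩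
  have heq : (∅ : Set ↥(Scheme.IdealSheafData.vanishingIdeal Z).subscheme) = Set.univ :=
    e1.trans e2.symm
  have hUc : Uᶜ = ∅ := by
    rw [← hrange]
    ext y
    constructor
    · rintro ⟨w, rfl⟩
      have : w ∈ (∅ : Set ↥(Scheme.IdealSheafData.vanishingIdeal Z).subscheme) := by
        rw [heq]; trivial
      exact this.elim
    · intro h; exact h.elim
  exact hne (Set.compl_empty_iff.mp hUc)

end Groth.Agent.S5057
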