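import Groth.Statements.S18128
import Mathlib
import Groth.Agent.Lib.Helper4.Depth
import Groth.Agent.Lib.Helper28.Reflexive

set_option autoImplicit false
universe u
open CAlg

namespace Groth.Agent.S18128


namespace H18128
open IsLocalRing RingTheory.Sequence Matrix
open scoped Pointwise

theorem sub_one_le (n : ℕ) (x : ℕ∞) (h : ((n + 1 : ℕ) : ℕ∞) ≤ x) : (n : ℕ∞) ≤ x - 1 := by
  induction x using ENat.recTopCoe with
  | top => simp
  | coe m =>
    have h1 : n + 1 ≤ m := by exact_mod_cast h
    have h2 : ((m - 1 : ℕ) : ℕ∞) = (m : ℕ∞) - 1 := by push_cast; rfl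
    rw [← h2]
    exact_mod_cast (by omega : n ≤ m - 1)

section
variable {R : Type u} [CommRing R]

/-- componentwise equality in a localization gives a common multiplier -/
theorem exists_smul_eq (p : Ideal R) [p.IsPrime] {b : ℕ} (v v' : Fin b → R)
    (h : ∀ k, algebraMap R (Localization.AtPrime p) (v k) =
      algebraMap R (Localization.AtPrime p) (v' k)) :
    ∃ s : R, s ∉ p ∧ s • v = s • v' := by
  choose u hu using fun k =>
    (IsLocalization.eq_iff_exists p.primeCompl (Localization.AtPrime p)).mp (h k)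
  refine ⟨∏ k, (u k : R), ?_, ?_⟩
  · have h1 : (∏ k, (u k : R)) ∈ p.primeCompl := prod_mem (fun k _ => (u k).2)
    exact h1
  · funext k
    rw [Pi.smul_apply, Pi.smul_apply, smul_eq_mul, smul_eq_mul,
      ← Finset.mul_prod_erase Finset.univ (fun k => (u k : R)) (Finset.mem_univ k)]
    rw [mul_comm ((u k : R)) _, mul_assoc, mul_assoc, hu k]

theorem loc_inj (p : Ideal R) [p.IsPrime] {a b : ℕ} (M : Matrix (Fin a) (Fin b) R)
    (hker : LinearMap.ker (M.map (algebraMap R (Localization.AtPrime p))).mulVecLin = ⊥)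
    (z : Fin b → R) (hz : M.mulVecLin z = 0) : ∃ s : R, s ∉ p ∧ s • z = 0 := by
  have hz' : M *ᵥ z = 0 := by rwa [Matrix.mulVecLin_apply] at hz
  have h1 : algebraMap R (Localization.AtPrime p) ∘ z ∈
      LinearMap.ker (M.map (algebraMap R (Localization.AtPrime p))).mulVecLin := by
    rw [LinearMap.mem_ker]
    funext i
    rw [Matrix.mulVecLin_apply, ← RingHom.map_mulVec, hz']
    simp
  rw [hker, Submodule.mem_bot] at h1
  obtain ⟨s, hs, hsz⟩ := exists_smul_eq p z 0 (fun k => by
    have h2 := congrFun h1 k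
    simpa using h2)
  exact ⟨s, hs, by rw [hsz, smul_zero]⟩

theorem loc_mem (p : Ideal R) [p.IsPrime] {a b c : ℕ} (M : Matrix (Fin a) (Fin b) R)
    (N : Matrix (Fin b) (Fin c) R)
    (hex : LinearMap.ker (M.map (algebraMap R (Localization.AtPrime p))).mulVecLin =
      LinearMap.range (N.map (algebraMap R (Localization.AtPrime p))).mulVecLin)
    (z : Fin b → R) (hz : M.mulVecLin z = 0) :
    ∃ s : R, s ∉ p ∧ s • z ∈ LinearMap.range N.mulVecLin := by
  have hz' : M *ᵥ z = 0 := by rwa [Matrix.mulVecLin_apply] at hz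
  have h1 : algebraMap R (Localization.AtPrime p) ∘ z ∈
      LinearMap.ker (M.map (algebraMap R (Localization.AtPrime p))).mulVecLin := by
    rw [LinearMap.mem_ker]
    funext i
    rw [Matrix.mulVecLin_apply, ← RingHom.map_mulVec, hz']
    simp
  rw [hex] at h1
  obtain ⟨w', hw'⟩ := h1
  obtain ⟨t, ht⟩ := IsLocalization.exist_integer_multiples_of_finite p.primeCompl w'
  choose w hw using ht
  obtain ⟨s, hs, hsv⟩ := exists_smul_eq p (N *ᵥ w) ((t : R) • z) (fun k => by
    rw [RingHom.map_mulVec]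
    have h3 : (algebraMap R (Localization.AtPrime p)) ∘ w = (t : R) • w' := by
      funext i
      exact hw i
    rw [h3, Matrix.mulVec_smul, Pi.smul_apply, ← Matrix.mulVecLin_apply, hw']
    simp [Algebra.smul_def])
  refine ⟨s * (t : R), ?_, ?_⟩
  · exact p.primeCompl.mul_mem (show s ∈ p.primeCompl from hs) t.2
  · refine ⟨s • w, ?_⟩
    rw [Matrix.mulVecLin_apply, Matrix.mulVec_smul, hsv, mul_smul]

theorem acyc_step [IsNoetherianRing R] [IsLocalRing R] {F : Type u} [AddCommGroup F]
    [Module R F] [Module.Finite R F]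
    (B Z : Submodule R F) (x : R) (hxm : x ∈ maximalIdeal R) (hx : IsSMulRegular F x)
    (hdepth : (2 : ℕ∞) ≤ LocCoh.idealDepth (maximalIdeal R) B)
    (hsupp : ∀ p : Ideal R, p.IsPrime → p ≠ maximalIdeal R →
      ∀ z ∈ Z, ∃ s, s ∉ p ∧ s • z ∈ B) :
    Z ≤ B := by
  classical
  intro z hzZ
  by_contra hzB
  have hcol : ∀ r : R, r ∈ B.colon {z} ↔ r • z ∈ B := fun r => Submodule.mem_colon_singleton
  have hrad : maximalIdeal R ≤ (B.colon {z}).radical := by
    rw [Ideal.radical_eq_sInf]
    refine le_sInf ?_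
    rintro P ⟨haP, hP⟩
    by_contra hmP
    have hPne : P ≠ maximalIdeal R := fun h => hmP (h ▸ le_refl _)
    obtain ⟨s, hs, hsz⟩ := hsupp P hP hPne z hzZ
    exact hs (haP ((hcol s).mpr hsz))
  have hex : ∃ k, maximalIdeal R ^ k ≤ B.colon {z} :=
    Ideal.exists_pow_le_of_le_radical_of_fg hrad (IsNoetherian.noetherian _)
  have hk0 : Nat.find hex ≠ 0 := by
    intro h0
    have h1 := Nat.find_spec hex
    rw [h0, pow_zero, Ideal.one_eq_top] at h1
    have h2 : (1 : R) ∈ B.colon {z} := h1 Submodule.mem_top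
    rw [hcol, one_smul] at h2
    exact hzB h2
  obtain ⟨k', hk'⟩ : ∃ k', Nat.find hex = k' + 1 := ⟨Nat.find hex - 1, by omega⟩
  have hmin : ¬ maximalIdeal R ^ k' ≤ B.colon {z} := Nat.find_min hex (by omega)
  obtain ⟨r, hr, hrn⟩ := SetLike.not_le_iff_exists.mp hmin
  have hspec := Nat.find_spec hex
  rw [hk'] at hspec
  obtain ⟨w, hw⟩ : ∃ w, w = r • z := ⟨_, rfl⟩
  have hwB : w ∉ B := by
    rw [hw]
    exact fun h => hrn ((hcol r).mpr h)
  have hmw : ∀ t ∈ maximalIdeal R, t • w ∈ B := by
    intro t ht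
    rw [hw, smul_smul, ← hcol]
    apply hspec
    have h1 : t * r ∈ maximalIdeal R * maximalIdeal R ^ k' := Ideal.mul_mem_mul ht hr
    rwa [← pow_succ'] at h1
  have hxw : x • w ∈ B := hmw x hxm
  by_cases hIB : maximalIdeal R • (⊤ : Submodule R B) = ⊤
  · have hbot : (⊤ : Submodule R B) = ⊥ :=
      Submodule.eq_bot_of_le_smul_of_le_jacobson_bot (maximalIdeal R) ⊤ Module.Finite.fg_top
        (by rw [hIB]) (IsLocalRing.maximalIdeal_le_jacobson ⊥)
    have h0 : (⟨x • w, hxw⟩ : B) = 0 := by
      have h1 : (⟨x • w, hxw⟩ : B) ∈ (⊤ : Submodule R B) := Submodule.mem_top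
      rw [hbot] at h1
      exact (Submodule.mem_bot R).mp h1
    have h1 : x • w = 0 := congrArg Subtype.val h0
    have h2 : w = 0 := hx (show x • w = x • 0 by rw [h1, smul_zero])
    exact hwB (h2 ▸ B.zero_mem)
  · obtain ⟨rs, hlen, hmem, hreg⟩ :=
      Groth.Agent.Lib.Helper4.exists_isWeaklyRegular_of_le_idealDepth (maximalIdeal R) hIB 2
        (by exact_mod_cast hdepth)
    obtain ⟨a₁, a₂, rfl⟩ := List.length_eq_two.mp hlen
    rw [isWeaklyRegular_cons_iff, isWeaklyRegular_cons_iff] at hreg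
    obtain ⟨hreg1, hreg2, -⟩ := hreg
    have ha₁ : a₁ ∈ maximalIdeal R := hmem a₁ (by simp)
    have ha₂ : a₂ ∈ maximalIdeal R := hmem a₂ (by simp)
    obtain ⟨b₁, hb₁⟩ : ∃ b₁ : B, (b₁ : F) = a₁ • w := ⟨⟨a₁ • w, hmw a₁ ha₁⟩, rfl⟩
    obtain ⟨b₂, hb₂⟩ : ∃ b₂ : B, (b₂ : F) = a₂ • w := ⟨⟨a₂ • w, hmw a₂ ha₂⟩, rfl⟩
    have hcomm : a₂ • b₁ = a₁ • b₂ := by
      apply Subtype.ext
      rw [Submodule.coe_smul, Submodule.coe_smul, hb₁, hb₂, smul_comm]
    have hq : (Submodule.Quotient.mk b₁ : QuotSMulTop a₁ B) = 0 := by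
      apply hreg2
      show a₂ • (Submodule.Quotient.mk b₁ : QuotSMulTop a₁ B) = a₂ • 0
      rw [smul_zero, ← Submodule.Quotient.mk_smul, hcomm, Submodule.Quotient.mk_eq_zero]
      exact Submodule.smul_mem_pointwise_smul b₂ a₁ ⊤ Submodule.mem_top
    rw [Submodule.Quotient.mk_eq_zero] at hq
    obtain ⟨b₀, -, hb₀⟩ := (Submodule.mem_smul_pointwise_iff_exists _ _ _).mp hq
    obtain ⟨u, hu⟩ : ∃ u : B, (u : F) = x • w - x • (b₀ : F) :=
      ⟨⟨x • w, hxw⟩ - x • b₀, by simp⟩
    have h3 : a₁ • (b₀ : F) = a₁ • w := by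
      rw [← hb₁, ← hb₀, Submodule.coe_smul]
    have hu0 : u = 0 := by
      apply hreg1
      show a₁ • u = a₁ • 0
      rw [smul_zero]
      apply Subtype.ext
      rw [Submodule.coe_smul, hu, smul_sub, smul_comm a₁ x w, smul_comm a₁ x (b₀ : F), h3,
        sub_self]
      rfl
    have h1 : x • w = x • (b₀ : F) := by
      have h4 := congrArg Subtype.val hu0
      rw [hu] at h4
      exact sub_eq_zero.mp h4
    have h2 : w = (b₀ : F) := hx h1
    exact hwB (h2 ▸ b₀.2)

theorem main [IsLocalRing R] [IsNoetherianRing R]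
    (e : ℕ) (he : 1 ≤ e) (n : ℕ → ℕ) (A : (i : ℕ) → Matrix (Fin (n i)) (Fin (n (i + 1))) R)
    (hA : ∀ i, i + 2 ≤ e → A i * A (i + 1) = 0)
    (rs : List R) (hlen : rs.length = e) (hmem : ∀ x ∈ rs, x ∈ IsLocalRing.maximalIdeal R)
    (hreg : RingTheory.Sequence.IsRegular R rs)
    (hloc : ∀ (p : Ideal R) [p.IsPrime], p ≠ IsLocalRing.maximalIdeal R →
      LinearMap.ker ((A (e - 1)).map (algebraMap R (Localization.AtPrime p))).mulVecLin = ⊥ ∧
        ∀ i, i + 2 ≤ e →
          LinearMap.ker ((A i).map (algebraMap R (Localization.AtPrime p))).mulVecLin =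
            LinearMap.range ((A (i + 1)).map (algebraMap R (Localization.AtPrime p))).mulVecLin) :
    LinearMap.ker (A (e - 1)).mulVecLin = ⊥ ∧
      ∀ i, i + 2 ≤ e → LinearMap.ker (A i).mulVecLin = LinearMap.range (A (i + 1)).mulVecLin := by
  have hdR : (e : ℕ∞) ≤ LocCoh.idealDepth (maximalIdeal R) R := by
    rw [← hlen]
    exact Groth.Agent.Lib.Helper4.length_le_idealDepth _ rs hreg.toIsWeaklyRegular hmem
  have hdF : ∀ m : ℕ, (e : ℕ∞) ≤ LocCoh.idealDepth (maximalIdeal R) (Fin m → R) := fun m =>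
    le_trans hdR (Groth.Agent.Lib.Helper28.le_idealDepth_pi_fin _ _)
  obtain ⟨x, hxm, hxreg⟩ : ∃ x ∈ maximalIdeal R, IsSMulRegular R x := by
    cases rs with
    | nil =>
      simp at hlen
      omega
    | cons x rs' =>
      have h1 := hreg.toIsWeaklyRegular
      rw [isWeaklyRegular_cons_iff] at h1
      exact ⟨x, hmem x (by simp), h1.1⟩
  have hxF : ∀ m : ℕ, IsSMulRegular (Fin m → R) x := by
    intro m v v' hvv'
    funext k
    exact hxreg (congrFun hvv' k)
  have key : ∀ k i, i + 1 + k = e →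
      ((i + 1 : ℕ) : ℕ∞) ≤ LocCoh.idealDepth (maximalIdeal R)
        (LinearMap.range (A i).mulVecLin) ∧
      (k = 0 → LinearMap.ker (A i).mulVecLin = ⊥) ∧
      (1 ≤ k → LinearMap.ker (A i).mulVecLin = LinearMap.range (A (i + 1)).mulVecLin) := by
    intro k
    induction k with
    | zero =>
      intro i hi
      obtain rfl : i = e - 1 := by omega
      have hker : LinearMap.ker (A (e - 1)).mulVecLin = ⊥ := by
        rw [eq_bot_iff]
        apply acyc_step ⊥ _ x hxm (hxF _)
        · have htop : maximalIdeal R •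
              (⊤ : Submodule R (⊥ : Submodule R (Fin (n (e - 1 + 1)) → R))) = ⊤ := by
            rw [eq_top_iff]
            intro y _
            have hy : y = 0 := Subsingleton.elim _ _
            rw [hy]
            exact Submodule.zero_mem _
          rw [Groth.Agent.Lib.Helper4.idealDepth_of_smul_top_eq _ htop]
          exact le_top
        · intro p hp hpm z hz
          haveI := hp
          have h1 := (hloc p hpm).1
          obtain ⟨s, hs, hsz⟩ := loc_inj p (A (e - 1)) h1 z (LinearMap.mem_ker.mp hz)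
          exact ⟨s, hs, (Submodule.mem_bot R).mpr hsz⟩
      refine ⟨?_, fun _ => hker, fun h => absurd h (by omega)⟩
      have hinj : Function.Injective (A (e - 1)).mulVecLin := LinearMap.ker_eq_bot.mp hker
      rw [← Groth.Agent.Lib.Helper4.idealDepth_congr (maximalIdeal R)
        (LinearEquiv.ofInjective (A (e - 1)).mulVecLin hinj)]
      have h1 := hdF (n (e - 1 + 1))
      exact le_trans (by exact_mod_cast (by omega : e - 1 + 1 ≤ e)) h1
    | succ k ih =>
      intro i hi
      obtain ⟨hd1, -, -⟩ := ih (i + 1) (by omega)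
      have hcomp : (A i).mulVecLin ∘ₗ (A (i + 1)).mulVecLin = 0 := by
        rw [← Matrix.mulVecLin_mul, hA i (by omega)]
        simp
      have hBZ : LinearMap.range (A (i + 1)).mulVecLin ≤ LinearMap.ker (A i).mulVecLin := by
        rw [LinearMap.range_le_ker_iff]
        exact hcomp
      have hZB : LinearMap.ker (A i).mulVecLin ≤ LinearMap.range (A (i + 1)).mulVecLin := by
        apply acyc_step _ _ x hxm (hxF _)
        · refine le_trans ?_ hd1
          exact_mod_cast (by omega : 2 ≤ i + 1 + 1)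
        · intro p hp hpm z hz
          haveI := hp
          have h1 := (hloc p hpm).2 i (by omega)
          exact loc_mem p (A i) (A (i + 1)) h1 z (LinearMap.mem_ker.mp hz)
      have hex : LinearMap.ker (A i).mulVecLin = LinearMap.range (A (i + 1)).mulVecLin :=
        le_antisymm hZB hBZ
      refine ⟨?_, fun h => absurd h (by omega), fun _ => hex⟩
      have hexact : Function.Exact (LinearMap.range (A (i + 1)).mulVecLin).subtype
          (A i).mulVecLin.rangeRestrict := by
        rw [LinearMap.exact_iff, LinearMap.ker_rangeRestrict, Submodule.range_subtype]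
        exact hex
      have hses := Groth.Agent.Lib.Helper4.idealDepth_shortExact (maximalIdeal R)
        (LinearMap.range (A (i + 1)).mulVecLin).subtype (A i).mulVecLin.rangeRestrict
        (Submodule.subtype_injective _) (LinearMap.surjective_rangeRestrict _) hexact
      refine le_trans (le_min ?_ ?_) hses.2.1
      · exact le_trans (by exact_mod_cast (by omega : i + 1 ≤ e)) (hdF (n (i + 1)))
      · exact sub_one_le (i + 1) _ hd1
  refine ⟨(key 0 (e - 1) (by omega)).2.1 rfl, ?_⟩
  intro i hi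
  exact (key (e - (i + 1)) i (by omega)).2.2 (by omega)

end

end H18128

/-- Local step of Buchsbaum–Eisenbud: let R be a Noetherian local ring with maximal ideal m, and 0 →
R^(n_e) → ⋯ → R^(n_1) → R^(n_0) a complex of finite free modules, the map R^(n_(i+1)) → R^(n_i)
being given by the matrix A i, with 1 ≤ e and e at most the depth of R (there is an R-regular
sequence of length e inside m). If for every prime ideal p ≠ m the complex of matrices over R_p
obtained by localization is exact at R_p^(n_e), …, R_p^(n_1), then the complex is exact at R^(n_e),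
…, R^(n_1). -/
theorem result
    {R : Type u} [CommRing R] [IsLocalRing R] [IsNoetherianRing R]
    (e : ℕ) (he : 1 ≤ e) (n : ℕ → ℕ) (A : (i : ℕ) → Matrix (Fin (n i)) (Fin (n (i + 1))) R)
    (hA : ∀ i, i + 2 ≤ e → A i * A (i + 1) = 0)
    (rs : List R) (hlen : rs.length = e) (hmem : ∀ x ∈ rs, x ∈ IsLocalRing.maximalIdeal R)
    (hreg : RingTheory.Sequence.IsRegular R rs)
    (hloc : ∀ (p : Ideal R) [p.IsPrime], p ≠ IsLocalRing.maximalIdeal R →
      LinearMap.ker ((A (e - 1)).map (algebraMap R (Localization.AtPrime p))).mulVecLin = ⊥ ∧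
        ∀ i, i + 2 ≤ e →
          LinearMap.ker ((A i).map (algebraMap R (Localization.AtPrime p))).mulVecLin =
            LinearMap.range ((A (i + 1)).map (algebraMap R (Localization.AtPrime p))).mulVecLin) :
    LinearMap.ker (A (e - 1)).mulVecLin = ⊥ ∧
      ∀ i, i + 2 ≤ e → LinearMap.ker (A i).mulVecLin = LinearMap.range (A (i + 1)).mulVecLin := by
  exact H18128.main e he n A hA rs hlen hmem hreg hloc

end Groth.Agent.S18128
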