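import Groth.Statements.S5821
import Groth.Agent.Lib.Helper9.CharHomLib

set_option autoImplicit false
universe u v
open EGA41

namespace Groth.Agent.S5821

open Groth.Agent.Lib.Helper9.CharHomLib
open TensorProduct

/-- For a ring map A → B, an ideal K of B, C = B ⧸ K and the B-extension E = B ⧸ K² of C by K/K², if E
is A-trivial then its characteristic homomorphism Υ_{C/B/A} → K/K² is bijective (stated for every
C-linear χ satisfying the defining square, of which there is exactly one). -/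
theorem result {A : Type u} {B : Type v} [CommRing A] [CommRing B] [Algebra A B]
    (K : Ideal B) (hK : (Exal.Ext.infinitesimal K).IsTrivialOver A)
    (χ : ↥(EGA41.imperfection A B (B ⧸ K)) →ₗ[B ⧸ K] K.Cotangent)
    (hχ : (Exal.Ext.infinitesimal K).IsCharHom A χ) :
    Function.Bijective χ := by
  set X := Exal.Ext.infinitesimal K with hXdef
  have hinj := deltaL_injective A X hK
  have key : ∀ (x : B) (hx : x ∈ K)
      (hz : (1 : B ⧸ K) ⊗ₜ[B] KaehlerDifferential.D A B x ∈ EGA41.imperfection A B (B ⧸ K)),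
      χ ⟨_, hz⟩ = K.toCotangent ⟨x, hx⟩ := by
    intro x hx hz
    apply hinj
    rw [hχ ⟨_, hz⟩]
    show X.baseChangeToMiddle A ((1 : B ⧸ K) ⊗ₜ[B] KaehlerDifferential.D A B x) = _
    rw [baseChangeToMiddle_tmul_D]
    have h5 : algebraMap B (X.CharCarrier A) x = X.inclC A (K.toCotangent ⟨x, hx⟩) := by
      show algebraMap B (B ⧸ K ^ 2) x = K.cotangentToQuotientSquare (K.toCotangent ⟨x, hx⟩)
      rw [Ideal.toCotangent_to_quotient_square]; rfl
    rw [h5]; rfl
  have hmem : ∀ (x : B) (hx : x ∈ K),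
      (1 : B ⧸ K) ⊗ₜ[B] KaehlerDifferential.D A B x ∈ EGA41.imperfection A B (B ⧸ K) := by
    intro x hx
    show _ ∈ LinearMap.ker _
    rw [LinearMap.mem_ker, KaehlerDifferential.mapBaseChange_tmul, KaehlerDifferential.map_D,
      one_smul]
    have : algebraMap B (B ⧸ K) x = 0 := Ideal.Quotient.eq_zero_iff_mem.mpr hx
    rw [this, map_zero]
  constructor
  · rw [injective_iff_map_eq_zero]
    intro z hz
    have hz2 : (z : (B ⧸ K) ⊗[B] Ω[B⁄A]) ∈
        LinearMap.range (KaehlerDifferential.kerCotangentToTensor A B (B ⧸ K)) := by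
      rw [KaehlerDifferential.range_kerCotangentToTensor A B (B ⧸ K)
        Ideal.Quotient.mk_surjective]
      exact z.2
    obtain ⟨y, hy⟩ := hz2
    obtain ⟨x', rfl⟩ := Ideal.toCotangent_surjective _ y
    have hx'K : (x' : B) ∈ K :=
      Ideal.Quotient.eq_zero_iff_mem.mp (RingHom.mem_ker.mp x'.2)
    have hz3 : z = ⟨(1 : B ⧸ K) ⊗ₜ[B] KaehlerDifferential.D A B (x' : B), hmem _ hx'K⟩ :=
      Subtype.ext hy.symm
    rw [hz3, key _ hx'K, Ideal.toCotangent_eq_zero] at hz
    have hkerK : RingHom.ker (algebraMap B (B ⧸ K)) = K := Ideal.mk_ker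
    have hsq : RingHom.ker (algebraMap B (B ⧸ K)) ^ 2 = K ^ 2 := by rw [hkerK]
    have h4 : Ideal.toCotangent _ x' = 0 := by
      rw [Ideal.toCotangent_eq_zero, hsq]; exact hz
    apply Subtype.ext
    rw [← hy, h4, map_zero]; rfl
  · intro y
    obtain ⟨⟨x, hx⟩, rfl⟩ := K.toCotangent_surjective y
    exact ⟨⟨_, hmem x hx⟩, key x hx _⟩

end Groth.Agent.S5821
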