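import Groth.Statements.S18700
import Groth.Agent.Lib.Helper4.Depth

set_option autoImplicit false
universe u

namespace Groth.Agent.S18700

open Groth.Agent.Lib.Helper4

section aux

variable {A : Type u} [CommRing A] [IsNoetherianRing A] (I : Ideal A)

/-- a submodule of a finite module of positive `I`-depth has positive `I`-depth -/
theorem one_le_idealDepth_submodule {E : Type u} [AddCommGroup E] [Module A E] [Module.Finite A E]
    (N : Submodule A E) (h : 1 ≤ LocCoh.idealDepth I E) : 1 ≤ LocCoh.idealDepth I N := by
  have hex : Function.Exact N.subtype N.mkQ := by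
    intro y
    rw [Submodule.mkQ_apply, Submodule.Quotient.mk_eq_zero]
    simp
  have := (idealDepth_shortExact I N.subtype N.mkQ N.injective_subtype N.mkQ_surjective hex).2.2
  refine le_trans (le_min h ?_) this
  exact le_add_self

/-- depth of a kernel -/
theorem le_idealDepth_ker {E0 E1 : Type u} [AddCommGroup E0] [Module A E0] [Module.Finite A E0]
    [AddCommGroup E1] [Module A E1] [Module.Finite A E1] (u : E0 →ₗ[A] E1) :
    min (LocCoh.idealDepth I E0) (LocCoh.idealDepth I (LinearMap.range u) + 1) ≤
      LocCoh.idealDepth I (LinearMap.ker u) := by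
  have hex : Function.Exact (LinearMap.ker u).subtype u.rangeRestrict := by
    intro y
    constructor
    · intro hy
      have : u y = 0 := congrArg Subtype.val hy
      exact ⟨⟨y, this⟩, rfl⟩
    · rintro ⟨x, rfl⟩
      exact Subtype.ext x.2
  exact (idealDepth_shortExact I (LinearMap.ker u).subtype u.rangeRestrict
    (LinearMap.ker u).injective_subtype u.surjective_rangeRestrict hex).2.2

end aux

/-- Affine form. Let A be a Noetherian ring, I an ideal, and G the kernel of a linear map u : E⁰ → E¹ of
finite A-modules. If depth_I E⁰ ≥ 1 then depth_I G ≥ 1; if depth_I E⁰ ≥ 2 and depth_I E¹ ≥ 1 then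
depth_I G ≥ 2. -/
theorem result (A : Type u) [CommRing A] [IsNoetherianRing A] (I : Ideal A)
    (E0 E1 : Type u) [AddCommGroup E0] [Module A E0] [Module.Finite A E0] [AddCommGroup E1] [Module A E1]
    [Module.Finite A E1] (u : E0 →ₗ[A] E1) :
    (1 ≤ LocCoh.idealDepth I E0 → 1 ≤ LocCoh.idealDepth I (LinearMap.ker u)) ∧
    (2 ≤ LocCoh.idealDepth I E0 → 1 ≤ LocCoh.idealDepth I E1 → 2 ≤ LocCoh.idealDepth I (LinearMap.ker u)) := by
  refine ⟨fun h => ?_, fun h0 h1 => ?_⟩
  · exact le_trans (le_min h le_add_self) (le_idealDepth_ker I u)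
  · have hR := one_le_idealDepth_submodule I (LinearMap.range u) h1
    refine le_trans (le_min h0 ?_) (le_idealDepth_ker I u)
    rw [← one_add_one_eq_two]
    exact add_le_add_left hR 1

end Groth.Agent.S18700
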