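import Groth.Statements.S18701
import Groth.Agent.S18700
import Groth.Agent.Lib.Helper28.DepthLoc
import Groth.Agent.Lib.Helper28.SuppLoc

set_option autoImplicit false
universe u
open QGor

namespace Groth.Agent.S18701

section aux

open Groth.Agent.Lib.Helper4 Groth.Agent.Lib.Helper28

variable {A : Type u} [CommRing A] [IsNoetherianRing A]
  {E0 E1 : Type u} [AddCommGroup E0] [Module A E0] [Module.Finite A E0] [AddCommGroup E1] [Module A E1]
  [Module.Finite A E1] (u : E0 →ₗ[A] E1)

theorem supportDim_ker_le (p : Ideal A) [p.IsPrime] :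
    Module.supportDim (Localization.AtPrime p) (LocalizedModule p.primeCompl (LinearMap.ker u)) ≤
      Module.supportDim (Localization.AtPrime p) (LocalizedModule p.primeCompl E0) :=
  Module.supportDim_le_of_injective (LocalizedModule.map p.primeCompl (LinearMap.ker u).subtype)
    (LocalizedModule.map_injective _ _ (LinearMap.ker u).injective_subtype)

theorem depth_ker_eq (p : Ideal A) [p.IsPrime] :
    LocCoh.depth (Localization.AtPrime p) (LocalizedModule p.primeCompl (LinearMap.ker u)) =
      LocCoh.idealDepth (IsLocalRing.maximalIdeal (Localization.AtPrime p))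
        (LinearMap.ker (LocalizedModule.map p.primeCompl u)) :=
  Groth.Agent.Lib.Helper28.idealDepth_congr (kerLocalizedEquiv p.primeCompl u) _

theorem sk_one_at (p : Ideal A) [p.IsPrime]
    (h : min (1 : WithBot ℕ∞)
        (Module.supportDim (Localization.AtPrime p) (LocalizedModule p.primeCompl E0)) ≤
      ((LocCoh.depth (Localization.AtPrime p) (LocalizedModule p.primeCompl E0) : ℕ∞) :
        WithBot ℕ∞)) :
    min (1 : WithBot ℕ∞)
        (Module.supportDim (Localization.AtPrime p)
          (LocalizedModule p.primeCompl (LinearMap.ker u))) ≤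
      ((LocCoh.depth (Localization.AtPrime p)
        (LocalizedModule p.primeCompl (LinearMap.ker u)) : ℕ∞) : WithBot ℕ∞) := by
  by_cases h1 : (1 : ℕ∞) ≤ LocCoh.depth (Localization.AtPrime p) (LocalizedModule p.primeCompl E0)
  · have := (Groth.Agent.S18700.result (Localization.AtPrime p)
      (IsLocalRing.maximalIdeal (Localization.AtPrime p))
      (LocalizedModule p.primeCompl E0) (LocalizedModule p.primeCompl E1)
      (LocalizedModule.map p.primeCompl u)).1 h1
    rw [← depth_ker_eq u p] at this
    refine le_trans (min_le_left _ _) ?_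
    exact_mod_cast this
  · have h0 : LocCoh.depth (Localization.AtPrime p) (LocalizedModule p.primeCompl E0) = 0 := by
      by_contra hne
      exact h1 (Order.one_le_iff_ne_zero.mpr hne)
    rw [h0] at h
    refine le_trans (min_le_min le_rfl (supportDim_ker_le u p)) (le_trans h ?_)
    exact_mod_cast (zero_le : (0 : ℕ∞) ≤ _)

end aux

/-- Affine form. Let A be a Noetherian ring and G the kernel of a linear map u : E⁰ → E¹ of finite
A-modules. If E⁰ has (S_1) then G has (S_1). If Supp G ⊆ Supp E¹, E¹ has (S_1) and E⁰ has (S_2),
then G has (S_2). -/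
theorem result (A : Type u) [CommRing A] [IsNoetherianRing A]
    (E0 E1 : Type u) [AddCommGroup E0] [Module A E0] [Module.Finite A E0] [AddCommGroup E1] [Module A E1]
    [Module.Finite A E1] (u : E0 →ₗ[A] E1) :
    (LocCoh.HasSk 1 A E0 → LocCoh.HasSk 1 A (LinearMap.ker u)) ∧
    (Module.support A (LinearMap.ker u) ⊆ Module.support A E1 → LocCoh.HasSk 1 A E1 → LocCoh.HasSk 2 A E0 →
      LocCoh.HasSk 2 A (LinearMap.ker u)) := by
  refine ⟨fun hS p _ => ?_, fun hsupp hS1 hS2 p _ => ?_⟩
  · have := hS p
    simp only [Nat.cast_one] at this ⊢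
    exact sk_one_at u p this
  have hS2p := hS2 p
  have hS1p := hS1 p
  simp only [Nat.cast_ofNat] at hS2p ⊢
  simp only [Nat.cast_one] at hS1p
  have hd0 := supportDim_ker_le u p
  have hd1 : Module.supportDim (Localization.AtPrime p)
      (LocalizedModule p.primeCompl (LinearMap.ker u)) ≤
      Module.supportDim (Localization.AtPrime p) (LocalizedModule p.primeCompl E1) :=
    Groth.Agent.Lib.Helper28.supportDim_localizedModule_le_of_support_subset p hsupp
  by_cases h2 : (2 : WithBot ℕ∞) ≤ Module.supportDim (Localization.AtPrime p)
      (LocalizedModule p.primeCompl (LinearMap.ker u))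
  · have e0 := hS2p
    have e1 := hS1p
    rw [min_eq_left (le_trans h2 hd0)] at e0
    have h12 : (1 : WithBot ℕ∞) ≤ 2 := by norm_num
    rw [min_eq_left (le_trans h12 (le_trans h2 hd1))] at e1
    have e0' : (2 : ℕ∞) ≤ LocCoh.depth (Localization.AtPrime p)
        (LocalizedModule p.primeCompl E0) := WithBot.coe_le_coe.mp e0
    have e1' : (1 : ℕ∞) ≤ LocCoh.depth (Localization.AtPrime p)
        (LocalizedModule p.primeCompl E1) := WithBot.coe_le_coe.mp e1
    have := (Groth.Agent.S18700.result (Localization.AtPrime p)
      (IsLocalRing.maximalIdeal (Localization.AtPrime p))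
      (LocalizedModule p.primeCompl E0) (LocalizedModule p.primeCompl E1)
      (LocalizedModule.map p.primeCompl u)).2 e0' e1'
    rw [← depth_ker_eq u p] at this
    refine le_trans (min_le_left _ _) ?_
    exact WithBot.coe_le_coe.mpr this
  · rw [not_le] at h2
    have hle1 : Module.supportDim (Localization.AtPrime p)
        (LocalizedModule p.primeCompl (LinearMap.ker u)) ≤ 1 := by
      generalize Module.supportDim (Localization.AtPrime p)
        (LocalizedModule p.primeCompl (LinearMap.ker u)) = d at h2
      induction d using WithBot.recBotCoe with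
      | bot => exact bot_le
      | coe d =>
        have h2' : d < 2 := WithBot.coe_lt_coe.mp h2
        have : d ≤ 1 := by
          rw [← one_add_one_eq_two] at h2'
          exact (ENat.lt_add_one_iff (by simp)).mp h2'
        exact WithBot.coe_le_coe.mpr this
    have hS1' : min (1 : WithBot ℕ∞)
        (Module.supportDim (Localization.AtPrime p) (LocalizedModule p.primeCompl E0)) ≤
        ((LocCoh.depth (Localization.AtPrime p) (LocalizedModule p.primeCompl E0) : ℕ∞) :
          WithBot ℕ∞) := by
      refine le_trans ?_ hS2p
      exact min_le_min (by norm_num) le_rfl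
    have := sk_one_at u p hS1'
    rw [min_eq_right hle1] at this
    rw [min_eq_right (le_of_lt h2)]
    exact this

end Groth.Agent.S18701
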