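import Groth.Statements.S18702
import Groth.Agent.S18700
import Groth.Agent.S18701
import Groth.Agent.Lib.Helper28.Reflexive

set_option autoImplicit false
universe u
open QGor

namespace Groth.Agent.S18702

/-- Affine form, for an arbitrary Noetherian ring A (not assumed to be a domain). Let I be an ideal and
G a finite reflexive A-module (the evaluation map into the double dual is bijective). For k = 1 and
k = 2: if depth_I A ≥ k then depth_I G ≥ k; and if A satisfies (S_k) then G satisfies (S_k). -/
theorem result (A : Type u) [CommRing A] [IsNoetherianRing A] (I : Ideal A)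
    (G : Type u) [AddCommGroup G] [Module A G] [Module.Finite A G] [Module.IsReflexive A G] :
    (1 ≤ LocCoh.idealDepth I A → 1 ≤ LocCoh.idealDepth I G) ∧
    (2 ≤ LocCoh.idealDepth I A → 2 ≤ LocCoh.idealDepth I G) ∧
    (LocCoh.HasSk 1 A A → LocCoh.HasSk 1 A G) ∧ (LocCoh.HasSk 2 A A → LocCoh.HasSk 2 A G) := by
  open Groth.Agent.Lib.Helper28 in
  obtain ⟨n, m, g, h, hg, hex⟩ := exists_exact_of_isReflexive (A := A) G
  let e : G ≃ₗ[A] LinearMap.ker h :=
    (LinearEquiv.ofInjective g hg).trans (LinearEquiv.ofEq _ _ (LinearMap.exact_iff.mp hex).symm)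
  -- a variant with target having full support
  let h' : (Fin n → A) →ₗ[A] ((Fin m → A) × A) := LinearMap.inl A (Fin m → A) A ∘ₗ h
  have hex' : Function.Exact g h' := by
    intro x
    rw [← hex x]
    simp [h', Prod.ext_iff]
  let e' : G ≃ₗ[A] LinearMap.ker h' :=
    (LinearEquiv.ofInjective g hg).trans (LinearEquiv.ofEq _ _ (LinearMap.exact_iff.mp hex').symm)
  refine ⟨fun h1 => ?_, fun h2 => ?_, fun hS => ?_, fun hS => ?_⟩
  · rw [Groth.Agent.Lib.Helper28.idealDepth_congr e I]
    exact (Groth.Agent.S18700.result A I _ _ h).1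
      (le_trans h1 (Groth.Agent.Lib.Helper28.le_idealDepth_pi_fin I n))
  · rw [Groth.Agent.Lib.Helper28.idealDepth_congr e I]
    have h12 : (1 : ℕ∞) ≤ 2 := by norm_num
    exact (Groth.Agent.S18700.result A I _ _ h).2
      (le_trans h2 (Groth.Agent.Lib.Helper28.le_idealDepth_pi_fin I n))
      (le_trans h12 (le_trans h2 (Groth.Agent.Lib.Helper28.le_idealDepth_pi_fin I m)))
  · exact Groth.Agent.Lib.Helper28.hasSk_congr 1 e.symm
      ((Groth.Agent.S18701.result A _ _ h).1 (Groth.Agent.Lib.Helper28.hasSk_pi_fin 1 n hS))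
  · have hS1 : LocCoh.HasSk 1 A A := by
      intro p _
      refine le_trans ?_ (hS p)
      exact min_le_min (by norm_num) le_rfl
    have hsupp : Module.support A (LinearMap.ker h') ⊆ Module.support A ((Fin m → A) × A) := by
      intro q _
      rw [Module.mem_support_iff']
      refine ⟨(0, 1), fun r hr hr0 => ?_⟩
      have : r = 0 := by simpa using hr0
      exact hr (this ▸ q.asIdeal.zero_mem)
    exact Groth.Agent.Lib.Helper28.hasSk_congr 2 e'.symm
      ((Groth.Agent.S18701.result A _ _ h').2 hsupp
        (Groth.Agent.Lib.Helper28.hasSk_of_free 1 _ hS1)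
        (Groth.Agent.Lib.Helper28.hasSk_pi_fin 2 n hS))

end Groth.Agent.S18702
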