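import Groth.Statements.S14501
import Groth.Agent.S2855

set_option autoImplicit false
universe u
open IntTh

namespace Groth.Agent.S14501


section
variable {A : Type u} [CommRing A] {V : Type u} [AddCommGroup V] [Module A V]

/-- additivity of length along a chain of submodules -/
lemma length_chain (L₁ L₂ L₃ : Submodule A V) (h12 : L₁ ≤ L₂) (h23 : L₂ ≤ L₃) :
    Module.length A (↥L₃ ⧸ L₁.submoduleOf L₃) =
      Module.length A (↥L₂ ⧸ L₁.submoduleOf L₂) + Module.length A (↥L₃ ⧸ L₂.submoduleOf L₃) := by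
  let f : (↥L₂ ⧸ L₁.submoduleOf L₂) →ₗ[A] (↥L₃ ⧸ L₁.submoduleOf L₃) :=
    Submodule.mapQ (L₁.submoduleOf L₂) (L₁.submoduleOf L₃) (Submodule.inclusion h23)
      (fun x hx => hx)
  let g : (↥L₃ ⧸ L₁.submoduleOf L₃) →ₗ[A] (↥L₃ ⧸ L₂.submoduleOf L₃) :=
    Submodule.mapQ (L₁.submoduleOf L₃) (L₂.submoduleOf L₃) LinearMap.id
      (fun x hx => h12 hx)
  have hf : Function.Injective f := by
    rw [← LinearMap.ker_eq_bot, LinearMap.ker_eq_bot']
    intro x hx
    obtain ⟨x, rfl⟩ := Submodule.mkQ_surjective _ x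
    have h1 : Submodule.Quotient.mk (p := L₁.submoduleOf L₃) (Submodule.inclusion h23 x) = 0 := hx
    rw [Submodule.Quotient.mk_eq_zero] at h1
    exact (Submodule.Quotient.mk_eq_zero _).mpr h1
  have hg : Function.Surjective g := by
    intro y
    obtain ⟨y, rfl⟩ := Submodule.mkQ_surjective _ y
    exact ⟨Submodule.Quotient.mk y, rfl⟩
  have hex : Function.Exact f g := by
    intro y
    obtain ⟨y, rfl⟩ := Submodule.mkQ_surjective _ y
    constructor
    · intro hy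
      have h1 : Submodule.Quotient.mk (p := L₂.submoduleOf L₃) y = 0 := hy
      rw [Submodule.Quotient.mk_eq_zero] at h1
      exact ⟨Submodule.Quotient.mk ⟨y.1, h1⟩, rfl⟩
    · rintro ⟨x, hx⟩
      obtain ⟨x, rfl⟩ := Submodule.mkQ_surjective _ x
      rw [← hx]
      show Submodule.Quotient.mk (p := L₂.submoduleOf L₃) (Submodule.inclusion h23 x) = 0
      rw [Submodule.Quotient.mk_eq_zero]
      exact x.2
  exact Module.length_eq_add_of_exact f g hf hg hex

lemma pair_formula (L₁ L₂ N : Submodule A V) (hN1 : N ≤ L₁) (hN2 : N ≤ L₂)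
    (hf1 : Module.length A (↥L₁ ⧸ N.submoduleOf L₁) ≠ ⊤)
    (hf2 : Module.length A (↥L₂ ⧸ N.submoduleOf L₂) ≠ ⊤) :
    ((Module.length A (↥L₁ ⧸ (L₁ ⊓ L₂).submoduleOf L₁)).toNat : ℤ) -
      ((Module.length A (↥L₂ ⧸ (L₁ ⊓ L₂).submoduleOf L₂)).toNat : ℤ) =
    ((Module.length A (↥L₁ ⧸ N.submoduleOf L₁)).toNat : ℤ) -
      ((Module.length A (↥L₂ ⧸ N.submoduleOf L₂)).toNat : ℤ) := by
  have e1 := length_chain N (L₁ ⊓ L₂) L₁ (le_inf hN1 hN2) inf_le_left
  have e2 := length_chain N (L₁ ⊓ L₂) L₂ (le_inf hN1 hN2) inf_le_right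
  rw [e1] at hf1
  rw [e2] at hf2
  have ha : Module.length A (↥(L₁ ⊓ L₂) ⧸ N.submoduleOf (L₁ ⊓ L₂)) ≠ ⊤ :=
    fun h => hf1 (by rw [h, top_add])
  have hb : Module.length A (↥L₁ ⧸ (L₁ ⊓ L₂).submoduleOf L₁) ≠ ⊤ :=
    fun h => hf1 (by rw [h, add_top])
  have hc : Module.length A (↥L₂ ⧸ (L₁ ⊓ L₂).submoduleOf L₂) ≠ ⊤ :=
    fun h => hf2 (by rw [h, add_top])
  rw [e1, e2, ENat.toNat_add ha hb, ENat.toNat_add ha hc]
  push_cast
  ring

end

section
variable {A : Type u} [CommRing A] [IsDomain A] {K : Type u} [Field K] [Algebra A K]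
  [IsFractionRing A K] {V : Type u} [AddCommGroup V] [Module K V] [Module A V]
  [IsScalarTower A K V]

lemma exists_smul_mem (M' : Submodule A V) [Submodule.IsLattice K M'] (x : V) :
    ∃ a : A, a ≠ 0 ∧ a • x ∈ M' := by
  have hx : x ∈ Submodule.span K (M' : Set V) := by
    rw [Submodule.IsLattice.span_eq_top]; trivial
  induction hx using Submodule.span_induction with
  | mem y hy => exact ⟨1, one_ne_zero, by rw [one_smul]; exact hy⟩
  | zero => exact ⟨1, one_ne_zero, by rw [smul_zero]; exact M'.zero_mem⟩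
  | add y z _ _ hy hz =>
    obtain ⟨a, ha, hay⟩ := hy
    obtain ⟨b, hb, hbz⟩ := hz
    refine ⟨a * b, mul_ne_zero ha hb, ?_⟩
    rw [smul_add]
    refine M'.add_mem ?_ ?_
    · rw [mul_comm, mul_smul]; exact M'.smul_mem b hay
    · rw [mul_smul]; exact M'.smul_mem a hbz
  | smul c y _ hy =>
    obtain ⟨a, ha, hay⟩ := hy
    obtain ⟨b, s, hs, rfl⟩ := IsFractionRing.div_surjective (A := A) c
    have hs0 : s ≠ 0 := nonZeroDivisors.ne_zero hs
    refine ⟨s * a, mul_ne_zero hs0 ha, ?_⟩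
    have hK : algebraMap A K s ≠ 0 := by
      rw [Ne, map_eq_zero_iff _ (IsFractionRing.injective A K)]; exact hs0
    have : (s * a) • ((algebraMap A K b / algebraMap A K s) • y) = b • (a • y) := by
      rw [← algebraMap_smul K (s * a), ← algebraMap_smul K b, ← algebraMap_smul K a, smul_smul,
        smul_smul, map_mul]
      congr 1
      field_simp
    rw [this]
    exact M'.smul_mem b hay

lemma exists_smul_le (M M' : Submodule A V) [Submodule.IsLattice K M] [Submodule.IsLattice K M'] :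
    ∃ a : A, a ≠ 0 ∧ ∀ x ∈ M, a • x ∈ M' := by
  have hfg : M.FG := Submodule.IsLattice.fg (A := K)
  refine Submodule.fg_induction (motive := fun N _ => ∃ a : A, a ≠ 0 ∧ ∀ x ∈ N, a • x ∈ M')
    ?_ ?_ M hfg
  · intro x
    obtain ⟨a, ha, hax⟩ := exists_smul_mem (K := K) M' x
    refine ⟨a, ha, fun y hy => ?_⟩
    obtain ⟨c, rfl⟩ := Submodule.mem_span_singleton.mp hy
    rw [smul_comm]
    exact M'.smul_mem c hax
  · intro N₁ N₂ _ _ h1 h2
    obtain ⟨a, ha, h1⟩ := h1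
    obtain ⟨b, hb, h2⟩ := h2
    refine ⟨a * b, mul_ne_zero ha hb, fun x hx => ?_⟩
    obtain ⟨y, hy, z, hz, rfl⟩ := Submodule.mem_sup.mp hx
    rw [smul_add]
    refine M'.add_mem ?_ ?_
    · rw [mul_comm, mul_smul]; exact M'.smul_mem b (h1 y hy)
    · rw [mul_smul]; exact M'.smul_mem a (h2 z hz)

end

/-- Take a one-dimensional Noetherian local domain A with fraction field K, V a finite-dimensional
K-vector space and M₁, M₂, M₃ lattices in V (finitely generated A-submodules spanning V over K).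
Define the distance d(M, M') as length_A(M/(M ∩ M')) − length_A(M'/(M ∩ M')), with the (finite)
lengths read as natural numbers. Then d(M₁, M₃) = d(M₁, M₂) + d(M₂, M₃). -/
theorem result (A : Type u) [CommRing A] [IsDomain A] [IsNoetherianRing A]
    [IsLocalRing A] (hA : ringKrullDim A = 1) (K : Type u) [Field K] [Algebra A K]
    [IsFractionRing A K] (V : Type u) [AddCommGroup V] [Module K V] [Module A V]
    [IsScalarTower A K V] [FiniteDimensional K V]
    (M₁ M₂ M₃ : Submodule A V) [Submodule.IsLattice K M₁] [Submodule.IsLattice K M₂]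
    [Submodule.IsLattice K M₃] :
    ((Module.length A (↥M₁ ⧸ (M₁ ⊓ M₃).submoduleOf M₁)).toNat : ℤ) -
        ((Module.length A (↥M₃ ⧸ (M₁ ⊓ M₃).submoduleOf M₃)).toNat : ℤ) =
      (((Module.length A (↥M₁ ⧸ (M₁ ⊓ M₂).submoduleOf M₁)).toNat : ℤ) -
        ((Module.length A (↥M₂ ⧸ (M₁ ⊓ M₂).submoduleOf M₂)).toNat : ℤ)) +
      (((Module.length A (↥M₂ ⧸ (M₂ ⊓ M₃).submoduleOf M₂)).toNat : ℤ) -
        ((Module.length A (↥M₃ ⧸ (M₂ ⊓ M₃).submoduleOf M₃)).toNat : ℤ)) := by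
  classical
  haveI : Ring.KrullDimLE 1 A := Ring.krullDimLE_iff.mpr (le_of_eq hA)
  set N : Submodule A V := M₁ ⊓ M₂ ⊓ M₃ with hN
  have hN1 : N ≤ M₁ := inf_le_left.trans inf_le_left
  have hN2 : N ≤ M₂ := inf_le_left.trans inf_le_right
  have hN3 : N ≤ M₃ := inf_le_right
  -- finiteness
  have hfin : ∀ (M : Submodule A V) [Submodule.IsLattice K M],
      Module.length A (↥M ⧸ N.submoduleOf M) ≠ ⊤ := by
    intro M _
    obtain ⟨a₁, ha₁, h1⟩ := exists_smul_le (K := K) M M₁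
    obtain ⟨a₂, ha₂, h2⟩ := exists_smul_le (K := K) M M₂
    obtain ⟨a₃, ha₃, h3⟩ := exists_smul_le (K := K) M M₃
    have hfg : M.FG := Submodule.IsLattice.fg (A := K)
    haveI : Module.Finite A M := Module.Finite.iff_fg.mpr hfg
    have ha : a₁ * a₂ * a₃ ∈ nonZeroDivisors A :=
      mem_nonZeroDivisors_of_ne_zero (mul_ne_zero (mul_ne_zero ha₁ ha₂) ha₃)
    refine ne_of_lt (Groth.Agent.S2855.length_lt_top_of_smul_eq_zero (a₁ * a₂ * a₃) ha _ ?_)
    intro x
    obtain ⟨x, rfl⟩ := Submodule.mkQ_surjective _ x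
    rw [← map_smul, Submodule.mkQ_apply, Submodule.Quotient.mk_eq_zero]
    show ((a₁ * a₂ * a₃) • x : ↥M).1 ∈ N
    rw [Submodule.coe_smul]
    refine ⟨⟨?_, ?_⟩, ?_⟩
    · have : (a₁ * a₂ * a₃) • (x : V) = (a₂ * a₃) • (a₁ • (x : V)) := by
        rw [smul_smul]; congr 1; ring
      rw [this]; exact M₁.smul_mem _ (h1 x.1 x.2)
    · have : (a₁ * a₂ * a₃) • (x : V) = (a₁ * a₃) • (a₂ • (x : V)) := by
        rw [smul_smul]; congr 1; ring
      rw [this]; exact M₂.smul_mem _ (h2 x.1 x.2)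
    · have : (a₁ * a₂ * a₃) • (x : V) = (a₁ * a₂) • (a₃ • (x : V)) := by
        rw [smul_smul]
      rw [this]; exact M₃.smul_mem _ (h3 x.1 x.2)
  have p13 := pair_formula M₁ M₃ N hN1 hN3 (hfin M₁) (hfin M₃)
  have p12 := pair_formula M₁ M₂ N hN1 hN2 (hfin M₁) (hfin M₂)
  have p23 := pair_formula M₂ M₃ N hN2 hN3 (hfin M₂) (hfin M₃)
  rw [p13, p12, p23]
  ring

end Groth.Agent.S14501
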