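import Groth.Statements.S9730
import Groth.Agent.Lib.Helper9.KSyD
import Groth.Agent.Lib.Helper24.KoszulSynt
import Groth.Agent.Lib.Helper22.SyntCM
import Groth.Agent.Lib.Helper10.FSC.FppfSource
import Groth.Agent.Lib.Helper1.LciComp
import Groth.Agent.Lib.Helper1.KDesc12

set_option autoImplicit false
universe u
open FlatMor

namespace Groth.Agent.S9730

set_option linter.style.haveILetI false

open AlgebraicGeometry CategoryTheory Limits in
/-- For g : X' ⟶ X surjective and syntomic and any morphism f : X ⟶ Y, the composite g ≫ f is Koszul at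
every point of X' (a local complete intersection morphism) if and only if f is Koszul at every point
of X. The published statement is phrased for syntomic coverings; this row takes a single surjective
syntomic morphism, to which a covering reduces by passing to the disjoint union of its members. -/
theorem result {X' X Y : Scheme.{u}} (g : X' ⟶ X) (hg : Synt.IsSyntomicMor g) [Surjective g]
    (f : X ⟶ Y) : (∀ x' : X', Synt.IsKoszulAt (g ≫ f) x') ↔ (∀ x : X, Synt.IsKoszulAt f x) := by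
  obtain ⟨hgflat, hgK⟩ := (Groth.Agent.Lib.Helper24.KoszulSynt.main g).mpr hg
  haveI := hgflat
  haveI hglfp : LocallyOfFinitePresentation g :=
    Groth.Agent.Lib.Helper22.SyntCM.lfp_of_isSyntomicMor g hg
  constructor
  · intro h x
    obtain ⟨x', rfl⟩ := g.surjective x
    haveI : LocallyOfFiniteType (g ≫ f) :=
      Groth.Agent.Lib.Helper1.KDesc.locallyOfFiniteType_of_forall_isKoszulAt h
    haveI : LocallyOfFiniteType f := Groth.Agent.Lib.Helper10.FSC.FppfSource.lft_of_comp g f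
    obtain ⟨_, ⟨V, hV, rfl⟩, hxV, -⟩ := Y.isBasis_affineOpens.exists_subset_of_mem_open
      (Set.mem_univ (f (g x'))) isOpen_univ
    obtain ⟨_, ⟨U, hU, rfl⟩, hxU, hUV⟩ := X.isBasis_affineOpens.exists_subset_of_mem_open
      (show g x' ∈ f ⁻¹ᵁ V from hxV) (f ⁻¹ᵁ V).2
    obtain ⟨_, ⟨U', hU', rfl⟩, hxU', hU'U⟩ := X'.isBasis_affineOpens.exists_subset_of_mem_open
      (show x' ∈ g ⁻¹ᵁ U from hxU) (g ⁻¹ᵁ U).2
    have hV : IsAffineOpen V := hV
    have hU : IsAffineOpen U := hU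
    have hU' : IsAffineOpen U' := hU'
    have eUV : U ≤ f ⁻¹ᵁ V := hUV
    have eU'U : U' ≤ g ⁻¹ᵁ U := hU'U
    have eU'V : U' ≤ (g ≫ f) ⁻¹ᵁ V := fun z hz => eUV (eU'U hz)
    letI alg1 : Algebra Γ(Y, V) Γ(X, U) := (f.appLE V U eUV).hom.toAlgebra
    letI alg2 : Algebra Γ(X, U) Γ(X', U') := (g.appLE U U' eU'U).hom.toAlgebra
    letI alg3 : Algebra Γ(Y, V) Γ(X', U') := ((g ≫ f).appLE V U' eU'V).hom.toAlgebra
    haveI tow : IsScalarTower Γ(Y, V) Γ(X, U) Γ(X', U') :=
      IsScalarTower.of_algebraMap_eq (fun a => by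
        have h0 := Scheme.Hom.appLE_comp_appLE g f V U U' eUV eU'U
        have h1 := congrArg (fun φ => φ.hom a) h0
        exact h1.symm)
    have hft : Algebra.FiniteType Γ(Y, V) Γ(X, U) :=
      HasRingHomProperty.appLE (P := @LocallyOfFiniteType) f inferInstance ⟨V, hV⟩ ⟨U, hU⟩ eUV
    haveI hfl : Module.Flat Γ(X, U) Γ(X', U') :=
      HasRingHomProperty.appLE (P := @Flat) g inferInstance ⟨U, hU⟩ ⟨U', hU'⟩ eU'U
    have h1 : LCI.IsLCI Γ(X, U) Γ(X', U') :=
      Groth.Agent.Lib.Helper24.KoszulSynt.isLCI_of_forall_isKoszulAt g hgK hU' hU eU'U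
    have h2 : LCI.IsLCI Γ(Y, V) Γ(X', U') :=
      Groth.Agent.Lib.Helper24.KoszulSynt.isLCI_of_forall_isKoszulAt (g ≫ f) h hU' hV eU'V
    haveI : (hU'.primeIdealOf ⟨x', hxU'⟩).asIdeal.IsPrime :=
      (hU'.primeIdealOf ⟨x', hxU'⟩).isPrime
    obtain ⟨s, hs, hLs⟩ := Groth.Agent.Lib.Helper9.KSy.isLCI_away Γ(Y, V) Γ(X, U) Γ(X', U') hft
      h1 h2 (hU'.primeIdealOf ⟨x', hxU'⟩).asIdeal
    have hx's : x' ∈ X'.basicOpen ((g.appLE U U' eU'U).hom s) :=
      (Groth.Agent.Lib.Helper1.KDesc.notMem_primeIdealOf_iff hU' x' hxU' _).mp hs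
    have hxs : g x' ∈ X.basicOpen s := by
      have h3 := Scheme.basicOpen_appLE g U' U eU'U s
      have h4 : x' ∈ U' ⊓ g ⁻¹ᵁ (X.basicOpen s) := by
        rw [← h3]
        exact hx's
      exact h4.2
    have eV' : X.basicOpen s ≤ f ⁻¹ᵁ V := (X.basicOpen_le s).trans eUV
    refine Groth.Agent.Lib.Helper24.KoszulSynt.isKoszulAt_of_isLCI f (g x') (hU.basicOpen s) hV
      eV' hxs ?_
    letI alg4 : Algebra Γ(Y, V) Γ(X, X.basicOpen s) :=
      (f.appLE V (X.basicOpen s) eV').hom.toAlgebra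
    haveI loc : IsLocalization.Away s Γ(X, X.basicOpen s) := hU.isLocalization_basicOpen s
    haveI tow2 : IsScalarTower Γ(Y, V) Γ(X, U) Γ(X, X.basicOpen s) :=
      IsScalarTower.of_algebraMap_eq (fun a => by
        have h0 := Scheme.Hom.appLE_map f eUV (homOfLE (X.basicOpen_le s)).op
        have h1 := congrArg (fun φ => φ.hom a) h0
        exact h1.symm)
    exact hLs Γ(X, X.basicOpen s)
  · intro hf x'
    exact Groth.Agent.Lib.Helper1.LciComp.isKoszulAt_comp g f x' (hgK x') (hf (g x'))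

end Groth.Agent.S9730
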