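import Groth.Statements.S7068
import Mathlib
import Groth.Agent.Lib.Helper25.PCFlatFP

set_option autoImplicit false
universe u
attribute [local instance] HasDerivedCategory.standard
open MoreMor

namespace Groth.Agent.S7068

/-- If A → B is a flat homomorphism of commutative rings of finite presentation, then A → B is a perfect
ring map: pseudo-coherent, with B of finite tor dimension as an A-module. -/
theorem result (A B : Type u) [CommRing A] [CommRing B] [Algebra A B]
    [Module.Flat A B] [Algebra.FinitePresentation A B] : MoreMor.IsPerfectHom A B := by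
  obtain ⟨n, φ, hφ, hker⟩ := Algebra.FinitePresentation.out (R := A) (A := B)
  refine ⟨⟨n, φ, hφ, ?_⟩, ⟨0, (Groth.Agent.Lib.Helper18.DR.hasTorDimLE_iff_hasTorAmplitudeIn_single A B 0).2.mpr
    inferInstance⟩⟩
  letI := φ.toRingHom.toAlgebra
  haveI : IsScalarTower A (MvPolynomial (Fin n) A) B :=
    IsScalarTower.of_algebraMap_eq (fun a => (φ.commutes a).symm)
  haveI : Module.FinitePresentation (MvPolynomial (Fin n) A) B := by
    refine Module.finitePresentation_of_surjective
      (Algebra.linearMap (MvPolynomial (Fin n) A) B) hφ ?_
    exact hker
  exact Groth.Agent.Lib.Helper25.PCFlatFP.isPseudoCoherentModule'_of_flat_fp A n B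

end Groth.Agent.S7068
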