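-- Statement S0193: M_n(D) ≅ M_m(D') over k implies D ≅ D'.
import Groth.Statements.S0193
import Groth.Agent.Lib.Lead.MatrixModule

set_option autoImplicit false
set_option linter.style.haveILetI false
universe u v w
open scoped TensorProduct
open Curves
open Groth.Agent.Lib.Lead.MatrixModule

namespace Groth.Agent.S0193

/-- If matrix algebras of positive size over two finite central skew fields are isomorphic as
k-algebras, the skew fields are isomorphic. -/
theorem result (k : Type u) [Field k]
    (D : Type v) [DivisionRing D] [Algebra k D] [Algebra.IsCentral k D] [FiniteDimensional k D]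
    (D' : Type w) [DivisionRing D'] [Algebra k D'] [Algebra.IsCentral k D'] [FiniteDimensional k D']
    (n m : ℕ) (hn : n ≠ 0) (hm : m ≠ 0)
    (e : Matrix (Fin n) (Fin n) D ≃ₐ[k] Matrix (Fin m) (Fin m) D') :
    Nonempty (D ≃ₐ[k] D') := by
  classical
  haveI : Nonempty (Fin n) := ⟨⟨0, Nat.pos_of_ne_zero hn⟩⟩
  haveI : Nonempty (Fin m) := ⟨⟨0, Nat.pos_of_ne_zero hm⟩⟩
  letI inst : Module (Matrix (Fin n) (Fin n) D) (Fin m → D') :=
    Module.compHom (Fin m → D') (e : Matrix (Fin n) (Fin n) D →+* Matrix (Fin m) (Fin m) D')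
  have hsmul : ∀ (r : Matrix (Fin n) (Fin n) D) (v : Fin m → D'), r • v = e r • v :=
    fun _ _ => rfl
  haveI hS' : IsSimpleModule (Matrix (Fin m) (Fin m) D') (Fin m → D') := isSimpleModule_vec
  haveI : IsSimpleModule (Matrix (Fin n) (Fin n) D) (Fin m → D') := by
    rw [isSimpleModule_iff_toSpanSingleton_surjective]
    refine ⟨inferInstance, fun v hv w => ?_⟩
    obtain ⟨r', hr'⟩ := (isSimpleModule_iff_toSpanSingleton_surjective.1 hS').2 v hv w
    refine ⟨e.symm r', ?_⟩
    rw [LinearMap.toSpanSingleton_apply] at hr' ⊢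
    rw [hsmul, AlgEquiv.apply_symm_apply, hr']
  haveI : IsSimpleModule (Matrix (Fin n) (Fin n) D) (Fin n → D) := isSimpleModule_vec
  haveI : IsArtinianRing (Matrix (Fin n) (Fin n) D) := IsArtinianRing.of_finite k _
  obtain ⟨g⟩ : Nonempty ((Fin n → D) ≃ₗ[Matrix (Fin n) (Fin n) D] (Fin m → D')) :=
    nonempty_linearEquiv_of_isSimpleModule _ _ _
  haveI : SMulCommClass (Matrix (Fin n) (Fin n) D) k (Fin m → D') :=
    ⟨fun r c v => by rw [hsmul, hsmul, smul_comm]⟩
  haveI : IsScalarTower k (Matrix (Fin n) (Fin n) D) (Fin m → D') :=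
    ⟨fun c r v => by rw [hsmul, hsmul, map_smul, smul_assoc]⟩
  let E1 : Module.End (Matrix (Fin n) (Fin n) D) (Fin n → D) ≃ₐ[k]
      Module.End (Matrix (Fin n) (Fin n) D) (Fin m → D') := g.conjAlgEquiv k
  let E2 : Module.End (Matrix (Fin n) (Fin n) D) (Fin m → D') ≃ₐ[k]
      Module.End (Matrix (Fin m) (Fin m) D') (Fin m → D') :=
    { toFun := fun f =>
        { toFun := f
          map_add' := f.map_add
          map_smul' := fun r' v => by
            have := f.map_smul (e.symm r') v
            rw [hsmul, hsmul, AlgEquiv.apply_symm_apply] at this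
            exact this }
      invFun := fun f =>
        { toFun := f
          map_add' := f.map_add
          map_smul' := fun r v => f.map_smul (e r) v }
      left_inv := fun f => rfl
      right_inv := fun f => rfl
      map_mul' := fun f g => rfl
      map_add' := fun f g => rfl
      commutes' := fun c => rfl }
  let E : Dᵐᵒᵖ ≃ₐ[k] D'ᵐᵒᵖ :=
    ((endEquiv (D := D) (n := Fin n) k).trans (E1.trans E2)).trans
      (endEquiv (D := D') (n := Fin m) k).symm
  exact ⟨AlgEquiv.unop E⟩

end Groth.Agent.S0193
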