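import Groth.Statements.S13112
import Groth.Agent.Lib.Helper11.SNScheme

set_option autoImplicit false
universe u
open HTop

namespace Groth.Agent.S13112

open Groth.Agent.Lib.Helper11.SNScheme Groth.Agent.Lib.Helper11.AWNScheme Groth.Agent.Lib.Helper11.UHRing
  CategoryTheory CategoryTheory.Limits AlgebraicGeometry

open CategoryTheory AlgebraicGeometry in
/-- Let k be a field, T a seminormal scheme of finite type over k, and f : X → Y a proper universally
injective k-morphism of schemes locally of finite type over k. If a morphism of schemes g : T → Y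
lifts through f at every point of T, i.e. for every t the composite Spec κ(t) → T → Y factors
through f, then g itself factors through f. -/
theorem result
    {k : Type u} [Field k] {T X Y : Scheme.{u}}
    (sT : T ⟶ Spec (CommRingCat.of k)) (sX : X ⟶ Spec (CommRingCat.of k)) (sY : Y ⟶ Spec (CommRingCat.of k))
    [LocallyOfFiniteType sT] [QuasiCompact sT] [LocallyOfFiniteType sX] [LocallyOfFiniteType sY]
    (hT : HTop.IsSeminormal T)
    (f : X ⟶ Y) (hf : f ≫ sY = sX) [IsProper f] [UniversallyInjective f]
    (g : T ⟶ Y)
    (hlift : ∀ t : T, ∃ l : Spec (T.residueField t) ⟶ X, l ≫ f = T.fromSpecResidueField t ≫ g) :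
    ∃ h : T ⟶ X, h ≫ f = g := by
  let π := pullback.snd f g
  have hl' : ∀ t : T, ∃ l' : Spec (T.residueField t) ⟶ pullback f g,
      l' ≫ π = T.fromSpecResidueField t := by
    intro t
    obtain ⟨l, hl⟩ := hlift t
    exact ⟨pullback.lift l (T.fromSpecResidueField t) hl, pullback.lift_snd _ _ _⟩
  have hsurj : Surjective π := by
    constructor
    intro t
    obtain ⟨l', hl'⟩ := hl' t
    refine ⟨l' (IsLocalRing.closedPoint (T.residueField t)), ?_⟩
    rw [← Scheme.Hom.comp_apply, hl', Scheme.fromSpecResidueField_apply]
  have hUH : FlatMor.IsUnivHomeo π :=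
    (isUnivHomeo_iff π).mpr ⟨MorphismProperty.pullback_snd (P := @UniversallyClosed) f g inferInstance,
      MorphismProperty.pullback_snd (P := @UniversallyInjective) f g inferInstance, hsurj⟩
  have hlifts : LiftsFieldPoints π := by
    intro K _ gK
    set t := gK (IsLocalRing.closedPoint K) with ht
    let φ : T.residueField t ⟶ .of K := T.descResidueField (Scheme.stalkClosedPointTo gK)
    have hgK : Spec.map φ ≫ T.fromSpecResidueField t = gK :=
      Scheme.descResidueField_stalkClosedPointTo_fromSpecResidueField K T gK
    obtain ⟨l', hl'⟩ := hl' t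
    exact ⟨Spec.map φ ≫ l', by rw [Category.assoc, hl', hgK]⟩
  obtain ⟨s, hs, -⟩ := existsUnique_lift_sn hT π hUH hlifts (𝟙 T)
  refine ⟨s ≫ pullback.fst f g, ?_⟩
  rw [Category.assoc, pullback.condition, ← Category.assoc]
  show (s ≫ π) ≫ g = g
  rw [hs, Category.id_comp]

end Groth.Agent.S13112
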