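import Groth.Statements.S17242
import Mathlib

set_option autoImplicit false
open W4c4effdivwronsk2

namespace Groth.Agent.S17242

section
open Polynomial

variable {k : Type*} [Field k]

/-- the polynomials `h` with `h/D = (E/A)'` for some `E` of degree at most `N` -/
def W (A B : k[X]) (N : ℕ) : Submodule k k[X] where
  carrier := {h | ∃ E : k[X], E.natDegree ≤ N ∧
    h * A = B * (derivative E * A - E * derivative A)}
  add_mem' := by
    rintro h₁ h₂ ⟨E₁, d₁, e₁⟩ ⟨E₂, d₂, e₂⟩
    refine ⟨E₁ + E₂, natDegree_add_le_of_degree_le d₁ d₂, ?_⟩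
    rw [derivative_add]
    linear_combination e₁ + e₂
  zero_mem' := ⟨0, by simp, by simp⟩
  smul_mem' := by
    rintro c h ⟨E, d, e⟩
    refine ⟨c • E, (natDegree_smul_le c E).trans d, ?_⟩
    simp only [derivative_smul, smul_eq_C_mul, derivative_C_mul]
    linear_combination (C c) * e

theorem mem_W {A B : k[X]} {N : ℕ} {h : k[X]} : h ∈ W A B N ↔ ∃ E : k[X], E.natDegree ≤ N ∧
    h * A = B * (derivative E * A - E * derivative A) := Iff.rfl

theorem mem_W_of_C_mul {A B : k[X]} {N : ℕ} {u : k} (hu : u ≠ 0) {h : k[X]}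
    (hh : C u * h ∈ W A B N) : h ∈ W A B N := by
  have h1 := (W A B N).smul_mem u⁻¹ hh
  rwa [smul_eq_C_mul, ← mul_assoc, ← C_mul, inv_mul_cancel₀ hu, C_1, one_mul] at h1

theorem euler (q : k) (t : ℕ) :
    (X - C q) * derivative ((X - C q) ^ t) = C (t : k) * (X - C q) ^ t := by
  cases t with
  | zero => simp
  | succ n =>
    rw [derivative_X_sub_C_pow, Nat.add_sub_cancel]
    ring

theorem mem_W_a [CharZero k] (A B : k[X]) (n N : ℕ) (hdeg : A.natDegree + (n + 1) ≤ N) :
    A * B * X ^ n ∈ W A B N := by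
  apply mem_W_of_C_mul (u := ((n + 1 : ℕ) : k)) (Nat.cast_ne_zero.2 (Nat.succ_ne_zero n))
  refine mem_W.2 ⟨A * X ^ (n + 1),
    (natDegree_mul_le.trans (Nat.add_le_add_left (natDegree_X_pow_le _) _)).trans hdeg, ?_⟩
  rw [derivative_mul, derivative_X_pow, Nat.add_sub_cancel]
  ring

theorem mem_W_b [CharZero k] (Ai Bi : k[X]) (q : k) (t a N : ℕ) (hta : t < a)
    (hdeg : Ai.natDegree + t ≤ N) :
    Ai * Bi * (X - C q) ^ t ∈ W ((X - C q) ^ a * Ai) ((X - C q) * Bi) N := by
  have hu : ((t : k) - (a : k)) ≠ 0 := sub_ne_zero.2 (fun h => hta.ne (Nat.cast_injective h))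
  apply mem_W_of_C_mul hu
  refine mem_W.2 ⟨Ai * (X - C q) ^ t,
    (natDegree_mul_le.trans (Nat.add_le_add_left
      (natDegree_pow_le.trans (by rw [natDegree_X_sub_C, mul_one])) _)).trans hdeg, ?_⟩
  have e1 := euler q t
  have e2 := euler q a
  rw [derivative_mul, derivative_mul, C_sub]
  linear_combination (-(Bi * Ai ^ 2 * (X - C q) ^ a)) * e1 + (Bi * Ai ^ 2 * (X - C q) ^ t) * e2

end


open Polynomial in
/-- Let `k` be a field of characteristic zero and take, on the projective line over `k`, the point `∞`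
and `m` further distinct points `r_1, …, r_m` of the affine line, with positive integers `b` (at
`∞`) and `a_1, …, a_m`; put `N = b + ∑ a_j`. The sum of the spaces of differentials with a single
pole, of order at most `b + 1` at `∞`, resp. at most `a_j + 1` at `r_j`, `V = H⁰(ω((b+1)∞)) + ∑_j
H⁰(ω((a_j+1)r_j)) ⊆ H⁰(ω((b+1)∞ + ∑_j (a_j+1)r_j)) ≅ H⁰(O(d))`, `d = b - 1 + ∑ (a_j+1)`, becomes,
after multiplying by `dX⁻¹ ∏_j (X - r_j)^(a_j+1)`, the subspace of `k[X]_{≤ d}` spanned by
`D·k[X]_{<b}` and the `D_i·k[X]_{<a_i}`, where `D = ∏_j (X - r_j)^(a_j+1)` and `D_i` omits the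
`i`-th factor; a member `h` vanishes to order `n` at a point `q` of the affine line when `(X - q)^n
∣ h`, and to order `d - deg h` at `∞`. Then `V` (of dimension `N`) has no ramification point off the
marked points: at every point `q` of the affine line other than the `r_j` the vanishing orders are
`0, 1, …, N - 1`, i.e. no nonzero member of `V` is divisible by `(X - q)^N`. (The published
statement is over the complex numbers, where every unmarked point is such a `q` once one marked
point is placed at `∞`.) -/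
theorem result
    (k : Type*) [Field k] [CharZero k] (m : ℕ) (r : Fin m → k) (hr : Function.Injective r)
    (a : Fin m → ℕ) (ha : ∀ j, 1 ≤ a j) (b : ℕ) (hb : 1 ≤ b) (N d : ℕ)
    (hN : N = (∑ j, a j) + b) (hd : d + 1 = (∑ j, (a j + 1)) + b)
    (V : Submodule k (Polynomial k))
    (hV : V = (Polynomial.degreeLT k b).map (LinearMap.mulLeft k (∏ j, (X - C (r j)) ^ (a j + 1))) ⊔
      ⨆ i, (Polynomial.degreeLT k (a i)).map
        (LinearMap.mulLeft k (∏ j ∈ Finset.univ.erase i, (X - C (r j)) ^ (a j + 1))))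
    (q : k) (hq : ∀ j, q ≠ r j) :
    V ⊓ (Ideal.span {(X - C q) ^ N}).restrictScalars k = ⊥ := by
  classical
  obtain ⟨A, hA⟩ : ∃ A : k[X], A = ∏ j, (X - C (r j)) ^ (a j) := ⟨_, rfl⟩
  obtain ⟨B, hB⟩ : ∃ B : k[X], B = ∏ j, (X - C (r j)) := ⟨_, rfl⟩
  have hD : (∏ j, (X - C (r j)) ^ (a j + 1)) = A * B := by
    rw [hA, hB, ← Finset.prod_mul_distrib]
    exact Finset.prod_congr rfl fun j _ => pow_succ _ _
  have hdegs : ∀ s : Finset (Fin m),
      (∏ j ∈ s, (X - C (r j)) ^ (a j)).natDegree ≤ ∑ j ∈ s, a j := by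
    intro s
    refine (natDegree_prod_le _ _).trans (Finset.sum_le_sum fun j _ => ?_)
    refine natDegree_pow_le.trans ?_
    rw [natDegree_X_sub_C, mul_one]
  have hVW : V ≤ W A B N := by
    rw [hV]
    refine sup_le ?_ (iSup_le fun i => ?_)
    · rw [Submodule.map_le_iff_le_comap, degreeLT_eq_span_X_pow, Submodule.span_le]
      intro p hp
      rw [Finset.mem_coe, Finset.mem_image] at hp
      obtain ⟨n, hn, rfl⟩ := hp
      rw [Finset.mem_range] at hn
      show LinearMap.mulLeft k (∏ j, (X - C (r j)) ^ (a j + 1)) (X ^ n) ∈ W A B N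
      rw [LinearMap.mulLeft_apply, hD]
      apply mem_W_a
      have h1 := hdegs Finset.univ
      rw [← hA] at h1
      omega
    · rw [Submodule.map_le_iff_le_comap]
      intro Q hQ
      show LinearMap.mulLeft k (∏ j ∈ Finset.univ.erase i, (X - C (r j)) ^ (a j + 1)) Q ∈ W A B N
      rw [LinearMap.mulLeft_apply]
      have hQn : Q.natDegree < a i := by
        by_cases h0 : Q = 0
        · rw [h0, natDegree_zero]; exact ha i
        · exact (natDegree_lt_iff_degree_lt h0).2 (mem_degreeLT.1 hQ)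
      have hAi : A = (X - C (r i)) ^ (a i) *
          ∏ j ∈ Finset.univ.erase i, (X - C (r j)) ^ (a j) := by
        rw [hA]
        exact (Finset.mul_prod_erase Finset.univ (fun j => (X - C (r j)) ^ (a j))
          (Finset.mem_univ i)).symm
      have hBi : B = (X - C (r i)) * ∏ j ∈ Finset.univ.erase i, (X - C (r j)) := by
        rw [hB]
        exact (Finset.mul_prod_erase Finset.univ (fun j => (X - C (r j)))
          (Finset.mem_univ i)).symm
      have hDi : (∏ j ∈ Finset.univ.erase i, (X - C (r j)) ^ (a j + 1)) =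
          (∏ j ∈ Finset.univ.erase i, (X - C (r j)) ^ (a j)) *
            ∏ j ∈ Finset.univ.erase i, (X - C (r j)) := by
        rw [← Finset.prod_mul_distrib]
        exact Finset.prod_congr rfl fun j _ => pow_succ _ _
      have hsum := sum_taylor_eq Q (r i)
      rw [← hsum, Polynomial.sum_def, Finset.mul_sum]
      refine Submodule.sum_mem _ fun l hl => ?_
      have hl' : l < a i := lt_of_le_of_lt
        ((le_natDegree_of_mem_supp l hl).trans (natDegree_taylor Q (r i)).le) hQn
      have e : (∏ j ∈ Finset.univ.erase i, (X - C (r j)) ^ (a j + 1)) *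
          (C ((taylor (r i) Q).coeff l) * (X - C (r i)) ^ l) =
          ((taylor (r i) Q).coeff l) •
            ((∏ j ∈ Finset.univ.erase i, (X - C (r j)) ^ (a j)) *
              (∏ j ∈ Finset.univ.erase i, (X - C (r j))) * (X - C (r i)) ^ l) := by
        rw [hDi, smul_eq_C_mul]; ring
      rw [e]
      refine Submodule.smul_mem _ _ ?_
      rw [hAi, hBi]
      have h1 := hdegs (Finset.univ.erase i)
      have h2 : a i + ∑ j ∈ Finset.univ.erase i, a j = ∑ j, a j :=
        Finset.add_sum_erase Finset.univ a (Finset.mem_univ i)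
      exact mem_W_b (∏ j ∈ Finset.univ.erase i, (X - C (r j)) ^ (a j))
        (∏ j ∈ Finset.univ.erase i, (X - C (r j))) (r i) l (a i) N hl' (by omega)
  rw [eq_bot_iff]
  intro h hh
  rw [Submodule.mem_bot]
  obtain ⟨hhV, hhq⟩ := Submodule.mem_inf.1 hh
  have hdvd : (X - C q) ^ N ∣ h := by
    rw [Submodule.restrictScalars_mem] at hhq
    exact Ideal.mem_span_singleton.1 hhq
  obtain ⟨E, hEdeg, hRel⟩ := mem_W.1 (hVW hhV)
  by_contra hne
  have hAq : A.eval q ≠ 0 := by
    rw [hA, eval_prod]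
    refine Finset.prod_ne_zero_iff.2 fun j _ => ?_
    rw [eval_pow, eval_sub, eval_X, eval_C]
    exact pow_ne_zero _ (sub_ne_zero.2 (hq j))
  have hBq : B.eval q ≠ 0 := by
    rw [hB, eval_prod]
    refine Finset.prod_ne_zero_iff.2 fun j _ => ?_
    rw [eval_sub, eval_X, eval_C]
    exact sub_ne_zero.2 (hq j)
  have hA0 : A ≠ 0 := fun h0 => hAq (by rw [h0, eval_zero])
  obtain ⟨E₁, hE₁def⟩ : ∃ E₁ : k[X], E₁ = E - C (E.eval q / A.eval q) * A := ⟨_, rfl⟩
  have hRel₁ : h * A = B * (derivative E₁ * A - E₁ * derivative A) := by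
    rw [hE₁def, derivative_sub, derivative_C_mul]
    linear_combination hRel
  have hE₁q : E₁.eval q = 0 := by
    rw [hE₁def, eval_sub, eval_mul, eval_C, div_mul_cancel₀ _ hAq, sub_self]
  have hE₁deg : E₁.natDegree ≤ N := by
    rw [hE₁def]
    refine (natDegree_sub_le _ _).trans (max_le hEdeg ?_)
    refine (natDegree_C_mul_le _ _).trans ?_
    have h1 := hdegs Finset.univ
    rw [← hA] at h1
    omega
  have hE₁ne : E₁ ≠ 0 := by
    intro h0
    rw [h0, derivative_zero, zero_mul, zero_mul, sub_self, mul_zero] at hRel₁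
    rcases mul_eq_zero.1 hRel₁ with h1 | h1
    · exact hne h1
    · exact hA0 h1
  obtain ⟨F, hF, hFnd⟩ := exists_eq_pow_rootMultiplicity_mul_and_not_dvd E₁ hE₁ne q
  have ht1 : 0 < rootMultiplicity q E₁ := (rootMultiplicity_pos hE₁ne).2 hE₁q
  obtain ⟨s, hs⟩ : ∃ s, rootMultiplicity q E₁ = s + 1 :=
    ⟨rootMultiplicity q E₁ - 1, by omega⟩
  rw [hs] at hF
  have hsN : s + 1 ≤ N := by
    have h1 : ((X - C q) ^ (s + 1)).natDegree ≤ E₁.natDegree :=
      natDegree_le_of_dvd ⟨F, hF⟩ hE₁ne
    rw [(monic_X_sub_C q).natDegree_pow, natDegree_X_sub_C, mul_one] at h1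
    omega
  have key : h * A = (X - C q) ^ s * (B * (C ((s + 1 : ℕ) : k) * F * A +
      (X - C q) * (derivative F * A - F * derivative A))) := by
    rw [hRel₁, hF, derivative_mul, derivative_X_sub_C_pow, Nat.add_sub_cancel]
    ring
  have hd2 : (X - C q) ^ (s + 1) ∣ h * A :=
    dvd_mul_of_dvd_left ((pow_dvd_pow _ hsN).trans hdvd) A
  rw [key, pow_succ, mul_dvd_mul_iff_left (pow_ne_zero s (X_sub_C_ne_zero q))] at hd2
  rw [dvd_iff_isRoot, IsRoot.def] at hd2
  simp only [eval_mul, eval_add, eval_sub, eval_X, eval_C, sub_self, zero_mul, add_zero] at hd2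
  have hFq : F.eval q ≠ 0 := fun h0 => hFnd (dvd_iff_isRoot.2 h0)
  have hs1 : ((s + 1 : ℕ) : k) ≠ 0 := Nat.cast_ne_zero.2 (Nat.succ_ne_zero s)
  exact (mul_ne_zero hBq (mul_ne_zero (mul_ne_zero hs1 hFq) hAq)) hd2

end Groth.Agent.S17242
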