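import Groth.Statements.S17241
import Mathlib
import Groth.Agent.S17242

set_option autoImplicit false
open W4c4effdivwronsk2

namespace Groth.Agent.S17241

section aux
open Polynomial
open Groth.Agent.S17242 (W mem_W mem_W_a mem_W_b euler)

variable {k : Type*} [Field k]

theorem finrank_degreeLT (n : ℕ) : Module.finrank k (degreeLT k n) = n := by
  rw [(degreeLTEquiv k n).finrank_eq, Module.finrank_fin_fun]

instance finite_degreeLT (n : ℕ) : Module.Finite k (degreeLT k n) :=
  Module.Finite.equiv (degreeLTEquiv k n).symm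

theorem chain_lemma {M : Type*} [AddCommGroup M] [Module k M]
    (V : Submodule k M) [FiniteDimensional k V] (U : ℕ → Submodule k M)
    (hU0 : V ≤ U 0) (hanti : Antitone U)
    (hφ : ∀ n, ∃ φ : M →ₗ[k] k, ∀ x, x ∈ V → x ∈ U n → (x ∈ U (n + 1) ↔ φ x = 0))
    (N e : ℕ) (he : e ≤ N) (hdim : N ≤ Module.finrank k V)
    (htop : V ⊓ U (N + 1) = ⊥) (hgap : V ⊓ U e ≤ U (e + 1)) (n : ℕ) :
    Module.finrank k ↥(V ⊓ U n) = if n ≤ e then N - n else N + 1 - n := by
  have hfin : ∀ n, FiniteDimensional k ↥(V ⊓ U n) := fun n =>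
    Submodule.finiteDimensional_of_le inf_le_left
  have hstep : ∀ n, Module.finrank k ↥(V ⊓ U n) ≤ Module.finrank k ↥(V ⊓ U (n + 1)) + 1 := by
    intro n
    obtain ⟨φ, hφn⟩ := hφ n
    haveI := hfin n
    have hle : V ⊓ U (n + 1) ≤ V ⊓ U n := inf_le_inf_left V (hanti (Nat.le_succ n))
    have hker : LinearMap.ker (φ.domRestrict (V ⊓ U n)) =
        Submodule.comap (V ⊓ U n).subtype (V ⊓ U (n + 1)) := by
      ext ⟨x, hx⟩
      rw [LinearMap.mem_ker, Submodule.mem_comap]
      show φ x = 0 ↔ x ∈ V ⊓ U (n + 1)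
      have hx' := Submodule.mem_inf.1 hx
      rw [Submodule.mem_inf, ← hφn x hx'.1 hx'.2]
      exact ⟨fun h => ⟨hx'.1, h⟩, fun h => h.2⟩
    have h1 := LinearMap.finrank_range_add_finrank_ker (φ.domRestrict (V ⊓ U n))
    rw [hker, (Submodule.comapSubtypeEquivOfLe hle).finrank_eq] at h1
    have h2 : Module.finrank k ↥(LinearMap.range (φ.domRestrict (V ⊓ U n))) ≤ 1 := by
      have h3 := Submodule.finrank_le (LinearMap.range (φ.domRestrict (V ⊓ U n)))
      rwa [Module.finrank_self] at h3
    omega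
  have hd0 : N ≤ Module.finrank k ↥(V ⊓ U 0) := by
    rw [inf_eq_left.2 hU0]; exact hdim
  have hdN : Module.finrank k ↥(V ⊓ U (N + 1)) = 0 := by
    rw [htop, finrank_bot]
  have hde : ∀ n, n = e → Module.finrank k ↥(V ⊓ U (n + 1)) = Module.finrank k ↥(V ⊓ U n) := by
    rintro n rfl
    have h1 : V ⊓ U (n + 1) = V ⊓ U n :=
      le_antisymm (inf_le_inf_left V (hanti (Nat.le_succ n))) (le_inf inf_le_left hgap)
    rw [h1]
  have hg : Monotone (fun n => Module.finrank k ↥(V ⊓ U n) + n + (if n ≤ e then 1 else 0)) := by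
    apply monotone_nat_of_le_succ
    intro n
    show Module.finrank k ↥(V ⊓ U n) + n + (if n ≤ e then 1 else 0) ≤
      Module.finrank k ↥(V ⊓ U (n + 1)) + (n + 1) + (if n + 1 ≤ e then 1 else 0)
    have h1 := hstep n
    rcases Nat.lt_trichotomy n e with h | h | h
    · have h2 : n ≤ e := by omega
      have h3 : n + 1 ≤ e := by omega
      rw [if_pos h2, if_pos h3]; omega
    · have h2 : n ≤ e := by omega
      have h3 : ¬ n + 1 ≤ e := by omega
      have h4 := hde n h
      rw [if_pos h2, if_neg h3]; omega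
    · have h2 : ¬ n ≤ e := by omega
      have h3 : ¬ n + 1 ≤ e := by omega
      rw [if_neg h2, if_neg h3]; omega
  have hg0 : N + 1 ≤ Module.finrank k ↥(V ⊓ U 0) + 0 + (if 0 ≤ e then 1 else 0) := by
    rw [if_pos (Nat.zero_le e)]; omega
  have hgN : Module.finrank k ↥(V ⊓ U (N + 1)) + (N + 1) + (if N + 1 ≤ e then 1 else 0) ≤
      N + 1 := by
    have h2 : ¬ N + 1 ≤ e := by omega
    rw [if_neg h2, hdN]; omega
  by_cases hn : n ≤ N + 1
  · have h1 : N + 1 ≤ Module.finrank k ↥(V ⊓ U n) + n + (if n ≤ e then 1 else 0) :=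
      le_trans hg0 (hg (Nat.zero_le n))
    have h2 : Module.finrank k ↥(V ⊓ U n) + n + (if n ≤ e then 1 else 0) ≤ N + 1 :=
      le_trans (hg hn) hgN
    by_cases h3 : n ≤ e
    · rw [if_pos h3] at h1 h2
      rw [if_pos h3]; omega
    · rw [if_neg h3] at h1 h2
      rw [if_neg h3]; omega
  · have h0 : V ⊓ U n = ⊥ := by
      rw [eq_bot_iff, ← htop]
      exact inf_le_inf_left V (hanti (by omega))
    have h3 : ¬ n ≤ e := by omega
    rw [h0, finrank_bot, if_neg h3]
    omega

theorem V_le_W [CharZero k] (m : ℕ) (r : Fin m → k) (a : Fin m → ℕ) (ha : ∀ j, 1 ≤ a j)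
    (b N : ℕ) (hN : N = (∑ j, a j) + b) (V : Submodule k k[X])
    (hV : V = (degreeLT k b).map (LinearMap.mulLeft k (∏ j, (X - C (r j)) ^ (a j + 1))) ⊔
      ⨆ i, (degreeLT k (a i)).map
        (LinearMap.mulLeft k (∏ j ∈ Finset.univ.erase i, (X - C (r j)) ^ (a j + 1))))
    (A B : k[X]) (hA : A = ∏ j, (X - C (r j)) ^ (a j)) (hB : B = ∏ j, (X - C (r j))) :
    V ≤ W A B N := by
  classical
  have hD : (∏ j, (X - C (r j)) ^ (a j + 1)) = A * B := by
    rw [hA, hB, ← Finset.prod_mul_distrib]
    exact Finset.prod_congr rfl fun j _ => pow_succ _ _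
  have hdegs : ∀ s : Finset (Fin m),
      (∏ j ∈ s, (X - C (r j)) ^ (a j)).natDegree ≤ ∑ j ∈ s, a j := by
    intro s
    refine (natDegree_prod_le _ _).trans (Finset.sum_le_sum fun j _ => ?_)
    refine natDegree_pow_le.trans ?_
    rw [natDegree_X_sub_C, mul_one]
  have hVW : V ≤ W A B N := by
    rw [hV]
    refine sup_le ?_ (iSup_le fun i => ?_)
    · rw [Submodule.map_le_iff_le_comap, degreeLT_eq_span_X_pow, Submodule.span_le]
      intro p hp
      rw [Finset.mem_coe, Finset.mem_image] at hp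
      obtain ⟨n, hn, rfl⟩ := hp
      rw [Finset.mem_range] at hn
      show LinearMap.mulLeft k (∏ j, (X - C (r j)) ^ (a j + 1)) (X ^ n) ∈ W A B N
      rw [LinearMap.mulLeft_apply, hD]
      apply mem_W_a
      have h1 := hdegs Finset.univ
      rw [← hA] at h1
      omega
    · rw [Submodule.map_le_iff_le_comap]
      intro Q hQ
      show LinearMap.mulLeft k (∏ j ∈ Finset.univ.erase i, (X - C (r j)) ^ (a j + 1)) Q ∈ W A B N
      rw [LinearMap.mulLeft_apply]
      have hQn : Q.natDegree < a i := by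
        by_cases h0 : Q = 0
        · rw [h0, natDegree_zero]; exact ha i
        · exact (natDegree_lt_iff_degree_lt h0).2 (mem_degreeLT.1 hQ)
      have hAi : A = (X - C (r i)) ^ (a i) *
          ∏ j ∈ Finset.univ.erase i, (X - C (r j)) ^ (a j) := by
        rw [hA]
        exact (Finset.mul_prod_erase Finset.univ (fun j => (X - C (r j)) ^ (a j))
          (Finset.mem_univ i)).symm
      have hBi : B = (X - C (r i)) * ∏ j ∈ Finset.univ.erase i, (X - C (r j)) := by
        rw [hB]
        exact (Finset.mul_prod_erase Finset.univ (fun j => (X - C (r j)))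
          (Finset.mem_univ i)).symm
      have hDi : (∏ j ∈ Finset.univ.erase i, (X - C (r j)) ^ (a j + 1)) =
          (∏ j ∈ Finset.univ.erase i, (X - C (r j)) ^ (a j)) *
            ∏ j ∈ Finset.univ.erase i, (X - C (r j)) := by
        rw [← Finset.prod_mul_distrib]
        exact Finset.prod_congr rfl fun j _ => pow_succ _ _
      have hsum := sum_taylor_eq Q (r i)
      rw [← hsum, Polynomial.sum_def, Finset.mul_sum]
      refine Submodule.sum_mem _ fun l hl => ?_
      have hl' : l < a i := lt_of_le_of_lt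
        ((le_natDegree_of_mem_supp l hl).trans (natDegree_taylor Q (r i)).le) hQn
      have e : (∏ j ∈ Finset.univ.erase i, (X - C (r j)) ^ (a j + 1)) *
          (C ((taylor (r i) Q).coeff l) * (X - C (r i)) ^ l) =
          ((taylor (r i) Q).coeff l) •
            ((∏ j ∈ Finset.univ.erase i, (X - C (r j)) ^ (a j)) *
              (∏ j ∈ Finset.univ.erase i, (X - C (r j))) * (X - C (r i)) ^ l) := by
        rw [hDi, smul_eq_C_mul]; ring
      rw [e]
      refine Submodule.smul_mem _ _ ?_
      rw [hAi, hBi]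
      have h1 := hdegs (Finset.univ.erase i)
      have h2 : a i + ∑ j ∈ Finset.univ.erase i, a j = ∑ j, a j :=
        Finset.add_sum_erase Finset.univ a (Finset.mem_univ i)
      exact mem_W_b (∏ j ∈ Finset.univ.erase i, (X - C (r j)) ^ (a j))
        (∏ j ∈ Finset.univ.erase i, (X - C (r j))) (r i) l (a i) N hl' (by omega)
  exact hVW

theorem order_marked [CharZero k] (q : k) (α N : ℕ) (A₁ B₁ E h : k[X])
    (hA₁ : A₁.eval q ≠ 0) (hB₁ : B₁.eval q ≠ 0)
    (hAdeg : ((X - C q) ^ α * A₁).natDegree ≤ N) (hE : E.natDegree ≤ N)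
    (hrel : h * ((X - C q) ^ α * A₁) = ((X - C q) * B₁) *
      (derivative E * ((X - C q) ^ α * A₁) - E * derivative ((X - C q) ^ α * A₁)))
    (hne : h ≠ 0) :
    rootMultiplicity q h ≤ N ∧ rootMultiplicity q h ≠ α := by
  have hA₁0 : A₁ ≠ 0 := fun h0 => hA₁ (by rw [h0, eval_zero])
  have hP0 : (X - C q : k[X]) ^ α ≠ 0 := pow_ne_zero α (X_sub_C_ne_zero q)
  have hA0 : (X - C q) ^ α * A₁ ≠ 0 := mul_ne_zero hP0 hA₁0
  obtain ⟨E₁, hE₁deg, hE₁rm, hrel₁⟩ : ∃ E₁ : k[X], E₁.natDegree ≤ N ∧
      (E₁ ≠ 0 → rootMultiplicity q E₁ ≠ α) ∧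
      h * ((X - C q) ^ α * A₁) = ((X - C q) * B₁) *
      (derivative E₁ * ((X - C q) ^ α * A₁) - E₁ * derivative ((X - C q) ^ α * A₁)) := by
    by_cases hdvd : (X - C q) ^ α ∣ E
    · obtain ⟨E₂, hE₂⟩ := hdvd
      refine ⟨E - C (E₂.eval q / A₁.eval q) * ((X - C q) ^ α * A₁), ?_, ?_, ?_⟩
      · exact (natDegree_sub_le _ _).trans (max_le hE ((natDegree_C_mul_le _ _).trans hAdeg))
      · intro hne₁
        have h1 : (X - C q) ^ (α + 1) ∣
            E - C (E₂.eval q / A₁.eval q) * ((X - C q) ^ α * A₁) := by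
          have h2 : (X - C q) ∣ E₂ - C (E₂.eval q / A₁.eval q) * A₁ := by
            rw [dvd_iff_isRoot, IsRoot.def, eval_sub, eval_mul, eval_C,
              div_mul_cancel₀ _ hA₁, sub_self]
          obtain ⟨G, hG⟩ := h2
          refine ⟨G, ?_⟩
          rw [pow_succ]
          linear_combination hE₂ + ((X - C q) ^ α) * hG
        have h3 := (le_rootMultiplicity_iff hne₁).2 h1
        omega
      · rw [derivative_sub, derivative_C_mul]
        linear_combination hrel
    · refine ⟨E, hE, ?_, hrel⟩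
      intro hne₁
      have h3 : ¬ α ≤ rootMultiplicity q E :=
        fun h4 => hdvd ((le_rootMultiplicity_iff hne₁).1 h4)
      omega
  have hE₁ne : E₁ ≠ 0 := by
    intro h0
    rw [h0, derivative_zero, zero_mul, zero_mul, sub_self, mul_zero] at hrel₁
    rcases mul_eq_zero.1 hrel₁ with h1 | h1
    · exact hne h1
    · exact hA0 h1
  have hrm := hE₁rm hE₁ne
  obtain ⟨F, hF, hFnd⟩ := exists_eq_pow_rootMultiplicity_mul_and_not_dvd E₁ hE₁ne q
  obtain ⟨t, ht⟩ : ∃ t, t = rootMultiplicity q E₁ := ⟨_, rfl⟩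
  rw [← ht] at hF hrm
  have htN : t ≤ N := by
    have h1 : ((X - C q) ^ t).natDegree ≤ E₁.natDegree := natDegree_le_of_dvd ⟨F, hF⟩ hE₁ne
    rw [(monic_X_sub_C q).natDegree_pow, natDegree_X_sub_C, mul_one] at h1
    omega
  have hFq : F.eval q ≠ 0 := fun h0 => hFnd (dvd_iff_isRoot.2 h0)
  have hta : ((t : k) - (α : k)) ≠ 0 := sub_ne_zero.2 (fun h => hrm (Nat.cast_injective h))
  have key : h * A₁ = (X - C q) ^ t * (B₁ * ((C (t : k) - C (α : k)) * F * A₁ +
      (X - C q) * (derivative F * A₁ - F * derivative A₁))) := by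
    apply mul_left_cancel₀ hP0
    have e1 := euler q t
    have e2 := euler q α
    rw [hF, derivative_mul, derivative_mul] at hrel₁
    linear_combination hrel₁ + (B₁ * F * (X - C q) ^ α * A₁) * e1 -
      (B₁ * (X - C q) ^ t * F * A₁) * e2
  have hG : (B₁ * ((C (t : k) - C (α : k)) * F * A₁ +
      (X - C q) * (derivative F * A₁ - F * derivative A₁))).eval q ≠ 0 := by
    simp only [eval_mul, eval_add, eval_sub, eval_X, eval_C, sub_self, zero_mul, add_zero]
    exact mul_ne_zero hB₁ (mul_ne_zero (mul_ne_zero hta hFq) hA₁)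
  have hhA : h * A₁ ≠ 0 := mul_ne_zero hne hA₁0
  have h1 : rootMultiplicity q (h * A₁) = rootMultiplicity q h := by
    rw [rootMultiplicity_mul hhA, rootMultiplicity_eq_zero (p := A₁) hA₁, add_zero]
  have h2 : rootMultiplicity q (h * A₁) = t := by
    rw [key] at hhA ⊢
    rw [rootMultiplicity_mul hhA, rootMultiplicity_X_sub_C_pow, rootMultiplicity_eq_zero hG,
      add_zero]
  rw [← h1, h2]
  exact ⟨htN, hrm⟩

theorem coeff_X_mul_derivative (p : k[X]) (n : ℕ) :
    (X * derivative p).coeff n = (n : k) * p.coeff n := by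
  cases n with
  | zero => simp
  | succ n =>
    rw [coeff_X_mul, coeff_derivative]
    push_cast
    ring

theorem natDegree_X_mul_derivative_le (p : k[X]) :
    (X * derivative p).natDegree ≤ p.natDegree := by
  rw [natDegree_le_iff_coeff_eq_zero]
  intro n hn
  rw [coeff_X_mul_derivative, coeff_eq_zero_of_natDegree_lt hn, mul_zero]

theorem order_infty [CharZero k] (N : ℕ) (A B E h : k[X]) (hA : A.Monic) (hB : B.Monic)
    (hAdeg : A.natDegree ≤ N) (hE : E.natDegree ≤ N)
    (hrel : h * A = B * (derivative E * A - E * derivative A)) (hne : h ≠ 0) :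
    ∃ t, t ≤ N ∧ t ≠ A.natDegree ∧ h.natDegree + 1 = B.natDegree + t := by
  have hA0 : A ≠ 0 := hA.ne_zero
  obtain ⟨E₁, hE₁deg, hE₁nd, hrel₁⟩ : ∃ E₁ : k[X], E₁.natDegree ≤ N ∧
      (E₁ ≠ 0 → E₁.natDegree ≠ A.natDegree) ∧
      h * A = B * (derivative E₁ * A - E₁ * derivative A) := by
    by_cases hd : E.natDegree = A.natDegree
    · refine ⟨E - C E.leadingCoeff * A, ?_, ?_, ?_⟩
      · exact (natDegree_sub_le _ _).trans (max_le hE ((natDegree_C_mul_le _ _).trans hAdeg))
      · intro hne₁
        have hE0 : E ≠ 0 := by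
          intro h0
          apply hne₁
          rw [h0, leadingCoeff_zero, C_0, zero_mul, sub_self]
        have hlc : E.leadingCoeff ≠ 0 := leadingCoeff_ne_zero.2 hE0
        have h1 : (E - C E.leadingCoeff * A).degree < E.degree := by
          apply degree_sub_lt_left
          · rw [degree_C_mul hlc, degree_eq_natDegree hE0, degree_eq_natDegree hA0, hd]
          · exact hE0
          · rw [leadingCoeff_mul, leadingCoeff_C, hA.leadingCoeff, mul_one]
        have h2 := natDegree_lt_natDegree hne₁ h1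
        omega
      · rw [derivative_sub, derivative_C_mul]
        linear_combination hrel
    · exact ⟨E, hE, fun _ => hd, hrel⟩
  have hE₁ne : E₁ ≠ 0 := by
    intro h0
    rw [h0, derivative_zero, zero_mul, zero_mul, sub_self, mul_zero] at hrel₁
    rcases mul_eq_zero.1 hrel₁ with h1 | h1
    · exact hne h1
    · exact hA0 h1
  have hnd := hE₁nd hE₁ne
  refine ⟨E₁.natDegree, hE₁deg, hnd, ?_⟩
  have hZ : X * (derivative E₁ * A - E₁ * derivative A) =
      (X * derivative E₁) * A - E₁ * (X * derivative A) := by ring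
  have hZdeg : (X * (derivative E₁ * A - E₁ * derivative A)).natDegree ≤
      E₁.natDegree + A.natDegree := by
    rw [hZ]
    refine (natDegree_sub_le _ _).trans (max_le ?_ ?_)
    · exact natDegree_mul_le_of_le (natDegree_X_mul_derivative_le E₁) le_rfl
    · exact natDegree_mul_le_of_le le_rfl (natDegree_X_mul_derivative_le A)
  have c1 : ((X * derivative E₁) * A).coeff (E₁.natDegree + A.natDegree) =
      (X * derivative E₁).coeff E₁.natDegree * A.coeff A.natDegree :=
    coeff_mul_add_eq_of_natDegree_le (natDegree_X_mul_derivative_le E₁) le_rfl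
  have c2 : (E₁ * (X * derivative A)).coeff (E₁.natDegree + A.natDegree) =
      E₁.coeff E₁.natDegree * (X * derivative A).coeff A.natDegree :=
    coeff_mul_add_eq_of_natDegree_le le_rfl (natDegree_X_mul_derivative_le A)
  have hZcoeff : (X * (derivative E₁ * A - E₁ * derivative A)).coeff
      (E₁.natDegree + A.natDegree) ≠ 0 := by
    rw [hZ, coeff_sub, c1, c2, coeff_X_mul_derivative, coeff_X_mul_derivative,
      coeff_natDegree, coeff_natDegree, hA.leadingCoeff]
    have h1 : ((E₁.natDegree : k) - (A.natDegree : k)) ≠ 0 :=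
      sub_ne_zero.2 (fun h => hnd (Nat.cast_injective h))
    have h2 : E₁.leadingCoeff ≠ 0 := leadingCoeff_ne_zero.2 hE₁ne
    intro hzero
    apply mul_ne_zero h1 h2
    linear_combination hzero
  have hZnat : (X * (derivative E₁ * A - E₁ * derivative A)).natDegree =
      E₁.natDegree + A.natDegree :=
    natDegree_eq_of_le_of_coeff_ne_zero hZdeg hZcoeff
  have hZ0 : X * (derivative E₁ * A - E₁ * derivative A) ≠ 0 := by
    intro h0
    rw [h0, coeff_zero] at hZcoeff
    exact hZcoeff rfl
  have hB0 : B ≠ 0 := hB.ne_zero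
  have heq : h * A * X = B * (X * (derivative E₁ * A - E₁ * derivative A)) := by
    linear_combination X * hrel₁
  have h3 := congrArg natDegree heq
  rw [natDegree_mul (mul_ne_zero hne hA0) X_ne_zero, natDegree_mul hne hA0, natDegree_X,
    natDegree_mul hB0 hZ0, hZnat] at h3
  omega

theorem finrank_ge (m : ℕ) (r : Fin m → k) (hr : Function.Injective r) (a : Fin m → ℕ) (b : ℕ)
    (V : Submodule k k[X]) [FiniteDimensional k V]
    (hV : V = (degreeLT k b).map (LinearMap.mulLeft k (∏ j, (X - C (r j)) ^ (a j + 1))) ⊔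
      ⨆ i, (degreeLT k (a i)).map
        (LinearMap.mulLeft k (∏ j ∈ Finset.univ.erase i, (X - C (r j)) ^ (a j + 1)))) :
    (∑ j, a j) + b ≤ Module.finrank k V := by
  classical
  obtain ⟨D, hD⟩ : ∃ D : k[X], D = ∏ j, (X - C (r j)) ^ (a j + 1) := ⟨_, rfl⟩
  obtain ⟨Di, hDi⟩ : ∃ Di : Fin m → k[X], ∀ i, Di i =
      ∏ j ∈ Finset.univ.erase i, (X - C (r j)) ^ (a j + 1) := ⟨_, fun _ => rfl⟩
  let Φ : (degreeLT k b × (∀ i : Fin m, degreeLT k (a i))) →ₗ[k] k[X] :=
    { toFun := fun x => D * (x.1 : k[X]) + ∑ i, Di i * ((x.2 i : degreeLT k (a i)) : k[X])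
      map_add' := by
        intro x y
        simp only [Prod.fst_add, Prod.snd_add, Pi.add_apply, Submodule.coe_add, mul_add,
          Finset.sum_add_distrib]
        ring
      map_smul' := by
        intro c x
        simp only [Prod.smul_fst, Prod.smul_snd, Pi.smul_apply, Submodule.coe_smul,
          RingHom.id_apply, mul_smul_comm, Finset.smul_sum, smul_add] }
  have hΦ : ∀ x, Φ x = D * (x.1 : k[X]) +
      ∑ i, Di i * ((x.2 i : degreeLT k (a i)) : k[X]) := fun x => rfl
  have hrange : LinearMap.range Φ ≤ V := by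
    rintro _ ⟨x, rfl⟩
    rw [hΦ, hV]
    refine Submodule.add_mem _ (Submodule.mem_sup_left ?_) (Submodule.mem_sup_right ?_)
    · refine Submodule.mem_map.2 ⟨x.1, x.1.2, ?_⟩
      rw [LinearMap.mulLeft_apply, hD]
    · refine Submodule.sum_mem _ fun i _ => ?_
      refine Submodule.mem_iSup_of_mem i (Submodule.mem_map.2 ⟨x.2 i, (x.2 i).2, ?_⟩)
      rw [LinearMap.mulLeft_apply, hDi]
  have hcop : ∀ i, IsCoprime ((X - C (r i)) ^ (a i + 1)) (Di i) := by
    intro i
    rw [hDi]
    refine IsCoprime.prod_right fun j hj => ?_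
    refine IsCoprime.pow (isCoprime_X_sub_C_of_isUnit_sub ?_)
    have hij : j ≠ i := (Finset.mem_erase.1 hj).1
    exact (sub_ne_zero.2 (fun h => hij (hr h).symm)).isUnit
  have hDsplit : ∀ i, D = (X - C (r i)) ^ (a i + 1) * Di i := by
    intro i
    rw [hD, hDi]
    exact (Finset.mul_prod_erase Finset.univ (fun j => (X - C (r j)) ^ (a j + 1))
      (Finset.mem_univ i)).symm
  have hdvdDj : ∀ i j, j ≠ i → (X - C (r i)) ^ (a i + 1) ∣ Di j := by
    intro i j hji
    rw [hDi]
    exact Finset.dvd_prod_of_mem (fun l => (X - C (r l)) ^ (a l + 1))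
      (Finset.mem_erase.2 ⟨hji.symm, Finset.mem_univ i⟩)
  have hD0 : D ≠ 0 := by
    rw [hD]
    exact (monic_prod_of_monic _ _ fun j _ => (monic_X_sub_C _).pow _).ne_zero
  have hinj : Function.Injective Φ := by
    rw [injective_iff_map_eq_zero]
    intro x hx
    rw [hΦ] at hx
    have hQ : ∀ i, ((x.2 i : degreeLT k (a i)) : k[X]) = 0 := by
      intro i
      have h1 : (X - C (r i)) ^ (a i + 1) ∣ Di i * ((x.2 i : degreeLT k (a i)) : k[X]) := by
        have h2 : Di i * ((x.2 i : degreeLT k (a i)) : k[X]) =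
            -(D * (x.1 : k[X]) + ∑ j ∈ Finset.univ.erase i,
              Di j * ((x.2 j : degreeLT k (a j)) : k[X])) := by
          rw [← Finset.add_sum_erase Finset.univ
            (fun j => Di j * ((x.2 j : degreeLT k (a j)) : k[X])) (Finset.mem_univ i)] at hx
          linear_combination hx
        rw [h2, dvd_neg]
        refine dvd_add ?_ (Finset.dvd_sum fun j hj => ?_)
        · rw [hDsplit i, mul_assoc]; exact dvd_mul_right _ _
        · exact dvd_mul_of_dvd_left (hdvdDj i j (Finset.mem_erase.1 hj).1) _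
      have h3 : (X - C (r i)) ^ (a i + 1) ∣ ((x.2 i : degreeLT k (a i)) : k[X]) :=
        (hcop i).dvd_of_dvd_mul_left h1
      by_contra hne0
      have h4 : (((x.2 i : degreeLT k (a i)) : k[X])).natDegree < a i :=
        (natDegree_lt_iff_degree_lt hne0).2 (mem_degreeLT.1 (x.2 i).2)
      have h5 := natDegree_le_of_dvd h3 hne0
      rw [(monic_X_sub_C (r i)).natDegree_pow, natDegree_X_sub_C, mul_one] at h5
      omega
    simp only [hQ, mul_zero, Finset.sum_const_zero, add_zero] at hx
    have hp : ((x.1 : degreeLT k b) : k[X]) = 0 := by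
      rcases mul_eq_zero.1 hx with h | h
      · exact absurd h hD0
      · exact h
    exact Prod.ext (Subtype.ext hp) (funext fun i => Subtype.ext (hQ i))
  have h1 := LinearMap.finrank_range_of_inj hinj
  have h2 := Submodule.finrank_mono hrange
  have h3 : Module.finrank k (degreeLT k b × (∀ i : Fin m, degreeLT k (a i))) =
      b + ∑ i, a i := by
    rw [Module.finrank_prod, Module.finrank_pi_fintype k]
    simp only [finrank_degreeLT]
  omega

end aux

open Polynomial in
/-- Let `k` be a field of characteristic zero and take, on the projective line over `k`, the point `∞`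
and `m` further distinct points `r_1, …, r_m` of the affine line, with positive integers `b` (at
`∞`) and `a_1, …, a_m`; put `N = b + ∑ a_j`. The sum of the spaces of differentials with a single
pole, of order at most `b + 1` at `∞`, resp. at most `a_j + 1` at `r_j`, `V = H⁰(ω((b+1)∞)) + ∑_j
H⁰(ω((a_j+1)r_j)) ⊆ H⁰(ω((b+1)∞ + ∑_j (a_j+1)r_j)) ≅ H⁰(O(d))`, `d = b - 1 + ∑ (a_j+1)`, becomes,
after multiplying by `dX⁻¹ ∏_j (X - r_j)^(a_j+1)`, the subspace of `k[X]_{≤ d}` spanned by
`D·k[X]_{<b}` and the `D_i·k[X]_{<a_i}`, where `D = ∏_j (X - r_j)^(a_j+1)` and `D_i` omits the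
`i`-th factor; a member `h` vanishes to order `n` at a point `q` of the affine line when `(X - q)^n
∣ h`, and to order `d - deg h` at `∞`. Then `dim V = N`, and at each marked point the vanishing
orders of the members of `V` are `0, …, e - 1, e + 1, …, N`, where `e = a_i` at `r_i` and `e = b` at
`∞`: the subspace vanishing to order at least `n` there has dimension `N - n` for `n ≤ e` and `N + 1
- n` for `n > e` (so the weight at `r_i` is `∑_{j ≠ i} a_j + b`). (The published statement is over
the complex numbers, with all marked points arbitrary; one of them is placed at `∞` here.) -/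
theorem result
    (k : Type*) [Field k] [CharZero k] (m : ℕ) (r : Fin m → k) (hr : Function.Injective r)
    (a : Fin m → ℕ) (ha : ∀ j, 1 ≤ a j) (b : ℕ) (hb : 1 ≤ b) (N d : ℕ)
    (hN : N = (∑ j, a j) + b) (hd : d + 1 = (∑ j, (a j + 1)) + b)
    (V : Submodule k (Polynomial k))
    (hV : V = (Polynomial.degreeLT k b).map (LinearMap.mulLeft k (∏ j, (X - C (r j)) ^ (a j + 1))) ⊔
      ⨆ i, (Polynomial.degreeLT k (a i)).map
        (LinearMap.mulLeft k (∏ j ∈ Finset.univ.erase i, (X - C (r j)) ^ (a j + 1)))) :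
    Module.finrank k ↥V = N ∧
    (∀ (i : Fin m) (n : ℕ), Module.finrank k ↥(V ⊓ (Ideal.span {(X - C (r i)) ^ n}).restrictScalars k) =
        if n ≤ a i then N - n else N + 1 - n) ∧
    (∀ n : ℕ, Module.finrank k ↥(V ⊓ Polynomial.degreeLT k (d + 1 - n)) =
        if n ≤ b then N - n else N + 1 - n) := by
  classical
  obtain ⟨A, hA⟩ : ∃ A : k[X], A = ∏ j, (X - C (r j)) ^ (a j) := ⟨_, rfl⟩
  obtain ⟨B, hB⟩ : ∃ B : k[X], B = ∏ j, (X - C (r j)) := ⟨_, rfl⟩
  have hVW : V ≤ S17242.W A B N := V_le_W m r a ha b N hN V hV A B hA hB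
  have hAmonic : A.Monic := by
    rw [hA]; exact monic_prod_of_monic _ _ fun j _ => (monic_X_sub_C _).pow _
  have hBmonic : B.Monic := by
    rw [hB]; exact monic_prod_of_monic _ _ fun j _ => monic_X_sub_C _
  have hAnat : A.natDegree = ∑ j, a j := by
    rw [hA, natDegree_prod_of_monic _ _ (fun j _ => (monic_X_sub_C _).pow _)]
    refine Finset.sum_congr rfl fun j _ => ?_
    rw [(monic_X_sub_C (r j)).natDegree_pow, natDegree_X_sub_C, mul_one]
  have hBnat : B.natDegree = m := by
    rw [hB, natDegree_prod_of_monic _ _ (fun j _ => monic_X_sub_C _)]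
    simp [natDegree_X_sub_C]
  have hsum1 : ∑ j : Fin m, (a j + 1) = (∑ j, a j) + m := by
    rw [Finset.sum_add_distrib]; simp
  have hdN : d + 1 = N + m := by omega
  have hinf : ∀ h ∈ V, h ≠ 0 →
      ∃ t, t ≤ N ∧ t ≠ ∑ j, a j ∧ h.natDegree + 1 = m + t := by
    intro h hh hne
    obtain ⟨E, hEdeg, hRel⟩ := S17242.mem_W.1 (hVW hh)
    have h1 := order_infty N A B E h hAmonic hBmonic (by rw [hAnat]; omega) hEdeg hRel hne
    rwa [hAnat, hBnat] at h1
  have hU0 : V ≤ degreeLT k (d + 1 - 0) := by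
    intro h hh
    rw [mem_degreeLT]
    by_cases hne : h = 0
    · rw [hne, degree_zero]; exact WithBot.bot_lt_coe _
    · obtain ⟨t, ht1, ht2, ht3⟩ := hinf h hh hne
      rw [← natDegree_lt_iff_degree_lt hne]
      omega
  haveI hfinV : FiniteDimensional k V := Submodule.finiteDimensional_of_le hU0
  have hdimge : N ≤ Module.finrank k V := by
    rw [hN]; exact finrank_ge m r hr a b V hV
  have part3 : ∀ n : ℕ, Module.finrank k ↥(V ⊓ degreeLT k (d + 1 - n)) =
      if n ≤ b then N - n else N + 1 - n := by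
    intro n
    refine chain_lemma V (fun n => degreeLT k (d + 1 - n)) hU0 ?_ ?_ N b (by omega) hdimge
      ?_ ?_ n
    · intro n₁ n₂ h12
      exact degreeLT_mono (by omega)
    · intro n
      by_cases hnd : n ≤ d
      · refine ⟨lcoeff k (d - n), ?_⟩
        intro x _ hx
        show x ∈ degreeLT k (d + 1 - (n + 1)) ↔ x.coeff (d - n) = 0
        have hx' : x ∈ degreeLT k (d + 1 - n) := hx
        rw [mem_degreeLT, degree_lt_iff_coeff_zero] at hx' ⊢
        constructor
        · intro h1; exact h1 _ (by omega)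
        · intro h1 j hj
          by_cases hj' : j = d - n
          · rw [hj']; exact h1
          · exact hx' j (by omega)
      · refine ⟨0, ?_⟩
        intro x _ hx
        have h1 : d + 1 - (n + 1) = d + 1 - n := by omega
        show x ∈ degreeLT k (d + 1 - (n + 1)) ↔ (0 : k[X] →ₗ[k] k) x = 0
        rw [h1]
        exact ⟨fun _ => rfl, fun _ => hx⟩
    · rw [eq_bot_iff]
      intro h hh
      obtain ⟨hhV, hhU⟩ := Submodule.mem_inf.1 hh
      rw [Submodule.mem_bot]
      by_contra hne
      obtain ⟨t, ht1, ht2, ht3⟩ := hinf h hhV hne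
      have hhU' : h ∈ degreeLT k (d + 1 - (N + 1)) := hhU
      rw [mem_degreeLT, ← natDegree_lt_iff_degree_lt hne] at hhU'
      omega
    · intro h hh
      obtain ⟨hhV, hhU⟩ := Submodule.mem_inf.1 hh
      show h ∈ degreeLT k (d + 1 - (b + 1))
      have hhU' : h ∈ degreeLT k (d + 1 - b) := hhU
      by_cases hne : h = 0
      · rw [hne]; exact Submodule.zero_mem _
      · obtain ⟨t, ht1, ht2, ht3⟩ := hinf h hhV hne
        rw [mem_degreeLT, ← natDegree_lt_iff_degree_lt hne] at hhU' ⊢
        omega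
  have part2 : ∀ (i : Fin m) (n : ℕ),
      Module.finrank k ↥(V ⊓ (Ideal.span {(X - C (r i)) ^ n}).restrictScalars k) =
        if n ≤ a i then N - n else N + 1 - n := by
    intro i n
    obtain ⟨A₁, hA₁⟩ : ∃ A₁ : k[X], A₁ = ∏ j ∈ Finset.univ.erase i, (X - C (r j)) ^ (a j) :=
      ⟨_, rfl⟩
    obtain ⟨B₁, hB₁⟩ : ∃ B₁ : k[X], B₁ = ∏ j ∈ Finset.univ.erase i, (X - C (r j)) := ⟨_, rfl⟩
    have hAi : A = (X - C (r i)) ^ (a i) * A₁ := by
      rw [hA, hA₁]
      exact (Finset.mul_prod_erase Finset.univ (fun j => (X - C (r j)) ^ (a j))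
        (Finset.mem_univ i)).symm
    have hBi : B = (X - C (r i)) * B₁ := by
      rw [hB, hB₁]
      exact (Finset.mul_prod_erase Finset.univ (fun j => (X - C (r j)))
        (Finset.mem_univ i)).symm
    have hA₁q : A₁.eval (r i) ≠ 0 := by
      rw [hA₁, eval_prod]
      refine Finset.prod_ne_zero_iff.2 fun j hj => ?_
      rw [eval_pow, eval_sub, eval_X, eval_C]
      exact pow_ne_zero _ (sub_ne_zero.2 (fun h => (Finset.mem_erase.1 hj).1 (hr h).symm))
    have hB₁q : B₁.eval (r i) ≠ 0 := by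
      rw [hB₁, eval_prod]
      refine Finset.prod_ne_zero_iff.2 fun j hj => ?_
      rw [eval_sub, eval_X, eval_C]
      exact sub_ne_zero.2 (fun h => (Finset.mem_erase.1 hj).1 (hr h).symm)
    have hord : ∀ h ∈ V, h ≠ 0 →
        rootMultiplicity (r i) h ≤ N ∧ rootMultiplicity (r i) h ≠ a i := by
      intro h hh hne
      obtain ⟨E, hEdeg, hRel⟩ := S17242.mem_W.1 (hVW hh)
      rw [hAi, hBi] at hRel
      refine order_marked (r i) (a i) N A₁ B₁ E h hA₁q hB₁q ?_ hEdeg hRel hne
      rw [← hAi, hAnat]; omega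
    have hai : a i ≤ N := by
      have h1 := Finset.single_le_sum (fun j _ => Nat.zero_le (a j)) (Finset.mem_univ i)
      omega
    refine chain_lemma V (fun n => (Ideal.span {(X - C (r i)) ^ n}).restrictScalars k)
      ?_ ?_ ?_ N (a i) hai hdimge ?_ ?_ n
    · intro h _
      show h ∈ (Ideal.span {(X - C (r i)) ^ 0}).restrictScalars k
      rw [Submodule.restrictScalars_mem, Ideal.mem_span_singleton, pow_zero]
      exact one_dvd h
    · intro n₁ n₂ h12 h hh
      have hh' : h ∈ (Ideal.span {(X - C (r i)) ^ n₂}).restrictScalars k := hh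
      show h ∈ (Ideal.span {(X - C (r i)) ^ n₁}).restrictScalars k
      rw [Submodule.restrictScalars_mem, Ideal.mem_span_singleton] at hh' ⊢
      exact (pow_dvd_pow _ h12).trans hh'
    · intro n
      refine ⟨(lcoeff k n).comp (taylor (r i)), ?_⟩
      intro x _ hx
      have hx' : x ∈ (Ideal.span {(X - C (r i)) ^ n}).restrictScalars k := hx
      show x ∈ (Ideal.span {(X - C (r i)) ^ (n + 1)}).restrictScalars k ↔
        (taylor (r i) x).coeff n = 0
      rw [Submodule.restrictScalars_mem, Ideal.mem_span_singleton] at hx' ⊢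
      obtain ⟨y, rfl⟩ := hx'
      rw [taylor_mul, taylor_pow, map_sub, taylor_X, taylor_C, add_sub_cancel_right,
        coeff_X_pow_mul', if_pos le_rfl, Nat.sub_self, taylor_coeff_zero, pow_succ,
        mul_dvd_mul_iff_left (pow_ne_zero n (X_sub_C_ne_zero (r i))), dvd_iff_isRoot,
        IsRoot.def]
    · rw [eq_bot_iff]
      intro h hh
      obtain ⟨hhV, hhU⟩ := Submodule.mem_inf.1 hh
      rw [Submodule.mem_bot]
      by_contra hne
      have hhU' : h ∈ (Ideal.span {(X - C (r i)) ^ (N + 1)}).restrictScalars k := hhU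
      rw [Submodule.restrictScalars_mem, Ideal.mem_span_singleton,
        ← le_rootMultiplicity_iff hne] at hhU'
      have h1 := (hord h hhV hne).1
      omega
    · intro h hh
      obtain ⟨hhV, hhU⟩ := Submodule.mem_inf.1 hh
      show h ∈ (Ideal.span {(X - C (r i)) ^ (a i + 1)}).restrictScalars k
      have hhU' : h ∈ (Ideal.span {(X - C (r i)) ^ (a i)}).restrictScalars k := hhU
      by_cases hne : h = 0
      · rw [hne]; exact Submodule.zero_mem _
      · rw [Submodule.restrictScalars_mem, Ideal.mem_span_singleton,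
          ← le_rootMultiplicity_iff hne] at hhU' ⊢
        have h1 := (hord h hhV hne).2
        omega
  refine ⟨?_, part2, part3⟩
  have h0 := part3 0
  rw [if_pos (Nat.zero_le b), inf_eq_left.2 hU0] at h0
  exact h0

end Groth.Agent.S17241
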