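-- Statement S0196: a maximal commutative subalgebra L of a finite central skew field D has dim D = (dim L)^2.
import Groth.Statements.S0196
import Groth.Agent.Lib.Lead.Centralizer
import Mathlib.Algebra.Algebra.Subalgebra.Lattice

set_option autoImplicit false
universe u v w
open scoped TensorProduct
open Curves

namespace Groth.Agent.S0196

/-- A finite-dimensional subalgebra of a division algebra is a simple ring (it is a division ring). -/
theorem isSimpleRing_subalgebra (k : Type u) [Field k] (D : Type v) [DivisionRing D] [Algebra k D]
    [FiniteDimensional k D] (L : Subalgebra k D) : IsSimpleRing L := by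
  refine IsSimpleRing.of_eq_bot_or_eq_top fun I => ?_
  by_cases hI : I = ⊥
  · exact Or.inl hI
  · right
    obtain ⟨x, hxI, hx⟩ : ∃ x ∈ I, x ≠ 0 := by
      by_contra h
      push_neg at h
      apply hI
      rw [eq_bot_iff]
      intro x hx
      rw [h x hx]
      exact (⊥ : TwoSidedIdeal L).zero_mem
    have hinj : Function.Injective (LinearMap.mulLeft k x) := by
      intro a b hab
      simp only [LinearMap.mulLeft_apply] at hab
      exact mul_left_cancel₀ hx hab
    obtain ⟨y, hy⟩ := (LinearMap.injective_iff_surjective (f := LinearMap.mulLeft k x)).1 hinj 1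
    rw [LinearMap.mulLeft_apply] at hy
    have h1 : (1 : L) ∈ I := hy ▸ I.mul_mem_right x y hxI
    exact (TwoSidedIdeal.one_mem_iff I).1 h1

/-- In a finite central skew field D over k, a maximal commutative k-subalgebra L satisfies dim D = (dim
L)^2. -/
theorem result (k : Type u) [Field k]
    (D : Type v) [DivisionRing D] [Algebra k D] [Algebra.IsCentral k D] [FiniteDimensional k D]
    (L : Subalgebra k D) (hcomm : ∀ x ∈ L, ∀ y ∈ L, x * y = y * x)
    (hmax : ∀ L' : Subalgebra k D, (∀ x ∈ L', ∀ y ∈ L', x * y = y * x) → L ≤ L' → L' = L) :
    Module.finrank k D = Module.finrank k L ^ 2 := by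
  haveI : IsSimpleRing L := isSimpleRing_subalgebra k D L
  have hCL : Subalgebra.centralizer k (L : Set D) = L := by
    apply le_antisymm
    · intro x hx
      rw [Subalgebra.mem_centralizer_iff] at hx
      -- the subalgebra generated by L and x is commutative
      have hs : ∀ a ∈ (L : Set D) ∪ {x}, ∀ b ∈ (L : Set D) ∪ {x}, a * b = b * a := by
        rintro a (ha | ha) b (hb | hb)
        · exact hcomm a ha b hb
        · rw [Set.mem_singleton_iff] at hb
          subst hb
          exact hx a ha
        · rw [Set.mem_singleton_iff] at ha
          subst ha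
          exact (hx b hb).symm
        · rw [Set.mem_singleton_iff] at ha hb
          rw [ha, hb]
      haveI := Algebra.isMulCommutative_adjoin k hs
      have hL' := hmax (Algebra.adjoin k ((L : Set D) ∪ {x}))
        (fun a ha b hb => congrArg Subtype.val
          (mul_comm' (⟨a, ha⟩ : Algebra.adjoin k ((L : Set D) ∪ {x})) ⟨b, hb⟩))
        (fun a ha => Algebra.subset_adjoin (Or.inl ha))
      rw [← hL']
      exact Algebra.subset_adjoin (Or.inr rfl)
    · intro x hx
      rw [Subalgebra.mem_centralizer_iff]
      intro g hg
      exact hcomm g hg x hx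
  have h := Groth.Agent.Lib.Lead.CSA.finrank_eq_mul_centralizer L
  rw [hCL] at h
  rw [h, sq]

end Groth.Agent.S0196
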