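-- Statement S0198: a finite central skew field contains a separable maximal commutative subalgebra.
import Groth.Statements.S0198
import Groth.Agent.Lib.Lead.SubDivision

set_option autoImplicit false
set_option linter.style.haveILetI false
universe u v w
open scoped TensorProduct
open Curves
open Groth.Agent.Lib.Lead.SubDivision

namespace Groth.Agent.S0198

/-- A finite central skew field over k contains a maximal commutative subalgebra that is separable over
k. -/
theorem result (k : Type u) [Field k]
    (D : Type v) [DivisionRing D] [Algebra k D] [Algebra.IsCentral k D] [FiniteDimensional k D] :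
    ∃ L : Subalgebra k D, (∀ x ∈ L, ∀ y ∈ L, x * y = y * x) ∧
      (∀ L' : Subalgebra k D, (∀ x ∈ L', ∀ y ∈ L', x * y = y * x) → L ≤ L' → L' = L) ∧
      Algebra.IsSeparable k L := by
  classical
  let P : ℕ → Prop := fun n => ∃ L : Subalgebra k D, (∀ x ∈ L, ∀ y ∈ L, x * y = y * x) ∧
    Algebra.IsSeparable k L ∧ Module.finrank k L = n
  have hbot : P 1 := by
    refine ⟨⊥, ?_, ?_, Subalgebra.finrank_bot⟩
    · intro x hx y hy
      obtain ⟨a, rfl⟩ := Algebra.mem_bot.1 hx
      exact Algebra.commutes a y
    · rw [Subalgebra.isSeparable_iff]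
      intro x hx
      obtain ⟨a, rfl⟩ := Algebra.mem_bot.1 hx
      exact isSeparable_algebraMap a
  have h1 : 1 ≤ Module.finrank k D := Module.finrank_pos
  obtain ⟨L, hLc, hLs, hLn⟩ := Nat.findGreatest_spec (P := P) h1 hbot
  have hmaxn : ∀ L' : Subalgebra k D, (∀ x ∈ L', ∀ y ∈ L', x * y = y * x) →
      Algebra.IsSeparable k L' → Module.finrank k L' ≤ Module.finrank k L := by
    intro L' h1' h2'
    rw [hLn]
    exact Nat.le_findGreatest (Submodule.finrank_le (Subalgebra.toSubmodule L')) ⟨L', h1', h2', rfl⟩
  have hcent : Subalgebra.centralizer k (L : Set D) = L := by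
    by_contra hne
    obtain ⟨L₁, h1c, h1s, hlt⟩ := exists_lt_separable L hLc hLs hne
    have hle := hmaxn L₁ h1c h1s
    have hlt' : Module.finrank k L < Module.finrank k L₁ :=
      Submodule.finrank_lt_finrank_of_lt
        (show Subalgebra.toSubmodule L < Subalgebra.toSubmodule L₁ from hlt)
    omega
  refine ⟨L, hLc, ?_, hLs⟩
  intro L' hL'c hLL'
  apply le_antisymm _ hLL'
  intro x hx
  have hx' : x ∈ Subalgebra.centralizer k (L : Set D) := by
    rw [Subalgebra.mem_centralizer_iff]
    intro g hg
    exact hL'c g (hLL' hg) x hx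
  exact (SetLike.ext_iff.1 hcent x).1 hx'

end Groth.Agent.S0198
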