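import Groth.Statements.S7109
import Mathlib

set_option autoImplicit false
universe u
open CAlg

namespace Groth.Agent.S7109

section shear

variable {R : Type u} [CommRing R] {X Y : Type u} [AddCommGroup X] [Module R X] [AddCommGroup Y]
  [Module R Y]

/-- `(x, y) ↦ (x, y + φ x)` -/
def shearR (φ : X →ₗ[R] Y) : (X × Y) ≃ₗ[R] (X × Y) where
  toFun z := (z.1, z.2 + φ z.1)
  invFun z := (z.1, z.2 - φ z.1)
  map_add' a b := by
    ext
    · simp
    · simp only [Prod.fst_add, Prod.snd_add, map_add]; abel
  map_smul' c a := by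
    ext
    · simp
    · simp
  left_inv z := by ext <;> simp
  right_inv z := by ext <;> simp

/-- `(x, y) ↦ (x - ψ y, y)` -/
def shearL (ψ : Y →ₗ[R] X) : (X × Y) ≃ₗ[R] (X × Y) where
  toFun z := (z.1 - ψ z.2, z.2)
  invFun z := (z.1 + ψ z.2, z.2)
  map_add' a b := by
    ext
    · simp only [Prod.fst_add, Prod.snd_add, map_add]; abel
    · simp
  map_smul' c a := by
    ext
    · simp [smul_sub]
    · simp
  left_inv z := by ext <;> simp
  right_inv z := by ext <;> simp

end shear

/-- Let P be a projective module over a ring R and s an element of P. Then there are a finite free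
module R^n and a direct summand K of R^n ⊕ P which is finite free and contains (0, s). -/
theorem result (R : Type u) [CommRing R] (P : Type u) [AddCommGroup P]
    [Module R P] [Module.Projective R P] (s : P) :
    ∃ (n : ℕ) (K K' : Submodule R ((Fin n → R) × P)), IsCompl K K' ∧ Module.Free R K ∧ Module.Finite R K ∧
      ((0, s) : (Fin n → R) × P) ∈ K := by
  classical
  obtain ⟨i, hi⟩ := (Module.projective_def' (R := R) (P := P)).1 inferInstance
  have hπ : ∀ p, Finsupp.linearCombination R (id : P → P) (i p) = p := fun p =>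
    congrArg (fun l : P →ₗ[R] P => l p) hi
  set c : P →₀ R := i s with hc
  set T : Finset P := c.support with hT
  set n := T.card with hn
  let q : Fin n → P := fun j => (T.equivFin.symm j).1
  let φ : (Fin n → R) →ₗ[R] P := Fintype.linearCombination R q
  let ψ : P →ₗ[R] (Fin n → R) := LinearMap.pi (fun j => (Finsupp.lapply (q j)).comp i)
  let a : Fin n → R := ψ s
  have ha : ∀ j, a j = c (q j) := fun j => rfl
  have hφa : φ a = s := by
    show Fintype.linearCombination R q a = s
    rw [Fintype.linearCombination_apply]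
    have h1 : ∑ j, a j • q j = ∑ t : T, c t.1 • t.1 := by
      rw [← Equiv.sum_comp T.equivFin.symm]
      rfl
    rw [h1, Finset.sum_coe_sort T (fun p => c p • p)]
    have h2 := hπ s
    rw [Finsupp.linearCombination_apply, Finsupp.sum] at h2
    exact h2
  let σ : ((Fin n → R) × P) ≃ₗ[R] ((Fin n → R) × P) := (shearR φ).trans (shearL ψ)
  have hσ : σ (a, 0) = (0, s) := by
    show ((a, (0 : P) + φ a).1 - ψ (a, (0 : P) + φ a).2, (a, (0 : P) + φ a).2) = (0, s)
    simp only [zero_add, hφa]
    ext
    · simp [a]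
    · rfl
  let K₀ : Submodule R ((Fin n → R) × P) := LinearMap.range (LinearMap.inl R (Fin n → R) P)
  let K₀' : Submodule R ((Fin n → R) × P) := LinearMap.range (LinearMap.inr R (Fin n → R) P)
  have hcompl : IsCompl K₀ K₀' := LinearMap.isCompl_range_inl_inr
  let e₀ : (Fin n → R) ≃ₗ[R] K₀ := LinearEquiv.ofInjective (LinearMap.inl R (Fin n → R) P)
    LinearMap.inl_injective
  let e₁ : K₀ ≃ₗ[R] K₀.map σ.toLinearMap := σ.submoduleMap K₀
  refine ⟨n, K₀.map σ.toLinearMap, K₀'.map σ.toLinearMap, ?_, ?_, ?_, ?_⟩
  · exact (Submodule.orderIsoMapComap σ).isCompl hcompl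
  · exact Module.Free.of_equiv (e₀.trans e₁)
  · exact Module.Finite.equiv (e₀.trans e₁)
  · exact ⟨(a, 0), ⟨a, rfl⟩, hσ⟩

end Groth.Agent.S7109
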