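import Groth.Statements.S16598
import Groth.Agent.Lib.Helper25.SameRank

set_option autoImplicit false
universe u v
open LGRing

namespace Groth.Agent.S16598

open Groth.Agent.Lib.Helper25 MvPolynomial TensorProduct in
/-- Let R be an LG-ring and M a faithfully projective R-module (finitely generated projective and
faithful). Then M contains a unimodular element: there are m ∈ M and a linear form f on M with f(m)
= 1 (so R·m is a free direct summand of M of rank one). -/
theorem result {R : Type u} [CommRing R] (hR : LGRing.IsLGRing R)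
    (M : Type v) [AddCommGroup M] [Module R M] [Module.Finite R M] [Module.Projective R M] [FaithfulSMul R M] :
    ∃ (m : M) (f : Module.Dual R M), f m = 1 := by
  classical
  obtain ⟨a, π, i, -, -, hπi⟩ := Module.Finite.exists_comp_eq_id_of_projective R M
  set e := LinearMap.toMatrix' (i ∘ₗ π) with he
  let F : MvPolynomial (Fin a ⊕ Fin a) R :=
    ∑ j : Fin a, ∑ k : Fin a, C (e j k) * X (Sum.inl j) * X (Sum.inr k)
  have hF : ∀ {S : Type u} [CommRing S] (φ : R →+* S) (s : Fin a ⊕ Fin a → S),
      eval₂ φ s F = ∑ j : Fin a, ∑ k : Fin a, φ (e j k) * s (Sum.inl j) * s (Sum.inr k) := by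
    intro S _ φ s
    simp only [F, eval₂_sum, eval₂_mul, eval₂_C, eval₂_X]
  have key : ∀ (m : Ideal R) [m.IsMaximal], ∃ s : Fin a ⊕ Fin a → R ⧸ m,
      eval₂ (Ideal.Quotient.mk m) s F ≠ 0 := by
    intro m hm
    let _ : Field (R ⧸ m) := Ideal.Quotient.field m
    -- the rank of `M` at `m` is positive
    have hpos : 0 < Module.rankAtStalk M ⟨m, hm.isPrime⟩ := by
      rw [Module.rankAtStalk_pos_iff_mem_support, Module.support_eq_zeroLocus,
        Module.annihilator_eq_bot.mpr inferInstance]
      simp
    rw [← finrank_quotient_tensor_eq_rankAtStalk] at hpos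
    have hnt : Nontrivial ((R ⧸ m) ⊗[R] M) := Module.nontrivial_of_finrank_pos hpos
    obtain ⟨z, hz⟩ := exists_ne (0 : (R ⧸ m) ⊗[R] M)
    let Ba := Algebra.TensorProduct.basis (R ⧸ m) (Pi.basisFun R (Fin a))
    have hcomp : (π.baseChange (R ⧸ m)) ∘ₗ (i.baseChange (R ⧸ m)) = LinearMap.id := by
      rw [← LinearMap.baseChange_comp, hπi, LinearMap.baseChange_id]
    have hne : (i ∘ₗ π).baseChange (R ⧸ m) ≠ 0 := by
      intro h0
      apply hz
      have h1 : (π.baseChange (R ⧸ m)) ((i.baseChange (R ⧸ m)) z) = z :=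
        LinearMap.congr_fun hcomp z
      have h2 : (i.baseChange (R ⧸ m)) ((π.baseChange (R ⧸ m)) ((i.baseChange (R ⧸ m)) z)) = 0 := by
        have := LinearMap.congr_fun h0 ((i.baseChange (R ⧸ m)) z)
        rwa [LinearMap.baseChange_comp] at this
      rw [h1] at h2
      rw [← h1, h2, map_zero]
    have hmat : e.map (algebraMap R (R ⧸ m)) ≠ 0 := by
      intro h0
      apply hne
      apply (LinearMap.toMatrix Ba Ba).injective
      rw [LinearMap.toMatrix_baseChange, LinearMap.toMatrix_eq_toMatrix', map_zero]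
      exact h0
    obtain ⟨j₀, k₀, hjk⟩ : ∃ j₀ k₀, algebraMap R (R ⧸ m) (e j₀ k₀) ≠ 0 := by
      by_contra hcon
      push Not at hcon
      apply hmat
      ext j k
      simpa using hcon j k
    refine ⟨Sum.elim (Pi.single j₀ 1) (Pi.single k₀ 1), ?_⟩
    rw [hF]
    rw [Finset.sum_eq_single j₀, Finset.sum_eq_single k₀]
    · simpa using hjk
    · intro k _ hk
      simp [Pi.single_eq_of_ne hk]
    · intro h; exact absurd (Finset.mem_univ _) h
    · intro j _ hj
      simp [Pi.single_eq_of_ne hj]
    · intro h; exact absurd (Finset.mem_univ _) h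
  obtain ⟨s, hs⟩ := exists_isUnit_eval_of_finite hR F key
  change IsUnit (eval₂ (RingHom.id R) s F) at hs
  rw [hF] at hs
  simp only [RingHom.id_apply] at hs
  set w : Fin a → R := fun j => s (Sum.inl j) with hw
  set v : Fin a → R := fun k => s (Sum.inr k) with hv
  let wform : (Fin a → R) →ₗ[R] R := ∑ j : Fin a, w j • LinearMap.proj j
  have hwform : ∀ x : Fin a → R, wform x = ∑ j, w j * x j := by
    intro x
    simp [wform, LinearMap.sum_apply]
  refine ⟨π v, ((↑hs.unit⁻¹ : R) • wform) ∘ₗ i, ?_⟩
  have hiπ : i (π v) = e.mulVec v := by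
    have : Matrix.toLin' e = i ∘ₗ π := by
      rw [he, Matrix.toLin'_toMatrix']
    rw [← Matrix.toLin'_apply, this]
    rfl
  rw [LinearMap.comp_apply, LinearMap.smul_apply, hiπ, hwform]
  have : ∑ j, w j * e.mulVec v j = ∑ j : Fin a, ∑ k : Fin a, e j k * w j * v k := by
    apply Finset.sum_congr rfl
    intro j _
    rw [Matrix.mulVec, dotProduct, Finset.mul_sum]
    apply Finset.sum_congr rfl
    intro k _
    ring
  rw [this, smul_eq_mul]
  exact hs.val_inv_mul

end Groth.Agent.S16598
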