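import Mathlib
import Groth.Statements.S19589
-- import your own Groth.Agent.* helpers here

set_option autoImplicit false
universe u v
open Brauer

namespace Groth.Agent.S19589

open TensorProduct MulOpposite

section aux

variable {R : Type u} [CommRing R] {P : Type v} [AddCommGroup P] [Module R P]

/-- rank one endomorphism `y ↦ φ y • p` composition rule -/
lemma smulRight_mul_mul (φ ψ : P →ₗ[R] R) (p q : P) (x : Module.End R P) :
    (φ.smulRight p : Module.End R P) * x * (ψ.smulRight q : Module.End R P) =
      φ (x q) • (ψ.smulRight p : Module.End R P) := by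
  ext y
  simp only [Module.End.mul_apply, LinearMap.smulRight_apply, map_smul, LinearMap.smul_apply,
    smul_eq_mul]
  rw [smul_smul, smul_smul, mul_comm]

variable {n : ℕ} (e : Fin n → P) (ε : Fin n → (P →ₗ[R] R))

lemma sum_smulRight (hsum : ∀ y : P, ∑ i, ε i y • e i = y) (a : Module.End R P) :
    ∑ k, ((ε k).smulRight (a (e k)) : Module.End R P) = a := by
  ext y
  rw [LinearMap.sum_apply]
  simp only [LinearMap.smulRight_apply]
  conv_rhs => rw [← hsum y, map_sum]
  simp only [map_smul]

/-- the explicit inverse of `mulLeftRight` -/
noncomputable def Psi : Module.End R (Module.End R P) →ₗ[R]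
    (Module.End R P) ⊗[R] (Module.End R P)ᵐᵒᵖ :=
  ∑ i, ∑ k, ∑ l,
    ((TensorProduct.mk R (Module.End R P) (Module.End R P)ᵐᵒᵖ).flip
        (op ((ε l).smulRight (e i) : Module.End R P))) ∘ₗ
      (LinearMap.smulRightₗ (ε k) : P →ₗ[R] Module.End R P) ∘ₗ
      (LinearMap.applyₗ (e l) : Module.End R P →ₗ[R] P) ∘ₗ
      (LinearMap.applyₗ ((ε i).smulRight (e k) : Module.End R P) :
        Module.End R (Module.End R P) →ₗ[R] Module.End R P)

lemma Psi_apply (F : Module.End R (Module.End R P)) :
    Psi e ε F = ∑ i, ∑ k, ∑ l,
      ((ε k).smulRight (F ((ε i).smulRight (e k)) (e l)) : Module.End R P) ⊗ₜ[R]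
        op ((ε l).smulRight (e i) : Module.End R P) := by
  simp [Psi, LinearMap.sum_apply]

end aux


/-- Let R be a commutative ring and P a finitely generated projective R-module which is faithful. Then
End_R(P) is an Azumaya R-algebra. (The published statement is for a finite locally free sheaf E on a
scheme X and the sheaf of algebras End(E); this row is the case of affine X. Azumaya is taken in the
sense that includes faithfulness over R, which is why P is assumed faithful; the published notion
also admits rank zero.) -/
theorem result (R : Type u) [CommRing R]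
    (P : Type v) [AddCommGroup P] [Module R P] [Module.Finite R P] [Module.Projective R P]
    [FaithfulSMul R P] : IsAzumaya R (Module.End R P) := by
  classical
  obtain ⟨n, f, g, -, -, hfg⟩ := Module.Finite.exists_comp_eq_id_of_projective R P
  let e : Fin n → P := fun i => f (fun j => if i = j then 1 else 0)
  let ε : Fin n → (P →ₗ[R] R) := fun i => (LinearMap.proj i) ∘ₗ g
  have hsum : ∀ y : P, ∑ i, ε i y • e i = y := by
    intro y
    have h1 := LinearMap.pi_apply_eq_sum_univ f (g y)
    have h2 : f (g y) = y := LinearMap.congr_fun hfg y
    rw [h2] at h1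
    exact h1.symm
  have hI1 := sum_smulRight e ε hsum
  have hproj : Module.Projective R (Module.End R P) :=
    Module.Projective.of_equiv (dualTensorHomEquiv R P P)
  have hfin : Module.Finite R (Module.End R P) :=
    Module.Finite.equiv (dualTensorHomEquiv R P P)
  have hfaith : FaithfulSMul R (Module.End R P) := by
    refine ⟨fun {r1 r2} h => ?_⟩
    apply eq_of_smul_eq_smul (α := P)
    intro p
    have := LinearMap.congr_fun (h (1 : Module.End R P)) p
    simpa using this
  refine { toProjective := hproj, toFaithfulSMul := hfaith, toFinite := hfin, bij := ?_ }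
  constructor
  · -- injective: Psi is a left inverse
    have hleft : (Psi e ε) ∘ₗ (AlgHom.mulLeftRight R (Module.End R P)).toLinearMap =
        LinearMap.id := by
      apply TensorProduct.ext'
      intro a b'
      rw [LinearMap.comp_apply, LinearMap.id_apply, Psi_apply]
      have hF : ∀ (i k l : Fin n),
          ((ε k).smulRight ((AlgHom.mulLeftRight R (Module.End R P)).toLinearMap (a ⊗ₜ[R] b')
            ((ε i).smulRight (e k)) (e l)) : Module.End R P) =
          (ε i (b'.unop (e l))) • ((ε k).smulRight (a (e k)) : Module.End R P) := by
        intro i k l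
        ext y
        simp only [AlgHom.toLinearMap_apply, AlgHom.mulLeftRight_apply, Module.End.mul_apply,
          LinearMap.smulRight_apply, map_smul, LinearMap.smul_apply]
        rw [smul_comm]
      simp only [hF]
      -- sum over k
      have h1 : ∀ i l : Fin n, ∑ k, ((ε i (b'.unop (e l))) •
          ((ε k).smulRight (a (e k)) : Module.End R P)) ⊗ₜ[R]
            op ((ε l).smulRight (e i) : Module.End R P) =
          a ⊗ₜ[R] ((ε i (b'.unop (e l))) • op ((ε l).smulRight (e i) : Module.End R P)) := by
        intro i l
        rw [← TensorProduct.sum_tmul, ← Finset.smul_sum, hI1 a, TensorProduct.smul_tmul]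
      rw [Finset.sum_congr rfl (fun i _ => Finset.sum_comm)]
      simp only [h1]
      simp only [← TensorProduct.tmul_sum]
      congr 1
      apply MulOpposite.unop_injective
      simp only [Finset.unop_sum, MulOpposite.unop_smul, MulOpposite.unop_op]
      rw [Finset.sum_comm]
      have h2 : ∀ l : Fin n, ∑ i, (ε i (b'.unop (e l))) • ((ε l).smulRight (e i) : Module.End R P) =
          ((ε l).smulRight (b'.unop (e l)) : Module.End R P) := by
        intro l
        ext y
        rw [LinearMap.sum_apply]
        simp only [LinearMap.smul_apply, LinearMap.smulRight_apply]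
        conv_rhs => rw [← hsum (b'.unop (e l)), Finset.smul_sum]
        refine Finset.sum_congr rfl fun i _ => ?_
        rw [smul_comm]
      simp only [h2]
      exact hI1 b'.unop
    intro t t' h
    have := congrArg (Psi e ε) h
    have e1 := LinearMap.congr_fun hleft t
    have e2 := LinearMap.congr_fun hleft t'
    simp only [LinearMap.comp_apply, AlgHom.toLinearMap_apply, LinearMap.id_apply] at e1 e2
    rw [e1, e2] at this
    exact this
  · -- surjective
    intro F
    refine ⟨Psi e ε F, ?_⟩
    rw [Psi_apply]
    ext x y
    simp only [map_sum, LinearMap.sum_apply, AlgHom.mulLeftRight_apply, MulOpposite.unop_op]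
    simp only [smulRight_mul_mul]
    -- sum over l first
    have h1 : ∀ i k : Fin n, ∑ l, ((ε k (x (e i))) •
        ((ε l).smulRight (F ((ε i).smulRight (e k)) (e l)) : Module.End R P)) y =
        (ε k (x (e i))) • (F ((ε i).smulRight (e k)) y) := by
      intro i k
      rw [← LinearMap.sum_apply, ← Finset.smul_sum, hI1, LinearMap.smul_apply]
    simp only [h1]
    -- now use linearity of F
    have h2 : x = ∑ i, ∑ k, (ε k (x (e i))) • ((ε i).smulRight (e k) : Module.End R P) := by
      conv_lhs => rw [← hI1 x]
      refine Finset.sum_congr rfl fun i _ => ?_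
      ext y
      rw [LinearMap.sum_apply]
      simp only [LinearMap.smul_apply, LinearMap.smulRight_apply]
      conv_lhs => rw [← hsum (x (e i)), Finset.smul_sum]
      refine Finset.sum_congr rfl fun k _ => ?_
      rw [smul_comm]
    conv_rhs => rw [h2]
    simp only [map_sum, map_smul, LinearMap.sum_apply, LinearMap.smul_apply]

end Groth.Agent.S19589
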