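import Groth.Statements.S1905
import Groth.Agent.S6478
import Groth.Agent.S6479
import Groth.Agent.Lib.Helper23.CycD

set_option autoImplicit false
universe u
open CategoryTheory AlgebraicGeometry
open Cyc

namespace Groth.Agent.S1905

open Groth.Agent.Lib.Helper23.CycLib

section alg

variable {R : Type u} [CommRing R] {K : Type u} [Field K] [Algebra R K]

theorem cycOrdFrac_eq_log [IsNoetherianRing R] [Ring.KrullDimLE 1 R] [Nontrivial R]
    [IsFractionRing R K] (g : K) :
    CycAlg.ordFrac R K g = WithZero.log (Ring.ordFrac R g) := by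
  unfold CycAlg.ordFrac
  rw [dif_pos ⟨inferInstance, inferInstance, inferInstance, inferInstance⟩]
  rfl

theorem log_ordFrac_algebraMap [IsNoetherianRing R] [Ring.KrullDimLE 1 R] [Nontrivial R]
    [IsFractionRing R K] {a : R} (ha : a ≠ 0) :
    WithZero.log (Ring.ordFrac R (algebraMap R K a)) = ((Ring.ord R a).toNat : ℤ) := by
  haveI : IsDomain R := (IsFractionRing.injective R K).isDomain
  have ha' : a ∈ nonZeroDivisors R := mem_nonZeroDivisors_of_ne_zero ha
  obtain ⟨n, hn⟩ := ENat.ne_top_iff_exists.mp (Ring.ord_ne_top ha')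
  have hn' : (Ring.ord R a).toNat = n := by rw [← hn]; exact ENat.toNat_natCast n
  rw [hn', Ring.ordFrac_eq_ord R ha, Ring.ordMonoidWithZeroHom_eq_coe R ha' hn.symm]
  rfl

theorem log_of_mul [IsNoetherianRing R] [Ring.KrullDimLE 1 R] [Nontrivial R]
    [IsFractionRing R K] {g : K} {a c : R} (h : g * algebraMap R K c = algebraMap R K a)
    (ha : a ≠ 0) (hc : c ≠ 0) :
    CycAlg.ordFrac R K g = ((Ring.ord R a).toNat : ℤ) - ((Ring.ord R c).toNat : ℤ) := by
  rw [cycOrdFrac_eq_log]
  have hinj := IsFractionRing.injective R K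
  have hc' : algebraMap R K c ≠ 0 := fun h0 => hc (hinj (by rw [h0, map_zero]))
  have ha' : algebraMap R K a ≠ 0 := fun h0 => ha (hinj (by rw [h0, map_zero]))
  have hg : g ≠ 0 := by
    rintro rfl
    rw [zero_mul] at h
    exact ha' h.symm
  have h1 : Ring.ordFrac R g ≠ 0 := (map_ne_zero (Ring.ordFrac R (K := K))).mpr hg
  have h2 : Ring.ordFrac R (algebraMap R K c) ≠ 0 :=
    (map_ne_zero (Ring.ordFrac R (K := K))).mpr hc'
  have h3 : WithZero.log (Ring.ordFrac R (g * algebraMap R K c)) =
      WithZero.log (Ring.ordFrac R (algebraMap R K a)) := by rw [h]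
  rw [map_mul, WithZero.log_mul h1 h2, log_ordFrac_algebraMap hc, log_ordFrac_algebraMap ha] at h3
  omega

end alg

theorem injective_of_flat_local {A B : Type u} [CommRing A] [CommRing B] [IsLocalRing A]
    [IsLocalRing B] (φ : A →+* B) [IsLocalHom φ] (hφ : φ.Flat) : Function.Injective φ := by
  letI := φ.toAlgebra
  haveI : Module.Flat A B := hφ
  haveI : IsLocalHom (algebraMap A B) := ‹IsLocalHom φ›
  haveI : Module.FaithfullyFlat A B := Module.FaithfullyFlat.of_flat_of_isLocalHom
  exact FaithfulSMul.algebraMap_injective A B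

theorem ordFrac_flat_local {A B K L : Type u} [CommRing A] [CommRing B] [Field K] [Field L]
    [IsLocalRing A] [IsLocalRing B] [Algebra A K] [Algebra B L]
    [IsNoetherianRing A] [Ring.KrullDimLE 1 A] [IsFractionRing A K]
    [IsNoetherianRing B] [Ring.KrullDimLE 1 B] [IsFractionRing B L]
    (φ : A →+* B) [IsLocalHom φ] (hφ : φ.Flat) (ρ : K →+* L)
    (hρ : ∀ a, algebraMap B L (φ a) = ρ (algebraMap A K a)) (g : K) (hg : g ≠ 0) :
    CycAlg.ordFrac B L (ρ g) = CycAlg.ordFrac A K g *
      ((Module.length B (B ⧸ Ideal.map φ (IsLocalRing.maximalIdeal A))).toNat : ℤ) := by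
  haveI : IsDomain A := (IsFractionRing.injective A K).isDomain
  haveI : IsDomain B := (IsFractionRing.injective B L).isDomain
  have hφinj : Function.Injective φ := injective_of_flat_local φ hφ
  obtain ⟨a, c, hc, hac⟩ := IsFractionRing.div_surjective A g
  have hc0 : c ≠ 0 := nonZeroDivisors.ne_zero hc
  have hsc : algebraMap A K c ≠ 0 :=
    fun h => hc0 ((IsFractionRing.injective A K) (by rw [h, map_zero]))
  have ha0 : a ≠ 0 := by
    rintro rfl
    apply hg; rw [← hac, map_zero, zero_div]
  have hmulA : g * algebraMap A K c = algebraMap A K a := by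
    rw [← hac, div_mul_cancel₀ _ hsc]
  have hmulB : ρ g * algebraMap B L (φ c) = algebraMap B L (φ a) := by
    rw [hρ, hρ, ← map_mul, hmulA]
  have hφa : φ a ≠ 0 := fun h => ha0 (hφinj (by rw [h, map_zero]))
  have hφc : φ c ≠ 0 := fun h => hc0 (hφinj (by rw [h, map_zero]))
  rw [log_of_mul hmulA ha0 hc0, log_of_mul hmulB hφa hφc]
  have key : ∀ x : A, Ring.ord B (φ x) = Ring.ord A x *
      Module.length B (B ⧸ Ideal.map φ (IsLocalRing.maximalIdeal A)) := by
    intro x
    have := Groth.Agent.S6479.length_formula φ hφ (Ideal.span {x})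
    rw [Ideal.map_span, Set.image_singleton] at this
    exact this
  rw [key a, key c, ENat.toNat_mul, ENat.toNat_mul]
  push_cast
  ring

section geom

theorem specMap_stalkMap {X Y : Scheme.{u}} (f : X ⟶ Y) (x ξ : X) (h : ξ ⤳ x)
    (a : Y.presheaf.stalk (f x)) :
    Cyc.specMap x ξ h ((f.stalkMap x).hom a) =
      (f.residueFieldMap ξ).hom
        (Cyc.specMap (f x) (f ξ) (f.base.hom.map_specializes h) a) := by
  have h1 := Scheme.Hom.stalkSpecializes_stalkMap f ξ x h
  have h2 := Scheme.residue_residueFieldMap f ξ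
  have key : f.stalkMap x ≫ X.presheaf.stalkSpecializes h ≫ X.residue ξ =
      Y.presheaf.stalkSpecializes (f.base.hom.map_specializes h) ≫ Y.residue (f ξ) ≫
        f.residueFieldMap ξ := by
    rw [← Category.assoc, ← h1, Category.assoc, ← h2]
  exact congrArg (fun m => m.hom a) key

theorem specMap_injective_generic (X : Scheme.{u}) [IsIntegral X] (x : X)
    (h : genericPoint X ⤳ x) : Function.Injective (Cyc.specMap x (genericPoint X) h) := by
  have h1 : Function.Injective (X.presheaf.stalkSpecializes h).hom :=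
    IsFractionRing.injective (X.presheaf.stalk x) X.functionField
  have h2 : Function.Injective (X.residue (genericPoint X)).hom := by
    letI : Field (X.presheaf.stalk (genericPoint X)) := inferInstanceAs (Field X.functionField)
    exact RingHom.injective _
  unfold Cyc.specMap
  rw [CommRingCat.hom_comp, RingHom.coe_comp]
  exact h2.comp h1

theorem ordAt_eq_ordFrac_stalk {X : Scheme.{u}} (x ξ : X) (h : ξ ⤳ x)
    (hinj : Function.Injective (Cyc.specMap x ξ h)) (G : X.residueField ξ) :
    Cyc.ordAt x ξ h G =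
      @CycAlg.ordFrac (X.presheaf.stalk x) _ (X.residueField ξ) _
        (Cyc.specMap x ξ h).toAlgebra G := by
  letI : Algebra (X.presheaf.stalk x) (X.residueField ξ) := (Cyc.specMap x ξ h).toAlgebra
  have hker : RingHom.ker (Cyc.specMap x ξ h) = ⊥ :=
    (RingHom.injective_iff_ker_eq_bot _).mp hinj
  let e : Cyc.LocQuot x ξ h ≃+* X.presheaf.stalk x :=
    (Ideal.quotEquivOfEq hker).trans (RingEquiv.quotientBot _)
  unfold Cyc.ordAt
  refine ordFrac_congr e (RingEquiv.refl _) ?_ G
  intro r
  obtain ⟨r, rfl⟩ := Ideal.Quotient.mk_surjective r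
  rfl

theorem isFractionRing_specMap {X : Scheme.{u}} (x ξ : X) (h : ξ ⤳ x)
    (hinj : Function.Injective (Cyc.specMap x ξ h)) :
    @IsFractionRing (X.presheaf.stalk x) _ (X.residueField ξ) _
      (Cyc.specMap x ξ h).toAlgebra := by
  letI : Algebra (X.presheaf.stalk x) (X.residueField ξ) := (Cyc.specMap x ξ h).toAlgebra
  haveI : FaithfulSMul (X.presheaf.stalk x) (X.residueField ξ) :=
    (faithfulSMul_iff_algebraMap_injective _ _).mpr hinj
  refine IsFractionRing.of_field _ _ (fun z => ?_)
  obtain ⟨s, rfl⟩ := X.residue_surjective ξ z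
  obtain ⟨V, hV, hxV, -⟩ := exists_isAffineOpen_mem_and_subset (x := x) (U := ⊤) trivial
  have hξV : ξ ∈ V := h.mem_open V.2 hxV
  obtain ⟨a, b, hb, hab⟩ := exists_germ_frac V hV ξ hξV s
  refine ⟨X.presheaf.germ V x hxV a, X.presheaf.germ V x hxV b, ?_⟩
  have e1 : algebraMap (X.presheaf.stalk x) (X.residueField ξ) (X.presheaf.germ V x hxV a) =
      X.residue ξ (X.presheaf.germ V ξ hξV a) :=
    Groth.Agent.Lib.Helper23.CycLib.specMap_germ x ξ h V hxV a
  have e2 : algebraMap (X.presheaf.stalk x) (X.residueField ξ) (X.presheaf.germ V x hxV b) =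
      X.residue ξ (X.presheaf.germ V ξ hξV b) :=
    Groth.Agent.Lib.Helper23.CycLib.specMap_germ x ξ h V hxV b
  rw [e1, e2, eq_div_iff ((hb.map (X.residue ξ).hom).ne_zero)]
  have := congrArg (X.residue ξ).hom hab
  rw [map_mul] at this
  exact this

theorem krullDimLE_one_of_immediate {X : Scheme.{u}} (x η : X) (hη : ∀ z : X, η ⤳ z)
    (himm : ∀ z : X, z ⤳ x → z = η ∨ z = x) : Ring.KrullDimLE 1 (X.presheaf.stalk x) := by
  apply krullDimLE_of_coheight_le (n := 1)
  rw [Order.coheight_le_coe_iff]
  intro y hy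
  have hyx : y ⤳ x := hy.le
  rcases himm y hyx with h | h
  · subst h
    have h0 : Order.coheight y = 0 := by
      rw [Order.coheight_eq_zero]
      intro z _
      exact hη z
    rw [h0]
    norm_num
  · exact absurd h hy.ne'

theorem main_formula {X Y : Scheme.{u}} [IsLocallyNoetherian X] [IsLocallyNoetherian Y]
    (f : X ⟶ Y) [Flat f] (x η : X) (hx : η ⤳ x)
    (hsX : Function.Injective (Cyc.specMap x η hx))
    (hηX : ∀ z : X, η ⤳ z) (hηY : ∀ z : Y, f η ⤳ z)
    (himmX : ∀ z : X, z ⤳ x → z = η ∨ z = x)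
    (himmY : ∀ z : Y, z ⤳ f x → z = f η ∨ z = f x)
    (g : Y.residueField (f η)) (hg : g ≠ 0) :
    Cyc.ordAt x η hx ((f.residueFieldMap η).hom g) =
      Cyc.ordAt (f x) (f η) (f.base.hom.map_specializes hx) g *
        ((Module.length (X.presheaf.stalk x) (X.presheaf.stalk x ⧸
          Ideal.map (f.stalkMap x).hom
            (IsLocalRing.maximalIdeal (Y.presheaf.stalk (f x))))).toNat : ℤ) := by
  have hy : f η ⤳ f x := f.base.hom.map_specializes hx
  have hφ : (f.stalkMap x).hom.Flat := Flat.stalkMap f x
  have hφinj : Function.Injective (f.stalkMap x).hom := injective_of_flat_local _ hφ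
  have hcomp : ∀ a, Cyc.specMap x η hx ((f.stalkMap x).hom a) =
      (f.residueFieldMap η).hom (Cyc.specMap (f x) (f η) hy a) :=
    fun a => specMap_stalkMap f x η hx a
  have hsY : Function.Injective (Cyc.specMap (f x) (f η) hy) := by
    intro a b hab
    apply hφinj
    apply hsX
    rw [hcomp, hcomp, hab]
  have e1 := ordAt_eq_ordFrac_stalk x η hx hsX ((f.residueFieldMap η).hom g)
  have e2 := ordAt_eq_ordFrac_stalk (f x) (f η) hy hsY g
  rw [e1, e2]
  letI algX : Algebra (X.presheaf.stalk x) (X.residueField η) := (Cyc.specMap x η hx).toAlgebra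
  letI algY : Algebra (Y.presheaf.stalk (f x)) (Y.residueField (f η)) :=
    (Cyc.specMap (f x) (f η) hy).toAlgebra
  haveI : IsFractionRing (X.presheaf.stalk x) (X.residueField η) :=
    isFractionRing_specMap x η hx hsX
  haveI : IsFractionRing (Y.presheaf.stalk (f x)) (Y.residueField (f η)) :=
    isFractionRing_specMap (f x) (f η) hy hsY
  haveI : Ring.KrullDimLE 1 (X.presheaf.stalk x) := krullDimLE_one_of_immediate x η hηX himmX
  haveI : Ring.KrullDimLE 1 (Y.presheaf.stalk (f x)) :=
    krullDimLE_one_of_immediate (f x) (f η) hηY himmY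
  exact ordFrac_flat_local (f.stalkMap x).hom hφ (f.residueFieldMap η).hom
    (fun a => hcomp a) g hg

theorem ordAt_self {X : Scheme.{u}} (ξ : X) (h : ξ ⤳ ξ) (g : X.residueField ξ) (hg : g ≠ 0) :
    Cyc.ordAt ξ ξ h g = 0 := by
  obtain ⟨t, rfl⟩ := X.residue_surjective ξ g
  have ht : IsUnit t := by
    by_contra hnu
    apply hg
    exact (IsLocalRing.residue_eq_zero_iff t).mpr ((IsLocalRing.mem_maximalIdeal t).mpr hnu)
  have hstalk : X.presheaf.stalkSpecializes h = 𝟙 _ := X.presheaf.stalkSpecializes_refl ξ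
  have hsp : Cyc.specMap ξ ξ h t = X.residue ξ t := by
    unfold Cyc.specMap
    rw [hstalk, Category.id_comp]
  have := ordFrac_algebraMap_unit (R := Cyc.LocQuot ξ ξ h) (K := X.residueField ξ)
    (Ideal.Quotient.mk _ t) (ht.map _)
  rw [algebraMap_locQuot_mk, hsp] at this
  unfold Cyc.ordAt
  exact this

theorem ordAt_eq_zero_of_eq {Y : Scheme.{u}} (y ξ : Y) (h : ξ ⤳ y) (hyξ : y = ξ)
    (g : Y.residueField ξ) (hg : g ≠ 0) : Cyc.ordAt y ξ h g = 0 := by
  subst hyξ
  exact ordAt_self y h g hg

end geom


/-- Let f : X → Y be a flat morphism, locally of finite type, of relative dimension r between integral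
schemes, and g a nonzero rational function on Y, taken in the residue field at f(η_X) (the generic
point of Y). Then f^*(div_Y g) = div_X(g ∘ f) coefficientwise, where g ∘ f is the image of g in
κ(η_X). A pair (X, δ) with Cyc.IsSetup plays the role of a scheme locally of finite type over a
fixed base with a dimension function (X locally Noetherian with universally catenary local rings, δ
a dimension function), and Cyc.DeltaCompat records that the dimension function upstairs is the
induced one. -/
theorem result (X Y : Scheme.{u}) [IsIntegral X] [IsIntegral Y] (δX : X → ℤ) (δY : Y → ℤ) (hX : Cyc.IsSetup X δX) (hY : Cyc.IsSetup Y δY) (f : X ⟶ Y) [Flat f] [LocallyOfFiniteType f] (r : ℕ) (hr : Cyc.HasRelDim f r) (hδ : Cyc.DeltaCompat f δX δY) (g : Y.residueField (f (genericPoint X))) (hg : g ≠ 0) : Cyc.pullFun f δX δY r (Cyc.divFun δY (f (genericPoint X)) g) = Cyc.divFun δX (genericPoint X) (f.residueFieldMap (genericPoint X) g) := by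
  obtain ⟨hLNX, -, hdimX⟩ := hX
  obtain ⟨hLNY, -, hdimY⟩ := hY
  haveI := hLNX
  haveI := hLNY
  have hgenY : f (genericPoint X) = genericPoint Y := by
    obtain ⟨x', hx'1, hx'2⟩ :=
      (Flat.generalizingMap f) (genericPoint_specializes (f (genericPoint X)))
    have hx'3 : x' = genericPoint X := (hx'1.antisymm (genericPoint_specializes x')).eq
    subst hx'3
    exact hx'2
  have hηY : ∀ z : Y, f (genericPoint X) ⤳ z := by
    intro z
    rw [hgenY]
    exact genericPoint_specializes z
  have hshiftAll : ∀ z : X, (∀ y, f y = f z → y ⤳ z → y = z) → δX z = δY (f z) + (r : ℤ) :=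
    fun z hz => Groth.Agent.S6478.shift_of_genF X Y δX δY f r hr hδ z hz
  have hshift : δX (genericPoint X) = δY (f (genericPoint X)) + (r : ℤ) :=
    hshiftAll (genericPoint X) (fun z _ hz => (hz.antisymm (genericPoint_specializes z)).eq)
  have hg' : (f.residueFieldMap (genericPoint X)).hom g ≠ 0 := by
    intro h0
    apply hg
    exact (f.residueFieldMap (genericPoint X)).hom.injective (by rw [h0, map_zero])
  funext x
  have hx : genericPoint X ⤳ x := genericPoint_specializes x
  have hy : f (genericPoint X) ⤳ f x := f.base.hom.map_specializes hx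
  have hsX := specMap_injective_generic X x hx
  have hle : δX x ≤ δY (f x) + (r : ℤ) :=
    (Groth.Agent.S6479.delta_le_and f x δX δY hdimX (r : ℤ) hshiftAll).1
  simp only [Cyc.pullFun, Cyc.divFun]
  by_cases hA : δX x = δY (f x) + (r : ℤ)
  · rw [if_pos hA]
    by_cases hB : δY (f x) + 1 = δY (f (genericPoint X))
    · have hC : δX x + 1 = δX (genericPoint X) := by omega
      have hcY : f (genericPoint X) ⤳ f x ∧ δY (f x) + 1 = δY (f (genericPoint X)) := ⟨hy, hB⟩
      have hcX : genericPoint X ⤳ x ∧ δX x + 1 = δX (genericPoint X) := ⟨hx, hC⟩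
      rw [dif_pos hcY, dif_pos hcX]
      have himmX : ∀ z : X, z ⤳ x → z = genericPoint X ∨ z = x :=
        fun z hz => immediate_of_delta hdimX hC z (genericPoint_specializes z) hz
      have himmY : ∀ z : Y, z ⤳ f x → z = f (genericPoint X) ∨ z = f x :=
        fun z hz => immediate_of_delta hdimY hB z (hηY z) hz
      exact (main_formula f x (genericPoint X) hx hsX (fun z => genericPoint_specializes z)
        hηY himmX himmY g hg).symm
    · have hC : ¬ (δX x + 1 = δX (genericPoint X)) := by omega
      rw [dif_neg (fun h => hB h.2), dif_neg (fun h => hC h.2), zero_mul]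
  · rw [if_neg hA]
    by_cases hC : δX x + 1 = δX (genericPoint X)
    · have hcX : genericPoint X ⤳ x ∧ δX x + 1 = δX (genericPoint X) := ⟨hx, hC⟩
      rw [dif_pos hcX]
      have hfx : f x = f (genericPoint X) := by
        by_contra hne
        have := (hdimY (f (genericPoint X)) (f x) hy (fun h => hne h.symm)).1
        omega
      have himmX : ∀ z : X, z ⤳ x → z = genericPoint X ∨ z = x :=
        fun z hz => immediate_of_delta hdimX hC z (genericPoint_specializes z) hz
      have himmY : ∀ z : Y, z ⤳ f x → z = f (genericPoint X) ∨ z = f x := by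
        intro z hz
        left
        have hz' : z ⤳ f (genericPoint X) := by rw [← hfx]; exact hz
        exact (hz'.antisymm (hηY z)).eq
      have hmain := main_formula f x (genericPoint X) hx hsX
        (fun z => genericPoint_specializes z) hηY himmX himmY g hg
      have hzero := ordAt_eq_zero_of_eq (f x) (f (genericPoint X))
        (f.base.hom.map_specializes hx) hfx g hg
      rw [hzero, zero_mul] at hmain
      exact hmain.symm
    · rw [dif_neg (fun h => hC h.2)]

end Groth.Agent.S1905
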