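import Groth.Statements.S6482


set_option autoImplicit false
universe u
open CategoryTheory AlgebraicGeometry
open CategoryTheory.Limits
open Cyc

namespace Groth.Agent.S6482

theorem residueDegree_eq_one {X Y : Scheme.{u}} (f : Y ⟶ X) (y : Y)
    (h : Function.Surjective (f.residueFieldMap y).hom) : f.residueDegree y = 1 := by
  letI := (f.residueFieldMap y).hom.toAlgebra
  show Module.finrank (X.residueField (f y)) (Y.residueField y) = 1
  rw [finrank_eq_one_iff_of_nonzero' (1 : Y.residueField y) one_ne_zero]
  intro w
  obtain ⟨c, hc⟩ := h w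
  refine ⟨c, ?_⟩
  rw [Algebra.smul_def, mul_one]
  exact hc

theorem delta_eq_of_surjective {X Y : Scheme.{u}} (f : Y ⟶ X) (δY : Y → ℤ) (δ : X → ℤ)
    (hδ : Cyc.DeltaCompat f δY δ) (y : Y)
    (h : Function.Surjective (f.residueFieldMap y).hom) : δY y = δ (f y) := by
  obtain ⟨n, hn, hδn⟩ := hδ y
  letI alg : Algebra (X.residueField (f y)) (Y.residueField y) := (f.residueFieldMap y).hom.toAlgebra
  have hsurj : Function.Surjective (algebraMap (X.residueField (f y)) (Y.residueField y)) := h
  haveI : Algebra.IsAlgebraic (X.residueField (f y)) (Y.residueField y) :=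
    ⟨fun w => by obtain ⟨z, rfl⟩ := hsurj w; exact isAlgebraic_algebraMap z⟩
  have h0 : Algebra.trdeg (X.residueField (f y)) (Y.residueField y) = 0 := trdeg_eq_zero
  have hn' : ((n : ℕ) : Cardinal) = 0 := by rw [← hn]; exact h0
  have hn0 : n = 0 := by exact_mod_cast hn'
  rw [hδn, hn0]; simp

/-- Let f : Y → X be an envelope. Then f_* : Z_k(Y) → Z_k(X) is surjective, hence so is f_* : CH_k(Y) →
CH_k(X). An envelope is a proper, completely decomposed morphism (every point of the target has a
point over it with trivial residue field extension; this prelude's Cyc.IsCompletelyDecomposed). Here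
a pair (X, δ) with Cyc.IsSetup plays the role of a scheme locally of finite type over the base (S,
δ) (X locally Noetherian with universally catenary local rings, δ a dimension function), and
Cyc.DeltaCompat records that the dimension function upstairs is the induced one. -/
theorem result (X Y : Scheme.{u}) (δ : X → ℤ) (δY : Y → ℤ) (hX : Cyc.IsSetup X δ) (hY : Cyc.IsSetup Y δY) (f : Y ⟶ X) [IsProper f] (hcd : Cyc.IsCompletelyDecomposed f) (hδ : Cyc.DeltaCompat f δY δ) (k : ℤ) (α : AlgebraicCycle X ℤ) (hα : α ∈ Cyc.Zk X δ k) : ∃ β : AlgebraicCycle Y ℤ, β ∈ Cyc.Zk Y δY k ∧ AlgebraicCycle.map f δY δ β = α := by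
  classical
  choose s hs1 hs2 using hcd
  let g : Y → ℤ := fun y => if y = s (f y) then α (f y) else 0
  have hg_pos : ∀ y, y = s (f y) → g y = α (f y) := fun y h => if_pos h
  have hg_neg : ∀ y, ¬ y = s (f y) → g y = 0 := fun y h => if_neg h
  let β : AlgebraicCycle Y ℤ :=
    { toFun := g
      supportWithinDomain' := Set.subset_univ _
      supportLocallyFiniteWithinDomain' := fun y _ => by
        obtain ⟨t, ht, hfin⟩ := α.supportLocallyFiniteWithinDomain' (f y) (Set.mem_univ _)
        refine ⟨f ⁻¹' t, f.continuous.continuousAt.preimage_mem_nhds ht, ?_⟩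
        refine (hfin.image s).subset ?_
        rintro z ⟨hz1, hz2⟩
        have hz : z = s (f z) := by
          by_contra h
          exact hz2 (hg_neg z h)
        refine ⟨f z, ⟨hz1, ?_⟩, hz.symm⟩
        intro h0
        apply hz2
        show g z = 0
        rw [hg_pos z hz]; exact h0 }
  have hβ : ∀ y, β y = g y := fun y => rfl
  refine ⟨β, ?_, ?_⟩
  · intro y hy
    rw [hβ]
    by_cases h : y = s (f y)
    · rw [hg_pos y h]
      apply hα
      have hsur : Function.Surjective (f.residueFieldMap y).hom := by
        rw [h]; exact hs2 (f y)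
      rw [← delta_eq_of_surjective f δY δ hδ y hsur]
      exact hy
    · exact hg_neg y h
  · ext x
    simp only [AlgebraicCycle.map, Function.locallyFinsupp.map_apply]
    rw [finsum_mem_def, finsum_eq_single _ (s x)]
    · rw [Set.indicator_of_mem (show s x ∈ f ⁻¹' {x} from hs1 x)]
      rw [hβ, hg_pos (s x) (by rw [hs1 x]), hs1 x]
      have hc : AlgebraicCycle.mapCoeff f δY δ (s x) = 1 := by
        unfold AlgebraicCycle.mapCoeff
        rw [if_pos (delta_eq_of_surjective f δY δ hδ (s x) (hs2 x))]
        exact residueDegree_eq_one f (s x) (hs2 x)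
      rw [hc]; simp
    · intro y hy
      by_cases hm : y ∈ f ⁻¹' {x}
      · rw [Set.indicator_of_mem hm]
        have hfy : f y = x := hm
        have : β y = 0 := by
          rw [hβ]
          apply hg_neg
          rw [hfy]; exact hy
        rw [this, zero_mul]
      · exact Set.indicator_of_notMem hm _

end Groth.Agent.S6482
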