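import Groth.Statements.S1940
import Groth.Agent.S6478
import Groth.Agent.Lib.Lead.CycPullGeo

set_option autoImplicit false
universe u
open CategoryTheory AlgebraicGeometry
open Cyc

namespace Groth.Agent.S1940

open Groth.Agent.Lib.Lead.CycPull
open Groth.Agent.Lib.Helper23.CycLib
open TopologicalSpace

section aux

theorem finsum_sigma' {ι : Type*} {S : ι → Type*} {M : Type*} [AddCommMonoid M]
    (F : (Σ i, S i) → M) (hF : (Function.support F).Finite) :
    ∑ᶠ j, F j = ∑ᶠ i, ∑ᶠ s, F ⟨i, s⟩ := by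
  classical
  have hmem : ∀ j, F j ≠ 0 → j ∈ hF.toFinset := fun j hj => hF.mem_toFinset.mpr hj
  let I : Finset ι := hF.toFinset.image Sigma.fst
  let t : ∀ i, Finset (S i) := fun i => hF.toFinset.preimage (Sigma.mk i) sigma_mk_injective.injOn
  have h1 : Function.support F ⊆ ((I.sigma t : Finset (Σ i, S i)) : Set (Σ i, S i)) := by
    rintro ⟨i, a⟩ hj
    have h := hmem _ hj
    exact Finset.mem_coe.mpr (Finset.mem_sigma.mpr
      ⟨Finset.mem_image.mpr ⟨⟨i, a⟩, h, rfl⟩, Finset.mem_preimage.mpr h⟩)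
  rw [finsum_eq_sum_of_support_subset F h1, Finset.sum_sigma]
  have h2 : Function.support (fun i => ∑ᶠ a, F ⟨i, a⟩) ⊆ (I : Set ι) := by
    intro i hi
    by_contra hcon
    apply hi
    show ∑ᶠ a, F ⟨i, a⟩ = 0
    apply finsum_eq_zero_of_forall_eq_zero
    intro a
    by_contra hne
    exact hcon (Finset.mem_coe.mpr (Finset.mem_image.mpr ⟨⟨i, a⟩, hmem _ hne, rfl⟩))
  rw [finsum_eq_sum_of_support_subset _ h2]
  refine Finset.sum_congr rfl (fun i _ => ?_)
  symm
  apply finsum_eq_sum_of_support_subset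
  intro a ha
  exact Finset.mem_coe.mpr (Finset.mem_preimage.mpr (hmem _ ha))

theorem ordFrac_pow {R : Type u} [CommRing R] {K : Type u} [Field K] [Algebra R K] (g : K)
    (m : ℕ) : CycAlg.ordFrac R K (g ^ m) = (m : ℤ) * CycAlg.ordFrac R K g := by
  classical
  by_cases h : IsNoetherianRing R ∧ Ring.KrullDimLE 1 R ∧ Nontrivial R ∧ IsFractionRing R K
  · obtain ⟨h1, h2, h3, h4⟩ := h
    have := h1
    have := h2
    have := h3
    have := h4
    rw [Groth.Agent.S1905.cycOrdFrac_eq_log, Groth.Agent.S1905.cycOrdFrac_eq_log, map_pow,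
      WithZero.log_pow, nsmul_eq_mul]
  · unfold CycAlg.ordFrac
    rw [dif_neg h, dif_neg h, mul_zero]

theorem ordAt_pow {X : Scheme.{u}} (x ξ : X) (h : ξ ⤳ x) (G : X.residueField ξ) (m : ℕ) :
    Cyc.ordAt x ξ h (G ^ m) = (m : ℤ) * Cyc.ordAt x ξ h G :=
  ordFrac_pow G m

theorem finite_genF_in_open {X X' : Scheme.{u}} (p : X' ⟶ X) (W : X'.Opens)
    [NoetherianSpace {x : X' // x ∈ W}] (ξ : X) :
    {ξ' : X' | ξ' ∈ W ∧ p ξ' = ξ ∧ ∀ y, p y = p ξ' → y ⤳ ξ' → y = ξ'}.Finite := by
  classical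
  haveI : QuasiSober {x : X' // x ∈ W} := W.2.isOpenEmbedding_subtypeVal.quasiSober
  let T : Set {x : X' // x ∈ W} := {w | p w.1 = ξ}
  obtain ⟨S, hSfin, hScl, hSirr, hSeq⟩ :=
    NoetherianSpace.exists_finite_set_isClosed_irreducible (isClosed_closure (s := T))
  have hfin : (⋃ Z ∈ S,
      (Subtype.val '' {η : {x : X' // x ∈ W} | IsGenericPoint η Z})).Finite := by
    refine Set.Finite.biUnion hSfin (fun Z _ => Set.Finite.image _ ?_)
    apply Set.Subsingleton.finite
    intro a ha b hb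
    exact IsGenericPoint.eq ha hb
  refine hfin.subset ?_
  rintro ξ' ⟨hW, hpξ', hgen⟩
  have hmem : (⟨ξ', hW⟩ : {x : X' // x ∈ W}) ∈ closure T := subset_closure hpξ'
  rw [hSeq] at hmem
  obtain ⟨Z, hZ, hξ'Z⟩ := hmem
  obtain ⟨η, hη⟩ := QuasiSober.sober (hSirr Z hZ) (hScl Z hZ)
  have hspec : η ⤳ (⟨ξ', hW⟩ : {x : X' // x ∈ W}) := hη.specializes hξ'Z
  have hspec' : η.1 ⤳ ξ' := hspec.map continuous_subtype_val
  have h1 : p η.1 ⤳ ξ := by
    rw [← hpξ']
    exact p.base.hom.map_specializes hspec'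
  have h2 : ξ ⤳ p η.1 := by
    have hηcl : η ∈ closure T := by
      rw [hSeq]
      exact ⟨Z, hZ, hη.mem⟩
    have hcont : Continuous (fun w : {x : X' // x ∈ W} => p w.1) :=
      p.continuous.comp continuous_subtype_val
    have h3 : p η.1 ∈ closure ({ξ} : Set X) :=
      map_mem_closure (f := fun w : {x : X' // x ∈ W} => p w.1) hcont hηcl (fun w hw => hw)
    exact specializes_iff_mem_closure.mpr h3
  have h3 : p η.1 = ξ := (h1.antisymm h2).eq
  have h4 : η.1 = ξ' := hgen η.1 (by rw [h3, hpξ']) hspec'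
  exact Set.mem_biUnion hZ ⟨η, hη, h4⟩

variable {X X' : Scheme.{u}} (p : X' ⟶ X) {ι : Type u} (ξ : ι → X)
  (f : (i : ι) → X.residueField (ξ i))

/-- the generic points of the fibre over `ξ i`. -/
def SIdx (i : ι) : Type u :=
  {ξ' : X' // p ξ' = ξ i ∧ ∀ y, p y = p ξ' → y ⤳ ξ' → y = ξ'}

/-- the multiplicity of the fibre at a point, as a natural number. -/
noncomputable def multN (x' : X') : ℕ :=
  (Module.length (X'.presheaf.stalk x') (X'.presheaf.stalk x' ⧸
    Ideal.map (p.stalkMap x').hom (IsLocalRing.maximalIdeal (X.presheaf.stalk (p x'))))).toNat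

/-- the pulled back function at a generic point of the fibre. -/
noncomputable def pbase (j : Σ i, SIdx p ξ i) : X'.residueField j.2.1 :=
  (p.residueFieldMap j.2.1).hom ((X.residueFieldCongr j.2.2.1.symm).hom (f j.1))

/-- its power by the multiplicity of the fibre. -/
noncomputable def pfn (j : Σ i, SIdx p ξ i) : X'.residueField j.2.1 :=
  pbase p ξ f j ^ multN p j.2.1

theorem pbase_ne_zero (hf : ∀ i, f i ≠ 0) (j : Σ i, SIdx p ξ i) : pbase p ξ f j ≠ 0 := by
  unfold pbase
  exact (map_ne_zero (p.residueFieldMap j.2.1).hom).mpr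
    (residueFieldCongr_ne_zero _ _ (hf j.1))

theorem divFun_pfn_pos (δ' : X' → ℤ) (j : Σ i, SIdx p ξ i) (x' : X') (h1 : j.2.1 ⤳ x')
    (h2 : δ' x' + 1 = δ' j.2.1) :
    Cyc.divFun δ' j.2.1 (pfn p ξ f j) x' =
      (multN p j.2.1 : ℤ) * Cyc.ordAt x' j.2.1 h1 (pbase p ξ f j) := by
  have h : j.2.1 ⤳ x' ∧ δ' x' + 1 = δ' j.2.1 := ⟨h1, h2⟩
  have hD : Cyc.divFun δ' j.2.1 (pfn p ξ f j) x' = Cyc.ordAt x' j.2.1 h1 (pfn p ξ f j) :=
    dif_pos h
  rw [hD]
  exact ordAt_pow x' j.2.1 h1 (pbase p ξ f j) (multN p j.2.1)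

theorem divFun_pfn_neg (δ' : X' → ℤ) (j : Σ i, SIdx p ξ i) (x' : X')
    (h : ¬ (j.2.1 ⤳ x' ∧ δ' x' + 1 = δ' j.2.1)) :
    Cyc.divFun δ' j.2.1 (pfn p ξ f j) x' = 0 :=
  dif_neg h

end aux

/-- Base change of cycles preserves rational equivalence to zero. Setting (flat base change rendered
base-free): p : X' → X is a flat morphism (not necessarily of finite type), (X, δ) and (X', δ') are
schemes with dimension functions in the sense of Cyc.IsSetup (locally Noetherian with universally
catenary local rings, δ a dimension function), and c is an integer such that δ'(x') = δ(p x') + c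
whenever x' is a generic point of an irreducible component of its fibre; g^* : Z_k(X) → Z_{k+c}(X')
denotes the coefficientwise flat pullback Cyc.pullFun p δ' δ c. Statement: if a k-cycle α on X is
rationally equivalent to zero, then any cycle α' on X' whose coefficients are those of g^*α is
rationally equivalent to zero as a (k + c)-cycle on X'. (A pair (X, δ) with Cyc.IsSetup plays the
role of a scheme locally of finite type over a base carrying a dimension function, and the
hypothesis on δ' records that the dimension function upstairs is the induced one.) -/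
theorem result (X X' : Scheme.{u}) (δ : X → ℤ) (δ' : X' → ℤ) (hX : Cyc.IsSetup X δ) (hX' : Cyc.IsSetup X' δ') (p : X' ⟶ X) [Flat p] (c : ℤ) (hc : ∀ x' : X', (∀ y, p y = p x' → y ⤳ x' → y = x') → δ' x' = δ (p x') + c) (k : ℤ) (α : AlgebraicCycle X ℤ) (hα : α ∈ Cyc.Zk X δ k) (h0 : Cyc.RatEquivZero δ k α) (α' : AlgebraicCycle X' ℤ) (hα' : ⇑α' = Cyc.pullFun p δ' δ c ⇑α) : Cyc.RatEquivZero δ' (k + c) α' := by
  classical
  obtain ⟨hLNX, -, hdimX⟩ := hX
  obtain ⟨hLNX', -, hdimX'⟩ := hX'
  haveI := hLNX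
  haveI := hLNX'
  obtain ⟨ι, ξ, f, hδξ, hf, hlf, hsum⟩ := h0
  have key : ∀ x' : X', ∃ W : X'.Opens, x' ∈ W ∧
      {j : Σ i, SIdx p ξ i | j.2.1 ∈ W}.Finite := by
    intro x'
    obtain ⟨U₀, hU₀, hxU₀, hF₀⟩ := hlf (p x')
    obtain ⟨W, hW, hxW, hWsub⟩ := exists_isAffineOpen_mem_and_subset (x := x')
      (U := p ⁻¹ᵁ ⟨U₀, hU₀⟩) hxU₀
    refine ⟨W, hxW, ?_⟩
    haveI : IsNoetherianRing Γ(X', W) := IsLocallyNoetherian.component_noetherian ⟨W, hW⟩
    haveI : NoetherianSpace {x : X' // x ∈ W} := noetherianSpace_of_isAffineOpen W hW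
    have hB : (⋃ i ∈ {i | (closure {ξ i} ∩ U₀).Nonempty},
        (Prod.mk i '' {ξ' : X' | ξ' ∈ W ∧ p ξ' = ξ i ∧
          ∀ y, p y = p ξ' → y ⤳ ξ' → y = ξ'})).Finite :=
      Set.Finite.biUnion hF₀ (fun i _ => (finite_genF_in_open p W (ξ i)).image (Prod.mk i))
    have hginj : Function.Injective
        (fun j : Σ i, SIdx p ξ i => ((j.1, j.2.1) : ι × X')) := by
      rintro ⟨i, a⟩ ⟨i', a'⟩ h
      simp only [Prod.mk.injEq] at h
      obtain ⟨rfl, h2⟩ := h
      have : a = a' := Subtype.ext h2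
      rw [this]
    refine (hB.preimage hginj.injOn).subset ?_
    intro j hj
    have hjW : j.2.1 ∈ W := hj
    have hjU : ξ j.1 ∈ U₀ := by
      have h : p j.2.1 ∈ U₀ := hWsub hjW
      rwa [j.2.2.1] at h
    refine Set.mem_biUnion (x := j.1) ⟨ξ j.1, subset_closure rfl, hjU⟩ ?_
    exact ⟨j.2.1, ⟨hjW, j.2.2.1, j.2.2.2⟩, rfl⟩
  have hδpt : ∀ j : Σ i, SIdx p ξ i, δ' j.2.1 = k + 1 + c := by
    intro j
    have h1 := hc j.2.1 j.2.2.2
    rw [j.2.2.1, hδξ j.1] at h1
    exact h1
  refine ⟨Σ i, SIdx p ξ i, fun j => j.2.1, fun j => pfn p ξ f j, ?_, ?_, ?_, ?_⟩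
  · intro j
    have h1 := hδpt j
    show δ' j.2.1 = k + c + 1
    omega
  · intro j
    exact pow_ne_zero _ (pbase_ne_zero p ξ f hf j)
  · intro x'
    obtain ⟨W, hxW, hfin⟩ := key x'
    refine ⟨(W : Set X'), W.2, hxW, hfin.subset ?_⟩
    rintro j ⟨z, hz, hzW⟩
    exact (specializes_iff_mem_closure.2 hz).mem_open W.2 hzW
  · intro x'
    obtain ⟨W, hxW, hfin⟩ := key x'
    have hB2 := Groth.Agent.S6479.delta_le_and p x' δ' δ hdimX' c hc
    have hTfin : (Function.support (fun j : Σ i, SIdx p ξ i =>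
        Cyc.divFun δ' j.2.1 (pfn p ξ f j) x')).Finite := by
      refine hfin.subset ?_
      intro j hj
      by_contra hjW
      exact (Function.mem_support.mp hj) (divFun_pfn_neg p ξ f δ' j x'
        (fun h => hjW (h.1.mem_open W.2 hxW)))
    have hgoal : Cyc.pullFun p δ' δ c (⇑α) x' =
        ∑ᶠ i : ι, ∑ᶠ s : SIdx p ξ i, Cyc.divFun δ' s.1 (pfn p ξ f ⟨i, s⟩) x' := by
      by_cases hA : δ' x' = δ (p x') + c
      · have hP : Cyc.pullFun p δ' δ c (⇑α) x' = α (p x') * mult p x' := if_pos hA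
        rw [hP]
        have hgen : ∀ y, p y = p x' → y ⤳ x' → y = x' := hB2.2 hA
        by_cases hk : δ (p x') = k
        · rw [hsum (p x'), finsum_mul]
          refine finsum_congr (fun i => ?_)
          by_cases hy : ξ i ⤳ p x'
          · have hcond : ξ i ⤳ p x' ∧ δ (p x') + 1 = δ (ξ i) := ⟨hy, by rw [hδξ i, hk]⟩
            have hne : ξ i ≠ p x' := by
              intro h
              have h5 := hδξ i
              rw [h, hk] at h5
              omega
            have himm : ∀ z : X, ξ i ⤳ z → z ⤳ p x' → z = ξ i ∨ z = p x' :=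
              fun z h1 h2 => immediate_of_delta hdimX hcond.2 z h1 h2
            have hG := pull_ord_formula p x' (ξ i) hy hne himm hgen (f i) (hf i)
            have hD : Cyc.divFun δ (ξ i) (f i) (p x') = Cyc.ordAt (p x') (ξ i) hy (f i) :=
              dif_pos hcond
            rw [hD, hG]
            symm
            let e : GIdx p x' (ξ i) → SIdx p ξ i := fun ξ' => ⟨ξ'.1, ξ'.2.2.1, ξ'.2.2.2⟩
            have he : Function.Injective e := by
              intro a b h
              exact Subtype.ext (congrArg (fun z : SIdx p ξ i => z.1) h)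
            refine finsum_eq_of_injective_of_support e he _ _ ?_ ?_
            · intro ξ'
              have h3 : δ' ξ'.1 = k + 1 + c := hδpt ⟨i, e ξ'⟩
              exact divFun_pfn_pos p ξ f δ' ⟨i, e ξ'⟩ x' ξ'.2.1
                (by show δ' x' + 1 = δ' ξ'.1; omega)
            · intro s hs
              exact divFun_pfn_neg p ξ f δ' ⟨i, s⟩ x'
                (fun h => hs ⟨(⟨s.1, h.1, s.2.1, s.2.2⟩ : GIdx p x' (ξ i)), rfl⟩)
          · have hD : Cyc.divFun δ (ξ i) (f i) (p x') = 0 := dif_neg (fun h => hy h.1)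
            rw [hD, zero_mul]
            symm
            apply finsum_eq_zero_of_forall_eq_zero
            intro s
            refine divFun_pfn_neg p ξ f δ' ⟨i, s⟩ x' (fun h => hy ?_)
            have h3 : p s.1 ⤳ p x' := p.base.hom.map_specializes h.1
            rwa [s.2.1] at h3
        · have hα0 : α (p x') = 0 := hα (p x') hk
          rw [hα0, zero_mul]
          symm
          apply finsum_eq_zero_of_forall_eq_zero
          intro i
          apply finsum_eq_zero_of_forall_eq_zero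
          intro s
          refine divFun_pfn_neg p ξ f δ' ⟨i, s⟩ x' ?_
          rintro ⟨-, h2⟩
          have h2' : δ' x' + 1 = δ' s.1 := h2
          have h3' : δ' s.1 = k + 1 + c := hδpt ⟨i, s⟩
          apply hk
          omega
      · have hP : Cyc.pullFun p δ' δ c (⇑α) x' = 0 := if_neg hA
        rw [hP]
        symm
        apply finsum_eq_zero_of_forall_eq_zero
        intro i
        apply finsum_eq_zero_of_forall_eq_zero
        intro s
        by_cases hcond : s.1 ⤳ x' ∧ δ' x' + 1 = δ' s.1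
        · have h3 : δ' s.1 = k + 1 + c := hδpt ⟨i, s⟩
          have hsp : ξ i ⤳ p x' := by
            have h4 : p s.1 ⤳ p x' := p.base.hom.map_specializes hcond.1
            rwa [s.2.1] at h4
          have hle := hB2.1
          have hc2 := hcond.2
          have heq : ξ i = p x' := by
            by_contra hne
            have h6 := (hdimX (ξ i) (p x') hsp hne).1
            have h7 := hδξ i
            omega
          have hpe : p x' = p s.1 := by rw [s.2.1, heq]
          have h0 := ordAt_pull_eq_zero_of_eq p x' s.1 hcond.1 hpe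
            ((X.residueFieldCongr s.2.1.symm).hom (f i)) (residueFieldCongr_ne_zero _ _ (hf i))
          have h5 := divFun_pfn_pos p ξ f δ' ⟨i, s⟩ x' hcond.1 hcond.2
          exact h5.trans (mul_eq_zero_of_right _ h0)
        · exact divFun_pfn_neg p ξ f δ' ⟨i, s⟩ x' hcond
    rw [congrFun hα' x']
    exact hgoal.trans (finsum_sigma' (fun j : Σ i, SIdx p ξ i =>
      Cyc.divFun δ' j.2.1 (pfn p ξ f j) x') hTfin).symm

end Groth.Agent.S1940
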