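-- Statement S0199: every finite central simple algebra is split by a finite separable extension.
import Groth.Statements.S0199
import Groth.Agent.S0198
import Groth.Agent.S0196
import Groth.Agent.Lib.Lead.Split
import Groth.Agent.Lib.Lead.MatrixModule
import Groth.Agent.Lib.Lead.SubDivision
import Mathlib.FieldTheory.IsAlgClosed.AlgebraicClosure
import Mathlib.Algebra.Algebra.Opposite

set_option autoImplicit false
set_option linter.style.haveILetI false
universe u v w
open scoped TensorProduct
open Curves
open Groth.Agent.Lib.Lead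
open Groth.Agent.Lib.Lead.SubDivision Groth.Agent.Lib.Lead.MatrixModule

namespace Groth.Agent.S0199

/-- Every finite central simple algebra over k is split by some finite separable extension of k. -/
theorem result (k : Type u) [Field k] (A : Type v) [Ring A] [Algebra k A]
    [Algebra.IsCentral k A] [IsSimpleRing A] [FiniteDimensional k A] :
    ∃ (k' : Type u) (_ : Field k') (_ : Algebra k k'), FiniteDimensional k k' ∧
      Algebra.IsSeparable k k' ∧ Curves.Splits k A k' := by
  classical
  haveI : IsArtinianRing A := IsArtinianRing.of_finite k A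
  obtain ⟨n, hn, D, _, _, _, ⟨eW⟩⟩ := IsSimpleRing.exists_algEquiv_matrix_divisionRing_finite k A
  haveI : Nonempty (Fin n) := ⟨⟨0, Nat.pos_of_ne_zero (NeZero.ne n)⟩⟩
  haveI : Algebra.IsCentral k (Matrix (Fin n) (Fin n) D) := Algebra.IsCentral.of_algEquiv k _ _ eW
  haveI : Algebra.IsCentral k D := Split.isCentral_of_matrix (n := Fin n)
  obtain ⟨L, hLc, hLmax, hLsep⟩ := Groth.Agent.S0198.result k D
  have hdim := Groth.Agent.S0196.result k D L hLc hLmax
  letI fL : Field L := fieldSub L hLc
  let f : L →ₐ[k] AlgebraicClosure k := IsAlgClosed.lift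
  let e₀ : L ≃ₐ[k] f.fieldRange := AlgEquiv.ofInjectiveField f
  let ι : f.fieldRange →ₐ[k] D := L.val.comp (e₀.symm : f.fieldRange →ₐ[k] L)
  let σ : f.fieldRange →ₐ[k] Module.End (Matrix (Fin n) (Fin n) D) (Fin n → D) :=
    (rmulAlgHom k).comp (ι.toOpposite (fun x y => (Commute.all x y).map ι))
  letI modK : Module f.fieldRange (Fin n → D) :=
    Module.compHom (Fin n → D)
      (σ : f.fieldRange →+* Module.End (Matrix (Fin n) (Fin n) D) (Fin n → D))
  have hsm : ∀ (c : f.fieldRange) (v : Fin n → D), c • v = σ c v := fun _ _ => rfl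
  haveI : IsScalarTower k f.fieldRange (Fin n → D) :=
    ⟨fun t c v => by rw [hsm, hsm, map_smul, LinearMap.smul_apply]⟩
  haveI : SMulCommClass (Matrix (Fin n) (Fin n) D) f.fieldRange (Fin n → D) :=
    ⟨fun M c v => by rw [hsm, hsm, map_smul]⟩
  haveI : FiniteDimensional f.fieldRange (Fin n → D) :=
    Module.Finite.of_restrictScalars_finite k f.fieldRange (Fin n → D)
  let ρ : Matrix (Fin n) (Fin n) D →ₐ[k] Module.End f.fieldRange (Fin n → D) :=
    Algebra.lsmul k f.fieldRange (Fin n → D)
  have hV := Module.finrank_mul_finrank k f.fieldRange (Fin n → D)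
  have hkV : Module.finrank k (Fin n → D) = n * Module.finrank k D := by
    rw [Module.finrank_pi_fintype]; simp
  have hk' : Module.finrank k f.fieldRange = Module.finrank k L :=
    (LinearEquiv.finrank_eq e₀.toLinearEquiv).symm
  have hd : 0 < Module.finrank k L := Module.finrank_pos
  have hV' : Module.finrank f.fieldRange (Fin n → D) = n * Module.finrank k L := by
    rw [hkV, hdim, hk'] at hV
    apply Nat.eq_of_mul_eq_mul_left hd
    rw [hV]; ring
  have hA : Module.finrank k A = Module.finrank f.fieldRange (Fin n → D) ^ 2 := by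
    rw [LinearEquiv.finrank_eq eW.toLinearEquiv, Module.finrank_matrix, hdim, hV']
    simp; ring
  have hV0 : Module.finrank f.fieldRange (Fin n → D) ≠ 0 := by
    rw [hV']
    exact Nat.mul_ne_zero (NeZero.ne n) hd.ne'
  refine ⟨f.fieldRange, inferInstance, inferInstance, ?_, ?_, ?_⟩
  · exact LinearEquiv.finiteDimensional e₀.toLinearEquiv
  · haveI := hLsep
    exact AlgEquiv.Algebra.isSeparable e₀
  · exact Split.splits_of_algHom_end hV0 (ρ.comp (eW : A →ₐ[k] Matrix (Fin n) (Fin n) D)) hA

end Groth.Agent.S0199
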