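-- Statement S0201: every finite central simple algebra is split by a finite Galois extension.
import Groth.Statements.S0201
import Groth.Agent.S0199
import Groth.Agent.Lib.Lead.Split
import Mathlib.FieldTheory.Normal.Closure
import Mathlib.FieldTheory.Galois.Basic
import Mathlib.FieldTheory.IsAlgClosed.AlgebraicClosure

set_option autoImplicit false
set_option linter.style.haveILetI false
universe u v w
open scoped TensorProduct
open Curves
open Groth.Agent.Lib.Lead

namespace Groth.Agent.S0201

/-- Every finite central simple algebra over k is split by a finite Galois extension of k. -/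
theorem result (k : Type u) [Field k] (A : Type v) [Ring A] [Algebra k A]
    [Algebra.IsCentral k A] [IsSimpleRing A] [FiniteDimensional k A] :
    ∃ (k' : Type u) (_ : Field k') (_ : Algebra k k'), FiniteDimensional k k' ∧
      IsGalois k k' ∧ Curves.Splits k A k' := by
  obtain ⟨k', _, _, hfin, hsep, hsplit⟩ := Groth.Agent.S0199.result k A
  haveI := hfin
  haveI := hsep
  haveI hsep'' : Algebra.IsSeparable k
      (IntermediateField.normalClosure k k' (AlgebraicClosure k')) := by
    rw [← le_separableClosure_iff, normalClosure_le_iff]
    rintro f _ ⟨x, rfl⟩
    exact mem_separableClosure_iff.2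
      ((isSeparable_map_iff f f.injective).2 (Algebra.IsSeparable.isSeparable k x))
  refine ⟨IntermediateField.normalClosure k k' (AlgebraicClosure k'), inferInstance, inferInstance,
    inferInstance, ⟨⟩, Split.splits_of_tower hsplit⟩

end Groth.Agent.S0201
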