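-- Statement S0306.
import Groth.Statements.S0306
import Groth.Agent.Lib.Helper1.InjHullLib
import Groth.Agent.S0305
import Mathlib.RingTheory.Ideal.AssociatedPrime.Basic

set_option autoImplicit false
universe u v
open InjHull

namespace Groth.Agent.S0306

/-- Over a Noetherian ring every indecomposable injective module is an injective hull of the residue
field of some prime. -/
theorem result (R : Type u) [CommRing R] [IsNoetherianRing R] (E : Type u) [AddCommGroup E] [Module R E] (hE : InjHull.IsIndecomposable R E) (hinj : Module.Injective R E) : ∃ (p : Ideal R) (_ : p.IsPrime) (g : p.ResidueField →ₗ[R] E), InjHull.IsInjectiveHull g := by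
  classical
  have hnt : Nontrivial E := hE.1
  obtain ⟨p, hp⟩ := associatedPrimes.nonempty R E
  obtain ⟨hprime, x, hpx⟩ := isAssociatedPrime_iff.1 hp
  have hmem : ∀ r : R, r ∈ p ↔ r • x = 0 := by
    intro r
    rw [hpx, Submodule.mem_colon_singleton, Submodule.mem_bot]
  have hx0 : x ≠ 0 := by
    intro h0
    apply hprime.ne_top
    rw [Ideal.eq_top_iff_one, hmem, h0, smul_zero]
  let φ : (R ⧸ p) →ₗ[R] E := p.liftQ (LinearMap.toSpanSingleton R E x) (by
    intro r hr
    rw [LinearMap.mem_ker, LinearMap.toSpanSingleton_apply]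
    exact (hmem r).1 hr)
  have hφmk : ∀ r : R, φ (Ideal.Quotient.mk p r) = r • x := fun r => rfl
  have hφinj : Function.Injective φ := by
    rw [injective_iff_map_eq_zero]
    intro a ha
    obtain ⟨r, rfl⟩ := Ideal.Quotient.mk_surjective a
    rw [hφmk] at ha
    exact Ideal.Quotient.eq_zero_iff_mem.2 ((hmem r).2 ha)
  have hrange : LinearMap.range φ ≠ ⊥ := by
    intro hbot
    apply hx0
    have : x ∈ LinearMap.range φ := ⟨Ideal.Quotient.mk p 1, by rw [hφmk, one_smul]⟩
    rw [hbot] at this
    exact (Submodule.mem_bot R).1 this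
  have hess := Groth.Agent.Lib.Helper1.InjHullLib.essIn_top_of_indecomposable hE _ hrange
  have hφ : InjHull.IsInjectiveHull φ :=
    ⟨(Groth.Agent.Lib.Helper1.InjHullLib.isEssentialInj_iff φ).2
      ⟨hφinj, fun y hy => hess.2 y trivial hy⟩, hinj⟩
  obtain ⟨-, g, hg⟩ := Groth.Agent.S0305.result R p E φ hφ
  exact ⟨p, hprime, g, hg⟩

end Groth.Agent.S0306
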