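import Groth.Statements.S13187
import Groth.Agent.S0210
import Groth.Agent.S0211

set_option autoImplicit false
universe u v
open Curves

namespace Groth.Agent.S13187

/-- `C_i ⟹ C_{i+1}`. -/
theorem isCi_succ {K : Type*} [Field K] {i : ℕ} (hK : Curves.IsCi K i) : Curves.IsCi K (i + 1) := by
  intro r n f d hf hd hlt
  refine hK r n f d hf hd (lt_of_le_of_lt (Finset.sum_le_sum (fun ρ _ => ?_)) hlt)
  exact Nat.pow_le_pow_right (hd ρ) (Nat.le_succ i)

/-- `C_i` is invariant under ring isomorphisms. -/
theorem isCi_of_ringEquiv {A : Type*} {B : Type*} [Field A] [Field B] (e : A ≃+* B) {i : ℕ}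
    (hA : Curves.IsCi A i) : Curves.IsCi B i := by
  letI : Algebra A B := e.toRingHom.toAlgebra
  haveI : Algebra.IsAlgebraic A B := ⟨fun b => by
    have h := isAlgebraic_algebraMap (R := A) (A := B) (e.symm b)
    have h2 : algebraMap A B (e.symm b) = b := e.apply_symm_apply b
    rwa [h2] at h⟩
  exact Groth.Agent.S0210.result A B i hA

open IntermediateField in
/-- adjoining one element raises the `C`-level by at most one. -/
theorem isCi_adjoin_simple {F : Type*} {E : Type*} [Field F] [Field E] [Algebra F E] (a : E)
    {i : ℕ} (hF : Curves.IsCi F i) : Curves.IsCi F⟮a⟯ (i + 1) := by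
  by_cases h : Transcendental F a
  · exact isCi_of_ringEquiv (RatFunc.algEquivOfTranscendental a h).toRingEquiv
      (Groth.Agent.S0211.result F i hF)
  · have ha : IsAlgebraic F a := by rwa [Transcendental, not_not] at h
    haveI : Algebra.IsAlgebraic F F⟮a⟯ := IntermediateField.isAlgebraic_adjoin_simple ha.isIntegral
    exact isCi_succ (Groth.Agent.S0210.result F F⟮a⟯ i hF)

/-- intermediate fields (over possibly different bases) with the same elements. -/
theorem isCi_of_carrier_eq {K : Type*} [Field K] {F₁ F₂ : Type*} [Field F₁] [Field F₂]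
    [Algebra F₁ K] [Algebra F₂ K] (E₁ : IntermediateField F₁ K) (E₂ : IntermediateField F₂ K)
    (h : ∀ y, y ∈ E₁ ↔ y ∈ E₂) {i : ℕ} (h1 : Curves.IsCi E₁ i) : Curves.IsCi E₂ i := by
  let e : E₁ ≃+* E₂ :=
    { toFun := fun y => ⟨y.1, (h _).1 y.2⟩
      invFun := fun y => ⟨y.1, (h _).2 y.2⟩
      left_inv := fun _ => rfl
      right_inv := fun _ => rfl
      map_mul' := fun _ _ => rfl
      map_add' := fun _ _ => rfl }
  exact isCi_of_ringEquiv e h1

theorem isCi_adjoin_range (k : Type u) [Field k] (K : Type v) [Field K] [Algebra k K] (m : ℕ)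
    (hk : Curves.IsCi k m) :
    ∀ (t : ℕ) (x : Fin t → K), Curves.IsCi (IntermediateField.adjoin k (Set.range x)) (m + t) := by
  intro t
  induction t with
  | zero =>
    intro x
    have h0 : IntermediateField.adjoin k (Set.range x) = ⊥ := by
      rw [Set.range_eq_empty x, IntermediateField.adjoin_empty]
    rw [h0]
    exact isCi_of_ringEquiv (IntermediateField.botEquiv k K).symm.toRingEquiv hk
  | succ t ih =>
    intro x
    obtain ⟨S, hS⟩ : ∃ S : Set K, S = Set.range (fun l : Fin t => x l.castSucc) := ⟨_, rfl⟩
    have hF : Curves.IsCi (IntermediateField.adjoin k S) (m + t) := by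
      rw [hS]; exact ih _
    have h1 : Curves.IsCi
        (IntermediateField.adjoin (IntermediateField.adjoin k S) {x (Fin.last t)}) (m + t + 1) :=
      isCi_adjoin_simple (x (Fin.last t)) hF
    refine isCi_of_carrier_eq
      (IntermediateField.adjoin (IntermediateField.adjoin k S) {x (Fin.last t)})
      (IntermediateField.adjoin k (Set.range x)) (fun y => ?_) h1
    have h2 := IntermediateField.adjoin_adjoin_left k S ({x (Fin.last t)} : Set K)
    have h3 : S ∪ {x (Fin.last t)} = Set.range x := by
      rw [hS]
      ext z
      constructor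
      · rintro (⟨l, rfl⟩ | hz)
        · exact ⟨_, rfl⟩
        · exact ⟨Fin.last t, (Set.mem_singleton_iff.1 hz).symm⟩
      · rintro ⟨l, rfl⟩
        rcases Fin.eq_castSucc_or_eq_last l with ⟨l', rfl⟩ | rfl
        · exact Or.inl ⟨l', rfl⟩
        · exact Or.inr rfl
    rw [h3] at h2
    rw [← h2]
    exact Iff.rfl

/-- If a field k has property C_m for systems of forms and the extension field K of k has a finite
transcendence basis with t elements, then K has property C_{m+t} for systems of forms. (Property C_m
is the systems version: any r forms of positive degrees d_1, …, d_r in n variables with Σ d_i^m < n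
have a common non-trivial zero.) -/
theorem result (k : Type u) [Field k] (K : Type v) [Field K] [Algebra k K]
    (m t : ℕ) (x : Fin t → K) (hx : IsTranscendenceBasis k x) (hk : Curves.IsCi k m) :
    Curves.IsCi K (m + t) := by
  haveI := hx.isAlgebraic_field
  exact Groth.Agent.S0210.result (IntermediateField.adjoin k (Set.range x)) K (m + t)
    (isCi_adjoin_range k K m hk t x)

end Groth.Agent.S13187
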