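import Groth.Statements.S4790
import Mathlib
import Groth.Agent.Lib.Helper17.HomDescent
import Groth.Agent.Lib.Helper17.PbLim8
import Groth.Agent.Lib.Helper17.PbFinite

set_option autoImplicit false
universe u
open CategoryTheory AlgebraicGeometry
open Lim8

namespace Groth.Agent.S4790

/-- Let S = lim S_i be a cofiltered limit of schemes with affine transition maps and S_{i₀} a
quasi-compact quasi-separated stage; let F₀ and G₀ be quasi-coherent O-modules of finite
presentation on S_{i₀}. Then the pullbacks of F₀ and G₀ along S ⟶ S_{i₀} are isomorphic if and only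
if, for some index j over i₀, their pullbacks along S_j ⟶ S_{i₀} are isomorphic. -/
theorem result {I : Type u} [SmallCategory I] [IsCofiltered I]
    (D : I ⥤ Scheme.{u}) (c : Limits.Cone D) (hc : Limits.IsLimit c)
    [∀ (i j : I) (f : i ⟶ j), IsAffineHom (D.map f)] (i₀ : I) [CompactSpace (D.obj i₀)]
    [QuasiSeparatedSpace (D.obj i₀)] (F₀ G₀ : (D.obj i₀).Modules)
    [Coh.IsQCoh F₀] (hF₀fp : CohB1.IsFP F₀)
    [Coh.IsQCoh G₀] (hG₀fp : CohB1.IsFP G₀) :
    Nonempty ((Scheme.Modules.pullback (c.π.app i₀)).obj F₀ ≅ (Scheme.Modules.pullback (c.π.app i₀)).obj G₀) ↔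
      ∃ (j : I) (φ : j ⟶ i₀),
        Nonempty ((Scheme.Modules.pullback (D.map φ)).obj F₀ ≅ (Scheme.Modules.pullback (D.map φ)).obj G₀) := by
  haveI hFfp : SheafOfModules.IsFinitePresentation (R := (D.obj i₀).ringCatSheaf) F₀ := hF₀fp
  haveI hGfp : SheafOfModules.IsFinitePresentation (R := (D.obj i₀).ringCatSheaf) G₀ := hG₀fp
  constructor
  · rintro ⟨e⟩
    obtain ⟨j₁, φ₁, a, ha⟩ :=
      Groth.Agent.Lib.Helper17.HomDescent.exists_hom_pullback_eq D c hc i₀ F₀ G₀ e.hom
    have hmap : (Scheme.Modules.pullback (c.π.app j₁)).map a =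
        ((Groth.Agent.Lib.Helper17.SepFG.compIso (c.π.app j₁) (D.map φ₁) (c.π.app i₀)
          (c.w φ₁)).app F₀).hom ≫ e.hom ≫
        ((Groth.Agent.Lib.Helper17.SepFG.compIso (c.π.app j₁) (D.map φ₁) (c.π.app i₀)
          (c.w φ₁)).app G₀).inv := by
      rw [← ha]
      simp
    have hiso : IsIso ((Scheme.Modules.pullback (c.π.app j₁)).map a) := by
      rw [hmap]
      infer_instance
    haveI : CompactSpace (D.obj j₁) := QuasiCompact.compactSpace_of_compactSpace (D.map φ₁)
    haveI : ((Scheme.Modules.pullback (D.map φ₁)).obj F₀).IsQuasicoherent :=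
      Groth.Agent.Lib.Helper17.PbStalk.isQuasicoherent_pullback (D.map φ₁) F₀
    haveI : ((Scheme.Modules.pullback (D.map φ₁)).obj G₀).IsQuasicoherent :=
      Groth.Agent.Lib.Helper17.PbStalk.isQuasicoherent_pullback (D.map φ₁) G₀
    haveI : SheafOfModules.IsFinitePresentation (R := (D.obj j₁).ringCatSheaf)
        ((Scheme.Modules.pullback (D.map φ₁)).obj F₀) :=
      Groth.Agent.Lib.Helper17.PbFinite.isFinitePresentation_pullback (D.map φ₁) F₀
    haveI : SheafOfModules.IsFinitePresentation (R := (D.obj j₁).ringCatSheaf)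
        ((Scheme.Modules.pullback (D.map φ₁)).obj G₀) :=
      Groth.Agent.Lib.Helper17.PbFinite.isFinitePresentation_pullback (D.map φ₁) G₀
    haveI : SheafOfModules.IsFiniteType (R := (D.obj j₁).ringCatSheaf)
        ((Scheme.Modules.pullback (D.map φ₁)).obj F₀) := inferInstance
    obtain ⟨j₂, φ₂, hiso₂⟩ :=
      Groth.Agent.Lib.Helper17.PbLim8.stage_exists_isIso D c hc j₁ a hiso
    refine ⟨j₂, φ₂ ≫ φ₁, ⟨?_⟩⟩
    exact ((Groth.Agent.Lib.Helper17.SepFG.compIso (D.map φ₂) (D.map φ₁) (D.map (φ₂ ≫ φ₁))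
        (D.map_comp _ _).symm).app F₀).symm ≪≫
      asIso ((Scheme.Modules.pullback (D.map φ₂)).map a) ≪≫
      (Groth.Agent.Lib.Helper17.SepFG.compIso (D.map φ₂) (D.map φ₁) (D.map (φ₂ ≫ φ₁))
        (D.map_comp _ _).symm).app G₀
  · rintro ⟨j, φ, ⟨e⟩⟩
    exact ⟨((Groth.Agent.Lib.Helper17.SepFG.compIso (c.π.app j) (D.map φ) (c.π.app i₀)
        (c.w φ)).app F₀).symm ≪≫
      (Scheme.Modules.pullback (c.π.app j)).mapIso e ≪≫
      (Groth.Agent.Lib.Helper17.SepFG.compIso (c.π.app j) (D.map φ) (c.π.app i₀)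
        (c.w φ)).app G₀⟩

end Groth.Agent.S4790
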