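import Groth.Statements.S6496
import Groth.Agent.Lib.Lead.CycPullGeo

set_option autoImplicit false
universe u
open CategoryTheory AlgebraicGeometry
open Cyc

namespace Groth.Agent.S6496

open Groth.Agent.Lib.Lead.CycPull
open Limits

theorem mult_ne_zero {X Y : Scheme.{u}} (f : X ⟶ Y) [IsLocallyNoetherian X] (x : X)
    (hgen : ∀ y, f y = f x → y ⤳ x → y = x) : mult f x ≠ 0 := by
  unfold mult
  intro h
  have h1 : (Module.length (X.presheaf.stalk x) (X.presheaf.stalk x ⧸
      Ideal.map (f.stalkMap x).hom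
        (IsLocalRing.maximalIdeal (Y.presheaf.stalk (f x))))).toNat = 0 := by
    exact_mod_cast h
  rcases (ENat.toNat_eq_zero).mp h1 with h2 | h2
  · rw [Module.length_eq_zero_iff] at h2
    have h3 : Ideal.map (f.stalkMap x).hom
        (IsLocalRing.maximalIdeal (Y.presheaf.stalk (f x))) = ⊤ :=
      Ideal.Quotient.subsingleton_iff.mp h2
    have hloc : IsLocalHom (f.stalkMap x).hom := inferInstance
    have hle : Ideal.map (f.stalkMap x).hom
        (IsLocalRing.maximalIdeal (Y.presheaf.stalk (f x))) ≤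
        IsLocalRing.maximalIdeal (X.presheaf.stalk x) :=
      ((IsLocalRing.local_hom_TFAE (f.stalkMap x).hom).out 0 2).mp hloc
    rw [h3] at hle
    exact (IsLocalRing.maximalIdeal.isMaximal _).ne_top (top_le_iff.mp hle)
  · exact length_fibre_ne_top f x hgen h2

/-- Injectivity of colim Z_k(X_i) → Z_k(X'): if a k-cycle α on X_i pulls back to the zero cycle on X',
then it pulls back to zero on some stage X_j above X_i. Setting: a directed inverse system (X_i) of
quasi-compact schemes with affine flat transition morphisms and limit X' (a limit cone), each X_i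
and X' carrying a dimension function with Cyc.IsSetup, and every transition map and every projection
X' → X_i shifting the dimension functions by c = 0 at generic points of fibres, so that the
base-change pullbacks g^* are Cyc.pullFun with shift 0. (The published statement takes X_i and X′ to
be the base changes of one quasi-compact scheme of finite type over a base S along S_i → S and lim
S_i → S; this row allows any such inverse system.) -/
theorem result (I : Type u) [Preorder I] [IsDirected I (fun a b => a ≤ b)] [Nonempty I] (D : Iᵒᵖ ⥤ Scheme.{u}) (c : Limits.Cone D) (hc : Limits.IsLimit c) (haff : ∀ (i j : Iᵒᵖ) (f : i ⟶ j), IsAffineHom (D.map f)) (hflat : ∀ (i j : Iᵒᵖ) (f : i ⟶ j), Flat (D.map f)) (hqc : ∀ i, CompactSpace ↥(D.obj i)) (δ : (i : Iᵒᵖ) → ↥(D.obj i) → ℤ) (δ' : ↥c.pt → ℤ) (hset : ∀ i, Cyc.IsSetup (D.obj i) (δ i)) (hset' : Cyc.IsSetup c.pt δ') (hshift : ∀ (i j : Iᵒᵖ) (f : i ⟶ j) (x : ↥(D.obj i)), (∀ y, D.map f y = D.map f x → y ⤳ x → y = x) → δ i x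 = δ j (D.map f x)) (hflat' : ∀ i, Flat (c.π.app i)) (hshift' : ∀ (i : Iᵒᵖ) (x : ↥c.pt), (∀ y, c.π.app i y = c.π.app i x → y ⤳ x → y = x) → δ' x = δ i (c.π.app i x)) (k : ℤ) (i : Iᵒᵖ) (α : AlgebraicCycle (D.obj i) ℤ) (hα : α ∈ Cyc.Zk (D.obj i) (δ i) k) (h0 : Cyc.pullFun (c.π.app i) δ' (δ i) 0 ⇑α = 0) : ∃ (j : Iᵒᵖ) (f : j ⟶ i), Cyc.pullFun (D.map f) (δ j) (δ i) 0 ⇑α = 0 := by
  classical
  haveI : ∀ {a b : Iᵒᵖ} (f : a ⟶ b), IsAffineHom (D.map f) := fun f => haff _ _ f
  haveI : ∀ a, CompactSpace ↥(D.obj a) := hqc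
  haveI : ∀ a, Flat (c.π.app a) := hflat'
  haveI hLN' : IsLocallyNoetherian c.pt := hset'.1
  have hfin : (Function.support ⇑α).Finite := by
    have h := (Function.locallyFinsupp.locallyFiniteSupport α).finite_inter_support_of_isCompact
      isCompact_univ
    rwa [Set.univ_inter] at h
  have hnot : ∀ ξ : D.obj i, α ξ ≠ 0 → ∀ x' : c.pt, c.π.app i x' ≠ ξ := by
    intro ξ hξ x' hx'
    haveI : IsLocallyNoetherian (((Functor.const Iᵒᵖ).obj c.pt).obj i) := hLN'
    obtain ⟨η, hηx', hπη, hηgen⟩ := Groth.Agent.S6479.exists_genF (c.π.app i) x'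
    have hδ := hshift' i η hηgen
    have hval := congrFun h0 η
    have hP : Cyc.pullFun (c.π.app i) δ' (δ i) 0 (⇑α) η =
        α (c.π.app i η) * mult (c.π.app i) η := if_pos (by rw [hδ, add_zero])
    rw [hP, Pi.zero_apply, hπη, hx'] at hval
    exact mult_ne_zero (c.π.app i) η hηgen ((mul_eq_zero.mp hval).resolve_left hξ)
  have hstep : ∀ ξ : D.obj i, ∃ (j : Iᵒᵖ) (f : j ⟶ i),
      α ξ ≠ 0 → ∀ x : D.obj j, D.map f x ≠ ξ := by
    intro ξ
    by_cases hξ : α ξ = 0
    · exact ⟨i, 𝟙 i, fun h => absurd hξ h⟩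
    · let U : (D.obj i).Opens := ⟨(closure {ξ})ᶜ, isClosed_closure.isOpen_compl⟩
      have hU : c.π.app i ⁻¹ᵁ U = ⊤ := by
        rw [eq_top_iff]
        intro x' _
        show c.π.app i x' ∈ (closure {ξ})ᶜ
        intro hmem
        have hsp : ξ ⤳ c.π.app i x' := specializes_iff_mem_closure.mpr hmem
        obtain ⟨a', -, ha'⟩ := Flat.generalizingMap (c.π.app i) hsp
        exact hnot ξ hξ a' ha'
      obtain ⟨j, f, hjf⟩ := exists_map_eq_top D c hc U hU
      refine ⟨j, f, fun _ x hx => ?_⟩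
      have hxU : x ∈ D.map f ⁻¹ᵁ U := by
        rw [hjf]
        trivial
      have hxU' : D.map f x ∈ (closure {ξ})ᶜ := hxU
      exact hxU' (by rw [hx]; exact subset_closure (Set.mem_singleton ξ))
  choose J F hJF using hstep
  obtain ⟨j, hj⟩ := IsCofiltered.inf_objs_exists (insert i (hfin.toFinset.image J))
  obtain ⟨g₀⟩ := hj (Finset.mem_insert_self i _)
  refine ⟨j, g₀, ?_⟩
  funext x
  show Cyc.pullFun (D.map g₀) (δ j) (δ i) 0 (⇑α) x = 0
  have hαx : α (D.map g₀ x) = 0 := by
    by_contra hne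
    have hmemJ : J (D.map g₀ x) ∈ insert i (hfin.toFinset.image J) :=
      Finset.mem_insert_of_mem
        (Finset.mem_image.mpr ⟨D.map g₀ x, hfin.mem_toFinset.mpr hne, rfl⟩)
    obtain ⟨g⟩ := hj hmemJ
    have hcomp : g ≫ F (D.map g₀ x) = g₀ := Quiver.Hom.unop_inj (Subsingleton.elim _ _)
    have h1 : D.map g₀ x = D.map (F (D.map g₀ x)) (D.map g x) := by
      rw [← Scheme.Hom.comp_apply, ← D.map_comp, hcomp]
    exact hJF (D.map g₀ x) hne (D.map g x) h1.symm
  simp only [Cyc.pullFun, hαx, zero_mul, ite_self]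

end Groth.Agent.S6496
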