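import Groth.Statements.S0008
import Groth.Agent.Lib.Helper13.TildeCech

set_option autoImplicit false
universe u
open Coherent

namespace Groth.Agent.S0008

open AlgebraicGeometry in
/-- For a ring A, an A-module M and elements f_1, …, f_n generating the unit ideal, the Čech cohomology
of the associated module on Spec A with respect to the covering by the basic opens D(f_i) vanishes
in every positive degree. -/
theorem result (A : Type u) [CommRing A] (M : ModuleCat.{u} A)
    (n : ℕ) (f : ULift.{u} (Fin n) → A) (hf : Ideal.span (Set.range f) = ⊤) (p : ℕ) (hp : 0 < p) :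
    CategoryTheory.Limits.IsZero (CohB1.cechH (fun i => PrimeSpectrum.basicOpen (f i)) (tilde (R := CommRingCat.of A) M) p) := by
  obtain ⟨q, rfl⟩ := Nat.exists_eq_succ_of_ne_zero (Nat.pos_iff_ne_zero.1 hp)
  have h1 : ∀ j, (PrimeSpectrum.basicOpen (f j) : (AlgebraicGeometry.Spec (CommRingCat.of A)).Opens) ≤
      PrimeSpectrum.basicOpen (1 : A) := fun j => by
    rw [PrimeSpectrum.basicOpen_one]
    exact le_top
  have h2 : (PrimeSpectrum.basicOpen (1 : A) : (AlgebraicGeometry.Spec (CommRingCat.of A)).Opens) ≤
      ⨆ j, (PrimeSpectrum.basicOpen (f j) : (AlgebraicGeometry.Spec (CommRingCat.of A)).Opens) := by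
    have h3 := PrimeSpectrum.iSup_basicOpen_eq_top_iff.2 hf
    exact le_of_le_of_eq le_top h3.symm
  exact Groth.Agent.Lib.Helper13.TildeCech.isZero_cechH_of_isLocalizing
    (AlgebraicGeometry.isLocalizing_tilde (R := CommRingCat.of A) M)
    (fun i => PrimeSpectrum.basicOpen (f i)) f (fun _ => rfl) 1 h1 h2 q

end Groth.Agent.S0008
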