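import Groth.Statements.S0010
import Groth.Agent.Lib.Helper13.AffineCover

set_option autoImplicit false
universe u
open Coherent

namespace Groth.Agent.S0010

open AlgebraicGeometry in
/-- Let X be a scheme in which the intersection of any two affine opens is affine (equivalently, X has
affine diagonal; e.g. X separated), covered by t affine opens. Then H^n(X, F) = 0 for every
quasi-coherent F and every n ≥ t. -/
theorem result (X : Scheme.{u}) (t : ℕ) (U : Fin t → X.Opens)
    (hU : ∀ i, IsAffineOpen (U i)) (hcov : ⨆ i, U i = ⊤)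
    (hd : ∀ V W : X.Opens, IsAffineOpen V → IsAffineOpen W → IsAffineOpen (V ⊓ W))
    (M : X.Modules) [Coh.IsQCoh M] (n : ℕ) (hn : t ≤ n) :
    Subsingleton (Coh.HH X M n) := by
  have hT : CategoryTheory.Limits.IsTerminal (⊤ : X.Opens) := CategoryTheory.Limits.isTerminalTop
  have e := Groth.Agent.Lib.Helper13.ProfiniteAcyclic.HEquivHU
    (Opens.grothendieckTopology X) hT (Coh.toAb M) n
  cases t with
  | zero =>
    have hbot : (⊤ : X.Opens) = ⊥ := by
      rw [← hcov]
      exact iSup_of_empty _
    cases n with
    | zero =>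
      have e0 := CategoryTheory.Sheaf.H.equiv₀ (Coh.toAb M) hT
      have h1 : Subsingleton ((Coh.toAb M).obj.obj (Opposite.op (⊤ : X.Opens))) :=
        Groth.Agent.Lib.Helper13.ProfiniteAcyclic.subsingleton_of_isTerminal
          (TopCat.Sheaf.isTerminalOfEqEmpty (Coh.toAb M) hbot)
      exact e0.toEquiv.subsingleton_congr.2 h1
    | succ m =>
      have hW : AlgebraicGeometry.IsAffineOpen (⊤ : X.Opens) := by
        rw [hbot]
        exact AlgebraicGeometry.isAffineOpen_bot X
      exact e.toEquiv.subsingleton_congr.2
        (Groth.Agent.Lib.Helper13.AffineVanish.subsingleton_HU_of_isAffineOpen M hW m)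
  | succ t =>
    have h := Groth.Agent.Lib.Helper13.AffineCover.subsingleton_HU_iSup_of_affine M hd t U hU n hn
    rw [hcov] at h
    exact e.toEquiv.subsingleton_congr.2 h

end Groth.Agent.S0010
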