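-- Statement S0015: qcqs induction principle.
import Groth.Statements.S0015
-- import your own Groth.Agent.* helpers here

set_option autoImplicit false
universe u
open Coherent

namespace Groth.Agent.S0015

open AlgebraicGeometry in
/-- Step 1a: finite unions of basic opens of an affine open satisfy `P`. -/
theorem step_basic (X : Scheme.{u}) (P : X.Opens → Prop)
    (h₁ : ∀ U : X.Opens, IsAffineOpen U → P U)
    (h₂ : ∀ U V : X.Opens, IsCompact (U : Set X) → IsAffineOpen V → P U → P V → P (U ⊓ V) →
      P (U ⊔ V))
    (V : X.Opens) (hV : IsAffineOpen V) :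
    ∀ (n : ℕ) (s : Finset Γ(X, V)), s.card ≤ n → P (⨆ f ∈ s, X.basicOpen f) := by
  classical
  intro n
  induction n with
  | zero =>
    intro s hs
    have : s = ∅ := by simpa using hs
    subst this
    simpa using h₁ ⊥ (isAffineOpen_bot X)
  | succ n ih =>
    intro s hs
    rcases s.eq_empty_or_nonempty with rfl | ⟨g, hg⟩
    · simpa using h₁ ⊥ (isAffineOpen_bot X)
    · have hs' : s = insert g (s.erase g) := (Finset.insert_erase hg).symm
      have hc : (s.erase g).card ≤ n := by
        rw [Finset.card_erase_of_mem hg]; omega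
      rw [hs', Finset.iSup_insert, sup_comm]
      have hcomp : IsCompact ((⨆ f ∈ s.erase g, X.basicOpen f : X.Opens) : Set X) := by
        have : ((⨆ f ∈ s.erase g, X.basicOpen f : X.Opens) : Set X) =
            ⋃ f ∈ s.erase g, (X.basicOpen f : Set X) := by
          simp
        rw [this]
        exact (s.erase g).finite_toSet.isCompact_biUnion fun f _ => (hV.basicOpen f).isCompact
      refine h₂ _ _ hcomp (hV.basicOpen g) (ih _ hc) (h₁ _ (hV.basicOpen g)) ?_
      have : (⨆ f ∈ s.erase g, X.basicOpen f) ⊓ X.basicOpen g =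
          ⨆ f ∈ (s.erase g).image (· * g), X.basicOpen f := by
        rw [Finset.iSup_finset_image, iSup_inf_eq]
        congr 1
        ext f : 1
        rw [iSup_inf_eq]
        simp [Scheme.basicOpen_mul]
      rw [this]
      exact ih _ (Finset.card_image_le.trans hc)

open AlgebraicGeometry in
/-- Step 1b: every quasi-compact open inside an affine open satisfies `P`. -/
theorem step_affine (X : Scheme.{u}) (P : X.Opens → Prop)
    (h₁ : ∀ U : X.Opens, IsAffineOpen U → P U)
    (h₂ : ∀ U V : X.Opens, IsCompact (U : Set X) → IsAffineOpen V → P U → P V → P (U ⊓ V) →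
      P (U ⊔ V))
    (V : X.Opens) (hV : IsAffineOpen V) (W : X.Opens) (hW : IsCompact (W : Set X)) (hWV : W ≤ V) :
    P W := by
  have key : ∀ x : W, ∃ f : Γ(X, V), X.basicOpen f ≤ W ∧ (x : X) ∈ X.basicOpen f :=
    fun x => hV.exists_basicOpen_le x (hWV x.2)
  choose f hf hxf using key
  obtain ⟨t, ht⟩ := hW.elim_finite_subcover (fun x : W => (X.basicOpen (f x) : Set X))
    (fun x => (X.basicOpen (f x)).isOpen) (fun x hx => Set.mem_iUnion.mpr ⟨⟨x, hx⟩, hxf ⟨x, hx⟩⟩)
  classical
  have hEq : W = ⨆ g ∈ t.image f, X.basicOpen g := by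
    apply le_antisymm
    · intro x hx
      have := ht hx
      simp only [Set.mem_iUnion] at this
      obtain ⟨y, hy, hxy⟩ := this
      rw [Finset.iSup_finset_image]
      simp only [TopologicalSpace.Opens.mem_iSup]
      exact ⟨y, hy, hxy⟩
    · rw [Finset.iSup_finset_image]
      exact iSup₂_le fun y _ => hf y
  rw [hEq]
  exact step_basic X P h₁ h₂ V hV _ _ le_rfl

open AlgebraicGeometry in
/-- Let X be quasi-compact and quasi-separated and P a property of opens of X. If P holds for affine
opens, and P(U ∪ V) follows from P(U), P(V), P(U ∩ V) whenever U is quasi-compact open and V affine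
open, then P holds for every quasi-compact open, in particular for X. -/
theorem result (X : Scheme.{u}) [CompactSpace X] [QuasiSeparatedSpace X]
    (P : X.Opens → Prop) (h₁ : ∀ U : X.Opens, IsAffineOpen U → P U)
    (h₂ : ∀ U V : X.Opens, IsCompact (U : Set X) → IsAffineOpen V → P U → P V → P (U ⊓ V) →
      P (U ⊔ V))
    (U : X.Opens) (hU : IsCompact (U : Set X)) : P U := by
  refine compact_open_induction_on U hU (h₁ ⊥ (isAffineOpen_bot X)) ?_
  intro S hS V hPS
  refine h₂ S V hS V.2 hPS (h₁ _ V.2) ?_
  refine step_affine X P h₁ h₂ V V.2 (S ⊓ V) ?_ inf_le_right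
  exact QuasiSeparatedSpace.inter_isCompact S.1 V.1.1 S.2 hS V.1.2 V.2.isCompact

end Groth.Agent.S0015
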