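import Groth.Statements.S0018
import Groth.Agent.Lib.Helper3.QCTilde

set_option autoImplicit false
universe u
open Coherent

namespace Groth.Agent.S0018

open CategoryTheory CategoryTheory.Limits AlgebraicGeometry TopologicalSpace Opposite
open Groth.Agent.Lib.Helper3

open AlgebraicGeometry in
/-- On a locally Noetherian scheme an O_X-module is quasi-coherent of finite type if and only if it is
of finite presentation. (Either condition is what 'coherent' means there.) -/
theorem result (X : Scheme.{u}) [IsLocallyNoetherian X] (M : X.Modules) :
    Coh.IsCoh M ↔ CohB1.IsFP M := by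
  constructor
  · rintro ⟨hqc, hft⟩
    apply QCLocal.isFinitePresentation_of_forall_exists
    intro x
    have : M.IsFiniteType := hft
    obtain ⟨U, hU, hxU, σ, hσ⟩ := QCLocal.exists_affine_generatingSections M x
    have : IsNoetherianRing Γ(X, U) := IsLocallyNoetherian.component_noetherian ⟨U, hU⟩
    have : M.IsQuasicoherent := hqc
    have hNq : (M.restrict hU.fromSpec).IsQuasicoherent := inferInstance
    have : Finite (QCTilde.gsToChart hU σ).I :=
      (inferInstance : (QCTilde.gsToChart hU σ).IsFiniteType).finite
    have hfin := QCTilde.finite_of_generatingSections (M.restrict hU.fromSpec)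
      (QCTilde.gsToChart hU σ)
    have hfp : Module.FinitePresentation Γ(X, U)
        ((modulesSpecToSheaf.obj (M.restrict hU.fromSpec)).presheaf.obj (op ⊤)) :=
      Module.finitePresentation_of_finite _ _
    obtain ⟨P, hP⟩ := QCTilde.exists_finite_presentation_tilde
      ((modulesSpecToSheaf.obj (M.restrict hU.fromSpec)).presheaf.obj (op ⊤))
    have hε : IsIso (M.restrict hU.fromSpec).fromTildeΓ :=
      Scheme.Modules.isIso_fromTildeΓ_of_isQuasicoherent _
    exact ⟨U, hxU, QCTilde.presFromChart hU
      (SheafOfModules.Presentation.ofIsIso (asIso (M.restrict hU.fromSpec).fromTildeΓ).hom P), inferInstance⟩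
  · intro h
    have : SheafOfModules.IsFinitePresentation (R := X.ringCatSheaf) M := h
    exact ⟨inferInstance, inferInstance⟩

end Groth.Agent.S0018
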