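import Groth.Statements.S0023
import Groth.Agent.Lib.Helper7.PnH0
import Groth.Agent.Lib.Helper3.TwistMul

set_option autoImplicit false
universe u
open Coherent

namespace Groth.Agent.S0023

open AlgebraicGeometry in
/-- Special case of the twist d = 0 in positive degree: H^q(P^n_R, O) = 0 for all q > 0 and any ring R.
(The full statement computes all H^q(P^n_R, O(d)); only the untwisted part is stated here.) -/
theorem result (n : ℕ) (R : Type u) [CommRing R]
    (q : ℕ) (hq : 0 < q) :
    Subsingleton (Coh.HH (CohB1.ProjSpace n R) (Coh.structureModule (CohB1.ProjSpace n R)) q) := by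
  change Subsingleton (Coh.HH (AlgebraicGeometry.Proj (CohB1.polyGrading n R))
    (Coh.structureModule (AlgebraicGeometry.Proj (CohB1.polyGrading n R))) q)
  obtain ⟨m, rfl⟩ := Nat.exists_eq_succ_of_ne_zero hq.ne'
  haveI : Subsingleton (Coh.HH (AlgebraicGeometry.Proj (CohB1.polyGrading n R))
      (Twist.twist (CohB1.polyGrading n R) 0) (m + 1)) := by
    by_cases hgt : n < m + 1
    · haveI : (Twist.twist (CohB1.polyGrading n R) 0).IsQuasicoherent :=
        Groth.Agent.Lib.Helper3.GrTildeSelf.isQuasicoherent_twist 0
      exact Groth.Agent.Lib.Helper7.PnCech.subsingleton_HH_of_gt n R _ (m + 1) hgt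
    · apply Groth.Agent.Lib.Helper7.PnCech.subsingleton_HH_twist n R 0 m
      left
      have : (0 : ℤ) ≤ n := Int.natCast_nonneg n
      omega
  exact Groth.Agent.Lib.Helper7.PnSections.subsingleton_HH_of_iso
    (Groth.Agent.Lib.Helper3.TwistMul.unitIso (𝒜 := CohB1.polyGrading n R)) (m + 1)

end Groth.Agent.S0023
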