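import Groth.Statements.S0027
import Mathlib
import Groth.Agent.Lib.Helper17.DevEngine
import Groth.Agent.Lib.Helper17.DevKeyExt
import Groth.Agent.Lib.Helper17.DevInt
import Groth.Agent.Lib.Helper17.DevTest2

set_option autoImplicit false
universe u
open Coherent

namespace Groth.Agent.S0027

open AlgebraicGeometry CategoryTheory CategoryTheory.Limits in
/-- Let X be a nonempty Noetherian scheme and P an isomorphism-invariant property of O_X-modules such
that (1) in a short exact sequence of coherent modules, P for the two outer terms implies P for the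
middle term, and (2) P holds for the direct image of every quasi-coherent ideal sheaf of every
integral closed subscheme of X. Then P holds for every coherent O_X-module. (Nonemptiness of X is
needed for the zero module; the published statement leaves it implicit.) -/
theorem result (X : Scheme.{u}) [IsNoetherian X] [Nonempty X]
    (P : X.Modules → Prop) (hP : ∀ M N : X.Modules, Nonempty (M ≅ N) → P M → P N)
    (h₁ : ∀ S : ShortComplex X.Modules, S.ShortExact → Coh.IsCoh S.X₁ → Coh.IsCoh S.X₂ →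
      Coh.IsCoh S.X₃ → P S.X₁ → P S.X₃ → P S.X₂)
    (h₂ : ∀ (Z : Scheme.{u}) (i : Z ⟶ X), IsClosedImmersion i → IsIntegral Z →
      ∀ (I : Z.Modules) (ι : I ⟶ Coh.structureModule Z), Mono ι → Coh.IsQCoh I →
        P ((Coh.push i).obj I))
    (M : X.Modules) (hM : Coh.IsCoh M) : P M := by
  have h0 : ∀ M : X.Modules, IsZero M → P M := by
    intro M hM0
    obtain ⟨x⟩ := ‹Nonempty X›
    let Zc : TopologicalSpace.Closeds X := ⟨closure {x}, isClosed_closure⟩
    haveI := Groth.Agent.Lib.Helper17.DevInt.isIntegral_sub Zc isIrreducible_singleton.closure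
    obtain ⟨I, ιI, hmono, hqc, hz⟩ := Groth.Agent.Lib.Helper17.DevTest.exists_zero_ideal
      (Groth.Agent.Lib.Helper17.DevInt.sub Zc)
    have hp := h₂ _ (Groth.Agent.Lib.Helper17.DevInt.subι Zc) inferInstance inferInstance
      I ιI hmono hqc
    have hz' : IsZero ((Coh.push (Groth.Agent.Lib.Helper17.DevInt.subι Zc)).obj I) :=
      (Coh.push (Groth.Agent.Lib.Helper17.DevInt.subι Zc)).map_isZero hz
    exact hP _ M ⟨hz'.iso hM0⟩ hp
  refine Groth.Agent.Lib.Helper17.DevEngine.engine X P hP Set.univ h0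
    (fun S hS h1 h2 h3 _ p1 p3 => h₁ S hS h1 h2 h3 p1 p3) ?_ M hM (Set.subset_univ _)
  intro Z hZ hirr hZX' IH F hF hFs _
  obtain ⟨y, hy⟩ := QuasiSober.sober hirr hZ
  have hy' : closure {y} = ((⟨Z, hZ⟩ : TopologicalSpace.Closeds X) : Set X) := hy
  have hy'' : closure {y} = Z := hy
  have hyZ : y ∈ Z := hy'' ▸ subset_closure (Set.mem_singleton y)
  have hgenZ : ∀ x ∈ Z, y ⤳ x := fun x hx => specializes_iff_mem_closure.mpr (hy''.symm ▸ hx)
  haveI := Groth.Agent.Lib.Helper17.DevInt.isIntegral_sub ⟨Z, hZ⟩ hirr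
  refine Groth.Agent.Lib.Helper17.DevKeyExt.keyExt P Set.univ
    (fun S hS h1 h2 h3 _ p1 p3 => h₁ S hS h1 h2 h3 p1 p3) Z hZX' y hgenZ
    (fun F' hF' hs hn => IH F' hF' hs (fun h => hn (h ▸ hyZ)))
    (Groth.Agent.Lib.Helper17.DevTest.A (Scheme.IdealSheafData.vanishingIdeal ⟨Z, hZ⟩))
    (Groth.Agent.Lib.Helper17.DevTest.isCoh_A _) ?_
    (Groth.Agent.Lib.Helper17.DevTest.length_stalk_A ⟨Z, hZ⟩ y hy')
    (fun K hK k hk hyK => @Groth.Agent.Lib.Helper17.DevTest.isZero_of_mono_of_notMem _ ⟨Z, hZ⟩ y hy'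
      K hK k hk hyK) ?_ F hF hFs
  · rw [Groth.Agent.Lib.Helper17.DevTest.support_A,
      Scheme.IdealSheafData.coe_support_vanishingIdeal]
    rfl
  · intro G' hG' ι hι _
    haveI := hι
    obtain ⟨I, ιI, hmono, hqc, ⟨e⟩⟩ :=
      Groth.Agent.Lib.Helper17.DevTest.exists_ideal_of_mono _ hG' ι
    exact hP _ G' ⟨e.symm⟩ (h₂ _ _ inferInstance inferInstance I ιI hmono hqc)

end Groth.Agent.S0027
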