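-- Statement S0037.
import Groth.Statements.S0037
import Mathlib
import Groth.Agent.Lib.Helper1.RpushStalk
import Groth.Agent.Lib.Helper13.BaseChangeVanish

set_option autoImplicit false
universe u
open Coherent

namespace Groth.Agent.S0037

open AlgebraicGeometry CategoryTheory in
/-- Let Y be locally Noetherian, f : X → Y proper and y a point whose fibre f⁻¹{y} is finite. Then for
every coherent F on X and every p > 0 the stalk of R^p f_* F at y vanishes. -/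
theorem result {X Y : Scheme.{u}} (f : X ⟶ Y) [IsProper f]
    [IsLocallyNoetherian Y] (y : Y) (hy : (f.base ⁻¹' {y}).Finite) (M : X.Modules) (hM : Coh.IsCoh M)
    (p : ℕ) (hp : 0 < p) :
    Limits.IsZero (TopCat.Presheaf.stalk ((Coh.RpushAb f p).obj (Coh.toAb M)).obj y) := by
  open Groth.Agent.Lib.Helper13 Groth.Agent.Lib.Helper1 in
  obtain ⟨V, hyV, hfin⟩ := exists_isFinite_morphismRestrict_of_finite_preimage_singleton f y hy
  obtain ⟨q, rfl⟩ : ∃ q, p = q + 1 := ⟨p - 1, by omega⟩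
  haveI := hM.1
  refine RpushStalk.isZero_stalk_Rpush f.base (Coh.toAb M) (q + 1) y
    {W | IsAffineOpen W ∧ W ≤ V} ?_ ?_
  · intro V' hyV'
    obtain ⟨W, hW, hyW, hWV⟩ := TopologicalSpace.Opens.isBasis_iff_nbhd.1 Y.isBasis_affineOpens
      (show y ∈ V ⊓ V' from ⟨hyV, hyV'⟩)
    exact ⟨W, ⟨hW, hWV.trans inf_le_left⟩, hyW, hWV.trans inf_le_right⟩
  · rintro W ⟨hW, hWV⟩
    have h1 : IsAffineOpen (V.ι ⁻¹ᵁ W) :=
      hW.preimage_of_isOpenImmersion V.ι (by rw [Scheme.Opens.opensRange_ι]; exact hWV)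
    have h2 : IsAffineOpen ((f ∣_ V) ⁻¹ᵁ (V.ι ⁻¹ᵁ W)) := h1.preimage (f ∣_ V)
    have h3 : IsAffineOpen ((f ⁻¹ᵁ V).ι ''ᵁ ((f ∣_ V) ⁻¹ᵁ (V.ι ⁻¹ᵁ W))) :=
      h2.image_of_isOpenImmersion _
    have h4 : (f ⁻¹ᵁ V).ι ''ᵁ ((f ∣_ V) ⁻¹ᵁ (V.ι ⁻¹ᵁ W)) = f ⁻¹ᵁ W := by
      rw [image_morphismRestrict_preimage, Scheme.Hom.image_preimage_eq_opensRange_inf,
        Scheme.Opens.opensRange_ι, inf_eq_right.mpr hWV]
    rw [h4] at h3
    exact AffineVanish.subsingleton_HU_of_isAffineOpen M h3 q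

end Groth.Agent.S0037
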