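import Groth.Statements.S0045
import Groth.Agent.Lib.Helper3.QCExact

set_option autoImplicit false
universe u
open Coherent

namespace Groth.Agent.S0045

open CategoryTheory CategoryTheory.Limits AlgebraicGeometry TopologicalSpace Opposite
open Groth.Agent.Lib.Helper3

open AlgebraicGeometry CategoryTheory in
/-- On a Noetherian scheme, any increasing sequence of quasi-coherent submodules of a coherent module is
eventually constant. -/
theorem result (X : Scheme.{u}) [IsNoetherian X] (M : X.Modules)
    (hM : Coh.IsCoh M) (F : ℕ →o Subobject M) (hF : ∀ n, Coh.IsQCoh ((F n : Subobject M) : X.Modules)) :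
    ∃ n : ℕ, ∀ m : ℕ, n ≤ m → F m = F n := by
  haveI : M.IsQuasicoherent := hM.1
  haveI : M.IsFiniteType := hM.2
  have hcpt : IsCompact ((⊤ : X.Opens) : Set X) := by rw [Opens.coe_top]; exact isCompact_univ
  obtain ⟨ι, hι, U, hUa, -, hcov⟩ := QCSec.exists_finite_affine_cover (⊤ : X.Opens) hcpt
  have := Fintype.ofFinite ι
  have hNoeth : ∀ i, IsNoetherian Γ(X, U i) Γ(M, U i) := fun i => by
    have : IsNoetherianRing Γ(X, U i) := IsLocallyNoetherian.component_noetherian ⟨U i, hUa i⟩
    have : Module.Finite Γ(X, U i) Γ(M, U i) := QCProps.finite_sections M (hUa i)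
    exact isNoetherian_of_isNoetherianRing_of_finite _ _
  have hmono : ∀ i, Monotone (fun n => LinearMap.range (QCProps.appₗ (F n).arrow (U i))) := by
    intro i n m hnm
    rintro _ ⟨t, rfl⟩
    refine ⟨(Subobject.ofLE (F n) (F m) (F.monotone hnm)).app (U i) t, ?_⟩
    have h2 : (Subobject.ofLE (F n) (F m) (F.monotone hnm) ≫ (F m).arrow).app (U i) t =
        (F n).arrow.app (U i) t := by rw [Subobject.ofLE_arrow]
    exact h2
  have hstab : ∀ i, ∃ n, ∀ m, n ≤ m →
      LinearMap.range (QCProps.appₗ (F n).arrow (U i)) =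
        LinearMap.range (QCProps.appₗ (F m).arrow (U i)) := by
    intro i
    exact (monotone_stabilizes_iff_noetherian.mpr (hNoeth i)) ⟨_, hmono i⟩
  choose n₀ hn₀ using hstab
  refine ⟨Finset.univ.sup n₀, fun m hm => ?_⟩
  have hle : F (Finset.univ.sup n₀) ≤ F m := F.monotone hm
  have hj : Subobject.ofLE _ _ hle ≫ (F m).arrow = (F (Finset.univ.sup n₀)).arrow :=
    Subobject.ofLE_arrow hle
  haveI : ((F m : Subobject M) : X.Modules).IsQuasicoherent := hF m
  have hinj : ∀ W, Function.Injective ((F m).arrow.app W) :=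
    fun W => QCExact.injective_sections (F m).arrow W
  haveI : Epi (Subobject.ofLE _ _ hle) := by
    apply QCExact.epi_of_surjective_on_affine_cover
    intro x
    obtain ⟨i, hxi⟩ : ∃ i, x ∈ U i :=
      Opens.mem_iSup.mp (hcov (show x ∈ (⊤ : X.Opens) from trivial))
    refine ⟨U i, hUa i, hxi, ?_⟩
    intro s
    have hn_i : n₀ i ≤ Finset.univ.sup n₀ := Finset.le_sup (Finset.mem_univ i)
    have e1 := hn₀ i _ hn_i
    have e2 := hn₀ i m (hn_i.trans hm)
    have hs : QCProps.appₗ (F m).arrow (U i) s ∈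
        LinearMap.range (QCProps.appₗ (F (Finset.univ.sup n₀)).arrow (U i)) := by
      rw [← e1, e2]; exact ⟨s, rfl⟩
    obtain ⟨t, ht⟩ := hs
    refine ⟨t, ?_⟩
    apply hinj (U i)
    have h2 : (Subobject.ofLE _ _ hle ≫ (F m).arrow).app (U i) t =
        (F (Finset.univ.sup n₀)).arrow.app (U i) t := by rw [hj]
    exact h2.trans ht
  haveI : IsIso (Subobject.ofLE _ _ hle) := isIso_of_mono_of_epi _
  exact (Subobject.eq_of_comm (asIso (Subobject.ofLE _ _ hle)) hj).symm

end Groth.Agent.S0045
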