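import Groth.Statements.S0048
import Groth.Agent.Lib.Helper3.QCOpen

set_option autoImplicit false
universe u
open Coherent

namespace Groth.Agent.S0048

open CategoryTheory CategoryTheory.Limits AlgebraicGeometry TopologicalSpace Opposite
open Groth.Agent.Lib.Helper3

open AlgebraicGeometry in
/-- Let U ⊆ X be open and T ⊆ U a subset closed in X. If F is a coherent (quasi-coherent of finite type,
i.e. `Coh.IsCoh`) module on U with support contained in T, then its direct image along U ↪ X is
again coherent in the same sense. (The published statement is for coherent modules in the usual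
sense; here both hypothesis and conclusion use the notion `Coh.IsCoh`.) -/
theorem result (X : Scheme.{u}) (U : X.Opens) (T : Set X)
    (hT : IsClosed T) (hTU : T ⊆ (U : Set X)) (F : (↑U : Scheme.{u}).Modules) (hF : Coh.IsCoh F)
    (hs : ∀ x : ↥U, x ∈ CohB1.support F → (x : X) ∈ T) : Coh.IsCoh ((Coh.push U.ι).obj F) := by
  haveI hq : F.IsQuasicoherent := hF.1
  haveI hft : F.IsFiniteType := hF.2
  obtain ⟨V, hV⟩ : ∃ V : X.Opens, (V : Set X) = Tᶜ := ⟨⟨Tᶜ, hT.isOpen_compl⟩, rfl⟩
  have hPV : IsZero (((Scheme.Modules.pushforward U.ι).obj F).restrict V.ι) := by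
    apply ModBasic.isZero_of_subsingleton
    intro W
    show Subsingleton Γ(F, U.ι ⁻¹ᵁ (V.ι ''ᵁ W))
    apply QCOpen.subsingleton_sections_of_stalks
    intro x hx
    by_contra hne
    have hxT := hs x hne
    have hxV : U.ι x ∈ V := V.ι_image_le W hx
    have hxV' : U.ι x ∈ (V : Set X) := hxV
    rw [hV] at hxV'
    exact hxV' hxT
  have key : ∀ x : X, ∃ W : X.Opens, x ∈ W ∧
      (((Scheme.Modules.pushforward U.ι).obj F).restrict W.ι).IsQuasicoherent ∧
      (((Scheme.Modules.pushforward U.ι).obj F).restrict W.ι).IsFiniteType := by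
    intro x
    by_cases hx : x ∈ U
    · refine ⟨U, hx, ?_, ?_⟩
      · exact (SheafOfModules.isQuasicoherent (U : Scheme.{u}).ringCatSheaf).prop_of_iso
          ((Scheme.Modules.restrictFunctorAdjCounitIso U.ι).app F).symm hq
      · haveI : ((𝟭 (U : Scheme.{u}).Modules).obj F).IsFiniteType := hft
        exact QCProps.isFiniteType_of_iso ((Scheme.Modules.restrictFunctorAdjCounitIso U.ι).app F).symm
    · have hxV : x ∈ V := by
        show x ∈ (V : Set X)
        rw [hV]
        exact fun hxT => hx (hTU hxT)
      exact ⟨V, hxV, QCOpen.isQuasicoherent_of_isZero hPV, QCOpen.isFiniteType_of_isZero hPV⟩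
  refine ⟨QCOpen.isQuasicoherent_of_open_cover _ (fun x => ?_),
    QCOpen.isFiniteType_of_open_cover _ key⟩
  obtain ⟨W, hxW, hq, -⟩ := key x
  exact ⟨W, hxW, hq⟩

end Groth.Agent.S0048
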