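-- Statement S0064.
import Groth.Statements.S0064
import Mathlib
import Groth.Agent.S0063

set_option autoImplicit false
open CategoryTheory CategoryTheory.Limits AlgebraicGeometry Opposite
universe u
open EtBase

namespace Groth.Agent.S0064

theorem locallyQuasiFinite_of_unramified {X S : Scheme.{u}} (π : X ⟶ S)
    [FormallyUnramified π] [LocallyOfFiniteType π] : LocallyQuasiFinite π := by
  constructor
  intro U hU V hV e
  have h1 := Scheme.Hom.formallyUnramified_appLE π hU hV e
  have h2 := Scheme.Hom.finiteType_appLE π hU hV e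
  algebraize [(π.appLE U V e).hom]
  have : Algebra.FiniteType Γ(S, U) Γ(X, V) := h2
  have : Algebra.FormallyUnramified Γ(S, U) Γ(X, V) := h1
  show Algebra.QuasiFinite Γ(S, U) Γ(X, V)
  infer_instance

/-- Two sections of a morphism to the spectrum of a field with the same image point coincide. -/
theorem section_ext {K : Type u} [Field K] {Z : Scheme.{u}} (p : Z ⟶ Spec (.of K))
    (σ₁ σ₂ : Spec (.of K) ⟶ Z) (h₁ : σ₁ ≫ p = 𝟙 _) (h₂ : σ₂ ≫ p = 𝟙 _)
    (hz : σ₁ (IsLocalRing.closedPoint K) = σ₂ (IsLocalRing.closedPoint K)) : σ₁ = σ₂ := by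
  -- general claim
  have key : ∀ (z : Z) (a a' : Z.residueField z ⟶ .of K),
      (Spec.map a ≫ Z.fromSpecResidueField z) ≫ p = 𝟙 _ →
      (Spec.map a' ≫ Z.fromSpecResidueField z) ≫ p = 𝟙 _ → a = a' := by
    intro z a a' ha ha'
    set b := p.residueFieldMap z with hb
    set c := (Spec (.of K)).fromSpecResidueField (p z) with hc
    have e1 : Spec.map (b ≫ a) ≫ c = 𝟙 _ := by
      rw [Spec.map_comp, Category.assoc, hb, hc,
        Scheme.Hom.SpecMap_residueFieldMap_fromSpecResidueField, ← Category.assoc]
      exact ha
    have e2 : Spec.map (b ≫ a') ≫ c = 𝟙 _ := by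
      rw [Spec.map_comp, Category.assoc, hb, hc,
        Scheme.Hom.SpecMap_residueFieldMap_fromSpecResidueField, ← Category.assoc]
      exact ha'
    have hmono : Mono c := by rw [hc]; infer_instance
    have e3 : c ≫ Spec.map (b ≫ a) = 𝟙 _ := by
      rw [← cancel_mono c, Category.assoc, e1]; simp
    have e12 : Spec.map (b ≫ a) = Spec.map (b ≫ a') := by
      rw [← cancel_mono c, e1, e2]
    have e12' : b ≫ a = b ≫ a' := Spec.map_injective e12
    have hiso : IsIso (Spec.map (b ≫ a)) := ⟨c, e1, e3⟩
    have hiso' : IsIso (b ≫ a) := by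
      have : IsIso (Scheme.Spec.map (b ≫ a).op) := hiso
      have := isIso_of_reflects_iso (b ≫ a).op Scheme.Spec
      exact isIso_of_op (b ≫ a)
    have hsurj : Function.Surjective (b ≫ a).hom :=
      ((ConcreteCategory.isIso_iff_bijective (b ≫ a)).mp hiso').2
    ext u
    obtain ⟨v, hv⟩ := hsurj (a.hom u)
    have hu : u = b.hom v := by
      have : a.hom (b.hom v) = a.hom u := hv
      exact (a.hom.injective this).symm
    rw [hu]
    exact congr($(e12').hom v)
  apply (Z.SpecToEquivOfField K).injective
  rw [Scheme.SpecToEquivOfField_eq_iff]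
  refine ⟨hz, ?_⟩
  show Z.descResidueField (Scheme.stalkClosedPointTo σ₁) =
    (Z.residueFieldCongr hz).hom ≫ Z.descResidueField (Scheme.stalkClosedPointTo σ₂)
  apply key
  · rw [Scheme.descResidueField_stalkClosedPointTo_fromSpecResidueField]
    exact h₁
  · have : Spec.map ((Z.residueFieldCongr hz).hom ≫
        Z.descResidueField (Scheme.stalkClosedPointTo σ₂)) ≫ Z.fromSpecResidueField _ = σ₂ := by
      rw [Spec.map_comp, Category.assoc, Scheme.residueFieldCongr_fromSpecResidueField,
        Scheme.descResidueField_stalkClosedPointTo_fromSpecResidueField]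
    rw [this]; exact h₂

/-- Finitely many lifts of a field-valued point along a quasi-finite quasi-compact morphism. -/
theorem finite_lifts_field {K : Type u} [Field K] {X S : Scheme.{u}} (π : X ⟶ S)
    [LocallyQuasiFinite π] [QuasiCompact π] (ψ : Spec (.of K) ⟶ S) :
    Set.Finite {φ : Spec (.of K) ⟶ X | φ ≫ π = ψ} := by
  let p := pullback.snd π ψ
  have hfin : (Set.univ : Set ↥(pullback π ψ)).Finite := by
    have := Scheme.Hom.finite_preimage_singleton p (IsLocalRing.closedPoint K)
    refine this.subset ?_
    intro z _
    exact Subsingleton.elim _ _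
  have : Finite ↥(pullback π ψ) := Set.finite_univ_iff.mp hfin
  let F : {φ : Spec (.of K) ⟶ X | φ ≫ π = ψ} → ↥(pullback π ψ) := fun φ =>
    (pullback.lift φ.1 (𝟙 _) (by rw [φ.2, Category.id_comp])) (IsLocalRing.closedPoint K)
  have hF : Function.Injective F := by
    intro φ₁ φ₂ h12
    have := section_ext p _ _ (pullback.lift_snd _ _ _) (pullback.lift_snd _ _ _) h12
    have h3 := congr($this ≫ pullback.fst π ψ)
    apply Subtype.ext
    rw [pullback.lift_fst, pullback.lift_fst] at h3
    exact h3
  have := Finite.of_injective F hF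
  exact Set.toFinite _

/-- Let S be a Noetherian scheme, X → S a quasi-compact, separated, unramified morphism (formally
unramified and locally of finite type), and Y a Noetherian scheme with a morphism Y → S. Then there
are only finitely many S-morphisms Y → X. The published statement does not assume X → S separated;
it is stated here in the separated case. -/
theorem result {X S Y : Scheme.{u}} [IsNoetherian S] [IsNoetherian Y]
    (π : X ⟶ S) [FormallyUnramified π] [LocallyOfFiniteType π] [QuasiCompact π] [IsSeparated π]
    (h : Y ⟶ S) : Set.Finite {f : Y ⟶ X | f ≫ π = h} := by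
  have : LocallyQuasiFinite π := locallyQuasiFinite_of_unramified π
  have hG : (genericPoints Y).Finite :=
    genericPoints.finite TopologicalSpace.NoetherianSpace.finite_irreducibleComponents
  have := hG.to_subtype
  let T : ∀ y : genericPoints Y, Set (Spec (Y.residueField y.1) ⟶ X) :=
    fun y => {φ | φ ≫ π = Y.fromSpecResidueField y.1 ≫ h}
  have hT : ∀ y, (T y).Finite := fun y =>
    finite_lifts_field (K := Y.residueField y.1) π (Y.fromSpecResidueField y.1 ≫ h)
  let F : (Y ⟶ X) → (∀ y : genericPoints Y, Spec (Y.residueField y.1) ⟶ X) :=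
    fun f y => Y.fromSpecResidueField y.1 ≫ f
  refine Set.Finite.of_injOn (f := F) (t := Set.pi Set.univ T) ?_ ?_ (Set.Finite.pi hT)
  · intro f hf y _
    show (Y.fromSpecResidueField y.1 ≫ f) ≫ π = Y.fromSpecResidueField y.1 ≫ h
    rw [Category.assoc, hf]
  · intro f hf g hg hfg
    let X' : Over S := Over.mk π
    let Y' : Over S := Over.mk h
    let f' : Y' ⟶ X' := Over.homMk f hf
    let g' : Y' ⟶ X' := Over.homMk g hg
    have hsep : IsSeparated X'.hom := ‹_›
    have hdiag : IsOpenImmersion (pullback.diagonal X'.hom) :=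
      inferInstanceAs (IsOpenImmersion (pullback.diagonal π))
    have hcl : IsClosedImmersion (equalizer.ι f' g').left := inferInstance
    have hop : IsOpenImmersion (equalizer.ι f' g').left :=
      Groth.Agent.S0063.isOpenImmersion_equalizer_ι_left f' g'
    have hy' : ∀ y ∈ genericPoints Y, y ∈ Set.range (equalizer.ι f' g').left.base := by
      intro y hy
      have hyfg : Y.fromSpecResidueField y ≫ f = Y.fromSpecResidueField y ≫ g :=
        congrFun hfg ⟨y, hy⟩
      let κ' : Over S := Over.mk (Y.fromSpecResidueField y ≫ h)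
      let ι' : κ' ⟶ Y' := Over.homMk (Y.fromSpecResidueField y) rfl
      have hι : ι' ≫ f' = ι' ≫ g' := by ext1; exact hyfg
      refine ⟨(equalizer.lift ι' hι).left.base (default : Spec (Y.residueField y)), ?_⟩
      rw [← Scheme.Hom.comp_apply, ← Over.comp_left, equalizer.lift_ι]
      exact Scheme.fromSpecResidueField_apply _ _
    have hclosed : IsClosed (Set.range (equalizer.ι f' g').left.base) :=
      (Scheme.Hom.isClosedEmbedding _).isClosed_range
    have huniv : Set.range (equalizer.ι f' g').left.base = Set.univ := by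
      apply Set.eq_univ_of_univ_subset
      rw [← genericPoints.closure]
      exact hclosed.closure_subset_iff.mpr hy'
    have hsurj : Surjective (equalizer.ι f' g').left := ⟨Set.range_eq_univ.mp huniv⟩
    have hiso : IsIso (equalizer.ι f' g').left :=
      (isIso_iff_isOpenImmersion_and_surjective _).mpr ⟨hop, hsurj⟩
    rw [← cancel_epi (equalizer.ι f' g').left]
    exact congr($(equalizer.condition f' g').left)

end Groth.Agent.S0064
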