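-- Statement S0066.
import Groth.Statements.S0066
import Mathlib
import Groth.Agent.S2611
import Groth.Agent.Lib.Helper29.NormalDescent

set_option autoImplicit false
open CategoryTheory CategoryTheory.Limits AlgebraicGeometry Opposite
universe u
open EtBase

namespace Groth.Agent.S0066

section helpers

/-- A local ring is isomorphic to its localization at a prime whose complement consists of units. -/
theorem normal_iff_localization (R : Type u) [CommRing R] (P : Ideal R) [P.IsPrime]
    (hP : ∀ x, x ∉ P → IsUnit x) :
    (IsDomain (Localization.AtPrime P) ∧ IsIntegrallyClosed (Localization.AtPrime P)) ↔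
      (IsDomain R ∧ IsIntegrallyClosed R) := by
  let e : R ≃ₐ[R] Localization.AtPrime P :=
    IsLocalization.atUnits R P.primeCompl (fun x hx => hP x hx)
  constructor
  · rintro ⟨h1, h2⟩
    have : IsDomain R := e.toRingEquiv.toMulEquiv.isDomain (Localization.AtPrime P)
    exact ⟨this, IsIntegrallyClosed.of_equiv e.toRingEquiv.symm⟩
  · rintro ⟨h1, h2⟩
    have : IsDomain (Localization.AtPrime P) := e.toRingEquiv.symm.toMulEquiv.isDomain R
    exact ⟨this, IsIntegrallyClosed.of_equiv e.toRingEquiv⟩

/-- Fibre local rings of a formally unramified, essentially finite type algebra are fields. -/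
theorem fibLocRing_normal (A B : Type u) [CommRing A] [CommRing B] [Algebra A B]
    [Algebra.EssFiniteType A B] [Algebra.FormallyUnramified A B] (q : Ideal B) [q.IsPrime] :
    IsDomain (EGA4.FibLocRing A B q) ∧ IsIntegrallyClosed (EGA4.FibLocRing A B q) := by
  have : q.LiesOver (q.comap (algebraMap A B)) := ⟨rfl⟩
  letI := Localization.AtPrime.algebraOfLiesOver (q.comap (algebraMap A B)) q
  have h := ((Algebra.isUnramifiedAt_iff_map_eq A (q.comap (algebraMap A B)) q).mp
    inferInstance).2
  have hmax : ((q.comap (algebraMap A B)).map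
      (algebraMap A (Localization.AtPrime q))).IsMaximal := by
    rw [h]; infer_instance
  letI := Ideal.Quotient.field ((q.comap (algebraMap A B)).map
      (algebraMap A (Localization.AtPrime q)))
  exact ⟨inferInstance, inferInstance⟩

end helpers

/-- For an étale morphism f : X → Y with Y locally Noetherian and a point x of X, the local ring O_{X,x}
is a normal domain (a domain which is integrally closed in its fraction field) if and only if
O_{Y,f(x)} is. -/
theorem result {X Y : Scheme.{u}} (f : X ⟶ Y) [AlgebraicGeometry.Etale f]
    [IsLocallyNoetherian Y] (x : X) :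
    (IsDomain (X.presheaf.stalk x) ∧ IsIntegrallyClosed (X.presheaf.stalk x)) ↔
      (IsDomain (Y.presheaf.stalk (f.base x)) ∧ IsIntegrallyClosed (Y.presheaf.stalk (f.base x))) := by
  have : IsLocallyNoetherian X := LocallyOfFiniteType.isLocallyNoetherian f
  algebraize [(f.stalkMap x).hom]
  have hloc : IsLocalHom (algebraMap (Y.presheaf.stalk (f x)) (X.presheaf.stalk x)) :=
    inferInstanceAs <| IsLocalHom (f.stalkMap x).hom
  have hess : Algebra.EssFiniteType (Y.presheaf.stalk (f x)) (X.presheaf.stalk x) := by
    rw [← RingHom.essFiniteType_algebraMap, RingHom.algebraMap_toAlgebra]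
    exact LocallyOfFiniteType.stalkMap f x
  have hunr : Algebra.FormallyUnramified (Y.presheaf.stalk (f x)) (X.presheaf.stalk x) := by
    rw [← RingHom.formallyUnramified_algebraMap, RingHom.algebraMap_toAlgebra]
    exact FormallyUnramified.stalkMap f x
  have hflat : Module.Flat (Y.presheaf.stalk (f x)) (X.presheaf.stalk x) := by
    have := Flat.stalkMap f x
    rwa [RingHom.Flat] at this
  have hff : Module.FaithfullyFlat (Y.presheaf.stalk (f x)) (X.presheaf.stalk x) :=
    Module.FaithfullyFlat.of_flat_of_isLocalHom
  constructor
  · rintro ⟨h1, h2⟩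
    exact Groth.Agent.Lib.Helper29.NormalDescent.isDomain_and_isIntegrallyClosed
      (R := Y.presheaf.stalk (f x)) (S := X.presheaf.stalk x)
  · rintro ⟨h1, h2⟩
    have hcomap : ∀ a : Y.presheaf.stalk (f x),
        a ∉ (IsLocalRing.maximalIdeal (X.presheaf.stalk x)).comap
          (algebraMap (Y.presheaf.stalk (f x)) (X.presheaf.stalk x)) → IsUnit a := by
      intro a ha
      have : IsUnit (algebraMap (Y.presheaf.stalk (f x)) (X.presheaf.stalk x) a) := by
        by_contra hu
        exact ha ((IsLocalRing.mem_maximalIdeal _).mpr hu)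
      exact (isUnit_map_iff (algebraMap (Y.presheaf.stalk (f x)) (X.presheaf.stalk x)) a).mp this
    have hA := (normal_iff_localization (Y.presheaf.stalk (f x))
      ((IsLocalRing.maximalIdeal (X.presheaf.stalk x)).comap
          (algebraMap (Y.presheaf.stalk (f x)) (X.presheaf.stalk x))) hcomap).mpr ⟨h1, h2⟩
    have := hA.1
    have := hA.2
    have hB := Groth.Agent.S2611.result (Y.presheaf.stalk (f x)) (X.presheaf.stalk x)
      (fun q _ => fibLocRing_normal (Y.presheaf.stalk (f x)) (X.presheaf.stalk x) q)
      (IsLocalRing.maximalIdeal (X.presheaf.stalk x))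
    refine (normal_iff_localization (X.presheaf.stalk x)
      (IsLocalRing.maximalIdeal (X.presheaf.stalk x)) ?_).mp hB
    intro b hb
    by_contra hu
    exact hb ((IsLocalRing.mem_maximalIdeal _).mpr hu)

end Groth.Agent.S0066
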