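-- Statement S0069.
import Groth.Statements.S0069
-- import your own Groth.Agent.* helpers here

set_option autoImplicit false
open CategoryTheory CategoryTheory.Limits AlgebraicGeometry Opposite
universe u
open EtBase

namespace Groth.Agent.S0069

/-- An abelian étale sheaf has zero sections over an étale scheme with empty underlying space. -/
theorem isZero_obj_of_isEmpty {Z : Scheme.{u}} (G : EtCoh.Ab Z) (E : Z.Etale)
    (hE : IsEmpty E.left) : IsZero (G.obj.obj (op E)) := by
  have h1 : Sieve.ofArrows (fun i : PEmpty.{1} => (i.elim : Z.Etale))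
      (fun i : PEmpty.{1} => (i.elim : (i.elim : Z.Etale) ⟶ E)) ∈ Z.smallEtaleTopology E := by
    rw [Scheme.ofArrows_mem_smallEtaleTopology_iff]
    ext x
    exact (hE.false x).elim
  have hbot : (⊥ : Sieve E) ∈ Z.smallEtaleTopology E := by
    refine (Z.smallEtaleTopology).superset_covering ?_ h1
    rintro Y f ⟨_, _, _, ⟨i⟩, _⟩
    exact i.elim
  have hT : IsTerminal (G.obj.obj (op E)) := G.isTerminalOfBotCover E hbot
  exact (isZero_zero _).of_iso (hT.uniqueUpToIso (isZero_zero _).isTerminal)

/-- Abelian case, first half — the pushforward along a closed immersion has zero stalk at geometric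
points outside the closed subscheme. -/
theorem result {Z X : Scheme.{u}} (i : Z ⟶ X) [IsClosedImmersion i] [EtCoh.BCCont i]
    (G : EtCoh.Ab Z) {Ω : Type u} [Field Ω] [IsSepClosed Ω] (ξ : Spec (CommRingCat.of Ω) ⟶ X)
    (hξ : Disjoint (Set.range ξ.base) (Set.range i.base)) :
    IsZero ((EtCoh.stalk ξ).obj ((EtCoh.push i).obj G)) := by
  let Φ := Scheme.pointSmallEtale ξ
  let P : X.Etaleᵒᵖ ⥤ AddCommGrpCat.{u+1} := ((EtCoh.push i).obj G).obj
  change IsZero (Φ.presheafFiber.obj P)
  rw [IsZero.iff_id_eq_zero]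
  apply Φ.presheafFiber_hom_ext
  intro U x
  rw [Category.comp_id, comp_zero]
  let Vo : U.left.Opens := ⟨(U.hom.base ⁻¹' Set.range i.base)ᶜ,
    (i.isClosedEmbedding.isClosed_range.preimage U.hom.continuous).isOpen_compl⟩
  let V' : X.Etale := Scheme.Etale.mk (Vo.ι ≫ U.hom)
  let j : V' ⟶ U := MorphismProperty.Over.homMk Vo.ι rfl trivial
  have hxw : x.left ≫ U.hom = ξ := Over.w x
  have hx : Set.range x.left.base ⊆ Set.range Vo.ι.base := by
    rintro _ ⟨pt, rfl⟩
    have hin : x.left.base pt ∈ (U.hom.base ⁻¹' Set.range i.base)ᶜ := by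
      intro hmem
      have h2 : U.hom.base (x.left.base pt) = ξ.base pt :=
        congrArg (fun φ : Spec (CommRingCat.of Ω) ⟶ X => φ.base pt) hxw
      exact Set.disjoint_left.mp hξ ⟨pt, rfl⟩ (h2 ▸ hmem)
    exact (Scheme.Opens.range_ι Vo).symm ▸ hin
  let yl : Spec (CommRingCat.of Ω) ⟶ Vo.toScheme := IsOpenImmersion.lift Vo.ι x.left hx
  have hyl : yl ≫ Vo.ι = x.left := IsOpenImmersion.lift_fac _ _ _
  let y : Φ.fiber.obj V' := Over.homMk yl (by
    exact (Category.assoc yl Vo.ι U.hom).symm.trans ((congrArg (· ≫ U.hom) hyl).trans hxw))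
  have hy : Φ.fiber.map j y = x := by
    apply Over.OverMorphism.ext
    exact hyl
  rw [← hy, ← Φ.toPresheafFiber_w j y P]
  have hz : IsZero (P.obj (op V')) := by
    change IsZero (G.obj.obj (op ((EtCoh.bc i).obj V')))
    apply isZero_obj_of_isEmpty
    constructor
    intro z
    have hcond : (pullback.fst V'.hom i ≫ V'.hom).base z = (pullback.snd V'.hom i ≫ i).base z := by
      rw [pullback.condition]
    let a : ↥Vo := (pullback.fst V'.hom i).base z
    have hmem : (a : U.left) ∈ (U.hom.base ⁻¹' Set.range i.base)ᶜ := a.2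
    apply hmem
    show U.hom.base (Vo.ι.base a) ∈ Set.range i.base
    exact ⟨(pullback.snd V'.hom i).base z, hcond.symm⟩
  rw [hz.eq_of_tgt (P.map j.op) 0, zero_comp]

end Groth.Agent.S0069
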