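import Groth.Statements.S0088
import Groth.Agent.Lib.Helper15.ZeroDimScheme
import Groth.Agent.Lib.Helper15.GammaExact
import Groth.Agent.Lib.Helper15.EtGlue

set_option autoImplicit false
open CategoryTheory CategoryTheory.Limits AlgebraicGeometry Opposite
universe u
open EtBase

namespace Groth.Agent.S0088


open Groth.Agent.Lib.Helper15

noncomputable def piece {S : Scheme.{u}} (V : S.Opens) : S.Etale := Scheme.Etale.mk V.ι

set_option backward.isDefEq.respectTransparency.types false in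
noncomputable def pieceι {S : Scheme.{u}} (V : S.Opens) : piece V ⟶ EtCoh.top S :=
  MorphismProperty.Over.homMk V.ι (by change V.ι ≫ 𝟙 S = V.ι; exact Category.comp_id _) trivial

set_option backward.isDefEq.respectTransparency.types false in
noncomputable def pieceTo {S : Scheme.{u}} (V : S.Opens) (Z : S.Etale)
    (τ : (V : Scheme.{u}) ⟶ Z.left) (hτ : τ ≫ Z.hom = V.ι) : piece V ⟶ Z :=
  MorphismProperty.Over.homMk τ (by change τ ≫ Z.hom = V.ι; exact hτ) trivial

lemma hm_aux {S Y : Scheme.{u}} {V W : S.Opens} (hVW : V ≤ W) (σ : (W : Scheme.{u}) ⟶ Y)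
    (q : Y ⟶ S) (hσ : σ ≫ q = W.ι) : (S.homOfLE hVW ≫ σ) ≫ q = V.ι := by
  rw [Category.assoc, hσ, Scheme.homOfLE_ι]

set_option backward.isDefEq.respectTransparency.types false in
lemma sections_surjective (S : Scheme.{u}) [IsAffine S] (h1 : ∀ s : S, IsClosed ({s} : Set S))
    (h2 : ∀ s : S, IsSepClosed (S.residueField s)) (E G : EtCoh.Ab S) (ε : E ⟶ G) (hε : Epi ε) :
    Function.Surjective (ε.hom.app (op (EtCoh.top S))) := by
  intro t
  haveI : Sheaf.IsLocallySurjective ε :=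
    (Sheaf.isLocallySurjective_iff_epi' AddCommGrpCat.{u + 1} ε).2 hε
  have hmem := Presheaf.imageSieve_mem S.smallEtaleTopology ε.hom (U := op (EtCoh.top S)) t
  rw [EtGlue.mem_iff] at hmem
  have hmem' : ∀ x : S, ∃ (Z : S.Etale) (g : Z ⟶ EtCoh.top S) (z : Z.left),
      (∃ e : E.obj.obj (op Z), ε.hom.app (op Z) e = G.obj.map g.op t) ∧ g.left.base z = x := hmem
  choose Z g z he hz using hmem'
  choose e he using he
  have hsec : ∀ x : S, ∃ W : S.Opens, IsClosed (W : Set S) ∧ x ∈ W ∧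
      ∃ σ : (W : Scheme.{u}) ⟶ (Z x).left, σ ≫ (Z x).hom = W.ι := by
    intro x
    haveI : Etale (Z x).hom := (Z x).prop
    obtain ⟨W, hWc, hxW, σ, hσ⟩ := ZeroDimScheme.exists_clopen_section S h1 h2 (Z x).hom (z x)
    refine ⟨W, hWc, ?_, σ, hσ⟩
    have hw : (g x).left = (Z x).hom := by
      have h3 := MorphismProperty.Over.w (g x)
      rw [← h3]
      exact (Category.comp_id _).symm
    rw [← hz x, hw]
    exact hxW
  choose W hWc hxW σ hσ using hsec
  obtain ⟨t₀, ht₀⟩ := isCompact_univ.elim_finite_subcover (fun x => (W x : Set S))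
    (fun x => (W x).isOpen) (fun y _ => Set.mem_iUnion.2 ⟨y, hxW y⟩)
  obtain ⟨V, hVW, hdisj, -, hcov⟩ : ∃ V : S → S.Opens, (∀ s, V s ≤ W s) ∧
      (∀ s s', s ≠ s' → ∀ x, x ∈ V s → x ∉ V s') ∧
      (∀ s, s ∉ t₀ → V s = ⊥) ∧ (∀ x, (∃ s, x ∈ V s) ↔ ∃ s ∈ t₀, x ∈ W s) :=
    ZeroDimScheme.exists_disjoint_refinement W hWc t₀
  have hcov' : ∀ y : S, ∃ s, y ∈ V s := fun y => by
    rw [hcov]
    have h3 := ht₀ (Set.mem_univ y)
    simpa only [Set.mem_iUnion, SetLike.mem_coe, exists_prop] using h3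
  have hιmem : ∀ (s : S) (p : (piece (V s)).left), (pieceι (V s)).left.base p ∈ V s :=
    fun s p => by
      have h : (V s).ι.base p ∈ Set.range (V s).ι.base := ⟨p, rfl⟩
      rw [Scheme.Opens.range_ι] at h
      exact h
  have hdisj' : ∀ a b, a ≠ b → ∀ (p : (piece (V a)).left) (q : (piece (V b)).left),
      (pieceι (V a)).left.base p ≠ (pieceι (V b)).left.base q := fun a b hab p q hpq =>
    hdisj a b hab _ (hιmem a p) (by rw [hpq]; exact hιmem b q)
  have hcov'' : ∀ x : (EtCoh.top S).left, ∃ a p, (pieceι (V a)).left.base p = x := fun x => by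
    obtain ⟨a, ha⟩ := hcov' x
    have h : x ∈ Set.range (V a).ι.base := by rw [Scheme.Opens.range_ι]; exact ha
    obtain ⟨p, hp⟩ := h
    exact ⟨a, p, hp⟩
  have hm : ∀ a, (S.homOfLE (hVW a) ≫ σ a) ≫ (Z a).hom = (V a).ι := fun a =>
    hm_aux (hVW a) (σ a) (Z a).hom (hσ a)
  obtain ⟨e₀, he₀, -⟩ := EtGlue.glueAb E (fun s => piece (V s)) (fun s => pieceι (V s))
    (fun s => by show Mono (V s).ι; infer_instance) hdisj' hcov''
    (fun a => E.obj.map (pieceTo (V a) (Z a) _ (hm a)).op (e a))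
  refine ⟨e₀, ?_⟩
  refine EtGlue.eq_of_ofArrows (EtGlue.toSh G) (fun s => piece (V s)) (fun s => pieceι (V s))
    hcov'' _ _ (fun a => ?_)
  have hcomp : pieceTo (V a) (Z a) _ (hm a) ≫ g a = pieceι (V a) :=
    (EtCore.topIsTerminal S).hom_ext _ _
  have h1 : E.obj.map (pieceι (V a)).op e₀ =
      E.obj.map (pieceTo (V a) (Z a) _ (hm a)).op (e a) := he₀ a
  show G.obj.map (pieceι (V a)).op (ε.hom.app _ e₀) = G.obj.map (pieceι (V a)).op t
  rw [← EtGlue.ab_hom_nat ε, h1, EtGlue.ab_hom_nat ε, he a, ← EtGlue.ab_map_comp, ← op_comp, hcomp]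

/-- On an affine scheme all of whose points are closed and all of whose residue fields are separably
closed, every abelian étale sheaf has vanishing cohomology in positive degrees. -/
theorem result (S : Scheme.{u}) [IsAffine S] (h1 : ∀ s : S, IsClosed ({s} : Set S))
    (h2 : ∀ s : S, IsSepClosed (S.residueField s)) (F : EtCoh.Ab S) (i : ℕ) (hi : 1 ≤ i) :
    Subsingleton (EtCoh.H S F i) := by
  exact GammaExact.subsingleton_H (fun E G ε hε => sections_surjective S h1 h2 E G ε hε) F i hi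

end Groth.Agent.S0088
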