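-- Statement S0100.
import Groth.Statements.S0100
import Mathlib.CategoryTheory.Sites.Point.Comap
import Mathlib.CategoryTheory.Sites.Point.Category

set_option autoImplicit false
open CategoryTheory CategoryTheory.Limits AlgebraicGeometry Opposite
universe u
open EtBase

namespace Groth.Agent.S0100

universe w v₁ u₁

/-- An isomorphism of type-valued functors induces an equivalence of categories of elements. -/
def elementsEquivOfIso {C : Type u₁} [Category.{v₁} C] {F₁ F₂ : C ⥤ Type w} (e : F₁ ≅ F₂) :
    F₁.Elements ≌ F₂.Elements :=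
  CategoryTheory.Equivalence.mk (CategoryOfElements.map e.hom) (CategoryOfElements.map e.inv)
    (NatIso.ofComponents (fun x => CategoryOfElements.isoMk _ _ (Iso.refl _) (by
        have h : (e.inv.app x.fst) ((e.hom.app x.fst) x.snd) = x.snd := by
          rw [← NatTrans.comp_app_apply, e.hom_inv_id]; rfl
        exact (Functor.map_id_apply F₁ x.fst x.snd).trans h.symm))
      (by intro x y g; apply CategoryOfElements.ext
          exact (Category.comp_id _).trans (Category.id_comp _).symm))
    (NatIso.ofComponents (fun x => CategoryOfElements.isoMk _ _ (Iso.refl _) (by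
        have h : (e.hom.app x.fst) ((e.inv.app x.fst) x.snd) = x.snd := by
          rw [← NatTrans.comp_app_apply, e.inv_hom_id]; rfl
        exact (Functor.map_id_apply F₂ x.fst _).trans h))
      (by intro x y g; apply CategoryOfElements.ext
          exact (Category.comp_id _).trans (Category.id_comp _).symm))

/-- The fiber functor of the geometric point `ξ ≫ f` of `Y` is the composition of base change
with the fiber functor of `ξ`. -/
noncomputable def fiberIso {X Y : Scheme.{u}} (f : X ⟶ Y)
    {Ω : Type u} [Field Ω] [IsSepClosed Ω] (ξ : Spec (CommRingCat.of Ω) ⟶ X) :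
    EtCoh.bc f ⋙ (Scheme.pointSmallEtale ξ).fiber ≅ (Scheme.pointSmallEtale (ξ ≫ f)).fiber :=
  Functor.isoWhiskerRight
      (MorphismProperty.Over.pullbackCompForgetIso (P := EtCoh.etaleMP) (Q := ⊤) f)
      (coyoneda.obj (op (Over.mk ξ))) ≪≫
    Functor.isoWhiskerLeft (Scheme.Etale.forget Y)
      ((Adjunction.compCoyonedaIso (Over.mapPullbackAdj f)).app (op (Over.mk ξ))).symm

/-- Let f : X ⟶ Y be a morphism of schemes, G an abelian sheaf on the small étale site of Y and ξ : Spec
Ω ⟶ X a geometric point of X (Ω a separably closed field). Then the stalk of the inverse image f⁻¹G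
at ξ is isomorphic to the stalk of G at the image geometric point ξ ≫ f of Y. Only the existence of
an isomorphism is asserted; the published identification is canonical. -/
theorem result {X Y : Scheme.{u}} (f : X ⟶ Y) [EtCoh.BCCont f] (G : EtCoh.Ab Y)
    {Ω : Type u} [Field Ω] [IsSepClosed Ω] (ξ : Spec (CommRingCat.of Ω) ⟶ X) :
    Nonempty ((EtCoh.stalk ξ).obj ((EtCoh.pull f).obj G) ≅ (EtCoh.stalk (ξ ≫ f)).obj G) := by
  let Φ := Scheme.pointSmallEtale ξ
  let Ψ := Scheme.pointSmallEtale (ξ ≫ f)
  let α := fiberIso f ξ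
  have hsmall : InitiallySmall.{u} (EtCoh.bc f ⋙ Φ.fiber).Elements :=
    initiallySmall_of_initial_of_initiallySmall (elementsEquivOfIso α).inverse
  let Φ' : Y.smallEtaleTopology.Point := Φ.comap (EtCoh.bc f) (EtCoh.coverPreserving_bc f)
  let e : Φ' ≅ Ψ := ⟨⟨α.inv⟩, ⟨α.hom⟩, by ext1; exact α.hom_inv_id, by ext1; exact α.inv_hom_id⟩
  let e2 : Ψ.sheafFiber (A := AddCommGrpCat.{u+1}) ≅ Φ'.sheafFiber :=
    ⟨e.hom.sheafFiber, e.inv.sheafFiber,
      by rw [← GrothendieckTopology.Point.Hom.sheafFiber_comp, e.inv_hom_id,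
        GrothendieckTopology.Point.Hom.sheafFiber_id],
      by rw [← GrothendieckTopology.Point.Hom.sheafFiber_comp, e.hom_inv_id,
        GrothendieckTopology.Point.Hom.sheafFiber_id]⟩
  let e3 := GrothendieckTopology.Point.sheafFiberComapIso Φ (EtCoh.bc f)
    (EtCoh.coverPreserving_bc f) AddCommGrpCat.{u+1}
  exact ⟨(e3.app G).symm ≪≫ (e2.app G).symm⟩

end Groth.Agent.S0100
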