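-- Statement S0102.
import Groth.Statements.S0102
import Mathlib.AlgebraicGeometry.Morphisms.UniversallyOpen

set_option autoImplicit false
open CategoryTheory CategoryTheory.Limits AlgebraicGeometry Opposite
universe u
open EtBase

namespace Groth.Agent.S0102

/-- A section of an abelian étale sheaf over an étale scheme U vanishes on pullback to an étale V → U
exactly when V maps into a certain largest open subset of U. -/
theorem result {S : Scheme.{u}} (F : EtCoh.Ab S) (U : S.Etale) (σ : EtCoh.sect F U) :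
    ∃ W : U.left.Opens, ∀ (V : S.Etale) (φ : V ⟶ U),
      F.obj.map φ.op σ = 0 ↔ Set.range φ.left.base ⊆ (W : Set U.left) := by
  classical
  have comp_app : ∀ {A B C : S.Etale} (a : A ⟶ B) (b : B ⟶ C) (x : F.obj.obj (op C)),
      F.obj.map (a ≫ b).op x = F.obj.map a.op (F.obj.map b.op x) := by
    intro A B C a b x
    rw [op_comp, F.obj.map_comp]
    rfl
  let Wset : Set U.left := {u | ∃ (V : S.Etale) (φ : V ⟶ U),
    F.obj.map φ.op σ = 0 ∧ u ∈ Set.range φ.left.base}
  have hopen : IsOpen Wset := by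
    rw [isOpen_iff_forall_mem_open]
    rintro u ⟨V, φ, hφ, hu⟩
    exact ⟨Set.range φ.left.base, fun u' hu' => ⟨V, φ, hφ, hu'⟩,
      φ.left.isOpenMap.isOpen_range, hu⟩
  refine ⟨⟨Wset, hopen⟩, fun V φ => ⟨fun h u hu => ⟨V, φ, h, hu⟩, fun h => ?_⟩⟩
  have key : ∀ v : V.left, ∃ (V' : S.Etale) (ψ : V' ⟶ U),
      F.obj.map ψ.op σ = 0 ∧ φ.left.base v ∈ Set.range ψ.left.base := fun v => h ⟨v, rfl⟩
  choose V' ψ hψ hv using key
  let P : V.left → S.Etale := fun v => Scheme.Etale.mk (pullback.fst φ.left (ψ v).left ≫ V.hom)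
  let p : ∀ v, P v ⟶ V := fun v =>
    MorphismProperty.Over.homMk (pullback.fst φ.left (ψ v).left) rfl trivial
  let q : ∀ v, P v ⟶ V' v := fun v =>
    MorphismProperty.Over.homMk (pullback.snd φ.left (ψ v).left) (by
      have h1 : (ψ v).left ≫ U.hom = (V' v).hom := CategoryTheory.Over.w (ψ v).hom
      have h2 : φ.left ≫ U.hom = V.hom := CategoryTheory.Over.w φ.hom
      change pullback.snd φ.left (ψ v).left ≫ (V' v).hom = pullback.fst φ.left (ψ v).left ≫ V.hom
      rw [← h1, ← h2, ← Category.assoc, ← Category.assoc, pullback.condition]) trivial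
  have hpq : ∀ v, p v ≫ φ = q v ≫ ψ v := by
    intro v
    apply MorphismProperty.Over.Hom.ext
    exact pullback.condition
  have hcov : Sieve.ofArrows _ p ∈ S.smallEtaleTopology V := by
    rw [Scheme.ofArrows_mem_smallEtaleTopology_iff]
    ext v
    simp only [Set.mem_iUnion, Set.mem_univ, iff_true]
    obtain ⟨w, hw⟩ := hv v
    obtain ⟨z, hz1, hz2⟩ := Scheme.Pullback.exists_preimage_pullback
      (f := φ.left) (g := (ψ v).left) v w hw.symm
    exact ⟨v, z, hz1⟩
  have hsh : Presieve.IsSheaf S.smallEtaleTopology (F.obj ⋙ forget AddCommGrpCat) :=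
    (isSheaf_iff_isSheaf_of_type _ _).mp
      ((Presheaf.isSheaf_iff_isSheaf_forget _ _ (forget AddCommGrpCat)).mp F.cond)
  have hsep := (hsh _ hcov).isSeparatedFor
  refine hsep.ext ?_
  rintro Y f ⟨Z, g, _, ⟨v⟩, rfl⟩
  change F.obj.map (g ≫ p v).op (F.obj.map φ.op σ) = F.obj.map (g ≫ p v).op 0
  rw [map_zero, ← comp_app, Category.assoc, hpq, comp_app, comp_app, hψ, map_zero, map_zero]

end Groth.Agent.S0102
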