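import Groth.Statements.S0105
import Mathlib.AlgebraicGeometry.Morphisms.UniversallyOpen

set_option autoImplicit false
open CategoryTheory CategoryTheory.Limits AlgebraicGeometry Opposite
universe u
open EtBase

namespace Groth.Agent.S0105

section Germ

variable {X : Scheme.{u}} (Φ : GrothendieckTopology.Point.{u} X.smallEtaleTopology)
  (V : X.Etale) (M : AddCommGrpCat.{u + 1})

lemma sk_map_π {W W' : X.Etale} (g : W' ⟶ W) (y : Φ.fiber.obj W') :
    (Φ.skyscraperSheaf M).obj.map g.op ≫ Pi.π (fun _ : Φ.fiber.obj W' => M) y =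
      Pi.π (fun _ : Φ.fiber.obj W => M) (Φ.fiber.map g y) :=
  (Pi.map'_comp_π _ _ _).trans (Category.comp_id _)

/-- constant presheaf on Over V -/
noncomputable abbrev cP : (Over V)ᵒᵖ ⥤ AddCommGrpCat.{u + 1} := (Functor.const _).obj M

/-- constant sheaf on Over V -/
noncomputable abbrev cS : Sheaf (X.smallEtaleTopology.over V) AddCommGrpCat.{u + 1} :=
  (constantSheaf (X.smallEtaleTopology.over V) AddCommGrpCat.{u + 1}).obj M

/-- restricted skyscraper -/
noncomputable abbrev skV : Sheaf (X.smallEtaleTopology.over V) AddCommGrpCat.{u + 1} :=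
  (Φ.skyscraperSheaf M).over V

noncomputable def delta : cP V M ⟶ (skV Φ V M).obj where
  app Y := Pi.lift (fun _ => 𝟙 M)
  naturality Y Y' f := by
    refine Pi.hom_ext _ _ (fun y => ?_)
    have h1 := sk_map_π Φ M f.unop.left y
    refine (Category.assoc _ _ _).trans ?_
    refine Eq.trans ?_ (Category.assoc _ _ _).symm
    refine Eq.trans (congrArg (_ ≫ ·) (Pi.lift_π _ _)) ?_
    refine Eq.trans ?_ (congrArg (_ ≫ ·) h1.symm)
    exact (Category.id_comp _).trans (Pi.lift_π (fun _ => 𝟙 M) _).symm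

/-- the comparison map from the constant sheaf to the restricted skyscraper -/
noncomputable def sigma : (cS V M).obj ⟶ (skV Φ V M).obj :=
  sheafifyLift (X.smallEtaleTopology.over V) (delta Φ V M) (skV Φ V M).property

/-- canonical map M → const M (Y) -/
noncomputable def cmap (Y : Over V) : M ⟶ (cS V M).obj.obj (op Y) :=
  (toSheafify (X.smallEtaleTopology.over V) (cP V M)).app (op Y)

/-- germ of a section of the constant sheaf -/
noncomputable def germ (Y : Over V) (y : Φ.fiber.obj Y.left) : (cS V M).obj.obj (op Y) ⟶ M :=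
  (sigma Φ V M).app (op Y) ≫ Pi.π (fun _ : Φ.fiber.obj Y.left => M) y

lemma cmap_germ (Y : Over V) (y : Φ.fiber.obj Y.left) :
    cmap V M Y ≫ germ Φ V M Y y = 𝟙 M := by
  have h := congrArg (fun η => η.app (op Y))
    (toSheafify_sheafifyLift (X.smallEtaleTopology.over V) (delta Φ V M) (skV Φ V M).property)
  refine (Category.assoc _ _ _).symm.trans ?_
  refine Eq.trans (congrArg (· ≫ _) h) ?_
  exact Pi.lift_π (fun _ => 𝟙 M) y

lemma cmap_map {Y Y' : Over V} (g : Y' ⟶ Y) :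
    cmap V M Y ≫ (cS V M).obj.map g.op = cmap V M Y' := by
  have h := (toSheafify (X.smallEtaleTopology.over V) (cP V M)).naturality g.op
  exact h.symm.trans (Category.id_comp _)

lemma germ_map {Y Y' : Over V} (g : Y' ⟶ Y) (y' : Φ.fiber.obj Y'.left) :
    (cS V M).obj.map g.op ≫ germ Φ V M Y' y' = germ Φ V M Y (Φ.fiber.map g.left y') := by
  have h := (sigma Φ V M).naturality g.op
  have h1 := sk_map_π Φ M g.left y'
  refine (Category.assoc _ _ _).symm.trans ?_
  refine Eq.trans (congrArg (· ≫ _) h) ?_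
  refine (Category.assoc _ _ _).trans ?_
  exact congrArg (_ ≫ ·) h1

/-- every section of the constant sheaf is, near a point, a constant section -/
lemma exists_const (Y : Over V) (y : Φ.fiber.obj Y.left) (t : (cS V M).obj.obj (op Y)) :
    ∃ (Y' : Over V) (g : Y' ⟶ Y) (y' : Φ.fiber.obj Y'.left) (m : M),
      Φ.fiber.map g.left y' = y ∧ cmap V M Y' m = (cS V M).obj.map g.op t := by
  have hmem := Presheaf.imageSieve_mem (X.smallEtaleTopology.over V)
    (toSheafify (X.smallEtaleTopology.over V) (cP V M)) (U := op Y) t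
  rw [GrothendieckTopology.mem_over_iff] at hmem
  obtain ⟨Z, f, hf, z, hz⟩ := Φ.jointly_surjective _ hmem y
  rw [Sieve.overEquiv_iff] at hf
  obtain ⟨m, hm⟩ := hf
  exact ⟨Over.mk (f ≫ Y.hom), Over.homMk f, z, m, hz, hm⟩

end Germ

section Stalk

instance presFilt : PreservesFilteredColimitsOfSize.{u, u} (forget AddCommGrpCat.{u + 1}) :=
  preservesFilteredColimitsOfSize_of_univLE.{u + 1, u + 1, u, u} _

variable {X : Scheme.{u}} (Φ : GrothendieckTopology.Point.{u} X.smallEtaleTopology)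
  (V : X.Etale) (M : AddCommGrpCat.{u + 1}) (F : EtCoh.Ab X) (φ : F.over V ≅ cS V M)
  (v : Φ.fiber.obj V)

/-- the comparison map `M → F_Φ` -/
noncomputable def toStalk : M ⟶ Φ.presheafFiber.obj F.obj :=
  cmap V M (Over.mk (𝟙 V)) ≫ φ.inv.hom.app (op (Over.mk (𝟙 V))) ≫ Φ.toPresheafFiber V v F.obj

lemma toStalk_apply (m : M) : toStalk Φ V M F φ v m =
    Φ.toPresheafFiber V v F.obj
      (φ.inv.hom.app (op (Over.mk (𝟙 V))) (cmap V M (Over.mk (𝟙 V)) m)) := rfl

lemma inv_nat {Y Y' : Over V} (g : Y' ⟶ Y) (t : (cS V M).obj.obj (op Y)) :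
    φ.inv.hom.app (op Y') ((cS V M).obj.map g.op t) =
      F.obj.map g.left.op (φ.inv.hom.app (op Y) t) :=
  ConcreteCategory.congr_hom (φ.inv.hom.naturality g.op) t

lemma hom_nat {Y Y' : Over V} (g : Y' ⟶ Y) (s : F.obj.obj (op Y.left)) :
    φ.hom.hom.app (op Y') (F.obj.map g.left.op s) =
      (cS V M).obj.map g.op (φ.hom.hom.app (op Y) s) :=
  ConcreteCategory.congr_hom (φ.hom.hom.naturality g.op) s

lemma hom_inv_apply (Y : Over V) (s : F.obj.obj (op Y.left)) :
    φ.inv.hom.app (op Y) (φ.hom.hom.app (op Y) s) = s := by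
  have h := congrArg (fun η => η.hom.app (op Y)) φ.hom_inv_id
  exact ConcreteCategory.congr_hom h s

lemma inv_hom_apply (Y : Over V) (t : (cS V M).obj.obj (op Y)) :
    φ.hom.hom.app (op Y) (φ.inv.hom.app (op Y) t) = t := by
  have h := congrArg (fun η => η.hom.app (op Y)) φ.inv_hom_id
  exact ConcreteCategory.congr_hom h t

lemma cmap_map_apply {Y Y' : Over V} (g : Y' ⟶ Y) (m : M) :
    (cS V M).obj.map g.op (cmap V M Y m) = cmap V M Y' m :=
  ConcreteCategory.congr_hom (cmap_map V M g) m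

lemma cmap_germ_apply (Y : Over V) (y : Φ.fiber.obj Y.left) (m : M) :
    germ Φ V M Y y (cmap V M Y m) = m :=
  ConcreteCategory.congr_hom (cmap_germ Φ V M Y y) m

lemma toStalk_injective : Function.Injective (toStalk Φ V M F φ v) := by
  refine (injective_iff_map_eq_zero (toStalk Φ V M F φ v).hom).2 (fun m hm => ?_)
  have h0 : Φ.toPresheafFiber V v F.obj
      (φ.inv.hom.app (op (Over.mk (𝟙 V))) (cmap V M (Over.mk (𝟙 V)) m)) =
      Φ.toPresheafFiber V v F.obj 0 := by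
    rw [map_zero]; exact hm
  rw [Φ.toPresheafFiber_eq_iff' (P := F.obj)] at h0
  obtain ⟨W, g, w, hw, hg⟩ := h0
  let g' : Over.mk g ⟶ Over.mk (𝟙 V) := Over.homMk g (Category.comp_id _)
  have h1 := inv_nat V M F φ g' (cmap V M (Over.mk (𝟙 V)) m)
  rw [cmap_map_apply] at h1
  have h2 : φ.inv.hom.app (op (Over.mk g)) (cmap V M (Over.mk g) m) = 0 := by
    rw [h1]; exact hg.trans (map_zero _)
  have h3 := inv_hom_apply V M F φ (Over.mk g) (cmap V M (Over.mk g) m)
  rw [h2, map_zero] at h3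
  have h4 := cmap_germ_apply Φ V M (Over.mk g) w m
  rw [← h3, map_zero] at h4
  exact h4.symm

lemma fiber_map_comp_apply {A B C : X.Etale} (f : A ⟶ B) (g : B ⟶ C) (a : Φ.fiber.obj A) :
    Φ.fiber.map (f ≫ g) a = Φ.fiber.map g (Φ.fiber.map f a) := by
  have h := ConcreteCategory.congr_hom (Φ.fiber.map_comp f g) a
  exact h.trans (ConcreteCategory.comp_apply _ _ _)

lemma exists_common (W V : X.Etale) (w : Φ.fiber.obj W) (v : Φ.fiber.obj V) :
    ∃ (W' : X.Etale) (w' : Φ.fiber.obj W') (a : W' ⟶ W) (b : W' ⟶ V),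
      Φ.fiber.map a w' = w ∧ Φ.fiber.map b w' = v := by
  let eW : Φ.fiber.Elements := ⟨W, w⟩
  let eV : Φ.fiber.Elements := ⟨V, v⟩
  exact ⟨(IsCofiltered.min eW eV).1, (IsCofiltered.min eW eV).2,
    (IsCofiltered.minToLeft eW eV).1, (IsCofiltered.minToRight eW eV).1,
    (IsCofiltered.minToLeft eW eV).2, (IsCofiltered.minToRight eW eV).2⟩

lemma toStalk_surjective : Function.Surjective (toStalk Φ V M F φ v) := by
  intro q
  obtain ⟨W, w, s, rfl⟩ := Φ.toPresheafFiber_jointly_surjective (P := F.obj) q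
  obtain ⟨W', w', a, b, ha, hb⟩ := exists_common Φ W V w v
  obtain ⟨Y', g, y', m', hy', hm'⟩ := exists_const Φ V M (Over.mk b) w'
    (φ.hom.hom.app (op (Over.mk b)) (F.obj.map a.op s))
  refine ⟨m', ?_⟩
  rw [toStalk_apply]
  have hv : Φ.fiber.map Y'.hom y' = v := by
    have hw : g.left ≫ b = Y'.hom := Over.w g
    rw [← hw, fiber_map_comp_apply, hy', hb]
  have e1 : Φ.toPresheafFiber W w F.obj s =
      Φ.toPresheafFiber Y'.left y' F.obj (F.obj.map g.left.op (F.obj.map a.op s)) := by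
    rw [Φ.toPresheafFiber_w_apply, Φ.toPresheafFiber_w_apply, hy', ha]
  have e2 : Φ.toPresheafFiber V v F.obj
      (φ.inv.hom.app (op (Over.mk (𝟙 V))) (cmap V M (Over.mk (𝟙 V)) m')) =
      Φ.toPresheafFiber Y'.left y' F.obj (F.obj.map Y'.hom.op
        (φ.inv.hom.app (op (Over.mk (𝟙 V))) (cmap V M (Over.mk (𝟙 V)) m'))) := by
    rw [Φ.toPresheafFiber_w_apply, hv]
  rw [e1, e2]
  congr 1
  let k : Y' ⟶ Over.mk (𝟙 V) := Over.homMk Y'.hom (Category.comp_id _)
  have h1 := inv_nat V M F φ k (cmap V M (Over.mk (𝟙 V)) m')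
  rw [cmap_map_apply, hm'] at h1
  have h2 := hom_nat V M F φ g (F.obj.map a.op s)
  rw [← h2, hom_inv_apply] at h1
  exact h1.symm

lemma iso_of_common_point (V₁ V₂ : X.Etale) (M₁ M₂ : AddCommGrpCat.{u + 1})
    (φ₁ : F.over V₁ ≅ cS V₁ M₁) (φ₂ : F.over V₂ ≅ cS V₂ M₂)
    (v₁ : Φ.fiber.obj V₁) (v₂ : Φ.fiber.obj V₂) : Nonempty (M₁ ≅ M₂) := by
  have h1 : IsIso (toStalk Φ V₁ M₁ F φ₁ v₁) :=
    (ConcreteCategory.isIso_iff_bijective _).2
      ⟨toStalk_injective Φ V₁ M₁ F φ₁ v₁, toStalk_surjective Φ V₁ M₁ F φ₁ v₁⟩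
  have h2 : IsIso (toStalk Φ V₂ M₂ F φ₂ v₂) :=
    (ConcreteCategory.isIso_iff_bijective _).2
      ⟨toStalk_injective Φ V₂ M₂ F φ₂ v₂, toStalk_surjective Φ V₂ M₂ F φ₂ v₂⟩
  exact ⟨asIso (toStalk Φ V₁ M₁ F φ₁ v₁) ≪≫ (asIso (toStalk Φ V₂ M₂ F φ₂ v₂)).symm⟩

end Stalk

lemma exists_geom {X : Scheme.{u}} (x : X) : ∃ (Ω : Type u) (_ : Field Ω) (_ : IsSepClosed Ω)
    (ξ : Spec (CommRingCat.of Ω) ⟶ X), ξ.base default = x :=
  ⟨SeparableClosure (X.residueField x), inferInstance, inferInstance,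
    (Scheme.SpecToEquivOfField (SeparableClosure (X.residueField x)) _).2
      ⟨x, CommRingCat.ofHom (algebraMap (X.residueField x) _)⟩,
    by simp [Scheme.SpecToEquivOfField]⟩

/-- On a connected scheme X, a finite locally constant abelian sheaf F on the small étale site is, étale
locally, constant with one and the same finite group everywhere: there are a finite abelian group M
and an étale covering (U_i) of X such that the restriction of F to every U_i is isomorphic to the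
constant sheaf with value M. (The published statement covers arbitrary locally constant sheaves of
modules; stated here for finite locally constant abelian sheaves.) -/
theorem result {X : Scheme.{u}} [ConnectedSpace X] (F : EtCoh.Ab X) (h : EtCoh.IsFiniteLocallyConstant F) :
    ∃ (M : Type) (_ : AddCommGroup M) (_ : Finite M) (ι : Type u) (U : ι → X.Etale), EtCoh.Covers U ∧
      ∀ i, Nonempty (EtCoh.restr F (U i) ≅
        (constantSheaf (X.smallEtaleTopology.over (U i)) AddCommGrpCat.{u + 1}).obj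
          (AddCommGrpCat.of (ULift.{u + 1} M))) := by
  obtain ⟨ι, U, hU, hloc⟩ := h
  choose M instG instF hφ using hloc
  have key : ∀ (i j : ι) (yi : (U i).left) (yj : (U j).left),
      (U i).hom.base yi = (U j).hom.base yj →
      Nonempty (AddCommGrpCat.of (ULift.{u + 1} (M i)) ≅ AddCommGrpCat.of (ULift.{u + 1} (M j))) := by
    intro i j yi yj hij
    obtain ⟨Ω, _, _, ξ, hξ⟩ := exists_geom ((U i).hom.base yi)
    obtain ⟨vi, -⟩ := Scheme.pointSmallEtaleFiberObjToPreimage_surjective ξ hξ (U i) ⟨yi, rfl⟩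
    obtain ⟨vj, -⟩ := Scheme.pointSmallEtaleFiberObjToPreimage_surjective ξ hξ (U j) ⟨yj, hij.symm⟩
    obtain ⟨φi⟩ := hφ i
    obtain ⟨φj⟩ := hφ j
    exact iso_of_common_point (Scheme.pointSmallEtale ξ) F (U i) (U j) _ _ φi φj vi vj
  obtain ⟨x₀⟩ := (inferInstance : Nonempty X)
  obtain ⟨i₀, y₀, hy₀⟩ := hU x₀
  obtain ⟨A₀, hA₀⟩ : ∃ A₀ : AddCommGrpCat.{u + 1}, A₀ = AddCommGrpCat.of (ULift.{u + 1} (M i₀)) :=
    ⟨_, rfl⟩
  obtain ⟨S, hS⟩ : ∃ S : Set X, S = {x | ∃ (i : ι) (y : (U i).left), (U i).hom.base y = x ∧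
      Nonempty (AddCommGrpCat.of (ULift.{u + 1} (M i)) ≅ A₀)} := ⟨_, rfl⟩
  obtain ⟨T, hT⟩ : ∃ T : Set X, T = {x | ∃ (i : ι) (y : (U i).left), (U i).hom.base y = x ∧
      ¬ Nonempty (AddCommGrpCat.of (ULift.{u + 1} (M i)) ≅ A₀)} := ⟨_, rfl⟩
  have hopen : ∀ i, IsOpen (Set.range (U i).hom.base) := fun i => by
    haveI : Etale (U i).hom := (U i).prop
    exact (U i).hom.isOpenMap.isOpen_range
  have hSo : IsOpen S := by
    rw [isOpen_iff_forall_mem_open]
    intro x hx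
    rw [hS] at hx
    obtain ⟨i, y, hy, hi⟩ := hx
    refine ⟨Set.range (U i).hom.base, ?_, hopen i, ⟨y, hy⟩⟩
    rintro _ ⟨y', rfl⟩
    rw [hS]
    exact ⟨i, y', rfl, hi⟩
  have hTo : IsOpen T := by
    rw [isOpen_iff_forall_mem_open]
    intro x hx
    rw [hT] at hx
    obtain ⟨i, y, hy, hi⟩ := hx
    refine ⟨Set.range (U i).hom.base, ?_, hopen i, ⟨y, hy⟩⟩
    rintro _ ⟨y', rfl⟩
    rw [hT]
    exact ⟨i, y', rfl, hi⟩
  have hcompl : Sᶜ = T := by
    ext x
    constructor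
    · intro hx
      obtain ⟨i, y, hy⟩ := hU x
      rw [hT]
      refine ⟨i, y, hy, fun hi => hx ?_⟩
      rw [hS]
      exact ⟨i, y, hy, hi⟩
    · intro hx hx'
      rw [hT] at hx
      rw [hS] at hx'
      obtain ⟨j, yj, hyj, hj⟩ := hx
      obtain ⟨i, yi, hyi, ⟨hi⟩⟩ := hx'
      obtain ⟨e⟩ := key j i yj yi (hyj.trans hyi.symm)
      exact hj ⟨e ≪≫ hi⟩
  have hSc : IsClopen S := ⟨by rw [← isOpen_compl_iff, hcompl]; exact hTo, hSo⟩
  have hSu : S = Set.univ := by
    refine hSc.eq_univ ⟨x₀, ?_⟩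
    rw [hS]
    exact ⟨i₀, y₀, hy₀, ⟨eqToIso hA₀.symm⟩⟩
  refine ⟨M i₀, instG i₀, instF i₀,
    {i : ι // Nonempty (AddCommGrpCat.of (ULift.{u + 1} (M i)) ≅ A₀)}, fun i => U i.1, ?_, ?_⟩
  · intro x
    have hx : x ∈ S := hSu ▸ Set.mem_univ x
    rw [hS] at hx
    obtain ⟨i, y, hy, hi⟩ := hx
    exact ⟨⟨i, hi⟩, y, hy⟩
  · rintro ⟨i, ⟨e⟩⟩
    obtain ⟨φ⟩ := hφ i
    subst hA₀
    exact ⟨φ ≪≫ (constantSheaf (X.smallEtaleTopology.over (U i)) AddCommGrpCat.{u + 1}).mapIso e⟩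

end Groth.Agent.S0105
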