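import Groth.Statements.S0116
import Mathlib

set_option autoImplicit false
open CategoryTheory CategoryTheory.Limits AlgebraicGeometry Opposite
universe u
open EtBase

namespace Groth.Agent.S0116

theorem isNoetherianRing_of_faithfullyFlat {B A : Type u} [CommRing B] [CommRing A] (φ : B →+* A)
    (hφ : φ.FaithfullyFlat) [IsNoetherianRing A] : IsNoetherianRing B := by
  algebraize [φ]
  have hinj : Function.Injective (fun I : Ideal B => I.map (algebraMap B A)) := by
    intro I J h
    have := congrArg (Ideal.comap (algebraMap B A)) h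
    simpa [Ideal.comap_map_eq_self_of_faithfullyFlat] using this
  have hmono' : Monotone (fun I : Ideal B => I.map (algebraMap B A)) :=
    fun I J h => Ideal.map_mono h
  have hmono : StrictMono (fun I : Ideal B => I.map (algebraMap B A)) :=
    hmono'.strictMono_of_injective hinj
  haveI : WellFoundedGT (Ideal A) := inferInstance
  haveI : WellFoundedGT (Ideal B) := hmono.wellFoundedGT
  exact isNoetherian_iff'.mpr inferInstance

/-- If f : X → Y is surjective, flat and locally of finite presentation and X is locally Noetherian,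
then Y is locally Noetherian. (This is the descent half of the statement that, for such f, X is
locally Noetherian if and only if Y is; the ascent half is the fact that a scheme locally of finite
type over a locally Noetherian scheme is locally Noetherian, and is not stated here.) -/
theorem result {X Y : Scheme.{u}} (f : X ⟶ Y) [Surjective f] [Flat f] [LocallyOfFinitePresentation f]
    [IsLocallyNoetherian X] : IsLocallyNoetherian Y := by
  have key : ∀ y : Y, ∃ W : Y.affineOpens, y ∈ W.1 ∧ IsNoetherianRing Γ(Y, W.1) := by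
    intro y
    obtain ⟨x, rfl⟩ := f.surjective y
    obtain ⟨V, hV, hxV, -⟩ := TopologicalSpace.Opens.isBasis_iff_nbhd.mp Y.isBasis_affineOpens
      (U := ⊤) (x := f x) trivial
    obtain ⟨U, hU, hxU, hUV⟩ := TopologicalSpace.Opens.isBasis_iff_nbhd.mp X.isBasis_affineOpens
      (U := f ⁻¹ᵁ V) (x := x) hxV
    have hopen : IsOpen (f '' (U : Set X)) := f.isOpenMap _ U.2
    let O : Y.Opens := ⟨f '' U, hopen⟩
    obtain ⟨b, hb1, hb2⟩ := hV.exists_basicOpen_le (V := O) ⟨f x, ⟨x, hxU, rfl⟩⟩ hxV
    obtain ⟨b', hb'⟩ : ∃ b', b' = f.appLE V U hUV b := ⟨_, rfl⟩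
    have hUb : IsAffineOpen (X.basicOpen b') := hU.basicOpen b'
    have hDb : IsAffineOpen (Y.basicOpen b) := hV.basicOpen b
    have hbasic : X.basicOpen b' = U ⊓ f ⁻¹ᵁ Y.basicOpen b := by
      rw [hb', Scheme.Hom.appLE, CommRingCat.comp_apply, Scheme.basicOpen_res,
        Scheme.preimage_basicOpen]
    have hle : X.basicOpen b' ≤ f ⁻¹ᵁ Y.basicOpen b := hbasic ▸ inf_le_right
    refine ⟨⟨Y.basicOpen b, hDb⟩, hb2, ?_⟩
    haveI : IsNoetherianRing Γ(X, X.basicOpen b') :=
      IsLocallyNoetherian.component_noetherian ⟨_, hUb⟩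
    apply isNoetherianRing_of_faithfullyFlat (f.appLE (Y.basicOpen b) (X.basicOpen b') hle).hom
    rw [RingHom.FaithfullyFlat.iff_flat_and_comap_surjective]
    refine ⟨f.flat_appLE hDb hUb hle, ?_⟩
    intro p
    have hy' : hDb.fromSpec p ∈ Y.basicOpen b := by
      have := hDb.range_fromSpec
      rw [Set.ext_iff] at this
      exact (this _).mp ⟨p, rfl⟩
    obtain ⟨x', hx'U, hx'⟩ := hb1 hy'
    have hx'b : x' ∈ X.basicOpen b' := by
      rw [hbasic]
      refine ⟨hx'U, ?_⟩
      change f x' ∈ Y.basicOpen b
      rw [hx']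
      exact hy'
    obtain ⟨q, hq⟩ : ∃ q, hUb.fromSpec q = x' := by
      have := hUb.range_fromSpec
      rw [Set.ext_iff] at this
      exact (this x').mpr hx'b
    refine ⟨q, ?_⟩
    apply hDb.fromSpec.isOpenEmbedding.injective
    have h1 := congrArg (fun g => g.base q) (hDb.SpecMap_appLE_fromSpec f hUb hle)
    simp only [Scheme.Hom.comp_base, TopCat.comp_app] at h1
    rw [hq, hx'] at h1
    exact h1
  choose W hW1 hW2 using key
  refine isLocallyNoetherian_of_affine_cover (S := W) ?_ hW2
  rw [eq_top_iff]
  intro y _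
  exact TopologicalSpace.Opens.mem_iSup.mpr ⟨y, hW1 y⟩

end Groth.Agent.S0116
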