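import Groth.Statements.S0117
import Groth.Agent.Lib.Helper15.ThickLift

set_option autoImplicit false
open CategoryTheory CategoryTheory.Limits AlgebraicGeometry Opposite
universe u
open EtBase

namespace Groth.Agent.S0117


open Groth.Agent.Lib.Helper15

/-- Topological invariance of étale morphisms, first-order form — for X étale over S and any S-scheme Y,
base change to a closed subscheme S₀ with the same underlying space gives a bijection between
S-morphisms Y → X and S₀-morphisms of the base changes. -/
theorem result {S S₀ : Scheme.{u}} (i : S₀ ⟶ S) [IsClosedImmersion i] [Surjective i]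
    (X Y : Over S) [AlgebraicGeometry.Etale X.hom] :
    Function.Bijective (fun φ : Y ⟶ X => (Over.pullback i).map φ) := by
  haveI : IsClosedImmersion (Limits.pullback.fst Y.hom i) := inferInstance
  haveI : Surjective (Limits.pullback.fst Y.hom i) := inferInstance
  constructor
  · intro φ ψ h
    have h1 : ((Over.pullback i).map φ).left ≫ Limits.pullback.fst X.hom i =
        ((Over.pullback i).map ψ).left ≫ Limits.pullback.fst X.hom i := by
      dsimp only at h
      rw [h]
    have h2 : Limits.pullback.fst Y.hom i ≫ φ.left = Limits.pullback.fst Y.hom i ≫ ψ.left := by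
      have e1 : ((Over.pullback i).map φ).left ≫ Limits.pullback.fst X.hom i =
          Limits.pullback.fst Y.hom i ≫ φ.left := Limits.pullback.lift_fst _ _ _
      have e2 : ((Over.pullback i).map ψ).left ≫ Limits.pullback.fst X.hom i =
          Limits.pullback.fst Y.hom i ≫ ψ.left := Limits.pullback.lift_fst _ _ _
      rw [← e1, ← e2, h1]
    apply Over.OverMorphism.ext
    exact ThickLift.unique_lift X.hom Y.hom (Limits.pullback.fst Y.hom i) φ.left ψ.left
      (Over.w φ) (Over.w ψ) h2
  · intro h
    have hw : h.left ≫ Limits.pullback.snd X.hom i = Limits.pullback.snd Y.hom i := Over.w h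
    have h₀ : (h.left ≫ Limits.pullback.fst X.hom i) ≫ X.hom =
        Limits.pullback.fst Y.hom i ≫ Y.hom := by
      rw [Category.assoc, Limits.pullback.condition, ← Category.assoc, hw,
        Limits.pullback.condition]
    obtain ⟨f, hf1, hf2⟩ := ThickLift.exists_lift X.hom Y.hom (Limits.pullback.fst Y.hom i)
      (h.left ≫ Limits.pullback.fst X.hom i) h₀
    refine ⟨Over.homMk f hf1, ?_⟩
    apply Over.OverMorphism.ext
    apply Limits.pullback.hom_ext
    · have e1 : ((Over.pullback i).map (Over.homMk f hf1 : Y ⟶ X)).left ≫
          Limits.pullback.fst X.hom i = Limits.pullback.fst Y.hom i ≫ f :=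
        Limits.pullback.lift_fst _ _ _
      rw [e1, hf2]
    · have e2 : ((Over.pullback i).map (Over.homMk f hf1 : Y ⟶ X)).left ≫
          Limits.pullback.snd X.hom i = Limits.pullback.snd Y.hom i :=
        Limits.pullback.lift_snd _ _ _
      rw [e2, hw]

end Groth.Agent.S0117
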