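import Groth.Statements.S0124
import Groth.Agent.Lib.Helper5.LTorsion

set_option autoImplicit false
universe u
open CategoryTheory CategoryTheory.Limits AlgebraicGeometry Opposite
open EtPBC

namespace Groth.Agent.S0124


lemma primesIn_univ_iff (m : ℕ) : EtAcyc.PrimesIn Set.univ m ↔ 0 < m :=
  ⟨fun h => h.1, fun h => ⟨h, fun _ _ _ => Set.mem_univ _⟩⟩

lemma isLTorsion_univ_of_isTorsion {X : Scheme.{u}} (F : EtCoh.Ab X) (hF : EtCoh.IsTorsion F) :
    EtAcyc.IsLTorsion Set.univ F := by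
  intro U s x
  obtain ⟨V, g, hv, hfin⟩ := hF U s x
  obtain ⟨m, hm, hs⟩ := isOfFinAddOrder_iff_nsmul_eq_zero.1 hfin
  exact ⟨V, g, m, hv, (primesIn_univ_iff m).2 hm, hs⟩

lemma isTorsion_of_isLTorsion_univ {X : Scheme.{u}} (F : EtCoh.Ab X)
    (hF : EtAcyc.IsLTorsion Set.univ F) : EtCoh.IsTorsion F := by
  intro U s x
  obtain ⟨V, g, m, hv, hm, hs⟩ := hF U s x
  exact ⟨V, g, hv, isOfFinAddOrder_iff_nsmul_eq_zero.2 ⟨m, hm.1, hs⟩⟩

/-- Part (1): if X is quasi-compact and quasi-separated and F is a torsion abelian sheaf on X_et, then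
H^n(X_et, F) is a torsion abelian group for every n. -/
theorem result (X : Scheme.{u}) [CompactSpace X] [QuasiSeparatedSpace X]
    (F : EtCoh.Ab X) (hF : EtCoh.IsTorsion F) (n : ℕ) :
    IsAddTorsion (EtCoh.H X F n) := by
  intro c
  obtain ⟨m, hm, hc⟩ := Groth.Agent.Lib.Helper5.LTorsion.exists_nsmul_eq_zero Set.univ F
    (isLTorsion_univ_of_isTorsion F hF) n c
  exact isOfFinAddOrder_iff_nsmul_eq_zero.2 ⟨m, hm.1, hc⟩

end Groth.Agent.S0124
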