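import Groth.Statements.S0125
import Groth.Agent.Lib.Helper5.LTorsionPush

set_option autoImplicit false
universe u
open CategoryTheory CategoryTheory.Limits AlgebraicGeometry Opposite
open EtPBC

namespace Groth.Agent.S0125


lemma primesIn_univ_iff (m : ℕ) : EtAcyc.PrimesIn Set.univ m ↔ 0 < m :=
  ⟨fun h => h.1, fun h => ⟨h, fun _ _ _ => Set.mem_univ _⟩⟩

lemma isLTorsion_univ_of_isTorsion {X : Scheme.{u}} (F : EtCoh.Ab X) (hF : EtCoh.IsTorsion F) :
    EtAcyc.IsLTorsion Set.univ F := by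
  intro U s x
  obtain ⟨V, g, hv, hfin⟩ := hF U s x
  obtain ⟨m, hm, hs⟩ := isOfFinAddOrder_iff_nsmul_eq_zero.1 hfin
  exact ⟨V, g, m, hv, (primesIn_univ_iff m).2 hm, hs⟩

lemma isTorsion_of_isLTorsion_univ {X : Scheme.{u}} (F : EtCoh.Ab X)
    (hF : EtAcyc.IsLTorsion Set.univ F) : EtCoh.IsTorsion F := by
  intro U s x
  obtain ⟨V, g, m, hv, hm, hs⟩ := hF U s x
  exact ⟨V, g, hv, isOfFinAddOrder_iff_nsmul_eq_zero.2 ⟨m, hm.1, hs⟩⟩

/-- Part (1): for f : X -> Y quasi-compact and quasi-separated and F a torsion abelian sheaf on X_et,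
each R^n f_* F is a torsion abelian sheaf on Y_et. -/
theorem result {X Y : Scheme.{u}} (f : X ⟶ Y) [QuasiCompact f] [QuasiSeparated f]
    [EtCoh.BCCont f] (F : EtCoh.Ab X) (hF : EtCoh.IsTorsion F) (n : ℕ) :
    EtCoh.IsTorsion ((EtCoh.Rpush f n).obj F) := by
  exact isTorsion_of_isLTorsion_univ _
    (Groth.Agent.Lib.Helper5.LTorsionPush.isLTorsion_Rpush f Set.univ F
      (isLTorsion_univ_of_isTorsion F hF) n)

end Groth.Agent.S0125
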