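-- Statement S0152: clopen decomposition lifts from a closed subset of a spectral space.
import Groth.Statements.S0152
import Mathlib.Topology.Spectral.ConstructibleTopology

set_option autoImplicit false
universe u
open EtPBC

namespace Groth.Agent.S0152

open Topology

/-- A spectral space is compact in its constructible topology (transported from Mathlib's instance on
the type synonym). -/
theorem compact_constr (X : Type u) [TopologicalSpace X] [SpectralSpace X] :
    @CompactSpace X (constructibleTopology X) :=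
  @Function.Surjective.compactSpace (WithConstructibleTopology X) X _ (constructibleTopology X) _
    (WithTopology.continuous_ofTopology _) inferInstance (WithTopology.ofTopology_surjective _)

theorem mem_of_closure_inter {X : Type u} [TopologicalSpace X] {x : X} {A U : Set X}
    (hU : IsOpen U) (hAU : A ⊆ U) (h : (closure {x} ∩ A).Nonempty) : x ∈ U := by
  obtain ⟨z, hzx, hzA⟩ := h
  obtain ⟨y, hyU, hy⟩ := mem_closure_iff.1 hzx U hU (hAU hzA)
  rw [Set.mem_singleton_iff] at hy
  exact hy ▸ hyU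

/-- Key lemma: for closed `A`, `B` in a spectral space such that every point specialises into exactly
one of them, the set of generisations of `A` is open. -/
theorem gen_open (X : Type u) [TopologicalSpace X] [SpectralSpace X] (A B : Set X)
    (hA : IsClosed A) (hB : IsClosed B)
    (hdisj : ∀ x, ¬ ((closure {x} ∩ A).Nonempty ∧ (closure {x} ∩ B).Nonempty))
    (hcov : ∀ x, (closure {x} ∩ A).Nonempty ∨ (closure {x} ∩ B).Nonempty) :
    IsOpen {x | (closure {x} ∩ A).Nonempty} := by
  classical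
  let ι := {U : Set X // IsOpen U ∧ IsCompact U ∧ (A ⊆ U ∨ B ⊆ U)}
  have hcl : ∀ i : ι, IsClosed[constructibleTopology X] (i : Set X) := by
    intro i
    refine @IsClosed.mk X (constructibleTopology X) _ ?_
    apply IsCompact.isOpen_constructibleTopology_of_isClosed
    · simpa using i.2.2.1
    · exact i.2.1.isClosed_compl
  have key : ∀ (x : X) (C : Set X), IsClosed C →
      (∀ U : Set X, IsOpen U → IsCompact U → C ⊆ U → x ∈ U) → (closure {x} ∩ C).Nonempty := by
    intro x C hC h
    by_contra hne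
    rw [Set.not_nonempty_iff_eq_empty] at hne
    have hsub : C ⊆ (closure {x})ᶜ := by
      intro c hc hcx
      have : c ∈ closure {x} ∩ C := ⟨hcx, hc⟩
      rw [hne] at this
      exact this
    obtain ⟨W, hWc, hWo, hCW, hWU⟩ := PrespectralSpace.exists_isCompact_and_isOpen_between
      hC.isCompact isClosed_closure.isOpen_compl hsub
    exact hWU (h W hWo hWc hCW) (subset_closure rfl)
  have hempty : (⋂ i : ι, (i : Set X)) = ∅ := by
    rw [Set.eq_empty_iff_forall_notMem]
    intro x hx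
    rw [Set.mem_iInter] at hx
    exact hdisj x ⟨key x A hA fun U hU hUc hAU => hx ⟨U, hU, hUc, Or.inl hAU⟩,
      key x B hB fun U hU hUc hBU => hx ⟨U, hU, hUc, Or.inr hBU⟩⟩
  obtain ⟨u, hu⟩ := @IsCompact.elim_finite_subfamily_closed X (constructibleTopology X) Set.univ ι
    (@isCompact_univ X (constructibleTopology X) (compact_constr X))
    (fun i : ι => (i : Set X)) hcl (by rw [hempty]; simp)
  rw [Set.univ_inter] at hu
  set U : Set X := ⋂ i ∈ u.filter (fun i : ι => A ⊆ (i : Set X)), (i : Set X) with hUdef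
  set V : Set X := ⋂ i ∈ u.filter (fun i : ι => ¬ A ⊆ (i : Set X)), (i : Set X) with hVdef
  have hUo : IsOpen U := isOpen_biInter_finset fun i _ => i.2.1
  have hVo : IsOpen V := isOpen_biInter_finset fun i _ => i.2.1
  have hAU : A ⊆ U := by
    intro a ha
    simp only [hUdef, Set.mem_iInter, Finset.mem_filter]
    intro i hi
    exact hi.2 ha
  have hBV : B ⊆ V := by
    intro b hb
    simp only [hVdef, Set.mem_iInter, Finset.mem_filter]
    intro i hi
    exact (i.2.2.2.resolve_left hi.2) hb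
  have hUV : ∀ x, x ∈ U → x ∈ V → False := by
    intro x hxU hxV
    have : x ∈ ⋂ i ∈ u, ((i : ι) : Set X) := by
      simp only [Set.mem_iInter]
      intro i hi
      by_cases hAi : A ⊆ (i : Set X)
      · simp only [hUdef, Set.mem_iInter, Finset.mem_filter] at hxU
        exact hxU i ⟨hi, hAi⟩
      · simp only [hVdef, Set.mem_iInter, Finset.mem_filter] at hxV
        exact hxV i ⟨hi, hAi⟩
    rw [hu] at this
    exact this
  have hEq : {x | (closure {x} ∩ A).Nonempty} = U := by
    ext x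
    constructor
    · intro hx
      exact mem_of_closure_inter hUo hAU hx
    · intro hxU
      rcases hcov x with h | h
      · exact h
      · exact (hUV x hxU (mem_of_closure_inter hVo hBV h)).elim
  rw [hEq]
  exact hUo

/-- Let X be a spectral space and Z a closed subset such that Z meets the closure of every point of X in
a connected (nonempty) set. If Z is the disjoint union of two closed subsets Z_1, Z_2 then X is the
disjoint union of closed subsets X_1, X_2 with Z_i = Z ∩ X_i. -/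
theorem result (X : Type u) [TopologicalSpace X] [SpectralSpace X]
    (Z : Set X) (hZ : IsClosed Z)
    (hconn : ∀ x : X, IsConnected (Z ∩ closure {x}))
    (Z₁ Z₂ : Set X) (h₁ : IsClosed Z₁) (h₂ : IsClosed Z₂) (hdisj : Disjoint Z₁ Z₂) (hunion : Z₁ ∪ Z₂ = Z) :
    ∃ X₁ X₂ : Set X, IsClosed X₁ ∧ IsClosed X₂ ∧ Disjoint X₁ X₂ ∧ X₁ ∪ X₂ = Set.univ ∧
      Z₁ = Z ∩ X₁ ∧ Z₂ = Z ∩ X₂ := by
  have hZ₁Z : Z₁ ⊆ Z := hunion ▸ Set.subset_union_left
  have hZ₂Z : Z₂ ⊆ Z := hunion ▸ Set.subset_union_right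
  have hd : ∀ x, ¬ ((closure {x} ∩ Z₁).Nonempty ∧ (closure {x} ∩ Z₂).Nonempty) := by
    rintro x ⟨⟨z₁, hz₁x, hz₁⟩, ⟨z₂, hz₂x, hz₂⟩⟩
    have hpre := (hconn x).isPreconnected
    rw [isPreconnected_closed_iff] at hpre
    obtain ⟨w, _, hw₁, hw₂⟩ := hpre Z₁ Z₂ h₁ h₂
      (fun y hy => by rw [hunion]; exact hy.1)
      ⟨z₁, ⟨hZ₁Z hz₁, hz₁x⟩, hz₁⟩ ⟨z₂, ⟨hZ₂Z hz₂, hz₂x⟩, hz₂⟩
    exact (Set.disjoint_left.1 hdisj hw₁ hw₂)
  have hd' : ∀ x, ¬ ((closure {x} ∩ Z₂).Nonempty ∧ (closure {x} ∩ Z₁).Nonempty) :=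
    fun x h => hd x ⟨h.2, h.1⟩
  have hc : ∀ x, (closure {x} ∩ Z₁).Nonempty ∨ (closure {x} ∩ Z₂).Nonempty := by
    intro x
    obtain ⟨z, hzZ, hzx⟩ := (hconn x).nonempty
    rw [← hunion] at hzZ
    rcases hzZ with h | h
    · exact Or.inl ⟨z, hzx, h⟩
    · exact Or.inr ⟨z, hzx, h⟩
  have hc' : ∀ x, (closure {x} ∩ Z₂).Nonempty ∨ (closure {x} ∩ Z₁).Nonempty := fun x => (hc x).symm
  have ho₁ := gen_open X Z₁ Z₂ h₁ h₂ hd hc
  have ho₂ := gen_open X Z₂ Z₁ h₂ h₁ hd' hc'
  have hcompl : {x : X | (closure {x} ∩ Z₁).Nonempty}ᶜ = {x | (closure {x} ∩ Z₂).Nonempty} := by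
    ext x
    simp only [Set.mem_compl_iff, Set.mem_ofPred_eq]
    constructor
    · intro h
      exact (hc x).resolve_left h
    · intro h h'
      exact hd x ⟨h', h⟩
  have hcompl' : {x : X | (closure {x} ∩ Z₂).Nonempty}ᶜ = {x | (closure {x} ∩ Z₁).Nonempty} := by
    rw [← hcompl, compl_compl]
  refine ⟨{x | (closure {x} ∩ Z₁).Nonempty}, {x | (closure {x} ∩ Z₂).Nonempty}, ?_, ?_, ?_, ?_, ?_, ?_⟩
  · rw [← hcompl']
    exact ho₂.isClosed_compl
  · rw [← hcompl]
    exact ho₁.isClosed_compl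
  · rw [Set.disjoint_left]
    intro x hx₁ hx₂
    exact hd x ⟨hx₁, hx₂⟩
  · ext x
    simp only [Set.mem_union, Set.mem_ofPred_eq, Set.mem_univ, iff_true]
    exact hc x
  · ext z
    constructor
    · intro hz
      exact ⟨hZ₁Z hz, ⟨z, subset_closure rfl, hz⟩⟩
    · rintro ⟨hzZ, hz⟩
      rw [← hunion] at hzZ
      rcases hzZ with h | h
      · exact h
      · exact (hd z ⟨hz, ⟨z, subset_closure rfl, h⟩⟩).elim
  · ext z
    constructor
    · intro hz
      exact ⟨hZ₂Z hz, ⟨z, subset_closure rfl, hz⟩⟩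
    · rintro ⟨hzZ, hz⟩
      rw [← hunion] at hzZ
      rcases hzZ with h | h
      · exact (hd z ⟨⟨z, subset_closure rfl, h⟩, hz⟩).elim
      · exact h

end Groth.Agent.S0152
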