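import Groth.Statements.S0170
-- import your own Groth.Agent.* helpers here
import Mathlib
import Groth.Agent.Lib.Helper12.DecompQF

set_option autoImplicit false
universe u
open CategoryTheory CategoryTheory.Limits AlgebraicGeometry Opposite
open EtPBC

namespace Groth.Agent.S0170

/-- For f : Y -> X quasi-finite and of finite presentation with X and Y affine, one can find an affine
X' mapping onto X such that the base change Y' = X' x_X Y contains a closed subscheme Z' with the
same underlying space (a thickening) for which the composite Z' -> Y' -> X' is finite etale. -/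
theorem result {Y X : Scheme.{u}} [IsAffine X] [IsAffine Y] (f : Y ⟶ X)
    [LocallyQuasiFinite f] [LocallyOfFinitePresentation f] :
    ∃ (X' : Scheme.{u}) (_ : IsAffine X') (a : X' ⟶ X) (_ : Surjective a) (Z' : Scheme.{u})
      (c : Z' ⟶ pullback a f) (_ : IsClosedImmersion c) (_ : Surjective c),
      IsFinite (c ≫ pullback.fst a f) ∧ Etale (c ≫ pullback.fst a f) := by
  classical
  obtain ⟨n, T, a, hT, hcov⟩ := Groth.Agent.Lib.Helper12.StratCover.exists_finite_cover (X := X)
    (fun {T} a => Groth.Agent.Lib.Helper12.StratCover.HasDecomp f a) (fun x => by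
      obtain ⟨T, a, h1, h2, h3, h4⟩ := Groth.Agent.Lib.Helper12.DecompQF.exists_local_decomp f x
      exact ⟨T, a, h1, h2, h3, h4⟩)
  haveI : ∀ i, IsAffine (T i) := fun i => (hT i).1
  obtain ⟨Z', c, h1, h2, h3, h4⟩ :=
    Groth.Agent.Lib.Helper12.StratCover.HasDecomp.sigma f a (fun i => (hT i).2)
  refine ⟨∐ T, inferInstance, Limits.Sigma.desc a, ⟨fun x => ?_⟩, Z', c, h1, h2, h3, h4⟩
  have hx : x ∈ ⋃ i, Set.range (a i) := by rw [hcov]; exact Set.mem_univ x
  obtain ⟨i, t, ht⟩ := Set.mem_iUnion.mp hx
  refine ⟨Limits.Sigma.ι T i t, ?_⟩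
  rw [← ht, ← Scheme.Hom.comp_apply, Limits.Sigma.ι_desc]

end Groth.Agent.S0170
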