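import Groth.Statements.S0654
import Groth.Agent.Lib.Helper15.ClosedStalk

set_option autoImplicit false
open CategoryTheory CategoryTheory.Limits AlgebraicGeometry Opposite
universe u
open EtCore

namespace Groth.Agent.S0654


open Groth.Agent.Lib.Helper15 Groth.Agent.Lib.Helper13.StalkPull
  Groth.Agent.Lib.Helper13.StalkConservative

/-- Let i : Z -> X be a closed immersion and j : U -> X the open immersion of the complement of its
image. For every abelian sheaf F on the small etale site of X, the counit j_! (F|_U) -> F followed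
by the unit F -> i_* i^{-1} F composes to zero and the resulting three-term sequence is short exact.
(Continuity of the composition functor of etale sites, which always holds, is carried as an instance
hypothesis.) -/
theorem result {Z X : Scheme.{u}} (i : Z ⟶ X) [IsClosedImmersion i]
    (U : X.Opens) (hU : (U : Set X) = (Set.range i.base)ᶜ) [AlgebraicGeometry.Etale U.ι] [EtShriek.JCont U.ι]
    (F : EtCoh.Ab X) :
    ∃ w : (EtShriek.extZeroAdj U.ι).counit.app F ≫ (EtCoh.pullPushAdj i).unit.app F = 0,
      (ShortComplex.mk _ _ w).ShortExact := by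
  have hA : ∀ p : GeomPt X, p.ξ.base default ∈ (U : Set X) →
      IsZero ((EtCoh.stalk p.ξ).obj ((EtCoh.push i).obj ((EtCoh.pull i).obj F))) ∧
      IsIso ((EtCoh.stalk p.ξ).map ((EtShriek.extZeroAdj U.ι).counit.app F)) := by
    intro p hp
    have hp' : p.ξ.base default ∉ Set.range i.base := by rw [hU] at hp; exact hp
    refine ⟨ClosedStalk.isZero_stalk_of_vanish i _
      (fun V hV => ClosedStalk.isZero_push_sections i _ V hV) p.ξ hp', ?_⟩
    have hrange : Set.range p.ξ.base ⊆ Set.range U.ι.base := by
      rintro _ ⟨s, rfl⟩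
      rw [Scheme.Opens.range_ι, Subsingleton.elim s default]
      exact hp
    exact ClosedStalk.isIso_stalk_counit U.ι F p.ξ (IsOpenImmersion.lift U.ι p.ξ hrange)
      (IsOpenImmersion.lift_fac _ _ _)
  have hB : ∀ p : GeomPt X, p.ξ.base default ∈ Set.range i.base →
      IsZero ((EtCoh.stalk p.ξ).obj
        ((EtShriek.extZero U.ι).obj ((EtShriek.restrAlong U.ι).obj F))) ∧
      IsIso ((EtCoh.stalk p.ξ).map ((EtCoh.pullPushAdj i).unit.app F)) := by
    intro p hp
    constructor
    · refine isZero_stalk_extZero U.ι p.ξ ⟨?_⟩ _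
      rintro ⟨v, hv⟩
      have h1 : (v ≫ U.ι).base default ∈ (U : Set X) := by
        rw [← Scheme.Opens.range_ι]
        exact ⟨v.base default, rfl⟩
      rw [hv, hU] at h1
      exact h1 hp
    · obtain ⟨ζ, hζ⟩ := ClosedStalk.exists_factor i p.ξ hp
      exact ClosedStalk.isIso_stalk_unit i F p.ξ ζ hζ
  have hdich : ∀ p : GeomPt X,
      p.ξ.base default ∈ (U : Set X) ∨ p.ξ.base default ∈ Set.range i.base := by
    intro p
    by_cases h : p.ξ.base default ∈ Set.range i.base
    · exact Or.inr h
    · left; rw [hU]; exact h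
  have w : (EtShriek.extZeroAdj U.ι).counit.app F ≫ (EtCoh.pullPushAdj i).unit.app F = 0 := by
    apply (stalk_jointlyReflectIsomorphisms X).jointlyFaithful.map_injective
    intro p
    rcases hdich p with h | h
    · exact (hA p h).1.eq_of_tgt _ _
    · exact (hB p h).1.eq_of_src _ _
  refine ⟨w, ?_⟩
  rw [(stalk_jointlyReflectIsomorphisms X).shortExact_iff]
  intro p
  rcases hdich p with h | h
  · exact ClosedStalk.shortExact_of_isZero_X₃ _ (hA p h).1 (hA p h).2
  · exact ClosedStalk.shortExact_of_isZero_X₁ _ (hB p h).1 (hB p h).2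

end Groth.Agent.S0654
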