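import Groth.Statements.S0175
import Groth.Agent.S0654
import Groth.Agent.Lib.Helper13.FlatPullback
import Groth.Agent.Lib.Helper15.ClosedStalk

set_option autoImplicit false
universe u
open CategoryTheory CategoryTheory.Limits AlgebraicGeometry Opposite
open EtPBC

namespace Groth.Agent.S0175


open Groth.Agent.Lib.Helper15 Groth.Agent.Lib.Helper13

set_option backward.isDefEq.respectTransparency.types false

section aux

/-- A sheaf all of whose groups of sections vanish is a zero object. -/
lemma isZero_of_sections {Y : Scheme.{u}} (G : EtCoh.Ab Y)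
    (h : ∀ V : Y.Etale, IsZero (G.obj.obj (op V))) : IsZero G := by
  rw [IsZero.iff_id_eq_zero]
  apply Sheaf.hom_ext
  ext V : 2
  exact (h V.unop).eq_of_tgt _ _

/-- The sections of a zero sheaf vanish. -/
lemma isZero_sections {Y : Scheme.{u}} (G : EtCoh.Ab Y) (hG : IsZero G) (V : Y.Etale) :
    IsZero (G.obj.obj (op V)) :=
  Functor.map_isZero (sheafToPresheaf Y.smallEtaleTopology AddCommGrpCat.{u + 1} ⋙
    (evaluation _ _).obj (op V)) hG

/-- The sheaf of sections supported off `U` restricts to zero on `U`. -/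
lemma isZero_pull_kernel_unit {U X : Scheme.{u}} (j : U ⟶ X) (I : EtCoh.Ab X) :
    IsZero ((EtCoh.pull j).obj (kernel ((EtCoh.pullPushAdj j).unit.app I))) := by
  haveI hmono : Mono ((EtCoh.pull j).map ((EtCoh.pullPushAdj j).unit.app I)) := by
    have h := (EtCoh.pullPushAdj j).left_triangle_components I
    haveI : IsSplitMono ((EtCoh.pull j).map ((EtCoh.pullPushAdj j).unit.app I)) :=
      IsSplitMono.mk' ⟨_, h⟩
    infer_instance
  haveI : (EtCoh.pull j).IsLeftAdjoint := (EtCoh.pullPushAdj j).isLeftAdjoint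
  have e := PreservesKernel.iso (EtCoh.pull j) ((EtCoh.pullPushAdj j).unit.app I)
  exact IsZero.of_iso (isZero_kernel_of_mono _) e

/-- For complementary open and closed immersions, the sheaf of sections supported on `Z` is the direct
image of its restriction to `Z`. -/
lemma isIso_unit_kernel {Z X U : Scheme.{u}} (i : Z ⟶ X) [IsClosedImmersion i]
    (j : U ⟶ X) [IsOpenImmersion j] (hZU : Set.range j.base = (Set.range i.base)ᶜ)
    (I : EtCoh.Ab X) :
    IsIso ((EtCoh.pullPushAdj i).unit.app (kernel ((EtCoh.pullPushAdj j).unit.app I))) := by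
  obtain ⟨H, hH⟩ : ∃ H : EtCoh.Ab X, H = kernel ((EtCoh.pullPushAdj j).unit.app I) := ⟨_, rfl⟩
  rw [← hH]
  have h1 : IsZero ((EtCoh.pull j).obj H) := hH ▸ isZero_pull_kernel_unit j I
  have h2 : IsZero ((EtShriek.restrAlong j).obj H) :=
    IsZero.of_iso h1 ((EtaleRestr.pullIsoRestr j).app H).symm
  have h3 : ∀ V' : U.Etale, IsZero (H.obj.obj (op ((EtShriek.compEtale j).obj V'))) :=
    fun V' => isZero_sections _ h2 V'
  obtain ⟨U₀, hU₀⟩ : ∃ U₀ : X.Opens, U₀ = j.opensRange := ⟨_, rfl⟩
  have hU₀' : (U₀ : Set X) = (Set.range i.base)ᶜ := by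
    rw [hU₀, ← hZU]
    rfl
  have h4 : IsZero ((EtShriek.restrAlong U₀.ι).obj H) := by
    apply isZero_of_sections
    intro V
    haveI : Etale V.hom := V.prop
    subst hU₀
    have e : (EtShriek.compEtale j).obj (Scheme.Etale.mk (V.hom ≫ j.isoOpensRange.inv)) ≅
        (EtShriek.compEtale j.opensRange.ι).obj V :=
      MorphismProperty.Over.isoMk (Iso.refl _) (by
        show 𝟙 _ ≫ (V.hom ≫ j.opensRange.ι) = (V.hom ≫ j.isoOpensRange.inv) ≫ j
        rw [Category.id_comp, Category.assoc, Scheme.Hom.isoOpensRange_inv_comp])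
    exact IsZero.of_iso (h3 _) (H.obj.mapIso e.op)
  obtain ⟨w, hw⟩ := Groth.Agent.S0654.result i U₀ hU₀' H
  have hX1 : IsZero ((EtShriek.extZero U₀.ι).obj ((EtShriek.restrAlong U₀.ι).obj H)) :=
    Functor.map_isZero _ h4
  have hf : (ShortComplex.mk _ _ w).f = 0 := hX1.eq_of_src _ _
  haveI he : Epi ((EtCoh.pullPushAdj i).unit.app H) := hw.epi_g
  haveI hm : Mono ((EtCoh.pullPushAdj i).unit.app H) := hw.exact.mono_g hf
  exact isIso_of_mono_of_epi _

/-- The abstract injectivity argument. -/
lemma injective_pull_of_kernel {Z X : Scheme.{u}} (i : Z ⟶ X) [IsClosedImmersion i]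
    {I P : EtCoh.Ab X} [Injective I] (u : I ⟶ P)
    (hP : ∀ (B : EtCoh.Ab Z) (h' : (EtCoh.push i).obj B ⟶ I), h' ≫ u = 0)
    (hη : IsIso ((EtCoh.pullPushAdj i).unit.app (kernel u))) :
    Injective ((EtCoh.pull i).obj (kernel u)) := by
  obtain ⟨hfull, hfaith⟩ := Groth.Agent.S0067.result i
  haveI := hfull
  haveI := hfaith
  haveI := hη
  haveI : (EtCoh.push i).PreservesMonomorphisms :=
    Functor.preservesMonomorphisms_of_adjunction (EtCoh.pullPushAdj i)
  constructor
  intro A B g m hm
  obtain ⟨h', hh'⟩ := Injective.factors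
    ((EtCoh.push i).map g ≫ inv ((EtCoh.pullPushAdj i).unit.app (kernel u)) ≫ kernel.ι u)
    ((EtCoh.push i).map m)
  have hzero : h' ≫ u = 0 := hP B h'
  obtain ⟨h, hh⟩ : ∃ h : B ⟶ (EtCoh.pull i).obj (kernel u),
      (EtCoh.push i).map h = kernel.lift u h' hzero ≫ (EtCoh.pullPushAdj i).unit.app (kernel u) :=
    ⟨(EtCoh.push i).preimage _, (EtCoh.push i).map_preimage _⟩
  refine ⟨h, ?_⟩
  apply (EtCoh.push i).map_injective
  rw [Functor.map_comp, hh]
  have hk : (EtCoh.push i).map m ≫ kernel.lift u h' hzero =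
      (EtCoh.push i).map g ≫ inv ((EtCoh.pullPushAdj i).unit.app (kernel u)) := by
    apply (cancel_mono (kernel.ι u)).1
    rw [Category.assoc, kernel.lift_ι, hh', Category.assoc]
  rw [← Category.assoc, hk, Category.assoc, IsIso.inv_hom_id, Category.comp_id]

end aux

/-- Let i : Z → X be a closed immersion of schemes with open complement j : U → X, and I an injective
abelian sheaf on X_ét. Then the subsheaf H_Z(I) of sections supported on Z (the kernel of I → j_*
j^* I), viewed on Z_ét via i^*, is an injective abelian sheaf on Z_ét. -/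
theorem result {Z X U : Scheme.{u}} (i : Z ⟶ X) [IsClosedImmersion i]
    (j : U ⟶ X) [IsOpenImmersion j] (hZU : Set.range j = (Set.range i)ᶜ)
    [EtCoh.BCCont i] [EtCoh.BCCont j] (I : EtCoh.Ab X) [Injective I] :
    Injective ((EtCoh.pull i).obj (kernel ((EtCoh.pullPushAdj j).unit.app I))) := by
  have hZU' : Set.range j.base = (Set.range i.base)ᶜ := hZU
  refine injective_pull_of_kernel i ((EtCoh.pullPushAdj j).unit.app I) ?_
    (isIso_unit_kernel i j hZU' I)
  intro B h'
  have hz : IsZero ((EtCoh.pull j).obj ((EtCoh.push i).obj B)) := by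
    refine IsZero.of_iso ?_ ((EtaleRestr.pullIsoRestr j).app _)
    apply isZero_of_sections
    intro V'
    refine ClosedStalk.isZero_push_sections i B ((EtShriek.compEtale j).obj V') ?_
    rw [Set.disjoint_left]
    rintro _ ⟨v, rfl⟩ hx
    have hmem : ((EtShriek.compEtale j).obj V').hom.base v ∈ Set.range j.base :=
      ⟨V'.hom.base v, rfl⟩
    rw [hZU'] at hmem
    exact hmem hx
  apply ((EtCoh.pullPushAdj j).homEquiv _ _).symm.injective
  exact hz.eq_of_src _ _

end Groth.Agent.S0175
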