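-- Statement S0180: in a spectral space whose closed points form a closed set and where every point
-- has a unique closed specialisation, closed points biject with connected components.
import Groth.Statements.S0180
import Groth.Agent.S0152
import Groth.Agent.Lib.Lead.Spectral

set_option autoImplicit false
universe u
open EtPBC

namespace Groth.Agent.S0180

open Groth.Agent.Lib.Lead

/-- Final assertion: if X is spectral, the set X_0 of closed points is closed, and every point of X
specializes to exactly one closed point, then X_0 -> pi_0(X) is bijective (so X satisfies the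
equivalent conditions of the lemma; such X are called w-local). -/
theorem result (X : Type u) [TopologicalSpace X]
    [SpectralSpace X] (h0 : IsClosed {x : X | IsClosed ({x} : Set X)})
    (huniq : ∀ x : X, ∃! z : X, IsClosed ({z} : Set X) ∧ x ⤳ z) :
    Function.Bijective (fun x : {x : X // IsClosed ({x} : Set X)} => _root_.ConnectedComponents.mk x.1) := by
  set Z : Set X := {x : X | IsClosed ({x} : Set X)} with hZdef
  have hZpts : ∀ z ∈ Z, IsClosed ({z} : Set X) := fun z hz => hz
  have hconn : ∀ x : X, IsConnected (Z ∩ closure {x}) := by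
    intro x
    obtain ⟨z, ⟨hzc, hxz⟩, hzu⟩ := huniq x
    have : Z ∩ closure {x} = {z} := by
      ext w
      constructor
      · rintro ⟨hwZ, hwx⟩
        exact hzu w ⟨hwZ, specializes_iff_mem_closure.2 hwx⟩
      · intro hw
        rw [Set.mem_singleton_iff] at hw
        subst hw
        exact ⟨hzc, specializes_iff_mem_closure.1 hxz⟩
    rw [this]
    exact isConnected_singleton
  constructor
  · rintro ⟨x₀, hx₀⟩ ⟨y₀, hy₀⟩ hxy
    change ConnectedComponents.mk x₀ = ConnectedComponents.mk y₀ at hxy
    by_contra hne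
    have hne' : x₀ ≠ y₀ := fun h => hne (Subtype.ext h)
    obtain ⟨U, hU, hx₀U, hUy⟩ := PrespectralSpace.isTopologicalBasis.exists_subset_of_mem_open
      (show x₀ ∈ ({y₀} : Set X)ᶜ from fun h => hne' h) hy₀.isOpen_compl
    have hy₀U : y₀ ∉ U := fun h => hUy h rfl
    have hZ₁ : IsClosed (U ∩ Z) := isClosed_inter_of_closedPoints Z h0 hZpts hU.2
    have hZ₂ : IsClosed (Uᶜ ∩ Z) := hU.1.isClosed_compl.inter h0
    have hd : Disjoint (U ∩ Z) (Uᶜ ∩ Z) := by
      rw [Set.disjoint_left]
      rintro p ⟨hpU, -⟩ ⟨hpU', -⟩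
      exact hpU' hpU
    have hun : (U ∩ Z) ∪ (Uᶜ ∩ Z) = Z := by
      ext p
      constructor
      · rintro (h | h) <;> exact h.2
      · intro hp
        by_cases hpU : p ∈ U
        · exact Or.inl ⟨hpU, hp⟩
        · exact Or.inr ⟨hpU, hp⟩
    obtain ⟨X₁, X₂, hX₁, hX₂, hdisj, hcov, hZ₁eq, hZ₂eq⟩ :=
      Groth.Agent.S0152.result X Z h0 hconn (U ∩ Z) (Uᶜ ∩ Z) hZ₁ hZ₂ hd hun
    have hX₁eq : X₁ = X₂ᶜ := by
      ext p
      constructor
      · intro hp hp'
        exact Set.disjoint_left.1 hdisj hp hp'
      · intro hp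
        have : p ∈ X₁ ∪ X₂ := hcov ▸ Set.mem_univ p
        exact this.resolve_right hp
    have hX₁clopen : IsClopen X₁ := ⟨hX₁, hX₁eq ▸ hX₂.isOpen_compl⟩
    have hx₀X₁ : x₀ ∈ X₁ := by
      have : x₀ ∈ U ∩ Z := ⟨hx₀U, hx₀⟩
      rw [hZ₁eq] at this
      exact this.2
    have hy₀X₂ : y₀ ∈ X₂ := by
      have : y₀ ∈ Uᶜ ∩ Z := ⟨hy₀U, hy₀⟩
      rw [hZ₂eq] at this
      exact this.2
    have hsub := hX₁clopen.connectedComponent_subset hx₀X₁
    have hy₀mem : y₀ ∈ connectedComponent x₀ := by
      rw [ConnectedComponents.coe_eq_coe] at hxy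
      rw [hxy]
      exact mem_connectedComponent
    exact Set.disjoint_left.1 hdisj (hsub hy₀mem) hy₀X₂
  · intro c
    obtain ⟨x, rfl⟩ := ConnectedComponents.surjective_coe c
    obtain ⟨z, ⟨hzc, hxz⟩, -⟩ := huniq x
    refine ⟨⟨z, hzc⟩, ?_⟩
    change ConnectedComponents.mk z = ConnectedComponents.mk x
    rw [ConnectedComponents.coe_eq_coe']
    have hsub : closure {x} ⊆ connectedComponent x :=
      (isConnected_singleton.closure).subset_connectedComponent (subset_closure rfl)
    exact hsub (specializes_iff_mem_closure.1 hxz)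

end Groth.Agent.S0180
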