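import Groth.Statements.S0191
import Groth.Agent.Lib.Lead.CSA

set_option autoImplicit false
universe u v w
open scoped TensorProduct
open Curves

namespace Groth.Agent.S0191

open Groth.Agent.Lib.Lead.CSA TensorProduct in
theorem rTensor_Lc {k : Type u} [Field k] {M M' : Type v} [AddCommGroup M] [Module k M]
    [AddCommGroup M'] [Module k M'] {B : Type w} [Ring B] [Algebra k B]
    (π : M →ₗ[k] M') (c : B) (x : M ⊗[k] B) :
    LinearMap.rTensor B π (Lc M c x) = Lc M' c (LinearMap.rTensor B π x) := by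
  induction x using TensorProduct.induction_on with
  | zero => simp
  | tmul a b => simp
  | add x y hx hy => rw [map_add, map_add, map_add, map_add, hx, hy]

open Groth.Agent.Lib.Lead.CSA TensorProduct in
theorem rTensor_Rc {k : Type u} [Field k] {M M' : Type v} [AddCommGroup M] [Module k M]
    [AddCommGroup M'] [Module k M'] {B : Type w} [Ring B] [Algebra k B]
    (π : M →ₗ[k] M') (c : B) (x : M ⊗[k] B) :
    LinearMap.rTensor B π (Rc M c x) = Rc M' c (LinearMap.rTensor B π x) := by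
  induction x using TensorProduct.induction_on with
  | zero => simp
  | tmul a b => simp
  | add x y hx hy => rw [map_add, map_add, map_add, map_add, hx, hy]

open Groth.Agent.Lib.Lead.CSA in

/-- If K is a skew field with center k, every two-sided ideal of A ⊗ K is generated by the elements a ⊗
1 it contains. -/
theorem result (k : Type u) [Field k] (A : Type v) [Ring A] [Algebra k A]
    (K : Type w) [DivisionRing K] [Algebra k K] [Algebra.IsCentral k K]
    (I : TwoSidedIdeal (A ⊗[k] K)) :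
    I = TwoSidedIdeal.span ((fun a : A => a ⊗ₜ[k] (1 : K)) '' {a : A | a ⊗ₜ[k] (1 : K) ∈ I}) := by
  classical
  set L := TwoSidedIdeal.span ((fun a : A => a ⊗ₜ[k] (1 : K)) '' {a : A | a ⊗ₜ[k] (1 : K) ∈ I}) with hL
  have hLI : L ≤ I := TwoSidedIdeal.span_le.2 (by rintro _ ⟨a, ha, rfl⟩; exact ha)
  refine le_antisymm ?_ hLI
  let J' : Submodule k A := toSubmodule (k := k) (contract I)
  let π : A →ₗ[k] A ⧸ J' := J'.mkQ
  let N : Submodule k ((A ⧸ J') ⊗[k] K) :=
    Submodule.map (LinearMap.rTensor K π) (toSubmodule (k := k) I)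
  have hrange : ∀ w : J' ⊗[k] K, LinearMap.rTensor K J'.subtype w ∈ L := by
    intro w
    induction w using TensorProduct.induction_on with
    | zero => rw [map_zero]; exact L.zero_mem
    | tmul j c =>
      rw [LinearMap.rTensor_tmul, Submodule.subtype_apply]
      have h : (j : A) ⊗ₜ[k] c = ((j : A) ⊗ₜ[k] (1 : K)) * ((1 : A) ⊗ₜ[k] c) := by
        rw [Algebra.TensorProduct.tmul_mul_tmul, mul_one, one_mul]
      rw [h]
      exact L.mul_mem_right _ _
        (TwoSidedIdeal.subset_span ⟨(j : A), (mem_contract I (j : A)).1 j.2, rfl⟩)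
    | add x y hx hy => rw [map_add]; exact L.add_mem hx hy
  have hNL : ∀ (c : K) (x : (A ⧸ J') ⊗[k] K), x ∈ N → Lc (A ⧸ J') c x ∈ N := by
    rintro c _ ⟨x, hx, rfl⟩
    refine ⟨Lc A c x, ?_, rTensor_Lc π c x⟩
    change Lc A c x ∈ I
    rw [← one_tmul_mul]
    exact I.mul_mem_left _ _ hx
  have hNR : ∀ (c : K) (x : (A ⧸ J') ⊗[k] K), x ∈ N → Rc (A ⧸ J') c x ∈ N := by
    rintro c _ ⟨x, hx, rfl⟩
    refine ⟨Rc A c x, ?_, rTensor_Rc π c x⟩
    change Rc A c x ∈ I
    rw [← mul_one_tmul]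
    exact I.mul_mem_right _ _ hx
  have hN : N = ⊥ := by
    by_contra hN
    obtain ⟨m, hm, hmN⟩ := exists_tmul_one_mem N hNL hNR hN
    obtain ⟨x, hx, hxm⟩ := hmN
    obtain ⟨a, rfl⟩ := J'.mkQ_surjective m
    have hker : a ⊗ₜ[k] (1 : K) - x ∈ LinearMap.ker (LinearMap.rTensor K π) := by
      rw [LinearMap.mem_ker, map_sub, LinearMap.rTensor_tmul, hxm, sub_self]
    rw [rTensor_mkQ] at hker
    obtain ⟨w, hw⟩ := hker
    have h1 : a ⊗ₜ[k] (1 : K) - x ∈ I := hLI (hw ▸ hrange w)
    have h2 : a ⊗ₜ[k] (1 : K) ∈ I := by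
      have := I.add_mem h1 hx
      rwa [sub_add_cancel] at this
    apply hm
    exact (Submodule.Quotient.mk_eq_zero J').2 ((mem_contract I a).2 h2)
  intro x hx
  have hxN : LinearMap.rTensor K π x ∈ N := ⟨x, hx, rfl⟩
  rw [hN, Submodule.mem_bot] at hxN
  have hk : x ∈ LinearMap.ker (LinearMap.rTensor K π) := hxN
  rw [rTensor_mkQ] at hk
  obtain ⟨w, rfl⟩ := hk
  exact hrange w

end Groth.Agent.S0191
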