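import Groth.Statements.S0192
import Groth.Agent.Lib.Lead.CSA
import Mathlib.RingTheory.SimpleModule.IsAlgClosed
import Mathlib.FieldTheory.IsAlgClosed.AlgebraicClosure
import Mathlib.LinearAlgebra.Dimension.Constructions

set_option autoImplicit false
universe u v w
open scoped TensorProduct
open Curves

namespace Groth.Agent.S0192

/-- The dimension of a finite central simple algebra over its center is a square. -/
theorem result (k : Type u) [Field k] (A : Type v) [Ring A] [Algebra k A]
    [Algebra.IsCentral k A] [IsSimpleRing A] [FiniteDimensional k A] :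
    IsSquare (Module.finrank k A) := by
  classical
  haveI : IsSimpleRing (AlgebraicClosure k ⊗[k] A) := Groth.Agent.Lib.Lead.CSA.isSimpleRing_tensor
  obtain ⟨n, hn, ⟨e⟩⟩ := IsSimpleRing.exists_algEquiv_matrix_of_isAlgClosed (AlgebraicClosure k)
    (AlgebraicClosure k ⊗[k] A)
  have h1 : Module.finrank (AlgebraicClosure k) (AlgebraicClosure k ⊗[k] A) = Module.finrank k A :=
    Module.finrank_baseChange
  have h2 : Module.finrank (AlgebraicClosure k) (AlgebraicClosure k ⊗[k] A) = n * n := by
    rw [LinearEquiv.finrank_eq e.toLinearEquiv, Module.finrank_matrix]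
    simp
  exact ⟨n, by rw [← h1, h2]⟩

end Groth.Agent.S0192
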