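-- Statement S0195: k' splits A iff some B similar to A contains k' with dim B = [k':k]^2.
import Groth.Statements.S0195
import Groth.Agent.Lib.Lead.Brauer

set_option autoImplicit false
set_option linter.style.haveILetI false
universe u v w
open scoped TensorProduct
open Curves
open Groth.Agent.Lib.Lead

namespace Groth.Agent.S0195

/-- Forward direction, unbundled: the commutant of `Aᵒᵖ` acting on `k'^n`. -/
theorem forward_aux (k : Type u) [Field k] (A : Type u) [Ring A] [Algebra k A]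
    [Algebra.IsCentral k A] [IsSimpleRing A] [FiniteDimensional k A]
    (k' : Type u) [Field k'] [Algebra k k'] [FiniteDimensional k k'] (h : Curves.Splits k A k') :
    ∃ (Bty : Type u) (_ : Ring Bty) (_ : Algebra k Bty) (_ : Algebra.IsCentral k Bty)
      (_ : IsSimpleRing Bty) (_ : FiniteDimensional k Bty) (_ : k' →ₐ[k] Bty) (m N : ℕ),
      m ≠ 0 ∧ N ≠ 0 ∧ Nonempty (Matrix (Fin m) (Fin m) A ≃ₐ[k] Matrix (Fin N) (Fin N) Bty) ∧
      Module.finrank k Bty = Module.finrank k k' ^ 2 := by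
  classical
  obtain ⟨n, hn, ⟨e'⟩⟩ := Brauer.splits_op h
  have hAop : Module.finrank k Aᵐᵒᵖ = n ^ 2 := Split.finrank_of_splits_equiv e'
  let φ : Aᵐᵒᵖ →ₐ[k] Matrix (Fin n) (Fin n) k' := Brauer.algHomOfSplit e'
  letI modR : Module Aᵐᵒᵖ (Fin n → k') :=
    Module.compHom _ (φ : Aᵐᵒᵖ →+* Matrix (Fin n) (Fin n) k')
  have hsm : ∀ (x : Aᵐᵒᵖ) (v : Fin n → k'), x • v = (φ x).mulVec v := fun _ _ => rfl
  haveI : IsScalarTower k Aᵐᵒᵖ (Fin n → k') :=
    ⟨fun c x v => by rw [hsm, hsm, map_smul, Matrix.smul_mulVec]⟩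
  haveI : SMulCommClass k' Aᵐᵒᵖ (Fin n → k') :=
    ⟨fun c x v => by rw [hsm, hsm, Matrix.mulVec_smul]⟩
  obtain ⟨g⟩ := Brauer.exists_matrix_end_algEquiv k Aᵐᵒᵖ (Fin n → k')
  have hr : 0 < Module.finrank k k' := Module.finrank_pos
  have hn0 : 0 < n := Nat.pos_of_ne_zero hn
  have hm : Module.finrank k (Fin n → k') = n * Module.finrank k k' := by
    rw [Module.finrank_pi_fintype]; simp
  have hN0 : Module.finrank k Aᵐᵒᵖ ≠ 0 := by rw [hAop]; positivity
  have hm0 : Module.finrank k (Fin n → k') ≠ 0 := by rw [hm]; positivity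
  haveI : Nonempty (Fin (Module.finrank k Aᵐᵒᵖ)) := ⟨⟨0, Nat.pos_of_ne_zero hN0⟩⟩
  haveI : Nonempty (Fin (Module.finrank k (Fin n → k'))) := ⟨⟨0, Nat.pos_of_ne_zero hm0⟩⟩
  let g' : Matrix (Fin (Module.finrank k Aᵐᵒᵖ)) (Fin (Module.finrank k Aᵐᵒᵖ))
      (Module.End Aᵐᵒᵖ (Fin n → k')) ≃ₐ[k]
      Matrix (Fin (Module.finrank k (Fin n → k'))) (Fin (Module.finrank k (Fin n → k'))) A :=
    g.trans (AlgEquiv.opOp k A).symm.mapMatrix
  haveI hc1 : Algebra.IsCentral k (Matrix (Fin (Module.finrank k Aᵐᵒᵖ))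
      (Fin (Module.finrank k Aᵐᵒᵖ)) (Module.End Aᵐᵒᵖ (Fin n → k'))) :=
    Algebra.IsCentral.of_algEquiv k _ _ g'.symm
  haveI hc : Algebra.IsCentral k (Module.End Aᵐᵒᵖ (Fin n → k')) :=
    Split.isCentral_of_matrix (n := Fin (Module.finrank k Aᵐᵒᵖ))
  haveI hs1 : IsSimpleRing (Matrix (Fin (Module.finrank k Aᵐᵒᵖ))
      (Fin (Module.finrank k Aᵐᵒᵖ)) (Module.End Aᵐᵒᵖ (Fin n → k'))) :=
    IsSimpleRing.of_ringEquiv g'.symm.toRingEquiv inferInstance
  haveI hs : IsSimpleRing (Module.End Aᵐᵒᵖ (Fin n → k')) :=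
    Brauer.isSimpleRing_of_matrix (Fin (Module.finrank k Aᵐᵒᵖ)) _
  haveI hf1 : Module.Finite k (Matrix (Fin (Module.finrank k Aᵐᵒᵖ))
      (Fin (Module.finrank k Aᵐᵒᵖ)) (Module.End Aᵐᵒᵖ (Fin n → k'))) :=
    Module.Finite.equiv g'.symm.toLinearEquiv
  haveI hf : Module.Finite k (Module.End Aᵐᵒᵖ (Fin n → k')) :=
    Module.Finite.of_surjective
      (Matrix.entryLinearMap k (Module.End Aᵐᵒᵖ (Fin n → k'))
        (⟨0, Nat.pos_of_ne_zero hN0⟩ : Fin (Module.finrank k Aᵐᵒᵖ))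
        (⟨0, Nat.pos_of_ne_zero hN0⟩ : Fin (Module.finrank k Aᵐᵒᵖ)))
      (fun f => ⟨fun _ _ => f, rfl⟩)
  let ι : k' →ₐ[k] Module.End Aᵐᵒᵖ (Fin n → k') := Algebra.lsmul k Aᵐᵒᵖ (Fin n → k')
  refine ⟨Module.End Aᵐᵒᵖ (Fin n → k'), inferInstance, inferInstance, hc, hs, hf, ι,
    Module.finrank k (Fin n → k'), Module.finrank k Aᵐᵒᵖ, hm0, hN0, ⟨g'.symm⟩, ?_⟩
  have hd := LinearEquiv.finrank_eq g'.toLinearEquiv
  rw [Module.finrank_matrix, Module.finrank_matrix] at hd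
  simp only [Fintype.card_fin] at hd
  have hA : Module.finrank k A = n ^ 2 := by
    rw [← hAop]
    exact LinearEquiv.finrank_eq (MulOpposite.opLinearEquiv k)
  rw [hA, hm, hAop] at hd
  have hd' : n ^ 2 * n ^ 2 * Module.finrank k (Module.End Aᵐᵒᵖ (Fin n → k')) =
      n ^ 2 * n ^ 2 * Module.finrank k k' ^ 2 := by
    rw [hd]; ring
  exact Nat.eq_of_mul_eq_mul_left (by positivity) hd'

/-- A finite extension k' of k splits a finite central simple algebra A exactly when some algebra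
similar to A contains k' with dim equal to [k':k]^2. Uses Mathlib's bundled CSA and Brauer
equivalence. -/
theorem result (k : Type u) [Field k] (A : CSA.{u, u} k)
    (k' : Type u) [Field k'] [Algebra k k'] [FiniteDimensional k k'] :
    Curves.Splits k A k' ↔ ∃ (B : CSA.{u, u} k) (_ : k' →ₐ[k] B), IsBrauerEquivalent A B ∧
      Module.finrank k B = Module.finrank k k' ^ 2 := by
  constructor
  · intro h
    obtain ⟨Bty, iR, iA, hc, hs, hf, ι, m, N, hm, hN, ⟨iso⟩, hdim⟩ := forward_aux k A k' h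
    exact ⟨{ toAlgCat := AlgCat.of k Bty, isCentral := hc, isSimple := hs, fin_dim := hf }, ι,
      ⟨m, N, hm, hN, ⟨iso⟩⟩, hdim⟩
  · rintro ⟨B, ι, ⟨a, b, ha, hb, ⟨iso⟩⟩, hdim⟩
    haveI : Nonempty (Fin a) := ⟨⟨0, Nat.pos_of_ne_zero ha⟩⟩
    haveI : Nonempty (Fin b) := ⟨⟨0, Nat.pos_of_ne_zero hb⟩⟩
    have h1 : Curves.Splits k B k' := Brauer.splits_of_algHom_field ι hdim
    have h2 : Curves.Splits k (Matrix (Fin b) (Fin b) B) k' := Brauer.splits_matrix b hb h1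
    have h3 : Curves.Splits k (Matrix (Fin a) (Fin a) A) k' := Brauer.splits_of_algEquiv iso h2
    exact Brauer.splits_of_splits_matrix a ha h3

end Groth.Agent.S0195
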