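-- Statement S0197: the degree of a finite splitting field of a central skew field of dimension d^2
-- is divisible by d.
import Groth.Statements.S0197
import Mathlib.LinearAlgebra.Matrix.Action
import Mathlib.LinearAlgebra.Dimension.Free
import Mathlib.LinearAlgebra.Dimension.Constructions

set_option autoImplicit false
universe u v w
open scoped TensorProduct
open Curves

namespace Groth.Agent.S0197

/-- If a finite central skew field D has dimension d^2, the degree of any finite splitting field of D is
divisible by d. -/
theorem result (k : Type u) [Field k]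
    (D : Type u) [DivisionRing D] [Algebra k D] [Algebra.IsCentral k D] [FiniteDimensional k D]
    (d : ℕ) (hd : Module.finrank k D = d ^ 2)
    (k' : Type u) [Field k'] [Algebra k k'] [FiniteDimensional k k'] (hs : Curves.Splits k D k') :
    d ∣ Module.finrank k k' := by
  obtain ⟨n, hn, ⟨e⟩⟩ := hs
  have h1 : Module.finrank k' (k' ⊗[k] D) = Module.finrank k D := Module.finrank_baseChange
  have h2 : Module.finrank k' (Matrix (Fin n) (Fin n) k') = n * n := by
    rw [Module.finrank_matrix]; simp
  have h3 : d ^ 2 = n * n := by
    rw [← hd, ← h1, ← h2]; exact LinearEquiv.finrank_eq e.toLinearEquiv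
  have hnd : n = d := by
    have : d * d = n * n := by rw [← h3, sq]
    exact (Nat.mul_self_inj.1 this).symm
  subst hnd
  let φ : D →+* Matrix (Fin n) (Fin n) k' :=
    (e : k' ⊗[k] D →+* Matrix (Fin n) (Fin n) k').comp
      (Algebra.TensorProduct.includeRight : D →ₐ[k] k' ⊗[k] D).toRingHom
  letI : Module D (Fin n → k') := Module.compHom _ φ
  have hsmul : ∀ (x : D) (v : Fin n → k'), x • v = (φ x).mulVec v := fun _ _ => rfl
  haveI : IsScalarTower k D (Fin n → k') := ⟨fun c x v => by
    rw [hsmul, hsmul]
    have : φ (c • x) = c • φ x := by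
      show e ((1 : k') ⊗ₜ[k] (c • x)) = c • e ((1 : k') ⊗ₜ[k] x)
      rw [TensorProduct.tmul_smul, ← algebraMap_smul k' c ((1 : k') ⊗ₜ[k] x), map_smul,
        algebraMap_smul]
    rw [this, Matrix.smul_mulVec]⟩
  have h4 := Module.finrank_mul_finrank k D (Fin n → k')
  have h5 : Module.finrank k (Fin n → k') = n * Module.finrank k k' := by
    rw [Module.finrank_pi_fintype]; simp
  rw [h5, hd, sq, mul_assoc] at h4
  have hpos : 0 < n := Nat.pos_of_ne_zero hn
  have := Nat.eq_of_mul_eq_mul_left hpos h4
  exact ⟨_, this.symm⟩

end Groth.Agent.S0197
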