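-- Statement S0200: finite central simple <-> split by the separable closure.
import Groth.Statements.S0200
import Groth.Agent.S0199
import Groth.Agent.Lib.Lead.Split
import Mathlib.FieldTheory.IsSepClosed

set_option autoImplicit false
set_option linter.style.haveILetI false
universe u v w
open scoped TensorProduct
open Curves
open Groth.Agent.Lib.Lead

namespace Groth.Agent.S0200

/-- A k-algebra is finite central simple exactly when its base change to the separable closure of k is a
matrix algebra of positive size. -/
theorem result (k : Type u) [Field k] (A : Type v) [Ring A] [Algebra k A] :
    (Algebra.IsCentral k A ∧ IsSimpleRing A ∧ FiniteDimensional k A) ↔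
      Curves.Splits k A (SeparableClosure k) := by
  constructor
  · rintro ⟨hc, hs, hf⟩
    obtain ⟨k', _, _, hfin, hsep, hsplit⟩ := Groth.Agent.S0199.result k A
    haveI := hfin
    haveI := hsep
    let f : k' →ₐ[k] SeparableClosure k := IsSepClosed.lift
    letI : Algebra k' (SeparableClosure k) := f.toRingHom.toAlgebra
    haveI : IsScalarTower k k' (SeparableClosure k) :=
      IsScalarTower.of_algebraMap_eq (fun x => (f.commutes x).symm)
    exact Split.splits_of_tower hsplit
  · exact Split.csa_of_splits

end Groth.Agent.S0200
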