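import Groth.Statements.S0207
import Groth.Agent.Lib.Helper5.ASFinite
import Groth.Agent.S0469

set_option autoImplicit false
universe u
open CategoryTheory CategoryTheory.Limits AlgebraicGeometry
open Curves

namespace Groth.Agent.S0207

/-- On a quasi-compact quasi-separated scheme of dimension d on which the prime p is zero, étale
cohomology with Z/p coefficients vanishes from degree d+2 on. -/
theorem result (p : ℕ) [Fact p.Prime] (S : Scheme.{u}) [CompactSpace S] [QuasiSeparatedSpace S]
    (hp : (p : Γ(S, ⊤)) = 0) (d : ℕ) (hd : topologicalKrullDim S = d) (q : ℕ) (hq : 2 + d ≤ q) :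
    Subsingleton (EtCoh.H S (EtCoh.const S (ZMod p)) q) := by
  have hsp : SpectralSpace S := {}
  have hsp' : SpectralSpace ↑S.toTopCat := hsp
  have hvan : ∀ m, d < m → Subsingleton (EtCoh.H S (EtCoh.Ga S) m) := by
    intro m hm
    have h1 : Subsingleton (Coh.HH S (Coh.structureModule S) m) :=
      Groth.Agent.S0469.result (X := S.toTopCat) d hd.le (Coh.toAb (Coh.structureModule S)) m hm
    exact (Groth.Agent.Lib.Helper5.GaCompare.gaIso S m).toEquiv.subsingleton_congr.1 h1
  have hsurj : ∀ m, m + 1 = q → Function.Surjective (Groth.Agent.Lib.Helper5.ASFinite.asH S p hp m) := by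
    intro m hm x
    have := hvan m (by omega)
    exact ⟨0, Subsingleton.elim _ _⟩
  have hinj := Groth.Agent.Lib.Helper5.ASFinite.ι_injective S p hp q hsurj
  have := Groth.Agent.Lib.Helper5.ASKernel.isIso_κ S p hp
  have h2 : Subsingleton (EtCoh.H S (kernel (Groth.Agent.Lib.Helper5.ASKernel.φ S p hp)) q) := by
    have := hvan q (by omega)
    exact hinj.subsingleton
  exact (Groth.Agent.Lib.Helper13.ExtAdj.extIsoRight _
    (asIso (Groth.Agent.Lib.Helper5.ASKernel.κ S p hp)) q).symm.toEquiv.subsingleton_congr.1 h2

end Groth.Agent.S0207
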