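import Groth.Statements.S0216
-- import your own Groth.Agent.* helpers here
import Groth.Agent.Lib.Helper23.AlgConst2

set_option autoImplicit false
universe u
open CategoryTheory CategoryTheory.Limits AlgebraicGeometry TopologicalSpace
open Curves

namespace Groth.Agent.S0216

/-- If a connected reduced scheme is locally of finite type over two fields k₁ and k₂, then a global
function is integral over k₁ exactly when it is integral over k₂ (the integral closures of the two
base fields in the global functions coincide). -/
theorem result (X : Scheme.{u}) [IsReduced X] [ConnectedSpace X]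
    (k₁ k₂ : Type u) [Field k₁] [Field k₂]
    (a : X ⟶ Spec (CommRingCat.of k₁)) (b : X ⟶ Spec (CommRingCat.of k₂))
    [LocallyOfFiniteType a] [LocallyOfFiniteType b] (x : Coh.Γtop X) :
    (Coh.toGlobal a).IsIntegralElem x ↔ (Coh.toGlobal b).IsIntegralElem x := by
  constructor
  · intro h
    exact Groth.Agent.Lib.Helper23.AlgConst.isIntegralElem_of_isIntegralElem
      (X := X) (Coh.toGlobal a) b x h
  · intro h
    exact Groth.Agent.Lib.Helper23.AlgConst.isIntegralElem_of_isIntegralElem
      (X := X) (Coh.toGlobal b) a x h

end Groth.Agent.S0216
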