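-- Statement S0218.
import Groth.Statements.S0218
import Mathlib.FieldTheory.IsAlgClosed.Spectrum
import Mathlib.Algebra.DualNumber
import Mathlib.RingTheory.Adjoin.Polynomial.Basic

set_option autoImplicit false
universe u
open Curves

namespace Groth.Agent.S0218

/-- Over an algebraically closed field k, a commutative k-algebra with exactly two k-subalgebras is
isomorphic to k × k or to the dual numbers over k. -/
theorem result (k : Type u) [Field k] [IsAlgClosed k] (A : Type u) [CommRing A] [Algebra k A]
    (h : Nat.card (Subalgebra k A) = 2) :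
    Nonempty (A ≃ₐ[k] (k × k)) ∨ Nonempty (A ≃ₐ[k] DualNumber k) := by
  classical
  -- dichotomy
  obtain ⟨T, hT, hTuniq⟩ := (Nat.card_eq_two_iff' (⊥ : Subalgebra k A)).1 h
  have hdich : ∀ S : Subalgebra k A, S ≠ ⊥ → S = ⊤ := by
    intro S hS
    have h1 : S = T := hTuniq S hS
    have h2 : (⊤ : Subalgebra k A) = T := by
      apply hTuniq
      intro htop
      apply hT
      exact eq_bot_iff.2 (htop ▸ le_top)
    rw [h1, h2]
  have hbt : (⊥ : Subalgebra k A) ≠ ⊤ := by
    intro hbt; apply hT; exact eq_bot_iff.2 (hbt ▸ le_top)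
  obtain ⟨x, hx⟩ : ∃ x : A, x ∉ (⊥ : Subalgebra k A) := by
    by_contra hcon
    push_neg at hcon
    exact hbt (eq_top_iff.2 fun a _ => hcon a)
  have hnt : Nontrivial A := ⟨⟨x, 0, fun h0 => hx (h0 ▸ zero_mem _)⟩⟩
  have hinj : Function.Injective (algebraMap k A) := (algebraMap k A).injective
  have hadj : Algebra.adjoin k {x} = ⊤ :=
    hdich _ (fun hb => hx (hb ▸ Algebra.self_mem_adjoin_singleton k x))
  -- a nonzero nonunit
  obtain ⟨y, hy0, hyu⟩ : ∃ y : A, y ≠ 0 ∧ ¬ IsUnit y := by
    by_cases hxu : IsUnit x
    · obtain ⟨u, hu⟩ := hxu.exists_right_inv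
      have hu' : u ∈ Algebra.adjoin k {x} := hadj ▸ Algebra.mem_top
      rw [Algebra.adjoin_singleton_eq_range_aeval] at hu'
      obtain ⟨q, hq⟩ := hu'
      have hq' : Polynomial.aeval x q = u := hq
      obtain ⟨p, hp⟩ : ∃ p : Polynomial k, p = Polynomial.X * q - 1 := ⟨_, rfl⟩
      have hp0 : p ≠ 0 := by
        intro h0
        have := congrArg (fun r => Polynomial.coeff r 0) h0
        simp [hp] at this
      have hpx : Polynomial.aeval x p = 0 := by
        simp [hp, hq', hu]
      have hs := IsAlgClosed.splits p
      have hprod := hs.eq_prod_roots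
      have hlc : p.leadingCoeff ≠ 0 := Polynomial.leadingCoeff_ne_zero.2 hp0
      have hnu : ¬ IsUnit (Polynomial.aeval x
          (Multiset.map (fun a : k => Polynomial.X - Polynomial.C a) p.roots).prod) := by
        intro hunit
        have h1 : Polynomial.aeval x p = algebraMap k A p.leadingCoeff * Polynomial.aeval x
            (Multiset.map (fun a : k => Polynomial.X - Polynomial.C a) p.roots).prod := by
          conv_lhs => rw [hprod]
          rw [map_mul, Polynomial.aeval_C]
        have h2 : IsUnit (Polynomial.aeval x p) := by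
          rw [h1]
          exact ((IsUnit.mk0 _ hlc).map (algebraMap k A)).mul hunit
        rw [hpx] at h2
        exact not_isUnit_zero h2
      obtain ⟨a, ha, -⟩ := spectrum.exists_mem_of_not_isUnit_aeval_prod hnu
      rw [spectrum.mem_iff] at ha
      refine ⟨algebraMap k A a - x, fun h0 => hx ?_, ha⟩
      rw [sub_eq_zero] at h0
      rw [← h0]
      exact Subalgebra.algebraMap_mem _ _
    · exact ⟨x, fun h0 => hx (h0 ▸ zero_mem _), hxu⟩
  -- the subalgebra k + (z)
  let S : A → Subalgebra k A := fun z =>
    { carrier := {a | ∃ c : k, ∃ b : A, a = algebraMap k A c + z * b}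
      mul_mem' := by
        rintro _ _ ⟨c, b, rfl⟩ ⟨c', b', rfl⟩
        refine ⟨c * c', algebraMap k A c * b' + b * algebraMap k A c' + b * z * b', ?_⟩
        rw [map_mul]; ring
      add_mem' := by
        rintro _ _ ⟨c, b, rfl⟩ ⟨c', b', rfl⟩
        refine ⟨c + c', b + b', ?_⟩
        rw [map_add]; ring
      algebraMap_mem' := fun c => ⟨c, 0, by simp⟩ }
  have hS : ∀ z : A, z ≠ 0 → ¬ IsUnit z → S z = ⊤ := by
    intro z hz0 hzu
    apply hdich
    intro hb
    have hz : z ∈ S z := ⟨0, 1, by simp⟩
    rw [hb] at hz
    obtain ⟨c, rfl⟩ := Algebra.mem_bot.1 hz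
    by_cases hc : c = 0
    · apply hz0; rw [hc, map_zero]
    · exact hzu ((IsUnit.mk0 _ hc).map (algebraMap k A))
  -- idempotent or square-zero
  by_cases hy2 : y * y = 0
  · right
    -- dual numbers
    let φ : DualNumber k →ₐ[k] A :=
      DualNumber.lift ⟨(Algebra.ofId k A, y), hy2, fun a => Commute.all _ _⟩
    have hφε : φ DualNumber.eps = y := DualNumber.lift_apply_eps _
    have hynb : y ∉ (⊥ : Subalgebra k A) := by
      intro hyb
      obtain ⟨c, rfl⟩ := Algebra.mem_bot.1 hyb
      rw [← map_mul] at hy2
      have : c * c = 0 := hinj (by rw [hy2, map_zero])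
      have hc : c = 0 := by simpa using this
      apply hy0; rw [hc, map_zero]
    have hrange : φ.range = ⊤ := hdich _ (fun hb => hynb (hb ▸ ⟨DualNumber.eps, hφε⟩))
    have hsurj : Function.Surjective φ := (AlgHom.range_eq_top φ).1 hrange
    have hφinj : Function.Injective φ := by
      rw [injective_iff_map_eq_zero]
      intro d hd
      have hd' : algebraMap k A d.fst + algebraMap k A d.snd * y = 0 := by
        have := DualNumber.lift_apply_apply
          (⟨(Algebra.ofId k A, y), hy2, fun a => Commute.all _ _⟩ :
            {fe : (k →ₐ[k] A) × A // fe.2 * fe.2 = 0 ∧ ∀ a, Commute fe.2 (fe.1 a)}) d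
        rw [← hd]; exact this.symm
      have h1 : algebraMap k A d.fst * y = 0 := by
        have := congrArg (· * y) hd'
        simp only [add_mul, mul_assoc, hy2, mul_zero, add_zero, zero_mul] at this
        exact this
      have hfst : d.fst = 0 := by
        by_contra hne
        have hu : IsUnit (algebraMap k A d.fst) := (IsUnit.mk0 _ hne).map (algebraMap k A)
        exact hy0 ((hu.mul_right_eq_zero).1 h1)
      rw [hfst, map_zero, zero_add] at hd'
      have hsnd : d.snd = 0 := by
        by_contra hne
        have hu : IsUnit (algebraMap k A d.snd) := (IsUnit.mk0 _ hne).map (algebraMap k A)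
        exact hy0 ((hu.mul_right_eq_zero).1 hd')
      exact TrivSqZeroExt.ext hfst hsnd
    exact ⟨(AlgEquiv.ofBijective φ ⟨hφinj, hsurj⟩).symm⟩
  · left
    have hy2u : ¬ IsUnit (y * y) := fun hu => hyu (isUnit_of_mul_isUnit_left hu)
    have hmem : y ∈ S (y * y) := by rw [hS _ hy2 hy2u]; exact Algebra.mem_top
    obtain ⟨c, b, hcb⟩ := hmem
    have hc : c = 0 := by
      by_contra hne
      have hu : IsUnit (algebraMap k A c) := (IsUnit.mk0 _ hne).map (algebraMap k A)
      have : algebraMap k A c = y * (1 - y * b) := by
        have : algebraMap k A c = y - y * y * b := by rw [eq_sub_iff_add_eq]; exact hcb.symm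
        rw [this]; ring
      rw [this] at hu
      exact hyu (isUnit_of_mul_isUnit_left hu)
    rw [hc, map_zero, zero_add] at hcb
    -- idempotent e = y * b
    obtain ⟨e, he⟩ : ∃ e : A, e = y * b := ⟨_, rfl⟩
    have hee : e * e = e := by
      rw [he]
      calc y * b * (y * b) = (y * y * b) * b := by ring
        _ = y * b := by rw [← hcb]
    have hye : y * e = y := by rw [he, ← mul_assoc]; exact hcb.symm
    have he0 : e ≠ 0 := by
      intro h0; apply hy0; rw [← hye, h0, mul_zero]
    have he1 : e ≠ 1 := by
      intro h1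
      apply hyu
      have : y * b = 1 := by rw [← he, h1]
      exact IsUnit.of_mul_eq_one _ this
    have he1' : 1 - e ≠ 0 := fun h0 => he1 (sub_eq_zero.1 h0).symm
    have hee' : e * (1 - e) = 0 := by rw [mul_sub, mul_one, hee, sub_self]
    have hee'' : (1 - e) * (1 - e) = 1 - e := by
      calc (1 - e) * (1 - e) = 1 - e - (e * (1 - e)) := by ring
        _ = 1 - e := by rw [hee', sub_zero]
    let φ : (k × k) →ₐ[k] A :=
      { toFun := fun p => p.1 • e + p.2 • (1 - e)
        map_one' := by simp
        map_mul' := by
          intro p p'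
          simp only [Prod.fst_mul, Prod.snd_mul]
          calc (p.1 * p'.1) • e + (p.2 * p'.2) • (1 - e)
              = (p.1 * p'.1) • (e * e) + (p.2 * p'.2) • ((1 - e) * (1 - e))
                + (p.1 * p'.2 + p.2 * p'.1) • (e * (1 - e)) := by
                rw [hee, hee'', hee', smul_zero, add_zero]
            _ = (p.1 • e + p.2 • (1 - e)) * (p'.1 • e + p'.2 • (1 - e)) := by
                simp only [Algebra.smul_def, map_mul, map_add]; ring
        map_zero' := by simp
        map_add' := by
          intro p p'
          simp only [Prod.fst_add, Prod.snd_add, add_smul]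
          abel
        commutes' := by
          intro c
          simp only [Algebra.algebraMap_eq_smul_one, Prod.smul_fst, Prod.smul_snd, Prod.fst_one,
            Prod.snd_one, smul_eq_mul, mul_one]
          rw [← smul_add]; simp }
    have hφ10 : φ (1, 0) = e := by
      change (1 : k) • e + (0 : k) • (1 - e) = e
      simp
    have henb : e ∉ (⊥ : Subalgebra k A) := by
      intro heb
      obtain ⟨c, hc⟩ := Algebra.mem_bot.1 heb
      have h1 : algebraMap k A (c * c) = algebraMap k A c := by rw [map_mul, hc, hee]
      have h2 : c * c = c := hinj h1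
      have h3 : c = 0 ∨ c = 1 := by
        have : c * (c - 1) = 0 := by rw [mul_sub, h2, mul_one, sub_self]
        rcases mul_eq_zero.1 this with h | h
        · exact Or.inl h
        · exact Or.inr (sub_eq_zero.1 h)
      rcases h3 with h | h
      · apply he0; rw [← hc, h, map_zero]
      · apply he1; rw [← hc, h, map_one]
    have hrange : φ.range = ⊤ := hdich _ (fun hb => henb (hb ▸ ⟨(1, 0), hφ10⟩))
    have hsurj : Function.Surjective φ := (AlgHom.range_eq_top φ).1 hrange
    have hφinj : Function.Injective φ := by
      rw [injective_iff_map_eq_zero]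
      intro p hp
      have hp' : p.1 • e + p.2 • (1 - e) = 0 := hp
      have h1 : p.1 • e = 0 := by
        have := congrArg (· * e) hp'
        simp only [add_mul, smul_mul_assoc, hee, zero_mul] at this
        rw [mul_comm (1 - e) e, hee', smul_zero, add_zero] at this
        exact this
      have h2 : p.2 • (1 - e) = 0 := by rw [h1, zero_add] at hp'; exact hp'
      have hp1 : p.1 = 0 := (smul_eq_zero.1 h1).resolve_right he0
      have hp2 : p.2 = 0 := (smul_eq_zero.1 h2).resolve_right he1'
      exact Prod.ext hp1 hp2
    exact ⟨(AlgEquiv.ofBijective φ ⟨hφinj, hsurj⟩).symm⟩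

end Groth.Agent.S0218
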