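import Groth.Statements.S0219
import Mathlib
import Groth.Agent.Lib.Helper6.DimOneTop

set_option autoImplicit false
universe u
open CategoryTheory CategoryTheory.Limits AlgebraicGeometry TopologicalSpace
open Curves

namespace Groth.Agent.S0219

/-- A morphism over a field from a proper scheme of dimension at most one to a separated scheme, which
does not contract any one-dimensional irreducible component to a point, is finite. -/
theorem result (k : Type u) [Field k] (X Y : Scheme.{u}) (p : X ⟶ Spec (CommRingCat.of k)) (q : Y ⟶ Spec (CommRingCat.of k))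
    [IsProper p] [IsSeparated q] (f : X ⟶ Y) (hf : f ≫ q = p) (hdim : topologicalKrullDim X ≤ 1)
    (h : ∀ Z ∈ irreducibleComponents (X : Type u), topologicalKrullDim Z = 1 → (f.base '' Z).Nontrivial) :
    IsFinite f := by
  haveI : IsProper (f ≫ q) := by rw [hf]; infer_instance
  haveI : IsProper f := IsProper.of_comp f q
  haveI : IsNoetherianRing (CommRingCat.of k) := inferInstanceAs (IsNoetherianRing k)
  haveI : IsLocallyNoetherian X := LocallyOfFiniteType.isLocallyNoetherian p
  haveI : CompactSpace X := QuasiCompact.compactSpace_of_compactSpace p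
  haveI : IsNoetherian X := { toIsLocallyNoetherian := inferInstance, toCompactSpace := inferInstance }
  haveI : TopologicalSpace.NoetherianSpace X := inferInstance
  haveI : LocallyQuasiFinite f := by
    rw [locallyQuasiFinite_iff_finite_preimage_singleton]
    intro y
    by_cases hcl : ∃ x ∈ f ⁻¹' {y}, IsClosed ({x} : Set X)
    · obtain ⟨x₀, hx₀, hx₀c⟩ := hcl
      have hy : IsClosed ({y} : Set Y) := by
        have h1 := f.isClosedMap _ hx₀c
        rwa [Set.image_singleton, (hx₀ : f x₀ = y)] at h1
      have hF : IsClosed (f ⁻¹' {y}) := hy.preimage f.continuous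
      obtain ⟨T, hTfin, hTcl, hTirr, hFT⟩ :=
        TopologicalSpace.NoetherianSpace.exists_finite_set_isClosed_irreducible hF
      rw [hFT, Set.sUnion_eq_biUnion]
      refine hTfin.biUnion fun t ht => ?_
      suffices hsub : t.Subsingleton from hsub.finite
      have htF : t ⊆ f ⁻¹' {y} := by rw [hFT]; exact Set.subset_sUnion_of_mem ht
      obtain ⟨ξ, hξ⟩ : ∃ ξ : X, closure ({ξ} : Set X) = t :=
        ⟨_, isGenericPoint_def.mp ((hTirr t ht).isGenericPoint_genericPoint (hTcl t ht))⟩
      rcases Order.krullDim_le_one_iff.mp hdim (Groth.Agent.Lib.Helper6.DimOneTop.cl ξ) with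
        hmin | hmax
      · rw [← hξ, (Groth.Agent.Lib.Helper6.DimOneTop.isClosed_singleton_of_isMin ξ hmin).closure_eq]
        exact Set.subsingleton_singleton
      · refine Set.subsingleton_of_forall_eq ξ fun x' hx't => ?_
        by_contra hne
        have hξt : ξ ∈ t := hξ ▸ subset_closure rfl
        have hnot : ξ ∉ closure ({x'} : Set X) := by
          intro hmem
          have s1 : x' ⤳ ξ := specializes_iff_mem_closure.mpr hmem
          have s2 : ξ ⤳ x' := specializes_iff_mem_closure.mpr (hξ ▸ hx't)
          exact hne (s1.antisymm s2).eq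
        have hd := Groth.Agent.Lib.Helper6.DimOneTop.topologicalKrullDim_eq_one_of_mem hdim
          (hTirr t ht) hx't hξt hnot
        have hcomp : t ∈ irreducibleComponents X := by
          rw [← hξ]
          exact Groth.Agent.Lib.Helper6.DimOneTop.mem_irreducibleComponents_of_isMax
            (Groth.Agent.Lib.Helper6.DimOneTop.cl ξ) hmax
        obtain ⟨a, ⟨a', ha', rfl⟩, b, ⟨b', hb', rfl⟩, hab⟩ := h t hcomp hd
        exact hab (((htF ha' : f a' = y)).trans (htF hb' : f b' = y).symm)
    · refine Groth.Agent.Lib.Helper6.DimOneTop.finite_setOf_closure_mem_irreducibleComponents.subset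
        fun x hx => ?_
      rcases Order.krullDim_le_one_iff.mp hdim (Groth.Agent.Lib.Helper6.DimOneTop.cl x) with
        hmin | hmax
      · exact absurd
          ⟨x, hx, Groth.Agent.Lib.Helper6.DimOneTop.isClosed_singleton_of_isMin x hmin⟩ hcl
      · exact Groth.Agent.Lib.Helper6.DimOneTop.mem_irreducibleComponents_of_isMax
          (Groth.Agent.Lib.Helper6.DimOneTop.cl x) hmax
  exact IsFinite.of_isProper_of_locallyQuasiFinite f

end Groth.Agent.S0219
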