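import Groth.Statements.S0226
import Mathlib
import Groth.Agent.Lib.Helper9.RegLocal

set_option autoImplicit false
universe u
open Curves

namespace Groth.Agent.S0226


open IsLocalRing Groth.Agent.Lib.Helper9.RegLocal in
theorem aux (A : Type u) [CommRing A] [IsRegularLocalRing A] (hdim : ringKrullDim A = 2)
    (I : Ideal A) (hI : I ≤ maximalIdeal A) [IsReduced (A ⧸ I)] :
    I = ⊥ ∨ I = maximalIdeal A ∨ ∃ f ∈ maximalIdeal A, f ≠ 0 ∧ I = Ideal.span {f} := by
  classical
  haveI : IsDomain A := isDomain_of_isRegularLocalRing A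
  by_cases h0 : I = ⊥
  · exact Or.inl h0
  by_cases hm : I = maximalIdeal A
  · exact Or.inr (Or.inl hm)
  refine Or.inr (Or.inr ?_)
  have hrad : I.IsRadical := (Ideal.isRadical_iff_quotient_reduced I).mpr inferInstance
  have hsInf : sInf I.minimalPrimes = I := by rw [Ideal.sInf_minimalPrimes, hrad.radical]
  have hfin : I.minimalPrimes.Finite := Ideal.finite_minimalPrimes_of_isNoetherianRing A I
  have hmnot : maximalIdeal A ∉ I.minimalPrimes := by
    intro hmem
    apply hm
    rw [← hsInf]
    apply le_antisymm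
    · exact sInf_le hmem
    · apply le_sInf
      intro P hP
      exact hmem.2 hP.1 (le_maximalIdeal hP.1.1.ne_top)
  let T : Set (Ideal A) := insert (maximalIdeal A ^ 2) I.minimalPrimes
  have hT : T.Finite := hfin.insert _
  have hnot : ¬ ((maximalIdeal A : Set A) ⊆ ⋃ P ∈ T, (P : Set A)) := by
    rw [Ideal.subset_union_prime_finite hT (maximalIdeal A ^ 2) (maximalIdeal A ^ 2)
      (fun P hP h1 _ => by
        rcases hP with rfl | hP
        · exact absurd rfl h1
        · exact hP.1.1)]
    rintro ⟨P, hPT, hle⟩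
    rcases hPT with rfl | hP
    · have h2 : (maximalIdeal A : Submodule A A) ≤ maximalIdeal A • (maximalIdeal A : Submodule A A) := by
        rw [smul_eq_mul, ← pow_two]; exact hle
      have h3 := Submodule.eq_bot_of_le_smul_of_le_jacobson_bot (maximalIdeal A)
        (maximalIdeal A : Submodule A A) (maximalIdeal A).fg_of_isNoetherianRing h2
        (jacobson_eq_maximalIdeal ⊥ bot_ne_top).ge
      exact h0 (le_bot_iff.mp (hI.trans h3.le))
    · have h2 : P = maximalIdeal A := le_antisymm (le_maximalIdeal hP.1.1.ne_top) hle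
      exact hmnot (h2 ▸ hP)
  obtain ⟨t, htm, htT⟩ := Set.not_subset.mp hnot
  have ht2 : t ∉ maximalIdeal A ^ 2 := fun h => htT (Set.mem_biUnion (Set.mem_insert _ _) h)
  have htmin : ∀ P ∈ I.minimalPrimes, t ∉ P := fun P hP h =>
    htT (Set.mem_biUnion (Set.mem_insert_of_mem _ hP) h)
  let x : Fin 1 → maximalIdeal A := fun _ => ⟨t, htm⟩
  have hx : LinearIndependent (ResidueField A)
      (fun i => (maximalIdeal A).toCotangent (x i)) := by
    rw [linearIndependent_unique_iff]
    show (maximalIdeal A).toCotangent ⟨t, htm⟩ ≠ 0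
    rw [Ne, Ideal.toCotangent_eq_zero]
    exact ht2
  obtain ⟨hq1, hq2⟩ := quotient_regular A 1 x hx
  have hJ : Ideal.span (Set.range fun i => (x i : A)) = Ideal.span {t} := by
    congr 1
    ext a
    simp [x]
  rw [hJ] at hq1 hq2
  haveI := hq2
  haveI : IsDomain (A ⧸ Ideal.span {t}) := isDomain_of_isRegularLocalRing _
  have hnq : (maximalIdeal (A ⧸ Ideal.span {t})).spanFinrank = 1 := by
    have h5 : ((maximalIdeal (A ⧸ Ideal.span {t})).spanFinrank : WithBot ℕ∞) +
        ((1 : ℕ) : WithBot ℕ∞) = ((2 : ℕ) : WithBot ℕ∞) := by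
      rw [IsRegularLocalRing.spanFinrank_maximalIdeal, hq1, hdim]; rfl
    have h6 : (maximalIdeal (A ⧸ Ideal.span {t})).spanFinrank + 1 = 2 := by
      exact_mod_cast h5
    omega
  have hfr : Module.finrank (ResidueField (A ⧸ Ideal.span {t}))
      (CotangentSpace (A ⧸ Ideal.span {t})) ≤ 1 := by
    rw [← spanFinrank_maximalIdeal_eq_finrank_cotangentSpace, hnq]
  haveI hpir : IsPrincipalIdealRing (A ⧸ Ideal.span {t}) :=
    ((tfae_of_isNoetherianRing_of_isLocalRing_of_isDomain
      (A ⧸ Ideal.span {t})).out 5 0).mp hfr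
  obtain ⟨g, hg⟩ :=
    (IsPrincipalIdealRing.principal (I.map (Ideal.Quotient.mk (Ideal.span {t})))).principal
  have hgmem : g ∈ I.map (Ideal.Quotient.mk (Ideal.span {t})) := by
    rw [hg]; exact Submodule.mem_span_singleton_self g
  obtain ⟨f, hfI, rfl⟩ :=
    (Ideal.mem_map_iff_of_surjective _ Ideal.Quotient.mk_surjective).mp hgmem
  have hle : I ≤ Ideal.span {f} := by
    have key : (I : Submodule A A) ≤
        (Ideal.span {f} : Submodule A A) ⊔ maximalIdeal A • (I : Submodule A A) := by
      intro a ha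
      have h1 : Ideal.Quotient.mk (Ideal.span {t}) a ∈
          I.map (Ideal.Quotient.mk (Ideal.span {t})) := Ideal.mem_map_of_mem _ ha
      rw [hg] at h1
      obtain ⟨b, hb⟩ := Submodule.mem_span_singleton.mp h1
      obtain ⟨b', rfl⟩ := Ideal.Quotient.mk_surjective b
      have h2 : a - b' * f ∈ Ideal.span {t} := by
        rw [← Ideal.Quotient.eq, ← hb, smul_eq_mul, map_mul]
      obtain ⟨c, hc⟩ := Ideal.mem_span_singleton'.mp h2
      have hcI : c ∈ I := by
        rw [← hsInf, Ideal.mem_sInf]
        intro P hP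
        have : c * t ∈ P := by
          rw [hc]; exact hP.1.2 (I.sub_mem ha (I.mul_mem_left _ hfI))
        exact (hP.1.1.mem_or_mem this).resolve_right (htmin P hP)
      have : a = b' * f + c * t := by rw [hc]; ring
      rw [this]
      apply Submodule.add_mem_sup
      · exact Ideal.mul_mem_left _ _ (Ideal.subset_span rfl)
      · rw [mul_comm]
        exact Submodule.smul_mem_smul htm hcI
    exact Submodule.le_of_le_smul_of_le_jacobson_bot I.fg_of_isNoetherianRing
      (jacobson_eq_maximalIdeal ⊥ bot_ne_top).ge key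
  have hIf : I = Ideal.span {f} :=
    le_antisymm hle ((Ideal.span_singleton_le_iff_mem I).mpr hfI)
  refine ⟨f, hI hfI, ?_, hIf⟩
  rintro rfl
  apply h0
  rw [hIf]; simp

/-- In a regular local ring of dimension two, an ideal inside the maximal ideal with reduced quotient is
zero, the maximal ideal, or principal. -/
theorem result (A : Type u) [CommRing A] [IsRegularLocalRing A] (hdim : ringKrullDim A = 2)
    (I : Ideal A) (hI : I ≤ IsLocalRing.maximalIdeal A) [IsReduced (A ⧸ I)] :
    I = ⊥ ∨ I = IsLocalRing.maximalIdeal A ∨ ∃ f ∈ IsLocalRing.maximalIdeal A, f ≠ 0 ∧ I = Ideal.span {f} := by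
  exact aux A hdim I hI

end Groth.Agent.S0226
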