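import Groth.Statements.S2127
import Groth.Agent.Lib.Helper3.QAffCrit
import Groth.Agent.Lib.Helper3.InvSum
import Groth.Agent.S2324

set_option autoImplicit false
universe u
open CategoryTheory AlgebraicGeometry
open Mor

namespace Groth.Agent.S2127

open Groth.Agent.Lib.Helper3 QCSec InvGen InvAmple InvSum in
/-- multiplication by a global function, as an endomorphism of `O_X` -/
noncomputable def mulHom2127 {X : Scheme.{u}} (h : Γ(X, ⊤)) :
    Coh.structureModule X ⟶ Coh.structureModule X :=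
  globalHom (Coh.structureModule X) (ofFun ⊤ h)

open Groth.Agent.Lib.Helper3 QCSec InvGen InvAmple InvSum in
theorem genLocus_mulHom_comp2127 {X : Scheme.{u}} {L : X.Modules} (hL : PicF.IsInvertible L)
    (h : Γ(X, ⊤)) (t : Coh.structureModule X ⟶ L) :
    CohB1.genLocus L (mulHom2127 h ≫ t) = X.basicOpen h ⊓ CohB1.genLocus L t := by
  ext x
  obtain ⟨V, e, hxV, hg⟩ := exists_isGen hL x
  obtain ⟨f, hf⟩ := hg.self.exists_coord (sec t V)
  have h1 : sec (mulHom2127 h ≫ t) V = (rres X (le_top : V ≤ ⊤) h * f) • e := by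
    rw [sec_comp]
    have h2 : sec (mulHom2127 h) V = ofFun V (rres X (le_top : V ≤ ⊤) h) := by
      unfold mulHom2127
      rw [sec_globalHom, res_ofFun]
    rw [h2, app_eq_smul_sec, mul_smul, hf]
  have e1 := genLocus_inf_eq_basicOpen (mulHom2127 h ≫ t) hg _ h1
  have e2 := genLocus_inf_eq_basicOpen t hg f hf.symm
  have e3 : X.basicOpen (rres X (le_top : V ≤ ⊤) h) = V ⊓ X.basicOpen h :=
    Scheme.basicOpen_res _ _ _
  rw [Scheme.basicOpen_mul, e3, ← e2] at e1
  constructor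
  · intro hx
    have : x ∈ CohB1.genLocus L (mulHom2127 h ≫ t) ⊓ V := ⟨hx, hxV⟩
    rw [e1] at this
    exact ⟨this.1.2, this.2.1⟩
  · rintro ⟨hxh, hxt⟩
    have : x ∈ (V ⊓ X.basicOpen h) ⊓ (CohB1.genLocus L t ⊓ V) := ⟨⟨hxV, hxh⟩, ⟨hxt, hxV⟩⟩
    rw [← e1] at this
    exact this.1

open Groth.Agent.Lib.Helper3 QCSec InvGen InvAmple InvSum QAffCrit FreeSec InvCoh in

/-- Let `X` be a quasi-affine scheme, `L` an invertible `O_X`-module, `W ⊆ X` open and `E ⊆ W` finite.
Then there is a global section `s` of `L` with `X_s` affine and `E ⊆ X_s ⊆ W`. -/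
theorem result {X : Scheme.{u}} [X.IsQuasiAffine] (L : X.Modules) (hL : PicF.IsInvertible L)
    (W : X.Opens) (E : Set X) (hE : E.Finite) (hEW : E ⊆ W) :
    ∃ s : Coh.structureModule X ⟶ L, IsAffineOpen (CohB1.genLocus L s) ∧ E ⊆ CohB1.genLocus L s ∧
      CohB1.genLocus L s ≤ W := by
  classical
  haveI := isQuasicoherent_of_isInvertible hL
  have hgg := isGloballyGenerated_of_isQuasiAffine L
  obtain ⟨Z', hZ'Z, hspec, hcl⟩ := Groth.Agent.S2324.exists_closed_points_of_finite E hE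
  have hZ'fin : Z'.Finite := hE.subset hZ'Z
  haveI : Fintype Z' := hZ'fin.fintype
  have hnb : ∀ z : Z', ∃ t : Coh.structureModule X ⟶ L, (z : X) ∈ CohB1.genLocus L t ∧
      CohB1.genLocus L t ≤ W ⊓ ⟨(closure (Z' \ {(z : X)}))ᶜ, isClosed_closure.isOpen_compl⟩ ∧
      IsAffineOpen (CohB1.genLocus L t) := by
    intro z
    obtain ⟨t, ht⟩ := exists_mem_genLocus_of_isGloballyGenerated hL hgg (z : X)
    obtain ⟨_, ⟨r, hr, rfl⟩, hxr, hrle⟩ := TopologicalSpace.Opens.isBasis_iff_nbhd.mp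
      (Scheme.IsQuasiAffine.isBasis_basicOpen X)
      (show (z : X) ∈ W ⊓ ⟨(closure (Z' \ {(z : X)}))ᶜ, isClosed_closure.isOpen_compl⟩ from
        ⟨hEW (hZ'Z z.2), hcl z z.2⟩)
    refine ⟨mulHom2127 r ≫ t, ?_, ?_, ?_⟩
    · rw [genLocus_mulHom_comp2127 hL]; exact ⟨hxr, ht⟩
    · rw [genLocus_mulHom_comp2127 hL]; exact inf_le_left.trans hrle
    · rw [genLocus_mulHom_comp2127 hL, inf_comm]
      exact isAffineOpen_genLocus_inf hL t hr
  choose t hzt htle htaff using hnb
  refine ⟨∑ z ∈ (Finset.univ : Finset Z'), t z, ?_, ?_, ?_⟩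
  · exact isAffineOpen_genLocus_sum hL _ _ (fun i _ => htaff i)
  · intro z hz
    obtain ⟨w, hw, hzw⟩ := hspec z hz
    have hw' : w ∈ CohB1.genLocus _ (∑ z ∈ (Finset.univ : Finset Z'), t z) := by
      apply mem_genLocus_sum_of_unique hL Finset.univ t w ⟨w, hw⟩ (Finset.mem_univ _)
      · exact hzt ⟨w, hw⟩
      · intro i _ hi hwi
        have h1 := (htle i hwi).2
        apply h1
        apply subset_closure
        refine ⟨hw, ?_⟩
        intro h2
        apply hi
        exact Subtype.ext h2.symm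
    exact hzw.mem_open (CohB1.genLocus _ _).2 hw'
  · intro x hx
    obtain ⟨i, -, hi⟩ := exists_mem_genLocus_of_mem_genLocus_sum hL Finset.univ t x hx
    exact (htle i hi).1

end Groth.Agent.S2127
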