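import Groth.Statements.S0235
import Groth.Agent.S2127

set_option autoImplicit false
universe u
open CategoryTheory CategoryTheory.Limits AlgebraicGeometry
open Curves

namespace Groth.Agent.S0235

open Groth.Agent.Lib.Helper3 QCSec InvGen InvAmple InvRestrict in

/-- For a finite morphism π : X → Y and an invertible module L on X, every point y of Y has an open
neighbourhood V such that L is trivial on the preimage of V. -/
theorem result {X Y : Scheme.{u}} (π : X ⟶ Y) [IsFinite π]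
    (L : X.Modules) (hL : PicF.IsInvertible L) (y : Y) :
    ∃ V : Y.Opens, y ∈ V ∧ Nonempty (L.restrict (π ⁻¹ᵁ V).ι ≅ Coh.structureModule (↑(π ⁻¹ᵁ V))) := by
  obtain ⟨V₀, hV₀, hyV₀⟩ := QCProps.exists_affine_nbhd y
  have hX' : IsAffineOpen (π ⁻¹ᵁ V₀) := hV₀.preimage π
  haveI : IsAffine ((π ⁻¹ᵁ V₀ : X.Opens) : Scheme.{u}) := hX'
  have hEfin : (π ⁻¹' {y}).Finite := Scheme.Hom.finite_preimage_singleton π y
  have hE'fin : ((π ⁻¹ᵁ V₀).ι ⁻¹' (π ⁻¹' {y})).Finite :=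
    hEfin.preimage ((π ⁻¹ᵁ V₀).ι.isOpenEmbedding.injective.injOn)
  obtain ⟨s', -, hEs', -⟩ := Groth.Agent.S2127.result (L.restrict (π ⁻¹ᵁ V₀).ι)
    (isInvertible_restrict _ hL) ⊤ _ hE'fin (fun _ _ => trivial)
  let G : X.Opens := (π ⁻¹ᵁ V₀).ι ''ᵁ (CohB1.genLocus _ s')
  have hgen : IsGen L G (show Γ(L, G) from sec s' (CohB1.genLocus _ s')) :=
    (isGen_restrict_iff (π ⁻¹ᵁ V₀).ι L _ _).mp (isGen_genLocus s')
  have hEG : π ⁻¹' {y} ⊆ (G : Set X) := by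
    intro x hx
    have hxV₀ : x ∈ π ⁻¹ᵁ V₀ := by
      change π x ∈ V₀
      rw [Set.mem_preimage, Set.mem_singleton_iff] at hx
      rw [hx]; exact hyV₀
    exact ⟨⟨x, hxV₀⟩, hEs' (show (⟨x, hxV₀⟩ : ↥(π ⁻¹ᵁ V₀)) ∈ _ from hx), rfl⟩
  have hcl : IsClosed (π '' ((G : Set X)ᶜ)) :=
    π.isClosedMap _ G.isOpen.isClosed_compl
  let V : Y.Opens := V₀ ⊓ ⟨(π '' ((G : Set X)ᶜ))ᶜ, hcl.isOpen_compl⟩
  have hyV : y ∈ V := by
    refine ⟨hyV₀, ?_⟩
    rintro ⟨x, hxG, hxy⟩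
    exact hxG (hEG hxy)
  have hVG : π ⁻¹ᵁ V ≤ G := by
    intro x hx
    by_contra hxG
    exact hx.2 ⟨x, hxG, rfl⟩
  refine ⟨V, hyV, ?_⟩
  have hgen' := hgen.mono hVG
  exact ⟨(@asIso _ _ _ _ _ (isIso_homOfSec hgen')).symm⟩

end Groth.Agent.S0235
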