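-- Statement S0243.
import Groth.Statements.S0243
import Groth.Agent.Lib.Helper1.FEtEqualizer

set_option autoImplicit false
universe u
open Pi1

namespace Groth.Agent.S0243

open AlgebraicGeometry CategoryTheory CategoryTheory.Limits in
/-- If a closed subscheme meets every connected component of the ambient scheme, restricting finite
etale covers to it is a faithful functor. -/
theorem result {X Y : Scheme.{u}} (i : Y ⟶ X) [IsClosedImmersion i]
    (h : ∀ x : X, (connectedComponent x ∩ Set.range i.base).Nonempty) :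
    (FEt.restrict i).Faithful := by
  classical
  refine ⟨fun {Y₁ Y₂} a b hab => ?_⟩
  obtain ⟨U, hU, hsub, hUab⟩ := Groth.Agent.Lib.Helper1.FEt.exists_clopen_of_restrict_map_eq i a b hab
  apply hUab
  have hfin : IsFinite Y₁.hom := Y₁.prop.1
  have het : Etale Y₁.hom := Y₁.prop.2
  by_contra hne
  obtain ⟨y, hy⟩ : ∃ y, y ∉ U := by
    by_contra hcon
    push_neg at hcon
    exact hne (Set.eq_univ_of_forall hcon)
  have hU' : IsClopen Uᶜ := hU.compl
  have himg : IsClopen (Y₁.hom.base '' Uᶜ) :=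
    ⟨(Scheme.Hom.isClosedMap Y₁.hom) _ hU'.1, (Scheme.Hom.isOpenMap Y₁.hom) _ hU'.2⟩
  have hsubc : connectedComponent (Y₁.hom.base y) ⊆ Y₁.hom.base '' Uᶜ :=
    himg.connectedComponent_subset ⟨y, hy, rfl⟩
  obtain ⟨x, hxc, ⟨z, rfl⟩⟩ := h (Y₁.hom.base y)
  obtain ⟨y', hy', hy'x⟩ := hsubc hxc
  exact hy' (hsub ⟨z, hy'x.symm⟩)

end Groth.Agent.S0243
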