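-- Statement S0249.
import Groth.Statements.S0249
import Mathlib.RingTheory.Ideal.KrullsHeightTheorem

set_option autoImplicit false
universe u
open Pi1

namespace Groth.Agent.S0249

open AlgebraicGeometry CategoryTheory CategoryTheory.Limits in
/-- Let A be a Noetherian local ring of dimension at least 1 and f an element of its maximal ideal. Then
some prime ideal of height exactly 1 contains f. -/
theorem result (A : Type u) [CommRing A] [IsNoetherianRing A] [IsLocalRing A]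
    (h : (1 : WithBot ℕ∞) ≤ ringKrullDim A) (f : A) (hf : f ∈ IsLocalRing.maximalIdeal A) :
    ∃ p : Ideal A, p.IsPrime ∧ f ∈ p ∧ p.height = 1 := by
  classical
  let Sg : Set (Ideal A) := {p | p.IsPrime ∧ f ∈ p ∧ 1 ≤ p.height}
  have hm : IsLocalRing.maximalIdeal A ∈ Sg := by
    refine ⟨inferInstance, hf, ?_⟩
    have h0 := IsLocalRing.maximalIdeal_height_eq_ringKrullDim (R := A)
    rw [← h0] at h
    exact_mod_cast h
  obtain ⟨p, hpS, hpmin⟩ : ∃ p ∈ Sg, ∀ q ∈ Sg, p.height ≤ q.height := by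
    obtain ⟨p, hp, hmin⟩ := (InvImage.wf (Ideal.height (R := A))
      (wellFounded_lt (α := ℕ∞))).has_min Sg ⟨_, hm⟩
    exact ⟨p, hp, fun q hq => not_lt.mp (hmin q hq)⟩
  obtain ⟨hpprime, hfp, hp1⟩ := hpS
  refine ⟨p, hpprime, hfp, le_antisymm ?_ hp1⟩
  by_contra hgt
  have hgt' : ¬ p.height ≤ ((1 : ℕ) : ℕ∞) := by simpa using hgt
  rw [Ideal.height_le_iff] at hgt'
  push_neg at hgt'
  obtain ⟨p', hp'prime, hp'lt, hp'ht⟩ := hgt'
  have hp'1 : 1 ≤ p'.height := by simpa using hp'ht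
  have hfp' : f ∉ p' := fun hmem =>
    absurd (hpmin p' ⟨hp'prime, hmem, hp'1⟩)
      (not_le.mpr (Ideal.height_strict_mono_of_isPrime_of_isPrime hp'lt))
  obtain ⟨q₀, hq₀min, hq₀le⟩ := Ideal.exists_minimalPrimes_le (bot_le : (⊥ : Ideal A) ≤ p')
  have hq₀prime : q₀.IsPrime := hq₀min.isPrime
  have hq₀ht : q₀.height = 0 := Ideal.height_eq_zero_iff.mpr hq₀min
  have hq₀lt : q₀ < p' := lt_of_le_of_ne hq₀le (by
    rintro rfl
    rw [hq₀ht] at hp'1
    exact absurd hp'1 (by simp))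
  have hfq₀ : f ∉ q₀ := fun hmem => hfp' (hq₀le hmem)
  have hq₀p : q₀ < p := hq₀lt.trans hp'lt
  have hIle : q₀ ⊔ Ideal.span {f} ≤ p :=
    sup_le hq₀p.le ((Ideal.span_singleton_le_iff_mem _).mpr hfp)
  obtain ⟨P, hPmin, hPle⟩ := Ideal.exists_minimalPrimes_le hIle
  have hPprime : P.IsPrime := hPmin.isPrime
  have hfP : f ∈ P := hPmin.1.2 (Ideal.mem_sup_right (Ideal.mem_span_singleton_self f))
  have hq₀P : q₀ < P := lt_of_le_of_ne (le_sup_left.trans hPmin.1.2) (fun heq => hfq₀ (heq ▸ hfP))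
  have hP1 : 1 ≤ P.height :=
    le_trans (by simp) (Ideal.height_add_one_le_of_lt_of_isPrime hq₀P)
  have hPp : P = p :=
    Ideal.eq_of_le_of_height_le (I := P) (h := hPle) (h_height := hpmin P ⟨hPprime, hfP, hP1⟩)
  have hpmin' : p ∈ (q₀ ⊔ Ideal.span {f}).minimalPrimes := hPp ▸ hPmin
  have hK : (p.map (Ideal.Quotient.mk q₀)).height ≤ 1 :=
    Ideal.map_height_le_one_of_mem_minimalPrimes hpmin'
  have hker : RingHom.ker (Ideal.Quotient.mk q₀) = q₀ := Ideal.mk_ker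
  have hsurj : Function.Surjective (Ideal.Quotient.mk q₀) := Ideal.Quotient.mk_surjective
  have hp'map : (p'.map (Ideal.Quotient.mk q₀)).IsPrime :=
    Ideal.map_isPrime_of_surjective hsurj (by rw [hker]; exact hq₀lt.le)
  have hpmap : (p.map (Ideal.Quotient.mk q₀)).IsPrime :=
    Ideal.map_isPrime_of_surjective hsurj (by rw [hker]; exact hq₀p.le)
  have hcm : ∀ I : Ideal A, q₀ ≤ I →
      Ideal.comap (Ideal.Quotient.mk q₀) (Ideal.map (Ideal.Quotient.mk q₀) I) = I := by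
    intro I hI
    rw [Ideal.comap_map_of_surjective _ hsurj, ← RingHom.ker_eq_comap_bot, hker,
      sup_eq_left.mpr hI]
  have hlt1 : (⊥ : Ideal (A ⧸ q₀)) < p'.map (Ideal.Quotient.mk q₀) := by
    rw [bot_lt_iff_ne_bot]
    intro hbot
    have h1 := hcm p' hq₀lt.le
    rw [hbot, ← RingHom.ker_eq_comap_bot, hker] at h1
    exact hq₀lt.ne h1
  have hlt2 : p'.map (Ideal.Quotient.mk q₀) < p.map (Ideal.Quotient.mk q₀) := by
    refine lt_of_le_of_ne (Ideal.map_mono hp'lt.le) (fun heq => ?_)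
    have h1 := congrArg (Ideal.comap (Ideal.Quotient.mk q₀)) heq
    rw [hcm p' hq₀lt.le, hcm p hq₀p.le] at h1
    exact hp'lt.ne h1
  have hbotprime : (⊥ : Ideal (A ⧸ q₀)).IsPrime := Ideal.isPrime_bot
  have h2 : (2 : ℕ∞) ≤ (p.map (Ideal.Quotient.mk q₀)).height := by
    have e1 := Ideal.height_add_one_le_of_lt_of_isPrime hlt1
    have e2 := Ideal.height_add_one_le_of_lt_of_isPrime hlt2
    calc (2 : ℕ∞) = 0 + 1 + 1 := by norm_num
      _ ≤ (⊥ : Ideal (A ⧸ q₀)).height + 1 + 1 := by gcongr; exact zero_le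
      _ ≤ (p'.map (Ideal.Quotient.mk q₀)).height + 1 := by gcongr
      _ ≤ _ := e2
  exact absurd (h2.trans hK) (by norm_num)

end Groth.Agent.S0249
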