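import Groth.Statements.S0253
import Mathlib.FieldTheory.IsSepClosed
import Mathlib.FieldTheory.Perfect
import Mathlib.RingTheory.Polynomial.GaussLemma
import Mathlib.RingTheory.Localization.LocalizationLocalization
import Mathlib.RingTheory.IntegralClosure.IntegrallyClosed
import Mathlib.RingTheory.LocalRing.ResidueField.Ideal
import Mathlib.Algebra.Polynomial.Lifts

set_option autoImplicit false
universe u
open Pi1

namespace Groth.Agent.S0253

section aux
open Polynomial

variable (B : Type u) [CommRing B] [IsDomain B] [IsLocalRing B] [IsIntegrallyClosed B]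
  (K : Type u) [Field K] [Algebra B K] [IsFractionRing B K]

/-- Step A: a root in `K` of a monic polynomial over `B` comes from a root in `B`. -/
lemma root_in_B {f : B[X]} (hf : f.Monic) {α : K} (hα : (f.map (algebraMap B K)).eval α = 0) :
    ∃ b : B, f.eval b = 0 := by
  have hint : IsIntegral B α := ⟨f, hf, by rwa [eval_map] at hα⟩
  obtain ⟨b, rfl⟩ := IsIntegrallyClosed.algebraMap_eq_of_integral hint
  refine ⟨b, ?_⟩
  rw [eval_map, eval₂_at_apply] at hα
  exact (IsFractionRing.injective B K) (by rw [hα, map_zero])

/-- a monic lift of a separable polynomial over the residue field is separable over `K`. -/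
lemma separable_lift {f : B[X]} (hf : f.Monic)
    (hsep : (f.map (IsLocalRing.residue B)).Separable) :
    (f.map (algebraMap B K)).Separable := by
  classical
  have hinj : Function.Injective (algebraMap B K) := IsFractionRing.injective B K
  rw [separable_def]
  refine isCoprime_of_irreducible_dvd ?_ ?_
  · rintro ⟨h0, -⟩
    exact (hf.map (algebraMap B K)).ne_zero h0
  · intro g hg hgf hgf'
    -- make g monic
    have hg0 : g ≠ 0 := hg.ne_zero
    obtain ⟨g₀, hg₀⟩ := IsIntegrallyClosed.eq_map_mul_C_of_dvd K hf hgf
    have hlc : g.leadingCoeff ≠ 0 := leadingCoeff_ne_zero.2 hg0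
    obtain ⟨c, hc⟩ : ∃ c, c = g.leadingCoeff := ⟨_, rfl⟩
    rw [← hc] at hg₀ hlc
    -- g₀.map is associated to g
    have hassoc : g₀.map (algebraMap B K) ∣ g := ⟨C c, hg₀.symm⟩
    have hassoc' : g ∣ g₀.map (algebraMap B K) := by
      refine ⟨C c⁻¹, ?_⟩
      rw [← hg₀, mul_assoc, ← C_mul, mul_inv_cancel₀ hlc, C_1, mul_one]
    have hg₀m : g₀.Monic := by
      apply monic_of_injective hinj
      have h1 : (g₀.map (algebraMap B K)).leadingCoeff * c = c := by
        have := congrArg leadingCoeff hg₀
        rw [leadingCoeff_mul, leadingCoeff_C, ← hc] at this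
        exact this
      have : (g₀.map (algebraMap B K)).leadingCoeff = 1 := by
        have h2 := congrArg (· * c⁻¹) h1
        simp only [mul_assoc, mul_inv_cancel₀ hlc, mul_one] at h2
        exact h2
      exact this
    have hdeg : g₀.natDegree ≠ 0 := by
      intro h0
      have : g₀ = 1 := by
        rw [hg₀m.natDegree_eq_zero] at h0; exact h0
      rw [this, Polynomial.map_one] at hassoc'
      exact hg.not_isUnit (isUnit_of_dvd_one hassoc')
    -- g₀ ∣ f and g₀ ∣ f'
    have h1 : g₀ ∣ f := (map_dvd_map _ hinj hg₀m).1 (hassoc.trans hgf)
    have h2 : g₀ ∣ derivative f := by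
      refine (map_dvd_map _ hinj hg₀m).1 (hassoc.trans ?_)
      rw [← derivative_map]; exact hgf'
    -- reduce mod m
    have h1' : g₀.map (IsLocalRing.residue B) ∣ f.map (IsLocalRing.residue B) :=
      Polynomial.map_dvd _ h1
    have h2' : g₀.map (IsLocalRing.residue B) ∣ derivative (f.map (IsLocalRing.residue B)) := by
      rw [derivative_map]; exact Polynomial.map_dvd _ h2
    have hcop : IsCoprime (f.map (IsLocalRing.residue B))
        (derivative (f.map (IsLocalRing.residue B))) := hsep
    have hunit := hcop.isUnit_of_dvd' h1' h2'
    have hm' : (g₀.map (IsLocalRing.residue B)).Monic := hg₀m.map _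
    have := natDegree_eq_zero_of_isUnit hunit
    rw [hg₀m.natDegree_map] at this
    exact hdeg this

variable [IsSepClosed K]

include K in
lemma sepClosed_res : IsSepClosed (IsLocalRing.ResidueField B) := by
  refine IsSepClosed.of_exists_root _ ?_
  intro q hqm hqi hqs
  obtain ⟨f, hfq, hfd, hfm⟩ := lifts_and_natDegree_eq_and_monic
    (mem_lifts_of_surjective (f := IsLocalRing.residue B) IsLocalRing.residue_surjective q) hqm
  have hsep : (f.map (algebraMap B K)).Separable := by
    apply separable_lift B K hfm
    rw [hfq]; exact hqs
  have hdeg : (f.map (algebraMap B K)).degree ≠ 0 := by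
    rw [degree_map_eq_of_injective (IsFractionRing.injective B K)]
    intro h0
    have h1 : f.natDegree = 0 := natDegree_eq_of_degree_eq_some h0
    rw [hfd] at h1
    have : q = 1 := by rwa [hqm.natDegree_eq_zero] at h1
    exact hqi.not_isUnit (this ▸ isUnit_one)
  obtain ⟨α, hα⟩ := IsSepClosed.exists_root _ hdeg hsep
  obtain ⟨b, hb⟩ := root_in_B B K hfm hα
  refine ⟨IsLocalRing.residue B b, ?_⟩
  rw [← hfq, eval_map, eval₂_at_apply, hb, map_zero]

include K in
lemma perfect_res (hm : IsLocalRing.maximalIdeal B ≠ ⊥) :
    PerfectField (IsLocalRing.ResidueField B) := by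
  classical
  obtain ⟨ℓ, hℓ⟩ := CharP.exists (IsLocalRing.ResidueField B)
  rcases CharP.char_is_prime_or_zero (IsLocalRing.ResidueField B) ℓ with hprime | h0
  · haveI : Fact ℓ.Prime := ⟨hprime⟩
    haveI : ExpChar (IsLocalRing.ResidueField B) ℓ := ExpChar.prime hprime
    haveI : PerfectRing (IsLocalRing.ResidueField B) ℓ := by
      refine PerfectRing.ofSurjective _ ℓ ?_
      intro cbar
      obtain ⟨c, rfl⟩ := IsLocalRing.residue_surjective cbar
      obtain ⟨t, htm, ht0⟩ := Submodule.exists_mem_ne_zero_of_ne_bot hm
      -- the polynomial T^ℓ + t T - c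
      set g : B[X] := X ^ ℓ + C t * X - C c with hg
      have hℓ2 : 2 ≤ ℓ := hprime.two_le
      have hgm : g.Monic := by
        have h1 : (C t * X - C c : B[X]).degree < (ℓ : WithBot ℕ) := by
          refine lt_of_le_of_lt (degree_sub_le _ _) ?_
          refine max_lt ?_ ?_
          · refine lt_of_le_of_lt (degree_C_mul_X_le t) ?_
            exact_mod_cast (by omega : 1 < ℓ)
          · refine lt_of_le_of_lt degree_C_le ?_
            exact_mod_cast (by omega : 0 < ℓ)
        have : g = X ^ ℓ + (C t * X - C c) := by rw [hg]; ring
        rw [this]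
        exact monic_X_pow_add h1
      have hroot : ∃ α : K, (g.map (algebraMap B K)).eval α = 0 := by
        have hev : ∀ α : K, (g.map (algebraMap B K)).eval α =
            1 * α ^ ℓ + algebraMap B K t * α + (- algebraMap B K c) := by
          intro α
          simp [hg]; ring
        have htK : algebraMap B K t ≠ 0 := by
          rw [Ne, map_eq_zero_iff _ (IsFractionRing.injective B K)]; exact ht0
        by_cases hℓK : (ℓ : K) = 0
        · obtain ⟨x, hx⟩ := IsSepClosed.exists_root_C_mul_X_pow_add_C_mul_X_add_C (1 : K)
            (algebraMap B K t) (- algebraMap B K c) hℓK hℓ2 htK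
          exact ⟨x, by rw [hev]; exact hx⟩
        · -- K has characteristic zero, hence is algebraically closed
          haveI : CharZero K := by
            obtain ⟨p', hp'⟩ := CharP.exists K
            rcases CharP.char_is_prime_or_zero K p' with hp'prime | hp'0
            · exfalso
              have h2 : (p' : B) = 0 := by
                apply IsFractionRing.injective B K
                rw [map_natCast, map_zero]; exact CharP.cast_eq_zero K p'
              have h3 : (p' : IsLocalRing.ResidueField B) = 0 := by
                rw [← map_natCast (IsLocalRing.residue B), h2, map_zero]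
              have h4 : ℓ ∣ p' := (CharP.cast_eq_zero_iff _ ℓ p').1 h3
              have h5 : ℓ = p' := (Nat.prime_dvd_prime_iff_eq hprime hp'prime).1 h4
              apply hℓK
              rw [h5]; exact CharP.cast_eq_zero K p'
            · subst hp'0
              exact CharP.charP_to_charZero K
          haveI : IsAlgClosed K := inferInstance
          have hdeg : (g.map (algebraMap B K)).degree ≠ 0 := by
            rw [degree_map_eq_of_injective (IsFractionRing.injective B K)]
            have hgd : g.degree = (ℓ : WithBot ℕ) := by
              have h1 : (C t * X - C c : B[X]).degree < (ℓ : WithBot ℕ) := by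
                refine lt_of_le_of_lt (degree_sub_le _ _) ?_
                refine max_lt ?_ ?_
                · refine lt_of_le_of_lt (degree_C_mul_X_le t) ?_
                  exact_mod_cast (by omega : 1 < ℓ)
                · refine lt_of_le_of_lt degree_C_le ?_
                  exact_mod_cast (by omega : 0 < ℓ)
              have h2 : g = X ^ ℓ + (C t * X - C c) := by rw [hg]; ring
              rw [h2, degree_add_eq_left_of_degree_lt (by rwa [degree_X_pow]), degree_X_pow]
            rw [hgd]
            intro h0
            have : ℓ = 0 := by exact_mod_cast h0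
            omega
          obtain ⟨x, hx⟩ := IsAlgClosed.exists_root _ hdeg
          exact ⟨x, hx⟩
      obtain ⟨α, hα⟩ := hroot
      obtain ⟨b, hb⟩ := root_in_B B K hgm hα
      refine ⟨IsLocalRing.residue B b, ?_⟩
      have h1 : b ^ ℓ + t * b - c = 0 := by
        have := hb; simp [hg] at this; exact this
      have h2 : IsLocalRing.residue B t = 0 := (IsLocalRing.residue_eq_zero_iff t).2 htm
      have h3 := congrArg (IsLocalRing.residue B) h1
      rw [map_sub, map_add, map_mul, h2, zero_mul, add_zero, map_pow, map_zero, sub_eq_zero] at h3
      rw [frobenius_def]; exact h3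
    exact PerfectRing.toPerfectField _ ℓ
  · subst h0
    haveI : CharZero (IsLocalRing.ResidueField B) := CharP.charP_to_charZero _
    infer_instance

include K in
theorem core (hm : IsLocalRing.maximalIdeal B ≠ ⊥) : IsAlgClosed (IsLocalRing.ResidueField B) := by
  haveI := sepClosed_res B K
  haveI := perfect_res B K hm
  infer_instance

end aux


open AlgebraicGeometry CategoryTheory CategoryTheory.Limits in
/-- Let A be an integrally closed domain whose fraction field is separably closed. Then the residue
field at any nonzero prime ideal of A is algebraically closed. -/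
theorem result (A : Type u) [CommRing A] [IsDomain A] [IsIntegrallyClosed A] [IsSepClosed (FractionRing A)]
    (p : Ideal A) [p.IsPrime] (hp : p ≠ ⊥) : IsAlgClosed p.ResidueField := by
  have hM : p.primeCompl ≤ nonZeroDivisors A := by
    intro x hx
    rw [mem_nonZeroDivisors_iff_ne_zero]
    rintro rfl
    exact hx (zero_mem p)
  haveI : IsIntegrallyClosed (Localization.AtPrime p) :=
    isIntegrallyClosed_of_isLocalization (Localization.AtPrime p) p.primeCompl hM
  refine core (Localization.AtPrime p) (FractionRing A) ?_
  obtain ⟨x, hxp, hx0⟩ := Submodule.exists_mem_ne_zero_of_ne_bot hp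
  intro hbot
  have h1 : algebraMap A (Localization.AtPrime p) x ∈
      IsLocalRing.maximalIdeal (Localization.AtPrime p) :=
    (IsLocalization.AtPrime.to_map_mem_maximal_iff _ p x).2 hxp
  rw [hbot, Ideal.mem_bot] at h1
  exact hx0 ((IsLocalization.injective (Localization.AtPrime p) hM) (by rw [h1, map_zero]))

end Groth.Agent.S0253
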