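import Groth.Statements.S0258
import Groth.Agent.Lib.Helper14.DepthTwoFEt

set_option autoImplicit false
universe u
open Pi1

namespace Groth.Agent.S0258

open AlgebraicGeometry CategoryTheory CategoryTheory.Limits in
/-- For a Noetherian local ring A of depth at least 2, the functor restricting finite étale covers of
Spec A to the punctured spectrum is fully faithful (full and faithful). The published statement
assumes instead that the punctured spectrum of the strict henselization of A is connected; depth at
least 2 is a sufficient condition for this, and the result is stated here under that hypothesis. -/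
theorem result (A : Type u) [CommRing A] [IsNoetherianRing A] [IsLocalRing A] (hA : (2 : ℕ∞) ≤ LocCoh.depth A A) :
    (FEt.restrict (FEt.puncturedSpec A).ι).Full ∧ (FEt.restrict (FEt.puncturedSpec A).ι).Faithful := by
  classical
  have key : ∀ (Y : FEt.Cat (Spec (CommRingCat.of A))),
      Function.Bijective (pullback.fst Y.hom (FEt.puncturedSpec A).ι).appTop.hom :=
    Groth.Agent.Lib.Helper14.DepthTwoFEt.bijective_fst_appTop hA
  have hfst : ∀ {Y Y' : FEt.Cat (Spec (CommRingCat.of A))} (φ : Y ⟶ Y'),
      ((FEt.restrict (FEt.puncturedSpec A).ι).map φ).left ≫ pullback.fst Y'.hom (FEt.puncturedSpec A).ι =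
        pullback.fst Y.hom (FEt.puncturedSpec A).ι ≫ φ.left := by
    intro Y Y' φ
    simp only [FEt.restrict, MorphismProperty.Over.pullback]
    exact pullback.lift_fst _ _ _
  constructor
  · refine ⟨fun {Y Y'} g => ?_⟩
    haveI := Groth.Agent.Lib.Helper14.DepthTwoFEt.isAffine_left Y
    haveI := Groth.Agent.Lib.Helper14.DepthTwoFEt.isAffine_left Y'
    let gl : pullback Y.hom (FEt.puncturedSpec A).ι ⟶ pullback Y'.hom (FEt.puncturedSpec A).ι := g.left
    let e := RingEquiv.ofBijective (pullback.fst Y.hom (FEt.puncturedSpec A).ι).appTop.hom (key Y)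
    let ψ : Γ(Y'.left, ⊤) ⟶ Γ(Y.left, ⊤) := CommRingCat.ofHom
      (e.symm.toRingHom.comp (gl ≫ pullback.fst Y'.hom (FEt.puncturedSpec A).ι).appTop.hom)
    let φ₀ : Y.left ⟶ Y'.left := Groth.Agent.Lib.Helper14.DepthTwoFEt.homOfAppTop ψ
    have h1 : ψ ≫ (pullback.fst Y.hom (FEt.puncturedSpec A).ι).appTop =
        (gl ≫ pullback.fst Y'.hom (FEt.puncturedSpec A).ι).appTop := by
      ext x
      exact e.apply_symm_apply _
    have h2 : pullback.fst Y.hom (FEt.puncturedSpec A).ι ≫ φ₀ =
        gl ≫ pullback.fst Y'.hom (FEt.puncturedSpec A).ι := by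
      apply ext_of_isAffine
      rw [Scheme.Hom.comp_appTop, Groth.Agent.Lib.Helper14.DepthTwoFEt.homOfAppTop_appTop, h1]
    have hg : gl ≫ pullback.snd Y'.hom (FEt.puncturedSpec A).ι =
        pullback.snd Y.hom (FEt.puncturedSpec A).ι := Over.w g.hom
    have h3 : φ₀ ≫ Y'.hom = Y.hom := by
      haveI : IsAffine ((Functor.fromPUnit (Spec (CommRingCat.of A))).obj Y'.right) :=
        inferInstanceAs (IsAffine (Spec (CommRingCat.of A)))
      apply ext_of_isAffine
      have h4 : pullback.fst Y.hom (FEt.puncturedSpec A).ι ≫ φ₀ ≫ Y'.hom =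
          pullback.fst Y.hom (FEt.puncturedSpec A).ι ≫ Y.hom := by
        calc pullback.fst Y.hom (FEt.puncturedSpec A).ι ≫ φ₀ ≫ Y'.hom
            = (pullback.fst Y.hom (FEt.puncturedSpec A).ι ≫ φ₀) ≫ Y'.hom := (Category.assoc _ _ _).symm
          _ = (gl ≫ pullback.fst Y'.hom (FEt.puncturedSpec A).ι) ≫ Y'.hom := by rw [h2]
          _ = gl ≫ (pullback.fst Y'.hom (FEt.puncturedSpec A).ι ≫ Y'.hom) := Category.assoc _ _ _
          _ = gl ≫ (pullback.snd Y'.hom (FEt.puncturedSpec A).ι ≫ (FEt.puncturedSpec A).ι) := by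
              rw [pullback.condition]
          _ = (gl ≫ pullback.snd Y'.hom (FEt.puncturedSpec A).ι) ≫ (FEt.puncturedSpec A).ι :=
              (Category.assoc _ _ _).symm
          _ = pullback.snd Y.hom (FEt.puncturedSpec A).ι ≫ (FEt.puncturedSpec A).ι := by rw [hg]
          _ = pullback.fst Y.hom (FEt.puncturedSpec A).ι ≫ Y.hom := pullback.condition.symm
      have h5 := congrArg Scheme.Hom.appTop h4
      rw [Scheme.Hom.comp_appTop, Scheme.Hom.comp_appTop] at h5
      ext x
      apply (key Y).1
      exact congrArg (fun t => t.hom x) h5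
    refine ⟨MorphismProperty.Over.homMk φ₀ h3 trivial, ?_⟩
    apply MorphismProperty.Over.Hom.ext
    apply pullback.hom_ext
    · exact (hfst (MorphismProperty.Over.homMk φ₀ h3 trivial)).trans h2
    · exact (Over.w ((FEt.restrict (FEt.puncturedSpec A).ι).map
        (MorphismProperty.Over.homMk φ₀ h3 trivial)).hom).trans hg.symm
  · refine ⟨fun {Y Y'} φ ψ h => ?_⟩
    apply MorphismProperty.Over.Hom.ext
    haveI := Groth.Agent.Lib.Helper14.DepthTwoFEt.isAffine_left Y'
    apply ext_of_isAffine
    have h1 : pullback.fst Y.hom (FEt.puncturedSpec A).ι ≫ φ.left =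
        pullback.fst Y.hom (FEt.puncturedSpec A).ι ≫ ψ.left := by rw [← hfst, ← hfst, h]
    have h2 := congrArg Scheme.Hom.appTop h1
    rw [Scheme.Hom.comp_appTop, Scheme.Hom.comp_appTop] at h2
    ext x
    apply (key Y).1
    exact congrArg (fun t => t.hom x) h2

end Groth.Agent.S0258
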