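import Groth.Statements.S0259
import Groth.Agent.Lib.Helper14.DepthTwoGlobal
import Groth.Agent.S0237

set_option autoImplicit false
universe u
open Pi1

namespace Groth.Agent.S0259

open AlgebraicGeometry CategoryTheory CategoryTheory.Limits in
/-- Let X be a Noetherian scheme and U ⊆ X a dense open subscheme such that at every point x outside U
the local ring 𝒪_{X,x} has depth at least 2. Then the functor restricting finite étale covers of X
to U is full and faithful. (The published statement assumes instead that the punctured spectra of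
the strict henselizations of X at the points outside U are connected; depth at least 2 is a
sufficient condition for this and is what is assumed here.) -/
theorem result {X : Scheme.{u}} [IsNoetherian X] (U : X.Opens) (hU : Dense (U : Set X))
    (h : ∀ x : X, x ∉ U → (2 : ℕ∞) ≤ LocCoh.depth (X.presheaf.stalk x) (X.presheaf.stalk x)) :
    (FEt.restrict U.ι).Full ∧ (FEt.restrict U.ι).Faithful := by
  classical
  constructor
  · refine ⟨fun {Y Y'} g => ?_⟩
    let π : Y.left ⟶ X := Y.hom
    let π' : Y'.left ⟶ X := Y'.hom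
    haveI : IsFinite π := Y.prop.1
    haveI : Etale π := Y.prop.2
    haveI : IsFinite π' := Y'.prop.1
    haveI : Etale π' := Y'.prop.2
    let gl : pullback π U.ι ⟶ pullback π' U.ι := g.left
    have hg : gl ≫ pullback.snd π' U.ι = pullback.snd π U.ι := Over.w g.hom
    let iso := pullbackRestrictIsoRestrict π U
    have hiso : iso.hom ≫ (π ⁻¹ᵁ U).ι = pullback.fst π U.ι := pullbackRestrictIsoRestrict_hom_ι π U
    have hiso' : iso.inv ≫ pullback.fst π U.ι = (π ⁻¹ᵁ U).ι := by
      rw [← hiso, Iso.inv_hom_id_assoc]
    let hmap : ((π ⁻¹ᵁ U : Y.left.Opens) : Scheme.{u}) ⟶ Y'.left := iso.inv ≫ gl ≫ pullback.fst π' U.ι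
    have hh : hmap ≫ π' = (π ⁻¹ᵁ U).ι ≫ π := by
      calc hmap ≫ π' = iso.inv ≫ gl ≫ (pullback.fst π' U.ι ≫ π') := by
            simp only [hmap, Category.assoc]
        _ = iso.inv ≫ gl ≫ (pullback.snd π' U.ι ≫ U.ι) := by rw [pullback.condition]
        _ = iso.inv ≫ (gl ≫ pullback.snd π' U.ι) ≫ U.ι := by simp only [Category.assoc]
        _ = iso.inv ≫ pullback.snd π U.ι ≫ U.ι := by rw [hg]
        _ = iso.inv ≫ pullback.fst π U.ι ≫ π := by rw [pullback.condition]
        _ = (π ⁻¹ᵁ U).ι ≫ π := by rw [← Category.assoc, hiso']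
    obtain ⟨φ, hφ1, hφ2⟩ := Groth.Agent.Lib.Helper14.DepthTwoGlobal.exists_global_extension
      π π' U h hmap hh hU
    have hfst : ∀ (ψ : Y ⟶ Y'), ((FEt.restrict U.ι).map ψ).left ≫ pullback.fst π' U.ι =
        pullback.fst π U.ι ≫ ψ.left := by
      intro ψ
      simp only [FEt.restrict, MorphismProperty.Over.pullback]
      exact pullback.lift_fst _ _ _
    refine ⟨MorphismProperty.Over.homMk φ hφ2 trivial, ?_⟩
    apply MorphismProperty.Over.Hom.ext
    apply pullback.hom_ext
    · refine (hfst (MorphismProperty.Over.homMk φ hφ2 trivial)).trans ?_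
      show pullback.fst π U.ι ≫ φ = gl ≫ pullback.fst π' U.ι
      rw [← hiso, Category.assoc, hφ1]
      simp only [hmap, Iso.hom_inv_id_assoc]
    · exact (Over.w ((FEt.restrict U.ι).map
        (MorphismProperty.Over.homMk φ hφ2 trivial)).hom).trans hg.symm
  · exact Groth.Agent.S0237.result U.ι (by rw [DenseRange, Scheme.Opens.range_ι]; exact hU)

end Groth.Agent.S0259
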