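import Groth.Statements.S0263
import Groth.Agent.Lib.Helper14.DepthTwoFEt

set_option autoImplicit false
universe u
open Pi1

namespace Groth.Agent.S0263

open AlgebraicGeometry CategoryTheory CategoryTheory.Limits in
/-- Let A be a Noetherian local ring of depth at least 2 and V a finite étale cover of the punctured
spectrum of A which is isomorphic to the restriction of some finite étale cover of Spec A. Then the
ring of global sections Γ(V, O_V) is finite and étale over A, via the ring map A → Γ(V, O_V) induced
by the composite V → Spec A. (Only this implication of the published statement is asserted here; its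
converse is not.) -/
theorem result (A : Type u) [CommRing A] [IsNoetherianRing A] [IsLocalRing A] (hA : (2 : ℕ∞) ≤ LocCoh.depth A A)
    (V : FEt.Cat (FEt.puncturedSpec A : Scheme.{u}))
    (hV : ∃ Y : FEt.Cat (Spec (CommRingCat.of A)),
      Nonempty ((FEt.restrict (FEt.puncturedSpec A).ι).obj Y ≅ V)) :
    ((Scheme.ΓSpecIso (CommRingCat.of A)).inv ≫ (V.hom ≫ (FEt.puncturedSpec A).ι).appTop).hom.Finite ∧
    ((Scheme.ΓSpecIso (CommRingCat.of A)).inv ≫ (V.hom ≫ (FEt.puncturedSpec A).ι).appTop).hom.Etale := by
  classical
  obtain ⟨Y, ⟨i⟩⟩ := hV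
  haveI := Groth.Agent.Lib.Helper14.DepthTwoFEt.isAffine_left Y
  let f : Y.left ⟶ Spec (CommRingCat.of A) := Y.hom
  haveI : IsFinite f := Y.prop.1
  haveI : Etale f := Y.prop.2
  have hcomp : V.hom ≫ (FEt.puncturedSpec A).ι =
      i.inv.left ≫ pullback.fst f (FEt.puncturedSpec A).ι ≫ f := by
    have h1 : i.inv.left ≫ ((FEt.restrict (FEt.puncturedSpec A).ι).obj Y).hom = V.hom :=
      Over.w i.inv.hom
    have h2 : ((FEt.restrict (FEt.puncturedSpec A).ι).obj Y).hom =
        pullback.snd f (FEt.puncturedSpec A).ι := rfl
    calc V.hom ≫ (FEt.puncturedSpec A).ι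
        = (i.inv.left ≫ pullback.snd f (FEt.puncturedSpec A).ι) ≫ (FEt.puncturedSpec A).ι := by
          rw [← h1]; rfl
      _ = i.inv.left ≫ pullback.fst f (FEt.puncturedSpec A).ι ≫ f := by
          rw [Category.assoc]
          exact congrArg (fun t => i.inv.left ≫ t)
            (pullback.condition (f := f) (g := (FEt.puncturedSpec A).ι)).symm
  have hbij1 := Groth.Agent.Lib.Helper14.DepthTwoFEt.bijective_fst_appTop hA Y
  have hbij2 : Function.Bijective i.inv.left.appTop.hom := by
    have : IsIso i.inv.left := inferInstance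
    have : IsIso (i.inv.left.app ⊤) := inferInstance
    exact (ConcreteCategory.isIso_iff_bijective _).mp this
  have hbij3 : Function.Bijective (Scheme.ΓSpecIso (CommRingCat.of A)).inv.hom :=
    (ConcreteCategory.isIso_iff_bijective _).mp inferInstance
  have heq : ((Scheme.ΓSpecIso (CommRingCat.of A)).inv ≫ (V.hom ≫ (FEt.puncturedSpec A).ι).appTop).hom =
      (i.inv.left.appTop.hom.comp (pullback.fst f (FEt.puncturedSpec A).ι).appTop.hom).comp
        (f.appTop.hom.comp (Scheme.ΓSpecIso (CommRingCat.of A)).inv.hom) := by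
    rw [hcomp, Scheme.Hom.comp_appTop, Scheme.Hom.comp_appTop]
    rfl
  rw [heq]
  have hb : Function.Bijective (i.inv.left.appTop.hom.comp (pullback.fst f (FEt.puncturedSpec A).ι).appTop.hom) := by
    rw [RingHom.coe_comp]; exact hbij2.comp hbij1
  constructor
  · refine RingHom.Finite.comp (RingHom.Finite.of_surjective _ hb.2) ?_
    exact RingHom.Finite.comp (Scheme.Hom.finite_appTop f) (RingHom.Finite.of_surjective _ hbij3.2)
  · refine RingHom.Etale.stableUnderComposition _ _ ?_ (RingHom.Etale.of_bijective hb)
    exact RingHom.Etale.stableUnderComposition _ _ (RingHom.Etale.of_bijective hbij3)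
      (HasRingHomProperty.appTop (P := @Etale) f inferInstance)

end Groth.Agent.S0263
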