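-- Statement S0275.
import Groth.Statements.S0275
import Groth.Agent.Lib.Helper1.Pure
import Mathlib.RingTheory.Finiteness.Descent

set_option autoImplicit false
universe u
open scoped TensorProduct
open Pi1

namespace Groth.Agent.S0275

/-- Let R -> S be universally injective and M an R-module such that S ⊗_R M is finitely generated over
S. Then M is finitely generated over R. -/
theorem result (R S : Type u) [CommRing R] [CommRing S] [Algebra R S]
    (h : Pi1.UnivInjective R S) (M : Type u) [AddCommGroup M] [Module R M]
    [Module.Finite S (S ⊗[R] M)] : Module.Finite R M := by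
  obtain ⟨n, s, hs⟩ := Module.Finite.exists_fin (R := S) (M := S ⊗[R] M)
  choose k t m hm using fun i : Fin n ↦ TensorProduct.exists_sum_tmul_eq (s i)
  let f₀ : ((Σ i, Fin (k i)) → R) →ₗ[R] M := (Pi.basisFun R _).constr R fun ⟨i, j⟩ ↦ m i j
  apply Module.Finite.of_surjective f₀
  apply Groth.Agent.Lib.Helper1.Pure.surjective_of_lTensor_surjective h
  have hsurj : Function.Surjective (TensorProduct.AlgebraTensorModule.lTensor S S f₀) := by
    rw [← LinearMap.range_eq_top, eq_top_iff, ← hs, Submodule.span_le, Set.range_subset_iff]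
    intro i
    use ∑ (j : Fin (k i)), t i j ⊗ₜ Pi.basisFun R _ ⟨i, j⟩
    simp [f₀, -Pi.basisFun_equivFun, -Pi.basisFun_apply, hm i]
  intro y
  obtain ⟨x, hx⟩ := hsurj y
  exact ⟨x, hx⟩

end Groth.Agent.S0275
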