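-- Statement S0276.
import Groth.Statements.S0276
import Groth.Agent.Lib.Helper1.Pure
import Groth.Agent.S0275
import Mathlib.Algebra.Module.FinitePresentation

set_option autoImplicit false
universe u
open scoped TensorProduct
open Pi1

namespace Groth.Agent.S0276

/-- Let R -> S be universally injective and M an R-module such that S ⊗_R M is finitely presented over
S. Then M is finitely presented over R. -/
theorem result (R S : Type u) [CommRing R] [CommRing S] [Algebra R S]
    (h : Pi1.UnivInjective R S) (M : Type u) [AddCommGroup M] [Module R M]
    [Module.FinitePresentation S (S ⊗[R] M)] : Module.FinitePresentation R M := by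
  have hfin : Module.Finite R M := Groth.Agent.S0275.result R S h M
  obtain ⟨n, f, hf⟩ := Module.Finite.exists_fin' R M
  apply Module.finitePresentation_of_free_of_surjective f hf
  apply Groth.Agent.Lib.Helper1.Pure.submodule_fg_of_range_baseChange_fg h
  have hsurj : Function.Surjective (f.baseChange S) := LinearMap.lTensor_surjective S hf
  have hker : (LinearMap.ker (f.baseChange S)).FG :=
    Module.FinitePresentation.fg_ker (f.baseChange S) hsurj
  have hex := lTensor_exact S (LinearMap.exact_subtype_ker_map f) hf
  have heq : LinearMap.range ((LinearMap.ker f).subtype.baseChange S) =
      LinearMap.ker (f.baseChange S) := by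
    ext x
    rw [LinearMap.mem_ker]
    exact (hex x).symm
  rw [heq]
  exact hker

end Groth.Agent.S0276
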