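-- Statement S0277.
import Groth.Statements.S0277
import Groth.Agent.Lib.Helper1.Pure
import Mathlib.RingTheory.Finiteness.Descent

set_option autoImplicit false
universe u
open scoped TensorProduct
open Pi1

namespace Groth.Agent.S0277

/-- Let R -> S be universally injective and A an R-algebra such that S ⊗_R A is of finite type over S.
Then A is of finite type over R. -/
theorem result (R S : Type u) [CommRing R] [CommRing S] [Algebra R S]
    (h : Pi1.UnivInjective R S) (A : Type u) [CommRing A] [Algebra R A]
    [Algebra.FiniteType S (S ⊗[R] A)] : Algebra.FiniteType R A := by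
  obtain ⟨s, hs⟩ := Algebra.FiniteType.out (R := S) (A := S ⊗[R] A)
  have (x : s) := TensorProduct.exists_sum_tmul_eq x.1
  choose k t m hm using this
  let f : MvPolynomial (Σ x : s, Fin (k x)) R →ₐ[R] A := MvPolynomial.aeval (fun ⟨x, i⟩ ↦ m x i)
  apply Algebra.FiniteType.of_surjective f
  have hf : Function.Surjective (Algebra.TensorProduct.map (.id S S) f) := by
    rw [← AlgHom.range_eq_top, _root_.eq_top_iff, ← hs, Algebra.adjoin_le_iff]
    intro x hx
    let i : s := ⟨x, hx⟩
    use ∑ (j : Fin (k i)), t i j ⊗ₜ MvPolynomial.X ⟨i, j⟩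
    simp [f, ← hm, i]
  have hf' : Function.Surjective f.toLinearMap := by
    apply Groth.Agent.Lib.Helper1.Pure.surjective_of_lTensor_surjective h
    intro y
    obtain ⟨x, hx⟩ := hf y
    exact ⟨x, hx⟩
  exact hf'

end Groth.Agent.S0277
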