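-- Statement S0279.
import Groth.Statements.S0279
import Groth.Agent.Lib.Helper1.PureFlat
import Groth.Agent.S0278
import Mathlib.RingTheory.Etale.Descent
import Mathlib.RingTheory.Smooth.Fiber
import Mathlib.RingTheory.Smooth.Flat

set_option autoImplicit false
universe u
open scoped TensorProduct KaehlerDifferential
open Pi1

namespace Groth.Agent.S0279

/-- Let R → S be a universally injective ring map and A an R-algebra such that S ⊗_R A is étale over S.
Then A is étale over R. -/
theorem result (R S : Type u) [CommRing R] [CommRing S] [Algebra R S]
    (h : Pi1.UnivInjective R S) (A : Type u) [CommRing A] [Algebra R A]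
    [Algebra.Etale S (S ⊗[R] A)] : Algebra.Etale R A := by
  have hfp : Algebra.FinitePresentation R A := Groth.Agent.S0278.result R S h A
  have hflat : Module.Flat R A := Groth.Agent.Lib.Helper1.Pure.flat_of_flat_baseChange h A
  have hunr : Algebra.FormallyUnramified R A := by
    constructor
    let _ : Algebra A (S ⊗[R] A) := Algebra.TensorProduct.rightAlgebra
    have hsub : Subsingleton (S ⊗[R] Ω[A⁄R]) :=
      (KaehlerDifferential.tensorKaehlerEquivBase R S A (S ⊗[R] A)).subsingleton
    refine ⟨fun x y => ?_⟩
    have hx : x - y = 0 := by
      apply Groth.Agent.Lib.Helper1.Pure.tmul_eq_zero h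
      exact Subsingleton.elim _ _
    exact sub_eq_zero.1 hx
  exact Algebra.Etale.of_formallyUnramified_of_flat

end Groth.Agent.S0279
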