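import Groth.Statements.S9812
import Mathlib.RingTheory.LocalRing.RingHom.Basic

set_option autoImplicit false
universe u
open CAlg2

namespace Groth.Agent.S9812

/-- At the level of the local ring: an integrally closed local domain is geometrically unibranch.
Consequently a normal scheme is geometrically unibranch. -/
theorem result (A : Type u) [CommRing A] [IsLocalRing A]
    [IsDomain A] [IsIntegrallyClosed A] : CAlg2.IsGeomUnibranch A := by
  have hnil : nilradical A = ⊥ := nilradical_eq_zero A
  let e : A ≃+* CAlg2.red A := (RingEquiv.quotientBot A).symm.trans (Ideal.quotEquivOfEq hnil.symm)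
  have he : ∀ a : A, e a = Ideal.Quotient.mk (nilradical A) a := fun a => rfl
  have hdom : IsDomain (CAlg2.red A) := e.symm.isDomain
  have hic : IsIntegrallyClosed (CAlg2.red A) := IsIntegrallyClosed.of_equiv e
  have hloc : IsLocalRing (CAlg2.red A) := e.isLocalRing
  have hsurj : Function.Surjective (algebraMap (CAlg2.red A) (CAlg2.normRed A)) := by
    intro x
    obtain ⟨y, hy⟩ := (IsIntegrallyClosed.isIntegral_iff (R := CAlg2.red A)
      (K := FractionRing (CAlg2.red A))).mp x.2
    exact ⟨y, Subtype.ext hy⟩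
  have hinj : Function.Injective (algebraMap (CAlg2.red A) (CAlg2.normRed A)) := by
    intro a b hab
    apply IsFractionRing.injective (CAlg2.red A) (FractionRing (CAlg2.red A))
    exact congrArg Subtype.val hab
  let e' : CAlg2.red A ≃+* CAlg2.normRed A :=
    RingEquiv.ofBijective (algebraMap (CAlg2.red A) (CAlg2.normRed A)) ⟨hinj, hsurj⟩
  have hloc' : IsLocalRing (CAlg2.normRed A) := e'.isLocalRing
  refine ⟨⟨hdom, hloc'⟩, ?_⟩
  intro m' _ x
  refine ⟨0, ?_⟩
  obtain ⟨z, rfl⟩ := Ideal.Quotient.mk_surjective x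
  obtain ⟨y, rfl⟩ := hsurj z
  obtain ⟨a, rfl⟩ := Ideal.Quotient.mk_surjective y
  rw [pow_zero, pow_one]
  exact ⟨a, rfl⟩

end Groth.Agent.S9812
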