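import Groth.Statements.S0288
import Groth.Agent.S1450
import Groth.Agent.S9812

set_option autoImplicit false
universe u
open Pi1

namespace Groth.Agent.S0288

open AlgebraicGeometry CategoryTheory CategoryTheory.Limits in
/-- Let X be a normal integral scheme with function field K, L a finite field extension of K and Y -> X
the normalization of X in Spec L. If Y -> X is unramified (formally unramified and locally of finite
type), then it is etale, and finite. -/
theorem result {X : Scheme.{u}} [IsIntegral X] (hX : Pi1.IsNormalScheme X) (L : Type u) [Field L]
    [Algebra X.functionField L] [FiniteDimensional X.functionField L]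
    [QuasiCompact (Spec.map (CommRingCat.ofHom (algebraMap X.functionField L)) ≫ X.fromSpecStalk (genericPoint X))]
    [QuasiSeparated (Spec.map (CommRingCat.ofHom (algebraMap X.functionField L)) ≫ X.fromSpecStalk (genericPoint X))]
    [FormallyUnramified (Spec.map (CommRingCat.ofHom (algebraMap X.functionField L)) ≫ X.fromSpecStalk (genericPoint X)).fromNormalization]
    [LocallyOfFiniteType (Spec.map (CommRingCat.ofHom (algebraMap X.functionField L)) ≫ X.fromSpecStalk (genericPoint X)).fromNormalization] :
    Etale (Spec.map (CommRingCat.ofHom (algebraMap X.functionField L)) ≫ X.fromSpecStalk (genericPoint X)).fromNormalization ∧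
    IsFinite (Spec.map (CommRingCat.ofHom (algebraMap X.functionField L)) ≫ X.fromSpecStalk (genericPoint X)).fromNormalization := by
  have hY : ∀ y : X, CAlg2.IsGeomUnibranch (X.presheaf.stalk y) := by
    intro y
    haveI := (hX y).1
    haveI := (hX y).2
    exact Groth.Agent.S9812.result (X.presheaf.stalk y)
  have hdom : genericPoint X ∈ Set.range
      ⇑(Spec.map (CommRingCat.ofHom (algebraMap X.functionField L)) ≫
        X.fromSpecStalk (genericPoint X)).fromNormalization := by
    refine ⟨(Spec.map (CommRingCat.ofHom (algebraMap X.functionField L)) ≫
        X.fromSpecStalk (genericPoint X)).toNormalization (IsLocalRing.closedPoint L), ?_⟩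
    rw [← Scheme.Hom.comp_apply, Scheme.Hom.toNormalization_fromNormalization,
      Scheme.Hom.comp_apply]
    have h1 : (Spec.map (CommRingCat.ofHom (algebraMap X.functionField L)))
        (IsLocalRing.closedPoint L) = IsLocalRing.closedPoint X.functionField :=
      Subsingleton.elim _ _
    rw [h1]
    exact Scheme.fromSpecStalk_closedPoint
  haveI : ConnectedSpace ↥((Spec.map (CommRingCat.ofHom (algebraMap X.functionField L)) ≫
      X.fromSpecStalk (genericPoint X)).normalization) := inferInstance
  refine ⟨(Groth.Agent.S1450.result _ hY hdom).1, ?_⟩
  rw [IsFinite.iff_isIntegralHom_and_locallyOfFiniteType]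
  exact ⟨inferInstance, inferInstance⟩

end Groth.Agent.S0288
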