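import Groth.Statements.S0291
import Groth.Agent.Lib.Helper14.DepthTwoSections

set_option autoImplicit false
universe u
open Pi1

namespace Groth.Agent.S0291

open AlgebraicGeometry CategoryTheory CategoryTheory.Limits in
/-- Let A be a Noetherian local ring and B a finite A-algebra such that the local rings of Spec B at all
closed points have depth at least 2. Then restriction from global sections of Spec B to sections
over the preimage of the punctured spectrum of A is an isomorphism. -/
theorem result (A B : Type u) [CommRing A] [IsNoetherianRing A] [IsLocalRing A] [CommRing B] [Algebra A B]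
    [Module.Finite A B]
    (h : ∀ (m : Ideal B) (_ : m.IsMaximal), (2 : ℕ∞) ≤ LocCoh.depth (Localization.AtPrime m) (Localization.AtPrime m)) :
    IsIso ((Spec (CommRingCat.of B)).presheaf.map (homOfLE (le_top :
      Spec.map (CommRingCat.ofHom (algebraMap A B)) ⁻¹ᵁ FEt.puncturedSpec A ≤ ⊤)).op) := by
  classical
  obtain ⟨x, hxJ, y, hyJ, hx, hy⟩ := Groth.Agent.Lib.Helper14.DepthTwoSections.exists_regular_pair A B h
  let e : Γ(Spec (CommRingCat.of B), ⊤) ≃+* B :=
    (Scheme.ΓSpecIso (CommRingCat.of B)).commRingCatIsoToRingEquiv
  have hx' : ∀ a, e.symm x * a = 0 → a = 0 := by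
    intro a ha
    have := congrArg e ha
    rw [map_mul, e.apply_symm_apply, map_zero] at this
    exact e.injective (by rw [hx _ this, map_zero])
  have hy' : ∀ a b, e.symm y * a = e.symm x * b → ∃ c, a = e.symm x * c := by
    intro a b hab
    have := congrArg e hab
    rw [map_mul, map_mul, e.apply_symm_apply, e.apply_symm_apply] at this
    obtain ⟨c, hc⟩ := hy _ _ this
    exact ⟨e.symm c, e.injective (by rw [map_mul, e.apply_symm_apply, e.apply_symm_apply, hc])⟩
  have hD : ∀ b ∈ (IsLocalRing.maximalIdeal A).map (algebraMap A B),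
      (Spec (CommRingCat.of B)).basicOpen (e.symm b) ≤
        Spec.map (CommRingCat.ofHom (algebraMap A B)) ⁻¹ᵁ FEt.puncturedSpec A := by
    intro b hb
    have : e.symm b = (Scheme.ΓSpecIso (CommRingCat.of B)).inv b := rfl
    rw [this, basicOpen_eq_of_affine]
    intro P hP
    show (Spec.map (CommRingCat.ofHom (algebraMap A B))).base P ∈ ({IsLocalRing.closedPoint A}ᶜ : Set (PrimeSpectrum A))
    intro hmem
    apply hP
    have h1 : IsLocalRing.maximalIdeal A ≤ (P.asIdeal).comap (algebraMap A B) := by
      have := congrArg PrimeSpectrum.asIdeal (Set.mem_singleton_iff.mp hmem)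
      rw [IsLocalRing.closedPoint] at this
      simp only at this
      rw [← this]
      exact le_of_eq rfl
    exact Ideal.map_le_iff_le_comap.mpr h1 hb
  have := Groth.Agent.Lib.Helper14.DepthTwoSections.bijective_res_of_regular _ _ _ hx' hy' (hD x hxJ) (hD y hyJ)
  exact (ConcreteCategory.isIso_iff_bijective _).mpr this

end Groth.Agent.S0291
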