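-- Statement S0294.
import Groth.Statements.S0294
import Mathlib.AlgebraicGeometry.Morphisms.Finite
import Mathlib.LinearAlgebra.FreeModule.Finite.Matrix
import Mathlib.RingTheory.RingHom.Finite

set_option autoImplicit false
universe u
open Pi1

namespace Groth.Agent.S0294

open AlgebraicGeometry CategoryTheory CategoryTheory.Limits in
/-- For a finite étale cover Y of a scheme X and a point ξ : Spec Ω → X with values in a field Ω, the
fibre of Y over ξ (the set of Ω-valued points of Y lying over ξ) is finite. -/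
theorem result {X : Scheme.{u}} {Ω : Type u} [Field Ω] (ξ : Spec (CommRingCat.of Ω) ⟶ X) (Y : FEt.Cat X) :
    Finite (FEt.fiberObj ξ Y) := by
  classical
  have hfin : IsFinite Y.hom := Y.prop.1
  let q : pullback Y.hom ξ ⟶ Spec (CommRingCat.of Ω) := pullback.snd Y.hom ξ
  have hq : IsFinite q := inferInstanceAs (IsFinite (pullback.snd Y.hom ξ))
  have hq' := (HasAffineProperty.iff_of_isAffine (P := @IsFinite) (f := q)).1 hq
  have hP : IsAffine (pullback Y.hom ξ) := hq'.1
  let φ : Ω →+* Γ(pullback Y.hom ξ, ⊤) :=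
    ((Scheme.ΓSpecIso (CommRingCat.of Ω)).inv ≫ q.appTop).hom
  have hφ : φ.Finite := by
    have h1 : ((Scheme.ΓSpecIso (CommRingCat.of Ω)).inv).hom.Finite :=
      RingHom.Finite.of_surjective _
        ((ConcreteCategory.bijective_of_isIso (Scheme.ΓSpecIso (CommRingCat.of Ω)).inv).2)
    exact RingHom.Finite.comp hq'.2 h1
  letI : Algebra Ω Γ(pullback Y.hom ξ, ⊤) := φ.toAlgebra
  have hmf : Module.Finite Ω Γ(pullback Y.hom ξ, ⊤) := hφ
  have hfinite : Finite (Γ(pullback Y.hom ξ, ⊤) →ₐ[Ω] Ω) := Finite.algHom Ω _ Ω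
  -- the injection
  let lift : FEt.fiberObj ξ Y → (Spec (CommRingCat.of Ω) ⟶ pullback Y.hom ξ) := fun s =>
    pullback.lift s.1 (𝟙 _) (by rw [s.2, Category.id_comp])
  have hlift_snd : ∀ s, lift s ≫ q = 𝟙 _ := fun s => pullback.lift_snd _ _ _
  have hlift_fst : ∀ s, lift s ≫ pullback.fst Y.hom ξ = s.1 := fun s => pullback.lift_fst _ _ _
  let F : FEt.fiberObj ξ Y → (Γ(pullback Y.hom ξ, ⊤) →ₐ[Ω] Ω) := fun s =>
    { toRingHom := ((lift s).appTop ≫ (Scheme.ΓSpecIso (CommRingCat.of Ω)).hom).hom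
      commutes' := by
        intro c
        change ((Scheme.ΓSpecIso (CommRingCat.of Ω)).inv ≫ q.appTop ≫ (lift s).appTop ≫
          (Scheme.ΓSpecIso (CommRingCat.of Ω)).hom).hom c = c
        have h1 : q.appTop ≫ (lift s).appTop = 𝟙 _ := by
          rw [← Scheme.Hom.comp_appTop, hlift_snd s]
          rfl
        rw [reassoc_of% h1, Iso.inv_hom_id]
        rfl }
  refine Finite.of_injective F ?_
  intro s t hst
  have h1 : ((lift s).appTop ≫ (Scheme.ΓSpecIso (CommRingCat.of Ω)).hom).hom =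
      ((lift t).appTop ≫ (Scheme.ΓSpecIso (CommRingCat.of Ω)).hom).hom :=
    congrArg (fun a : Γ(pullback Y.hom ξ, ⊤) →ₐ[Ω] Ω => a.toRingHom) hst
  have h2 : (lift s).appTop ≫ (Scheme.ΓSpecIso (CommRingCat.of Ω)).hom =
      (lift t).appTop ≫ (Scheme.ΓSpecIso (CommRingCat.of Ω)).hom := CommRingCat.hom_ext h1
  have h3 : (lift s).appTop = (lift t).appTop := (cancel_mono _).1 h2
  have h4 : lift s = lift t := ext_of_isAffine h3
  apply Subtype.ext
  rw [← hlift_fst s, ← hlift_fst t, h4]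

end Groth.Agent.S0294
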