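-- Statement S0303.
import Groth.Statements.S0303
import Mathlib.Algebra.Module.Injective

set_option autoImplicit false
universe u v
open InjHull

namespace Groth.Agent.S0303

/-- If M → E is an injective hull and M → I is any embedding into an injective module, then E embeds
into I compatibly with M and its image is a direct summand of I. -/
theorem result (R : Type u) [CommRing R] (M : Type u) [AddCommGroup M] [Module R M] (E : Type u) [AddCommGroup E] [Module R E] (I : Type u) [AddCommGroup I] [Module R I] (f : M →ₗ[R] E) (hf : InjHull.IsInjectiveHull f) (i : M →ₗ[R] I) (hi : Function.Injective i) (hI : Module.Injective R I) : ∃ α : E →ₗ[R] I, Function.Injective α ∧ α ∘ₗ f = i ∧ ∃ I' : Submodule R I, IsCompl (LinearMap.range α) I' := by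
  obtain ⟨α, hα⟩ := hI.out f hf.injective i
  have hαinj : Function.Injective α := by
    rw [← LinearMap.ker_eq_bot]
    by_contra hne
    apply hf.essential _ hne
    rw [eq_bot_iff]
    rintro x ⟨hx1, ⟨m, rfl⟩⟩
    have h1 : α (f m) = 0 := hx1
    rw [hα m] at h1
    have h2 : m = 0 := hi (by rw [h1, map_zero])
    rw [h2, map_zero]
    exact Submodule.zero_mem _
  obtain ⟨ψ, hψ⟩ := hf.isInjective.out α hαinj LinearMap.id
  refine ⟨α, hαinj, LinearMap.ext hα, LinearMap.ker ψ, ?_, ?_⟩
  · rw [Submodule.disjoint_def]
    rintro x ⟨e, rfl⟩ hx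
    have h1 : ψ (α e) = 0 := hx
    rw [hψ e, LinearMap.id_apply] at h1
    rw [h1, map_zero]
  · rw [codisjoint_iff, eq_top_iff]
    intro x _
    have h1 : x = α (ψ x) + (x - α (ψ x)) := by abel
    rw [h1]
    refine Submodule.add_mem_sup ⟨ψ x, rfl⟩ ?_
    rw [LinearMap.mem_ker, map_sub, hψ (ψ x), LinearMap.id_apply, sub_self]

end Groth.Agent.S0303
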