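-- Statement S0304.
import Groth.Statements.S0304
import Groth.Agent.Lib.Helper1.InjHullLib

set_option autoImplicit false
universe u v
open InjHull

namespace Groth.Agent.S0304

/-- Let R be a commutative ring and E an indecomposable injective R-module. Then any two nonzero
submodules of E have nonzero intersection, and the set of elements r ∈ R such that r·x = 0 for some
nonzero x ∈ E is a prime ideal of R. -/
theorem result (R : Type u) [CommRing R] (E : Type u) [AddCommGroup E] [Module R E] (hE : InjHull.IsIndecomposable R E) (hinj : Module.Injective R E) : (∀ N N' : Submodule R E, N ≠ ⊥ → N' ≠ ⊥ → N ⊓ N' ≠ ⊥) ∧ ∃ p : Ideal R, p.IsPrime ∧ (p : Set R) = {r : R | ∃ x : E, x ≠ 0 ∧ r • x = 0} := by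
  classical
  have hmeet : ∀ N N' : Submodule R E, N ≠ ⊥ → N' ≠ ⊥ → N ⊓ N' ≠ ⊥ := by
    intro N N' hN hN'
    have h1 := Groth.Agent.Lib.Helper1.InjHullLib.essIn_top_of_indecomposable hE N' hN'
    exact h1.inf_ne_bot le_top hN
  refine ⟨hmeet, ?_⟩
  have hnt : Nontrivial E := hE.1
  let p : Ideal R :=
    { carrier := {r : R | ∃ x : E, x ≠ 0 ∧ r • x = 0}
      add_mem' := by
        rintro r s ⟨x, hx0, hrx⟩ ⟨y, hy0, hsy⟩
        have hx : Submodule.span R {x} ≠ ⊥ := by
          rw [Ne, Submodule.span_singleton_eq_bot]; exact hx0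
        have hy : Submodule.span R {y} ≠ ⊥ := by
          rw [Ne, Submodule.span_singleton_eq_bot]; exact hy0
        obtain ⟨z, hz, hz0⟩ := Submodule.exists_mem_ne_zero_of_ne_bot (hmeet _ _ hx hy)
        obtain ⟨a, ha⟩ := Submodule.mem_span_singleton.1 hz.1
        obtain ⟨b, hb⟩ := Submodule.mem_span_singleton.1 hz.2
        refine ⟨z, hz0, ?_⟩
        rw [add_smul]
        nth_rewrite 1 [← ha]
        rw [← hb, smul_comm r a x, smul_comm s b y, hrx, hsy, smul_zero, smul_zero, add_zero]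
      zero_mem' := by
        obtain ⟨x, hx⟩ := exists_ne (0 : E)
        exact ⟨x, hx, zero_smul R x⟩
      smul_mem' := by
        rintro c r ⟨x, hx0, hrx⟩
        refine ⟨x, hx0, ?_⟩
        rw [smul_eq_mul, mul_smul, hrx, smul_zero] }
  refine ⟨p, ?_, rfl⟩
  refine ⟨?_, ?_⟩
  · intro htop
    have h1 : (1 : R) ∈ p := htop ▸ Submodule.mem_top
    obtain ⟨x, hx0, hx⟩ := h1
    rw [one_smul] at hx
    exact hx0 hx
  · rintro r s ⟨x, hx0, hx⟩
    by_cases hsx : s • x = 0
    · exact Or.inr ⟨x, hx0, hsx⟩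
    · refine Or.inl ⟨s • x, hsx, ?_⟩
      rw [← mul_smul]; exact hx

end Groth.Agent.S0304
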