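import Groth.Statements.S0318
import Groth.Agent.Lib.Helper4.LC3

set_option autoImplicit false
universe u v
open LocCoh

namespace Groth.Agent.S0318

/-- Part (1): =(3): for a finite module M over a Noetherian ring and an ideal I with IM ≠ M, the I-depth
of M is the least degree in which the local cohomology of M with support in I is nonzero. -/
theorem result (R : Type u) [CommRing R] [IsNoetherianRing R] (I : Ideal R) (M : Type u) [AddCommGroup M] [Module R M] [Module.Finite R M] (hIM : I • (⊤ : Submodule R M) ≠ ⊤) (n : ℕ) : LocCoh.idealDepth I M = n ↔ ((∀ i : ℕ, i < n → Subsingleton (LocCoh.H I i M)) ∧ Nontrivial (LocCoh.H I n M)) := by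
  open Groth.Agent.Lib.Helper4 Groth.Agent.Lib.Helper4.LC in
  constructor
  · intro h
    refine ⟨fun i hi => ?_, ?_⟩
    · rw [subsingleton_H_iff]
      exact HH.subsingleton_of_lt_idealDepth I M i (by rw [h]; exact_mod_cast hi)
    · rw [nontrivial_H_iff]
      exact HH.nontrivial_of_idealDepth_eq I n M hIM h
  · rintro ⟨h1, h2⟩
    have hne := Groth.Agent.Lib.Helper4.idealDepth_ne_top I hIM
    obtain ⟨d, hd⟩ := ENat.ne_top_iff_exists.1 hne
    rw [← hd]
    rcases lt_trichotomy d n with hlt | heq | hgt
    · exfalso
      have h3 := h1 d hlt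
      rw [subsingleton_H_iff] at h3
      haveI hnt := HH.nontrivial_of_idealDepth_eq I d M hIM hd.symm
      exact not_subsingleton _ h3
    · rw [heq]
    · exfalso
      rw [nontrivial_H_iff] at h2
      have h3 := HH.subsingleton_of_lt_idealDepth I M n (by rw [← hd]; exact_mod_cast hgt)
      exact not_subsingleton _ h3

end Groth.Agent.S0318
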