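import Groth.Statements.S0319
import Groth.Agent.Lib.Helper4.Depth

set_option autoImplicit false
universe u v
open CategoryTheory
open LocCoh

namespace Groth.Agent.S0319

/-- Part (1): =(2): for a finite module M over a Noetherian ring and an ideal I with IM ≠ M, the I-depth
of M is the least i with Ext^i(R/I, M) nonzero. (Close to Mathlib's Rees criterion; kept at low
weight to pin our depth to Mathlib's Ext.) -/
theorem result (R : Type u) [CommRing R] [IsNoetherianRing R] (I : Ideal R) (M : Type u) [AddCommGroup M] [Module R M] [Module.Finite R M] (hIM : I • (⊤ : Submodule R M) ≠ ⊤) (n : ℕ) : LocCoh.idealDepth I M = n ↔ ((∀ i : ℕ, i < n → Subsingleton (Abelian.Ext (ModuleCat.of R (R ⧸ I)) (ModuleCat.of R M) i)) ∧ Nontrivial (Abelian.Ext (ModuleCat.of R (R ⧸ I)) (ModuleCat.of R M) n)) := by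
  classical
  have e : ModuleCat.of R (Shrink.{u} (R ⧸ I)) ≅ ModuleCat.of R (R ⧸ I) :=
    (Shrink.linearEquiv R (R ⧸ I)).toModuleIso
  have key : ∀ k : ℕ, (k : ℕ∞) ≤ LocCoh.idealDepth I M ↔
      ∀ i < k, Subsingleton (Abelian.Ext (ModuleCat.of R (R ⧸ I)) (ModuleCat.of R M) i) := by
    intro k
    rw [Groth.Agent.Lib.Helper4.le_idealDepth_iff_ext_shrink I (ModuleCat.of R M) k]
    constructor
    · intro h i hi
      exact Groth.Agent.Lib.Helper4.subsingleton_ext_of_iso_left e i (h i hi)
    · intro h i hi
      exact Groth.Agent.Lib.Helper4.subsingleton_ext_of_iso_left e.symm i (h i hi)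
  constructor
  · intro h
    refine ⟨(key n).mp h.ge, ?_⟩
    by_contra hnon
    rw [not_nontrivial_iff_subsingleton] at hnon
    have : ((n + 1 : ℕ) : ℕ∞) ≤ LocCoh.idealDepth I M := by
      rw [key]
      intro i hi
      rcases Nat.lt_succ_iff_lt_or_eq.mp hi with hi' | rfl
      · exact (key n).mp h.ge i hi'
      · exact hnon
    rw [h] at this
    have : n + 1 ≤ n := by exact_mod_cast this
    omega
  · rintro ⟨h1, h2⟩
    refine le_antisymm ?_ ((key n).mpr h1)
    by_contra hlt
    push Not at hlt
    have : ((n + 1 : ℕ) : ℕ∞) ≤ LocCoh.idealDepth I M := by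
      exact_mod_cast Order.add_one_le_of_lt hlt
    have := (key (n + 1)).mp this n (Nat.lt_succ_self n)
    exact not_subsingleton _ this

end Groth.Agent.S0319
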