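import Mathlib
import Groth.Agent.Lib.Helper20.LCFinite
import Groth.Statements.S0329
-- import your own Groth.Agent.* helpers here

set_option autoImplicit false
universe u v
open LocCoh

open Groth.Agent.Lib.Helper4.LC

namespace Groth.Agent.S0329

/-- Part (1): ⇔(2) with T = V(I) (Faltings): for a finite module M over a Noetherian ring, the local
cohomology modules H^i_I(M) for i ≤ n are all finitely generated exactly when some ideal J with I
contained in the radical of J kills all of them. -/
theorem result (R : Type u) [CommRing R] [IsNoetherianRing R] (I : Ideal R) (M : Type u) [AddCommGroup M] [Module R M] [Module.Finite R M] (n : ℕ) : (∀ i : ℕ, i ≤ n → Module.Finite R (LocCoh.H I i M)) ↔ ∃ J : Ideal R, I ≤ J.radical ∧ ∀ i : ℕ, i ≤ n → ∀ a ∈ J, ∀ x : LocCoh.H I i M, a • x = 0 := by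
  classical
  constructor
  · intro hfin
    have hex : ∀ i : ℕ, i ≤ n → ∃ N : ℕ, ∀ a ∈ I ^ N,
        ∀ x : HH I (ModuleCat.of R M) i, a • x = 0 := by
      intro i hi
      have := hfin i hi
      have : Module.Finite R (HH I (ModuleCat.of R M) i) :=
        Module.Finite.equiv (lcEquiv I (ModuleCat.of R M) i)
      exact Groth.Agent.Lib.Helper20.LCFinite.exists_pow_annihilates_of_finite I _ i
    choose! Nf hNf using hex
    let N := (Finset.range (n + 1)).sup Nf
    refine ⟨I ^ (N + 1), ?_, ?_⟩
    · rw [Ideal.radical_pow I (Nat.succ_ne_zero N)]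
      exact Ideal.le_radical
    · intro i hi a ha x
      have hle : Nf i ≤ N + 1 :=
        le_trans (Finset.le_sup (f := Nf) (Finset.mem_range.2 (by omega))) (Nat.le_succ N)
      apply (lcEquiv I (ModuleCat.of R M) i).injective
      rw [map_smul, map_zero]
      exact hNf i hi a (Ideal.pow_le_pow_right hle ha) _
  · rintro ⟨J, hJ, hkill⟩ i hi
    obtain ⟨K, hK⟩ := Ideal.exists_pow_le_of_le_radical_of_fg hJ (IsNoetherian.noetherian I)
    have h1 : ∀ j : ℕ, j ≤ n → ∀ a ∈ I ^ K, ∀ x : HH I (ModuleCat.of R M) j, a • x = 0 := by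
      intro j hj a ha x
      obtain ⟨y, rfl⟩ := (lcEquiv I (ModuleCat.of R M) j).surjective x
      rw [← map_smul, hkill j hj a (hK ha) y, map_zero]
    have := Groth.Agent.Lib.Helper20.LCFinite.finite_of_annihilated I n M K h1 i hi
    exact Module.Finite.equiv (lcEquiv I (ModuleCat.of R M) i).symm

end Groth.Agent.S0329
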