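import Mathlib
import Groth.Agent.Lib.Helper20.LCFactor
import Groth.Statements.S1743
-- import your own Groth.Agent.* helpers here

set_option autoImplicit false
universe u
open LocCoh

open Groth.Agent.Lib.Helper4.LC

namespace Groth.Agent.S1743

/-- Let A be a Noetherian ring, J ⊆ I ideals and i ≥ 0. If H^i_I(A) is annihilated by J^n for some n,
then for every finite A-module M such that M_f is a projective A_f-module for every f in I, the
module H^i_I(M) is annihilated by J^m for some m. (The source allows any ring with finitely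
generated ideals and finitely presented M.) -/
theorem result (A : Type u) [CommRing A] [IsNoetherianRing A] (J I : Ideal A) (hJI : J ≤ I) (i n : ℕ) (hA : ∀ a ∈ J ^ n, ∀ x : LocCoh.H I i A, a • x = 0) (M : Type u) [AddCommGroup M] [Module A M] [Module.Finite A M] (hM : ∀ f ∈ I, Module.Projective (Localization.Away f) (LocalizedModule (Submonoid.powers f) M)) : ∃ m : ℕ, ∀ a ∈ J ^ m, ∀ x : LocCoh.H I i M, a • x = 0 := by
  classical
  -- transfer the hypothesis to the model
  have hA' : ∀ a ∈ J ^ n, ∀ y : HH I (ModuleCat.of A A) i, a • y = 0 := by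
    intro a ha y
    obtain ⟨x, rfl⟩ := (lcEquiv I (ModuleCat.of A A) i).surjective y
    rw [← map_smul, hA a ha x, map_zero]
  -- each `f ∈ I` has a power `f ^ k` with `J ^ n * f ^ k` killing `H^i_I(M)`
  have hf : ∀ f ∈ I, ∃ k : ℕ, ∀ a ∈ J ^ n, ∀ y : HH I (ModuleCat.of A M) i,
      (a * f ^ k) • y = 0 := by
    intro f hfI
    have hproj : Module.Projective (Localization (Submonoid.powers f))
        (LocalizedModule (Submonoid.powers f) M) := hM f hfI
    obtain ⟨m, s, hs, α, β, hαβ⟩ :=
      Groth.Agent.Lib.Helper20.LCFactor.exists_factor (Submonoid.powers f) M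
    obtain ⟨k, rfl⟩ := (Submonoid.mem_powers_iff _ _).1 hs
    exact ⟨k, fun a ha y =>
      Groth.Agent.Lib.Helper20.LCFactor.smul_eq_zero_of_factor I i a (hA' a ha) M m _ α β hαβ y⟩
  choose! k hk using hf
  obtain ⟨gens, hgens⟩ := (IsNoetherian.noetherian I : I.FG)
  let J' : Ideal A := Ideal.span ((fun f => f ^ k f) '' (gens : Set A))
  have hrad : I ≤ J'.radical := by
    rw [← hgens]
    apply Ideal.span_le.2
    intro f hf
    exact ⟨k f, Ideal.subset_span ⟨f, hf, rfl⟩⟩
  obtain ⟨K, hK⟩ := Ideal.exists_pow_le_of_le_radical_of_fg hrad (IsNoetherian.noetherian I)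
  refine ⟨n + K, fun a ha x => ?_⟩
  apply (lcEquiv I (ModuleCat.of A M) i).injective
  rw [map_smul, map_zero]
  generalize lcEquiv I (ModuleCat.of A M) i x = y
  have hmem : a ∈ J ^ n * J' := by
    rw [pow_add] at ha
    exact Ideal.mul_mono_right ((Ideal.pow_right_mono hJI K).trans hK) ha
  have hgensI : ∀ f ∈ gens, f ∈ I := fun f hf => by
    rw [← hgens]; exact Ideal.subset_span hf
  -- the annihilator contains `J ^ n * J'`
  have key : ∀ a' ∈ J ^ n, ∀ c ∈ J', (a' * c) • y = 0 := by
    intro a' ha' c hc
    induction hc using Submodule.span_induction with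
    | mem c hc =>
      obtain ⟨f, hf, rfl⟩ := hc
      exact hk f (hgensI f hf) a' ha' y
    | zero => rw [mul_zero, zero_smul]
    | add c c' _ _ h1 h2 => rw [mul_add, add_smul, h1, h2, add_zero]
    | smul r c _ h1 =>
      rw [smul_eq_mul, mul_left_comm, mul_smul, h1, smul_zero]
  refine Submodule.mul_induction_on hmem (fun a' ha' c hc => key a' ha' c hc) ?_
  intro a1 a2 h1 h2
  rw [add_smul, h1, h2, add_zero]

end Groth.Agent.S1743
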