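import Mathlib
import Groth.Agent.Lib.Helper20.LCFinite
import Groth.Agent.S1743
import Groth.Statements.S0331
-- import your own Groth.Agent.* helpers here

set_option autoImplicit false
universe u v
open LocCoh

open Groth.Agent.Lib.Helper4.LC

namespace Groth.Agent.S0331

/-- Over a Noetherian ring, if H^i_I(R) is finitely generated for i ≤ n, then so is H^i_I(M) for i ≤ n
for every finite module M that becomes finite projective after inverting any single element of I. -/
theorem result (R : Type u) [CommRing R] [IsNoetherianRing R] (I : Ideal R) (n : ℕ) (hR : ∀ i : ℕ, i ≤ n → Module.Finite R (LocCoh.H I i R)) (M : Type u) [AddCommGroup M] [Module R M] [Module.Finite R M] (hM : ∀ f ∈ I, Module.Projective (Localization.Away f) (LocalizedModule (Submonoid.powers f) M)) (i : ℕ) (hi : i ≤ n) : Module.Finite R (LocCoh.H I i M) := by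
  classical
  have hex : ∀ j : ℕ, j ≤ n → ∃ m : ℕ, ∀ a ∈ I ^ m,
      ∀ x : HH I (ModuleCat.of R M) j, a • x = 0 := by
    intro j hj
    have := hR j hj
    have hfin : Module.Finite R (HH I (ModuleCat.of R R) j) :=
      Module.Finite.equiv (lcEquiv I (ModuleCat.of R R) j)
    obtain ⟨N, hN⟩ :=
      Groth.Agent.Lib.Helper20.LCFinite.exists_pow_annihilates_of_finite I (ModuleCat.of R R) j
    have hA : ∀ a ∈ I ^ N, ∀ x : LocCoh.H I j R, a • x = 0 := by
      intro a ha x
      apply (lcEquiv I (ModuleCat.of R R) j).injective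
      rw [map_smul, map_zero]
      exact hN a ha _
    obtain ⟨m, hm⟩ := Groth.Agent.S1743.result R I I le_rfl j N hA M hM
    refine ⟨m, fun a ha x => ?_⟩
    obtain ⟨y, rfl⟩ := (lcEquiv I (ModuleCat.of R M) j).surjective x
    rw [← map_smul, hm a ha y, map_zero]
  choose! mf hmf using hex
  let K := (Finset.range (n + 1)).sup mf
  have h1 : ∀ j : ℕ, j ≤ n → ∀ a ∈ I ^ K, ∀ x : HH I (ModuleCat.of R M) j, a • x = 0 := by
    intro j hj a ha x
    have hle : mf j ≤ K := Finset.le_sup (f := mf) (Finset.mem_range.2 (by omega))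
    exact hmf j hj a (Ideal.pow_le_pow_right hle ha) x
  have := Groth.Agent.Lib.Helper20.LCFinite.finite_of_annihilated I n M K h1 i hi
  exact Module.Finite.equiv (lcEquiv I (ModuleCat.of R M) i).symm

end Groth.Agent.S0331
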