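import Groth.Statements.S0334
import Groth.Agent.Lib.Helper4.LC4

set_option autoImplicit false
universe u v
open LocCoh

namespace Groth.Agent.S0334

/-- Over a Noetherian local ring of dimension d, multiplication by an element lying in no minimal prime
p with dim R/p = d is surjective on H^d_I(M) for every finite module M and every ideal I. -/
theorem result (R : Type u) [CommRing R] [IsLocalRing R] [IsNoetherianRing R] (I : Ideal R) (d : ℕ) (hd : ringKrullDim R = d) (f : R) (hf : ∀ p ∈ minimalPrimes R, ringKrullDim (R ⧸ p) = d → f ∉ p) (M : Type u) [AddCommGroup M] [Module R M] [Module.Finite R M] : Function.Surjective (fun x : LocCoh.H I d M => f • x) := by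
  open Groth.Agent.Lib.Helper4 Groth.Agent.Lib.Helper4.LC in
  suffices h : Function.Surjective (fun x : HH I (ModuleCat.of R M) d => f • x) by
    intro y
    obtain ⟨x, hx⟩ := h (lcEquiv I (ModuleCat.of R M) d y)
    refine ⟨(lcEquiv I (ModuleCat.of R M) d).symm x, ?_⟩
    apply (lcEquiv I (ModuleCat.of R M) d).injective
    show (lcEquiv I (ModuleCat.of R M) d) (f • (lcEquiv I (ModuleCat.of R M) d).symm x) = _
    rw [map_smul, LinearEquiv.apply_symm_apply]
    exact hx
  exact HH.smul_surjective_top I d hd f hf M

end Groth.Agent.S0334
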