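import Groth.Statements.S0335
import Groth.Agent.Lib.Helper4.Hartshorne
import Groth.Agent.Lib.Helper4.CM

set_option autoImplicit false
universe u v
open LocCoh

namespace Groth.Agent.S0335

/-- For the ring itself; Hartshorne's connectedness: if a Noetherian local ring has depth at least 2
then its punctured spectrum is connected. -/
theorem result (R : Type u) [CommRing R] [IsLocalRing R] [IsNoetherianRing R] (h : 2 ≤ LocCoh.depth R R) : IsConnected {x : PrimeSpectrum R | x.asIdeal ≠ IsLocalRing.maximalIdeal R} := by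
  constructor
  · by_contra hne
    rw [Set.not_nonempty_iff_eq_empty] at hne
    have hall : ∀ x : PrimeSpectrum R, x.asIdeal = IsLocalRing.maximalIdeal R := by
      intro x
      by_contra hx
      exact (Set.eq_empty_iff_forall_notMem.mp hne x) hx
    have : Subsingleton (PrimeSpectrum R) :=
      ⟨fun a b => PrimeSpectrum.ext ((hall a).trans (hall b).symm)⟩
    have hdim : ringKrullDim R ≤ 0 := Order.krullDim_nonpos_of_subsingleton
    have h1 := Groth.Agent.Lib.Helper4.depth_le_supportDim (R := R) (M := R)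
    rw [Module.supportDim_self_eq_ringKrullDim] at h1
    have h3 : ((2 : ℕ∞) : WithBot ℕ∞) ≤ 0 := (WithBot.coe_le_coe.mpr h).trans (h1.trans hdim)
    have h4 : (2 : ℕ∞) ≤ 0 := by exact_mod_cast h3
    exact absurd h4 (by decide)
  · rw [isPreconnected_closed_iff]
    intro t t' ht ht' hcov hnt hnt'
    obtain ⟨J1, rfl⟩ := (PrimeSpectrum.isClosed_iff_zeroLocus_ideal t).mp ht
    obtain ⟨J2, rfl⟩ := (PrimeSpectrum.isClosed_iff_zeroLocus_ideal t').mp ht'
    by_contra hempty
    rw [Set.not_nonempty_iff_eq_empty] at hempty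
    obtain ⟨x1, hx1, hx1J⟩ := hnt
    obtain ⟨x2, hx2, hx2J⟩ := hnt'
    rw [PrimeSpectrum.mem_zeroLocus, SetLike.coe_subset_coe] at hx1J hx2J
    have hJ1m : J1 ≤ IsLocalRing.maximalIdeal R :=
      hx1J.trans (IsLocalRing.le_maximalIdeal x1.2.ne_top)
    have key := Groth.Agent.Lib.Helper4.hartshorne_local h J1 J2 ?_ ?_
    · rcases key with h1 | h1
      · exact (hx1 : x1.asIdeal ≠ _) (h1 _ x1.2 hx1J)
      · exact (hx2 : x2.asIdeal ≠ _) (h1 _ x2.2 hx2J)
    · intro p hp
      by_cases hpm : p = IsLocalRing.maximalIdeal R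
      · left
        rw [hpm]
        exact hJ1m
      · have hmem := hcov (show (⟨p, hp⟩ : PrimeSpectrum R) ∈ _ from hpm)
        rcases hmem with h1 | h1
        · left
          rw [PrimeSpectrum.mem_zeroLocus, SetLike.coe_subset_coe] at h1
          exact h1
        · right
          rw [PrimeSpectrum.mem_zeroLocus, SetLike.coe_subset_coe] at h1
          exact h1
    · intro p hp h1 h2
      by_contra hpm
      have hmem : (⟨p, hp⟩ : PrimeSpectrum R) ∈
          {x : PrimeSpectrum R | x.asIdeal ≠ IsLocalRing.maximalIdeal R} ∩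
            (PrimeSpectrum.zeroLocus (J1 : Set R) ∩ PrimeSpectrum.zeroLocus (J2 : Set R)) := by
        refine ⟨hpm, ?_, ?_⟩
        · rw [PrimeSpectrum.mem_zeroLocus, SetLike.coe_subset_coe]
          exact h1
        · rw [PrimeSpectrum.mem_zeroLocus, SetLike.coe_subset_coe]
          exact h2
      rw [hempty] at hmem
      exact hmem

end Groth.Agent.S0335
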