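import Groth.Statements.S0337
import Mathlib
import Groth.Agent.Lib.Helper18.FittLib5

set_option autoImplicit false
universe u v
open CategoryTheory
open LocCoh

namespace Groth.Agent.S0337

open TensorProduct Groth.Agent.Lib.Helper18.FittLib

/-- `R` viewed as an `R`-algebra through the Frobenius. -/
def FrobR (R : Type u) (_p : ℕ) : Type u := R

instance (R : Type u) [CommRing R] (p : ℕ) : CommRing (FrobR R p) := inferInstanceAs (CommRing R)

noncomputable instance (R : Type u) [CommRing R] (p : ℕ) [Fact p.Prime] [CharP R p] :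
    Algebra R (FrobR R p) :=
  RingHom.toAlgebra (show R →+* FrobR R p from frobenius R p)

set_option backward.isDefEq.respectTransparency false in
theorem fitt_E_eq (p : ℕ) [Fact p.Prime] (R : Type u) [CommRing R] [CharP R p] (M : Type u)
    [AddCommGroup M] [Module R M] (k : ℕ) :
    (Fitt.ideal R ((ModuleCat.extendScalars (frobenius R p)).obj (ModuleCat.of R M) : Type _) k :
        Ideal R) =
      (Fitt.ideal (FrobR R p) (FrobR R p ⊗[R] M) k : Ideal (FrobR R p)) := rfl

theorem map_eq (p : ℕ) [Fact p.Prime] (R : Type u) [CommRing R] [CharP R p] (I : Ideal R) :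
    (I.map (algebraMap R (FrobR R p)) : Ideal (FrobR R p)) = (I.map (frobenius R p) : Ideal R) :=
  rfl

theorem fitt_frob (p : ℕ) [Fact p.Prime] (R : Type u) [CommRing R] [CharP R p] (M : Type u)
    [AddCommGroup M] [Module R M] [Module.Finite R M] (k : ℕ) :
    Fitt.ideal R ((ModuleCat.extendScalars (frobenius R p)).obj (ModuleCat.of R M) : Type _) k =
      (Fitt.ideal R M k).map (frobenius R p) :=
  (fitt_E_eq p R M k).trans ((fitt_baseChange (FrobR R p) k).trans (map_eq p R _))


/-- Over a Noetherian local ring of prime characteristic p, a finite module isomorphic to its own base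
change along Frobenius is free. -/
theorem result (p : ℕ) [Fact p.Prime] (R : Type u) [CommRing R] [IsLocalRing R] [IsNoetherianRing R] [CharP R p] (M : Type u) [AddCommGroup M] [Module R M] [Module.Finite R M] (h : Nonempty ((ModuleCat.extendScalars (frobenius R p)).obj (ModuleCat.of R M) ≅ ModuleCat.of R M)) : Module.Free R M := by
  classical
  obtain ⟨E⟩ := h
  have hex : ∃ n, ∃ x : Fin n → M, Submodule.span R (Set.range x) = ⊤ := Module.Finite.exists_fin
  obtain ⟨n, ⟨x, hx⟩, hmin⟩ : ∃ n, (∃ x : Fin n → M, Submodule.span R (Set.range x) = ⊤) ∧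
      ∀ n' < n, ¬ ∃ x : Fin n' → M, Submodule.span R (Set.range x) = ⊤ :=
    ⟨Nat.find hex, Nat.find_spec hex, fun n' h => Nat.find_min hex h⟩
  cases n with
  | zero =>
    have hsub : Subsingleton M := by
      have h0 : (⊥ : Submodule R M) = ⊤ := by
        rw [← hx, Set.range_eq_empty, Submodule.span_empty]
      exact (Submodule.subsingleton_iff R).1 (subsingleton_of_bot_eq_top h0)
    exact Module.Free.of_subsingleton R M
  | succ n =>
    obtain ⟨I, hI⟩ : ∃ I : Ideal R, I = Fitt.ideal R M n := ⟨_, rfl⟩
    have hI1 : I = minorIdeal {z : Fin (n+1) → R | ∑ i, z i • x i = 0} 1 := by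
      have := fitt_eq_minorIdeal x hx n
      rw [show n + 1 - n = 1 by omega] at this
      rw [hI]; exact this
    have hIm : I ≤ IsLocalRing.maximalIdeal R := by
      rw [hI1]
      refine Ideal.span_le.2 ?_
      rintro d ⟨z, e', hz, rfl⟩
      rw [Matrix.det_fin_one]
      show z 0 (e' 0) ∈ IsLocalRing.maximalIdeal R
      by_contra hunit
      have hu : IsUnit (z 0 (e' 0)) := by
        by_contra hnu
        exact hunit ((IsLocalRing.mem_maximalIdeal _).2 hnu)
      obtain ⟨j, hj⟩ : ∃ j, j = e' 0 := ⟨_, rfl⟩
      obtain ⟨w, hw⟩ : ∃ w, w = z 0 := ⟨_, rfl⟩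
      rw [← hj, ← hw] at hu
      have hrel : ∑ i, w i • x i = 0 := by rw [hw]; exact hz 0
      have hxj : x j ∈ Submodule.span R (Set.range (x ∘ j.succAbove)) := by
        rw [Fin.sum_univ_succAbove _ j] at hrel
        have h1 : w j • x j = - ∑ l, w (j.succAbove l) • x (j.succAbove l) :=
          eq_neg_of_add_eq_zero_left hrel
        obtain ⟨u, hu'⟩ := hu
        have h2 : x j = (↑u⁻¹ : R) • (- ∑ l, w (j.succAbove l) • x (j.succAbove l)) := by
          rw [← h1, ← hu', smul_smul, Units.inv_mul, one_smul]
        rw [h2]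
        exact Submodule.smul_mem _ _ (Submodule.neg_mem _ (Submodule.sum_mem _ fun l _ =>
          Submodule.smul_mem _ _ (Submodule.subset_span ⟨l, rfl⟩)))
      apply hmin n (Nat.lt_succ_self n)
      refine ⟨x ∘ j.succAbove, ?_⟩
      rw [eq_top_iff, ← hx, Submodule.span_le]
      rintro _ ⟨i, rfl⟩
      by_cases hij : i = j
      · rw [hij]; exact hxj
      · obtain ⟨l, rfl⟩ := Fin.exists_succAbove_eq hij
        exact Submodule.subset_span ⟨l, rfl⟩
    have hfrob : I = I.map (frobenius R p) := by
      rw [hI, ← fitt_frob p R M n]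
      exact (fitt_congr E.toLinearEquiv n).symm
    have hp2 : 2 ≤ p := (Fact.out : p.Prime).two_le
    have hle : I ≤ IsLocalRing.maximalIdeal R • I := by
      refine hfrob.le.trans ?_
      rw [Ideal.map_le_iff_le_comap]
      intro a ha
      rw [Ideal.mem_comap, frobenius_def]
      have : a ^ p = a ^ (p - 1) • a := by
        rw [smul_eq_mul, ← pow_succ]
        congr 1; omega
      rw [this]
      exact Submodule.smul_mem_smul (Ideal.pow_mem_of_mem _ (hIm ha) _ (by omega)) ha
    have hI0 : I = ⊥ :=
      Submodule.eq_bot_of_le_smul_of_le_jacobson_bot (IsLocalRing.maximalIdeal R) I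
        (IsNoetherian.noetherian I) hle
        (by rw [IsLocalRing.jacobson_eq_maximalIdeal ⊥ bot_ne_top])
    have hall : ∀ k, k < n + 1 → Fitt.ideal R M k = ⊥ := by
      intro k hk
      rw [eq_bot_iff, ← hI0, hI]
      exact fitt_mono (by omega)
    have hli := linearIndependent_of_fitt_eq_bot x hx hall
    exact Module.Free.of_basis (Module.Basis.mk hli (by rw [hx]))

end Groth.Agent.S0337
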