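import Groth.Statements.S0345
import Groth.Agent.Lib.Helper4.GorLoc

set_option autoImplicit false
universe u v
open Goren

namespace Groth.Agent.S0345

/-- For a Noetherian ring A, the A-module A has finite injective dimension exactly when every
localization of A at a prime is Gorenstein and A has finite Krull dimension. -/
theorem result (A : Type u) [CommRing A] [IsNoetherianRing A] : (∃ n : ℕ, CategoryTheory.HasInjectiveDimensionLT (ModuleCat.of A A) n) ↔ (LocCoh.IsGorensteinRing A ∧ ringKrullDim A < ⊤) := by
  constructor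
  · rintro ⟨n, hn⟩
    refine ⟨{ isGorensteinLocalRing_localization := fun p _ =>
      Groth.Agent.Lib.Helper4.LC.isGorensteinLocalRing_localization_of_injDim n hn p }, ?_⟩
    refine lt_of_le_of_lt ((ringKrullDim_le_iff_height_le (R := A) (n := ((n : ℕ∞) : WithBot ℕ∞))).2
      (fun p hp => ?_)) (Groth.Agent.Lib.Helper4.LC.natCast_lt_top_withBot n)
    haveI := hp
    exact_mod_cast (Groth.Agent.Lib.Helper4.LC.height_lt_of_injDim n hn p).le
  · rintro ⟨hG, hdim⟩
    obtain ⟨d, hd⟩ := Groth.Agent.Lib.Helper4.LC.exists_nat_le_of_lt_top _ hdim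
    exact ⟨d + 1, Groth.Agent.Lib.Helper4.LC.hasInjectiveDimensionLT_of_gorenstein hG d hd⟩

end Groth.Agent.S0345
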