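-- Statement S0346.
import Groth.Statements.S0346
import Groth.Agent.Lib.Helper1.GrpSchLib

set_option autoImplicit false
universe u v
open CategoryTheory MonoidalCategory CartesianMonoidalCategory MonObj GrpObj AlgebraicGeometry
open GrpSch

namespace Groth.Agent.S0346

/-- A group scheme over any base scheme is separated over the base exactly when its unit section is a
closed immersion, and quasi-separated exactly when the unit section is quasi-compact. -/
theorem result (S : Scheme.{u}) (G : Over S) [GrpObj G] : (IsSeparated G.hom ↔ IsClosedImmersion η[G].left) ∧ (QuasiSeparated G.hom ↔ QuasiCompact η[G].left) := by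
  have hsq := ((Groth.Agent.Lib.Helper1.GrpSchLib.isPullback_diag G).map (Over.forget S)).flip
  have hdiag : (Over.forget S).map (lift (𝟙 G) (𝟙 G)) = Limits.pullback.diagonal G.hom := rfl
  rw [hdiag] at hsq
  have hsec : η[G].left ≫ G.hom = 𝟙 S := Over.w η[G]
  constructor
  · constructor
    · intro h
      have h0 : IsClosedImmersion (𝟙 S) := inferInstance
      have : IsClosedImmersion (η[G].left ≫ G.hom) := by rw [hsec]; exact h0
      exact IsClosedImmersion.of_comp η[G].left G.hom
    · intro h
      exact ⟨MorphismProperty.of_isPullback (P := @IsClosedImmersion) hsq h⟩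
  · constructor
    · intro h
      have h0 : QuasiCompact (𝟙 S) := inferInstance
      have : QuasiCompact (η[G].left ≫ G.hom) := by rw [hsec]; exact h0
      exact QuasiCompact.of_comp η[G].left G.hom
    · intro h
      exact ⟨MorphismProperty.of_isPullback (P := @QuasiCompact) hsq h⟩

end Groth.Agent.S0346
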