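import Groth.Statements.S0350
import Mathlib
import Groth.Agent.Lib.Helper11.GrpB

set_option autoImplicit false
universe u v
open CategoryTheory MonoidalCategory CartesianMonoidalCategory MonObj GrpObj AlgebraicGeometry
open GrpSch

namespace Groth.Agent.S0350

open Groth.Agent.Lib.Helper11.GrpA in
/-- a point lying in a unique irreducible component has at most one minimal prime in its stalk -/
theorem minimalPrimes_stalk_subsingleton_of_uniqueComp {X : Scheme.{u}} (x : X)
    (hx : UniqueComp x) : (minimalPrimes (X.presheaf.stalk x)).Subsingleton := by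
  intro q₁ hq₁ q₂ hq₂
  have key : ∀ q ∈ minimalPrimes (X.presheaf.stalk x), ∀ hq : q.IsPrime,
      closure {X.fromSpecStalk x ⟨q, hq⟩} ∈ irreducibleComponents X ∧
      x ∈ closure {X.fromSpecStalk x ⟨q, hq⟩} := by
    intro q hqm hq
    set P : ↥(Spec (X.presheaf.stalk x)) := ⟨q, hq⟩ with hP
    set y := X.fromSpecStalk x P with hy
    have hyx : y ⤳ x := by
      have : y ∈ Set.range (X.fromSpecStalk x) := ⟨P, rfl⟩
      rw [Scheme.range_fromSpecStalk] at this
      exact this
    refine ⟨?_, specializes_iff_mem_closure.mp hyx⟩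
    obtain ⟨ξ, hξ⟩ := QuasiSober.sober (isIrreducible_irreducibleComponent (x := y))
      isClosed_irreducibleComponent
    have hξy : ξ ⤳ y := hξ.specializes mem_irreducibleComponent
    have hξr : ξ ∈ Set.range (X.fromSpecStalk x) := by
      rw [Scheme.range_fromSpecStalk]
      exact hξy.trans hyx
    obtain ⟨P', hP'⟩ := hξr
    have hsp : P' ⤳ P := by
      have : X.fromSpecStalk x P' ⤳ X.fromSpecStalk x P := hP' ▸ hξy
      exact (X.fromSpecStalk x).isEmbedding.isInducing.specializes_iff.mp this
    have hle : P'.asIdeal ≤ q := (PrimeSpectrum.le_iff_specializes P' P).mpr hsp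
    have hge : q ≤ P'.asIdeal := hqm.2 ⟨P'.isPrime, bot_le⟩ hle
    have hPP : P' = P := PrimeSpectrum.ext (le_antisymm hle hge)
    have hξeq : ξ = y := by rw [← hP', hPP]
    rw [← hξeq, hξ.def]
    exact irreducibleComponent_mem_irreducibleComponents _
  obtain ⟨h1c, h1x⟩ := key q₁ hq₁ hq₁.1.1
  obtain ⟨h2c, h2x⟩ := key q₂ hq₂ hq₂.1.1
  have hcl := hx _ h1c _ h2c h1x h2x
  have hgen1 : IsGenericPoint (X.fromSpecStalk x ⟨q₁, hq₁.1.1⟩)
      (closure {X.fromSpecStalk x ⟨q₂, hq₂.1.1⟩}) := hcl
  have hgen2 : IsGenericPoint (X.fromSpecStalk x ⟨q₂, hq₂.1.1⟩)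
      (closure {X.fromSpecStalk x ⟨q₂, hq₂.1.1⟩}) := rfl
  have hyy := hgen1.eq hgen2
  have hPP := (X.fromSpecStalk x).isEmbedding.injective hyy
  exact congrArg PrimeSpectrum.asIdeal hPP

/-- Let G be a group scheme over a field K. Then for every point x of G the local ring O_{G,x} has at
most one (hence exactly one) minimal prime, and there is exactly one irreducible component of G
passing through the identity point. The published statement also asserts that this component is
geometrically irreducible, which is not asserted here. -/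
theorem result (K : Type u) [Field K] (G : Over (Spec (CommRingCat.of K))) [GrpObj G] : (∀ x : G.left, (minimalPrimes (G.left.presheaf.stalk x)).Subsingleton) ∧ ∃! Z : Set G.left, Z ∈ irreducibleComponents (G.left : Type u) ∧ η[G].left (IsLocalRing.closedPoint K) ∈ Z := by

  refine ⟨fun x => minimalPrimes_stalk_subsingleton_of_uniqueComp x
    (Groth.Agent.Lib.Helper11.GrpB.uniqueComp_of_field G x), ?_⟩
  refine ⟨irreducibleComponent (η[G].left (IsLocalRing.closedPoint K)),
    ⟨irreducibleComponent_mem_irreducibleComponents _, mem_irreducibleComponent⟩, ?_⟩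
  rintro Z ⟨hZ, he⟩
  exact Groth.Agent.Lib.Helper11.GrpB.uniqueComp_of_field G _ Z hZ _
    (irreducibleComponent_mem_irreducibleComponents _) he mem_irreducibleComponent

end Groth.Agent.S0350
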