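import Groth.Statements.S0353
import Mathlib
import Groth.Agent.Lib.Helper6.CartierReduced

set_option autoImplicit false
universe u v
open CategoryTheory MonoidalCategory CartesianMonoidalCategory MonObj GrpObj AlgebraicGeometry
open GrpSch

namespace Groth.Agent.S0353

/-- A group scheme locally of finite type over a field of characteristic zero is smooth over the field. -/
theorem result (K : Type u) [Field K] (G : Over (Spec (CommRingCat.of K))) [GrpObj G] [CharZero K] [LocallyOfFiniteType G.hom] : Smooth G.hom := by
  haveI : GrpObj (Over.mk G.hom) := inferInstanceAs (GrpObj G)
  exact Groth.Agent.Lib.Helper6.CartierReduced.smooth_of_charZero G.hom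

end Groth.Agent.S0353
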