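import Groth.Statements.S0358
import Groth.Agent.Lib.Helper4.FlatLocal3
import Groth.Agent.Lib.Helper4.CM2

set_option autoImplicit false
universe u v
open LocCoh

namespace Groth.Agent.S0358

/-- For a flat local homomorphism R → S of Noetherian local rings whose closed fibre S/m_R S is
Cohen–Macaulay, and a proper ideal I of S, the I-depth of S is at least dim(S/m_R S) − dim(S/(m_R S
+ I)); stated additively. -/
theorem result (R : Type u) [CommRing R] [IsLocalRing R] [IsNoetherianRing R] (S : Type u) [CommRing S] [IsLocalRing S] [IsNoetherianRing S] [Algebra R S] [IsLocalHom (algebraMap R S)] [Module.Flat R S] (hCM : LocCoh.IsCohenMacaulayLocalRing (S ⧸ (IsLocalRing.maximalIdeal R).map (algebraMap R S))) (I : Ideal S) (hI : I ≠ ⊤) : ringKrullDim (S ⧸ (IsLocalRing.maximalIdeal R).map (algebraMap R S)) ≤ ringKrullDim (S ⧸ ((IsLocalRing.maximalIdeal R).map (algebraMap R S) ⊔ I)) + ((LocCoh.idealDepth I S : ℕ∞) : WithBot ℕ∞) := by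
  have hsd : Module.supportDim S (S ⧸ (IsLocalRing.maximalIdeal R).map (algebraMap R S)) =
      ringKrullDim (S ⧸ (IsLocalRing.maximalIdeal R).map (algebraMap R S)) :=
    Module.supportDim_quotient_eq_ringKrullDim _
  have hdepth : LocCoh.depth S (S ⧸ (IsLocalRing.maximalIdeal R).map (algebraMap R S)) =
      LocCoh.depth (S ⧸ (IsLocalRing.maximalIdeal R).map (algebraMap R S))
        (S ⧸ (IsLocalRing.maximalIdeal R).map (algebraMap R S)) := by
    have h1 := Groth.Agent.Lib.Helper4.idealDepth_map_eq (A := S)
      (B := S ⧸ (IsLocalRing.maximalIdeal R).map (algebraMap R S))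
      (IsLocalRing.maximalIdeal S) (S ⧸ (IsLocalRing.maximalIdeal R).map (algebraMap R S))
    have h2 : (IsLocalRing.maximalIdeal S).map
        (algebraMap S (S ⧸ (IsLocalRing.maximalIdeal R).map (algebraMap R S))) =
        IsLocalRing.maximalIdeal (S ⧸ (IsLocalRing.maximalIdeal R).map (algebraMap R S)) :=
      IsLocalRing.map_maximalIdeal_of_surjective
        (algebraMap S (S ⧸ (IsLocalRing.maximalIdeal R).map (algebraMap R S)))
        Ideal.Quotient.mk_surjective
    rw [h2] at h1
    exact h1
  have hCMmod : LocCoh.IsCohenMacaulayModule S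
      (S ⧸ (IsLocalRing.maximalIdeal R).map (algebraMap R S)) := by
    unfold LocCoh.IsCohenMacaulayModule
    rw [hsd, hdepth, ← hCM.supportDim_eq_depth, Module.supportDim_self_eq_ringKrullDim]
  have key := Groth.Agent.Lib.Helper4.cm_supportDim_eq_add_idealDepth I hI hCMmod
  have hsupp : Module.supportDim S ((S ⧸ (IsLocalRing.maximalIdeal R).map (algebraMap R S)) ⧸
      I • (⊤ : Submodule S (S ⧸ (IsLocalRing.maximalIdeal R).map (algebraMap R S)))) =
      ringKrullDim (S ⧸ ((IsLocalRing.maximalIdeal R).map (algebraMap R S) ⊔ I)) := by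
    rw [← Module.supportDim_quotient_eq_ringKrullDim]
    unfold Module.supportDim
    have hset : Module.support S ((S ⧸ (IsLocalRing.maximalIdeal R).map (algebraMap R S)) ⧸
        I • (⊤ : Submodule S (S ⧸ (IsLocalRing.maximalIdeal R).map (algebraMap R S)))) =
        Module.support S (S ⧸ ((IsLocalRing.maximalIdeal R).map (algebraMap R S) ⊔ I)) := by
      rw [Module.support_quotient, Module.support_eq_zeroLocus, Module.support_eq_zeroLocus,
        Ideal.annihilator_quotient, Ideal.annihilator_quotient, PrimeSpectrum.zeroLocus_sup]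
    rw [hset]
  rw [hsd, hsupp] at key
  rw [key]
  have hle : LocCoh.idealDepth I (S ⧸ (IsLocalRing.maximalIdeal R).map (algebraMap R S)) ≤
      LocCoh.idealDepth I S := by
    have h := Groth.Agent.Lib.Helper4.idealDepth_fibre_le (R := R) I S
    have heq : ((IsLocalRing.maximalIdeal R).map (algebraMap R S) • (⊤ : Submodule S S)) =
        (IsLocalRing.maximalIdeal R).map (algebraMap R S) := by
      rw [smul_eq_mul, Ideal.mul_top]
    rw [Groth.Agent.Lib.Helper4.idealDepth_congr I (Submodule.quotEquivOfEq _ _ heq)] at h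
    exact h
  exact add_le_add_right (by exact_mod_cast hle) _

end Groth.Agent.S0358
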