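import Groth.Statements.S0363
import Mathlib
import Groth.Prelude.Def_DerCA
import Groth.Prelude.Def_ega3
import Groth.Agent.S11623
import Groth.Agent.S0302
import Groth.Agent.Lib.Helper4.GorTop
import Groth.Agent.Lib.Helper4.LCBridge
import Groth.Agent.Lib.Helper7.TorBalance3
import Groth.Agent.Lib.Helper26.FlatKerSq

set_option autoImplicit false
universe u v
open CategoryTheory
open Goren

namespace Groth.Agent.S0363


namespace H0363

open CategoryTheory CategoryTheory.Limits IsLocalRing
open Groth.Agent.Lib.Helper4.LCBridge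

variable {A : Type u} [CommRing A]

lemma tens_subsingleton_of_subsingleton (M N : Type u) [AddCommGroup M] [Module A M]
    [AddCommGroup N] [Module A N] [Subsingleton M] : Subsingleton (TensorProduct A M N) := by
  refine ⟨fun a b => ?_⟩
  have h : ∀ z : TensorProduct A M N, z = 0 := by
    intro z
    induction z using TensorProduct.induction_on with
    | zero => rfl
    | tmul x y => rw [Subsingleton.elim x 0, TensorProduct.zero_tmul]
    | add x y hx hy => rw [hx, hy, add_zero]
  rw [h a, h b]

lemma loc_zero_subsingleton (N : Type u) [AddCommGroup N] [Module A N] :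
    Subsingleton (LocalizedModule (Submonoid.powers (0 : A)) N) := by
  refine ⟨fun a b => ?_⟩
  have h : ∀ x : LocalizedModule (Submonoid.powers (0 : A)) N, x = 0 := by
    intro x
    have hu := IsLocalizedModule.map_units
      (LocalizedModule.mkLinearMap (Submonoid.powers (0 : A)) N) ⟨0, Submonoid.mem_powers 0⟩
    obtain ⟨y, hy⟩ := ((Module.End.isUnit_iff _).mp hu).2 x
    rw [← hy]
    simp
  rw [h a, h b]

section good
variable [IsLocalRing A]

lemma loc_tens_subsingleton (f : A) (hf : f ∈ maximalIdeal A) (N : Type u) [AddCommGroup N]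
    [Module A N] :
    Subsingleton (TensorProduct A (LocalizedModule (Submonoid.powers f) N) (ResidueField A)) := by
  refine ⟨fun a b => ?_⟩
  have hsurj : ∀ x : LocalizedModule (Submonoid.powers f) N, ∃ y, f • y = x := by
    intro x
    have hu := IsLocalizedModule.map_units
      (LocalizedModule.mkLinearMap (Submonoid.powers f) N) ⟨f, Submonoid.mem_powers f⟩
    obtain ⟨y, hy⟩ := ((Module.End.isUnit_iff _).mp hu).2 x
    exact ⟨y, hy⟩
  have hk : ∀ c : ResidueField A, f • c = 0 := by
    intro c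
    rw [Algebra.smul_def, IsLocalRing.ResidueField.algebraMap_eq,
      (IsLocalRing.residue_eq_zero_iff f).mpr hf, zero_mul]
  have h : ∀ z : TensorProduct A (LocalizedModule (Submonoid.powers f) N) (ResidueField A),
      z = 0 := by
    intro z
    induction z using TensorProduct.induction_on with
    | zero => rfl
    | tmul x c =>
      obtain ⟨y, rfl⟩ := hsurj x
      rw [TensorProduct.smul_tmul, hk, TensorProduct.tmul_zero]
    | add x y hx hy => rw [hx, hy, add_zero]
  rw [h a, h b]

structure Good (l : List A) (n : ℤ) (M : ModuleCat.{u} A) : Prop where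
  flat : Module.Flat A M
  neg : n < 0 → Subsingleton M
  big : (l.length : ℤ) < n → Subsingleton M
  zero : n = 0 → Nonempty (M ≃ₗ[A] A)
  tens : (∀ f ∈ l, f ∈ maximalIdeal A) → n ≠ 0 →
    Subsingleton (TensorProduct A M (ResidueField A))

lemma Good.of_iso {l : List A} {n : ℤ} {M N : ModuleCat.{u} A} (e : M ≅ N) (h : Good l n M) :
    Good l n N := by
  have el : M ≃ₗ[A] N := e.toLinearEquiv
  refine ⟨?_, ?_, ?_, ?_, ?_⟩
  · haveI := h.flat
    exact Module.Flat.of_linearEquiv el.symm
  · intro hn
    haveI := h.neg hn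
    exact el.symm.toEquiv.subsingleton
  · intro hn
    haveI := h.big hn
    exact el.symm.toEquiv.subsingleton
  · intro hn
    obtain ⟨e0⟩ := h.zero hn
    exact ⟨el.symm.trans e0⟩
  · intro hm hn
    haveI := h.tens hm hn
    exact (TensorProduct.congr el.symm (LinearEquiv.refl A (ResidueField A))).toEquiv.subsingleton

lemma good_nil (n : ℤ) : Good ([] : List A) n
    (((HomologicalComplex.single (ModuleCat.{u} A) (ComplexShape.up ℤ) 0).obj
      (ModuleCat.of A A)).X n) := by
  by_cases hn : n = 0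
  · subst hn
    refine Good.of_iso
      (HomologicalComplex.singleObjXSelf (ComplexShape.up ℤ) 0 (ModuleCat.of A A)).symm ?_
    refine ⟨inferInstanceAs (Module.Flat A A), fun h => absurd h (lt_irrefl _), fun h => ?_,
      fun _ => ⟨LinearEquiv.refl A A⟩, fun _ h => absurd rfl h⟩
    simp at h
  · have hz := HomologicalComplex.isZero_single_obj_X (ComplexShape.up ℤ) 0 (ModuleCat.of A A) n hn
    haveI hs : Subsingleton ↑(((HomologicalComplex.single (ModuleCat.{u} A)
        (ComplexShape.up ℤ) 0).obj (ModuleCat.of A A)).X n) := ModuleCat.subsingleton_of_isZero hz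
    refine ⟨?_, fun _ => hs, fun _ => hs, fun h => absurd h hn, fun _ _ =>
      tens_subsingleton_of_subsingleton _ _⟩
    haveI := Module.Free.of_subsingleton A ↑(((HomologicalComplex.single (ModuleCat.{u} A)
        (ComplexShape.up ℤ) 0).obj (ModuleCat.of A A)).X n)
    infer_instance

lemma good_step (f : A) (l : List A) (n : ℤ) (M N : ModuleCat.{u} A) (hM : Good l n M)
    (hN : Good l (n - 1) N) :
    Good (f :: l) n (ModuleCat.of A (M × LocalizedModule (Submonoid.powers f) N)) := by
  refine ⟨?_, ?_, ?_, ?_, ?_⟩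
  · haveI := hM.flat
    haveI := hN.flat
    haveI : Module.Flat A (Localization (Submonoid.powers f)) :=
      IsLocalization.flat _ (Submonoid.powers f)
    haveI : Module.Flat A (LocalizedModule (Submonoid.powers f) N) :=
      Module.Flat.trans A (Localization (Submonoid.powers f)) _
    show Module.Flat A (M × LocalizedModule (Submonoid.powers f) N)
    exact Groth.Agent.Lib.Helper26.FlatKer.flat_prod
  · intro hn
    haveI := hM.neg hn
    haveI := hN.neg (by omega)
    exact inferInstanceAs (Subsingleton (M × LocalizedModule (Submonoid.powers f) N))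
  · intro hn
    have hn' : ((l.length : ℤ) + 1) < n := by
      have := hn
      simp only [List.length_cons] at this
      push_cast at this
      exact this
    haveI := hM.big (by omega)
    haveI := hN.big (by omega)
    exact inferInstanceAs (Subsingleton (M × LocalizedModule (Submonoid.powers f) N))
  · intro hn
    obtain ⟨e0⟩ := hM.zero hn
    haveI := hN.neg (by omega)
    refine ⟨(LinearEquiv.ofBijective
      (LinearMap.fst A M (LocalizedModule (Submonoid.powers f) N))
      ⟨?_, fun a => ⟨(a, 0), rfl⟩⟩).trans e0⟩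
    rintro ⟨a, b⟩ ⟨a', b'⟩ h
    exact Prod.ext h (Subsingleton.elim _ _)
  · intro hm hn
    haveI := hM.tens (fun g hg => hm g (List.mem_cons_of_mem _ hg)) hn
    haveI : Subsingleton (TensorProduct A (LocalizedModule (Submonoid.powers f) N)
        (ResidueField A)) := loc_tens_subsingleton f (hm f List.mem_cons_self) N
    exact (TensorProduct.prodLeft A A M (LocalizedModule (Submonoid.powers f) N)
      (ResidueField A)).toEquiv.subsingleton

lemma good_cech : ∀ (l : List A) (n : ℤ),
    Good l n ((DerCA.extCech (ModuleCat.of A A) l).X n)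
  | [], n => good_nil n
  | f :: l, n => by
    have e1 := DerCA.mappingCoconeXIso
      (DerCA.locCxUnit (Submonoid.powers f) (DerCA.extCech (ModuleCat.of A A) l)) n
    have e2 := ModuleCat.biprodIsoProd ((DerCA.extCech (ModuleCat.of A A) l).X n)
      (((DerCA.locCx (Submonoid.powers f)).obj (DerCA.extCech (ModuleCat.of A A) l)).X (n - 1))
    exact Good.of_iso (e1 ≪≫ e2).symm
      (good_step f l n _ _ (good_cech l n) (good_cech l (n - 1)))

lemma good_cech_zero (l : List A) (n : ℤ) :
    Good l n ((DerCA.extCech (ModuleCat.of A A) ((0 : A) :: l)).X n) := by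
  have e1 := DerCA.mappingCoconeXIso
    (DerCA.locCxUnit (Submonoid.powers (0 : A)) (DerCA.extCech (ModuleCat.of A A) l)) n
  have e2 := ModuleCat.biprodIsoProd ((DerCA.extCech (ModuleCat.of A A) l).X n)
    (((DerCA.locCx (Submonoid.powers (0 : A))).obj (DerCA.extCech (ModuleCat.of A A) l)).X (n - 1))
  haveI : Subsingleton (LocalizedModule (Submonoid.powers (0 : A))
      ((DerCA.extCech (ModuleCat.of A A) l).X (n - 1))) := loc_zero_subsingleton _
  let e3 : ((DerCA.extCech (ModuleCat.of A A) l).X n ×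
      LocalizedModule (Submonoid.powers (0 : A)) ((DerCA.extCech (ModuleCat.of A A) l).X (n - 1)))
      ≃ₗ[A] (DerCA.extCech (ModuleCat.of A A) l).X n :=
    LinearEquiv.ofBijective (LinearMap.fst A _ _)
      ⟨by
        rintro ⟨a, b⟩ ⟨a', b'⟩ h
        exact Prod.ext h (Subsingleton.elim _ _), fun a => ⟨(a, 0), rfl⟩⟩
  exact Good.of_iso (e1 ≪≫ e2 ≪≫ e3.toModuleIso).symm (good_cech l n)

end good

section homological

variable (K : CochainComplex (ModuleCat.{u} A) ℤ)

lemma K_fexact (a b c : ℤ) (hab : a + 1 = b) (hbc : b + 1 = c) (h : K.ExactAt b) :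
    Function.Exact (K.d a b).hom (K.d b c).hom := by
  have h1 : (ComplexShape.up ℤ).prev b = a := by rw [CochainComplex.prev]; omega
  have h2 : (ComplexShape.up ℤ).next b = c := by rw [CochainComplex.next]; omega
  have h3 := (HomologicalComplex.exactAt_iff' K a b c h1 h2).mp h
  exact (ShortComplex.ShortExact.moduleCat_exact_iff_function_exact _).mp h3

lemma aug (n p q : ℤ) (hp : p + 1 = n) (hq : n + 1 = q) [Subsingleton (K.X q)] :
    ∃ ε : K.X n →ₗ[A] K.homology n, Function.Surjective ε ∧
      Function.Exact (K.d p n).hom ε := by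
  have hZ : ∀ x : K.X n, x ∈ ModCx.Z K n := by
    intro x
    rw [ModCx.mem_Z_iff K n q (by rw [CochainComplex.next]; omega)]
    exact Subsingleton.elim _ _
  let ι : K.X n →ₗ[A] ModCx.Z K n := LinearMap.codRestrict _ LinearMap.id hZ
  refine ⟨ModCx.cls K n ∘ₗ ι, ?_, ?_⟩
  · intro y
    obtain ⟨z, hz⟩ := ModCx.cls_surjective K n y
    refine ⟨z.1, ?_⟩
    show ModCx.cls K n (ι z.1) = y
    have : ι z.1 = z := Subtype.ext rfl
    rw [this, hz]
  · intro x
    show ModCx.cls K n (ι x) = 0 ↔ x ∈ Set.range (K.d p n).hom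
    rw [ModCx.cls_eq_zero_iff' K n p (by rw [CochainComplex.prev]; omega)]
    constructor
    · rintro ⟨y, hy⟩
      exact ⟨y, hy⟩
    · rintro ⟨y, hy⟩
      exact ⟨y, hy⟩

noncomputable def revCx (d : ℕ) : ChainComplex (ModuleCat.{u} A) ℕ :=
  ChainComplex.of (fun i : ℕ => K.X ((d : ℤ) - (i : ℤ)))
    (fun i : ℕ => K.d ((d : ℤ) - ((i + 1 : ℕ) : ℤ)) ((d : ℤ) - (i : ℤ)))
    (fun i => K.d_comp_d _ _ _)

lemma revCx_d (d i : ℕ) : (revCx K d).d (i + 1) i =
    K.d ((d : ℤ) - ((i + 1 : ℕ) : ℤ)) ((d : ℤ) - (i : ℤ)) := by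
  unfold revCx
  exact ChainComplex.of_d (fun i : ℕ => K.X ((d : ℤ) - (i : ℤ)))
    (fun i : ℕ => K.d ((d : ℤ) - ((i + 1 : ℕ) : ℤ)) ((d : ℤ) - (i : ℤ))) i

theorem flatRes (d : ℕ) (E : ModuleCat.{u} A)
    (hflat : ∀ n, Module.Flat A (K.X n))
    (hbig : ∀ n : ℤ, (d : ℤ) < n → Subsingleton (K.X n))
    (hex : ∀ n : ℤ, n < d → K.ExactAt n)
    (e : K.homology ((d : ℤ) - ((0 : ℕ) : ℤ)) ≅ E) :
    Nonempty (Groth.Agent.Lib.Helper7.FlatRes (revCx K d) E) := by
  haveI : Subsingleton (K.X ((d : ℤ) - ((0 : ℕ) : ℤ) + 1)) := hbig _ (by omega)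
  obtain ⟨ε, hεs, hεe⟩ := aug K ((d : ℤ) - ((0 : ℕ) : ℤ)) ((d : ℤ) - ((0 + 1 : ℕ) : ℤ))
    ((d : ℤ) - ((0 : ℕ) : ℤ) + 1) (by omega) rfl
  refine ⟨{ ε := ModuleCat.ofHom (e.toLinearEquiv.toLinearMap ∘ₗ ε)
            flat := fun i => hflat _
            exactAt := fun i => ?_
            ε_surj := ?_
            ε_exact := ?_ }⟩
  · rw [HomologicalComplex.exactAt_iff' _ (i + 1 + 1) (i + 1) i (ChainComplex.prev ℕ (i + 1))
      (ChainComplex.next_nat_succ i), ShortComplex.ShortExact.moduleCat_exact_iff_function_exact]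
    show Function.Exact ((revCx K d).d (i + 1 + 1) (i + 1)).hom ((revCx K d).d (i + 1) i).hom
    rw [revCx_d K d (i + 1), revCx_d K d i]
    exact K_fexact K _ _ _ (by omega) (by omega) (hex _ (by omega))
  · show Function.Surjective (e.toLinearEquiv.toLinearMap ∘ₗ ε)
    exact e.toLinearEquiv.surjective.comp hεs
  · have hd : (revCx K d).d 1 0 =
        K.d ((d : ℤ) - ((0 + 1 : ℕ) : ℤ)) ((d : ℤ) - ((0 : ℕ) : ℤ)) := revCx_d K d 0
    show Function.Exact ((revCx K d).d 1 0).hom (e.toLinearEquiv.toLinearMap ∘ₗ ε)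
    rw [hd]
    intro x
    exact (e.toLinearEquiv.map_eq_zero_iff (x := ε x)).trans (hεe x)

end homological

section Tcomp

theorem T_zero_of (P : ChainComplex (ModuleCat.{u} A) ℕ) (N : ModuleCat.{u} A) (i : ℕ)
    (h : Subsingleton (TensorProduct A (P.X i) N)) : IsZero (CohIII.T P i N) := by
  have hz : IsZero ((CohIII.tensorObj P N).X i) := by
    haveI : Subsingleton ((CohIII.tensorObj P N).X i) := h
    exact ModuleCat.isZero_of_subsingleton _
  exact (ShortComplex.exact_iff_isZero_homology _).mp (ShortComplex.exact_of_isZero_X₂ _ hz)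

theorem T_top (P : ChainComplex (ModuleCat.{u} A) ℕ) (N : ModuleCat.{u} A) (i : ℕ)
    (hprev : Subsingleton (TensorProduct A (P.X (i + 1)) N))
    (hnext : ∀ j, j + 1 = i → Subsingleton (TensorProduct A (P.X j) N)) :
    Nonempty (CohIII.T P i N ≅ ModuleCat.of A (TensorProduct A (P.X i) N)) := by
  have hf : ((CohIII.tensorObj P N).sc i).f = 0 := by
    have hz : IsZero ((CohIII.tensorObj P N).X ((ComplexShape.down ℕ).prev i)) := by
      rw [ChainComplex.prev]
      haveI : Subsingleton ((CohIII.tensorObj P N).X (i + 1)) := hprev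
      exact ModuleCat.isZero_of_subsingleton _
    exact hz.eq_of_src _ _
  have hg : ((CohIII.tensorObj P N).sc i).g = 0 := by
    cases i with
    | zero =>
      refine (CohIII.tensorObj P N).shape _ _ ?_
      rw [ChainComplex.next_nat_zero]
      simp
    | succ j =>
      have hz : IsZero ((CohIII.tensorObj P N).X ((ComplexShape.down ℕ).next (j + 1))) := by
        rw [ChainComplex.next_nat_succ]
        haveI : Subsingleton ((CohIII.tensorObj P N).X j) := hnext j rfl
        exact ModuleCat.isZero_of_subsingleton _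
      exact hz.eq_of_tgt _ _
  exact ⟨(ShortComplex.LeftHomologyData.ofZeros ((CohIII.tensorObj P N).sc i) hf hg).homologyIso⟩

end Tcomp

section gor
variable [LocCoh.IsGorensteinLocalRing A]

theorem exists_list (d : ℕ) (hd : ringKrullDim A = d) :
    ∃ l : List A, l.length = d ∧ (∀ f ∈ l, f ∈ maximalIdeal A) ∧
      (Ideal.span {x | x ∈ ((0 : A) :: l)}).radical = (maximalIdeal A).radical := by
  classical
  obtain ⟨s, hs, hcard⟩ := Ideal.exists_finset_card_eq_height_of_isNoetherianRing (maximalIdeal A)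
  have hsd : s.card = d := by
    have h1 : ((maximalIdeal A).height : WithBot ℕ∞) = ringKrullDim A :=
      IsLocalRing.maximalIdeal_height_eq_ringKrullDim
    rw [hd, ← hcard] at h1
    exact_mod_cast h1
  have hle : Ideal.span (s : Set A) ≤ maximalIdeal A := hs.1.2
  have hspan : Ideal.span {x | x ∈ ((0 : A) :: s.toList)} = Ideal.span (s : Set A) := by
    apply le_antisymm
    · rw [Ideal.span_le]
      intro x hx
      simp only [List.mem_cons, Finset.mem_toList, Set.mem_ofPred_eq] at hx
      rcases hx with rfl | hx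
      · exact zero_mem _
      · exact Ideal.subset_span hx
    · refine Ideal.span_mono (fun x hx => ?_)
      simp only [List.mem_cons, Finset.mem_toList, Set.mem_ofPred_eq]
      exact Or.inr hx
  have hrad : (Ideal.span (s : Set A)).radical = maximalIdeal A := by
    apply le_antisymm
    · exact (Ideal.IsPrime.radical_le_iff inferInstance).2 hle
    · rw [Ideal.radical_eq_sInf]
      refine le_sInf ?_
      rintro q ⟨hIq, hq⟩
      exact hs.2 ⟨hq, hIq⟩ (IsLocalRing.le_maximalIdeal hq.ne_top)
  refine ⟨s.toList, by rw [Finset.length_toList, hsd], ?_, ?_⟩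
  · intro f hf
    exact hle (Ideal.subset_span (Finset.mem_toList.mp hf))
  · rw [hspan, hrad, Ideal.IsPrime.radical inferInstance]

theorem K_props (d : ℕ) (hd : ringKrullDim A = d) (E : Type u) [AddCommGroup E] [Module A E]
    (f : ResidueField A →ₗ[A] E) (hf : InjHull.IsInjectiveHull f) (l : List A)
    (hrad : (Ideal.span {x | x ∈ ((0 : A) :: l)}).radical = (maximalIdeal A).radical) :
    (∀ j : ℕ, j < d →
      IsZero ((DerCA.extCech (ModuleCat.of A A) ((0 : A) :: l)).homology (j : ℤ))) ∧
    Nonempty ((DerCA.extCech (ModuleCat.of A A) ((0 : A) :: l)).homology (d : ℤ) ≅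
      ModuleCat.of A E) := by
  have key : ∀ j : ℕ, Nonempty
      ((DerCA.extCech (ModuleCat.of A A) ((0 : A) :: l)).homology (j : ℤ) ≅
        (localCohomology (maximalIdeal A) j).obj (ModuleCat.of A A)) := by
    intro j
    obtain ⟨e1⟩ := Groth.Agent.S11623.result A ((0 : A) :: l) (List.cons_ne_nil _ _) A j
    exact ⟨e1 ≪≫ (localCohomology.isoOfSameRadical hrad j).app (ModuleCat.of A A)⟩
  constructor
  · intro j hj
    obtain ⟨e⟩ := key j
    haveI hsub : Subsingleton (LocCoh.H (maximalIdeal A) j A) := by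
      haveI := Groth.Agent.Lib.Helper4.LC.gor_HH_self_subsingleton_of_lt A d hd j hj
      exact (Groth.Agent.Lib.Helper4.LC.lcEquiv (maximalIdeal A)
        (ModuleCat.of A A) j).toEquiv.subsingleton
    exact IsZero.of_iso (ModuleCat.isZero_of_subsingleton _) e
  · obtain ⟨e⟩ := key d
    obtain ⟨g, hg⟩ := Groth.Agent.Lib.Helper4.LC.gor_exists_isInjectiveHull_H_top A d hd
    obtain ⟨e2, -⟩ := Groth.Agent.S0302.result A (ResidueField A)
      (LocCoh.H (maximalIdeal A) d A) E g hg f hf
    exact ⟨e ≪≫ e2.toModuleIso⟩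

theorem main (d : ℕ) (hd : ringKrullDim A = d)
    (E : Type u) [AddCommGroup E] [Module A E] (f : ResidueField A →ₗ[A] E)
    (hf : InjHull.IsInjectiveHull f) :
    (∀ i : ℕ, i ≠ d → IsZero (((Tor (ModuleCat.{u} A) i).obj (ModuleCat.of A E)).obj
      (ModuleCat.of A (ResidueField A)))) ∧
    Nonempty ((((Tor (ModuleCat.{u} A) d).obj (ModuleCat.of A E)).obj
      (ModuleCat.of A (ResidueField A))) ≅ ModuleCat.of A (ResidueField A)) := by
  obtain ⟨l, hlen, hmem, hrad⟩ := exists_list (A := A) d hd
  obtain ⟨hvan, ⟨eE⟩⟩ := K_props d hd E f hf l hrad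
  have hgood : ∀ n, Good l n ((DerCA.extCech (ModuleCat.of A A) ((0 : A) :: l)).X n) :=
    fun n => good_cech_zero l n
  generalize DerCA.extCech (ModuleCat.of A A) ((0 : A) :: l) = K at hvan eE hgood
  have hflat : ∀ n, Module.Flat A (K.X n) := fun n => (hgood n).flat
  have hneg : ∀ n : ℤ, n < 0 → Subsingleton (K.X n) := fun n hn => (hgood n).neg hn
  have hbig : ∀ n : ℤ, (d : ℤ) < n → Subsingleton (K.X n) :=
    fun n hn => (hgood n).big (by rw [hlen]; exact hn)
  have hex : ∀ n : ℤ, n < d → K.ExactAt n := by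
    intro n hn
    by_cases h0 : n < 0
    · haveI := hneg n h0
      exact HomologicalComplex.ExactAt.of_isZero (ModuleCat.isZero_of_subsingleton (K.X n))
    · obtain ⟨j, rfl⟩ : ∃ j : ℕ, n = j := ⟨n.toNat, by omega⟩
      exact (HomologicalComplex.exactAt_iff_isZero_homology K (j : ℤ)).mpr (hvan j (by omega))
  have h0 : (d : ℤ) - ((0 : ℕ) : ℤ) = d := by simp
  have eE' : K.homology ((d : ℤ) - ((0 : ℕ) : ℤ)) ≅ ModuleCat.of A E := by
    rw [h0]
    exact eE
  obtain ⟨hP⟩ := flatRes K d (ModuleCat.of A E) hflat hbig hex eE'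
  have htens : ∀ i : ℕ, i ≠ d →
      Subsingleton (TensorProduct A ((revCx K d).X i) (ResidueField A)) := by
    intro i hi
    exact (hgood ((d : ℤ) - (i : ℤ))).tens hmem (by omega)
  refine ⟨fun i hi => ?_, ?_⟩
  · obtain ⟨e⟩ := Groth.Agent.Lib.Helper7.nonempty_Tor_equiv_T_of_flatRes hP
      (ModuleCat.of A (ResidueField A)) i
    exact IsZero.of_iso (T_zero_of (revCx K d) _ i (htens i hi)) e.toModuleIso
  · obtain ⟨e⟩ := Groth.Agent.Lib.Helper7.nonempty_Tor_equiv_T_of_flatRes hP
      (ModuleCat.of A (ResidueField A)) d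
    obtain ⟨e2⟩ := T_top (revCx K d) (ModuleCat.of A (ResidueField A)) d
      (htens (d + 1) (by omega)) (fun j hj => htens j (by omega))
    obtain ⟨e0⟩ := (hgood 0).zero rfl
    have e3 : ((revCx K d).X d) ≃ₗ[A] A :=
      (K.XIsoOfEq (sub_self (d : ℤ))).toLinearEquiv.trans e0
    have e4 : TensorProduct A ((revCx K d).X d) (ResidueField A) ≃ₗ[A] ResidueField A :=
      (TensorProduct.congr e3 (LinearEquiv.refl A _)).trans (TensorProduct.lid A _)
    exact ⟨e.toModuleIso ≪≫ e2 ≪≫ e4.toModuleIso⟩

end gor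

end H0363

/-- Over a Gorenstein local ring of dimension d with E an injective hull of the residue field κ,
Tor_i(E, κ) vanishes for i ≠ d and Tor_d(E, κ) is isomorphic to κ. -/
theorem result (A : Type u) [CommRing A] [LocCoh.IsGorensteinLocalRing A] (d : ℕ) (hd : ringKrullDim A = d) (E : Type u) [AddCommGroup E] [Module A E] (f : IsLocalRing.ResidueField A →ₗ[A] E) (hf : InjHull.IsInjectiveHull f) : (∀ i : ℕ, i ≠ d → Limits.IsZero (((Tor (ModuleCat.{u} A) i).obj (ModuleCat.of A E)).obj (ModuleCat.of A (IsLocalRing.ResidueField A)))) ∧ Nonempty ((((Tor (ModuleCat.{u} A) d).obj (ModuleCat.of A E)).obj (ModuleCat.of A (IsLocalRing.ResidueField A))) ≅ ModuleCat.of A (IsLocalRing.ResidueField A)) := by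
  exact H0363.main d hd E f hf

end Groth.Agent.S0363
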