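import Groth.Statements.S0370
import Mathlib
import Groth.Agent.Lib.Helper4.LocNorm
import Groth.Agent.S0368
import Groth.Agent.S19859

set_option autoImplicit false
universe u v
open CategoryTheory
attribute [local instance] HasDerivedCategory.standard
open Dual

namespace Groth.Agent.S0370

/-- A Noetherian ring admitting a finite module which, placed in degree 0, is a dualizing complex, is
Cohen–Macaulay. -/
theorem result (A : Type u) [CommRing A] [IsNoetherianRing A] (W : Type u) [AddCommGroup W] [Module A W] [Module.Finite A W] (h : Dual.IsDualizing A (Dual.inD A W)) : LocCoh.IsCohenMacaulayRing A := by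
  refine { isCohenMacaulayLocalRing_localization := ?_ }
  intro p hp
  obtain ⟨ω', n, hB, hnorm, -, -, hHD⟩ :=
    Groth.Agent.Lib.Helper4.LocNorm.exists_localize_normalize (Dual.inD A W) h ⟨p, hp⟩
  have key : ∀ k : ℤ, Nontrivial (Dual.HD (Localization.AtPrime p) ω' k) → k = -n := by
    intro k hk
    have h1 : Nontrivial (LocalizedModule p.primeCompl (Dual.HD A (Dual.inD A W) (k + n))) := by
      refine (hHD (k + n)).2 ?_
      rwa [show k + n - n = k by ring]
    by_contra hne
    haveI := Groth.Agent.Lib.Helper4.LocNorm.subsingleton_HD_inD' (A := A) W (k + n) (by omega)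
    have h2 : Subsingleton (LocalizedModule p.primeCompl (Dual.HD A (Dual.inD A W) (k + n))) := by
      rw [LocalizedModule.subsingleton_iff]
      intro m
      exact ⟨1, Submonoid.one_mem _, by rw [Subsingleton.elim m 0, smul_zero]⟩
    exact not_subsingleton _ h2
  have hT : ∀ k : ℤ, Nontrivial (Dual.inD (Localization.AtPrime p) (Localization.AtPrime p) ⟶ ω'⟦k⟧) →
      k = -n := by
    intro k hk
    obtain ⟨e⟩ := Groth.Agent.Lib.Helper4.DT.T_self_equiv ω' k
    exact key k e.symm.toEquiv.nontrivial
  obtain ⟨d, hd⟩ := Groth.Agent.Lib.Helper4.exists_nat_supportDim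
    (R := Localization.AtPrime p) (M := Localization.AtPrime p)
  have hdn : -(d : ℤ) = -n :=
    hT _ (Groth.Agent.S19859.result (Localization.AtPrime p) ω' hB hnorm (Localization.AtPrime p) d hd)
  have hCM : LocCoh.IsCohenMacaulayModule (Localization.AtPrime p) (Localization.AtPrime p) := by
    refine (Groth.Agent.S0368.result (Localization.AtPrime p) ω' hB hnorm (Localization.AtPrime p)
      d hd).2 (fun i hi => ?_)
    by_contra hns
    have h3 := hT (-i) (not_subsingleton_iff_nontrivial.1 hns)
    omega
  exact { supportDim_eq_depth := hCM }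

end Groth.Agent.S0370
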