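import Groth.Statements.S0387
import Groth.Agent.Lib.Helper14.FlatOpen.Open

set_option autoImplicit false
universe u
open FlatMor

namespace Groth.Agent.S0387

/-- Openness of the flat locus, algebra form: for a ring map of finite presentation and a finitely
presented module over the target, the primes at which the localized module is flat over the base
ring form an open subset of the spectrum. -/
theorem result {R S M : Type u} [CommRing R] [CommRing S] [Algebra R S] [Algebra.FinitePresentation R S] [AddCommGroup M] [Module S M] [Module R M] [IsScalarTower R S M] [Module.FinitePresentation S M] :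
    IsOpen {q : PrimeSpectrum S | Module.Flat R (LocalizedModule q.asIdeal.primeCompl M)} := by
  rw [isOpen_iff_forall_mem_open]
  intro q hq
  obtain ⟨g, hg, hfl⟩ := Groth.Agent.Lib.Helper14.FlatOpen.exists_flatOnD (A := R) (N := M) q.asIdeal hq
  refine ⟨(PrimeSpectrum.basicOpen g : Set (PrimeSpectrum S)), ?_, (PrimeSpectrum.basicOpen g).isOpen, hg⟩
  intro q' hq'
  exact hfl q'.asIdeal hq'

end Groth.Agent.S0387
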