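-- Statement S0394.
import Groth.Statements.S0394
import Groth.Agent.Lib.Helper1.FibreInj

set_option autoImplicit false
universe u
open FlatMor

namespace Groth.Agent.S0394

open TensorProduct in
/-- For a local homomorphism R → S of Noetherian local rings and a nonzero finite S-module M flat over R
whose fibre M/mM is free over S/mS (m the maximal ideal of R), M is free over S and S is flat over
R. -/
theorem result {R S M : Type u} [CommRing R] [CommRing S] [IsLocalRing R] [IsLocalRing S] [IsNoetherianRing R] [IsNoetherianRing S] [Algebra R S] [IsLocalHom (algebraMap R S)]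
    [AddCommGroup M] [Module R M] [Module S M] [IsScalarTower R S M] [Module.Finite S M] [Nontrivial M] [Module.Flat R M]
    (h : Module.Free (S ⧸ ((IsLocalRing.maximalIdeal R).map (algebraMap R S))) ((S ⧸ ((IsLocalRing.maximalIdeal R).map (algebraMap R S))) ⊗[S] M)) :
    Module.Free S M ∧ Module.Flat R S := by
  classical
  set mS : Ideal S := (IsLocalRing.maximalIdeal R).map (algebraMap R S) with hmS
  have hmS_le : mS ≤ IsLocalRing.maximalIdeal S := IsLocalRing.map_maximalIdeal_le _
  have hmS_ne : mS ≠ ⊤ := fun h0 =>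
    (IsLocalRing.maximalIdeal.isMaximal S).ne_top (top_le_iff.mp (h0 ▸ hmS_le))
  haveI : Nontrivial (S ⧸ mS) := Ideal.Quotient.nontrivial_iff.mpr hmS_ne
  have hsm : ∀ (P : Type u) [AddCommGroup P] [Module R P] [Module S P] [IsScalarTower R S P],
      (IsLocalRing.maximalIdeal R) • (⊤ : Submodule R P) =
        (mS • (⊤ : Submodule S P)).restrictScalars R := by
    intro P _ _ _ _
    rw [hmS, Ideal.smul_restrictScalars, Submodule.restrictScalars_top]
  let ι := Module.Free.ChooseBasisIndex (S ⧸ mS) ((S ⧸ mS) ⊗[S] M)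
  let b : Module.Basis ι (S ⧸ mS) ((S ⧸ mS) ⊗[S] M) := Module.Free.chooseBasis _ _
  haveI : Finite ι := Module.Finite.finite_basis b
  haveI : Fintype ι := Fintype.ofFinite ι
  choose x hx using fun i => Groth.Agent.Lib.Helper1.FibreInj.exists_one_tmul mS (b i)
  let φ : (ι → S) →ₗ[S] M := Fintype.linearCombination S x
  have hφ : ∀ v, φ v = ∑ i, v i • x i := fun v => Fintype.linearCombination_apply S x v
  have h1φ : ∀ v : ι → S, (1 : S ⧸ mS) ⊗ₜ[S] φ v = ∑ i, (Ideal.Quotient.mk mS (v i)) • b i := by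
    intro v
    rw [hφ, TensorProduct.tmul_sum]
    refine Finset.sum_congr rfl fun i _ => ?_
    calc (1 : S ⧸ mS) ⊗ₜ[S] (v i • x i) = (v i • (1 : S ⧸ mS)) ⊗ₜ[S] x i := by
          rw [TensorProduct.smul_tmul]
      _ = (Ideal.Quotient.mk mS (v i)) ⊗ₜ[S] x i := by
          congr 1
          rw [Algebra.smul_def, mul_one]; rfl
      _ = (Ideal.Quotient.mk mS (v i)) • ((1 : S ⧸ mS) ⊗ₜ[S] x i) := by
          rw [TensorProduct.smul_tmul', smul_eq_mul, mul_one]
      _ = _ := by rw [hx i]
  let u : (ι → S) →ₗ[R] M := φ.restrictScalars R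
  have hu : ∀ v, u v = φ v := fun v => rfl
  have h0 : Function.Injective (LinearMap.lTensor (IsLocalRing.ResidueField R) u) := by
    rw [injective_iff_map_eq_zero]
    intro t ht
    obtain ⟨v, rfl⟩ := Groth.Agent.Lib.Helper1.FibreInj.exists_one_tmul_residue t
    rw [LinearMap.lTensor_tmul, Groth.Agent.Lib.Helper1.FibreInj.one_tmul_residue_eq_zero_iff,
      hsm M, Submodule.restrictScalars_mem, hu] at ht
    have h2 : (1 : S ⧸ mS) ⊗ₜ[S] φ v = 0 :=
      (Groth.Agent.Lib.Helper1.FibreInj.one_tmul_eq_zero_iff mS _).mpr ht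
    rw [h1φ] at h2
    have h3 := Fintype.linearIndependent_iff.mp b.linearIndependent
      (fun i => Ideal.Quotient.mk mS (v i)) h2
    rw [Groth.Agent.Lib.Helper1.FibreInj.one_tmul_residue_eq_zero_iff, hsm (ι → S),
      Submodule.restrictScalars_mem, pi_eq_sum_univ v]
    exact Submodule.sum_mem _ fun i _ =>
      Submodule.smul_mem_smul (Ideal.Quotient.eq_zero_iff_mem.mp (h3 i)) Submodule.mem_top
  have hinj : Function.Injective φ :=
    (Groth.Agent.Lib.Helper1.FibreInj.injective_and_flat_of_injective_residue S u h0).1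
  have hsurj : (⊤ : Submodule S M) ≤ LinearMap.range φ := by
    apply Submodule.le_of_le_smul_of_le_jacobson_bot (I := mS) Module.Finite.fg_top
      (hmS_le.trans (IsLocalRing.maximalIdeal_le_jacobson _))
    intro y _
    choose c hc using fun i =>
      Ideal.Quotient.mk_surjective (b.repr ((1 : S ⧸ mS) ⊗ₜ[S] y) i)
    have h2 : (1 : S ⧸ mS) ⊗ₜ[S] (y - φ c) = 0 := by
      rw [TensorProduct.tmul_sub, h1φ, sub_eq_zero]
      conv_lhs => rw [← b.sum_repr ((1 : S ⧸ mS) ⊗ₜ[S] y)]
      exact Finset.sum_congr rfl fun i _ => by rw [hc i]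
    rw [Groth.Agent.Lib.Helper1.FibreInj.one_tmul_eq_zero_iff] at h2
    have hy : y = φ c + (y - φ c) := by abel
    rw [hy]
    exact Submodule.add_mem_sup (LinearMap.mem_range_self _ _) h2
  let e : (ι → S) ≃ₗ[S] M :=
    LinearEquiv.ofBijective φ ⟨hinj, LinearMap.range_eq_top.mp (top_le_iff.mp hsurj)⟩
  have he : ∀ v, e v = φ v := fun v => rfl
  refine ⟨Module.Free.of_equiv e, ?_⟩
  have hne : Nonempty ι := by
    by_contra hemp
    rw [not_nonempty_iff] at hemp
    have : Subsingleton M := e.symm.injective.subsingleton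
    exact not_subsingleton M this
  obtain ⟨i₀⟩ := hne
  refine Module.Flat.of_retract (M := M)
    ((e.restrictScalars R).toLinearMap ∘ₗ (LinearMap.single R (fun _ => S) i₀))
    ((LinearMap.proj i₀ : (ι → S) →ₗ[R] S) ∘ₗ (e.symm.restrictScalars R).toLinearMap) ?_
  ext
  simp

end Groth.Agent.S0394
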