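-- Statement S0395.
import Groth.Statements.S0395
import Groth.Agent.Lib.Helper1.FibreInj

set_option autoImplicit false
universe u
open FlatMor

namespace Groth.Agent.S0395

open TensorProduct nonZeroDivisors in
/-- For a flat local homomorphism R → S of Noetherian local rings and an element f of S that is regular
on the fibre ring S/mS, the quotient of S by f is again R-flat and f is regular on S. -/
theorem result {R S : Type u} [CommRing R] [CommRing S] [IsLocalRing R] [IsLocalRing S] [IsNoetherianRing R] [IsNoetherianRing S] [Algebra R S] [IsLocalHom (algebraMap R S)] [Module.Flat R S]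
    (f : S) (hf : Ideal.Quotient.mk ((IsLocalRing.maximalIdeal R).map (algebraMap R S)) f ∈ nonZeroDivisors (S ⧸ ((IsLocalRing.maximalIdeal R).map (algebraMap R S)))) :
    Module.Flat R (S ⧸ Ideal.span {f}) ∧ f ∈ nonZeroDivisors S := by
  classical
  set mS : Ideal S := (IsLocalRing.maximalIdeal R).map (algebraMap R S) with hmS
  have hmS' : (IsLocalRing.maximalIdeal R) • (⊤ : Submodule R S) = mS.restrictScalars R :=
    Ideal.smul_top_eq_map _
  let u : S →ₗ[R] S := (LinearMap.mul R S f)
  have hu : ∀ s, u s = f * s := fun s => rfl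
  have h : Function.Injective (LinearMap.lTensor (IsLocalRing.ResidueField R) u) := by
    rw [injective_iff_map_eq_zero]
    intro t ht
    obtain ⟨s, rfl⟩ := Groth.Agent.Lib.Helper1.FibreInj.exists_one_tmul_residue t
    rw [LinearMap.lTensor_tmul, Groth.Agent.Lib.Helper1.FibreInj.one_tmul_residue_eq_zero_iff, hmS',
      Submodule.restrictScalars_mem, hu] at ht
    rw [Groth.Agent.Lib.Helper1.FibreInj.one_tmul_residue_eq_zero_iff, hmS', Submodule.restrictScalars_mem]
    have h1 : Ideal.Quotient.mk mS f * Ideal.Quotient.mk mS s = 0 := by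
      rw [← map_mul, Ideal.Quotient.eq_zero_iff_mem]; exact ht
    have h2 := (mem_nonZeroDivisors_iff.mp hf).1 _ h1
    exact Ideal.Quotient.eq_zero_iff_mem.mp h2
  obtain ⟨hinj, hflat⟩ :=
    Groth.Agent.Lib.Helper1.FibreInj.injective_and_flat_of_injective_residue S u h
  have hrange : LinearMap.range u = (Ideal.span {f}).restrictScalars R := by
    ext x
    simp only [LinearMap.mem_range, Submodule.restrictScalars_mem, Ideal.mem_span_singleton', hu]
    constructor
    · rintro ⟨y, rfl⟩; exact ⟨y, mul_comm _ _⟩
    · rintro ⟨y, rfl⟩; exact ⟨y, mul_comm _ _⟩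
  refine ⟨?_, ?_⟩
  · exact Module.Flat.of_linearEquiv
      ((Submodule.quotEquivOfEq _ _ hrange).trans
        (Submodule.Quotient.restrictScalarsEquiv R (Ideal.span {f}))).symm
  · rw [mem_nonZeroDivisors_iff]
    refine ⟨fun x hx => ?_, fun x hx => ?_⟩
    · apply hinj; rw [hu, hu, hx, mul_zero]
    · apply hinj; rw [hu, hu, mul_comm, hx, mul_zero]

end Groth.Agent.S0395
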