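-- Statement S0396.
import Groth.Statements.S0396
import Groth.Agent.Lib.Helper1.LocFlat

set_option autoImplicit false
universe u
open FlatMor

namespace Groth.Agent.S0396

open TensorProduct in
/-- For a map of Noetherian rings R → S, an ideal I of R and a finite S-module M such that M/IⁿM is flat
over R/Iⁿ for every n ≥ 1, the localization of M at any prime of S containing IS is flat over R. -/
theorem result {R S M : Type u} [CommRing R] [CommRing S] [IsNoetherianRing R] [IsNoetherianRing S] [Algebra R S]
    [AddCommGroup M] [Module R M] [Module S M] [IsScalarTower R S M] [Module.Finite S M] (I : Ideal R)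
    (h : ∀ n : ℕ, 0 < n → Module.Flat (R ⧸ I ^ n) ((R ⧸ I ^ n) ⊗[R] M))
    (q : Ideal S) [q.IsPrime] (hq : I.map (algebraMap R S) ≤ q) :
    Module.Flat R (LocalizedModule q.primeCompl M) := by
  have hI : I.map (algebraMap R (Localization.AtPrime q)) ≤ Ideal.jacobson ⊥ := by
    rw [IsLocalRing.jacobson_eq_maximalIdeal ⊥ bot_ne_top,
      IsScalarTower.algebraMap_eq R S (Localization.AtPrime q), ← Ideal.map_map]
    refine (Ideal.map_mono hq).trans ?_
    rw [Localization.AtPrime.map_eq_maximalIdeal]
  apply Groth.Agent.Lib.Helper8.flat_of_forall_flat_quotient_pow I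
    (LocalizedModule q.primeCompl M)
  · intro n hn
    haveI := h n hn
    exact Groth.Agent.Lib.Helper1.LocFlat.flat_baseChange_localizedModule (R ⧸ I ^ n)
      Ideal.Quotient.mk_surjective q.primeCompl
  · intro 𝔞
    exact Groth.Agent.Lib.Helper1.LocFlat.iInf_pow_smul_tensor_eq_bot
      (B := Localization.AtPrime q) I hI (LocalizedModule q.primeCompl M) 𝔞

end Groth.Agent.S0396
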