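-- Statement S0397.
import Groth.Statements.S0397
import Groth.Agent.Lib.Helper8.FreeIdeal

set_option autoImplicit false
universe u
open FlatMor

namespace Groth.Agent.S0397

/-- Over a local ring whose maximal ideal is nilpotent, every flat module (not necessarily finitely
generated) is free. -/
theorem result {R M : Type u} [CommRing R] [IsLocalRing R] (hR : IsNilpotent (IsLocalRing.maximalIdeal R))
    [AddCommGroup M] [Module R M] [Module.Flat R M] : Module.Free R M := by
  letI : Field (R ⧸ IsLocalRing.maximalIdeal R) := Ideal.Quotient.field _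
  have hfree : Module.Free (R ⧸ IsLocalRing.maximalIdeal R)
      (TensorProduct R (R ⧸ IsLocalRing.maximalIdeal R) M) := Module.Free.of_divisionRing _ _
  obtain ⟨R₀, hR₀⟩ := Groth.Agent.Lib.Helper8.exists_ideal_flat_free.{u, u} M
    (IsLocalRing.maximalIdeal R) hR hfree
  obtain ⟨h1, h2⟩ := hR₀ R
  haveI : Module.Flat R (TensorProduct R R M) :=
    Module.Flat.of_linearEquiv (TensorProduct.lid R M)
  haveI := h2 (h1 inferInstance)
  exact Module.Free.of_equiv (TensorProduct.lid R M)

end Groth.Agent.S0397
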