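-- Statement S0398.
import Groth.Statements.S0398
import Groth.Agent.Lib.Helper8.FreeIdeal

set_option autoImplicit false
universe u
open FlatMor

namespace Groth.Agent.S0398

open TensorProduct in
/-- the local case -/
theorem flat_of_flat_baseChange_local {A T N : Type u} [CommRing A] [IsLocalRing A]
    [IsArtinianRing A] [CommRing T] [Algebra A T] (hinj : Function.Injective (algebraMap A T))
    [AddCommGroup N] [Module A N] [Module.Flat T (T ⊗[A] N)] : Module.Flat A N := by
  have hnil : IsNilpotent (IsLocalRing.maximalIdeal A) := by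
    rw [← IsLocalRing.jacobson_eq_maximalIdeal ⊥ bot_ne_top]
    exact IsArtinianRing.isNilpotent_jacobson_bot
  letI : Field (A ⧸ IsLocalRing.maximalIdeal A) := Ideal.Quotient.field _
  have hfree : Module.Free (A ⧸ IsLocalRing.maximalIdeal A)
      (TensorProduct A (A ⧸ IsLocalRing.maximalIdeal A) N) := Module.Free.of_divisionRing _ _
  obtain ⟨R₀, hR₀⟩ := Groth.Agent.Lib.Helper8.exists_ideal_flat_free.{u, u} N
    (IsLocalRing.maximalIdeal A) hnil hfree
  have h1 : R₀.map (algebraMap A T) = ⊥ := (hR₀ T).1 inferInstance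
  have h2 : R₀ = ⊥ := by
    rw [eq_bot_iff]
    intro a ha
    have h3 : algebraMap A T a ∈ R₀.map (algebraMap A T) := Ideal.mem_map_of_mem _ ha
    rw [h1, Ideal.mem_bot] at h3
    rw [Ideal.mem_bot]
    exact hinj (by rw [h3, map_zero])
  haveI h3 : Module.Free A (A ⊗[A] N) := (hR₀ A).2 (by rw [h2, Ideal.map_bot])
  haveI : Module.Free A N := Module.Free.of_equiv (TensorProduct.lid A N)
  infer_instance

open TensorProduct in
/-- For an injective ring map R → S with R Artinian and an R-module M, if S ⊗ M is flat over S then M is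
flat over R. -/
theorem result {R S M : Type u} [CommRing R] [CommRing S] [IsArtinianRing R] [Algebra R S] (hinj : Function.Injective (algebraMap R S))
    [AddCommGroup M] [Module R M] [Module.Flat S (S ⊗[R] M)] : Module.Flat R M := by
  apply Module.flat_of_localized_maximal
  intro P hP
  let A := Localization.AtPrime P
  let T := Localization (Algebra.algebraMapSubmonoid S P.primeCompl)
  let N := LocalizedModule P.primeCompl M
  have hinjAT : Function.Injective (algebraMap A T) :=
    localizationAlgebra_injective A T hinj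
  haveI h0 : Module.Flat T (T ⊗[S] (S ⊗[R] M)) := inferInstance
  let e1 : T ⊗[S] (S ⊗[R] M) ≃ₗ[T] T ⊗[R] M :=
    TensorProduct.AlgebraTensorModule.cancelBaseChange R S T T M
  let e2 : T ⊗[A] (A ⊗[R] M) ≃ₗ[T] T ⊗[R] M :=
    TensorProduct.AlgebraTensorModule.cancelBaseChange R A T T M
  let e3 : A ⊗[R] M ≃ₗ[A] N :=
    (IsLocalizedModule.isBaseChange P.primeCompl A
      (LocalizedModule.mkLinearMap P.primeCompl M)).equiv
  let e4 : T ⊗[A] (A ⊗[R] M) ≃ₗ[T] T ⊗[A] N :=
    TensorProduct.AlgebraTensorModule.congr (LinearEquiv.refl T T) e3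
  haveI : Module.Flat T (T ⊗[A] N) := Module.Flat.of_linearEquiv (e4.symm ≪≫ₗ e2 ≪≫ₗ e1.symm)
  haveI : Module.Flat A N := flat_of_flat_baseChange_local (T := T) hinjAT
  exact Module.Flat.trans R A N

end Groth.Agent.S0398
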