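-- Statement S0399.
import Groth.Statements.S0399
import Groth.Agent.Lib.Helper8.LocalCriterion

set_option autoImplicit false
universe u
open FlatMor

namespace Groth.Agent.S0399

open TensorProduct in
/-- For a ring A, a module M and an element f that is a nonzerodivisor on A and on M, if M_f is flat
over A_f and M/fM is flat over A/fA then M is flat over A (the source's companion statement for
faithful flatness is not stated). -/
theorem result {A M : Type u} [CommRing A] [AddCommGroup M] [Module A M] (f : A) (hA : f ∈ nonZeroDivisors A) (hM : IsSMulRegular M f)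
    [Module.Flat (Localization.Away f) (LocalizedModule (Submonoid.powers f) M)]
    [Module.Flat (A ⧸ Ideal.span {f}) ((A ⧸ Ideal.span {f}) ⊗[A] M)] : Module.Flat A M := by
  classical
  set I : Ideal A := Ideal.span {f} with hI
  have H1 : Module.Flat (A ⧸ I) ((A ⧸ I) ⊗[A] M) := inferInstance
  -- `Tor₁(A/f, M) = 0`
  have H2 : Function.Injective (I.subtype.rTensor M) := by
    rw [injective_iff_map_eq_zero]
    have hrep : ∀ t : I ⊗[A] M,
        ∃ m : M, (⟨f, Ideal.mem_span_singleton_self f⟩ : I) ⊗ₜ[A] m = t := by
      intro t
      induction t using TensorProduct.induction_on with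
      | zero => exact ⟨0, by simp⟩
      | tmul i m =>
        obtain ⟨i, hi⟩ := i
        obtain ⟨a, rfl⟩ := Ideal.mem_span_singleton'.mp hi
        refine ⟨a • m, ?_⟩
        rw [← TensorProduct.smul_tmul]
        rfl
      | add t t' ht ht' =>
        obtain ⟨m, rfl⟩ := ht
        obtain ⟨m', rfl⟩ := ht'
        exact ⟨m + m', by rw [TensorProduct.tmul_add]⟩
    intro t ht
    obtain ⟨m, rfl⟩ := hrep t
    rw [LinearMap.rTensor_tmul] at ht
    have h1 := congrArg (TensorProduct.lid A M) ht
    simp only [Submodule.subtype_apply, TensorProduct.lid_tmul, map_zero] at h1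
    have h2 : m = 0 := hM (by simpa using h1)
    rw [h2, TensorProduct.tmul_zero]
  -- free presentation of `M`
  have hπ : Function.Surjective (Finsupp.linearCombination A (id : M → M)) :=
    Finsupp.linearCombination_surjective _ Function.surjective_id
  have hex : Function.Exact (LinearMap.ker (Finsupp.linearCombination A (id : M → M))).subtype
      (Finsupp.linearCombination A (id : M → M)) := LinearMap.exact_subtype_ker_map _
  have hι : Function.Injective
      (LinearMap.ker (Finsupp.linearCombination A (id : M → M))).subtype :=
    Submodule.subtype_injective _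
  have H0 := Groth.Agent.Lib.Helper8.lTensor_quotient_injective (M := M)
    (K := LinearMap.ker (Finsupp.linearCombination A (id : M → M))) (F := M →₀ A) I
    (LinearMap.ker (Finsupp.linearCombination A (id : M → M))).subtype
    (Finsupp.linearCombination A (id : M → M)) hι hex hπ H2
  -- multiplication by `f` is injective on `M ⊗ J`
  have hmul : ∀ (J : Ideal A) (x : M ⊗[A] J), f • x = 0 → x = 0 := by
    intro J
    let i : J →ₗ[A] J := LinearMap.lsmul A J f
    have hi : Function.Injective i := by
      rw [injective_iff_map_eq_zero]
      intro a ha
      have h1 : f * (a : A) = 0 := congrArg Subtype.val ha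
      exact Subtype.ext ((mul_left_mem_nonZeroDivisors_eq_zero_iff hA).mp h1)
    have hIP : I • (⊤ : Submodule A J) ≤ LinearMap.range i := by
      rw [Submodule.smul_le]
      intro a ha p _
      obtain ⟨c, rfl⟩ := Ideal.mem_span_singleton'.mp ha
      refine ⟨c • p, ?_⟩
      simp only [i, LinearMap.lsmul_apply]
      rw [smul_smul, mul_comm]
    have h3 : Function.Injective (i.rTensor M) :=
      Groth.Agent.Lib.Helper8.rTensor_injective_of_smul_le_range (M := M)
        (K := LinearMap.ker (Finsupp.linearCombination A (id : M → M))) (F := M →₀ A) I
        (LinearMap.ker (Finsupp.linearCombination A (id : M → M))).subtype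
        (Finsupp.linearCombination A (id : M → M)) hex hπ H1 H0 i hi hIP
    have h4 : Function.Injective (i.lTensor M) :=
      (LinearMap.lTensor_inj_iff_rTensor_inj _ _).mpr h3
    have h5 : ∀ x : M ⊗[A] J, i.lTensor M x = f • x := by
      intro x
      induction x using TensorProduct.induction_on with
      | zero => simp
      | tmul m j => simp [i, TensorProduct.tmul_smul]
      | add x y hx hy => rw [map_add, hx, hy, smul_add]
    intro x hx
    apply h4
    rw [h5, hx, map_zero]
  -- conclusion
  rw [Module.Flat.iff_lTensor_injective']
  intro J
  rw [injective_iff_map_eq_zero]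
  intro x hx
  haveI : Module.Flat A (Localization.Away f) := IsLocalization.flat _ (Submonoid.powers f)
  haveI : Module.Flat A (LocalizedModule (Submonoid.powers f) M) :=
    Module.Flat.trans A (Localization.Away f) _
  let g := LocalizedModule.mkLinearMap (Submonoid.powers f) M
  let GJ := TensorProduct.AlgebraTensorModule.rTensor A J g
  have hGJ : GJ x = 0 := by
    have hinj : Function.Injective
        (J.subtype.lTensor (LocalizedModule (Submonoid.powers f) M)) :=
      Module.Flat.iff_lTensor_injective'.mp inferInstance J
    apply hinj
    rw [map_zero]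
    have hc : (J.subtype.lTensor (LocalizedModule (Submonoid.powers f) M)) ∘ₗ (g.rTensor J) =
        (g.rTensor A) ∘ₗ (J.subtype.lTensor M) := by
      rw [LinearMap.lTensor_comp_rTensor, LinearMap.rTensor_comp_lTensor]
    have h := congrArg (fun φ => φ x) hc
    simp only [LinearMap.comp_apply] at h
    change (J.subtype.lTensor _) ((g.rTensor J) x) = 0
    rw [h, hx, map_zero]
  obtain ⟨⟨s, n, rfl⟩, hs⟩ := (IsLocalizedModule.eq_zero_iff (Submonoid.powers f) GJ).mp hGJ
  have hs' : f ^ n • x = 0 := hs
  clear hs
  induction n with
  | zero => simpa using hs'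
  | succ n ih =>
    apply ih
    apply hmul J
    rw [smul_smul, ← pow_succ']
    exact hs'

end Groth.Agent.S0399
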