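-- Statement S0400.
import Groth.Statements.S0400
import Groth.Agent.Lib.Helper8.LocalCriterion

set_option autoImplicit false
universe u
open FlatMor

namespace Groth.Agent.S0400

open TensorProduct in
/-- Fibrewise criterion of flatness, nilpotent form: let R → S be a ring map, I a nilpotent ideal of R,
and M an S-module that is flat over R and such that M/IM is flat over S/IS. Then M is flat over S.
The published statement also determines the primes of S at which S is flat over R; that part is not
stated here. -/
theorem result {R S M : Type u} [CommRing R] [CommRing S] [Algebra R S] (I : Ideal R) (hI : IsNilpotent I)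
    [AddCommGroup M] [Module S M] [Module R M] [IsScalarTower R S M] [Module.Flat R M]
    (h : Module.Flat (S ⧸ I.map (algebraMap R S)) ((S ⧸ I.map (algebraMap R S)) ⊗[S] M)) : Module.Flat S M := by
  classical
  set I' : Ideal S := I.map (algebraMap R S) with hI'
  have hnil : IsNilpotent I' := by
    obtain ⟨n, hn⟩ := hI
    refine ⟨n, ?_⟩
    rw [hI', ← Ideal.map_pow, hn, Ideal.zero_eq_bot, Ideal.map_bot]
    rfl
  refine Groth.Agent.Lib.Helper8.flat_of_isNilpotent I' hnil h ?_
  -- the additive map `I ⊗[R] M → I' ⊗[S] M`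
  let f0 : I →+ M →+ (I' ⊗[S] M) :=
    { toFun := fun i =>
        { toFun := fun m => (⟨algebraMap R S i, Ideal.mem_map_of_mem _ i.2⟩ : I') ⊗ₜ[S] m
          map_zero' := TensorProduct.tmul_zero _ _
          map_add' := fun m m' => TensorProduct.tmul_add _ _ _ }
      map_zero' := by
        ext m
        change (⟨algebraMap R S ((0 : I) : R), _⟩ : I') ⊗ₜ[S] m = 0
        have : (⟨algebraMap R S ((0 : I) : R), Ideal.mem_map_of_mem _ (0 : I).2⟩ : I') = 0 := by
          apply Subtype.ext
          simp
        rw [this, TensorProduct.zero_tmul]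
      map_add' := fun i i' => by
        ext m
        change (⟨algebraMap R S ((i + i' : I) : R), _⟩ : I') ⊗ₜ[S] m = _ ⊗ₜ[S] m + _ ⊗ₜ[S] m
        rw [← TensorProduct.add_tmul]
        congr 1
        apply Subtype.ext
        simp }
  let f : (I ⊗[R] M) →+ (I' ⊗[S] M) := TensorProduct.liftAddHom f0 (by
    intro r i m
    change (⟨algebraMap R S ((r • i : I) : R), _⟩ : I') ⊗ₜ[S] m =
      (⟨algebraMap R S (i : R), _⟩ : I') ⊗ₜ[S] (r • m)
    rw [← algebraMap_smul S r m, ← TensorProduct.smul_tmul]
    congr 1
    apply Subtype.ext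
    simp [Algebra.smul_def])
  have hf_tmul : ∀ (i : I) (m : M), f (i ⊗ₜ[R] m) =
      (⟨algebraMap R S i, Ideal.mem_map_of_mem _ i.2⟩ : I') ⊗ₜ[S] m := fun i m => rfl
  -- surjectivity of `f`
  have hsurj : ∀ z : I' ⊗[S] M, ∃ w, f w = z := by
    have key : ∀ (s : S) (hs : s ∈ I') (m : M), ∃ w, f w = (⟨s, hs⟩ : I') ⊗ₜ[S] m := by
      intro s hs
      rw [hI', Ideal.map] at hs
      refine Submodule.span_induction (p := fun s hs => ∀ m : M, ∃ w, f w = (⟨s, hs⟩ : I') ⊗ₜ[S] m)
        ?_ ?_ ?_ ?_ hs
      · rintro _ ⟨i, hi, rfl⟩ m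
        exact ⟨(⟨i, hi⟩ : I) ⊗ₜ[R] m, rfl⟩
      · intro m
        refine ⟨0, ?_⟩
        rw [map_zero]
        have : (⟨0, Submodule.zero_mem _⟩ : I') = 0 := rfl
        rw [this, TensorProduct.zero_tmul]
      · intro x y hx hy ihx ihy m
        obtain ⟨w1, hw1⟩ := ihx m
        obtain ⟨w2, hw2⟩ := ihy m
        refine ⟨w1 + w2, ?_⟩
        rw [map_add, hw1, hw2, ← TensorProduct.add_tmul]
        rfl
      · intro t x hx ihx m
        obtain ⟨w, hw⟩ := ihx (t • m)
        refine ⟨w, ?_⟩
        rw [hw, ← TensorProduct.smul_tmul]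
        rfl
    intro z
    induction z using TensorProduct.induction_on with
    | zero => exact ⟨0, map_zero _⟩
    | tmul s m => exact key s.1 s.2 m
    | add x y hx hy =>
      obtain ⟨w1, hw1⟩ := hx
      obtain ⟨w2, hw2⟩ := hy
      exact ⟨w1 + w2, by rw [map_add, hw1, hw2]⟩
  -- compatibility with the maps to `M`
  have hcomp : ∀ w : I ⊗[R] M, TensorProduct.lid S M ((I'.subtype.rTensor M) (f w)) =
      TensorProduct.lid R M ((I.subtype.rTensor M) w) := by
    intro w
    induction w using TensorProduct.induction_on with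
    | zero => simp
    | tmul i m =>
      rw [hf_tmul, LinearMap.rTensor_tmul, LinearMap.rTensor_tmul, TensorProduct.lid_tmul,
        TensorProduct.lid_tmul]
      change (algebraMap R S i) • m = (i : R) • m
      rw [algebraMap_smul]
    | add x y hx hy => simp only [map_add, hx, hy]
  have hflat : Function.Injective (I.subtype.rTensor M) :=
    Module.Flat.rTensor_preserves_injective_linearMap _ (Submodule.injective_subtype I)
  rw [injective_iff_map_eq_zero]
  intro z hz
  obtain ⟨w, rfl⟩ := hsurj z
  have h1 := hcomp w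
  rw [hz, map_zero] at h1
  have h2 : (I.subtype.rTensor M) w = 0 := (TensorProduct.lid R M).injective (by rw [← h1, map_zero])
  have h3 : w = 0 := hflat (by rw [h2, map_zero])
  rw [h3, map_zero]

end Groth.Agent.S0400
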