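-- Statement S0401.
import Groth.Statements.S0401
import Mathlib

set_option autoImplicit false
universe u
open FlatMor

namespace Groth.Agent.S0401

theorem height_le_height_under_of_isIntegral {R S : Type*} [CommRing R] [CommRing S] [Algebra R S]
    [Algebra.IsIntegral R S] (Q : Ideal S) [hQ : Q.IsPrime] : Q.height ≤ (Q.under R).height := by
  have h1 := PrimeSpectrum.height_eq_orderHeight (⟨Q, hQ⟩ : PrimeSpectrum S)
  have h2 := PrimeSpectrum.height_eq_orderHeight (PrimeSpectrum.comap (algebraMap R S) ⟨Q, hQ⟩)
  change Q.height = _ at h1
  change (Q.under R).height = _ at h2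
  rw [h1, h2]
  refine Order.height_le_height_apply_of_strictMono _ ?_ _
  intro P P' hPP'
  have h3 : P.asIdeal < P'.asIdeal := hPP'
  exact Ideal.IsIntegral.comap_lt_comap (R := R) h3

/-- For a finite type ring map R → S quasi-finite at a prime q lying over p, the dimension of S_q is at
most the dimension of R_p. -/
theorem result {R S : Type u} [CommRing R] [CommRing S] [Algebra R S] [Algebra.FiniteType R S] (q : Ideal S) [q.IsPrime] [Algebra.QuasiFiniteAt R q] :
    ringKrullDim (Localization.AtPrime q) ≤ ringKrullDim (Localization.AtPrime (q.under R)) := by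
  obtain ⟨S', hS', r, hrq, Hbij⟩ :=
    Algebra.QuasiFiniteAt.exists_fg_and_exists_notMem_and_awayMap_bijective (R := R) q
  haveI : Module.Finite R S' := ⟨(Submodule.fg_top _).mpr hS'⟩
  haveI : Algebra.IsIntegral R S' := Algebra.IsIntegral.of_finite R S'
  rw [IsLocalization.AtPrime.ringKrullDim_eq_height q,
    IsLocalization.AtPrime.ringKrullDim_eq_height (q.under R)]
  norm_cast
  let f : S' →+* S := S'.val.toRingHom
  have hfr : f r ∉ q := hrq
  let e : Localization.Away r ≃+* Localization.Away (f r) := RingEquiv.ofBijective _ Hbij
  have he : ∀ x : S', e (algebraMap S' (Localization.Away r) x) =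
      algebraMap S (Localization.Away (f r)) (f x) := by
    intro x
    change (Localization.awayMap f r) (algebraMap S' (Localization.Away r) x) = _
    simp only [Localization.awayMap, IsLocalization.Away.map, IsLocalization.map_eq]
  have hdisj : Disjoint ((Submonoid.powers (f r) : Submonoid S) : Set S) (q : Set S) := by
    rw [Set.disjoint_left]
    rintro _ ⟨n, rfl⟩ hmem
    exact hfr (Ideal.IsPrime.mem_of_pow_mem inferInstance n hmem)
  set Q : Ideal (Localization.Away (f r)) := q.map (algebraMap S _) with hQ
  haveI : Q.IsPrime :=
    IsLocalization.isPrime_of_isPrime_disjoint (Submonoid.powers (f r)) _ q inferInstance hdisj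
  have h1 : Q.height = q.height :=
    IsLocalization.height_map_of_disjoint (Submonoid.powers (f r)) q hdisj
  have h2 : (Q.comap (e : Localization.Away r →+* Localization.Away (f r))).height = Q.height :=
    RingEquiv.height_comap e Q
  have h3 : ((Q.comap (e : Localization.Away r →+* Localization.Away (f r))).under S').height =
      (Q.comap (e : Localization.Away r →+* Localization.Away (f r))).height :=
    IsLocalization.height_under (Submonoid.powers r) _
  have h4 : (Q.comap (e : Localization.Away r →+* Localization.Away (f r))).under S' =
      q.under S' := by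
    have h5 : Q.under S = q :=
      IsLocalization.under_map_of_isPrime_disjoint (Submonoid.powers (f r)) _ inferInstance hdisj
    ext x
    simp only [Ideal.under, Ideal.mem_comap, RingEquiv.coe_toRingHom]
    rw [he]
    rw [← h5]
    rfl
  have h5 : (q.under S').height ≤ ((q.under S').under R).height :=
    height_le_height_under_of_isIntegral _
  have h6 : (q.under S').under R = q.under R := Ideal.under_under _
  rw [← h1, ← h2, ← h3, h4, ← h6]
  exact h5

end Groth.Agent.S0401
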