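-- Statement S0416.
import Groth.Statements.S0416
import Groth.Agent.Lib.Helper26.UnivHomeo

set_option autoImplicit false
universe u
open FlatMor

namespace Groth.Agent.S0416

open AlgebraicGeometry CategoryTheory Limits in
theorem isSeparated_of_universallyInjective {X Y : Scheme.{u}} (f : X ⟶ Y)
    [UniversallyInjective f] : IsSeparated f := by
  have hs : Surjective (pullback.diagonal f) :=
    (UniversallyInjective.iff_diagonal f).mp inferInstance
  constructor
  apply IsClosedImmersion.of_isPreimmersion
  rw [Set.range_eq_univ.mpr hs.surj]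
  exact isClosed_univ

open AlgebraicGeometry CategoryTheory Limits in
/-- When a composite of two morphisms is a universal homeomorphism and so is either factor, the
remaining factor is a universal homeomorphism as well. -/
theorem result {X Y Z : Scheme.{u}} (g : X ⟶ Y) (h : Y ⟶ Z) :
    (FlatMor.IsUnivHomeo (g ≫ h) → FlatMor.IsUnivHomeo g → FlatMor.IsUnivHomeo h) ∧
    (FlatMor.IsUnivHomeo (g ≫ h) → FlatMor.IsUnivHomeo h → FlatMor.IsUnivHomeo g) := by
  constructor
  · intro hgh hg
    rw [Groth.Agent.Lib.Helper26.UnivHomeo.isUnivHomeo_iff] at hgh hg ⊢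
    obtain ⟨c1, i1, s1⟩ := hgh
    obtain ⟨c2, i2, s2⟩ := hg
    refine ⟨UniversallyClosed.of_comp_surjective g h, ?_, ?_⟩
    · rw [universallyInjective_eq]
      intro Y' Z' i₁ i₂ h' hpb
      have hpb2 : IsPullback (pullback.snd g i₁) (pullback.fst g i₁) i₁ g :=
        (IsPullback.of_hasPullback g i₁).flip
      have hpaste : IsPullback (pullback.snd g i₁ ≫ h') (pullback.fst g i₁) i₂ (g ≫ h) :=
        hpb2.paste_horiz hpb
      have hinj : Function.Injective (pullback.snd g i₁ ≫ h') :=
        i1.universally_injective _ _ _ hpaste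
      have hsurj : Function.Surjective (pullback.snd g i₁) :=
        (inferInstance : Surjective (pullback.snd g i₁)).surj
      intro y1 y2 hy
      obtain ⟨x1, rfl⟩ := hsurj y1
      obtain ⟨x2, rfl⟩ := hsurj y2
      congr 1
      apply hinj
      simpa using hy
    · constructor
      intro z
      obtain ⟨x, rfl⟩ := s1.surj z
      exact ⟨g x, by simp⟩
  · intro hgh hh
    rw [Groth.Agent.Lib.Helper26.UnivHomeo.isUnivHomeo_iff] at hgh hh ⊢
    obtain ⟨c1, i1, s1⟩ := hgh
    obtain ⟨c2, i2, s2⟩ := hh
    haveI : IsSeparated h := isSeparated_of_universallyInjective h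
    refine ⟨UniversallyClosed.of_comp_of_isSeparated g h, ?_, ?_⟩
    · have h1 := (tfae_universallyInjective (g ≫ h)).out 0 1
      have h2 := (tfae_universallyInjective g).out 0 1
      apply h2.mpr
      intro K _ φ1 φ2 hφ
      have hφ' : φ1 ≫ g = φ2 ≫ g := hφ
      apply (h1.mp i1) K
      show φ1 ≫ g ≫ h = φ2 ≫ g ≫ h
      rw [← Category.assoc, hφ', Category.assoc]
    · constructor
      intro y
      obtain ⟨x, hx⟩ := s1.surj (h y)
      exact ⟨x, h.injective (by simpa using hx)⟩

end Groth.Agent.S0416
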