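import Groth.Statements.S0418
import Groth.Agent.Lib.Helper11.UHPow

set_option autoImplicit false
universe u
open FlatMor

namespace Groth.Agent.S0418

open Groth.Agent.Lib.Helper11.UHRing

theorem exists_mul_mem_of_away {A B : Type u} [CommRing A] [CommRing B] (φ : A →+* B) (p : ℕ)
    (h : Function.Surjective (Localization.awayMap φ (p : A))) (b : B) :
    ∃ n : ℕ, (p ^ n : B) * b ∈ φ.range := by
  obtain ⟨x, hx⟩ := h (algebraMap B (Localization.Away (φ (p : A))) b)
  obtain ⟨k, a, hka⟩ := IsLocalization.Away.surj (p : A) x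
  have h1 := congrArg (Localization.awayMap φ (p : A)) hka
  rw [map_mul, map_pow, hx] at h1
  have e1 : ∀ a' : A, Localization.awayMap φ (p : A) (algebraMap A _ a') =
      algebraMap B (Localization.Away (φ (p : A))) (φ a') := fun a' => by
    simp [Localization.awayMap, IsLocalization.Away.map]
  rw [e1, e1, ← map_pow, ← map_mul] at h1
  obtain ⟨⟨c, m, rfl⟩, hc⟩ := (IsLocalization.eq_iff_exists (Submonoid.powers (φ (p : A))) _).mp h1
  refine ⟨m + k, (p : A) ^ m * a, ?_⟩
  simp only at hc
  rw [map_mul, map_pow, ← hc, map_natCast, pow_add]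
  ring

open AlgebraicGeometry in
/-- For a prime number p and a ring map A → B that becomes an isomorphism after inverting p, Spec B →
Spec A is a universal homeomorphism if and only if the kernel consists of nilpotents and every
element of B has some p-power multiple and p-power power in the image. -/
theorem result {A B : Type u} [CommRing A] [CommRing B] (φ : A →+* B) (p : ℕ) (hp : p.Prime)
    (h : Function.Bijective (Localization.awayMap φ (p : A))) :
    FlatMor.IsUnivHomeo (Spec.map (CommRingCat.ofHom φ)) ↔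
      (∀ a ∈ RingHom.ker φ, IsNilpotent a) ∧ ∀ b : B, ∃ n : ℕ, (p ^ n : B) * b ∈ φ.range ∧ b ^ (p ^ n) ∈ φ.range := by
  rw [isUnivHomeo_SpecMap_iff]
  constructor
  · intro hUH
    refine ⟨fun a ha => hUH.ker_le ha, ?_⟩
    have hmul := exists_mul_mem_of_away φ p h.2
    have hpow := exists_pow_mem_of_UH_mul φ p hp hUH hmul
    intro b
    obtain ⟨n₁, hn₁⟩ := hmul b
    obtain ⟨n₂, hn₂⟩ := hpow b
    refine ⟨max n₁ n₂, ?_, ?_⟩
    · obtain ⟨k, hk⟩ := Nat.exists_eq_add_of_le (le_max_left n₁ n₂)
      rw [hk, pow_add, mul_comm ((p : B) ^ n₁), mul_assoc]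
      exact mul_mem ⟨(p : A) ^ k, by simp⟩ hn₁
    · obtain ⟨k, hk⟩ := Nat.exists_eq_add_of_le (le_max_right n₁ n₂)
      rw [hk, pow_add, pow_mul]
      exact pow_mem hn₂ _
  · rintro ⟨hker, hpow⟩
    exact UH_of_pow_mem φ p hp (fun a ha => hker a ha) hpow

end Groth.Agent.S0418
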