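import Groth.Statements.S0419
-- import your own Groth.Agent.* helpers here
import Mathlib
import Groth.Agent.Lib.Helper12.GeomIrrFp

set_option autoImplicit false
universe u
open FlatMor

namespace Groth.Agent.S0419

open AlgebraicGeometry CategoryTheory Limits in
/-- For a morphism of finite type to an irreducible scheme whose generic fibre is geometrically
irreducible, all fibres over some nonempty open of the target are geometrically irreducible. -/
theorem result {X Y : Scheme.{u}} (f : X ⟶ Y) [IrreducibleSpace ↑Y] [LocallyOfFiniteType f] [QuasiCompact f]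
    (h : GeometricallyIrreducible (f.fiberToSpecResidueField (genericPoint ↑Y))) :
    ∃ V : Y.Opens, (V : Set ↑Y).Nonempty ∧ GeometricallyIrreducible (f ∣_ V) := by
  classical
  have hηGI : genericPoint Y ∈ Groth.Agent.Lib.Helper12.GeomIrrBasic.GI f := h
  obtain ⟨V, Y', g, X', r, hY', ⟨v₀, hv₀⟩, _, _, hg, _, _, _, _, _, _, _, hred⟩ :=
    Groth.Agent.Lib.Helper12.GenRedMain.main f
  have hghomeo : IsHomeomorph g := hg (𝟙 _) (𝟙 _) g IsPullback.of_id_snd
  have hGI : Groth.Agent.Lib.Helper12.GeomIrrBasic.GI (r ≫ pullback.snd f (g ≫ V.ι)) =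
      (g ≫ V.ι) ⁻¹' Groth.Agent.Lib.Helper12.GeomIrrBasic.GI f := by
    rw [Groth.Agent.Lib.Helper12.GeomIrrBasic.GI_comp_of_isUnivHomeo r
        (Groth.Agent.Lib.Helper12.GeomIrrBasic.isUnivHomeo_of_isClosedImmersion_of_surjective r),
      Groth.Agent.Lib.Helper12.GeomIrrBasic.GI_pullback (IsPullback.of_hasPullback f (g ≫ V.ι))]
  have hηV : genericPoint Y ∈ V := (genericPoint_specializes v₀).mem_open V.isOpen hv₀
  obtain ⟨y₀, hy₀⟩ := hghomeo.surjective ⟨genericPoint Y, hηV⟩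
  have hgen : (g ≫ V.ι) (genericPoint Y') = genericPoint Y := by
    have h1 : (g ≫ V.ι) (genericPoint Y') ⤳ (g ≫ V.ι) y₀ :=
      (genericPoint_specializes y₀).map (g ≫ V.ι).continuous
    have h2 : (g ≫ V.ι) y₀ = genericPoint Y := by
      rw [Scheme.Hom.comp_apply, hy₀]; rfl
    rw [h2] at h1
    exact (h1.antisymm (genericPoint_specializes _)).eq
  have hη' : genericPoint Y' ∈
      Groth.Agent.Lib.Helper12.GeomIrrBasic.GI (r ≫ pullback.snd f (g ≫ V.ι)) := by
    rw [hGI]
    show (g ≫ V.ι) (genericPoint Y') ∈ Groth.Agent.Lib.Helper12.GeomIrrBasic.GI f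
    rw [hgen]
    exact hηGI
  obtain ⟨U, hU, hηU, hUsub⟩ :=
    Groth.Agent.Lib.Helper12.GeomIrrFp.exists_open_inter_closure_subset_GI
      (r ≫ pullback.snd f (g ≫ V.ι)) (genericPoint Y') hη'
  have hUsub' : U ⊆ Groth.Agent.Lib.Helper12.GeomIrrBasic.GI (r ≫ pullback.snd f (g ≫ V.ι)) := by
    intro z hz
    refine hUsub ⟨hz, ?_⟩
    rw [(genericPoint_spec Y').def]
    trivial
  have hopen : IsOpen ((g ≫ V.ι) '' U) := by
    have h1 : IsOpenMap (g ≫ V.ι) := by
      rw [Scheme.Hom.comp_base, TopCat.coe_comp]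
      exact V.ι.isOpenEmbedding.isOpenMap.comp hghomeo.isOpenMap
    exact h1 _ hU
  refine ⟨⟨(g ≫ V.ι) '' U, hopen⟩, ⟨_, genericPoint Y', hηU, rfl⟩, ?_⟩
  rw [← Groth.Agent.Lib.Helper12.GeomIrrBasic.GI_eq_univ_iff,
    Groth.Agent.Lib.Helper12.GeomIrrBasic.GI_pullback (isPullback_morphismRestrict f _).flip,
    Set.eq_univ_iff_forall]
  rintro ⟨_, ⟨z, hz, rfl⟩⟩
  have := hUsub' hz
  rw [hGI] at this
  exact this

end Groth.Agent.S0419
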