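import Groth.Statements.S0420
-- import your own Groth.Agent.* helpers here
import Mathlib
import Groth.Agent.Lib.Helper12.GeomConnLocus

set_option autoImplicit false
universe u
open FlatMor

namespace Groth.Agent.S0420

open AlgebraicGeometry CategoryTheory Limits in
/-- For a morphism of finite type to an irreducible scheme whose generic fibre is geometrically
connected, all fibres over some nonempty open of the target are geometrically connected. -/
theorem result {X Y : Scheme.{u}} (f : X ⟶ Y) [IrreducibleSpace ↑Y] [LocallyOfFiniteType f] [QuasiCompact f]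
    (h : GeometricallyConnected (f.fiberToSpecResidueField (genericPoint ↑Y))) :
    ∃ V : Y.Opens, (V : Set ↑Y).Nonempty ∧ GeometricallyConnected (f ∣_ V) := by
  obtain ⟨V, hV, hVE⟩ := Groth.Agent.Lib.Helper12.GeomConnLocus.geomConn_near_generic f h
  refine ⟨V, hV, ?_⟩
  rw [← Groth.Agent.Lib.Helper12.GeomConnLocus.GC_eq_univ_iff,
    Groth.Agent.Lib.Helper12.GeomConnLocus.GC_pullback (isPullback_morphismRestrict f V).flip,
    Set.eq_univ_iff_forall]
  intro y
  exact hVE _ y.2

end Groth.Agent.S0420
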