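import Groth.Statements.S0422
import Groth.Agent.Lib.Helper14.FlatOpen.NilStage
import Groth.Agent.S0400

set_option autoImplicit false
universe u
open FlatMor

namespace Groth.Agent.S0422

open TensorProduct in
/-- Fibrewise criterion of flatness modulo a locally nilpotent ideal: let R → S be of finite type, S' an
S-algebra which is of finite presentation over R, I an ideal of R all of whose elements are
nilpotent, and M a finitely presented S'-module which is flat over R and such that M/IM is flat over
S/IS. Then M is flat over S. (The published statement also asserts flatness over R of suitable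
localizations of S; that part is not stated here.) -/
theorem result {R S S' M : Type u} [CommRing R] [CommRing S] [CommRing S'] [Algebra R S] [Algebra S S'] [Algebra R S'] [IsScalarTower R S S']
    [Algebra.FiniteType R S] [Algebra.FinitePresentation R S'] (I : Ideal R) (hI : ∀ a ∈ I, IsNilpotent a)
    [AddCommGroup M] [Module S' M] [Module S M] [Module R M] [IsScalarTower S S' M] [IsScalarTower R S M]
    [Module.FinitePresentation S' M] [Module.Flat R M]
    (h : Module.Flat (S ⧸ I.map (algebraMap R S)) ((S ⧸ I.map (algebraMap R S)) ⊗[S] M)) : Module.Flat S M := by
  haveI : Algebra.FinitePresentation S S' :=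
    Algebra.FinitePresentation.of_restrict_scalars_finitePresentation R S S'
  obtain ⟨I₀, hfg, hle, hfl⟩ :=
    Groth.Agent.Lib.Helper14.FlatOpen.exists_fg_le_flat_quot (R := R) (S := S) (S' := S') (M := M) I h
  have hnil : IsNilpotent I₀ := by
    rw [Ideal.FG.isNilpotent_iff_le_nilradical hfg]
    intro a ha
    exact mem_nilradical.2 (hI a (hle ha))
  exact Groth.Agent.S0400.result I₀ hnil hfl

end Groth.Agent.S0422
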