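import Groth.Statements.S0432
import Groth.Agent.Lib.Helper28.Pinch.Props2
import Groth.Agent.Lib.Helper28.Adapted

set_option autoImplicit false
universe u
open FlatMor

namespace Groth.Agent.S0432

open AlgebraicGeometry CategoryTheory Limits in
/-- The pushout of two closed immersions Z → X and Z → Y exists in schemes, both maps into it are closed
immersions and the square is cartesian. -/
theorem result {X Y Z : Scheme.{u}} (i : Z ⟶ X) (j : Z ⟶ Y) [IsClosedImmersion i] [IsClosedImmersion j] :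
    ∃ (P : Scheme.{u}) (a : X ⟶ P) (b : Y ⟶ P), IsPushout i j a b ∧ IsPullback i j a b ∧ IsClosedImmersion a ∧ IsClosedImmersion b := by
  have haff : ∀ y : Y, ∃ U : X.Opens, IsAffineOpen U ∧ j ⁻¹' {y} ⊆ (i ⁻¹ᵁ U : Set ↑Z) := by
    intro y
    by_cases hy : ∃ z : Z, j z = y
    · obtain ⟨z, hz⟩ := hy
      obtain ⟨U, hU, hzU⟩ : ∃ U : X.Opens, IsAffineOpen U ∧ i z ∈ U := by
        obtain ⟨_, ⟨U, hU, rfl⟩, hzU, -⟩ :=
          X.isBasis_affineOpens.exists_subset_of_mem_open (Set.mem_univ (i z)) isOpen_univ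
        exact ⟨U, hU, hzU⟩
      refine ⟨U, hU, ?_⟩
      intro z' hz'
      have h1 : j z' = j z := by rw [hz]; exact hz'
      have h2 : z' = z := j.isClosedEmbedding.injective h1
      rw [h2]
      exact hzU
    · refine ⟨⊥, isAffineOpen_bot X, ?_⟩
      intro z hz
      exact (hy ⟨z, hz⟩).elim
  have hY : ∀ y : Y, ∃ β : Groth.Agent.Lib.Helper28.Pinch.APair i j, y ∈ β.V := by
    intro y
    obtain ⟨U, V, hU, hV, hy, e⟩ :=
      Groth.Agent.Lib.Helper28.Adapted.adapted i j haff y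
    exact ⟨⟨U, V, hU, hV, e⟩, hy⟩
  exact ⟨_, _, _, Groth.Agent.Lib.Helper28.Pinch.Glue.isPushout hY,
    Groth.Agent.Lib.Helper28.Pinch.Glue.isPullback hY,
    Groth.Agent.Lib.Helper28.Pinch.Glue.isClosedImmersion_a hY,
    Groth.Agent.Lib.Helper28.Pinch.Glue.isClosedImmersion_b hY⟩

end Groth.Agent.S0432
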