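import Groth.Statements.S0433
import Mathlib
import Groth.Agent.Lib.Helper6.FibSquareSpec

set_option autoImplicit false
universe u
open FlatMor

namespace Groth.Agent.S0433

open AlgebraicGeometry CategoryTheory Limits in
/-- For a surjective ring map A' → A and any ring map B → A, the spectra of A, A', B and of the fibre
product ring B ×_A A' form a pushout square of schemes. -/
theorem result {A A' B : Type u} [CommRing A] [CommRing A'] [CommRing B] (p : A' →+* A) (hp : Function.Surjective p) (q : B →+* A) :
    IsPushout (Spec.map (CommRingCat.ofHom p)) (Spec.map (CommRingCat.ofHom q))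
      (Spec.map (pullback.snd (CommRingCat.ofHom q) (CommRingCat.ofHom p)))
      (Spec.map (pullback.fst (CommRingCat.ofHom q) (CommRingCat.ofHom p))) := by
  have h : Groth.Agent.Lib.Helper6.FibSquare.IsFibSq
      (pullback.fst (CommRingCat.ofHom q) (CommRingCat.ofHom p)).hom
      (pullback.snd (CommRingCat.ofHom q) (CommRingCat.ofHom p)).hom q p := by
    refine ⟨fun r => ?_, fun b a' hba => ?_, fun r r' h1 h2 => ?_, hp⟩
    · exact congrArg (fun ψ => ψ.hom r)
        (pullback.condition (f := CommRingCat.ofHom q) (g := CommRingCat.ofHom p))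
    · exact ⟨Limits.Concrete.pullbackMk (CommRingCat.ofHom q) (CommRingCat.ofHom p) b a' hba,
        Limits.Concrete.pullbackMk_fst (CommRingCat.ofHom q) (CommRingCat.ofHom p) b a' hba,
        Limits.Concrete.pullbackMk_snd (CommRingCat.ofHom q) (CommRingCat.ofHom p) b a' hba⟩
    · obtain ⟨x₁, x₂, hx, rfl⟩ :=
        Limits.Concrete.pullbackMk_surjective (CommRingCat.ofHom q) (CommRingCat.ofHom p) r
      obtain ⟨y₁, y₂, hy, rfl⟩ :=
        Limits.Concrete.pullbackMk_surjective (CommRingCat.ofHom q) (CommRingCat.ofHom p) r'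
      have e1 : x₁ = y₁ :=
        (Limits.Concrete.pullbackMk_fst (CommRingCat.ofHom q) (CommRingCat.ofHom p) x₁ x₂ hx).symm.trans
          (h1.trans
            (Limits.Concrete.pullbackMk_fst (CommRingCat.ofHom q) (CommRingCat.ofHom p) y₁ y₂ hy))
      have e2 : x₂ = y₂ :=
        (Limits.Concrete.pullbackMk_snd (CommRingCat.ofHom q) (CommRingCat.ofHom p) x₁ x₂ hx).symm.trans
          (h2.trans
            (Limits.Concrete.pullbackMk_snd (CommRingCat.ofHom q) (CommRingCat.ofHom p) y₁ y₂ hy))
      subst e1 e2
      rfl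
  exact h.isPushout

end Groth.Agent.S0433
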