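import Groth.Statements.S0434
-- import your own Groth.Agent.* helpers here
import Mathlib
import Groth.Agent.Lib.Helper12.GeomRedGen

set_option autoImplicit false
universe u
open FlatMor

namespace Groth.Agent.S0434

open AlgebraicGeometry CategoryTheory Limits in
/-- For a morphism of finite type to an irreducible scheme whose generic fibre is geometrically reduced,
all fibres over some nonempty open of the target are geometrically reduced. -/
theorem result {X Y : Scheme.{u}} (f : X ⟶ Y) [IrreducibleSpace ↑Y] [LocallyOfFiniteType f] [QuasiCompact f]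
    (h : GeometricallyReduced (f.fiberToSpecResidueField (genericPoint ↑Y))) :
    ∃ V : Y.Opens, (V : Set ↑Y).Nonempty ∧ GeometricallyReduced (f ∣_ V) := by
  obtain ⟨V, hV, hVE⟩ := Groth.Agent.Lib.Helper12.GeomRedGen.geomRed_near_generic f h
  refine ⟨V, hV, ?_⟩
  rw [geometricallyReduced_iff, geometrically_iff_forall_fiberToSpecResidueField]
  intro y
  have hc : IsPullback (f ⁻¹ᵁ V).ι (f ∣_ V) f V.ι := (isPullback_morphismRestrict f V).flip
  have h1 := (Groth.Agent.Lib.Helper12.GeomRedGen.mem_E_pullback hc y).2 (hVE _ y.2)
  rwa [Groth.Agent.Lib.Helper12.GeomRedGen.mem_E, geometricallyReduced_iff] at h1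

end Groth.Agent.S0434
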