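-- Statement S0443.
import Groth.Statements.S0443
import Mathlib

set_option autoImplicit false
universe u
open FlatMor

namespace Groth.Agent.S0443

theorem localRingHom_finite_of_unique {A B : Type u} [CommRing A] [CommRing B] (φ : A →+* B)
    (hφ : φ.Finite) (q : Ideal B) [q.IsPrime]
    (huniq : ∀ q' : Ideal B, q'.IsPrime → q'.comap φ = q.comap φ → q' = q) :
    (Localization.localRingHom (q.comap φ) q φ rfl).Finite := by
  algebraize [φ]
  haveI : q.LiesOver (q.comap φ) := ⟨rfl⟩
  have hq : (q.comap φ).primesOver B = {q} := by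
    ext q'
    constructor
    · rintro ⟨hq'prime, hq'over⟩
      exact huniq q' hq'prime hq'over.over.symm
    · rintro rfl
      exact ⟨inferInstance, inferInstance⟩
  letI := Localization.AtPrime.algebraOfLiesOver (q.comap φ) q
  have hfin := Localization.finite_of_primesOver_eq_singleton hq
  have h1 : algebraMap (Localization.AtPrime (q.comap φ)) (Localization.AtPrime q) =
      Localization.localRingHom (q.comap φ) q φ rfl :=
    Localization.AtPrime.IsLiesOverAlgebra.algebraMap_eq
  rw [← h1]
  exact RingHom.finite_algebraMap.mpr hfin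

set_option backward.isDefEq.respectTransparency false in
open AlgebraicGeometry CategoryTheory Limits in
/-- For a finite morphism π : X → Y and a point x of X that is the only point of its fibre, the induced
homomorphism of local rings O_{Y,π(x)} → O_{X,x} is finite. (The published lemma has further parts,
not stated here.) -/
theorem result {X Y : Scheme.{u}} (π : X ⟶ Y) [IsFinite π] (x : X) (hx : ∀ x' : ↑X, π x' = π x → x' = x) :
    (π.stalkMap x).hom.Finite := by
  have hQ' : RingHom.RespectsIso @RingHom.Finite := RingHom.finite_respectsIso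
  wlog h : IsAffine X ∧ IsAffine Y generalizing X Y π
  · obtain ⟨U, hU, hfx, _⟩ := TopologicalSpace.Opens.isBasis_iff_nbhd.mp Y.isBasis_affineOpens
      (TopologicalSpace.Opens.mem_top <| π x)
    have hV : IsAffineOpen (π ⁻¹ᵁ U) := hU.preimage π
    have hxV : x ∈ π ⁻¹ᵁ U := hfx
    rw [← hQ'.arrow_mk_iso_iff (Scheme.Hom.resLEStalkMap π le_rfl ⟨x, hxV⟩)]
    haveI hfin' : IsFinite (π.resLE U (π ⁻¹ᵁ U) le_rfl) := by
      rw [Scheme.Hom.resLE_eq_morphismRestrict]; infer_instance
    refine this (π.resLE U (π ⁻¹ᵁ U) le_rfl) ⟨x, hxV⟩ ?_ ⟨hV, hU⟩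
    intro x' hx'
    apply Subtype.ext
    apply hx
    have h1 := congrArg Subtype.val hx'
    rwa [Scheme.Hom.coe_resLE_apply, Scheme.Hom.coe_resLE_apply] at h1
  obtain ⟨hX, hY⟩ := h
  wlog hXY : ∃ R S, Y = Spec R ∧ X = Spec S generalizing X Y
  · have h2 : ((X.isoSpec.inv ≫ π ≫ Y.isoSpec.hom).stalkMap (X.isoSpec.hom x)).hom.Finite := by
      refine this _ (X.isoSpec.hom x) ?_ inferInstance inferInstance ?_
      · intro x' hx'
        have h1 : π (X.isoSpec.inv x') = π x := by
          have h3 : Function.Injective Y.isoSpec.hom :=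
            (Y.isoSpec.hom.homeomorph).injective
          apply h3
          simpa using hx'
        have h4 := hx _ h1
        rw [← h4]
        simp
      · use Γ(Y, ⊤), Γ(X, ⊤)
    rw [Scheme.Hom.stalkMap_comp, Scheme.Hom.stalkMap_comp, CommRingCat.hom_comp,
      hQ'.cancel_right_isIso, CommRingCat.hom_comp, hQ'.cancel_left_isIso] at h2
    have heq : (X.isoSpec.inv (X.isoSpec.hom x)) = x := by simp
    rwa [hQ'.arrow_mk_iso_iff (π.arrowStalkMapIsoOfEq heq)] at h2
  obtain ⟨R, S, rfl, rfl⟩ := hXY
  obtain ⟨φ, rfl⟩ := Spec.map_surjective π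
  rw [hQ'.arrow_mk_iso_iff (Scheme.arrowStalkMapSpecIso φ _)]
  have hfin : φ.hom.Finite := (IsFinite.SpecMap_iff φ).mp inferInstance
  apply localRingHom_finite_of_unique φ.hom hfin x.asIdeal
  intro q' hq' hcomap
  have h5 := hx ⟨q', hq'⟩ (PrimeSpectrum.ext hcomap)
  exact congrArg PrimeSpectrum.asIdeal h5

end Groth.Agent.S0443
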