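import Groth.Statements.S0444
-- import your own Groth.Agent.* helpers here
import Mathlib
import Groth.Agent.Lib.Helper12.ValDim2

set_option autoImplicit false
universe u
open FlatMor

namespace Groth.Agent.S0444

open TensorProduct in
/-- Let R be a valuation ring with residue field κ and fraction field K, and S a domain of finite type
over R with R → S injective. If the special fibre κ ⊗_R S is nonzero, then its Krull dimension
equals the Krull dimension of the generic fibre K ⊗_R S. (The published statement also asserts that
the special fibre is equidimensional; that is not stated here.) -/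
theorem result {R S : Type u} [CommRing R] [IsDomain R] [ValuationRing R] [CommRing S] [IsDomain S] [Algebra R S]
    (hinj : Function.Injective (algebraMap R S)) [Algebra.FiniteType R S]
    [Nontrivial (IsLocalRing.ResidueField R ⊗[R] S)] :
    ringKrullDim (IsLocalRing.ResidueField R ⊗[R] S) = ringKrullDim (FractionRing R ⊗[R] S) := by
  obtain ⟨-, n, hn, htr⟩ := Groth.Agent.Lib.Helper12.ValDim.exists_dim_tensor_fraction_eq_trdeg
    hinj (FractionRing R)
  have hnt : (0 : WithBot ℕ∞) ≤ ringKrullDim (IsLocalRing.ResidueField R ⊗[R] S) :=
    ringKrullDim_nonneg_of_nontrivial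
  rw [hn, Groth.Agent.Lib.Helper12.ValDim.ringKrullDim_residueField_tensor] at *
  apply le_antisymm
  · exact Groth.Agent.Lib.Helper12.ValDim.ringKrullDim_fiber_le_of_isMaximal hinj n htr
      (IsLocalRing.maximalIdeal R)
  · haveI : Nontrivial ((IsLocalRing.maximalIdeal R).Fiber S) := by
      by_contra hcon
      rw [not_nontrivial_iff_subsingleton] at hcon
      rw [ringKrullDim_eq_bot_of_subsingleton] at hnt
      simp at hnt
    obtain ⟨𝔓⟩ : Nonempty (PrimeSpectrum ((IsLocalRing.maximalIdeal R).Fiber S)) := inferInstance
    let Q₀ := (PrimeSpectrum.preimageOrderIsoFiber R S (IsLocalRing.closedPoint R)).symm 𝔓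
    have h1 := Groth.Agent.Lib.Helper12.ValDim.le_ringKrullDim_fiber hinj n htr Q₀.1
    have h2 : PrimeSpectrum.comap (algebraMap R S) Q₀.1 = IsLocalRing.closedPoint R := Q₀.2
    rw [h2] at h1
    exact h1

end Groth.Agent.S0444
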