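-- Statement S0445.
import Groth.Statements.S0445
import Mathlib

set_option autoImplicit false
universe u
open FlatMor

namespace Groth.Agent.S0445

open AlgebraicGeometry CategoryTheory Limits in
/-- Two morphisms over S into an S-scheme unramified over S which agree at a point and induce the same
map on residue fields there agree on an open neighbourhood of that point. -/
theorem result {X Y S : Scheme.{u}} (p : Y ⟶ S) [FormallyUnramified p] [LocallyOfFiniteType p] (f g : X ⟶ Y) (hfg : f ≫ p = g ≫ p)
    (x : X) (h1 : f x = g x) (h2 : f.residueFieldMap x = (Y.residueFieldCongr h1).hom ≫ g.residueFieldMap x) :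
    ∃ U : X.Opens, x ∈ U ∧ U.ι ≫ f = U.ι ≫ g := by
  haveI : IsOpenImmersion (pullback.diagonal p) := inferInstance
  have hkey : X.fromSpecResidueField x ≫ f = X.fromSpecResidueField x ≫ g := by
    rw [← Scheme.Hom.SpecMap_residueFieldMap_fromSpecResidueField,
      ← Scheme.Hom.SpecMap_residueFieldMap_fromSpecResidueField, h2, Spec.map_comp,
      Category.assoc, Scheme.residueFieldCongr_fromSpecResidueField]
  have h3 : X.fromSpecResidueField x ≫ pullback.lift f g hfg =
      (X.fromSpecResidueField x ≫ f) ≫ pullback.diagonal p := by
    apply pullback.hom_ext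
    · rw [Category.assoc, Category.assoc, pullback.lift_fst, pullback.diagonal_fst,
        Category.comp_id]
    · rw [Category.assoc, Category.assoc, pullback.lift_snd, pullback.diagonal_snd,
        Category.comp_id, hkey]
  have h4 : pullback.lift f g hfg x = pullback.diagonal p (f x) := by
    have h5 := congrArg (fun φ => φ (IsLocalRing.closedPoint (X.residueField x))) h3
    simpa [Scheme.fromSpecResidueField_apply] using h5
  let U : X.Opens := (pullback.lift f g hfg) ⁻¹ᵁ (pullback.diagonal p).opensRange
  have hxU : x ∈ U := ⟨f x, h4.symm⟩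
  refine ⟨U, hxU, ?_⟩
  have hrange : Set.range (U.ι ≫ pullback.lift f g hfg) ⊆ Set.range (pullback.diagonal p) := by
    rintro _ ⟨u, rfl⟩
    exact u.2
  have hl := IsOpenImmersion.lift_fac (pullback.diagonal p) (U.ι ≫ pullback.lift f g hfg) hrange
  set l := IsOpenImmersion.lift (pullback.diagonal p) (U.ι ≫ pullback.lift f g hfg) hrange
  calc U.ι ≫ f = (U.ι ≫ pullback.lift f g hfg) ≫ pullback.fst p p := by
        rw [Category.assoc, pullback.lift_fst]
    _ = (l ≫ pullback.diagonal p) ≫ pullback.fst p p := by rw [hl]
    _ = (l ≫ pullback.diagonal p) ≫ pullback.snd p p := by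
        rw [Category.assoc, Category.assoc, pullback.diagonal_fst, pullback.diagonal_snd]
    _ = (U.ι ≫ pullback.lift f g hfg) ≫ pullback.snd p p := by rw [hl]
    _ = U.ι ≫ g := by rw [Category.assoc, pullback.lift_snd]

end Groth.Agent.S0445
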