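import Groth.Statements.S1240
-- import your own Groth.Agent.* helpers here
import Mathlib
import Groth.Agent.Lib.Helper12.FlatFibreDim
import Groth.Agent.Lib.Helper12.FibreDimFP

set_option autoImplicit false
universe u
open FlatMor

namespace Groth.Agent.S1240
open AlgebraicGeometry CategoryTheory Topology
open Groth.Agent.Lib.Helper12.ConstrNhds Groth.Agent.Lib.Helper12.FlatFibreDim

open AlgebraicGeometry CategoryTheory in
/-- Let f : X → S be flat and locally of finite type and U ⊆ S a dense open such that the fibres of f at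
points over U have local dimension at most e everywhere. If f is locally of finite presentation, or
U is retrocompact in S, then every fibre of f has local dimension at most e at every point. -/
theorem result {X S : Scheme.{u}} (f : X ⟶ S) [Flat f] [LocallyOfFiniteType f]
    (U : S.Opens) (hU : Dense (U : Set S)) (e : ℕ)
    (hle : ∀ x : X, f.base x ∈ U → FlatMor.fibreDimAt f x ≤ e)
    (h : LocallyOfFinitePresentation f ∨ IsRetrocompact (U : Set S)) (x : X) :
    FlatMor.fibreDimAt f x ≤ e := by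
  apply Groth.Agent.Lib.Helper12.EquidimOpen.fibreDimAt_le_of_max f x e
  intro z hz hzx hzmax
  by_contra hcon
  have hmax : ∀ x' : X, f.base x' = f.base z → z ∈ closure {x'} → x' = z := fun x' hx' hcl =>
    hzmax x' hx' (specializes_iff_mem_closure.mpr hcl)
  have hzdim : ¬ FlatMor.fibreDimAt f z ≤ (e : WithBot ℕ∞) := by
    rw [Groth.Agent.Lib.Helper12.UnivOpenDim.fibreDimAt_eq_trn_of_max f z hmax]
    intro h
    exact hcon (by exact_mod_cast h)
  rcases h with hfp | hret
  · -- finite presentation: Chevalley on an affine chart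
    haveI := hfp
    obtain ⟨_, ⟨V₀, hV₀, rfl⟩, hsV₀, -⟩ := S.isBasis_affineOpens.exists_subset_of_mem_open
      (Set.mem_univ (f.base z)) isOpen_univ
    obtain ⟨_, ⟨O, hO, rfl⟩, hzO, hOV⟩ := X.isBasis_affineOpens.exists_subset_of_mem_open
      (show z ∈ ((f ⁻¹ᵁ V₀ : X.Opens) : Set X) from hsV₀) (f ⁻¹ᵁ V₀).2
    have eO : O ≤ f ⁻¹ᵁ V₀ := hOV
    haveI : IsAffine (O : Scheme.{u}) := hO
    haveI : IsAffine (V₀ : Scheme.{u}) := hV₀
    set f₀ := f.resLE V₀ O eO with hf₀
    have hf₀ι : f₀ ≫ (Scheme.Opens.ι V₀) = (Scheme.Opens.ι O) ≫ f := Scheme.Hom.resLE_comp_ι f eO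
    haveI : LocallyOfFinitePresentation f₀ := inferInstance
    haveI : QuasiCompact f₀ := inferInstance
    have hW : IsLocallyConstructible {x' : X | FlatMor.fibreDimAt f x' ≤ (e : WithBot ℕ∞)} :=
      (Groth.Agent.Lib.Helper12.FibreDimFP.isRetrocompact_setOf_fibreDimAt_le f e).isLocallyConstructible
        (Groth.Agent.Lib.Helper12.Chevalley.isOpen_setOf_fibreDimAt_le f e)
    have hB₀ : IsLocallyConstructible
        ((Scheme.Opens.ι O).base ⁻¹' {x' : X | FlatMor.fibreDimAt f x' ≤ (e : WithBot ℕ∞)})ᶜ :=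
      isLocallyConstructible_compl (hW.preimage_of_isOpenEmbedding (Scheme.Opens.ι O).isOpenEmbedding)
    have hC₀ := f₀.isLocallyConstructible_image hB₀
    have hnhds : f₀.base '' ((Scheme.Opens.ι O).base ⁻¹' {x' : X | FlatMor.fibreDimAt f x' ≤ (e : WithBot ℕ∞)})ᶜ ∈
        nhds (⟨f.base z, hsV₀⟩ : ↥V₀) := by
      apply mem_nhds_of_isLocallyConstructible _ hC₀
      intro y'₀ hy'₀
      have hy' : (Scheme.Opens.ι V₀).base y'₀ ⤳ f.base z := hy'₀.map (Scheme.Opens.ι V₀).continuous
      obtain ⟨x', hx'O, hx'y, hx'dim⟩ :=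
        exists_lt_fibreDimAt_of_flat f z hmax e hzdim O hzO ((Scheme.Opens.ι V₀).base y'₀) hy'
      refine ⟨⟨x', hx'O⟩, hx'dim, ?_⟩
      apply (Scheme.Opens.ι V₀).isOpenEmbedding.injective
      rw [← Scheme.Hom.comp_apply, hf₀ι, Scheme.Hom.comp_apply]
      exact hx'y
    have hnhds2 := (Scheme.Opens.ι V₀).isOpenEmbedding.image_mem_nhds.mpr hnhds
    obtain ⟨u, hu1, hu2⟩ := hU.inter_nhds_nonempty hnhds2
    obtain ⟨_, ⟨x'₀, hx'₀, rfl⟩, rfl⟩ := hu2
    apply hx'₀
    show FlatMor.fibreDimAt f ((Scheme.Opens.ι O).base x'₀) ≤ (e : WithBot ℕ∞)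
    apply hle
    rw [← Scheme.Hom.comp_apply, ← hf₀ι, Scheme.Hom.comp_apply]
    exact hu1
  · -- `U` retrocompact: its complement is a neighbourhood of `f z`
    have hUc : IsLocallyConstructible ((U : Set S)ᶜ) :=
      isLocallyConstructible_compl (hret.isLocallyConstructible U.2)
    have hnhds : (U : Set S)ᶜ ∈ nhds (f.base z) := by
      apply mem_nhds_of_isLocallyConstructible _ hUc
      intro y' hy' hy'U
      obtain ⟨x', -, hx'y, hx'dim⟩ :=
        exists_lt_fibreDimAt_of_flat f z hmax e hzdim ⊤ trivial y' hy'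
      exact hx'dim (hle x' (by rw [hx'y]; exact hy'U))
    obtain ⟨u, hu1, hu2⟩ := hU.inter_nhds_nonempty hnhds
    exact hu2 hu1

end Groth.Agent.S1240
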