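import Groth.Statements.S0450
-- import your own Groth.Agent.* helpers here
import Mathlib
import Groth.Agent.S1240
import Groth.Agent.Lib.Helper12.FibQF
import Groth.Agent.Lib.Helper12.EquidimPt

set_option autoImplicit false
universe u
open FlatMor

namespace Groth.Agent.S0450

open AlgebraicGeometry CategoryTheory Limits in
/-- A flat proper morphism locally of finite presentation that is finite over a dense open subset of the
target is finite (the source alternatively allows the open to be retrocompact instead of assuming
finite presentation; only this alternative is stated). -/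
theorem result {X S : Scheme.{u}} (f : X ⟶ S) [Flat f] [IsProper f] [LocallyOfFinitePresentation f] (U : S.Opens)
    (hU : Dense (U : Set ↑S)) [IsFinite (f ∣_ U)] : IsFinite f := by
  have hle : ∀ x : X, f.base x ∈ U → FlatMor.fibreDimAt f x ≤ ((0 : ℕ) : WithBot ℕ∞) := by
    intro x hx
    rw [Groth.Agent.Lib.Helper12.FibQF.fibreDimAt_le_zero_iff]
    have h1 : (f ∣_ U).QuasiFiniteAt (⟨x, hx⟩ : ↥(f ⁻¹ᵁ U)) := (f ∣_ U).quasiFiniteAt _
    rw [← Scheme.Hom.quasiFiniteAt_comp_iff (g := U.ι), morphismRestrict_ι,
      Scheme.Hom.quasiFiniteAt_comp_iff_of_isOpenImmersion] at h1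
    exact h1
  have hall : ∀ x : X, FlatMor.fibreDimAt f x ≤ 0 := fun x => by
    have := Groth.Agent.S1240.result f U hU 0 hle (Or.inl inferInstance) x
    exact_mod_cast this
  haveI : LocallyQuasiFinite f :=
    Groth.Agent.Lib.Helper12.EquidimPt.locallyQuasiFinite_of_fibreDimAt_le_zero f hall
  rw [IsFinite.iff_isProper_and_locallyQuasiFinite]
  exact ⟨inferInstance, inferInstance⟩

end Groth.Agent.S0450
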