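import Groth.Statements.S0456
import Groth.Agent.Lib.Helper13.DerivedPush
import Groth.Agent.Lib.Helper1.FlasqueAcyclic

set_option autoImplicit false
universe u
open CategoryTheory
open CohTop

namespace Groth.Agent.S0456

open CategoryTheory.Limits in
/-- For a continuous map f and a flasque abelian sheaf F on the source, R^(q+1) f_* F = 0. -/
theorem result {X Y : TopCat.{u}} (f : X ⟶ Y) (F : CohTop.Ab X)
    [TopCat.Sheaf.IsFlasque F] (q : ℕ) : IsZero ((CohTop.Rpush f (q + 1)).obj F) := by
  refine IsZero.of_iso ?_ (Groth.Agent.Lib.Helper13.DerivedPush.RpushIso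
    (Opens.grothendieckTopology X) (Opens.grothendieckTopology Y)
    (TopologicalSpace.Opens.map f) F (q + 1))
  apply Functor.map_isZero
  rw [Functor.isZero_iff]
  intro V
  have h := Groth.Agent.Lib.Helper1.FlasqueAcyclic.flasque_HU_subsingleton F
    ((TopologicalSpace.Opens.map f).obj V.unop) q
  exact @AddCommGrpCat.isZero_of_subsingleton _ h

end Groth.Agent.S0456
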