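import Groth.Statements.S0466
import Groth.Agent.Lib.Helper13.CechSheaf

set_option autoImplicit false
universe u
open CategoryTheory
open CohTop

namespace Groth.Agent.S0466

open TopologicalSpace Opposite in
/-- Consider a short exact sequence of abelian sheaves with kernel F, middle term G and quotient H, and
an open U. If every open covering of U admits a refinement on which the first Cech cohomology of F
vanishes, then sections of G over U map onto sections of H over U. -/
theorem result {X : TopCat.{u}}
    (S : CategoryTheory.ShortComplex (CohTop.Ab X)) (hS : S.ShortExact) (U : Opens X)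
    (h : ∀ (ι : Type u) (V : ι → Opens X), iSup V = U →
      ∃ (κ : Type u) (W : κ → Opens X) (r : κ → ι), iSup W = U ∧ (∀ k, W k ≤ V (r k)) ∧
        CategoryTheory.Limits.IsZero (CohTop.cechH S.X₁.obj W 1)) :
    Function.Surjective (S.g.hom.app (op U)) := by
  intro s
  have hloc : Presheaf.IsLocallySurjective (Opens.grothendieckTopology X) S.g.hom :=
    (Sheaf.isLocallySurjective_iff_epi' AddCommGrpCat.{u} S.g).2 hS.epi_g
  have hx : ∀ x : U, ∃ (V : Opens X) (hVU : V ≤ U) (t : S.X₂.obj.obj (op V)), (x : X) ∈ V ∧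
      (S.g.hom.app (op V)).hom t = (S.X₃.obj.map (homOfLE hVU).op).hom s := by
    intro x
    obtain ⟨V, g, ⟨t, ht⟩, hxV⟩ := hloc.imageSieve_mem s x.1 x.2
    exact ⟨V, g.le, t, hxV, ht⟩
  choose V hVU t hxV ht using hx
  have hsup : iSup V = U :=
    le_antisymm (iSup_le hVU) (fun x hx => Opens.mem_iSup.2 ⟨⟨x, hx⟩, hxV ⟨x, hx⟩⟩)
  obtain ⟨κ, W, r, hW, hWV, hzero⟩ := h U V hsup
  apply Groth.Agent.Lib.Helper13.CechSheaf.exists_lift_top W U hW hS hzero s
    (fun k => (S.X₂.obj.map (homOfLE (hWV k)).op).hom (t (r k)))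
  intro k
  have h1 := ConcreteCategory.congr_hom (S.g.hom.naturality (homOfLE (hWV k)).op) (t (r k))
  refine h1.trans ?_
  change (S.X₃.obj.map (homOfLE (hWV k)).op).hom ((S.g.hom.app (op (V (r k)))).hom (t (r k))) = _
  rw [ht, Groth.Agent.Lib.Helper13.CechLow.map_map_apply]
  rfl

end Groth.Agent.S0466
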