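import Groth.Statements.S0470
import Groth.Agent.Lib.Helper5.SpecVanish

set_option autoImplicit false
universe u
open CategoryTheory
open CohTop

namespace Groth.Agent.S0470

open TopologicalSpace in
/-- If X is a spectral space of Krull dimension d, then for every compact open U the restriction H^d(X,
F) → H^d(U, F) is surjective. -/
theorem result {X : TopCat.{u}} [SpectralSpace X] (d : ℕ)
    (hd : topologicalKrullDim X = d) (F : CohTop.Ab X) (U : Opens X) (hU : IsCompact (U : Set X)) :
    Function.Surjective (CohTop.res F d (le_top : U ≤ ⊤)) := by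
  have hX : topologicalKrullDim X < ((d + 1 : ℕ) : WithBot ℕ∞) := by
    rw [hd]
    exact_mod_cast Nat.lt_succ_self d
  exact Groth.Agent.Lib.Helper5.SpecVanish.resSurj_of_P d
    (Groth.Agent.Lib.Helper5.SpecVanish.P_all d) hX F ⊤ U le_top isCompact_univ hU

end Groth.Agent.S0470
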