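import Groth.Statements.S0480
import Mathlib.Algebra.Homology.HomotopyCategory.HomComplexShift
import Mathlib.Algebra.Homology.Double
import Mathlib.CategoryTheory.Limits.Yoneda
-- import your own Groth.Agent.* helpers here

set_option autoImplicit false
universe v u
open CategoryTheory
open CohDer

namespace Groth.Agent.S0480

section Aux
open CategoryTheory.Limits Opposite

variable {A : Type u} [Category.{v} A] [Abelian A]

/-- Evaluation of cochain complexes preserves every limit cone (no limits needed in `A`). -/
noncomputable def isLimitEvalMapCone {J : Type*} [Category J] {F : J ⥤ CochainComplex A ℤ}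
    (c : Cone F) (hc : IsLimit c) (q : ℤ) :
    IsLimit ((HomologicalComplex.eval A (ComplexShape.up ℤ) q).mapCone c) := by
  apply coyonedaJointlyReflectsLimits
  intro X
  let G := HomologicalComplex.eval A (ComplexShape.up ℤ) q ⋙ coyoneda.obj (op X.unop)
  have e : coyoneda.obj (op G.coreprX) ≅ G := G.coreprW
  have h1 : IsLimit ((coyoneda.obj (op G.coreprX)).mapCone c) := isLimitOfPreserves _ hc
  have h2 : IsLimit (G.mapCone c) := IsLimit.mapConeEquiv e h1
  exact h2

end Aux


open CategoryTheory.Limits in
/-- In an abelian category, if the product of a family of K-injective cochain complexes exists (it is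
then the termwise product), it is again K-injective. -/
theorem result {A : Type u} [Category.{v} A] [Abelian A] {T : Type v} (I : T → CochainComplex A ℤ)
    [HasProduct I] (h : ∀ t, (I t).IsKInjective) : (∏ᶜ I).IsKInjective := by
  constructor
  intro K f hK
  haveI := h
  let π : ∀ t : T, (∏ᶜ I) ⟶ I t := fun t => Pi.π I t
  have ex : ∀ t, ∃ α : CochainComplex.HomComplex.Cochain K (I t) (-1),
      CochainComplex.HomComplex.δ (-1) 0 α = CochainComplex.HomComplex.Cochain.ofHom (f ≫ π t) :=
    fun t => CochainComplex.IsKInjective.eq_δ_of_cocycle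
      (CochainComplex.HomComplex.Cocycle.ofHom (f ≫ π t)) hK (-1) (by simp)
  choose s hs using ex
  let isLim : ∀ q : ℤ, IsLimit ((HomologicalComplex.eval A (ComplexShape.up ℤ) q).mapCone
      (limit.cone (Discrete.functor I))) := fun q => isLimitEvalMapCone _ (limit.isLimit _) q
  let cone : ∀ (p₀ q : ℤ) (_ : p₀ + (-1) = q),
      Cone (Discrete.functor I ⋙ HomologicalComplex.eval A (ComplexShape.up ℤ) q) :=
    fun p₀ q hpq =>
    { pt := K.X p₀
      π := Discrete.natTrans (fun j => (s j.as).v p₀ q hpq) }
  let hL : CochainComplex.HomComplex.Cochain K (∏ᶜ I) (-1) :=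
    CochainComplex.HomComplex.Cochain.mk (fun p₀ q hpq => (isLim q).lift (cone p₀ q hpq))
  have hLπ : ∀ t, hL.comp (CochainComplex.HomComplex.Cochain.ofHom (π t)) (add_zero _) =
      s t := by
    intro t
    ext p₀ q hpq
    rw [CochainComplex.HomComplex.Cochain.comp_zero_cochain_v,
      CochainComplex.HomComplex.Cochain.ofHom_v, CochainComplex.HomComplex.Cochain.mk_v]
    exact (isLim q).fac (cone p₀ q hpq) ⟨t⟩
  have jointly : ∀ (n : ℤ) (z₁ z₂ : CochainComplex.HomComplex.Cochain K (∏ᶜ I) n),
      (∀ t, z₁.comp (CochainComplex.HomComplex.Cochain.ofHom (π t)) (add_zero _) =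
        z₂.comp (CochainComplex.HomComplex.Cochain.ofHom (π t)) (add_zero _)) → z₁ = z₂ := by
    intro n z₁ z₂ H
    ext p₀ q hpq
    apply (isLim q).hom_ext
    intro j
    have := CochainComplex.HomComplex.Cochain.congr_v (H j.as) p₀ q hpq
    rw [CochainComplex.HomComplex.Cochain.comp_zero_cochain_v,
      CochainComplex.HomComplex.Cochain.comp_zero_cochain_v,
      CochainComplex.HomComplex.Cochain.ofHom_v] at this
    exact this
  have hδ : CochainComplex.HomComplex.δ (-1) 0 hL =
      CochainComplex.HomComplex.Cochain.ofHom f := by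
    apply jointly
    intro t
    rw [← CochainComplex.HomComplex.δ_comp_ofHom, hLπ, hs t,
      CochainComplex.HomComplex.Cochain.ofHom_comp f (π t)]
  exact ⟨(CochainComplex.HomComplex.Cochain.equivHomotopy f 0).symm
    ⟨hL, by rw [hδ, CochainComplex.HomComplex.Cochain.ofHom_zero, add_zero]⟩⟩

end Groth.Agent.S0480
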