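import Groth.Statements.S0489
import Mathlib.Algebra.Homology.HomotopyCategory.HomComplexShift
-- import your own Groth.Agent.* helpers here

set_option autoImplicit false
universe v u
open CategoryTheory
open CohDer

namespace Groth.Agent.S0489

section Aux
open CategoryTheory.Limits Opposite CochainComplex HomComplex

variable {A : Type u} [Category.{v} A] [Abelian A]

lemma exists_seq {T : ℕ → Type*} (R : ∀ k, T (k + 1) → T k → Prop) (base : T 0)
    (step : ∀ k (t : T k), ∃ t' : T (k + 1), R k t' t) :
    ∃ s : ∀ k, T k, ∀ k, R k (s (k + 1)) (s k) := by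
  classical
  let nx : ∀ k, T k → T (k + 1) := fun k t => (step k t).choose
  let s : ∀ k, T k := fun k => Nat.rec base (fun k t => nx k t) k
  exact ⟨s, fun k => (step k (s k)).choose_spec⟩

lemma step {K I₁ I₀ : CochainComplex A ℤ} [I₁.IsKInjective] [I₀.IsKInjective] (hK : K.Acyclic)
    (p : I₁ ⟶ I₀) (hp : ∀ m, IsSplitEpi (p.f m))
    (g₁ : K ⟶ I₁) (h₀ : Cochain K I₀ (-1)) (hh₀ : δ (-1) 0 h₀ = Cochain.ofHom (g₁ ≫ p)) :
    ∃ h₁ : Cochain K I₁ (-1), δ (-1) 0 h₁ = Cochain.ofHom g₁ ∧
      h₁.comp (Cochain.ofHom p) (add_zero _) = h₀ := by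
  obtain ⟨h', hh'⟩ := IsKInjective.eq_δ_of_cocycle (Cocycle.ofHom g₁) hK (-1) (by simp)
  have hh'' : δ (-1) 0 h' = Cochain.ofHom g₁ := hh'
  let z : Cochain K I₀ (-1) := h'.comp (Cochain.ofHom p) (add_zero _) - h₀
  have hz : δ (-1) 0 z = 0 := by
    dsimp only [z]
    rw [δ_sub, δ_comp_ofHom, hh'', hh₀, Cochain.ofHom_comp, sub_self]
  obtain ⟨g, hg⟩ := IsKInjective.eq_δ_of_cocycle (Cocycle.mk z 0 (by simp) hz) hK (-2) (by simp)
  have hg' : δ (-2) (-1) g = z := hg
  let s : Cochain I₀ I₁ 0 := Cochain.ofHoms (fun m => haveI := hp m; section_ (p.f m))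
  have hs : s.comp (Cochain.ofHom p) (zero_add 0) = Cochain.ofHom (𝟙 I₀) := by
    ext m
    simp [s]
  refine ⟨h' - δ (-2) (-1) (g.comp s (add_zero _)), ?_, ?_⟩
  · rw [δ_sub, δ_δ, sub_zero, hh'']
  · rw [Cochain.sub_comp, ← δ_comp_ofHom, Cochain.comp_assoc_of_third_is_zero_cochain, hs,
      Cochain.comp_id, hg']
    dsimp only [z]
    abel

end Aux


open CategoryTheory.Limits Opposite in
/-- Let … → I_3 → I_2 → I_1 be an inverse system of K-injective cochain complexes in an abelian category
with sequential limits, such that each transition map is a split epimorphism in each degree. Then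
the (termwise) limit complex is K-injective. -/
theorem result {A : Type u} [Category.{v} A] [Abelian A] [HasLimitsOfShape ℕᵒᵖ A]
    (I : ℕᵒᵖ ⥤ CochainComplex A ℤ) (h1 : ∀ n : ℕ, (I.obj (op n)).IsKInjective)
    (h2 : ∀ (n : ℕ) (m : ℤ), IsSplitEpi ((I.map (homOfLE (Nat.le_succ n)).op).f m)) :
    (limit I).IsKInjective := by
  constructor
  intro K f hK
  haveI := h1
  let π : ∀ k : ℕ, limit I ⟶ I.obj (op k) := fun k => limit.π I (op k)
  let p : ∀ k : ℕ, I.obj (op (k + 1)) ⟶ I.obj (op k) :=
    fun k => I.map (homOfLE (Nat.le_succ k)).op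
  have hπp : ∀ k, π (k + 1) ≫ p k = π k := fun k => limit.w I _
  obtain ⟨s, hs⟩ := exists_seq
    (T := fun k => {h : CochainComplex.HomComplex.Cochain K (I.obj (op k)) (-1) //
      CochainComplex.HomComplex.δ (-1) 0 h = CochainComplex.HomComplex.Cochain.ofHom (f ≫ π k)})
    (fun k t' t => t'.1.comp (CochainComplex.HomComplex.Cochain.ofHom (p k)) (add_zero _) = t.1)
    ⟨(CochainComplex.IsKInjective.eq_δ_of_cocycle
        (CochainComplex.HomComplex.Cocycle.ofHom (f ≫ π 0)) hK (-1) (by simp)).choose,
      (CochainComplex.IsKInjective.eq_δ_of_cocycle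
        (CochainComplex.HomComplex.Cocycle.ofHom (f ≫ π 0)) hK (-1) (by simp)).choose_spec⟩
    (by
      intro k t
      obtain ⟨h₁, hh₁, hc⟩ := step hK (p k) (h2 k) (f ≫ π (k + 1)) t.1
        (by rw [t.2, Category.assoc, hπp])
      exact ⟨⟨h₁, hh₁⟩, hc⟩)
  have compat : ∀ (k k' : ℕ) (hkk' : k ≤ k'),
      (s k').1.comp (CochainComplex.HomComplex.Cochain.ofHom (I.map (homOfLE hkk').op))
        (add_zero _) = (s k).1 := by
    intro k k' hkk'
    induction k', hkk' using Nat.le_induction with
    | base =>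
      have e : I.map (homOfLE (le_refl k)).op = 𝟙 _ := by
        rw [← I.map_id]; rfl
      rw [e, CochainComplex.HomComplex.Cochain.comp_id]
    | succ k' hkk' ih =>
      have e : I.map (homOfLE (Nat.le_succ_of_le hkk')).op =
          p k' ≫ I.map (homOfLE hkk').op := by
        rw [← I.map_comp]; rfl
      rw [e, CochainComplex.HomComplex.Cochain.ofHom_comp (p k') (I.map (homOfLE hkk').op),
        ← CochainComplex.HomComplex.Cochain.comp_assoc_of_third_is_zero_cochain, hs k', ih]
  let isLim : ∀ q : ℤ, IsLimit ((HomologicalComplex.eval A (ComplexShape.up ℤ) q).mapCone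
      (limit.cone I)) := fun q => isLimitOfPreserves _ (limit.isLimit I)
  let cone : ∀ (p₀ q : ℤ) (_ : p₀ + (-1) = q),
      Cone (I ⋙ HomologicalComplex.eval A (ComplexShape.up ℤ) q) := fun p₀ q hpq =>
    { pt := K.X p₀
      π :=
        { app := fun j => (s j.unop).1.v p₀ q hpq
          naturality := by
            intro j j' φ
            dsimp
            rw [Category.id_comp]
            have hle : j'.unop ≤ j.unop := leOfHom φ.unop
            have hφ : φ = (homOfLE hle).op := Quiver.Hom.unop_inj (Subsingleton.elim _ _)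
            have := CochainComplex.HomComplex.Cochain.congr_v (compat j'.unop j.unop hle) p₀ q hpq
            rw [CochainComplex.HomComplex.Cochain.comp_zero_cochain_v,
              CochainComplex.HomComplex.Cochain.ofHom_v] at this
            rw [hφ]
            exact this.symm } }
  let hL : CochainComplex.HomComplex.Cochain K (limit I) (-1) :=
    CochainComplex.HomComplex.Cochain.mk (fun p₀ q hpq => (isLim q).lift (cone p₀ q hpq))
  have hLπ : ∀ k, hL.comp (CochainComplex.HomComplex.Cochain.ofHom (π k)) (add_zero _) =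
      (s k).1 := by
    intro k
    ext p₀ q hpq
    rw [CochainComplex.HomComplex.Cochain.comp_zero_cochain_v,
      CochainComplex.HomComplex.Cochain.ofHom_v, CochainComplex.HomComplex.Cochain.mk_v]
    exact (isLim q).fac (cone p₀ q hpq) (op k)
  have jointly : ∀ (n : ℤ) (z₁ z₂ : CochainComplex.HomComplex.Cochain K (limit I) n),
      (∀ k, z₁.comp (CochainComplex.HomComplex.Cochain.ofHom (π k)) (add_zero _) =
        z₂.comp (CochainComplex.HomComplex.Cochain.ofHom (π k)) (add_zero _)) → z₁ = z₂ := by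
    intro n z₁ z₂ H
    ext p₀ q hpq
    apply (isLim q).hom_ext
    intro j
    have := CochainComplex.HomComplex.Cochain.congr_v (H j.unop) p₀ q hpq
    rw [CochainComplex.HomComplex.Cochain.comp_zero_cochain_v,
      CochainComplex.HomComplex.Cochain.comp_zero_cochain_v,
      CochainComplex.HomComplex.Cochain.ofHom_v] at this
    exact this
  have hδ : CochainComplex.HomComplex.δ (-1) 0 hL =
      CochainComplex.HomComplex.Cochain.ofHom f := by
    apply jointly
    intro k
    rw [← CochainComplex.HomComplex.δ_comp_ofHom, hLπ, (s k).2,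
      CochainComplex.HomComplex.Cochain.ofHom_comp]
  exact ⟨(CochainComplex.HomComplex.Cochain.equivHomotopy f 0).symm
    ⟨hL, by rw [hδ, CochainComplex.HomComplex.Cochain.ofHom_zero, add_zero]⟩⟩

end Groth.Agent.S0489
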