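import Groth.Statements.S0490
import Mathlib
-- import your own Groth.Agent.* helpers here

set_option autoImplicit false
universe v u
open CategoryTheory
open CohDer

namespace Groth.Agent.S0490


section Helpers

open CategoryTheory CategoryTheory.Limits CategoryTheory.Pretriangulated

variable {D : Type u} [Category.{v} D] [Preadditive D] [HasZeroObject D] [HasShift D ℤ]
    [∀ n : ℤ, (shiftFunctor D n).Additive] [Pretriangulated D]
    {P : ObjectProperty D} [P.IsTriangulated]

section Forward

variable {R : D ⥤ P.FullSubcategory} (adj : P.ι ⊣ R)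

include adj in
lemma counit_surj (X : D) {A' : D} (hA' : P A') (ψ : A' ⟶ X) :
    ∃ k : A' ⟶ P.ι.obj (R.obj X), k ≫ adj.counit.app X = ψ := by
  let Y : P.FullSubcategory := ⟨A', hA'⟩
  refine ⟨P.ι.map (adj.homEquiv Y X ψ), ?_⟩
  have h := adj.homEquiv_counit (X := Y) (Y := X) (g := adj.homEquiv Y X ψ)
  rw [← h, Equiv.symm_apply_apply]

include adj in
lemma counit_inj (X : D) {A' : D} (hA' : P A') (k₁ k₂ : A' ⟶ P.ι.obj (R.obj X))
    (h : k₁ ≫ adj.counit.app X = k₂ ≫ adj.counit.app X) : k₁ = k₂ := by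
  let Y : P.FullSubcategory := ⟨A', hA'⟩
  have h1 : ∀ k : A' ⟶ P.ι.obj (R.obj X), k ≫ adj.counit.app X =
      (adj.homEquiv Y X).symm (P.fullyFaithfulι.preimage (X := Y) (Y := R.obj X) k) := by
    intro k
    rw [adj.homEquiv_counit, P.fullyFaithfulι.map_preimage]
  rw [h1 k₁, h1 k₂] at h
  have h2 := (adj.homEquiv Y X).symm.injective h
  have h3 := congrArg (fun t => P.ι.map t) h2
  simpa only [P.fullyFaithfulι.map_preimage] using h3

include adj in
lemma forward (X : D) : ∃ (A B : D) (f : A ⟶ X) (g : X ⟶ B)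
    (h : B ⟶ (shiftFunctor D (1 : ℤ)).obj A),
    Triangle.mk f g h ∈ distTriang D ∧ P A ∧ P.rightOrthogonal B := by
  obtain ⟨B, g, h, hT⟩ := distinguished_cocone_triangle (adj.counit.app X)
  refine ⟨P.ι.obj (R.obj X), B, adj.counit.app X, g, h, hT, (R.obj X).property, ?_⟩
  intro A' φ hA'
  have hz31 : h ≫ (shiftFunctor D (1 : ℤ)).map (adj.counit.app X) = 0 :=
    comp_distTriang_mor_zero₃₁ _ hT
  have hz12 : adj.counit.app X ≫ g = 0 := comp_distTriang_mor_zero₁₂ _ hT
  have h1 : φ ≫ h = 0 := by
    let adjS := (shiftEquiv D (1 : ℤ)).symm.toAdjunction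
    have e0 : ∀ Y : D, adjS.homEquiv A' Y (0 : (shiftFunctor D (-1 : ℤ)).obj A' ⟶ Y) = 0 := by
      intro Y
      rw [Adjunction.homEquiv_unit]
      show _ ≫ (shiftFunctor D (1 : ℤ)).map 0 = 0
      rw [Functor.map_zero, comp_zero]
    obtain ⟨m', hm'⟩ := (adjS.homEquiv A' (P.ι.obj (R.obj X))).surjective (φ ≫ h)
    have hP' : P ((shiftFunctor D (-1 : ℤ)).obj A') := P.le_shift (-1) _ hA'
    have e1 : adjS.homEquiv A' X (m' ≫ adj.counit.app X) =
        (φ ≫ h) ≫ (shiftFunctor D (1 : ℤ)).map (adj.counit.app X) :=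
      (adjS.homEquiv_naturality_right m' (adj.counit.app X)).trans
        (congrArg (fun t => t ≫ (shiftFunctor D (1 : ℤ)).map (adj.counit.app X)) hm')
    have h2 : m' ≫ adj.counit.app X = 0 := by
      apply (adjS.homEquiv A' X).injective
      refine e1.trans (Eq.trans ?_ (e0 X).symm)
      show (φ ≫ h) ≫ (shiftFunctor D (1 : ℤ)).map (adj.counit.app X) = 0
      rw [Category.assoc, hz31, comp_zero]
    have h3 : m' = 0 := counit_inj adj X hP' m'
      (0 : (shiftFunctor D (-1 : ℤ)).obj A' ⟶ P.ι.obj (R.obj X)) (h2.trans zero_comp.symm)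
    exact hm'.symm.trans ((congrArg (adjS.homEquiv A' _) h3).trans (e0 _))
  obtain ⟨ψ, hψ⟩ : ∃ ψ : A' ⟶ X, φ = ψ ≫ g := Triangle.coyoneda_exact₃ _ hT φ h1
  obtain ⟨k, hk⟩ := counit_surj adj X hA' ψ
  rw [hψ, ← hk, Category.assoc, hz12, comp_zero]

end Forward

lemma backward (H : ∀ X : D, ∃ (A B : D) (f : A ⟶ X) (g : X ⟶ B)
    (h : B ⟶ (shiftFunctor D (1 : ℤ)).obj A),
    Triangle.mk f g h ∈ distTriang D ∧ P A ∧ P.rightOrthogonal B) : P.ι.IsLeftAdjoint := by
  haveI : ∀ X : D, HasTerminal (CostructuredArrow P.ι X) := by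
    intro X
    obtain ⟨A, B, f, g, h, hT, hA, hB⟩ := H X
    have key : ∀ (A' : D) (_ : P A') (f' : A' ⟶ X), ∃! k : A' ⟶ A, k ≫ f = f' := by
      intro A' hA' f'
      have h0 : f' ≫ g = 0 := hB (f' ≫ g) hA'
      obtain ⟨k, hk⟩ : ∃ k : A' ⟶ A, f' = k ≫ f := Triangle.coyoneda_exact₂ _ hT f' h0
      refine ⟨k, hk.symm, ?_⟩
      intro k' hk'
      have h1 : (k' - k) ≫ f = 0 := by rw [Preadditive.sub_comp, hk', ← hk, sub_self]
      obtain ⟨l, hl⟩ : ∃ l : A' ⟶ (shiftFunctor D (-1 : ℤ)).obj B,
          k' - k = l ≫ (Triangle.mk f g h).invRotate.mor₁ :=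
        Triangle.coyoneda_exact₂ _ (inv_rot_of_distTriang _ hT) (k' - k) h1
      have hB' : P.rightOrthogonal ((shiftFunctor D (-1 : ℤ)).obj B) :=
        P.rightOrthogonal.le_shift (-1) _ hB
      have hl0 : l = 0 := hB' l hA'
      rw [hl0, zero_comp] at hl
      exact sub_eq_zero.1 hl
    let A₀ : P.FullSubcategory := ⟨A, hA⟩
    let t : CostructuredArrow P.ι X := CostructuredArrow.mk (Y := A₀) f
    have hterm : IsTerminal t := by
      refine IsTerminal.ofUniqueHom
        (fun Y => CostructuredArrow.homMk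
          (P.fullyFaithfulι.preimage (X := Y.left) (Y := A₀)
            (key Y.left.obj Y.left.property Y.hom).exists.choose) ?_) (fun Y m => ?_)
      · rw [P.fullyFaithfulι.map_preimage]
        exact (key Y.left.obj Y.left.property Y.hom).exists.choose_spec
      · apply CostructuredArrow.hom_ext
        apply P.ι.map_injective
        refine Eq.trans ?_ (P.fullyFaithfulι.map_preimage (X := Y.left) (Y := A₀)
          (key Y.left.obj Y.left.property Y.hom).exists.choose).symm
        exact (key Y.left.obj Y.left.property Y.hom).unique (CostructuredArrow.w m)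
          (key Y.left.obj Y.left.property Y.hom).exists.choose_spec
    exact hterm.hasTerminal
  exact isLeftAdjoint_of_costructuredArrowTerminals P.ι

end Helpers

open CategoryTheory.Pretriangulated in
/-- Let A be a full triangulated subcategory of a pretriangulated category D (an object property
containing zero, stable under shifts and closed under extensions). The inclusion A → D is a left
adjoint (i.e. has a right adjoint) if and only if every object X of D fits in a distinguished
triangle A → X → B → A[1] with A in the subcategory and B right orthogonal to it. (The source's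
further conclusions about saturation are not asserted.) -/
theorem result {D : Type u} [Category.{v} D] [Preadditive D] [Limits.HasZeroObject D] [HasShift D ℤ]
    [∀ n : ℤ, (shiftFunctor D n).Additive] [Pretriangulated D]
    (P : ObjectProperty D) [P.IsTriangulated] :
    P.ι.IsLeftAdjoint ↔ ∀ X : D, ∃ (A B : D) (f : A ⟶ X) (g : X ⟶ B) (h : B ⟶ (shiftFunctor D (1 : ℤ)).obj A),
      Triangle.mk f g h ∈ distinguishedTriangles ∧ P A ∧ P.rightOrthogonal B := by
  constructor
  · intro hL X
    exact forward (Adjunction.ofIsLeftAdjoint P.ι) X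
  · intro H
    exact backward H

end Groth.Agent.S0490
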