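import Groth.Statements.S0492
import Mathlib
import Groth.Agent.Lib.Helper21.WCBasis

set_option autoImplicit false
universe u
open CategoryTheory
open CohSite

namespace Groth.Agent.S0492

open CategoryTheory.Limits in
/-- Part (4), for sheaves of abelian groups: let B be a set of weakly contractible objects of a small
site such that every object admits a covering family by members of B. Then products in the category
of abelian sheaves are exact (Grothendieck's AB4*). -/
theorem result {C : Type u} [SmallCategory C] (J : GrothendieckTopology C)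
    (B : Set C) (hB : ∀ U ∈ B, CohSite.IsWeaklyContractible J U)
    (hcov : ∀ V : C, ∃ (ι : Type u) (U : ι → C) (f : ∀ i, U i ⟶ V), (∀ i, U i ∈ B) ∧ Sieve.ofArrows U f ∈ J V) :
    AB4Star (Sheaf J AddCommGrpCat.{u}) := by
  have hB' : ∀ U : C, U ∈ B → ∀ (P Q : Sheaf J (Type u)) (ψ : P ⟶ Q), Epi ψ →
      Function.Surjective (ψ.hom.app (Opposite.op U)) := fun U hU P Q ψ hψ => hB U hU P Q ψ hψ
  have hcov' : ∀ V : C, ∃ S : Sieve V, S ∈ J V ∧ ∀ ⦃W : C⦄ (f : W ⟶ V), S.arrows f →
      ∃ (U : C) (g : W ⟶ U) (h : U ⟶ V), U ∈ B ∧ g ≫ h = f := by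
    intro V
    obtain ⟨ι, U, f, hU, hc⟩ := hcov V
    refine ⟨_, hc, ?_⟩
    rintro W _ ⟨Y, a, _, ⟨i⟩, rfl⟩
    exact ⟨U i, a, f i, hU i, rfl⟩
  constructor
  intro α
  exact Groth.Agent.Lib.Helper21.WCBasis.hasExactLimitsOfShape_discrete J (· ∈ B) hB' hcov' α

end Groth.Agent.S0492
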