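import Groth.Statements.S0494
import Groth.Agent.Lib.Helper13.LerayDeg
import Groth.Agent.Lib.Helper13.PushAcyclic

set_option autoImplicit false
universe u
open CohTop

namespace Groth.Agent.S0494

open Opposite in
/-- If H^p(Y, R^q f_* F) = 0 for all q and all p > 0, then H^q(X, F) ≅ Γ(Y, R^q f_* F) for every q
(existence of a group isomorphism). -/
theorem result {X Y : TopCat.{u}} (f : X ⟶ Y) (F : CohTop.Ab X)
    (h : ∀ p q : ℕ, Subsingleton (CohTop.H ((CohTop.Rpush f q).obj F) (p + 1))) (q : ℕ) :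
    Nonempty (CohTop.H F q ≃+ ((CohTop.Rpush f q).obj F).obj.obj (op ⊤)) := by
  have h2 : ∀ (n p : ℕ) (x : CategoryTheory.Abelian.Ext
      (Groth.Agent.Lib.Helper13.SiteCohLocal.constZ (Opens.grothendieckTopology Y))
      (((CohTop.push f).rightDerived n).obj F) (p + 1)), x = 0 := fun n p x =>
    @Subsingleton.elim _ (h p n) _ _
  obtain ⟨e⟩ := Groth.Agent.Lib.Helper13.LerayDeg.nonempty_extEquiv
    (Groth.Agent.Lib.Helper13.ClosedEmbPush.adj f) F
    (Groth.Agent.Lib.Helper13.SiteCohLocal.constZ (Opens.grothendieckTopology Y))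
    (fun _ => Groth.Agent.Lib.Helper13.PushAcyclic.push_injective f _) h2 q
  exact ⟨((Groth.Agent.Lib.Helper13.ExtAdj.extIsoLeft
    (Groth.Agent.Lib.Helper13.ClosedEmbPush.pullConstIso f) F q).trans e).trans
    (CategoryTheory.Abelian.Ext.addEquiv₀.symm.trans
      (CategoryTheory.Sheaf.H.equiv₀ ((CohTop.Rpush f q).obj F) CategoryTheory.Limits.isTerminalTop))⟩

end Groth.Agent.S0494
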