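import Groth.Statements.S0495
import Mathlib
import Groth.Agent.Lib.Helper8.HenselNil

set_option autoImplicit false
universe u
open Hensel

namespace Groth.Agent.S0495

/-- A local ring whose Krull dimension is zero is henselian. -/
theorem result (R : Type u) [CommRing R] [IsLocalRing R]
    (h : ringKrullDim R = 0) : HenselianLocalRing R := by
  apply Groth.Agent.Lib.Helper8.henselianLocalRing_of_forall_isNilpotent R
  intro x hx
  have hdim : Ring.KrullDimLE 0 R := ringKrullDimZero_iff_ringKrullDim_eq_zero.mpr h
  have := ((Ring.krullDimLE_zero_and_isLocalRing_tfae R).out 0 2 rfl rfl).mp ⟨hdim, ‹_›⟩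
  exact (this x).mpr ((IsLocalRing.mem_maximalIdeal x).mp hx)

end Groth.Agent.S0495
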