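import Groth.Statements.S0498
import Groth.Agent.Lib.Helper8.HenselFactor2

set_option autoImplicit false
universe u
open Hensel

namespace Groth.Agent.S0498

/-- Over a henselian local ring, a simple root in the residue field of the reduction of an arbitrary
polynomial (monic or not) lifts to a root in the ring. -/
theorem result (R : Type u) [CommRing R] [HenselianLocalRing R]
    (f : Polynomial R) (a₀ : IsLocalRing.ResidueField R)
    (h₁ : Polynomial.eval₂ (IsLocalRing.residue R) a₀ f = 0)
    (h₂ : Polynomial.eval₂ (IsLocalRing.residue R) a₀ (Polynomial.derivative f) ≠ 0) :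
    ∃ a : R, Polynomial.IsRoot f a ∧ IsLocalRing.residue R a = a₀ := by
  open Polynomial in
  have hroot : (f.map (IsLocalRing.residue R)).IsRoot a₀ := by
    rw [IsRoot.def, eval_map]; exact h₁
  have hfac : f.map (IsLocalRing.residue R) =
      (X - C a₀) * (f.map (IsLocalRing.residue R) /ₘ (X - C a₀)) :=
    (mul_divByMonic_eq_iff_isRoot.mpr hroot).symm
  set h₀ := f.map (IsLocalRing.residue R) /ₘ (X - C a₀) with hh₀def
  have hh₀ : h₀.eval a₀ ≠ 0 := by
    have e1 : (f.map (IsLocalRing.residue R)).derivative.eval a₀ = h₀.eval a₀ := by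
      rw [hfac]; simp [derivative_mul]
    rw [← e1, derivative_map, eval_map]
    exact h₂
  have hcop : IsCoprime (X - C a₀) h₀ := by
    rw [(irreducible_X_sub_C a₀).coprime_iff_not_dvd, dvd_iff_isRoot]; exact hh₀
  obtain ⟨g, h, hfgh, hgm, hg, hh⟩ := Groth.Agent.Lib.Helper8.factor_lift_of_henselian R f
    (X - C a₀) h₀ (monic_X_sub_C a₀) hcop hfac
  have hdeg : g.natDegree = 1 := by
    rw [← hgm.natDegree_map (IsLocalRing.residue R), hg, natDegree_X_sub_C]
  have hgeq := hgm.eq_X_add_C hdeg
  refine ⟨-g.coeff 0, ?_, ?_⟩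
  · rw [IsRoot.def, hfgh, eval_mul]
    have : g.eval (-g.coeff 0) = 0 := by
      rw [hgeq]; simp
    rw [this, zero_mul]
  · have := congrArg (fun p => p.coeff 0) hg
    simp only [coeff_map, coeff_sub, coeff_X_zero, coeff_C_zero, zero_sub] at this
    rw [map_neg, this, neg_neg]

end Groth.Agent.S0498
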