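import Groth.Statements.S0501
import Mathlib
import Groth.Agent.Lib.Helper5.HenselLift
import Groth.Agent.S2782

set_option autoImplicit false
universe u
open Hensel

namespace Groth.Agent.S0501

/-- Let `S` be a henselian local ring over a ring `R`, let `A` be an étale `R`-algebra with a prime `q`,
and let `τ` be a ring map from the residue field of `q` to the residue field of `S` compatible with
the two structure maps from `R`. Then there is exactly one `R`-algebra map from `A` to `S` pulling
the maximal ideal back to `q` and inducing `τ`. -/
theorem result (R : Type u) [CommRing R]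
    (S : Type u) [CommRing S] [HenselianLocalRing S] [Algebra R S]
    (A : Type u) [CommRing A] [Algebra R A] [Algebra.Etale R A] (q : Ideal A) [q.IsPrime]
    (τ : q.ResidueField →+* IsLocalRing.ResidueField S)
    (hτ : τ.comp (algebraMap R q.ResidueField) = (IsLocalRing.residue S).comp (algebraMap R S)) :
    ∃! f : A →ₐ[R] S, Ideal.comap f.toRingHom (IsLocalRing.maximalIdeal S) = q ∧
      ∀ a : A, IsLocalRing.residue S (f a) = τ (algebraMap A q.ResidueField a) := by
  have hτinj : Function.Injective τ := τ.injective
  let χ : A →ₐ[R] IsLocalRing.ResidueField S :=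
    { τ.comp (algebraMap A q.ResidueField) with
      commutes' := fun r => by
        have := congrArg (fun g => g r) hτ
        simp only [RingHom.comp_apply] at this
        show τ (algebraMap A q.ResidueField (algebraMap R A r)) = _
        rw [← IsScalarTower.algebraMap_apply R A q.ResidueField, this]
        rfl }
  have hχ : ∀ a : A, χ a = τ (algebraMap A q.ResidueField a) := fun a => rfl
  have hχ0 : ∀ a : A, χ a = 0 ↔ a ∈ q := by
    intro a
    rw [hχ, map_eq_zero_iff τ hτinj, Ideal.algebraMap_residueField_eq_zero]
  obtain ⟨φ, hφ⟩ := Groth.Agent.Lib.Helper5.exists_algHom_localization_of_etale (A := R) (C := A)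
    (B := S) q χ (fun c hc h0 => hc ((hχ0 c).mp h0))
  let f : A →ₐ[R] S := φ.comp (IsScalarTower.toAlgHom R A (Localization.AtPrime q))
  have hf : ∀ a : A, IsLocalRing.residue S (f a) = τ (algebraMap A q.ResidueField a) :=
    fun a => (hφ a).trans (hχ a)
  refine ⟨f, ⟨?_, hf⟩, ?_⟩
  · ext a
    rw [Ideal.mem_comap]
    show f a ∈ IsLocalRing.maximalIdeal S ↔ a ∈ q
    rw [← IsLocalRing.residue_eq_zero_iff, hf, map_eq_zero_iff τ hτinj,
      Ideal.algebraMap_residueField_eq_zero]
  · rintro g ⟨-, hg⟩
    apply Groth.Agent.S2782.algHom_eq_of_residue_eq_of_unramified R A S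
    intro x
    rw [hg, hf]

end Groth.Agent.S0501
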