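import Groth.Statements.S0520
import Groth.Agent.Lib.Helper26.HenselTFAE

set_option autoImplicit false
universe u
open Hensel

namespace Groth.Agent.S0520

/-- A ring `A` is Henselian at an ideal `I` in Mathlib's sense (simple roots lift) exactly when `I` lies
in the Jacobson radical and every factorization of the reduction of a monic polynomial into two
comaximal monic factors over `A/I` lifts to a factorization into monic polynomials over `A`. -/
theorem result (A : Type u) [CommRing A] (I : Ideal A) :
    HenselianRing A I ↔ (I ≤ Ideal.jacobson ⊥ ∧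
      ∀ f : Polynomial A, f.Monic → ∀ g₀ h₀ : Polynomial (A ⧸ I), g₀.Monic → h₀.Monic →
        IsCoprime g₀ h₀ → Polynomial.map (Ideal.Quotient.mk I) f = g₀ * h₀ →
        ∃ g h : Polynomial A, g.Monic ∧ h.Monic ∧ f = g * h ∧
          Polynomial.map (Ideal.Quotient.mk I) g = g₀ ∧ Polynomial.map (Ideal.Quotient.mk I) h = h₀) := by
  constructor
  · intro H
    exact ⟨H.jac, Groth.Agent.Lib.Helper26.HenselTFAE.liftsFactorizations_of_liftsEtale I
      (Groth.Agent.Lib.Helper26.HenselTFAE.liftsEtale_of_henselianRing I)⟩
  · rintro ⟨hI, h⟩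
    exact Groth.Agent.Lib.Helper26.HenselTFAE.henselianRing_of_liftsFactorizations I hI h

end Groth.Agent.S0520
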