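import Groth.Statements.S0524
import Groth.Agent.Lib.Helper26.HenselTFAE

set_option autoImplicit false
universe u
open Hensel

namespace Groth.Agent.S0524

/-- (1) iff (5) with the uniqueness complement: `A` is Henselian at `I` exactly when `I` lies in the
Jacobson radical and, for every `n ≥ 1` and every polynomial `p` of degree at most `n` with all
coefficients in `I`, the polynomial `Tⁿ(T-1) + p` has exactly one root congruent to `1` modulo `I`. -/
theorem result (A : Type u) [CommRing A] (I : Ideal A) :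
    HenselianRing A I ↔ (I ≤ Ideal.jacobson ⊥ ∧
      ∀ (n : ℕ), 0 < n → ∀ p : Polynomial A, p.natDegree ≤ n → (∀ i, p.coeff i ∈ I) →
        ∃! α : A, α - 1 ∈ I ∧
          Polynomial.IsRoot (Polynomial.X ^ n * (Polynomial.X - 1) + p) α) := by
  constructor
  · intro H
    refine ⟨H.jac, ?_⟩
    intro n hn p hp hpI
    obtain ⟨α, hα1, hα2⟩ :=
      Groth.Agent.Lib.Helper26.HenselGabber.gabber_of_henselianRing I n hn p hp hpI
    refine ⟨α, ⟨hα1, hα2⟩, ?_⟩
    rintro β ⟨hβ1, hβ2⟩
    exact Groth.Agent.Lib.Helper26.HenselGabber.gabber_root_unique I H.jac n p hpI β α hβ1 hα1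
      hβ2 hα2
  · rintro ⟨hI, hG⟩
    apply Groth.Agent.Lib.Helper26.HenselTFAE.henselianRing_of_gabber I hI
    intro n hn p hp hpI
    obtain ⟨α, ⟨hα1, hα2⟩, -⟩ := hG n hn p hp hpI
    exact ⟨α, hα1, hα2⟩

end Groth.Agent.S0524
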