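import Groth.Statements.S0527
import Groth.Agent.Lib.Helper3.HenselPair

set_option autoImplicit false
universe u
open Hensel

namespace Groth.Agent.S0527

/-- A ring is Henselian at any locally nilpotent ideal, i.e. an ideal all of whose elements are
nilpotent. -/
theorem result (A : Type u) [CommRing A] (I : Ideal A) (hI : ∀ x ∈ I, IsNilpotent x) :
    HenselianRing A I := by
  have h0 : HenselianRing A (⊥ : Ideal A) := by
    refine ⟨bot_le, fun f _ a₀ h₁ _ => ⟨a₀, ?_, by simp⟩⟩
    simpa using h₁
  refine Groth.Agent.Lib.Helper3.henselianRing_of_le_radical h0 ?_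
  intro x hx
  obtain ⟨n, hn⟩ := hI x hx
  exact ⟨n, by simp [hn]⟩

end Groth.Agent.S0527
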