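import Groth.Statements.S0529
import Groth.Agent.Lib.Helper26.HenselBasic

set_option autoImplicit false
universe u
open Hensel

namespace Groth.Agent.S0529

open Polynomial Groth.Agent.Lib.Helper26.HenselBasic

section

variable {J : Type u} {A : J → Type u} [∀ j, CommRing (A j)]

lemma mem_iInf_iff (I : ∀ j, Ideal (A j)) (x : ∀ j, A j) :
    x ∈ (⨅ j, Ideal.comap (Pi.evalRingHom A j) (I j)) ↔ ∀ j, x j ∈ I j := by
  simp [Ideal.mem_iInf, Ideal.mem_comap]

lemma eval_apply (F : (∀ j, A j)[X]) (a : ∀ j, A j) (i : J) :
    (F.eval a) i = (F.map (Pi.evalRingHom A i)).eval (a i) := by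
  rw [Polynomial.eval_map]
  exact (Polynomial.eval₂_at_apply (Pi.evalRingHom A i) a).symm

/-- assemble a polynomial over the product from a family of polynomials of degree `≤ n` -/
noncomputable def assemble (n : ℕ) (G : ∀ i, (A i)[X]) : (∀ j, A j)[X] :=
  ∑ k ∈ Finset.range (n + 1), Polynomial.monomial k (fun i => (G i).coeff k)

lemma coeff_assemble (n : ℕ) (G : ∀ i, (A i)[X]) (k : ℕ) :
    (assemble n G).coeff k = if k ≤ n then (fun i => (G i).coeff k) else 0 := by
  classical
  rw [assemble, Polynomial.finset_sum_coeff]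
  simp only [Polynomial.coeff_monomial]
  rw [Finset.sum_ite_eq' (Finset.range (n + 1)) k]
  simp [Nat.lt_succ_iff]

lemma map_assemble (n : ℕ) (G : ∀ i, (A i)[X]) (hG : ∀ i, (G i).natDegree ≤ n) (i : J) :
    (assemble n G).map (Pi.evalRingHom A i) = G i := by
  ext k
  rw [Polynomial.coeff_map, coeff_assemble]
  by_cases hk : k ≤ n
  · simp [hk]
  · simp only [hk, if_false, map_zero]
    exact (Polynomial.coeff_eq_zero_of_natDegree_lt (lt_of_le_of_lt (hG i) (not_le.mp hk))).symm

lemma monic_assemble (n : ℕ) (G : ∀ i, (A i)[X]) (hG : ∀ i, (G i).natDegree ≤ n)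
    (hG1 : ∀ i, (G i).coeff n = 1) : (assemble n G).Monic := by
  apply Polynomial.monic_of_natDegree_le_of_coeff_eq_one n
  · rw [Polynomial.natDegree_le_iff_coeff_eq_zero]
    intro N hN
    rw [coeff_assemble]
    simp [not_le.mpr hN]
  · rw [coeff_assemble]
    simp only [le_refl, if_true]
    funext i
    exact hG1 i

end

/-- A product of rings, with the product ideal, is Henselian exactly when every factor is Henselian at
its ideal. -/
theorem result (J : Type u) (A : J → Type u) [∀ j, CommRing (A j)]
    (I : ∀ j, Ideal (A j)) :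
    HenselianRing (∀ j, A j) (⨅ j, Ideal.comap (Pi.evalRingHom A j) (I j)) ↔
      ∀ j, HenselianRing (A j) (I j) := by
  classical
  constructor
  · intro H j
    have hjac : I j ≤ Ideal.jacobson ⊥ := by
      intro x hx
      rw [Ideal.mem_jacobson_bot]
      intro y
      have h1 : (Pi.single j x : ∀ j, A j) ∈ (⨅ j, Ideal.comap (Pi.evalRingHom A j) (I j)) := by
        rw [mem_iInf_iff]
        intro i
        by_cases hi : i = j
        · subst hi; simpa using hx
        · rw [Pi.single_eq_of_ne hi]; exact zero_mem _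
      have h2 := (Ideal.mem_jacobson_bot.mp (H.jac h1)) (Pi.single j y)
      have h3 := h2.map (Pi.evalRingHom A j)
      simpa using h3
    refine ⟨hjac, ?_⟩
    intro f hf a₀ h₁ h₂
    by_cases hn : f.natDegree = 0
    · -- f = 1, so the ring is trivial
      have hf1 : f = 1 := by
        rw [Polynomial.eq_C_of_natDegree_eq_zero hn]
        have : f.coeff 0 = 1 := by
          have := hf.coeff_natDegree
          rwa [hn] at this
        rw [this, map_one]
      rw [hf1, Polynomial.eval_one] at h₁
      have h1 : (1 : A j) ∈ Ideal.jacobson (⊥ : Ideal (A j)) := hjac h₁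
      have h2 : Ideal.jacobson (⊥ : Ideal (A j)) = ⊤ := (Ideal.eq_top_iff_one _).mpr h1
      rw [Ideal.jacobson_eq_top_iff] at h2
      haveI : Subsingleton (A j) := by
        rw [← Ideal.eq_top_iff_one, ← h2] at h1
        exact ⟨fun a b => by
          have ha : a ∈ (⊥ : Ideal (A j)) := by rw [h2]; trivial
          have hb : b ∈ (⊥ : Ideal (A j)) := by rw [h2]; trivial
          rw [Ideal.mem_bot] at ha hb
          rw [ha, hb]⟩
      exact ⟨a₀, Subsingleton.elim _ _, by rw [sub_self]; exact zero_mem _⟩
    set n := f.natDegree with hn_def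
    have hn1 : 1 ≤ n := Nat.one_le_iff_ne_zero.mpr hn
    let G : ∀ i, (A i)[X] := Function.update (fun i => X ^ n - X ^ (n - 1)) j f
    have hGj : G j = f := Function.update_self ..
    have hGi : ∀ i, i ≠ j → G i = X ^ n - X ^ (n - 1) := fun i hi =>
      Function.update_of_ne hi ..
    have hGdeg : ∀ i, (G i).natDegree ≤ n := by
      intro i
      by_cases hi : i = j
      · subst hi; rw [hGj]
      · rw [hGi i hi]
        refine (Polynomial.natDegree_sub_le _ _).trans ?_
        rw [max_le_iff]
        exact ⟨Polynomial.natDegree_X_pow_le n,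
          (Polynomial.natDegree_X_pow_le (n - 1)).trans (Nat.sub_le n 1)⟩
    have hG1 : ∀ i, (G i).coeff n = 1 := by
      intro i
      by_cases hi : i = j
      · subst hi; rw [hGj]; exact hf.coeff_natDegree
      · rw [hGi i hi, Polynomial.coeff_sub, Polynomial.coeff_X_pow, Polynomial.coeff_X_pow]
        have : n ≠ n - 1 := by omega
        simp [this]
    set F := assemble n G with hF
    have hFmonic : F.Monic := monic_assemble n G hGdeg hG1
    have hFmap : ∀ i, F.map (Pi.evalRingHom A i) = G i := map_assemble n G hGdeg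
    obtain ⟨b, hb⟩ := (isUnit_mk_iff_exists (I j) _).mp h₂
    let A₀ : ∀ i, A i := Function.update (fun i => 1) j a₀
    let B₀ : ∀ i, A i := Function.update (fun i => 1) j b
    have hA₀j : A₀ j = a₀ := Function.update_self ..
    have hA₀i : ∀ i, i ≠ j → A₀ i = 1 := fun i hi => Function.update_of_ne hi ..
    have hB₀j : B₀ j = b := Function.update_self ..
    have hB₀i : ∀ i, i ≠ j → B₀ i = 1 := fun i hi => Function.update_of_ne hi ..
    have e1 : F.eval A₀ ∈ (⨅ j, Ideal.comap (Pi.evalRingHom A j) (I j)) := by
      rw [mem_iInf_iff]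
      intro i
      rw [eval_apply, hFmap]
      by_cases hi : i = j
      · subst hi; rw [hGj, hA₀j]; exact h₁
      · rw [hGi i hi, hA₀i i hi]
        simp
    have e2 : IsUnit (Ideal.Quotient.mk (⨅ j, Ideal.comap (Pi.evalRingHom A j) (I j))
        (F.derivative.eval A₀)) := by
      rw [isUnit_mk_iff_exists]
      refine ⟨B₀, ?_⟩
      rw [mem_iInf_iff]
      intro i
      have : (Polynomial.eval A₀ (Polynomial.derivative F) * B₀ - 1) i =
          (Polynomial.eval A₀ (Polynomial.derivative F)) i * B₀ i - 1 := rfl
      rw [this, eval_apply, ← Polynomial.derivative_map, hFmap]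
      by_cases hi : i = j
      · subst hi; rw [hGj, hA₀j, hB₀j]; exact hb
      · rw [hGi i hi, hA₀i i hi, hB₀i i hi]
        simp only [Polynomial.derivative_sub, Polynomial.derivative_X_pow, Polynomial.eval_sub,
          Polynomial.eval_mul, Polynomial.eval_C, Polynomial.eval_pow, Polynomial.eval_X, one_pow,
          mul_one, Polynomial.eval_natCast]
        have : ((n : ℕ) : A i) - ((n - 1 : ℕ) : A i) - 1 = 0 := by
          rw [Nat.cast_sub hn1]; simp
        rw [this]
        exact zero_mem _
    obtain ⟨a, ha, ha'⟩ := H.is_henselian F hFmonic A₀ e1 e2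
    refine ⟨a j, ?_, ?_⟩
    · have := congrFun ha j
      rw [eval_apply, hFmap, hGj] at this
      exact this
    · have := (mem_iInf_iff I _).mp ha' j
      rw [Pi.sub_apply, hA₀j] at this
      exact this
  · intro H
    refine ⟨?_, ?_⟩
    · intro x hx
      rw [mem_iInf_iff] at hx
      rw [Ideal.mem_jacobson_bot]
      intro y
      rw [Pi.isUnit_iff]
      intro j
      exact (Ideal.mem_jacobson_bot.mp ((H j).jac (hx j))) (y j)
    · intro F hF A₀ h₁ h₂
      rw [mem_iInf_iff] at h₁
      obtain ⟨B₀, hB₀⟩ := (isUnit_mk_iff_exists _ _).mp h₂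
      rw [mem_iInf_iff] at hB₀
      have key : ∀ j, ∃ a : A j, (F.map (Pi.evalRingHom A j)).IsRoot a ∧ a - A₀ j ∈ I j := by
        intro j
        apply (H j).is_henselian _ (hF.map _) (A₀ j)
        · rw [← eval_apply]; exact h₁ j
        · rw [isUnit_mk_iff_exists]
          refine ⟨B₀ j, ?_⟩
          rw [Polynomial.derivative_map, ← eval_apply]
          exact hB₀ j
      choose a ha ha' using key
      refine ⟨a, ?_, ?_⟩
      · funext j
        rw [eval_apply]
        exact ha j
      · rw [mem_iInf_iff]
        exact ha'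

end Groth.Agent.S0529
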