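import Groth.Statements.S0530
import Groth.Agent.Lib.Helper26.HenselIdem

set_option autoImplicit false
universe u
open Hensel

namespace Groth.Agent.S0530

/-- If `A` is Henselian at `I` and `p` is a prime ideal of `A`, then the spectrum of `A/(p + I)` is
connected. -/
theorem result (A : Type u) [CommRing A] (I : Ideal A) [HenselianRing A I]
    (p : Ideal A) [p.IsPrime] : ConnectedSpace (PrimeSpectrum (A ⧸ p ⊔ I)) := by
  have hI : I ≤ Ideal.jacobson ⊥ := HenselianRing.jac
  have hF := Groth.Agent.Lib.Helper26.HenselTFAE.liftsFactorizations_of_liftsEtale I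
    (Groth.Agent.Lib.Helper26.HenselTFAE.liftsEtale_of_henselianRing I)
  haveI : Algebra.IsIntegral A (A ⧸ p) :=
    Algebra.IsIntegral.of_surjective (Ideal.Quotient.mkₐ A p) (Ideal.Quotient.mkₐ_surjective A p)
  have hbij := Groth.Agent.Lib.Helper26.HenselIdem.bijOn_idempotents I hI hF (A ⧸ p)
  -- the quotient ring is nontrivial
  have hne : p ⊔ I ≠ ⊤ := by
    obtain ⟨m, hm, hpm⟩ := Ideal.exists_le_maximal p (Ideal.IsPrime.ne_top inferInstance)
    intro htop
    apply hm.ne_top
    rw [eq_top_iff, ← htop]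
    refine sup_le hpm (hI.trans ?_)
    rw [Ideal.jacobson]
    exact sInf_le ⟨bot_le, hm⟩
  haveI : Nontrivial (A ⧸ p ⊔ I) := Ideal.Quotient.nontrivial_iff.mpr hne
  -- idempotents of `A/(p+I)` are trivial
  let φ : (A ⧸ p) ⧸ (I.map (Ideal.Quotient.mk p)) ≃+* A ⧸ p ⊔ I :=
    DoubleQuot.quotQuotEquivQuotSup p I
  have hidem : ∀ ε : A ⧸ p ⊔ I, IsIdempotentElem ε → ε = 0 ∨ ε = 1 := by
    intro ε hε
    have hε' : IsIdempotentElem (φ.symm ε) := hε.map φ.symm
    obtain ⟨e, he, hee⟩ := hbij.surjOn hε'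
    have he' : IsIdempotentElem e := he
    rcases (IsIdempotentElem.iff_eq_zero_or_one.mp he') with h0 | h1
    · left
      have : φ.symm ε = 0 := by rw [← hee, h0, map_zero]
      simpa using this
    · right
      have : φ.symm ε = 1 := by rw [← hee, h1, map_one]
      simpa using this
  haveI : PreconnectedSpace (PrimeSpectrum (A ⧸ p ⊔ I)) := by
    rw [preconnectedSpace_iff_clopen]
    intro s hs
    obtain ⟨e, he, rfl⟩ := PrimeSpectrum.isClopen_iff.mp hs
    rcases hidem e he with h0 | h1
    · left; rw [h0]; simp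
    · right; rw [h1]; simp
  exact ConnectedSpace.mk inferInstance

end Groth.Agent.S0530
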