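import Groth.Statements.S0531
import Groth.Agent.Lib.Helper26.HenselIdem
import Groth.Agent.S0526

set_option autoImplicit false
universe u
open Hensel

namespace Groth.Agent.S0531

open Groth.Agent.Lib.Helper26.HenselBasic in
/-- The sum of two Henselian ideals is Henselian. -/
theorem henselianRing_sup {A : Type u} [CommRing A] (J₁ J₂ : Ideal A) (h₁ : HenselianRing A J₁)
    (h₂ : HenselianRing A J₂) : HenselianRing A (J₁ ⊔ J₂) := by
  apply henselianRing_of_quotient J₁ (J₁ ⊔ J₂) le_sup_left h₁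
  haveI : Algebra.IsIntegral A (A ⧸ J₁) :=
    Algebra.IsIntegral.of_surjective (Ideal.Quotient.mkₐ A J₁) (Ideal.Quotient.mkₐ_surjective A J₁)
  have h := Groth.Agent.S0526.result A J₂ (A ⧸ J₁)
  have hmap : (J₁ ⊔ J₂).map (Ideal.Quotient.mk J₁) = J₂.map (algebraMap A (A ⧸ J₁)) := by
    rw [Ideal.map_sup, Ideal.map_quotient_self, bot_sup_eq]
    rfl
  rw [hmap]
  exact h

theorem henselianRing_bot {A : Type u} [CommRing A] : HenselianRing A (⊥ : Ideal A) := by
  refine ⟨bot_le, ?_⟩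
  intro f _ a₀ h₁ _
  exact ⟨a₀, (Ideal.mem_bot.mp h₁), by rw [sub_self]; exact zero_mem _⟩

theorem henselianRing_finset_sup {A : Type u} [CommRing A] (s : Finset (Ideal A))
    (hs : ∀ J ∈ s, HenselianRing A J) : HenselianRing A (s.sup id) := by
  classical
  induction s using Finset.induction_on with
  | empty => simpa using henselianRing_bot
  | insert J s _ ih =>
    rw [Finset.sup_insert]
    exact henselianRing_sup _ _ (hs J (Finset.mem_insert_self _ _))
      (ih (fun K hK => hs K (Finset.mem_insert_of_mem hK)))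

/-- Every ring has a largest ideal at which it is Henselian. -/
theorem result (A : Type u) [CommRing A] :
    ∃ I : Ideal A, HenselianRing A I ∧ ∀ J : Ideal A, HenselianRing A J → J ≤ I := by
  classical
  let 𝒮 : Set (Ideal A) := {J | HenselianRing A J}
  have hfin : ∀ x ∈ sSup 𝒮, ∃ K : Ideal A, HenselianRing A K ∧ K ≤ sSup 𝒮 ∧ x ∈ K := by
    intro x hx
    obtain ⟨s, hs, hxs⟩ := (Submodule.mem_sSup_iff_exists_finset).mp hx
    refine ⟨s.sup id, henselianRing_finset_sup s (fun J hJ => hs hJ), ?_, ?_⟩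
    · apply Finset.sup_le
      intro J hJ
      exact le_sSup (hs hJ)
    · rw [Finset.sup_eq_iSup]
      exact hxs
  refine ⟨sSup 𝒮, ⟨?_, ?_⟩, fun J hJ => le_sSup hJ⟩
  · intro x hx
    obtain ⟨K, hK, -, hxK⟩ := hfin x hx
    exact hK.jac hxK
  · intro f hf a₀ h₁ h₂
    obtain ⟨y, hy⟩ := (Groth.Agent.Lib.Helper26.HenselBasic.isUnit_mk_iff_exists _ _).mp h₂
    obtain ⟨K₁, hK₁, hK₁le, hx₁⟩ := hfin _ h₁
    obtain ⟨K₂, hK₂, hK₂le, hx₂⟩ := hfin _ hy
    have hK := henselianRing_sup K₁ K₂ hK₁ hK₂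
    obtain ⟨a, ha, ha'⟩ := hK.is_henselian f hf a₀ (Ideal.mem_sup_left hx₁) (by
      rw [Groth.Agent.Lib.Helper26.HenselBasic.isUnit_mk_iff_exists]
      exact ⟨y, Ideal.mem_sup_right hx₂⟩)
    exact ⟨a, ha, (sup_le hK₁le hK₂le) ha'⟩

end Groth.Agent.S0531
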