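import Groth.Statements.S0532
import Groth.Agent.Lib.Helper26.HenselFEtLift

set_option autoImplicit false
universe u
open Hensel

namespace Groth.Agent.S0532

open TensorProduct

/-- If `A` is Henselian at `I`, every finite étale `A/I`-algebra is the base change of a finite étale
`A`-algebra. -/
theorem result (A : Type u) [CommRing A] (I : Ideal A) [HenselianRing A I]
    (C : Type u) [CommRing C] [Algebra (A ⧸ I) C] [Module.Finite (A ⧸ I) C] [Algebra.Etale (A ⧸ I) C] :
    ∃ (B : Type u) (_ : CommRing B) (_ : Algebra A B), Module.Finite A B ∧ Algebra.Etale A B ∧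
      Nonempty (TensorProduct A (A ⧸ I) B ≃ₐ[A ⧸ I] C) := by
  classical
  have hI : I ≤ Ideal.jacobson ⊥ := HenselianRing.jac
  have hF := Groth.Agent.Lib.Helper26.HenselTFAE.liftsFactorizations_of_liftsEtale I
    (Groth.Agent.Lib.Helper26.HenselTFAE.liftsEtale_of_henselianRing I)
  letI : Algebra A C := Algebra.compHom C (algebraMap A (A ⧸ I))
  haveI : IsScalarTower A (A ⧸ I) C := IsScalarTower.of_algebraMap_eq (fun _ => rfl)
  haveI : Module.FinitePresentation (A ⧸ I) C :=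
    Module.FinitePresentation.of_finite_of_finitePresentation (A ⧸ I) C
  obtain ⟨B', _, _, _, π, hπ, hker⟩ :=
    Groth.Agent.Lib.Helper26.HenselFEtLift.exists_etale_lift A I C
  obtain ⟨B, _, _, hfin, hEt, φ, hφ, hkerφ⟩ :=
    Groth.Agent.Lib.Helper26.HenselFEtLift.exists_finite_etale hI hF B' C π hπ hker
  refine ⟨B, inferInstance, inferInstance, hfin, hEt, ?_⟩
  let Ψ : TensorProduct A (A ⧸ I) B →ₐ[A ⧸ I] C :=
    Algebra.TensorProduct.lift (Algebra.ofId (A ⧸ I) C) φ (fun _ _ => Commute.all _ _)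
  have hΨ1 : ∀ b : B, Ψ ((1 : A ⧸ I) ⊗ₜ[A] b) = φ b := by
    intro b; simp [Ψ]
  refine ⟨AlgEquiv.ofBijective Ψ ⟨?_, ?_⟩⟩
  · rw [injective_iff_map_eq_zero]
    intro x hx
    obtain ⟨b, rfl⟩ := Groth.Agent.Lib.Helper26.HenselFEtLift.exists_one_tmul I x
    rw [hΨ1] at hx
    have hb : b ∈ I.map (algebraMap A B) := by rw [← hkerφ]; exact hx
    exact Groth.Agent.Lib.Helper26.HenselFEtLift.tmul_eq_zero_of_mem I b hb
  · intro c
    obtain ⟨b, rfl⟩ := hφ c
    exact ⟨(1 : A ⧸ I) ⊗ₜ[A] b, hΨ1 b⟩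

end Groth.Agent.S0532
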