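import Groth.Statements.S0533
import Groth.Agent.Lib.Helper26.HenselFEt

set_option autoImplicit false
universe u
open Hensel

namespace Groth.Agent.S0533

/-- If `A` is Henselian at `I`, base change to `A/I` gives a bijection between `A`-algebra maps of two
finite étale `A`-algebras and `A/I`-algebra maps of their reductions. -/
theorem result (A : Type u) [CommRing A] (I : Ideal A) [HenselianRing A I]
    (B₁ B₂ : Type u) [CommRing B₁] [CommRing B₂] [Algebra A B₁] [Algebra A B₂]
    [Module.Finite A B₁] [Algebra.Etale A B₁] [Module.Finite A B₂] [Algebra.Etale A B₂] :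
    Function.Bijective (fun φ : B₁ →ₐ[A] B₂ =>
      Algebra.TensorProduct.map (AlgHom.id (A ⧸ I) (A ⧸ I)) φ) := by
  have hI : I ≤ Ideal.jacobson ⊥ := HenselianRing.jac
  haveI : Algebra.IsIntegral A B₂ := Algebra.IsIntegral.of_finite A B₂
  constructor
  · intro φ φ' h
    apply Groth.Agent.Lib.Helper26.HenselFEt.algHom_eq_of_sub_mem I hI
    intro s
    apply Groth.Agent.Lib.Helper26.HenselFEt.mem_map_of_tmul_eq_zero
    have := DFunLike.congr_fun h ((1 : A ⧸ I) ⊗ₜ[A] s)
    simp only [Algebra.TensorProduct.map_tmul, AlgHom.id_apply] at this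
    rw [TensorProduct.tmul_sub, this, sub_self]
  · intro ψ
    exact Groth.Agent.Lib.Helper26.HenselFEt.exists_algHom_lift I B₁ B₂ ψ

end Groth.Agent.S0533
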