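import Groth.Statements.S0544
import Groth.Agent.Lib.Helper15.AdicLimit

set_option autoImplicit false
universe u
open CAlg

namespace Groth.Agent.S0544

/-- Let `R` be complete with respect to an ideal `I` and `M` an `R`-module which is `I`-adically
separated and such that `M/IM` is finitely generated. Then `M` is a finitely generated `R`-module. -/
theorem result (R : Type u) [CommRing R]
    (I : Ideal R) [IsAdicComplete I R] (M : Type u) [AddCommGroup M] [Module R M] [IsHausdorff I M]
    (h : Module.Finite R (M ⧸ (I • ⊤ : Submodule R M))) : Module.Finite R M := by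
  classical
  obtain ⟨r, g, hg⟩ := Module.Finite.exists_fin (R := R) (M := M ⧸ (I • ⊤ : Submodule R M))
  choose ℓ hℓ using fun i => Submodule.mkQ_surjective (I • ⊤ : Submodule R M) (g i)
  let φ : (Fin r → R) →ₗ[R] M := Fintype.linearCombination R ℓ
  haveI : IsPrecomplete I (Fin r → R) := Groth.Agent.Lib.Helper15.AL.isPrecomplete_pi I
  have hφ : Function.Surjective (Submodule.mkQ (I • ⊤ : Submodule R M) ∘ₗ φ) := by
    intro q
    have hq : q ∈ Submodule.span R (Set.range g) := by rw [hg]; trivial
    obtain ⟨a, ha⟩ := (Submodule.mem_span_range_iff_exists_fun R).mp hq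
    refine ⟨a, ?_⟩
    rw [LinearMap.comp_apply, ← ha]
    simp only [φ, Fintype.linearCombination_apply, map_sum, map_smul, hℓ]
  exact Module.Finite.of_surjective φ (surjective_of_mkQ_comp_surjective hφ)

end Groth.Agent.S0544
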