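import Groth.Statements.S17537
-- import your own Groth.Agent.* helpers here

set_option autoImplicit false
universe u v
open CAlg

namespace Groth.Agent.S17537

/-- For a commutative ring A, an ideal I and an A-module M, the I-adic completion M^ of M is itself
I-adically complete if and only if, for every n, every element of M^ is congruent modulo I^n M^ to
the image of an element of M (the maps M/I^n M → M^/I^n M^ are surjective). -/
theorem result {A : Type u} [CommRing A] (I : Ideal A)
    (M : Type v) [AddCommGroup M] [Module A M] :
    IsAdicComplete I (AdicCompletion I M) ↔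
      ∀ (n : ℕ) (x : AdicCompletion I M), ∃ y : M,
        x - AdicCompletion.of I M y ∈ (I ^ n • ⊤ : Submodule A (AdicCompletion I M)) := by
  have hJK : ∀ n, (I ^ n • ⊤ : Submodule A (AdicCompletion I M)) ≤
      LinearMap.ker (AdicCompletion.eval I M n) :=
    fun n => AdicCompletion.pow_smul_top_le_ker_eval (I := I) (M := M) n
  have hof : ∀ n (y : M), y ∈ (I ^ n • ⊤ : Submodule A M) →
      AdicCompletion.of I M y ∈ (I ^ n • ⊤ : Submodule A (AdicCompletion I M)) := by
    intro n y hy
    have hle : (I ^ n • ⊤ : Submodule A M) ≤
        (I ^ n • ⊤ : Submodule A (AdicCompletion I M)).comap (AdicCompletion.of I M) := by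
      rw [← Submodule.map_le_iff_le_comap, Submodule.map_smul'']
      exact Submodule.smul_mono le_rfl le_top
    exact hle hy
  have hofK : ∀ n (y : M), AdicCompletion.of I M y ∈ LinearMap.ker (AdicCompletion.eval I M n) →
      y ∈ (I ^ n • ⊤ : Submodule A M) := by
    intro n y hy
    rw [LinearMap.mem_ker, AdicCompletion.eval_of, Submodule.mkQ_apply,
      Submodule.Quotient.mk_eq_zero] at hy
    exact hy
  have hKmono : ∀ {m k : ℕ}, m ≤ k → ∀ w : AdicCompletion I M,
      w ∈ LinearMap.ker (AdicCompletion.eval I M k) →
        w ∈ LinearMap.ker (AdicCompletion.eval I M m) := by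
    intro m k hmk w hw
    rw [LinearMap.mem_ker, AdicCompletion.eval_apply] at hw ⊢
    rw [← AdicCompletion.transitionMap_comp_eval_apply I M hmk, hw, map_zero]
  constructor
  · intro hc n x
    obtain ⟨y, hy⟩ := Submodule.mkQ_surjective (I ^ n • ⊤ : Submodule A M) (x.val n)
    refine ⟨y, ?_⟩
    set z := x - AdicCompletion.of I M y with hz
    have hzK : z ∈ LinearMap.ker (AdicCompletion.eval I M n) := by
      rw [LinearMap.mem_ker, hz, map_sub, AdicCompletion.eval_of, AdicCompletion.eval_apply, hy,
        sub_self]
    choose t ht using fun k => Submodule.mkQ_surjective (I ^ k • ⊤ : Submodule A M) (z.val k)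
    let s : ℕ → AdicCompletion I M := fun k => AdicCompletion.of I M (t k)
    have hzs : ∀ k, z - s k ∈ LinearMap.ker (AdicCompletion.eval I M k) := by
      intro k
      rw [LinearMap.mem_ker, map_sub, AdicCompletion.eval_of, AdicCompletion.eval_apply, ht,
        sub_self]
    have hcauchy : ∀ {m k}, m ≤ k →
        s m ≡ s k [SMOD (I ^ m • ⊤ : Submodule A (AdicCompletion I M))] := by
      intro m k hmk
      rw [SModEq.sub_mem]
      show AdicCompletion.of I M (t m) - AdicCompletion.of I M (t k) ∈ _
      rw [← map_sub]
      apply hof
      apply hofK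
      rw [map_sub]
      have h1 := hzs m
      have h2 := hKmono hmk _ (hzs k)
      have h3 : s m - s k = (z - s k) - (z - s m) := by abel
      show s m - s k ∈ _
      rw [h3]
      exact Submodule.sub_mem _ h2 h1
    obtain ⟨L, hL⟩ := hc.toIsPrecomplete.prec' s hcauchy
    have hzL : z = L := by
      apply sub_eq_zero.mp
      apply AdicCompletion.ext
      intro k
      have h1 := hzs k
      have h2 : s k - L ∈ LinearMap.ker (AdicCompletion.eval I M k) :=
        hJK k ((SModEq.sub_mem).mp (hL k))
      have h3 : z - L = (z - s k) + (s k - L) := by abel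
      rw [h3]
      exact LinearMap.mem_ker.mp (Submodule.add_mem _ h1 h2)
    have h1 : z - s n ∈ (I ^ n • ⊤ : Submodule A (AdicCompletion I M)) := by
      rw [hzL]
      have h4 := (SModEq.sub_mem).mp (hL n)
      have h5 : L - s n = -(s n - L) := by abel
      rw [h5]
      exact Submodule.neg_mem _ h4
    have h2 : s n ∈ (I ^ n • ⊤ : Submodule A (AdicCompletion I M)) := by
      apply hof
      apply hofK
      have h6 : s n = z - (z - s n) := by abel
      show s n ∈ _
      rw [h6]
      exact Submodule.sub_mem _ hzK (hzs n)
    have h7 : z = (z - s n) + s n := by abel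
    rw [h7]
    exact Submodule.add_mem _ h1 h2
  · intro H
    have hKJ : ∀ n, LinearMap.ker (AdicCompletion.eval I M n) ≤
        (I ^ n • ⊤ : Submodule A (AdicCompletion I M)) := by
      intro n z hz
      obtain ⟨y, hy⟩ := H n z
      have hofy : AdicCompletion.of I M y ∈ LinearMap.ker (AdicCompletion.eval I M n) := by
        have h1 : AdicCompletion.of I M y = z - (z - AdicCompletion.of I M y) := by abel
        rw [h1]
        exact Submodule.sub_mem _ hz (hJK n hy)
      have h2 := hof n y (hofK n y hofy)
      have hz' : z = (z - AdicCompletion.of I M y) + AdicCompletion.of I M y := by abel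
      rw [hz']
      exact Submodule.add_mem _ hy h2
    refine { toIsHausdorff := inferInstance, toIsPrecomplete := ⟨fun x hx => ?_⟩ }
    let L : AdicCompletion I M :=
      { val := fun i => (x i).val i
        property := by
          intro m n h'
          simp only [AdicCompletion.transitionMap_comp_eval_apply]
          have h1 := hx h'
          rw [SModEq.sub_mem] at h1
          have h2 := hJK m h1
          rw [LinearMap.mem_ker, map_sub, sub_eq_zero, AdicCompletion.eval_apply,
            AdicCompletion.eval_apply] at h2
          exact h2.symm }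
    refine ⟨L, fun i => ?_⟩
    rw [SModEq.sub_mem]
    apply hKJ
    rw [LinearMap.mem_ker, map_sub, sub_eq_zero, AdicCompletion.eval_apply,
      AdicCompletion.eval_apply]

end Groth.Agent.S17537
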