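import Groth.Statements.S17539
import Groth.Agent.S17537

set_option autoImplicit false
universe u v w
open W4c5adicflatcompl
open CAlg

namespace Groth.Agent.S17539

section helpers
variable {A : Type u} [CommRing A] (I : Ideal A) {Z : Type v} {M : Type w} [AddCommGroup M]
  [Module A M]

lemma finsupp_mem_smul_top (n : ℕ) (f : Z →₀ M) (hf : ∀ z, f z ∈ (I ^ n • ⊤ : Submodule A M)) :
    f ∈ (I ^ n • ⊤ : Submodule A (Z →₀ M)) := by
  classical
  have hsingle : ∀ (z : Z) (y : M), y ∈ (I ^ n • ⊤ : Submodule A M) →
      Finsupp.single z y ∈ (I ^ n • ⊤ : Submodule A (Z →₀ M)) := by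
    intro z y hy
    have hle : (I ^ n • ⊤ : Submodule A M) ≤
        (I ^ n • ⊤ : Submodule A (Z →₀ M)).comap (Finsupp.lsingle z) := by
      rw [← Submodule.map_le_iff_le_comap, Submodule.map_smul'']
      exact Submodule.smul_mono le_rfl le_top
    exact hle hy
  rw [← Finsupp.sum_single f]
  exact Submodule.sum_mem _ fun z _ => hsingle z (f z) (hf z)

end helpers

/-- For a commutative ring A, an ideal I, a set Z and an A-module M whose I-adic completion M^ is itself
I-adically complete, the canonical map from the I-adic completion of Z →₀ M to the functions Z → M^,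
whose z-th coordinate is the completion of evaluation at z, is injective with image the I-adically
decaying functions Z → M^. (The source states bijectivity of the inverse map, from decaying
functions to the limit of the finitely supported functions Z → M/I^n M, induced by the projections
M^ → M/I^n M; the two formulations are equivalent.) -/
theorem result {A : Type u} [CommRing A] (I : Ideal A) (Z : Type v)
    (M : Type w) [AddCommGroup M] [Module A M] [IsAdicComplete I (AdicCompletion I M)] :
    Function.Injective
        (LinearMap.pi fun z : Z =>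
          (AdicCompletion.map I (Finsupp.lapply (M := M) (R := A) z)).restrictScalars A) ∧
      LinearMap.range
        (LinearMap.pi fun z : Z =>
          (AdicCompletion.map I (Finsupp.lapply (M := M) (R := A) z)).restrictScalars A) =
        decaying I Z (AdicCompletion I M) := by
  classical
  set Φ := (LinearMap.pi fun z : Z =>
    (AdicCompletion.map I (Finsupp.lapply (M := M) (R := A) z)).restrictScalars A) with hΦ
  have hΦval : ∀ (ξ : AdicCompletion I (Z →₀ M)) (z : Z) (n : ℕ) (f : Z →₀ M),
      ξ.val n = Submodule.Quotient.mk f → (Φ ξ z).val n = Submodule.Quotient.mk (f z) := by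
    intro ξ z n f hf
    show (AdicCompletion.map I (Finsupp.lapply z) ξ).val n = _
    rw [AdicCompletion.map_val_apply, hf, LinearMap.reduceModIdeal_apply]
    rfl
  have hJK : ∀ n, (I ^ n • ⊤ : Submodule A (AdicCompletion I M)) ≤
      LinearMap.ker (AdicCompletion.eval I M n) :=
    fun n => AdicCompletion.pow_smul_top_le_ker_eval (I := I) (M := M) n
  have hJval : ∀ n (w : AdicCompletion I M),
      w ∈ (I ^ n • ⊤ : Submodule A (AdicCompletion I M)) → w.val n = 0 := by
    intro n w hw
    have := LinearMap.mem_ker.mp (hJK n hw)
    rwa [AdicCompletion.eval_apply] at this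
  have hof : ∀ n (y : M), y ∈ (I ^ n • ⊤ : Submodule A M) →
      AdicCompletion.of I M y ∈ (I ^ n • ⊤ : Submodule A (AdicCompletion I M)) := by
    intro n y hy
    have hle : (I ^ n • ⊤ : Submodule A M) ≤
        (I ^ n • ⊤ : Submodule A (AdicCompletion I M)).comap (AdicCompletion.of I M) := by
      rw [← Submodule.map_le_iff_le_comap, Submodule.map_smul'']
      exact Submodule.smul_mono le_rfl le_top
    exact hle hy
  have hKJ : ∀ n (w : AdicCompletion I M), w.val n = 0 →
      w ∈ (I ^ n • ⊤ : Submodule A (AdicCompletion I M)) := by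
    intro n w hw
    obtain ⟨y, hy⟩ := (Groth.Agent.S17537.result I M).mp inferInstance n w
    have h1 : (AdicCompletion.of I M y).val n = 0 := by
      have h0 := hJval n _ hy
      rw [AdicCompletion.val_sub_apply, hw, zero_sub, neg_eq_zero] at h0
      exact h0
    rw [AdicCompletion.of_apply, Submodule.mkQ_apply, Submodule.Quotient.mk_eq_zero] at h1
    have h2 := hof n y h1
    have h3 : w = (w - AdicCompletion.of I M y) + AdicCompletion.of I M y := by abel
    rw [h3]
    exact Submodule.add_mem _ hy h2
  have hJmono : ∀ {m n : ℕ}, m ≤ n → (I ^ n • ⊤ : Submodule A (AdicCompletion I M)) ≤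
      (I ^ m • ⊤ : Submodule A (AdicCompletion I M)) :=
    fun hmn => Submodule.smul_mono (Ideal.pow_le_pow_right hmn) le_rfl
  refine ⟨?_, le_antisymm ?_ ?_⟩
  · -- injectivity
    rw [← LinearMap.ker_eq_bot, Submodule.eq_bot_iff]
    intro ξ hξ
    rw [LinearMap.mem_ker] at hξ
    apply AdicCompletion.ext
    intro n
    obtain ⟨f, hf⟩ := Submodule.mkQ_surjective (I ^ n • ⊤ : Submodule A (Z →₀ M)) (ξ.val n)
    rw [Submodule.mkQ_apply] at hf
    rw [AdicCompletion.val_zero_apply, ← hf, Submodule.Quotient.mk_eq_zero]
    apply finsupp_mem_smul_top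
    intro z
    have h1 := hΦval ξ z n f hf.symm
    rw [hξ] at h1
    have h2 : ((0 : Z → AdicCompletion I M) z).val n = 0 := rfl
    rw [h2] at h1
    exact (Submodule.Quotient.mk_eq_zero _).mp h1.symm
  · -- range ≤ decaying
    rintro _ ⟨ξ, rfl⟩
    intro n
    obtain ⟨f, hf⟩ := Submodule.mkQ_surjective (I ^ n • ⊤ : Submodule A (Z →₀ M)) (ξ.val n)
    rw [Submodule.mkQ_apply] at hf
    refine f.support.finite_toSet.subset ?_
    intro z hz
    by_contra hzS
    apply hz
    apply hKJ
    rw [hΦval ξ z n f hf.symm]
    have : f z = 0 := Finsupp.notMem_support_iff.mp hzS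
    rw [this]
    rfl
  · -- decaying ≤ range
    intro h hh
    have hfin : ∀ n, {z | h z ∉ (I ^ n • ⊤ : Submodule A (AdicCompletion I M))}.Finite := hh
    choose t ht using fun (n : ℕ) (z : Z) =>
      Submodule.mkQ_surjective (I ^ n • ⊤ : Submodule A M) ((h z).val n)
    let f : ℕ → (Z →₀ M) := fun n =>
      Finsupp.onFinset (hfin n).toFinset
        (fun z => if h z ∈ (I ^ n • ⊤ : Submodule A (AdicCompletion I M)) then 0 else t n z)
        (by
          intro z hz
          rw [Set.Finite.mem_toFinset]
          intro hmem
          exact hz (if_pos hmem))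
    have hf_apply : ∀ n z, f n z =
        if h z ∈ (I ^ n • ⊤ : Submodule A (AdicCompletion I M)) then 0 else t n z :=
      fun n z => rfl
    have hP : ∀ {m n : ℕ} (hmn : m ≤ n) (z : Z),
        (Submodule.Quotient.mk (f n z) : M ⧸ (I ^ m • ⊤ : Submodule A M)) = (h z).val m := by
      intro m n hmn z
      rw [hf_apply]
      split_ifs with hz
      · rw [hJval m (h z) (hJmono hmn hz)]
        exact (Submodule.Quotient.mk_eq_zero _).mpr (Submodule.zero_mem _)
      · have h1 := ht n z
        rw [Submodule.mkQ_apply] at h1
        rw [← AdicCompletion.transitionMap_comp_eval_apply I M hmn (h z), ← h1]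
        rfl
    have hcompat : ∀ {m n : ℕ} (hmn : m ≤ n),
        (Submodule.Quotient.mk (f n) : (Z →₀ M) ⧸ (I ^ m • ⊤ : Submodule A (Z →₀ M))) =
          Submodule.Quotient.mk (f m) := by
      intro m n hmn
      rw [Submodule.Quotient.eq]
      apply finsupp_mem_smul_top
      intro z
      rw [Finsupp.sub_apply, ← Submodule.Quotient.eq, hP hmn z, hP le_rfl z]
    let ξ : AdicCompletion I (Z →₀ M) :=
      { val := fun n => Submodule.Quotient.mk (f n)
        property := by
          intro m n hmn
          show AdicCompletion.transitionMap I (Z →₀ M) hmn (Submodule.Quotient.mk (f n)) =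
            Submodule.Quotient.mk (f m)
          rw [← hcompat hmn]
          rfl }
    refine ⟨ξ, ?_⟩
    funext z
    apply AdicCompletion.ext
    intro n
    rw [hΦval ξ z n (f n) rfl]
    exact hP le_rfl z

end Groth.Agent.S17539
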