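import Groth.Statements.S17542
import Mathlib.RingTheory.Filtration
import Mathlib.RingTheory.AdicCompletion.Noetherian
-- import your own Groth.Agent.* helpers here

set_option autoImplicit false
universe u v w
open W4c5adicflatcompl
open CAlg

namespace Groth.Agent.S17542

/-- Over a Noetherian ring A which is I-adically complete, for a surjection φ : M → M'' of A-modules
with M finitely generated and a set Z, every I-adically decaying function Z → M'' is the composite
of φ with an I-adically decaying function Z → M. (This is the right exactness of the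
decaying-functions functor on finitely generated modules; left exactness is the statement about
submodules.) -/
theorem result {A : Type u} [CommRing A] [IsNoetherianRing A] (I : Ideal A)
    [IsAdicComplete I A] (Z : Type v) {M : Type w} {M'' : Type w} [AddCommGroup M] [Module A M]
    [Module.Finite A M] [AddCommGroup M''] [Module A M''] (φ : M →ₗ[A] M'')
    (hφ : Function.Surjective φ) (g : Z → M'') (hg : g ∈ decaying I Z M'') :
    ∃ f : Z → M, f ∈ decaying I Z M ∧ ∀ z, φ (f z) = g z := by
  classical
  haveI : Module.Finite A M'' := Module.Finite.of_surjective φ hφ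
  haveI : IsHausdorff I M'' := IsHausdorff.of_le_jacobson I M'' (IsAdicComplete.le_jacobson_bot I)
  have hmono : ∀ {a b : ℕ}, a ≤ b → (I ^ b • ⊤ : Submodule A M) ≤ I ^ a • ⊤ :=
    fun hab => Submodule.smul_mono (Ideal.pow_le_pow_right hab) le_rfl
  have hmono'' : ∀ {a b : ℕ}, a ≤ b → (I ^ b • ⊤ : Submodule A M'') ≤ I ^ a • ⊤ :=
    fun hab => Submodule.smul_mono (Ideal.pow_le_pow_right hab) le_rfl
  have hlift : ∀ (n : ℕ) (y : M''), y ∈ (I ^ n • ⊤ : Submodule A M'') →
      ∃ x ∈ (I ^ n • ⊤ : Submodule A M), φ x = y := by
    intro n y hy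
    have h1 : (I ^ n • ⊤ : Submodule A M).map φ = I ^ n • ⊤ := by
      rw [Submodule.map_smul'', Submodule.map_top, LinearMap.range_eq_top.mpr hφ]
    rw [← h1] at hy
    obtain ⟨x, hx, rfl⟩ := hy
    exact ⟨x, hx, rfl⟩
  have hex : ∀ z, ∃ x : M, φ x = g z ∧
      ∀ n, g z ∈ (I ^ n • ⊤ : Submodule A M'') → x ∈ (I ^ n • ⊤ : Submodule A M) := by
    intro z
    by_cases h : ∃ n, g z ∉ (I ^ n • ⊤ : Submodule A M'')
    · have hn0 : 1 ≤ Nat.find h := by
        rw [Nat.one_le_iff_ne_zero]
        intro h0
        have := Nat.find_spec h
        rw [h0] at this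
        apply this
        simp
      have hmem : g z ∈ (I ^ (Nat.find h - 1) • ⊤ : Submodule A M'') := by
        have := Nat.find_min h (show Nat.find h - 1 < Nat.find h by omega)
        exact not_not.mp this
      obtain ⟨x, hx, hφx⟩ := hlift _ _ hmem
      refine ⟨x, hφx, fun n hn => ?_⟩
      have hle : n ≤ Nat.find h - 1 := by
        by_contra hlt
        have h2 : Nat.find h ≤ n := by omega
        exact Nat.find_spec h (hmono'' h2 hn)
      exact hmono hle hx
    · push Not at h
      have h0 : g z = 0 := by
        apply IsHausdorff.haus ‹IsHausdorff I M''›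
        intro n
        rw [SModEq.zero]
        exact h n
      exact ⟨0, by rw [map_zero, h0], fun n _ => Submodule.zero_mem _⟩
  choose f hf1 hf2 using hex
  refine ⟨f, fun n => ?_, hf1⟩
  refine (hg n).subset ?_
  intro z hz hmem
  exact hz (hf2 z n hmem)

end Groth.Agent.S17542
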