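import Groth.Statements.S17545
import Groth.Agent.S17541
import Groth.Agent.S17542
import Groth.Agent.Lib.Helper26.Decaying
import Mathlib.RingTheory.Flat.EquationalCriterion

set_option autoImplicit false
universe u v w
open W4c5adicflatcompl
open CAlg

namespace Groth.Agent.S17545

section helpers
variable {A : Type u} [CommRing A] (I : Ideal A)

lemma pi_mem_smul_top {l : ℕ} (n : ℕ) (c : Fin l → A)
    (hc : ∀ i, c i ∈ (I ^ n • ⊤ : Submodule A A)) :
    c ∈ (I ^ n • ⊤ : Submodule A (Fin l → A)) := by
  classical
  rw [← Finset.univ_sum_single c]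
  refine Submodule.sum_mem _ fun i _ => ?_
  exact Lib.Helper26.Decaying.map_mem_smul_top I (LinearMap.single A (fun _ : Fin l => A) i) n (hc i)

end helpers

/-- For a Noetherian ring A which is I-adically complete and any set Z, the A-module of I-adically
decaying functions Z → A is flat. -/
theorem result {A : Type u} [CommRing A] [IsNoetherianRing A]
    (I : Ideal A) [IsAdicComplete I A] (Z : Type v) :
    Module.Flat A (decaying I Z A) := by
  classical
  apply Module.Flat.of_forall_isTrivialRelation
  intro l a x hrel
  let T : (Fin l → A) →ₗ[A] A := Fintype.linearCombination A (fun i => a i)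
  let K : Submodule A (Fin l → A) := LinearMap.ker T
  have hxK : ∀ z, (fun i => ((x i : decaying I Z A) : Z → A) z) ∈ K := by
    intro z
    rw [LinearMap.mem_ker, Fintype.linearCombination_apply]
    have h1 := congrArg (fun f : decaying I Z A => (f : Z → A) z) hrel
    simp only [Submodule.coe_sum, Submodule.coe_smul, Finset.sum_apply, Pi.smul_apply,
      smul_eq_mul, ZeroMemClass.coe_zero, Pi.zero_apply] at h1
    rw [← h1]
    apply Finset.sum_congr rfl
    intro i _
    rw [smul_eq_mul, mul_comm]
  let h : Z → K := fun z => ⟨fun i => ((x i : decaying I Z A) : Z → A) z, hxK z⟩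
  have hdec : h ∈ decaying I Z K := by
    rw [Groth.Agent.S17541.result I Z (Fin l → A) K h]
    intro n
    refine (Set.finite_iUnion (fun i => (x i).2 n)).subset ?_
    intro z hz
    by_contra hcon
    apply hz
    simp only [Set.mem_iUnion, not_exists, Set.mem_setOf_eq, not_not] at hcon
    exact pi_mem_smul_top I n _ hcon
  obtain ⟨k, v, hv⟩ := Module.Finite.exists_fin (R := A) (M := K)
  let φ : (Fin k → A) →ₗ[A] K := Fintype.linearCombination A v
  have hφ : Function.Surjective φ := by
    rw [← LinearMap.range_eq_top, Fintype.range_linearCombination, hv]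
  obtain ⟨G, hG, hGh⟩ := Groth.Agent.S17542.result I Z φ hφ h hdec
  have hGj : ∀ j : Fin k, (fun z => G z j) ∈ decaying I Z A := by
    intro j m
    refine (hG m).subset ?_
    intro z hz hmem
    apply hz
    exact Lib.Helper26.Decaying.map_mem_smul_top I (LinearMap.proj (R := A) (φ := fun _ : Fin k => A) j) m hmem
  refine ⟨k, fun i j => (v j : Fin l → A) i, fun j => ⟨fun z => G z j, hGj j⟩, ?_, ?_⟩
  · intro i
    apply Subtype.ext
    funext z
    have h1 := congrArg (fun w : K => (w : Fin l → A) i) (hGh z)
    simp only [φ, Fintype.linearCombination_apply, h, Submodule.coe_sum, Submodule.coe_smul,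
      Finset.sum_apply, Pi.smul_apply, smul_eq_mul] at h1
    simp only [Submodule.coe_sum, Submodule.coe_smul, Finset.sum_apply, Pi.smul_apply,
      smul_eq_mul]
    rw [← h1]
    apply Finset.sum_congr rfl
    intro j _
    exact mul_comm _ _
  · intro j
    have h1 := (v j).2
    rw [LinearMap.mem_ker, Fintype.linearCombination_apply] at h1
    rw [← h1]
    apply Finset.sum_congr rfl
    intro i _
    rw [smul_eq_mul, mul_comm]

end Groth.Agent.S17545
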