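import Groth.Statements.S0550
import Groth.Agent.S0543
import Groth.Agent.S17539
import Groth.Agent.S17545
import Mathlib.RingTheory.Flat.Stability
open W4c5adicflatcompl

set_option autoImplicit false
universe u
open CAlg

namespace Groth.Agent.S0550

/-- Over a Noetherian ring `R` with an ideal `I`, the `I`-adic completion of a free module (on any index
set) is a flat `R`-module. -/
theorem result (R : Type u) [CommRing R] [IsNoetherianRing R]
    (I : Ideal R) (α : Type u) : Module.Flat R (AdicCompletion I (α →₀ R)) := by
  classical
  haveI hN : IsNoetherianRing (AdicCompletion I R) := Groth.Agent.S0543.result R I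
  haveI hc0 : IsAdicComplete I (AdicCompletion I R) :=
    AdicCompletion.isAdicComplete (I := I) (M := R) (IsNoetherian.noetherian I)
  haveI hc : IsAdicComplete (I.map (algebraMap R (AdicCompletion I R))) (AdicCompletion I R) := by
    haveI : IsHausdorff (I.map (algebraMap R (AdicCompletion I R))) (AdicCompletion I R) :=
      IsHausdorff.map_algebraMap_iff.2 hc0.toIsHausdorff
    haveI : IsPrecomplete (I.map (algebraMap R (AdicCompletion I R))) (AdicCompletion I R) :=
      IsPrecomplete.map_algebraMap_iff.2 hc0.toIsPrecomplete
    exact {}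
  haveI flat1 : Module.Flat (AdicCompletion I R)
      (decaying (I.map (algebraMap R (AdicCompletion I R))) α (AdicCompletion I R)) :=
    Groth.Agent.S17545.result (I.map (algebraMap R (AdicCompletion I R))) α
  haveI flat2 : Module.Flat R
      (decaying (I.map (algebraMap R (AdicCompletion I R))) α (AdicCompletion I R)) :=
    Module.Flat.trans R (AdicCompletion I R) _
  obtain ⟨hinj, hrange⟩ := Groth.Agent.S17539.result I α R
  have key : ∀ (n : ℕ) (x : AdicCompletion I R),
      x ∈ ((I.map (algebraMap R (AdicCompletion I R))) ^ n • ⊤ :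
        Submodule (AdicCompletion I R) (AdicCompletion I R)) ↔
      x ∈ (I ^ n • ⊤ : Submodule R (AdicCompletion I R)) := by
    intro n x
    have h1 : ((I.map (algebraMap R (AdicCompletion I R))) ^ n • ⊤ :
        Submodule (AdicCompletion I R) (AdicCompletion I R)) =
        (I.map (algebraMap R (AdicCompletion I R))) ^ n := by
      rw [smul_eq_mul, Ideal.mul_top]
    have h2 : (I ^ n • ⊤ : Submodule R (AdicCompletion I R)) =
        ((I ^ n).map (algebraMap R (AdicCompletion I R))).restrictScalars R :=
      Ideal.smul_top_eq_map _
    rw [h1, h2, Submodule.restrictScalars_mem, Ideal.map_pow]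
  have hmem : ∀ f : α → AdicCompletion I R,
      f ∈ decaying (I.map (algebraMap R (AdicCompletion I R))) α (AdicCompletion I R) ↔
        f ∈ decaying I α (AdicCompletion I R) := by
    intro f
    show (∀ n : ℕ, {z | f z ∉ ((I.map (algebraMap R (AdicCompletion I R))) ^ n • ⊤ :
        Submodule (AdicCompletion I R) (AdicCompletion I R))}.Finite) ↔
      (∀ n : ℕ, {z | f z ∉ (I ^ n • ⊤ : Submodule R (AdicCompletion I R))}.Finite)
    simp only [key]
  let e2 : decaying (I.map (algebraMap R (AdicCompletion I R))) α (AdicCompletion I R) ≃ₗ[R]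
      decaying I α (AdicCompletion I R) :=
    { toFun := fun f => ⟨f.1, (hmem f.1).1 f.2⟩
      invFun := fun f => ⟨f.1, (hmem f.1).2 f.2⟩
      map_add' := fun _ _ => rfl
      map_smul' := fun _ _ => rfl
      left_inv := fun _ => rfl
      right_inv := fun _ => rfl }
  let e1 := LinearEquiv.ofInjective _ hinj
  exact Module.Flat.of_linearEquiv
    ((e1.trans (LinearEquiv.ofEq _ _ hrange)).trans e2.symm)

end Groth.Agent.S0550
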