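import Groth.Statements.S0551
import Mathlib
import Groth.Agent.S0542
import Groth.Agent.S6349

set_option autoImplicit false
universe u
open CAlg

namespace Groth.Agent.S0551

open TensorProduct

section Gen

theorem pi_smul_top_apply {A : Type u} [CommRing A] (J : Ideal A) {s : ℕ} (e : Fin s → A)
    (he : e ∈ (J • ⊤ : Submodule A (Fin s → A))) (j : Fin s) : e j ∈ J := by
  refine Submodule.smul_induction_on he ?_ ?_
  · intro r hr v _
    show (r • v) j ∈ J
    rw [Pi.smul_apply, smul_eq_mul]
    exact Ideal.mul_mem_right _ _ hr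
  · intro x y hx hy
    show (x + y) j ∈ J
    rw [Pi.add_apply]
    exact Ideal.add_mem _ hx hy

theorem pi_mem_smul_top {A : Type u} [CommRing A] (J : Ideal A) {r : ℕ} (v : Fin r → A)
    (hv : ∀ i, v i ∈ J) : v ∈ (J • ⊤ : Submodule A (Fin r → A)) := by
  classical
  have h : v = ∑ i, v i • (Pi.single i (1 : A) : Fin r → A) := by
    funext k
    simp [Finset.sum_apply, Pi.single_apply]
  rw [h]
  exact Submodule.sum_mem _ (fun i _ => Submodule.smul_mem_smul (hv i) Submodule.mem_top)

theorem exists_ker_gens {A : Type u} [CommRing A] [IsNoetherianRing A] {r s : ℕ}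
    (φ : Fin r → Fin s → A) :
    ∃ (p : ℕ) (ψ : Fin s → Fin p → A), (∀ i l, ∑ j, φ i j * ψ j l = 0) ∧
      ∀ c : Fin s → A, (∀ i, ∑ j, φ i j * c j = 0) →
        ∃ d : Fin p → A, ∀ j, c j = ∑ l, ψ j l * d l := by
  classical
  let Φ : (Fin s → A) →ₗ[A] (Fin r → A) := Matrix.mulVecLin (Matrix.of φ)
  have hΦ : ∀ c i, Φ c i = ∑ j, φ i j * c j := by
    intro c i
    simp [Φ, Matrix.mulVecLin_apply, Matrix.mulVec, dotProduct]
  have hfg : (LinearMap.ker Φ).FG := IsNoetherian.noetherian _
  obtain ⟨p, g, hg⟩ := Submodule.fg_iff_exists_fin_generating_family.mp hfg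
  refine ⟨p, fun j l => g l j, ?_, ?_⟩
  · intro i l
    have hmem : g l ∈ LinearMap.ker Φ := by
      rw [← hg]; exact Submodule.subset_span ⟨l, rfl⟩
    have h1 := congrFun (LinearMap.mem_ker.1 hmem) i
    rw [hΦ] at h1
    exact h1
  · intro c hc
    have hmem : c ∈ LinearMap.ker Φ := by
      rw [LinearMap.mem_ker]; funext i; rw [hΦ]; exact hc i
    rw [← hg, Submodule.mem_span_range_iff_exists_fun] at hmem
    obtain ⟨d, hd⟩ := hmem
    refine ⟨d, fun j => ?_⟩
    have h2 := congrFun hd j
    rw [← h2]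
    simp [Finset.sum_apply, mul_comm]

end Gen

section Compl

variable {R : Type u} [CommRing R] (I : Ideal R) {M : Type u} [AddCommGroup M] [Module R M]

theorem val_smul' (n : ℕ) (b : AdicCompletion I R) (x : AdicCompletion I M) :
    (b • x).val n = AdicCompletion.evalₐ I n b • x.val n := by
  rw [AdicCompletion.smul_eval, AdicCompletion.val_smul_eq_evalₐ_smul]

theorem val_sum' {ι : Type} (s : Finset ι) (x : ι → AdicCompletion I M) (n : ℕ) :
    (∑ j ∈ s, x j).val n = ∑ j ∈ s, (x j).val n :=
  map_sum (AdicCompletion.eval I M n) x s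

theorem val_lin {s : ℕ} (n : ℕ) (c : Fin s → AdicCompletion I R)
    (u : Fin s → AdicCompletion I M) :
    (∑ j, c j • u j).val n = ∑ j, AdicCompletion.evalₐ I n (c j) • (u j).val n := by
  rw [val_sum']
  exact Finset.sum_congr rfl (fun j _ => val_smul' I n (c j) (u j))

theorem val_of_le {n m : ℕ} (h : n ≤ m) {x y : AdicCompletion I M} (hxy : x.val m = y.val m) :
    x.val n = y.val n := by
  rw [← x.property h, ← y.property h, hxy]

theorem mem_map_pow_of_evalₐ_eq_zero (hI : I.FG) (m : ℕ) (b : AdicCompletion I R)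
    (hb : AdicCompletion.evalₐ I m b = 0) :
    b ∈ (I.map (algebraMap R (AdicCompletion I R))) ^ m := by
  have h1 : b ∈ LinearMap.ker (AdicCompletion.eval I R m) := by
    rw [LinearMap.mem_ker]
    have hle : I ^ m ≤ I ^ m • ⊤ := by rw [smul_eq_mul, Ideal.mul_top]
    rw [← AdicCompletion.factor_evalₐ_eq_eval I b hle, hb, map_zero]
  rw [← AdicCompletion.pow_smul_top_eq_ker_eval hI] at h1
  rw [Ideal.smul_top_eq_map, Submodule.restrictScalars_mem, Ideal.map_pow] at h1
  exact h1

theorem evalₐ_eq_zero_of_mem_map_pow (n : ℕ) (b : AdicCompletion I R)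
    (hb : b ∈ (I.map (algebraMap R (AdicCompletion I R))) ^ n) :
    AdicCompletion.evalₐ I n b = 0 := by
  have hle : (I.map (algebraMap R (AdicCompletion I R))) ^ n ≤
      RingHom.ker (AdicCompletion.evalₐ I n : AdicCompletion I R →+* R ⧸ I ^ n) := by
    rw [← Ideal.map_pow, Ideal.map_le_iff_le_comap]
    intro r hr
    rw [Ideal.mem_comap, RingHom.mem_ker]
    show AdicCompletion.evalₐ I n (algebraMap R (AdicCompletion I R) r) = 0
    rw [AlgHom.commutes, Ideal.Quotient.algebraMap_eq, Ideal.Quotient.eq_zero_iff_mem]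
    exact hr
  exact RingHom.mem_ker.1 (hle hb)

theorem lemmaL (hI : I.FG) [IsNoetherianRing (AdicCompletion I R)]
    (hflat : ∀ m : ℕ, Module.Flat (R ⧸ I ^ m) (M ⧸ (I ^ m • ⊤ : Submodule R M)))
    {r s p : ℕ} (φ : Fin r → Fin s → AdicCompletion I R) (ψ : Fin s → Fin p → AdicCompletion I R)
    (hex : ∀ c : Fin s → AdicCompletion I R, (∀ i, ∑ j, φ i j * c j = 0) →
        ∃ d : Fin p → AdicCompletion I R, ∀ j, c j = ∑ l, ψ j l * d l) :
    ∃ c₀ : ℕ, ∀ (n : ℕ) (u : Fin s → AdicCompletion I M),
      (∀ i, (∑ j, φ i j • u j).val (n + c₀) = 0) →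
      ∃ w : Fin p → AdicCompletion I M, ∀ j, (u j).val n = (∑ l, ψ j l • w l).val n := by
  classical
  let Φ : (Fin s → AdicCompletion I R) →ₗ[AdicCompletion I R] (Fin r → AdicCompletion I R) :=
    Matrix.mulVecLin (Matrix.of φ)
  have hΦ : ∀ c i, Φ c i = ∑ j, φ i j * c j := by
    intro c i
    simp [Φ, Matrix.mulVecLin_apply, Matrix.mulVec, dotProduct]
  obtain ⟨c₀, hAR⟩ := Ideal.exists_pow_inf_eq_pow_smul
    (I.map (algebraMap R (AdicCompletion I R))) (LinearMap.range Φ)
  refine ⟨c₀, ?_⟩
  intro n u hu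
  obtain ⟨m, hm⟩ : ∃ m, m = n + c₀ := ⟨_, rfl⟩
  rw [← hm] at hu
  haveI := hflat m
  have hrel : ∀ i, ∑ j, AdicCompletion.evalₐ I m (φ i j) • (u j).val m = 0 := by
    intro i
    rw [← val_lin I m (φ i) u]
    exact hu i
  let x : (Fin s → R ⧸ I ^ m) →ₗ[R ⧸ I ^ m] (M ⧸ (I ^ m • ⊤ : Submodule R M)) :=
    Fintype.linearCombination (R ⧸ I ^ m) (fun j => (u j).val m)
  let f : (Fin r → R ⧸ I ^ m) →ₗ[R ⧸ I ^ m] (Fin s → R ⧸ I ^ m) :=
    Fintype.linearCombination (R ⧸ I ^ m) (fun i => fun j => AdicCompletion.evalₐ I m (φ i j))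
  have hx_apply : ∀ c, x c = ∑ j, c j • (u j).val m := fun c => rfl
  have hf_apply : ∀ t, f t = ∑ i, t i • (fun j => AdicCompletion.evalₐ I m (φ i j)) :=
    fun t => rfl
  have hxf : x ∘ₗ f = 0 := by
    apply LinearMap.ext
    intro t
    show x (f t) = 0
    rw [hf_apply, map_sum]
    apply Finset.sum_eq_zero
    intro i _
    rw [map_smul, hx_apply]
    show t i • ∑ j, AdicCompletion.evalₐ I m (φ i j) • (u j).val m = 0
    rw [hrel i, smul_zero]
  obtain ⟨k, a, y, hxy, haf⟩ := Module.Flat.exists_factorization_of_comp_eq_zero_of_free hxf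
  have hy_expand : ∀ g : Fin k →₀ (R ⧸ I ^ m), y g = ∑ l, g l • y (Finsupp.single l 1) := by
    intro g
    conv_lhs => rw [← Finsupp.univ_sum_single g]
    rw [map_sum]
    apply Finset.sum_congr rfl
    intro l _
    rw [← Finsupp.smul_single_one, map_smul]
  have hub : ∀ j, (u j).val m =
      ∑ l, (a (Pi.single j 1)) l • y (Finsupp.single l 1) := by
    intro j
    have h1 : x (Pi.single j 1) = (u j).val m := by
      rw [hx_apply]
      simp [Pi.single_apply]
    rw [← h1, hxy, LinearMap.comp_apply, hy_expand]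
  have hcol : ∀ i l, ∑ j, AdicCompletion.evalₐ I m (φ i j) * (a (Pi.single j 1)) l = 0 := by
    intro i l
    have h1 : a (f (Pi.single i 1)) = 0 := by
      have h0 := congrArg (fun ψ' => ψ' (Pi.single i 1)) haf
      simpa using h0
    have h2 : f (Pi.single i 1) = fun j => AdicCompletion.evalₐ I m (φ i j) := by
      show Fintype.linearCombination (R ⧸ I ^ m) _ (Pi.single i 1) = _
      rw [Fintype.linearCombination_apply_single, one_smul]
    have h3 : (fun j => AdicCompletion.evalₐ I m (φ i j)) =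
        ∑ j, AdicCompletion.evalₐ I m (φ i j) •
          (Pi.single j (1 : R ⧸ I ^ m) : Fin s → R ⧸ I ^ m) := by
      funext j'
      simp [Finset.sum_apply, Pi.single_apply]
    rw [h2, h3, map_sum] at h1
    have h4 := DFunLike.congr_fun h1 l
    simp only [map_smul, Finsupp.coe_finsetSum, Finset.sum_apply, Finsupp.coe_smul,
      Pi.smul_apply, smul_eq_mul, Finsupp.coe_zero, Pi.zero_apply] at h4
    exact h4
  choose cl hcl using fun (l : Fin k) (j : Fin s) =>
    AdicCompletion.surjective_evalₐ I m ((a (Pi.single j 1)) l)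
  choose yl hyl using fun (l : Fin k) =>
    AdicCompletion.eval_surjective I M m (y (Finsupp.single l 1))
  have hg : ∀ l i, Φ (cl l) i ∈ (I.map (algebraMap R (AdicCompletion I R))) ^ m := by
    intro l i
    apply mem_map_pow_of_evalₐ_eq_zero I hI
    rw [hΦ, map_sum]
    simp only [map_mul, hcl]
    exact hcol i l
  have hmem : ∀ l, ∃ e : Fin s → AdicCompletion I R,
      e ∈ ((I.map (algebraMap R (AdicCompletion I R))) ^ n • ⊤ :
        Submodule (AdicCompletion I R) (Fin s → AdicCompletion I R)) ∧ Φ e = Φ (cl l) := by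
    intro l
    have h1 : Φ (cl l) ∈ (I.map (algebraMap R (AdicCompletion I R))) ^ m •
        (⊤ : Submodule (AdicCompletion I R) (Fin r → AdicCompletion I R)) ⊓ LinearMap.range Φ :=
      ⟨pi_mem_smul_top _ _ (hg l), LinearMap.mem_range_self _ _⟩
    rw [hAR m (by omega)] at h1
    have h2 : (I.map (algebraMap R (AdicCompletion I R))) ^ (m - c₀) •
        ((I.map (algebraMap R (AdicCompletion I R))) ^ c₀ • ⊤ ⊓ LinearMap.range Φ) ≤
        (((I.map (algebraMap R (AdicCompletion I R))) ^ n • ⊤ :
          Submodule (AdicCompletion I R) (Fin s → AdicCompletion I R))).map Φ := by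
      rw [Submodule.map_smul'', Submodule.map_top]
      have hmn : m - c₀ = n := by omega
      rw [hmn]
      exact Submodule.smul_mono le_rfl inf_le_right
    obtain ⟨e, he, hΦe⟩ := h2 h1
    exact ⟨e, he, hΦe⟩
  choose e he hΦe using hmem
  have hd : ∀ l, ∃ d : Fin p → AdicCompletion I R,
      ∀ j, cl l j - e l j = ∑ q, ψ j q * d q := by
    intro l
    apply hex (fun j => cl l j - e l j)
    intro i
    have h1 : Φ (cl l - e l) i = 0 := by
      rw [map_sub, hΦe l, sub_self]; rfl
    rw [hΦ] at h1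
    exact h1
  choose d hd using hd
  refine ⟨fun q => ∑ l, d l q • yl l, fun j => ?_⟩
  have h1 : (u j).val m = (∑ l, cl l j • yl l).val m := by
    rw [val_lin I m (fun l => cl l j) yl, hub j]
    apply Finset.sum_congr rfl
    intro l _
    rw [hcl l j]
    congr 1
    exact (hyl l).symm
  have h2 := val_of_le I (show n ≤ m by omega) h1
  rw [h2]
  have hcl' : ∀ l, cl l j = ∑ q, ψ j q * d l q + e l j := fun l => by
    rw [← hd l j]; ring
  have h3 : ∑ l, cl l j • yl l =
      ∑ q, ψ j q • (∑ l, d l q • yl l) + ∑ l, e l j • yl l := by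
    calc ∑ l, cl l j • yl l
        = ∑ l, ((∑ q, ψ j q * d l q) • yl l + e l j • yl l) := by
          apply Finset.sum_congr rfl
          intro l _
          rw [hcl' l, add_smul]
      _ = ∑ l, (∑ q, ψ j q * d l q) • yl l + ∑ l, e l j • yl l := Finset.sum_add_distrib
      _ = ∑ q, ψ j q • (∑ l, d l q • yl l) + ∑ l, e l j • yl l := by
          congr 1
          simp only [Finset.sum_smul, Finset.smul_sum, mul_smul]
          exact Finset.sum_comm
  have h4 : (∑ l, e l j • yl l).val n = 0 := by
    rw [val_lin I n (fun l => e l j) yl]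
    apply Finset.sum_eq_zero
    intro l _
    rw [evalₐ_eq_zero_of_mem_map_pow I n (e l j) (pi_smul_top_apply _ _ (he l) j), zero_smul]
  rw [h3, AdicCompletion.val_add_apply, h4, add_zero]

theorem lemmaC {r s p : ℕ} (φ : Fin r → Fin s → AdicCompletion I R)
    (ψ : Fin s → Fin p → AdicCompletion I R)
    (hφψ : ∀ i l, ∑ j, φ i j * ψ j l = 0) (c₀ : ℕ)
    (hL : ∀ (n : ℕ) (u : Fin s → AdicCompletion I M),
      (∀ i, (∑ j, φ i j • u j).val (n + c₀) = 0) →
      ∃ w : Fin p → AdicCompletion I M, ∀ j, (u j).val n = (∑ l, ψ j l • w l).val n)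
    (x : Fin r → AdicCompletion I M)
    (hx : ∀ n, ∃ u : Fin s → AdicCompletion I M,
      ∀ i, (x i).val n = (∑ j, φ i j • u j).val n) :
    ∃ u : Fin s → AdicCompletion I M, ∀ i, x i = ∑ j, φ i j • u j := by
  classical
  have hcomp : ∀ (w : Fin p → AdicCompletion I M) i,
      ∑ j, φ i j • (∑ l, ψ j l • w l) = 0 := by
    intro w i
    simp only [Finset.smul_sum, ← mul_smul]
    rw [Finset.sum_comm]
    apply Finset.sum_eq_zero
    intro l _
    rw [← Finset.sum_smul, hφψ i l, zero_smul]
  have step : ∀ (k : ℕ) (u : Fin s → AdicCompletion I M),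
      (∀ i, (x i).val (k + c₀) = (∑ j, φ i j • u j).val (k + c₀)) →
      ∃ u' : Fin s → AdicCompletion I M,
        (∀ i, (x i).val (k + 1 + c₀) = (∑ j, φ i j • u' j).val (k + 1 + c₀)) ∧
        ∀ j, (u' j).val k = (u j).val k := by
    intro k u hu
    obtain ⟨v, hv⟩ := hx (k + 1 + c₀)
    have hdiff : ∀ i, (∑ j, φ i j • (v j - u j)).val (k + c₀) = 0 := by
      intro i
      have e1 : ∑ j, φ i j • (v j - u j) = ∑ j, φ i j • v j - ∑ j, φ i j • u j := by
        simp only [smul_sub, Finset.sum_sub_distrib]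
      rw [e1, AdicCompletion.val_sub_apply, ← hu i,
        ← val_of_le I (show k + c₀ ≤ k + 1 + c₀ by omega) (hv i), sub_self]
    obtain ⟨w, hw⟩ := hL k (fun j => v j - u j) hdiff
    refine ⟨fun j => v j - ∑ l, ψ j l • w l, ?_, ?_⟩
    · intro i
      have e2 : ∑ j, φ i j • (v j - ∑ l, ψ j l • w l) = ∑ j, φ i j • v j := by
        simp only [smul_sub, Finset.sum_sub_distrib]
        rw [hcomp w i, sub_zero]
      rw [e2]; exact hv i
    · intro j
      have hw' : (v j - u j).val k = (∑ l, ψ j l • w l).val k := hw j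
      show (v j - ∑ l, ψ j l • w l).val k = (u j).val k
      rw [AdicCompletion.val_sub_apply, ← hw', AdicCompletion.val_sub_apply, sub_sub_cancel]
  obtain ⟨u0, hu0⟩ := hx (0 + c₀)
  choose! F hF1 hF2 using step
  let U : ℕ → Fin s → AdicCompletion I M := fun k => Nat.rec u0 (fun k u => F k u) k
  have hUs : ∀ k, U (k + 1) = F k (U k) := fun k => rfl
  have hP : ∀ k i, (x i).val (k + c₀) = (∑ j, φ i j • U k j).val (k + c₀) := by
    intro k
    induction k with
    | zero => intro i; exact hu0 i
    | succ k ih => rw [hUs]; exact hF1 k (U k) ih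
  have hQ : ∀ k j, (U (k + 1) j).val k = (U k j).val k := fun k => by
    rw [hUs]; exact hF2 k (U k) (hP k)
  have hstab : ∀ j k l, k ≤ l → (U l j).val k = (U k j).val k := by
    intro j k l hkl
    induction l, hkl using Nat.le_induction with
    | base => rfl
    | succ l hkl ih => rw [← ih]; exact val_of_le I hkl (hQ l j)
  let L : Fin s → AdicCompletion I M := fun j =>
    ⟨fun k => (U k j).val k, fun {a b} hab => by
      show AdicCompletion.transitionMap I M hab ((U b j).val b) = (U a j).val a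
      rw [(U b j).property hab]; exact hstab j a b hab⟩
  have hLv : ∀ j k, (L j).val k = (U k j).val k := fun j k => rfl
  refine ⟨L, fun i => ?_⟩
  apply AdicCompletion.ext
  intro n
  rw [val_lin I n (φ i) L]
  have h1 := val_of_le I (Nat.le_add_right n c₀) (hP n i)
  rw [h1, val_lin I n (φ i) (U n)]

theorem flat_completion (hI : I.FG) [IsNoetherianRing (AdicCompletion I R)]
    (hflat : ∀ m : ℕ, Module.Flat (R ⧸ I ^ m) (M ⧸ (I ^ m • ⊤ : Submodule R M))) :
    Module.Flat (AdicCompletion I R) (AdicCompletion I M) := by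
  apply Module.Flat.of_forall_isTrivialRelation
  intro l f x hfx
  obtain ⟨s, ζ, hζ0, hζex⟩ := exists_ker_gens (fun (_ : Fin 1) (i : Fin l) => f i)
  obtain ⟨p, ξ, hξ0, hξex⟩ := exists_ker_gens ζ
  obtain ⟨c₀, hL0⟩ := lemmaL I hI hflat (fun (_ : Fin 1) (i : Fin l) => f i) ζ hζex
  obtain ⟨c₁, hL1⟩ := lemmaL I hI hflat ζ ξ hξex
  have hx : ∀ n, ∃ u : Fin s → AdicCompletion I M,
      ∀ i, (x i).val n = (∑ j, ζ i j • u j).val n := by
    intro n
    apply hL0 n x
    intro _
    show (∑ j, f j • x j).val (n + c₀) = 0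
    rw [hfx]; rfl
  obtain ⟨u, hu⟩ := lemmaC I ζ ξ hξ0 c₁ hL1 x hx
  exact ⟨s, ζ, u, hu, fun j => hζ0 0 j⟩

end Compl


/-- Let `R` be a ring, `I` a finitely generated ideal with `R/I` Noetherian, and `M` an `R`-module such
that `M/IM` is flat over `R/I` and the multiplication map `I ⊗ M → M` is injective (the vanishing of
the first Tor of `M` against `R/I`). Then the `I`-adic completion of `M` is flat over the `I`-adic
completion of `R`. (The published statement also records that the completed ring is Noetherian; that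
is stated separately.) -/
theorem result (R : Type u) [CommRing R] (I : Ideal R) (hI : I.FG)
    [IsNoetherianRing (R ⧸ I)] (M : Type u) [AddCommGroup M] [Module R M]
    [Module.Flat (R ⧸ I) (M ⧸ (I • ⊤ : Submodule R M))]
    (hT : Function.Injective (TensorProduct.lift ((LinearMap.lsmul R M).comp (Submodule.subtype I)))) :
    Module.Flat (AdicCompletion I R) (AdicCompletion I M) := by
  haveI : IsNoetherianRing (AdicCompletion I R) := Groth.Agent.S0542.result R I hI
  apply flat_completion I hI
  intro m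
  rcases Nat.eq_zero_or_pos m with rfl | hm
  · haveI : Subsingleton (M ⧸ (I ^ 0 • ⊤ : Submodule R M)) := by
      rw [Submodule.Quotient.subsingleton_iff, pow_zero, Ideal.one_eq_top,
        Submodule.top_smul]
    infer_instance
  · haveI : Module.Flat (R ⧸ I) ((R ⧸ I) ⊗[R] M) :=
      Module.Flat.of_linearEquiv
        ((TensorProduct.quotTensorEquivQuotSMul M I).extendScalarsOfSurjective
          Ideal.Quotient.mk_surjective)
    have htor : Function.Injective ((Submodule.subtype I).rTensor M) := by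
      have heq : TensorProduct.lift ((LinearMap.lsmul R M).comp (Submodule.subtype I)) =
          (TensorProduct.lid R M).toLinearMap ∘ₗ (Submodule.subtype I).rTensor M := by
        apply TensorProduct.ext'
        intro i x
        simp
      intro a b hab
      apply hT
      rw [heq, LinearMap.comp_apply, LinearMap.comp_apply, hab]
    haveI := Groth.Agent.S6349.result R I M htor m hm
    exact Module.Flat.of_linearEquiv
      ((TensorProduct.quotTensorEquivQuotSMul M (I ^ m)).extendScalarsOfSurjective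
        Ideal.Quotient.mk_surjective).symm

end Groth.Agent.S0551
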