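import Groth.Statements.S0553
import Groth.Agent.Lib.Helper26.CatenaryLoc

set_option autoImplicit false
universe u
open CAlg

namespace Groth.Agent.S0553

open Groth.Agent.Lib.Helper26.CatenaryLoc TensorProduct

/-- A finite type algebra over a localization `M⁻¹R` is a localization of a finite type
`R`-algebra. -/
theorem exists_finiteType_localization (R : Type u) [CommRing R] (M : Submonoid R) (Rm : Type u)
    [CommRing Rm] [Algebra R Rm] [IsLocalization M Rm] (S : Type u) [CommRing S] [Algebra Rm S]
    [Algebra R S] [IsScalarTower R Rm S] [hS : Algebra.FiniteType Rm S] :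
    ∃ S₀ : Subalgebra R S, S₀.FG ∧ IsLocalization (Algebra.algebraMapSubmonoid S₀ M) S := by
  obtain ⟨s, hs⟩ := hS.out
  set S₀ : Subalgebra R S := Algebra.adjoin R (↑s : Set S) with hS₀
  have key : ∀ z : S, ∃ u ∈ M, algebraMap R S u * z ∈ S₀ := by
    intro z
    have hz : z ∈ Algebra.adjoin Rm (↑s : Set S) := by rw [hs]; trivial
    induction hz using Algebra.adjoin_induction with
    | mem x hx => exact ⟨1, M.one_mem, by rw [map_one, one_mul]; exact Algebra.subset_adjoin hx⟩
    | algebraMap a =>
      obtain ⟨⟨r, u⟩, hru⟩ := IsLocalization.surj M a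
      refine ⟨u, u.2, ?_⟩
      have : algebraMap R S u * algebraMap Rm S a = algebraMap R S r := by
        rw [IsScalarTower.algebraMap_apply R Rm S, IsScalarTower.algebraMap_apply R Rm S r,
          ← map_mul, mul_comm]
        exact congrArg _ hru
      rw [this]
      exact Subalgebra.algebraMap_mem _ _
    | add x y _ _ hx hy =>
      obtain ⟨u, hu, hux⟩ := hx
      obtain ⟨v, hv, hvy⟩ := hy
      refine ⟨u * v, M.mul_mem hu hv, ?_⟩
      have : algebraMap R S (u * v) * (x + y) =
          algebraMap R S v * (algebraMap R S u * x) + algebraMap R S u * (algebraMap R S v * y) := by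
        rw [map_mul]; ring
      rw [this]
      exact S₀.add_mem (S₀.mul_mem (Subalgebra.algebraMap_mem _ _) hux)
        (S₀.mul_mem (Subalgebra.algebraMap_mem _ _) hvy)
    | mul x y _ _ hx hy =>
      obtain ⟨u, hu, hux⟩ := hx
      obtain ⟨v, hv, hvy⟩ := hy
      refine ⟨u * v, M.mul_mem hu hv, ?_⟩
      have : algebraMap R S (u * v) * (x * y) =
          (algebraMap R S u * x) * (algebraMap R S v * y) := by
        rw [map_mul]; ring
      rw [this]
      exact S₀.mul_mem hux hvy
  refine ⟨S₀, Subalgebra.fg_adjoin_finset s, ?_⟩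
  refine ⟨?_, ?_, ?_⟩
  · rintro ⟨y, u, hu, rfl⟩
    have : algebraMap S₀ S (algebraMap R S₀ u) = algebraMap Rm S (algebraMap R Rm u) := by
      rw [← IsScalarTower.algebraMap_apply R Rm S]
      rfl
    rw [this]
    exact (IsLocalization.map_units Rm ⟨u, hu⟩).map _
  · intro z
    obtain ⟨u, hu, huz⟩ := key z
    refine ⟨⟨⟨_, huz⟩, ⟨algebraMap R S₀ u, u, hu, rfl⟩⟩, ?_⟩
    show z * algebraMap S₀ S (algebraMap R S₀ u) = algebraMap R S u * z
    rw [mul_comm]
    rfl
  · intro x y hxy
    refine ⟨1, ?_⟩
    have : x = y := Subtype.ext hxy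
    rw [this]

/-- A Noetherian ring is universally catenary exactly when its localization at every maximal ideal is
universally catenary. -/
theorem result (R : Type u) [CommRing R]
    [IsNoetherianRing R] :
    CAlg.IsUniversallyCatenary R ↔
      ∀ (m : Ideal R) [m.IsMaximal], CAlg.IsUniversallyCatenary (Localization.AtPrime m) := by
  constructor
  · rintro ⟨_, h⟩ m _
    refine ⟨IsLocalization.isNoetherianRing m.primeCompl _ inferInstance, ?_⟩
    intro S _ _ hft
    letI : Algebra R S := Algebra.compHom S (algebraMap R (Localization.AtPrime m))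
    haveI : IsScalarTower R (Localization.AtPrime m) S :=
      IsScalarTower.of_algebraMap_eq (fun _ => rfl)
    obtain ⟨S₀, hfg, hloc⟩ := exists_finiteType_localization R m.primeCompl
      (Localization.AtPrime m) S
    haveI := hloc
    have hS₀ : CAlg.IsCatenary S₀ := h S₀ ((Subalgebra.fg_iff_finiteType S₀).mp hfg)
    exact isCatenary_of_isLocalization (Algebra.algebraMapSubmonoid S₀ m.primeCompl) S hS₀
  · intro h
    refine ⟨inferInstance, ?_⟩
    intro S _ _ hft
    apply isCatenary_of_forall_maximal
    intro n hn
    -- choose a maximal ideal of `R` above the contraction of `n`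
    have hp : (n.comap (algebraMap R S)) ≠ ⊤ := (Ideal.comap_isPrime _ n).ne_top
    obtain ⟨m, hm, hpm⟩ := Ideal.exists_le_maximal _ hp
    haveI := hm
    let T := Localization.AtPrime m ⊗[R] S
    letI : Algebra S T := Algebra.TensorProduct.rightAlgebra
    haveI : IsLocalization (Algebra.algebraMapSubmonoid S m.primeCompl) T :=
      IsLocalization.tensorRight (S := S) (A := Localization.AtPrime m) m.primeCompl
    have hT : CAlg.IsCatenary T := (h m).2 T inferInstance
    have hle : Algebra.algebraMapSubmonoid S m.primeCompl ≤ n.primeCompl := by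
      rintro _ ⟨u, hu, rfl⟩ hun
      exact hu (hpm hun)
    letI : Algebra T (Localization.AtPrime n) :=
      IsLocalization.localizationAlgebraOfSubmonoidLe T (Localization.AtPrime n) _ _ hle
    haveI : IsScalarTower S T (Localization.AtPrime n) :=
      IsLocalization.localization_isScalarTower_of_submonoid_le T (Localization.AtPrime n) _ _ hle
    haveI : IsLocalization (n.primeCompl.map (algebraMap S T)) (Localization.AtPrime n) :=
      IsLocalization.isLocalization_of_submonoid_le T (Localization.AtPrime n) _ _ hle
    exact isCatenary_of_isLocalization (n.primeCompl.map (algebraMap S T))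
      (Localization.AtPrime n) hT

end Groth.Agent.S0553
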