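import Groth.Statements.S0556
import Mathlib
import Groth.Agent.Lib.Helper12.KrullAkizuki
import Groth.Agent.Lib.Helper12.IntegralDim

set_option autoImplicit false
universe u
open CAlg

namespace Groth.Agent.S0556

/-- Any domain `A` sandwiched between a one-dimensional Noetherian domain `R` and a field `L` of finite
degree over the fraction field of `R` is itself Noetherian. -/
theorem result (R : Type u) [CommRing R]
    [IsDomain R] [IsNoetherianRing R] (hdim : ringKrullDim R = 1) (K L : Type u) [Field K] [Field L]
    [Algebra R K] [IsFractionRing R K] [Algebra K L] [FiniteDimensional K L] [Algebra R L]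
    [IsScalarTower R K L] (A : Type u) [CommRing A] [Algebra R A] [Algebra A L]
    [IsScalarTower R A L] (hA : Function.Injective (algebraMap A L)) :
    IsNoetherianRing A := by
  classical
  have hRK : Function.Injective (algebraMap R K) := IsFractionRing.injective R K
  have hRL : Function.Injective (algebraMap R L) := by
    rw [IsScalarTower.algebraMap_eq R K L]
    exact (algebraMap K L).injective.comp hRK
  let A' : Subalgebra R L := (IsScalarTower.toAlgHom R A L).range
  have hA'mem : ∀ a : A, algebraMap A L a ∈ A' := fun a => ⟨a, rfl⟩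
  have hfg : (Submodule.span K (A' : Set L)).FG := IsNoetherian.noetherian _
  obtain ⟨t, htA, hts⟩ := (Submodule.fg_span_iff_fg_span_finset_subset _).mp hfg
  haveI := IsLocalization.isAlgebraic K (nonZeroDivisors R)
  haveI : Algebra.IsAlgebraic R L := Algebra.IsAlgebraic.trans R K L
  obtain ⟨y, hy0, hy⟩ := Algebra.IsAlgebraic.exists_integral_multiples R t
  let t' : Finset L := t.image (fun b => y • b)
  let R' : Subalgebra R L := Algebra.adjoin R (t' : Set L)
  have hR'A' : R' ≤ A' := by
    apply Algebra.adjoin_le
    intro z hz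
    rw [Finset.mem_coe, Finset.mem_image] at hz
    obtain ⟨b, hb, rfl⟩ := hz
    exact A'.smul_mem (htA hb) y
  haveI hfin : Module.Finite R R' := by
    apply Algebra.finite_adjoin_of_finite_of_isIntegral (Finset.finite_toSet _)
    intro z hz
    rw [Finset.mem_coe, Finset.mem_image] at hz
    obtain ⟨b, hb, rfl⟩ := hz
    exact hy b hb
  haveI : IsNoetherian R R' := isNoetherian_of_isNoetherianRing_of_finite R R'
  haveI : IsNoetherianRing R' := isNoetherian_of_tower R inferInstance
  haveI : Algebra.IsIntegral R R' := Algebra.IsIntegral.of_finite R R'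
  haveI : Ring.KrullDimLE 1 R' := by
    rw [Ring.krullDimLE_iff]
    calc ringKrullDim R' ≤ ringKrullDim R :=
          Groth.Agent.Lib.Helper12.ringKrullDim_le_of_isIntegral
      _ = 1 := hdim
      _ ≤ ((1 : ℕ) : WithBot ℕ∞) := by simp
  have hval : Function.Injective (R'.val : R' →+* L) := Subtype.val_injective
  let φ : FractionRing R' →+* L := IsFractionRing.lift hval
  have hφ : ∀ r : R', φ (algebraMap R' (FractionRing R') r) = (r : L) :=
    fun r => IsFractionRing.lift_algebraMap hval r
  let O : Subring (FractionRing R') := A'.toSubring.comap φ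
  have hO : ∀ r : R', algebraMap R' (FractionRing R') r ∈ O := by
    intro r
    show φ (algebraMap R' (FractionRing R') r) ∈ A'.toSubring
    rw [hφ]
    exact hR'A' r.2
  haveI : IsNoetherianRing O := Groth.Agent.Lib.Helper12.KA.isNoetherianRing_of_le O hO
  let F' : Subfield L := φ.fieldRange
  have hRF' : ∀ r : R, algebraMap R L r ∈ F' := by
    intro r
    refine ⟨algebraMap R' (FractionRing R') (algebraMap R R' r), ?_⟩
    rw [hφ]
    rfl
  have hKF' : ∀ k : K, algebraMap K L k ∈ F' := by
    intro k
    obtain ⟨r, s, hs, rfl⟩ := IsFractionRing.div_surjective (A := R) k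
    rw [map_div₀, ← IsScalarTower.algebraMap_apply, ← IsScalarTower.algebraMap_apply]
    exact F'.div_mem (hRF' r) (hRF' s)
  let E : Submodule K L :=
    { carrier := F'
      add_mem' := fun ha hb => F'.add_mem ha hb
      zero_mem' := F'.zero_mem
      smul_mem' := fun k x hx => by
        rw [Algebra.smul_def]
        exact F'.mul_mem (hKF' k) hx }
  have htE : (t : Set L) ⊆ E := by
    intro b hb
    have h1 : y • b ∈ R' :=
      Algebra.subset_adjoin (Finset.mem_coe.mpr (Finset.mem_image_of_mem _ hb))
    have h2 : y • b ∈ F' := ⟨algebraMap R' (FractionRing R') ⟨y • b, h1⟩, hφ _⟩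
    have h3 : algebraMap R L y ≠ 0 := fun h => hy0 (hRL (h.trans (map_zero _).symm))
    have h4 : b = (algebraMap R L y)⁻¹ * (y • b) := by
      rw [Algebra.smul_def, inv_mul_cancel_left₀ h3]
    show b ∈ F'
    rw [h4]
    exact F'.mul_mem (F'.inv_mem (hRF' y)) h2
  have hA'E : ∀ a ∈ A', a ∈ F' := by
    intro a ha
    have h1 : a ∈ Submodule.span K (A' : Set L) := Submodule.subset_span ha
    rw [hts] at h1
    exact (Submodule.span_le.mpr htE) h1
  let ψ : O →+* A' := (φ.comp O.subtype).codRestrict A' (fun o => o.2)
  have hψ : Function.Surjective ψ := by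
    rintro ⟨a, ha⟩
    obtain ⟨f, hf⟩ := hA'E a ha
    refine ⟨⟨f, ?_⟩, Subtype.ext hf⟩
    show φ f ∈ A'.toSubring
    rw [hf]
    exact ha
  haveI : IsNoetherianRing A' := isNoetherianRing_of_surjective O A' ψ hψ
  have hinj : Function.Injective (IsScalarTower.toAlgHom R A L) := hA
  exact isNoetherianRing_of_ringEquiv A' (AlgEquiv.ofInjective _ hinj).symm.toRingEquiv

end Groth.Agent.S0556
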