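import Groth.Statements.S0557
import Mathlib
import Groth.Agent.Lib.Helper12.KrullAkizuki

set_option autoImplicit false
universe u
open CAlg

namespace Groth.Agent.S0557

section

variable {R : Type u} [CommRing R]

lemma mem_span_smul_top {N : Type*} [AddCommGroup N] [Module R N] (x : R) (n : N) :
    n ∈ (Ideal.span ({x} : Set R) • (⊤ : Submodule R N)) ↔ ∃ y : N, x • y = n := by
  rw [Submodule.ideal_span_singleton_smul, Submodule.mem_smul_pointwise_iff_exists]
  constructor
  · rintro ⟨y, -, hy⟩
    exact ⟨y, hy⟩
  · rintro ⟨y, hy⟩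
    exact ⟨y, Submodule.mem_top, hy⟩

/-- `length (M/xM) ≤ length (M'/xM') + length (M''/xM'')` for `0 → M' → M → M'' → 0`. -/
lemma length_quot_le {M M'' : Type*} [AddCommGroup M] [Module R M] [AddCommGroup M'']
    [Module R M''] (x : R) (g : M →ₗ[R] M'') (hg : Function.Surjective g) :
    Module.length R (M ⧸ (Ideal.span ({x} : Set R) • (⊤ : Submodule R M))) ≤
      Module.length R ((LinearMap.ker g) ⧸
        (Ideal.span ({x} : Set R) • (⊤ : Submodule R (LinearMap.ker g)))) +
      Module.length R (M'' ⧸ (Ideal.span ({x} : Set R) • (⊤ : Submodule R M''))) := by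
  have hle : (Ideal.span ({x} : Set R) • (⊤ : Submodule R M)) ≤
      Submodule.comap g (Ideal.span ({x} : Set R) • (⊤ : Submodule R M'')) := by
    intro m hm
    rw [mem_span_smul_top] at hm
    obtain ⟨y, rfl⟩ := hm
    rw [Submodule.mem_comap, map_smul, mem_span_smul_top]
    exact ⟨g y, rfl⟩
  let gbar := Submodule.mapQ _ _ g hle
  have hgbar : Function.Surjective gbar := by
    intro z
    obtain ⟨m'', rfl⟩ := Submodule.mkQ_surjective _ z
    obtain ⟨m, rfl⟩ := hg m''
    exact ⟨Submodule.Quotient.mk m, rfl⟩
  have h1 := Module.length_eq_add_of_exact (LinearMap.ker gbar).subtype gbar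
    (Submodule.subtype_injective _) hgbar (LinearMap.exact_subtype_ker_map gbar)
  rw [h1]
  refine add_le_add_left ?_ _
  -- surjection onto the kernel
  have hle' : (Ideal.span ({x} : Set R) • (⊤ : Submodule R (LinearMap.ker g))) ≤
      Submodule.comap (LinearMap.ker g).subtype
        (Ideal.span ({x} : Set R) • (⊤ : Submodule R M)) := by
    intro m hm
    rw [mem_span_smul_top] at hm
    obtain ⟨y, rfl⟩ := hm
    rw [Submodule.mem_comap, map_smul, mem_span_smul_top]
    exact ⟨y, rfl⟩
  let ibar := Submodule.mapQ _ _ (LinearMap.ker g).subtype hle'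
  have hmem : ∀ c, ibar c ∈ LinearMap.ker gbar := by
    intro c
    obtain ⟨k, rfl⟩ := Submodule.mkQ_surjective _ c
    rw [LinearMap.mem_ker]
    show gbar (Submodule.Quotient.mk (k : M)) = 0
    show Submodule.Quotient.mk (g (k : M)) = 0
    rw [LinearMap.mem_ker.mp k.2]
    exact Submodule.Quotient.mk_zero _
  let ψ := LinearMap.codRestrict (LinearMap.ker gbar) ibar hmem
  refine Module.length_le_of_surjective ψ ?_
  rintro ⟨z, hz⟩
  obtain ⟨m, rfl⟩ := Submodule.mkQ_surjective _ z
  rw [LinearMap.mem_ker] at hz
  have hz' : Submodule.Quotient.mk (g m) =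
      (0 : M'' ⧸ (Ideal.span ({x} : Set R) • (⊤ : Submodule R M''))) := hz
  rw [Submodule.Quotient.mk_eq_zero, mem_span_smul_top] at hz'
  obtain ⟨m₂, hm₂⟩ := hz'
  obtain ⟨m₁, rfl⟩ := hg m₂
  have hk : m - x • m₁ ∈ LinearMap.ker g := by
    rw [LinearMap.mem_ker, map_sub, map_smul, hm₂, sub_self]
  refine ⟨Submodule.Quotient.mk ⟨m - x • m₁, hk⟩, ?_⟩
  apply Subtype.ext
  show Submodule.Quotient.mk (m - x • m₁) = Submodule.Quotient.mk m
  rw [Submodule.Quotient.eq, mem_span_smul_top]
  exact ⟨-m₁, by rw [smul_neg]; abel⟩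

end

section

variable {R : Type u} [CommRing R] [IsDomain R] [IsNoetherianRing R] [Ring.KrullDimLE 1 R]
  {K : Type u} [Field K] [Algebra R K] [IsFractionRing R K]

/-- rank one case -/
lemma length_quot_le_of_submodule (x : R) (hx : x ≠ 0) (N : Submodule R K) :
    Module.length R (N ⧸ (Ideal.span ({x} : Set R) • (⊤ : Submodule R N))) ≤
      Module.length R (R ⧸ Ideal.span ({x} : Set R)) := by
  classical
  rw [Module.length_eq_height, Order.height_le_iff]
  intro p _
  set n := p.length with hn
  let F : Submodule R (N ⧸ (Ideal.span ({x} : Set R) • (⊤ : Submodule R N))) → Submodule R K :=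
    fun q => Submodule.map N.subtype (Submodule.comap (Submodule.mkQ _) q)
  have hF : StrictMono F := by
    intro q q' hqq'
    apply Submodule.map_strictMono_of_injective N.injective_subtype
    have := (Submodule.comapMkQOrderEmbedding
      (Ideal.span ({x} : Set R) • (⊤ : Submodule R N))).strictMono hqq'
    simpa [Submodule.comapMkQOrderEmbedding_eq] using this
  let J : ℕ → Submodule R K := fun i => F (p ⟨n - i, by omega⟩)
  have hJ : ∀ i < n, J (i + 1) < J i := by
    intro i hi
    apply hF
    apply p.strictMono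
    rw [Fin.lt_def]
    show n - (i + 1) < n - i
    omega
  have hJn : ∀ y ∈ J 0, x • y ∈ J n := by
    rintro y ⟨m, -, rfl⟩
    refine ⟨x • m, ?_, by simp⟩
    rw [SetLike.mem_coe, Submodule.mem_comap, Submodule.mkQ_apply]
    have : Submodule.Quotient.mk (x • m) =
        (0 : N ⧸ (Ideal.span ({x} : Set R) • (⊤ : Submodule R N))) := by
      rw [Submodule.Quotient.mk_eq_zero, mem_span_smul_top]
      exact ⟨m, rfl⟩
    rw [this]
    exact Submodule.zero_mem _
  exact Groth.Agent.Lib.Helper12.KA.chain_submodule_le_length x hx J n hJ hJn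

/-- general rank, for modules embedded in `K^r`. -/
lemma length_quot_le_of_injective (x : R) (hx : x ≠ 0) :
    ∀ (r : ℕ) (M : Type u) [AddCommGroup M] [Module R M] (ι : M →ₗ[R] (Fin r → K)),
      Function.Injective ι →
      Module.length R (M ⧸ (Ideal.span ({x} : Set R) • (⊤ : Submodule R M))) ≤
        r * Module.length R (R ⧸ Ideal.span ({x} : Set R)) := by
  intro r
  induction r with
  | zero =>
    intro M _ _ ι hι
    haveI : Subsingleton M := hι.subsingleton
    rw [Module.length_eq_zero]
    simp
  | succ r ih =>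
    intro M _ _ ι hι
    let g₀ : M →ₗ[R] K := (LinearMap.proj (Fin.last r)) ∘ₗ ι
    let g : M →ₗ[R] LinearMap.range g₀ := g₀.rangeRestrict
    have hg : Function.Surjective g := g₀.surjective_rangeRestrict
    let ι' : LinearMap.ker g →ₗ[R] (Fin r → K) :=
      (LinearMap.funLeft R K Fin.castSucc) ∘ₗ ι ∘ₗ (LinearMap.ker g).subtype
    have hι' : Function.Injective ι' := by
      rw [← LinearMap.ker_eq_bot, LinearMap.ker_eq_bot']
      intro m hm
      have hm0 : g₀ (m : M) = 0 := by
        have := LinearMap.mem_ker.mp m.2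
        exact congrArg Subtype.val this
      apply Subtype.ext
      apply hι
      rw [ZeroMemClass.coe_zero, map_zero]
      funext j
      refine Fin.lastCases ?_ (fun j' => ?_) j
      · exact hm0
      · exact congrFun hm j'
    have h1 := ih (LinearMap.ker g) ι' hι'
    have h2 := length_quot_le_of_submodule x hx (LinearMap.range g₀)
    have h3 := length_quot_le x g hg
    calc Module.length R (M ⧸ (Ideal.span ({x} : Set R) • (⊤ : Submodule R M)))
        ≤ _ := h3
      _ ≤ r * Module.length R (R ⧸ Ideal.span ({x} : Set R)) +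
          Module.length R (R ⧸ Ideal.span ({x} : Set R)) := add_le_add h1 h2
      _ = ((r + 1 : ℕ) : ℕ∞) * Module.length R (R ⧸ Ideal.span ({x} : Set R)) := by
        push_cast
        rw [add_mul, one_mul]

end


/-- Let `R` be a Noetherian local domain of dimension one with fraction field `K`, `M` an `R`-submodule
of `K^r`, and `x` a nonzero element of `R`. Then `R/xR` has finite length and the length of `M/xM`
is at most `r` times the length of `R/xR`. -/
theorem result (R : Type u) [CommRing R] [IsDomain R]
    [IsNoetherianRing R] [IsLocalRing R] (hdim : ringKrullDim R = 1) (K : Type u) [Field K]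
    [Algebra R K] [IsFractionRing R K] (r : ℕ) (M : Submodule R (Fin r → K)) (x : R) (hx : x ≠ 0) :
    Module.length R (R ⧸ Ideal.span ({x} : Set R)) ≠ ⊤ ∧
      Module.length R (M ⧸ (Ideal.span ({x} : Set R) • (⊤ : Submodule R M))) ≤
        r * Module.length R (R ⧸ Ideal.span ({x} : Set R)) := by
  haveI : Ring.KrullDimLE 1 R := by
    rw [Ring.krullDimLE_iff, hdim]
    simp
  refine ⟨?_, ?_⟩
  · apply Groth.Agent.Lib.Helper12.KA.length_quotient_ne_top
    rw [Ne, Ideal.span_singleton_eq_bot]
    exact hx
  · exact length_quot_le_of_injective x hx r M M.subtype M.injective_subtype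

end Groth.Agent.S0557
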