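import Groth.Statements.S0560
import Mathlib
import Groth.Agent.Lib.Helper9.RegLocal

set_option autoImplicit false
universe u
open CAlg

namespace Groth.Agent.S0560

/-- Regularity of a Noetherian local ring can be checked after dividing out one nonzerodivisor lying in
the maximal ideal: if that quotient is a regular local ring, so is the original ring. -/
theorem result (R : Type u) [CommRing R] [IsLocalRing R]
    [IsNoetherianRing R] (x : R) (hx : x ∈ IsLocalRing.maximalIdeal R) (hreg : x ∈ nonZeroDivisors R)
    [IsRegularLocalRing (R ⧸ Ideal.span ({x} : Set R))] : IsRegularLocalRing R := by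
  classical
  let xm : Fin 1 → IsLocalRing.maximalIdeal R := fun _ => ⟨x, hx⟩
  have hJ : Ideal.span (Set.range fun i => ((xm i : IsLocalRing.maximalIdeal R) : R)) =
      Ideal.span ({x} : Set R) := by
    congr 1
    ext r
    simp [xm]
  have hdim0 := ringKrullDim_quotient_span_singleton_succ_eq_ringKrullDim_of_mem_nonZeroDivisors
    hreg hx
  have e : (R ⧸ Ideal.span ({x} : Set R)) ≃+*
      (R ⧸ Ideal.span (Set.range fun i => ((xm i : IsLocalRing.maximalIdeal R) : R))) :=
    Ideal.quotEquivOfEq hJ.symm
  haveI : IsRegularLocalRing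
      (R ⧸ Ideal.span (Set.range fun i => ((xm i : IsLocalRing.maximalIdeal R) : R))) :=
    IsRegularLocalRing.of_ringEquiv e
  have hdim : ringKrullDim
      (R ⧸ Ideal.span (Set.range fun i => ((xm i : IsLocalRing.maximalIdeal R) : R))) + (1 : ℕ) =
      ringKrullDim R := by
    rw [← ringKrullDim_eq_of_ringEquiv e]
    exact_mod_cast hdim0
  exact (Groth.Agent.Lib.Helper9.RegLocal.regular_of_quotient_regular R 1 xm hdim).1

end Groth.Agent.S0560
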