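import Groth.Statements.S0561
import Mathlib
import Groth.Agent.Lib.Helper26.RegSeq

set_option autoImplicit false
universe u
open CAlg

namespace Groth.Agent.S0561

open IsLocalRing

lemma arith {e : WithBot ℕ∞} {d : ℕ} (h1 : (d : WithBot ℕ∞) ≤ e) (h2 : e + 1 ≤ d) : False := by
  have h3 : (d : WithBot ℕ∞) + 1 ≤ d := le_trans (add_le_add_left h1 1) h2
  have h4 : ((d + 1 : ℕ) : WithBot ℕ∞) ≤ (d : ℕ) := by
    push_cast
    exact h3
  have h5 : d + 1 ≤ d := by exact_mod_cast h4
  omega

/-- An ideal `P` of a Noetherian local domain of finite dimension with `dim A ≤ dim A/P` is zero. -/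
lemma eq_bot_of_dim_le {A : Type u} [CommRing A] [IsDomain A] (d : ℕ) (hd : ringKrullDim A = d)
    (P : Ideal A) (h : ringKrullDim A ≤ ringKrullDim (A ⧸ P)) : P = ⊥ := by
  by_contra hP
  obtain ⟨r, hrP, hr0⟩ := Submodule.exists_mem_ne_zero_of_ne_bot hP
  have hr : r ∈ nonZeroDivisors A := mem_nonZeroDivisors_of_ne_zero hr0
  have h1 := ringKrullDim_quotient_succ_le_of_nonZeroDivisor hr
  have hle : Ideal.span {r} ≤ P := by
    rw [Ideal.span_le]
    simpa using hrP
  have h2 : ringKrullDim (A ⧸ P) ≤ ringKrullDim (A ⧸ Ideal.span {r}) :=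
    ringKrullDim_le_of_surjective (Ideal.Quotient.factor hle) (Ideal.Quotient.factor_surjective hle)
  rw [hd] at h h1
  exact arith (h.trans h2) h1

/-- If `J ≤ m²` then the maximal ideal of `A/J` needs as many generators as that of `A`. -/
lemma spanFinrank_le_of_le_sq {A : Type u} [CommRing A] [IsLocalRing A] [IsNoetherianRing A]
    (J : Ideal A) [IsLocalRing (A ⧸ J)] (hJ : J ≤ maximalIdeal A ^ 2) :
    (maximalIdeal A).spanFinrank ≤ (maximalIdeal (A ⧸ J)).spanFinrank := by
  classical
  obtain ⟨s, hscard, hsspan⟩ := Submodule.FG.exists_span_finset_card_eq_spanFinrank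
    ((maximalIdeal (A ⧸ J)).fg_of_isNoetherianRing)
  let eq := Finset.equivFinOfCardEq hscard
  have hlift : ∀ j : Fin (maximalIdeal (A ⧸ J)).spanFinrank,
      ∃ a : A, Ideal.Quotient.mk J a = ((eq.symm j : s) : A ⧸ J) :=
    fun j => Ideal.Quotient.mk_surjective _
  choose y hy using hlift
  have hrange : (Set.range fun j => Ideal.Quotient.mk J (y j)) = (s : Set (A ⧸ J)) := by
    ext t
    constructor
    · rintro ⟨j, rfl⟩
      show Ideal.Quotient.mk J (y j) ∈ (s : Set (A ⧸ J))
      rw [hy]
      exact (eq.symm j).2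
    · intro ht
      refine ⟨eq ⟨t, ht⟩, ?_⟩
      show Ideal.Quotient.mk J (y (eq ⟨t, ht⟩)) = t
      rw [hy]
      simp
  have h1 : maximalIdeal (A ⧸ J) = Ideal.span (Set.range fun j => Ideal.Quotient.mk J (y j)) := by
    rw [hrange]
    exact hsspan.symm
  have h2 := Groth.Agent.Lib.Helper9.RegLocal.sup_span_eq_maximalIdeal_of_quotient J y h1
  have h3 : maximalIdeal A ≤ Ideal.span (Set.range y) := by
    have h3' : maximalIdeal A ≤
        Ideal.span (Set.range y) ⊔ maximalIdeal A • maximalIdeal A := by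
      rw [smul_eq_mul, ← pow_two]
      calc maximalIdeal A = J ⊔ Ideal.span (Set.range y) := h2.symm
        _ ≤ maximalIdeal A ^ 2 ⊔ Ideal.span (Set.range y) := sup_le_sup_right hJ _
        _ = Ideal.span (Set.range y) ⊔ maximalIdeal A ^ 2 := sup_comm _ _
    exact Submodule.le_of_le_smul_of_le_jacobson_bot (maximalIdeal A).fg_of_isNoetherianRing
      (IsLocalRing.maximalIdeal_le_jacobson ⊥) h3'
  have h4 : Ideal.span (Set.range y) = maximalIdeal A := by
    apply le_antisymm _ h3
    rw [← h2]
    exact le_sup_right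
  rw [← h4]
  exact Groth.Agent.Lib.Helper9.RegLocal.spanFinrank_span_range_le y


/-- Let `R` be a regular local ring of dimension `d` and `I` an ideal with `R/I` a regular local ring.
Then there are elements `x₁, …, x_d` generating the maximal ideal such that `I` is generated by `x₁,
…, x_c` for some `c ≤ d`. -/
theorem result (R : Type u) [CommRing R]
    [IsRegularLocalRing R] (d : ℕ) (hd : ringKrullDim R = d) (I : Ideal R)
    [IsRegularLocalRing (R ⧸ I)] :
    ∃ (x : Fin d → R) (c : ℕ) (hc : c ≤ d), Ideal.span (Set.range x) = IsLocalRing.maximalIdeal R ∧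
      I = Ideal.span (Set.range (fun i : Fin c => x (Fin.castLE hc i))) := by
  classical
  have hnt : I ≠ ⊤ := Ideal.Quotient.nontrivial_iff.mp inferInstance
  have hIm : I ≤ maximalIdeal R := le_maximalIdeal hnt
  -- dimension of the cotangent space
  have hfr : Module.finrank (ResidueField R) (CotangentSpace R) = d := by
    have h1 : ((maximalIdeal R).spanFinrank : WithBot ℕ∞) = ringKrullDim R :=
      IsRegularLocalRing.spanFinrank_maximalIdeal
    rw [hd] at h1
    have h2 : (maximalIdeal R).spanFinrank = d := by exact_mod_cast h1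
    rw [← h2, spanFinrank_maximalIdeal_eq_finrank_cotangentSpace]
  -- classes of elements of I
  let S : Set (CotangentSpace R) :=
    {v | ∃ (a : R) (ha : a ∈ I), (maximalIdeal R).toCotangent ⟨a, hIm ha⟩ = v}
  obtain ⟨b, hbS, hbspan, hbli⟩ := exists_linearIndependent (ResidueField R) S
  haveI : Finite b := hbli.finite
  haveI : Fintype b := Fintype.ofFinite b
  set c := Fintype.card b with hcdef
  have hc : c ≤ d := hfr ▸ hbli.fintype_card_le_finrank
  let e : Fin c ≃ b := (Fintype.equivFin b).symm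
  have hchoose : ∀ j : Fin c, ∃ (a : R) (ha : a ∈ I),
      (maximalIdeal R).toCotangent ⟨a, hIm ha⟩ = ((e j : b) : CotangentSpace R) :=
    fun j => hbS (e j).2
  choose a haI ha using hchoose
  let xI : Fin c → maximalIdeal R := fun j => ⟨a j, hIm (haI j)⟩
  have hxI : ∀ j, (maximalIdeal R).toCotangent (xI j) = ((e j : b) : CotangentSpace R) := ha
  have hli : LinearIndependent (ResidueField R) (fun j => (maximalIdeal R).toCotangent (xI j)) := by
    have h1 : (fun j => (maximalIdeal R).toCotangent (xI j)) = (Subtype.val : b → CotangentSpace R) ∘ e :=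
      funext hxI
    rw [h1]
    exact hbli.comp e e.injective
  set W : Submodule (ResidueField R) (CotangentSpace R) :=
    Submodule.span (ResidueField R) (Set.range fun j => (maximalIdeal R).toCotangent (xI j)) with hW
  have hWb : W = Submodule.span (ResidueField R) b := by
    rw [hW]
    congr 1
    ext v
    constructor
    · rintro ⟨j, rfl⟩
      show (maximalIdeal R).toCotangent (xI j) ∈ b
      rw [hxI]
      exact (e j).2
    · intro hv
      refine ⟨e.symm ⟨v, hv⟩, ?_⟩
      show (maximalIdeal R).toCotangent (xI (e.symm ⟨v, hv⟩)) = v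
      rw [hxI]
      simp
  -- complementary generators
  have hfrW : Module.finrank (ResidueField R) W = c := by
    rw [hW, finrank_span_eq_card hli, Fintype.card_fin]
  have hfrQ : Module.finrank (ResidueField R) (CotangentSpace R ⧸ W) = d - c := by
    have := W.finrank_quotient_add_finrank
    rw [hfrW, hfr] at this
    omega
  let bQ := Module.finBasisOfFinrankEq (ResidueField R) (CotangentSpace R ⧸ W) hfrQ
  have hwex : ∀ l : Fin (d - c), ∃ w : maximalIdeal R,
      W.mkQ ((maximalIdeal R).toCotangent w) = bQ l := by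
    intro l
    obtain ⟨v, hv⟩ := W.mkQ_surjective (bQ l)
    obtain ⟨w, hw⟩ := (maximalIdeal R).toCotangent_surjective v
    exact ⟨w, by rw [hw, hv]⟩
  choose w hw using hwex
  let xm : Fin d → maximalIdeal R := fun i =>
    if h : (i : ℕ) < c then xI ⟨i, h⟩ else w ⟨i - c, by have := i.2; omega⟩
  have hxm1 : ∀ j : Fin c, xm (Fin.castLE hc j) = xI j := by
    intro j
    simp only [xm, Fin.coe_castLE, j.2, dif_pos]
  have hxm2 : ∀ l : Fin (d - c), xm ⟨c + l, by have := l.2; omega⟩ = w l := by
    intro l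
    have h : ¬ (c + (l : ℕ) < c) := by omega
    simp only [xm, h, dif_neg, not_false_eq_true]
    congr 1
    apply Fin.ext
    simp
  set U : Submodule (ResidueField R) (CotangentSpace R) :=
    Submodule.span (ResidueField R) (Set.range fun i => (maximalIdeal R).toCotangent (xm i)) with hU
  have hWU : W ≤ U := by
    rw [hW, Submodule.span_le]
    rintro _ ⟨j, rfl⟩
    exact Submodule.subset_span ⟨Fin.castLE hc j, by simp only [hxm1]⟩
  have hUtop : U = ⊤ := by
    have h1 : Submodule.map W.mkQ U = ⊤ := by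
      rw [eq_top_iff, ← bQ.span_eq, Submodule.span_le]
      rintro _ ⟨l, rfl⟩
      refine ⟨(maximalIdeal R).toCotangent (w l), ?_, hw l⟩
      exact Submodule.subset_span ⟨⟨c + l, by have := l.2; omega⟩, by simp only [hxm2]⟩
    rw [Submodule.map_mkQ_eq_top, sup_eq_right.mpr hWU] at h1
    exact h1
  have hspan : Ideal.span (Set.range fun i => (xm i : R)) = maximalIdeal R := by
    have := (Groth.Agent.Lib.Helper9.RegLocal.span_cotangent_sup_eq_top_iff xm xm).mp
      (by rw [sup_idem]; exact hUtop)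
    rwa [sup_idem] at this
  -- the ideal J generated by the first c elements
  set J : Ideal R := Ideal.span (Set.range fun j => (xI j : R)) with hJ
  have hJI : J ≤ I := by
    rw [hJ, Ideal.span_le]
    rintro _ ⟨j, rfl⟩
    exact haI j
  obtain ⟨hdimJ, hregJ⟩ := Groth.Agent.Lib.Helper9.RegLocal.quotient_regular R c xI hli
  haveI : IsDomain (R ⧸ J) := Groth.Agent.Lib.Helper9.RegLocal.isDomain_of_isRegularLocalRing _
  -- I ≤ J ⊔ m²
  have hIJm : I ≤ J ⊔ maximalIdeal R ^ 2 := by
    intro z hz
    have h1 : (maximalIdeal R).toCotangent ⟨z, hIm hz⟩ ∈ W := by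
      rw [hWb, hbspan]
      exact Submodule.subset_span ⟨z, hz, rfl⟩
    rw [hW, Submodule.mem_span_range_iff_exists_fun] at h1
    obtain ⟨κ, hκ⟩ := h1
    have hr : ∀ j, ∃ r : R, residue R r = κ j := fun j => residue_surjective (κ j)
    choose r hr using hr
    have h2 : (maximalIdeal R).toCotangent ⟨z, hIm hz⟩ =
        (maximalIdeal R).toCotangent (∑ j, r j • xI j) := by
      rw [← hκ, map_sum]
      refine Finset.sum_congr rfl fun j _ => ?_
      rw [map_smul, ← hr j]
      exact (IsScalarTower.algebraMap_smul (ResidueField R) (r j) _)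
    rw [Ideal.toCotangent_eq] at h2
    have h3 : ((∑ j, r j • xI j : maximalIdeal R) : R) = ∑ j, r j * (xI j : R) := by
      simp
    have h4 : z = ∑ j, r j * (xI j : R) + (z - ∑ j, r j * (xI j : R)) := by ring
    rw [h4]
    refine Submodule.add_mem_sup ?_ ?_
    · exact Ideal.sum_mem _ fun j _ => Ideal.mul_mem_left _ _ (Ideal.subset_span ⟨j, rfl⟩)
    · rw [← h3]
      exact h2
  -- pass to R' = R/J
  set I' : Ideal (R ⧸ J) := I.map (Ideal.Quotient.mk J) with hI'
  let eD : (R ⧸ J) ⧸ I' ≃+* R ⧸ I := DoubleQuot.quotQuotEquivQuotOfLE hJI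
  haveI : IsRegularLocalRing ((R ⧸ J) ⧸ I') := IsRegularLocalRing.of_ringEquiv eD.symm
  have hI'sq : I' ≤ maximalIdeal (R ⧸ J) ^ 2 := by
    rw [hI', ← map_maximalIdeal_of_surjective (Ideal.Quotient.mk J) Ideal.Quotient.mk_surjective,
      ← Ideal.map_pow]
    refine (Ideal.map_mono hIJm).trans ?_
    rw [Ideal.map_sup, Ideal.map_quotient_self, bot_sup_eq]
  have h5 := spanFinrank_le_of_le_sq I' hI'sq
  have h6 : ((maximalIdeal (R ⧸ J)).spanFinrank : WithBot ℕ∞) = ringKrullDim (R ⧸ J) :=
    IsRegularLocalRing.spanFinrank_maximalIdeal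
  have h7 : ((maximalIdeal ((R ⧸ J) ⧸ I')).spanFinrank : WithBot ℕ∞) =
      ringKrullDim ((R ⧸ J) ⧸ I') := IsRegularLocalRing.spanFinrank_maximalIdeal
  have h8 : ringKrullDim (R ⧸ J) ≤ ringKrullDim ((R ⧸ J) ⧸ I') := by
    rw [← h6, ← h7]
    exact_mod_cast h5
  have hI'bot : I' = ⊥ := eq_bot_of_dim_le _ h6.symm I' h8
  have hIJ : I ≤ J := by
    rw [hI', Ideal.map_eq_bot_iff_le_ker, Ideal.mk_ker] at hI'bot
    exact hI'bot
  refine ⟨fun i => (xm i : R), c, hc, hspan, ?_⟩
  rw [le_antisymm hIJ hJI, hJ]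
  congr 1
  ext z
  constructor
  · rintro ⟨j, rfl⟩
    exact ⟨j, by simp only [hxm1]⟩
  · rintro ⟨j, rfl⟩
    exact ⟨j, by simp only [hxm1]⟩

end Groth.Agent.S0561
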