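import Groth.Statements.S0574
import Mathlib

set_option autoImplicit false
universe u
open CAlg

namespace Groth.Agent.S0574

set_option backward.isDefEq.respectTransparency false in
lemma aux (R : Type u) [CommRing R] [IsDomain R] [IsNoetherianRing R] [CharZero R]
    (h1 : Module.Finite R (integralClosure R (FractionRing R)))
    (L : Type u) [Field L] [Algebra R L] [Algebra (FractionRing R) L]
    [IsScalarTower R (FractionRing R) L] [FiniteDimensional (FractionRing R) L] :
    Module.Finite R (integralClosure R L) := by
  classical
  haveI : IsNoetherian R (integralClosure R (FractionRing R)) :=
    isNoetherian_of_isNoetherianRing_of_finite R _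
  haveI : IsNoetherianRing (integralClosure R (FractionRing R)) :=
    isNoetherian_of_tower R inferInstance
  haveI : IsFractionRing (integralClosure R (FractionRing R)) (FractionRing R) :=
    integralClosure.isFractionRing_of_finite_extension (FractionRing R) (FractionRing R)
  haveI : IsIntegrallyClosed (integralClosure R (FractionRing R)) :=
    integralClosure.isIntegrallyClosedOfFiniteExtension (FractionRing R)
  haveI : CharZero (FractionRing R) :=
    charZero_of_injective_algebraMap (IsFractionRing.injective R (FractionRing R))
  haveI : IsScalarTower (integralClosure R (FractionRing R)) (FractionRing R) L := inferInstance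
  haveI : IsScalarTower R (integralClosure R (FractionRing R)) L :=
    IsScalarTower.of_algebraMap_eq (fun x => by
      rw [IsScalarTower.algebraMap_apply R (FractionRing R) L]
      rfl)
  have hfin : Module.Finite (integralClosure R (FractionRing R))
      (integralClosure (integralClosure R (FractionRing R)) L) :=
    IsIntegralClosure.finite (integralClosure R (FractionRing R)) (FractionRing R) L
      (integralClosure (integralClosure R (FractionRing R)) L)
  haveI : Module.Finite R (integralClosure (integralClosure R (FractionRing R)) L) :=
    Module.Finite.trans (integralClosure R (FractionRing R)) _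
  let f : (integralClosure (integralClosure R (FractionRing R)) L) →ₗ[R] (integralClosure R L) :=
    { toFun := fun x => ⟨x.1, isIntegral_trans x.1 x.2⟩
      map_add' := fun x y => rfl
      map_smul' := fun r x => rfl }
  apply Module.Finite.of_surjective f
  rintro ⟨c, hc⟩
  exact ⟨⟨c, IsIntegral.tower_top hc⟩, rfl⟩


/-- For Noetherian domains of characteristic zero the conditions N-1 and N-2 coincide. -/
theorem result (R : Type u) [CommRing R] [IsDomain R] [IsNoetherianRing R]
    [CharZero R] : CAlg.IsN1 R ↔ CAlg.IsN2 R := by
  constructor
  · intro h1 L _ _ _ _ hfd
    exact aux R h1 L
  · intro h2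
    exact h2 (FractionRing R) inferInstance

end Groth.Agent.S0574
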