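import Groth.Statements.S0577
import Groth.Agent.Lib.Helper27.NagAU2
open Groth.Agent.Lib.Helper27 TensorProduct

set_option autoImplicit false
universe u
open CAlg

namespace Groth.Agent.S0577

/-- Let `A` be a Noetherian local domain of prime characteristic `p` which is a Nagata ring. If `a ∈ A`
has a `p`-th root in the completion of `A`, then it has a `p`-th root in `A`. -/
theorem result (A : Type u) [CommRing A] [IsDomain A]
    [IsLocalRing A] (hA : CAlg.IsNagata A) (p : ℕ) [Fact p.Prime] [CharP A p] (a : A)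
    (h : ∃ α : AdicCompletion (IsLocalRing.maximalIdeal A) A,
      α ^ p = algebraMap A (AdicCompletion (IsLocalRing.maximalIdeal A) A) a) :
    ∃ b : A, b ^ p = a := by
  obtain ⟨hnoeth, hN⟩ := hA
  haveI := hnoeth
  obtain ⟨α, hα⟩ := h
  have hp : p.Prime := Fact.out
  let 𝔪 := IsLocalRing.maximalIdeal A
  let L := AlgebraicClosure (FractionRing A)
  have hinjL : Function.Injective (algebraMap A L) := by
    rw [IsScalarTower.algebraMap_eq A (FractionRing A) L]
    exact (algebraMap (FractionRing A) L).injective.comp (IsFractionRing.injective A _)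
  obtain ⟨β, hβ⟩ := IsAlgClosed.exists_pow_nat_eq (algebraMap A L a) hp.pos
  have hβint : IsIntegral A β := by
    refine ⟨Polynomial.X ^ p - Polynomial.C a, Polynomial.monic_X_pow_sub_C a hp.ne_zero, ?_⟩
    simp [hβ]
  let C : Subalgebra A L := Algebra.adjoin A {β}
  haveI : Module.Finite A C := Module.Finite.iff_fg.mpr hβint.fg_adjoin_singleton
  have hinjC : Function.Injective (algebraMap A C) := by
    intro x y hxy
    apply hinjL
    exact congrArg Subtype.val hxy
  have hred : IsReduced (AdicCompletion 𝔪 A ⊗[A] C) :=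
    NagAU.core 𝔪 hN ⊥ C ((RingHom.injective_iff_ker_eq_bot _).mp hinjC)
  let β' : C := ⟨β, Algebra.subset_adjoin (Set.mem_singleton β)⟩
  have hβ' : β' ^ p = algebraMap A C a := by
    apply Subtype.ext
    simp only [SubmonoidClass.coe_pow, β', hβ]
    rfl
  -- `p = 0` in the tensor product
  have hp0 : (p : AdicCompletion 𝔪 A ⊗[A] C) = 0 := by
    have h1 : (p : A) = 0 := CharP.cast_eq_zero A p
    have h2 : (p : AdicCompletion 𝔪 A ⊗[A] C) =
        algebraMap A (AdicCompletion 𝔪 A ⊗[A] C) (p : A) := by rw [map_natCast]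
    rw [h2, h1, map_zero]
  -- the key nilpotent element
  have hz : ((1 : AdicCompletion 𝔪 A) ⊗ₜ[A] β' + (-α) ⊗ₜ[A] (1 : C)) ^ p = 0 := by
    obtain ⟨r, hr⟩ := exists_add_pow_prime_eq hp ((1 : AdicCompletion 𝔪 A) ⊗ₜ[A] β')
      ((-α) ⊗ₜ[A] (1 : C))
    rw [hr, hp0, zero_mul, zero_mul, zero_mul, add_zero, Algebra.TensorProduct.tmul_pow,
      Algebra.TensorProduct.tmul_pow, one_pow, one_pow, hβ']
    rcases hp.eq_two_or_odd' with h2 | hodd
    · have h3 : (2 : AdicCompletion 𝔪 A) = 0 := by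
        have h1 : (p : A) = 0 := CharP.cast_eq_zero A p
        have : (2 : AdicCompletion 𝔪 A) = algebraMap A (AdicCompletion 𝔪 A) (p : A) := by
          rw [map_natCast, h2]; rfl
        rw [this, h1, map_zero]
      have h4 : -α = α := by
        have : α + α = 0 := by rw [← two_mul, h3, zero_mul]
        exact neg_eq_of_add_eq_zero_left this
      rw [h4, hα, Algebra.algebraMap_eq_smul_one (A := C), TensorProduct.tmul_smul,
        Algebra.algebraMap_eq_smul_one (A := AdicCompletion 𝔪 A), ← TensorProduct.smul_tmul',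
        ← two_smul A, ← Nat.cast_ofNat (R := A), ← h2]
      have h1 : (p : A) = 0 := CharP.cast_eq_zero A p
      rw [h1, zero_smul]
    · rw [hodd.neg_pow, hα, Algebra.algebraMap_eq_smul_one (A := C), TensorProduct.tmul_smul,
        Algebra.algebraMap_eq_smul_one (A := AdicCompletion 𝔪 A), TensorProduct.neg_tmul,
        ← TensorProduct.smul_tmul', add_neg_cancel]
  have hz0 : (1 : AdicCompletion 𝔪 A) ⊗ₜ[A] β' + (-α) ⊗ₜ[A] (1 : C) = 0 :=
    IsNilpotent.eq_zero ⟨p, hz⟩
  have hz1 : (1 : AdicCompletion 𝔪 A) ⊗ₜ[A] β' = α ⊗ₜ[A] (1 : C) := by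
    rw [TensorProduct.neg_tmul] at hz0
    exact add_neg_eq_zero.mp hz0
  -- faithfully flat descent
  haveI : Module.FaithfullyFlat A (AdicCompletion 𝔪 A) :=
    Module.FaithfullyFlat.of_flat_of_isLocalHom
  let f : A →ₗ[A] C := Algebra.linearMap A C
  let N : Submodule A C := LinearMap.range f
  have hex : Function.Exact f N.mkQ := by
    rw [LinearMap.exact_iff, Submodule.ker_mkQ]
  have hex' := lTensor_exact (AdicCompletion 𝔪 A) hex (Submodule.mkQ_surjective N)
  have h5 : LinearMap.lTensor (AdicCompletion 𝔪 A) N.mkQ ((1 : AdicCompletion 𝔪 A) ⊗ₜ[A] β') = 0 := by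
    rw [hz1]
    apply (hex' _).mpr
    exact ⟨α ⊗ₜ[A] (1 : A), by simp [f]⟩
  rw [LinearMap.lTensor_tmul] at h5
  have h6 : N.mkQ β' = 0 :=
    Module.FaithfullyFlat.tensorProduct_mk_injective (A := A) (B := AdicCompletion 𝔪 A) (C ⧸ N)
      (by simpa using h5)
  rw [Submodule.mkQ_apply, Submodule.Quotient.mk_eq_zero] at h6
  obtain ⟨b, hb⟩ := h6
  refine ⟨b, hinjC ?_⟩
  rw [map_pow, ← hβ']
  congr 1

end Groth.Agent.S0577
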