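import Groth.Statements.S0583
import Groth.Agent.Lib.Helper25.Kaplansky
open Groth.Agent.Lib.Helper25

set_option autoImplicit false
universe u
open scoped Classical
open CAlg

namespace Groth.Agent.S0583

/-- If a module is an internal direct sum of countably generated submodules, then any direct summand of
it is again an internal direct sum of countably generated submodules. -/
theorem result (R : Type u) [CommRing R] (M : Type u)
    [AddCommGroup M] [Module R M] (ι : Type u) (N : ι → Submodule R M) (hN : DirectSum.IsInternal N)
    (hc : ∀ i, CAlg.IsCountablyGenerated R (N i)) (P Q : Submodule R M) (hPQ : IsCompl P Q) :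
    ∃ (κ : Type u) (L : κ → Submodule R P), DirectSum.IsInternal L ∧
      ∀ k, CAlg.IsCountablyGenerated R (L k) := by
  obtain ⟨hind, hsup⟩ := (DirectSum.isInternal_submodule_iff_iSupIndep_and_iSup_eq_top N).1 hN
  obtain ⟨𝓛, hcg, hLind, hLsup⟩ := Kaplansky.main (P.projection Q hPQ) P N
    (fun x => Submodule.projection_apply_mem hPQ x)
    (fun x hx => Submodule.projection_apply_of_mem_left hPQ hx) hind hsup
    (fun i => Kaplansky.CG.of_isCountablyGenerated (hc i))
  refine ⟨↥𝓛, fun k => Submodule.comap P.subtype k.1, ?_, ?_⟩
  · have h := Kaplansky.internal_of_sSupIndep hLind hLsup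
    exact DirectSum.isInternal_submodule_of_iSupIndep_of_iSup_eq_top
      (dec_ι := fun a b => Classical.propDecidable (a = b)) h.1 h.2
  · intro k
    exact (hcg k.1 k.2).isCountablyGenerated_comap (hLsup ▸ le_sSup k.2)

end Groth.Agent.S0583
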