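import Groth.Statements.S0605
import Mathlib
import Groth.Agent.Lib.Helper9.RegLocal
import Groth.Agent.Lib.Helper4.FiniteExt

set_option autoImplicit false
universe u
open CAlg

namespace Groth.Agent.S0605

open IsLocalRing

set_option backward.isDefEq.respectTransparency false in
lemma aux : ∀ (d : ℕ) (R : Type u) [CommRing R] [IsRegularLocalRing R] (M : Type u)
    [AddCommGroup M] [Module R M] [Module.Finite R M],
    ringKrullDim R = d → LocCoh.depth R M = d → Module.Free R M := by
  intro d
  induction d with
  | zero =>
    intro R _ _ M _ _ _ hd _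
    have h0 : (maximalIdeal R).spanFinrank = 0 := by
      have h1 : ((maximalIdeal R).spanFinrank : WithBot ℕ∞) = ringKrullDim R :=
        IsRegularLocalRing.spanFinrank_maximalIdeal
      rw [hd] at h1
      exact_mod_cast h1
    rw [Submodule.spanFinrank_eq_zero_iff_eq_bot (maximalIdeal R).fg_of_isNoetherianRing] at h0
    have hF : IsField R := (isField_iff_maximalIdeal_eq).mpr h0
    letI := hF.toField
    exact Module.Free.of_divisionRing R M
  | succ d ih =>
    intro R _ _ M _ _ _ hd hdepth
    classical
    haveI : IsDomain R := Groth.Agent.Lib.Helper9.RegLocal.isDomain_of_isRegularLocalRing R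
    have hsf : (maximalIdeal R).spanFinrank = d + 1 := by
      have h1 : ((maximalIdeal R).spanFinrank : WithBot ℕ∞) = ringKrullDim R :=
        IsRegularLocalRing.spanFinrank_maximalIdeal
      rw [hd] at h1
      exact_mod_cast h1
    have hAss : maximalIdeal R ∉ associatedPrimes R M := by
      rw [← Groth.Agent.Lib.Helper4.depth_eq_zero_iff_maximalIdeal_mem_associatedPrimes, hdepth]
      exact_mod_cast Nat.succ_ne_zero d
    have hm2 : ¬ (maximalIdeal R ≤ maximalIdeal R ^ 2) := by
      intro hle
      have hbot : maximalIdeal R = ⊥ :=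
        Submodule.eq_bot_of_le_smul_of_le_jacobson_bot (maximalIdeal R) (maximalIdeal R)
          (maximalIdeal R).fg_of_isNoetherianRing (by rwa [smul_eq_mul, ← pow_two])
          (IsLocalRing.maximalIdeal_le_jacobson ⊥)
      rw [← Submodule.spanFinrank_eq_zero_iff_eq_bot (maximalIdeal R).fg_of_isNoetherianRing,
        hsf] at hbot
      omega
    -- prime avoidance
    have hfin : (associatedPrimes R M).Finite := associatedPrimes.finite R M
    let s : Finset (Ideal R) := insert (maximalIdeal R ^ 2) hfin.toFinset
    have hnot : ¬ ((maximalIdeal R : Set R) ⊆ ⋃ i ∈ (↑s : Set (Ideal R)), (id i : Ideal R)) := by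
      rw [Ideal.subset_union_prime (f := id) (maximalIdeal R ^ 2) (maximalIdeal R ^ 2)]
      · rintro ⟨i, hi, hle⟩
        rw [Finset.mem_insert] at hi
        rcases hi with rfl | hi
        · exact hm2 hle
        · rw [Set.Finite.mem_toFinset] at hi
          have hip : i.IsPrime := IsAssociatedPrime.isPrime hi
          have : maximalIdeal R = i := (maximalIdeal.isMaximal R).eq_of_le hip.ne_top hle
          exact hAss (this ▸ hi)
      · intro i hi hne _
        rw [Finset.mem_insert] at hi
        rcases hi with rfl | hi
        · exact absurd rfl hne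
        · rw [Set.Finite.mem_toFinset] at hi
          exact IsAssociatedPrime.isPrime hi
    rw [Set.not_subset] at hnot
    obtain ⟨x, hxm, hxnot⟩ := hnot
    have hxm' : x ∈ maximalIdeal R := hxm
    have hx2 : x ∉ maximalIdeal R ^ 2 := by
      intro h
      apply hxnot
      exact Set.mem_biUnion (Finset.mem_coe.mpr (Finset.mem_insert_self _ _)) h
    have hxAss : ∀ p ∈ associatedPrimes R M, x ∉ p := by
      intro p hp h
      apply hxnot
      refine Set.mem_biUnion (Finset.mem_coe.mpr (Finset.mem_insert_of_mem ?_)) h
      rwa [Set.Finite.mem_toFinset]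
    have hreg : IsSMulRegular M x := by
      rw [isSMulRegular_iff_right_eq_zero_of_smul]
      intro m hm
      by_contra hm0
      have hx' : x ∈ ⋃ p ∈ associatedPrimes R M, (p : Set R) := by
        rw [biUnion_associatedPrimes_eq_zero_divisors R M]
        exact ⟨m, hm0, hm⟩
      rw [Set.mem_iUnion₂] at hx'
      obtain ⟨p, hp, hxp⟩ := hx'
      exact hxAss p hp hxp
    -- the quotient ring
    let xm : Fin 1 → maximalIdeal R := fun _ => ⟨x, hxm'⟩
    have hli : LinearIndependent (ResidueField R)
        (fun i => (maximalIdeal R).toCotangent (xm i)) := by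
      rw [linearIndependent_unique_iff]
      intro h0
      rw [Ideal.toCotangent_eq_zero] at h0
      exact hx2 h0
    obtain ⟨hdimJ, hregJ⟩ := Groth.Agent.Lib.Helper9.RegLocal.quotient_regular R 1 xm hli
    have hJ : Ideal.span (Set.range fun i => ((xm i : maximalIdeal R) : R)) =
        Ideal.span ({x} : Set R) := by
      congr 1
      ext r
      simp [xm]
    let e : (R ⧸ Ideal.span (Set.range fun i => ((xm i : maximalIdeal R) : R))) ≃+*
        (R ⧸ Ideal.span ({x} : Set R)) := Ideal.quotEquivOfEq hJ
    haveI : IsRegularLocalRing (R ⧸ Ideal.span ({x} : Set R)) := IsRegularLocalRing.of_ringEquiv e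
    have hdim' : ringKrullDim (R ⧸ Ideal.span ({x} : Set R)) = d := by
      rw [← ringKrullDim_eq_of_ringEquiv e]
      have h6 : ((maximalIdeal
          (R ⧸ Ideal.span (Set.range fun i => ((xm i : maximalIdeal R) : R)))).spanFinrank :
          WithBot ℕ∞) =
          ringKrullDim (R ⧸ Ideal.span (Set.range fun i => ((xm i : maximalIdeal R) : R))) :=
        IsRegularLocalRing.spanFinrank_maximalIdeal
      rw [hd, ← h6] at hdimJ
      rw [← h6]
      have h7 : (maximalIdeal
          (R ⧸ Ideal.span (Set.range fun i => ((xm i : maximalIdeal R) : R)))).spanFinrank + 1 =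
          d + 1 := by exact_mod_cast hdimJ
      have h8 : (maximalIdeal
          (R ⧸ Ideal.span (Set.range fun i => ((xm i : maximalIdeal R) : R)))).spanFinrank = d := by
        omega
      rw [h8]
    haveI : Module.Finite (R ⧸ Ideal.span ({x} : Set R)) (QuotSMulTop x M) :=
      Module.Finite.of_restrictScalars_finite R (R ⧸ Ideal.span {x}) (QuotSMulTop x M)
    have hdep1 := Groth.Agent.Lib.Helper4.idealDepth_quotSMulTop_add_one (M := M)
      (maximalIdeal R) x hxm' hreg
    have hdep2 : LocCoh.idealDepth (maximalIdeal R) (QuotSMulTop x M) = d := by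
      have h1 : LocCoh.idealDepth (maximalIdeal R) M = ((d + 1 : ℕ) : ℕ∞) := hdepth
      rw [h1] at hdep1
      have h2 : LocCoh.idealDepth (maximalIdeal R) (QuotSMulTop x M) + 1 = (d : ℕ∞) + 1 := by
        rw [hdep1]; push_cast; rfl
      exact ENat.add_left_injective_of_ne_top ENat.one_ne_top h2
    have hdep3 : LocCoh.depth (R ⧸ Ideal.span ({x} : Set R)) (QuotSMulTop x M) = d := by
      unfold LocCoh.depth
      rw [← hdep2, Groth.Agent.Lib.Helper4.idealDepth_map_eq (A := R)
        (B := R ⧸ Ideal.span ({x} : Set R)) (maximalIdeal R) (QuotSMulTop x M)]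
      congr 1
      exact (map_maximalIdeal_of_surjective (Ideal.Quotient.mk (Ideal.span ({x} : Set R)))
        Ideal.Quotient.mk_surjective).symm
    haveI : Module.Free (R ⧸ Ideal.span ({x} : Set R)) (QuotSMulTop x M) :=
      ih (R ⧸ Ideal.span ({x} : Set R)) (QuotSMulTop x M) hdim' hdep3
    haveI : Module.FinitePresentation R M := Module.finitePresentation_of_finite R M
    exact (Module.free_quotSMulTop_iff_free R M
      (IsLocalRing.maximalIdeal_le_jacobson ⊥ hxm') hreg).mp inferInstance


/-- Over a regular local ring, a finitely generated module whose depth equals the dimension of the ring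
(a maximal Cohen–Macaulay module) is free. -/
theorem result (R : Type u) [CommRing R]
    [IsRegularLocalRing R] (M : Type u) [AddCommGroup M] [Module R M] [Module.Finite R M]
    (h : ((LocCoh.depth R M : ℕ∞) : WithBot ℕ∞) = ringKrullDim R) : Module.Free R M := by
  have h1 : ((maximalIdeal R).spanFinrank : WithBot ℕ∞) = ringKrullDim R :=
    IsRegularLocalRing.spanFinrank_maximalIdeal
  refine aux (maximalIdeal R).spanFinrank R M h1.symm ?_
  rw [← h1] at h
  exact_mod_cast h

end Groth.Agent.S0605
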