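import Groth.Statements.S1852
import Mathlib
import Groth.Prelude.Def_CycDet
import Groth.Agent.Lib.Helper27.CD1

set_option autoImplicit false
universe u
open CycAlg

namespace Groth.Agent.S1852

namespace H1852
open CycDet Groth.Agent.Lib.Helper27.CD

section loc
variable {R : Type u} [CommRing R] (S : Submonoid R)

theorem length_loc_exact {A B C : Type u} [AddCommGroup A] [AddCommGroup B] [AddCommGroup C]
    [Module R A] [Module R B] [Module R C]
    (f : A →ₗ[R] B) (g : B →ₗ[R] C) (hf : Function.Injective f) (hg : Function.Surjective g)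
    (ex : Function.Exact f g) :
    Module.length (Localization S) (LocalizedModule S B) =
      Module.length (Localization S) (LocalizedModule S A) +
        Module.length (Localization S) (LocalizedModule S C) :=
  Module.length_eq_add_of_exact (LocalizedModule.map S f) (LocalizedModule.map S g)
    (LocalizedModule.map_injective S f hf) (LocalizedModule.map_surjective S g hg)
    (LocalizedModule.map_exact S f g ex)

theorem length_loc_equiv {A B : Type u} [AddCommGroup A] [AddCommGroup B] [Module R A]
    [Module R B] (e : A ≃ₗ[R] B) :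
    Module.length (Localization S) (LocalizedModule S A) =
      Module.length (Localization S) (LocalizedModule S B) :=
  (IsLocalizedModule.mapEquiv S (LocalizedModule.mkLinearMap S A)
    (LocalizedModule.mkLinearMap S B) (Localization S) e).length_eq

theorem length_loc_quot_prime (q : Ideal R) [q.IsPrime] :
    Module.length (Localization q.primeCompl) (LocalizedModule q.primeCompl (R ⧸ q)) = 1 := by
  rw [Module.length_eq_one_iff, isSimpleModule_iff_toSpanSingleton_surjective]
  constructor
  · refine ⟨⟨LocalizedModule.mk (1 : R ⧸ q) 1, 0, ?_⟩⟩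
    intro h
    rw [← LocalizedModule.zero_mk (1 : q.primeCompl), LocalizedModule.mk_eq] at h
    obtain ⟨u, hu⟩ := h
    simp only [one_smul, smul_zero] at hu
    have : (Ideal.Quotient.mk q (u : R)) = 0 := by
      rw [← hu, Submonoid.smul_def, Algebra.smul_def, mul_one]; rfl
    exact u.2 (Ideal.Quotient.eq_zero_iff_mem.mp this)
  · intro x
    refine LocalizedModule.induction_on (fun a s hx y => ?_) x
    obtain ⟨r, rfl⟩ := Ideal.Quotient.mk_surjective a
    have hr : r ∈ q.primeCompl := by
      intro hrq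
      apply hx
      rw [Ideal.Quotient.eq_zero_iff_mem.mpr hrq, LocalizedModule.zero_mk]
    refine LocalizedModule.induction_on (fun a' s' => ?_) y
    obtain ⟨r', rfl⟩ := Ideal.Quotient.mk_surjective a'
    refine ⟨Localization.mk (r' * s) (⟨r, hr⟩ * s'), ?_⟩
    rw [LinearMap.toSpanSingleton_apply, LocalizedModule.mk_smul_mk, LocalizedModule.mk_eq]
    refine ⟨1, ?_⟩
    simp only [one_smul, Submonoid.smul_def, Submonoid.coe_mul, Algebra.smul_def,
      Ideal.Quotient.algebraMap_eq, ← map_mul]
    congr 1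
    ring

theorem step_length (q : Ideal R) [q.IsPrime] {M : Type u} [AddCommGroup M] [Module R M]
    (P P' : Submodule R M) (hle : P ≤ P')
    (e : (↥P' ⧸ P.submoduleOf P') ≃ₗ[R] (R ⧸ q)) :
    Module.length (Localization q.primeCompl) (LocalizedModule q.primeCompl ↥P') =
      Module.length (Localization q.primeCompl) (LocalizedModule q.primeCompl ↥P) + 1 := by
  rw [length_loc_exact q.primeCompl (P.submoduleOf P').subtype (P.submoduleOf P').mkQ
    (Submodule.injective_subtype _) (Submodule.mkQ_surjective _) (LinearMap.exact_subtype_mkQ _),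
    length_loc_equiv q.primeCompl (Submodule.submoduleOfEquivOfLe hle),
    length_loc_equiv q.primeCompl e, length_loc_quot_prime q]

theorem last_step_equiv {M : Type u} [AddCommGroup M] [Module R M]
    (q : Ideal R) (N : Submodule R M) (y : M)
    (hyq : ∀ r : R, r ∈ q ↔ r • y ∈ N) :
    Nonempty ((↥(N ⊔ Submodule.span R {y}) ⧸ N.submoduleOf (N ⊔ Submodule.span R {y}))
      ≃ₗ[R] (R ⧸ q)) := by
  have hy : y ∈ N ⊔ Submodule.span R {y} :=
    Submodule.mem_sup_right (Submodule.mem_span_singleton_self y)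
  obtain ⟨ψ, hψ⟩ : ∃ ψ : R →ₗ[R] (↥(N ⊔ Submodule.span R {y}) ⧸
      N.submoduleOf (N ⊔ Submodule.span R {y})),
      ∀ r, ψ r = (N.submoduleOf (N ⊔ Submodule.span R {y})).mkQ (r • ⟨y, hy⟩) :=
    ⟨(N.submoduleOf (N ⊔ Submodule.span R {y})).mkQ ∘ₗ
      LinearMap.toSpanSingleton R ↥(N ⊔ Submodule.span R {y}) ⟨y, hy⟩, fun r => rfl⟩
  have hker : LinearMap.ker ψ = q := by
    ext r
    rw [LinearMap.mem_ker, hψ, Submodule.mkQ_apply, Submodule.Quotient.mk_eq_zero, hyq r]
    exact Iff.rfl
  have hsurj : Function.Surjective ψ := by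
    intro z
    obtain ⟨⟨w, hw⟩, rfl⟩ := Submodule.mkQ_surjective _ z
    obtain ⟨n, hn, v, hv, rfl⟩ := Submodule.mem_sup.mp hw
    obtain ⟨r, rfl⟩ := Submodule.mem_span_singleton.mp hv
    refine ⟨r, ?_⟩
    rw [hψ, Submodule.mkQ_apply, Submodule.mkQ_apply, Submodule.Quotient.eq]
    show ((r • (⟨y, hy⟩ : ↥(N ⊔ Submodule.span R {y})) - ⟨n + r • y, hw⟩ :
      ↥(N ⊔ Submodule.span R {y})) : M) ∈ N
    have : ((r • (⟨y, hy⟩ : ↥(N ⊔ Submodule.span R {y})) - ⟨n + r • y, hw⟩ :
      ↥(N ⊔ Submodule.span R {y})) : M) = -n := by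
      show r • y - (n + r • y) = -n
      abel
    rw [this]; exact N.neg_mem hn
  exact ⟨((Submodule.quotEquivOfEq _ _ hker).symm.trans
    (ψ.quotKerEquivOfSurjective hsurj)).symm⟩

end loc

section main
variable {R : Type u} [CommRing R] [IsLocalRing R] {M : Type u} [AddCommGroup M] [Module R M]

theorem spanBefore_snoc {l : ℕ} (x : Fin l → M) (y : M) (i : ℕ) (hi : i ≤ l) :
    spanBefore R M (Fin.snoc (α := fun _ => M) x y) i = spanBefore R M x i := by
  apply le_antisymm
  · rw [spanBefore_le_iff]
    intro j hj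
    have hjl : (j : ℕ) < l := lt_of_lt_of_le hj hi
    have hj' : j = Fin.castSucc ⟨j, hjl⟩ := Fin.ext rfl
    rw [hj', Fin.snoc_castSucc]
    exact mem_spanBefore x ⟨j, hjl⟩ hj
  · rw [spanBefore_le_iff]
    intro j hj
    have hxj : x j = Fin.snoc (α := fun _ => M) x y (Fin.castSucc j) :=
      (Fin.snoc_castSucc (α := fun _ => M) y x j).symm
    rw [hxj]
    exact mem_spanBefore _ (Fin.castSucc j) hj

theorem part2 (q : PrimeSpectrum R)
    (l : ℕ) (x : Fin l → M)
    (hsupp : q ∉ Module.support R (M ⧸ Submodule.span R (Set.range x)))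
    (hsteps : ∀ i : Fin l, Nonempty ((↥(spanBefore R M x ((i : ℕ) + 1)) ⧸
      (spanBefore R M x (i : ℕ)).submoduleOf (spanBefore R M x ((i : ℕ) + 1))) ≃ₗ[R]
        (R ⧸ q.asIdeal))) :
    (l : ℕ∞) = Module.length (Localization.AtPrime q.asIdeal)
      (LocalizedModule q.asIdeal.primeCompl M) := by
  have hchain : ∀ i : ℕ, i ≤ l → Module.length (Localization q.asIdeal.primeCompl)
      (LocalizedModule q.asIdeal.primeCompl ↥(spanBefore R M x i)) = (i : ℕ∞) := by
    intro i
    induction i with
    | zero =>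
      intro _
      rw [Nat.cast_zero, Module.length_eq_zero_iff]
      have h0 : spanBefore R M x 0 = ⊥ := spanBefore_zero x
      have : Subsingleton ↥(spanBefore R M x 0) := by
        rw [h0]; infer_instance
      infer_instance
    | succ i ih =>
      intro hi
      obtain ⟨e⟩ := hsteps ⟨i, hi⟩
      have h : Module.length (Localization q.asIdeal.primeCompl)
          (LocalizedModule q.asIdeal.primeCompl ↥(spanBefore R M x (i + 1))) =
          Module.length (Localization q.asIdeal.primeCompl)
            (LocalizedModule q.asIdeal.primeCompl ↥(spanBefore R M x i)) + 1 :=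
        step_length q.asIdeal _ _ (spanBefore_mono x (Nat.le_succ i)) e
      rw [h, ih (Nat.le_of_succ_le hi), Nat.cast_succ]
  have hl := hchain l le_rfl
  rw [spanBefore_of_le x le_rfl] at hl
  have hsub : Subsingleton (LocalizedModule q.asIdeal.primeCompl
      (M ⧸ Submodule.span R (Set.range x))) := Module.notMem_support_iff.mp hsupp
  have h := length_loc_exact q.asIdeal.primeCompl (Submodule.span R (Set.range x)).subtype
    (Submodule.span R (Set.range x)).mkQ (Submodule.injective_subtype _)
    (Submodule.mkQ_surjective _) (LinearMap.exact_subtype_mkQ _)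
  rw [hl, Module.length_eq_zero_iff.mpr hsub, add_zero] at h
  exact h.symm

theorem ass_step [IsNoetherianRing R] [Module.Finite R M] (q : PrimeSpectrum R)
    (hq : Minimal (fun p : PrimeSpectrum R => p ∈ Module.support R M) q)
    (N : Submodule R M) (hqN : q ∈ Module.support R (M ⧸ N)) :
    ∃ y : M, ∀ r : R, r ∈ q.asIdeal ↔ r • y ∈ N := by
  have hsub : Module.support R (M ⧸ N) ⊆ Module.support R M :=
    Module.support_subset_of_surjective N.mkQ (Submodule.mkQ_surjective N)
  have hmin : q.asIdeal ∈ (Module.annihilator R (M ⧸ N)).minimalPrimes := by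
    rw [Module.support_eq_zeroLocus] at hqN
    refine ⟨⟨q.2, ?_⟩, ?_⟩
    · exact fun r hr => (PrimeSpectrum.mem_zeroLocus _ _).mp hqN hr
    · rintro p' ⟨hp', hann⟩ hle
      have hp'mem : (⟨p', hp'⟩ : PrimeSpectrum R) ∈ Module.support R (M ⧸ N) := by
        rw [Module.support_eq_zeroLocus]
        exact (PrimeSpectrum.mem_zeroLocus _ _).mpr (fun r hr => hann hr)
      have h := hq.2 (hsub hp'mem) (show (⟨p', hp'⟩ : PrimeSpectrum R) ≤ q from hle)
      exact h
  have hass : IsAssociatedPrime q.asIdeal (M ⧸ N) :=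
    Module.associatedPrimes.minimalPrimes_annihilator_subset_associatedPrimes R (M ⧸ N) hmin
  obtain ⟨_, y', hy'⟩ := isAssociatedPrime_iff.mp hass
  obtain ⟨y, rfl⟩ := Submodule.mkQ_surjective N y'
  refine ⟨y, fun r => ?_⟩
  rw [hy', Submodule.mem_colon_singleton, Submodule.mem_bot, ← map_smul, Submodule.mkQ_apply,
    Submodule.Quotient.mk_eq_zero]

theorem exists_seq [IsNoetherianRing R] [Module.Finite R M]
    (q : PrimeSpectrum R)
    (hq : Minimal (fun p : PrimeSpectrum R => p ∈ Module.support R M) q) :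
    ∀ N : Submodule R M, ∀ (l : ℕ) (x : Fin l → M), Submodule.span R (Set.range x) = N →
      (∀ i : Fin l, Nonempty ((↥(spanBefore R M x ((i : ℕ) + 1)) ⧸
        (spanBefore R M x (i : ℕ)).submoduleOf (spanBefore R M x ((i : ℕ) + 1))) ≃ₗ[R]
          (R ⧸ q.asIdeal))) →
      ∃ (l' : ℕ) (x' : Fin l' → M),
        q ∉ Module.support R (M ⧸ Submodule.span R (Set.range x')) ∧
        (∀ i : Fin l', Nonempty ((↥(spanBefore R M x' ((i : ℕ) + 1)) ⧸
          (spanBefore R M x' (i : ℕ)).submoduleOf (spanBefore R M x' ((i : ℕ) + 1))) ≃ₗ[R]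
            (R ⧸ q.asIdeal))) := by
  haveI : IsNoetherian R M := isNoetherian_of_isNoetherianRing_of_finite R M
  intro N
  induction N using WellFoundedGT.induction with
  | ind N IH =>
    intro l x hx hsteps
    by_cases hqN : q ∈ Module.support R (M ⧸ N)
    · obtain ⟨y, hyq⟩ := ass_step q hq N hqN
      have hyN : y ∉ N := by
        intro hy
        have h1 : (1 : R) ∈ q.asIdeal := (hyq 1).mpr (by rwa [one_smul])
        exact q.2.ne_top ((Ideal.eq_top_iff_one _).mpr h1)
      have hlt : N < N ⊔ Submodule.span R {y} := by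
        refine lt_of_le_of_ne le_sup_left ?_
        intro h
        apply hyN
        rw [h]
        exact Submodule.mem_sup_right (Submodule.mem_span_singleton_self y)
      have hlast : Fin.snoc (α := fun _ => M) x y ⟨l, Nat.lt_succ_self l⟩ = y :=
        Fin.snoc_last (α := fun _ => M) y x
      have hsl : spanBefore R M (Fin.snoc (α := fun _ => M) x y) l = N := by
        rw [spanBefore_snoc x y l le_rfl, spanBefore_of_le x le_rfl, hx]
      have hsl1 : spanBefore R M (Fin.snoc (α := fun _ => M) x y) (l + 1) =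
          N ⊔ Submodule.span R {y} := by
        rw [spanBefore_succ _ l (Nat.lt_succ_self l), hsl, hlast]
      refine IH (N ⊔ Submodule.span R {y}) hlt (l + 1) (Fin.snoc (α := fun _ => M) x y) ?_ ?_
      · rw [← spanBefore_of_le (Fin.snoc (α := fun _ => M) x y) (le_refl (l + 1)), hsl1]
      · intro i
        by_cases hil : (i : ℕ) < l
        · have h1 := spanBefore_snoc (R := R) x y ((i : ℕ) + 1) hil
          have h0 := spanBefore_snoc (R := R) x y (i : ℕ) hil.le
          rw [h1, h0]
          exact hsteps ⟨i, hil⟩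
        · have hil' : (i : ℕ) = l := le_antisymm (Nat.lt_succ_iff.mp i.2) (not_lt.mp hil)
          rw [hil', hsl1, hsl]
          exact last_step_equiv q.asIdeal N y hyq
    · exact ⟨l, x, by rwa [hx], hsteps⟩

end main

end H1852

/-- Let R be a Noetherian local ring, M a finite R-module and 𝔮 a minimal prime of the support of M.
There are x₁, …, x_l in M such that 𝔮 is not in the support of M/⟨x₁, …, x_l⟩ and each ⟨x₁, …,
x_i⟩/⟨x₁, …, x_{i−1}⟩ is isomorphic to R/𝔮; and for any such sequence l equals the length of M_𝔮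
over R_𝔮. -/
theorem result (R : Type u) [CommRing R] [IsNoetherianRing R] [IsLocalRing R] (M : Type u) [AddCommGroup M] [Module R M] [Module.Finite R M] (q : PrimeSpectrum R) (hq : Minimal (fun p : PrimeSpectrum R => p ∈ Module.support R M) q) : (∃ (l : ℕ) (x : Fin l → M), q ∉ Module.support R (M ⧸ Submodule.span R (Set.range x)) ∧ ∀ i : Fin l, Nonempty ((↥(CycDet.spanBefore R M x (i + 1)) ⧸ (CycDet.spanBefore R M x i).submoduleOf (CycDet.spanBefore R M x (i + 1))) ≃ₗ[R] (R ⧸ q.asIdeal))) ∧ ∀ (l : ℕ) (x : Fin l → M), q ∉ Module.support R (M ⧸ Submodule.span R (Set.range x)) → (∀ i : Fin l, Nonempty ((↥(CycDet.spanBefore R M x (i + 1)) ⧸ (CycDet.spanBefore R M x i).submoduleOf (CycDet.spanBefore R M x (i + 1))) ≃ₗ[R] (R ⧸ q.asIdeal))) → (l : ℕ∞) = Module.length (Localization.AtPrime q.asIdeal) (LocalizedModule q.asIdeal.primeCompl M) := by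
  refine ⟨?_, fun l x h1 h2 => H1852.part2 q l x h1 h2⟩
  obtain ⟨l, x, h1, h2⟩ := H1852.exists_seq q hq ⊥ 0 (fun i => i.elim0)
    (by rw [Set.range_eq_empty, Submodule.span_empty]) (fun i => i.elim0)
  exact ⟨l, x, h1, h2⟩

end Groth.Agent.S1852
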