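import Groth.Statements.S1833
import Mathlib
import Groth.Agent.S2856
import Groth.Agent.S1852

set_option autoImplicit false
universe u v
open Pointwise
open CycAlg

namespace Groth.Agent.S1833

namespace H1833
open scoped Pointwise
open Groth.Agent.S2856 Groth.Agent.S1852

theorem length_quot_maximal {R : Type u} [CommRing R] (I : Ideal R) [hI : I.IsMaximal] :
    Module.length R (R ⧸ I) = 1 := by
  rw [Module.length_eq_one_iff, isSimpleModule_iff_isCoatom]
  exact Ideal.isMaximal_def.mp hI

theorem arith (A2 B1 B3 B2 A1 A3 C1 C3 : ℕ∞) (hB1 : B1 < ⊤) (hB3 : B3 < ⊤)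
    (hadd : A2 + B1 + B3 = B2 + A1 + A3) (e1 : A1 = B1 + C1) (e3 : A3 = B3 + C3) :
    A2 = B2 + (C1 + C3) := by
  subst e1 e3
  have h : A2 + (B1 + B3) = (B2 + (C1 + C3)) + (B1 + B3) := by
    rw [← add_assoc, hadd]; ring
  exact ENat.add_left_injective_of_ne_top (ENat.add_lt_top.mpr ⟨hB1, hB3⟩).ne h

section
variable {R : Type u} [CommRing R] [IsNoetherianRing R] [IsLocalRing R] (x : R)

theorem mem_support_quot_iff (I : Ideal R) (p : PrimeSpectrum R) :
    p ∈ Module.support R (R ⧸ I) ↔ I ≤ p.asIdeal := by
  rw [Module.mem_support_iff_of_finite, Ideal.annihilator_quotient]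

theorem support_closed_of_dim_le_zero (N : Type u) [AddCommGroup N] [Module R N]
    (h : Module.supportDim R N ≤ 0) :
    ∀ p ∈ Module.support R N, p.asIdeal = IsLocalRing.maximalIdeal R := by
  intro p hp
  have hle : p.asIdeal ≤ IsLocalRing.maximalIdeal R :=
    IsLocalRing.le_maximalIdeal_of_isPrime p.asIdeal
  have hM : IsLocalRing.closedPoint R ∈ Module.support R N :=
    Module.mem_support_mono (show p ≤ IsLocalRing.closedPoint R from hle) hp
  have hmax := (Order.krullDim_nonpos_iff_forall_isMax.mp h) ⟨p, hp⟩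
  have h2 : IsLocalRing.closedPoint R ≤ p := hmax (b := ⟨IsLocalRing.closedPoint R, hM⟩) hle
  exact le_antisymm hle h2

theorem le_of_dim_le_one (N : Type u) [AddCommGroup N] [Module R N]
    (h : Module.supportDim R N ≤ 1) (p q : PrimeSpectrum R) (hq : q ∈ Module.support R N)
    (hqp : q ≤ p) (hpm : p.asIdeal ≠ IsLocalRing.maximalIdeal R) : p ≤ q := by
  have hp : p ∈ Module.support R N := Module.mem_support_mono hqp hq
  have hle : p.asIdeal ≤ IsLocalRing.maximalIdeal R :=
    IsLocalRing.le_maximalIdeal_of_isPrime p.asIdeal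
  have hM : IsLocalRing.closedPoint R ∈ Module.support R N :=
    Module.mem_support_mono (show p ≤ IsLocalRing.closedPoint R from hle) hp
  rcases (Order.krullDim_le_one_iff.mp h) ⟨p, hp⟩ with hmin | hmax
  · exact hmin (b := ⟨q, hq⟩) hqp
  · exfalso
    have h2 : IsLocalRing.closedPoint R ≤ p :=
      hmax (b := ⟨IsLocalRing.closedPoint R, hM⟩) hle
    exact hpm (le_antisymm hle h2)

theorem finite_aux (N : Type u) [AddCommGroup N] [Module R N] [Module.Finite R N]
    (h : Module.supportDim R N ≤ 1) :
    {p : PrimeSpectrum R | p ∈ Module.support R N ∧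
      p.asIdeal ≠ IsLocalRing.maximalIdeal R}.Finite := by
  have hfin := Ideal.finite_minimalPrimes_of_isNoetherianRing R (Module.annihilator R N)
  refine Set.Finite.subset (hfin.preimage (f := PrimeSpectrum.asIdeal)
    (Set.injOn_of_injective (fun a b h => PrimeSpectrum.ext h))) ?_
  rintro p ⟨hp, hpm⟩
  show p.asIdeal ∈ (Module.annihilator R N).minimalPrimes
  refine ⟨⟨p.2, Module.mem_support_iff_of_finite.mp hp⟩, ?_⟩
  rintro q' ⟨hq'prime, hq'ann⟩ hle
  have hq'mem : (⟨q', hq'prime⟩ : PrimeSpectrum R) ∈ Module.support R N :=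
    Module.mem_support_iff_of_finite.mpr hq'ann
  exact le_of_dim_le_one N h p ⟨q', hq'prime⟩ hq'mem hle hpm

theorem length_lt_top_of_support_subset (N : Type u) [AddCommGroup N] [Module R N]
    [hfin : Module.Finite R N]
    (h : ∀ p ∈ Module.support R N, p.asIdeal = IsLocalRing.maximalIdeal R) :
    Module.length R N < ⊤ := by
  revert h
  refine IsNoetherianRing.induction_on_isQuotientEquivQuotientPrime R hfin
    (motive := fun (N : Type u) [AddCommGroup N] [Module R N] [Module.Finite R N] =>
      (∀ p ∈ Module.support R N, p.asIdeal = IsLocalRing.maximalIdeal R) →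
        Module.length R N < ⊤) ?_ ?_ ?_
  · intro N _ _ _ _ _
    rw [Module.length_eq_zero]; exact ENat.top_pos
  · intro N _ _ _ p e h
    have hp : p.asIdeal = IsLocalRing.maximalIdeal R := by
      apply h
      rw [e.support_eq, mem_support_quot_iff]
    haveI hmax : p.asIdeal.IsMaximal := hp ▸ IsLocalRing.maximalIdeal.isMaximal R
    rw [e.length_eq, length_quot_maximal p.asIdeal]
    exact ENat.one_lt_top
  · intro N₁ _ _ _ N₂ _ _ _ N₃ _ _ _ f g hf hg hex h1 h3 h
    rw [Module.length_eq_add_of_exact f g hf hg hex]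
    exact ENat.add_lt_top.mpr
      ⟨h1 (fun p hp => h p (Module.support_subset_of_injective f hf hp)),
        h3 (fun p hp => h p (Module.support_subset_of_surjective g hg hp))⟩

/-- ℓ_p(N) -/
noncomputable def ell (p : PrimeSpectrum R) (N : Type u) [AddCommGroup N] [Module R N] : ℕ∞ :=
  Module.length (Localization.AtPrime p.asIdeal) (LocalizedModule p.asIdeal.primeCompl N)

noncomputable def ordp (p : PrimeSpectrum R) : ℕ∞ :=
  Ring.ord (R ⧸ p.asIdeal) (Ideal.Quotient.mk p.asIdeal x)

open Classical in
noncomputable def term (N : Type u) [AddCommGroup N] [Module R N] (p : PrimeSpectrum R) : ℕ∞ :=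
  if p.asIdeal ≠ IsLocalRing.maximalIdeal R then ordp x p * ell p N else 0

noncomputable def cSum (N : Type u) [AddCommGroup N] [Module R N] : ℕ∞ :=
  ∑ᶠ (p : PrimeSpectrum R) (_ : p ∈ Module.support R N ∧
    p.asIdeal ≠ IsLocalRing.maximalIdeal R), ordp x p * ell p N

theorem ell_eq_zero (p : PrimeSpectrum R) (N : Type u) [AddCommGroup N] [Module R N]
    (h : p ∉ Module.support R N) : ell p N = 0 := by
  unfold ell
  rw [Module.length_eq_zero_iff]
  exact Module.notMem_support_iff.mp h

theorem cSum_eq (N : Type u) [AddCommGroup N] [Module R N] :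
    cSum x N = ∑ᶠ p, term x N p := by
  classical
  unfold cSum
  refine finsum_congr fun p => ?_
  rw [finsum_eq_if]
  unfold term
  by_cases hp : p ∈ Module.support R N
  · by_cases hm : p.asIdeal ≠ IsLocalRing.maximalIdeal R
    · rw [if_pos ⟨hp, hm⟩, if_pos hm]
    · rw [if_neg (fun h => hm h.2), if_neg hm]
  · rw [if_neg (fun h => hp h.1)]
    split_ifs with hm
    · rw [ell_eq_zero p N hp, mul_zero]
    · rfl

theorem term_support_finite (N : Type u) [AddCommGroup N] [Module R N] [Module.Finite R N]
    (h : Module.supportDim R N ≤ 1) : (Function.support (term x N)).Finite := by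
  classical
  refine Set.Finite.subset (finite_aux N h) ?_
  intro p hp
  rw [Function.mem_support] at hp
  by_contra hcon
  apply hp
  unfold term
  by_cases hm : p.asIdeal ≠ IsLocalRing.maximalIdeal R
  · rw [if_pos hm]
    have : p ∉ Module.support R N := fun hs => hcon ⟨hs, hm⟩
    rw [ell_eq_zero p N this, mul_zero]
  · rw [if_neg hm]

section exact
variable {N₁ N₂ N₃ : Type u} [AddCommGroup N₁] [Module R N₁] [AddCommGroup N₂] [Module R N₂]
  [AddCommGroup N₃] [Module R N₃]
  (f : N₁ →ₗ[R] N₂) (g : N₂ →ₗ[R] N₃) (hf : Function.Injective f)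
  (hg : Function.Surjective g) (hex : Function.Exact f g)

include hf hg hex in
theorem term_add (p : PrimeSpectrum R) : term x N₂ p = term x N₁ p + term x N₃ p := by
  classical
  unfold term
  split_ifs with hm
  · have : ell p N₂ = ell p N₁ + ell p N₃ :=
      H1852.length_loc_exact p.asIdeal.primeCompl f g hf hg hex
    rw [this, mul_add]
  · rw [add_zero]

include hf hg hex in
theorem cSum_add [Module.Finite R N₁] [Module.Finite R N₃]
    (d1 : Module.supportDim R N₁ ≤ 1) (d3 : Module.supportDim R N₃ ≤ 1) :
    cSum x N₂ = cSum x N₁ + cSum x N₃ := by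
  rw [cSum_eq x N₂, cSum_eq x N₁, cSum_eq x N₃,
    ← finsum_add_distrib (term_support_finite x N₁ d1) (term_support_finite x N₃ d3)]
  exact finsum_congr (fun p => term_add x f g hf hg hex p)

end exact

theorem dim_quot_mono {N N' : Type u} [AddCommGroup N] [Module R N] [AddCommGroup N']
    [Module R N'] [Module.Finite R N] [Module.Finite R N']
    (hsub : Module.support R N ⊆ Module.support R N') :
    Module.supportDim R (N ⧸ x • (⊤ : Submodule R N)) ≤
      Module.supportDim R (N' ⧸ x • (⊤ : Submodule R N')) := by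
  have h1 : Module.support R (N ⧸ x • (⊤ : Submodule R N)) =
      Module.support R N ∩ PrimeSpectrum.zeroLocus {x} := Module.support_quotSMulTop x
  have h2 : Module.support R (N' ⧸ x • (⊤ : Submodule R N')) =
      Module.support R N' ∩ PrimeSpectrum.zeroLocus {x} := Module.support_quotSMulTop x
  have hsub' : Module.support R (N ⧸ x • (⊤ : Submodule R N)) ⊆
      Module.support R (N' ⧸ x • (⊤ : Submodule R N')) := by
    rw [h1, h2]; exact Set.inter_subset_inter_left _ hsub
  exact Order.krullDim_le_of_strictMono (fun a => ⟨a.1, hsub' a.2⟩) (fun _ _ lt => lt)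

/-- the property proved by dévissage -/
def P (N : Type u) [AddCommGroup N] [Module R N] : Prop :=
  Module.supportDim R N ≤ 1 → Module.supportDim R (N ⧸ x • (⊤ : Submodule R N)) ≤ 0 →
    (H2856.aLen R x N < ⊤ ∧ H2856.bLen R x N < ⊤ ∧
      H2856.aLen R x N = H2856.bLen R x N + cSum x N)

theorem P_subsingleton (N : Type u) [AddCommGroup N] [Module R N] [Subsingleton N] :
    P x N := by
  classical
  unfold P
  intro _ _
  have ha : H2856.aLen R x N = 0 := by
    unfold H2856.aLen
    rw [Module.length_eq_zero_iff]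
    exact (Submodule.mkQ_surjective _).subsingleton
  have hb : H2856.bLen R x N = 0 := by
    unfold H2856.bLen
    rw [Module.length_eq_zero_iff]
    exact (Submodule.injective_subtype _).subsingleton
  have hc : cSum x N = 0 := by
    rw [cSum_eq]
    have : term x N = fun _ => 0 := by
      funext p
      unfold term
      split_ifs
      · have : ell p N = 0 := by
          unfold ell; exact Module.length_eq_zero
        rw [this, mul_zero]
      · rfl
    rw [this, finsum_zero]
  rw [ha, hb, hc]
  exact ⟨ENat.top_pos, ENat.top_pos, (add_zero 0).symm⟩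

theorem P_exact {N₁ N₂ N₃ : Type u} [AddCommGroup N₁] [Module R N₁] [AddCommGroup N₂]
    [Module R N₂] [AddCommGroup N₃] [Module R N₃] [Module.Finite R N₁] [Module.Finite R N₂]
    [Module.Finite R N₃]
    (f : N₁ →ₗ[R] N₂) (g : N₂ →ₗ[R] N₃) (hf : Function.Injective f)
    (hg : Function.Surjective g) (hex : Function.Exact f g)
    (h1 : P x N₁) (h3 : P x N₃) : P x N₂ := by
  unfold P at h1 h3 ⊢
  intro hd1 hd0
  have d1 : Module.supportDim R N₁ ≤ 1 := (Module.supportDim_le_of_injective f hf).trans hd1
  have d3 : Module.supportDim R N₃ ≤ 1 := (Module.supportDim_le_of_surjective g hg).trans hd1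
  have d1' : Module.supportDim R (N₁ ⧸ x • (⊤ : Submodule R N₁)) ≤ 0 :=
    (dim_quot_mono x (Module.support_subset_of_injective f hf)).trans hd0
  have d3' : Module.supportDim R (N₃ ⧸ x • (⊤ : Submodule R N₃)) ≤ 0 :=
    (dim_quot_mono x (Module.support_subset_of_surjective g hg)).trans hd0
  obtain ⟨a1, b1, e1⟩ := h1 d1 d1'
  obtain ⟨a3, b3, e3⟩ := h3 d3 d3'
  obtain ⟨a2, b2, hadd⟩ := H2856.chi_add x f g hf hg hex a1 b1 a3 b3
  have hc : cSum x N₂ = cSum x N₁ + cSum x N₃ := cSum_add x f g hf hg hex d1 d3
  refine ⟨a2, b2, ?_⟩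
  rw [hc]
  exact arith _ _ _ _ _ _ _ _ b1 b3 hadd e1 e3

theorem P_quot (q : PrimeSpectrum R) : P x (R ⧸ q.asIdeal) := by
  classical
  unfold P
  intro hd1 hd0
  by_cases hq : q.asIdeal = IsLocalRing.maximalIdeal R
  · haveI hmax : q.asIdeal.IsMaximal := hq ▸ IsLocalRing.maximalIdeal.isMaximal R
    have hlen : Module.length R (R ⧸ q.asIdeal) < ⊤ := by
      rw [length_quot_maximal q.asIdeal]; exact ENat.one_lt_top
    obtain ⟨hab, ha⟩ := H2856.chi_of_finite_length x (R ⧸ q.asIdeal) hlen
    have hc : cSum x (R ⧸ q.asIdeal) = 0 := by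
      rw [cSum_eq]
      have : term x (R ⧸ q.asIdeal) = fun _ => 0 := by
        funext p
        unfold term
        split_ifs with hm
        · have hp : p ∉ Module.support R (R ⧸ q.asIdeal) := by
            intro hp
            rw [mem_support_quot_iff] at hp
            exact hm (le_antisymm (IsLocalRing.le_maximalIdeal_of_isPrime p.asIdeal)
              (hq ▸ hp))
          rw [ell_eq_zero p _ hp, mul_zero]
        · rfl
      rw [this, finsum_zero]
    exact ⟨ha, hab ▸ ha, by rw [hc, add_zero]; exact hab⟩
  · have hxq : x ∉ q.asIdeal := by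
      intro hx
      have hsupp : Module.support R ((R ⧸ q.asIdeal) ⧸ x • (⊤ : Submodule R (R ⧸ q.asIdeal))) =
          Module.support R (R ⧸ q.asIdeal) ∩ PrimeSpectrum.zeroLocus {x} :=
        Module.support_quotSMulTop x
      have hqmem : q ∈ Module.support R
          ((R ⧸ q.asIdeal) ⧸ x • (⊤ : Submodule R (R ⧸ q.asIdeal))) := by
        rw [hsupp]
        refine ⟨(mem_support_quot_iff _ _).mpr le_rfl, ?_⟩
        rw [PrimeSpectrum.mem_zeroLocus, Set.singleton_subset_iff]
        exact hx
      exact hq (support_closed_of_dim_le_zero _ hd0 q hqmem)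
    have hb : H2856.bLen R x (R ⧸ q.asIdeal) = 0 := by
      unfold H2856.bLen
      rw [Module.length_eq_zero_iff]
      have h0 : ∀ y : R ⧸ q.asIdeal, y ∈ LinearMap.ker
          (x • (LinearMap.id : (R ⧸ q.asIdeal) →ₗ[R] (R ⧸ q.asIdeal))) → y = 0 := by
        intro y hy
        rw [LinearMap.mem_ker, LinearMap.smul_apply, LinearMap.id_apply, Algebra.smul_def,
          Ideal.Quotient.algebraMap_eq] at hy
        rcases mul_eq_zero.mp hy with h | h
        · exact absurd (Ideal.Quotient.eq_zero_iff_mem.mp h) hxq
        · exact h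
      exact ⟨fun a b => Subtype.ext (by rw [h0 a a.2, h0 b b.2])⟩
    have ha : H2856.aLen R x (R ⧸ q.asIdeal) = ordp x q := by
      unfold H2856.aLen ordp Ring.ord
      have hJ : x • (⊤ : Submodule R (R ⧸ q.asIdeal)) =
          (Ideal.span {Ideal.Quotient.mk q.asIdeal x} :
            Ideal (R ⧸ q.asIdeal)).restrictScalars R := by
        ext y
        rw [Submodule.mem_smul_pointwise_iff_exists, Submodule.restrictScalars_mem,
          Ideal.mem_span_singleton']
        constructor
        · rintro ⟨b, -, rfl⟩
          exact ⟨b, by rw [Algebra.smul_def, Ideal.Quotient.algebraMap_eq, mul_comm]⟩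
        · rintro ⟨a, rfl⟩
          exact ⟨a, Submodule.mem_top,
            by rw [Algebra.smul_def, Ideal.Quotient.algebraMap_eq, mul_comm]⟩
      rw [(Submodule.quotEquivOfEq _ _ hJ).length_eq,
        (Submodule.Quotient.restrictScalarsEquiv R _).length_eq]
      exact Module.length_eq_of_surjective Ideal.Quotient.mk_surjective
    have hafin : H2856.aLen R x (R ⧸ q.asIdeal) < ⊤ :=
      length_lt_top_of_support_subset _ (support_closed_of_dim_le_zero _ hd0)
    have hc : cSum x (R ⧸ q.asIdeal) = ordp x q := by
      rw [cSum_eq, finsum_eq_single (term x (R ⧸ q.asIdeal)) q]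
      · unfold term
        rw [if_pos hq]
        have : ell q (R ⧸ q.asIdeal) = 1 := H1852.length_loc_quot_prime q.asIdeal
        rw [this, mul_one]
      · intro p hpq
        unfold term
        split_ifs with hm
        · have hp : p ∉ Module.support R (R ⧸ q.asIdeal) := by
            intro hp
            apply hpq
            have hqp : q ≤ p := (mem_support_quot_iff _ _).mp hp
            have hqs : q ∈ Module.support R (R ⧸ q.asIdeal) :=
              (mem_support_quot_iff _ _).mpr le_rfl
            exact le_antisymm (le_of_dim_le_one _ hd1 p q hqs hqp hm) hqp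
          rw [ell_eq_zero p _ hp, mul_zero]
        · rfl
    exact ⟨hafin, by rw [hb]; exact ENat.top_pos, by rw [hb, zero_add, ha, hc]⟩

theorem all (M : Type u) [AddCommGroup M] [Module R M] [hfin : Module.Finite R M] :
    P x M := by
  refine IsNoetherianRing.induction_on_isQuotientEquivQuotientPrime R hfin
    (motive := fun (N : Type u) [AddCommGroup N] [Module R N] [Module.Finite R N] => P x N)
    ?_ ?_ ?_
  · intro N _ _ _ _
    exact P_subsingleton x N
  · intro N _ _ _ p e
    exact P_exact x (e.symm : (R ⧸ p.asIdeal) →ₗ[R] N) (0 : N →ₗ[R] PUnit.{u+1})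
      e.symm.injective (Function.surjective_to_subsingleton _)
      ((LinearMap.exact_zero_iff_surjective _ _).2 e.symm.surjective)
      (P_quot x p) (P_subsingleton x PUnit)
  · intro N₁ _ _ _ N₂ _ _ _ N₃ _ _ _ f g hf hg hex h1 h3
    exact P_exact x f g hf hg hex h1 h3

theorem main (M : Type u) [AddCommGroup M] [Module R M] [Module.Finite R M]
    (h1 : Module.supportDim R M ≤ 1)
    (h0 : Module.supportDim R (M ⧸ x • (⊤ : Submodule R M)) ≤ 0) :
    Module.length R (M ⧸ x • (⊤ : Submodule R M)) =
      Module.length R (LinearMap.ker (LinearMap.lsmul R M x)) +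
        ∑ᶠ (p : PrimeSpectrum R) (_ : p ∈ Module.support R M ∧
          p.asIdeal ≠ IsLocalRing.maximalIdeal R),
          Ring.ord (R ⧸ p.asIdeal) (Ideal.Quotient.mk p.asIdeal x) *
            Module.length (Localization.AtPrime p.asIdeal)
              (LocalizedModule p.asIdeal.primeCompl M) := by
  have key := all x M h1 h0
  have hk : LinearMap.lsmul R M x = x • LinearMap.id := by
    ext m; simp
  rw [hk]
  exact key.2.2

end

end H1833

/-- Let R be Noetherian local, M a finite R-module whose support has dimension at most 1, and x an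
element with M/xM supported in dimension ≤ 0. Then length(M/xM) = length(ker(x : M → M)) + Σ_q
ord_{R/q}(x) · length_{R_q}(M_q), the sum running over the primes q of the support other than the
maximal ideal (stated in ℕ∞; all terms are finite under the hypotheses). -/
theorem result (R : Type u) [CommRing R] [IsNoetherianRing R] [IsLocalRing R] (M : Type u) [AddCommGroup M] [Module R M] [Module.Finite R M] (x : R) (h1 : Module.supportDim R M ≤ 1) (h0 : Module.supportDim R (M ⧸ x • (⊤ : Submodule R M)) ≤ 0) : Module.length R (M ⧸ x • (⊤ : Submodule R M)) = Module.length R (LinearMap.ker (LinearMap.lsmul R M x)) + ∑ᶠ (p : PrimeSpectrum R) (_ : p ∈ Module.support R M ∧ p.asIdeal ≠ IsLocalRing.maximalIdeal R), Ring.ord (R ⧸ p.asIdeal) (Ideal.Quotient.mk p.asIdeal x) * Module.length (Localization.AtPrime p.asIdeal) (LocalizedModule p.asIdeal.primeCompl M) := by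
  exact H1833.main x M h1 h0

end Groth.Agent.S1833
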