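import Groth.Statements.S0632
import Groth.Agent.Lib.Helper15.ClosedNbhd

set_option autoImplicit false
open CategoryTheory CategoryTheory.Limits AlgebraicGeometry Opposite
universe u
open EtCore

namespace Groth.Agent.S0632


open Groth.Agent.Lib.Helper15

lemma key1 {X Y V : Scheme.{u}} (f : X ⟶ Y) [IsClosedImmersion f] (q : V ⟶ X) [Etale q] (u : V) :
    ∃ (W : Scheme.{u}) (p : W ⟶ Y) (_ : Etale p) (z : W) (t : pullback p f ⟶ V),
      p.base z = f.base (q.base u) ∧ t ≫ q = pullback.snd p f := by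
  obtain ⟨W, p, hp, w, h1, t, ht1, -⟩ := ClosedNbhd.exists_lift_nbhd f q
    (Ω := V.residueField u)
    (V.fromSpecResidueField u : Spec (CommRingCat.of (V.residueField u)) ⟶ V)
  refine ⟨W, p, hp, w.base default, t, ?_, ht1⟩
  have e1 : (w ≫ p).base default =
      ((V.fromSpecResidueField u ≫ q) ≫ f).base default :=
    congrArg (fun g => g.base default) h1
  have e2 : (V.fromSpecResidueField u).base default = u := Scheme.fromSpecResidueField_apply _ _
  rw [Scheme.Hom.comp_apply, Scheme.Hom.comp_apply, Scheme.Hom.comp_apply, e2] at e1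
  exact e1

lemma key2 {X Y : Scheme.{u}} (f : X ⟶ Y) [IsClosedImmersion f] (y : Y)
    (hy : y ∉ Set.range f.base) :
    ∃ (W : Scheme.{u}) (p : W ⟶ Y) (_ : Etale p) (z : W),
      p.base z = y ∧ IsEmpty ↥(pullback p f) := by
  obtain ⟨Uc, hUc⟩ : ∃ Uc : Y.Opens, (Uc : Set Y) = (Set.range f.base)ᶜ :=
    ⟨⟨(Set.range f.base)ᶜ, f.isClosedEmbedding.isClosed_range.isOpen_compl⟩, rfl⟩
  have hyU : y ∈ Set.range Uc.ι.base := by
    rw [Scheme.Opens.range_ι, hUc]; exact hy
  obtain ⟨z, hz⟩ := hyU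
  refine ⟨Uc.toScheme, Uc.ι, inferInstance, z, hz, ⟨fun w => ?_⟩⟩
  have hc : (pullback.fst Uc.ι f ≫ Uc.ι).base w = (pullback.snd Uc.ι f ≫ f).base w := by
    rw [pullback.condition]
  have h3 : Uc.ι.base ((pullback.fst Uc.ι f).base w) ∈ (Uc : Set Y) := by
    rw [← Scheme.Opens.range_ι]; exact ⟨_, rfl⟩
  rw [hUc] at h3
  exact h3 ⟨(pullback.snd Uc.ι f).base w, hc.symm⟩

set_option backward.isDefEq.respectTransparency.types false

/-- Let X -> Y be a closed immersion and U_i -> X (i in ι) a jointly surjective family of etale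
morphisms. Then one can find a jointly surjective family of etale Y-schemes V_j each of which either
has empty preimage over X or, after base change to X, maps into one of the U_i over X. -/
theorem result {X Y : Scheme.{u}} (f : X ⟶ Y) [IsClosedImmersion f]
    {ι : Type u} (U : ι → X.Etale) (hU : EtCoh.Covers U) :
    ∃ (κ : Type u) (V : κ → Y.Etale), EtCoh.Covers V ∧
      ∀ j, IsEmpty ↥(pullback (V j).hom f) ∨
        ∃ (i : ι) (h : pullback (V j).hom f ⟶ (U i).left), h ≫ (U i).hom = pullback.snd (V j).hom f := by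
  have key : ∀ y : Y, ∃ V : Y.Etale, (∃ z : V.left, V.hom.base z = y) ∧
      (IsEmpty ↥(pullback V.hom f) ∨ ∃ (i : ι) (h : pullback V.hom f ⟶ (U i).left),
        h ≫ (U i).hom = pullback.snd V.hom f) := by
    intro y
    by_cases hy : y ∈ Set.range f.base
    · obtain ⟨x, rfl⟩ := hy
      obtain ⟨i, u, hu⟩ := hU x
      haveI : Etale (U i).hom := (U i).prop
      obtain ⟨W, p, hp, z, t, hz, ht⟩ := key1 f (U i).hom u
      haveI := hp
      exact ⟨Scheme.Etale.mk p, ⟨z, hz.trans (congrArg f.base hu)⟩, Or.inr ⟨i, t, ht⟩⟩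
    · obtain ⟨W, p, hp, z, hz, hempty⟩ := key2 f y hy
      haveI := hp
      exact ⟨Scheme.Etale.mk p, ⟨z, hz⟩, Or.inl hempty⟩
  choose V hV1 hV2 using key
  exact ⟨Y, V, fun y => ⟨y, (hV1 y).choose, (hV1 y).choose_spec⟩, hV2⟩

end Groth.Agent.S0632
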