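import Groth.Statements.S0633
import Groth.Agent.Lib.Helper15.ClosedNbhdOpen

set_option autoImplicit false
open CategoryTheory CategoryTheory.Limits AlgebraicGeometry Opposite
universe u
open EtCore

namespace Groth.Agent.S0633


open Groth.Agent.Lib.Helper15

lemma key {X Y V : Scheme.{u}} (f : X ⟶ Y) [IsClosedImmersion f] (q : V ⟶ X) [Etale q] (x : V) :
    ∃ (W : Scheme.{u}) (p : W ⟶ Y) (_ : Etale p) (t : pullback p f ⟶ V),
      t ≫ q = pullback.snd p f ∧ IsOpenImmersion t ∧ ∃ y : ↥(pullback p f), t.base y = x := by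
  obtain ⟨W, p, hp, w, h1, t, ht1, ht2, ht3⟩ := ClosedNbhdOpen.exists_lift_nbhd_open f q
    (Ω := V.residueField x)
    (V.fromSpecResidueField x : Spec (CommRingCat.of (V.residueField x)) ⟶ V)
  refine ⟨W, p, hp, t, ht1, ht3, (pullback.lift w _ h1).base default, ?_⟩
  have e1 : (pullback.lift w _ h1 ≫ t).base default =
      (V.fromSpecResidueField x).base default := congrArg (fun g => g.base default) ht2
  rw [Scheme.Hom.comp_apply] at e1
  exact e1.trans (Scheme.fromSpecResidueField_apply _ _)

set_option backward.isDefEq.respectTransparency.types false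

/-- Let X -> Y be a closed immersion and U -> X etale. Then there exist etale morphisms V_i -> Y and
X-morphisms V_i x_Y X -> U which are open immersions whose images cover U. -/
theorem result {X Y : Scheme.{u}} (f : X ⟶ Y) [IsClosedImmersion f]
    (U : X.Etale) :
    ∃ (κ : Type u) (V : κ → Y.Etale) (h : ∀ j, pullback (V j).hom f ⟶ U.left),
      (∀ j, h j ≫ U.hom = pullback.snd (V j).hom f) ∧ (∀ j, IsOpenImmersion (h j)) ∧
      ∀ x : U.left, ∃ (j : κ) (y : ↥(pullback (V j).hom f)), (h j).base y = x := by
  haveI : Etale U.hom := U.prop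
  choose W p hp t ht1 ht2 ht3 using key f U.hom
  exact ⟨U.left, fun x => haveI := hp x; Scheme.Etale.mk (p x), t, ht1, ht2,
    fun x => ⟨x, ht3 x⟩⟩

end Groth.Agent.S0633
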