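-- S0643 (lead)
import Groth.Statements.S0643
import Mathlib

set_option autoImplicit false
set_option linter.style.haveILetI false
universe u
open EtCore

namespace Groth.Agent.S0643

open Polynomial in
theorem aux {A : Type u} [CommRing A] (P : A[X]) (a b c u v : A) (m : ℕ)
    (hP : P = X ^ (m + 1) - C c * (C u * X + C v) ^ m)
    (huv : u * a + v * b = 1) (hc : c * b = a ^ (m + 1) - 1) :
    IsUnit (algebraMap A (AdjoinRoot P) a - algebraMap A (AdjoinRoot P) b * AdjoinRoot.root P) := by
  rw [AdjoinRoot.algebraMap_eq]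
  have hroot : (AdjoinRoot.root P) ^ (m + 1) - AdjoinRoot.of P c *
      (AdjoinRoot.of P u * AdjoinRoot.root P + AdjoinRoot.of P v) ^ m = 0 := by
    have h : eval₂ (AdjoinRoot.of P) (AdjoinRoot.root P)
        (X ^ (m + 1) - C c * (C u * X + C v) ^ m) = 0 := by
      rw [← hP]
      exact AdjoinRoot.eval₂_root P
    simpa [eval₂_sub, eval₂_mul, eval₂_pow, eval₂_add, eval₂_C, eval₂_X] using h
  generalize AdjoinRoot.root P = y at hroot ⊢
  generalize AdjoinRoot.of P = φ at hroot ⊢
  have hA : a ^ (m + 1) - c * b * (u * a + v * b) ^ m = 1 := by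
    rw [huv, one_pow, mul_one, hc, sub_sub_cancel]
  have h1 : φ a ^ (m + 1) - φ (c * b) * (φ u * φ a + φ (v * b)) ^ m = 1 := by
    have := congrArg φ hA
    simpa [map_sub, map_mul, map_pow, map_add] using this
  have h2 : (φ b * y) ^ (m + 1) - φ (c * b) * (φ u * (φ b * y) + φ (v * b)) ^ m = 0 := by
    have : (φ b * y) ^ (m + 1) - φ (c * b) * (φ u * (φ b * y) + φ (v * b)) ^ m =
        φ b ^ (m + 1) * (y ^ (m + 1) - φ c * (φ u * y + φ v) ^ m) := by
      rw [map_mul, map_mul]
      have e : φ u * (φ b * y) + φ v * φ b = φ b * (φ u * y + φ v) := by ring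
      rw [e, mul_pow, mul_pow]
      ring
    rw [this, hroot, mul_zero]
  have key := sub_dvd_eval_sub (φ a) (φ b * y)
    (X ^ (m + 1) - C (φ (c * b)) * (C (φ u) * X + C (φ (v * b))) ^ m)
  simp only [eval_sub, eval_mul, eval_pow, eval_add, eval_C, eval_X] at key
  rw [h1, h2, sub_zero] at key
  exact isUnit_of_dvd_one key


open Polynomial in
/-- Let A be a ring, assumed nonzero here (the published statement does not say so; over the zero ring
no polynomial has positive degree in Lean's sense), and a, b elements generating the unit ideal such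
that some positive power of a is congruent to 1 modulo b. Then there is a monic polynomial P of
positive degree over A such that in B = A[y]/(P) the element a - b y is a unit. -/
theorem result (A : Type u) [CommRing A] [Nontrivial A] (a b : A) (hab : IsCoprime a b)
    (hroot : ∃ n : ℕ, 0 < n ∧ a ^ n - 1 ∈ Ideal.span ({b} : Set A)) :
    ∃ P : A[X], P.Monic ∧ 0 < P.natDegree ∧
      IsUnit (algebraMap A (AdjoinRoot P) a - algebraMap A (AdjoinRoot P) b * AdjoinRoot.root P) := by
  obtain ⟨n, hn, hmem⟩ := hroot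
  obtain ⟨c, hc⟩ := Ideal.mem_span_singleton'.1 hmem
  obtain ⟨u, v, huv⟩ := hab
  obtain ⟨m, rfl⟩ : ∃ m, n = m + 1 := ⟨n - 1, by omega⟩
  have hRdeg : (C c * (C u * X + C v) ^ m : A[X]).natDegree ≤ m := by
    refine (natDegree_C_mul_le _ _).trans (natDegree_pow_le.trans ?_)
    calc m * (C u * X + C v : A[X]).natDegree ≤ m * 1 :=
          Nat.mul_le_mul_left _ natDegree_linear_le
      _ = m := mul_one m
  have hRdeg' : (C c * (C u * X + C v) ^ m : A[X]).degree < ((m + 1 : ℕ) : WithBot ℕ) :=
    lt_of_le_of_lt (degree_le_of_natDegree_le hRdeg) (by exact_mod_cast Nat.lt_succ_self m)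
  refine ⟨X ^ (m + 1) - C c * (C u * X + C v) ^ m, monic_X_pow_sub hRdeg', ?_,
    aux _ a b c u v m rfl huv hc⟩
  have h1 : (C c * (C u * X + C v) ^ m : A[X]).natDegree < (X ^ (m + 1) : A[X]).natDegree := by
    rw [natDegree_X_pow]
    omega
  rw [natDegree_sub_eq_left_of_natDegree_lt h1, natDegree_X_pow]
  exact Nat.succ_pos m

end Groth.Agent.S0643
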