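import Groth.Statements.S0644
import Mathlib

set_option autoImplicit false
open CategoryTheory CategoryTheory.Limits AlgebraicGeometry Opposite
universe u
open EtCore

namespace Groth.Agent.S0644


variable {S : Scheme.{u}}

lemma hom_nonempty_iff (W : S.Opens) (U : S.Etale) :
    Nonempty (U ⟶ Scheme.Etale.mk W.ι) ↔ Set.range U.hom ⊆ (W : Set S) := by
  constructor
  · rintro ⟨f⟩ _ ⟨x, rfl⟩
    have hw : f.left ≫ W.ι = U.hom := MorphismProperty.Over.w f
    have h1 : U.hom x ∈ Set.range W.ι := by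
      rw [← hw]
      exact ⟨f.left x, (Scheme.Hom.comp_apply f.left W.ι x).symm⟩
    rwa [Scheme.Opens.range_ι] at h1
  · intro h
    have h' : Set.range U.hom ⊆ Set.range W.ι := by rwa [Scheme.Opens.range_ι]
    obtain ⟨l, hl⟩ : ∃ l : U.left ⟶ (W : Scheme), l ≫ W.ι = U.hom :=
      ⟨IsOpenImmersion.lift W.ι U.hom h', IsOpenImmersion.lift_fac _ _ _⟩
    exact ⟨MorphismProperty.Over.homMk l hl⟩

lemma hom_subsingleton (W : S.Opens) (U : S.Etale) :
    Subsingleton (U ⟶ Scheme.Etale.mk W.ι) := by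
  constructor
  intro f g
  apply MorphismProperty.Over.Hom.ext
  have h1 : f.left ≫ W.ι = U.hom := MorphismProperty.Over.w f
  have h2 : g.left ≫ W.ι = U.hom := MorphismProperty.Over.w g
  exact (cancel_mono W.ι).mp (h1.trans h2.symm)

lemma nonempty_of_cover (F : Sheaf S.smallEtaleTopology (Type u))
    (hF : ∀ U : S.Etale, Subsingleton (F.obj.obj (op U))) (U : S.Etale)
    (h : ∀ x : U.left, ∃ (V : S.Etale) (_ : Nonempty (F.obj.obj (op V))) (v : V.left),
      V.hom v = U.hom x) :
    Nonempty (F.obj.obj (op U)) := by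
  classical
  let R : Sieve U :=
    { arrows := fun T _ => Nonempty (F.obj.obj (op T))
      downward_closed := fun {T T'} f hs g => ⟨F.obj.map g.op hs.some⟩ }
  choose V hVF v hv using h
  choose z hz1 hz2 using fun x =>
    Scheme.Pullback.exists_preimage_pullback (f := (V x).hom) (g := U.hom) (v x) x (hv x)
  let T : U.left → S.Etale := fun x => Scheme.Etale.mk (pullback.snd (V x).hom U.hom ≫ U.hom)
  let p : ∀ x, T x ⟶ U := fun x =>
    MorphismProperty.Over.homMk (pullback.snd (V x).hom U.hom) rfl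
  let q : ∀ x, T x ⟶ V x := fun x =>
    MorphismProperty.Over.homMk (pullback.fst (V x).hom U.hom) pullback.condition
  have hcov : Sieve.ofArrows T p ∈ S.smallEtaleTopology U := by
    rw [Scheme.ofArrows_mem_smallEtaleTopology_iff]
    ext x
    simp only [Set.mem_iUnion, Set.mem_range, Set.mem_univ, iff_true]
    exact ⟨x, z x, hz2 x⟩
  have hR : R ∈ S.smallEtaleTopology U := by
    refine S.smallEtaleTopology.superset_covering ?_ hcov
    rintro Z g ⟨Z', j, _, ⟨x⟩, rfl⟩
    obtain ⟨s⟩ := hVF x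
    exact ⟨F.obj.map (j ≫ q x).op s⟩
  have hsheaf : Presieve.IsSheafFor F.obj R.arrows :=
    ((isSheaf_iff_isSheaf_of_type _ _).mp F.property) R hR
  let fam : Presieve.FamilyOfElements F.obj R.arrows := fun T f hf => hf.some
  have hfam : fam.Compatible := by
    intro T1 T2 Z g1 g2 f1 f2 h1 h2 _
    exact (hF Z).elim _ _
  obtain ⟨t, -, -⟩ := hsheaf fam hfam
  exact ⟨t⟩

/-- Let F be a sheaf of sets on the small etale site of S which is a subsheaf of the final sheaf, i.e.
every set of sections has at most one element. Then there is exactly one open W of S such that F is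
isomorphic to the sheaf represented by W (viewed as a scheme etale over S). -/
theorem result (S : Scheme.{u}) (F : Sheaf S.smallEtaleTopology (Type u))
    (hF : ∀ U : S.Etale, Subsingleton (F.obj.obj (op U))) :
    ∃! W : S.Opens, Nonempty (F.obj ≅ yoneda.obj (Scheme.Etale.mk W.ι)) := by
  classical
  let W : S.Opens :=
    ⟨⋃ (V : S.Etale) (_ : Nonempty (F.obj.obj (op V))), Set.range V.hom,
      isOpen_iUnion fun V => isOpen_iUnion fun _ => (Scheme.Hom.isOpenMap V.hom).isOpen_range⟩
  have memW : ∀ x : S, x ∈ W ↔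
      ∃ (V : S.Etale) (_ : Nonempty (F.obj.obj (op V))), x ∈ Set.range V.hom :=
    fun x => Set.mem_iUnion₂
  have key : ∀ U : S.Etale, Nonempty (F.obj.obj (op U)) ↔ Set.range U.hom ⊆ (W : Set S) := by
    intro U
    constructor
    · rintro hU _ ⟨x, rfl⟩
      exact (memW _).mpr ⟨U, hU, x, rfl⟩
    · intro h
      apply nonempty_of_cover F hF U
      intro x
      obtain ⟨V, hV, v, hv⟩ := (memW _).mp (h ⟨x, rfl⟩)
      exact ⟨V, hV, v, hv⟩
  have e : ∀ U : S.Etaleᵒᵖ, F.obj.obj U ≃ ((yoneda.obj (Scheme.Etale.mk W.ι)).obj U) := fun U =>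
    @equivOfSubsingletonOfSubsingleton _ _ (hF U.unop) (hom_subsingleton W U.unop)
      (fun s => ((hom_nonempty_iff W U.unop).mpr ((key U.unop).mp ⟨s⟩)).some)
      (fun f => ((key U.unop).mpr ((hom_nonempty_iff W U.unop).mp ⟨f⟩)).some)
  refine ⟨W, ⟨NatIso.ofComponents (fun U => (e U).toIso) ?_⟩, ?_⟩
  · intro U U' f
    ext s
    exact (hom_subsingleton W U'.unop).elim _ _
  · rintro W' ⟨i⟩
    apply le_antisymm
    · have h1 : Nonempty (F.obj.obj (op (Scheme.Etale.mk W'.ι))) :=
        ⟨i.inv.app (op (Scheme.Etale.mk W'.ι)) (𝟙 (Scheme.Etale.mk W'.ι))⟩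
      have h2 := (key _).mp h1
      intro x hx
      apply h2
      change x ∈ Set.range W'.ι
      rw [Scheme.Opens.range_ι]
      exact hx
    · intro x hx
      obtain ⟨V, ⟨s⟩, v, rfl⟩ := (memW _).mp hx
      have f : V ⟶ Scheme.Etale.mk W'.ι := i.hom.app (op V) s
      exact (hom_nonempty_iff W' V).mp ⟨f⟩ ⟨v, rfl⟩

end Groth.Agent.S0644
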