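import Groth.Statements.S0652
import Groth.Agent.Lib.Helper13.StalkPull

set_option autoImplicit false
open CategoryTheory CategoryTheory.Limits AlgebraicGeometry Opposite
universe u
open EtCore

namespace Groth.Agent.S0652

/-- For an open immersion j : U -> X and an abelian sheaf F on the small etale site of U, an abelian
sheaf G on X is isomorphic to j_! F as soon as G restricts to a sheaf isomorphic to F on U and has
vanishing stalks at every geometric point of X not in U. (Continuity of the composition functor of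
etale sites, which always holds, is carried as an instance hypothesis.) -/
theorem result {U X : Scheme.{u}} (j : U ⟶ X) [IsOpenImmersion j]
    [AlgebraicGeometry.Etale j] [EtShriek.JCont j] (F : EtCoh.Ab U) (G : EtCoh.Ab X)
    (hres : Nonempty ((EtShriek.restrAlong j).obj G ≅ F))
    (hzero : ∀ (Ω : Type u) [Field Ω] [IsSepClosed Ω] (ξ : Spec (CommRingCat.of Ω) ⟶ X),
      Set.range ξ.base ⊆ (Set.range j.base)ᶜ → IsZero ((EtCoh.stalk ξ).obj G)) :
    Nonempty (G ≅ (EtShriek.extZero j).obj F) := by
  open Groth.Agent.Lib.Helper13.StalkPull Groth.Agent.Lib.Helper13.EtaleRestr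
    Groth.Agent.Lib.Helper13.StalkConservative in
  obtain ⟨e⟩ := hres
  have hε : IsIso ((EtShriek.extZeroAdj j).counit.app G) := by
    rw [isIso_iff_stalks]
    rintro ⟨Ω, ξ⟩
    by_cases h : ∃ v : Spec (CommRingCat.of Ω) ⟶ U, v ≫ j = ξ
    · obtain ⟨v, rfl⟩ := h
      have tri := (EtShriek.extZeroAdj j).right_triangle_components G
      have h1 : IsIso ((EtShriek.restrAlong j).map ((EtShriek.extZeroAdj j).counit.app G)) :=
        IsIso.of_isIso_fac_left tri
      have h2 : IsIso ((EtShriek.restrAlong j ⋙ EtCoh.stalk v).map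
          ((EtShriek.extZeroAdj j).counit.app G)) := by
        rw [Functor.comp_map]; infer_instance
      exact (NatIso.isIso_map_iff (stalkRestrIso j v) _).1 h2
    · have hempty : IsEmpty {v : Spec (CommRingCat.of Ω) ⟶ U // v ≫ j = ξ} :=
        ⟨fun v => h ⟨v.1, v.2⟩⟩
      have z1 := isZero_stalk_extZero j ξ hempty ((EtShriek.restrAlong j).obj G)
      have z2 : IsZero ((EtCoh.stalk ξ).obj G) := by
        apply hzero Ω ξ
        rintro _ ⟨p, rfl⟩ ⟨y, hy⟩
        apply h
        refine ⟨IsOpenImmersion.lift j ξ ?_, IsOpenImmersion.lift_fac _ _ _⟩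
        rintro _ ⟨q, rfl⟩
        obtain rfl : q = p := Subsingleton.elim _ _
        exact ⟨y, hy⟩
      exact ⟨z2.to_ _, z1.eq_of_src _ _, z2.eq_of_src _ _⟩
  exact ⟨(asIso ((EtShriek.extZeroAdj j).counit.app G)).symm ≪≫ (EtShriek.extZero j).mapIso e⟩

end Groth.Agent.S0652
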