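import Groth.Statements.S0653
import Groth.Agent.S0651
import Groth.Agent.S0652
import Groth.Agent.Lib.Helper15.FinitePushVanish

set_option autoImplicit false
open CategoryTheory CategoryTheory.Limits AlgebraicGeometry Opposite
universe u
open EtCore

namespace Groth.Agent.S0653

/-- Consider a cartesian square U = X x_Y V with f : X -> Y finite, j : V -> Y an open immersion, j' : U
-> X and g : U -> V the projections. Then for every abelian sheaf F on the small etale site of U,
f_* j'_! F is isomorphic to j_! g_* F. (The source also asserts functoriality in F; only the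
objectwise isomorphism is stated.) (Continuity of the composition functor of etale sites, which
always holds, is carried as an instance hypothesis.) -/
theorem result {U X V Y : Scheme.{u}} (f : X ⟶ Y) [IsFinite f] (j : V ⟶ Y)
    [IsOpenImmersion j] [AlgebraicGeometry.Etale j] [EtShriek.JCont j] (j' : U ⟶ X) [IsOpenImmersion j']
    [AlgebraicGeometry.Etale j'] [EtShriek.JCont j'] (g : U ⟶ V) (h : IsPullback j' g f j) (F : EtCoh.Ab U) :
    Nonempty ((EtCoh.push f).obj ((EtShriek.extZero j').obj F) ≅ (EtShriek.extZero j).obj ((EtCoh.push g).obj F)) := by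
  open Groth.Agent.Lib.Helper13.StalkPull Groth.Agent.Lib.Helper13.StalkConservative
    Groth.Agent.Lib.Helper15.FinitePushVanish in
  obtain ⟨-, hunit⟩ := Groth.Agent.S0651.result j' F
  haveI := hunit
  refine Groth.Agent.S0652.result j ((EtCoh.push g).obj F)
    ((EtCoh.push f).obj ((EtShriek.extZero j').obj F)) ⟨?_⟩ ?_
  · exact (pushRestrIso f j j' g h).app ((EtShriek.extZero j').obj F) ≪≫
      (EtCoh.push g).mapIso (asIso ((EtShriek.extZeroAdj j').unit.app F)).symm
  · intro Ω _ _ ξ hξ
    apply isZero_stalk_push f _ ξ
    intro i hi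
    apply isZero_stalk_extZero j' i.ξ ⟨?_⟩ F
    rintro ⟨v, hv⟩
    apply hξ ⟨default, rfl⟩
    refine ⟨g (v default), ?_⟩
    have h1 : j (g (v default)) = f (j' (v default)) :=
      (congrArg (fun m : U ⟶ Y => m (v default)) h.w).symm
    have h2 : j' (v default) = i.ξ default :=
      congrArg (fun m : Spec (CommRingCat.of i.Ω) ⟶ X => m default) hv
    exact h1.trans ((congrArg f h2).trans hi)

end Groth.Agent.S0653
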