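import Groth.Statements.S9714
import Mathlib

set_option autoImplicit false
universe u
open CategoryTheory CategoryTheory.Limits AlgebraicGeometry
open Mor

namespace Groth.Agent.S9714

/-- structure ring map of a scheme over `Spec R`. -/
noncomputable def strMap {R : CommRingCat.{u}} {Y : Scheme.{u}} (g : Y ⟶ Spec R) : R ⟶ Γ(Y, ⊤) :=
  (Scheme.ΓSpecIso R).inv ≫ g.appTop

theorem eq_toSpecΓ_comp {R : CommRingCat.{u}} {Y : Scheme.{u}} (g : Y ⟶ Spec R) :
    g = Y.toSpecΓ ≫ Spec.map (strMap g) := by
  rw [strMap, Spec.map_comp, ← Scheme.toSpecΓ_naturality_assoc, toSpecΓ_SpecMap_ΓSpecIso_inv,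
    Category.comp_id]

theorem specMap_strMap {R : CommRingCat.{u}} {Y : Scheme.{u}} [IsAffine Y] (g : Y ⟶ Spec R) :
    Spec.map (strMap g) = Y.isoSpec.inv ≫ g := by
  rw [Iso.eq_inv_comp]
  exact (eq_toSpecΓ_comp g).symm

theorem strMap_props {k : Type u} [Field k] {Y : Scheme.{u}} [IsAffine Y]
    (g : Y ⟶ Spec (CommRingCat.of k)) [FormallyUnramified g] [LocallyOfFiniteType g] :
    (strMap g).hom.FormallyUnramified ∧ (strMap g).hom.FiniteType := by
  have h1 : FormallyUnramified (Spec.map (strMap g)) := by
    rw [specMap_strMap]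
    exact MorphismProperty.comp_mem _ _ _ inferInstance inferInstance
  have h2 : LocallyOfFiniteType (Spec.map (strMap g)) := by
    rw [specMap_strMap]; infer_instance
  exact ⟨(HasRingHomProperty.Spec_iff (P := @FormallyUnramified)).mp h1,
    (HasRingHomProperty.Spec_iff (P := @LocallyOfFiniteType)).mp h2⟩

/-- algebra consequences -/
theorem alg_facts {k : Type u} [Field k] {A : Type u} [CommRing A] (φ : k →+* A)
    (h1 : φ.FormallyUnramified) (h2 : φ.FiniteType) :
    letI := φ.toAlgebra
    Module.Finite k A ∧ IsArtinianRing A ∧ IsReduced A := by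
  algebraize [φ]
  have : Algebra.EssFiniteType k A := inferInstance
  have hfin : Module.Finite k A := Algebra.FormallyUnramified.finite_of_free k A
  have hart : IsArtinianRing A := .of_finite k A
  exact ⟨hfin, hart, Algebra.FormallyUnramified.isReduced_of_field k A⟩

/-- Let k be a field and X a scheme over k. The structure morphism X ⟶ Spec k is unramified (formally
unramified and locally of finite type) if and only if X is isomorphic over k to a disjoint union of
spectra of finite separable field extensions of k. -/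
theorem result (k : Type u) [Field k] {X : Scheme.{u}}
    (f : X ⟶ Spec (CommRingCat.of k)) :
    (FormallyUnramified f ∧ LocallyOfFiniteType f) ↔
      ∃ (ι : Type u) (K : ι → Type u) (_ : ∀ i, Field (K i)) (_ : ∀ i, Algebra k (K i)),
        (∀ i, FiniteDimensional k (K i) ∧ Algebra.IsSeparable k (K i)) ∧
        ∃ e : X ≅ ∐ (fun i => Spec (CommRingCat.of (K i))),
          e.hom ≫ Sigma.desc (fun i => Spec.map (CommRingCat.ofHom (algebraMap k (K i)))) = f := by
  constructor
  swap
  · rintro ⟨ι, K, hF, hA, hK, e, he⟩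
    have hι : ∀ i, Sigma.ι (fun i => Spec (CommRingCat.of (K i))) i ≫
        Sigma.desc (fun i => Spec.map (CommRingCat.ofHom (algebraMap k (K i)))) =
        Spec.map (CommRingCat.ofHom (algebraMap k (K i))) := fun i => by simp
    have hg1 : FormallyUnramified
        (Sigma.desc (fun i => Spec.map (CommRingCat.ofHom (algebraMap k (K i))))) := by
      rw [IsZariskiLocalAtSource.iff_of_openCover (P := @FormallyUnramified) (sigmaOpenCover _)]
      intro (i : ι)
      change FormallyUnramified (Sigma.ι _ i ≫ _)
      rw [hι, HasRingHomProperty.Spec_iff (P := @FormallyUnramified)]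
      have := (hK i).2
      exact RingHom.formallyUnramified_algebraMap.mpr
        (Algebra.FormallyUnramified.of_isSeparable k (K i))
    have hg2 : LocallyOfFiniteType
        (Sigma.desc (fun i => Spec.map (CommRingCat.ofHom (algebraMap k (K i))))) := by
      rw [IsZariskiLocalAtSource.iff_of_openCover (P := @LocallyOfFiniteType) (sigmaOpenCover _)]
      intro (i : ι)
      change LocallyOfFiniteType (Sigma.ι _ i ≫ _)
      rw [hι, HasRingHomProperty.Spec_iff (P := @LocallyOfFiniteType)]
      have := (hK i).1
      exact RingHom.finiteType_algebraMap.mpr inferInstance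
    rw [← he]
    exact ⟨MorphismProperty.comp_mem _ _ _ inferInstance hg1,
      MorphismProperty.comp_mem _ _ _ inferInstance hg2⟩
  · rintro ⟨hu, hft⟩
    have hcomp : ∀ U : X.Opens, FormallyUnramified (U.ι ≫ f) ∧ LocallyOfFiniteType (U.ι ≫ f) :=
      fun U => ⟨MorphismProperty.comp_mem _ _ _ inferInstance hu,
        MorphismProperty.comp_mem _ _ _ inferInstance hft⟩
    have hprops : ∀ (U : X.Opens) (hU : IsAffineOpen U),
        (strMap (U.ι ≫ f)).hom.FormallyUnramified ∧ (strMap (U.ι ≫ f)).hom.FiniteType := by
      intro U hU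
      haveI : IsAffine U.toScheme := hU
      haveI := (hcomp U).1
      haveI := (hcomp U).2
      exact strMap_props (U.ι ≫ f)
    have hfacts : ∀ (U : X.Opens) (hU : IsAffineOpen U),
        letI := (strMap (U.ι ≫ f)).hom.toAlgebra
        Module.Finite k Γ(U.toScheme, ⊤) ∧ IsArtinianRing Γ(U.toScheme, ⊤) ∧
          IsReduced Γ(U.toScheme, ⊤) := by
      intro U hU
      obtain ⟨h1, h2⟩ := hprops U hU
      exact alg_facts _ h1 h2
    haveI : IsLocallyArtinian X := ⟨fun U => by
      haveI := (hfacts U.1 U.2).2.1
      exact U.1.topIso.commRingCatIsoToRingEquiv.surjective.isArtinianRing⟩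
    haveI : DiscreteTopology X := inferInstance
    let U : X → X.Opens := fun x => ⟨{x}, isOpen_discrete _⟩
    have hUaff : ∀ x, IsAffineOpen (U x) := fun x => .of_subsingleton Set.subsingleton_singleton
    have hfield : ∀ x, IsField Γ((U x).toScheme, ⊤) := fun x => by
      obtain ⟨-, hart, hred⟩ := hfacts (U x) (hUaff x)
      haveI : IsAffine (U x).toScheme := hUaff x
      haveI : IsLocalRing Γ((U x).toScheme, ⊤) := by
        have e := (U x).toScheme.isoSpec.hom.homeomorph
        haveI : Subsingleton (U x).toScheme := by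
          change Subsingleton ({x} : Set X)
          infer_instance
        haveI : Subsingleton (PrimeSpectrum Γ((U x).toScheme, ⊤)) :=
          e.symm.injective.subsingleton
        haveI : Nonempty (PrimeSpectrum Γ((U x).toScheme, ⊤)) := ⟨e ⟨x, rfl⟩⟩
        haveI : Nontrivial Γ((U x).toScheme, ⊤) := PrimeSpectrum.nonempty_iff_nontrivial.mp ‹_›
        haveI : Subsingleton (MaximalSpectrum Γ((U x).toScheme, ⊤)) :=
          MaximalSpectrum.toPrimeSpectrum_injective.subsingleton
        exact .of_singleton_maximalSpectrum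
      exact IsArtinianRing.isField_of_isReduced_of_isLocalRing _
    have hdisj : Pairwise (Function.onFun Disjoint (fun x => Set.range ((U x).ι))) := by
      intro x y hxy
      simp only [Function.onFun, Scheme.Opens.range_ι]
      change Disjoint ({x} : Set X) {y}
      simpa using hxy
    haveI : IsOpenImmersion (Sigma.desc (fun x => (U x).ι)) :=
      isOpenImmersion_sigmaDesc _ _ hdisj
    haveI : IsIso (Sigma.desc (fun x => (U x).ι)) := by
      apply isIso_of_isOpenImmersion_of_opensRange_eq_top
      rw [eq_top_iff]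
      intro x _
      exact ⟨Sigma.ι (fun x => (U x).toScheme) x ⟨x, rfl⟩, by simp [← Scheme.Hom.comp_apply]⟩
    letI hF : ∀ x : X, Field Γ((U x).toScheme, ⊤) := fun x => (hfield x).toField
    letI hA : ∀ x : X, Algebra k Γ((U x).toScheme, ⊤) :=
      fun x => (strMap ((U x).ι ≫ f)).hom.toAlgebra
    refine ⟨X, fun x => Γ((U x).toScheme, ⊤), hF, hA, ?_, ?_⟩
    · intro x
      obtain ⟨h1, h2⟩ := hprops (U x) (hUaff x)
      refine ⟨(hfacts (U x) (hUaff x)).1, ?_⟩
      haveI : Algebra.FormallyUnramified k Γ((U x).toScheme, ⊤) := h1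
      haveI : Algebra.FiniteType k Γ((U x).toScheme, ⊤) := h2
      exact Algebra.FormallyUnramified.isSeparable k _
    · haveI : ∀ x, IsAffine (U x).toScheme := hUaff
      refine ⟨(asIso (Sigma.desc (fun x => (U x).ι))).symm ≪≫
        Sigma.mapIso (fun x => (U x).toScheme.isoSpec), ?_⟩
      simp only [Iso.trans_hom, Iso.symm_hom, asIso_inv, Category.assoc, IsIso.inv_comp_eq]
      refine Sigma.hom_ext _ _ (fun x => ?_)
      simp only [Sigma.ι_desc_assoc]
      rw [Sigma.ι_mapIso_hom_assoc, Sigma.ι_desc, eq_toSpecΓ_comp ((U x).ι ≫ f), Scheme.isoSpec_hom]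
      rfl

end Groth.Agent.S9714
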