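import Groth.Statements.S0658
import Mathlib
import Groth.Agent.S9714

set_option autoImplicit false
open CategoryTheory CategoryTheory.Limits AlgebraicGeometry Opposite
universe u
open EtCore

namespace Groth.Agent.S0658

/-- Let k be a field and φ : U → Spec k a morphism of schemes. Then φ is étale if and only if U is
isomorphic over k to a disjoint union ∐ Spec K_i with each K_i a finite separable field extension of
k. -/
theorem result (k : Type u) [Field k] (U : Scheme.{u}) (φ : U ⟶ Spec (CommRingCat.of k)) :
    AlgebraicGeometry.Etale φ ↔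
      ∃ (ι : Type u) (K : ι → Type u) (_ : ∀ i, Field (K i)) (_ : ∀ i, Algebra k (K i))
        (_ : ∀ i, FiniteDimensional k (K i)) (_ : ∀ i, Algebra.IsSeparable k (K i))
        (e : (∐ fun i => Spec (CommRingCat.of (K i))) ≅ U),
        ∀ i, Sigma.ι (fun i => Spec (CommRingCat.of (K i))) i ≫ e.hom ≫ φ =
          Spec.map (CommRingCat.ofHom (algebraMap k (K i))) := by
  constructor
  · intro h
    obtain ⟨ι, K, hF, hA, hK, e, he⟩ :=
      (Groth.Agent.S9714.result k φ).mp ⟨inferInstance, inferInstance⟩
    refine ⟨ι, K, hF, hA, fun i => (hK i).1, fun i => (hK i).2, e.symm, fun i => ?_⟩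
    rw [← he]
    simp
  · rintro ⟨ι, K, hF, hA, hfd, hsep, e, he⟩
    have h1 : e.hom ≫ φ =
        Sigma.desc (fun i => Spec.map (CommRingCat.ofHom (algebraMap k (K i)))) := by
      refine Sigma.hom_ext _ _ (fun i => ?_)
      rw [he i]
      simp
    have h2 : Etale (Sigma.desc (fun i => Spec.map (CommRingCat.ofHom (algebraMap k (K i))))) := by
      rw [IsZariskiLocalAtSource.iff_of_openCover (P := @Etale) (sigmaOpenCover _)]
      intro (i : ι)
      change Etale (Sigma.ι _ i ≫ _)
      rw [Sigma.ι_desc, HasRingHomProperty.Spec_iff (P := @Etale)]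
      have := hfd i
      have := hsep i
      refine RingHom.etale_algebraMap.mpr ⟨?_, ?_⟩
      · exact Algebra.FormallyEtale.of_isSeparable k (K i)
      · exact Algebra.FinitePresentation.of_finiteType.mp inferInstance
    have h3 : φ = e.inv ≫ Sigma.desc (fun i => Spec.map (CommRingCat.ofHom (algebraMap k (K i)))) := by
      rw [← h1]; simp
    rw [h3]
    exact MorphismProperty.comp_mem _ _ _ inferInstance h2

end Groth.Agent.S0658
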