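import Groth.Statements.S0659
import Groth.Agent.Lib.Helper2.EtMV.Etale
-- import your own Groth.Agent.* helpers here

set_option autoImplicit false
open CategoryTheory CategoryTheory.Limits AlgebraicGeometry Opposite
universe u
open EtCore

namespace Groth.Agent.S0659

open Groth.Agent.Lib.Helper2.EtMV Groth.Agent.Lib.Helper13.StalkConservative
  Groth.Agent.Lib.Helper13.StalkPull

/-- Let X = U ∪ V be a union of two open subschemes and F an abelian sheaf on the small etale site of X.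
Writing r_U, r_V for the pullback maps H^n(X, F) -> H^n(U, F|_U), H^n(V, F|_V) and d for the
difference of the two further pullbacks to H^n(U ∩ V, F|_{U ∩ V}), there are connecting
homomorphisms δ_n : H^n(U ∩ V) -> H^{n+1}(X) making the Mayer-Vietoris sequence exact: (r_U, r_V) is
injective in degree 0 and has kernel the image of δ in positive degrees, d has kernel the image of
(r_U, r_V), and δ has kernel the image of d. (Functoriality in F is not stated.) (Exactness of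
pullback of abelian sheaves, which always holds, is carried as an instance hypothesis.) -/
theorem result (X : Scheme.{u}) (U V : X.Opens) (hUV : U ⊔ V = ⊤) (F : EtCoh.Ab X)
    [PreservesFiniteLimits (EtCoh.pull U.ι)] [PreservesFiniteLimits (EtCoh.pull V.ι)]
    [PreservesFiniteLimits (EtCoh.pull (X.homOfLE (inf_le_left : U ⊓ V ≤ U)))]
    [PreservesFiniteLimits (EtCoh.pull (X.homOfLE (inf_le_right : U ⊓ V ≤ V)))] :
    ∃ δ : ∀ n : ℕ, EtCoh.H ↑(U ⊓ V) ((EtCoh.pull (U ⊓ V).ι).obj F) n →+ EtCoh.H X F (n + 1),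
      (AddMonoidHom.prod (EtCore.Hpull U.ι F 0) (EtCore.Hpull V.ι F 0)).ker = ⊥ ∧
      (∀ n : ℕ, (AddMonoidHom.prod (EtCore.Hpull U.ι F (n + 1)) (EtCore.Hpull V.ι F (n + 1))).ker = (δ n).range) ∧
      (∀ n : ℕ, (((EtCore.HpullVia (X.homOfLE (inf_le_left : U ⊓ V ≤ U)) U.ι (U ⊓ V).ι (X.homOfLE_ι inf_le_left) F n)).comp (AddMonoidHom.fst _ _) - ((EtCore.HpullVia (X.homOfLE (inf_le_right : U ⊓ V ≤ V)) V.ι (U ⊓ V).ι (X.homOfLE_ι inf_le_right) F n)).comp (AddMonoidHom.snd _ _)).ker =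
        (AddMonoidHom.prod (EtCore.Hpull U.ι F n) (EtCore.Hpull V.ι F n)).range) ∧
      (∀ n : ℕ, (δ n).ker = (((EtCore.HpullVia (X.homOfLE (inf_le_left : U ⊓ V ≤ U)) U.ι (U ⊓ V).ι (X.homOfLE_ι inf_le_left) F n)).comp (AddMonoidHom.fst _ _) - ((EtCore.HpullVia (X.homOfLE (inf_le_right : U ⊓ V ≤ V)) V.ι (U ⊓ V).ι (X.homOfLE_ι inf_le_right) F n)).comp (AddMonoidHom.snd _ _)).range) := by
  classical
  -- notation
  have wU : X.homOfLE (inf_le_left : U ⊓ V ≤ U) ≫ U.ι = (U ⊓ V).ι := X.homOfLE_ι inf_le_left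
  have wV : X.homOfLE (inf_le_right : U ⊓ V ≤ V) ≫ V.ι = (U ⊓ V).ι := X.homOfLE_ι inf_le_right
  haveI : PreservesFiniteLimits (EtCoh.pull (U ⊓ V).ι) := pull_preservesFiniteLimits _
  -- the commutative square
  have sq : CommSq (bMap (X.homOfLE (inf_le_left : U ⊓ V ≤ U)) U.ι (U ⊓ V).ι wU)
      (bMap (X.homOfLE (inf_le_right : U ⊓ V ≤ V)) V.ι (U ⊓ V).ι wV) (aMap U.ι) (aMap V.ι) :=
    ⟨(bMap_aMap _ _ _ wU).trans (bMap_aMap _ _ _ wV).symm⟩
  -- it is bicartesian, by a stalkwise verification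
  have hbi := bicartesian_of_jointly (stalk_jointlyReflectIsomorphisms X) sq (by
    intro i
    by_cases hxU : i.ξ default ∈ U
    · obtain ⟨vU, hvU⟩ := exists_lift_of_mem U i.ξ hxU
      by_cases hxV : i.ξ default ∈ V
      · obtain ⟨vW, hvW⟩ := exists_lift_of_mem (U ⊓ V) i.ξ ⟨hxU, hxV⟩
        left
        refine ⟨isIso_stalk_of_isIso_pull (U ⊓ V).ι vW i.ξ hvW _,
          isIso_stalk_of_isIso_pull V.ι (vW ≫ X.homOfLE (inf_le_right : U ⊓ V ≤ V)) i.ξ ?_ _⟩
        rw [Category.assoc, wV, hvW]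
      · right
        refine ⟨IsZero.isIso ?_ ?_ _, isIso_stalk_of_isIso_pull U.ι vU i.ξ hvU _⟩
        · exact isZero_stalk_extZero (U ⊓ V).ι i.ξ
            (isEmpty_lift_of_not_mem (U ⊓ V) i.ξ (fun h => hxV h.2)) _
        · exact isZero_stalk_extZero V.ι i.ξ (isEmpty_lift_of_not_mem V i.ξ hxV) _
    · have hxV : i.ξ default ∈ V := by
        have : i.ξ default ∈ U ⊔ V := by rw [hUV]; trivial
        rcases this with h | h
        · exact absurd h hxU
        · exact h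
      obtain ⟨vV, hvV⟩ := exists_lift_of_mem V i.ξ hxV
      left
      refine ⟨IsZero.isIso ?_ ?_ _, isIso_stalk_of_isIso_pull V.ι vV i.ξ hvV _⟩
      · exact isZero_stalk_extZero (U ⊓ V).ι i.ξ
          (isEmpty_lift_of_not_mem (U ⊓ V) i.ξ (fun h => hxU h.1)) _
      · exact isZero_stalk_extZero U.ι i.ξ (isEmpty_lift_of_not_mem U i.ξ hxU) _)
  have hS := shortExact_of_isPushout_isPullback hbi.1 hbi.2
  exact mv_abstract (mvZero sq) hS F (fun n => Θ U.ι F n) (fun n => Θ V.ι F n)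
    (fun n => Θ (U ⊓ V).ι F n) (fun n => EtCore.Hpull U.ι F n) (fun n => EtCore.Hpull V.ι F n)
    (fun n => EtCore.HpullVia (X.homOfLE (inf_le_left : U ⊓ V ≤ U)) U.ι (U ⊓ V).ι
      (X.homOfLE_ι inf_le_left) F n)
    (fun n => EtCore.HpullVia (X.homOfLE (inf_le_right : U ⊓ V ≤ V)) V.ι (U ⊓ V).ι
      (X.homOfLE_ι inf_le_right) F n)
    (fun n e => Hpull_eq U.ι F n e) (fun n e => Hpull_eq V.ι F n e)
    (fun n x => HpullVia_eq _ U.ι (U ⊓ V).ι _ F n x)
    (fun n x => HpullVia_eq _ V.ι (U ⊓ V).ι _ F n x)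


end Groth.Agent.S0659
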