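import Groth.Statements.S0666
import Groth.Agent.Lib.Helper5.CechDerived
import Groth.Agent.S0665

set_option autoImplicit false
open CategoryTheory CategoryTheory.Limits Opposite
universe w v
open EtCore

namespace Groth.Agent.S0666

/-- With C, U and the family (U_i -> U) as in the definition of the Cech complex, on the abelian
category of abelian presheaves on C the p-th Cech cohomology functor is isomorphic to the p-th right
derived functor of the zeroth Cech cohomology functor (assuming, as binders, that the latter is
additive and that abelian presheaves have injective resolutions, which hold because C is taken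
essentially small relative to the coefficient universe). -/
theorem result {C : Type w} [Category.{v} C] [EssentiallySmall.{w} C] {U : C} [HasFiniteProducts (Over U)]
    {ι : Type w} (Uf : ι → Over U) [(EtCech.cechHFunctor (C := C) Uf 0).Additive]
    [HasInjectiveResolutions (Cᵒᵖ ⥤ AddCommGrpCat.{w})] (p : ℕ) :
    Nonempty (EtCech.cechHFunctor (C := C) Uf p ≅ (EtCech.cechHFunctor (C := C) Uf 0).rightDerived p) := by
  have hEI : EnoughInjectives (Cᵒᵖ ⥤ AddCommGrpCat.{w}) :=
    ⟨fun X => by
      let I := injectiveResolution X
      have hm : Mono (I.ι.f 0) := inferInstance
      exact ⟨⟨I.cocomplex.X 0, inferInstance, I.ι.f 0, hm⟩⟩⟩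
  have hLS : LocallySmall.{w} C := inferInstance
  exact Groth.Agent.Lib.Helper5.CechDerived.nonempty_iso_rightDerived Uf
    (fun I _ p => Groth.Agent.S0665.result Uf I p) p

end Groth.Agent.S0666
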