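import Groth.Statements.S0676
import Mathlib
import Groth.Agent.Lib.Helper8.EtLift
import Groth.Agent.Lib.Helper8.EtaleProd

set_option autoImplicit false
open CategoryTheory CategoryTheory.Limits AlgebraicGeometry Opposite Topology
universe u
open ProEtW TensorProduct

namespace Groth.Agent.S0676

/-- If every faithfully flat etale A-algebra has an A-algebra retraction, then the same holds for the
quotient ring A/I for every ideal I. -/
theorem result (A : Type u) [CommRing A]
    (h : ProEtW.HasEtaleRetractions A) (I : Ideal A) :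
    ProEtW.HasEtaleRetractions (A ⧸ I) := by
  classical
  intro B₀ _ _ hff het
  obtain ⟨B, _, _, hB, ⟨e⟩⟩ := Groth.Agent.Lib.Helper8.EtLift.exists_lift A I B₀
  have hopen : IsOpen (Set.range (PrimeSpectrum.comap (algebraMap A B))) :=
    (PrimeSpectrum.isOpenMap_comap_of_hasGoingDown_of_finitePresentation).isOpen_range
  -- the ring map `B → B₀`
  let ψ : B →+* B₀ := e.toRingEquiv.toRingHom.comp
    (Algebra.TensorProduct.includeRight : B →ₐ[A] (A ⧸ I) ⊗[A] B).toRingHom
  have hψ : ∀ a : A, ψ (algebraMap A B a) = algebraMap (A ⧸ I) B₀ (Ideal.Quotient.mk I a) := by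
    intro a
    change e ((1 : A ⧸ I) ⊗ₜ[A] (algebraMap A B a)) = _
    rw [Algebra.algebraMap_eq_smul_one, ← TensorProduct.smul_tmul, ← e.commutes]
    congr 1
    rw [Algebra.TensorProduct.algebraMap_apply, Algebra.algebraMap_self_apply]
    congr 1
    rw [Algebra.smul_def, mul_one]
    rfl
  -- `V(I)` is contained in the image
  have hVI : PrimeSpectrum.zeroLocus (I : Set A) ⊆
      Set.range (PrimeSpectrum.comap (algebraMap A B)) := by
    intro p hp
    have hIp : I ≤ p.asIdeal := hp
    have : (p.asIdeal.map (Ideal.Quotient.mk I)).IsPrime :=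
      Ideal.map_isPrime_of_surjective Ideal.Quotient.mk_surjective (by rwa [Ideal.mk_ker])
    obtain ⟨Q₀, hQ₀⟩ := PrimeSpectrum.comap_surjective_of_faithfullyFlat (A := A ⧸ I) (B := B₀)
      ⟨p.asIdeal.map (Ideal.Quotient.mk I), inferInstance⟩
    refine ⟨PrimeSpectrum.comap ψ Q₀, ?_⟩
    ext x
    change ψ (algebraMap A B x) ∈ Q₀.asIdeal ↔ x ∈ p.asIdeal
    rw [hψ]
    have h1 : algebraMap (A ⧸ I) B₀ (Ideal.Quotient.mk I x) ∈ Q₀.asIdeal ↔
        Ideal.Quotient.mk I x ∈ p.asIdeal.map (Ideal.Quotient.mk I) := by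
      have := congrArg PrimeSpectrum.asIdeal hQ₀
      change Ideal.comap (algebraMap (A ⧸ I) B₀) Q₀.asIdeal =
        Ideal.map (Ideal.Quotient.mk I) p.asIdeal at this
      rw [← this]
      rfl
    rw [h1, ← Ideal.mem_comap, Ideal.comap_map_mk hIp]
  -- `i ∈ I`, `j` vanishing off the image, `i + j = 1`
  let J : Ideal A := PrimeSpectrum.vanishingIdeal (Set.range (PrimeSpectrum.comap (algebraMap A B)))ᶜ
  have hJ : PrimeSpectrum.zeroLocus (J : Set A) =
      (Set.range (PrimeSpectrum.comap (algebraMap A B)))ᶜ := by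
    rw [PrimeSpectrum.zeroLocus_vanishingIdeal_eq_closure]
    exact hopen.isClosed_compl.closure_eq
  have hIJ : I ⊔ J = ⊤ := by
    rw [← PrimeSpectrum.zeroLocus_empty_iff_eq_top, PrimeSpectrum.zeroLocus_sup, hJ]
    exact Set.eq_empty_of_subset_empty (fun p hp => hp.2 (hVI hp.1))
  obtain ⟨i, hi, j, hj, hij⟩ := Submodule.mem_sup.mp (hIJ ▸ Submodule.mem_top : (1 : A) ∈ I ⊔ J)
  have : Algebra.Etale A (Localization.Away i) := Algebra.Etale.of_isLocalizationAway i
  have : Algebra.Etale A (B × Localization.Away i) :=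
    Groth.Agent.Lib.Helper8.EtaleProd.etale_prod A B (Localization.Away i)
  have : Module.Flat A (B × Localization.Away i) := inferInstance
  have hsurj : Function.Surjective
      (PrimeSpectrum.comap (algebraMap A (B × Localization.Away i))) := by
    intro p
    by_cases hp : p ∈ Set.range (PrimeSpectrum.comap (algebraMap A B))
    · obtain ⟨Q, rfl⟩ := hp
      refine ⟨PrimeSpectrum.comap (RingHom.fst B (Localization.Away i)) Q, ?_⟩
      rw [← PrimeSpectrum.comap_comp_apply]
      rfl
    · have hpJ : p ∈ PrimeSpectrum.zeroLocus (J : Set A) := by rw [hJ]; exact hp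
      have hjp : j ∈ p.asIdeal := hpJ hj
      have hip : i ∉ p.asIdeal := by
        intro hip
        apply p.2.ne_top
        rw [Ideal.eq_top_iff_one, ← hij]
        exact add_mem hip hjp
      have hpb : p ∈ Set.range (PrimeSpectrum.comap (algebraMap A (Localization.Away i))) := by
        rw [PrimeSpectrum.localization_away_comap_range (Localization.Away i) i]
        exact hip
      obtain ⟨Q, rfl⟩ := hpb
      refine ⟨PrimeSpectrum.comap (RingHom.snd B (Localization.Away i)) Q, ?_⟩
      rw [← PrimeSpectrum.comap_comp_apply]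
      rfl
  have hffC : Module.FaithfullyFlat A (B × Localization.Away i) :=
    Module.FaithfullyFlat.of_comap_surjective hsurj
  obtain ⟨r⟩ := h (B × Localization.Away i) hffC inferInstance
  -- `r (0, 1) ∈ I`
  have h01 : r ((0 : B), (1 : Localization.Away i)) ∈ I := by
    have h1 : ((0 : B), (1 : Localization.Away i)) =
        i • ((0 : B), IsLocalization.Away.invSelf (S := Localization.Away i) i) := by
      rw [Prod.smul_mk, smul_zero, Algebra.smul_def, IsLocalization.Away.mul_invSelf]
    rw [h1, map_smul, smul_eq_mul]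
    exact Ideal.mul_mem_right _ _ hi
  have h10 : Ideal.Quotient.mk I (r ((1 : B), (0 : Localization.Away i))) = 1 := by
    have h2 : r ((1 : B), (0 : Localization.Away i)) + r ((0 : B), (1 : Localization.Away i)) = 1 := by
      rw [← map_add, Prod.mk_add_mk, add_zero, zero_add, ← Prod.one_eq_mk, map_one]
    rw [← map_one (Ideal.Quotient.mk I), ← h2, map_add,
      Ideal.Quotient.eq_zero_iff_mem.mpr h01, add_zero]
  let φ : B →ₐ[A] A ⧸ I :=
    { toFun := fun b => Ideal.Quotient.mk I (r (b, (0 : Localization.Away i)))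
      map_one' := h10
      map_mul' := fun b b' => by
        rw [← map_mul, ← map_mul, Prod.mk_mul_mk, mul_zero]
      map_zero' := by
        rw [← Prod.zero_eq_mk, map_zero, map_zero]
      map_add' := fun b b' => by
        rw [← map_add, ← map_add, Prod.mk_add_mk, add_zero]
      commutes' := fun a => by
        have h3 : (algebraMap A B a, (0 : Localization.Away i)) =
            a • ((1 : B), (0 : Localization.Away i)) := by
          rw [Prod.smul_mk, smul_zero, Algebra.smul_def, mul_one]
        rw [h3, map_smul, smul_eq_mul, map_mul, h10, mul_one]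
        rfl }
  let ρ : (A ⧸ I) ⊗[A] B →ₐ[A ⧸ I] A ⧸ I :=
    Algebra.TensorProduct.lift (AlgHom.id (A ⧸ I) (A ⧸ I)) φ (fun _ _ => Commute.all _ _)
  exact ⟨ρ.comp e.symm.toAlgHom⟩

end Groth.Agent.S0676
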