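import Groth.Statements.S0706
-- import your own Groth.Agent.* helpers here

set_option autoImplicit false
open CategoryTheory CategoryTheory.Limits AlgebraicGeometry Opposite Topology
universe u
open ProEtW

namespace Groth.Agent.S0706

/-- Let f be an element and I an ideal of A, and Z the intersection of D(f) and V(I) in Spec A. There is
a multiplicative subset S of A for which the image of Spec(S^{-1}A) in Spec A consists precisely of
the points having a specialization in Z. -/
theorem result (A : Type u) [CommRing A] (f : A) (I : Ideal A) :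
    ∃ S : Submonoid A,
      Set.range (PrimeSpectrum.comap (algebraMap A (Localization S))) =
        {x | ∃ z : PrimeSpectrum A,
          z ∈ (PrimeSpectrum.basicOpen f : Set (PrimeSpectrum A)) ∩ PrimeSpectrum.zeroLocus I ∧ x ⤳ z} := by
  classical
  -- S = elements of A not lying in any prime of Z = D(f) ∩ V(I)
  let Z : Set (PrimeSpectrum A) :=
    (PrimeSpectrum.basicOpen f : Set (PrimeSpectrum A)) ∩ PrimeSpectrum.zeroLocus I
  let S : Submonoid A :=
    { carrier := {s | ∀ z ∈ Z, s ∉ z.asIdeal}
      one_mem' := fun z _ h1 => z.isPrime.ne_top ((Ideal.eq_top_iff_one _).2 h1)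
      mul_mem' := fun {a b} ha hb z hz hab =>
        (z.isPrime.mem_or_mem hab).elim (ha z hz) (hb z hz) }
  refine ⟨S, ?_⟩
  rw [PrimeSpectrum.localization_comap_range (Localization S) S]
  ext x
  simp only [Set.mem_setOf_eq]
  constructor
  · intro hx
    -- x.asIdeal disjoint from S; find z ∈ Z with x.asIdeal ≤ z.asIdeal
    by_contra hcon
    -- consider ideal x.asIdeal ⊔ I and the powers of f
    have hdisj : Disjoint ((Submonoid.powers f : Submonoid A) : Set A) ((x.asIdeal ⊔ I : Ideal A) : Set A) := by
      rw [Set.disjoint_left]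
      rintro a ⟨n, rfl⟩ hmem
      obtain ⟨p, hp, i, hi, hpi⟩ := Submodule.mem_sup.1 hmem
      -- p = f^n - i ∈ S
      have hpS : p ∈ S := by
        intro z hz hpz
        have hiz : i ∈ z.asIdeal := hz.2 hi
        have : f ^ n ∈ z.asIdeal := by
          have : p + i ∈ z.asIdeal := z.asIdeal.add_mem hpz hiz
          rwa [hpi] at this
        exact hz.1 (z.isPrime.mem_of_pow_mem n this)
      exact Set.disjoint_left.1 hx hpS hp
    obtain ⟨P, hP, hle, hPd⟩ := Ideal.exists_le_prime_disjoint _ _ hdisj.symm
    apply hcon
    refine ⟨⟨P, hP⟩, ⟨?_, ?_⟩, ?_⟩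
    · intro hf
      exact Set.disjoint_left.1 hPd hf ⟨1, by simp⟩
    · intro i hi
      exact hle (Ideal.mem_sup_right hi)
    · rw [← PrimeSpectrum.le_iff_specializes]
      intro a ha
      exact hle (Ideal.mem_sup_left ha)
  · rintro ⟨z, hz, hxz⟩
    rw [← PrimeSpectrum.le_iff_specializes] at hxz
    rw [Set.disjoint_left]
    intro s hs hsx
    exact hs z hz (hxz hsx)

end Groth.Agent.S0706
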