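import Groth.Statements.S0708
import Mathlib
import Groth.Agent.Lib.Helper8.LocEtDesc
import Groth.Agent.Lib.Helper8.EtaleProd

set_option autoImplicit false
open CategoryTheory CategoryTheory.Limits AlgebraicGeometry Opposite Topology
universe u
open ProEtW

namespace Groth.Agent.S0708

/-- Let A be a ring all of whose faithfully flat etale algebras have retractions, I an ideal with zero
set Z, and B a localization of A at a multiplicative subset such that the image of Spec B → Spec A
is precisely the set of points of Spec A specializing to some point of Z. Then every faithfully flat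
etale B-algebra has a retraction. -/
theorem result (A B : Type u) [CommRing A] [CommRing B]
    [Algebra A B] (S : Submonoid A) [IsLocalization S B] (I : Ideal A)
    (hB : Set.range (PrimeSpectrum.comap (algebraMap A B)) =
      {x | ∃ z : PrimeSpectrum A, z ∈ PrimeSpectrum.zeroLocus (R := A) I ∧ x ⤳ z})
    (hA : ProEtW.HasEtaleRetractions A) : ProEtW.HasEtaleRetractions B := by

  classical
  intro F _ _ hff het
  letI : Algebra A F := ((algebraMap B F).comp (algebraMap A B)).toAlgebra
  haveI : IsScalarTower A B F := IsScalarTower.of_algebraMap_eq (fun _ => rfl)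
  obtain ⟨D, _, _, _, _, _, hloc⟩ := Groth.Agent.Lib.Helper8.LocSys.exists_etale_model S B F
  have hopen : IsOpen (Set.range (PrimeSpectrum.comap (algebraMap A D))) :=
    (PrimeSpectrum.isOpenMap_comap_of_hasGoingDown_of_finitePresentation).isOpen_range
  -- `V(I)` is contained in the image
  have hVI : PrimeSpectrum.zeroLocus (I : Set A) ⊆
      Set.range (PrimeSpectrum.comap (algebraMap A D)) := by
    intro p hp
    have hpW : p ∈ Set.range (PrimeSpectrum.comap (algebraMap A B)) := by
      rw [hB]; exact ⟨p, hp, specializes_rfl⟩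
    obtain ⟨Q, rfl⟩ := hpW
    obtain ⟨Q', rfl⟩ := PrimeSpectrum.comap_surjective_of_faithfullyFlat (A := B) (B := F) Q
    refine ⟨PrimeSpectrum.comap (algebraMap D F) Q', ?_⟩
    rw [← PrimeSpectrum.comap_comp_apply, ← PrimeSpectrum.comap_comp_apply,
      ← IsScalarTower.algebraMap_eq, ← IsScalarTower.algebraMap_eq]
  let J : Ideal A := PrimeSpectrum.vanishingIdeal (Set.range (PrimeSpectrum.comap (algebraMap A D)))ᶜ
  have hJ : PrimeSpectrum.zeroLocus (J : Set A) =
      (Set.range (PrimeSpectrum.comap (algebraMap A D)))ᶜ := by
    rw [PrimeSpectrum.zeroLocus_vanishingIdeal_eq_closure]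
    exact hopen.isClosed_compl.closure_eq
  have hIJ : I ⊔ J = ⊤ := by
    rw [← PrimeSpectrum.zeroLocus_empty_iff_eq_top, PrimeSpectrum.zeroLocus_sup, hJ]
    exact Set.eq_empty_of_subset_empty (fun p hp => hp.2 (hVI hp.1))
  obtain ⟨i, hi, j, hj, hij⟩ := Submodule.mem_sup.mp (hIJ ▸ Submodule.mem_top : (1 : A) ∈ I ⊔ J)
  have : Algebra.Etale A (Localization.Away i) := Algebra.Etale.of_isLocalizationAway i
  have : Algebra.Etale A (D × Localization.Away i) :=
    Groth.Agent.Lib.Helper8.EtaleProd.etale_prod A D (Localization.Away i)
  have : Module.Flat A (D × Localization.Away i) := inferInstance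
  have hsurj : Function.Surjective
      (PrimeSpectrum.comap (algebraMap A (D × Localization.Away i))) := by
    intro p
    by_cases hp : p ∈ Set.range (PrimeSpectrum.comap (algebraMap A D))
    · obtain ⟨Q, rfl⟩ := hp
      refine ⟨PrimeSpectrum.comap (RingHom.fst D (Localization.Away i)) Q, ?_⟩
      rw [← PrimeSpectrum.comap_comp_apply]
      rfl
    · have hpJ : p ∈ PrimeSpectrum.zeroLocus (J : Set A) := by rw [hJ]; exact hp
      have hjp : j ∈ p.asIdeal := hpJ hj
      have hip : i ∉ p.asIdeal := by
        intro hip
        apply p.2.ne_top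
        rw [Ideal.eq_top_iff_one, ← hij]
        exact add_mem hip hjp
      have hpb : p ∈ Set.range (PrimeSpectrum.comap (algebraMap A (Localization.Away i))) := by
        rw [PrimeSpectrum.localization_away_comap_range (Localization.Away i) i]
        exact hip
      obtain ⟨Q, rfl⟩ := hpb
      refine ⟨PrimeSpectrum.comap (RingHom.snd D (Localization.Away i)) Q, ?_⟩
      rw [← PrimeSpectrum.comap_comp_apply]
      rfl
  have hffC : Module.FaithfullyFlat A (D × Localization.Away i) :=
    Module.FaithfullyFlat.of_comap_surjective hsurj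
  obtain ⟨r⟩ := hA (D × Localization.Away i) hffC inferInstance
  -- `f = r (0, 1) ∈ I` is idempotent
  have h01 : r ((0 : D), (1 : Localization.Away i)) ∈ I := by
    have h1 : ((0 : D), (1 : Localization.Away i)) =
        i • ((0 : D), IsLocalization.Away.invSelf (S := Localization.Away i) i) := by
      rw [Prod.smul_mk, smul_zero, Algebra.smul_def, IsLocalization.Away.mul_invSelf]
    rw [h1, map_smul, smul_eq_mul]
    exact Ideal.mul_mem_right _ _ hi
  have hidem : r ((0 : D), (1 : Localization.Away i)) * r ((0 : D), (1 : Localization.Away i)) =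
      r ((0 : D), (1 : Localization.Away i)) := by
    rw [← map_mul, Prod.mk_mul_mk, mul_zero, mul_one]
  have h2 : r ((1 : D), (0 : Localization.Away i)) + r ((0 : D), (1 : Localization.Away i)) = 1 := by
    rw [← map_add, Prod.mk_add_mk, add_zero, zero_add, ← Prod.one_eq_mk, map_one]
  -- the image of `f` in `B` is zero
  have hf0 : algebraMap A B (r ((0 : D), (1 : Localization.Away i))) = 0 := by
    set f := r ((0 : D), (1 : Localization.Away i)) with hf
    have hnil : IsNilpotent (algebraMap A B f) := by
      rw [nilpotent_iff_mem_prime]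
      intro Q hQ
      have hpW : PrimeSpectrum.comap (algebraMap A B) ⟨Q, hQ⟩ ∈
          Set.range (PrimeSpectrum.comap (algebraMap A B)) := ⟨_, rfl⟩
      rw [hB] at hpW
      obtain ⟨z, hz, hpz⟩ := hpW
      have hle : (PrimeSpectrum.comap (algebraMap A B) ⟨Q, hQ⟩).asIdeal ≤ z.asIdeal :=
        (PrimeSpectrum.le_iff_specializes _ _).mpr hpz
      by_contra hfQ
      have hfp : f ∉ (PrimeSpectrum.comap (algebraMap A B) ⟨Q, hQ⟩).asIdeal := hfQ
      have h1f : (1 - f) ∈ (PrimeSpectrum.comap (algebraMap A B) ⟨Q, hQ⟩).asIdeal := by
        have h0 : f * (1 - f) ∈ (PrimeSpectrum.comap (algebraMap A B) ⟨Q, hQ⟩).asIdeal := by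
          rw [mul_sub, mul_one, hidem, sub_self]; exact Ideal.zero_mem _
        exact ((PrimeSpectrum.comap (algebraMap A B) ⟨Q, hQ⟩).2.mem_or_mem h0).resolve_left hfp
      apply z.2.ne_top
      rw [Ideal.eq_top_iff_one]
      have : (1 : A) = f + (1 - f) := by ring
      rw [this]
      exact add_mem (hz h01) (hle h1f)
    obtain ⟨n, hn⟩ := hnil
    have hidB : IsIdempotentElem (algebraMap A B f) := by
      change algebraMap A B f * algebraMap A B f = algebraMap A B f
      rw [← map_mul, hidem]
    rcases n with _ | n
    · rw [pow_zero] at hn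
      have : (algebraMap A B f) = algebraMap A B f * 1 := (mul_one _).symm
      rw [this, hn, mul_zero]
    · rw [hidB.pow_succ_eq] at hn
      exact hn
  have h10 : algebraMap A B (r ((1 : D), (0 : Localization.Away i))) = 1 := by
    rw [← map_one (algebraMap A B), ← h2, map_add, hf0, add_zero]
  let φ : D →ₐ[A] B :=
    { toFun := fun b => algebraMap A B (r (b, (0 : Localization.Away i)))
      map_one' := h10
      map_mul' := fun b b' => by
        rw [← map_mul, ← map_mul, Prod.mk_mul_mk, mul_zero]
      map_zero' := by
        rw [← Prod.zero_eq_mk, map_zero, map_zero]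
      map_add' := fun b b' => by
        rw [← map_add, ← map_add, Prod.mk_add_mk, add_zero]
      commutes' := fun a => by
        have h3 : (algebraMap A D a, (0 : Localization.Away i)) =
            a • ((1 : D), (0 : Localization.Away i)) := by
          rw [Prod.smul_mk, smul_zero, Algebra.smul_def, mul_one]
        rw [h3, map_smul, smul_eq_mul, map_mul, h10, mul_one] }
  have hφu : ∀ y : Algebra.algebraMapSubmonoid D S, IsUnit (φ.toRingHom y) := by
    rintro ⟨_, s, hs, rfl⟩
    change IsUnit (φ (algebraMap A D s))
    rw [φ.commutes]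
    exact IsLocalization.map_units B (⟨s, hs⟩ : S)
  let ρ : F →+* B := IsLocalization.lift (M := Algebra.algebraMapSubmonoid D S) hφu
  have hρ : ρ.comp (algebraMap B F) = RingHom.id B := by
    apply IsLocalization.ringHom_ext S
    ext a
    change ρ (algebraMap B F (algebraMap A B a)) = algebraMap A B a
    rw [← IsScalarTower.algebraMap_apply A B F, IsScalarTower.algebraMap_apply A D F,
      IsLocalization.lift_eq]
    exact φ.commutes a
  exact ⟨{ ρ with commutes' := fun b => congrArg (fun g => g b) hρ }⟩


end Groth.Agent.S0708
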