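import Groth.Statements.S0724
import Mathlib
import Groth.Agent.Lib.Helper5.ProEtQcqs
import Groth.Agent.Lib.Helper5.CoprodFilt

set_option autoImplicit false
open CategoryTheory CategoryTheory.Limits AlgebraicGeometry Opposite
universe u
open ProEtS

namespace Groth.Agent.S0724

/-- Applied to abelian sheaves (complexes in degree 0) and read on cohomology groups: for X
quasi-compact and quasi-separated and every n, the functor F |-> H^n(X_proet, F) commutes with
direct sums indexed by any small type. -/
theorem result (X : Scheme.{u}) [CompactSpace ↥X]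
    [QuasiSeparatedSpace ↥X] (n : ℕ) (ι : Type u) :
    PreservesColimitsOfShape (Discrete ι) (ProEtS.HPF X n) := by
  unfold ProEtS.HPF
  have hfilt : ∀ (I : Type (u + 1)) [SmallCategory I] [IsFiltered I],
      PreservesColimitsOfShape I
        (@Sheaf.functorH X.ProEt _ (Scheme.ProEt.topology X)
          (inferInstance : HasSheafify (Scheme.ProEt.topology X) AddCommGrpCat.{u + 1}) _ n) := by
    intro I _ _
    exact Groth.Agent.Lib.Helper5.SmallModelH.preservesColimitsOfShape_functorH
      (Scheme.ProEt.topology X) (Groth.Agent.Lib.Helper5.ProEtQcqs.Bq X)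
      (Groth.Agent.Lib.Helper5.ProEtQcqs.Cov X)
      (fun _ _ e h => Groth.Agent.Lib.Helper5.ProEtQcqs.Bq_iso e h)
      (Groth.Agent.Lib.Helper5.ProEtQcqs.h1 X)
      (Groth.Agent.Lib.Helper5.ProEtQcqs.h2 X)
      (Groth.Agent.Lib.Helper5.ProEtQcqs.topIsTerminal X)
      (Groth.Agent.Lib.Helper5.ProEtQcqs.top_mem X) n I
  haveI : PreservesColimitsOfShape (Finset (Discrete ι))
      (@Sheaf.functorH X.ProEt _ (Scheme.ProEt.topology X)
          (inferInstance : HasSheafify (Scheme.ProEt.topology X) AddCommGrpCat.{u + 1}) _ n) := by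
    haveI : IsFiltered (AsSmall.{u + 1} (Finset (Discrete ι))) :=
      IsFiltered.of_equivalence (AsSmall.equiv.{u, u, u + 1} (C := Finset (Discrete ι)))
    haveI := hfilt (AsSmall.{u + 1} (Finset (Discrete ι)))
    exact preservesColimitsOfShape_of_equiv
      (AsSmall.equiv.{u, u, u + 1} (C := Finset (Discrete ι))).symm _
  exact Groth.Agent.Lib.Helper5.CoprodFilt.preservesColimitsOfShape_discrete _

end Groth.Agent.S0724
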