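import Groth.Statements.S0735
import Mathlib
import Groth.Agent.Lib.Helper8.IndEtTower

set_option autoImplicit false
open CategoryTheory CategoryTheory.Limits AlgebraicGeometry Opposite Topology
universe u
open ProEtW

namespace Groth.Agent.S0735

/-- If A -> B and A -> C are ind-etale and C is a B-algebra compatibly with A, then C is ind-etale over
B. -/
theorem result (A B C : Type u) [CommRing A] [CommRing B]
    [CommRing C] [Algebra A B] [Algebra B C] [Algebra A C] [IsScalarTower A B C]
    (hB : EtPBC.IsIndEtale A B) (hC : EtPBC.IsIndEtale A C) : EtPBC.IsIndEtale B C := by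
  open Groth.Agent.Lib.Helper8.IndEt in
  exact (indEtaleStar_of_tower (indEtaleStar_of_isIndEtale hB)
    (indEtaleStar_of_isIndEtale hC)).isIndEtale

end Groth.Agent.S0735
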