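import Groth.Statements.S0754
import Groth.Agent.Lib.Helper8.Hzl.IndEtaleWE

set_option autoImplicit false
open CategoryTheory CategoryTheory.Limits AlgebraicGeometry Opposite
universe u
open ProEtS

namespace Groth.Agent.S0754

section Aux
open TensorProduct
lemma flat_fromSpecStalk_affine {X : Scheme.{u}} {U : X.Opens} (hU : IsAffineOpen U) (x : X)
    (hx : x ∈ U) : Flat (hU.fromSpecStalk hx) := by
  dsimp [IsAffineOpen.fromSpecStalk]
  have : Flat (Spec.map (X.presheaf.germ U x hx)) := by
    rw [Flat.SpecMap_iff]
    letI : Algebra Γ(X, U) (X.presheaf.stalk x) := (X.presheaf.germ U x hx).hom.toAlgebra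
    haveI := hU.isLocalization_stalk ⟨x, hx⟩
    exact IsLocalization.flat (X.presheaf.stalk x) (hU.primeIdealOf ⟨x, hx⟩).asIdeal.primeCompl
  infer_instance

lemma flat_fromSpecStalk (X : Scheme.{u}) (x : X) : Flat (X.fromSpecStalk x) :=
  flat_fromSpecStalk_affine _ _ _

lemma weaklyEtale_fromSpecStalk (X : Scheme.{u}) (x : X) : WeaklyEtale (X.fromSpecStalk x) :=
  have := flat_fromSpecStalk X x
  { flat := inferInstance, flat_diagonal := inferInstance }

lemma weaklyEtale_SpecMap (A B : Type u) [CommRing A] [CommRing B] [Algebra A B]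
    [Algebra.WeaklyEtale A B] : WeaklyEtale (Spec.map (CommRingCat.ofHom (algebraMap A B))) := by
  refine ⟨?_, ?_⟩
  · rw [Flat.SpecMap_iff]
    exact (RingHom.flat_algebraMap_iff).mpr inferInstance
  · rw [diagonal_SpecMap]
    have : Flat (Spec.map (CommRingCat.ofHom
        (Algebra.TensorProduct.lmul' A : B ⊗[A] B →ₐ[A] B).toRingHom)) :=
      Flat.SpecMap_iff.mpr (Algebra.WeaklyEtale.flat_lmul' A B)
    infer_instance

end Aux

/-- For a point x of a scheme X and a strict henselization R of the local ring of X at x, the canonical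
morphism Spec R -> X is weakly etale, so that Spec R is an object of the small pro-etale site of X. -/
theorem result (X : Scheme.{u}) (x : ↥X) (R : Type u) [CommRing R]
    [IsLocalRing R] [Algebra (X.presheaf.stalk x) R] [IsLocalHom (algebraMap (X.presheaf.stalk x) R)]
    [Hensel.IsStrictHenselization (X.presheaf.stalk x) R] :
    WeaklyEtale (Hens2.specOf X x R) := by
  have hfl := Groth.Agent.Lib.Helper8.Hzl.strictHenselization_flat (X.presheaf.stalk x) R
  have hwe : Algebra.WeaklyEtale (X.presheaf.stalk x) R :=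
    (Groth.Agent.Lib.Helper8.Hzl.strictHenselization_indEtaleLike (X.presheaf.stalk x) R).weaklyEtale
  have h1 := weaklyEtale_fromSpecStalk X x
  have h2 := weaklyEtale_SpecMap (X.presheaf.stalk x) R
  exact inferInstanceAs (WeaklyEtale
    (Spec.map (CommRingCat.ofHom (algebraMap (X.presheaf.stalk x) R)) ≫ X.fromSpecStalk x))

end Groth.Agent.S0754
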