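import Groth.Statements.S0781
-- import your own Groth.Agent.* helpers here

set_option autoImplicit false
open CategoryTheory CategoryTheory.Limits AlgebraicGeometry Opposite
universe u
open Desc

namespace Groth.Agent.S0781

set_option backward.isDefEq.respectTransparency false in
/-- The equalizer of two morphisms over `S` into an `S`-scheme with open diagonal is an open
subscheme. -/
theorem isOpenImmersion_equalizer_ι_left {S : Scheme.{u}} {X Y : Over S}
    [IsOpenImmersion (pullback.diagonal Y.hom)]
    (f g : X ⟶ Y) : IsOpenImmersion (equalizer.ι f g).left := by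
  refine MorphismProperty.of_isPullback
    ((Limits.isPullback_equalizer_prod f g).map (Over.forget _)).flip ?_
  rw [← MorphismProperty.cancel_right_of_respectsIso @IsOpenImmersion _
    (Over.prodLeftIsoPullback Y Y).hom]
  convert! (inferInstance : IsOpenImmersion (pullback.diagonal Y.hom))
  ext1 <;> simp [← Over.comp_left]

/-- Two `S`-morphisms into an `S`-scheme with open diagonal which agree after composition with a
surjective morphism are equal. -/
theorem ext_of_surjective_of_isOpenImmersion_diagonal {S : Scheme.{u}} {X Y : Over S}
    [IsOpenImmersion (pullback.diagonal Y.hom)]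
    (f g : X ⟶ Y) {W : Scheme.{u}} (π : W ⟶ X.left) [Surjective π]
    (h : π ≫ f.left = π ≫ g.left) : f = g := by
  let W' : Over S := Over.mk (π ≫ X.hom)
  let π' : W' ⟶ X := Over.homMk π
  have hπ : π' ≫ f = π' ≫ g := by ext1; exact h
  have hopen : IsOpenImmersion (equalizer.ι f g).left := isOpenImmersion_equalizer_ι_left f g
  have hfac : (equalizer.lift π' hπ).left ≫ (equalizer.ι f g).left = π := by
    rw [← Over.comp_left, equalizer.lift_ι]; rfl
  have hsurj : Function.Surjective (equalizer.ι f g).left := by
    intro x
    obtain ⟨w, rfl⟩ := Scheme.Hom.surjective π x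
    exact ⟨(equalizer.lift π' hπ).left w, by rw [← Scheme.Hom.comp_apply, hfac]⟩
  have hepi : Epi (equalizer.ι f g).left.base := by
    rw [TopCat.epi_iff_surjective]; exact hsurj
  have hiso : IsIso (equalizer.ι f g).left :=
    (isIso_iff_isOpenImmersion_and_epi_base _).2 ⟨hopen, hepi⟩
  ext1
  rw [← cancel_epi (equalizer.ι f g).left]
  exact congr($(equalizer.condition f g).left)


/-- If p : X → S is a surjective morphism of schemes, then for schemes U₁, U₂ étale over S, two
S-morphisms U₁ → U₂ whose base changes to X agree, as morphisms of canonical descent data relative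
to p, are equal; that is, the canonical-descent-datum functor is faithful on schemes étale over S.
(Descent data are taken in functor-of-points form, equivalent by the Yoneda lemma to an isomorphism
over X ×_S X satisfying the cocycle condition.) -/
theorem result {X S : Scheme.{u}} (p : X ⟶ S) [Surjective p] (U₁ U₂ : Over S)
    [Etale U₁.hom] [Etale U₂.hom] : Function.Injective ((Desc.toDD p).map : (U₁ ⟶ U₂) → _) := by
  intro a b hab
  have hdiag : IsOpenImmersion (pullback.diagonal U₂.hom) := inferInstance
  have h1 : pullback.map p U₁.hom p U₂.hom (𝟙 X) a.left (𝟙 S) (by simp) (by simp) =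
      pullback.map p U₁.hom p U₂.hom (𝟙 X) b.left (𝟙 S) (by simp) (by simp) :=
    congr(($hab).hom.left)
  have h2 : pullback.snd p U₁.hom ≫ a.left = pullback.snd p U₁.hom ≫ b.left := by
    have := congr($h1 ≫ pullback.snd p U₂.hom)
    have ha : pullback.map p U₁.hom p U₂.hom (𝟙 X) a.left (𝟙 S) (by simp) (by simp) ≫
        pullback.snd p U₂.hom = pullback.snd p U₁.hom ≫ a.left := pullback.lift_snd _ _ _
    have hb : pullback.map p U₁.hom p U₂.hom (𝟙 X) b.left (𝟙 S) (by simp) (by simp) ≫
        pullback.snd p U₂.hom = pullback.snd p U₁.hom ≫ b.left := pullback.lift_snd _ _ _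
    exact ha.symm.trans (this.trans hb)
  exact ext_of_surjective_of_isOpenImmersion_diagonal a b (pullback.snd p U₁.hom) h2

end Groth.Agent.S0781
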