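import Groth.Statements.S0782
import Groth.Agent.Lib.Helper11.UD2

set_option autoImplicit false
open CategoryTheory CategoryTheory.Limits AlgebraicGeometry Opposite
universe u
open Desc

namespace Groth.Agent.S0782

open Groth.Agent.Lib.Helper11

/-- Let p : X ⟶ S be a morphism such that for every scheme U étale over S the projection X ×_S U ⟶ U is
a quotient map of topological spaces (submersive; U = S is allowed). Then for U₁, U₂ étale over S,
every morphism between their canonical descent data relative to p comes from an S-morphism U₁ ⟶ U₂: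
the canonical-descent-datum functor is full on schemes étale over S (injectivity of this assignment
is a companion statement). (Descent data are taken in functor-of-points form, equivalent by the
Yoneda lemma to the usual form of an isomorphism over X ×_S X satisfying the cocycle condition.) -/
theorem result {X S : Scheme.{u}} (p : X ⟶ S)
    (hp : ∀ U : Over S, Etale U.hom → Topology.IsQuotientMap (pullback.snd p U.hom).base) (U₁ U₂ : Over S)
    [Etale U₁.hom] [Etale U₂.hom] : Function.Surjective ((Desc.toDD p).map : (U₁ ⟶ U₂) → _) := by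
  intro φ
  have sym_fst : (pullbackSymmetry U₁.hom p).hom ≫ pullback.fst p U₁.hom = pullback.snd U₁.hom p :=
    pullbackSymmetry_hom_comp_fst _ _
  have sym_snd : (pullbackSymmetry U₁.hom p).hom ≫ pullback.snd p U₁.hom = pullback.fst U₁.hom p :=
    pullbackSymmetry_hom_comp_snd _ _
  let f : pullback p U₁.hom ⟶ pullback p U₂.hom := φ.hom.left
  have hφ : f ≫ pullback.fst p U₂.hom = pullback.fst p U₁.hom := Over.w φ.hom
  let tau : pullback U₁.hom p ⟶ U₂.left :=
    (pullbackSymmetry U₁.hom p).hom ≫ f ≫ pullback.snd p U₂.hom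
  have htau : tau ≫ U₂.hom = pullback.fst U₁.hom p ≫ U₁.hom := by
    have e1 : pullback.snd p U₂.hom ≫ U₂.hom = pullback.fst p U₂.hom ≫ p := pullback.condition.symm
    simp only [tau, Category.assoc]
    rw [e1, reassoc_of% hφ, reassoc_of% sym_fst, pullback.condition]
  have hh : Function.Surjective (pullback.fst U₁.hom p) :=
    (UD2.isQuotientMap_of_isPullback p hp (pullback.fst U₁.hom p) (pullback.snd U₁.hom p) U₁.hom
      (IsPullback.of_hasPullback U₁.hom p)).surjective
  have hquot : Topology.IsQuotientMap
      (pullback.fst (pullback.snd U₂.hom U₁.hom) (pullback.fst U₁.hom p)) :=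
    UD2.isQuotientMap_of_isPullback p hp _ _ (pullback.snd U₂.hom U₁.hom ≫ U₁.hom)
      ((IsPullback.of_hasPullback (pullback.snd U₂.hom U₁.hom) (pullback.fst U₁.hom p)).paste_vert
        (IsPullback.of_hasPullback U₁.hom p))
  have hcoc : pullback.fst (pullback.fst U₁.hom p) (pullback.fst U₁.hom p) ≫ tau =
      pullback.snd (pullback.fst U₁.hom p) (pullback.fst U₁.hom p) ≫ tau := by
    have hx : (pullback.fst (pullback.fst U₁.hom p) (pullback.fst U₁.hom p) ≫
        pullback.snd U₁.hom p) ≫ p =
        (pullback.snd (pullback.fst U₁.hom p) (pullback.fst U₁.hom p) ≫ pullback.snd U₁.hom p) ≫ p := by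
      rw [Category.assoc, Category.assoc, ← pullback.condition,
        ← Category.assoc, ← Category.assoc, pullback.condition]
    have hv1 : (pullback.fst (pullback.fst U₁.hom p) (pullback.fst U₁.hom p) ≫
        (pullbackSymmetry U₁.hom p).hom) ≫ pullback.fst p U₁.hom =
        pullback.fst (pullback.fst U₁.hom p) (pullback.fst U₁.hom p) ≫ pullback.snd U₁.hom p := by
      rw [Category.assoc, sym_fst]
    have hw1 : ((pullback.fst (pullback.fst U₁.hom p) (pullback.fst U₁.hom p) ≫
        (pullbackSymmetry U₁.hom p).hom) ≫ f) ≫ pullback.fst p U₂.hom =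
        pullback.fst (pullback.fst U₁.hom p) (pullback.fst U₁.hom p) ≫ pullback.snd U₁.hom p := by
      rw [Category.assoc, hφ, hv1]
    have hc := φ.comm _ _ hx ⟨_, hv1⟩ ⟨_, hw1⟩ rfl
    have hc1 : (((Desc.toDD p).obj U₂).φ _ _ hx ⟨_, hw1⟩).1 ≫ pullback.snd p U₂.hom =
        ((pullback.fst (pullback.fst U₁.hom p) (pullback.fst U₁.hom p) ≫
        (pullbackSymmetry U₁.hom p).hom) ≫ f) ≫ pullback.snd p U₂.hom := pullback.lift_snd _ _ _
    have hc2 : (((Desc.toDD p).obj U₁).φ _ _ hx ⟨_, hv1⟩).1 =
        pullback.snd (pullback.fst U₁.hom p) (pullback.fst U₁.hom p) ≫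
          (pullbackSymmetry U₁.hom p).hom := by
      apply pullback.hom_ext
      · refine (pullback.lift_fst _ _ _).trans ?_
        rw [Category.assoc, sym_fst]
      · refine (pullback.lift_snd _ _ _).trans ?_
        show (pullback.fst (pullback.fst U₁.hom p) (pullback.fst U₁.hom p) ≫
          (pullbackSymmetry U₁.hom p).hom) ≫ pullback.snd p U₁.hom = _
        rw [Category.assoc, Category.assoc, sym_snd, pullback.condition]
    rw [hc2] at hc
    rw [hc] at hc1
    simp only [tau]
    simp only [Category.assoc] at hc1 ⊢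
    exact hc1.symm
  obtain ⟨u, ⟨hu1, hu2⟩, -⟩ := UD2.existsUnique_hom p U₁.hom U₂.hom hh hquot tau htau hcoc
  refine ⟨Over.homMk u hu1, ?_⟩
  apply Desc.SchDD.hom_ext
  apply Over.OverMorphism.ext
  apply pullback.hom_ext
  · refine (pullback.lift_fst _ _ _).trans ?_
    rw [Category.comp_id]
    exact hφ.symm
  · refine (pullback.lift_snd _ _ _).trans ?_
    have : (pullbackSymmetry U₁.hom p).hom ≫ f ≫ pullback.snd p U₂.hom =
        (pullbackSymmetry U₁.hom p).hom ≫ pullback.snd p U₁.hom ≫ u := by
      rw [reassoc_of% sym_snd]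
      exact hu2
    exact ((cancel_epi _).mp this).symm

end Groth.Agent.S0782
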