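import Groth.Statements.S0787
import Groth.Agent.Lib.Helper2.ProperOver

set_option autoImplicit false
universe u
open Coherent

namespace Groth.Agent.S0787

open CategoryTheory AlgebraicGeometry in
/-- Let f : X → S be locally of finite type and Z ⊆ X a closed subset. Then Z with its reduced induced
structure is proper over S if and only if some closed subscheme of X with underlying set Z is proper
over S, if and only if every closed subscheme of X with underlying set Z is proper over S. -/
theorem result {X S : Scheme.{u}} (f : X ⟶ S) [LocallyOfFiniteType f]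
    (Z : Set X) (hZ : IsClosed Z) :
    (ClSub.IsProperOver f Z ↔ ∃ (T : Scheme.{u}) (i : T ⟶ X), IsClosedImmersion i ∧
        Set.range ⇑i = Z ∧ IsProper (i ≫ f)) ∧
    (ClSub.IsProperOver f Z ↔ ∀ (T : Scheme.{u}) (i : T ⟶ X), IsClosedImmersion i →
        Set.range ⇑i = Z → IsProper (i ≫ f)) := by
  have hJr := Groth.Agent.Lib.Helper2.range_vanishingIdeal_subschemeι
    (⟨Z, hZ⟩ : TopologicalSpace.Closeds X)
  refine ⟨⟨fun h => ?_, ?_⟩, ⟨fun h T i hi hr => ?_, fun h => ?_⟩⟩
  · exact ⟨_, (Scheme.IdealSheafData.vanishingIdeal ⟨Z, hZ⟩).subschemeι, inferInstance, hJr,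
      Groth.Agent.Lib.Helper2.isProper_of_isProperOver f Z h hZ⟩
  · rintro ⟨T, i, hi, hr, hp⟩
    exact Groth.Agent.Lib.Helper2.isProperOver_of_universallyClosed f i Z hr
  · exact Groth.Agent.Lib.Helper2.isProper_comp_of_isProperOver f i Z hr h
  · exact ⟨hZ, h _ (Scheme.IdealSheafData.vanishingIdeal ⟨Z, hZ⟩).subschemeι inferInstance hJr⟩

end Groth.Agent.S0787
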