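import Groth.Statements.S0796
import Mathlib
import Groth.Agent.Lib.Helper17.StalkExact
import Groth.Agent.Lib.Helper2.ProperOver
import Groth.Agent.S0020

set_option autoImplicit false
universe u
open Coherent

namespace Groth.Agent.S0796

open CategoryTheory AlgebraicGeometry Groth.Agent.Lib.Helper17.StalkExact in
theorem support_eq_union {X : Scheme.{u}} (E : ShortComplex X.Modules) (hE : E.ShortExact) :
    CohB1.support E.X₂ = CohB1.support E.X₁ ∪ CohB1.support E.X₃ := by
  haveI := hE.mono_f
  haveI := hE.epi_g
  ext x
  have hinj := stalkLin_injective E.f x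
  have hsurj := stalkLin_surjective E.g x
  have hex := stalkLin_exact E hE.exact x
  simp only [CohB1.support, Set.mem_setOf_eq, Set.mem_union]
  constructor
  · intro h2
    by_contra hcon
    rw [not_or, not_not, not_not] at hcon
    obtain ⟨h1, h3⟩ := hcon
    apply h2
    refine ⟨fun a b => ?_⟩
    suffices h0 : ∀ n : E.X₂.presheaf.stalk x, n = 0 by rw [h0 a, h0 b]
    intro n
    have hn : stalkLin E.g x n = 0 := Subsingleton.elim _ _
    obtain ⟨m, rfl⟩ := (hex n).mp hn
    rw [Subsingleton.elim m 0, map_zero]
  · rintro (h1 | h3) h2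
    · exact h1 (hinj.subsingleton)
    · exact h3 (hsurj.subsingleton)

open CategoryTheory AlgebraicGeometry in
/-- Part (2), through the usual criterion for Serre subcategories. Let S be locally Noetherian and f : X
→ S locally of finite type. For a short exact sequence 0 → F₁ → F₂ → F₃ → 0 of coherent O_X-modules,
the support of F₂ is proper over S if and only if the supports of F₁ and F₃ are. -/
theorem result {X S : Scheme.{u}} (f : X ⟶ S) [LocallyOfFiniteType f]
    [IsLocallyNoetherian S] (E : ShortComplex X.Modules) (hE : E.ShortExact)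
    (h₁ : Coh.IsCoh E.X₁) (h₂ : Coh.IsCoh E.X₂) (h₃ : Coh.IsCoh E.X₃) :
    ClSub.IsProperOver f (CohB1.support E.X₂) ↔
      ClSub.IsProperOver f (CohB1.support E.X₁) ∧ ClSub.IsProperOver f (CohB1.support E.X₃) := by
  have hsupp := support_eq_union E hE
  have hcl₁ : IsClosed (CohB1.support E.X₁) := Groth.Agent.S0020.result X E.X₁ h₁.2
  have hcl₃ : IsClosed (CohB1.support E.X₃) := Groth.Agent.S0020.result X E.X₃ h₃.2
  constructor
  · intro h
    exact ⟨Groth.Agent.Lib.Helper2.isProperOver_of_subset f h hcl₁
        (hsupp ▸ Set.subset_union_left),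
      Groth.Agent.Lib.Helper2.isProperOver_of_subset f h hcl₃
        (hsupp ▸ Set.subset_union_right)⟩
  · rintro ⟨h1, h3⟩
    rw [hsupp, Set.union_eq_iUnion]
    refine Groth.Agent.Lib.Helper2.isProperOver_iUnion f _ fun b => ?_
    cases b
    · exact h3
    · exact h1

end Groth.Agent.S0796
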