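import Mathlib
import Groth.Agent.Lib.Helper20.FormalF10
import Groth.Statements.S0803
-- import your own Groth.Agent.* helpers here

set_option autoImplicit false
universe u
open Formal2

namespace Groth.Agent.S0803

open AlgebraicGeometry in
/-- Let A be a Noetherian ring that is complete for the f-adic topology, where f lies in an ideal 𝔞, let
M be a finite A-module and s ≥ 0, and assume H^i_𝔞(M) is annihilated by a power of f for every i ≤ s
+ 1. Then, with U the complement of V(𝔞), the canonical map H^i(U, M~) → lim_n H^i(U, (M/f^nM)~) is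
bijective for every i < s. -/
theorem result (A : Type u) [CommRing A]
    [IsNoetherianRing A] (𝔞 : Ideal A) (f : A) (hf : f ∈ 𝔞) [IsAdicComplete (Ideal.span {f}) A]
    (M : Type u) [AddCommGroup M] [Module A M] [Module.Finite A M] (s : ℕ)
    (h : ∀ i : ℕ, i ≤ s + 1 → ∃ n : ℕ, ∀ x : LocCoh.H 𝔞 i M, f ^ n • x = 0) (i : ℕ) (hi : i < s) :
    Formal2.FormalCohBijective A (Ideal.span {f}) M i (LocCoh.puncturedOpen A 𝔞) := by
  cases i with
  | zero =>
    obtain ⟨N, h1⟩ := h 1 (by omega)
    obtain ⟨c, h2⟩ := h 2 (by omega)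
    exact Groth.Agent.Lib.Helper20.FormalF10.formalCohBijective_zero A 𝔞 f M N c h1 h2
  | succ q =>
    obtain ⟨c1, h1⟩ := h (q + 2) (by omega)
    obtain ⟨c2, h2⟩ := h (q + 3) (by omega)
    refine Groth.Agent.Lib.Helper20.FormalF10.formalCohBijective_pos A 𝔞 f M q (c1 + c2) ?_ ?_
    · intro y
      rw [pow_add, mul_comm, mul_smul, h1, smul_zero]
    · intro y
      rw [pow_add, mul_smul, h2, smul_zero]

end Groth.Agent.S0803
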