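import Groth.Statements.S0813
import Groth.Agent.Lib.Helper16.PicFF.Main
import Groth.Agent.Lib.Helper14.DepthTwoFEt

set_option autoImplicit false
universe u
open Formal2

namespace Groth.Agent.S0813

open CategoryTheory AlgebraicGeometry in
/-- Let (A, 𝔪) be a Noetherian local ring of depth at least 2, A^ its 𝔪-adic completion, U the punctured
spectrum of A and U^ its preimage in Spec A^ (the punctured spectrum of A^). Then an invertible
O_U-module whose pullback to U^ is trivial is trivial. -/
theorem result (A : Type u) [CommRing A] [IsNoetherianRing A]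
    [IsLocalRing A] (hdepth : (2 : ℕ∞) ≤ LocCoh.depth A A) :
    Formal2.PicPullbackInjective
      (Spec.map (CommRingCat.ofHom (algebraMap A (AdicCompletion (IsLocalRing.maximalIdeal A) A))) ∣_
        FEt.puncturedSpec A) := by
  haveI : Module.FaithfullyFlat A (AdicCompletion (IsLocalRing.maximalIdeal A) A) :=
    Module.FaithfullyFlat.of_flat_of_isLocalHom
  have hff : (CommRingCat.ofHom (algebraMap A
      (AdicCompletion (IsLocalRing.maximalIdeal A) A))).hom.FaithfullyFlat :=
    RingHom.faithfullyFlat_algebraMap_iff.mpr inferInstance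
  obtain ⟨hfl, hsu⟩ := (flat_and_surjective_SpecMap_iff _).mpr hff
  haveI := hfl
  haveI := hsu
  intro L hL htriv
  have hc := isPullback_morphismRestrict (Spec.map (CommRingCat.ofHom (algebraMap A
      (AdicCompletion (IsLocalRing.maximalIdeal A) A)))) (FEt.puncturedSpec A)
  haveI : CompactSpace ↥((FEt.puncturedSpec A : (Spec (CommRingCat.of A)).Opens) : Scheme.{u}) :=
    isCompact_iff_compactSpace.mp (TopologicalSpace.NoetherianSpace.isCompact _)
  haveI : QuasiSeparatedSpace
      ↥((FEt.puncturedSpec A : (Spec (CommRingCat.of A)).Opens) : Scheme.{u}) :=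
    (FEt.puncturedSpec A).ι.isOpenEmbedding.quasiSeparatedSpace
  have hsl : Finite (MaximalSpectrum
      Γ(((FEt.puncturedSpec A : (Spec (CommRingCat.of A)).Opens) : Scheme.{u}), ⊤)) := by
    obtain ⟨a, b, hab, ha, hb⟩ :=
      Groth.Agent.Lib.Helper14.DepthTwoFEt.exists_regular_pair_spec A hdepth
    have hbij := Groth.Agent.Lib.Helper14.DepthTwoFEt.bijective_res_preimage_of_flat
      (𝟙 (Spec (CommRingCat.of A))) a b hab (FEt.puncturedSpec A) ha hb (FEt.puncturedSpec A) rfl
    let e1 : A ≃+* Γ(Spec (CommRingCat.of A), ⊤) :=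
      (Scheme.ΓSpecIso (CommRingCat.of A)).symm.commRingCatIsoToRingEquiv
    let e2 : Γ(Spec (CommRingCat.of A), ⊤) ≃+* Γ(Spec (CommRingCat.of A), FEt.puncturedSpec A) :=
      RingEquiv.ofBijective _ hbij
    let e3 : Γ(Spec (CommRingCat.of A), FEt.puncturedSpec A) ≃+*
        Γ(((FEt.puncturedSpec A : (Spec (CommRingCat.of A)).Opens) : Scheme.{u}), ⊤) :=
      (Scheme.Opens.topIso (FEt.puncturedSpec A)).symm.commRingCatIsoToRingEquiv
    haveI : IsLocalRing
        Γ(((FEt.puncturedSpec A : (Spec (CommRingCat.of A)).Opens) : Scheme.{u}), ⊤) :=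
      ((e1.trans e2).trans e3).isLocalRing
    haveI : Subsingleton (MaximalSpectrum
        Γ(((FEt.puncturedSpec A : (Spec (CommRingCat.of A)).Opens) : Scheme.{u}), ⊤)) :=
      ⟨fun p q => MaximalSpectrum.ext (by
        rw [IsLocalRing.eq_maximalIdeal p.isMaximal, IsLocalRing.eq_maximalIdeal q.isMaximal])⟩
    exact Finite.of_subsingleton
  exact H16PicFF.trivial_of_trivial_pullback hc hsl L hL htriv

end Groth.Agent.S0813
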