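import Groth.Statements.S0815
import Groth.Agent.Lib.Helper4.Conn4

set_option autoImplicit false
universe u
open Formal2

namespace Groth.Agent.S0815

open CategoryTheory AlgebraicGeometry in
/-- Let (A, 𝔪) be a complete Noetherian local ring, I a proper ideal, e a bound for the cohomological
dimension of I, and Z ⊆ V(I) a closed subset of Spec A. Assume that dim Z + e + 1 < dim A/𝔭 for
every minimal prime 𝔭 of A, and that dim Z + e < dim Z' for every closed subset Z' of Spec A whose
complement is not connected (the empty complement counts as not connected). Then V(I) ∖ Z is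
connected, in particular nonempty. -/
theorem result (A : Type u) [CommRing A] [IsNoetherianRing A] [IsLocalRing A]
    [IsAdicComplete (IsLocalRing.maximalIdeal A) A] (I : Ideal A) (hI : I ≠ ⊤) (e : ℕ) (he : LocCoh.CdLE A I e)
    (Z : Set (PrimeSpectrum A)) (hZ : IsClosed Z) (hZI : Z ⊆ PrimeSpectrum.zeroLocus (I : Set A))
    (hdim : ∀ p ∈ minimalPrimes A, topologicalKrullDim Z + ((e + 1 : ℕ) : WithBot ℕ∞) < ringKrullDim (A ⧸ p))
    (hc : ∀ Z' : Set (PrimeSpectrum A), IsClosed Z' → ¬ _root_.IsConnected Z'ᶜ →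
      topologicalKrullDim Z + ((e : ℕ) : WithBot ℕ∞) < topologicalKrullDim Z') :
    _root_.IsConnected (PrimeSpectrum.zeroLocus (I : Set A) \ Z) := by
  classical
  have hemb := PrimeSpectrum.isClosedEmbedding_comap_of_surjective (A ⧸ I) (Ideal.Quotient.mk I)
    Ideal.Quotient.mk_surjective
  have hrange : Set.range (PrimeSpectrum.comap (Ideal.Quotient.mk I)) =
      PrimeSpectrum.zeroLocus (I : Set A) := by
    rw [_root_.range_comap_of_surjective _ _ Ideal.Quotient.mk_surjective, Ideal.mk_ker]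
  obtain ⟨Zt, hZt⟩ : ∃ Zt : Set (PrimeSpectrum (A ⧸ I)),
      Zt = PrimeSpectrum.comap (Ideal.Quotient.mk I) ⁻¹' Z := ⟨_, rfl⟩
  have hZtcl : IsClosed Zt := by
    rw [hZt]
    exact hZ.preimage (PrimeSpectrum.continuous_comap _)
  have himg : PrimeSpectrum.comap (Ideal.Quotient.mk I) '' Ztᶜ =
      PrimeSpectrum.zeroLocus (I : Set A) \ Z := by
    rw [hZt, Set.image_compl_preimage, hrange]
  by_contra hnot
  have hconn : ¬ _root_.IsConnected Ztᶜ := by
    intro h
    apply hnot
    rw [← himg]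
    exact h.image _ (PrimeSpectrum.continuous_comap _).continuousOn
  have hmain := Groth.Agent.Lib.Helper4.Conn.main_cd I hI e he Zt hZtcl hconn
  have hdimZt : topologicalKrullDim Zt ≤ topologicalKrullDim Z := by
    rw [hZt]
    exact (hemb.isInducing.restrictPreimage Z).topologicalKrullDim_le
  obtain ⟨x, hxdef⟩ : ∃ x : WithBot ℕ∞,
      x = topologicalKrullDim Z + ((e + 1 : ℕ) : WithBot ℕ∞) := ⟨_, rfl⟩
  obtain ⟨y, hydef⟩ : ∃ y : WithBot ℕ∞,
      y = topologicalKrullDim Z + ((e : ℕ) : WithBot ℕ∞) := ⟨_, rfl⟩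
  have hxy : x = y + 1 := by
    rw [hxdef, hydef, Nat.cast_add, Nat.cast_one, add_assoc]
  have hdim' : ∀ p ∈ minimalPrimes A, x < ringKrullDim (A ⧸ p) := fun p hp => by
    rw [hxdef]
    exact hdim p hp
  have hc' : ∀ Z' : Set (PrimeSpectrum A), IsClosed Z' → ¬ _root_.IsConnected Z'ᶜ →
      y < topologicalKrullDim Z' := fun Z' h1 h2 => by
    rw [hydef]
    exact hc Z' h1 h2
  have hN : min (LocCoh.connDim (PrimeSpectrum A) + 1) (LocCoh.subdim (PrimeSpectrum A)) ≤ x := by
    refine hmain.trans ?_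
    rw [hxdef, Nat.cast_add, Nat.cast_one]
    exact add_le_add hdimZt le_rfl
  have hcs : LocCoh.connDim (PrimeSpectrum A) ≤ LocCoh.subdim (PrimeSpectrum A) :=
    Groth.Agent.Lib.Helper6.ConnDim2.connDim_le_subdim
  have hc0 : (0 : WithBot ℕ∞) ≤ LocCoh.connDim (PrimeSpectrum A) :=
    Groth.Agent.Lib.Helper4.Conn.connDim_nonneg
  have huniv : ¬ _root_.IsConnected ((Set.univ : Set (PrimeSpectrum A))ᶜ) := by
    rw [Set.compl_univ]
    exact fun h => Set.not_nonempty_empty h.nonempty
  have hctop : LocCoh.connDim (PrimeSpectrum A) ≠ ⊤ := by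
    have h1 := Groth.Agent.Lib.Helper6.ConnDim.connDim_le (T := PrimeSpectrum A) isClosed_univ huniv
    rw [Groth.Agent.Lib.Helper4.Conn.dim_univ] at h1
    exact (lt_of_le_of_lt h1 ringKrullDim_lt_top).ne
  have hlt : x < min (LocCoh.connDim (PrimeSpectrum A) + 1) (LocCoh.subdim (PrimeSpectrum A)) := by
    rw [lt_min_iff]
    constructor
    · rcases Groth.Agent.Lib.Helper4.Conn.wb_cases y with hy | hy | ⟨m, hy⟩
      · rw [hxy, hy, WithBot.bot_add]
        exact lt_of_lt_of_le (WithBot.bot_lt_coe (0 : ℕ∞)) (add_nonneg hc0 zero_le_one)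
      · exfalso
        have h1 := hc' Set.univ isClosed_univ huniv
        rw [hy] at h1
        exact not_top_lt h1
      · have h1 : ((m : WithBot ℕ∞) + 1) ≤ LocCoh.connDim (PrimeSpectrum A) := by
          unfold LocCoh.connDim
          refine le_iInf fun Z' => le_iInf fun hZ' => ?_
          have h2 := hc' Z' hZ'.1 hZ'.2
          rw [hy] at h2
          exact ENat.WithBot.add_one_le_iff.2 h2
        obtain ⟨c, hcn⟩ := Groth.Agent.Lib.Helper4.Conn.exists_nat_of_nonneg_of_ne_top _ hc0 hctop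
        rw [hxy, hy]
        rw [hcn] at h1 ⊢
        have h3 : m + 1 ≤ c := by exact_mod_cast h1
        exact_mod_cast (by omega : m + 1 < c + 1)
    · rcases Groth.Agent.Lib.Helper4.Conn.wb_cases x with hx | hx | ⟨m, hx⟩
      · rw [hx]
        exact lt_of_lt_of_le (WithBot.bot_lt_coe (0 : ℕ∞)) (hc0.trans hcs)
      · exfalso
        obtain ⟨p, hp, -⟩ := Ideal.exists_minimalPrimes_le
          (bot_le : (⊥ : Ideal A) ≤ IsLocalRing.maximalIdeal A)
        have h1 := hdim' p hp
        rw [hx] at h1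
        exact not_top_lt h1
      · have h1 : ((m : WithBot ℕ∞) + 1) ≤ LocCoh.subdim (PrimeSpectrum A) := by
          unfold LocCoh.subdim
          refine le_iInf fun C => le_iInf fun hC => ?_
          rw [← PrimeSpectrum.zeroLocus_minimalPrimes] at hC
          obtain ⟨p, hp, rfl⟩ := hC
          have h2 := hdim' p hp
          rw [hx] at h2
          show ((m : WithBot ℕ∞) + 1) ≤ topologicalKrullDim ↥(PrimeSpectrum.zeroLocus (p : Set A))
          rw [Groth.Agent.Lib.Helper6.ConnDim2.dim_zeroLocus]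
          exact ENat.WithBot.add_one_le_iff.2 h2
        rw [hx]
        exact ENat.WithBot.add_one_le_iff.1 h1
  exact absurd (lt_of_lt_of_le hlt hN) (lt_irrefl _)

end Groth.Agent.S0815
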