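import Groth.Statements.S0818
import Mathlib
import Groth.Agent.Lib.Helper17.DevEngine
import Groth.Agent.Lib.Helper17.DevKey
import Groth.Agent.Lib.Helper17.DevInt

set_option autoImplicit false
universe u
open Coherent

namespace Groth.Agent.S0818

open CategoryTheory AlgebraicGeometry in
/-- Let X be a nonempty Noetherian scheme and P an isomorphism-invariant property of O_X-modules such
that (1) in every short exact sequence of coherent O_X-modules, if two of the three terms satisfy P
then so does the third, and (2) for every integral scheme Z and closed immersion i : Z → X, with ξ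
the generic point of Z, there is a coherent O_X-module G satisfying P whose support is exactly i(Z)
and whose stalk at i(ξ) is isomorphic, as a module over the local ring O_{X,i(ξ)}, to the residue
field of that local ring. Then every coherent O_X-module satisfies P. (The published statement
leaves the nonemptiness of X implicit; it is needed to handle the zero module and is assumed
explicitly here.) -/
theorem result (X : Scheme.{u}) [IsNoetherian X] [Nonempty X]
    (P : X.Modules → Prop) (hP : ∀ M N : X.Modules, Nonempty (M ≅ N) → P M → P N)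
    (h₁ : ∀ S : ShortComplex X.Modules, S.ShortExact → Coh.IsCoh S.X₁ → Coh.IsCoh S.X₂ → Coh.IsCoh S.X₃ →
      (P S.X₁ → P S.X₂ → P S.X₃) ∧ (P S.X₁ → P S.X₃ → P S.X₂) ∧ (P S.X₂ → P S.X₃ → P S.X₁))
    (h₂ : ∀ (Z : Scheme.{u}) (i : Z ⟶ X) [IsClosedImmersion i] [IsIntegral Z],
      ∃ G : X.Modules, Coh.IsCoh G ∧ CohB1.support G = Set.range ⇑i ∧
        Nonempty (↑(G.presheaf.stalk (i (genericPoint Z))) ≃ₗ[X.presheaf.stalk (i (genericPoint Z))]
          IsLocalRing.ResidueField (X.presheaf.stalk (i (genericPoint Z)))) ∧ P G)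
    (M : X.Modules) (hM : Coh.IsCoh M) : P M := by
  have htest : ∀ (Z : Set X) (hZ : IsClosed Z), IsIrreducible Z → ∀ y : X, closure {y} = Z →
      ∃ G : X.Modules, Coh.IsCoh G ∧ CohB1.support G ⊆ Z ∧ P G ∧
        Module.length (X.presheaf.stalk y) (G.presheaf.stalk y) = 1 := by
    intro Z hZ hirr y hy
    haveI := Groth.Agent.Lib.Helper17.DevInt.isIntegral_sub ⟨Z, hZ⟩ hirr
    have hgp := Groth.Agent.Lib.Helper17.DevInt.subι_genericPoint ⟨Z, hZ⟩ y hy
    subst hgp
    obtain ⟨G, hG, hGs, ⟨e⟩, hGP⟩ := h₂ (Groth.Agent.Lib.Helper17.DevInt.sub ⟨Z, hZ⟩)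
      (Groth.Agent.Lib.Helper17.DevInt.subι ⟨Z, hZ⟩)
    refine ⟨G, hG, ?_, hGP, ?_⟩
    · rw [hGs, Groth.Agent.Lib.Helper17.DevInt.range_subι]
      rfl
    · exact (LinearEquiv.length_eq e).trans
        (Groth.Agent.Lib.Helper17.DevInt.length_residueField _)
  have h0 : ∀ M : X.Modules, Limits.IsZero M → P M := by
    intro M hM0
    obtain ⟨x⟩ := ‹Nonempty X›
    obtain ⟨G, hG, -, hGP, -⟩ := htest (closure {x}) isClosed_closure
      isIrreducible_singleton.closure x rfl
    let S : ShortComplex X.Modules := ShortComplex.mk (0 : M ⟶ G) (𝟙 G) (by simp)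
    have hS : S.ShortExact :=
      { exact := (S.exact_iff_mono rfl).mpr (inferInstanceAs (Mono (𝟙 G)))
        mono_f := ⟨fun a b _ => hM0.eq_of_tgt a b⟩
        epi_g := inferInstanceAs (Epi (𝟙 G)) }
    exact (h₁ S hS (Groth.Agent.Lib.Helper17.DevBasic.isCoh_of_isZero hM0) hG hG).2.2 hGP hGP
  refine Groth.Agent.Lib.Helper17.DevEngine.engine X P hP Set.univ h0
    (fun S hS h1 h2 h3 _ p1 p3 => (h₁ S hS h1 h2 h3).2.1 p1 p3) ?_ M hM (Set.subset_univ _)
  intro Z hZ hirr hZX' IH F hF hFs _
  obtain ⟨y, hy⟩ := QuasiSober.sober hirr hZ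
  have hy' : closure {y} = Z := hy
  obtain ⟨G, hG, hGs, hGP, hGl⟩ := htest Z hZ hirr y hy'
  have hyZ : y ∈ Z := hy' ▸ subset_closure (Set.mem_singleton y)
  have hgenZ : ∀ x ∈ Z, y ⤳ x := fun x hx => specializes_iff_mem_closure.mpr (hy'.symm ▸ hx)
  exact Groth.Agent.Lib.Helper17.DevKey.key23 P Set.univ (fun S hS h1 h2 h3 _ => h₁ S hS h1 h2 h3)
    Z hZX' y hgenZ (fun F' hF' hs hn => IH F' hF' hs (fun h => hn (h ▸ hyZ))) G hG hGs hGP hGl
    F hF hFs

end Groth.Agent.S0818
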