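import Groth.Statements.S0819
import Mathlib
import Groth.Agent.Lib.Helper17.DevEngine
import Groth.Agent.Lib.Helper17.DevKeyExt
import Groth.Agent.Lib.Helper17.DevInt
import Groth.Agent.Lib.Helper17.DevTest2

set_option autoImplicit false
universe u
open Coherent

namespace Groth.Agent.S0819

open CategoryTheory AlgebraicGeometry in
/-- Let X be a Noetherian scheme, Z₀ ⊆ X an irreducible closed subset with generic point ξ, and P an
isomorphism-invariant property of O_X-modules such that: (1) in every short exact sequence of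
coherent modules supported in Z₀, P for two of the terms implies P for the third; (2) P holds for
i_* I whenever i : Z → X is an integral closed subscheme with i(Z) a proper subset of Z₀ and I ⊆ O_Z
is a quasi-coherent ideal sheaf; (3) there is a coherent G with support exactly Z₀, stalk at ξ
isomorphic to the residue field over the local ring, and P(G). Then P holds for every coherent
module whose support is contained in Z₀. -/
theorem result (X : Scheme.{u}) [IsNoetherian X]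
    (Z₀ : Set X) (hZ₀ : IsClosed Z₀) (hirr : IsIrreducible Z₀) (ξ : X) (hξ : ξ ∈ Z₀ ∧ closure {ξ} = Z₀)
    (P : X.Modules → Prop) (hP : ∀ M N : X.Modules, Nonempty (M ≅ N) → P M → P N)
    (h₁ : ∀ S : ShortComplex X.Modules, S.ShortExact → Coh.IsCoh S.X₁ → Coh.IsCoh S.X₂ → Coh.IsCoh S.X₃ →
      CohB1.support S.X₂ ⊆ Z₀ →
      (P S.X₁ → P S.X₂ → P S.X₃) ∧ (P S.X₁ → P S.X₃ → P S.X₂) ∧ (P S.X₂ → P S.X₃ → P S.X₁))
    (h₂ : ∀ (Z : Scheme.{u}) (i : Z ⟶ X), IsClosedImmersion i → IsIntegral Z →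
      Set.range ⇑i ⊆ Z₀ → Set.range ⇑i ≠ Z₀ →
      ∀ (I : Z.Modules) (ι : I ⟶ Coh.structureModule Z), Mono ι → Coh.IsQCoh I →
        P ((Coh.push i).obj I))
    (h₃ : ∃ G : X.Modules, Coh.IsCoh G ∧ CohB1.support G = Z₀ ∧
      Nonempty (↑(G.presheaf.stalk ξ) ≃ₗ[X.presheaf.stalk ξ] IsLocalRing.ResidueField (X.presheaf.stalk ξ)) ∧ P G)
    (M : X.Modules) (hM : Coh.IsCoh M) (hsupp : CohB1.support M ⊆ Z₀) : P M := by
  obtain ⟨G₀, hG₀, hG₀s, ⟨e₀⟩, hG₀P⟩ := h₃
  have hG₀l : Module.length (X.presheaf.stalk ξ) (G₀.presheaf.stalk ξ) = 1 :=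
    (LinearEquiv.length_eq e₀).trans (Groth.Agent.Lib.Helper17.DevInt.length_residueField _)
  have h0 : ∀ M : X.Modules, Limits.IsZero M → P M := by
    intro M hM0
    let S : ShortComplex X.Modules := ShortComplex.mk (0 : M ⟶ G₀) (𝟙 G₀) (by simp)
    have hS : S.ShortExact :=
      { exact := (S.exact_iff_mono rfl).mpr (inferInstanceAs (Mono (𝟙 G₀)))
        mono_f := ⟨fun a b _ => hM0.eq_of_tgt a b⟩
        epi_g := inferInstanceAs (Epi (𝟙 G₀)) }
    exact (h₁ S hS (Groth.Agent.Lib.Helper17.DevBasic.isCoh_of_isZero hM0) hG₀ hG₀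
      hG₀s.le).2.2 hG₀P hG₀P
  refine Groth.Agent.Lib.Helper17.DevEngine.engine X P hP Z₀ h0
    (fun S hS h1 h2 h3 hs p1 p3 => (h₁ S hS h1 h2 h3 hs).2.1 p1 p3) ?_ M hM hsupp
  intro Z hZ hirrZ hZX' IH F hF hFs _
  by_cases hZZ₀ : Z = Z₀
  · subst hZZ₀
    have hgenZ : ∀ x ∈ Z, ξ ⤳ x := fun x hx => specializes_iff_mem_closure.mpr (hξ.2.symm ▸ hx)
    exact Groth.Agent.Lib.Helper17.DevKey.key23 P Z h₁ Z hZX' ξ hgenZ
      (fun F' hF' hs hn => IH F' hF' hs (fun h => hn (h ▸ hξ.1))) G₀ hG₀ hG₀s.le hG₀P hG₀l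
      F hF hFs
  · obtain ⟨y, hy⟩ := QuasiSober.sober hirrZ hZ
    have hy' : closure {y} = ((⟨Z, hZ⟩ : TopologicalSpace.Closeds X) : Set X) := hy
    have hy'' : closure {y} = Z := hy
    have hyZ : y ∈ Z := hy'' ▸ subset_closure (Set.mem_singleton y)
    have hgenZ : ∀ x ∈ Z, y ⤳ x := fun x hx => specializes_iff_mem_closure.mpr (hy''.symm ▸ hx)
    haveI := Groth.Agent.Lib.Helper17.DevInt.isIntegral_sub ⟨Z, hZ⟩ hirrZ
    have hrange : Set.range ⇑(Scheme.IdealSheafData.vanishingIdeal ⟨Z, hZ⟩).subschemeι = Z :=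
      Groth.Agent.Lib.Helper17.DevInt.range_subι ⟨Z, hZ⟩
    refine Groth.Agent.Lib.Helper17.DevKeyExt.keyExt P Z₀
      (fun S hS h1 h2 h3 hs p1 p3 => (h₁ S hS h1 h2 h3 hs).2.1 p1 p3) Z hZX' y hgenZ
      (fun F' hF' hs hn => IH F' hF' hs (fun h => hn (h ▸ hyZ)))
      (Groth.Agent.Lib.Helper17.DevTest.A (Scheme.IdealSheafData.vanishingIdeal ⟨Z, hZ⟩))
      (Groth.Agent.Lib.Helper17.DevTest.isCoh_A _) ?_
      (Groth.Agent.Lib.Helper17.DevTest.length_stalk_A ⟨Z, hZ⟩ y hy')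
      (fun K hK k hk hyK => @Groth.Agent.Lib.Helper17.DevTest.isZero_of_mono_of_notMem _ ⟨Z, hZ⟩ y
        hy' K hK k hk hyK) ?_ F hF hFs
    · rw [Groth.Agent.Lib.Helper17.DevTest.support_A,
        Scheme.IdealSheafData.coe_support_vanishingIdeal]
      rfl
    · intro G' hG' ι hι _
      haveI := hι
      obtain ⟨I, ιI, hmono, hqc, ⟨e⟩⟩ :=
        Groth.Agent.Lib.Helper17.DevTest.exists_ideal_of_mono _ hG' ι
      exact hP _ G' ⟨e.symm⟩ (h₂ _ _ inferInstance inferInstance (hrange.le.trans hZX')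
        (fun h => hZZ₀ (hrange.symm.trans h)) I ιI hmono hqc)

end Groth.Agent.S0819
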