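import Groth.Statements.S0820
import Mathlib
import Groth.Agent.Lib.Helper17.DevFin
import Groth.Agent.Lib.Helper17.DevInt

set_option autoImplicit false
universe u
open Coherent

namespace Groth.Agent.S0820

open CategoryTheory AlgebraicGeometry in
/-- Let f : Y → X be finite and surjective with X locally Noetherian, and let i : Z → X be a closed
immersion from an integral scheme, ξ the image of the generic point of Z. Then some coherent
O_Y-module F has f_* F supported exactly on i(Z), with the stalk of f_* F at ξ killed by every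
element of 𝔪_{X,ξ}, the maximal ideal of O_{X,ξ}. -/
theorem result {Y X : Scheme.{u}} (f : Y ⟶ X) [IsFinite f]
    [Surjective f] [IsLocallyNoetherian X] (Z : Scheme.{u}) (i : Z ⟶ X) [IsClosedImmersion i] [IsIntegral Z] :
    ∃ F : Y.Modules, Coh.IsCoh F ∧ CohB1.support ((Coh.push f).obj F) = Set.range ⇑i ∧
      ∀ a ∈ IsLocalRing.maximalIdeal (X.presheaf.stalk (i (genericPoint Z))),
        ∀ m : ↑(((Coh.push f).obj F).presheaf.stalk (i (genericPoint Z))), a • m = 0 := by
  obtain ⟨ξ', hξ'⟩ := f.surjective (i (genericPoint Z))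
  have hrange : Set.range ⇑i = closure {f ξ'} := by
    rw [hξ', Groth.Agent.Lib.Helper17.DevInt.isGenericPoint_image i]
    exact i.isClosedEmbedding.isClosed_range.closure_eq.symm
  refine ⟨Groth.Agent.Lib.Helper17.DevTest.A (Groth.Agent.Lib.Helper17.DevFin.JJ ξ'),
    Groth.Agent.Lib.Helper17.DevTest.isCoh_A _, ?_, ?_⟩
  · apply Set.Subset.antisymm
    · exact (Groth.Agent.Lib.Helper17.DevFin.support_pushA_subset f ξ').trans hrange.ge
    · intro x hx
      rw [hrange] at hx
      have hcl : IsClosed (f '' closure {ξ'}) := f.isClosedMap _ isClosed_closure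
      have hsub : closure {f ξ'} ⊆ f '' closure {ξ'} :=
        closure_minimal (Set.singleton_subset_iff.mpr ⟨ξ', subset_closure rfl, rfl⟩) hcl
      obtain ⟨z, hz, rfl⟩ := hsub hx
      exact Groth.Agent.Lib.Helper17.DevFin.mem_support_pushA f ξ' z hz
  · rw [← hξ']
    exact fun a ha m => Groth.Agent.Lib.Helper17.DevFin.smul_eq_zero_pushA f ξ' a ha m

end Groth.Agent.S0820
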