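import Mathlib
import Groth.Agent.Lib.Helper20.LCTransform4
import Groth.Agent.Lib.Helper4.LC5
import Groth.Agent.Lib.Helper20.LCAcyclic
import Groth.Statements.S0825
-- import your own Groth.Agent.* helpers here

set_option autoImplicit false
universe u
open scoped BigOperators
open LocCoh

open CategoryTheory

namespace Groth.Agent.S0825

/-- Let A be a Noetherian ring and I the ideal generated by f_1, …, f_r, with cohomological dimension
exactly 1. Then there are c ≥ 1 and A-linear maps φ_j : I^c → A such that x = Σ_j f_j φ_j(x) for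
every x ∈ I^c. -/
theorem result (A : Type u) [CommRing A] [IsNoetherianRing A] (r : ℕ) (f : Fin r → A)
    (h₁ : LocCoh.CdLE A (Ideal.span (Set.range f)) 1) (h₀ : ¬ LocCoh.CdLE A (Ideal.span (Set.range f)) 0) :
    ∃ (c : ℕ) (φ : Fin r → (↥(Ideal.span (Set.range f) ^ (c + 1)) →ₗ[A] A)),
      ∀ x : ↥(Ideal.span (Set.range f) ^ (c + 1)), (x : A) = ∑ j, f j * φ j x := by
  classical
  let I : Ideal A := Ideal.span (Set.range f)
  -- the presentation `A^r → I`
  let π : (Fin r → A) →ₗ[A] ↥I :=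
    LinearMap.codRestrict I (Fintype.linearCombination A f) (fun v => by
      rw [Fintype.linearCombination_apply]
      exact Ideal.sum_mem _ (fun j _ => Ideal.mul_mem_left _ _ (Ideal.subset_span ⟨j, rfl⟩)))
  have hπ : Function.Surjective π := by
    rintro ⟨x, hx⟩
    have : x ∈ LinearMap.range (Fintype.linearCombination A f) := by
      rw [Fintype.range_linearCombination]
      exact hx
    obtain ⟨v, hv⟩ := this
    exact ⟨v, Subtype.ext hv⟩
  let K : Submodule A (Fin r → A) := LinearMap.ker π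
  have hex : Function.Exact K.subtype π := LinearMap.exact_subtype_ker_map π
  let S := Groth.Agent.Lib.Helper20.LCAcyclic.sc K.subtype π hex
  have hS : S.ShortExact :=
    Groth.Agent.Lib.Helper20.LCAcyclic.sc_shortExact K.subtype π hex (Submodule.injective_subtype _) hπ
  have hH2 : Subsingleton (Groth.Agent.Lib.Helper4.LC.HH I (ModuleCat.of A K) (1 + (0 + 1))) :=
    (Groth.Agent.Lib.Helper4.LC.subsingleton_H_iff I K 2).1 (h₁ K 2 (by omega))
  let ι : ModuleCat.of A ↥(I ^ 1) ⟶ ModuleCat.of A ↥I :=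
    ModuleCat.ofHom (Submodule.inclusion (le_of_eq (pow_one I)))
  let e : CategoryTheory.Abelian.Ext (ModuleCat.of A ↥(I ^ 1)) (ModuleCat.of A K) (0 + 1) :=
    (CategoryTheory.Abelian.Ext.mk₀ ι).comp hS.extClass (zero_add 1)
  obtain ⟨k, hk, hke⟩ := Groth.Agent.Lib.Helper20.LCTransform4.exists_restrict_eq_zero I
    (ModuleCat.of A K) hH2 e
  rw [CategoryTheory.Abelian.Ext.mk₀_comp_mk₀_assoc] at hke
  obtain ⟨x₂, hx₂⟩ := CategoryTheory.Abelian.Ext.covariant_sequence_exact₃ _ hS
    (CategoryTheory.Abelian.Ext.mk₀ (Groth.Agent.Lib.Helper20.LCTransform4.incl I hk ≫ ι)) rfl hke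
  obtain ⟨ψ, rfl⟩ := (CategoryTheory.Abelian.Ext.mk₀_bijective _ _).2 x₂
  rw [CategoryTheory.Abelian.Ext.mk₀_comp_mk₀] at hx₂
  have hψ : ψ ≫ S.g = Groth.Agent.Lib.Helper20.LCTransform4.incl I hk ≫ ι :=
    (CategoryTheory.Abelian.Ext.mk₀_bijective _ _).1 hx₂
  obtain ⟨c, rfl⟩ : ∃ c, k = c + 1 := ⟨k - 1, by omega⟩
  refine ⟨c, fun j => (LinearMap.proj j) ∘ₗ ψ.hom, fun x => ?_⟩
  have h1 := congrArg (fun t => ((t.hom x : ↥I) : A)) hψ
  simp only at h1
  change (Fintype.linearCombination A f (ψ.hom x)) = (x : A) at h1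
  rw [← h1, Fintype.linearCombination_apply]
  apply Finset.sum_congr rfl
  intro j _
  rw [smul_eq_mul, mul_comm]
  rfl

end Groth.Agent.S0825
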