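-- Statement S0835.
import Groth.Statements.S0835
import Mathlib
import Groth.Agent.Lib.Helper1.CohFormalPull

set_option autoImplicit false
universe u
open Formal2

namespace Groth.Agent.S0835

open CategoryTheory AlgebraicGeometry in
/-- First assertion, for ideal sheaves generated by an ideal I of a base ring A. Let f : X → Y be a
morphism of Noetherian schemes over Spec A and (G_n) a coherent formal module for I on Y. Then the
componentwise pullback (f^* G_n) is a coherent formal module for I on X. (Exactness properties of
this functor are not stated.) -/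
theorem result (A : Type u) [CommRing A] (I : Ideal A) (X Y : Scheme.{u})
    [X.Over (Spec (CommRingCat.of A))] [Y.Over (Spec (CommRingCat.of A))] [IsNoetherian X] [IsNoetherian Y]
    (f : X ⟶ Y) (hf : f ≫ (Y ↘ Spec (CommRingCat.of A)) = X ↘ Spec (CommRingCat.of A))
    (G : ℕᵒᵖ ⥤ Y.Modules) (hG : Formal.IsCohFormal I G) :
    Formal.IsCohFormal I (G ⋙ Scheme.Modules.pullback f) := by
  classical
  have hL : ∀ (M : Y.Modules) (a : A),
      (Scheme.Modules.pullback f).map (Formal.smulMod A M a) =
        Formal.smulMod A ((Scheme.Modules.pullback f).obj M) a :=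
    Groth.Agent.Lib.Helper1.CohFormalPull.left_smulMod
      (Scheme.Modules.pullbackPushforwardAdjunction f)
      (Groth.Agent.Lib.Helper1.CohFormalPull.pushforward_smulMod f hf)
  apply Groth.Agent.Lib.Helper1.CohFormalPull.isCohFormal_of_quotProp
  · intro n
    exact Groth.Agent.Lib.Helper1.ConsModLocus.isCoh_pullback f _ (hG.1 n)
  · intro n a ha
    change Formal.smulMod A ((Scheme.Modules.pullback f).obj (G.obj (Opposite.op n))) a = 0
    rw [← hL, hG.2.1 n a ha, Functor.map_zero]
  · intro n
    exact Groth.Agent.Lib.Helper1.CohFormalPull.quotProp_left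
      (Scheme.Modules.pullbackPushforwardAdjunction f) hL I G n (n + 1) (Nat.le_succ n)
      (Groth.Agent.Lib.Helper14.ProIsoAdic.quotProp I G hG n (n + 1) (Nat.le_succ n))

end Groth.Agent.S0835
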