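-- Statement S0837.
import Groth.Statements.S0837
import Mathlib
import Groth.Agent.Lib.Helper1.FFMain

set_option autoImplicit false
universe u
open Coherent

namespace Groth.Agent.S0837

open CategoryTheory CategoryTheory.Limits AlgebraicGeometry in
/-- Let A be a Noetherian ring, I an ideal, X proper over Spec A and F a coherent O_X-module. For every
p there is c ≥ 0 such that for all n ≥ c the kernel of H^p(X, I^nF) → H^p(X, F) equals the kernel of
H^p(X, I^nF) → H^p(X, I^(n−c)F). (Here I^nF ⊆ F is the kernel of F → F/I^nF.) -/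
theorem result (A : Type u) [CommRing A] [IsNoetherianRing A]
    (I : Ideal A) (X : Scheme.{u}) [X.Over (Spec (CommRingCat.of A))] [IsProper (X ↘ Spec (CommRingCat.of A))]
    (F : X.Modules) (hF : Coh.IsCoh F) (p : ℕ) :
    ∃ c : ℕ, ∀ (n : ℕ) (h : c ≤ n),
      (Sheaf.H.map ((SheafOfModules.toSheaf _).map (Formal2.idealPowModι I n F)) p).ker =
        (Sheaf.H.map ((SheafOfModules.toSheaf _).map (Formal2.idealPowIncl I (Nat.sub_le n c) F)) p).ker := by
  classical
  have hj : ∀ {m n : ℕ} (h : m ≤ n), Formal2.idealPowIncl I h F =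
      Groth.Agent.Lib.Helper1.FFIM.jM I F h := by
    intro m n h
    have h1 : Formal2.idealPowIncl I h F ≫ Groth.Agent.Lib.Helper1.FFIM.ιM I F m =
        Groth.Agent.Lib.Helper1.FFIM.ιM I F n := kernel.lift_ι _ _ _
    exact (cancel_mono (Groth.Agent.Lib.Helper1.FFIM.ιM I F m)).1
      (h1.trans (Groth.Agent.Lib.Helper1.FFIM.jM_ι I F h).symm)
  have hfac : ∀ {m n : ℕ} (h : m ≤ n) (x : Coh.HH X (Groth.Agent.Lib.Helper1.FFIM.IM I F n) p),
      Groth.Agent.Lib.Helper23.T2.HmapA A (Groth.Agent.Lib.Helper1.FFIM.ιM I F n) p x =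
      Groth.Agent.Lib.Helper23.T2.HmapA A (Groth.Agent.Lib.Helper1.FFIM.ιM I F m) p
        (Groth.Agent.Lib.Helper23.T2.HmapA A (Groth.Agent.Lib.Helper1.FFIM.jM I F h) p x) := by
    intro m n h x
    rw [← Groth.Agent.Lib.Helper1.FFClaim.HmapA_comp, Groth.Agent.Lib.Helper1.FFIM.jM_ι]
  cases p with
  | zero =>
    refine ⟨0, fun n h => ?_⟩
    ext x
    rw [AddMonoidHom.mem_ker, AddMonoidHom.mem_ker]
    change Groth.Agent.Lib.Helper23.T2.HmapA A (Groth.Agent.Lib.Helper1.FFIM.ιM I F n) 0 x = 0 ↔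
      Groth.Agent.Lib.Helper23.T2.HmapA A (Formal2.idealPowIncl I (Nat.sub_le n 0) F) 0 x = 0
    rw [hj]
    haveI : Mono (Groth.Agent.Lib.Helper1.FFIM.jM I F (Nat.sub_le n 0)) :=
      mono_of_mono_fac (Groth.Agent.Lib.Helper1.FFIM.jM_ι I F (Nat.sub_le n 0))
    constructor
    · intro hx
      have := Groth.Agent.Lib.Helper23.T2.HmapA_injective_zero A
        (Groth.Agent.Lib.Helper1.FFIM.ιM I F n) (hx.trans (map_zero _).symm)
      exact (congrArg _ this).trans (map_zero _)
    · intro hx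
      have := Groth.Agent.Lib.Helper23.T2.HmapA_injective_zero A
        (Groth.Agent.Lib.Helper1.FFIM.jM I F (Nat.sub_le n 0)) (hx.trans (map_zero _).symm)
      exact (congrArg _ this).trans (map_zero _)
  | succ p =>
    obtain ⟨r, a, hspan⟩ := Groth.Agent.Lib.Helper1.FFMain.exists_gens A I
    have ha : ∀ i, a i ∈ I := fun i => by rw [← hspan]; exact Ideal.subset_span ⟨i, rfl⟩
    obtain ⟨d, hd⟩ := Groth.Agent.Lib.Helper1.FFMain.exists_QStab A I F p hF a ha hspan
    refine ⟨2 * d, fun n h => ?_⟩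
    ext x
    rw [AddMonoidHom.mem_ker, AddMonoidHom.mem_ker]
    change Groth.Agent.Lib.Helper23.T2.HmapA A (Groth.Agent.Lib.Helper1.FFIM.ιM I F n) (p + 1) x = 0 ↔
      Groth.Agent.Lib.Helper23.T2.HmapA A (Formal2.idealPowIncl I (Nat.sub_le n (2 * d)) F) (p + 1) x = 0
    rw [hj]
    constructor
    · intro hx
      exact Groth.Agent.Lib.Helper1.FFMain.jM_kills hd (n - 2 * d) n (Nat.sub_le _ _) (by omega) x hx
    · intro hx
      exact (hfac (Nat.sub_le n (2 * d)) x).trans ((congrArg _ hx).trans (map_zero _))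

end Groth.Agent.S0837
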