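-- Statement S0853.
import Groth.Statements.S0853
import Mathlib
import Groth.Agent.Lib.Helper1.FFRees

set_option autoImplicit false
universe u
open Coherent

namespace Groth.Agent.S0853

open CategoryTheory CategoryTheory.Limits AlgebraicGeometry in
/-- Let A be a Noetherian ring, I an ideal, X proper over Spec A and F a coherent O_X-module, and fix p.
Then there is c ≥ 0 such that for all n, m with n + m ≥ c the image of H^p(X, I^(n+m)F) → H^p(X,
I^nF) is contained in I^(m−e) H^p(X, I^nF), where e = max(0, c − n). (Here I^nF ⊆ F is the kernel of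
F → F/I^nF, and H^p(X, I^nF) is an A-module through the structure morphism.) -/
theorem result (A : Type u) [CommRing A] [IsNoetherianRing A]
    (I : Ideal A) (X : Scheme.{u}) [X.Over (Spec (CommRingCat.of A))] [IsProper (X ↘ Spec (CommRingCat.of A))]
    (F : X.Modules) (hF : Coh.IsCoh F) (p : ℕ) :
    ∃ c : ℕ, ∀ (n m : ℕ), c ≤ n + m →
      Set.range (Sheaf.H.map ((SheafOfModules.toSheaf _).map (Formal2.idealPowIncl I (Nat.le_add_right n m) F)) p) ⊆
        SetLike.coe (I ^ (m - (c - n)) • (⊤ : Submodule A (Coh.HH X (Formal2.idealPowMod I n F) p))) := by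
  classical
  have hj : ∀ {m n : ℕ} (h : m ≤ n), Formal2.idealPowIncl I h F =
      Groth.Agent.Lib.Helper1.FFIM.jM I F h := by
    intro m n h
    have h1 : Formal2.idealPowIncl I h F ≫ Groth.Agent.Lib.Helper1.FFIM.ιM I F m =
        Groth.Agent.Lib.Helper1.FFIM.ιM I F n := kernel.lift_ι _ _ _
    exact (cancel_mono (Groth.Agent.Lib.Helper1.FFIM.ιM I F m)).1
      (h1.trans (Groth.Agent.Lib.Helper1.FFIM.jM_ι I F h).symm)
  obtain ⟨r, a, hspan⟩ := Groth.Agent.Lib.Helper1.FFMain.exists_gens A I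
  have ha : ∀ i, a i ∈ I := fun i => by rw [← hspan]; exact Ideal.subset_span ⟨i, rfl⟩
  obtain ⟨d, hd⟩ := Groth.Agent.Lib.Helper1.FFRees.exists_Gen A I F p hF a ha hspan
  refine ⟨d, fun n m hnm => ?_⟩
  rintro _ ⟨x, rfl⟩
  have hN : max n d ≤ n + m := by omega
  have h1 := Groth.Agent.Lib.Helper1.FFRees.jM_image' hd (max n d) (le_max_right _ _) (n + m) hN x
  have h2 : Groth.Agent.Lib.Helper1.FFIM.jM I F (Nat.le_add_right n m) =
      Groth.Agent.Lib.Helper1.FFIM.jM I F hN ≫
        Groth.Agent.Lib.Helper1.FFIM.jM I F (le_max_left n d) :=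
    (Groth.Agent.Lib.Helper1.FFIM.jM_trans I F (le_max_left n d) hN).symm
  have h3 : ∀ (s : ℕ) (z : Coh.HH X (Groth.Agent.Lib.Helper1.FFIM.IM I F (max n d)) p),
      z ∈ I ^ s • (⊤ : Submodule A (Coh.HH X (Groth.Agent.Lib.Helper1.FFIM.IM I F (max n d)) p)) →
      Groth.Agent.Lib.Helper23.T2.HmapA A
        (Groth.Agent.Lib.Helper1.FFIM.jM I F (le_max_left n d)) p z ∈
        I ^ s • (⊤ : Submodule A (Coh.HH X (Groth.Agent.Lib.Helper1.FFIM.IM I F n) p)) := by
    intro s z hz
    refine Submodule.smul_induction_on hz ?_ ?_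
    · intro b hb y _
      rw [map_smul]
      exact Submodule.smul_mem_smul hb Submodule.mem_top
    · intro u v hu hv
      rw [map_add]
      exact Submodule.add_mem _ hu hv
  have h4 : n + m - max n d = m - (d - n) := by omega
  have h5 := h3 _ _ h1
  rw [h4] at h5
  change Groth.Agent.Lib.Helper23.T2.HmapA A
    (Formal2.idealPowIncl I (Nat.le_add_right n m) F) p x ∈ _
  rw [hj, h2]
  have h6 := Groth.Agent.Lib.Helper1.FFClaim.HmapA_comp A
    (Groth.Agent.Lib.Helper1.FFIM.jM I F hN)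
    (Groth.Agent.Lib.Helper1.FFIM.jM I F (le_max_left n d)) p x
  exact h6 ▸ h5

end Groth.Agent.S0853
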