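import Groth.Statements.S0871
import Groth.Agent.Lib.Helper2.DerivedAdj
import Groth.Agent.Lib.Helper13.SiteCohLocal
-- import your own Groth.Agent.* helpers here

set_option autoImplicit false
universe u
open CategoryTheory
open CohTop

namespace Groth.Agent.S0871


section Helpers

open TopologicalSpace CategoryTheory.Limits Opposite
open Groth.Agent.Lib.Helper13.OverRestrAcyclic Groth.Agent.Lib.Helper13.SiteCohLocal
open Groth.Agent.Lib.Helper2.DerivedAdj

variable {X : TopCat.{u}} (U : Opens X)

/-- extension by zero from an open subspace -/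
noncomputable abbrev shr : CohTop.Ab (TopCat.of U) ⥤ CohTop.Ab X :=
  (U.sheafEquivOver (A := AddCommGrpCat.{u})).inverse ⋙ shriekAb (Opens.grothendieckTopology X) U

/-- extension by zero is left adjoint to restriction -/
noncomputable def adjShr : shr U ⊣ CohTop.restrFunctor U :=
  ((U.sheafEquivOver (A := AddCommGrpCat.{u})).symm.toAdjunction).comp
    (adjAb (Opens.grothendieckTopology X) U)

instance shr_additive : (shr U).Additive := (adjShr U).left_adjoint_additive

instance shr_preservesFiniteLimits : PreservesFiniteLimits (shr U) := by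
  haveI : PreservesFiniteLimits (U.sheafEquivOver (A := AddCommGrpCat.{u})).inverse := by
    haveI : PreservesLimitsOfSize.{0, 0} (U.sheafEquivOver (A := AddCommGrpCat.{u})).inverse :=
      inferInstance
    exact PreservesLimitsOfSize.preservesFiniteLimits _
  exact comp_preservesFiniteLimits _ _

instance shr_preservesFiniteColimits : PreservesFiniteColimits (shr U) := by
  haveI : PreservesColimitsOfSize.{0, 0} (shr U) := (adjShr U).leftAdjoint_preservesColimits
  exact PreservesColimitsOfSize.preservesFiniteColimits _

/-- the image of `⊤` under the inclusion of opens -/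
abbrev topImg : Opens X := U.isOpenEmbedding.functor.obj ⊤

/-- maps out of `j_! ℤ_⊤` are sections over `U` -/
noncomputable def shrFreeEquiv (M : CohTop.Ab X) :
    ((shr U).obj (CohCx.freeSheaf (Opens.grothendieckTopology (TopCat.of U)) ⊤) ⟶ M) ≃
      M.obj.obj (op (topImg U)) :=
  ((adjShr U).homEquiv _ M).trans
    (CohFree.homEquivSect (Opens.grothendieckTopology (TopCat.of U)) ⊤
      ((CohTop.restrFunctor U).obj M)).toEquiv

lemma shrFreeEquiv_naturality {M N : CohTop.Ab X}
    (h : (shr U).obj (CohCx.freeSheaf (Opens.grothendieckTopology (TopCat.of U)) ⊤) ⟶ M)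
    (f : M ⟶ N) :
    shrFreeEquiv U N (h ≫ f) = (f.hom.app (op (topImg U))).hom (shrFreeEquiv U M h) := by
  unfold shrFreeEquiv
  simp only [Equiv.trans_apply]
  rw [Adjunction.homEquiv_naturality_right]
  rfl

/-- `j_! ℤ_⊤ ≅ ℤ_U` -/
noncomputable def shrFreeIso :
    (shr U).obj (CohCx.freeSheaf (Opens.grothendieckTopology (TopCat.of U)) ⊤) ≅
      CohCx.freeSheaf (Opens.grothendieckTopology X) U :=
  isoOfCorepr (F := fun M : CohTop.Ab X => M.obj.obj (op (topImg U)))
    (fun f x => (f.hom.app (op (topImg U))).hom x)
    (shrFreeEquiv U)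
    (fun M => (CohFree.homEquivSect (Opens.grothendieckTopology X) (topImg U) M).toEquiv)
    (fun h f => shrFreeEquiv_naturality U h f)
    (fun _ _ => rfl) ≪≫
  eqToIso (congrArg (CohCx.freeSheaf (Opens.grothendieckTopology X))
    (Opens.isOpenEmbedding_obj_top U))

end Helpers

open TopologicalSpace CategoryTheory.Limits in
/-- For an object K of the derived category of abelian sheaves on X and an open U, H^p(U, K) is
isomorphic to H^p(U, K|_U), where K|_U is the image of K under the functor on derived categories
induced by the (exact) restriction to U. Exactness of restriction is assumed through instance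
arguments (true, but not recorded by Mathlib in this generality). -/
theorem result {X : TopCat.{u}} (U : Opens X)
    [HasDerivedCategory.{u} (CohTop.Ab X)] [HasDerivedCategory.{u} (CohTop.Ab (TopCat.of U))]
    [PreservesFiniteLimits (CohTop.restrFunctor U)] [PreservesFiniteColimits (CohTop.restrFunctor U)]
    (K : DerivedCategory (CohTop.Ab X)) (p : ℤ) :
    Nonempty (CohCx.HDU K p U ≃+ CohCx.HDU ((CohTop.restrFunctor U).mapDerivedCategory.obj K) p ⊤) := by
  classical
  let L := shr U
  let adjD : L.mapDerivedCategory ⊣ (CohTop.restrFunctor U).mapDerivedCategory :=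
    Groth.Agent.Lib.Helper2.DerivedAdj.derivedAdj (adjShr U)
  let ZT := CohCx.freeSheaf (Opens.grothendieckTopology (TopCat.of U)) ⊤
  let i1 : L.mapDerivedCategory.obj ((DerivedCategory.singleFunctor _ 0).obj ZT) ≅
      (DerivedCategory.singleFunctor _ 0).obj (CohCx.freeSheaf (Opens.grothendieckTopology X) U) :=
    (L.mapDerivedCategorySingleFunctor 0).app ZT ≪≫
      (DerivedCategory.singleFunctor _ 0).mapIso (shrFreeIso U)
  haveI : L.mapDerivedCategory.Additive := inferInstance
  exact ⟨(Groth.Agent.Lib.Helper2.DerivedAdj.addEquivOfIsoLeft i1 _).trans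
    ((adjD.homAddEquiv _ _).trans
      (Groth.Agent.Lib.Helper2.DerivedAdj.addEquivOfIsoRight
        (((CohTop.restrFunctor U).mapDerivedCategory.commShiftIso p).app K) _))⟩


end Groth.Agent.S0871
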