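import Groth.Statements.S0872
import Groth.Agent.Lib.Helper5.CompactExt
import Groth.Agent.Lib.Helper5.ExtDim

set_option autoImplicit false
universe u
open CategoryTheory
open CohSite

namespace Groth.Agent.S0872

open Opposite CategoryTheory.Limits in
noncomputable instance (priority := high) hasCoprodSh {C : Type u} [SmallCategory C]
    (J : GrothendieckTopology C) (κ : Type u) :
    HasColimitsOfShape (Discrete κ) (Sheaf J AddCommGrpCat.{u}) :=
  Sheaf.instHasColimitsOfShape


open Opposite CategoryTheory.Limits in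
/-- Abelian sheaves, O = Z: let U be an object of a site such that for some d, H^p(U, F) = 0 for all p >
d and all abelian sheaves F, and each functor F ↦ H^p(U, F) preserves direct sums. Then the free
abelian sheaf Z[h_U]^# (that is, j_! Z_U), viewed in degree zero, is a compact object of the derived
category of abelian sheaves (maps out of it commute with direct sums; the existence of direct sums
in the derived category is assumed). -/
theorem result {C : Type u} [SmallCategory C] (J : GrothendieckTopology C) (U : C)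
    [HasDerivedCategory.{u} (Sheaf J AddCommGrpCat.{u})]
    [HasCoproducts.{u} (DerivedCategory (Sheaf J AddCommGrpCat.{u}))]
    (d : ℕ) (h1 : ∀ (F : Sheaf J AddCommGrpCat.{u}) (p : ℕ), d < p → Subsingleton (CohSite.HU F p U))
    (h2 : ∀ (p : ℕ) (ι : Type u), PreservesColimitsOfShape (Discrete ι)
      ((Sheaf.cohomologyPresheafFunctor J p).flip.obj (op U))) :
    CohDer.IsCompactObject ((DerivedCategory.singleFunctor (Sheaf J AddCommGrpCat.{u}) 0).obj
      (CohCx.freeSheaf J U)) := by
  intro ι M
  haveI : ((DerivedCategory.singleFunctor (Sheaf J AddCommGrpCat.{u}) 0).obj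
      (CohCx.freeSheaf J U)).IsLE 0 := inferInstance
  have hE : ∀ (F : Sheaf J AddCommGrpCat.{u}) (p : ℕ), d < p →
      ∀ x : Abelian.Ext.{u} (CohCx.freeSheaf J U) F p, x = 0 :=
    fun F p hp x => (h1 F p hp).elim x 0
  refine Groth.Agent.Lib.Helper5.CompactBdd.bijective_of_isFin (fun φ => ?_)
  let T : ι → Pretriangulated.Triangle (DerivedCategory (Sheaf J AddCommGrpCat.{u})) :=
    fun k => (DerivedCategory.TStructure.t.triangleLEGE (-(d : ℤ) - 2) (-(d : ℤ) - 1)
      (by omega)).obj (M k)
  have hT : ∀ k, T k ∈ distTriang _ :=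
    fun k => DerivedCategory.TStructure.t.triangleLEGE_distinguished (-(d : ℤ) - 2)
      (-(d : ℤ) - 1) (by omega) (M k)
  refine Groth.Agent.Lib.Helper5.CompactBdd.isFin_of_triangles T hT _ ?_ ?_ φ
  · intro ψ
    have hLE : (∐ fun k => (T k).obj₁).IsLE (-(d : ℤ) - 2) :=
      Groth.Agent.Lib.Helper5.CompactBdd.isLE_sigma _ _ (fun k => by
        change DerivedCategory.TStructure.t.IsLE
          ((DerivedCategory.TStructure.t.truncLE (-(d : ℤ) - 2)).obj (M k)) (-(d : ℤ) - 2)
        infer_instance)
    have hLE' : (∐ fun k => (T k).obj₁).IsLE (-(d : ℤ) - 1) :=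
      DerivedCategory.TStructure.t.isLE_of_le _ (-(d : ℤ) - 2) _ (by omega)
    rw [Groth.Agent.Lib.Helper5.ExtDim.hom_eq_zero_of_isLE (CohCx.freeSheaf J U) d hE _ hLE' ψ]
    exact zero_mem _
  · intro ψ
    refine Groth.Agent.Lib.Helper5.CompactBdd.isFin_of_isGE _ ?_ (-(d : ℤ) - 1)
      (fun k => (T k).obj₃) (fun k => ?_) ψ
    · intro b κ B ψ'
      exact Groth.Agent.Lib.Helper5.CompactBdd.isFin_single_of_preserves (CohCx.freeSheaf J U)
        (fun p κ => h2 p κ) b κ B ψ'
    · change DerivedCategory.TStructure.t.IsGE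
        ((DerivedCategory.TStructure.t.truncGE (-(d : ℤ) - 1)).obj (M k)) (-(d : ℤ) - 1)
      infer_instance

end Groth.Agent.S0872
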