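import Groth.Statements.S0876


set_option autoImplicit false
universe u
open CategoryTheory
open CohSite

namespace Groth.Agent.S0876

open CategoryTheory.Limits CategoryTheory.Pretriangulated

section Abstract
variable {D : Type*} [Category D] [Preadditive D] [HasZeroObject D] [HasShift D ℤ]
  [∀ n : ℤ, (shiftFunctor D n).Additive] [Pretriangulated D]

/-- abstract Mayer–Vietoris for a distinguished triangle whose middle term is a biproduct. -/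
lemma mv_abstract (T : Triangle D) (hT : T ∈ distTriang D) {B₂ B₃ : D}
    (i₂ : B₂ ⟶ T.obj₂) (i₃ : B₃ ⟶ T.obj₂) (p₂ : T.obj₂ ⟶ B₂) (p₃ : T.obj₂ ⟶ B₃)
    (h22 : i₂ ≫ p₂ = 𝟙 _) (h33 : i₃ ≫ p₃ = 𝟙 _) (h23 : i₂ ≫ p₃ = 0) (h32 : i₃ ≫ p₂ = 0)
    (hsum : p₂ ≫ i₂ + p₃ ≫ i₃ = 𝟙 _)
    (K K' : D) (e : K⟦(1 : ℤ)⟧ ≅ K') :
    (∀ (a : B₂ ⟶ K) (b : B₃ ⟶ K), (T.mor₁ ≫ p₂) ≫ a + (T.mor₁ ≫ p₃) ≫ b = 0 →
      ∃ γ : T.obj₃ ⟶ K, (i₂ ≫ T.mor₂) ≫ γ = a ∧ (i₃ ≫ T.mor₂) ≫ γ = b) ∧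
    (∀ (α : T.obj₁ ⟶ K), T.mor₃ ≫ α⟦(1 : ℤ)⟧' ≫ e.hom = 0 →
      ∃ (a : B₂ ⟶ K) (b : B₃ ⟶ K), (T.mor₁ ≫ p₂) ≫ a + (T.mor₁ ≫ p₃) ≫ b = α) ∧
    (∀ (γ : T.obj₃ ⟶ K'), (i₂ ≫ T.mor₂) ≫ γ = 0 → (i₃ ≫ T.mor₂) ≫ γ = 0 →
      ∃ α : T.obj₁ ⟶ K, T.mor₃ ≫ α⟦(1 : ℤ)⟧' ≫ e.hom = γ) := by
  refine ⟨?_, ?_, ?_⟩
  · intro a b hab
    obtain ⟨γ, hγ⟩ := Triangle.yoneda_exact₂ T hT (p₂ ≫ a + p₃ ≫ b) (by
      rw [Preadditive.comp_add, ← Category.assoc, ← Category.assoc]; exact hab)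
    refine ⟨γ, ?_, ?_⟩
    · rw [Category.assoc, ← hγ, Preadditive.comp_add, ← Category.assoc, ← Category.assoc, h22, h23]
      simp
    · rw [Category.assoc, ← hγ, Preadditive.comp_add, ← Category.assoc, ← Category.assoc, h33, h32]
      simp
  · intro α hα
    have hα' : T.mor₃ ≫ α⟦(1 : ℤ)⟧' = 0 := by
      have := congrArg (fun t => t ≫ e.inv) hα
      simpa using this
    obtain ⟨g, hg⟩ := Triangle.yoneda_exact₃ T.rotate (rot_of_distTriang _ hT) (α⟦(1 : ℤ)⟧') hα'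
    obtain ⟨β, hβ'⟩ : ∃ β : T.obj₂ ⟶ K, (shiftFunctor D (1 : ℤ)).map β = g :=
      (shiftFunctor D (1 : ℤ)).map_surjective g
    have hg' : (shiftFunctor D (1 : ℤ)).map α =
        (-(shiftFunctor D (1 : ℤ)).map T.mor₁) ≫ (shiftFunctor D (1 : ℤ)).map β := by
      rw [hβ']; exact hg
    have hβ : α = T.mor₁ ≫ (-β) := by
      apply (shiftFunctor D (1 : ℤ)).map_injective
      rw [hg', Functor.map_comp, Functor.map_neg, Preadditive.comp_neg, Preadditive.neg_comp]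
    refine ⟨i₂ ≫ (-β), i₃ ≫ (-β), ?_⟩
    rw [hβ]
    have : T.mor₁ ≫ (-β) = T.mor₁ ≫ (p₂ ≫ i₂ + p₃ ≫ i₃) ≫ (-β) := by rw [hsum]; simp
    rw [this]
    simp only [Category.assoc, Preadditive.add_comp, Preadditive.comp_add]
  · intro γ h2 h3
    have hγ : T.mor₂ ≫ γ = 0 := by
      have : T.mor₂ ≫ γ = (p₂ ≫ i₂ + p₃ ≫ i₃) ≫ T.mor₂ ≫ γ := by rw [hsum]; simp
      rw [this, Preadditive.add_comp]
      simp only [Category.assoc] at h2 h3 ⊢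
      rw [h2, h3]; simp
    obtain ⟨g, hg⟩ := Triangle.yoneda_exact₃ T hT γ hγ
    obtain ⟨α, hα⟩ := (shiftFunctor D (1 : ℤ)).map_surjective (g ≫ e.inv)
    refine ⟨α, ?_⟩
    rw [hα, hg]; simp


lemma mv_abstract' (T : Triangle D) (hT : T ∈ distTriang D) {B₂ B₃ : D}
    (i₂ : B₂ ⟶ T.obj₂) (i₃ : B₃ ⟶ T.obj₂) (p₂ : T.obj₂ ⟶ B₂) (p₃ : T.obj₂ ⟶ B₃)
    (h22 : i₂ ≫ p₂ = 𝟙 _) (h33 : i₃ ≫ p₃ = 𝟙 _) (h23 : i₂ ≫ p₃ = 0) (h32 : i₃ ≫ p₂ = 0)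
    (hsum : p₂ ≫ i₂ + p₃ ≫ i₃ = 𝟙 _)
    (f₂ : T.obj₁ ⟶ B₂) (f₃ : T.obj₁ ⟶ B₃) (g₂ : B₂ ⟶ T.obj₃) (g₃ : B₃ ⟶ T.obj₃)
    (hf₂ : T.mor₁ ≫ p₂ = f₂) (hf₃ : T.mor₁ ≫ p₃ = -f₃) (hg₂ : i₂ ≫ T.mor₂ = g₂)
    (hg₃ : i₃ ≫ T.mor₂ = g₃)
    (K K' : D) (e : K⟦(1 : ℤ)⟧ ≅ K') :
    (∀ (a : B₂ ⟶ K) (b : B₃ ⟶ K), f₂ ≫ a - f₃ ≫ b = 0 →
      ∃ γ : T.obj₃ ⟶ K, g₂ ≫ γ = a ∧ g₃ ≫ γ = b) ∧
    (∀ (α : T.obj₁ ⟶ K), T.mor₃ ≫ α⟦(1 : ℤ)⟧' ≫ e.hom = 0 →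
      ∃ (a : B₂ ⟶ K) (b : B₃ ⟶ K), f₂ ≫ a - f₃ ≫ b = α) ∧
    (∀ (γ : T.obj₃ ⟶ K'), g₂ ≫ γ = 0 → g₃ ≫ γ = 0 →
      ∃ α : T.obj₁ ⟶ K, T.mor₃ ≫ α⟦(1 : ℤ)⟧' ≫ e.hom = γ) := by
  obtain ⟨h1, h2, h3⟩ := mv_abstract T hT i₂ i₃ p₂ p₃ h22 h33 h23 h32 hsum K K' e
  rw [hf₂, hf₃, hg₂, hg₃] at h1
  rw [hf₂, hf₃] at h2
  rw [hg₂, hg₃] at h3
  refine ⟨fun a b hab => h1 a b ?_, fun α hα => ?_, h3⟩
  · rw [Preadditive.neg_comp, ← sub_eq_add_neg]; exact hab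
  · obtain ⟨a, b, hab⟩ := h2 α hα
    refine ⟨a, b, ?_⟩
    rw [← hab, Preadditive.neg_comp, ← sub_eq_add_neg]


lemma mv_abstract_zero (T : Triangle D) (hT : T ∈ distTriang D) {B₂ B₃ : D}
    (i₂ : B₂ ⟶ T.obj₂) (i₃ : B₃ ⟶ T.obj₂) (p₂ : T.obj₂ ⟶ B₂) (p₃ : T.obj₂ ⟶ B₃)
    (f₂ : T.obj₁ ⟶ B₂) (f₃ : T.obj₁ ⟶ B₃) (g₂ : B₂ ⟶ T.obj₃) (g₃ : B₃ ⟶ T.obj₃)
    (hf₂ : T.mor₁ ≫ p₂ = f₂) (hf₃ : T.mor₁ ≫ p₃ = -f₃) (hg₂ : i₂ ≫ T.mor₂ = g₂)
    (hg₃ : i₃ ≫ T.mor₂ = g₃)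
    (K K' : D) (e : K⟦(1 : ℤ)⟧ ≅ K') :
    (∀ (a : B₂ ⟶ K) (b : B₃ ⟶ K), T.mor₃ ≫ (f₂ ≫ a - f₃ ≫ b)⟦(1 : ℤ)⟧' ≫ e.hom = 0) ∧
    (∀ (α : T.obj₁ ⟶ K), g₂ ≫ T.mor₃ ≫ α⟦(1 : ℤ)⟧' ≫ e.hom = 0 ∧
      g₃ ≫ T.mor₃ ≫ α⟦(1 : ℤ)⟧' ≫ e.hom = 0) := by
  refine ⟨fun a b => ?_, fun α => ⟨?_, ?_⟩⟩
  · have : f₂ ≫ a - f₃ ≫ b = T.mor₁ ≫ (p₂ ≫ a + p₃ ≫ b) := by
      rw [Preadditive.comp_add, ← Category.assoc, ← Category.assoc, hf₂, hf₃,
        Preadditive.neg_comp, sub_eq_add_neg]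
    rw [this, Functor.map_comp, ← Category.assoc, ← Category.assoc,
      comp_distTriang_mor_zero₃₁ _ hT, zero_comp, zero_comp]
  · rw [← hg₂, Category.assoc, ← Category.assoc T.mor₂, comp_distTriang_mor_zero₂₃ _ hT,
      zero_comp, comp_zero]
  · rw [← hg₃, Category.assoc, ← Category.assoc T.mor₂, comp_distTriang_mor_zero₂₃ _ hT,
      zero_comp, comp_zero]

end Abstract

lemma ab_exact_mk₂ {A B C : AddCommGrpCat.{u}} (f : A ⟶ B) (g : B ⟶ C)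
    (w : ∀ a, g (f a) = 0) (h : ∀ b, g b = 0 → ∃ a, f a = b) :
    (ComposableArrows.mk₂ f g).Exact := by
  have w' : f ≫ g = 0 := by
    ext a; exact w a
  exact ComposableArrows.exact₂_mk _ w' ((ShortComplex.ab_exact_iff _).2 h)


open CategoryTheory.Limits in
/-- As a long exact sequence of cohomology groups rather than a triangle of complexes: let S be a
Mayer-Vietoris square of a site, with corners X₁ (playing the role of the intersection), X₂, X₃ and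
X₄ (the union). For every object K of the derived category of abelian sheaves there are connecting
homomorphisms H^n(X₁, K) -> H^{n+1}(X₄, K) which together with the restriction maps (sum into
H^n(X₂, K) ⊕ H^n(X₃, K), difference out of it) form a long exact sequence ... -> H^n(X₄, K) ->
H^n(X₂, K) ⊕ H^n(X₃, K) -> H^n(X₁, K) -> H^{n+1}(X₄, K) -> .... Here H^n(U, K) is the group of maps
from the free abelian sheaf on U to K[n]. -/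
theorem result {C : Type u} [SmallCategory C] {J : GrothendieckTopology C}
    [HasWeakSheafify J (Type u)] [HasDerivedCategory.{u} (Sheaf J AddCommGrpCat.{u})]
    (S : J.MayerVietorisSquare) (K : DerivedCategory (Sheaf J AddCommGrpCat.{u})) :
    ∃ δ : ∀ n : ℤ, CohCx.HDU K n S.X₁ →+ CohCx.HDU K (n + 1) S.X₄,
      ∀ n : ℤ,
        (ComposableArrows.mk₂
          (AddCommGrpCat.ofHom ((CohCx.HDUres K n S.f₂₄).prod (CohCx.HDUres K n S.f₃₄)))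
          (AddCommGrpCat.ofHom ((CohCx.HDUres K n S.f₁₂).coprod (-(CohCx.HDUres K n S.f₁₃))))).Exact ∧
        (ComposableArrows.mk₂
          (AddCommGrpCat.ofHom ((CohCx.HDUres K n S.f₁₂).coprod (-(CohCx.HDUres K n S.f₁₃))))
          (AddCommGrpCat.ofHom (δ n))).Exact ∧
        (ComposableArrows.mk₂ (AddCommGrpCat.ofHom (δ n))
          (AddCommGrpCat.ofHom ((CohCx.HDUres K (n + 1) S.f₂₄).prod (CohCx.HDUres K (n + 1) S.f₃₄)))).Exact := by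
  classical
  haveI : HasSheafify J AddCommGrpCat.{u} := inferInstance
  have hS := S.shortComplex_shortExact
  have hT := hS.singleTriangle_distinguished
  let σ := DerivedCategory.singleFunctor (Sheaf J AddCommGrpCat.{u}) 0
  let e : ∀ n : ℤ, ((shiftFunctor (DerivedCategory (Sheaf J AddCommGrpCat.{u})) n).obj K)⟦(1 : ℤ)⟧ ≅
      (shiftFunctor (DerivedCategory (Sheaf J AddCommGrpCat.{u})) (n + 1)).obj K :=
    fun n => ((shiftFunctorAdd' (DerivedCategory (Sheaf J AddCommGrpCat.{u})) n 1 (n + 1) rfl).symm.app K)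
  refine ⟨fun n => (Preadditive.leftComp _ hS.singleTriangle.mor₃).comp
    ((Preadditive.rightComp _ (e n).hom).comp
      ((shiftFunctor (DerivedCategory (Sheaf J AddCommGrpCat.{u})) (1 : ℤ)).mapAddHom)), fun n => ?_⟩
  have hinl : σ.map (biprod.inl : CohCx.freeSheaf J S.X₂ ⟶ CohCx.freeSheaf J S.X₂ ⊞ CohCx.freeSheaf J S.X₃) ≫
      σ.map biprod.fst = 𝟙 _ := by
    rw [← Functor.map_comp, biprod.inl_fst, CategoryTheory.Functor.map_id]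
  have hinr : σ.map (biprod.inr : CohCx.freeSheaf J S.X₃ ⟶ CohCx.freeSheaf J S.X₂ ⊞ CohCx.freeSheaf J S.X₃) ≫
      σ.map biprod.snd = 𝟙 _ := by
    rw [← Functor.map_comp, biprod.inr_snd, CategoryTheory.Functor.map_id]
  have hinl' : σ.map (biprod.inl : CohCx.freeSheaf J S.X₂ ⟶ CohCx.freeSheaf J S.X₂ ⊞ CohCx.freeSheaf J S.X₃) ≫
      σ.map biprod.snd = 0 := by
    rw [← Functor.map_comp, biprod.inl_snd, Functor.map_zero]
  have hinr' : σ.map (biprod.inr : CohCx.freeSheaf J S.X₃ ⟶ CohCx.freeSheaf J S.X₂ ⊞ CohCx.freeSheaf J S.X₃) ≫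
      σ.map biprod.fst = 0 := by
    rw [← Functor.map_comp, biprod.inr_fst, Functor.map_zero]
  have hsum : σ.map (biprod.fst : CohCx.freeSheaf J S.X₂ ⊞ CohCx.freeSheaf J S.X₃ ⟶ _) ≫ σ.map biprod.inl +
      σ.map biprod.snd ≫ σ.map biprod.inr = 𝟙 _ := by
    rw [← Functor.map_comp, ← Functor.map_comp, ← Functor.map_add, biprod.total, CategoryTheory.Functor.map_id]
  -- identify the component maps
  have e12 : hS.singleTriangle.mor₁ ≫ σ.map biprod.fst = σ.map (CohCx.freeSheafMap J S.f₁₂) := by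
    change σ.map S.shortComplex.f ≫ σ.map biprod.fst = _
    rw [← Functor.map_comp]
    congr 1
    exact biprod.lift_fst _ _
  have e13 : hS.singleTriangle.mor₁ ≫ σ.map biprod.snd = -σ.map (CohCx.freeSheafMap J S.f₁₃) := by
    change σ.map S.shortComplex.f ≫ σ.map biprod.snd = _
    rw [← Functor.map_comp, ← Functor.map_neg]
    congr 1
    exact biprod.lift_snd _ _
  have e24 : σ.map biprod.inl ≫ hS.singleTriangle.mor₂ = σ.map (CohCx.freeSheafMap J S.f₂₄) := by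
    change σ.map biprod.inl ≫ σ.map S.shortComplex.g = _
    rw [← Functor.map_comp]
    congr 1
    exact biprod.inl_desc _ _
  have e34 : σ.map biprod.inr ≫ hS.singleTriangle.mor₂ = σ.map (CohCx.freeSheafMap J S.f₃₄) := by
    change σ.map biprod.inr ≫ σ.map S.shortComplex.g = _
    rw [← Functor.map_comp]
    congr 1
    exact biprod.inr_desc _ _
  obtain ⟨h1, h2, h3⟩ := mv_abstract' hS.singleTriangle hT (σ.map biprod.inl) (σ.map biprod.inr)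
    (σ.map biprod.fst) (σ.map biprod.snd) hinl hinr hinl' hinr' hsum _ _ _ _ e12 e13 e24 e34
    ((shiftFunctor (DerivedCategory (Sheaf J AddCommGrpCat.{u})) n).obj K)
    ((shiftFunctor (DerivedCategory (Sheaf J AddCommGrpCat.{u})) (n + 1)).obj K) (e n)
  have hz := mv_abstract_zero hS.singleTriangle hT (σ.map biprod.inl) (σ.map biprod.inr)
    (σ.map biprod.fst) (σ.map biprod.snd) _ _ _ _ e12 e13 e24 e34
    ((shiftFunctor (DerivedCategory (Sheaf J AddCommGrpCat.{u})) n).obj K)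
    ((shiftFunctor (DerivedCategory (Sheaf J AddCommGrpCat.{u})) (n + 1)).obj K) (e n)
  have h1' := (mv_abstract' hS.singleTriangle hT (σ.map biprod.inl) (σ.map biprod.inr)
    (σ.map biprod.fst) (σ.map biprod.snd) hinl hinr hinl' hinr' hsum _ _ _ _ e12 e13 e24 e34
    ((shiftFunctor (DerivedCategory (Sheaf J AddCommGrpCat.{u})) (n + 1)).obj K)
    ((shiftFunctor (DerivedCategory (Sheaf J AddCommGrpCat.{u})) (n + 1 + 1)).obj K) (e (n + 1))).1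
  have hsq : σ.map (CohCx.freeSheafMap J S.f₁₂) ≫ σ.map (CohCx.freeSheafMap J S.f₂₄) =
      σ.map (CohCx.freeSheafMap J S.f₁₃) ≫ σ.map (CohCx.freeSheafMap J S.f₃₄) := by
    rw [← Functor.map_comp, ← Functor.map_comp]
    congr 1
    dsimp only [CohCx.freeSheafMap]
    rw [← Functor.map_comp, ← Functor.map_comp, ← Functor.whiskerRight_comp,
      ← Functor.whiskerRight_comp, ← Functor.map_comp, ← Functor.map_comp, S.fac]
  refine ⟨?_, ?_, ?_⟩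
  · refine ab_exact_mk₂ _ _ (fun γ => ?_) (fun ab hab => ?_)
    · change σ.map (CohCx.freeSheafMap J S.f₁₂) ≫ (σ.map (CohCx.freeSheafMap J S.f₂₄) ≫ γ) +
        -(σ.map (CohCx.freeSheafMap J S.f₁₃) ≫ (σ.map (CohCx.freeSheafMap J S.f₃₄) ≫ γ)) = 0
      rw [← Category.assoc, ← Category.assoc, hsq, add_neg_cancel]
    · obtain ⟨a, b⟩ := ab
      have hab' : σ.map (CohCx.freeSheafMap J S.f₁₂) ≫ a +
        -(σ.map (CohCx.freeSheafMap J S.f₁₃) ≫ b) = 0 := hab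
      rw [← sub_eq_add_neg] at hab'
      obtain ⟨γ, hγa, hγb⟩ := h1 a b hab'
      exact ⟨γ, Prod.ext hγa hγb⟩
  · refine ab_exact_mk₂ _ _ (fun ab => ?_) (fun α hα => ?_)
    · obtain ⟨a, b⟩ := ab
      have := hz.1 a b
      rw [sub_eq_add_neg] at this
      exact this
    · obtain ⟨a, b, hab⟩ := h2 α hα
      refine ⟨(a, b), ?_⟩
      rw [sub_eq_add_neg] at hab
      exact hab
  · refine ab_exact_mk₂ _ _ (fun α => ?_) (fun γ hγ => ?_)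
    · exact Prod.ext (hz.2 α).1 (hz.2 α).2
    · have h24 : σ.map (CohCx.freeSheafMap J S.f₂₄) ≫ γ = 0 := congrArg Prod.fst hγ
      have h34 : σ.map (CohCx.freeSheafMap J S.f₃₄) ≫ γ = 0 := congrArg Prod.snd hγ
      exact h3 γ h24 h34

end Groth.Agent.S0876
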