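import Groth.Statements.S0883
import Groth.Agent.Lib.Helper5.NegVanish
import Groth.Agent.Lib.Helper5.CechPresent

set_option autoImplicit false
universe u
open CategoryTheory
open CohTop

namespace Groth.Agent.S0883

open CategoryTheory.Limits Opposite TopologicalSpace
open Groth.Agent.Lib.Helper5

section Helpers

variable {X Y : TopCat.{u}} (f : X ⟶ Y)

instance : PreservesFiniteLimits ((Opens.map f).sheafPullback AddCommGrpCat.{u}
    (Opens.grothendieckTopology Y) (Opens.grothendieckTopology X)) :=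
  Functor.SmallCategories.instPreservesFiniteLimitsSheafSheafPullbackOfRepresentablyFlat
    (Opens.map f) AddCommGrpCat.{u} (Opens.grothendieckTopology Y) (Opens.grothendieckTopology X)

instance : ((Opens.map f).sheafPullback AddCommGrpCat.{u}
    (Opens.grothendieckTopology Y) (Opens.grothendieckTopology X)).Additive :=
  ((Opens.map f).sheafAdjunctionContinuous AddCommGrpCat.{u} (Opens.grothendieckTopology Y)
    (Opens.grothendieckTopology X)).left_adjoint_additive

lemma cover_of_isBasis (B : Set (Opens Y)) (hB : Opens.IsBasis B) (U : Opens Y) :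
    ∃ (ι : Type u) (Y' : ι → Opens Y) (g : ∀ i, Y' i ⟶ U),
      Sieve.ofArrows Y' g ∈ Opens.grothendieckTopology Y U ∧ ∀ i, Y' i ∈ B := by
  obtain ⟨Us, hUs, hU⟩ := Opens.isBasis_iff_cover.1 hB U
  refine ⟨Us, fun i => i.1, fun i => homOfLE (by rw [hU]; exact le_sSup i.2), ?_, fun i => hUs i.2⟩
  intro x hx
  rw [hU] at hx
  obtain ⟨W, hW, hxW⟩ := Opens.mem_sSup.1 hx
  exact ⟨W, homOfLE (by rw [hU]; exact le_sSup hW), Sieve.ofArrows_mk _ _ (⟨W, hW⟩ : Us), hxW⟩

variable [HasDerivedCategory.{u} (CohTop.Ab X)]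

/-- the comparison `ℤ_{f⁻¹V} ⟶ f⁻¹ℤ_V` in the derived category -/
noncomputable abbrev cmp (V : Opens Y) :=
  (NegVanish.sg (Opens.grothendieckTopology X)).map
    (CoContCoh.pullFreeMap (Opens.grothendieckTopology Y) (Opens.grothendieckTopology X)
      (Opens.map f) V)

instance (V : Opens Y) : IsIso (cmp f V) := by
  dsimp only [cmp]
  infer_instance

theorem part1 (B : Set (Opens Y)) (hB : Opens.IsBasis B)
    (K : DerivedCategory (CohTop.Ab X))
    (h : ∀ V ∈ B, ∀ i : ℤ, i < 0 → Subsingleton (CohCx.HDU K i ((Opens.map f).obj V)))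
    (V : Opens Y) (i : ℤ) (hi : i < 0) : Subsingleton (CohCx.HDU K i ((Opens.map f).obj V)) := by
  have hvan : ∀ W ∈ B, ∀ i : ℤ, i < 0 → ∀ t : (NegVanish.sg (Opens.grothendieckTopology X)).obj
      (CohCx.freeSheaf (Opens.grothendieckTopology X) ((Opens.map f).obj W)) ⟶ K⟦i⟧, t = 0 :=
    fun W hW i hi t => (h W hW i hi).elim t 0
  have key : ∀ x : CohCx.HDU K i ((Opens.map f).obj V), x = 0 := by
    intro x
    have := NegVanish.eq_zero_pull (cover_of_isBasis B hB) K hvan
      (CohCx.freeSheaf (Opens.grothendieckTopology Y) V) i hi (inv (cmp f V) ≫ x)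
    have h2 := congrArg (fun m => cmp f V ≫ m) this
    simpa using h2
  exact ⟨fun a b => by rw [key a, key b]⟩

lemma cmp_naturality {V' V : Opens Y} (g : V' ⟶ V) :
    cmp f V' ≫ (NegVanish.sg (Opens.grothendieckTopology X)).map
      ((NegVanish.pbF (Opens.grothendieckTopology Y) (Opens.grothendieckTopology X)
        (Opens.map f)).map (CohCx.freeSheafMap (Opens.grothendieckTopology Y) g)) =
    (NegVanish.sg (Opens.grothendieckTopology X)).map
      (CohCx.freeSheafMap (Opens.grothendieckTopology X) ((Opens.map f).map g)) ≫ cmp f V := by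
  dsimp only [cmp]
  rw [← Functor.map_comp, ← Functor.map_comp, NegVanish.pullFreeMap_naturality]

lemma cmp_naturality' {V' V : Opens Y} (g : V' ⟶ V) :
    (NegVanish.sg (Opens.grothendieckTopology X)).map
      ((NegVanish.pbF (Opens.grothendieckTopology Y) (Opens.grothendieckTopology X)
        (Opens.map f)).map (CohCx.freeSheafMap (Opens.grothendieckTopology Y) g)) ≫ inv (cmp f V) =
    inv (cmp f V') ≫ (NegVanish.sg (Opens.grothendieckTopology X)).map
      (CohCx.freeSheafMap (Opens.grothendieckTopology X) ((Opens.map f).map g)) := by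
  rw [← cancel_epi (cmp f V'), ← Category.assoc, cmp_naturality, Category.assoc,
    IsIso.hom_inv_id, Category.comp_id, IsIso.hom_inv_id_assoc]

/-- restriction maps of the presheaf `V ↦ H⁰(f⁻¹V, K)` -/
lemma presheaf_map (K : DerivedCategory (CohTop.Ab X)) {V' V : Opens Y} (g : V' ⟶ V)
    (s : ToType (((Opens.map f).op ⋙ CohCx.HDUPresheaf K 0).obj (op V))) :
    ((Opens.map f).op ⋙ CohCx.HDUPresheaf K 0).map g.op s =
      (NegVanish.sg (Opens.grothendieckTopology X)).map
        (CohCx.freeSheafMap (Opens.grothendieckTopology X) ((Opens.map f).map g)) ≫ s := rfl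

/-- `Φ = σ ∘ f⁻¹` -/
noncomputable abbrev Φ : CohTop.Ab Y ⥤ DerivedCategory (CohTop.Ab X) :=
  NegVanish.pbF (Opens.grothendieckTopology Y) (Opens.grothendieckTopology X) (Opens.map f) ⋙
    NegVanish.sg (Opens.grothendieckTopology X)

noncomputable def isColimitΦ₀ {ι : Type u} (U : ι → Opens Y) :
    IsColimit (Cofan.mk ((Φ f).obj (CechPresent.Q₀ U))
      (fun a => (Φ f).map (CechPresent.ι₀ U a))) := by
  have : PreservesColimitsOfSize.{u, u} (NegVanish.pbF (Opens.grothendieckTopology Y)
      (Opens.grothendieckTopology X) (Opens.map f)) :=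
    ((Opens.map f).sheafAdjunctionContinuous AddCommGrpCat.{u} (Opens.grothendieckTopology Y)
      (Opens.grothendieckTopology X)).leftAdjoint_preservesColimits
  have h1 := isColimitCofanMkObjOfIsColimit (NegVanish.pbF (Opens.grothendieckTopology Y)
      (Opens.grothendieckTopology X) (Opens.map f)) _ _ (CechPresent.isColimit₀ U)
  exact isColimitCofanMkObjOfIsColimit (NegVanish.sg (Opens.grothendieckTopology X)) _ _ h1

noncomputable def isColimitΦ₁ {ι : Type u} (U : ι → Opens Y) :
    IsColimit (Cofan.mk ((Φ f).obj (CechPresent.Q₁ U))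
      (fun ab => (Φ f).map (CechPresent.ι₁ U ab))) := by
  have : PreservesColimitsOfSize.{u, u} (NegVanish.pbF (Opens.grothendieckTopology Y)
      (Opens.grothendieckTopology X) (Opens.map f)) :=
    ((Opens.map f).sheafAdjunctionContinuous AddCommGrpCat.{u} (Opens.grothendieckTopology Y)
      (Opens.grothendieckTopology X)).leftAdjoint_preservesColimits
  have h1 := isColimitCofanMkObjOfIsColimit (NegVanish.pbF (Opens.grothendieckTopology Y)
      (Opens.grothendieckTopology X) (Opens.map f)) _ _ (CechPresent.isColimit₁ U)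
  exact isColimitCofanMkObjOfIsColimit (NegVanish.sg (Opens.grothendieckTopology X)) _ _ h1

theorem part2 (B : Set (Opens Y)) (hB : Opens.IsBasis B)
    (K : DerivedCategory (CohTop.Ab X))
    (h : ∀ V ∈ B, ∀ i : ℤ, i < 0 → Subsingleton (CohCx.HDU K i ((Opens.map f).obj V))) :
    Presheaf.IsSheaf (Opens.grothendieckTopology Y)
      ((Opens.map f).op ⋙ CohCx.HDUPresheaf K 0) := by
  have hvan : ∀ W ∈ B, ∀ i : ℤ, i < 0 → ∀ t : (NegVanish.sg (Opens.grothendieckTopology X)).obj
      (CohCx.freeSheaf (Opens.grothendieckTopology X) ((Opens.map f).obj W)) ⟶ K⟦i⟧, t = 0 :=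
    fun W hW i hi t => (h W hW i hi).elim t 0
  have hB' := cover_of_isBasis B hB
  change TopCat.Presheaf.IsSheaf ((Opens.map f).op ⋙ CohCx.HDUPresheaf K 0)
  rw [TopCat.Presheaf.isSheaf_iff_isSheafUniqueGluing]
  intro ι U sf hsf
  have hUV : ∀ a, U a ≤ iSup U := fun a => le_iSup U a
  have hex := CechPresent.exact_d_e U (iSup U) hUV le_rfl
  haveI := CechPresent.epi_e U (iSup U) hUV le_rfl
  obtain ⟨hinj, hsurj⟩ := NegVanish.leftExact hB' K hvan (CechPresent.d U)
    (CechPresent.e U (iSup U) hUV) (CechPresent.d_e U _ hUV) hex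
  let S : (Φ f).obj (CechPresent.Q₀ U) ⟶ K⟦(0 : ℤ)⟧ :=
    Cofan.IsColimit.desc (isColimitΦ₀ f U) (fun a => inv (cmp f (U a)) ≫ sf a)
  have hS : ∀ a, (Φ f).map (CechPresent.ι₀ U a) ≫ S = inv (cmp f (U a)) ≫ sf a :=
    fun a => Cofan.IsColimit.fac (isColimitΦ₀ f U) _ a
  have hdS : (Φ f).map (CechPresent.d U) ≫ S = 0 := by
    apply Cofan.IsColimit.hom_ext (isColimitΦ₁ f U)
    rintro ⟨a, b⟩
    change (Φ f).map (CechPresent.ι₁ U (a, b)) ≫ (Φ f).map (CechPresent.d U) ≫ S =
      (Φ f).map (CechPresent.ι₁ U (a, b)) ≫ 0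
    rw [comp_zero, ← Category.assoc, ← Functor.map_comp, CechPresent.ι₁_d, Functor.map_sub,
      Preadditive.sub_comp, Functor.map_comp, Functor.map_comp, Category.assoc, Category.assoc,
      hS, hS, sub_eq_zero]
    change (NegVanish.sg (Opens.grothendieckTopology X)).map
        ((NegVanish.pbF (Opens.grothendieckTopology Y) (Opens.grothendieckTopology X)
          (Opens.map f)).map (CohCx.freeSheafMap (Opens.grothendieckTopology Y)
            (Opens.infLELeft (U a) (U b)))) ≫ inv (cmp f (U a)) ≫ sf a =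
      (NegVanish.sg (Opens.grothendieckTopology X)).map
        ((NegVanish.pbF (Opens.grothendieckTopology Y) (Opens.grothendieckTopology X)
          (Opens.map f)).map (CohCx.freeSheafMap (Opens.grothendieckTopology Y)
            (Opens.infLERight (U a) (U b)))) ≫ inv (cmp f (U b)) ≫ sf b
    rw [← Category.assoc, ← Category.assoc, cmp_naturality', cmp_naturality', Category.assoc,
      Category.assoc]
    congr 1
    exact hsf a b
  obtain ⟨s', hs'⟩ := hsurj S hdS
  have hfac : ∀ a, CohCx.freeSheafMap (Opens.grothendieckTopology Y) (Opens.leSupr U a) =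
      CechPresent.ι₀ U a ≫ CechPresent.e U (iSup U) hUV := fun a =>
    (CechPresent.ι₀_e U (iSup U) hUV a).symm
  have hglue : ∀ a, (NegVanish.sg (Opens.grothendieckTopology X)).map
      (CohCx.freeSheafMap (Opens.grothendieckTopology X) ((Opens.map f).map (Opens.leSupr U a))) ≫
        (cmp f (iSup U) ≫ s') = sf a := by
    intro a
    rw [← Category.assoc, ← cmp_naturality, Category.assoc, hfac]
    change cmp f (U a) ≫ (Φ f).map (CechPresent.ι₀ U a ≫ CechPresent.e U (iSup U) hUV) ≫ s' = sf a
    have hs'2 : (Φ f).map (CechPresent.e U (iSup U) hUV) ≫ s' = S := hs'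
    rw [Functor.map_comp, Category.assoc, hs'2, hS, IsIso.hom_inv_id_assoc]
  refine ⟨cmp f (iSup U) ≫ s', fun a => hglue a, ?_⟩
  intro s'' hs''
  let t : (NegVanish.sg (Opens.grothendieckTopology X)).obj
      (CohCx.freeSheaf (Opens.grothendieckTopology X) ((Opens.map f).obj (iSup U))) ⟶
        K⟦(0 : ℤ)⟧ := s''
  have ht : ∀ a, (NegVanish.sg (Opens.grothendieckTopology X)).map
      (CohCx.freeSheafMap (Opens.grothendieckTopology X) ((Opens.map f).map (Opens.leSupr U a))) ≫
        t = sf a := fun a => hs'' a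
  have h0 : inv (cmp f (iSup U)) ≫ (t - cmp f (iSup U) ≫ s') = 0 := by
    apply hinj
    change (Φ f).map (CechPresent.e U (iSup U) hUV) ≫ _ = 0
    apply Cofan.IsColimit.hom_ext (isColimitΦ₀ f U)
    intro a
    change (Φ f).map (CechPresent.ι₀ U a) ≫ (Φ f).map (CechPresent.e U (iSup U) hUV) ≫ _ =
      (Φ f).map (CechPresent.ι₀ U a) ≫ 0
    rw [comp_zero, ← Category.assoc, ← Functor.map_comp, ← hfac]
    change ((NegVanish.sg (Opens.grothendieckTopology X)).map
      ((NegVanish.pbF (Opens.grothendieckTopology Y) (Opens.grothendieckTopology X)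
        (Opens.map f)).map (CohCx.freeSheafMap (Opens.grothendieckTopology Y)
          (Opens.leSupr U a)))) ≫ inv (cmp f (iSup U)) ≫ (t - cmp f (iSup U) ≫ s') = 0
    rw [← Category.assoc, cmp_naturality', Category.assoc, Preadditive.comp_sub, ht, hglue,
      sub_self, comp_zero]
  have h1 : t - cmp f (iSup U) ≫ s' = 0 := by
    have := congrArg (fun m => cmp f (iSup U) ≫ m) h0
    simpa using this
  exact sub_eq_zero.1 h1

end Helpers


open TopologicalSpace in
/-- Part (1) (abelian sheaves; the assertion about Rf_* K is not included): given a continuous map f : X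
-> Y, a basis B of opens of Y and an object K of the derived category of abelian sheaves on X such
that H^i(f^{-1}V, K) = 0 for all i < 0 and V in B. Then H^i(f^{-1}V, K) = 0 for i < 0 and every open
V of Y, and the presheaf V ↦ H^0(f^{-1}V, K) is a sheaf on Y. -/
theorem result {X Y : TopCat.{u}} (f : X ⟶ Y)
    [HasDerivedCategory.{u} (CohTop.Ab X)] (B : Set (Opens Y)) (hB : Opens.IsBasis B)
    (K : DerivedCategory (CohTop.Ab X))
    (h : ∀ V ∈ B, ∀ i : ℤ, i < 0 → Subsingleton (CohCx.HDU K i ((Opens.map f).obj V))) :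
    (∀ (V : Opens Y) (i : ℤ), i < 0 → Subsingleton (CohCx.HDU K i ((Opens.map f).obj V))) ∧
    Presheaf.IsSheaf (Opens.grothendieckTopology Y) ((Opens.map f).op ⋙ CohCx.HDUPresheaf K 0) := by
  exact ⟨fun V i hi => part1 f B hB K h V i hi, part2 f B hB K h⟩

end Groth.Agent.S0883
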