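import Groth.Statements.S0885
import Groth.Agent.Lib.Helper13.CechBasic
-- import your own Groth.Agent.* helpers here

set_option autoImplicit false
universe u
open CategoryTheory
open CohTop

namespace Groth.Agent.S0885

section Helpers
open TopologicalSpace Opposite CategoryTheory.Limits Groth.Agent.Lib.Helper13.CechBasic

noncomputable section
variable {X : TopCat.{u}} (F : (Opens X)ᵒᵖ ⥤ AddCommGrpCat.{u}) {ι : Type u} (U : ι → Opens X)

lemma key {n : ℕ} {τ τ' : Fin (n+1) → ι} (h : τ = τ') {V : Opens X}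
    (f : V ⟶ ∏ᶜ (U ∘ τ)) (g : V ⟶ ∏ᶜ (U ∘ τ')) :
    proj U F n τ ≫ F.map f.op = proj U F n τ' ≫ F.map g.op := by
  subst h
  rw [Subsingleton.elim f g]

lemma key' {n : ℕ} {τ τ' : Fin (n+1) → ι} (h : τ = τ') {V W : Opens X}
    (f : W ⟶ ∏ᶜ (U ∘ τ)) (f' : V ⟶ W) (g : V ⟶ ∏ᶜ (U ∘ τ')) :
    proj U F n τ ≫ F.map f.op ≫ F.map f'.op = proj U F n τ' ≫ F.map g.op := by
  rw [← F.map_comp, ← op_comp]
  exact key F U h _ _

lemma cx_hom_ext {n : ℕ} {A : AddCommGrpCat.{u}} {f g : A ⟶ (cx U F).X n}
    (h : ∀ σ, f ≫ proj U F n σ = g ≫ proj U F n σ) : f = g :=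
  Pi.hom_ext _ _ h

def cxLift {n : ℕ} {A : AddCommGrpCat.{u}} (f : ∀ σ : Fin (n+1) → ι, A ⟶ F.obj (op (∏ᶜ (U ∘ σ)))) :
    A ⟶ (cx U F).X n :=
  Pi.lift f

@[reassoc (attr := simp)]
lemma cxLift_proj {n : ℕ} {A : AddCommGrpCat.{u}}
    (f : ∀ σ : Fin (n+1) → ι, A ⟶ F.obj (op (∏ᶜ (U ∘ σ)))) (σ : Fin (n+1) → ι) :
    cxLift F U f ≫ proj U F n σ = f σ :=
  Pi.lift_π _ _

/-- the morphism from an iterated intersection to the union. -/
def toSup {n : ℕ} (σ : Fin (n+1) → ι) : ∏ᶜ (U ∘ σ) ⟶ iSup U :=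
  Pi.π (U ∘ σ) 0 ≫ homOfLE (le_iSup U (σ 0))

variable (i : ι) (hi : U i = iSup U)

/-- the morphism from the union to the `i`-fold intersection. -/
def fromSup : iSup U ⟶ ∏ᶜ (U ∘ fun _ : Fin 1 => i) :=
  Pi.lift (fun _ => eqToHom hi.symm)

/-- adding the index `i` in front. -/
def mm {n : ℕ} (σ : Fin (n+1) → ι) : ∏ᶜ (U ∘ σ) ⟶ ∏ᶜ (U ∘ (Fin.cons i σ : Fin (n+2) → ι)) :=
  Pi.lift (Fin.cases (toSup U σ ≫ eqToHom hi.symm) (fun a => Pi.π (U ∘ σ) a))

/-- the augmentation. -/
def ε : F.obj (op (iSup U)) ⟶ (cx U F).X 0 :=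
  cxLift F U (fun σ => F.map (toSup U σ).op)

/-- the retraction. -/
def r : (cx U F).X 0 ⟶ F.obj (op (iSup U)) :=
  proj U F 0 (fun _ => i) ≫ F.map (fromSup U i hi).op

/-- the homotopy. -/
def hh (n : ℕ) : (cx U F).X (n+1) ⟶ (cx U F).X n :=
  cxLift F U (fun σ => proj U F (n+1) (Fin.cons i σ) ≫ F.map (mm U i hi σ).op)

lemma ε_r : ε F U ≫ r F U i hi = 𝟙 _ := by
  rw [ε, r, cxLift_proj_assoc, ← F.map_comp, ← op_comp, Subsingleton.elim (fromSup U i hi ≫ _) (𝟙 _),
    op_id, F.map_id]

lemma ε_d : ε F U ≫ (cx U F).d 0 1 = 0 := by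
  apply cx_hom_ext
  intro σ
  rw [Category.assoc, d_proj, zero_comp, Fin.sum_univ_two, Preadditive.comp_add]
  simp only [Fin.val_zero, pow_zero, one_smul, Fin.val_one, pow_one, neg_smul,
    Preadditive.comp_neg, ε, cxLift_proj_assoc]
  rw [← F.map_comp, ← F.map_comp, ← op_comp, ← op_comp,
    Subsingleton.elim (face U σ 0 ≫ _) (face U σ 1 ≫ toSup U (σ ∘ (1 : Fin 2).succAbove))]
  exact add_neg_cancel _

lemma cons_succAbove_zero {n : ℕ} (σ : Fin (n+1) → ι) :
    (Fin.cons i σ : Fin (n+2) → ι) ∘ (0 : Fin (n+2)).succAbove = σ := by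
  funext a
  simp

lemma cons_succAbove_succ {n : ℕ} (σ : Fin (n+2) → ι) (k : Fin (n+2)) :
    (Fin.cons i σ : Fin (n+3) → ι) ∘ k.succ.succAbove = Fin.cons i (σ ∘ k.succAbove) := by
  funext a
  refine Fin.cases ?_ (fun a' => ?_) a
  · simp
  · simp

lemma cons_succAbove_one (σ : Fin 1 → ι) :
    (Fin.cons i σ : Fin 2 → ι) ∘ (1 : Fin 2).succAbove = fun _ => i := by
  funext a
  fin_cases a
  simp

lemma hd0 : 𝟙 _ - r F U i hi ≫ ε F U = (cx U F).d 0 1 ≫ hh F U i hi 0 := by
  apply cx_hom_ext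
  intro σ
  rw [Preadditive.sub_comp, Category.id_comp, Category.assoc, Category.assoc, hh, cxLift_proj,
    ← Category.assoc ((cx U F).d 0 1), d_proj, ε, cxLift_proj, r, Category.assoc, Fin.sum_univ_two,
    Preadditive.add_comp]
  simp only [Fin.val_zero, pow_zero, one_smul, Fin.val_one, pow_one, neg_smul,
    Preadditive.neg_comp, Category.assoc]
  rw [sub_eq_add_neg]
  congr 1
  · have := key' F U (cons_succAbove_zero i σ) (face U (Fin.cons i σ) 0) (mm U i hi σ) (𝟙 _)
    rw [this, op_id, F.map_id, Category.comp_id]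
  · congr 1
    have := key' F U (cons_succAbove_one i σ) (face U (Fin.cons i σ) 1) (mm U i hi σ)
      (toSup U σ ≫ fromSup U i hi)
    rw [this, op_comp, F.map_comp]

lemma hdn (m : ℕ) : 𝟙 ((cx U F).X (m+1)) =
    (cx U F).d (m+1) (m+2) ≫ hh F U i hi (m+1) + hh F U i hi m ≫ (cx U F).d m (m+1) := by
  apply cx_hom_ext
  intro σ
  rw [Preadditive.add_comp, Category.id_comp, Category.assoc, Category.assoc, hh, cxLift_proj,
    ← Category.assoc ((cx U F).d (m+1) (m+2)), d_proj, d_proj, Fin.sum_univ_succ,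
    Preadditive.add_comp, Preadditive.sum_comp, Preadditive.comp_sum]
  refine Eq.trans ?_ (add_assoc _ _ _).symm
  rw [← Finset.sum_add_distrib]
  have h0 := key' F U (cons_succAbove_zero i σ) (face U (Fin.cons i σ) 0) (mm U i hi σ) (𝟙 _)
  simp only [Fin.val_zero, pow_zero, one_smul, Category.assoc]
  rw [h0, op_id, F.map_id, Category.comp_id, left_eq_add]
  refine Finset.sum_eq_zero (fun k _ => ?_)
  rw [Preadditive.zsmul_comp, Preadditive.comp_zsmul, hh, cxLift_proj_assoc, Category.assoc,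
    Fin.val_succ, pow_succ, mul_neg, mul_one, neg_smul]
  have hk := key' F U (cons_succAbove_succ i σ k) (face U (Fin.cons i σ) k.succ) (mm U i hi σ)
    (face U σ k ≫ mm U i hi (σ ∘ k.succAbove))
  rw [hk, op_comp, F.map_comp]
  exact neg_add_cancel _

end

end Helpers


open TopologicalSpace Opposite CategoryTheory.Limits in
/-- Let F be a presheaf of abelian groups on a topological space X and (U_i)_{i ∈ ι} a family of open
subsets with union U such that U_i = U for some index i. Then the Čech complex of F with respect to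
the family (formed with all ordered tuples of indices) is homotopy equivalent to the complex
consisting of F(U) placed in degree 0. (The published statement phrases this as contractibility of
the extended Čech complex; stated here as a homotopy equivalence with F(U) in degree zero.) -/
theorem result {X : TopCat.{u}} (F : (Opens X)ᵒᵖ ⥤ AddCommGrpCat.{u})
    {ι : Type u} (U : ι → Opens X) (i : ι) (hi : U i = iSup U) :
    Nonempty (HomotopyEquiv ((CochainComplex.single₀ AddCommGrpCat.{u}).obj (F.obj (op (iSup U))))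
      ((cechComplexFunctor U).obj F)) := by
  open Groth.Agent.Lib.Helper13.CechBasic in
  let f : (CochainComplex.single₀ AddCommGrpCat.{u}).obj (F.obj (op (iSup U))) ⟶ cx U F :=
    HomologicalComplex.mkHomFromSingle (ε F U) (fun k hk => by
      obtain rfl : k = 1 := by
        have : 0 + 1 = k := hk
        omega
      exact ε_d F U)
  let g : cx U F ⟶ (CochainComplex.single₀ AddCommGrpCat.{u}).obj (F.obj (op (iSup U))) :=
    HomologicalComplex.mkHomToSingle (r F U i hi) (fun k hk => by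
      exfalso
      have : k + 1 = 0 := hk
      omega)
  have hfg : f ≫ g = 𝟙 _ := by
    apply HomologicalComplex.from_single_hom_ext
    simp [f, g, HomologicalComplex.mkHomFromSingle_f, HomologicalComplex.mkHomToSingle_f, ε_r]
  have hgf : 𝟙 (cx U F) - g ≫ f = Homotopy.nullHomotopicMap'
      (fun a b (hab : (ComplexShape.up ℕ).Rel b a) =>
        eqToHom (by have : b + 1 = a := hab; rw [← this]) ≫ hh F U i hi b) := by
    ext n : 1
    cases n with
    | zero =>
      rw [Homotopy.nullHomotopicMap'_f_of_not_rel_right (c := ComplexShape.up ℕ) (k₁ := 0) (k₀ := 1)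
        (by simp) (by intro l hl; have : l + 1 = 0 := hl; omega)]
      simp only [HomologicalComplex.sub_f_apply, HomologicalComplex.id_f,
        HomologicalComplex.comp_f, f, g, HomologicalComplex.mkHomFromSingle_f,
        HomologicalComplex.mkHomToSingle_f, Category.assoc, Iso.inv_hom_id_assoc, eqToHom_refl,
        Category.id_comp]
      exact hd0 F U i hi
    | succ m =>
      rw [Homotopy.nullHomotopicMap'_f (c := ComplexShape.up ℕ) (k₂ := m) (k₁ := m + 1)
        (k₀ := m + 2) (by simp) (by simp)]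
      have hz : (g ≫ f).f (m + 1) = 0 := by
        rw [HomologicalComplex.comp_f]
        have : IsZero (((CochainComplex.single₀ AddCommGrpCat.{u}).obj
            (F.obj (op (iSup U)))).X (m + 1)) :=
          HomologicalComplex.isZero_single_obj_X _ _ _ _ (by simp)
        rw [this.eq_of_tgt (g.f (m + 1)) 0, zero_comp]
      simp only [HomologicalComplex.sub_f_apply, HomologicalComplex.id_f, hz, sub_zero,
        eqToHom_refl, Category.id_comp]
      exact hdn F U i hi m
  exact ⟨{ hom := f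
           inv := g
           homotopyHomInvId := Homotopy.ofEq hfg
           homotopyInvHomId :=
            (Homotopy.equivSubZero.symm ((Homotopy.ofEq hgf).trans (Homotopy.nullHomotopy' _))).symm }⟩

end Groth.Agent.S0885
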