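import Groth.Statements.S0898
import Mathlib
import Mathlib

set_option autoImplicit false
universe u
open CategoryTheory
open Hyper

namespace Groth.Agent.S0898


section Aux

open CategoryTheory.Limits

variable {C : Type u} [SmallCategory C] (J : GrothendieckTopology C)

lemma comp_aux {K L M : FormalCoproduct.{u} C} (f : K ⟶ L) (g : L ⟶ M)
    (hf : Hyper.IsSRCovering J f) (hg : Hyper.IsSRCovering J g) :
    Hyper.IsSRCovering J (f ≫ g) := by
  intro m
  refine J.transitive (hg m) _ ?_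
  intro Y h hh
  obtain ⟨⟨l, hl⟩, a, rfl⟩ := (Sieve.mem_ofArrows_iff _ _ _).1 hh
  subst hl
  refine J.superset_covering ?_ (J.pullback_stable a (hf l))
  intro Z b hb
  obtain ⟨⟨i, hi⟩, c, hc⟩ := (Sieve.mem_ofArrows_iff _ _ _).1 hb
  subst hi
  have hc' : b ≫ a = c ≫ f.φ i := by
    have hc2 := hc
    simpa using hc2
  refine (Sieve.mem_ofArrows_iff _ _ _).2 ⟨⟨i, rfl⟩, c, ?_⟩
  show b ≫ a ≫ g.φ (f.f i) ≫ 𝟙 _ = c ≫ (f.φ i ≫ g.φ (f.f i)) ≫ 𝟙 _
  simp only [Category.comp_id]
  rw [← Category.assoc, hc', Category.assoc]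

lemma of_section {K L : FormalCoproduct.{u} C} (f : K ⟶ L) (s : L ⟶ K) (hs : s ≫ f = 𝟙 L) :
    Hyper.IsSRCovering J f := by
  intro j
  obtain ⟨h₁, h₂⟩ := (FormalCoproduct.hom_ext_iff _ _).1 hs
  apply J.covering_of_eq_top
  rw [← Sieve.id_mem_iff_eq_top]
  refine (Sieve.mem_ofArrows_iff _ _ _).2 ⟨⟨s.f j, congrFun h₁ j⟩, s.φ j, ?_⟩
  have h3 := h₂ j
  rw [← Category.assoc]
  exact h3.symm

lemma pullbackCone_fst_aux [HasPullbacks C] {K L L' : FormalCoproduct.{u} C} (f : K ⟶ L)
    (g : L' ⟶ L) (hf : Hyper.IsSRCovering J f) :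
    Hyper.IsSRCovering J
      (FormalCoproduct.pullbackCone g f (fun _ => pullback.cone _ _)).fst := by
  intro j'
  refine J.superset_covering ?_ (J.pullback_stable (g.φ j') (hf (g.f j')))
  intro Z b hb
  obtain ⟨⟨k, hk⟩, c, hc⟩ := (Sieve.mem_ofArrows_iff _ _ _).1 hb
  have hc2 : b ≫ g.φ j' = c ≫ f.φ k ≫ eqToHom (congrArg L.obj hk) := hc
  have cond : b ≫ (g.φ j' ≫ eqToHom (congrArg L.obj hk.symm)) = c ≫ f.φ k := by
    rw [← Category.assoc, hc2]
    simp
  refine (Sieve.mem_ofArrows_iff _ _ _).2 ⟨⟨⟨(j', k), hk.symm⟩, rfl⟩, pullback.lift b c cond, ?_⟩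
  have e1 : pullback.lift b c cond ≫ pullback.fst _ _ = b := pullback.lift_fst _ _ _
  show b = pullback.lift b c cond ≫ (pullback.fst _ _ ≫ 𝟙 _)
  rw [Category.comp_id, e1]

end Aux

open CategoryTheory.Limits in
/-- Parts (1) and (2), about covering morphisms between semi-representable objects (formal coproducts)
of a site: (1) the composite of two covering morphisms is a covering, and (2) for a site with fibre
products, the base change of a covering K -> L along any L' -> L (which exists) is a covering L' x_L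
K -> L'. -/
theorem result {C : Type u} [SmallCategory C] (J : GrothendieckTopology C) :
    (∀ {K L M : FormalCoproduct.{u} C} (f : K ⟶ L) (g : L ⟶ M),
      Hyper.IsSRCovering J f → Hyper.IsSRCovering J g → Hyper.IsSRCovering J (f ≫ g)) ∧
    (∀ [HasPullbacks C] {K L L' : FormalCoproduct.{u} C} (f : K ⟶ L) (g : L' ⟶ L),
      Hyper.IsSRCovering J f → HasPullback g f ∧ ∀ [HasPullback g f], Hyper.IsSRCovering J (pullback.fst g f)) := by
  refine ⟨fun f g hf hg => comp_aux J f g hf hg, ?_⟩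
  intro _ K L L' f g hf
  refine ⟨inferInstance, ?_⟩
  intro inst
  have hpbk := FormalCoproduct.isPullback g f (fun _ => pullback.cone _ _)
    (fun _ => pullback.isLimit _ _)
  have e : pullback.fst g f = hpbk.isoPullback.inv ≫
      (FormalCoproduct.pullbackCone g f (fun _ => pullback.cone _ _)).fst :=
    (hpbk.isoPullback_inv_fst).symm
  rw [e]
  exact comp_aux J _ _ (of_section J _ hpbk.isoPullback.hom (Iso.hom_inv_id _))
    (pullbackCone_fst_aux J f g hf)

end Groth.Agent.S0898
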