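import Groth.Statements.S0900
import Groth.Agent.Lib.Helper2.KInj.RDerivedProd
import Groth.Agent.Lib.Helper2.KInj.RlimMap

set_option autoImplicit false
universe v u
open CategoryTheory
open CohDer

namespace Groth.Agent.S0900

open CategoryTheory.Limits in
/-- Let F : A -> B be an additive functor between abelian categories with A Grothendieck abelian, B
having exact countable products (here: ℕ-indexed products exist and preserve epimorphisms) and F
commuting with ℕ-indexed products. Then the total right derived functor RF : D(A) -> D(B) (whose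
existence is assumed as an instance argument; it exists because A has enough K-injective complexes)
sends a derived limit of an inverse system (K_n) to a derived limit of (RF K_n). The relevant
countable products in the derived categories are assumed to exist. -/
theorem result {A : Type u} [Category.{v} A] [Abelian A] [IsGrothendieckAbelian.{v} A]
    [HasDerivedCategory.{v} A] {B : Type u} [Category.{v} B] [Abelian B] [HasDerivedCategory.{v} B]
    [HasProductsOfShape ℕ B] [(lim : (Discrete ℕ ⥤ B) ⥤ B).PreservesEpimorphisms]
    (F : A ⥤ B) [F.Additive] [PreservesLimitsOfShape (Discrete ℕ) F]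
    [(F.mapHomotopyCategory (ComplexShape.up ℤ) ⋙ DerivedCategory.Qh).HasRightDerivedFunctor
      (HomotopyCategory.quasiIso A (ComplexShape.up ℤ))]
    (K : ℕ → DerivedCategory A) (t : ∀ n, K (n + 1) ⟶ K n) (L : DerivedCategory A) [HasProduct K]
    [HasProduct fun n => ((F.mapHomotopyCategory (ComplexShape.up ℤ) ⋙ DerivedCategory.Qh).totalRightDerived
      DerivedCategory.Qh (HomotopyCategory.quasiIso A (ComplexShape.up ℤ))).obj (K n)]
    (hL : DCoh.IsRlim K t L) :
    DCoh.IsRlim
      (fun n => ((F.mapHomotopyCategory (ComplexShape.up ℤ) ⋙ DerivedCategory.Qh).totalRightDerived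
        DerivedCategory.Qh (HomotopyCategory.quasiIso A (ComplexShape.up ℤ))).obj (K n))
      (fun n => ((F.mapHomotopyCategory (ComplexShape.up ℤ) ⋙ DerivedCategory.Qh).totalRightDerived
        DerivedCategory.Qh (HomotopyCategory.quasiIso A (ComplexShape.up ℤ))).map (t n))
      (((F.mapHomotopyCategory (ComplexShape.up ℤ) ⋙ DerivedCategory.Qh).totalRightDerived
        DerivedCategory.Qh (HomotopyCategory.quasiIso A (ComplexShape.up ℤ))).obj L) := by
  classical
  haveI h23 : (HomotopyCategory.subcategoryAcyclic A).trW.HasTwoOutOfThreeProperty := by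
    rw [← HomotopyCategory.quasiIso_eq_trW_subcategoryAcyclic]
    infer_instance
  haveI hRD : ((F.mapHomotopyCategory (ComplexShape.up ℤ) ⋙ DerivedCategory.Qh).totalRightDerived
      DerivedCategory.Qh (HomotopyCategory.quasiIso A (ComplexShape.up ℤ))).IsRightDerivedFunctor
      ((F.mapHomotopyCategory (ComplexShape.up ℤ) ⋙ DerivedCategory.Qh).totalRightDerivedUnit
        DerivedCategory.Qh (HomotopyCategory.quasiIso A (ComplexShape.up ℤ)))
      (HomotopyCategory.subcategoryAcyclic A).trW :=
    Groth.Agent.Lib.Helper2.RightTri.isRightDerivedFunctor_of_eq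
      (HomotopyCategory.quasiIso_eq_trW_subcategoryAcyclic A) DerivedCategory.Qh _ _ _
  have hres : ∀ K : HomotopyCategory A (ComplexShape.up ℤ),
      ∃ (Y : HomotopyCategory A (ComplexShape.up ℤ)) (g : K ⟶ Y),
        (HomotopyCategory.subcategoryAcyclic A).rightOrthogonal Y ∧
        (HomotopyCategory.subcategoryAcyclic A).trW g := by
    intro K
    obtain ⟨Y, g, h1, h2⟩ := Groth.Agent.Lib.Helper2.exists_local_resolution
      (Groth.Agent.Lib.Helper2.KInj.hKinjG (A := A)) K
    refine ⟨Y, g, ?_, ?_⟩
    · rwa [HomotopyCategory.quasiIso_eq_trW_subcategoryAcyclic, ObjectProperty.isLocal_trW] at h1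
    · rwa [HomotopyCategory.quasiIso_eq_trW_subcategoryAcyclic] at h2
  obtain ⟨cs, tri⟩ := Groth.Agent.Lib.Helper2.RightTri.exists_isTriangulated
    (HomotopyCategory.subcategoryAcyclic A) DerivedCategory.Qh hres
    (F.mapHomotopyCategory (ComplexShape.up ℤ) ⋙ DerivedCategory.Qh)
    ((F.mapHomotopyCategory (ComplexShape.up ℤ) ⋙ DerivedCategory.Qh).totalRightDerived
      DerivedCategory.Qh (HomotopyCategory.quasiIso A (ComplexShape.up ℤ)))
    ((F.mapHomotopyCategory (ComplexShape.up ℤ) ⋙ DerivedCategory.Qh).totalRightDerivedUnit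
        DerivedCategory.Qh (HomotopyCategory.quasiIso A (ComplexShape.up ℤ)))
  haveI : HasExactLimitsOfShape (Discrete ℕ) B := hasExactLimitsOfShape_of_preservesEpi B _
  haveI := Groth.Agent.Lib.Helper2.KInj.preservesLimit_totalRightDerived F _
    ((F.mapHomotopyCategory (ComplexShape.up ℤ) ⋙ DerivedCategory.Qh).totalRightDerivedUnit
        DerivedCategory.Qh (HomotopyCategory.quasiIso A (ComplexShape.up ℤ))) K
  exact Groth.Agent.Lib.Helper2.RightTri.isRlim_map _ K t L hL

end Groth.Agent.S0900
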