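import Groth.Statements.S0904
-- import your own Groth.Agent.* helpers here

set_option autoImplicit false
universe u
open CategoryTheory
open CohTop

namespace Groth.Agent.S0904

/-- Abelian sheaves, for which every continuous map is flat: for a continuous map f : X -> Y and an
injective abelian sheaf I on X, the direct image f_* I is an injective abelian sheaf on Y. -/
theorem result {X Y : TopCat.{u}} (f : X ⟶ Y) (I : CohTop.Ab X) [Injective I] :
    Injective ((CohTop.push f).obj I) := by
  have hflat : RepresentablyFlat (TopologicalSpace.Opens.map f) := inferInstance
  have h1 : Limits.PreservesFiniteLimits (CohTop.pull f) :=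
    Functor.SmallCategories.instPreservesFiniteLimitsSheafSheafPullbackOfRepresentablyFlat
      (TopologicalSpace.Opens.map f) AddCommGrpCat.{u} (Opens.grothendieckTopology Y)
      (Opens.grothendieckTopology X)
  have h2 : (CohTop.pull f).PreservesMonomorphisms :=
    CategoryTheory.preservesMonomorphisms_of_preservesLimitsOfShape _
  have adj : CohTop.pull f ⊣ CohTop.push f := TopCat.Sheaf.pullbackPushforwardAdjunction _ f
  exact Injective.injective_of_adjoint adj I

end Groth.Agent.S0904
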