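import Groth.Statements.S0915
import Groth.Agent.Lib.Helper2.LDer.DCohTor

set_option autoImplicit false
universe u
open CategoryTheory
attribute [local instance] HasDerivedCategory.standard
open DCoh

namespace Groth.Agent.S0915

open AlgebraicGeometry CategoryTheory.Limits in
/-- On a scheme X, let K and L be objects of D(𝒪_X). If K ⊕ L has tor-amplitude in [a, b] then K and L
each have tor-amplitude in [a, b]. (The hypothesis is taken in the flat-representative form and the
conclusion in the derived-tensor form.) -/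
theorem result {X : Scheme.{u}} (K L : DCoh.D X) [HasBinaryBiproduct K L] (a b : ℤ)
    (h : DCoh.HasFlatAmplitudeIn a b (K ⊞ L)) : DCoh.HasTorAmplitudeIn a b K ∧ DCoh.HasTorAmplitudeIn a b L := by
  have key : ∀ (M : DCoh.D X) (ι : M ⟶ K ⊞ L) (π : K ⊞ L ⟶ M), ι ≫ π = 𝟙 M →
      DCoh.HasTorAmplitudeIn a b M := by
    intro M ι π hιπ F _ i hi
    have hz := Groth.Agent.Lib.Helper2.LDer.DC.isZero_HD_of_flatAmplitude F (K ⊞ L) a b h i hi
    let Φ := DCoh.LTensorMod F ⋙ DerivedCategory.homologyFunctor X.Modules i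
    have h1 : 𝟙 (Φ.obj M) = Φ.map ι ≫ Φ.map π := by
      rw [← Φ.map_comp, hιπ, Φ.map_id]
    have h2 : 𝟙 (Φ.obj M) = 0 := by
      rw [h1, hz.eq_of_tgt (Φ.map ι) 0, Limits.zero_comp]
    exact (Limits.IsZero.iff_id_eq_zero _).2 h2
  exact ⟨key K Limits.biprod.inl Limits.biprod.fst Limits.biprod.inl_fst,
    key L Limits.biprod.inr Limits.biprod.snd Limits.biprod.inr_snd⟩

end Groth.Agent.S0915
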