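import Groth.Statements.S0918
import Groth.Agent.Lib.Helper2.Cocone
import Groth.Agent.Lib.Helper2.InjEmbed
import Groth.Agent.Lib.Helper2.Cocone
import Groth.Agent.Lib.Helper2.InjEmbed
-- import your own Groth.Agent.* helpers here

set_option autoImplicit false
universe v u
open CategoryTheory
open CohDer

namespace Groth.Agent.S0918

section Construction

open CategoryTheory.Limits HomologicalComplex
open Groth.Agent.Lib.Helper2

variable {A : Type u} [Category.{v} A] [Abelian A] (J : A ⥤ A) (η : 𝟭 A ⟶ J)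

/-- The component of `η` with normalized type. -/
def ηX (X : A) : X ⟶ J.obj X := η.app X

@[reassoc]
lemma ηX_nat {X Y : A} (f : X ⟶ Y) : f ≫ ηX J η Y = ηX J η X ≫ J.map f := η.naturality f

/-- The contractible complex `E(M)` with `E(M)^n = J(M^n) ⊞ J(M^{n+1})`. -/
noncomputable def Eobj (M : CochainComplex A ℤ) : CochainComplex A ℤ :=
  CochainComplex.of (fun n => J.obj (M.X n) ⊞ J.obj (M.X (n + 1)))
    (fun n => biprod.snd ≫ biprod.inl) (by intro n; simp)

variable (M : CochainComplex A ℤ) (n : ℤ)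

noncomputable def pr₁ : (Eobj J M).X n ⟶ J.obj (M.X n) :=
  (biprod.fst : J.obj (M.X n) ⊞ J.obj (M.X (n + 1)) ⟶ _)

noncomputable def pr₂ : (Eobj J M).X n ⟶ J.obj (M.X (n + 1)) :=
  (biprod.snd : J.obj (M.X n) ⊞ J.obj (M.X (n + 1)) ⟶ _)

noncomputable def in₁ : J.obj (M.X n) ⟶ (Eobj J M).X n :=
  (biprod.inl : _ ⟶ J.obj (M.X n) ⊞ J.obj (M.X (n + 1)))

noncomputable def in₂ : J.obj (M.X (n + 1)) ⟶ (Eobj J M).X n :=
  (biprod.inr : _ ⟶ J.obj (M.X n) ⊞ J.obj (M.X (n + 1)))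

@[reassoc (attr := simp)]
lemma in₁_pr₁ : in₁ J M n ≫ pr₁ J M n = 𝟙 _ := biprod.inl_fst

@[reassoc (attr := simp)]
lemma in₁_pr₂ : in₁ J M n ≫ pr₂ J M n = 0 := biprod.inl_snd

variable {M n} in
lemma hom_ext_to {Z : A} {f g : Z ⟶ (Eobj J M).X n} (h1 : f ≫ pr₁ J M n = g ≫ pr₁ J M n)
    (h2 : f ≫ pr₂ J M n = g ≫ pr₂ J M n) : f = g :=
  biprod.hom_ext _ _ h1 h2

lemma Eobj_d : (Eobj J M).d n (n + 1) = pr₂ J M n ≫ in₁ J M (n + 1) := by
  dsimp only [Eobj]
  rw [CochainComplex.of_d]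
  rfl

variable {M n} in
noncomputable def liftE {Z : A} (a : Z ⟶ J.obj (M.X n)) (b : Z ⟶ J.obj (M.X (n + 1))) :
    Z ⟶ (Eobj J M).X n :=
  (biprod.lift a b : Z ⟶ J.obj (M.X n) ⊞ J.obj (M.X (n + 1)))

variable {M n} in
@[reassoc (attr := simp)]
lemma liftE_pr₁ {Z : A} (a : Z ⟶ J.obj (M.X n)) (b : Z ⟶ J.obj (M.X (n + 1))) :
    liftE J a b ≫ pr₁ J M n = a := biprod.lift_fst _ _

variable {M n} in
@[reassoc (attr := simp)]
lemma liftE_pr₂ {Z : A} (a : Z ⟶ J.obj (M.X n)) (b : Z ⟶ J.obj (M.X (n + 1))) :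
    liftE J a b ≫ pr₂ J M n = b := biprod.lift_snd _ _

lemma injective_Eobj_X [∀ X, Injective (J.obj X)] : Injective ((Eobj J M).X n) := by
  change Injective (J.obj (M.X n) ⊞ J.obj (M.X (n + 1)))
  infer_instance

variable {M} in
noncomputable def Emap {M' : CochainComplex A ℤ} (f : M ⟶ M') : Eobj J M ⟶ Eobj J M' where
  f n := liftE J (pr₁ J M n ≫ J.map (f.f n)) (pr₂ J M n ≫ J.map (f.f (n + 1)))
  comm' := by
    rintro n _ rfl
    rw [Eobj_d, Eobj_d]
    apply hom_ext_to <;> simp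

variable {M} in
@[reassoc (attr := simp)]
lemma Emap_f_pr₁ {M' : CochainComplex A ℤ} (f : M ⟶ M') :
    (Emap J f).f n ≫ pr₁ J M' n = pr₁ J M n ≫ J.map (f.f n) := liftE_pr₁ _ _ _

variable {M} in
@[reassoc (attr := simp)]
lemma Emap_f_pr₂ {M' : CochainComplex A ℤ} (f : M ⟶ M') :
    (Emap J f).f n ≫ pr₂ J M' n = pr₂ J M n ≫ J.map (f.f (n + 1)) := liftE_pr₂ _ _ _

lemma Emap_id : Emap J (𝟙 M) = 𝟙 _ := by
  ext n
  apply hom_ext_to <;> simp

variable {M} in
lemma Emap_comp {M' M'' : CochainComplex A ℤ} (f : M ⟶ M') (g : M' ⟶ M'') :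
    Emap J (f ≫ g) = Emap J f ≫ Emap J g := by
  ext n
  apply hom_ext_to <;> simp

/-- The natural termwise monomorphism `M ⟶ E(M)`. -/
noncomputable def ιE : M ⟶ Eobj J M where
  f n := liftE J (ηX J η (M.X n)) (M.d n (n + 1) ≫ ηX J η (M.X (n + 1)))
  comm' := by
    rintro n _ rfl
    rw [Eobj_d]
    apply hom_ext_to <;> simp

@[reassoc (attr := simp)]
lemma ιE_f_pr₁ : (ιE J η M).f n ≫ pr₁ J M n = ηX J η (M.X n) := liftE_pr₁ _ _ _

@[reassoc (attr := simp)]
lemma ιE_f_pr₂ : (ιE J η M).f n ≫ pr₂ J M n = M.d n (n + 1) ≫ ηX J η (M.X (n + 1)) :=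
  liftE_pr₂ _ _ _

variable {M} in
lemma ιE_naturality {M' : CochainComplex A ℤ} (f : M ⟶ M') :
    ιE J η M ≫ Emap J f = f ≫ ιE J η M' := by
  ext n
  apply hom_ext_to <;> simp [← ηX_nat, ← ηX_nat_assoc]

lemma mono_ιE_f (hη : ∀ X, Mono (η.app X)) : Mono ((ιE J η M).f n) := by
  haveI : Mono (ηX J η (M.X n)) := hη (M.X n)
  exact mono_of_mono_fac (ιE_f_pr₁ J η M n)

/-- The quotient `Q(M) = E(M)/M`. -/
noncomputable abbrev Qobj : CochainComplex A ℤ := cokernel (ιE J η M)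

noncomputable abbrev πQ : Eobj J M ⟶ Qobj J η M := cokernel.π (ιE J η M)

lemma ιE_πQ : ιE J η M ≫ πQ J η M = 0 := cokernel.condition _

variable {M} in
noncomputable def Qmap {M' : CochainComplex A ℤ} (f : M ⟶ M') : Qobj J η M ⟶ Qobj J η M' :=
  cokernel.map (ιE J η M) (ιE J η M') f (Emap J f) (ιE_naturality J η f)

variable {M} in
@[reassoc]
lemma πQ_Qmap {M' : CochainComplex A ℤ} (f : M ⟶ M') :
    πQ J η M ≫ Qmap J η f = Emap J f ≫ πQ J η M' :=
  cokernel.π_desc _ _ _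

lemma Qmap_id : Qmap J η (𝟙 M) = 𝟙 _ := by
  rw [← cancel_epi (πQ J η M), πQ_Qmap, Emap_id, Category.id_comp, Category.comp_id]

variable {M} in
lemma Qmap_comp {M' M'' : CochainComplex A ℤ} (f : M ⟶ M') (g : M' ⟶ M'') :
    Qmap J η (f ≫ g) = Qmap J η f ≫ Qmap J η g := by
  rw [← cancel_epi (πQ J η M), πQ_Qmap, πQ_Qmap_assoc, πQ_Qmap, Emap_comp, Category.assoc]

lemma shortExact (hη : ∀ X, Mono (η.app X)) :
    (ShortComplex.mk (ιE J η M) (πQ J η M) (ιE_πQ J η M)).ShortExact := by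
  have : ∀ n, Mono ((ιE J η M).f n) := fun n => mono_ιE_f J η M n hη
  have : Mono (ιE J η M) := HomologicalComplex.mono_of_mono_f _ inferInstance
  exact ShortComplex.ShortExact.mk (ShortComplex.exact_cokernel (ιE J η M))

omit M n in
lemma map_congr {K₁ L₁ K₂ L₂ : CochainComplex A ℤ} (φ₁ : K₁ ⟶ L₁) (φ₂ : K₂ ⟶ L₂)
    {a a' : K₁ ⟶ K₂} {b b' : L₁ ⟶ L₂} (ha : a = a') (hb : b = b') (comm : φ₁ ≫ b = a ≫ φ₂) :
    CochainComplex.mappingCone.map φ₁ φ₂ a b comm =
      CochainComplex.mappingCone.map φ₁ φ₂ a' b' (by subst ha hb; exact comm) := by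
  subst ha hb
  rfl

omit M n in
/-- The functor `N`. -/
noncomputable def Nfun : CochainComplex A ℤ ⥤ CochainComplex A ℤ where
  obj M := (CochainComplex.mappingCone (πQ J η M))⟦(-1 : ℤ)⟧
  map {M M'} f := (CochainComplex.mappingCone.map (πQ J η M) (πQ J η M') (Emap J f) (Qmap J η f)
    (πQ_Qmap J η f))⟦(-1 : ℤ)⟧'
  map_id M := by
    rw [map_congr _ _ (Emap_id J M) (Qmap_id J η M), CochainComplex.mappingCone.map_id,
      CategoryTheory.Functor.map_id]
  map_comp {M M' M''} f g := by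
    rw [map_congr _ _ (Emap_comp J f g) (Qmap_comp J η f g),
      CochainComplex.mappingCone.map_comp _ _ _ _ _ (πQ_Qmap J η f) _ _ (πQ_Qmap J η g),
      CategoryTheory.Functor.map_comp]

omit M n in
/-- The natural transformation `j`. -/
noncomputable def jnat : 𝟭 (CochainComplex A ℤ) ⟶ Nfun J η where
  app M := (shiftFunctorCompIsoId (CochainComplex A ℤ) (1 : ℤ) (-1) (by omega)).inv.app M ≫
    (Cocone.jhat (ιE J η M) (πQ J η M) (ιE_πQ J η M))⟦(-1 : ℤ)⟧'
  naturality {M M'} f := by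
    have h1 := (shiftFunctorCompIsoId (CochainComplex A ℤ) (1 : ℤ) (-1)
      (by omega)).inv.naturality f
    have h2 := Cocone.jhat_naturality (ιE J η M) (πQ J η M) (ιE_πQ J η M) (ιE J η M')
      (πQ J η M') (ιE_πQ J η M') f (Emap J f) (Qmap J η f) (ιE_naturality J η f)
      (πQ_Qmap J η f)
    change f ≫ ((shiftFunctorCompIsoId (CochainComplex A ℤ) (1 : ℤ) (-1) (by omega)).inv.app M' ≫
      (Cocone.jhat (ιE J η M') (πQ J η M') (ιE_πQ J η M'))⟦(-1 : ℤ)⟧') =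
      ((shiftFunctorCompIsoId (CochainComplex A ℤ) (1 : ℤ) (-1) (by omega)).inv.app M ≫
      (Cocone.jhat (ιE J η M) (πQ J η M) (ιE_πQ J η M))⟦(-1 : ℤ)⟧') ≫
        (CochainComplex.mappingCone.map (πQ J η M) (πQ J η M') (Emap J f) (Qmap J η f)
          (πQ_Qmap J η f))⟦(-1 : ℤ)⟧'
    rw [Category.assoc, ← CategoryTheory.Functor.map_comp, h2, CategoryTheory.Functor.map_comp]
    exact (reassoc_of% h1) _

end Construction


/-- Let A be a Grothendieck abelian category. There are an endofunctor N of the category of cochain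
complexes and a natural transformation j from the identity to N such that for every complex M: j_M
is a termwise monomorphism and a quasi-isomorphism, and for every n the map M^n -> N(M)^n factors
through a monomorphism I -> N(M)^n from an injective object I. -/
theorem result {A : Type u} [Category.{v} A] [Abelian A]
    [IsGrothendieckAbelian.{v} A] :
    ∃ (N : CochainComplex A ℤ ⥤ CochainComplex A ℤ) (j : 𝟭 _ ⟶ N),
      ∀ M : CochainComplex A ℤ, (∀ n : ℤ, Mono ((j.app M).f n)) ∧ QuasiIso (j.app M) ∧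
        ∀ n : ℤ, ∃ (I : A) (_ : Injective I) (a : M.X n ⟶ I) (b : I ⟶ (N.obj M).X n),
          Mono b ∧ a ≫ b = (j.app M).f n := by
  obtain ⟨J, η, hJ⟩ := Groth.Agent.Lib.Helper2.exists_functorial_injective_embedding.{v} A
  have hη : ∀ X, Mono (η.app X) := fun X => (hJ X).2
  haveI : ∀ X, Injective (J.obj X) := fun X => (hJ X).1
  refine ⟨Nfun J η, jnat J η, fun M => ?_⟩
  haveI : ∀ n, Mono ((ιE J η M).f n) := fun n => mono_ιE_f J η M n hη
  have hS := shortExact J η M hη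
  let e := (shiftFunctorCompIsoId (CochainComplex A ℤ) (1 : ℤ) (-1) (by omega)).inv.app M
  have hiso : ∀ n : ℤ, IsIso (e.f n) := fun n =>
    (inferInstance : IsIso ((HomologicalComplex.eval A (ComplexShape.up ℤ) n).map e))
  have hmono : ∀ m : ℤ, Mono ((CochainComplex.mappingCone.inl (πQ J η M)).v (m + 1) m
      (by omega)) := fun m =>
    mono_of_mono_fac (CochainComplex.mappingCone.inl_v_fst_v (πQ J η M) (m + 1) m (by omega))
  refine ⟨fun n => ?_, ?_, fun n => ?_⟩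
  · haveI := hiso n
    haveI : Mono (((Groth.Agent.Lib.Helper2.Cocone.jhat (ιE J η M) (πQ J η M)
        (ιE_πQ J η M))⟦(-1 : ℤ)⟧').f n) :=
      Groth.Agent.Lib.Helper2.Cocone.mono_jhat_f (ιE J η M) (πQ J η M) (ιE_πQ J η M) (n + -1)
    change Mono (e.f n ≫ ((Groth.Agent.Lib.Helper2.Cocone.jhat (ιE J η M) (πQ J η M)
        (ιE_πQ J η M))⟦(-1 : ℤ)⟧').f n)
    exact mono_comp (e.f n) _
  · have hq1 : QuasiIso (Groth.Agent.Lib.Helper2.Cocone.jhat (ιE J η M) (πQ J η M)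
        (ιE_πQ J η M)) :=
      Groth.Agent.Lib.Helper2.Cocone.quasiIso_jhat _ _ _ hS
    have hq2 : QuasiIso ((Groth.Agent.Lib.Helper2.Cocone.jhat (ιE J η M) (πQ J η M)
        (ιE_πQ J η M))⟦(-1 : ℤ)⟧') := by
      rw [CochainComplex.quasiIso_shift_iff]; exact hq1
    haveI : IsIso e := by dsimp only [e]; infer_instance
    haveI : QuasiIso e := inferInstance
    change QuasiIso (e ≫ (Groth.Agent.Lib.Helper2.Cocone.jhat (ιE J η M) (πQ J η M)
        (ιE_πQ J η M))⟦(-1 : ℤ)⟧')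
    rw [quasiIso_iff_comp_left]
    exact hq2
  · refine ⟨(Eobj J M).X (n + -1 + 1), ?_, e.f n ≫ (ιE J η M).f (n + -1 + 1),
      (CochainComplex.mappingCone.inl (πQ J η M)).v (n + -1 + 1) (n + -1) (by omega),
      hmono (n + -1), ?_⟩
    · change Injective (J.obj (M.X (n + -1 + 1)) ⊞ J.obj (M.X (n + -1 + 1 + 1)))
      infer_instance
    · rw [Category.assoc]
      rfl

end Groth.Agent.S0918
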