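import Groth.Statements.S0919
-- import your own Groth.Agent.* helpers here

set_option autoImplicit false
universe v u
open CategoryTheory
open CohDer
open CategoryTheory.Limits Opposite

namespace Groth.Agent.S0919

open CategoryTheory.Limits in
/-- Let A be a Grothendieck abelian category and F a contravariant functor from A to sets (a functor on
the opposite category). Then F is representable if and only if F turns all small colimits of A into
limits, i.e. preserves small limits as a functor on the opposite category. -/
theorem result {A : Type u} [Category.{v} A] [Abelian A]
    [IsGrothendieckAbelian.{v} A] (F : Aᵒᵖ ⥤ Type v) :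
    F.IsRepresentable ↔ PreservesLimitsOfSize.{v, v} F := by
  constructor
  · intro h
    exact preservesLimits_of_natIso F.reprW
  · intro h
    have hsep : (ObjectProperty.singleton (op (separator A))).IsCoseparating :=
      (isCoseparator_op_iff _).2 (isSeparator_separator A)
    have hadj : F.IsRightAdjoint := isRightAdjoint_of_preservesLimits_of_isCoseparating hsep F
    let L := F.leftAdjoint
    let adj : L ⊣ F := Adjunction.ofIsRightAdjoint F
    refine Functor.RepresentableBy.isRepresentable (Y := (L.obj PUnit).unop) ?_
    exact
      { homEquiv := fun {X} =>
          { toFun := fun g => (adj.homEquiv PUnit (op X) g.op) PUnit.unit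
            invFun := fun x => ((adj.homEquiv PUnit (op X)).symm (TypeCat.ofHom (fun _ => x))).unop
            left_inv := fun g => by
              have : (TypeCat.ofHom fun _ : PUnit => (adj.homEquiv PUnit (op X) g.op) PUnit.unit) =
                  adj.homEquiv PUnit (op X) g.op := by
                ext ⟨⟩; rfl
              dsimp only
              rw [this, Equiv.symm_apply_apply]; rfl
            right_inv := fun x => by
              simp }
        homEquiv_comp := fun {X X'} f g => by
          simp only [Equiv.coe_fn_mk, op_comp]
          rw [adj.homEquiv_naturality_right]
          rfl }

end Groth.Agent.S0919
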