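import Groth.Statements.S0930
import Groth.Agent.S12541
import Groth.Agent.S0904
-- import your own Groth.Agent.* helpers here

set_option autoImplicit false
universe u
open CategoryTheory
attribute [local instance] HasDerivedCategory.standard
open CohTop

namespace Groth.Agent.S0930

/-- For continuous maps f : X -> Y and g : Y -> Z, the composite of the right derived functors Rf_* :
D^+(X) -> D^+(Y) and Rg_* : D^+(Y) -> D^+(Z) is isomorphic to R(g ∘ f)_* (existence of an
isomorphism of functors between bounded below derived categories). -/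
theorem result {X Y Z : TopCat.{u}} (f : X ⟶ Y) (g : Y ⟶ Z) :
    Nonempty ((CohTop.push f).rightDerivedFunctorPlus ⋙ (CohTop.push g).rightDerivedFunctorPlus ≅
      (CohTop.push (f ≫ g)).rightDerivedFunctorPlus) := by
  open Groth.Agent.Lib.Helper2.RDBridge in
  haveI : Limits.PreservesFiniteLimits (push f) := by
    haveI : Limits.PreservesLimitsOfSize.{0, 0} (push f) :=
      (TopCat.Sheaf.pullbackPushforwardAdjunction AddCommGrpCat.{u} f).rightAdjoint_preservesLimits
    exact Limits.PreservesLimitsOfSize.preservesFiniteLimits.{0, 0} _
  haveI : Limits.PreservesFiniteLimits (push g) := by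
    haveI : Limits.PreservesLimitsOfSize.{0, 0} (push g) :=
      (TopCat.Sheaf.pullbackPushforwardAdjunction AddCommGrpCat.{u} g).rightAdjoint_preservesLimits
    exact Limits.PreservesLimitsOfSize.preservesFiniteLimits.{0, 0} _
  have hFG : ∀ I : Ab X, Injective I → IsIso ((push g).rightDerivedFunctorPlusUnit.app
      ((HomotopyCategory.Plus.singleFunctor (Ab Y) 0).obj ((push f).obj I))) := by
    intro I hI
    haveI : Injective ((push f).obj I) := Groth.Agent.S0904.result f I
    exact (isIso_unit_single_iff (push g) ((push f).obj I)).2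
      ⟨inferInstance, racyc_of_injective (push g) _⟩
  haveI h := Groth.Agent.S12541.result (push f) (push g) hFG
  have key : ∀ (α : (push (f ≫ g)).mapHomotopyCategoryPlus ⋙ DerivedCategory.Plus.Qh ⟶
      DerivedCategory.Plus.Qh ⋙
        ((push f).rightDerivedFunctorPlus ⋙ (push g).rightDerivedFunctorPlus))
      (_ : ((push f).rightDerivedFunctorPlus ⋙ (push g).rightDerivedFunctorPlus).IsRightDerivedFunctor
        α (HomotopyCategory.Plus.quasiIso (Ab X))),
      Nonempty ((push f).rightDerivedFunctorPlus ⋙ (push g).rightDerivedFunctorPlus ≅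
        (push (f ≫ g)).rightDerivedFunctorPlus) := fun α _ =>
    ⟨Functor.rightDerivedUnique _ _ α (push (f ≫ g)).rightDerivedFunctorPlusUnit
      (HomotopyCategory.Plus.quasiIso (Ab X))⟩
  exact key _ h

end Groth.Agent.S0930
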