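import Groth.Statements.S0934
import Groth.Agent.Lib.Helper3.LocFreeCrit
import Groth.Agent.Lib.Helper3.QCExact

set_option autoImplicit false
universe u
open CategoryTheory
open Coh

namespace Groth.Agent.S0934

open AlgebraicGeometry Groth.Agent.Lib.Helper3 Groth.Agent.Lib.Helper3.InvGen in
theorem hom_ext_sec0934 {X : Scheme.{u}} {L : X.Modules} {s t : Coh.structureModule X ⟶ L}
    (h : ∀ U, sec s U = sec t U) : s = t := by
  apply Scheme.Modules.hom_ext
  intro U
  ext a
  have h1 := app_eq_smul_sec s U a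
  have h2 := app_eq_smul_sec t U a
  rw [h U] at h1
  exact h1.trans h2.symm

open AlgebraicGeometry Groth.Agent.Lib.Helper3 Groth.Agent.Lib.Helper3.InvGen
  Groth.Agent.Lib.Helper3.QCSec in
theorem homOfSec_comp0934 {X : Scheme.{u}} {M N : X.Modules} (f : M ⟶ N) (U : X.Opens)
    (m : Γ(M, U)) :
    homOfSec M U m ≫ (Scheme.Modules.restrictFunctor U.ι).map f = homOfSec N U (f.app U m) := by
  apply hom_ext_sec0934
  intro V'
  rw [sec_comp]
  have h1 := sec_homOfSec M U m V'
  have h2 := sec_homOfSec N U (f.app U m) V'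
  change (show Γ(N, U.ι ''ᵁ V') from _) = (show Γ(N, U.ι ''ᵁ V') from _)
  rw [h2]
  change f.app (U.ι ''ᵁ V') (show Γ(M, U.ι ''ᵁ V') from sec (homOfSec M U m) V') = _
  rw [h1, QCExact.app_res']

open AlgebraicGeometry in
theorem mem_finset_inf0934 {X : Scheme.{u}} {ι : Type*} (s : Finset ι) (W : ι → X.Opens) (x : X)
    (h : ∀ i ∈ s, x ∈ W i) : x ∈ s.inf W := by
  classical
  induction s using Finset.induction_on with
  | empty => exact trivial
  | insert a s ha ih =>
    rw [Finset.inf_insert]
    exact ⟨h a (Finset.mem_insert_self a s), ih (fun i hi => h i (Finset.mem_insert_of_mem hi))⟩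

open AlgebraicGeometry Groth.Agent.Lib.Helper3 Groth.Agent.Lib.Helper3.InvGen
  Groth.Agent.Lib.Helper3.QCSec Groth.Agent.Lib.Helper3.FreeBasis in

open AlgebraicGeometry in
/-- Schemes; E finite locally free, which on a scheme is locally the same as a direct summand of a
finite free module: let p : G -> F be an epimorphism of O_X-modules and φ : E -> F a morphism with E
finite locally free. Then every point has an open neighbourhood V and a morphism ψ : E|_V -> G|_V
with ψ ≫ p|_V = φ|_V. -/
theorem result {X : Scheme.{u}} {E F G : X.Modules} (p : G ⟶ F) [Epi p] (φ : E ⟶ F)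
    (hE : FlatMod.IsFinLocFree E) (x : X) :
    ∃ (V : X.Opens) (ψ : E.restrict V.ι ⟶ G.restrict V.ι), x ∈ V ∧
      ψ ≫ (Scheme.Modules.restrictFunctor V.ι).map p = (Scheme.Modules.restrictFunctor V.ι).map φ := by
  obtain ⟨U, n, e, hxU, he⟩ := (LocFreeCrit.isFinLocFree_iff.mp hE) x
  have hl : ∀ i : Fin n, ∃ (W' : X.Opens) (hW' : W' ≤ U) (_ : x ∈ W') (t : Γ(G, W')),
      p.app W' t = res F hW' (φ.app U (e i)) :=
    fun i => QCExact.exists_local_lift p U (φ.app U (e i)) x hxU
  choose W hW hxW t ht using hl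
  let V : X.Opens := U ⊓ Finset.univ.inf W
  have hVU : V ≤ U := inf_le_left
  have hVW : ∀ i, V ≤ W i := fun i => inf_le_right.trans (Finset.inf_le (Finset.mem_univ i))
  have hxV : x ∈ V := ⟨hxU, mem_finset_inf0934 _ W x (fun i _ => hxW i)⟩
  let e' : Fin n → Γ(E, V) := fun i => res E hVU (e i)
  let g : Fin n → Γ(G, V) := fun i => res G (hVW i) (t i)
  have he' : IsBasis E V e' := he.mono hVU
  have hpg : ∀ i, p.app V (g i) = φ.app V (e' i) := by
    intro i
    change p.app V (res G (hVW i) (t i)) = φ.app V (res E hVU (e i))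
    rw [QCExact.app_res', QCExact.app_res', ht i, res_res]
  have := isIso_homOfSecs he'
  refine ⟨V, inv (homOfSecs E V e') ≫ homOfSecs G V g, hxV, ?_⟩
  rw [Category.assoc, IsIso.inv_comp_eq]
  apply Limits.Sigma.hom_ext
  intro i
  change inj (V : Scheme.{u}) n i ≫ _ = inj (V : Scheme.{u}) n i ≫ _
  rw [← Category.assoc, ← Category.assoc, inj_homOfSecs, inj_homOfSecs, homOfSec_comp0934,
    homOfSec_comp0934, hpg i]

end Groth.Agent.S0934
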