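import Groth.Statements.S0935
import Groth.Agent.Lib.Helper2.KInj.RlimMap
import Groth.Agent.Lib.Helper2.Stk.Rpush

set_option autoImplicit false
universe u
open CategoryTheory
attribute [local instance] HasDerivedCategory.standard
open DCoh

namespace Groth.Agent.S0935

open AlgebraicGeometry CategoryTheory.Limits in
/-- Let f : X → Y be a morphism of schemes and (K_n)_{n ≥ 0} an inverse system in D(O_X) with derived
limit L. Then Rf_*L is a derived limit of the system (Rf_*K_n). Here Rf_* is the total right derived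
functor of f_* under its existence binder, and the two countable products ∏ K_n and ∏ Rf_*K_n are
assumed to exist. (The published statement is for morphisms of ringed spaces; stated here for
schemes.) -/
theorem result {X Y : Scheme.{u}} (f : X ⟶ Y) [DCoh.HasRpush f]
    (K : ℕ → DCoh.D X) (t : ∀ n, K (n + 1) ⟶ K n) [HasProduct K] [HasProduct fun n => (DCoh.Rpush f).obj (K n)]
    (L : DCoh.D X) (hL : DCoh.IsRlim K t L) :
    DCoh.IsRlim (fun n => (DCoh.Rpush f).obj (K n)) (fun n => (DCoh.Rpush f).map (t n)) ((DCoh.Rpush f).obj L) := by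
  classical
  haveI := Groth.Agent.Lib.Helper2.Stk.hasLpull f
  haveI h23 : (HomotopyCategory.subcategoryAcyclic X.Modules).trW.HasTwoOutOfThreeProperty := by
    rw [← HomotopyCategory.quasiIso_eq_trW_subcategoryAcyclic]
    infer_instance
  haveI hRD : (DCoh.Rpush f).IsRightDerivedFunctor (Groth.Agent.Lib.Helper2.Stk.unitR f)
      (HomotopyCategory.subcategoryAcyclic X.Modules).trW :=
    Groth.Agent.Lib.Helper2.RightTri.isRightDerivedFunctor_of_eq
      (HomotopyCategory.quasiIso_eq_trW_subcategoryAcyclic X.Modules) DerivedCategory.Qh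
      (DCoh.pushKh f) (DCoh.Rpush f) (Groth.Agent.Lib.Helper2.Stk.unitR f)
  have hres : ∀ K : HomotopyCategory X.Modules (ComplexShape.up ℤ),
      ∃ (Y : HomotopyCategory X.Modules (ComplexShape.up ℤ)) (g : K ⟶ Y),
        (HomotopyCategory.subcategoryAcyclic X.Modules).rightOrthogonal Y ∧
        (HomotopyCategory.subcategoryAcyclic X.Modules).trW g := by
    intro K
    obtain ⟨Y, g, h1, h2⟩ := Groth.Agent.Lib.Helper2.exists_local_resolution
      (Groth.Agent.Lib.Helper2.Stk.hKinj X) K
    refine ⟨Y, g, ?_, ?_⟩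
    · rwa [HomotopyCategory.quasiIso_eq_trW_subcategoryAcyclic, ObjectProperty.isLocal_trW] at h1
    · rwa [HomotopyCategory.quasiIso_eq_trW_subcategoryAcyclic] at h2
  obtain ⟨cs, tri⟩ := Groth.Agent.Lib.Helper2.RightTri.exists_isTriangulated
    (HomotopyCategory.subcategoryAcyclic X.Modules) DerivedCategory.Qh hres (DCoh.pushKh f)
    (DCoh.Rpush f) (Groth.Agent.Lib.Helper2.Stk.unitR f)
  haveI : PreservesLimit (Discrete.functor K) (DCoh.Rpush f) :=
    haveI := (Groth.Agent.Lib.Helper2.Stk.LpullRpushAdj f).rightAdjoint_preservesLimits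
    inferInstance
  exact Groth.Agent.Lib.Helper2.RightTri.isRlim_map (DCoh.Rpush f) K t L hL

end Groth.Agent.S0935
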