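import Groth.Statements.S0936
import Groth.Agent.Lib.Helper5.CompactExt

set_option autoImplicit false
universe u
open CategoryTheory
open CohSite

namespace Groth.Agent.S0936

open Opposite CategoryTheory.Limits in
noncomputable instance (priority := high) hasCoprodSh {C : Type u} [SmallCategory C]
    (J : GrothendieckTopology C) (κ : Type u) :
    HasColimitsOfShape (Discrete κ) (Sheaf J AddCommGrpCat.{u}) :=
  Sheaf.instHasColimitsOfShape


open Opposite CategoryTheory.Limits in
/-- Abelian sheaves, O = Z: let U be an object of a site such that each functor F ↦ H^p(U, F) on abelian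
sheaves preserves direct sums. Then for every family (M_i) of objects of the derived category of
abelian sheaves which is uniformly bounded below and whose direct sum exists, the canonical map ⊕_i
Hom(Z[h_U]^#, M_i) -> Hom(Z[h_U]^#, ⊕_i M_i) is bijective. -/
theorem result {C : Type u} [SmallCategory C] (J : GrothendieckTopology C)
    (U : C) [HasDerivedCategory.{u} (Sheaf J AddCommGrpCat.{u})]
    (h : ∀ (p : ℕ) (ι : Type u), PreservesColimitsOfShape (Discrete ι)
      ((Sheaf.cohomologyPresheafFunctor J p).flip.obj (op U)))
    {I : Type u} (M : I → DerivedCategory (Sheaf J AddCommGrpCat.{u})) [HasCoproduct M] (a : ℤ)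
    (hM : ∀ i, (M i).IsGE a) :
    Function.Bijective (CohDer.homSumToHomCoprod
      ((DerivedCategory.singleFunctor (Sheaf J AddCommGrpCat.{u}) 0).obj (CohCx.freeSheaf J U)) M) := by
  haveI : ((DerivedCategory.singleFunctor (Sheaf J AddCommGrpCat.{u}) 0).obj
      (CohCx.freeSheaf J U)).IsLE 0 := inferInstance
  refine Groth.Agent.Lib.Helper5.CompactBdd.bijective_of_isFin (fun φ => ?_)
  refine Groth.Agent.Lib.Helper5.CompactBdd.isFin_of_isGE _ ?_ a M hM φ
  intro b κ B ψ
  exact Groth.Agent.Lib.Helper5.CompactBdd.isFin_single_of_preserves (CohCx.freeSheaf J U)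
    (fun p κ => h p κ) b κ B ψ

end Groth.Agent.S0936
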