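import Groth.Statements.S0938
import Mathlib
import Groth.Agent.Lib.Helper17.GammaFun

set_option autoImplicit false
universe u
open CategoryTheory
open Coh

namespace Groth.Agent.S0938

open AlgebraicGeometry CategoryTheory.Limits in
/-- For a scheme X with R = Γ(X, O_X), the full subcategory of O_X-modules which are retracts of a
finite free O_X-module is equivalent to the full subcategory of R-modules which are finite and
projective (existence of an equivalence of categories). The published statement is for ringed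
spaces; stated here for schemes. -/
theorem result {X : Scheme.{u}} :
    Nonempty ((ObjectProperty.FullSubcategory fun M : X.Modules =>
        ∃ (n : ℕ) (i : M ⟶ FlatMod.freeMod X n) (r : FlatMod.freeMod X n ⟶ M), i ≫ r = 𝟙 M) ≌
      (ObjectProperty.FullSubcategory fun N : ModuleCat.{u} (Γ(X, ⊤)) =>
        Module.Finite (Γ(X, ⊤)) N ∧ Module.Projective (Γ(X, ⊤)) N)) := by
  classical
  let P : ObjectProperty X.Modules := fun M : X.Modules =>
    ∃ (n : ℕ) (i : M ⟶ FlatMod.freeMod X n) (r : FlatMod.freeMod X n ⟶ M), i ≫ r = 𝟙 M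
  let Q : ObjectProperty (ModuleCat.{u} (Γ(X, ⊤))) := fun N : ModuleCat.{u} (Γ(X, ⊤)) =>
    Module.Finite (Γ(X, ⊤)) N ∧ Module.Projective (Γ(X, ⊤)) N
  change Nonempty (P.FullSubcategory ≌ Q.FullSubcategory)
  let F : P.FullSubcategory ⥤ ModuleCat.{u} (Γ(X, ⊤)) :=
    P.ι ⋙ Groth.Agent.Lib.Helper17.GammaFun.Γf X
  have hF : ∀ M, Q (F.obj M) := by
    intro M
    obtain ⟨n, i, r, hir⟩ := M.property
    exact ⟨Groth.Agent.Lib.Helper17.GammaFun.finite_Γf_of_retract i r hir,
      Groth.Agent.Lib.Helper17.GammaFun.projective_Γf_of_retract i r hir⟩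
  haveI : F.Faithful := by
    refine ⟨fun {M M'} φ φ' h => ?_⟩
    obtain ⟨n, i, r, hir⟩ := M.property
    apply ObjectProperty.hom_ext
    have h' : (Groth.Agent.Lib.Helper17.GammaFun.Γf X).map φ.hom =
        (Groth.Agent.Lib.Helper17.GammaFun.Γf X).map φ'.hom := h
    have h1 : r ≫ φ.hom = r ≫ φ'.hom := by
      apply Groth.Agent.Lib.Helper17.GammaFun.Γf_map_injective_of_free
      rw [CategoryTheory.Functor.map_comp, CategoryTheory.Functor.map_comp, h']
    calc φ.hom = (i ≫ r) ≫ φ.hom := by rw [hir, Category.id_comp]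
      _ = (i ≫ r) ≫ φ'.hom := by rw [Category.assoc, h1, Category.assoc]
      _ = φ'.hom := by rw [hir, Category.id_comp]
  haveI : F.Full := by
    refine ⟨fun {M M'} g => ?_⟩
    obtain ⟨n, i, r, hir⟩ := M.property
    obtain ⟨ψ, hψ⟩ := Groth.Agent.Lib.Helper17.GammaFun.Γf_map_surjective_of_free n M'.obj
      ((Groth.Agent.Lib.Helper17.GammaFun.Γf X).map r ≫ g)
    refine ⟨ObjectProperty.homMk (i ≫ ψ), ?_⟩
    change (Groth.Agent.Lib.Helper17.GammaFun.Γf X).map (i ≫ ψ) = g
    rw [CategoryTheory.Functor.map_comp, hψ, ← Category.assoc,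
      ← CategoryTheory.Functor.map_comp, hir, CategoryTheory.Functor.map_id, Category.id_comp]
  let Φ : P.FullSubcategory ⥤ Q.FullSubcategory := Q.lift F hF
  haveI : Φ.EssSurj := by
    refine ⟨fun N => ?_⟩
    haveI := N.property.1
    haveI := N.property.2
    obtain ⟨M, n, i, r, hir, ⟨e⟩⟩ :=
      Groth.Agent.Lib.Helper17.GammaFun.exists_retract_iso (X := X) N.obj
    exact ⟨⟨M, ⟨n, i, r, hir⟩⟩, ⟨Q.isoMk e⟩⟩
  haveI : Φ.IsEquivalence := {}
  exact ⟨Φ.asEquivalence⟩

end Groth.Agent.S0938
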