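import Groth.Statements.S9060
import Groth.Agent.Lib.Helper2.Tot.ModSiteRes
import Groth.Agent.S9078
-- import your own Groth.Agent.* helpers here

set_option autoImplicit false
universe u
open CategoryTheory CategoryTheory.Limits Opposite
attribute [local instance] HasDerivedCategory.standard
open ModSite

namespace Groth.Agent.S9060

/-- On a ringed site (C, O), for every complex G of O-modules there are a K-flat complex K with flat
terms and a quasi-isomorphism K → G which is surjective in every degree. -/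
theorem result
    {C : Type u} [SmallCategory C] {J : GrothendieckTopology C} (O : Sheaf J CommRingCat.{u})
    (G : CochainComplex (ModSite.Mod O) ℤ) :
    ∃ (K : CochainComplex (ModSite.Mod O) ℤ) (q : K ⟶ G), ModSite.IsKFlat K ∧
      (∀ n : ℤ, ModSite.IsFlat (K.X n)) ∧ QuasiIso q ∧ ∀ n : ℤ, Epi (q.f n) := by
  obtain ⟨Kc, π, _, hπ, hbd, hterm, _, c, hc, hcq⟩ := Groth.Agent.S9078.result O G
  have hflat : ∀ (n : ℕ) (i : ℤ), ModSite.IsFlat ((Kc.obj n).X i) := by
    intro n i
    obtain ⟨ι, U, ⟨e⟩⟩ := hterm n i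
    exact Groth.Agent.Lib.Helper2.Tot.MS.isFlat_of_iso_sigma_freeOn _ U e
  refine ⟨colimit Kc, c, ?_, ?_, hcq, ?_⟩
  · apply Groth.Agent.Lib.Helper2.Tot.MS.isKFlat_of_isColimit_nat (colimit.isColimit Kc)
    intro n
    obtain ⟨b, hb⟩ := hbd n
    exact Groth.Agent.Lib.Helper2.Tot.MS.isKFlat_of_isStrictlyLE (Kc.obj n) b (hflat n)
  · intro i
    exact Groth.Agent.Lib.Helper2.Tot.MS.isFlat_of_isColimit_nat
      (Kc ⋙ HomologicalComplex.eval _ _ i) (fun n => hflat n i) _
      (isColimitOfPreserves (HomologicalComplex.eval _ _ i) (colimit.isColimit Kc))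
  · intro i
    have h := hc i.toNat
    haveI : IsIso ((G.ιTruncLE ((i.toNat : ℤ) + 1)).f i) :=
      Groth.Agent.Lib.Helper2.PRes.isIso_ιTruncLE_f G _ i (by
        have := Int.self_le_toNat i
        omega)
    haveI := (hπ i.toNat).2 i
    have h2 : Epi ((colimit.ι Kc i.toNat).f i ≫ c.f i) := by
      rw [← HomologicalComplex.comp_f, h, HomologicalComplex.comp_f]
      infer_instance
    exact epi_of_epi ((colimit.ι Kc i.toNat).f i) (c.f i)

end Groth.Agent.S9060
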