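import Groth.Statements.S0955
import Mathlib
import Groth.Agent.Lib.Helper21.StalkFlatG
import Groth.Agent.S9060

set_option autoImplicit false
universe u
open CategoryTheory
attribute [local instance] HasDerivedCategory.standard
open DCoh

namespace Groth.Agent.S0955

open AlgebraicGeometry in
/-- Every complex G of O_X-modules is the target of a degreewise epimorphic quasi-isomorphism K -> G
from a K-flat complex K all of whose terms are flat. -/
theorem result {X : Scheme.{u}} (G : CochainComplex X.Modules ℤ) :
    ∃ (K : CochainComplex X.Modules ℤ) (q : K ⟶ G), DCoh.IsKFlat K ∧ (∀ n : ℤ, FlatMod.IsFlat (K.X n)) ∧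
      QuasiIso q ∧ ∀ n : ℤ, Epi (q.f n) := by
  obtain ⟨K, q, hK, hfl, hq, hepi⟩ :=
    Groth.Agent.S9060.result (C := TopologicalSpace.Opens X) X.sheaf G
  exact ⟨K, q, hK,
    fun n => Groth.Agent.Lib.Helper21.StalkFlatG.stalkwise_of_isFlat _ (hfl n), hq, hepi⟩

end Groth.Agent.S0955
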