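import Groth.Statements.S0960
import Groth.Agent.Lib.Helper2.Mon.PullTensor
import Groth.Agent.Lib.Helper2.Stk.LpullOpen

set_option autoImplicit false
universe u
open CategoryTheory
attribute [local instance] HasDerivedCategory.standard
open DCoh

namespace Groth.Agent.S0960

open AlgebraicGeometry in
/-- Schemes; second factor given by a K-flat complex L, so that Lf^* L is the plain pullback f^* L: for
f : X -> Y, K in D(O_Y) and a K-flat complex L of O_Y-modules there is an isomorphism Lf^*(K ⊗^L L)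
≅ (Lf^* K) ⊗^L (f^* L). The derived functors are taken under their existence binders; the assertion
is the existence of an isomorphism for each K. -/
theorem result {X Y : Scheme.{u}} (f : X ⟶ Y) [DCoh.HasLpull f] (L : CochainComplex Y.Modules ℤ)
    (hL : DCoh.IsKFlat L) [DCoh.HasLTensorCx L] [DCoh.HasLTensorCx (((Scheme.Modules.pullback f).mapHomologicalComplex (ComplexShape.up ℤ)).obj L)] (K : DCoh.D Y) :
    Nonempty ((DCoh.Lpull f).obj ((DCoh.LTensorCx L).obj K) ≅
      (DCoh.LTensorCx (((Scheme.Modules.pullback f).mapHomologicalComplex (ComplexShape.up ℤ)).obj L)).obj ((DCoh.Lpull f).obj K)) := by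
  classical
  obtain ⟨P, hP, ⟨e⟩⟩ := Groth.Agent.Lib.Helper2.Stk.exists_kflat_model K
  have hLk : Groth.Agent.Lib.Helper2.Tot.KFlat (DCoh.tensorBi (X := Y)) L :=
    (Groth.Agent.Lib.Helper2.Tot.DC.isKFlat_iff L).1 hL
  have hPg : Groth.Agent.Lib.Helper2.LDer.DC.Good P :=
    (Groth.Agent.Lib.Helper2.Mon.good_iff_kflat P).2 hP
  have hPLk := Groth.Agent.Lib.Helper2.Mon.kflat_tensorCx P L hP hLk
  have hfP := Groth.Agent.Lib.Helper2.Stk.kflat_pullback f P hP
  have hfPg : Groth.Agent.Lib.Helper2.LDer.DC.Good ((Groth.Agent.Lib.Helper2.Stk.pullC f).obj P) :=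
    (Groth.Agent.Lib.Helper2.Mon.good_iff_kflat _).2 hfP
  refine ⟨(DCoh.Lpull f).mapIso ((DCoh.LTensorCx L).mapIso e.symm) ≪≫
    (DCoh.Lpull f).mapIso (Groth.Agent.Lib.Helper2.Stk.LT.LTensorCxIso L P hPg) ≪≫
    Groth.Agent.Lib.Helper2.Stk.LpullIso f _ hPLk ≪≫
    DerivedCategory.Q.mapIso (Groth.Agent.Lib.Helper2.Mon.pullTensorCxIso f P L).symm ≪≫
    (Groth.Agent.Lib.Helper2.Stk.LT.LTensorCxIso _ _ hfPg).symm ≪≫
    (DCoh.LTensorCx _).mapIso (Groth.Agent.Lib.Helper2.Stk.LpullIso f P hP).symm ≪≫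
    (DCoh.LTensorCx _).mapIso ((DCoh.Lpull f).mapIso e)⟩


end Groth.Agent.S0960
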