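import Groth.Statements.S0966
import Groth.Agent.Lib.Helper2.Mon.ProjClosed

set_option autoImplicit false
universe u
open CategoryTheory
attribute [local instance] HasDerivedCategory.standard
open DCoh

namespace Groth.Agent.S0966

open AlgebraicGeometry in
/-- Schemes, f a closed immersion; K given by a K-flat complex P so that Lf^*K is f^*P: for E in D(O_X)
there is an isomorphism Rf_* E ⊗^L P ≅ Rf_*(E ⊗^L f^* P), with no perfectness assumption on P. The
derived functors are taken under their existence binders. -/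
theorem result {X Y : Scheme.{u}} (f : X ⟶ Y) [IsClosedImmersion f] [DCoh.HasRpush f]
    (P : CochainComplex Y.Modules ℤ) (hP : DCoh.IsKFlat P)
    [DCoh.HasLTensorCx P] [DCoh.HasLTensorCx (((Scheme.Modules.pullback f).mapHomologicalComplex (ComplexShape.up ℤ)).obj P)] (E : DCoh.D X) :
    Nonempty ((DCoh.LTensorCx P).obj ((DCoh.Rpush f).obj E) ≅
      (DCoh.Rpush f).obj ((DCoh.LTensorCx (((Scheme.Modules.pullback f).mapHomologicalComplex (ComplexShape.up ℤ)).obj P)).obj E)) := by
  classical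
  haveI : CategoryTheory.Limits.PreservesFiniteLimits (Scheme.Modules.pushforward f) :=
    Groth.Agent.Lib.Helper13.ClImmPC.preservesFiniteLimits_pushforward f
  haveI : CategoryTheory.Limits.PreservesFiniteColimits (Scheme.Modules.pushforward f) :=
    Groth.Agent.Lib.Helper13.ClImmPC.preservesFiniteColimits_pushforward f
  have hPk : Groth.Agent.Lib.Helper2.Tot.KFlat (DCoh.tensorBi (X := Y)) P :=
    (Groth.Agent.Lib.Helper2.Tot.DC.isKFlat_iff P).1 hP
  have hfP := Groth.Agent.Lib.Helper2.Stk.kflat_pullback f P hPk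
  let E' := DerivedCategory.Q.objPreimage E
  let e : DerivedCategory.Q.obj E' ≅ E := DerivedCategory.Q.objObjPreimageIso E
  obtain ⟨a1⟩ := Groth.Agent.Lib.Helper2.Mon.nonempty_Rpush_iso_of_exact f E'
  obtain ⟨a4⟩ := Groth.Agent.Lib.Helper2.Mon.nonempty_Rpush_iso_of_exact f
    ((DCoh.tensorCx.obj E').obj ((Groth.Agent.Lib.Helper2.Stk.pullC f).obj P))
  haveI := Groth.Agent.Lib.Helper2.Stk.LT.isIso_counitT_app_of_kflat P hPk
    ((Groth.Agent.Lib.Helper2.Mon.pushC f).obj E')
  haveI := Groth.Agent.Lib.Helper2.Stk.LT.isIso_counitT_app_of_kflat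
    ((Groth.Agent.Lib.Helper2.Stk.pullC f).obj P) hfP E'
  let a2 := asIso ((Groth.Agent.Lib.Helper2.Stk.LT.counitT P).app
    ((Groth.Agent.Lib.Helper2.Mon.pushC f).obj E'))
  let a5 := asIso ((Groth.Agent.Lib.Helper2.Stk.LT.counitT
    ((Groth.Agent.Lib.Helper2.Stk.pullC f).obj P)).app E')
  exact ⟨(DCoh.LTensorCx P).mapIso ((DCoh.Rpush f).mapIso e.symm ≪≫ a1) ≪≫ a2 ≪≫
    DerivedCategory.Q.mapIso (Groth.Agent.Lib.Helper2.Mon.projCxIso f E' P) ≪≫ a4.symm ≪≫
    (DCoh.Rpush f).mapIso a5.symm ≪≫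
    (DCoh.Rpush f).mapIso ((DCoh.LTensorCx _).mapIso e)⟩


end Groth.Agent.S0966
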