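import Groth.Statements.S0973
import Mathlib
import Groth.Agent.Lib.Helper10.SplitDer

set_option autoImplicit false
universe w v u
open CategoryTheory CategoryTheory.Limits
open CohDer

namespace Groth.Agent.S0973

/-- Let K be an object of the derived category of an abelian category with cohomology concentrated in
degrees a, …, b. Suppose that for all i > j and p ≥ 2 every morphism H^i(K) ⟶ H^j(K)[p] in the
derived category (an element of Ext^p) vanishes. Then K splits: it is isomorphic to ⨁_{a ≤ i ≤ b}
Hⁱ(K)[-i]. -/
theorem result {A : Type u} [Category.{v} A] [Abelian A] [HasDerivedCategory.{w} A]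
    (K : DerivedCategory A) (a b : ℤ) [K.IsGE a] [K.IsLE b]
    (hExt : ∀ (i j : ℤ) (p : ℕ), j < i → 2 ≤ p →
      ∀ f : (DerivedCategory.singleFunctor A 0).obj ((DerivedCategory.homologyFunctor A i).obj K) ⟶
        ((DerivedCategory.singleFunctor A 0).obj ((DerivedCategory.homologyFunctor A j).obj K))⟦(p : ℤ)⟧, f = 0)
    [HasBiproduct (fun i : Finset.Icc a b => (DerivedCategory.singleFunctor A (i : ℤ)).obj ((DerivedCategory.homologyFunctor A (i : ℤ)).obj K))] :
    Nonempty (K ≅ ⨁ (fun i : Finset.Icc a b => (DerivedCategory.singleFunctor A (i : ℤ)).obj ((DerivedCategory.homologyFunctor A (i : ℤ)).obj K))) := by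
  classical
  have hs : ∀ i : ℤ, ∃ s : (DerivedCategory.singleFunctor A i).obj
      ((DerivedCategory.homologyFunctor A i).obj K) ⟶ K,
      IsIso ((DerivedCategory.homologyFunctor A i).map s) := fun i =>
    Groth.Agent.Lib.Helper10.SplitDer.exists_section K a i (fun j hj g =>
      Groth.Agent.Lib.Helper10.SplitDer.ext_translate _ _ i j hj
        (fun p hp f => hExt i j p hj hp f) g)
  choose s hs using hs
  haveI : IsIso (biproduct.desc (fun i : Finset.Icc a b => s (i : ℤ))) := by
    rw [DerivedCategory.isIso_iff]
    intro n
    by_cases hn : n ∈ Finset.Icc a b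
    · exact Groth.Agent.Lib.Helper10.SplitDer.isIso_map_desc
        (DerivedCategory.homologyFunctor A n) _ _ ⟨n, hn⟩ (hs n)
        (fun j hj => Groth.Agent.Lib.Helper10.SplitDer.isZero_homology_single _ _ _
          (fun h => hj (Subtype.ext h.symm)))
    · have h1 : IsZero ((DerivedCategory.homologyFunctor A n).obj
          (⨁ (fun i : Finset.Icc a b => (DerivedCategory.singleFunctor A (i : ℤ)).obj
            ((DerivedCategory.homologyFunctor A (i : ℤ)).obj K)))) :=
        Groth.Agent.Lib.Helper10.SplitDer.isZero_map_biproduct _ _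
          (fun j => Groth.Agent.Lib.Helper10.SplitDer.isZero_homology_single _ _ _
            (fun h => hn (by rw [h]; exact j.2)))
      have h2 : IsZero ((DerivedCategory.homologyFunctor A n).obj K) := by
        rw [Finset.mem_Icc, not_and_or, not_le, not_le] at hn
        rcases hn with h | h
        · exact DerivedCategory.isZero_of_isGE K a n h
        · exact DerivedCategory.isZero_of_isLE K b n h
      exact ⟨⟨0, h1.eq_of_src _ _, h2.eq_of_src _ _⟩⟩
  exact ⟨(asIso (biproduct.desc (fun i : Finset.Icc a b => s (i : ℤ)))).symm⟩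

end Groth.Agent.S0973
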