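import Groth.Statements.S0976
import Groth.Agent.Lib.Helper2.Nine
import Mathlib.CategoryTheory.Triangulated.Orthogonal
-- import your own Groth.Agent.* helpers here

set_option autoImplicit false
universe v u
open CategoryTheory
open CohDer

namespace Groth.Agent.S0976

open CategoryTheory.Pretriangulated in
/-- Let P be a triangulated subcategory of a triangulated category D (an object property containing
zero, stable under shifts, closed under extensions). Consider the class of objects X sitting in a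
distinguished triangle A → X → B → A[1] with P A and B right orthogonal to P. This class is again
stable under shifts and closed under extensions, i.e. satisfies two-out-of-three in distinguished
triangles. -/
theorem result {D : Type u} [Category.{v} D] [Preadditive D] [Limits.HasZeroObject D] [HasShift D ℤ]
    [∀ n : ℤ, (shiftFunctor D n).Additive] [Pretriangulated D] [IsTriangulated D]
    (P : ObjectProperty D) [P.IsTriangulated] :
    ObjectProperty.IsTriangulated (fun X : D => ∃ (A B : D) (f : A ⟶ X) (g : X ⟶ B) (h : B ⟶ (shiftFunctor D (1 : ℤ)).obj A),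
      Triangle.mk f g h ∈ distinguishedTriangles ∧ P A ∧ P.rightOrthogonal B) := by
  refine @ObjectProperty.IsTriangulated.mk _ _ _ _ _ _ _ _ ⟨?_⟩ ⟨fun n => ⟨fun X hX => ?_⟩⟩
    ⟨fun T hT h₁ h₃ => ?_⟩
  · obtain ⟨Z₀, hZ₀, hP₀⟩ := P.exists_prop_of_containsZero
    exact ⟨Z₀, hZ₀, Z₀, _, 𝟙 Z₀, _, _, contractible_distinguished Z₀, hP₀,
      P.rightOrthogonal.prop_of_isZero (Limits.isZero_zero D)⟩
  · obtain ⟨A, B, f, g, h, hT, hA, hB⟩ := hX
    exact ⟨_, _, _, _, _, Triangle.shift_distinguished _ hT n, P.le_shift n _ hA,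
      P.rightOrthogonal.le_shift n _ hB⟩
  · obtain ⟨A₁, B₁, f₁, g₁, h₁', hT₁, hA₁, hB₁⟩ := h₁
    obtain ⟨A₃, B₃, f₃, g₃, h₃', hT₃, hA₃, hB₃⟩ := h₃
    let T₃s := (CategoryTheory.shiftFunctor (Triangle D) (-1 : ℤ)).obj (Triangle.mk f₃ g₃ h₃')
    have hT₃s : T₃s ∈ distinguishedTriangles := Triangle.shift_distinguished _ hT₃ (-1)
    have hA₃s : P T₃s.obj₁ := P.le_shift (-1) _ hA₃
    have hB₃s : P.rightOrthogonal T₃s.obj₃ := P.rightOrthogonal.le_shift (-1) _ hB₃
    let c' : T₃s.obj₂ ⟶ T.obj₁ := T.invRotate.mor₁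
    have hz : (T₃s.mor₁ ≫ c') ≫ g₁ = 0 := hB₁ _ hA₃s
    obtain ⟨φ, hφ⟩ := Triangle.coyoneda_exact₂ _ hT₁ (T₃s.mor₁ ≫ c') hz
    obtain ⟨Z, hZ, g, h, hTφ⟩ := P.distinguished_cocone_triangle φ hA₃s hA₁
    have hTi : Triangle.mk c' T.invRotate.mor₂ T.invRotate.mor₃ ∈ distinguishedTriangles :=
      inv_rot_of_distTriang _ hT
    have hT₃s' : Triangle.mk T₃s.mor₁ T₃s.mor₂ T₃s.mor₃ ∈ distinguishedTriangles := hT₃s
    obtain ⟨Z'', f'', g'', h'', w, w', w'', hT'', hW, -⟩ :=
      Groth.Agent.Lib.Helper2.nine_lemma φ c' T₃s.mor₁ f₁ hφ.symm hTφ hTi hT₃s' hT₁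
    have hZ'' : P.rightOrthogonal Z'' :=
      P.rightOrthogonal.ext_of_isTriangulatedClosed₃ _ hT'' hB₃s hB₁
    exact ObjectProperty.le_isoClosure _ _ ⟨Z, Z'', w, w', w'', hW, hZ, hZ''⟩

end Groth.Agent.S0976
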