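import Groth.Statements.S0977
import Mathlib.CategoryTheory.Triangulated.LocalizingSubcategory
-- import your own Groth.Agent.* helpers here

set_option autoImplicit false
universe v u
open CategoryTheory
open CohDer

namespace Groth.Agent.S0977

open CategoryTheory.Pretriangulated in
/-- The equivalence A ≃ D/B: let A and B be strictly full triangulated subcategories of a triangulated
category D such that every morphism from an object of A to an object of B is zero and every object X
of D sits in a distinguished triangle a → X → b → a[1] with a in A and b in B. Then the composite of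
the inclusion of A with the Verdier quotient functor D → D/B (the localization at the morphisms
whose cone lies in B) is an equivalence. -/
theorem result {D : Type u} [Category.{v} D] [Preadditive D] [Limits.HasZeroObject D] [HasShift D ℤ]
    [∀ n : ℤ, (shiftFunctor D n).Additive] [Pretriangulated D] [IsTriangulated D]
    (A B : ObjectProperty D) [A.IsTriangulated] [A.IsClosedUnderIsomorphisms]
    [B.IsTriangulated] [B.IsClosedUnderIsomorphisms]
    (hAB : ∀ (a b : D), A a → B b → ∀ f : a ⟶ b, f = 0)
    (hdec : ∀ X : D, ∃ (a b : D) (f : a ⟶ X) (g : X ⟶ b) (h : b ⟶ (shiftFunctor D (1 : ℤ)).obj a),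
      Triangle.mk f g h ∈ distinguishedTriangles ∧ A a ∧ B b) :
    (A.ι ⋙ B.trW.Q).IsEquivalence := by
  classical
  -- `A` is left `B`-localizing: every map from `A` to `B` is zero, hence factors through `0`.
  obtain ⟨Z₀, hZ₀, hAZ₀⟩ := A.exists_prop_of_containsZero
  have : A.IsVerdierLeftLocalizing B := ⟨fun {X Y} f hX hY =>
    ⟨Z₀, 0, 0, hAZ₀, B.prop_of_isZero hZ₀, by rw [hAB X Y hX hY f]; simp⟩⟩
  -- the relevant class of morphisms of `A` consists of isomorphisms
  have hW : (B.inverseImage A.ι).trW ≤ MorphismProperty.isomorphisms A.FullSubcategory := by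
    intro X Y f hf
    rw [ObjectProperty.trW_inverseImage_ι_iff] at hf
    obtain ⟨Z, a, b, hT, hZ⟩ := hf
    have hZ0 : Limits.IsZero Z := by
      rw [Limits.IsZero.iff_id_eq_zero]
      exact hAB Z Z hZ.1 hZ.2 _
    have : IsIso f.hom := (Triangle.isZero₃_iff_isIso₁ _ hT).1 hZ0
    have : IsIso (A.ι.map f) := this
    exact isIso_of_reflects_iso f A.ι
  have : (𝟭 A.FullSubcategory).IsLocalization (B.inverseImage A.ι).trW :=
    Functor.IsLocalization.for_id _ hW
  have hff : (A.ι ⋙ B.trW.Q).FullyFaithful :=
    ObjectProperty.IsVerdierLeftLocalizing.fullyFaithful (A := A) (B := B)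
      (L₁ := 𝟭 A.FullSubcategory) (L₂ := B.trW.Q) (F := A.ι ⋙ B.trW.Q) (Functor.leftUnitor _)
  have := hff.full
  have := hff.faithful
  have : (A.ι ⋙ B.trW.Q).EssSurj := by
    refine ⟨fun Y => ?_⟩
    have : B.trW.Q.EssSurj := Localization.essSurj B.trW.Q B.trW
    obtain ⟨a, b, f, g, h, hT, ha, hb⟩ := hdec (B.trW.Q.objPreimage Y)
    have hf : B.trW f := ⟨b, g, h, hT, hb⟩
    have : IsIso (B.trW.Q.map f) := Localization.inverts B.trW.Q B.trW f hf
    exact ⟨⟨a, ha⟩, ⟨asIso (B.trW.Q.map f) ≪≫ B.trW.Q.objObjPreimageIso Y⟩⟩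
  exact { }

end Groth.Agent.S0977
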