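import Groth.Statements.S6585
import Mathlib

set_option autoImplicit false
universe v u
open CategoryTheory CategoryTheory.Limits
open CohDer

namespace Groth.Agent.S6585

open CategoryTheory.Pretriangulated in
/-- Let D be a triangulated category and E, K objects of D. Then Hom(E, K⟦i⟧) = 0 for all integers i if
and only if Hom(E', K) = 0 for every E' in ⟨E⟩, the smallest strictly full saturated triangulated
subcategory of D containing E (the objects obtained from E by shifts, finite direct sums, direct
summands and extensions). -/
theorem result {D : Type u} [Category.{v} D] [Preadditive D] [HasZeroObject D] [HasShift D ℤ]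
    [∀ n : ℤ, (shiftFunctor D n).Additive] [Pretriangulated D] [IsTriangulated D]
    (E K : D) :
    (∀ (i : ℤ) (f : E ⟶ (shiftFunctor D i).obj K), f = 0) ↔
      ∀ (E' : D), (ObjectProperty.singleton E).triangEnvelope E' → ∀ f : E' ⟶ K, f = 0 := by
  let P : ObjectProperty D := (ObjectProperty.singleton K).shiftClosure ℤ
  let Q : ObjectProperty D := P.leftOrthogonal
  haveI : Q.IsStableUnderRetracts := ⟨fun {X Y} r hY Z f hZ => by
    have h1 : r.r ≫ f = 0 := hY _ hZ
    calc f = r.i ≫ r.r ≫ f := by rw [← Category.assoc, r.retract, Category.id_comp]
      _ = 0 := by rw [h1, comp_zero]⟩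
  haveI : Q.IsTriangulated := inferInstance
  constructor
  · intro h E' hE' f
    have hle : ObjectProperty.singleton E ≤ Q := by
      rw [ObjectProperty.singleton_le_iff]
      intro Z g hZ
      obtain ⟨Y, a, e, hY⟩ := hZ
      rw [ObjectProperty.singleton_iff] at hY
      subst hY
      have := h a (g ≫ e.hom)
      rw [← cancel_mono e.hom, zero_comp]
      exact this
    have hle' := (ObjectProperty.triangEnvelope_le_iff (P := ObjectProperty.singleton E) (Q := Q)).2 hle
    exact hle' _ hE' f (ObjectProperty.le_shiftClosure _ _ (by simp))
  · intro h i f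
    have hE : (ObjectProperty.singleton E).triangEnvelope E :=
      ObjectProperty.le_triangEnvelope _ _ (by simp)
    have hE' : (ObjectProperty.singleton E).triangEnvelope ((shiftFunctor D (-i)).obj E) :=
      (ObjectProperty.singleton E).triangEnvelope.le_shift (-i) _ hE
    have h0 := h _ hE' ((shiftFunctor D (-i)).map f ≫ (shiftShiftNeg K i).hom)
    rw [← cancel_mono (shiftShiftNeg K i).inv, Category.assoc, Iso.hom_inv_id, Category.comp_id,
      zero_comp] at h0
    apply (shiftFunctor D (-i)).map_injective
    rw [h0, Functor.map_zero]

end Groth.Agent.S6585
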