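import Groth.Statements.S0978
import Groth.Agent.Lib.Helper2.Brown.Presentation
import Groth.Agent.Lib.Helper2.Brown.CompactHocolim
import Groth.Agent.S1076
import Groth.Agent.S6585
-- import your own Groth.Agent.* helpers here

set_option autoImplicit false
universe v u
open CategoryTheory
open CohDer

namespace Groth.Agent.S0978

open CategoryTheory.Limits in
/-- Let D be a triangulated category with all small direct sums and E a compact object. Then E generates
D (an object admitting only zero maps from all shifts of E is zero) if and only if D is compactly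
generated and every compact object lies in the triangulated envelope of E (objects reachable from E
by shifts, finite sums, direct summands and extensions). -/
theorem result {D : Type u} [Category.{v} D] [Preadditive D] [Limits.HasZeroObject D] [HasShift D ℤ]
    [∀ n : ℤ, (shiftFunctor D n).Additive] [Pretriangulated D] [IsTriangulated D] [HasCoproducts.{v} D]
    [HasColimitsOfShape (Discrete ℕ) D]
    (E : D) (hE : CohDer.IsCompactObject E) :
    CohDer.Generates (fun _ : Unit => E) ↔
      (CohDer.IsCompactlyGenerated D ∧ ∀ X : D, CohDer.IsCompactObject X → ObjectProperty.triangEnvelope (fun Y : D => Y = E) X) := by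
  constructor
  · intro hg
    have hg' : CohDer.Generates (fun _ : PUnit.{v + 1} => E) :=
      fun K hK => hg K (fun _ n f => hK PUnit.unit n f)
    refine ⟨⟨PUnit.{v + 1}, fun _ => E, fun _ => hE, hg'⟩, fun X hX => ?_⟩
    obtain ⟨K, f, i, hL, h0, hstep⟩ :=
      Groth.Agent.Lib.Helper2.Brown.exists_cellular_tower
        (E := fun _ : PUnit.{v + 1} => E) (fun _ => hE) hg' X
    obtain ⟨n, ψ, hψ⟩ :=
      Groth.Agent.Lib.Helper2.Brown.exists_factor_of_isHocolim f hX i hL (𝟙 X)
    obtain ⟨s, E', g, h, hE', hgh⟩ := Groth.Agent.S1076.result (fun _ : PUnit.{v + 1} => E)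
      (fun _ => hE) K f h0 hstep X hX n ψ
    have hE'' : ObjectProperty.triangEnvelope (fun Y : D => Y = E) E' :=
      ObjectProperty.monotone_triangEnvelope (by rintro Y ⟨i, _, rfl⟩; rfl) _ hE'
    exact ObjectProperty.prop_of_retract _
      ⟨g, h ≫ i n, by rw [← Category.assoc, hgh, ← hψ]⟩ hE''
  · rintro ⟨⟨ι, E', hc, hg⟩, henv⟩ K hK
    apply hg
    intro i n f
    refine (Groth.Agent.S6585.result E ((shiftFunctor D n).obj K)).1 ?_ (E' i) ?_ f
    · intro m f'
      have h1 := hK () (n + m) (f' ≫ ((shiftFunctorAdd D n m).app K).inv)
      have h2 : f' = (f' ≫ ((shiftFunctorAdd D n m).app K).inv) ≫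
          ((shiftFunctorAdd D n m).app K).hom := by
        rw [Category.assoc, Iso.inv_hom_id, Category.comp_id]
      rw [h2, h1, Limits.zero_comp]
    · exact ObjectProperty.monotone_triangEnvelope
        (fun Y hY => by rw [ObjectProperty.singleton_iff]; exact hY.symm) _ (henv (E' i) (hc i))

end Groth.Agent.S0978
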