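import Groth.Statements.S0982
import Groth.Agent.Lib.Helper2.TruncFactor
-- import your own Groth.Agent.* helpers here

set_option autoImplicit false
universe w v u
open CategoryTheory CategoryTheory.Limits
open CohDer

namespace Groth.Agent.S0982

/-- Let K : ℕ ⥤ CochainComplex A ℤ be a sequence of cochain maps K₀ → K₁ → K₂ → … in an abelian category
with Hⁱ(K₀) = 0 for i > 0 and such that for every j < n the map H⁻ʲ(Kⱼ) → H⁻ʲ(Kⱼ₊₁) is zero. Then in
the derived category the composite K₀ → Kₙ factors through the canonical truncation τ_{≤ -n}Kₙ → Kₙ. -/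
theorem result {A : Type u} [Category.{v} A] [Abelian A] [HasDerivedCategory.{w} A]
    (K : ℕ ⥤ CochainComplex A ℤ) (n : ℕ)
    (h0 : ∀ i : ℤ, 0 < i → IsZero ((K.obj 0).homology i))
    (hz : ∀ j : ℕ, j < n → HomologicalComplex.homologyMap (K.map (homOfLE (Nat.le_succ j))) (-(j : ℤ)) = 0) :
    ∃ φ : DerivedCategory.Q.obj (K.obj 0) ⟶ DerivedCategory.Q.obj ((K.obj n).truncLE (-(n : ℤ))),
      φ ≫ DerivedCategory.Q.map ((K.obj n).ιTruncLE (-(n : ℤ))) = DerivedCategory.Q.map (K.map (homOfLE (Nat.zero_le n))) := by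
  classical
  have key : ∀ m : ℕ, m ≤ n →
      ∃ φ : DerivedCategory.Q.obj (K.obj 0) ⟶
          DerivedCategory.Q.obj ((K.obj m).truncLE (-(m : ℤ))),
        φ ≫ DerivedCategory.Q.map ((K.obj m).ιTruncLE (-(m : ℤ))) =
          DerivedCategory.Q.map (K.map (homOfLE (Nat.zero_le m))) := by
    intro m
    induction m with
    | zero =>
      intro _
      have hLE : (K.obj 0).IsLE (0 : ℤ) := by
        rw [CochainComplex.isLE_iff]
        intro i hi
        rw [HomologicalComplex.exactAt_iff_isZero_homology]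
        exact h0 i hi
      have hq : QuasiIso ((K.obj 0).ιTruncLE (0 : ℤ)) :=
        ((K.obj 0).quasiIso_ιTruncLE_iff 0).2 hLE
      have hq' : QuasiIso ((K.obj 0).ιTruncLE (-((0 : ℕ) : ℤ))) := by
        simpa using hq
      refine ⟨inv (DerivedCategory.Q.map ((K.obj 0).ιTruncLE (-((0 : ℕ) : ℤ)))), ?_⟩
      have hid : K.map (homOfLE (Nat.zero_le 0)) = 𝟙 _ := by
        have : (homOfLE (Nat.zero_le 0)) = 𝟙 (0 : ℕ) := rfl
        rw [this, K.map_id]
      rw [hid, CategoryTheory.Functor.map_id]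
      exact IsIso.inv_hom_id _
    | succ m ih =>
      intro hm
      obtain ⟨φ, hφ⟩ := ih (by omega)
      have hz' := hz m (by omega)
      have hk : (-((m + 1 : ℕ) : ℤ)) + 1 = -(m : ℤ) := by push_cast; omega
      obtain ⟨ψ, hψ⟩ := Groth.Agent.Lib.Helper2.exists_factor_of_homologyMap_zero''
        (K.map (homOfLE (Nat.le_succ m))) (-((m + 1 : ℕ) : ℤ)) (-(m : ℤ)) hk hz'
      refine ⟨φ ≫ ψ, ?_⟩
      have hcomp : K.map (homOfLE (Nat.zero_le (m + 1))) =
          K.map (homOfLE (Nat.zero_le m)) ≫ K.map (homOfLE (Nat.le_succ m)) := by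
        rw [← K.map_comp]
        rfl
      rw [hcomp, CategoryTheory.Functor.map_comp, ← hφ, Category.assoc, Category.assoc]
      congr 1
      rw [← CategoryTheory.Functor.map_comp]
      exact hψ
  exact key n le_rfl

end Groth.Agent.S0982
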