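import Groth.Statements.S0983
-- import your own Groth.Agent.* helpers here

set_option autoImplicit false
universe v u
open CategoryTheory
open CohDer

namespace Groth.Agent.S0983

open CategoryTheory.Pretriangulated in
/-- In a triangulated category, a commutative square f ≫ v = u ≫ f' (with f : X ⟶ Y, f' : X' ⟶ Y', u : X
⟶ X', v : Y ⟶ Y') extends to a diagram with three distinguished rows (X, Y, Z), (X', Y', Z'), (X'',
Y'', Z'') and three distinguished columns (X, X', X''), (Y, Y', Y''), (Z, Z', Z''), in which all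
squares commute except the one formed by the third morphisms of the last row and last column, which
anticommutes; the fourth row and column are the shifts of the first ones. -/
theorem result {D : Type u} [Category.{v} D] [Preadditive D] [Limits.HasZeroObject D] [HasShift D ℤ]
    [∀ n : ℤ, (shiftFunctor D n).Additive] [Pretriangulated D] [IsTriangulated D]
    {X Y X' Y' : D} (f : X ⟶ Y) (f' : X' ⟶ Y') (u : X ⟶ X') (v : Y ⟶ Y') (comm : f ≫ v = u ≫ f') :
    ∃ (Z Z' X'' Y'' Z'' : D) (g : Y ⟶ Z) (h : Z ⟶ (shiftFunctor D (1 : ℤ)).obj X)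
      (g' : Y' ⟶ Z') (h' : Z' ⟶ (shiftFunctor D (1 : ℤ)).obj X')
      (f'' : X'' ⟶ Y'') (g'' : Y'' ⟶ Z'') (h'' : Z'' ⟶ (shiftFunctor D (1 : ℤ)).obj X'')
      (u' : X' ⟶ X'') (u'' : X'' ⟶ (shiftFunctor D (1 : ℤ)).obj X)
      (v' : Y' ⟶ Y'') (v'' : Y'' ⟶ (shiftFunctor D (1 : ℤ)).obj Y)
      (w : Z ⟶ Z') (w' : Z' ⟶ Z'') (w'' : Z'' ⟶ (shiftFunctor D (1 : ℤ)).obj Z),
      Triangle.mk f g h ∈ distinguishedTriangles ∧ Triangle.mk f' g' h' ∈ distinguishedTriangles ∧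
      Triangle.mk f'' g'' h'' ∈ distinguishedTriangles ∧
      Triangle.mk u u' u'' ∈ distinguishedTriangles ∧ Triangle.mk v v' v'' ∈ distinguishedTriangles ∧
      Triangle.mk w w' w'' ∈ distinguishedTriangles ∧
      g ≫ w = v ≫ g' ∧ h ≫ (shiftFunctor D (1 : ℤ)).map u = w ≫ h' ∧
      f' ≫ v' = u' ≫ f'' ∧ g' ≫ w' = v' ≫ g'' ∧ h' ≫ (shiftFunctor D (1 : ℤ)).map u' = w' ≫ h'' ∧
      f'' ≫ v'' = u'' ≫ (shiftFunctor D (1 : ℤ)).map f ∧ g'' ≫ w'' = v'' ≫ (shiftFunctor D (1 : ℤ)).map g ∧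
      h'' ≫ (shiftFunctor D (1 : ℤ)).map u'' = -(w'' ≫ (shiftFunctor D (1 : ℤ)).map h) := by
  obtain ⟨Z, g, h, hT⟩ := distinguished_cocone_triangle f
  obtain ⟨Z', g', h', hT'⟩ := distinguished_cocone_triangle f'
  obtain ⟨X'', u', u'', hU⟩ := distinguished_cocone_triangle u
  obtain ⟨Y'', v', v'', hV⟩ := distinguished_cocone_triangle v
  obtain ⟨A, d', d'', hD⟩ := distinguished_cocone_triangle (f ≫ v)
  obtain ⟨α, β, c11, c12, c13, c14, m1⟩ :=
    Triangulated.someOctahedron (rfl : f ≫ v = f ≫ v) hT hV hD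
  obtain ⟨α', β', c21, c22, c23, c24, m2⟩ := Triangulated.someOctahedron comm.symm hU hT' hD
  obtain ⟨Z'', g'', h'', hT''⟩ := distinguished_cocone_triangle (α' ≫ β)
  have hrot : Triangle.mk β (v'' ≫ (shiftFunctor D (1 : ℤ)).map g)
      (-(shiftFunctor D (1 : ℤ)).map α) ∈ distinguishedTriangles :=
    rot_of_distTriang _ m1
  obtain ⟨w', w'', c31, c32, c33, c34, m3⟩ :=
    Triangulated.someOctahedron (rfl : α' ≫ β = α' ≫ β) m2 hrot hT''
  refine ⟨Z, Z', X'', Y'', Z'', g, h, g', h', α' ≫ β, g'', h'', u', u'', v', v'',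
    α ≫ β', w', w'', hT, hT', hT'', hU, hV, ?_, ?_, ?_, ?_, ?_, ?_, ?_, ?_, ?_⟩
  · rw [rotate_distinguished_triangle]
    have e : (-(shiftFunctor D (1 : ℤ)).map α) ≫ (shiftFunctor D (1 : ℤ)).map β' =
        -(shiftFunctor D (1 : ℤ)).map (α ≫ β') := by
      rw [Functor.map_comp, Preadditive.neg_comp]
    rw [e] at m3
    exact m3
  · -- g ≫ w = v ≫ g'
    rw [← Category.assoc, c11, Category.assoc, c23]
  · -- h ≫ u⟦1⟧ = w ≫ h'
    rw [Category.assoc, ← c24, ← Category.assoc, c12]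
  · -- f' ≫ v' = u' ≫ f''
    rw [← Category.assoc, c21, Category.assoc, c13]
  · -- g' ≫ w' = v' ≫ g''
    rw [← c23, ← c13, Category.assoc, Category.assoc, c31]
  · -- h' ≫ u'⟦1⟧ = w' ≫ h''
    exact c32.symm
  · -- f'' ≫ v'' = u'' ≫ f⟦1⟧
    rw [Category.assoc, ← c14, ← Category.assoc, c22]
  · -- g'' ≫ w'' = v'' ≫ g⟦1⟧
    exact c33
  · -- h'' ≫ u''⟦1⟧ = -(w'' ≫ h⟦1⟧)
    rw [← c22, ← c12, Functor.map_comp, Functor.map_comp, ← Category.assoc, c34]
    simp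

end Groth.Agent.S0983
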