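import Groth.Statements.S0989
-- import your own Groth.Agent.* helpers here

set_option autoImplicit false
universe w v u
open CategoryTheory CategoryTheory.Limits
open CohDer

namespace Groth.Agent.S0989

/-- Let P be a weak Serre class in an abelian category A: P is closed under isomorphisms, holds for a
zero object, and whenever X₀ → X₁ → X₂ → X₃ → X₄ is exact with P holding for X₀, X₁, X₃, X₄ it holds
for X₂. Then the class of objects of the derived category all of whose cohomology objects satisfy P
is a triangulated subcategory (contains zero, stable under shifts, closed under extensions) which is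
moreover closed under retracts (saturated). -/
theorem result {A : Type u} [Category.{v} A] [Abelian A] [HasDerivedCategory.{w} A]
    (P : ObjectProperty A) [P.IsClosedUnderIsomorphisms] (h0 : ∃ Z : A, IsZero Z ∧ P Z)
    (hP : ∀ S : ComposableArrows A 4, S.Exact → P (S.obj 0) → P (S.obj 1) → P (S.obj 3) → P (S.obj 4) → P (S.obj 2)) :
    ObjectProperty.IsTriangulated (fun X : DerivedCategory A => ∀ n : ℤ, P ((DerivedCategory.homologyFunctor A n).obj X)) ∧
    ObjectProperty.IsStableUnderRetracts (fun X : DerivedCategory A => ∀ n : ℤ, P ((DerivedCategory.homologyFunctor A n).obj X)) := by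
  have hPzero : ∀ {Z : A}, IsZero Z → P Z := by
    intro Z hZ
    obtain ⟨Z₀, hZ₀, hP₀⟩ := h0
    exact P.prop_of_iso (hZ₀.iso hZ) hP₀
  refine ⟨@ObjectProperty.IsTriangulated.mk _ _ _ _ _ _ _ _ ⟨?_⟩ ⟨fun m => ⟨fun X hX => ?_⟩⟩
    ⟨fun T hT h₁ h₃ => ?_⟩, ⟨fun {X Y} h hY => ?_⟩⟩
  · obtain ⟨Z, hZ⟩ := Limits.HasZeroObject.zero (C := DerivedCategory A)
    exact ⟨Z, hZ, fun n => hPzero ((DerivedCategory.homologyFunctor A n).map_isZero hZ)⟩
  · intro n
    exact P.prop_of_iso
      (((DerivedCategory.homologyFunctor A 0).shiftIso m n (m + n) rfl).app X).symm (hX (m + n))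
  · refine ObjectProperty.le_isoClosure _ _ (fun n => ?_)
    have e1 := DerivedCategory.HomologySequence.exact₁ T hT (n - 1) n (by lia)
    have e2 := DerivedCategory.HomologySequence.exact₂ T hT n
    have e3 := DerivedCategory.HomologySequence.exact₃ T hT n (n + 1) rfl
    exact hP (ComposableArrows.mk₄ (DerivedCategory.HomologySequence.δ T (n - 1) n (by lia))
        ((DerivedCategory.homologyFunctor A n).map T.mor₁)
        ((DerivedCategory.homologyFunctor A n).map T.mor₂)
        (DerivedCategory.HomologySequence.δ T n (n + 1) rfl))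
      (ComposableArrows.exact_of_δ₀ e1.exact_toComposableArrows
        (ComposableArrows.exact_of_δ₀ e2.exact_toComposableArrows e3.exact_toComposableArrows))
      (h₃ (n - 1)) (h₁ n) (h₃ n) (h₁ (n + 1))
  · intro n
    obtain ⟨Z₀, hZ₀, hP₀⟩ := h0
    let i := (DerivedCategory.homologyFunctor A n).map h.i
    let r := (DerivedCategory.homologyFunctor A n).map h.r
    have hir : i ≫ r = 𝟙 _ := by
      rw [← CategoryTheory.Functor.map_comp, h.retract, CategoryTheory.Functor.map_id]
    have w1 : (0 : Z₀ ⟶ Z₀) ≫ (0 : Z₀ ⟶ (DerivedCategory.homologyFunctor A n).obj X) = 0 := by simp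
    have w2 : (0 : Z₀ ⟶ (DerivedCategory.homologyFunctor A n).obj X) ≫ i = 0 := by simp
    have w3 : i ≫ (𝟙 _ - r ≫ i) = 0 := by
      rw [Preadditive.comp_sub, Category.comp_id, ← Category.assoc, hir, Category.id_comp, sub_self]
    have e1 : (ShortComplex.mk _ _ w1).Exact := ShortComplex.exact_of_isZero_X₂ _ hZ₀
    have : Mono i := SplitMono.mono ⟨r, hir⟩
    have e2 : (ShortComplex.mk _ _ w2).Exact := by
      rw [ShortComplex.exact_iff_mono _ rfl]
      exact this
    have e3 : (ShortComplex.mk _ _ w3).Exact := by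
      rw [ShortComplex.exact_iff_exact_up_to_refinements]
      intro W x hx
      refine ⟨W, 𝟙 W, inferInstance, x ≫ r, ?_⟩
      dsimp at hx ⊢
      rw [Preadditive.comp_sub, Category.comp_id, sub_eq_zero] at hx
      rw [Category.id_comp, Category.assoc]
      exact hx
    exact hP (ComposableArrows.mk₄ (0 : Z₀ ⟶ Z₀) (0 : Z₀ ⟶ _) i (𝟙 _ - r ≫ i))
      (ComposableArrows.exact_of_δ₀ e1.exact_toComposableArrows
        (ComposableArrows.exact_of_δ₀ e2.exact_toComposableArrows e3.exact_toComposableArrows))
      hP₀ hP₀ (hY n) (hY n)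

end Groth.Agent.S0989
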