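import Groth.Statements.S10000
import Groth.Agent.Lib.Helper16.FieldEmb
import Groth.Agent.Lib.Helper16.Rep

set_option autoImplicit false
universe u
open CategoryTheory CategoryTheory.Limits AlgebraicGeometry
open AlgSp

namespace Groth.Agent.S10000


open Groth.Agent.Lib.Helper16 Cardinal


/-- For a morphism X ⟶ Y of algebraic spaces and an algebraically closed field k over S that is large
compared with X, X(k) surjects onto |X| ×_{|Y|} Y(k): every pair of a point x of |X| and a k-valued
point of Y with the same image in |Y| comes from a k-valued point of X. (The published statement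
measures largeness by a cardinal attached to X that bounds the residue fields of an etale atlas;
this row asks directly that every residue field of one surjective etale chart U of X have
cardinality smaller than that of k, which is how the bound enters the argument.) -/
theorem result {S : Scheme.{u}} {X Y : AlgSp.Space S} (f : X ⟶ Y)
    {U : Over S} (a : (AlgSp.yon S).obj U ⟶ X.obj) (ha : AlgSp.RepWith @Etale a) (has : AlgSp.RepWith @Surjective a)
    (ybar : AlgSp.FieldPt Y.obj) (hy : ybar.IsGeometric)
    (hk : ∀ u : ↥U.left, Cardinal.mk ↥(U.left.residueField u) < Cardinal.mk ybar.K)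
    (x : AlgSp.Points X.obj) (hx : AlgSp.Points.map f.hom x = AlgSp.Points.mk ybar) :
    ∃ xbar : (AlgSp.yon S).obj ybar.pt ⟶ X.obj, xbar ≫ f.hom = ybar.toHom ∧
      AlgSp.Points.ofPt xbar (IsLocalRing.closedPoint ybar.K) = x := by
  classical
  obtain ⟨u, rfl⟩ := ofPt_surjective_of_surjective a has x
  obtain ⟨V, b, hbe, hbs⟩ := Y.property.atlas
  haveI : IsAlgClosed ybar.K := hy
  -- lift the geometric point to the chart `V`
  have sqW := hbe.rep.isPullback ybar.toHom
  haveI hWe : Etale (hbe.rep.snd ybar.toHom).left := hbe.property_snd _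
  have hWs : Surjective (hbe.rep.snd ybar.toHom).left := hbs.property_snd _
  have hsub : ∀ p q : ↥(Spec (CommRingCat.of ybar.K)), p = q := fun p q => Subsingleton.elim p q
  obtain ⟨w, hw⟩ := hWs.surj (IsLocalRing.closedPoint ybar.K)
  obtain ⟨l, hl1, hl2⟩ := Scheme.exists_fac_of_etale_of_isSepClosed (hbe.rep.snd ybar.toHom).left
    (𝟙 (Spec (CommRingCat.of ybar.K))) w (by rw [hw]; exact hsub _ _)
  let lO : ybar.pt ⟶ hbe.rep.pullback ybar.toHom := Over.homMk l (by
    rw [← Over.w (hbe.rep.snd ybar.toHom), ← Category.assoc, hl1]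
    exact Category.id_comp _)
  have hlO : lO ≫ hbe.rep.snd ybar.toHom = 𝟙 _ := Over.OverMorphism.ext hl1
  obtain ⟨c, hc⟩ := (yon S).map_surjective (hbe.rep.fst ybar.toHom)
  let vbar : ybar.pt ⟶ V := lO ≫ c
  have hvbar : (yon S).map vbar ≫ b = ybar.toHom := by
    rw [Functor.map_comp, Category.assoc, hc, sqW.w, ← Category.assoc, ← Functor.map_comp, hlO,
      CategoryTheory.Functor.map_id, Category.id_comp]
  -- the fibre product of the charts
  have sqU := hbe.rep.isPullback (a ≫ f.hom)
  haveI hUe : Etale (hbe.rep.snd (a ≫ f.hom)).left := hbe.property_snd _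
  obtain ⟨pV, hpV⟩ := (yon S).map_surjective (hbe.rep.fst (a ≫ f.hom))
  rw [← hpV] at sqU
  have hpts : Points.ofPt b (vbar.left (IsLocalRing.closedPoint ybar.K)) = Points.ofPt (a ≫ f.hom) u := by
    rw [← ofPt_yon_map_comp, hvbar, Points.ofPt_toHom, ← hx]
    rfl
  obtain ⟨u', hu'1, hu'2⟩ := exists_point_of_isPullback_yon_yon sqU _ u hpts
  -- the residue field at `u'` is small
  have hcard : #(((hbe.rep.pullback (a ≫ f.hom)).left).residueField u') < #ybar.K := by
    apply card_residueField_lt_of_etale (hbe.rep.snd (a ≫ f.hom)).left u'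
    have := hk u
    rw [← hu'2] at this
    exact this
  have hdef : (default : ↥(Spec (CommRingCat.of ybar.K))) = IsLocalRing.closedPoint ybar.K :=
    hsub _ _
  obtain ⟨l', hl'1, hl'2⟩ := exists_fac_of_card_lt pV.left vbar.left u' (by rw [hu'1, hdef]) hcard
  let τ : ybar.pt ⟶ hbe.rep.pullback (a ≫ f.hom) := Over.homMk l' (by
    rw [← Over.w pV, ← Category.assoc, hl'1]
    exact Over.w vbar)
  have hτ : τ ≫ pV = vbar := Over.OverMorphism.ext hl'1
  refine ⟨(yon S).map (τ ≫ hbe.rep.snd (a ≫ f.hom)) ≫ a, ?_, ?_⟩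
  · calc ((yon S).map (τ ≫ hbe.rep.snd (a ≫ f.hom)) ≫ a) ≫ f.hom
        = (yon S).map τ ≫ ((yon S).map (hbe.rep.snd (a ≫ f.hom)) ≫ a ≫ f.hom) := by
          rw [Functor.map_comp, Category.assoc, Category.assoc]
      _ = (yon S).map τ ≫ ((yon S).map pV ≫ b) := by rw [sqU.w]
      _ = (yon S).map (τ ≫ pV) ≫ b := by rw [Functor.map_comp, Category.assoc]
      _ = ybar.toHom := by rw [hτ, hvbar]
  · rw [ofPt_yon_map_comp]
    congr 1
    show (hbe.rep.snd (a ≫ f.hom)).left (l' (IsLocalRing.closedPoint ybar.K)) = u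
    rw [← hdef, hl'2, hu'2]
end Groth.Agent.S10000
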