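import Groth.Statements.S10001
import Groth.Agent.Lib.Helper15.IdealZeroDescent
import Groth.Agent.Lib.Helper16.QuasiCompact
open Groth.Agent.Lib.Helper15 Groth.Agent.Lib.Helper16

set_option autoImplicit false
universe u
open CategoryTheory CategoryTheory.Limits AlgebraicGeometry Opposite
open AlgSp

namespace Groth.Agent.S10001

set_option backward.isDefEq.respectTransparency false

/-- Last assertion, on T-valued points for schemes T: if i : Z ⟶ X is the closed subspace cut out by the
sheaf of ideals I, a morphism h : h_T ⟶ X from a scheme T factors through Z exactly when h^*I ⟶ O_T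
vanishes, that is, when for every affine etale chart U of X the functions in I(U) pull back to zero
on T ×_X U (I is contained in the kernel family of h). -/
theorem result {S : Scheme.{u}} {Z X : AlgSp.Space S} (i : Z ⟶ X) (I : AlgSp.IdealEt X.obj)
    (hZ : AlgSp.IsCutOutBy I i.hom) {T : Over S} (h : (AlgSp.yon S).obj T ⟶ X.obj) (hh : AlgSp.Representable h) :
    (∃ k : (AlgSp.yon S).obj T ⟶ Z.obj, k ≫ i.hom = h) ↔ I ≤ AlgSp.idealOfRep hh := by
  obtain ⟨hi, rfl⟩ := hZ
  constructor
  · rintro ⟨k, rfl⟩ E hE a ha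
    show a ∈ RingHom.ker (hh.snd E.obj.hom).left.appTop.hom
    have ha' : (hi.rep.snd E.obj.hom).left.appTop.hom a = 0 := ha
    have sqZ := hi.rep.isPullback E.obj.hom
    have sqT' := hh.isPullback E.obj.hom
    have hw : (hh.fst E.obj.hom ≫ k) ≫ i.hom = (yon S).map (hh.snd E.obj.hom) ≫ E.obj.hom := by
      rw [Category.assoc]; exact sqT'.w
    let ℓ := (yon S).preimage (sqZ.lift _ _ hw)
    have hℓ : ℓ ≫ hi.rep.snd E.obj.hom = hh.snd E.obj.hom :=
      (yon S).map_injective (by rw [Functor.map_comp, Functor.map_preimage, sqZ.lift_snd])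
    rw [RingHom.mem_ker, ← hℓ]
    show ((ℓ.left ≫ (hi.rep.snd E.obj.hom).left).appTop.hom) a = 0
    rw [Scheme.Hom.comp_appTop, CommRingCat.hom_comp, RingHom.comp_apply, ha', map_zero]
  · intro hle
    obtain ⟨fstT, sqT⟩ := exists_isPullback_chartIdeal hi h
    have hJ : chartIdeal hi h = ⊥ := by
      apply idealSheafData_eq_bot_of_comap
      intro t
      obtain ⟨U₀, a₀, ha₀e, ha₀s⟩ := X.property.atlas
      obtain ⟨u₀, hu₀⟩ := ofPt_surjective_of_surjective a₀ ha₀s (Points.ofPt h t)
      obtain ⟨_, ⟨U₀', hU₀', rfl⟩, hu₀U, -⟩ :=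
        U₀.left.isBasis_affineOpens.exists_subset_of_mem_open (Set.mem_univ u₀) isOpen_univ
      let O : U₀.left.Opens := U₀'
      let E : EtOver X.obj := EtOver.mk ((yon S).map (overOpenι U₀ O) ≫ a₀)
        (repWith_etale_restrict a₀ ha₀e O)
      have hEaff : IsAffine E.obj.left.left := hU₀'
      obtain ⟨u₀', hu₀'⟩ : ∃ u₀' : ↥(overOpen U₀ O).left, O.ι u₀' = u₀ := by
        have : u₀ ∈ Set.range O.ι := by rw [Scheme.Opens.range_ι]; exact hu₀U
        exact this
      let p : hh.pullback E.obj.hom ⟶ T := (yon S).preimage (hh.fst E.obj.hom)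
      have sqE : IsPullback ((yon S).map p) ((yon S).map (hh.snd E.obj.hom)) h E.obj.hom := by
        rw [Functor.map_preimage]; exact hh.isPullback E.obj.hom
      have hpe : Etale p.left := E.property.property h _ _ sqE.flip
      have hpt : Points.ofPt h t = Points.ofPt E.obj.hom u₀' := by
        show _ = Points.ofPt ((yon S).map (overOpenι U₀ O) ≫ a₀) u₀'
        rw [ofPt_restrict, hu₀', hu₀]
      obtain ⟨t', ht', -⟩ := exists_point_of_isPullback_yon_yon sqE t u₀' hpt
      refine ⟨(hh.pullback E.obj.hom).left, p.left, t', inferInstance, p.left.isOpenMap, ht', ?_⟩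
      obtain ⟨fstE, sqEch⟩ := exists_isPullback_chartIdeal hi E.obj.hom
      rw [comap_eq_comap_of_charts sqEch sqT p (hh.snd E.obj.hom) sqE.w]
      have hle' : chartIdeal hi E.obj.hom ≤
          (⊥ : (hh.pullback E.obj.hom).left.IdealSheafData).map (hh.snd E.obj.hom).left := by
        rw [Scheme.IdealSheafData.map_bot, Scheme.ker_of_isAffine]
        apply Scheme.IdealSheafData.le_of_isAffine
        rw [chartIdeal_ideal_top, ofIdealTop_ideal_top]
        exact hle E hEaff
      exact le_bot_iff.mp (Scheme.IdealSheafData.le_map_iff_comap_le.mp hle')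
    have hiso : IsIso (chartIdeal hi h).subschemeι :=
      (Scheme.isIso_subschemeι_iff_eq_bot _).2 hJ
    let e : subOver T (chartIdeal hi h) ≅ T := Over.isoMk (asIso (chartIdeal hi h).subschemeι) rfl
    have he : e.inv ≫ subι T (chartIdeal hi h) = 𝟙 T := e.inv_hom_id
    refine ⟨(yon S).map e.inv ≫ fstT, ?_⟩
    rw [Category.assoc, sqT.w, ← Category.assoc, ← Functor.map_comp, he, CategoryTheory.Functor.map_id,
      Category.id_comp]

end Groth.Agent.S10001
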