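import Groth.Statements.S10003
import Groth.Agent.Lib.Helper16.SchDense
import Groth.Agent.Lib.Helper15.AlgSpLocRing
import Groth.Agent.Lib.Helper28.IdealComap
import Groth.Agent.Lib.Helper6.IdealComap

open Groth.Agent.Lib.Helper16 Groth.Agent.Lib.Helper15.AlgSpLocRing

set_option autoImplicit false
universe u
open CategoryTheory CategoryTheory.Limits AlgebraicGeometry Opposite
open AlgSp

namespace Groth.Agent.S10003

variable {S : Scheme.{u}}

/-- For schemes, the scheme theoretic image (as sheaves) has the kernel of the morphism as ideal. -/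
theorem ker_eq_of_isSchImage_yon {A B C : Over S} (g : A ⟶ C) (j : B ⟶ C)
    (h : IsSchImage ((yon S).map g) ((yon S).map j)) : j.left.ker = g.left.ker := by
  obtain ⟨hcl, ⟨f', hf'⟩, hmin⟩ := h
  haveI : IsClosedImmersion j.left := (repWith_yon_map_iff _ j).1 hcl
  apply le_antisymm
  · obtain ⟨f0, rfl⟩ := (yon S).map_surjective f'
    have h1 : f0 ≫ j = g := (yon S).map_injective (by rw [Functor.map_comp, hf'])
    have h2 : f0.left ≫ j.left = g.left := congrArg CommaMorphism.left h1
    rw [← h2]
    exact Scheme.Hom.le_ker_comp _ _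
  · let Z' : Over S := Over.mk (g.left.ker.subschemeι ≫ C.hom)
    let ι' : Z' ⟶ C := Over.homMk g.left.ker.subschemeι rfl
    let τ : A ⟶ Z' := Over.homMk g.left.toImage (by
      show g.left.toImage ≫ g.left.imageι ≫ C.hom = A.hom
      rw [← Category.assoc, Scheme.Hom.toImage_imageι, Over.w g])
    have hτ : τ ≫ ι' = g := by
      ext1
      exact Scheme.Hom.toImage_imageι g.left
    have hcl' : RepWith @IsClosedImmersion ((yon S).map ι') :=
      (repWith_yon_map_iff _ ι').2 (show IsClosedImmersion g.left.ker.subschemeι from inferInstance)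
    obtain ⟨k, hk⟩ := hmin ((yon S).map ι') (IsAlgSpace.yon_obj Z') hcl'
      ⟨(yon S).map τ, by rw [← Functor.map_comp, hτ]⟩
    obtain ⟨k0, rfl⟩ := (yon S).map_surjective k
    have h1 : k0 ≫ ι' = j := (yon S).map_injective (by rw [Functor.map_comp, hk])
    have h2 : k0.left ≫ g.left.ker.subschemeι = j.left := congrArg CommaMorphism.left h1
    rw [← h2]
    conv_lhs => rw [← g.left.ker.ker_subschemeι]
    exact Scheme.Hom.le_ker_comp _ _


/-- For a quasi-compact morphism f : X ⟶ Y of algebraic spaces that is representable by schemes, the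
sheaf of ideals Ker(O_Y ⟶ f_* O_X) (the kernel family on affine etale charts of Y) is
quasi-coherent, and the scheme theoretic image of f is exactly the closed subspace it cuts out. (The
published statement is for an arbitrary quasi-compact morphism of algebraic spaces; f_* O_X on the
small etale site with scheme charts is available only for representable f, the case stated.) -/
theorem result {S : Scheme.{u}} {X Y : AlgSp.Space S} (f : X ⟶ Y)
    (hf : AlgSp.Representable f.hom) (hqc : AlgSp.IsQuasiCompactMor f.hom) :
    (AlgSp.idealOfRep hf).IsQCoh ∧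
      ∀ (Z : AlgSp.Space S) (i : Z ⟶ Y), AlgSp.IsSchImage f.hom i.hom ↔ AlgSp.IsCutOutBy (AlgSp.idealOfRep hf) i.hom := by
  have hqcR : RepWith @QuasiCompact f.hom := repWith_quasiCompact_of_isQuasiCompactMor f.hom hf hqc
  have hqcE : ∀ {V : Over S} (b : (yon S).obj V ⟶ Y.obj), QuasiCompact (hf.snd b).left :=
    fun b => hqcR.property _ _ _ (hf.isPullback b)
  refine ⟨?_, ?_⟩
  · intro E E' g hE hE'
    haveI := hqcE E.obj.hom
    haveI := hqcE E'.obj.hom
    haveI : IsAffine E.obj.left.left := hE
    haveI : IsAffine E'.obj.left.left := hE'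
    haveI : Etale g.hom.left.left := EtOver.etale_left g
    haveI : Flat g.hom.left.left := inferInstance
    have H := EtOver.isPullback_bcMap_left hf g
    have hk : (hf.snd E'.obj.hom).left.ker = (hf.snd E.obj.hom).left.ker.comap g.hom.left.left :=
      SchImgKer.ker_of_isPullback_of_flat H
    have e1 := Scheme.Hom.ker_apply (hf.snd E'.obj.hom).left ⟨⊤, isAffineOpen_top _⟩
    have e2 := Scheme.Hom.ker_apply (hf.snd E.obj.hom).left ⟨⊤, isAffineOpen_top _⟩
    have e3 := Groth.Agent.Lib.Helper28.ideal_comap_of_isAffine (hf.snd E.obj.hom).left.ker g.hom.left.left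
    rw [← hk, e1, e2] at e3
    exact e3.le
  · intro Z i
    constructor
    · intro hsch
      have hi : RepWith @IsClosedImmersion i.hom := hsch.1
      refine ⟨hi, ?_⟩
      apply IdealEt.ext
      funext E hE
      have sqX := hf.isPullback E.obj.hom
      have sqZ := hi.1.isPullback E.obj.hom
      have hb : IsEtaleMor E.obj.hom := isEtaleMor_of_repWith E.obj.hom E.property
      have hS : IsSchImage ((yon S).map (hf.snd E.obj.hom)) ((yon S).map (hi.1.snd E.obj.hom)) :=
        SchImg.isSchImage_etale_baseChange X.property Y.property (IsAlgSpace.yon_obj _) Z.property f.hom hqc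
          i.hom hsch E.obj.hom hb (hf.fst E.obj.hom) _ sqX (hi.1.fst E.obj.hom) _ sqZ
      have hk := ker_eq_of_isSchImage_yon _ _ hS
      haveI := hqcE E.obj.hom
      haveI : IsClosedImmersion (hi.1.snd E.obj.hom).left := hi.2 _ _ _ sqZ
      have e1 := Scheme.Hom.ker_apply (hi.1.snd E.obj.hom).left ⟨⊤, isAffineOpen_top _⟩
      have e2 := Scheme.Hom.ker_apply (hf.snd E.obj.hom).left ⟨⊤, isAffineOpen_top _⟩
      rw [hk, e2] at e1
      exact e1.symm
    · rintro ⟨hi, hI⟩
      obtain ⟨V, p, hpe, hps⟩ := Y.property.atlas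
      have sqX := hf.isPullback p
      have sqZ := hi.1.isPullback p
      haveI : IsClosedImmersion (hi.1.snd p).left := hi.2 _ _ _ sqZ
      haveI : QuasiCompact (hf.snd p).left := hqcE p
      have hker : (hf.snd p).left.ker = (hi.1.snd p).left.ker := by
        refine Groth.Agent.Lib.Helper6.IdealComap.ext_of_comap_ι_eq (fun O : V.left.affineOpens => O)
          (iSup_affineOpens_eq_top _) (fun O => ?_)
        have hO : IsAffine (openObj (EtOver.mk p hpe) O.1).obj.left.left := O.2
        haveI := hO
        haveI := hqcE (openObj (EtOver.mk p hpe) O.1).obj.hom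
        haveI : IsClosedImmersion (hi.1.snd (openObj (EtOver.mk p hpe) O.1).obj.hom).left :=
          hi.2 _ _ _ (hi.1.isPullback _)
        haveI : Etale O.1.ι := inferInstance
        haveI hfl : Flat O.1.ι := inferInstance
        haveI : Flat (openHom (EtOver.mk p hpe) O.1).hom.left.left := hfl
        have kX : (hf.snd (openObj (EtOver.mk p hpe) O.1).obj.hom).left.ker =
            (hf.snd p).left.ker.comap O.1.ι :=
          @SchImgKer.ker_of_isPullback_of_flat _ _ _ _ _ _ _ _
            (EtOver.isPullback_bcMap_left hf (openHom (EtOver.mk p hpe) O.1)) (hqcE p) hfl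
        have kZ : (hi.1.snd (openObj (EtOver.mk p hpe) O.1).obj.hom).left.ker =
            (hi.1.snd p).left.ker.comap O.1.ι :=
          @SchImgKer.ker_of_isPullback_of_flat _ _ _ _ _ _ _ _
            (EtOver.isPullback_bcMap_left hi.1 (openHom (EtOver.mk p hpe) O.1)) inferInstance hfl
        have hmid : (hf.snd (openObj (EtOver.mk p hpe) O.1).obj.hom).left.ker =
            (hi.1.snd (openObj (EtOver.mk p hpe) O.1).obj.hom).left.ker := by
          apply Scheme.IdealSheafData.ext_of_isAffine
          rw [Scheme.Hom.ker_apply, Scheme.Hom.ker_apply]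
          exact (congrFun (congrFun (congrArg IdealEt.ideal hI) (openObj (EtOver.mk p hpe) O.1)) hO).symm
        exact kX.symm.trans (hmid.trans kZ)
      -- factorisation
      have hfac : ∃ f' : X.obj ⟶ Z.obj, f' ≫ i.hom = f.hom := by
        let g' := IsClosedImmersion.lift (hi.1.snd p).left (hf.snd p).left hker.ge
        have hg' : g' ≫ (hi.1.snd p).left = (hf.snd p).left := IsClosedImmersion.lift_fac _ _ _
        let g'' : hf.pullback p ⟶ hi.1.pullback p := Over.homMk g' (by
          rw [← Over.w (hi.1.snd p), ← Category.assoc, hg', Over.w (hf.snd p)])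
        have hg'' : g'' ≫ hi.1.snd p = hf.snd p := by
          ext1
          exact hg'
        haveI : Epi (hf.fst p) := epi_of_etale_surjective _ ((RepWith @Etale).of_isPullback sqX.flip hpe)
          ((RepWith @Surjective).of_isPullback sqX.flip hps)
        haveI : Mono i.hom := SchImg.mono_of_repWith_isClosedImmersion i.hom hi
        refine SchImg.exists_lift_of_epi_mono (hf.fst p) i.hom f.hom ((yon S).map g'' ≫ hi.1.fst p) ?_
        rw [Category.assoc, sqZ.w, ← Category.assoc, ← Functor.map_comp, hg'', sqX.w]
      exact SchImg.isSchImage_of_chart f.hom i.hom hi hfac p hpe hps (hf.fst p) (hf.snd p) sqX.w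
        (hi.1.snd p) (hi.1.fst p) sqZ hker.le

end Groth.Agent.S10003
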