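import Groth.Statements.S10054
import Groth.Agent.Lib.Helper16.UnivA2
import Groth.Agent.Lib.Helper16.QuasiCompactMor
import Groth.Agent.Lib.Helper16.SchemeTop
import Groth.Agent.Lib.Helper7.ValSpecDvr

open Groth.Agent.Lib.Helper16

set_option autoImplicit false
universe u
open CategoryTheory CategoryTheory.Limits AlgebraicGeometry
open AlgSp

namespace Groth.Agent.S10054

open Groth.Agent.Lib.Helper16 in
theorem exists_of_dvr_data {S : Scheme.{u}} {X Y : AlgSp.Sp S} (f : X ⟶ Y) {W V : Over S}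
    (wX : (AlgSp.yon S).obj W ⟶ X) (pV : (AlgSp.yon S).obj V ⟶ Y) (h : W ⟶ V)
    (hcomm : wX ≫ f = (AlgSp.yon S).map h ≫ pV)
    (A : Type u) [CommRing A] [IsDomain A] [IsDiscreteValuationRing A] (L : Type u) [Field L]
    (i : L →+* FractionRing A) (gL : Spec (CommRingCat.of L) ⟶ W.left)
    (gA : Spec (CommRingCat.of A) ⟶ V.left)
    (hg : Spec.map (CommRingCat.ofHom (algebraMap A (FractionRing A))) ≫ gA =
      Spec.map (CommRingCat.ofHom i) ≫ gL ≫ h.left) :
    ∃ (a : Spec (CommRingCat.of A) ⟶ S)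
      (α : (AlgSp.yon S).obj (Over.mk a) ⟶ Y)
      (κ : (AlgSp.yon S).obj (Over.mk (Spec.map (CommRingCat.ofHom (algebraMap A (FractionRing A))) ≫ a)) ⟶ X),
      κ ≫ f = (AlgSp.yon S).map (Over.homMk (Spec.map (CommRingCat.ofHom (algebraMap A (FractionRing A))))) ≫ α ∧
      AlgSp.Points.map α (AlgSp.Points.schemeEquiv (Over.mk a) (IsLocalRing.closedPoint A)) =
        AlgSp.Points.ofPt pV (gA (IsLocalRing.closedPoint A)) := by
  have hκw : (Spec.map (CommRingCat.ofHom i) ≫ gL) ≫ W.hom =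
      Spec.map (CommRingCat.ofHom (algebraMap A (FractionRing A))) ≫ gA ≫ V.hom := by
    rw [← Over.w h, ← Category.assoc, ← Category.assoc, Category.assoc _ gL, ← hg, Category.assoc]
  obtain ⟨Kκ, hKκ⟩ : ∃ Kκ : Over.mk (Spec.map (CommRingCat.ofHom (algebraMap A (FractionRing A))) ≫ gA ≫ V.hom) ⟶ W,
      Kκ.left = Spec.map (CommRingCat.ofHom i) ≫ gL := ⟨Over.homMk _ hκw, rfl⟩
  obtain ⟨GA, hGA⟩ : ∃ GA : Over.mk (gA ≫ V.hom) ⟶ V, GA.left = gA := ⟨Over.homMk gA rfl, rfl⟩
  refine ⟨gA ≫ V.hom, (AlgSp.yon S).map GA ≫ pV, (AlgSp.yon S).map Kκ ≫ wX, ?_, ?_⟩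
  · have hO : Kκ ≫ h = (Over.homMk (Spec.map (CommRingCat.ofHom (algebraMap A (FractionRing A)))) :
        Over.mk (Spec.map (CommRingCat.ofHom (algebraMap A (FractionRing A))) ≫ gA ≫ V.hom) ⟶
          Over.mk (gA ≫ V.hom)) ≫ GA := by
      apply Over.OverMorphism.ext
      simp only [Over.comp_left, Over.homMk_left]
      rw [hKκ, hGA, Category.assoc]
      exact hg.symm
    calc ((AlgSp.yon S).map Kκ ≫ wX) ≫ f = (AlgSp.yon S).map Kκ ≫ (AlgSp.yon S).map h ≫ pV := by
          rw [Category.assoc, hcomm]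
      _ = (AlgSp.yon S).map (Kκ ≫ h) ≫ pV := by rw [Functor.map_comp, Category.assoc]
      _ = _ := by rw [hO, Functor.map_comp, Category.assoc]
  · show AlgSp.Points.map _ (AlgSp.Points.ofScheme _ _) = _
    rw [← AlgSp.Points.ofPt_eq_map_ofScheme, ofPt_yon_map_comp, hGA]



/-- Let `f : X ⟶ Y` be a morphism of finite type of algebraic spaces over `S` with `Y` locally
Noetherian, and `y ∈ |Y|` a point lying in the closure of `f`'s image on points. Then one can find a
discrete valuation ring `A` with fraction field `K` and a commutative square `Spec K ⟶ X`, `Spec A ⟶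
Y` (over `f` and `Spec K ⟶ Spec A`) sending the closed point of `Spec A` to `y`. (The refinement
that the `K`-point may be taken at a codimension-0 point with `K` a residue field of an etale chart
is not included.) -/
theorem result (S : Scheme.{u}) {X Y : AlgSp.Space S} (f : X ⟶ Y)
    (hft : AlgSp.IsFiniteTypeMor f.hom) (hY : AlgSp.IsLocNoethSp Y.obj) (y : AlgSp.Points Y.obj)
    (hy : y ∈ closure (Set.range (AlgSp.Points.map f.hom))) :
    ∃ (A : Type u) (_ : CommRing A) (_ : IsDomain A) (_ : IsDiscreteValuationRing A)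
      (a : Spec (CommRingCat.of A) ⟶ S)
      (α : (AlgSp.yon S).obj (Over.mk a) ⟶ Y.obj)
      (κ : (AlgSp.yon S).obj (Over.mk (Spec.map (CommRingCat.ofHom (algebraMap A (FractionRing A))) ≫ a)) ⟶ X.obj),
      κ ≫ f.hom = (AlgSp.yon S).map (Over.homMk (Spec.map (CommRingCat.ofHom (algebraMap A (FractionRing A))))) ≫ α ∧
      AlgSp.Points.map α (AlgSp.Points.schemeEquiv (Over.mk a) (IsLocalRing.closedPoint A)) = y := by
  obtain ⟨hlft, hqc⟩ := hft
  obtain ⟨V, p, hpe, hps, hVN⟩ := hY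
  obtain ⟨v, rfl⟩ := ofPt_surjective_of_surjective p hps y
  obtain ⟨V₀, hV₀, hvV₀, -⟩ := (TopologicalSpace.Opens.isBasis_iff_nbhd.mp V.left.isBasis_affineOpens)
    (show v ∈ (⊤ : V.left.Opens) from trivial)
  have : IsLocallyNoetherian V.left := hVN
  have hA0 : IsAffine (overOpen V V₀).left := hV₀
  have hN0 : IsLocallyNoetherian (overOpen V V₀).left := by
    exact LocallyOfFiniteType.isLocallyNoetherian (Scheme.Opens.ι (X := V.left) V₀)
  obtain ⟨p₀, hp₀⟩ : ∃ p₀ : (AlgSp.yon S).obj (overOpen V V₀) ⟶ Y.obj,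
      p₀ = (AlgSp.yon S).map (overOpenι V V₀) ≫ p := ⟨_, rfl⟩
  have hp₀e : RepWith @Etale p₀ := by rw [hp₀]; exact repWith_etale_restrict p hpe V₀
  obtain ⟨v₀, hv₀⟩ : ∃ v₀ : ↥(overOpen V V₀).left, Points.ofPt p₀ v₀ = Points.ofPt p v :=
    ⟨(⟨v, hvV₀⟩ : ↥V₀), by rw [hp₀, ofPt_restrict]; rfl⟩
  have sq₀ := IsPullback.of_hasPullback f.hom p₀
  have hP₀q : IsQuasiCompactSp (pullback f.hom p₀) :=
    hqc (IsAlgSpace.yon_obj _) (isQuasiCompactSp_yon_of_compactSpace _) p₀ _ _ sq₀
  obtain ⟨W, w, hwe, hws, hWc⟩ := hP₀q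
  have : CompactSpace ↥W.left := hWc
  obtain ⟨h, hh⟩ := (AlgSp.yon S).map_surjective (w ≫ pullback.snd f.hom p₀)
  have hfste : RepWith @Etale (pullback.fst f.hom p₀) :=
    (RepWith (S := S) @Etale).of_isPullback sq₀.flip hp₀e
  have hwXe : RepWith @Etale (w ≫ pullback.fst f.hom p₀) := (RepWith @Etale).comp_mem _ _ hwe hfste
  have hcomm : (w ≫ pullback.fst f.hom p₀) ≫ f.hom = (AlgSp.yon S).map h ≫ p₀ := by
    rw [Category.assoc, pullback.condition, ← Category.assoc, ← hh]
  have hhlft : LocallyOfFiniteType h.left := hlft _ _ h hwXe hp₀e hcomm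
  have hhqc : QuasiCompact h.left := (quasiCompact_iff_compactSpace h.left).2 inferInstance
  have hcl : v₀ ∈ closure (Set.range h.left) := by
    rw [mem_closure_iff]
    intro O hO hvO
    have hOY : IsOpen (Points.ofPt p₀ '' O) := isOpenMap_ofPt_of_etale p₀ hp₀e O hO
    have hyO : Points.ofPt p v ∈ Points.ofPt p₀ '' O := ⟨v₀, hvO, hv₀⟩
    obtain ⟨_, ⟨o, hoO, rfl⟩, ⟨x, hx⟩⟩ := mem_closure_iff.1 hy _ hOY hyO
    obtain ⟨z, -, hz2⟩ := exists_point_of_isPullback sq₀ x (Points.ofScheme _ o)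
      (by rw [hx, Points.ofPt_eq_map_ofScheme])
    obtain ⟨c, rfl⟩ := ofPt_surjective_of_surjective w hws z
    refine ⟨o, hoO, c, ?_⟩
    apply ofScheme_injective
    rw [← hz2, Points.map_ofPt, ← hh, UnivA.ofPt_yon_map]
  obtain ⟨c, hsp⟩ := exists_specializes_of_mem_closure_range h.left v₀ hcl
  by_cases hne : v₀ = h.left c
  · -- the trivial specialization: a power series ring
    obtain ⟨a, α, κ, hκ, hpt⟩ := exists_of_dvr_data f.hom (w ≫ pullback.fst f.hom p₀) p₀ h hcomm
      (PowerSeries (W.left.residueField c)) (W.left.residueField c)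
      ((algebraMap (PowerSeries (W.left.residueField c))
        (FractionRing (PowerSeries (W.left.residueField c)))).comp PowerSeries.C)
      (W.left.fromSpecResidueField c)
      (Spec.map (CommRingCat.ofHom (PowerSeries.C : (W.left.residueField c) →+* _)) ≫
        W.left.fromSpecResidueField c ≫ h.left)
      (by rw [← Category.assoc, ← Spec.map_comp, ← CommRingCat.ofHom_comp])
    refine ⟨PowerSeries (W.left.residueField c), inferInstance, inferInstance, inferInstance, a, α, κ, hκ, ?_⟩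
    rw [hpt, ← hv₀, hne]
    congr 1
    rw [Scheme.Hom.comp_apply, Scheme.Hom.comp_apply, Scheme.fromSpecResidueField_apply]
  · obtain ⟨A, a', hdvr, ha1, ha2⟩ :=
      Groth.Agent.Lib.Helper7.exists_dvr_through_specialization h.left c v₀ hsp hne
    have := hdvr
    have hi : ((FractionRing.algEquiv ↥A (W.left.residueField c)).symm :
        (W.left.residueField c) →+* FractionRing ↥A).comp A.subtype =
        algebraMap ↥A (FractionRing ↥A) :=
      RingHom.ext fun x => (FractionRing.algEquiv ↥A (W.left.residueField c)).symm.commutes x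
    obtain ⟨a, α, κ, hκ, hpt⟩ := exists_of_dvr_data f.hom (w ≫ pullback.fst f.hom p₀) p₀ h hcomm
      ↥A (W.left.residueField c)
      ((FractionRing.algEquiv ↥A (W.left.residueField c)).symm :
        (W.left.residueField c) →+* FractionRing ↥A)
      (W.left.fromSpecResidueField c) a'
      (by rw [← ha2, ← Category.assoc, ← Spec.map_comp, ← CommRingCat.ofHom_comp, hi])
    refine ⟨↥A, inferInstance, inferInstance, hdvr, a, α, κ, hκ, ?_⟩
    rw [hpt, ← hv₀]
    congr 1

end Groth.Agent.S10054
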