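import Groth.Statements.S10290
import Mathlib

set_option autoImplicit false
universe u
open CategoryTheory CategoryTheory.Limits AlgebraicGeometry
open AlgSp

namespace Groth.Agent.S10290

theorem isIso_of_isClosedImmersion_of_factor {A K : Type u} [CommRing A] [Field K]
    [Algebra A K] [FaithfulSMul A K] {W : Scheme.{u}} (i : W ⟶ Spec (CommRingCat.of A))
    [IsClosedImmersion i] (k : Spec (CommRingCat.of K) ⟶ W)
    (hk : k ≫ i = Spec.map (CommRingCat.ofHom (algebraMap A K))) : IsIso i := by
  apply IsClosedImmersion.isIso_of_injective_of_isAffine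
  have h1 : Function.Injective (Spec.map (CommRingCat.ofHom (algebraMap A K))).appTop := by
    have e : (Spec.map (CommRingCat.ofHom (algebraMap A K))).appTop
        = (Scheme.ΓSpecIso (CommRingCat.of A)).hom ≫ CommRingCat.ofHom (algebraMap A K) ≫
          (Scheme.ΓSpecIso (CommRingCat.of K)).inv := by
      rw [Scheme.ΓSpecIso_inv_naturality, Iso.hom_inv_id_assoc]
    rw [e]
    simp only [CommRingCat.hom_comp, RingHom.coe_comp]
    refine (ConcreteCategory.bijective_of_isIso (Scheme.ΓSpecIso (CommRingCat.of K)).inv).1.comp
      (Function.Injective.comp ?_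
        (ConcreteCategory.bijective_of_isIso (Scheme.ΓSpecIso (CommRingCat.of A)).hom).1)
    exact FaithfulSMul.algebraMap_injective A K
  rw [← hk, Scheme.Hom.comp_appTop] at h1
  intro a b hab
  apply h1
  simp only [CommRingCat.hom_comp, RingHom.coe_comp, Function.comp_apply]
  rw [hab]

/-- A separated morphism of algebraic spaces satisfies the uniqueness part of the valuative criterion. -/
theorem result {S : Scheme.{u}} {X Y : AlgSp.Space S} (f : X ⟶ Y)
    (hf : AlgSp.IsSeparatedMor f.hom) : AlgSp.UniqVC f.hom := by
  intro sq l l' h1 h2 h1' h2'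
  have hw : l ≫ f.hom = l' ≫ f.hom := by rw [h2, h2']
  obtain ⟨W, i, fst, sqW⟩ := hf.rep (pullback.lift l l' hw)
  have hi : IsClosedImmersion i.left := hf.property _ _ _ sqW
  have hcone : sq.top ≫ pullback.diagonal f.hom = (yon S).map sq.j ≫ pullback.lift l l' hw := by
    apply pullback.hom_ext
    · rw [Category.assoc, Category.assoc, pullback.diagonal_fst, pullback.lift_fst, Category.comp_id, h1]
    · rw [Category.assoc, Category.assoc, pullback.diagonal_snd, pullback.lift_snd, Category.comp_id, h1']
  obtain ⟨k, hk₀⟩ := (yon S).map_surjective (sqW.lift sq.top ((yon S).map sq.j) hcone)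
  have hk : k ≫ i = sq.j := by
    apply (yon S).map_injective
    rw [Functor.map_comp, hk₀, sqW.lift_snd]
  have hk' : k.left ≫ i.left = Spec.map (CommRingCat.ofHom (algebraMap sq.A sq.K)) := by
    have := congrArg (fun m => m.left) hk
    simpa using this
  have hiso : IsIso i.left := isIso_of_isClosedImmersion_of_factor (A := sq.A) (K := sq.K) i.left k.left hk'
  have hiso' : IsIso ((Over.forget S).map i) := hiso
  have hiso'' : IsIso i := isIso_of_reflects_iso i (Over.forget S)
  have ht : pullback.lift l l' hw = inv ((yon S).map i) ≫ fst ≫ pullback.diagonal f.hom := by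
    rw [sqW.w, IsIso.inv_hom_id_assoc]
  calc l = pullback.lift l l' hw ≫ pullback.fst _ _ := (pullback.lift_fst _ _ _).symm
    _ = pullback.lift l l' hw ≫ pullback.snd _ _ := by
        rw [ht]
        simp only [Category.assoc, pullback.diagonal_fst, pullback.diagonal_snd]
    _ = l' := pullback.lift_snd _ _ _

end Groth.Agent.S10290
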