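import Groth.Statements.S13897
import Groth.Agent.Lib.Helper16.UnivA5
import Groth.Agent.Lib.Helper16.ValCrit13
import Groth.Agent.Lib.Helper16.DvrExt
import Groth.Agent.Lib.Helper16.LocPGen
import Groth.Agent.Lib.Helper16.EtLocal

open Groth.Agent.Lib.Helper16

set_option autoImplicit false
universe u
open CategoryTheory CategoryTheory.Limits AlgebraicGeometry
open AlgSp

namespace Groth.Agent.S13897

/-- Let f : X → Y be a morphism of finite type of algebraic spaces over S with Y locally Noetherian.
First: if for every valuative test square for f whose valuation ring A is a discrete valuation ring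
(a morphism Spec K → X and a morphism Spec A → Y making the square commute) there are a field
extension K' of K, a valuation ring A' ⊂ K' dominating A and a morphism Spec A' → X compatible with
both, then f is universally closed. Second: if f is in addition decent (every base change of X to a
scheme over Y is a decent algebraic space; for instance f quasi-separated, or representable) and
universally closed, then every such square over a discrete valuation ring admits such a lift with
K'/K finite separable and A' a discrete valuation ring. (The published statement asserts, for f of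
finite type only, the equivalence of universal closedness with both lifting conditions and with the
existence part of the valuative criterion; the implication from universal closedness to the lifting
conditions needs f decent — the quotient of the affine line over a field of characteristic zero by
the translation action of the integers is of finite type and universally closed over the field but
its valuative square at the point t = 1/u over the discrete valuation ring of u has no lift after
any extension — so this row adds decency to that implication.) -/
theorem result (S : Scheme.{u}) {X Y : AlgSp.Space S}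
    (f : X ⟶ Y) (hft : AlgSp.IsFiniteTypeMor f.hom) (hY : AlgSp.IsLocNoethSp Y.obj) :
    ((∀ sq : AlgSp.ValSq f.hom, IsDiscreteValuationRing sq.A → sq.HasLiftExt) → AlgSp.IsUnivClosedMor f.hom) ∧
    (AlgSp.IsDecentMor f.hom → AlgSp.IsUnivClosedMor f.hom →
      ∀ sq : AlgSp.ValSq f.hom, IsDiscreteValuationRing sq.A →
        ∃ e : sq.DomExt, IsDiscreteValuationRing e.A' ∧
          (letI := e.ψ.toAlgebra; Module.Finite sq.K e.K' ∧ Algebra.IsSeparable sq.K e.K') ∧ e.HasLift) := by
  obtain ⟨hlft, hqc⟩ := hft
  refine ⟨fun he => ?_, fun hd hc sq hdvr => ?_⟩
  · obtain ⟨V, p, hpe, hps, hVN⟩ := hY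
    refine UnivA.isUnivClosedMor_of_affineSpace_tests' f.hom hqc p hpe hps ?_
    intro V₀ hV₀ n P fst snd sq
    have : IsLocallyNoetherian V.left := hVN
    have hA0 : IsAffine (overOpen V V₀).left := hV₀
    have hN0 : IsLocallyNoetherian (overOpen V V₀).left := by
      show IsLocallyNoetherian V₀.toScheme
      exact LocallyOfFiniteType.isLocallyNoetherian V₀.ι
    have hN1 : IsLocallyNoetherian 𝔸(ULift.{u} (Fin n); (overOpen V V₀).left) :=
      LocallyOfFiniteType.isLocallyNoetherian
        (𝔸(ULift.{u} (Fin n); (overOpen V V₀).left) ↘ (overOpen V V₀).left)
    have hA1 : IsAffine 𝔸(ULift.{u} (Fin n); (overOpen V V₀).left) := inferInstance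
    have : IsAffine (Over.mk ((𝔸(ULift.{u} (Fin n); (overOpen V V₀).left) ↘
        (overOpen V V₀).left) ≫ (overOpen V V₀).hom)).left := hA1
    have : IsLocallyNoetherian (Over.mk ((𝔸(ULift.{u} (Fin n); (overOpen V V₀).left) ↘
        (overOpen V V₀).left) ≫ (overOpen V V₀).hom)).left := hN1
    have hPq : IsQuasiCompactSp P :=
      hqc (IsAlgSpace.yon_obj _) (isQuasiCompactSp_yon_of_compactSpace _) _ fst snd sq
    exact ValCrit.isClosedMap_of_dvr_existVC hPq snd
      (locP_of_isPullback etLocalST_locallyOfFiniteType X.property Y.property sq hlft)
      (fun sq' hd => ValCrit.hasLiftExt_of_pushSq sq sq' (he (ValCrit.pushSq sq.w sq') hd))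
  · have psq := IsPullback.of_hasPullback f.hom sq.bot
    have hPalg := isAlgSpace_of_isPullback X.property Y.property.diag (IsAlgSpace.yon_obj _) psq
    obtain ⟨e, he⟩ := ValCrit.hasLiftExt_of_isClosedMap sq psq hPalg (hd sq.bot _ _ psq)
      (hc (IsAlgSpace.yon_obj _) sq.bot _ _ psq)
    obtain ⟨e₁, hfs, he₁⟩ := ValCrit.exists_finite_separable_of_hasLift sq psq hPalg e he
    have := hdvr
    exact ⟨e₁, DvrExt.isDiscreteValuationRing_of_finite_separable e₁.φ e₁.ψ e₁.comm e₁.isLocalHom hfs,
      hfs, he₁⟩

end Groth.Agent.S13897
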