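import Groth.Statements.S10064
import Groth.Agent.S13897
import Groth.Agent.S10280
import Groth.Agent.S10290
import Groth.Agent.Lib.Helper16.DiagLfp
import Groth.Agent.Lib.Helper16.ChartDiagram
import Groth.Agent.Lib.Helper16.FppfLocal2

open Groth.Agent.Lib.Helper16

set_option autoImplicit false
universe u
open CategoryTheory CategoryTheory.Limits AlgebraicGeometry
open AlgSp

namespace Groth.Agent.S10064

/-- Let `f : X ⟶ Y` be quasi-separated and locally of finite type with `Y` locally Noetherian. Then `f`
is separated if and only if every valuative test square for `f` whose valuation ring is a discrete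
valuation ring admits at most one dotted arrow. (The published statement also lists the uniqueness
part of the valuative criterion, over arbitrary valuation rings, as an equivalent condition, and a
refinement to squares hitting a codimension-0 point; neither is included in this row.) -/
theorem result (S : Scheme.{u}) {X Y : AlgSp.Space S} (f : X ⟶ Y)
    (hqs : AlgSp.IsQuasiSeparatedMor f.hom) (hft : AlgSp.LocP @LocallyOfFiniteType f.hom) (hY : AlgSp.IsLocNoethSp Y.obj) :
    AlgSp.IsSeparatedMor f.hom ↔ ∀ sq : AlgSp.ValSq f.hom, IsDiscreteValuationRing sq.A → sq.HasUniq := by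
  constructor
  · intro hsep sq _
    exact Groth.Agent.S10290.result f hsep sq
  · intro h
    have hXX : IsAlgSpace (pullback f.hom f.hom) :=
      isAlgSpace_of_isPullback X.property Y.property.diag X.property (IsPullback.of_hasPullback f.hom f.hom)
    have hQ : ∀ ⦃A B : Scheme.{u}⦄ (g : A ⟶ B), LocallyOfFiniteType g → IsLocallyNoetherian B →
        IsLocallyNoetherian A := fun A B g hg hB => by
      have := hg
      have := hB
      exact LocallyOfFiniteType.isLocallyNoetherian g
    have hXN : IsLocNoethSp X.obj := etaleLocally_of_locP_lft X.property f.hom hft _ hQ hY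
    have hsnd : LocP @LocallyOfFiniteType (pullback.snd f.hom f.hom) :=
      locP_of_isPullback etLocalST_locallyOfFiniteType X.property Y.property
        (IsPullback.of_hasPullback f.hom f.hom) hft
    have hXXN : IsLocNoethSp (pullback f.hom f.hom) :=
      etaleLocally_of_locP_lft hXX (pullback.snd f.hom f.hom) hsnd _ hQ hXN
    have hΔrep : RepWith @LocallyOfFiniteType (pullback.diagonal f.hom) :=
      repWith_mono (fun _ _ g hg => by
        have : LocallyOfFinitePresentation g := hg
        exact (inferInstance : LocallyOfFiniteType g)) _ (repWith_lfp_diagonal X.property Y.property f.hom hft)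
    have hΔlft : LocP @LocallyOfFiniteType (pullback.diagonal f.hom) :=
      (locP_iff_repWith etLocalST_locallyOfFiniteType X.property hXX _ hΔrep.rep).2 hΔrep
    have hΔqc : IsQuasiCompactMor (pullback.diagonal f.hom) := isQuasiCompactMor_of_repWith_quasiCompact _ hqs
    refine (Groth.Agent.S10280.result f).1.2 ?_
    refine (Groth.Agent.S13897.result S
      (ObjectProperty.homMk (pullback.diagonal f.hom) : X ⟶ (⟨pullback f.hom f.hom, hXX⟩ : AlgSp.Space S))
      ⟨hΔlft, hΔqc⟩ hXXN).1 ?_
    intro sq hdvr
    exact ⟨ValCrit.trivDomExt sq, ValCrit.hasLift_domExt_of_hasLift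
      (ValCrit.hasLift_diagonal_of_hasUniq sq (h (ValCrit.diagSq sq) hdvr)) _⟩

end Groth.Agent.S10064
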