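import Groth.Statements.S1007
import Groth.Agent.Lib.Helper2.Stk.RlimTrunc
import Groth.Agent.Lib.Helper13.AffineVanish

set_option autoImplicit false
universe u
open CategoryTheory CategoryTheory.Limits AlgebraicGeometry
attribute [local instance] HasDerivedCategory.standard
open Perf

namespace Groth.Agent.S1007

/-- Let X be a scheme and E an object of D(O_X) with quasi-coherent cohomology sheaves. Then the
canonical map from E to the derived limit of its truncations τ_{≥ -n}E is an isomorphism; concretely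
(granted the countable product of the truncations exists in D(O_X), which holds): the map E ⟶ ∏
τ_{≥-n}E with components the truncation morphisms, followed by 'identity minus transition', extends
to a distinguished triangle E ⟶ ∏ τ_{≥-n}E ⟶ ∏ τ_{≥-n}E ⟶ E[1]. -/
theorem result (X : Scheme.{u}) (E : DCoh.D X) (hE : DCoh.IsQCohD E)
    [HasProduct (fun n : ℕ => ((DerivedCategory.TStructure.t : CategoryTheory.Triangulated.TStructure (DCoh.D X)).truncGE (-(n : ℤ))).obj E)] :
    ∃ c : (∏ᶜ fun n : ℕ => ((DerivedCategory.TStructure.t : CategoryTheory.Triangulated.TStructure (DCoh.D X)).truncGE (-(n : ℤ))).obj E) ⟶ E⟦(1 : ℤ)⟧,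
      CategoryTheory.Pretriangulated.Triangle.mk
        (Pi.lift fun n : ℕ => ((DerivedCategory.TStructure.t : CategoryTheory.Triangulated.TStructure (DCoh.D X)).truncGEπ (-(n : ℤ))).app E)
        (Pi.lift fun n : ℕ => Pi.π (fun n : ℕ => ((DerivedCategory.TStructure.t : CategoryTheory.Triangulated.TStructure (DCoh.D X)).truncGE (-(n : ℤ))).obj E) n -
          Pi.π (fun n : ℕ => ((DerivedCategory.TStructure.t : CategoryTheory.Triangulated.TStructure (DCoh.D X)).truncGE (-(n : ℤ))).obj E) (n + 1) ≫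
            ((DerivedCategory.TStructure.t : CategoryTheory.Triangulated.TStructure (DCoh.D X)).natTransTruncGEOfLE (-((n + 1 : ℕ) : ℤ)) (-(n : ℤ)) (Int.neg_le_neg (Int.ofNat_le.mpr (Nat.le_succ n)))).app E)
        c ∈ CategoryTheory.Pretriangulated.distinguishedTriangles := by
  classical
  have hB : ∀ U : X.Opens, ∃ (ι : Type u) (Y : ι → X.Opens) (f : ∀ i, Y i ⟶ U),
      Sieve.ofArrows Y f ∈ Opens.grothendieckTopology X U ∧ ∀ i, Y i ∈ {V : X.Opens | IsAffineOpen V} := by
    intro U
    refine ⟨{V : X.affineOpens // V.1 ≤ U}, fun V => V.1.1, fun V => homOfLE V.2, ?_, fun V => V.1.2⟩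
    intro x hx
    obtain ⟨V, hV, hxV, hVU⟩ := (TopologicalSpace.Opens.isBasis_iff_nbhd.1 X.isBasis_affineOpens) hx
    exact ⟨V, homOfLE hVU, ⟨_, 𝟙 _, homOfLE hVU, ⟨(⟨⟨V, hV⟩, hVU⟩ : {V : X.affineOpens // V.1 ≤ U})⟩, by simp⟩, hxV⟩
  have h : ∀ V ∈ {V : X.Opens | IsAffineOpen V}, ∀ (m : ℤ) (k : ℕ), (fun _ : ℤ => (0 : ℤ)) m < k →
      Subsingleton (ModSite.HU X.sheaf
        ((DerivedCategory.homologyFunctor (ModSite.Mod X.sheaf) (m - k)).obj E) k V) := by
    intro V hV m k hk
    obtain ⟨p, rfl⟩ : ∃ p : ℕ, k = p + 1 := ⟨k - 1, by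
      have : (0 : ℤ) < k := hk
      omega⟩
    haveI : (DCoh.HD E (m - ((p + 1 : ℕ) : ℤ))).IsQuasicoherent := hE _
    exact Groth.Agent.Lib.Helper13.AffineVanish.subsingleton_HU_of_isAffineOpen
      (DCoh.HD E (m - ((p + 1 : ℕ) : ℤ))) hV p
  haveI hp : HasProduct (CohCx.truncTower E) := by
    unfold CohCx.truncTower
    infer_instance
  exact @Groth.Agent.Lib.Helper2.Stk.isRlimVia_truncTower_of_vanishing _ _ _ X.sheaf
    (HasDerivedCategory.standard _) E hp
    {V : X.Opens | IsAffineOpen V} hB (fun _ => 0) h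

end Groth.Agent.S1007
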