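import Groth.Statements.S10072
import Groth.Agent.Lib.Helper16.UnivA6
import Groth.Agent.Lib.Helper16.Univ
import Groth.Agent.Lib.Helper16.LocPGen
import Groth.Agent.Lib.Helper16.EtLocal

open Groth.Agent.Lib.Helper16

set_option autoImplicit false
universe u
open CategoryTheory CategoryTheory.Limits AlgebraicGeometry
open AlgSp

namespace Groth.Agent.S10072

open Groth.Agent.Lib.Helper16 in
theorem exists_affine_nbhd_through_chart {S : Scheme.{u}} {Y Z : AlgSp.Sp S} (hY : IsAlgSpace Y)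
    (hZ : IsAlgSpace Z) (g : Z ⟶ Y) (z : AlgSp.Points Z) :
    ∃ (V V₀ : Over S) (e : (AlgSp.yon S).obj V ⟶ Z) (b₀ : (AlgSp.yon S).obj V₀ ⟶ Y) (t' : V ⟶ V₀)
      (v : ↥V.left), IsAffine V.left ∧ IsAffine V₀.left ∧ RepWith @Etale e ∧ RepWith @Etale b₀ ∧
        AlgSp.Points.ofPt e v = z ∧ e ≫ g = (AlgSp.yon S).map t' ≫ b₀ := by
  obtain ⟨VY, p, hpe, hps⟩ := hY.atlas
  obtain ⟨W, ρ, t, h1, h2, h3⟩ := exists_etale_cover_through_chart p hpe hps hZ g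
  obtain ⟨w, rfl⟩ := ofPt_surjective_of_surjective ρ h2 z
  obtain ⟨V₀, hw⟩ : ∃ V₀ : VY.left.affineOpens, t.left w ∈ V₀.1 := by
    obtain ⟨V₀, hV₀, hw, -⟩ := (TopologicalSpace.Opens.isBasis_iff_nbhd.mp VY.left.isBasis_affineOpens)
      (show t.left w ∈ (⊤ : VY.left.Opens) from trivial)
    exact ⟨⟨V₀, hV₀⟩, hw⟩
  obtain ⟨O, hwO, hOle⟩ : ∃ O : W.left.affineOpens, w ∈ O.1 ∧ O.1 ≤ t.left ⁻¹ᵁ V₀.1 := by
    obtain ⟨O, hO, hwO, hOle⟩ := (TopologicalSpace.Opens.isBasis_iff_nbhd.mp W.left.isBasis_affineOpens)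
      (show w ∈ t.left ⁻¹ᵁ V₀.1 from hw)
    exact ⟨⟨O, hO⟩, hwO, hOle⟩
  have hw₁ : t.left.resLE V₀.1 O.1 hOle ≫ (overOpen VY V₀.1).hom = (overOpen W O.1).hom := by
    show t.left.resLE V₀.1 O.1 hOle ≫ V₀.1.ι ≫ VY.hom = O.1.ι ≫ W.hom
    rw [Scheme.Hom.resLE_comp_ι_assoc, Over.w t]
  have hw' : overOpenι W O.1 ≫ t = Over.homMk (t.left.resLE V₀.1 O.1 hOle) hw₁ ≫ overOpenι VY V₀.1 := by
    apply Over.OverMorphism.ext
    exact (Scheme.Hom.resLE_comp_ι _ _).symm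
  refine ⟨overOpen W O.1, overOpen VY V₀.1, (AlgSp.yon S).map (overOpenι W O.1) ≫ ρ,
    (AlgSp.yon S).map (overOpenι VY V₀.1) ≫ p, Over.homMk (t.left.resLE V₀.1 O.1 hOle) hw₁,
    (⟨w, hwO⟩ : ↥O.1), O.2, V₀.2, repWith_etale_restrict ρ h1 _, repWith_etale_restrict p hpe _, ?_, ?_⟩
  · rw [ofPt_restrict]
    rfl
  · rw [Category.assoc, h3, ← Category.assoc, ← Functor.map_comp, hw', Functor.map_comp, Category.assoc]



/-- Let `f : X ⟶ Y` be quasi-compact, `g : Z ⟶ Y` a morphism of algebraic spaces over `S`, `P = X ×_Y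
Z`, `z ∈ |Z|` and `T ⊂ |P|` closed with `z` not in the image of `T`. Then there are an affine etale
neighbourhood `(V, v) ⟶ (Z, z)`, an affine scheme `Z'` with `b : Z' ⟶ Y` locally of finite
presentation and `a : V ⟶ Z'` over `Y`, and for every fibre product `P' = X ×_Y Z'` a closed `T' ⊂
|P'|` whose image in `|Z'|` misses `a(v)` and which contains the image of the inverse image of `T`
in `|X ×_Y V|`. (The variant with `V` an open neighbourhood when `Z` is a scheme is not included.) -/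
theorem result (S : Scheme.{u}) {X Y Z : AlgSp.Space S} (f : X ⟶ Y) (g : Z ⟶ Y)
    (hf : AlgSp.IsQuasiCompactMor f.hom)
    (P : AlgSp.Sp S) (p₁ : P ⟶ X.obj) (p₂ : P ⟶ Z.obj) (hP : IsPullback p₁ p₂ f.hom g.hom)
    (z : AlgSp.Points Z.obj) (T : Set (AlgSp.Points P)) (hT : IsClosed T) (hz : z ∉ AlgSp.Points.map p₂ '' T) :
    ∃ (V : Over S) (_ : IsAffine V.left) (e : (AlgSp.yon S).obj V ⟶ Z.obj) (_ : AlgSp.RepWith @Etale e) (v : ↥V.left)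
      (_ : AlgSp.Points.map e (AlgSp.Points.schemeEquiv V v) = z)
      (Z' : Over S) (_ : IsAffine Z'.left) (b : (AlgSp.yon S).obj Z' ⟶ Y.obj) (_ : AlgSp.LocP @LocallyOfFinitePresentation b)
      (a : V ⟶ Z') (_ : (AlgSp.yon S).map a ≫ b = e ≫ g.hom),
      ∀ (P' : AlgSp.Sp S) (q₁ : P' ⟶ X.obj) (q₂ : P' ⟶ (AlgSp.yon S).obj Z'), IsPullback q₁ q₂ f.hom b →
        ∃ T' : Set (AlgSp.Points P'), IsClosed T' ∧
          AlgSp.Points.schemeEquiv Z' (a.left v) ∉ AlgSp.Points.map q₂ '' T' ∧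
          ∀ (PV : AlgSp.Sp S) (r₁ : PV ⟶ X.obj) (r₂ : PV ⟶ (AlgSp.yon S).obj V), IsPullback r₁ r₂ f.hom (e ≫ g.hom) →
            ∀ (κ₁ : PV ⟶ P) (κ₂ : PV ⟶ P'), κ₁ ≫ p₁ = r₁ → κ₁ ≫ p₂ = r₂ ≫ e → κ₂ ≫ q₁ = r₁ → κ₂ ≫ q₂ = r₂ ≫ (AlgSp.yon S).map a →
              ∀ w : AlgSp.Points PV, AlgSp.Points.map κ₁ w ∈ T → AlgSp.Points.map κ₂ w ∈ T' := by
  obtain ⟨V, V₀, e, b₀, t', v, hVa, hV₀a, hee, hb₀e, hev, hcomm⟩ :=
    exists_affine_nbhd_through_chart Y.property Z.property g.hom z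
  have sqV := IsPullback.of_hasPullback f.hom (e ≫ g.hom)
  have hκw : pullback.fst f.hom (e ≫ g.hom) ≫ f.hom = (pullback.snd f.hom (e ≫ g.hom) ≫ e) ≫ g.hom := by
    rw [pullback.condition, Category.assoc]
  obtain ⟨κ₀, hκ₀1, hκ₀2⟩ : ∃ κ₀ : pullback f.hom (e ≫ g.hom) ⟶ P,
      κ₀ ≫ p₁ = pullback.fst f.hom (e ≫ g.hom) ∧ κ₀ ≫ p₂ = pullback.snd f.hom (e ≫ g.hom) ≫ e :=
    ⟨hP.lift _ _ hκw, hP.lift_fst _ _ _, hP.lift_snd _ _ _⟩
  have sqV' : IsPullback (pullback.fst f.hom (e ≫ g.hom)) (pullback.snd f.hom (e ≫ g.hom)) f.hom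
      ((AlgSp.yon S).map t' ≫ b₀) := by
    rw [← hcomm]
    exact sqV
  have hTV : IsClosed (Points.map κ₀ ⁻¹' T) := hT.preimage (Points.continuous_map κ₀)
  have hevz : Points.map e (Points.schemeEquiv V v) = z := by
    rw [← hev]
    exact (Points.ofPt_eq_map_ofScheme e v).symm
  have hvT : Points.schemeEquiv V v ∉
      Points.map (pullback.snd f.hom (e ≫ g.hom)) '' (Points.map κ₀ ⁻¹' T) := by
    rintro ⟨τ, hτ, hτv⟩
    apply hz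
    refine ⟨Points.map κ₀ τ, hτ, ?_⟩
    rw [← Points.map_comp, hκ₀2, Points.map_comp, hτv, hevz]
  obtain ⟨n, σ, tn, hσ, htn, hsep⟩ := UnivA.exists_affineSpace_separating f.hom hf hV₀a b₀ hVa t' _ _ sqV'
    _ hTV v hvT
  have hA : IsAffine (Over.mk ((𝔸(ULift.{u} (Fin n); V₀.left) ↘ V₀.left) ≫ V₀.hom)).left := by
    have := hV₀a
    exact (inferInstance : IsAffine 𝔸(ULift.{u} (Fin n); V₀.left))
  have hb : LocP @LocallyOfFinitePresentation ((AlgSp.yon S).map σ ≫ b₀) := by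
    refine locP_of_chart etLocalST_locallyOfFinitePresentation _ (𝟙 _) b₀ σ (repWith_id _ _)
      (repWith_id _ _) hb₀e (Category.id_comp _) ?_
    rw [hσ]
    show LocallyOfFinitePresentation (𝔸(ULift.{u} (Fin n); V₀.left) ↘ V₀.left)
    infer_instance
  have hab : (AlgSp.yon S).map tn ≫ (AlgSp.yon S).map σ ≫ b₀ = e ≫ g.hom := by
    rw [← Category.assoc, ← Functor.map_comp, htn, hcomm]
  refine ⟨V, hVa, e, hee, v, hevz, _, hA, (AlgSp.yon S).map σ ≫ b₀, hb, tn, hab, ?_⟩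
  intro P' q₁ q₂ sq'
  have hMw : pullback.fst f.hom (e ≫ g.hom) ≫ f.hom =
      (pullback.snd f.hom (e ≫ g.hom) ≫ (AlgSp.yon S).map tn) ≫ (AlgSp.yon S).map σ ≫ b₀ := by
    rw [Category.assoc, hab]
    exact pullback.condition
  obtain ⟨M, hM1, hM2⟩ : ∃ M : pullback f.hom (e ≫ g.hom) ⟶ P',
      M ≫ q₁ = pullback.fst f.hom (e ≫ g.hom) ∧
      M ≫ q₂ = pullback.snd f.hom (e ≫ g.hom) ≫ (AlgSp.yon S).map tn :=
    ⟨sq'.lift _ _ hMw, sq'.lift_fst _ _ _, sq'.lift_snd _ _ _⟩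
  refine ⟨closure (Points.map M '' (Points.map κ₀ ⁻¹' T)), isClosed_closure,
    hsep P' q₁ q₂ sq' M hM1 hM2, ?_⟩
  intro PV r₁ r₂ sqPV κ₁ κ₂ h1 h2 h3 h4 w hw
  obtain ⟨θ, hθ1, hθ2⟩ : ∃ θ : PV ⟶ pullback f.hom (e ≫ g.hom),
      θ ≫ pullback.fst f.hom (e ≫ g.hom) = r₁ ∧ θ ≫ pullback.snd f.hom (e ≫ g.hom) = r₂ :=
    ⟨pullback.lift r₁ r₂ sqPV.w, pullback.lift_fst _ _ _, pullback.lift_snd _ _ _⟩
  have hθκ₁ : θ ≫ κ₀ = κ₁ := by
    apply hP.hom_ext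
    · rw [Category.assoc, hκ₀1, hθ1, h1]
    · rw [Category.assoc, hκ₀2, ← Category.assoc, hθ2, h2]
  have hθκ₂ : θ ≫ M = κ₂ := by
    apply sq'.hom_ext
    · rw [Category.assoc, hM1, hθ1, h3]
    · rw [Category.assoc, hM2, ← Category.assoc, hθ2, h4]
  apply subset_closure
  refine ⟨Points.map θ w, ?_, ?_⟩
  · show Points.map κ₀ (Points.map θ w) ∈ T
    rw [← Points.map_comp, hθκ₁]
    exact hw
  · rw [← Points.map_comp, hθκ₂]

end Groth.Agent.S10072
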