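import Groth.Statements.S10089
import Groth.Agent.Lib.Helper15.PSheaf
open Groth.Agent.Lib.Helper15

set_option autoImplicit false
universe u
open CategoryTheory CategoryTheory.Limits AlgebraicGeometry
open AlgSp

namespace Groth.Agent.S10089

/-- Let `a : F ⟶ G` be a map of presheaves of sets on schemes over `S` which is representable by
algebraic spaces. If `G` is an fppf sheaf, then so is `F`. -/
theorem result (S : Scheme.{u}) (F G : AlgSp.PSp S) (a : F ⟶ G)
    (ha : AlgSp.RepBySp a) (hG : Presheaf.IsSheaf (AlgSp.J S) G) :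
    Presheaf.IsSheaf (AlgSp.J S) F := by
  rw [isSheaf_iff_pyonSheafFor]
  intro T R hR x hx
  -- the image family in `G` glues
  obtain ⟨ξ, hξ, hξu⟩ := (isSheaf_iff_pyonSheafFor G).1 hG T R hR (fun T' f hf => x f hf ≫ a) (by
    intro T' T'' f g hf
    rw [hx f g hf, Category.assoc])
  have sq : IsPullback (pullback.fst a ξ) (pullback.snd a ξ) a ξ := IsPullback.of_hasPullback a ξ
  obtain ⟨hF', -⟩ := ha ξ (pullback.fst a ξ) (pullback.snd a ξ) sq
  obtain ⟨z, hz, hzu⟩ := (isSheaf_iff_pyonSheafFor (pullback a ξ)).1 hF' T R hR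
    (fun T' f hf => pullback.lift (x f hf) ((AlgSp.pyon S).map f) (hξ f hf).symm) (by
      intro T' T'' f g hf
      apply pullback.hom_ext
      · rw [pullback.lift_fst, Category.assoc, pullback.lift_fst, hx f g hf]
      · rw [pullback.lift_snd, Category.assoc, pullback.lift_snd, Functor.map_comp])
  refine ⟨z ≫ pullback.fst a ξ, ?_, ?_⟩
  · intro T' f hf
    rw [← Category.assoc, hz f hf, pullback.lift_fst]
  · intro x' hx'
    have h1 : x' ≫ a = ξ := by
      apply hξu
      intro T' f hf
      rw [← Category.assoc, hx' f hf]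
    have h2 : pullback.lift x' (𝟙 _) (by rw [h1, Category.id_comp]) = z := by
      apply hzu
      intro T' f hf
      apply pullback.hom_ext
      · rw [Category.assoc, pullback.lift_fst, pullback.lift_fst, hx' f hf]
      · rw [Category.assoc, pullback.lift_snd, pullback.lift_snd, Category.comp_id]
    rw [← h2, pullback.lift_fst]

end Groth.Agent.S10089
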