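import Groth.Statements.S10090
import Groth.Agent.Lib.Helper15.PSheaf
open Groth.Agent.Lib.Helper15

set_option autoImplicit false
universe u
open CategoryTheory CategoryTheory.Limits AlgebraicGeometry
open AlgSp

namespace Groth.Agent.S10090

/-- Let `a : F ⟶ G` be a map of presheaves of sets on schemes over `S` which is representable by
algebraic spaces. Then the relative diagonal `F ⟶ F ×_G F` is representable by algebraic spaces. -/
theorem result (S : Scheme.{u}) (F G : AlgSp.PSp S) (a : F ⟶ G)
    (ha : AlgSp.RepBySp a) : AlgSp.RepBySp (pullback.diagonal a) := by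
  intro U ξ F' fst snd sq
  have hx : (ξ ≫ pullback.fst a a) ≫ a = (ξ ≫ pullback.snd a a) ≫ a := by
    rw [Category.assoc, Category.assoc, pullback.condition]
  have sqE := IsPullback.of_hasPullback a ((ξ ≫ pullback.fst a a) ≫ a)
  obtain ⟨hE, hEalg⟩ := ha ((ξ ≫ pullback.fst a a) ≫ a) _ _ sqE
  let σ₁ : (AlgSp.yon S).obj U ⟶ (⟨pullback a ((ξ ≫ pullback.fst a a) ≫ a), hE⟩ : AlgSp.Sp S) :=
    ObjectProperty.homMk (pullback.lift (ξ ≫ pullback.fst a a) (𝟙 ((AlgSp.pyon S).obj U)) (Category.id_comp _).symm)
  let σ₂ : (AlgSp.yon S).obj U ⟶ (⟨pullback a ((ξ ≫ pullback.fst a a) ≫ a), hE⟩ : AlgSp.Sp S) :=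
    ObjectProperty.homMk (pullback.lift (ξ ≫ pullback.snd a a) (𝟙 ((AlgSp.pyon S).obj U)) (hx.symm.trans (Category.id_comp _).symm))
  obtain ⟨V, v, k, sqV⟩ := hEalg.diag (prod.lift σ₁ σ₂)
  have hk1 : k = (AlgSp.yon S).map v ≫ σ₁ := by
    have := congrArg (· ≫ prod.fst) sqV.w
    simpa only [Category.assoc, prod.lift_fst, Category.comp_id] using this
  have hk2 : k = (AlgSp.yon S).map v ≫ σ₂ := by
    have := congrArg (· ≫ prod.snd) sqV.w
    simpa only [Category.assoc, prod.lift_snd, Category.comp_id] using this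
  have hv12 : (AlgSp.pyon S).map v ≫ (ξ ≫ pullback.fst a a) = (AlgSp.pyon S).map v ≫ (ξ ≫ pullback.snd a a) := by
    have h1 := congrArg (fun m => m.hom ≫ pullback.fst a ((ξ ≫ pullback.fst a a) ≫ a)) (hk1.symm.trans hk2)
    simp only [σ₁, σ₂, ObjectProperty.FullSubcategory.comp_hom, ObjectProperty.homMk_hom, Category.assoc,
      pullback.lift_fst] at h1
    exact h1
  have key : IsPullback ((AlgSp.pyon S).map v ≫ (ξ ≫ pullback.fst a a)) ((AlgSp.pyon S).map v)
      (pullback.diagonal a) ξ := by
    apply isPullback_of_pyon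
    · apply pullback.hom_ext
      · simp only [Category.assoc, pullback.diagonal_fst, Category.comp_id]
      · rw [Category.assoc, Category.assoc, pullback.diagonal_snd, Category.comp_id]
        simp only [Category.assoc]
        exact hv12
    · intro T x y hxy
      have hx1 : x = y ≫ ξ ≫ pullback.fst a a := by
        have := congrArg (· ≫ pullback.fst a a) hxy
        simpa only [Category.assoc, pullback.diagonal_fst, Category.comp_id] using this
      have hx2 : x = y ≫ ξ ≫ pullback.snd a a := by
        have := congrArg (· ≫ pullback.snd a a) hxy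
        simpa only [Category.assoc, pullback.diagonal_snd, Category.comp_id] using this
      let y' : (AlgSp.yon S).obj T ⟶ (AlgSp.yon S).obj U := ObjectProperty.homMk y
      have hσ : y' ≫ σ₁ = y' ≫ σ₂ := by
        apply ObjectProperty.hom_ext
        apply pullback.hom_ext
        · simp only [σ₁, σ₂, y', ObjectProperty.FullSubcategory.comp_hom, ObjectProperty.homMk_hom,
            Category.assoc, pullback.lift_fst]
          exact hx1.symm.trans hx2
        · simp only [σ₁, σ₂, y', ObjectProperty.FullSubcategory.comp_hom, ObjectProperty.homMk_hom,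
            Category.assoc, pullback.lift_snd]
      have hw : (y' ≫ σ₁) ≫ Limits.diag _ = y' ≫ prod.lift σ₁ σ₂ := by
        apply Limits.prod.hom_ext
        · simp only [Category.assoc, prod.lift_fst, Category.comp_id]
        · simp only [Category.assoc, prod.lift_snd, Category.comp_id, hσ]
      refine ⟨(sqV.lift (y' ≫ σ₁) y' hw).hom, ⟨?_, ?_⟩, ?_⟩
      · have h1 := congrArg (fun m => m.hom) (sqV.lift_snd (y' ≫ σ₁) y' hw)
        have h2 : (sqV.lift (y' ≫ σ₁) y' hw).hom ≫ (AlgSp.pyon S).map v = y := h1
        exact ((Category.assoc _ _ _).symm.trans (congrArg (· ≫ ξ ≫ pullback.fst a a) h2)).trans hx1.symm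
      · exact congrArg (fun m => m.hom) (sqV.lift_snd (y' ≫ σ₁) y' hw)
      · rintro q ⟨-, hq2⟩
        let q' : (AlgSp.yon S).obj T ⟶ (AlgSp.yon S).obj V := ObjectProperty.homMk q
        have hq' : q' ≫ (AlgSp.yon S).map v = y' := by
          apply ObjectProperty.hom_ext
          exact hq2
        have : q' = sqV.lift (y' ≫ σ₁) y' hw := by
          apply sqV.hom_ext
          · rw [sqV.lift_fst, hk1, ← Category.assoc, hq']
          · rw [sqV.lift_snd, hq']
        rw [← this]
        rfl
  exact ((AlgSp.isAlgSpaceP_obj_iff _).2 (AlgSp.IsAlgSpace.yon_obj V)).of_iso (key.isoIsPullback _ _ sq)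

end Groth.Agent.S10090
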