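import Groth.Statements.S10100
import Groth.Agent.Lib.Helper16.EtChartSp
open Groth.Agent.Lib.Helper16 Groth.Agent.Lib.Helper15 AlgSp

set_option autoImplicit false
universe u
open CategoryTheory CategoryTheory.Limits AlgebraicGeometry
open AlgSp

namespace Groth.Agent.S10100

/-- Let `F` be a presheaf of sets on schemes over `S`, `X` a scheme over `S` and `h_X ⟶ F` a map which
is representable by algebraic spaces and locally quasi-finite. Then `h_X ⟶ F` is representable by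
schemes. -/
theorem result (S : Scheme.{u}) (F : AlgSp.PSp S) (X : Over S)
    (p : (AlgSp.pyon S).obj X ⟶ F)
    (hp : AlgSp.RepBySpWith (AlgSp.LocP (@LocallyQuasiFinite ⊓ @LocallyOfFiniteType)) p) :
    (AlgSp.pyon S).relativelyRepresentable p := by
  intro T ξ
  have sqP := IsPullback.of_hasPullback p ξ
  obtain ⟨hsh, hA, hQ⟩ := hp ξ (pullback.fst p ξ) (pullback.snd p ξ) sqP
  let Z : AlgSp.Sp S := ⟨pullback p ξ, hsh⟩
  let i : Z ⟶ (yon S).obj X := ObjectProperty.homMk (pullback.fst p ξ)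
  let j : Z ⟶ (yon S).obj T := ObjectProperty.homMk (pullback.snd p ξ)
  obtain ⟨X₀, -⟩ : ∃ X₀ : X ⟶ Over.mk (𝟙 S), True := ⟨Over.mkIdTerminal.from X, trivial⟩
  obtain ⟨T₀, -⟩ : ∃ T₀ : T ⟶ Over.mk (𝟙 S), True := ⟨Over.mkIdTerminal.from T, trivial⟩
  have sq₀ := (IsPullback.of_hasPullback X₀ T₀).map (yon S)
  obtain ⟨k, hk1, hk2⟩ : ∃ k : Z ⟶ (yon S).obj (pullback X₀ T₀),
      k ≫ (yon S).map (pullback.fst X₀ T₀) = i ∧ k ≫ (yon S).map (pullback.snd X₀ T₀) = j :=
    ⟨sq₀.lift i j (DimZero.hom_yon_terminal_ext _ _), sq₀.lift_fst _ _ _, sq₀.lift_snd _ _ _⟩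
  have hmono : Mono k := ⟨fun {Q} l l' h => by
    have h1 : l ≫ i = l' ≫ i := by rw [← hk1, ← Category.assoc, h, Category.assoc]
    have h2 : l ≫ j = l' ≫ j := by rw [← hk2, ← Category.assoc, h, Category.assoc]
    apply ObjectProperty.hom_ext
    apply sqP.hom_ext
    · exact congrArg (fun t => t.hom) h1
    · exact congrArg (fun t => t.hom) h2⟩
  have hjlft : LocP @LocallyOfFiniteType j := fun U V a b h ha hb c => (hQ a b h ha hb c).2
  have hklft : LocP @LocallyOfFiniteType k := by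
    refine locP_lft_of_comp (IsAlgSpace.yon_obj T) k ((yon S).map (pullback.snd X₀ T₀)) ?_
    rw [hk2]; exact hjlft
  obtain ⟨M, ⟨ε⟩⟩ := EtChart.exists_iso_yon_of_mono_lft (Z := Z) hA k hklft
  obtain ⟨s, hs⟩ := (yon S).map_surjective (ε.hom ≫ j)
  refine ⟨M, s, (ε.hom ≫ i).hom, ?_⟩
  obtain ⟨e', he'⟩ : ∃ e' : ((yon S).obj M).obj ≅ pullback p ξ, e'.hom = ε.hom.hom :=
    ⟨(sheafToPresheaf (J S) (Type (u + 1))).mapIso ε, rfl⟩
  have hcomm : e'.hom ≫ pullback.snd p ξ = (pyon S).map s ≫ 𝟙 _ := by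
    rw [Category.comp_id, he']
    exact (congrArg (fun t => t.hom) hs).symm
  have h1 : IsPullback e'.hom ((pyon S).map s) (pullback.snd p ξ) (𝟙 _) :=
    IsPullback.of_horiz_isIso ⟨hcomm⟩
  have h2 := h1.paste_horiz sqP
  rw [Category.id_comp, he'] at h2
  exact h2

end Groth.Agent.S10100
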