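import Groth.Statements.S10102
import Mathlib
import Groth.Agent.S10103
import Groth.Agent.Lib.Helper16.EtChartSp
import Groth.Agent.Lib.Helper16.LocPSource

set_option autoImplicit false
universe u
open CategoryTheory CategoryTheory.Limits AlgebraicGeometry
open AlgSp

namespace Groth.Agent.S10102

/-- Let `(U, R, s, t, c)` be a groupoid in algebraic spaces over `S` whose `j = (t, s)` is an
equivalence relation and whose `s, t` are flat and locally of finite presentation; equivalently (the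
composition being determined by it) an equivalence relation `s, t : R ⟶ U` of algebraic spaces over
`S` with `s, t` flat and locally of finite presentation. Then the fppf quotient sheaf `U/R` is an
algebraic space over `S`. -/
theorem result (S : Scheme.{u}) (R U : AlgSp.Sp S)
    (hR : AlgSp.IsAlgSpace R) (hU : AlgSp.IsAlgSpace U) (s t : R ⟶ U) (hj : AlgSp.IsEqvRelSp s t)
    (hs : AlgSp.LocP @Flat s ∧ AlgSp.LocP @LocallyOfFinitePresentation s)
    (ht : AlgSp.LocP @Flat t ∧ AlgSp.LocP @LocallyOfFinitePresentation t) :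
    AlgSp.IsAlgSpace (AlgSp.quotSp s t) := by
  classical
  obtain ⟨U', a, hae, has⟩ := hU.atlas
  have hU' : IsAlgSpace ((yon S).obj U') := IsAlgSpace.yon_obj U'
  haveI hepi_a : Epi a := Groth.Agent.Lib.Helper16.epi_of_etale_surjective a hae has
  haveI hepi_π : Epi (quotSpπ s t) := Groth.Agent.Lib.Helper15.epi_quotSpπ s t
  have sq1 : IsPullback (pullback.fst a t) (pullback.snd a t) a t := IsPullback.of_hasPullback a t
  have hP1 : IsAlgSpace (pullback a t) :=
    Groth.Agent.Lib.Helper16.isAlgSpace_of_isPullback hU' hU.diag hR sq1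
  obtain ⟨g, hg⟩ : ∃ g : pullback a t ⟶ U, g = pullback.snd a t ≫ s := ⟨_, rfl⟩
  have sq2 : IsPullback (pullback.fst g a) (pullback.snd g a) g a := IsPullback.of_hasPullback g a
  have hR' : IsAlgSpace (pullback g a) :=
    Groth.Agent.Lib.Helper16.isAlgSpace_of_isPullback hP1 hU.diag hU' sq2
  have hsnd1 : RepWith @Etale (pullback.snd a t) := (RepWith @Etale).of_isPullback sq1 hae
  have hfst2 : RepWith @Etale (pullback.fst g a) := (RepWith @Etale).of_isPullback sq2.flip hae
  obtain ⟨s', hs'⟩ : ∃ s' : pullback g a ⟶ (yon S).obj U', s' = pullback.snd g a := ⟨_, rfl⟩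
  obtain ⟨t', ht'⟩ : ∃ t' : pullback g a ⟶ (yon S).obj U', t' = pullback.fst g a ≫ pullback.fst a t :=
    ⟨_, rfl⟩
  have hloc : ∀ {P : MorphismProperty Scheme.{u}} (hP : Groth.Agent.Lib.Helper16.EtLocalST P),
      LocP P s → LocP P t → LocP P s' ∧ LocP P t' := by
    intro P hP hPs hPt
    have h1 : LocP P (pullback.snd a t) :=
      Groth.Agent.Lib.Helper16.locP_of_repWith_etale hP hP1 hR _ hsnd1
    have h2 : LocP P g := by
      rw [hg]
      exact Groth.Agent.Lib.Helper16.locP_comp hP hP1 hR hU _ _ h1 hPs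
    have h3 : LocP P (pullback.snd g a) :=
      Groth.Agent.Lib.Helper16.locP_of_isPullback hP hP1 hU sq2 h2
    have h4 : LocP P (pullback.fst a t) :=
      Groth.Agent.Lib.Helper16.locP_of_isPullback hP hR hU sq1.flip hPt
    have h5 : LocP P (pullback.fst g a) :=
      Groth.Agent.Lib.Helper16.locP_of_repWith_etale hP hR' hP1 _ hfst2
    refine ⟨hs' ▸ h3, ?_⟩
    rw [ht']
    exact Groth.Agent.Lib.Helper16.locP_comp hP hR' hP1 hU' _ _ h5 h4
  obtain ⟨hfl_s', hfl_t'⟩ := hloc Groth.Agent.Lib.Helper16.etLocalST_flat hs.1 ht.1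
  obtain ⟨hfp_s', hfp_t'⟩ :=
    hloc Groth.Agent.Lib.Helper16.etLocalST_locallyOfFinitePresentation hs.2 ht.2
  -- the kernel pair square
  have sqQ := Groth.Agent.Lib.Helper15.isPullback_quotSpπ hj
  obtain ⟨p, hp⟩ : ∃ p : (yon S).obj U' ⟶ quotSp s t, p = a ≫ quotSpπ s t := ⟨_, rfl⟩
  haveI hepi_p : Epi p := by rw [hp]; exact epi_comp a _
  have h12 : IsPullback g (pullback.fst a t) (quotSpπ s t) p := by
    rw [hg, hp]
    exact sq1.flip.paste_horiz sqQ.flip
  have sqR' : IsPullback t' s' p p := by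
    have h3 := sq2.flip.paste_vert h12
    rw [← hp, ← hs', ← ht'] at h3
    exact h3.flip
  -- the map to the product
  have hc1 : prodComparison (yon S) U' U' ≫ prod.fst = (yon S).map prod.fst := prod.lift_fst _ _
  have hc2 : prodComparison (yon S) U' U' ≫ prod.snd = (yon S).map prod.snd := prod.lift_snd _ _
  haveI : PreservesLimit (pair U' U') (yon S) := by
    haveI : PreservesFiniteProducts (AlgSp.yon S) := ⟨fun _ => inferInstance⟩
    infer_instance
  obtain ⟨m, hm1, hm2⟩ : ∃ m : pullback g a ⟶ (yon S).obj (U' ⨯ U'),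
      m ≫ (yon S).map prod.fst = t' ∧ m ≫ (yon S).map prod.snd = s' := by
    refine ⟨prod.lift t' s' ≫ inv (prodComparison (yon S) U' U'), ?_, ?_⟩
    · rw [← hc1, Category.assoc, IsIso.inv_hom_id_assoc, prod.lift_fst]
    · rw [← hc2, Category.assoc, IsIso.inv_hom_id_assoc, prod.lift_snd]
  haveI hmono : Mono m := ⟨fun z z' h => by
    apply sqR'.hom_ext
    · rw [← hm1, ← Category.assoc, h, Category.assoc]
    · rw [← hm2, ← Category.assoc, h, Category.assoc]⟩
  have hlft_s' : LocP @LocallyOfFiniteType s' :=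
    Groth.Agent.Lib.Helper16.locP_mono
      (fun _ _ f (hf : LocallyOfFinitePresentation f) => (inferInstance : LocallyOfFiniteType f)) hfp_s'
  have hlft_m : LocP @LocallyOfFiniteType m := by
    apply Groth.Agent.Lib.Helper16.locP_lft_of_comp hU' m ((yon S).map prod.snd)
    rw [hm2]
    exact hlft_s'
  obtain ⟨R₀, ⟨e⟩⟩ := Groth.Agent.Lib.Helper16.EtChart.exists_iso_yon_of_mono_lft hR' m hlft_m
  obtain ⟨t₀, ht₀⟩ := (yon S).map_surjective (e.hom ≫ t')
  obtain ⟨s₀, hs₀⟩ := (yon S).map_surjective (e.hom ≫ s')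
  have heI : RepWith @Etale e.hom := (RepWith (S := S) @Etale).of_isIso e.hom
  have e1 : e.hom ≫ t' = (yon S).map t₀ ≫ 𝟙 _ := by rw [ht₀, Category.comp_id]
  have e2 : e.hom ≫ s' = (yon S).map s₀ ≫ 𝟙 _ := by rw [hs₀, Category.comp_id]
  haveI : Flat t₀.left := hfl_t' e.hom (𝟙 _) t₀ heI (repWith_id _ U') e1
  haveI : LocallyOfFinitePresentation t₀.left := hfp_t' e.hom (𝟙 _) t₀ heI (repWith_id _ U') e1
  haveI : Flat s₀.left := hfl_s' e.hom (𝟙 _) s₀ heI (repWith_id _ U') e2
  haveI : LocallyOfFinitePresentation s₀.left := hfp_s' e.hom (𝟙 _) s₀ heI (repWith_id _ U') e2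
  have sq : IsPullback ((yon S).map t₀) ((yon S).map s₀) p p := by
    rw [ht₀, hs₀]
    exact IsPullback.of_iso sqR' e.symm (Iso.refl _) (Iso.refl _) (Iso.refl _)
      (by simp) (by simp) (by simp) (by simp)
  have hEq : IsEqvRel s₀ t₀ := H10PT.SS.isEqvRel_of_isPullback s₀ t₀ p sq
  have hQ := Groth.Agent.S10103.result S s₀ t₀ hEq
  obtain ⟨e₁, -⟩ := Groth.Agent.Lib.Helper16.QuotOpen.exists_iso_quot_quotSp s₀ t₀
  have hQ' : IsAlgSpace (quotSp ((yon S).map s₀) ((yon S).map t₀)) := hQ.of_iso e₁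
  have hEqSp := Groth.Agent.S9868.isEqvRelSp_yon s₀ t₀ hEq
  have sqQ₀ := Groth.Agent.Lib.Helper15.isPullback_quotSpπ hEqSp
  haveI : Epi (quotSpπ ((yon S).map s₀) ((yon S).map t₀)) :=
    Groth.Agent.Lib.Helper15.epi_quotSpπ _ _
  obtain ⟨e', -⟩ := H10PT.SS.exists_iso_of_epis p (quotSpπ ((yon S).map s₀) ((yon S).map t₀))
    (fun T x y => by
      rw [H10PT.SS.rel_iff_of_isPullback s₀ t₀ p sq x y,
        H10PT.SS.rel_iff_of_isPullback s₀ t₀ _ sqQ₀ x y])
  exact hQ'.of_iso e'.symm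

end Groth.Agent.S10102
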