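import Groth.Statements.S10105
import Mathlib
import Groth.Agent.Lib.Helper10.FD1

set_option autoImplicit false
universe u
open CategoryTheory CategoryTheory.Limits AlgebraicGeometry
open AlgSp

namespace Groth.Agent.S10105

/-- Let `F` be an fppf sheaf of sets over `S` and `{S_i ⟶ S}` an fppf covering. If every `h_{S_i} × F`
is an algebraic space and the coproduct `∐ h_{S_i} × F` (in sheaves) is an algebraic space, then `F`
is an algebraic space: being an algebraic space is fppf local on the base. -/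
theorem result (S : Scheme.{u}) (F : AlgSp.Sp S) {ι : Type u} (Si : ι → Over S)
    (hfl : ∀ i, Flat (Si i).hom) (hfp : ∀ i, LocallyOfFinitePresentation (Si i).hom)
    (hsurj : ∀ x : ↥S, ∃ (i : ι) (y : ↥(Si i).left), (Si i).hom.base y = x)
    (halg : ∀ i, AlgSp.IsAlgSpace ((AlgSp.yon S).obj (Si i) ⨯ F))
    (c : Cofan (fun i => (AlgSp.yon S).obj (Si i) ⨯ F)) (hc : IsColimit c) (hcop : AlgSp.IsAlgSpace c.pt) :
    AlgSp.IsAlgSpace F := by
  classical
  have t := Groth.Agent.Lib.Helper16.SpCoprod.isTerminalOne S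
  obtain ⟨m, hm⟩ : ∃ m : ∀ i, Si i ⟶ Groth.Agent.Lib.Helper16.SpCoprod.one S,
      ∀ i, (m i).left = (Si i).hom :=
    ⟨fun i => Over.homMk (Si i).hom (by simp), fun i => rfl⟩
  have hX : IsAlgSpace ((yon S).obj (Groth.Agent.Lib.Helper16.SpCoprod.one S)) := IsAlgSpace.yon_obj _
  have hlocP : ∀ {P : MorphismProperty Scheme.{u}} (hP : Groth.Agent.Lib.Helper16.EtLocalST P) (i : ι),
      P (Si i).hom → LocP P ((yon S).map (m i)) := by
    intro P hP i hi
    haveI := hP.baseChange
    rw [Groth.Agent.Lib.Helper16.locP_iff_repWith hP (IsAlgSpace.yon_obj _) hX _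
      (representable_yon_map _)]
    rw [repWith_yon_map_iff, hm i]
    exact hi
  have hcov : IsFppfCover (fun i => (yon S).obj (Si i)) (fun i => (yon S).map (m i)) := by
    refine ⟨fun i => ⟨hlocP Groth.Agent.Lib.Helper16.etLocalST_flat i (hfl i),
      hlocP Groth.Agent.Lib.Helper16.etLocalST_locallyOfFinitePresentation i (hfp i)⟩, fun x => ?_⟩
    obtain ⟨s, rfl⟩ := (Points.schemeHomeo (Groth.Agent.Lib.Helper16.SpCoprod.one S)).surjective x
    obtain ⟨i, y, hy⟩ := hsurj s
    refine ⟨i, Points.schemeHomeo (Si i) y, ?_⟩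
    rw [Points.map_yon_map_apply]
    congr 1
    rw [hm i]
    exact hy
  refine H10PT.FD.isAlgSpace_of_fppf_cover hX (fun i => (yon S).obj (Si i))
    (fun i => IsAlgSpace.yon_obj _) (fun i => (yon S).map (m i)) hcov F (t.from F) (fun i => ?_)
  have sq : IsPullback (prod.fst : (yon S).obj (Si i) ⨯ F ⟶ _) prod.snd (t.from _) (t.from _) :=
    IsPullback.of_is_product' (prodIsProd _ _) t
  have e : t.from ((yon S).obj (Si i)) = (yon S).map (m i) := t.hom_ext _ _
  rw [e] at sq
  exact (halg i).of_iso sq.flip.isoPullback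

end Groth.Agent.S10105
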