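import Groth.Statements.S10106
import Mathlib
import Groth.Agent.S10104

set_option autoImplicit false
universe u
open CategoryTheory CategoryTheory.Limits AlgebraicGeometry
open AlgSp

namespace Groth.Agent.S10106

/-- Let `a : F ⟶ G` and `b : G ⟶ H` be maps of fppf sheaves of sets over `S` where `a` is flat,
surjective, locally of finite presentation and representable by algebraic spaces, and the composite
`a ≫ b` is representable by algebraic spaces. Then so is `b`. -/
theorem result (S : Scheme.{u}) (F G H : AlgSp.Sp S) (a : F ⟶ G) (b : G ⟶ H)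
    (ha : AlgSp.RepBySpWith (AlgSp.IsSurjectiveMor ⊓ AlgSp.LocP @Flat ⊓ AlgSp.LocP @LocallyOfFinitePresentation) a.hom) (hab : AlgSp.RepBySp (a ≫ b).hom) :
    AlgSp.RepBySp b.hom := by
  rw [repBySp_hom_iff]
  intro T ξ G' fst snd sq
  have sqF : IsPullback (pullback.fst a fst) (pullback.snd a fst) a fst :=
    IsPullback.of_hasPullback a fst
  have hF' : IsAlgSpace (pullback a fst) :=
    (repBySp_hom_iff (a ≫ b)).1 hab ξ _ _ (sqF.paste_vert sq)
  have hbc : RepBySpWith (IsSurjectiveMor ⊓ LocP @Flat ⊓ LocP @LocallyOfFinitePresentation)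
      (pullback.snd a fst).hom := by
    rw [repBySpWith_hom_iff] at ha ⊢
    intro V ζ F'' f1 f2 sq'
    exact ha (ζ ≫ fst) (f1 ≫ pullback.fst a fst) f2 (sq'.paste_horiz sqF)
  exact Groth.Agent.S10104.result S G' ⟨pullback a fst, hF'⟩ (pullback.snd a fst) hbc

end Groth.Agent.S10106
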