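import Groth.Statements.S10107
import Mathlib
import Groth.Agent.Lib.Helper17.AlgSpEpi
import Groth.Agent.Lib.Helper16.LocPInst
import Groth.Agent.Lib.Helper17.AlgSpProper

set_option autoImplicit false
universe u
open CategoryTheory CategoryTheory.Limits AlgebraicGeometry
open AlgSp

namespace Groth.Agent.S10107

/-- Let `F = U/R` be an algebraic space which is the fppf quotient of a groupoid in algebraic spaces
`(U, R, s, t, c)` over `S` with `s, t` flat and locally of finite presentation and `j = (t, s)` an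
equivalence relation (equivalently, the composition being determined by it, of an equivalence
relation `s, t : R ⟶ U` of algebraic spaces with these properties). Then `U ⟶ F` is surjective, flat
and locally of finite presentation. -/
theorem result (S : Scheme.{u}) (R U : AlgSp.Sp S)
    (hR : AlgSp.IsAlgSpace R) (hU : AlgSp.IsAlgSpace U) (s t : R ⟶ U) (hj : AlgSp.IsEqvRelSp s t)
    (hs : AlgSp.LocP @Flat s ∧ AlgSp.LocP @LocallyOfFinitePresentation s)
    (ht : AlgSp.LocP @Flat t ∧ AlgSp.LocP @LocallyOfFinitePresentation t)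
    (hF : AlgSp.IsAlgSpace (AlgSp.quotSp s t)) :
    AlgSp.IsSurjectiveMor (AlgSp.quotSpπ s t) ∧ AlgSp.LocP @Flat (AlgSp.quotSpπ s t) ∧
      AlgSp.LocP @LocallyOfFinitePresentation (AlgSp.quotSpπ s t) := by
  have hpre : AlgSp.IsPreEqvRelSp s t := hj.equivalence
  haveI : Epi (AlgSp.quotSpπ s t) := Groth.Agent.Lib.Helper15.epi_quotSpπ s t
  -- `R ≅ U ×_F U`
  haveI hjepi : Epi (pullback.lift t s (AlgSp.quotSp_condition s t).symm :
      R ⟶ pullback (AlgSp.quotSpπ s t) (AlgSp.quotSpπ s t)) :=
    Groth.Agent.Lib.Helper15.epi_lift_of_isPreEqvRelSp hpre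
  haveI hjmono : Mono (pullback.lift t s (AlgSp.quotSp_condition s t).symm :
      R ⟶ pullback (AlgSp.quotSpπ s t) (AlgSp.quotSpπ s t)) := by
    constructor
    intro Z a b hab
    apply Groth.Agent.Lib.Helper15.sp_hom_ext'
    intro T z
    apply hj.injective T
    · have := congrArg (fun m => z ≫ m ≫ pullback.fst _ _) hab
      simpa only [Category.assoc, pullback.lift_fst] using this
    · have := congrArg (fun m => z ≫ m ≫ pullback.snd _ _) hab
      simpa only [Category.assoc, pullback.lift_snd] using this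
  haveI hjiso : IsIso (pullback.lift t s (AlgSp.quotSp_condition s t).symm :
      R ⟶ pullback (AlgSp.quotSpπ s t) (AlgSp.quotSpπ s t)) := isIso_of_mono_of_epi _
  have hPB : AlgSp.IsAlgSpace (pullback (AlgSp.quotSpπ s t) (AlgSp.quotSpπ s t)) :=
    Groth.Agent.Lib.Helper16.isAlgSpace_of_isPullback hU hF.diag hU (IsPullback.of_hasPullback _ _)
  have hsnd : ∀ {P : MorphismProperty Scheme.{u}} (hP : Groth.Agent.Lib.Helper16.EtLocalST P),
      AlgSp.LocP P s → AlgSp.LocP P (pullback.snd (AlgSp.quotSpπ s t) (AlgSp.quotSpπ s t)) := by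
    intro P hP hs'
    have e : pullback.snd (AlgSp.quotSpπ s t) (AlgSp.quotSpπ s t) =
        inv (pullback.lift t s (AlgSp.quotSp_condition s t).symm :
          R ⟶ pullback (AlgSp.quotSpπ s t) (AlgSp.quotSpπ s t)) ≫ s := by
      rw [IsIso.eq_inv_comp, pullback.lift_snd]
    rw [e]
    have : MorphismProperty.RespectsIso P := hP.respectsIso
    have hmul := hP.mult
    refine Groth.Agent.Lib.Helper16.locP_comp hP hPB hR hU _ _ ?_ hs'
    refine Groth.Agent.Lib.Helper16.locP_of_repWith P P (fun A B C m i hm hi => hP.precomp m i hm hi) _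
      (Groth.Agent.Lib.Helper17.repWith_of_isIso _ _)
  have href := Groth.Agent.Lib.Helper17.fpqcRefines_of_epi (AlgSp.quotSpπ s t)
  refine ⟨Groth.Agent.Lib.Helper17.isSurjectiveMor_of_epi _, ?_, ?_⟩
  · exact Groth.Agent.Lib.Helper16.locP_of_fpqcRefines Groth.Agent.Lib.Helper16.etLocalST_flat
      (fun _ : PUnit.{u + 1} => U) (fun _ => hU) (fun _ => AlgSp.quotSpπ s t) href (AlgSp.quotSpπ s t)
      (fun _ => pullback (AlgSp.quotSpπ s t) (AlgSp.quotSpπ s t)) (fun _ => hPB)
      (fun _ => pullback.snd _ _) (fun _ => pullback.fst _ _) (fun _ => IsPullback.of_hasPullback _ _)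
      (fun _ => hsnd Groth.Agent.Lib.Helper16.etLocalST_flat hs.1)
  · exact Groth.Agent.Lib.Helper16.locP_of_fpqcRefines
      Groth.Agent.Lib.Helper16.etLocalST_locallyOfFinitePresentation
      (fun _ : PUnit.{u + 1} => U) (fun _ => hU) (fun _ => AlgSp.quotSpπ s t) href (AlgSp.quotSpπ s t)
      (fun _ => pullback (AlgSp.quotSpπ s t) (AlgSp.quotSpπ s t)) (fun _ => hPB)
      (fun _ => pullback.snd _ _) (fun _ => pullback.fst _ _) (fun _ => IsPullback.of_hasPullback _ _)
      (fun _ => hsnd Groth.Agent.Lib.Helper16.etLocalST_locallyOfFinitePresentation hs.2)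

end Groth.Agent.S10107
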