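import Groth.Statements.S10108
import Mathlib
import Groth.Agent.Lib.Helper10.EtQuotA
import Groth.Agent.S9868
import Groth.Agent.S9869

set_option autoImplicit false
universe u
open CategoryTheory CategoryTheory.Limits AlgebraicGeometry
open AlgSp

namespace Groth.Agent.S10108

/-- A presheaf of sets on schemes over `S` which is a sheaf for the etale topology, has diagonal
representable by schemes, and receives a representable surjective etale map from a scheme over `S`,
is an algebraic space (in particular an fppf sheaf): algebraic spaces defined with the etale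
topology are the same as with the fppf topology. -/
theorem result (S : Scheme.{u}) (F : AlgSp.PSp S)
    (h1 : Presheaf.IsSheaf (QuotSh.J Scheme.etalePrecoverage S) F)
    (h2 : (AlgSp.pyon S).relativelyRepresentable (Limits.diag F))
    (U : Over S) (p : (AlgSp.pyon S).obj U ⟶ F)
    (h3 : (MorphismProperty.inverseImage @Etale (Over.forget S)).relative (AlgSp.pyon S) p ∧
      (MorphismProperty.inverseImage @Surjective (Over.forget S)).relative (AlgSp.pyon S) p) :
    AlgSp.IsAlgSpaceP F := by
  obtain ⟨hrep, het⟩ := h3.1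
  obtain ⟨-, hsurj⟩ := h3.2
  obtain ⟨R, s, t', sq⟩ := hrep p
  obtain ⟨t, rfl⟩ := (pyon S).map_surjective t'
  have hrel : ∀ {T : Over S} (x y : T ⟶ U),
      (pyon S).map x ≫ p = (pyon S).map y ≫ p ↔ ∃ r : T ⟶ R, r ≫ t = x ∧ r ≫ s = y :=
    fun x y => H10PT.EtQuot.rel_iff_of_isPullback s t p sq x y
  have hEt : IsEtaleEqvRel s t :=
    { injective := fun T r r' h1 h2 => by
        apply (pyon S).map_injective
        apply sq.hom_ext
        · rw [← Functor.map_comp, ← Functor.map_comp, h1]
        · rw [← Functor.map_comp, ← Functor.map_comp, h2]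
      equivalence := fun T => by
        have key : ∀ a b : T ⟶ U, (∃ r : T ⟶ R, r ≫ t = a ∧ r ≫ s = b) ↔
            (pyon S).map a ≫ p = (pyon S).map b ≫ p := fun a b => (hrel a b).symm
        exact ⟨fun a => (key a a).2 rfl, fun {a b} hab => (key b a).2 ((key a b).1 hab).symm,
          fun {a b c} hab hbc => (key a c).2 (((key a b).1 hab).trans ((key b c).1 hbc))⟩
      etale_left := het p ((pyon S).map t) s sq
      etale_right := het p ((pyon S).map s) t sq.flip }
  have hq := Groth.Agent.S9868.result S s t hEt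
  have hP := Groth.Agent.S9869.result S s t hEt hq
  suffices main : ∀ (F' : Sp S) (hq : IsAlgSpace F') (p' : (yon S).obj U ⟶ F')
      (hP : IsPresentation s t p'), AlgSp.IsAlgSpaceP F from main _ hq _ hP
  intro F' hq p' hP
  have sq' : IsPullback ((pyon S).map t) ((pyon S).map s) p'.hom p'.hom :=
    hP.isPullback.map (sheafToPresheaf (J S) (Type (u + 1)))
  let A : Sheaf (H10PT.EtSh.Jet S) (Type (u + 1)) :=
    ⟨(pyon S).obj U, H10PT.EtQuot.isSheaf_jet ((yon S).obj U).property⟩
  let B : Sheaf (H10PT.EtSh.Jet S) (Type (u + 1)) := ⟨F, h1⟩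
  let B' : Sheaf (H10PT.EtSh.Jet S) (Type (u + 1)) := ⟨F'.obj, H10PT.EtQuot.isSheaf_jet F'.property⟩
  let a : A ⟶ B := ObjectProperty.homMk p
  let a' : A ⟶ B' := ObjectProperty.homMk p'.hom
  haveI ha : Sheaf.IsLocallySurjective a :=
    H10PT.EtQuot.isLocallySurjective_of_relative p (fun T ξ => by
      obtain ⟨V, v, fst, sqv⟩ := hrep ξ
      exact ⟨V, v, fst, sqv.w, het ξ fst v sqv, hsurj ξ fst v sqv⟩)
  haveI ha' : Sheaf.IsLocallySurjective a' :=
    H10PT.EtQuot.isLocallySurjective_of_relative p'.hom (fun T ξ => by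
      obtain ⟨V, v, fst, sqv⟩ := hP.etale.1 (ObjectProperty.homMk ξ : (yon S).obj T ⟶ F')
      refine ⟨V, v, fst.hom, ?_, hP.etale.2 _ fst v sqv, hP.surjective.2 _ fst v sqv⟩
      exact congrArg (fun η => η.hom) sqv.w)
  haveI : Epi a := inferInstance
  haveI : Epi a' := inferInstance
  obtain ⟨e, -⟩ := H10PT.EtQuot.exists_iso_of_epi_epi_sec a a' (fun T x y => by
    rcases T with ⟨T⟩
    obtain ⟨x⟩ := x
    obtain ⟨y⟩ := y
    show p.app (Opposite.op T) ⟨x⟩ = p.app (Opposite.op T) ⟨y⟩ ↔
      p'.hom.app (Opposite.op T) ⟨x⟩ = p'.hom.app (Opposite.op T) ⟨y⟩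
    exact ((H10PT.EtQuot.app_up_eq_iff p x y).trans (hrel x y)).trans
      ((H10PT.EtQuot.app_up_eq_iff (B := F'.obj) p'.hom x y).trans
        (H10PT.EtQuot.rel_iff_of_isPullback s t p'.hom sq' x y)).symm)
  exact IsAlgSpaceP.of_iso ((isAlgSpaceP_obj_iff F').2 hq)
    ((sheafToPresheaf _ _).mapIso e).symm

end Groth.Agent.S10108
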