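import Groth.Statements.S10110
import Mathlib
import Groth.Agent.Lib.Helper10.EtQuotD

set_option autoImplicit false
universe u
open CategoryTheory CategoryTheory.Limits AlgebraicGeometry
open AlgSp

namespace Groth.Agent.S10110

/-- A presheaf of sets on schemes over `S` which is a sheaf for the etale topology and receives a map
from an algebraic space which is representable by algebraic spaces, surjective and smooth, is an
algebraic space (in particular an fppf sheaf). In particular this covers a scheme `U` with a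
surjective smooth map to `F` when the diagonal of `F` is representable by algebraic spaces, since
every map from a scheme to `F` is then representable by algebraic spaces. -/
theorem result (S : Scheme.{u}) (F : AlgSp.PSp S)
    (h1 : Presheaf.IsSheaf (QuotSh.J Scheme.etalePrecoverage S) F) (U : AlgSp.Space S) (p : U.obj.obj ⟶ F)
    (h2 : AlgSp.RepBySpWith (AlgSp.IsSurjectiveMor ⊓ AlgSp.LocP @Smooth) p) :
    AlgSp.IsAlgSpaceP F := by
  obtain ⟨U₀, a, hae, has⟩ := U.property.atlas
  have hG : ∀ {T : Over S} (ξ : (pyon S).obj T ⟶ F), ∃ (G : Sp S) (g₁ : G ⟶ U.obj)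
      (g₂ : G ⟶ (yon S).obj T), IsAlgSpace G ∧ IsPullback g₁.hom g₂.hom p ξ ∧
        IsSurjectiveMor g₂ ∧ LocP @Smooth g₂ := by
    intro T ξ
    obtain ⟨h, hA, hS, hE⟩ := h2 ξ (pullback.fst p ξ) (pullback.snd p ξ)
      (IsPullback.of_hasPullback p ξ)
    exact ⟨⟨pullback p ξ, h⟩, ObjectProperty.homMk (pullback.fst p ξ),
      ObjectProperty.homMk (pullback.snd p ξ), hA, IsPullback.of_hasPullback p ξ, hS, hE⟩
  obtain ⟨G, g₁, g₂, hGA, sqG, -, hsm⟩ := hG (a.hom ≫ p)
  obtain ⟨R₀, s, t, sqR, hs, ht⟩ := H10PT.EtQuot.exists_kernel_scheme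
    Groth.Agent.Lib.Helper16.etLocalST_smooth
    (fun A B f hf => by have : Smooth f := hf; infer_instance) U.property p a hae hGA g₁ g₂ sqG hsm
  exact H10PT.EtQuot.isAlgSpaceP_of_smooth_chart F h1 s t (a.hom ≫ p) sqR hs ht (fun T ξ => by
    obtain ⟨G, g₁, g₂, hGA, sqG, hS, hE⟩ := hG ξ
    exact H10PT.EtQuot.exists_lift_of_smooth p a hae has ξ hGA g₁ g₂ sqG.w hS hE)

end Groth.Agent.S10110
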