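import Groth.Statements.S10112
import Mathlib
import Groth.Agent.Lib.Helper10.GAct
import Groth.Agent.S10107

set_option autoImplicit false
universe u
open CategoryTheory CategoryTheory.Limits AlgebraicGeometry MonoidalCategory
open AlgSp

namespace Groth.Agent.S10112

/-- Let `G` be a group algebraic space over an algebraic space `B`, flat and locally of finite
presentation over `B`, acting freely on an algebraic space `X` over `B`. Then `X/G` is an algebraic
space, the quotient map `X ⟶ X/G` is flat, surjective and locally of finite presentation, and `(g,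
x) ↦ (g x, x)` is an isomorphism `G ×_B X ⟶ X ×_{X/G} X`, so that `X` is an fppf `G`-torsor over
`X/G`. -/
theorem result (S : Scheme.{u}) (B : AlgSp.Sp S) (hB : AlgSp.IsAlgSpace B)
    (G X : Over B) [GrpObj G] (hG : AlgSp.IsAlgSpace G.left) (hX : AlgSp.IsAlgSpace X.left)
    (a : AlgSp.GAction G X) (ha : a.IsFree)
    (hfl : AlgSp.LocP @Flat G.hom ∧ AlgSp.LocP @LocallyOfFinitePresentation G.hom) :
    AlgSp.IsAlgSpace a.quot ∧
      (AlgSp.IsSurjectiveMor a.quotπ ∧ AlgSp.LocP @Flat a.quotπ ∧ AlgSp.LocP @LocallyOfFinitePresentation a.quotπ) ∧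
      IsIso (pullback.lift a.act.left (CartesianMonoidalCategory.snd G X).left
        (AlgSp.quotSp_condition (CartesianMonoidalCategory.snd G X).left a.act.left).symm :
          (G ⊗ X).left ⟶ pullback a.quotπ a.quotπ) := by
  have hj := H10PT.GAct.isEqvRelSp a ha
  have sq : IsPullback (CartesianMonoidalCategory.fst G X).left (CartesianMonoidalCategory.snd G X).left
      G.hom X.hom := IsPullback.of_hasPullback G.hom X.hom
  have hR : AlgSp.IsAlgSpace (G ⊗ X).left :=
    Groth.Agent.Lib.Helper16.isAlgSpace_of_isPullback hG hB.diag hX sq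
  have hs : AlgSp.LocP @Flat (CartesianMonoidalCategory.snd G X).left ∧
      AlgSp.LocP @LocallyOfFinitePresentation (CartesianMonoidalCategory.snd G X).left :=
    ⟨Groth.Agent.Lib.Helper16.locP_of_isPullback Groth.Agent.Lib.Helper16.etLocalST_flat hG hB sq hfl.1,
      Groth.Agent.Lib.Helper16.locP_of_isPullback
        Groth.Agent.Lib.Helper16.etLocalST_locallyOfFinitePresentation hG hB sq hfl.2⟩
  have ht : AlgSp.LocP @Flat a.act.left ∧ AlgSp.LocP @LocallyOfFinitePresentation a.act.left :=
    ⟨H10PT.GAct.locP_act a Groth.Agent.Lib.Helper16.etLocalST_flat hR hX hs.1,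
      H10PT.GAct.locP_act a Groth.Agent.Lib.Helper16.etLocalST_locallyOfFinitePresentation hR hX hs.2⟩
  have hQ := Groth.Agent.S10102.result S _ _ hR hX _ _ hj hs ht
  have hπ := Groth.Agent.S10107.result S _ _ hR hX _ _ hj hs ht hQ
  refine ⟨hQ, hπ, ?_⟩
  have sqQ := Groth.Agent.Lib.Helper15.isPullback_quotSpπ hj
  have e : (pullback.lift a.act.left (CartesianMonoidalCategory.snd G X).left
        (AlgSp.quotSp_condition (CartesianMonoidalCategory.snd G X).left a.act.left).symm :
          (G ⊗ X).left ⟶ pullback a.quotπ a.quotπ) = sqQ.isoPullback.hom := by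
    apply pullback.hom_ext
    · rw [pullback.lift_fst]; exact (sqQ.isoPullback_hom_fst).symm
    · rw [pullback.lift_snd]; exact (sqQ.isoPullback_hom_snd).symm
  rw [e]
  infer_instance

end Groth.Agent.S10112
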