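import Groth.Statements.S10115
import Groth.Agent.Lib.Helper15.ToposQuot
open Groth.Agent.Lib.Helper15

set_option autoImplicit false
universe u
open CategoryTheory CategoryTheory.Limits AlgebraicGeometry
open AlgSp AlgSp.GroupoidSp

namespace Groth.Agent.S10115

/-- For a groupoid `(U, R, s, t, c)` in algebraic spaces over `B`, let `(U', R', s', t', c')` be its
restriction along a morphism `g : U' ⟶ U` over `B`. Then `U'/R' ⟶ U/R` is injective; if the
composite `h : U' ×_{g, U, t} R ⟶ R ⟶ U` of the projection with `s` is a surjection of fppf sheaves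
(for instance if `g` is), then it is bijective. -/
theorem result (S : Scheme.{u}) (B : AlgSp.Sp S) (hB : AlgSp.IsAlgSpace B)
    (G G' : AlgSp.GroupoidSp B) (hU : AlgSp.IsAlgSpace G.U) (hR : AlgSp.IsAlgSpace G.R)
    (hU' : AlgSp.IsAlgSpace G'.U) (hR' : AlgSp.IsAlgSpace G'.R) (φ : AlgSp.GroupoidSp.Hom G' G)
    (hφ : φ.IsRestriction) (ψ : G'.quot ⟶ G.quot) (hψ : G'.quotπ ≫ ψ = φ.fU ≫ G.quotπ) :
    Mono ψ ∧ (Epi (pullback.snd φ.fU G.t ≫ G.s) → IsIso ψ) := by
  have hmono : Mono ψ := by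
    refine mono_quotSp_map (GroupoidSp.isPreEqvRelSp G) φ.fU G'.s G'.t ?_ ψ hψ
    intro T a b ρ h1 h2
    obtain ⟨ρ', h3, h4, -⟩ := GroupoidSp.Hom.IsRestriction.exists_lift hφ a b ρ h1 h2
    exact ⟨ρ', h3, h4⟩
  refine ⟨hmono, fun hg => ?_⟩
  have h1 : pullback.fst φ.fU G.t ≫ (φ.fU ≫ AlgSp.quotSpπ G.s G.t) =
      (pullback.snd φ.fU G.t ≫ G.s) ≫ AlgSp.quotSpπ G.s G.t := by
    rw [← Category.assoc, pullback.condition, Category.assoc, Category.assoc, AlgSp.quotSp_condition]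
  have h2 : Epi ((pullback.snd φ.fU G.t ≫ G.s) ≫ AlgSp.quotSpπ G.s G.t) := epi_comp _ _
  have : Epi (φ.fU ≫ AlgSp.quotSpπ G.s G.t) := epi_of_epi_fac h1
  exact isIso_quotSp_map_of_mono φ.fU ψ hψ hmono this

end Groth.Agent.S10115
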