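import Groth.Statements.S10121
import Groth.Agent.Lib.Helper16.Points
open Groth.Agent.Lib.Helper16

set_option autoImplicit false
universe u
open CategoryTheory CategoryTheory.Limits AlgebraicGeometry
open AlgSp

namespace Groth.Agent.S10121

/-- For a pre-equivalence relation `s, t : R ⟶ U` of algebraic spaces, the relation on points of `U`
given by `x ∼ y` when some point `r` of `R` has `t(r) = x` and `s(r) = y` is an equivalence relation
on `|U|`. -/
theorem result (S : Scheme.{u}) (R U : AlgSp.Sp S)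
    (hR : AlgSp.IsAlgSpace R) (hU : AlgSp.IsAlgSpace U) (s t : R ⟶ U) (h : AlgSp.IsPreEqvRelSp s t) :
    _root_.Equivalence (fun x y : AlgSp.Points U =>
      ∃ r : AlgSp.Points R, AlgSp.Points.map t r = x ∧ AlgSp.Points.map s r = y) := by
  have self : ∀ {F : AlgSp.Sp S} (p : AlgSp.FieldPt F), fieldPtOfHom p.K p.str p.toHom = p := by
    intro F p
    cases p
    simp [fieldPtOfHom, AlgSp.FieldPt.toHom]
  refine ⟨?_, ?_, ?_⟩
  · intro x
    induction x using AlgSp.Points.ind with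
    | h p =>
    obtain ⟨r, hr1, hr2⟩ := (h p.pt).refl p.toHom
    refine ⟨AlgSp.Points.mk (fieldPtOfHom p.K p.str r), ?_, ?_⟩
    · rw [AlgSp.Points.map_mk, fieldPtOfHom_map, hr1, self]
    · rw [AlgSp.Points.map_mk, fieldPtOfHom_map, hr2, self]
  · rintro x y ⟨ρ, rfl, rfl⟩
    induction ρ using AlgSp.Points.ind with
    | h p =>
    obtain ⟨r', h1, h2⟩ := (h p.pt).symm (x := p.toHom ≫ t) (y := p.toHom ≫ s) ⟨p.toHom, rfl, rfl⟩
    refine ⟨AlgSp.Points.mk (fieldPtOfHom p.K p.str r'), ?_, ?_⟩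
    · rw [AlgSp.Points.map_mk, AlgSp.Points.map_mk, fieldPtOfHom_map, h1, ← fieldPtOfHom_map, self]
    · rw [AlgSp.Points.map_mk, AlgSp.Points.map_mk, fieldPtOfHom_map, h2, ← fieldPtOfHom_map, self]
  · rintro x y z ⟨ρ₁, rfl, rfl⟩ ⟨ρ₂, h2, rfl⟩
    induction ρ₁ using AlgSp.Points.ind with
    | h p₁ =>
    induction ρ₂ using AlgSp.Points.ind with
    | h p₂ =>
    rw [AlgSp.Points.map_mk, AlgSp.Points.map_mk, AlgSp.Points.mk_eq_mk_iff, rel_iff_toHom] at h2
    obtain ⟨Ω, _, w, (b : Over.mk w ⟶ p₂.pt), (a : Over.mk w ⟶ p₁.pt), hab⟩ := h2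
    rw [AlgSp.FieldPt.toHom_map, AlgSp.FieldPt.toHom_map] at hab
    obtain ⟨r₃, h31, h32⟩ := (h (Over.mk w)).trans
      (x := ((AlgSp.yon S).map a ≫ p₁.toHom) ≫ t) (y := ((AlgSp.yon S).map a ≫ p₁.toHom) ≫ s)
      (z := ((AlgSp.yon S).map b ≫ p₂.toHom) ≫ s)
      ⟨(AlgSp.yon S).map a ≫ p₁.toHom, rfl, rfl⟩
      ⟨(AlgSp.yon S).map b ≫ p₂.toHom, by rw [Category.assoc, Category.assoc]; exact hab, rfl⟩
    refine ⟨AlgSp.Points.mk (fieldPtOfHom Ω w r₃), ?_, ?_⟩
    · rw [AlgSp.Points.map_mk, AlgSp.Points.map_mk, fieldPtOfHom_map, h31, Category.assoc,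
        ← AlgSp.FieldPt.toHom_map]
      exact mk_fieldPtOfHom_comp (p₁.map t) Ω w a
    · rw [AlgSp.Points.map_mk, AlgSp.Points.map_mk, fieldPtOfHom_map, h32, Category.assoc,
        ← AlgSp.FieldPt.toHom_map]
      exact mk_fieldPtOfHom_comp (p₂.map s) Ω w b

end Groth.Agent.S10121
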