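import Groth.Statements.S10125
import Mathlib
import Groth.Agent.Lib.Helper1.GrpSchLib
import Groth.Agent.Lib.Helper16.UnivInj2
import Groth.Agent.Lib.Helper16.LocPGen
import Groth.Agent.Lib.Helper17.AlgSpProper

set_option autoImplicit false
universe u
open CategoryTheory CategoryTheory.Limits AlgebraicGeometry MonoidalCategory MonObj
open AlgSp

namespace Groth.Agent.S10125

open Groth.Agent.Lib.Helper16 Groth.Agent.Lib.Helper17 in
/-- `LocP @Flat` holds for isomorphisms. -/
theorem locP_flat_of_isIso {S : Scheme.{u}} {X Y : AlgSp.Sp S} (f : X ⟶ Y) [IsIso f] : AlgSp.LocP @Flat f := by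
  have : MorphismProperty.RespectsIso (@Flat : MorphismProperty Scheme.{u}) :=
    MorphismProperty.IsStableUnderBaseChange.respectsIso
  refine locP_of_repWith @Flat @Flat ?_ f (repWith_of_isIso _ f)
  intro A B C m i hm hi
  have : Flat m := by have : Etale m := hm; infer_instance
  have : Flat i := hi
  infer_instance

/-- `UnivSp Q` is stable under precomposition with isomorphisms. -/
theorem univSp_iso_comp {S : Scheme.{u}} {Q : MorphismProperty (AlgSp.Sp S)} {X Y Z : AlgSp.Sp S} (e : X ⟶ Y)
    [IsIso e] (g : Y ⟶ Z) (hg : AlgSp.UnivSp Q g) : AlgSp.UnivSp Q (e ≫ g) := by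
  intro W W' hW t fst snd sq
  refine hg hW t (fst ≫ e) snd ?_
  have h2 : IsPullback (fst ≫ e) snd g t := by
    refine IsPullback.of_iso sq (Iso.refl _) (asIso e) (Iso.refl _) (Iso.refl _) ?_ ?_ ?_ ?_ <;> simp
  exact h2

open Groth.Agent.Lib.Helper16 in
/-- Every morphism from an algebraic space to the spectrum of a field is flat. -/
theorem locP_flat_of_field {k : Type u} [Field k] {X : AlgSp.Sp (Spec (CommRingCat.of k))}
    (p : X ⟶ (AlgSp.yon (Spec (CommRingCat.of k))).obj (Over.mk (𝟙 _))) : AlgSp.LocP @Flat p := by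
  intro U V a b h ha hb comm
  obtain ⟨b₀, rfl⟩ := (AlgSp.yon _).map_surjective b
  have hb₀ : Etale b₀.left := (AlgSp.repWith_yon_map_iff _ _).1 hb
  have hsub : Subsingleton ↥(Over.mk (𝟙 (Spec (CommRingCat.of k)))).left :=
    inferInstanceAs (Subsingleton (PrimeSpectrum k))
  have hint : IsIntegral (Over.mk (𝟙 (Spec (CommRingCat.of k)))).left :=
    inferInstanceAs (IsIntegral (Spec (CommRingCat.of k)))
  have H : Flat (h.left ≫ b₀.left) := inferInstance
  exact etLocalST_flat.cancel h.left b₀.left hb₀ H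

/-- For a group algebraic space `G` over a field `k`, the multiplication `m` of `G`, a morphism `G ×_k G
⟶ G`, is both flat and universally open. (The published situation allows any base scheme `S` with
`k` a field over `S`; this row takes `S = Spec k`.) -/
theorem result (k : Type u) [Field k]
    (G : Over ((AlgSp.yon (Spec (CommRingCat.of k))).obj (Over.mk (𝟙 _)))) [GrpObj G]
    (hG : AlgSp.IsAlgSpace G.left) :
    AlgSp.LocP @Flat (μ[G]).left ∧ AlgSp.IsUnivOpenMor (μ[G]).left := by
  have hB : AlgSp.IsAlgSpace ((AlgSp.yon (Spec (CommRingCat.of k))).obj (Over.mk (𝟙 _))) :=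
    AlgSp.IsAlgSpace.yon_obj _
  have hμ : (μ[G]).left = (Groth.Agent.Lib.Helper1.GrpSchLib.shear G).hom.left ≫ pullback.snd G.hom G.hom := by
    have := congrArg (·.left) (Groth.Agent.Lib.Helper1.GrpSchLib.shear_hom_snd G)
    exact this.symm
  have sq := IsPullback.of_hasPullback G.hom G.hom
  have hGG : AlgSp.IsAlgSpace (pullback G.hom G.hom) :=
    Groth.Agent.Lib.Helper16.isAlgSpace_of_isPullback hG hB.diag hG sq
  have hiso : IsIso (Groth.Agent.Lib.Helper1.GrpSchLib.shear G).hom.left := inferInstance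
  rw [hμ]
  constructor
  · refine Groth.Agent.Lib.Helper16.locP_comp Groth.Agent.Lib.Helper16.etLocalST_flat hGG hGG hG _ _
      (locP_flat_of_isIso _) ?_
    exact Groth.Agent.Lib.Helper16.locP_of_isPullback Groth.Agent.Lib.Helper16.etLocalST_flat hG hB sq
      (locP_flat_of_field G.hom)
  · refine univSp_iso_comp _ _ ?_
    exact Groth.Agent.Lib.Helper16.univSp_of_isPullback sq
      (Groth.Agent.Lib.Helper16.isUnivOpenMor_of_field hG (𝟙 _) G.hom)

end Groth.Agent.S10125
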