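import Groth.Statements.S9972
import Groth.Agent.Lib.Helper16.SchImg
import Groth.Agent.Lib.Helper16.RepSpace
open Groth.Agent.Lib.Helper16

set_option autoImplicit false
universe u
open CategoryTheory CategoryTheory.Limits AlgebraicGeometry
open AlgSp

namespace Groth.Agent.S9972

/-- Two morphisms to an algebraic space separated over B that agree on an open subspace whose scheme
theoretic closure is everything are equal. -/
theorem result {S : Scheme.{u}} {U X Y B : AlgSp.Space S} (q : Y ⟶ B)
    (hq : AlgSp.IsSeparatedMor q.hom) (f g : X ⟶ Y) (hfg : f ≫ q = g ≫ q) (j : U ⟶ X)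
    (hj : AlgSp.RepWith @IsOpenImmersion j.hom) (hcl : AlgSp.IsSchImage j.hom (𝟙 X.obj)) (heq : j ≫ f = j ≫ g) :
    f = g := by
  have hfg' : f.hom ≫ q.hom = g.hom ≫ q.hom := congrArg (fun φ => φ.hom) hfg
  have heq' : j.hom ≫ f.hom = j.hom ≫ g.hom := congrArg (fun φ => φ.hom) heq
  have he : RepWith @IsClosedImmersion (pullback.snd (pullback.diagonal q.hom) (pullback.lift f.hom g.hom hfg')) := by
    have := repWith_isStableUnderBaseChange (S := S) @IsClosedImmersion
    exact MorphismProperty.of_isPullback (IsPullback.of_hasPullback (pullback.diagonal q.hom)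
      (pullback.lift f.hom g.hom hfg')) hq
  have hE := isAlgSpace_of_representable X.property _ he.rep
  have hef : pullback.snd (pullback.diagonal q.hom) (pullback.lift f.hom g.hom hfg') ≫ f.hom =
      pullback.snd (pullback.diagonal q.hom) (pullback.lift f.hom g.hom hfg') ≫ g.hom := by
    have h := pullback.condition (f := pullback.diagonal q.hom) (g := pullback.lift f.hom g.hom hfg')
    have h1 := congrArg (fun φ => φ ≫ pullback.fst q.hom q.hom) h
    have h2 := congrArg (fun φ => φ ≫ pullback.snd q.hom q.hom) h
    simp only [Category.assoc, pullback.diagonal_fst, pullback.diagonal_snd, pullback.lift_fst,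
      pullback.lift_snd, Category.comp_id] at h1 h2
    rw [← h1, ← h2]
  obtain ⟨k, hk⟩ := hcl.2.2 _ hE he
    ⟨pullback.lift (j.hom ≫ f.hom) j.hom (by
      apply pullback.hom_ext
      · simp only [Category.assoc, pullback.diagonal_fst, pullback.lift_fst, Category.comp_id]
      · simp only [Category.assoc, pullback.diagonal_snd, pullback.lift_snd, Category.comp_id, heq']),
      pullback.lift_snd _ _ _⟩
  apply ObjectProperty.hom_ext
  calc f.hom = (k ≫ pullback.snd _ _) ≫ f.hom := by rw [hk, Category.id_comp]
    _ = (k ≫ pullback.snd _ _) ≫ g.hom := by rw [Category.assoc, hef, Category.assoc]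
    _ = g.hom := by rw [hk, Category.id_comp]

end Groth.Agent.S9972
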