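import Groth.Statements.S9973
import Groth.Agent.Lib.Helper15.SchDenseFlat
open Groth.Agent.Lib.Helper15 Groth.Agent.Lib.Helper16

set_option autoImplicit false
universe u
open CategoryTheory CategoryTheory.Limits AlgebraicGeometry
open AlgSp

namespace Groth.Agent.S9973

/-- The inverse image of a quasi-compact scheme theoretically dense open under a flat morphism of
algebraic spaces is scheme theoretically dense. -/
theorem result {S : Scheme.{u}} {X Y V V' : AlgSp.Space S} (f : X ⟶ Y)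
    (hf : AlgSp.LocP @Flat f.hom) (j : V ⟶ Y) (hj : AlgSp.IsSchDense j.hom) (hjq : AlgSp.IsQuasiCompactMor j.hom)
    (fst : V' ⟶ V) (jX : V' ⟶ X) (sq : IsPullback fst.hom jX.hom j.hom f.hom) : AlgSp.IsSchDense jX.hom := by
  obtain ⟨hjo, V₀, φ, W, fstW, hφe, hφs, sqW, hWd⟩ := hj
  have hjqc : RepWith @QuasiCompact j.hom :=
    repWith_quasiCompact_of_isQuasiCompactMor j.hom hjo.rep hjq
  haveI : QuasiCompact W.ι := hjqc.property φ fstW (Over.homMk W.ι rfl) sqW
  obtain ⟨U₀, a₀, ha₀e, ha₀s⟩ := X.property.atlas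
  obtain ⟨U, p, q, sqU, hpe, hps⟩ := exists_yon_pullback hφe hφs (a₀ ≫ f.hom)
  let ψ : (yon S).obj U ⟶ X.obj := (yon S).map p ≫ a₀
  have hψe : RepWith @Etale ψ :=
    (RepWith @Etale).comp_mem _ _ ((repWith_yon_map_iff _ p).2 hpe) ha₀e
  have hψs : RepWith @Surjective ψ :=
    (RepWith @Surjective).comp_mem _ _ ((repWith_yon_map_iff _ p).2 hps) ha₀s
  have hψ : ψ ≫ f.hom = (yon S).map q ≫ φ := by
    show ((yon S).map p ≫ a₀) ≫ f.hom = _
    rw [Category.assoc]; exact sqU.w.symm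
  haveI : Flat q.left := hf ψ φ q hψe hφe hψ
  obtain ⟨fst', sq'⟩ := exists_isPullback_opens_chart sq sqW ψ q hψ
  exact ⟨(RepWith @IsOpenImmersion).of_isPullback sq hjo, U, ψ, q.left ⁻¹ᵁ W, fst', hψe, hψs, sq',
    isSchematicallyDense_preimage_of_flat q.left W hWd⟩

end Groth.Agent.S9973
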