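import Groth.Statements.S10129
import Groth.Agent.S9972
import Groth.Agent.S9973
import Groth.Agent.Lib.Helper16.SchDense
import Groth.Agent.Lib.Helper16.LocPGen
import Groth.Agent.Lib.Helper16.FpqcCover
import Groth.Agent.Lib.Helper16.ResidualSp
import Groth.Agent.Lib.Helper16.RepSpace
import Groth.Agent.Lib.Helper5.SheafGrpQuot

open Groth.Agent.Lib.Helper16 Groth.Agent.Lib

set_option autoImplicit false
universe u
open CategoryTheory CategoryTheory.Limits AlgebraicGeometry
open AlgSp

namespace Groth.Agent.S10129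

/-- Consider morphisms `g : X ⟶ Z` and `f : X ⟶ Y` of algebraic spaces over `B`, with `Y ⟶ B` separated
and `g` surjective, flat and locally of finite presentation, and let `V ⊂ Z` be a scheme
theoretically dense open subspace with `V ⟶ Z` quasi-compact such that `f` restricted to `g⁻¹(V)`
factors through `g⁻¹(V) ⟶ V`. Then `f` factors through `g`. (The published statement does not ask
the open immersion `V ⟶ Z` to be quasi-compact; the published proof pulls the scheme theoretic
density of `V` back along a flat morphism by a lemma that requires it, so this row assumes it.) -/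
theorem result (S : Scheme.{u}) (B : AlgSp.Sp S) (hB : AlgSp.IsAlgSpace B)
    (X Y Z : AlgSp.Space S) (pX : X.obj ⟶ B) (pY : Y.obj ⟶ B) (pZ : Z.obj ⟶ B)
    (f : X.obj ⟶ Y.obj) (g : X.obj ⟶ Z.obj) (hf : f ≫ pY = pX) (hg : g ≫ pZ = pX)
    (hY : AlgSp.IsSeparatedMor pY)
    (hgs : AlgSp.IsSurjectiveMor g) (hgf : AlgSp.LocP @Flat g) (hgp : AlgSp.LocP @LocallyOfFinitePresentation g)
    (V : AlgSp.Sp S) (v : V ⟶ Z.obj) (hv : AlgSp.IsSchDense v) (hvq : AlgSp.IsQuasiCompactMor v)
    (hfac : ∃ φ : V ⟶ Y.obj, pullback.fst g v ≫ f = pullback.snd g v ≫ φ) :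
    ∃ h : Z.obj ⟶ Y.obj, g ≫ h = f := by
  obtain ⟨φ, hφ⟩ := hfac
  have hVo : RepWith @IsOpenImmersion v := hv.1
  have hV : IsAlgSpace V := isAlgSpace_of_representable Z.property v hVo.rep
  -- g is an effective epimorphism
  have hepi : Epi g := by
    obtain ⟨U, a, hae, has⟩ := X.property.atlas
    have hU : IsAlgSpace ((yon S).obj U) := IsAlgSpace.yon_obj U
    have h1 : LocP @Flat (a ≫ g) := locP_comp etLocalST_flat hU X.property Z.property a g
      (locP_of_repWith_etale etLocalST_flat hU X.property a hae) hgf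
    have h2 : LocP @LocallyOfFinitePresentation (a ≫ g) :=
      locP_comp etLocalST_locallyOfFinitePresentation hU X.property Z.property a g
        (locP_of_repWith_etale etLocalST_locallyOfFinitePresentation hU X.property a hae) hgp
    have h3 : IsSurjectiveMor (a ≫ g) := by
      intro z
      obtain ⟨x, hx⟩ := hgs z
      obtain ⟨u', hu⟩ := (repWith_surjective_iff a has.rep).1 has x
      exact ⟨u', by rw [Points.map_comp, hu, hx]⟩
    haveI := ResidualSp.epi_of_fppf_chart Z.property (a ≫ g) h1 h2 h3
    exact epi_of_epi a g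
  have heff : EffectiveEpi g := Helper5.SheafGrpQuot.effectiveEpi_of_epi (J S) g
  -- the two projections agree after f
  have key : pullback.fst g g ≫ f = pullback.snd g g ≫ f := by
    have sqP : IsPullback (pullback.fst g g) (pullback.snd g g) g g := IsPullback.of_hasPullback g g
    have hP : IsAlgSpace (pullback g g) :=
      isAlgSpace_of_isPullback X.property Z.property.diag X.property sqP
    have hp1 : LocP @Flat (pullback.fst g g) :=
      locP_of_isPullback etLocalST_flat X.property Z.property sqP.flip hgf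
    obtain ⟨r, hr_def⟩ : ∃ r : pullback g g ⟶ Z.obj, r = pullback.fst g g ≫ g := ⟨_, rfl⟩
    have hr : LocP @Flat r := by
      rw [hr_def]
      exact locP_comp etLocalST_flat hP X.property Z.property _ _ hp1 hgf
    have sqV : IsPullback (pullback.snd r v) (pullback.fst r v) v r := (IsPullback.of_hasPullback r v).flip
    have hVP : IsAlgSpace (pullback r v) :=
      isAlgSpace_of_isPullback hP Z.property.diag hV (IsPullback.of_hasPullback r v)
    have hjd : IsSchDense (pullback.fst r v) :=
      Groth.Agent.S9973.result (X := ⟨pullback g g, hP⟩) (Y := Z) (V := ⟨V, hV⟩) (V' := ⟨pullback r v, hVP⟩)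
        (ObjectProperty.homMk r) hr (ObjectProperty.homMk v) hv hvq
        (ObjectProperty.homMk (pullback.snd r v)) (ObjectProperty.homMk (pullback.fst r v)) sqV
    have hjq : IsQuasiCompactMor (pullback.fst r v) := by
      intro A A' hA hAq g₁ fst₁ snd₁ sq₁
      exact hvq hA hAq (g₁ ≫ r) (fst₁ ≫ pullback.snd r v) snd₁ (sq₁.paste_horiz sqV)
    have hcl : IsSchImage (pullback.fst r v) (𝟙 (pullback g g)) :=
      SchImg.isSchImage_id_of_isSchDense _ hjq hjd
    have c0 : pullback.fst r v ≫ pullback.fst g g ≫ g = pullback.snd r v ≫ v := by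
      rw [← hr_def]; exact pullback.condition
    have c1 : (pullback.fst r v ≫ pullback.fst g g) ≫ g = pullback.snd r v ≫ v := by
      rw [Category.assoc]; exact c0
    have c2 : (pullback.fst r v ≫ pullback.snd g g) ≫ g = pullback.snd r v ≫ v := by
      rw [Category.assoc, ← pullback.condition]; exact c0
    have e1 : (pullback.fst r v ≫ pullback.fst g g) ≫ f = pullback.snd r v ≫ φ := by
      calc (pullback.fst r v ≫ pullback.fst g g) ≫ f
          = (pullback.lift _ _ c1 ≫ pullback.fst g v) ≫ f := by rw [pullback.lift_fst]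
        _ = pullback.lift _ _ c1 ≫ pullback.snd g v ≫ φ := by rw [Category.assoc, hφ]
        _ = pullback.snd r v ≫ φ := by rw [← Category.assoc, pullback.lift_snd]
    have e2 : (pullback.fst r v ≫ pullback.snd g g) ≫ f = pullback.snd r v ≫ φ := by
      calc (pullback.fst r v ≫ pullback.snd g g) ≫ f
          = (pullback.lift _ _ c2 ≫ pullback.fst g v) ≫ f := by rw [pullback.lift_fst]
        _ = pullback.lift _ _ c2 ≫ pullback.snd g v ≫ φ := by rw [Category.assoc, hφ]
        _ = pullback.snd r v ≫ φ := by rw [← Category.assoc, pullback.lift_snd]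
    have hfg : (ObjectProperty.homMk (pullback.fst g g ≫ f) : (⟨pullback g g, hP⟩ : AlgSp.Space S) ⟶ Y) ≫
        (ObjectProperty.homMk pY : Y ⟶ (⟨B, hB⟩ : AlgSp.Space S)) =
        (ObjectProperty.homMk (pullback.snd g g ≫ f) : (⟨pullback g g, hP⟩ : AlgSp.Space S) ⟶ Y) ≫
        (ObjectProperty.homMk pY : Y ⟶ (⟨B, hB⟩ : AlgSp.Space S)) := by
      apply ObjectProperty.hom_ext
      show (pullback.fst g g ≫ f) ≫ pY = (pullback.snd g g ≫ f) ≫ pY
      rw [Category.assoc, Category.assoc, hf, ← hg, ← Category.assoc, ← Category.assoc, pullback.condition]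
    have heq : (ObjectProperty.homMk (pullback.fst r v) : (⟨pullback r v, hVP⟩ : AlgSp.Space S) ⟶ ⟨pullback g g, hP⟩) ≫
        (ObjectProperty.homMk (pullback.fst g g ≫ f) : (⟨pullback g g, hP⟩ : AlgSp.Space S) ⟶ Y) =
        (ObjectProperty.homMk (pullback.fst r v) : (⟨pullback r v, hVP⟩ : AlgSp.Space S) ⟶ ⟨pullback g g, hP⟩) ≫
        (ObjectProperty.homMk (pullback.snd g g ≫ f) : (⟨pullback g g, hP⟩ : AlgSp.Space S) ⟶ Y) := by
      apply ObjectProperty.hom_ext
      show pullback.fst r v ≫ pullback.fst g g ≫ f = pullback.fst r v ≫ pullback.snd g g ≫ f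
      rw [← Category.assoc, ← Category.assoc, e1, e2]
    have := Groth.Agent.S9972.result (U := ⟨pullback r v, hVP⟩) (X := ⟨pullback g g, hP⟩) (Y := Y)
      (B := ⟨B, hB⟩) (ObjectProperty.homMk pY) hY _ _ hfg
      (ObjectProperty.homMk (pullback.fst r v)) hjd.1 hcl heq
    exact congrArg (fun ψ => ψ.hom) this
  have hdesc : ∀ {T : AlgSp.Sp S} (a b : T ⟶ X.obj), a ≫ g = b ≫ g → a ≫ f = b ≫ f := by
    intro T a b hab
    calc a ≫ f = (pullback.lift a b hab ≫ pullback.fst g g) ≫ f := by rw [pullback.lift_fst]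
      _ = (pullback.lift a b hab ≫ pullback.snd g g) ≫ f := by rw [Category.assoc, key, Category.assoc]
      _ = b ≫ f := by rw [pullback.lift_snd]
  exact ⟨EffectiveEpi.desc g f hdesc, EffectiveEpi.fac g f hdesc⟩

end Groth.Agent.S10129
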