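import Groth.Statements.S10132
import Mathlib
import Groth.Agent.Lib.Helper17.AlgSpGpdRestr
import Groth.Agent.Lib.Helper17.AlgSpField
import Groth.Agent.Lib.Helper16.UnivRep
import Groth.Agent.Lib.Helper16.Rep

set_option autoImplicit false
universe u
open CategoryTheory CategoryTheory.Limits AlgebraicGeometry
open AlgSp AlgSp.GroupoidSp

namespace Groth.Agent.S10132

/-- Let `(U, R, s, t, c)` be a groupoid in algebraic spaces over `B` whose object space is `U = Spec k`,
let `k ⊂ k'` be a field extension and `(U', R', s', t', c')` the restriction along `Spec k' ⟶ Spec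
k`. Then `s, t, s', t'`, `Spec k' ⟶ Spec k` and `R' ⟶ R` are surjective, flat and universally open,
and `R' ⟶ R` is moreover affine. (The published statement lists every arrow of the restriction
diagram; this row omits the six arrows through `R ×_{s,U} U'` and `U' ×_{U,t} R`, each a base change
of `s`, `t` or `Spec k' ⟶ Spec k`.) -/
theorem result (S : Scheme.{u}) (B : AlgSp.Sp S) (hB : AlgSp.IsAlgSpace B)
    (G G' : AlgSp.GroupoidSp B) (hR : AlgSp.IsAlgSpace G.R) (hR' : AlgSp.IsAlgSpace G'.R)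
    (k k' : Type u) [Field k] [Field k'] [Algebra k k'] (σ : Spec (CommRingCat.of k) ⟶ S)
    (eU : G.U ≅ ((AlgSp.yon S).obj (Over.mk σ)))
    (eU' : G'.U ≅ ((AlgSp.yon S).obj (Over.mk (Spec.map (CommRingCat.ofHom (algebraMap k k')) ≫ σ))))
    (φ : AlgSp.GroupoidSp.Hom G' G) (hφ : φ.IsRestriction)
    (hfU : φ.fU = eU'.hom ≫ (AlgSp.yon S).map (Over.homMk (Spec.map (CommRingCat.ofHom (algebraMap k k'))) rfl :
      Over.mk (Spec.map (CommRingCat.ofHom (algebraMap k k')) ≫ σ) ⟶ Over.mk σ) ≫ eU.inv) :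
    (∀ f ∈ [G.s, G.t], AlgSp.IsSurjectiveMor f ∧ AlgSp.LocP @Flat f ∧ AlgSp.IsUnivOpenMor f) ∧
      (∀ f ∈ [G'.s, G'.t], AlgSp.IsSurjectiveMor f ∧ AlgSp.LocP @Flat f ∧ AlgSp.IsUnivOpenMor f) ∧
      (AlgSp.IsSurjectiveMor φ.fU ∧ AlgSp.LocP @Flat φ.fU ∧ AlgSp.IsUnivOpenMor φ.fU) ∧
      (AlgSp.IsSurjectiveMor φ.fR ∧ AlgSp.LocP @Flat φ.fR ∧ AlgSp.IsUnivOpenMor φ.fR ∧ AlgSp.IsAffineMor φ.fR) := by
  have hU : AlgSp.IsAlgSpace G.U := (AlgSp.IsAlgSpace.yon_obj (Over.mk σ)).of_iso eU.symm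
  have hU' : AlgSp.IsAlgSpace G'.U := (AlgSp.IsAlgSpace.yon_obj _).of_iso eU'.symm
  have hflatcomp : ∀ ⦃A B C : Scheme.{u}⦄ (m : A ⟶ B) (i : B ⟶ C), Etale m → Flat i → Flat (m ≫ i) := by
    intro A B C m i hm hi
    have : Flat m := by have : Etale m := hm; infer_instance
    infer_instance
  -- the four representable properties of `φ.fU`
  have hgS : AlgSp.RepWith @Surjective φ.fU :=
    Groth.Agent.Lib.Helper17.repWith_of_field_ext @Surjective σ
      (inferInstance : Surjective (Spec.map (CommRingCat.ofHom (algebraMap k k')))) eU eU' φ.fU hfU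
  have hgF : AlgSp.RepWith @Flat φ.fU :=
    Groth.Agent.Lib.Helper17.repWith_of_field_ext @Flat σ
      (inferInstance : Flat (Spec.map (CommRingCat.ofHom (algebraMap k k')))) eU eU' φ.fU hfU
  have hgO : AlgSp.RepWith @UniversallyOpen φ.fU :=
    Groth.Agent.Lib.Helper17.repWith_of_field_ext @UniversallyOpen σ
      (inferInstance : UniversallyOpen (Spec.map (CommRingCat.ofHom (algebraMap k k')))) eU eU' φ.fU hfU
  have hgA : AlgSp.RepWith @IsAffineHom φ.fU :=
    Groth.Agent.Lib.Helper17.repWith_of_field_ext @IsAffineHom σ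
      (inferInstance : IsAffineHom (Spec.map (CommRingCat.ofHom (algebraMap k k')))) eU eU' φ.fU hfU
  have hRS := Groth.Agent.Lib.Helper17.repWith_fR_of_fU @Surjective hφ hgS
  have hRF := Groth.Agent.Lib.Helper17.repWith_fR_of_fU @Flat hφ hgF
  have hRO := Groth.Agent.Lib.Helper17.repWith_fR_of_fU @UniversallyOpen hφ hgO
  have hRA := Groth.Agent.Lib.Helper17.repWith_fR_of_fU @IsAffineHom hφ hgA
  refine ⟨?_, ?_, ⟨?_, ?_, ?_⟩, ⟨?_, ?_, ?_, ?_⟩⟩
  · intro f hf
    simp only [List.mem_cons, List.not_mem_nil, or_false] at hf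
    rcases hf with rfl | rfl
    · exact ⟨Groth.Agent.Lib.Helper17.isSurjectiveMor_of_section _ G.e G.e_s,
        Groth.Agent.Lib.Helper17.locP_flat_to_field σ eU _,
        Groth.Agent.Lib.Helper17.isUnivOpenMor_to_field σ hR eU _⟩
    · exact ⟨Groth.Agent.Lib.Helper17.isSurjectiveMor_of_section _ G.e G.e_t,
        Groth.Agent.Lib.Helper17.locP_flat_to_field σ eU _,
        Groth.Agent.Lib.Helper17.isUnivOpenMor_to_field σ hR eU _⟩
  · intro f hf
    simp only [List.mem_cons, List.not_mem_nil, or_false] at hf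
    rcases hf with rfl | rfl
    · exact ⟨Groth.Agent.Lib.Helper17.isSurjectiveMor_of_section _ G'.e G'.e_s,
        Groth.Agent.Lib.Helper17.locP_flat_to_field _ eU' _,
        Groth.Agent.Lib.Helper17.isUnivOpenMor_to_field _ hR' eU' _⟩
    · exact ⟨Groth.Agent.Lib.Helper17.isSurjectiveMor_of_section _ G'.e G'.e_t,
        Groth.Agent.Lib.Helper17.locP_flat_to_field _ eU' _,
        Groth.Agent.Lib.Helper17.isUnivOpenMor_to_field _ hR' eU' _⟩
  · exact (Groth.Agent.Lib.Helper16.repWith_surjective_iff _ hgS.rep).1 hgS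
  · exact Groth.Agent.Lib.Helper17.locP_flat_to_field σ eU _
  · exact Groth.Agent.Lib.Helper17.isUnivOpenMor_to_field σ hU' eU _
  · exact (Groth.Agent.Lib.Helper16.repWith_surjective_iff _ hRS.rep).1 hRS
  · exact Groth.Agent.Lib.Helper16.locP_of_repWith @Flat @Flat hflatcomp _ hRF
  · exact (Groth.Agent.Lib.Helper16.repWith_universallyOpen_iff _ hRO.rep).1 hRO
  · exact Groth.Agent.Lib.Helper17.isAffineMor_of_repWith _ hRA

end Groth.Agent.S10132
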