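import Groth.Statements.S10141
import Groth.Agent.Lib.Helper16.QuotOpen
import Groth.Agent.Lib.Helper16.LocSurj

set_option autoImplicit false
universe u
open CategoryTheory CategoryTheory.Limits AlgebraicGeometry
open AlgSp

namespace Groth.Agent.S10141

/-- Let `(U, R, s, t, c)` be a groupoid scheme over `S` and `g : U' ⟶ U` a morphism such that the
composite `h : U' ×_{g, U, t} R ⟶ R ⟶ U` of the projection with `s` has open image `W ⊂ U` and `h :
U' ×_{g, U, t} R ⟶ W` is a surjection of fppf sheaves. Then for the restriction `R' = R|_{U'}` the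
map of fppf quotient sheaves `U'/R' ⟶ U/R` is representable and an open immersion. -/
theorem result (S : Scheme.{u}) (G : Grpd.GroupoidScheme S)
    (U' : Scheme.{u}) (g : U' ⟶ G.U) (W : G.U.Opens)
    (hW : (W : Set ↥G.U) = Set.range ⇑(pullback.snd g G.t ≫ G.s))
    (hlift : pullback g G.t ⟶ ↑W) (hh : hlift ≫ W.ι = pullback.snd g G.t ≫ G.s)
    (hsurj : Sheaf.IsLocallySurjective ((AlgSp.yon S).map
      (Over.homMk hlift ((Category.assoc _ _ _).symm.trans (congrArg (· ≫ G.pU) hh)) :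
        Over.mk ((pullback.snd g G.t ≫ G.s) ≫ G.pU) ⟶ Over.mk (W.ι ≫ G.pU))))
    (R' : Over S) (s' t' : R' ⟶ Over.mk (g ≫ G.pU)) (r : R' ⟶ Over.mk G.pR)
    (hsq : IsPullback (prod.lift t' s') r
      (prod.map (Over.homMk g rfl : Over.mk (g ≫ G.pU) ⟶ Over.mk G.pU) (Over.homMk g rfl : Over.mk (g ≫ G.pU) ⟶ Over.mk G.pU))
      (prod.lift (Over.homMk G.t G.t_over : Over.mk G.pR ⟶ Over.mk G.pU) (Over.homMk G.s G.s_over : Over.mk G.pR ⟶ Over.mk G.pU)))
    (ψ : QuotSh.quot Scheme.fppfPrecoverage s' t' ⟶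
      QuotSh.quot Scheme.fppfPrecoverage (Over.homMk G.s G.s_over : Over.mk G.pR ⟶ Over.mk G.pU) (Over.homMk G.t G.t_over : Over.mk G.pR ⟶ Over.mk G.pU))
    (hψ : QuotSh.quotπ Scheme.fppfPrecoverage s' t' ≫ ψ =
      QuotSh.repMap Scheme.fppfPrecoverage (Over.homMk g rfl : Over.mk (g ≫ G.pU) ⟶ Over.mk G.pU) ≫ QuotSh.quotπ Scheme.fppfPrecoverage _ _) :
    AlgSp.RepWith @IsOpenImmersion ψ := by
  -- notation
  obtain ⟨Uo, hUo⟩ : ∃ Uo : Over S, Uo = Over.mk G.pU := ⟨_, rfl⟩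
  have hlift' : ∀ (T : Over S) (a b : T ⟶ Over.mk (g ≫ G.pU)) (ρ : T ⟶ Over.mk G.pR),
      ρ ≫ (Over.homMk G.t G.t_over : Over.mk G.pR ⟶ Over.mk G.pU) =
        a ≫ (Over.homMk g rfl : Over.mk (g ≫ G.pU) ⟶ Over.mk G.pU) →
      ρ ≫ (Over.homMk G.s G.s_over : Over.mk G.pR ⟶ Over.mk G.pU) =
        b ≫ (Over.homMk g rfl : Over.mk (g ≫ G.pU) ⟶ Over.mk G.pU) →
      ∃ ρ' : T ⟶ R', ρ' ≫ t' = a ∧ ρ' ≫ s' = b := by
    intro T a b ρ h1 h2
    have hc : prod.lift a b ≫ prod.map (Over.homMk g rfl : Over.mk (g ≫ G.pU) ⟶ Over.mk G.pU)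
        (Over.homMk g rfl : Over.mk (g ≫ G.pU) ⟶ Over.mk G.pU) =
        ρ ≫ prod.lift (Over.homMk G.t G.t_over : Over.mk G.pR ⟶ Over.mk G.pU)
          (Over.homMk G.s G.s_over : Over.mk G.pR ⟶ Over.mk G.pU) := by
      apply Limits.prod.hom_ext <;> simp [h1, h2]
    refine ⟨hsq.lift (prod.lift a b) ρ hc, ?_, ?_⟩
    · calc hsq.lift (prod.lift a b) ρ hc ≫ t'
          = (hsq.lift (prod.lift a b) ρ hc ≫ prod.lift t' s') ≫ prod.fst := by
            rw [Category.assoc, Limits.prod.lift_fst]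
        _ = a := by rw [hsq.lift_fst, Limits.prod.lift_fst]
    · calc hsq.lift (prod.lift a b) ρ hc ≫ s'
          = (hsq.lift (prod.lift a b) ρ hc ≫ prod.lift t' s') ≫ prod.snd := by
            rw [Category.assoc, Limits.prod.lift_snd]
        _ = b := by rw [hsq.lift_fst, Limits.prod.lift_snd]
  -- the groupoid gives a pre-equivalence relation on `T`-points
  have hE : ∀ T : Over S, _root_.Equivalence (fun a b : T ⟶ Over.mk G.pU =>
      ∃ r : T ⟶ Over.mk G.pR, r ≫ (Over.homMk G.t G.t_over : Over.mk G.pR ⟶ Over.mk G.pU) = a ∧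
        r ≫ (Over.homMk G.s G.s_over : Over.mk G.pR ⟶ Over.mk G.pU) = b) := by
    intro T
    refine ⟨fun a => ?_, ?_, ?_⟩
    · have w : (a.left ≫ G.e) ≫ (Over.mk G.pR).hom = T.hom := by
        change (a.left ≫ G.e) ≫ G.pR = T.hom
        rw [← G.s_over, Category.assoc, ← Category.assoc G.e, G.e_s, Category.id_comp]
        exact Over.w a
      refine ⟨Over.homMk (a.left ≫ G.e) w, ?_, ?_⟩
      · ext1
        change (a.left ≫ G.e) ≫ G.t = a.left
        rw [Category.assoc, G.e_t]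
        exact Category.comp_id _
      · ext1
        change (a.left ≫ G.e) ≫ G.s = a.left
        rw [Category.assoc, G.e_s]
        exact Category.comp_id _
    · rintro a b ⟨r, rfl, rfl⟩
      have w : (r.left ≫ G.i) ≫ (Over.mk G.pR).hom = T.hom := by
        change (r.left ≫ G.i) ≫ G.pR = T.hom
        calc (r.left ≫ G.i) ≫ G.pR = r.left ≫ (G.i ≫ G.t) ≫ G.pU := by
              simp only [Category.assoc, G.t_over]
          _ = r.left ≫ G.s ≫ G.pU := by rw [G.i_t]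
          _ = T.hom := by rw [G.s_over]; exact Over.w r
      refine ⟨Over.homMk (r.left ≫ G.i) w, ?_, ?_⟩
      · ext1
        change (r.left ≫ G.i) ≫ G.t = r.left ≫ G.s
        rw [Category.assoc, G.i_t]
      · ext1
        change (r.left ≫ G.i) ≫ G.s = r.left ≫ G.t
        rw [Category.assoc, G.i_s]
    · rintro a b c ⟨r₁, rfl, rfl⟩ ⟨r₂, h2, rfl⟩
      have h : r₁.left ≫ G.s = r₂.left ≫ G.t := (congrArg (fun m => m.left) h2).symm
      have w : (pullback.lift r₁.left r₂.left h ≫ G.c) ≫ (Over.mk G.pR).hom = T.hom := by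
        change (pullback.lift r₁.left r₂.left h ≫ G.c) ≫ G.pR = T.hom
        calc (pullback.lift r₁.left r₂.left h ≫ G.c) ≫ G.pR
            = ((pullback.lift r₁.left r₂.left h ≫ G.c) ≫ G.s) ≫ G.pU := by
              simp only [Category.assoc, G.s_over]
          _ = (r₂.left ≫ G.s) ≫ G.pU := by rw [G.comp_s]
          _ = T.hom := by rw [Category.assoc, G.s_over]; exact Over.w r₂
      refine ⟨Over.homMk (pullback.lift r₁.left r₂.left h ≫ G.c) w, ?_, ?_⟩
      · ext1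
        change (pullback.lift r₁.left r₂.left h ≫ G.c) ≫ G.t = r₁.left ≫ G.t
        exact G.comp_t _ _ h
      · ext1
        change (pullback.lift r₁.left r₂.left h ≫ G.c) ≫ G.s = r₂.left ≫ G.s
        exact G.comp_s _ _ h
  -- description of `W`
  have hW' : ∀ u : (Over.mk G.pU).left, u ∈ W ↔ ∃ (u' : (Over.mk (g ≫ G.pU)).left) (ρ : (Over.mk G.pR).left),
      (Over.homMk G.t G.t_over : Over.mk G.pR ⟶ Over.mk G.pU).left ρ =
        (Over.homMk g rfl : Over.mk (g ≫ G.pU) ⟶ Over.mk G.pU).left u' ∧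
      (Over.homMk G.s G.s_over : Over.mk G.pR ⟶ Over.mk G.pU).left ρ = u := by
    intro u
    rw [← SetLike.mem_coe, hW]
    constructor
    · rintro ⟨z, rfl⟩
      refine ⟨pullback.fst g G.t z, pullback.snd g G.t z, ?_, ?_⟩
      · change G.t (pullback.snd g G.t z) = g (pullback.fst g G.t z)
        rw [← Scheme.Hom.comp_apply, ← Scheme.Hom.comp_apply, pullback.condition]
      · change G.s (pullback.snd g G.t z) = (pullback.snd g G.t ≫ G.s) z
        rw [Scheme.Hom.comp_apply]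
    · rintro ⟨u', ρ, h1, rfl⟩
      obtain ⟨z, hz1, hz2⟩ := Scheme.Pullback.exists_preimage_pullback (f := g) (g := G.t) u' ρ h1.symm
      refine ⟨z, ?_⟩
      change (pullback.snd g G.t ≫ G.s) z = G.s ρ
      rw [Scheme.Hom.comp_apply, hz2]
  -- local lifting
  have hloc : ∀ (T : Over S) (b : T ⟶ Over.mk G.pU), (∀ x : T.left, b.left x ∈ W) → ∃ Rc ∈ AlgSp.J S T,
      ∀ ⦃T' : Over S⦄ (c : T' ⟶ T), Rc c →
        ∃ (u' : T' ⟶ Over.mk (g ≫ G.pU)) (ρ : T' ⟶ Over.mk G.pR),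
          ρ ≫ (Over.homMk G.t G.t_over : Over.mk G.pR ⟶ Over.mk G.pU) =
            u' ≫ (Over.homMk g rfl : Over.mk (g ≫ G.pU) ⟶ Over.mk G.pU) ∧
          ρ ≫ (Over.homMk G.s G.s_over : Over.mk G.pR ⟶ Over.mk G.pU) = c ≫ b := by
    intro T b hb
    obtain ⟨hZ, hhZ, hsurjZ⟩ : ∃ hZ : Over.mk ((pullback.snd g G.t ≫ G.s) ≫ G.pU) ⟶ Over.mk (W.ι ≫ G.pU),
        hZ.left = hlift ∧ Sheaf.IsLocallySurjective ((AlgSp.yon S).map hZ) := ⟨_, rfl, hsurj⟩
    have hepi : Epi ((AlgSp.yon S).map hZ) := by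
      rw [← Sheaf.isLocallySurjective_iff_epi]
      exact hsurjZ
    obtain ⟨b₀, hb₀⟩ := Groth.Agent.Lib.Helper15.exists_lift_overOpen (T := Over.mk G.pU) W b hb
    obtain ⟨Rc, hRc, hl⟩ := (Groth.Agent.Lib.Helper15.epi_iff_locally_lift _).1 hepi T ((AlgSp.yon S).map b₀)
    refine ⟨Rc, hRc, ?_⟩
    intro T' c hc
    obtain ⟨x, hx⟩ := hl c hc
    obtain ⟨z, rfl⟩ := (AlgSp.yon S).map_surjective x
    rw [← Functor.map_comp, ← Functor.map_comp] at hx
    have hz : z ≫ hZ = c ≫ b₀ := (AlgSp.yon S).map_injective hx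
    have w1 : pullback.fst g G.t ≫ (Over.mk (g ≫ G.pU)).hom =
        (Over.mk ((pullback.snd g G.t ≫ G.s) ≫ G.pU)).hom := by
      change pullback.fst g G.t ≫ g ≫ G.pU = (pullback.snd g G.t ≫ G.s) ≫ G.pU
      rw [← Category.assoc, pullback.condition, Category.assoc, G.t_over, Category.assoc, G.s_over]
    have w2 : pullback.snd g G.t ≫ (Over.mk G.pR).hom =
        (Over.mk ((pullback.snd g G.t ≫ G.s) ≫ G.pU)).hom := by
      change pullback.snd g G.t ≫ G.pR = (pullback.snd g G.t ≫ G.s) ≫ G.pU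
      rw [Category.assoc, G.s_over]
    refine ⟨z ≫ Over.homMk (pullback.fst g G.t) w1, z ≫ Over.homMk (pullback.snd g G.t) w2, ?_, ?_⟩
    · have h4 : (Over.homMk (pullback.snd g G.t) w2 :
            Over.mk ((pullback.snd g G.t ≫ G.s) ≫ G.pU) ⟶ Over.mk G.pR) ≫
          (Over.homMk G.t G.t_over : Over.mk G.pR ⟶ Over.mk G.pU) =
          (Over.homMk (pullback.fst g G.t) w1 :
            Over.mk ((pullback.snd g G.t ≫ G.s) ≫ G.pU) ⟶ Over.mk (g ≫ G.pU)) ≫
          (Over.homMk g rfl : Over.mk (g ≫ G.pU) ⟶ Over.mk G.pU) := by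
        ext1
        change pullback.snd g G.t ≫ G.t = pullback.fst g G.t ≫ g
        exact pullback.condition.symm
      exact (Category.assoc _ _ _).trans ((congrArg (fun m => z ≫ m) h4).trans (Category.assoc _ _ _).symm)
    · have h3 : (Over.homMk (pullback.snd g G.t) w2 :
            Over.mk ((pullback.snd g G.t ≫ G.s) ≫ G.pU) ⟶ Over.mk G.pR) ≫
          (Over.homMk G.s G.s_over : Over.mk G.pR ⟶ Over.mk G.pU) =
          hZ ≫ Groth.Agent.Lib.Helper16.overOpenι (Over.mk G.pU) W := by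
        ext1
        change pullback.snd g G.t ≫ G.s = hZ.left ≫ W.ι
        rw [hhZ, hh]
      exact (Category.assoc _ _ _).trans ((congrArg (fun m => z ≫ m) h3).trans
        ((Category.assoc _ _ _).symm.trans ((congrArg (fun m => m ≫ Groth.Agent.Lib.Helper16.overOpenι
          (Over.mk G.pU) W) hz).trans ((Category.assoc _ _ _).trans (congrArg (fun m => c ≫ m) hb₀)))))
  exact Groth.Agent.Lib.Helper16.QuotOpen.repWith_isOpenImmersion_quot_map
    (Over.homMk G.s G.s_over : Over.mk G.pR ⟶ Over.mk G.pU) (Over.homMk G.t G.t_over : Over.mk G.pR ⟶ Over.mk G.pU)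
    (Over.homMk g rfl : Over.mk (g ≫ G.pU) ⟶ Over.mk G.pU) s' t' hE hlift' W hW' hloc ψ hψ
end Groth.Agent.S10141
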