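import Groth.Statements.S10146
import Mathlib
import Groth.Agent.Lib.Helper15.ToposQuot
import Groth.Agent.Lib.Helper16.Points
import Groth.Agent.Lib.Helper10.AlgClosedConj

set_option autoImplicit false
universe u
open CategoryTheory CategoryTheory.Limits AlgebraicGeometry
open AlgSp AlgSp.GroupoidSp

namespace Groth.Agent.S10146

open Groth.Agent.Lib.Helper15 Groth.Agent.Lib.Helper16 in
theorem points_const {S : Scheme.{u}} {F : AlgSp.Sp S} (p : AlgSp.FieldPt F) {V : AlgSp.Sp S}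
    {T : Over S} (eV : V ≅ (AlgSp.yon S).obj T) (m : T ⟶ p.pt) (x : AlgSp.Points V) :
    AlgSp.Points.map (eV.hom ≫ (AlgSp.yon S).map m ≫ p.toHom) x = AlgSp.Points.mk p := by
  induction x using AlgSp.Points.ind with
  | h q =>
  obtain ⟨c, hc⟩ := (AlgSp.yon S).map_surjective (q.toHom ≫ eV.hom)
  rw [AlgSp.Points.map_mk]
  have hq : q.map (eV.hom ≫ (AlgSp.yon S).map m ≫ p.toHom) =
      fieldPtOfHom q.K q.str ((AlgSp.yon S).map (c ≫ m) ≫ p.toHom) := by
    have h0 : q = fieldPtOfHom q.K q.str q.toHom := by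
      unfold fieldPtOfHom
      rw [AlgSp.FieldPt.uliftYonedaEquiv_toHom]
      rfl
    conv_lhs => rw [h0]
    rw [fieldPtOfHom_map, Functor.map_comp, hc]
    simp only [Category.assoc]
  rw [hq]
  exact mk_fieldPtOfHom_comp p q.K q.str (c ≫ m)

/-- Let `(U, R, s, t, c)` be a groupoid in algebraic spaces over `B` whose object space is `U = Spec k`.
For every point `r` of `R` there are an algebraically closed field extension `k'` of `k` and, on the
restriction `(U', R', s', t', c')` along `Spec k' ⟶ Spec k`, a morphism `r' : Spec k' ⟶ R'` mapping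
to `r` in `R` such that `s' ∘ r'` and `t' ∘ r'` are automorphisms of `Spec k'`. -/
theorem result (S : Scheme.{u}) (B : AlgSp.Sp S) (hB : AlgSp.IsAlgSpace B)
    (G : AlgSp.GroupoidSp B) (hR : AlgSp.IsAlgSpace G.R) (k : Type u) [Field k]
    (σ : Spec (CommRingCat.of k) ⟶ S) (eU : G.U ≅ (AlgSp.yon S).obj (Over.mk σ)) (r : AlgSp.Points G.R) :
    ∃ (k' : Type u) (_ : Field k') (_ : Algebra k k'), IsAlgClosed k' ∧
      ∀ (G' : AlgSp.GroupoidSp B) (φ : AlgSp.GroupoidSp.Hom G' G), φ.IsRestriction → AlgSp.IsAlgSpace G'.R →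
        ∀ (eU' : G'.U ≅ (AlgSp.yon S).obj (Over.mk (Spec.map (CommRingCat.ofHom (algebraMap k k')) ≫ σ))),
          φ.fU = eU'.hom ≫ (AlgSp.yon S).map (Over.homMk (Spec.map (CommRingCat.ofHom (algebraMap k k'))) rfl :
            Over.mk (Spec.map (CommRingCat.ofHom (algebraMap k k')) ≫ σ) ⟶ Over.mk σ) ≫ eU.inv →
          ∃ r' : G'.U ⟶ G'.R, (∀ x : AlgSp.Points G'.U, AlgSp.Points.map (r' ≫ φ.fR) x = r) ∧
            IsIso (r' ≫ G'.s) ∧ IsIso (r' ≫ G'.t) := by
  obtain ⟨p, rfl⟩ := AlgSp.Points.mk_surjective r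
  obtain ⟨mt, hmt⟩ := (AlgSp.yon S).map_surjective (p.toHom ≫ G.t ≫ eU.hom)
  obtain ⟨ms, hms⟩ := (AlgSp.yon S).map_surjective (p.toHom ≫ G.s ≫ eU.hom)
  obtain ⟨k', fk', j, hclosed, hcard1, hcard2⟩ := H10PT.exists_big_algClosed p.K
  let τt : k →+* p.K := (Spec.preimage mt.left).hom
  let τs : k →+* p.K := (Spec.preimage ms.left).hom
  have hτt : Spec.map (CommRingCat.ofHom τt) = mt.left := Spec.map_preimage mt.left
  have hτs : Spec.map (CommRingCat.ofHom τs) = ms.left := Spec.map_preimage ms.left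
  have hkk' : Cardinal.mk k < Cardinal.mk k' :=
    (Cardinal.mk_le_of_injective τt.injective).trans_lt hcard1
  obtain ⟨β, hβ⟩ := H10PT.exists_ringEquiv_comp_eq (j.comp τt) (j.comp τs) hkk' hcard2
  letI alg : Algebra k k' := (j.comp τt).toAlgebra
  refine ⟨k', fk', alg, hclosed, ?_⟩
  intro G' φ hφ hR' eU' hfU
  have hπ : Spec.map (CommRingCat.ofHom (algebraMap k k')) =
      Spec.map (CommRingCat.ofHom j) ≫ mt.left := by
    rw [← hτt, ← Spec.map_comp]
    rfl
  have hβπ : Spec.map (CommRingCat.ofHom (β : k' →+* k')) ≫ Spec.map (CommRingCat.ofHom (algebraMap k k')) =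
      Spec.map (CommRingCat.ofHom j) ≫ ms.left := by
    rw [← hτs, ← Spec.map_comp, ← Spec.map_comp]
    congr 1
    ext x
    exact hβ x
  have wt : mt.left ≫ σ = p.str := Over.w mt
  have ws : ms.left ≫ σ = p.str := Over.w ms
  let Jm : Over.mk (Spec.map (CommRingCat.ofHom (algebraMap k k')) ≫ σ) ⟶ p.pt :=
    Over.homMk (Spec.map (CommRingCat.ofHom j)) (by
      change _ ≫ p.str = _ ≫ σ
      rw [hπ, Category.assoc, wt])
  let Bm : Over.mk (Spec.map (CommRingCat.ofHom (algebraMap k k')) ≫ σ) ⟶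
      Over.mk (Spec.map (CommRingCat.ofHom (algebraMap k k')) ≫ σ) :=
    Over.homMk (Spec.map (CommRingCat.ofHom (β : k' →+* k'))) (by
      change _ ≫ (_ ≫ σ) = _ ≫ σ
      rw [← Category.assoc, hβπ, Category.assoc, ws, hπ, Category.assoc, wt])
  let πm : Over.mk (Spec.map (CommRingCat.ofHom (algebraMap k k')) ≫ σ) ⟶ Over.mk σ :=
    Over.homMk (Spec.map (CommRingCat.ofHom (algebraMap k k'))) rfl
  have hJt : Jm ≫ mt = πm := Over.OverMorphism.ext (by simpa [Jm, πm] using hπ.symm)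
  have hJs : Jm ≫ ms = Bm ≫ πm := Over.OverMorphism.ext (by simpa [Jm, Bm, πm] using hβπ.symm)
  have hBiso : IsIso Bm := by
    haveI : IsIso (CommRingCat.ofHom (β : k' →+* k')) := (β.toCommRingCatIso).isIso_hom
    haveI : IsIso ((Over.forget S).map Bm) := by
      change IsIso (Spec.map _)
      infer_instance
    exact isIso_of_reflects_iso Bm (Over.forget _)
  let ρ : G'.U ⟶ G.R := eU'.hom ≫ (AlgSp.yon S).map Jm ≫ p.toHom
  have e1 : p.toHom ≫ G.t = (AlgSp.yon S).map mt ≫ eU.inv := by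
    rw [hmt]; simp
  have e2 : p.toHom ≫ G.s = (AlgSp.yon S).map ms ≫ eU.inv := by
    rw [hms]; simp
  have h1 : ρ ≫ G.t = 𝟙 G'.U ≫ φ.fU := by
    rw [Category.id_comp, hfU]
    simp only [ρ, Category.assoc]
    rw [e1, ← Functor.map_comp_assoc, hJt]
  have h2 : ρ ≫ G.s = (eU'.hom ≫ (AlgSp.yon S).map Bm ≫ eU'.inv) ≫ φ.fU := by
    rw [hfU]
    simp only [ρ, Category.assoc, Iso.inv_hom_id_assoc]
    rw [e2, ← Functor.map_comp_assoc, hJs, Functor.map_comp_assoc]
  obtain ⟨r', ht, hs, hfr⟩ :=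
    Groth.Agent.Lib.Helper15.GroupoidSp.Hom.IsRestriction.exists_lift hφ _ _ ρ h1 h2
  refine ⟨r', ?_, ?_, ?_⟩
  · intro x
    rw [hfr]
    exact points_const p eU' Jm x
  · rw [hs]
    infer_instance
  · rw [ht]
    infer_instance

end Groth.Agent.S10146
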