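import Groth.Statements.S1015
import Groth.Agent.Lib.Helper2.Aff.QcqsPush
import Groth.Agent.Lib.Helper13.OpenFF

set_option autoImplicit false
universe u
open CategoryTheory CategoryTheory.Limits AlgebraicGeometry
attribute [local instance] HasDerivedCategory.standard
open Perf

namespace Groth.Agent.S1015

/-- Let U ⊆ X be an open subscheme whose inclusion is quasi-compact. Every object F of D(O_U) with
quasi-coherent cohomology sheaves is the restriction of such an object on X: there is a complex G of
O_X-modules with quasi-coherent cohomology sheaves whose termwise restriction to U is isomorphic to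
F in D(O_U). -/
theorem result (X : Scheme.{u}) (U : X.Opens) [QuasiCompact U.ι]
    (F : DCoh.D (U : Scheme.{u})) (hF : DCoh.IsQCohD F) :
    ∃ G : CochainComplex X.Modules ℤ, DCoh.IsQCohD (DCoh.toD X G) ∧
      Nonempty (DerivedCategory.Q.obj ((DCoh.restrictCx U).obj G) ≅ F) := by
  haveI := Groth.Agent.Lib.Helper2.Stk.hasRpush U.ι
  let K := (DCoh.Rpush U.ι).obj F
  have hK : DCoh.IsQCohD K := Groth.Agent.Lib.Helper2.Aff.Qcqs.isQCohD_Rpush U.ι F hF
  let G := DerivedCategory.Q.objPreimage K
  let i : DerivedCategory.Q.obj G ≅ K := DerivedCategory.Q.objObjPreimageIso K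
  refine ⟨G, fun n => Groth.Agent.Lib.Helper2.Aff.isQCoh_of_iso
    ((DerivedCategory.homologyFunctor _ n).mapIso i.symm) (hK n), ⟨?_⟩⟩
  haveI : IsIso (Scheme.Modules.restrictAdjunction U.ι).counit := inferInstance
  let adjD : (Scheme.Modules.restrictFunctor U.ι).mapDerivedCategory ⊣ DCoh.Rpush U.ι :=
    Groth.Agent.Lib.Helper2.KInj.derivedAdjK (Scheme.Modules.restrictAdjunction U.ι)
      (Groth.Agent.Lib.Helper13.KInjSch.hasKInj (U : Scheme.{u}))
      (DCoh.Rpush U.ι)
      ((DCoh.pushKh U.ι).totalRightDerivedUnit DerivedCategory.Qh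
        (HomotopyCategory.quasiIso (U : Scheme.{u}).Modules (ComplexShape.up ℤ)))
  haveI : IsIso adjD.counit :=
    Groth.Agent.Lib.Helper2.KInj.isIso_derivedAdjK_counit (Scheme.Modules.restrictAdjunction U.ι)
      (Groth.Agent.Lib.Helper13.KInjSch.hasKInj (U : Scheme.{u})) (DCoh.Rpush U.ι) _
  exact ((Scheme.Modules.restrictFunctor U.ι).mapDerivedCategoryFactors.app G).symm ≪≫
    (DCoh.restrictD U.ι).mapIso i ≪≫ asIso (adjD.counit.app F)


end Groth.Agent.S1015
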