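import Groth.Statements.S1017
import Groth.Agent.Lib.Helper2.ExtCoh.Glue

set_option autoImplicit false
universe u
open CategoryTheory CategoryTheory.Limits AlgebraicGeometry
attribute [local instance] HasDerivedCategory.standard
open Perf

namespace Groth.Agent.S1017

/-- Let X be a Noetherian scheme and U ⊆ X an open subscheme. Every bounded object F of D(O_U) with
coherent cohomology sheaves is the restriction of such an object on X: there is a complex G of
O_X-modules, bounded with coherent cohomology as an object of D(O_X), whose termwise restriction to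
U is isomorphic to F in D(O_U). -/
theorem result (X : Scheme.{u}) [IsNoetherian X] (U : X.Opens)
    (F : DCoh.D (U : Scheme.{u})) (hF : DCoh.IsCohD F) (a b : ℤ) [F.IsGE a] [F.IsLE b] :
    ∃ (G : CochainComplex X.Modules ℤ) (a' b' : ℤ), DCoh.IsCohD (DCoh.toD X G) ∧ (DCoh.toD X G).IsGE a' ∧ (DCoh.toD X G).IsLE b' ∧
      Nonempty (DerivedCategory.Q.obj ((DCoh.restrictCx U).obj G) ≅ F) := by
  obtain ⟨G₀, ⟨hc, a', b', ha', hb'⟩, ⟨e⟩⟩ := Groth.Agent.Lib.Helper2.ExtCoh.ext_ι X U inferInstance
    inferInstance F ⟨hF, a, b, inferInstance, inferInstance⟩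
  let G := DerivedCategory.Q.objPreimage G₀
  let i : DerivedCategory.Q.obj G ≅ G₀ := DerivedCategory.Q.objObjPreimageIso G₀
  refine ⟨G, a', b', Groth.Agent.Lib.Helper2.ExtCoh.isCohD_of_iso i.symm hc, ?_, ?_, ?_⟩
  · exact DerivedCategory.TStructure.t.isGE_of_iso i.symm a'
  · exact DerivedCategory.TStructure.t.isLE_of_iso i.symm b'
  · exact ⟨((Scheme.Modules.restrictFunctor U.ι).mapDerivedCategoryFactors.app G).symm ≪≫
      (DCoh.restrictD U.ι).mapIso i ≪≫ e⟩


end Groth.Agent.S1017
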