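import Groth.Statements.S10179
import Groth.Agent.Lib.Helper16.Charts

set_option autoImplicit false
universe u
open CategoryTheory CategoryTheory.Limits AlgebraicGeometry Topology TopologicalSpace
open AlgSp AlgSp.Points

namespace Groth.Agent.S10179

/-- For an algebraic space X over a scheme S, every point x of |X| has a fundamental system of
quasi-compact open neighbourhoods: every open subset of |X| containing x contains a quasi-compact
open subset containing x. In particular |X| is locally quasi-compact. -/
theorem result {S : Scheme.{u}} (X : AlgSp.Space S) (x : AlgSp.Points X.obj)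
    (W : Set (AlgSp.Points X.obj)) (hW : IsOpen W) (hx : x ∈ W) :
    ∃ V : Set (AlgSp.Points X.obj), IsOpen V ∧ IsCompact V ∧ x ∈ V ∧ V ⊆ W := by
  obtain ⟨V, q, hqe, hqs⟩ := X.property.atlas
  obtain ⟨v, rfl⟩ := Groth.Agent.Lib.Helper16.ofPt_surjective_of_surjective q hqs x
  have hb := V.left.isBasis_affineOpens
  let W' : V.left.Opens := ⟨Points.ofPt q ⁻¹' W, hW.preimage (Points.continuous_ofPt q)⟩
  obtain ⟨A, hA, hvA, hAW⟩ := (TopologicalSpace.Opens.isBasis_iff_nbhd.mp hb) (show v ∈ W' from hx)
  refine ⟨Points.ofPt q '' (A : Set ↥V.left),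
    Groth.Agent.Lib.Helper16.isOpenMap_ofPt_of_etale q hqe _ A.isOpen,
    (IsAffineOpen.isCompact hA).image (Points.continuous_ofPt q), ⟨v, hvA, rfl⟩, ?_⟩
  rintro _ ⟨a, ha, rfl⟩
  exact hAW ha

end Groth.Agent.S10179
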