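import Groth.Statements.S10180
import Groth.Agent.Lib.Helper16.Charts
import Mathlib.AlgebraicGeometry.Morphisms.Descent

set_option autoImplicit false
universe u
open CategoryTheory CategoryTheory.Limits AlgebraicGeometry Topology TopologicalSpace
open AlgSp

namespace Groth.Agent.S10180

/-- An algebraic space X over a scheme S is quasi-compact if and only if there exist an affine scheme U
over S and a representable etale, representable surjective map h_U ⟶ X. -/
theorem result {S : Scheme.{u}} (X : AlgSp.Space S) :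
    AlgSp.IsQuasiCompactSp X.obj ↔
      ∃ (U : Over S) (p : (AlgSp.yon S).obj U ⟶ X.obj),
        IsAffine U.left ∧ AlgSp.RepWith @Etale p ∧ AlgSp.RepWith @Surjective p := by
  constructor
  · rintro ⟨U, p, hpe, hps, hU⟩
    haveI : CompactSpace ↥U.left := hU
    obtain ⟨Y, q, hqs, hqe, hY⟩ :=
      Scheme.exists_hom_isAffine_of_isZariskiLocalAtSource (P := @Etale) U.left
    let U' : Over S := Over.mk (q ≫ U.hom)
    let c : U' ⟶ U := Over.homMk q rfl
    refine ⟨U', (AlgSp.yon S).map c ≫ p, hY, ?_, ?_⟩
    · exact (AlgSp.RepWith @Etale).comp_mem _ _ ((AlgSp.repWith_yon_map_iff _ _).2 hqe) hpe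
    · exact (AlgSp.RepWith @Surjective).comp_mem _ _ ((AlgSp.repWith_yon_map_iff _ _).2 hqs) hps
  · rintro ⟨U, p, hU, hpe, hps⟩
    exact ⟨U, p, hpe, hps, inferInstance⟩

end Groth.Agent.S10180
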