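import Groth.Statements.S10182
import Groth.Agent.Lib.Helper15.DiagChart

set_option autoImplicit false
universe u
open CategoryTheory CategoryTheory.Limits AlgebraicGeometry Topology TopologicalSpace
open AlgSp

namespace Groth.Agent.S10182

/-- Let X be an algebraic space over a scheme S, U a scheme over S whose underlying scheme is
quasi-separated, p : h_U ⟶ X representable etale and surjective, and R a scheme over S with h_R =
h_U ×_X h_U. If one of the two projections R ⟶ U is quasi-compact, then X is quasi-separated over S.
(The published statement concludes absolute quasi-separatedness, i.e. over the integers; this row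
concludes quasi-separatedness of the diagonal over S, which the same argument gives and which the
absolute notion implies.) -/
theorem result {S : Scheme.{u}} (X : AlgSp.Space S) {R U : Over S}
    (p : (AlgSp.yon S).obj U ⟶ X.obj) (hp : AlgSp.RepWith @Etale p) (hs : AlgSp.RepWith @Surjective p)
    [QuasiSeparatedSpace ↥U.left] (s t : R ⟶ U)
    (hR : IsPullback ((AlgSp.yon S).map t) ((AlgSp.yon S).map s) p p) [QuasiCompact t.left] :
    AlgSp.IsQuasiSeparatedSp X.obj := by
  let g : R ⟶ U ⨯ U := prod.lift t s
  have hg : QuasiCompact g.left := by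
    have hfst : QuasiSeparated (prod.fst : U ⨯ U ⟶ U).left := by
      rw [← Over.prodLeftIsoPullback_hom_fst]
      infer_instance
    have e : g.left ≫ (prod.fst : U ⨯ U ⟶ U).left = t.left := by
      rw [← Over.comp_left, prod.lift_fst]
    haveI : QuasiCompact (g.left ≫ (prod.fst : U ⨯ U ⟶ U).left) := by
      rw [e]
      infer_instance
    exact QuasiCompact.of_comp g.left (prod.fst : U ⨯ U ⟶ U).left
  let PC := prodComparison (AlgSp.yon S) U U
  let q : (AlgSp.yon S).obj (U ⨯ U) ⟶ X.obj ⨯ X.obj := PC ≫ prod.map p p
  have hqe : AlgSp.RepWith @Etale q :=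
    (MorphismProperty.cancel_left_of_respectsIso (AlgSp.RepWith @Etale) PC (prod.map p p)).2
      (Groth.Agent.Lib.Helper15.repWith_prod_map hp hp)
  have hqs : AlgSp.RepWith @Surjective q :=
    (MorphismProperty.cancel_left_of_respectsIso (AlgSp.RepWith @Surjective) PC (prod.map p p)).2
      (Groth.Agent.Lib.Helper15.repWith_prod_map hs hs)
  have e1 : (AlgSp.yon S).map g ≫ PC = prod.lift ((AlgSp.yon S).map t) ((AlgSp.yon S).map s) := by
    apply Limits.prod.hom_ext
    · rw [Category.assoc, prodComparison_fst, ← Functor.map_comp, prod.lift_fst, prod.lift_fst]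
    · rw [Category.assoc, prodComparison_snd, ← Functor.map_comp, prod.lift_snd, prod.lift_snd]
  have sq1 := Groth.Agent.Lib.Helper15.isPullback_prod_lift_diag' hR
  have sq0 : IsPullback (𝟙 _) ((AlgSp.yon S).map g)
      (prod.lift ((AlgSp.yon S).map t) ((AlgSp.yon S).map s)) PC :=
    IsPullback.of_horiz_isIso ⟨by rw [Category.id_comp, e1]⟩
  have sq := sq0.paste_horiz sq1
  exact Groth.Agent.Lib.Helper16.repWith_of_chart_of_descends (Limits.diag X.obj) X.property.diag q hqe hqs
    _ g sq @QuasiCompact hg

end Groth.Agent.S10182
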