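import Groth.Statements.S10184
import Groth.Agent.Lib.Helper16.Diagonal
import Groth.Agent.Lib.Helper15.DiagChart

set_option autoImplicit false
universe u
open CategoryTheory CategoryTheory.Limits AlgebraicGeometry Topology TopologicalSpace
open AlgSp

namespace Groth.Agent.S10184


open Groth.Agent.Lib.Helper16 Groth.Agent.Lib.Helper15 in
/-- Key step: a represented pullback `E` of the diagonal of `X` along `t : h_T ⟶ X ⨯ X` with `T` affine maps by a
quasi-compact morphism to any scheme `P` representing `h_T ×_X h_T`. -/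
theorem exists_quasiCompact_to_pullback {S : Scheme.{u}} {X : Sp S} {T E P : Over S}
    [QuasiSeparatedSpace ↥T.left]
    (t : (yon S).obj T ⟶ X ⨯ X) (ε : (yon S).obj E ⟶ X) (e : E ⟶ T)
    (sq : IsPullback ε ((yon S).map e) (Limits.diag X) t) (p₁ p₂ : P ⟶ T)
    (sqP : IsPullback ((yon S).map p₁) ((yon S).map p₂) (t ≫ prod.fst) (t ≫ prod.snd)) :
    ∃ j : E ⟶ P, QuasiCompact j.left := by
  have h1 : ε = (yon S).map e ≫ t ≫ prod.fst := by
    have := congrArg (· ≫ prod.fst) sq.w
    simpa only [Category.assoc, prod.lift_fst, Category.comp_id] using this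
  have h2 : ε = (yon S).map e ≫ t ≫ prod.snd := by
    have := congrArg (· ≫ prod.snd) sq.w
    simpa only [Category.assoc, prod.lift_snd, Category.comp_id] using this
  obtain ⟨j, hj⟩ := (yon S).map_surjective (sqP.lift ((yon S).map e) ((yon S).map e) (by rw [← h1, ← h2]))
  have hj1 : (yon S).map j ≫ (yon S).map p₁ = (yon S).map e := by rw [hj, sqP.lift_fst]
  have hj2 : (yon S).map j ≫ (yon S).map p₂ = (yon S).map e := by rw [hj, sqP.lift_snd]
  refine ⟨j, ?_⟩
  have hqs : QuasiCompact (pullback.diagonal T.hom) := inferInstance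
  have hΔ : RepWith @QuasiCompact (Limits.diag ((yon S).obj T)) :=
    (repWith_diag_yon_iff @QuasiCompact T).2 hqs
  have sqD := isPullback_prod_lift_diag' sqP
  have ht : Limits.diag ((yon S).obj T) ≫ prod.map (t ≫ prod.fst) (t ≫ prod.snd) = t := by
    apply Limits.prod.hom_ext
    · simp only [Category.assoc, prod.map_fst, prod.lift_fst_assoc, Category.id_comp]
    · simp only [Category.assoc, prod.map_snd, prod.lift_snd_assoc, Category.id_comp]
  have hbig : IsPullback ((yon S).map j ≫ (yon S).map p₁ ≫ t ≫ prod.fst) ((yon S).map e) (Limits.diag X)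
      (Limits.diag ((yon S).obj T) ≫ prod.map (t ≫ prod.fst) (t ≫ prod.snd)) := by
    rw [ht, ← Category.assoc, hj1, ← h1]
    exact sq
  have hp : (yon S).map j ≫ prod.lift ((yon S).map p₁) ((yon S).map p₂) =
      (yon S).map e ≫ Limits.diag ((yon S).obj T) := by
    apply Limits.prod.hom_ext
    · simp only [Category.assoc, prod.lift_fst, Category.comp_id, hj1]
    · simp only [Category.assoc, prod.lift_snd, Category.comp_id, hj2]
  have sqJ := (IsPullback.of_right hbig hp sqD).flip
  exact hΔ.property _ _ _ sqJ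


/-- Let X be an algebraic space over a scheme S such that for all affine schemes U, V over S mapping to
X, every scheme P over S representing h_U ×_X h_V is quasi-compact. Then X is quasi-separated over
S. (The published statement is about absolute quasi-separatedness, over the integers, which this
hypothesis also gives and which implies quasi-separatedness over S.) -/
theorem result {S : Scheme.{u}} (X : AlgSp.Space S)
    (h : ∀ (U V P : Over S) (a : (AlgSp.yon S).obj U ⟶ X.obj) (b : (AlgSp.yon S).obj V ⟶ X.obj)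
      (fst : P ⟶ U) (snd : P ⟶ V),
      IsAffine U.left → IsAffine V.left →
      IsPullback ((AlgSp.yon S).map fst) ((AlgSp.yon S).map snd) a b → CompactSpace ↥P.left) :
    AlgSp.IsQuasiSeparatedSp X.obj := by
  have hX := X.property
  apply MorphismProperty.relative.of_exists
  intro T t
  obtain ⟨E, e, ε, sq₀⟩ := hX.diag t
  refine ⟨E, ε, e, sq₀, ?_⟩
  change QuasiCompact e.left
  apply IsZariskiLocalAtTarget.of_forall_exists_morphismRestrict
  intro x
  obtain ⟨W, hW, hxW⟩ : ∃ W : T.left.Opens, IsAffineOpen W ∧ x ∈ W := by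
    obtain ⟨W, hW, hxW, -⟩ := (TopologicalSpace.Opens.isBasis_iff_nbhd.mp T.left.isBasis_affineOpens)
      (show x ∈ (⊤ : T.left.Opens) from trivial)
    exact ⟨W, hW, hxW⟩
  refine ⟨W, hxW, ?_⟩
  have sqW := Groth.Agent.Lib.Helper16.isPullback_restrict sq₀ W
  have hWa : IsAffine (Groth.Agent.Lib.Helper16.overOpen T W).left := hW
  obtain ⟨P, p₂, p₁', sqP'⟩ := hX.representable_from_yon
    (((yon S).map (Groth.Agent.Lib.Helper16.overOpenι T W) ≫ t) ≫ prod.fst)
    (((yon S).map (Groth.Agent.Lib.Helper16.overOpenι T W) ≫ t) ≫ prod.snd)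
  obtain ⟨p₁, rfl⟩ := (yon S).map_surjective p₁'
  have hPc : CompactSpace ↥P.left := h _ _ P _ _ p₁ p₂ hWa hWa sqP'
  obtain ⟨j, hj⟩ := exists_quasiCompact_to_pullback _ _ _ sqW p₁ p₂ sqP'
  have hc : CompactSpace ↥(Groth.Agent.Lib.Helper16.overOpen E (e.left ⁻¹ᵁ W)).left :=
    QuasiCompact.compactSpace_of_compactSpace j.left
  have hc' : CompactSpace ↥(e.left ⁻¹ᵁ W).toScheme := hc
  have hqsW : QuasiSeparatedSpace ↥W.toScheme := by
    have : IsAffine W.toScheme := hW
    infer_instance
  have hcW : CompactSpace ↥W.toScheme := by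
    have : IsAffine W.toScheme := hW
    infer_instance
  exact (quasiCompact_iff_compactSpace (e.left ∣_ W)).2 hc'

end Groth.Agent.S10184
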