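import Groth.Statements.S10186
import Groth.Agent.Lib.Helper16.Diagonal
import Groth.Agent.Lib.Helper15.DiagChart

set_option autoImplicit false
universe u
open CategoryTheory CategoryTheory.Limits AlgebraicGeometry Topology TopologicalSpace
open AlgSp

namespace Groth.Agent.S10186


open TensorProduct in
/-- Scheme-level step: if `j : E ⟶ P` is a closed immersion into an affine scheme equalising `p₁ p₂ : P ⟶ T` (with `T`
affine) and `Γ(T) ⊗ Γ(T) ⟶ Γ(P)` is surjective, then `j ≫ p₁ : E ⟶ T` is a closed immersion. -/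
theorem isClosedImmersion_of_productMap_surjective {E P T : Scheme.{u}} [IsAffine T] [IsAffine P]
    (j : E ⟶ P) [IsClosedImmersion j] (p₁ p₂ : P ⟶ T) (e : E ⟶ T) (h1 : j ≫ p₁ = e) (h2 : j ≫ p₂ = e)
    (hs : Function.Surjective
      (Algebra.TensorProduct.productMap p₁.appTop.hom.toIntAlgHom p₂.appTop.hom.toIntAlgHom)) :
    IsClosedImmersion e := by
  obtain ⟨hE, hj⟩ := IsClosedImmersion.isAffine_surjective_of_isAffine j
  have e1 : ∀ a, e.appTop.hom a = j.appTop.hom (p₁.appTop.hom a) := by
    intro a; rw [← h1, Scheme.Hom.comp_appTop]; rfl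
  have e2 : ∀ a, e.appTop.hom a = j.appTop.hom (p₂.appTop.hom a) := by
    intro a; rw [← h2, Scheme.Hom.comp_appTop]; rfl
  apply IsClosedImmersion.of_surjective_of_isAffine
  intro z
  obtain ⟨y, rfl⟩ := hj z
  obtain ⟨w, rfl⟩ := hs y
  induction w using TensorProduct.induction_on with
  | zero => exact ⟨0, by simp⟩
  | tmul a b =>
    refine ⟨a * b, ?_⟩
    show e.appTop.hom (a * b) = j.appTop.hom (Algebra.TensorProduct.productMap p₁.appTop.hom.toIntAlgHom
      p₂.appTop.hom.toIntAlgHom (a ⊗ₜ b))
    rw [Algebra.TensorProduct.productMap_apply_tmul, map_mul, map_mul]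
    show _ = j.appTop.hom (p₁.appTop.hom a) * j.appTop.hom (p₂.appTop.hom b)
    rw [← e1, ← e2]
  | add w₁ w₂ h₁ h₂ =>
    obtain ⟨c₁, hc₁⟩ := h₁
    obtain ⟨c₂, hc₂⟩ := h₂
    refine ⟨c₁ + c₂, ?_⟩
    rw [map_add, hc₁, hc₂, map_add, map_add]

open Groth.Agent.Lib.Helper16 Groth.Agent.Lib.Helper15 in
/-- Key step: a represented pullback `E` of the diagonal of `X` along `t : h_T ⟶ X ⨯ X` maps to any scheme `P`
representing `h_T ×_X h_T` by a base change of the diagonal of `T` over `S`. -/
theorem exists_to_pullback (Q : MorphismProperty Scheme.{u}) [Q.IsStableUnderBaseChange]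
    {S : Scheme.{u}} {X : Sp S} {T E P : Over S} (hT : Q (pullback.diagonal T.hom))
    (t : (yon S).obj T ⟶ X ⨯ X) (ε : (yon S).obj E ⟶ X) (e : E ⟶ T)
    (sq : IsPullback ε ((yon S).map e) (Limits.diag X) t) (p₁ p₂ : P ⟶ T)
    (sqP : IsPullback ((yon S).map p₁) ((yon S).map p₂) (t ≫ prod.fst) (t ≫ prod.snd)) :
    ∃ j : E ⟶ P, Q j.left ∧ j ≫ p₁ = e ∧ j ≫ p₂ = e := by
  have h1 : ε = (yon S).map e ≫ t ≫ prod.fst := by
    have := congrArg (· ≫ prod.fst) sq.w
    simpa only [Category.assoc, prod.lift_fst, Category.comp_id] using this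
  have h2 : ε = (yon S).map e ≫ t ≫ prod.snd := by
    have := congrArg (· ≫ prod.snd) sq.w
    simpa only [Category.assoc, prod.lift_snd, Category.comp_id] using this
  obtain ⟨j, hj⟩ := (yon S).map_surjective (sqP.lift ((yon S).map e) ((yon S).map e) (by rw [← h1, ← h2]))
  have hj1 : (yon S).map j ≫ (yon S).map p₁ = (yon S).map e := by rw [hj, sqP.lift_fst]
  have hj2 : (yon S).map j ≫ (yon S).map p₂ = (yon S).map e := by rw [hj, sqP.lift_snd]
  refine ⟨j, ?_, (yon S).map_injective (by rw [Functor.map_comp]; exact hj1),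
    (yon S).map_injective (by rw [Functor.map_comp]; exact hj2)⟩
  have hΔ : RepWith Q (Limits.diag ((yon S).obj T)) := (repWith_diag_yon_iff Q T).2 hT
  have sqD := isPullback_prod_lift_diag' sqP
  have ht : Limits.diag ((yon S).obj T) ≫ prod.map (t ≫ prod.fst) (t ≫ prod.snd) = t := by
    apply Limits.prod.hom_ext
    · simp only [Category.assoc, prod.map_fst, prod.lift_fst_assoc, Category.id_comp]
    · simp only [Category.assoc, prod.map_snd, prod.lift_snd_assoc, Category.id_comp]
  have hbig : IsPullback ((yon S).map j ≫ (yon S).map p₁ ≫ t ≫ prod.fst) ((yon S).map e) (Limits.diag X)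
      (Limits.diag ((yon S).obj T) ≫ prod.map (t ≫ prod.fst) (t ≫ prod.snd)) := by
    rw [ht, ← Category.assoc, hj1, ← h1]
    exact sq
  have hp : (yon S).map j ≫ prod.lift ((yon S).map p₁) ((yon S).map p₂) =
      (yon S).map e ≫ Limits.diag ((yon S).obj T) := by
    apply Limits.prod.hom_ext
    · simp only [Category.assoc, prod.lift_fst, Category.comp_id, hj1]
    · simp only [Category.assoc, prod.lift_snd, Category.comp_id, hj2]
  have sqJ := (IsPullback.of_right hbig hp sqD).flip
  exact hΔ.property _ _ _ sqJ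


/-- Let X be an algebraic space over a scheme S such that for all affine schemes U, V over S mapping to
X and every scheme P over S representing h_U ×_X h_V, the scheme P is affine and the ring map from
the tensor product over the integers of the global sections of U and V to the global sections of P,
induced by the two projections, is surjective. Then X is separated over S. (The published statement
concerns absolute separatedness, over the integers, which this hypothesis also gives and which
implies separatedness over S.) -/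
theorem result {S : Scheme.{u}} (X : AlgSp.Space S)
    (h : ∀ (U V P : Over S) (a : (AlgSp.yon S).obj U ⟶ X.obj) (b : (AlgSp.yon S).obj V ⟶ X.obj)
      (fst : P ⟶ U) (snd : P ⟶ V),
      IsAffine U.left → IsAffine V.left →
      IsPullback ((AlgSp.yon S).map fst) ((AlgSp.yon S).map snd) a b →
        IsAffine P.left ∧ Function.Surjective
          (Algebra.TensorProduct.productMap fst.left.appTop.hom.toIntAlgHom snd.left.appTop.hom.toIntAlgHom)) :
    AlgSp.IsSeparatedSp X.obj := by
  have hX := X.property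
  apply MorphismProperty.relative.of_exists
  intro T t
  obtain ⟨E, e, ε, sq₀⟩ := hX.diag t
  refine ⟨E, ε, e, sq₀, ?_⟩
  change IsClosedImmersion e.left
  apply IsZariskiLocalAtTarget.of_forall_exists_morphismRestrict
  intro x
  obtain ⟨W, hW, hxW⟩ : ∃ W : T.left.Opens, IsAffineOpen W ∧ x ∈ W := by
    obtain ⟨W, hW, hxW, -⟩ := (TopologicalSpace.Opens.isBasis_iff_nbhd.mp T.left.isBasis_affineOpens)
      (show x ∈ (⊤ : T.left.Opens) from trivial)
    exact ⟨W, hW, hxW⟩
  refine ⟨W, hxW, ?_⟩
  have sqW := Groth.Agent.Lib.Helper16.isPullback_restrict sq₀ W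
  have hWa : IsAffine (Groth.Agent.Lib.Helper16.overOpen T W).left := hW
  obtain ⟨P, p₂, p₁', sqP'⟩ := hX.representable_from_yon
    (((yon S).map (Groth.Agent.Lib.Helper16.overOpenι T W) ≫ t) ≫ prod.fst)
    (((yon S).map (Groth.Agent.Lib.Helper16.overOpenι T W) ≫ t) ≫ prod.snd)
  obtain ⟨p₁, rfl⟩ := (yon S).map_surjective p₁'
  obtain ⟨hPa, hs⟩ := h _ _ P _ _ p₁ p₂ hWa hWa sqP'
  have hsep : IsClosedImmersion (pullback.diagonal (Groth.Agent.Lib.Helper16.overOpen T W).hom) :=
    inferInstance
  obtain ⟨j, hj, hj1, hj2⟩ := exists_to_pullback @IsClosedImmersion hsep _ _ _ sqW p₁ p₂ sqP'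
  have hWa' : IsAffine W.toScheme := hW
  exact isClosedImmersion_of_productMap_surjective (T := W.toScheme) j.left p₁.left p₂.left (e.left ∣_ W)
    (congrArg (·.left) hj1) (congrArg (·.left) hj2) hs

end Groth.Agent.S10186
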