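import Groth.Statements.S10187
import Mathlib
import Groth.Agent.Lib.Helper15.DiagLift

set_option autoImplicit false
universe u
open CategoryTheory CategoryTheory.Limits AlgebraicGeometry Topology TopologicalSpace
open AlgSp

namespace Groth.Agent.S10187
open scoped TensorProduct

/-- Let S be a separated scheme and X an algebraic space over S whose diagonal over S is a closed
immersion. Then for all affine schemes U, V over S mapping to X and every scheme P over S
representing h_U ×_X h_V, the scheme P is affine and the ring map from the tensor product over the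
integers of the global sections of U and V to the global sections of P, induced by the projections,
is surjective. (The published statement uses absolute separatedness of X; over a separated base this
agrees with separatedness over S, and without a hypothesis on S the relative notion does not
suffice: take X = h_S for an affine line with doubled origin S and U, V the two copies of the line.) -/
theorem result {S : Scheme.{u}} [S.IsSeparated]
    (X : AlgSp.Space S) (hX : AlgSp.IsSeparatedSp X.obj) (U V P : Over S) (a : (AlgSp.yon S).obj U ⟶ X.obj) (b : (AlgSp.yon S).obj V ⟶ X.obj)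
      (fst : P ⟶ U) (snd : P ⟶ V)
    (hU : IsAffine U.left) (hV : IsAffine V.left)
    (h : IsPullback ((AlgSp.yon S).map fst) ((AlgSp.yon S).map snd) a b) :
    IsAffine P.left ∧ Function.Surjective
          (Algebra.TensorProduct.productMap fst.left.appTop.hom.toIntAlgHom snd.left.appTop.hom.toIntAlgHom) := by
  haveI := hU
  haveI := hV
  obtain ⟨j, hj1, hj2, hjc⟩ :=
    Groth.Agent.Lib.Helper15.DiagLift.exists_lift_prop (Pr := @IsClosedImmersion) hX a b fst snd h
  haveI : IsClosedImmersion j := hjc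
  obtain ⟨tS, htS⟩ : ∃ tS : S ⟶ ⊤_ Scheme.{u}, tS = terminal.from S := ⟨_, rfl⟩
  haveI : IsSeparated tS := by rw [htS]; infer_instance
  obtain ⟨j', hj'def⟩ : ∃ j' : P.left ⟶ pullback (U.hom ≫ tS) (V.hom ≫ tS),
      j' = j ≫ pullback.mapDesc U.hom V.hom tS := ⟨_, rfl⟩
  haveI : IsClosedImmersion j' := by rw [hj'def]; infer_instance
  have hj1' : j' ≫ pullback.fst (U.hom ≫ tS) (V.hom ≫ tS) = fst.left := by
    rw [hj'def, Category.assoc,
      show pullback.mapDesc U.hom V.hom tS ≫ pullback.fst (U.hom ≫ tS) (V.hom ≫ tS) =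
        pullback.fst U.hom V.hom from (pullback.lift_fst _ _ _).trans (Category.comp_id _), hj1]
  have hj2' : j' ≫ pullback.snd (U.hom ≫ tS) (V.hom ≫ tS) = snd.left := by
    rw [hj'def, Category.assoc,
      show pullback.mapDesc U.hom V.hom tS ≫ pullback.snd (U.hom ≫ tS) (V.hom ≫ tS) =
        pullback.snd U.hom V.hom from (pullback.lift_snd _ _ _).trans (Category.comp_id _), hj2]
  obtain ⟨hPaff, hsurj⟩ := IsClosedImmersion.isAffine_surjective_of_isAffine j'
  refine ⟨hPaff, ?_⟩
  have hpo := isPushout_appTop_of_isPullback (IsPullback.of_hasPullback (U.hom ≫ tS) (V.hom ≫ tS))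
  -- the range subring
  obtain ⟨R₀, hR₀⟩ : ∃ R₀ : Subring Γ(P.left, ⊤), R₀ = (Algebra.TensorProduct.productMap
      fst.left.appTop.hom.toIntAlgHom snd.left.appTop.hom.toIntAlgHom).toRingHom.range := ⟨_, rfl⟩
  have hfst : ∀ x, fst.left.appTop.hom x ∈ R₀ := by
    intro x
    rw [hR₀]
    refine ⟨x ⊗ₜ 1, ?_⟩
    show Algebra.TensorProduct.productMap _ _ (x ⊗ₜ[ℤ] 1) = _
    rw [Algebra.TensorProduct.productMap_apply_tmul]
    simp
  have hsnd : ∀ y, snd.left.appTop.hom y ∈ R₀ := by
    intro y
    rw [hR₀]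
    refine ⟨1 ⊗ₜ y, ?_⟩
    show Algebra.TensorProduct.productMap _ _ ((1 : Γ(U.left, ⊤)) ⊗ₜ[ℤ] y) = _
    rw [Algebra.TensorProduct.productMap_apply_tmul]
    simp
  obtain ⟨α, hα⟩ : ∃ α : Γ(U.left, ⊤) ⟶ CommRingCat.of R₀,
      α ≫ CommRingCat.ofHom R₀.subtype = fst.left.appTop :=
    ⟨CommRingCat.ofHom (RingHom.codRestrict fst.left.appTop.hom R₀ hfst), by ext x; rfl⟩
  obtain ⟨β, hβ⟩ : ∃ β : Γ(V.left, ⊤) ⟶ CommRingCat.of R₀,
      β ≫ CommRingCat.ofHom R₀.subtype = snd.left.appTop :=
    ⟨CommRingCat.ofHom (RingHom.codRestrict snd.left.appTop.hom R₀ hsnd), by ext x; rfl⟩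
  have hmono : Mono (CommRingCat.ofHom R₀.subtype) :=
    ConcreteCategory.mono_of_injective _ Subtype.val_injective
  have hcompat : (U.hom ≫ tS).appTop ≫ α = (V.hom ≫ tS).appTop ≫ β := by
    rw [← cancel_mono (CommRingCat.ofHom R₀.subtype), Category.assoc, Category.assoc, hα, hβ,
      ← Scheme.Hom.comp_appTop, ← Scheme.Hom.comp_appTop]
    congr 1
    rw [← hj1', ← hj2', Category.assoc, Category.assoc, pullback.condition]
  have hγ : hpo.desc α β hcompat ≫ CommRingCat.ofHom R₀.subtype = j'.appTop := by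
    apply hpo.hom_ext
    · rw [← Category.assoc, hpo.inl_desc, hα, ← Scheme.Hom.comp_appTop, hj1']
    · rw [← Category.assoc, hpo.inr_desc, hβ, ← Scheme.Hom.comp_appTop, hj2']
  intro z
  obtain ⟨w, rfl⟩ := hsurj z
  have hz : j'.appTop.hom w ∈ R₀ := by
    rw [← hγ]
    exact ((hpo.desc α β hcompat).hom w).2
  rw [hR₀] at hz
  obtain ⟨y, hy⟩ := hz
  exact ⟨y, hy⟩

end Groth.Agent.S10187
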