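import Groth.Statements.S10188
import Groth.Agent.Lib.Helper16.Charts

set_option autoImplicit false
universe u
open CategoryTheory CategoryTheory.Limits AlgebraicGeometry Topology TopologicalSpace
open AlgSp

namespace Groth.Agent.S10188

/-- Let P be a property of schemes that is local in the etale topology (for every scheme V and every
etale covering family of V, V has P if and only if all members have P), and let X be an algebraic
space over a scheme S. Then X has P etale locally (some surjective etale chart from a scheme with P)
if and only if every scheme admitting a representable etale map to X has P. -/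
theorem result {S : Scheme.{u}} (P : Scheme.{u} → Prop)
    (hP : ∀ (V : Scheme.{u}) (𝒰 : Scheme.Cover.{u} (Scheme.precoverage @Etale) V), P V ↔ ∀ i, P (𝒰.X i))
    (X : AlgSp.Space S) :
    AlgSp.EtaleLocally P X.obj ↔
      ∀ (U : Over S) (a : (AlgSp.yon S).obj U ⟶ X.obj), AlgSp.RepWith @Etale a → P U.left := by
  constructor
  · rintro ⟨U, p, hp, hs, hPU⟩ V a ha
    have sq := hp.rep.isPullback a
    have hπe : Etale (hp.rep.snd a).left := hp.property_snd a
    have hπs : Surjective (hp.rep.snd a).left := hs.property_snd a
    obtain ⟨c, hc⟩ := (AlgSp.yon S).map_surjective (hp.rep.fst a)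
    rw [← hc] at sq
    have hce : Etale c.left := ((AlgSp.repWith_iff _ _).1 ha).2 p _ c sq.flip
    let 𝒱 : Scheme.Cover.{u} (Scheme.precoverage @Etale) U.left :=
      (Scheme.coverOfIsIso (P := @Etale) (𝟙 U.left)).add c.left hce
    have hPW : P (hp.rep.pullback a).left := (hP U.left 𝒱).1 hPU none
    let 𝒲 : Scheme.Cover.{u} (Scheme.precoverage @Etale) V.left :=
      Scheme.Cover.mkOfCovers PUnit.{u + 1} (fun _ => (hp.rep.pullback a).left)
        (fun _ => (hp.rep.snd a).left) (fun x => ⟨⟨⟩, hπs.surj x⟩) (fun _ => hπe)
    exact (hP V.left 𝒲).2 (fun _ => hPW)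
  · intro h
    obtain ⟨U, p, hp, hs⟩ := X.property.atlas
    exact ⟨U, p, hp, hs, h U p hp⟩

end Groth.Agent.S10188
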