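import Groth.Statements.S10190
import Groth.Agent.Lib.Helper16.Charts
import Groth.Agent.Lib.Helper15.MaxPts

set_option autoImplicit false
universe u
open CategoryTheory CategoryTheory.Limits AlgebraicGeometry Topology TopologicalSpace
open AlgSp

namespace Groth.Agent.S10190

/-- For an algebraic space X over a scheme S, the set of codimension 0 points of X (points x of |X| such
that, for some representable etale h_U ⟶ X from a scheme U and some point u of U mapping to x, the
local ring of U at u has dimension 0) is dense in |X|. -/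
theorem result {S : Scheme.{u}} (X : AlgSp.Space S) :
    Dense {x : AlgSp.Points X.obj |
      AlgSp.HasAt (fun U u => ringKrullDim ↥(U.presheaf.stalk u) = 0) X.obj x} := by
  obtain ⟨U, p, hpe, hps⟩ := X.property.atlas
  rw [dense_iff_inter_open]
  intro O hO hOne
  obtain ⟨x, hx⟩ := hOne
  obtain ⟨u, rfl⟩ := Groth.Agent.Lib.Helper16.ofPt_surjective_of_surjective p hps x
  obtain ⟨z, hz, hzu⟩ := Groth.Agent.Lib.Helper15.NT.exists_maxPt_specializes (B := ↥U.left) u
  have hzO : z ∈ AlgSp.Points.ofPt p ⁻¹' O :=
    hzu.mem_open (hO.preimage (AlgSp.Points.continuous_ofPt p)) hx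
  refine ⟨AlgSp.Points.ofPt p z, hzO, U, p, z, hpe, rfl, ?_⟩
  have hgen : ∀ y : ↥U.left, y ⤳ z → y = z := by
    intro y hy
    have hzy : z ⤳ y :=
      (Groth.Agent.Lib.Helper15.NT.closure_singleton_mem_irreducibleComponents_iff z).1 hz y hy
    exact (hy.antisymm hzy).eq
  have hinj : Function.Injective (U.left.fromSpecStalk z) :=
    (U.left.fromSpecStalk z).isEmbedding.injective
  have key : ∀ P Q : ↥(Spec (U.left.presheaf.stalk z)), P = Q := by
    intro P Q
    apply hinj
    have hP : (U.left.fromSpecStalk z) P ⤳ z := by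
      have : (U.left.fromSpecStalk z) P ∈ Set.range (U.left.fromSpecStalk z) := ⟨P, rfl⟩
      rwa [Scheme.range_fromSpecStalk] at this
    have hQ : (U.left.fromSpecStalk z) Q ⤳ z := by
      have : (U.left.fromSpecStalk z) Q ∈ Set.range (U.left.fromSpecStalk z) := ⟨Q, rfl⟩
      rwa [Scheme.range_fromSpecStalk] at this
    rw [hgen _ hP, hgen _ hQ]
  haveI : Subsingleton (PrimeSpectrum ↥(U.left.presheaf.stalk z)) := ⟨fun P Q => key P Q⟩
  unfold ringKrullDim
  exact Order.krullDim_eq_zero

end Groth.Agent.S10190
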