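import Groth.Statements.S10196
import Groth.Agent.Lib.Helper15.MonoInj
open Groth.Agent.Lib.Helper15 Groth.Agent.Lib.Helper16

set_option autoImplicit false
universe u
open CategoryTheory CategoryTheory.Limits AlgebraicGeometry Topology TopologicalSpace
open AlgSp

namespace Groth.Agent.S10196

/-- Let X be an algebraic space over a scheme S, a : h_U ⟶ X a representable etale map from a scheme U
over S, and X' ⟶ X the open subspace whose image in |X| is the (open) image of U. Then a factors
through a representable etale and surjective a' : h_U ⟶ X', and if R is a scheme over S with h_R =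
h_U ×_X h_U then also h_R = h_U ×_{X'} h_U and (U, R, a') is a presentation of X'. -/
theorem result {S : Scheme.{u}} {X X' : AlgSp.Space S} {U : Over S}
    (a : (AlgSp.yon S).obj U ⟶ X.obj) (ha : AlgSp.RepWith @Etale a)
    (j : X' ⟶ X) (hj : AlgSp.RepWith @IsOpenImmersion j.hom)
    (himage : Set.range (AlgSp.Points.map j.hom) = Set.range (AlgSp.Points.ofPt a)) :
    ∃ a' : (AlgSp.yon S).obj U ⟶ X'.obj, a' ≫ j.hom = a ∧ AlgSp.RepWith @Etale a' ∧ AlgSp.RepWith @Surjective a' ∧
      ∀ (R : Over S) (s t : R ⟶ U), IsPullback ((AlgSp.yon S).map t) ((AlgSp.yon S).map s) a a →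
        AlgSp.IsPresentation s t a' := by
  have hmono : Mono j.hom := mono_of_repWith_isOpenImmersion j.hom hj
  obtain ⟨a', ha'⟩ := (exists_factor_iff_of_openImmersion j.hom hj a).2
    (fun p => by rw [himage]; exact ⟨p, rfl⟩)
  have het : AlgSp.RepWith @Etale a' := repWith_of_comp_mono _ a' j.hom (by rw [ha']; exact ha)
  have hsurj : AlgSp.RepWith @Surjective a' := by
    refine (AlgSp.repWith_iff _ _).2 ⟨((AlgSp.repWith_iff _ _).1 het).1, ?_⟩
    intro T V g fst snd sq
    constructor
    intro t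
    have h1 : AlgSp.Points.map j.hom (AlgSp.Points.ofPt g t) ∈ Set.range (AlgSp.Points.ofPt a) := by
      rw [← himage]; exact ⟨_, rfl⟩
    obtain ⟨u, hu⟩ := h1
    have h2 : AlgSp.Points.map a' (AlgSp.Points.ofScheme U u) = AlgSp.Points.ofPt g t := by
      apply points_map_injective_of_mono j.hom
      rw [← hu, ← AlgSp.Points.map_comp, ha']
      exact (AlgSp.Points.ofPt_eq_map_ofScheme a u).symm
    obtain ⟨v, -, hv⟩ := exists_point_of_isPullback_yon sq (AlgSp.Points.ofScheme U u) t h2
    exact ⟨v, hv⟩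
  refine ⟨a', ha', het, hsurj, ?_⟩
  intro R s t sq
  have sq' : IsPullback ((AlgSp.yon S).map t) ((AlgSp.yon S).map s) a' a' :=
    isPullback_of_comp_mono j.hom (by rw [ha']; exact sq)
  have hiff : ∀ (T : Over S) (x y : T ⟶ U), (∃ r : T ⟶ R, r ≫ t = x ∧ r ≫ s = y) ↔
      (AlgSp.yon S).map x ≫ a = (AlgSp.yon S).map y ≫ a := by
    intro T x y
    constructor
    · rintro ⟨r, rfl, rfl⟩
      rw [Functor.map_comp, Functor.map_comp, Category.assoc, Category.assoc, sq.w]
    · intro h
      obtain ⟨r, hr⟩ := (AlgSp.yon S).map_surjective (sq.lift _ _ h)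
      refine ⟨r, ?_, ?_⟩
      · apply (AlgSp.yon S).map_injective
        rw [Functor.map_comp, hr, sq.lift_fst]
      · apply (AlgSp.yon S).map_injective
        rw [Functor.map_comp, hr, sq.lift_snd]
  refine ⟨⟨⟨?_, ?_⟩, ?_, ?_⟩, het, hsurj, sq'⟩
  · intro T r r' h1 h2
    apply (AlgSp.yon S).map_injective
    apply sq.hom_ext
    · rw [← Functor.map_comp, ← Functor.map_comp, h1]
    · rw [← Functor.map_comp, ← Functor.map_comp, h2]
  · intro T
    refine ⟨fun x => (hiff T x x).2 rfl, fun {x y} h => (hiff T y x).2 ((hiff T x y).1 h).symm,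
      fun {x y z} h1 h2 => (hiff T x z).2 (((hiff T x y).1 h1).trans ((hiff T y z).1 h2))⟩
  · exact ((AlgSp.repWith_iff _ _).1 ha).2 a ((AlgSp.yon S).map t) s sq
  · exact ((AlgSp.repWith_iff _ _).1 ha).2 a ((AlgSp.yon S).map s) t sq.flip

end Groth.Agent.S10196
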