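import Groth.Statements.S10197
import Groth.Agent.Lib.Helper16.SchLocus

set_option autoImplicit false
universe u
open CategoryTheory CategoryTheory.Limits AlgebraicGeometry Topology TopologicalSpace
open AlgSp

namespace Groth.Agent.S10197

open Groth.Agent.Lib.Helper15 Groth.Agent.Lib.Helper16.SchLocus


/-- An algebraic space X over a scheme S has a largest open subspace which is a scheme: there is an open
subspace X' ⟶ X whose underlying sheaf is representable by a scheme over S, through which every open
subspace of X with representable underlying sheaf factors. -/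
theorem result {S : Scheme.{u}} (X : AlgSp.Space S) :
    ∃ (X' : AlgSp.Space S) (j : X' ⟶ X), AlgSp.RepWith @IsOpenImmersion j.hom ∧ X'.obj.obj.IsRepresentable ∧
      ∀ (X'' : AlgSp.Space S) (j'' : X'' ⟶ X), AlgSp.RepWith @IsOpenImmersion j''.hom →
        X''.obj.obj.IsRepresentable → ∃ k : X'' ⟶ X', k ≫ j = j'' := by
  obtain ⟨Mg, ⟨e⟩⟩ := exists_iso_yon_openSub_schLocus X.property
  have hopen := isOpen_schLocus X.obj
  refine ⟨⟨openSub X.obj (schLocus X.obj), isAlgSpace_openSub X.property _ hopen⟩,
    ObjectProperty.homMk (openSubι X.obj (schLocus X.obj)), repWith_isOpenImmersion_openSubι _ hopen,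
    isRepresentable_of_iso e.symm, ?_⟩
  intro X'' j'' hj'' hrep
  have hsub : Set.range (AlgSp.Points.map j''.hom) ⊆
      Set.range (AlgSp.Points.map (openSubι X.obj (schLocus X.obj))) := by
    rw [range_map_openSubι]
    exact range_map_subset_schLocus j''.hom hj'' hrep
  obtain ⟨g, hg⟩ := exists_factor_of_range_subset (openSubι X.obj (schLocus X.obj))
    (repWith_isOpenImmersion_openSubι _ hopen) j''.hom hsub
  refine ⟨ObjectProperty.homMk g, ?_⟩
  apply ObjectProperty.hom_ext
  exact hg

end Groth.Agent.S10197
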