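import Groth.Statements.S10198
import Groth.Agent.S10182
import Groth.Agent.Lib.Helper15.OpenSubspace
import Groth.Agent.Lib.Helper15.DiagLift
import Groth.Agent.Lib.Helper16.QuasiCompact
import Groth.Agent.Lib.Helper16.Charts

set_option autoImplicit false
universe u
open CategoryTheory CategoryTheory.Limits AlgebraicGeometry Topology TopologicalSpace
open AlgSp

namespace Groth.Agent.S10198

open CategoryTheory CategoryTheory.Limits AlgebraicGeometry Opposite Topology TopologicalSpace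
open AlgSp Groth.Agent.Lib.Helper15 Groth.Agent.Lib.Helper16

theorem isPullback_of_comp_mono {C : Type*} [Category C] {P X Y Z Z' : C} {fst : P ⟶ X} {snd : P ⟶ Y}
    {f : X ⟶ Z} {g : Y ⟶ Z} (m : Z ⟶ Z') [Mono m] (h : IsPullback fst snd (f ≫ m) (g ≫ m)) :
    IsPullback fst snd f g := by
  have w : fst ≫ f = snd ≫ g := by
    rw [← cancel_mono m, Category.assoc, Category.assoc]; exact h.w
  exact ⟨⟨w⟩, ⟨PullbackCone.IsLimit.mk _
    (fun s => h.lift s.fst s.snd (by rw [← Category.assoc, s.condition, Category.assoc]))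
    (fun s => h.lift_fst _ _ _) (fun s => h.lift_snd _ _ _)
    (fun s m' h1 h2 => h.hom_ext (by rw [h1, h.lift_fst]) (by rw [h2, h.lift_snd]))⟩⟩

theorem isPullback_comp_mono {C : Type*} [Category C] {P X Y Z Z' : C} {fst : P ⟶ X} {snd : P ⟶ Y}
    {f : X ⟶ Z} {g : Y ⟶ Z} (m : Z ⟶ Z') [Mono m] (h : IsPullback fst snd f g) :
    IsPullback fst snd (f ≫ m) (g ≫ m) := by
  have w : fst ≫ f ≫ m = snd ≫ g ≫ m := by rw [← Category.assoc, h.w, Category.assoc]
  exact ⟨⟨w⟩, ⟨PullbackCone.IsLimit.mk _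
    (fun s => h.lift s.fst s.snd (by
      rw [← cancel_mono m, Category.assoc, Category.assoc]; exact s.condition))
    (fun s => h.lift_fst _ _ _) (fun s => h.lift_snd _ _ _)
    (fun s m' h1 h2 => h.hom_ext (by rw [h1, h.lift_fst]) (by rw [h2, h.lift_snd]))⟩⟩

theorem repWith_of_comp_mono {S : Scheme.{u}} {P : MorphismProperty Scheme.{u}} {F G H : Sp S}
    (f : F ⟶ G) (m : G ⟶ H) [Mono m] (h : RepWith P (f ≫ m)) : RepWith P f := by
  rw [repWith_iff] at h ⊢
  refine ⟨?_, ?_⟩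
  · intro T g
    obtain ⟨b, snd, fst, sq⟩ := h.1 (g ≫ m)
    exact ⟨b, snd, fst, isPullback_of_comp_mono m sq⟩
  · intro U V g fst snd sq
    exact h.2 (g ≫ m) fst snd (isPullback_comp_mono m sq)

theorem quasiCompact_pullback_snd_of_affine {S W' T' : Scheme.{u}} (f : W' ⟶ S) (g : T' ⟶ S) [IsAffine W']
    (V : S.Opens) (hV : IsAffineOpen V) (hf : ∀ w, f w ∈ V) (hg : ∀ t, g t ∈ V) :
    QuasiCompact (pullback.snd f g) := by
  have hrf : Set.range f ⊆ Set.range V.ι := by
    rw [Scheme.Opens.range_ι]; rintro _ ⟨w, rfl⟩; exact hf w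
  have hrg : Set.range g ⊆ Set.range V.ι := by
    rw [Scheme.Opens.range_ι]; rintro _ ⟨t, rfl⟩; exact hg t
  obtain ⟨f', hf'⟩ : ∃ f' : W' ⟶ (V : Scheme.{u}), f' ≫ V.ι = f :=
    ⟨IsOpenImmersion.lift V.ι f hrf, IsOpenImmersion.lift_fac _ _ _⟩
  obtain ⟨g', hg'⟩ : ∃ g' : T' ⟶ (V : Scheme.{u}), g' ≫ V.ι = g :=
    ⟨IsOpenImmersion.lift V.ι g hrg, IsOpenImmersion.lift_fac _ _ _⟩
  haveI : IsAffine (V : Scheme.{u}) := hV
  have sq : IsPullback (pullback.fst f g) (pullback.snd f g) f' g' := by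
    apply isPullback_of_comp_mono V.ι
    rw [hf', hg']
    exact IsPullback.of_hasPullback f g
  have hqf : QuasiCompact f' := inferInstance
  exact MorphismProperty.of_isPullback (P := @QuasiCompact) sq hqf

theorem chart_of_affine_open {S : Scheme.{u}} {F : Sp S} (hqs : IsQuasiSeparatedSp F) {U : Over S}
    (p : (yon S).obj U ⟶ F) (hp : RepWith @Etale p) (W : U.left.Opens) (hW : IsAffineOpen W)
    (V : S.Opens) (hV : IsAffineOpen V) (hWV : ∀ w : ↥U.left, w ∈ W → U.hom w ∈ V)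
    (Ω : Set (Points F)) (hΩ : Ω = Points.ofPt p '' (W : Set ↥U.left)) :
    ∃ p' : (yon S).obj (overOpen U W) ⟶ openSub F Ω,
      RepWith @QuasiCompact p' ∧ RepWith @Etale p' ∧ RepWith @Surjective p' := by
  have hΩmem : ∀ x, x ∈ Ω ↔ ∃ u, u ∈ (W : Set ↥U.left) ∧ Points.ofPt p u = x := by
    intro x; rw [hΩ]; exact Iff.rfl
  obtain ⟨q, hq⟩ : ∃ q, q = (yon S).map (overOpenι U W) ≫ p := ⟨_, rfl⟩
  have hqe : RepWith @Etale q := by rw [hq]; exact repWith_etale_restrict p hp W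
  have hqpt : ∀ w : ↥(overOpen U W).left, Points.ofPt q w = Points.ofPt p (W.ι w) := by
    intro w; rw [hq]; exact ofPt_restrict p W w
  have hιW : ∀ w : ↥(overOpen U W).left, W.ι w ∈ W := by
    intro w
    show W.ι w ∈ (W : Set ↥U.left)
    rw [← Scheme.Opens.range_ι W]; exact ⟨w, rfl⟩
  have hqΩ : ∀ w, Points.ofPt q w ∈ Ω := by
    intro w
    rw [hqpt, hΩmem]
    exact ⟨W.ι w, hιW w, rfl⟩
  obtain ⟨p', hp'⟩ := (exists_factor_openSub_iff Ω q).2 hqΩ
  have hp'e : RepWith @Etale p' := by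
    apply repWith_of_comp_mono p' (openSubι F Ω)
    rw [hp']; exact hqe
  have key : ∀ (T : Over S) (a : (yon S).obj T ⟶ openSub F Ω),
      Function.Surjective (hp'e.rep.snd a).left ∧ QuasiCompact (hp'e.rep.snd a).left := by
    intro T a
    have sq := hp'e.rep.isPullback a
    obtain ⟨c, hc⟩ := (yon S).map_surjective (hp'e.rep.fst a)
    rw [← hc] at sq
    have sq' : IsPullback ((yon S).map c) ((yon S).map (hp'e.rep.snd a)) q (a ≫ openSubι F Ω) := by
      have := isPullback_comp_mono (openSubι F Ω) sq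
      rwa [hp'] at this
    have hpts : ∀ t : ↥T.left, ∃ r : ↥(hp'e.rep.pullback a).left, (hp'e.rep.snd a).left r = t := by
      intro t
      have h1 : Points.ofPt (a ≫ openSubι F Ω) t ∈ Ω :=
        (exists_factor_openSub_iff Ω _).1 ⟨a, rfl⟩ t
      obtain ⟨u, hu, hut⟩ := (hΩmem _).1 h1
      have hu' : u ∈ Set.range W.ι := by rw [Scheme.Opens.range_ι]; exact hu
      obtain ⟨w, rfl⟩ := hu'
      obtain ⟨r, -, hr⟩ := exists_point_of_isPullback_yon_yon sq' w t (by rw [hqpt, hut])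
      exact ⟨r, hr⟩
    have hTV : ∀ t : ↥T.left, T.hom t ∈ V := by
      intro t
      obtain ⟨r, rfl⟩ := hpts t
      have e1 : (hp'e.rep.snd a).left ≫ T.hom = c.left ≫ W.ι ≫ U.hom := by
        rw [Over.w]
        exact (Over.w c).symm
      have h3 : ((hp'e.rep.snd a).left ≫ T.hom) r = (c.left ≫ W.ι ≫ U.hom) r := by
        rw [e1]
      simp only [Scheme.Hom.comp_apply] at h3
      rw [h3]
      exact hWV _ (hιW _)
    refine ⟨fun t => hpts t, ?_⟩
    obtain ⟨jj, hj1, hj2, hjq⟩ := DiagLift.exists_lift_prop (Pr := @QuasiCompact) hqs q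
      (a ≫ openSubι F Ω) c (hp'e.rep.snd a) sq'
    haveI : IsAffine (overOpen U W).left := hW
    have hD : QuasiCompact (pullback.snd (overOpen U W).hom T.hom) :=
      quasiCompact_pullback_snd_of_affine (overOpen U W).hom T.hom V hV
        (fun w => by
          show (W.ι ≫ U.hom) w ∈ V
          rw [Scheme.Hom.comp_apply]
          exact hWV _ (hιW w)) hTV
    rw [← hj2]
    infer_instance
  refine ⟨p', ?_, hp'e, ?_⟩
  · exact MorphismProperty.relative_of_snd hp'e.rep (fun T a => (key T a).2)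
  · exact MorphismProperty.relative_of_snd hp'e.rep (fun T a => ⟨(key T a).1⟩)

/-- (1) if and only if (3): for an algebraic space X over a scheme S, X is Zariski locally
quasi-separated over S (it has a Zariski covering by open subspaces whose diagonals over S are
quasi-compact) if and only if X has a Zariski covering by open subspaces each of which admits a
quasi-compact, etale, surjective map from an affine scheme. Since the second condition does not
mention S, being Zariski locally quasi-separated does not depend on the base. -/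
theorem result {S : Scheme.{u}} (X : AlgSp.Space S) :
    (∃ (ι : Type u) (Xi : ι → AlgSp.Space S) (j : ∀ i, Xi i ⟶ X),
        AlgSp.IsZarCover (fun i => (Xi i).obj) (fun i => (j i).hom) ∧ ∀ i, AlgSp.IsQuasiSeparatedSp (Xi i).obj) ↔
      (∃ (ι : Type u) (Xi : ι → AlgSp.Space S) (j : ∀ i, Xi i ⟶ X),
        AlgSp.IsZarCover (fun i => (Xi i).obj) (fun i => (j i).hom) ∧
          ∀ i, ∃ (U : Over S) (p : (AlgSp.yon S).obj U ⟶ (Xi i).obj), IsAffine U.left ∧
            AlgSp.RepWith @QuasiCompact p ∧ AlgSp.RepWith @Etale p ∧ AlgSp.RepWith @Surjective p) := by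
  constructor
  · rintro ⟨ι, Xi, j, ⟨hP, hsurj⟩, hqs⟩
    have hatlas : ∀ i, ∃ (U : Over S) (p : (AlgSp.yon S).obj U ⟶ (Xi i).obj),
        AlgSp.RepWith @Etale p ∧ AlgSp.RepWith @Surjective p := fun i => (Xi i).property.atlas
    choose U p hpe hps using hatlas
    obtain ⟨Ω, hΩdef⟩ : ∃ Ω : ∀ (i : ι) (W : (U i).left.Opens), Set (AlgSp.Points (Xi i).obj),
        ∀ i W, Ω i W = AlgSp.Points.ofPt (p i) '' (W : Set ↥(U i).left) := ⟨_, fun _ _ => rfl⟩
    have hΩo : ∀ i W, IsOpen (Ω i W) := by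
      intro i W
      rw [hΩdef]
      exact isOpenMap_ofPt_of_etale (p i) (hpe i) _ W.isOpen
    refine ⟨Σ i : ι, {W : (U i).left.Opens // IsAffineOpen W ∧ ∃ V : S.Opens, IsAffineOpen V ∧
        ∀ w : ↥(U i).left, w ∈ W → (U i).hom w ∈ V},
      fun k => ⟨openSub (Xi k.1).obj (Ω k.1 k.2.1),
        isAlgSpace_openSub (Xi k.1).property _ (hΩo k.1 k.2.1)⟩,
      fun k => ObjectProperty.homMk (openSubι (Xi k.1).obj (Ω k.1 k.2.1) ≫ (j k.1).hom),
      ⟨?_, ?_⟩, ?_⟩
    · intro k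
      exact (AlgSp.RepWith @IsOpenImmersion).comp_mem _ _
        (repWith_isOpenImmersion_openSubι _ (hΩo k.1 k.2.1)) (hP k.1)
    · intro x
      obtain ⟨i, y, rfl⟩ := hsurj x
      obtain ⟨u0, rfl⟩ := ofPt_surjective_of_surjective (p i) (hps i) y
      obtain ⟨V, hV, hu0V, -⟩ := (TopologicalSpace.Opens.isBasis_iff_nbhd.mp S.isBasis_affineOpens)
        (show (U i).hom u0 ∈ (⊤ : S.Opens) from trivial)
      obtain ⟨W, hW, hu0W, hWV⟩ :=
        (TopologicalSpace.Opens.isBasis_iff_nbhd.mp (U i).left.isBasis_affineOpens)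
        (show u0 ∈ (U i).hom ⁻¹ᵁ V from hu0V)
      refine ⟨⟨i, ⟨W, hW, V, hV, fun w hw => hWV hw⟩⟩, ?_⟩
      obtain ⟨z, hz⟩ : AlgSp.Points.ofPt (p i) u0 ∈
          Set.range (AlgSp.Points.map (openSubι (Xi i).obj (Ω i W))) := by
        rw [range_map_openSubι, hΩdef]
        exact ⟨u0, hu0W, rfl⟩
      refine ⟨z, ?_⟩
      show AlgSp.Points.map (openSubι (Xi i).obj (Ω i W) ≫ (j i).hom) z = _
      rw [AlgSp.Points.map_comp, hz]
    · rintro ⟨i, W, hW, V, hV, hWV⟩
      obtain ⟨p', h1, h2, h3⟩ := chart_of_affine_open (hqs i) (p i) (hpe i) W hW V hV hWV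
        (Ω i W) (hΩdef i W)
      exact ⟨overOpen (U i) W, p', hW, h1, h2, h3⟩
  · rintro ⟨ι, Xi, j, hcov, hch⟩
    refine ⟨ι, Xi, j, hcov, fun i => ?_⟩
    obtain ⟨U, p, hU, hqc, het, hsj⟩ := hch i
    have sq := het.rep.isPullback p
    obtain ⟨c, hc⟩ := (AlgSp.yon S).map_surjective (het.rep.fst p)
    rw [← hc] at sq
    haveI : IsAffine U.left := hU
    haveI : QuasiCompact (het.rep.snd p).left :=
      ((AlgSp.repWith_iff _ _).1 hqc).2 p ((AlgSp.yon S).map c) (het.rep.snd p) sq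
    exact Groth.Agent.S10182.result (Xi i) p het hsj c (het.rep.snd p) sq.flip

end Groth.Agent.S10198
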