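import Groth.Statements.S10199
import Mathlib
import Groth.Agent.S10338
import Groth.Agent.S10339
import Groth.Agent.S10350
import Groth.Agent.Lib.Helper15.MonoInj
import Groth.Agent.Lib.Helper16.ThickOpen

set_option autoImplicit false
universe u
open CategoryTheory CategoryTheory.Limits AlgebraicGeometry Topology TopologicalSpace
open AlgSp

namespace Groth.Agent.S10199

/-- Let X be an algebraic space over a scheme S that is Zariski locally quasi-separated over S (X has a
Zariski covering by open subspaces whose diagonals over S are quasi-compact; for instance X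
quasi-separated over S). Then |X| is a sober topological space. (Being Zariski locally
quasi-separated over S is the same as the absolute notion, so no hypothesis on S is needed.) -/
theorem result {S : Scheme.{u}} (X : AlgSp.Space S)
    (hX : ∃ (ι : Type u) (Xi : ι → AlgSp.Space S) (j : ∀ i, Xi i ⟶ X),
        AlgSp.IsZarCover (fun i => (Xi i).obj) (fun i => (j i).hom) ∧ ∀ i, AlgSp.IsQuasiSeparatedSp (Xi i).obj) :
    QuasiSober (AlgSp.Points X.obj) ∧ T0Space (AlgSp.Points X.obj) := by
  obtain ⟨ι, Xi, j, ⟨hP, hsurj⟩, hqs⟩ := hX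
  have hdec : ∀ i, AlgSp.IsDecent (Xi i).obj := fun i => Groth.Agent.S10350.result (Xi i) (hqs i)
  have hQS : ∀ i, QuasiSober (AlgSp.Points (Xi i).obj) :=
    fun i => Groth.Agent.S10339.result (Xi i) (hdec i)
  have hT0 : ∀ i, T0Space (AlgSp.Points (Xi i).obj) :=
    fun i => Groth.Agent.S10338.result (Xi i) (hdec i)
  have hemb : ∀ i, Topology.IsOpenEmbedding (AlgSp.Points.map (j i).hom) := by
    intro i
    haveI := Groth.Agent.Lib.Helper15.mono_of_repWith_isOpenImmersion (j i).hom (hP i)
    exact Topology.IsOpenEmbedding.of_continuous_injective_isOpenMap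
      (AlgSp.Points.continuous_map _)
      (Groth.Agent.Lib.Helper15.points_map_injective_of_mono _)
      (Groth.Agent.Lib.Helper16.Thick.isOpenMap_points_of_openImmersion X.property _ (hP i))
  refine ⟨?_, ?_⟩
  · haveI : ∀ s : (Set.range fun i => Set.range (AlgSp.Points.map (j i).hom)), QuasiSober s := by
      rintro ⟨s, i, rfl⟩
      haveI := hQS i
      exact ((hemb i).isEmbedding.toHomeomorph).symm.isOpenEmbedding.quasiSober
    refine quasiSober_of_open_cover (Set.range fun i => Set.range (AlgSp.Points.map (j i).hom)) ?_ ?_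
    · rintro ⟨s, i, rfl⟩
      exact (hemb i).isOpen_range
    · rw [Set.top_eq_univ, Set.eq_univ_iff_forall]
      intro x
      obtain ⟨i, hi⟩ := hsurj x
      exact ⟨_, ⟨i, rfl⟩, hi⟩
  · rw [t0Space_iff_inseparable]
    intro x y hxy
    obtain ⟨i, a, rfl⟩ := hsurj x
    have hy : y ∈ Set.range (AlgSp.Points.map (j i).hom) :=
      (hxy.mem_open_iff (hemb i).isOpen_range).1 ⟨a, rfl⟩
    obtain ⟨b, rfl⟩ := hy
    haveI := hT0 i
    rw [(hemb i).isInducing.inseparable_iff] at hxy
    rw [hxy.eq]

end Groth.Agent.S10199
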