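import Groth.Statements.S10200
import Groth.Agent.Lib.Helper16.SchLocusQs

set_option autoImplicit false
universe u
open CategoryTheory CategoryTheory.Limits AlgebraicGeometry Topology TopologicalSpace
open AlgSp

namespace Groth.Agent.S10200

open Groth.Agent.Lib.Helper16 Groth.Agent.Lib.Helper15


/-- Let X be an algebraic space over a scheme S that is Zariski locally quasi-separated over S (for
example quasi-separated over S). Then there is a dense open subspace of X which is a scheme; more
precisely there is an open subspace X' ⟶ X with representable underlying sheaf such that |X'| is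
dense in |X| and contains every codimension 0 point of X (every point under which some etale chart
has a zero-dimensional local ring). -/
theorem result {S : Scheme.{u}} (X : AlgSp.Space S)
    (hX : ∃ (ι : Type u) (Xi : ι → AlgSp.Space S) (j : ∀ i, Xi i ⟶ X),
        AlgSp.IsZarCover (fun i => (Xi i).obj) (fun i => (j i).hom) ∧ ∀ i, AlgSp.IsQuasiSeparatedSp (Xi i).obj) :
    ∃ (X' : AlgSp.Space S) (j : X' ⟶ X), AlgSp.RepWith @IsOpenImmersion j.hom ∧ X'.obj.obj.IsRepresentable ∧
      Dense (Set.range (AlgSp.Points.map j.hom)) ∧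
      ∀ x : AlgSp.Points X.obj, AlgSp.HasAt (fun U u => ringKrullDim ↥(U.presheaf.stalk u) = 0) X.obj x →
        x ∈ Set.range (AlgSp.Points.map j.hom) := by
  obtain ⟨ι, Xi, j, ⟨hjo, hcov⟩, hqs⟩ := hX
  apply SchLocus.exists_dense_open_subscheme X
  intro x hx
  obtain ⟨i, xi, rfl⟩ := hcov x
  have hxi : HasAt (fun U u => ringKrullDim ↥(U.presheaf.stalk u) = 0) (Xi i).obj xi := by
    obtain ⟨U, a, hae, has⟩ := (Xi i).property.atlas
    obtain ⟨u, hu⟩ := ofPt_surjective_of_surjective a has xi
    have hae' : RepWith @Etale (a ≫ (j i).hom) :=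
      (RepWith @Etale).comp_mem _ _ hae (repWith_mono SchLocus.isOpenImmersion_le_etale _ (hjo i))
    have hdim := SchLocus.codim_zero_of_hasAt hx (a ≫ (j i).hom) hae' u (by rw [← Points.map_ofPt, hu])
    exact ⟨U, a, u, hae, hu, hdim⟩
  exact SchLocus.map_mem_schLocus (j i).hom (hjo i)
    (SchLocus.mem_schLocus_of_hasAt_of_quasiSeparated (Xi i).property (hqs i) hxi)

end Groth.Agent.S10200
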