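import Groth.Statements.S10201
import Mathlib
import Groth.Agent.S10338
import Groth.Agent.S10339
import Groth.Agent.S10350
import Groth.Agent.Lib.Helper16.QuasiCompact
import Groth.Agent.Lib.Helper16.QsField
import Groth.Agent.Lib.Helper16.Charts

set_option autoImplicit false
universe u
open CategoryTheory CategoryTheory.Limits AlgebraicGeometry Topology TopologicalSpace
open AlgSp

namespace Groth.Agent.S10201
open Groth.Agent.Lib.Helper16

/-- Let S be a quasi-separated scheme and X a quasi-compact algebraic space over S whose diagonal over S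
is quasi-compact. Then |X| is a spectral space. (The published statement assumes X quasi-separated
in the absolute sense; over a quasi-separated base that is the same as quasi-separated over S, while
for S quasi-compact and not quasi-separated the space h_S is quasi-compact with quasi-compact
diagonal over S and |h_S| = |S| is not spectral.) -/
theorem result {S : Scheme.{u}} [QuasiSeparatedSpace ↥S]
    (X : AlgSp.Space S) (hqc : AlgSp.IsQuasiCompactSp X.obj) (hqs : AlgSp.IsQuasiSeparatedSp X.obj) :
    SpectralSpace (AlgSp.Points X.obj) := by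
  haveI hcs : CompactSpace (Points X.obj) := compactSpace_points_of_isQuasiCompactSp hqc
  have hdec := Groth.Agent.S10350.result X hqs
  haveI : QuasiSober (Points X.obj) := Groth.Agent.S10339.result X hdec
  haveI : T0Space (Points X.obj) := Groth.Agent.S10338.result X hdec
  obtain ⟨U, p, hpe, hps, hU⟩ := hqc
  haveI : CompactSpace ↥U.left := hU
  have hπc : Continuous (Points.ofPt p) := Points.continuous_ofPt p
  have hπo : IsOpenMap (Points.ofPt p) := isOpenMap_ofPt_of_etale p hpe
  have hπs : Function.Surjective (Points.ofPt p) := ofPt_surjective_of_surjective p hps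
  have key : ∀ (A K : U.left.Opens), IsAffineOpen A → IsCompact (K : Set ↥U.left) →
      IsCompact ((A : Set ↥U.left) ∩ Points.ofPt p ⁻¹' (Points.ofPt p '' (K : Set ↥U.left))) := by
    intro A K hA hK
    haveI : CompactSpace ↥(overOpen U K).left := isCompact_iff_compactSpace.mp hK
    haveI : CompactSpace ↥(overOpen U A).left := isCompact_iff_compactSpace.mp hA.isCompact
    have hAq : QuasiCompact (overOpen U A).hom := inferInstance
    have hae := repWith_etale_restrict p hpe A
    obtain ⟨a, ha⟩ : ∃ a, a = (yon S).map (overOpenι U A) ≫ p := ⟨_, rfl⟩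
    obtain ⟨b, hb⟩ : ∃ b, b = (yon S).map (overOpenι U K) ≫ p := ⟨_, rfl⟩
    have hA' : ∀ w, Points.ofPt a w = Points.ofPt p (A.ι w) := by
      intro w; rw [ha]; exact ofPt_restrict p A w
    have hB' : ∀ w, Points.ofPt b w = Points.ofPt p (K.ι w) := by
      intro w; rw [hb]; exact ofPt_restrict p K w
    rw [← ha] at hae
    have sq := hae.rep.isPullback b
    obtain ⟨c, hc⟩ := (yon S).map_surjective (hae.rep.fst b)
    rw [← hc] at sq
    haveI : CompactSpace ↥(hae.rep.pullback b).left :=
      compactSpace_of_isPullback_of_quasiCompact_diag hqs a b c (hae.rep.snd b) sq hAq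
    have hrange : (A : Set ↥U.left) ∩ Points.ofPt p ⁻¹' (Points.ofPt p '' (K : Set ↥U.left)) =
        Set.range (fun r : ↥(hae.rep.pullback b).left => A.ι (c.left r)) := by
      ext u
      constructor
      · rintro ⟨huA, k, hkK, hk⟩
        have h1 : u ∈ Set.range A.ι := by rw [Scheme.Opens.range_ι]; exact huA
        have h2 : k ∈ Set.range K.ι := by rw [Scheme.Opens.range_ι]; exact hkK
        obtain ⟨w, rfl⟩ := h1
        obtain ⟨w', rfl⟩ := h2
        have h3 : Points.ofPt a w = Points.ofPt b w' := by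
          rw [hA', hB']
          exact hk.symm
        obtain ⟨r, hr1, hr2⟩ := exists_point_of_isPullback_yon_yon sq w w' h3
        exact ⟨r, by show A.ι (c.left r) = A.ι w; rw [hr1]⟩
      · rintro ⟨r, rfl⟩
        refine ⟨?_, K.ι ((hae.rep.snd b).left r), ?_, ?_⟩
        · show A.ι (c.left r) ∈ (A : Set ↥U.left)
          rw [← Scheme.Opens.range_ι A]; exact ⟨_, rfl⟩
        · show K.ι ((hae.rep.snd b).left r) ∈ (K : Set ↥U.left)
          rw [← Scheme.Opens.range_ι K]; exact ⟨_, rfl⟩
        · rw [← hA', ← hB', ← ofPt_yon_map_comp, ← ofPt_yon_map_comp, sq.w]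
    rw [hrange]
    exact isCompact_range (A.ι.continuous.comp c.left.continuous)
  haveI hpre : PrespectralSpace (Points X.obj) := by
    refine PrespectralSpace.of_isTopologicalBasis (B := {W | ∃ V : U.left.Opens,
      IsCompact (V : Set ↥U.left) ∧ Points.ofPt p '' (V : Set ↥U.left) = W}) ?_ ?_
    · apply isTopologicalBasis_of_isOpen_of_nhds
      · rintro W ⟨V, -, rfl⟩
        exact hπo _ V.isOpen
      · intro x W hxW hWo
        obtain ⟨u, rfl⟩ := hπs x
        obtain ⟨V, ⟨hVo, hVc⟩, huV, hVW⟩ :=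
          (PrespectralSpace.isTopologicalBasis (X := ↥U.left)).exists_subset_of_mem_open
            (show u ∈ Points.ofPt p ⁻¹' W from hxW) (hWo.preimage hπc)
        refine ⟨_, ⟨⟨V, hVo⟩, hVc, rfl⟩, ⟨u, huV, rfl⟩, ?_⟩
        rintro _ ⟨v, hv, rfl⟩
        exact hVW hv
    · rintro W ⟨V, hV, rfl⟩
      exact hV.image hπc
  haveI hqsp : QuasiSeparatedSpace (Points X.obj) := by
    have hex : ∀ v : ↥U.left, ∃ W : U.left.Opens, IsAffineOpen W ∧ v ∈ W := by
      intro v
      obtain ⟨W, hW, hv, -⟩ := (TopologicalSpace.Opens.isBasis_iff_nbhd.mp U.left.isBasis_affineOpens)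
        (show v ∈ (⊤ : U.left.Opens) from trivial)
      exact ⟨W, hW, hv⟩
    choose Aff hAff hvAff using hex
    obtain ⟨t, ht⟩ := isCompact_univ.elim_finite_subcover (fun v => (Aff v : Set ↥U.left))
      (fun v => (Aff v).isOpen) (fun v _ => Set.mem_iUnion.2 ⟨v, hvAff v⟩)
    have hC : ∀ (Wc : Set (Points X.obj)), IsOpen Wc → IsCompact Wc → ∀ v,
        IsCompact ((Aff v : Set ↥U.left) ∩ Points.ofPt p ⁻¹' Wc) := by
      intro Wc hWo hWc v
      obtain ⟨V, hVc, hVW⟩ := IsOpenMap.exists_opens_image_eq_of_prespectralSpace hπc hπo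
        (fun x _ => hπs x) hWo hWc
      rw [← hVW]
      exact key (Aff v) V (hAff v) hVc
    refine ⟨fun W₁ W₂ hW₁o hW₁c hW₂o hW₂c => ?_⟩
    have hunion : W₁ ∩ W₂ = ⋃ v ∈ t, Points.ofPt p ''
        (((Aff v : Set ↥U.left) ∩ Points.ofPt p ⁻¹' W₁) ∩
          ((Aff v : Set ↥U.left) ∩ Points.ofPt p ⁻¹' W₂)) := by
      ext x
      constructor
      · rintro ⟨hx1, hx2⟩
        obtain ⟨u, rfl⟩ := hπs x
        obtain ⟨v, hv⟩ := Set.mem_iUnion.1 (ht (Set.mem_univ u))
        obtain ⟨hvt, huv⟩ := Set.mem_iUnion.1 hv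
        exact Set.mem_iUnion₂.2 ⟨v, hvt, u, ⟨⟨huv, hx1⟩, ⟨huv, hx2⟩⟩, rfl⟩
      · intro hx
        obtain ⟨v, hvt, u, ⟨⟨-, h1⟩, ⟨-, h2⟩⟩, rfl⟩ := Set.mem_iUnion₂.1 hx
        exact ⟨h1, h2⟩
    rw [hunion]
    refine t.isCompact_biUnion fun v _ => IsCompact.image ?_ hπc
    exact (hAff v).isQuasiSeparated _ _ Set.inter_subset_left
      ((Aff v).isOpen.inter (hW₁o.preimage hπc)) (hC W₁ hW₁o hW₁c v) Set.inter_subset_left
      ((Aff v).isOpen.inter (hW₂o.preimage hπc)) (hC W₂ hW₂o hW₂c v)
  exact { toT0Space := inferInstance, toCompactSpace := inferInstance, toQuasiSober := inferInstance,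
          toQuasiSeparatedSpace := inferInstance, toPrespectralSpace := inferInstance }

end Groth.Agent.S10201
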