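import Groth.Statements.S10202
import Groth.Agent.Lib.Helper16.Charts
import Mathlib.AlgebraicGeometry.Noetherian

set_option autoImplicit false
universe u
open CategoryTheory CategoryTheory.Limits AlgebraicGeometry Topology TopologicalSpace
open AlgSp

namespace Groth.Agent.S10202

/-- If X is a locally Noetherian algebraic space over a scheme S, then the space |X| is locally
Noetherian: every point of |X| has an open neighbourhood which is a Noetherian topological space in
the induced topology. -/
theorem result {S : Scheme.{u}} (X : AlgSp.Space S)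
    (hX : AlgSp.IsLocNoethSp X.obj) (x : AlgSp.Points X.obj) :
    ∃ W : Set (AlgSp.Points X.obj), IsOpen W ∧ x ∈ W ∧ NoetherianSpace ↥W := by
  obtain ⟨U, p, hpe, hps, hU⟩ := hX
  haveI : IsLocallyNoetherian U.left := hU
  obtain ⟨u, rfl⟩ := Groth.Agent.Lib.Helper16.ofPt_surjective_of_surjective p hps x
  obtain ⟨V, hV, huV, -⟩ := exists_isAffineOpen_mem_and_subset (x := u) (U := ⊤) trivial
  haveI : IsNoetherianRing Γ(U.left, V) := IsLocallyNoetherian.component_noetherian ⟨V, hV⟩
  have hn : NoetherianSpace ↥(V : Set ↥U.left) := noetherianSpace_of_isAffineOpen V hV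
  refine ⟨AlgSp.Points.ofPt p '' (V : Set ↥U.left),
    Groth.Agent.Lib.Helper16.isOpenMap_ofPt_of_etale p hpe _ V.isOpen, ⟨u, huV, rfl⟩, ?_⟩
  rw [Set.image_eq_range]
  exact NoetherianSpace.range _ ((AlgSp.Points.continuous_ofPt p).comp continuous_subtype_val)

end Groth.Agent.S10202
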