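import Groth.Statements.S10205
import Groth.Agent.Lib.Helper16.FieldQuot
import Groth.Agent.Lib.Helper16.QsField
import Groth.Agent.Lib.Helper16.MonoDescent
open Groth.Agent.Lib.Helper16

set_option autoImplicit false
universe u
open CategoryTheory CategoryTheory.Limits AlgebraicGeometry Topology TopologicalSpace
open AlgSp

namespace Groth.Agent.S10205

/-- Let X be an algebraic space over a scheme S, k a field with a structure morphism Spec k ⟶ S, and p :
h_{Spec k} ⟶ X a surjective etale map. If the diagonal of X over S is quasi-compact, then X ≅
h_{Spec k'} for a field k' over S, where p corresponds to a finite etale morphism Spec k ⟶ Spec k'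
over S (that is, k is a finite separable extension of k'). (The published statement assumes X
quasi-separated in the absolute sense; the argument only uses that Spec k ×_X Spec k is
quasi-compact, which already follows from quasi-compactness of the diagonal over S since Spec k ×_S
Spec k is affine.) -/
theorem result {S : Scheme.{u}} (X : AlgSp.Space S)
    (hX : AlgSp.IsQuasiSeparatedSp X.obj) (k : Type u) [Field k] (str : Spec (CommRingCat.of k) ⟶ S)
    (p : (AlgSp.yon S).obj (Over.mk str) ⟶ X.obj) (hp : AlgSp.RepWith @Etale p) (hs : AlgSp.RepWith @Surjective p) :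
    ∃ (k' : Type u) (_ : Field k') (str' : Spec (CommRingCat.of k') ⟶ S)
      (e : (AlgSp.yon S).obj (Over.mk str') ≅ X.obj) (c : Over.mk str ⟶ Over.mk str'),
      (AlgSp.yon S).map c ≫ e.hom = p ∧ IsFinite c.left ∧ Etale c.left := by
  obtain ⟨F, snd, fst, sq⟩ := hp.rep p
  have hsnd : Etale snd.left := hp.property _ _ _ sq
  obtain ⟨fst', rfl⟩ := (yon S).map_surjective fst
  have hstrq : QuasiCompact (Over.mk str).hom := quasiCompact_of_field_source str
  have hcB : CompactSpace ↥(Over.mk str).left := inferInstanceAs (CompactSpace ↥(Spec (CommRingCat.of k)))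
  have hc : CompactSpace ↥F.left :=
    compactSpace_of_isPullback_of_quasiCompact_diag hX p p fst' snd sq hstrq
  obtain ⟨k', _, str', c, p', hmono, hp', hfin, hflat, hsurj⟩ :=
    exists_mono_desc_of_lqf_kernelPair k str p snd fst' sq.flip (locallyQuasiFinite_of_etale snd.left) hc
  have hepi : Epi p := epi_of_etale_surjective p hp hs
  have hepi' : Epi p' := by
    rw [← hp'] at hepi
    exact epi_of_epi ((yon S).map c) p'
  have hiso : IsIso p' := isIso_of_mono_of_epi p'
  refine ⟨k', inferInstance, str', asIso p', c, hp', hfin, ?_⟩
  have h : (yon S).map c = p ≫ inv p' := by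
    rw [← hp', Category.assoc, IsIso.hom_inv_id, Category.comp_id]
  have h2 : RepWith @Etale ((yon S).map c) := by
    rw [h]
    exact MorphismProperty.RespectsIso.postcomp _ _ _ hp
  exact (repWith_yon_map_iff _ _).1 h2

end Groth.Agent.S10205
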