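import Groth.Statements.S10349
import Groth.Agent.Lib.Helper16.MonoPt
import Groth.Agent.Lib.Helper16.MonoDescent
import Groth.Agent.Lib.Helper16.SchemeTop
import Groth.Agent.Lib.Helper16.Points
import Mathlib.AlgebraicGeometry.Morphisms.QuasiFinite
open Groth.Agent.Lib.Helper16

set_option autoImplicit false
universe u
open CategoryTheory CategoryTheory.Limits AlgebraicGeometry Topology TopologicalSpace
open AlgSp

namespace Groth.Agent.S10349

/-- Let S be a scheme, X a decent algebraic space over S, k a field over S and p : h_{Spec k} ⟶ X a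
surjective etale map. Then X ≅ h_{Spec k'} for a field k' over S, and p corresponds to a finite
etale morphism Spec k ⟶ Spec k' over S, so that k is a finite separable extension of k'. -/
theorem result {S : Scheme.{u}} (X : AlgSp.Space S)
    (hX : AlgSp.IsDecent X.obj) (k : Type u) [Field k] (str : Spec (CommRingCat.of k) ⟶ S)
    (p : (AlgSp.yon S).obj (Over.mk str) ⟶ X.obj) (hp : AlgSp.RepWith @Etale p) (hs : AlgSp.RepWith @Surjective p) :
    ∃ (k' : Type u) (_ : Field k') (str' : Spec (CommRingCat.of k') ⟶ S)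
      (e : (AlgSp.yon S).obj (Over.mk str') ≅ X.obj) (c : Over.mk str ⟶ Over.mk str'),
      (AlgSp.yon S).map c ≫ e.hom = p ∧ IsFinite c.left ∧ Etale c.left := by
  obtain ⟨r, hr, hm, hq⟩ := hX (AlgSp.Points.ofPt p (IsLocalRing.closedPoint k))
  have hrel : AlgSp.FieldPt.Rel (fieldPtOfHom k str p) r := by
    have h1 := AlgSp.Points.ofPt_toHom (fieldPtOfHom k str p) (IsLocalRing.closedPoint k)
    rw [fieldPtOfHom_toHom] at h1
    exact AlgSp.Points.mk_eq_mk_iff.1 (h1.symm.trans hr.symm)
  obtain ⟨c, hc⟩ := exists_factor_of_rel_of_mono r (fieldPtOfHom k str p) hm hq.rep hrel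
  rw [fieldPtOfHom_toHom] at hc
  have hepi : Epi p := epi_of_etale_surjective p hp hs
  have hepi' : Epi ((AlgSp.yon S).map c ≫ r.toHom) := hc ▸ hepi
  have hepir : Epi r.toHom := epi_of_epi ((AlgSp.yon S).map c) r.toHom
  have hiso : IsIso r.toHom := isIso_of_mono_of_epi _
  have hce : AlgSp.RepWith @Etale ((AlgSp.yon S).map c) := by
    have h1 : AlgSp.RepWith @Etale (p ≫ inv r.toHom) :=
      MorphismProperty.RespectsIso.postcomp _ (inv r.toHom) p hp
    have h2 : p ≫ inv r.toHom = (AlgSp.yon S).map c := (IsIso.comp_inv_eq r.toHom).2 hc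
    rwa [h2] at h1
  have hcet : Etale c.left := (AlgSp.repWith_yon_map_iff _ c).1 hce
  refine ⟨r.K, r.field, r.str, asIso r.toHom, c, hc.symm, ?_, hcet⟩
  have h1 : LocallyQuasiFinite c.left := locallyQuasiFinite_of_etale _
  have h2 : QuasiCompact c.left := by
    have : IsAffine (AlgSp.FieldPt.pt r).left := inferInstanceAs (IsAffine (Spec (.of r.K)))
    have : CompactSpace ↥(AlgSp.FieldPt.pt (fieldPtOfHom k str p)).left :=
      inferInstanceAs (CompactSpace ↥(Spec (.of k)))
    exact HasAffineProperty.iff_of_isAffine.mpr (by infer_instance)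
  have h3 : IsLocallyArtinian (AlgSp.FieldPt.pt r).left := by
    change IsLocallyArtinian (Spec (.of r.K))
    exact IsLocallyArtinian.of_isLocallyNoetherian_of_discreteTopology
  exact IsFinite.of_locallyQuasiFinite c.left

end Groth.Agent.S10349
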