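import Groth.Statements.S10206
import Groth.Agent.S10349
import Groth.Agent.S10351
import Groth.Agent.S10352
import Groth.Agent.Lib.Helper15.FieldChart
import Groth.Agent.Lib.Helper15.DiscreteRep
import Groth.Agent.Lib.Helper16.Decent
import Groth.Agent.Lib.Helper16.LqfFibres
import Groth.Agent.Lib.Helper16.SchemeTop

set_option autoImplicit false
universe u
open CategoryTheory CategoryTheory.Limits AlgebraicGeometry Topology TopologicalSpace
open AlgSp

namespace Groth.Agent.S10206
open CategoryTheory CategoryTheory.Limits AlgebraicGeometry Groth.Agent.Lib.Helper15 Groth.Agent.Lib.Helper16 Groth.Agent.Lib.Helper16.SpCoprod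

/-- Let X be an algebraic space over a scheme S and X ⟶ h_{Spec k} an etale morphism of algebraic spaces
over S, where k is a field and Spec k is given a structure morphism to S. Then X is a scheme (its
underlying sheaf is representable by a scheme over S). -/
theorem result {S : Scheme.{u}} (X : AlgSp.Space S)
    (k : Type u) [Field k] (str : Spec (CommRingCat.of k) ⟶ S)
    (f : X.obj ⟶ (AlgSp.yon S).obj (Over.mk str)) (hf : AlgSp.IsEtaleMor f) :
    X.obj.obj.IsRepresentable := by
  classical
  have hdecY : AlgSp.IsDecent ((AlgSp.yon S).obj (Over.mk str)) := isDecent_yon _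
  have hXdec : AlgSp.IsDecent X.obj :=
    Groth.Agent.S10352.result (X := X)
      (Y := ⟨(AlgSp.yon S).obj (Over.mk str), AlgSp.IsAlgSpace.yon_obj _⟩)
      (ObjectProperty.homMk f) hf hdecY
  obtain ⟨U, p, hpe, hps⟩ := X.property.atlas
  obtain ⟨m, hm⟩ := (AlgSp.yon S).map_surjective (p ≫ f)
  have hme : Etale m.left := by
    have h1 : AlgSp.RepWith @Etale (p ≫ f) := hf p hpe
    rw [← hm] at h1
    exact (AlgSp.repWith_yon_map_iff _ m).1 h1
  obtain ⟨m', hm'⟩ : ∃ m' : U.left ⟶ Spec (CommRingCat.of k), m' = m.left := ⟨_, rfl⟩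
  haveI : Etale m' := hm' ▸ hme
  haveI : LocallyQuasiFinite m' := locallyQuasiFinite_of_etale _
  haveI : DiscreteTopology ↥U.left := DimZero.discreteTopology_of_lqf_over_field (k := k) m'
  haveI : DiscreteTopology (AlgSp.Points X.obj) := DimZero.discreteTopology_points_of_atlas p hpe hps
  have hsurj := ofPt_surjective_of_surjective p hps
  haveI : Small.{u} (AlgSp.Points X.obj) := small_of_surjective hsurj
  have hpoint : ∀ x : AlgSp.Points X.obj, ∃ (W : Over S),
      Nonempty ((AlgSp.yon S).obj W ≅ openSub X.obj {x}) := by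
    intro x
    obtain ⟨u, rfl⟩ := hsurj x
    obtain ⟨k', hk', i, hi, hrange⟩ :=
      exists_field_chart_of_isOpen_singleton m' u (isOpen_discrete _)
    have hΩ : ∀ x', x' ∈ ({AlgSp.Points.ofPt p u} : Set (AlgSp.Points X.obj)) ↔
        ∃ v : ↥(Spec (CommRingCat.of k')), AlgSp.Points.ofPt p (i v) = x' := by
      intro x'
      have hne : Nonempty ↥(Spec (CommRingCat.of k')) := inferInstance
      obtain ⟨v0⟩ := hne
      have hiv : ∀ v, i v = u := by
        intro v
        have : i v ∈ Set.range i := ⟨v, rfl⟩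
        rw [hrange] at this
        exact this
      constructor
      · intro hx'
        exact ⟨v0, by rw [hiv]; exact hx'.symm⟩
      · rintro ⟨v, rfl⟩
        rw [hiv]
        rfl
    obtain ⟨p', hp'e, hp's⟩ := chart_of_openImmersion p hpe i _ hΩ
    have hopen : IsOpen ({AlgSp.Points.ofPt p u} : Set (AlgSp.Points X.obj)) := isOpen_discrete _
    have hdec : AlgSp.IsDecent (openSub X.obj {AlgSp.Points.ofPt p u}) :=
      Groth.Agent.S10351.result
        (X := ⟨openSub X.obj {AlgSp.Points.ofPt p u}, isAlgSpace_openSub X.property _ hopen⟩) (Y := X)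
        (ObjectProperty.homMk (openSubι X.obj {AlgSp.Points.ofPt p u}))
        ((AlgSp.repWith_iff _ _).1 (repWith_isOpenImmersion_openSubι _ hopen)).1 hXdec
    obtain ⟨k'', hk'', str', e, c, -, -, -⟩ := Groth.Agent.S10349.result
      ⟨openSub X.obj {AlgSp.Points.ofPt p u}, isAlgSpace_openSub X.property _ hopen⟩ hdec k'
      (i ≫ U.hom) p' hp'e hp's
    exact ⟨Over.mk str', ⟨e⟩⟩
  choose W e using hpoint
  obtain ⟨iso⟩ := nonempty_iso_yon_sig_of_discrete (fun x => isOpen_discrete _) W (fun x => (e x).some)
  exact (AlgSp.representableByOfIso iso).isRepresentable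

end Groth.Agent.S10206
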