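import Groth.Statements.S10212
import Groth.Agent.Lib.Helper15.SmoothLocalST
open Groth.Agent.Lib.Helper15 Groth.Agent.Lib.Helper16

set_option autoImplicit false
universe u
open CategoryTheory CategoryTheory.Limits AlgebraicGeometry Topology TopologicalSpace
open AlgSp

namespace Groth.Agent.S10212

/-- Let X be an algebraic space over a scheme S, χ : U ⟶ U' a surjective etale morphism of schemes over
S and φ' : h_{U'} ⟶ X a map such that the composite h_χ ≫ φ' : h_U ⟶ X is (representable and) etale.
Then φ' is etale. -/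
theorem result {S : Scheme.{u}} (X : AlgSp.Space S) {U U' : Over S}
    (χ : U ⟶ U') [Etale χ.left] [Surjective χ.left] (φ' : (AlgSp.yon S).obj U' ⟶ X.obj)
    (h : AlgSp.RepWith @Etale ((AlgSp.yon S).map χ ≫ φ')) :
    AlgSp.RepWith @Etale φ' := by
  have hχe : AlgSp.RepWith @Etale ((AlgSp.yon S).map χ) := (AlgSp.repWith_yon_map_iff _ _).2 inferInstance
  have hχs : AlgSp.RepWith @Surjective ((AlgSp.yon S).map χ) :=
    (AlgSp.repWith_yon_map_iff _ _).2 inferInstance
  have hid : Etale (𝟙 U : U ⟶ U).left := by
    rw [Over.id_left]; infer_instance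
  have h1 : AlgSp.LocP @Etale φ' :=
    locP_of_chart etLocalST_etale φ' ((AlgSp.yon S).map χ) ((AlgSp.yon S).map χ ≫ φ') (𝟙 U) hχe hχs h
      (by rw [(AlgSp.yon S).map_id, Category.id_comp]) hid
  exact (locP_iff_repWith etLocalST_etale (AlgSp.IsAlgSpace.yon_obj U') X.property φ'
    (X.property.representable_from_yon _)).1 h1

end Groth.Agent.S10212
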