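import Groth.Statements.S10213
import Groth.Agent.Lib.Helper16.Charts

set_option autoImplicit false
universe u
open CategoryTheory CategoryTheory.Limits AlgebraicGeometry Topology TopologicalSpace
open AlgSp

namespace Groth.Agent.S10213

/-- For an algebraic space X over a scheme S there is a surjective etale map h_U ⟶ X where U is a
disjoint union of affine schemes, each of which maps into an affine open of S. -/
theorem result {S : Scheme.{u}} (X : AlgSp.Space S) :
    ∃ (ι : Type u) (V : ι → Scheme.{u}) (_ : ∀ i, IsAffine (V i)) (q : (∐ V) ⟶ S)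
      (p : (AlgSp.yon S).obj (Over.mk q) ⟶ X.obj),
      AlgSp.RepWith @Etale p ∧ AlgSp.RepWith @Surjective p ∧
        ∀ i, ∃ W : S.Opens, IsAffineOpen W ∧ ∀ v : ↥(V i), (Sigma.ι V i ≫ q) v ∈ W := by
  obtain ⟨U, a, hae, has⟩ := X.property.atlas
  have hW : ∀ u : ↥U.left, ∃ W : S.Opens, IsAffineOpen W ∧ U.hom u ∈ W := by
    intro u
    obtain ⟨W, hW, hu, -⟩ := exists_isAffineOpen_mem_and_subset (x := U.hom u) (U := ⊤) trivial
    exact ⟨W, hW, hu⟩
  choose W hWa hWu using hW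
  have hV : ∀ u : ↥U.left, ∃ V : U.left.Opens, IsAffineOpen V ∧ u ∈ V ∧ V ≤ U.hom ⁻¹ᵁ (W u) := by
    intro u
    exact exists_isAffineOpen_mem_and_subset (x := u) (U := U.hom ⁻¹ᵁ (W u)) (hWu u)
  choose V hVa hVu hVW using hV
  haveI hVaff : ∀ u, IsAffine (V u : Scheme.{u}) := fun u => hVa u
  have hme : Etale (Sigma.desc (fun u => (V u).ι)) :=
    IsZariskiLocalAtSource.sigmaDesc (P := @Etale) (fun u => inferInstance)
  have hmem : ∀ (u : ↥U.left) (v : ↥(V u : Scheme.{u})), (V u).ι v ∈ V u := by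
    intro u v
    have : (V u).ι v ∈ Set.range (V u).ι := ⟨v, rfl⟩
    rwa [Scheme.Opens.range_ι] at this
  have hms : Surjective (Sigma.desc (fun u => (V u).ι)) := by
    constructor
    intro u
    have hu : u ∈ Set.range (V u).ι := by rw [Scheme.Opens.range_ι]; exact hVu u
    obtain ⟨v, hv⟩ := hu
    refine ⟨Sigma.ι (fun u => (V u : Scheme.{u})) u v, ?_⟩
    rw [← Scheme.Hom.comp_apply, Sigma.ι_desc]
    exact hv
  let μ : Over.mk (Sigma.desc (fun u => (V u).ι) ≫ U.hom) ⟶ U :=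
    Over.homMk (Sigma.desc (fun u => (V u).ι)) rfl
  refine ⟨↥U.left, fun u => (V u : Scheme.{u}), hVaff, Sigma.desc (fun u => (V u).ι) ≫ U.hom,
    (AlgSp.yon S).map μ ≫ a, ?_, ?_, ?_⟩
  · exact (AlgSp.RepWith @Etale).comp_mem _ _ ((AlgSp.repWith_yon_map_iff _ _).2 hme) hae
  · exact (AlgSp.RepWith @Surjective).comp_mem _ _ ((AlgSp.repWith_yon_map_iff _ _).2 hms) has
  · intro u
    refine ⟨W u, hWa u, fun v => ?_⟩
    have h1 : Sigma.ι (fun u => (V u : Scheme.{u})) u ≫ Sigma.desc (fun u => (V u).ι) ≫ U.hom =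
        (V u).ι ≫ U.hom := by rw [Sigma.ι_desc_assoc]
    rw [h1, Scheme.Hom.comp_apply]
    exact hVW u (hmem u v)

end Groth.Agent.S10213
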