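import Groth.Statements.S10214
import Groth.Agent.Lib.Helper15.OpenSubspace
import Groth.Agent.S10196
open Groth.Agent.Lib.Helper15 Groth.Agent.Lib.Helper16

set_option autoImplicit false
universe u
open CategoryTheory CategoryTheory.Limits AlgebraicGeometry Topology TopologicalSpace
open AlgSp

namespace Groth.Agent.S10214

/-- Every algebraic space X over a scheme S has a Zariski covering by open subspaces X_i such that each
X_i has a surjective etale map from an affine scheme; moreover the affine schemes may be taken to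
map into affine opens of S. -/
theorem result {S : Scheme.{u}} (X : AlgSp.Space S) :
    ∃ (ι : Type u) (Xi : ι → AlgSp.Space S) (j : ∀ i, Xi i ⟶ X),
      AlgSp.IsZarCover (fun i => (Xi i).obj) (fun i => (j i).hom) ∧
        ∀ i, ∃ (U : Over S) (p : (AlgSp.yon S).obj U ⟶ (Xi i).obj), IsAffine U.left ∧
          AlgSp.RepWith @Etale p ∧ AlgSp.RepWith @Surjective p ∧
          ∃ W : S.Opens, IsAffineOpen W ∧ ∀ v : ↥U.left, U.hom v ∈ W := by
  obtain ⟨U₀, π, hπe, hπs⟩ := X.property.atlas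
  have hex : ∀ u : ↥U₀.left, ∃ (W : S.Opens) (V : U₀.left.Opens), IsAffineOpen W ∧ IsAffineOpen V ∧
      u ∈ V ∧ ∀ v ∈ V, U₀.hom v ∈ W := by
    intro u
    obtain ⟨W, hW, huW, -⟩ := (TopologicalSpace.Opens.isBasis_iff_nbhd.mp S.isBasis_affineOpens)
      (show U₀.hom u ∈ (⊤ : S.Opens) from trivial)
    obtain ⟨V, hV, huV, hVW⟩ := (TopologicalSpace.Opens.isBasis_iff_nbhd.mp U₀.left.isBasis_affineOpens)
      (show u ∈ U₀.hom ⁻¹ᵁ W from huW)
    exact ⟨W, V, hW, hV, huV, fun v hv => hVW hv⟩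
  choose W V hW hV huV hVW using hex
  let a : ∀ u, (AlgSp.yon S).obj (overOpen U₀ (V u)) ⟶ X.obj :=
    fun u => (AlgSp.yon S).map (overOpenι U₀ (V u)) ≫ π
  have hae : ∀ u, AlgSp.RepWith @Etale (a u) := fun u => repWith_etale_restrict π hπe (V u)
  have hopen : ∀ u, IsOpen (Set.range (AlgSp.Points.ofPt (a u))) :=
    fun u => (isOpenMap_ofPt_of_etale (a u) (hae u)).isOpen_range
  let Xi : ↥U₀.left → AlgSp.Space S := fun u =>
    ⟨openSub X.obj (Set.range (AlgSp.Points.ofPt (a u))), isAlgSpace_openSub X.property _ (hopen u)⟩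
  let j : ∀ u, Xi u ⟶ X := fun u => ObjectProperty.homMk (openSubι X.obj _)
  refine ⟨↥U₀.left, Xi, j, ⟨fun u => repWith_isOpenImmersion_openSubι _ (hopen u), ?_⟩, ?_⟩
  · intro x
    obtain ⟨u, rfl⟩ := ofPt_surjective_of_surjective π hπs x
    refine ⟨u, ?_⟩
    change _ ∈ Set.range (AlgSp.Points.map (openSubι X.obj _))
    rw [range_map_openSubι]
    exact ⟨(⟨u, huV u⟩ : ↥(V u)), ofPt_restrict π (V u) _⟩
  · intro u
    obtain ⟨a', -, h1, h2, -⟩ := Groth.Agent.S10196.result (a u) (hae u) (j u)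
      (repWith_isOpenImmersion_openSubι _ (hopen u)) (range_map_openSubι _)
    refine ⟨overOpen U₀ (V u), a', hV u, h1, h2, W u, hW u, ?_⟩
    intro v
    exact hVW u ((V u).ι v) v.2

end Groth.Agent.S10214
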