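import Groth.Statements.S10227
import Groth.Agent.Lib.Helper15.AlgSpHensApps2

set_option autoImplicit false
universe u
open CategoryTheory CategoryTheory.Limits AlgebraicGeometry Topology TopologicalSpace
open AlgSp

namespace Groth.Agent.S10227

/-- (1) ⇔ (4) ⇔ (5): let X be an algebraic space over a scheme S and x ∈ |X|. The following are
equivalent: for every scheme U, every etale h_U ⟶ X and every point u of U over x, the local ring of
U at u has a unique minimal prime; for every such (U, u), the local ring of U at u is geometrically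
unibranch; for every geometric point x̄ over x, the etale local ring of X at x̄ has a unique minimal
prime. -/
theorem result {S : Scheme.{u}} (X : AlgSp.Space S) (x : AlgSp.Points X.obj) :
    ((∀ (U : Over S) (a : (AlgSp.yon S).obj U ⟶ X.obj) (u : ↥U.left),
        AlgSp.RepWith @Etale a → AlgSp.Points.ofPt a u = x → CAlgX.HasUniqueMinimalPrime ↥(U.left.presheaf.stalk u)) ↔
      (∀ (U : Over S) (a : (AlgSp.yon S).obj U ⟶ X.obj) (u : ↥U.left),
        AlgSp.RepWith @Etale a → AlgSp.Points.ofPt a u = x → CAlg2.IsGeomUnibranch ↥(U.left.presheaf.stalk u))) ∧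
    ((∀ (U : Over S) (a : (AlgSp.yon S).obj U ⟶ X.obj) (u : ↥U.left),
        AlgSp.RepWith @Etale a → AlgSp.Points.ofPt a u = x → CAlgX.HasUniqueMinimalPrime ↥(U.left.presheaf.stalk u)) ↔
      ∀ p : AlgSp.FieldPt X.obj, p.IsGeometric → AlgSp.Points.mk p = x →
        CAlgX.HasUniqueMinimalPrime ↥(AlgSp.OEtStalk p)) := by
  have h14 : (∀ (U : Over S) (a : (AlgSp.yon S).obj U ⟶ X.obj) (u : ↥U.left),
        AlgSp.RepWith @Etale a → AlgSp.Points.ofPt a u = x →
          CAlgX.HasUniqueMinimalPrime ↥(U.left.presheaf.stalk u)) ↔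
      (∀ (U : Over S) (a : (AlgSp.yon S).obj U ⟶ X.obj) (u : ↥U.left),
        AlgSp.RepWith @Etale a → AlgSp.Points.ofPt a u = x →
          CAlg2.IsGeomUnibranch ↥(U.left.presheaf.stalk u)) := by
    constructor
    · intro h1 U a u ha hu
      rw [Helper15.AlgSpHensApps.isGeomUnibranch_stalk_iff]
      intro V g v hg hgv
      obtain ⟨hc1, hc2⟩ := Helper15.AlgSpHensApps.comp_chart X a ha g hg v
      exact h1 (Over.mk (g ≫ U.hom)) _ v hc1 (hc2.trans (by rw [hgv]; exact hu))
    · intro h4 U a u ha hu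
      exact Helper15.AlgSpHensApps.hasUniqueMinimalPrime_of_isGeomUnibranch _ (h4 U a u ha hu)
  refine ⟨h14, ?_⟩
  rw [h14]
  constructor
  · intro h4 p hp hpx
    obtain ⟨U, a, u, ha, hu⟩ := Helper15.AlgSpHensApps.exists_chart X x
    exact (Helper15.AlgSpHensApps.uniqueMin_iff_geomUnibranch X p hp a ha u
      (hu.trans hpx.symm)).2 (h4 U a u ha hu)
  · intro h5 U a u ha hu
    obtain ⟨p, hp, hpx⟩ := Helper15.AlgSpHensApps.exists_geometric X x
    exact (Helper15.AlgSpHensApps.uniqueMin_iff_geomUnibranch X p hp a ha u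
      (hu.trans hpx.symm)).1 (h5 p hp hpx)

end Groth.Agent.S10227
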