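import Groth.Statements.S10228
import Groth.Agent.Lib.Helper15.CoprodPts
import Groth.Agent.Lib.Helper16.QuasiCompact
open Groth.Agent.Lib.Helper15 Groth.Agent.Lib.Helper16

set_option autoImplicit false
universe u
open CategoryTheory CategoryTheory.Limits AlgebraicGeometry Topology TopologicalSpace
open AlgSp

namespace Groth.Agent.S10228

/-- An algebraic space that is the coproduct of finitely many quasi-compact algebraic spaces is
quasi-compact: if X_i (i in a finite type) are quasi-compact algebraic spaces over a scheme S and
the underlying sheaf of the algebraic space X is a coproduct of the underlying sheaves of the X_i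
(given by a colimit cofan of fppf sheaves whose cone point is the sheaf of X), then X is
quasi-compact. -/
theorem result {S : Scheme.{u}} {ι : Type u} [Finite ι] (Xi : ι → AlgSp.Space S)
    (X : AlgSp.Space S) (c : Cofan fun i => (Xi i).obj) (hc : IsColimit c) (hX : c.pt = X.obj)
    (hqc : ∀ i, AlgSp.IsQuasiCompactSp (Xi i).obj) :
    AlgSp.IsQuasiCompactSp X.obj := by
  have hAlg : AlgSp.IsAlgSpace c.pt := by rw [hX]; exact X.property
  rw [← hX, isQuasiCompactSp_iff_compactSpace hAlg]
  constructor
  have hcov : (Set.univ : Set (AlgSp.Points c.pt)) = ⋃ i, Set.range (AlgSp.Points.map (c.inj i)) := by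
    apply Set.eq_of_subset_of_subset
    · intro x _
      obtain ⟨i, hi⟩ := exists_mem_range_inj_of_cofan c hc x
      exact Set.mem_iUnion.2 ⟨i, hi⟩
    · exact Set.subset_univ _
  rw [hcov]
  apply isCompact_iUnion
  intro i
  have : CompactSpace (AlgSp.Points (Xi i).obj) := compactSpace_points_of_isQuasiCompactSp (hqc i)
  exact isCompact_range (AlgSp.Points.continuous_map (c.inj i))

end Groth.Agent.S10228
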