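import Groth.Statements.S10230
import Groth.Agent.Lib.Helper16.QuasiCompact

set_option autoImplicit false
universe u
open CategoryTheory CategoryTheory.Limits AlgebraicGeometry Topology TopologicalSpace
open AlgSp

namespace Groth.Agent.S10230


open Groth.Agent.Lib.Helper16

theorem nonempty_of_range_subset {S : Scheme.{u}} (X : AlgSp.Space S)
    (F : AlgSp.EtSh X.obj (Type (u + 1)))
    (hF : ∀ E : AlgSp.EtOver X.obj, Subsingleton (F.obj.obj (Opposite.op E)))
    (E : AlgSp.EtOver X.obj)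
    (h : ∀ e : E.obj.left.left, ∃ (E₁ : AlgSp.EtOver X.obj) (e₁ : E₁.obj.left.left),
      Nonempty (F.obj.obj (Opposite.op E₁)) ∧
        AlgSp.Points.ofPt E₁.obj.hom e₁ = AlgSp.Points.ofPt E.obj.hom e) :
    Nonempty (F.obj.obj (Opposite.op E)) := by
  have hdata : ∀ e : E.obj.left.left, ∃ (E' : AlgSp.EtOver X.obj) (g : E' ⟶ E),
      Nonempty (F.obj.obj (Opposite.op E')) ∧ e ∈ Set.range g.hom.left.left := by
    intro e
    obtain ⟨E₁, e₁, ⟨t⟩, he⟩ := h e
    have sq := E₁.property.rep.isPullback E.obj.hom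
    have het : Etale (E₁.property.rep.snd E.obj.hom).left := E₁.property.property_snd E.obj.hom
    obtain ⟨c, hc⟩ := (AlgSp.yon S).map_surjective (E₁.property.rep.fst E.obj.hom)
    rw [← hc] at sq
    have hrepE' : AlgSp.RepWith @Etale
        ((AlgSp.yon S).map (E₁.property.rep.snd E.obj.hom) ≫ E.obj.hom) :=
      (AlgSp.RepWith @Etale).comp_mem _ _ ((AlgSp.repWith_yon_map_iff _ _).2 het) E.property
    obtain ⟨p, -, hp2⟩ := exists_point_of_isPullback_yon_yon sq e₁ e he
    refine ⟨AlgSp.EtOver.mk _ hrepE', AlgSp.EtOver.homMk (E₁.property.rep.snd E.obj.hom) rfl,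
      ⟨F.obj.map (AlgSp.EtOver.homMk (E' := E₁) (E := AlgSp.EtOver.mk _ hrepE') c sq.w).op t⟩,
      ⟨p, hp2⟩⟩
  choose E' g hne he using hdata
  have hcov : Sieve.ofArrows E' g ∈ AlgSp.etTop X.obj E :=
    AlgSp.ofArrows_mem_etTop E' g (fun x => ⟨x, he x⟩)
  have hsh : Presieve.IsSheaf (AlgSp.etTop X.obj) F.obj :=
    (isSheaf_iff_isSheaf_of_type _ _).1 F.property
  have hne' : ∀ ⦃Z : AlgSp.EtOver X.obj⦄ (f : Z ⟶ E), (Sieve.ofArrows E' g).arrows f →
      Nonempty (F.obj.obj (Opposite.op Z)) := by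
    rintro Z f ⟨Z', a, b, ⟨e⟩, rfl⟩
    obtain ⟨t⟩ := hne e
    exact ⟨F.obj.map a.op t⟩
  obtain ⟨t, -, -⟩ := hsh _ hcov (fun Z f hf => Classical.choice (hne' f hf))
    (fun Y₁ Y₂ Z g₁ g₂ f₁ f₂ h₁ h₂ _ => (hF Z).elim _ _)
  exact ⟨t⟩


/-- Let X be an algebraic space over a scheme S and F a subsheaf of the final object of the small etale
topos of X, i.e. a sheaf of sets all of whose section sets have at most one element. Then there is a
unique open W of |X| with F = h_W: for every U etale over X, F(U) is nonempty if and only if U ⟶ X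
maps |U| into W. -/
theorem result {S : Scheme.{u}} (X : AlgSp.Space S)
    (F : AlgSp.EtSh X.obj (Type (u + 1))) (hF : ∀ E : AlgSp.EtOver X.obj, Subsingleton (F.obj.obj (Opposite.op E))) :
    ∃! W : Set (AlgSp.Points X.obj), IsOpen W ∧
      ∀ E : AlgSp.EtOver X.obj, Nonempty (F.obj.obj (Opposite.op E)) ↔ Set.range (AlgSp.Points.ofPt E.obj.hom) ⊆ W := by
  classical
  refine ⟨⋃ (E : AlgSp.EtOver X.obj) (_ : Nonempty (F.obj.obj (Opposite.op E))),
    Set.range (AlgSp.Points.ofPt E.obj.hom), ⟨?_, ?_⟩, ?_⟩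
  · refine isOpen_iUnion fun E => isOpen_iUnion fun _ => ?_
    exact (isOpenMap_ofPt_of_etale E.obj.hom E.property).isOpen_range
  · intro E
    constructor
    · intro hE
      exact Set.subset_iUnion₂ (s := fun (E : AlgSp.EtOver X.obj)
        (_ : Nonempty (F.obj.obj (Opposite.op E))) => Set.range (AlgSp.Points.ofPt E.obj.hom)) E hE
    · intro hsub
      refine nonempty_of_range_subset X F hF E fun e => ?_
      have := hsub ⟨e, rfl⟩
      simp only [Set.mem_iUnion] at this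
      obtain ⟨E₁, hE₁, e₁, he₁⟩ := this
      exact ⟨E₁, e₁, hE₁, he₁⟩
  · rintro W' ⟨hW'o, hW'⟩
    apply Set.Subset.antisymm
    · intro x hx
      obtain ⟨U, p, hpe, hps⟩ := X.property.atlas
      obtain ⟨u₀, rfl⟩ := ofPt_surjective_of_surjective p hps x
      let V : U.left.Opens := ⟨(AlgSp.Points.ofPt p) ⁻¹' W', hW'o.preimage (AlgSp.Points.continuous_ofPt p)⟩
      let EV : AlgSp.EtOver X.obj := AlgSp.EtOver.mk _ (repWith_etale_restrict p hpe V)
      have hEV : Nonempty (F.obj.obj (Opposite.op EV)) := by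
        rw [hW' EV]
        rintro _ ⟨w, rfl⟩
        have h1 := ofPt_restrict p V w
        show AlgSp.Points.ofPt ((AlgSp.yon S).map (overOpenι U V) ≫ p) w ∈ W'
        rw [h1]
        exact w.2
      simp only [Set.mem_iUnion]
      refine ⟨EV, hEV, ⟨u₀, hx⟩, ?_⟩
      exact ofPt_restrict p V ⟨u₀, hx⟩
    · intro x hx
      simp only [Set.mem_iUnion] at hx
      obtain ⟨E, hE, e, rfl⟩ := hx
      exact (hW' E).1 hE ⟨e, rfl⟩

end Groth.Agent.S10230
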