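import Groth.Statements.S10232
import Groth.Agent.Lib.Helper15.AlgSpHensApps

set_option autoImplicit false
universe u
open CategoryTheory CategoryTheory.Limits AlgebraicGeometry Topology TopologicalSpace
open AlgSp

namespace Groth.Agent.S10232

/-- Let X be an algebraic space over a scheme S and x ∈ |X|. Then X is regular at x (for some etale
chart h_U ⟶ X and some point u of U over x, the local ring of U at u is regular) if and only if the
etale local ring of X at x̄ is regular for every geometric point x̄ lying over x, if and only if it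
is regular for some geometric point x̄ lying over x. -/
theorem result {S : Scheme.{u}} (X : AlgSp.Space S) (x : AlgSp.Points X.obj) :
    (AlgSp.HasAt (fun U u => IsRegularLocalRing ↥(U.presheaf.stalk u)) X.obj x ↔
      ∀ p : AlgSp.FieldPt X.obj, p.IsGeometric → AlgSp.Points.mk p = x → IsRegularLocalRing ↥(AlgSp.OEtStalk p)) ∧
    (AlgSp.HasAt (fun U u => IsRegularLocalRing ↥(U.presheaf.stalk u)) X.obj x ↔
      ∃ p : AlgSp.FieldPt X.obj, p.IsGeometric ∧ AlgSp.Points.mk p = x ∧ IsRegularLocalRing ↥(AlgSp.OEtStalk p)) := by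
  constructor
  · constructor
    · rintro ⟨U, a, u, ha, hu, hd⟩ p hp hpx
      exact (Helper15.AlgSpHensApps.regular_iff X p hp a ha u (hu.trans hpx.symm)).2 hd
    · intro h
      obtain ⟨p, hp, hpx⟩ := Helper15.AlgSpHensApps.exists_geometric X x
      obtain ⟨U, a, u, ha, hu⟩ := Helper15.AlgSpHensApps.exists_chart X x
      exact ⟨U, a, u, ha, hu,
        (Helper15.AlgSpHensApps.regular_iff X p hp a ha u (hu.trans hpx.symm)).1 (h p hp hpx)⟩
  · constructor
    · rintro ⟨U, a, u, ha, hu, hd⟩
      obtain ⟨p, hp, hpx⟩ := Helper15.AlgSpHensApps.exists_geometric X x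
      exact ⟨p, hp, hpx,
        (Helper15.AlgSpHensApps.regular_iff X p hp a ha u (hu.trans hpx.symm)).2 hd⟩
    · rintro ⟨p, hp, hpx, h⟩
      obtain ⟨U, a, u, ha, hu⟩ := Helper15.AlgSpHensApps.exists_chart X x
      exact ⟨U, a, u, ha, hu,
        (Helper15.AlgSpHensApps.regular_iff X p hp a ha u (hu.trans hpx.symm)).1 h⟩

end Groth.Agent.S10232
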