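import Groth.Statements.S10233
import Groth.Agent.Lib.Helper16.InvSub
import Groth.Agent.S9932
open Groth.Agent.Lib.Helper16

set_option autoImplicit false
universe u
open CategoryTheory CategoryTheory.Limits AlgebraicGeometry Topology TopologicalSpace
open AlgSp

namespace Groth.Agent.S10233

/-- Let X be an algebraic space over a scheme S with a presentation (U, R, s, t, p), and let i' : Z' ⟶ U
be an immersion of schemes that is R-invariant, meaning that one locally closed subscheme R' of R is
at the same time the inverse image of Z' under s and under t. Then Z' descends to a locally closed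
subspace of X: there is a morphism of algebraic spaces i : Z ⟶ X representable by immersions
together with a map h_{Z'} ⟶ Z making h_{Z'} the fibre product Z ×_X h_U; moreover i is a closed
(resp. open) immersion when i' is. -/
theorem result {S : Scheme.{u}} (X : AlgSp.Space S) {R U : Over S} (s t : R ⟶ U)
    (p : (AlgSp.yon S).obj U ⟶ X.obj) (hp : AlgSp.IsPresentation s t p)
    {Z' R' : Scheme.{u}} (i' : Z' ⟶ U.left) [IsImmersion i'] (k : R' ⟶ R.left) (s' t' : R' ⟶ Z')
    (hs : IsPullback k s' s.left i') (ht : IsPullback k t' t.left i') :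
    ∃ (Z : AlgSp.Space S) (i : Z ⟶ X) (q : (AlgSp.yon S).obj (Over.mk (i' ≫ U.hom)) ⟶ Z.obj),
      AlgSp.RepWith @IsImmersion i.hom ∧
      IsPullback q ((AlgSp.yon S).map (Over.homMk i' rfl : Over.mk (i' ≫ U.hom) ⟶ U)) i.hom p ∧
      (IsClosedImmersion i' → AlgSp.RepWith @IsClosedImmersion i.hom) ∧
      (IsOpenImmersion i' → AlgSp.RepWith @IsOpenImmersion i.hom) := by
  have hmono : Mono (Over.homMk i' rfl : Over.mk (i' ≫ U.hom) ⟶ U) :=
    (Over.forget S).mono_of_mono_map (inferInstanceAs (Mono i'))
  obtain ⟨Z, i, q, hZ, hi, sq⟩ := InvSub.exists_subspace X.property s t p hp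
    (Over.homMk i' rfl : Over.mk (i' ≫ U.hom) ⟶ U) (by
      intro T r x hrx
      have h1 : r.left ≫ t.left = x.left ≫ i' := congrArg CommaMorphism.left hrx
      have h2 : ht.lift r.left x.left h1 ≫ s' ≫ i' = r.left ≫ s.left := by
        rw [← hs.w, ← Category.assoc, ht.lift_fst]
      refine ⟨Over.homMk (ht.lift r.left x.left h1 ≫ s') ?_, ?_⟩
      · simp only [Over.mk_hom, Category.assoc]
        rw [reassoc_of% h2, Over.w s, Over.w r]
      · ext1
        simpa only [Over.comp_left, Over.homMk_left, Category.assoc] using h2)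
  have hsnd : ∀ (P : MorphismProperty Scheme.{u}) [P.IsStableUnderBaseChange], P i' →
      RepWith P ((yon S).map (Over.homMk i' rfl : Over.mk (i' ≫ U.hom) ⟶ U)) := fun P _ h =>
    (repWith_yon_map_iff P _).2 h
  refine ⟨⟨Z, hZ⟩, ObjectProperty.homMk i, q, ?_, sq, fun h => ?_, fun h => ?_⟩
  · exact Groth.Agent.S9932.result @IsImmersion (Or.inr (Or.inr rfl)) (X := ⟨Z, hZ⟩) (ObjectProperty.homMk i) U p
      hp.etale hp.surjective q _ sq (hsnd @IsImmersion inferInstance)
  · exact Groth.Agent.S9932.result @IsClosedImmersion (Or.inl rfl) (X := ⟨Z, hZ⟩) (ObjectProperty.homMk i) U p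
      hp.etale hp.surjective q _ sq (hsnd @IsClosedImmersion h)
  · exact Groth.Agent.S9932.result @IsOpenImmersion (Or.inr (Or.inl rfl)) (X := ⟨Z, hZ⟩) (ObjectProperty.homMk i) U p
      hp.etale hp.surjective q _ sq (hsnd @IsOpenImmersion h)

end Groth.Agent.S10233
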