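import Groth.Statements.S10234
import Mathlib

set_option autoImplicit false
universe u
open CategoryTheory CategoryTheory.Limits AlgebraicGeometry Topology TopologicalSpace
open AlgSp

namespace Groth.Agent.S10234


open AlgSp

set_option backward.isDefEq.respectTransparency false

section aux

variable {S : Scheme.{u}} {X Y : Sp S} (f : X ⟶ Y) (hf : IsEtaleMor f)

noncomputable def isLimitPostcomp {E₁ E₂ E₀ : EtOver X} (g₁ : E₁ ⟶ E₀) (g₂ : E₂ ⟶ E₀) :
    IsLimit ((EtOver.postcomp f hf).mapCone (PullbackCone.mk (EtOver.pullbackFst g₁ g₂)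
      (EtOver.pullbackSnd g₁ g₂) (EtOver.pullback_condition g₁ g₂))) := by
  refine (isLimitMapConePullbackConeEquiv _ _).symm ?_
  refine PullbackCone.IsLimit.mk _
    (fun s => EtOver.homMk (pullback.lift s.fst.hom.left s.snd.hom.left
      (congrArg (fun k => k.hom.left) s.condition)) (by
      change (yon S).map _ ≫ ((yon S).map _ ≫ E₁.obj.hom) ≫ f = s.pt.obj.hom
      rw [Category.assoc, ← Category.assoc, ← Functor.map_comp, pullback.lift_fst]
      exact EtOver.w s.fst))
    (fun s => EtOver.hom_ext _ _ (pullback.lift_fst _ _ _))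
    (fun s => EtOver.hom_ext _ _ (pullback.lift_snd _ _ _))
    (fun s m h₁ h₂ => EtOver.hom_ext _ _ (pullback.hom_ext
      ((congrArg (fun k => k.hom.left) h₁).trans (pullback.lift_fst _ _ _).symm)
      ((congrArg (fun k => k.hom.left) h₂).trans (pullback.lift_snd _ _ _).symm)))

instance preservesLimit_cospan_postcomp {E₁ E₂ E₀ : EtOver X} (g₁ : E₁ ⟶ E₀) (g₂ : E₂ ⟶ E₀) :
    PreservesLimit (cospan g₁ g₂) (EtOver.postcomp f hf) :=
  preservesLimit_of_preserves_limit_cone (EtOver.pullbackIsLimit g₁ g₂) (isLimitPostcomp f hf g₁ g₂)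

instance preservesPullbacks_postcomp :
    PreservesLimitsOfShape WalkingCospan (EtOver.postcomp f hf) where
  preservesLimit {K} := preservesLimit_of_iso_diagram _ (diagramIsoCospan K).symm

theorem continuous_postcomp :
    (EtOver.postcomp f hf).IsContinuous (etTop X) (etTop Y) := by
  unfold etTop
  refine Functor.isContinuous_toGrothendieck_of_pullbacksPreservedBy (EtOver.postcomp f hf)
    (etPre X) (etPre Y) ?_
  intro E R hR
  obtain ⟨ι, Z, g, rfl⟩ := R.exists_eq_ofArrows
  rw [ofArrows_mem_etPre_iff] at hR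
  rw [Precoverage.mem_comap_iff, Presieve.map_ofArrows, ofArrows_mem_etPre_iff]
  exact hR

theorem cocontinuous_postcomp :
    (EtOver.postcomp f hf).IsCocontinuous (etTop X) (etTop Y) := by
  constructor
  intro E T hT
  unfold etTop at hT
  rw [Precoverage.mem_toGrothendieck_iff_of_isStableUnderComposition] at hT
  obtain ⟨R, hR, hle⟩ := hT
  obtain ⟨ι, Z, g, rfl⟩ := R.exists_eq_ofArrows
  rw [ofArrows_mem_etPre_iff] at hR
  have hrep : ∀ i, RepWith @Etale ((yon S).map (g i).hom.left ≫ E.obj.hom) := fun i =>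
    (repWith_isMultiplicative (S := S) @Etale).comp_mem _ _
      ((repWith_yon_map_iff _ _).2 (EtOver.etale_left (g i))) E.property
  have hcov : Sieve.ofArrows
      (fun i => EtOver.mk ((yon S).map (g i).hom.left ≫ E.obj.hom) (hrep i))
      (fun i => (EtOver.homMk (g i).hom.left rfl :
        EtOver.mk ((yon S).map (g i).hom.left ≫ E.obj.hom) (hrep i) ⟶ E)) ∈ etTop X E :=
    ofArrows_mem_etTop _ _ hR
  refine GrothendieckTopology.superset_covering _ ?_ hcov
  rintro W a ⟨V, b, c, ⟨i⟩, rfl⟩
  show T ((EtOver.postcomp f hf).map (b ≫ (EtOver.homMk (g i).hom.left rfl :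
        EtOver.mk ((yon S).map (g i).hom.left ≫ E.obj.hom) (hrep i) ⟶ E)))
  obtain ⟨e, he⟩ : ∃ e : (EtOver.postcomp f hf).obj
      (EtOver.mk ((yon S).map (g i).hom.left ≫ E.obj.hom) (hrep i)) ⟶ Z i, e.hom.left = 𝟙 _ :=
    ⟨EtOver.homMk (𝟙 _) (by
      change (yon S).map (𝟙 _) ≫ (Z i).obj.hom = ((yon S).map (g i).hom.left ≫ E.obj.hom) ≫ f
      rw [CategoryTheory.Functor.map_id, Category.id_comp, Category.assoc]
      exact (EtOver.w (g i)).symm), rfl⟩
  have h2 : (EtOver.postcomp f hf).map (b ≫ (EtOver.homMk (g i).hom.left rfl :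
        EtOver.mk ((yon S).map (g i).hom.left ≫ E.obj.hom) (hrep i) ⟶ E)) =
      ((EtOver.postcomp f hf).map b ≫ e) ≫ g i := by
    apply EtOver.hom_ext
    show b.hom.left ≫ (g i).hom.left = (b.hom.left ≫ e.hom.left) ≫ (g i).hom.left
    rw [he]
    exact (congrArg (fun m => m ≫ (g i).hom.left) (Category.comp_id b.hom.left)).symm
  rw [h2]
  exact T.downward_closed (hle _ _ (Presieve.ofArrows.mk i)) _

end aux

/-- Suppose f : X ⟶ Y is a morphism of algebraic spaces over a scheme S that is etale. Then the functor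
j : X_etale ⟶ Y_etale, (U ⟶ X) ↦ (U ⟶ X ⟶ Y), is continuous and cocontinuous for the etale
topologies. (The identification of the associated morphism of topoi with f_small, and the resulting
formula for inverse images, are not part of this row.) -/
theorem result {S : Scheme.{u}} {X Y : AlgSp.Space S} (f : X ⟶ Y)
    (hf : AlgSp.IsEtaleMor f.hom) :
    (AlgSp.EtOver.postcomp f.hom hf).IsContinuous (AlgSp.etTop X.obj) (AlgSp.etTop Y.obj) ∧
      (AlgSp.EtOver.postcomp f.hom hf).IsCocontinuous (AlgSp.etTop X.obj) (AlgSp.etTop Y.obj) := by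
  exact ⟨continuous_postcomp f.hom hf, cocontinuous_postcomp f.hom hf⟩

end Groth.Agent.S10234
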