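import Groth.Statements.S10237
import Groth.Agent.Lib.Helper16.EtPostOver

set_option autoImplicit false
universe u
open CategoryTheory CategoryTheory.Limits AlgebraicGeometry Topology TopologicalSpace
open AlgSp

namespace Groth.Agent.S10237


set_option backward.isDefEq.respectTransparency false

open Groth.Agent.Lib.Helper16 in
theorem aux {S : Scheme.{u}} {A B : Sp S} {p : A ⟶ B} (hrep : Representable p)
    (hE : IsEtaleMor p) (hs : RepWith @Surjective p)
    [(SheafOfModules.pushforward.{u + 1} (bcRingHom hrep)).IsRightAdjoint]
    (F : ModEt B) (hF : ((pullModEt hrep).obj F).IsQuasicoherent) : F.IsQuasicoherent := by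
  let e : pullModEt hrep ≅ SheafOfModules.pushforward.{u + 1} (Groth.Agent.S10252.φ hE) :=
    Adjunction.leftAdjointUniq (pullPushAdjModEt hrep)
      (SheafOfModules.pushforwardPushforwardAdj.{u + 1} (Groth.Agent.S10252.adj hrep hE)
        (Groth.Agent.S10252.φ hE) (bcRingHom hrep)
        (Groth.Agent.S10252.H₁ hrep hE) (Groth.Agent.S10252.H₂ hrep hE))
  have hN : ((SheafOfModules.pushforward.{u + 1} (Groth.Agent.S10252.φ hE)).obj F).IsQuasicoherent :=
    (SheafOfModules.isQuasicoherent (OEtRing A)).prop_of_iso (e.app F) hF
  exact QcohDescent.isQuasicoherent_of_pushforward (EtOver.postcomp p hE)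
    (Groth.Agent.S10252.φ hE) (EtPostOver.coverPreserving_postcomp p hE)
    (EtPostOver.exists_cover hE hrep hs) F hN


/-- Let X be an algebraic space over a scheme S and F a sheaf of modules over O_X on the small etale
site of X. If there is a surjective etale map p : h_U ⟶ X from a scheme U such that the pullback
p^*F is a quasi-coherent module, then F is quasi-coherent. -/
theorem result {S : Scheme.{u}} (X : AlgSp.Space S) (F : AlgSp.ModEt X.obj)
    {U : Over S} (p : (AlgSp.yon S).obj U ⟶ X.obj) (hrep : AlgSp.Representable p)
    (hp : AlgSp.RepWith @Etale p) (hs : AlgSp.RepWith @Surjective p)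
    [(SheafOfModules.pushforward.{u + 1} (AlgSp.bcRingHom hrep)).IsRightAdjoint]
    (hF : ((AlgSp.pullModEt hrep).obj F).IsQuasicoherent) :
    F.IsQuasicoherent := by
  exact aux hrep (isEtaleMor_of_repWith p hp) hs F hF
end Groth.Agent.S10237
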