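import Groth.Statements.S10238
import Groth.Agent.Lib.Helper16.EtPostOver

set_option autoImplicit false
universe u
open CategoryTheory CategoryTheory.Limits AlgebraicGeometry Topology TopologicalSpace
open AlgSp

namespace Groth.Agent.S10238


set_option backward.isDefEq.respectTransparency false

open Groth.Agent.Lib.Helper16 in
theorem aux {S : Scheme.{u}} {A B : Sp S} {p : A ⟶ B} (hrep : Representable p)
    (hE : IsEtaleMor p)
    [(SheafOfModules.pushforward.{u + 1} (bcRingHom hrep)).IsRightAdjoint]
    (F : ModEt B) (hF : F.IsQuasicoherent) : ((pullModEt hrep).obj F).IsQuasicoherent := by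
  let e : pullModEt hrep ≅ SheafOfModules.pushforward.{u + 1} (Groth.Agent.S10252.φ hE) :=
    Adjunction.leftAdjointUniq (pullPushAdjModEt hrep)
      (SheafOfModules.pushforwardPushforwardAdj.{u + 1} (Groth.Agent.S10252.adj hrep hE)
        (Groth.Agent.S10252.φ hE) (bcRingHom hrep)
        (Groth.Agent.S10252.H₁ hrep hE) (Groth.Agent.S10252.H₂ hrep hE))
  haveI : (EtOver.postcomp p hE).IsLeftAdjoint := (Groth.Agent.S10252.adj hrep hE).isLeftAdjoint
  haveI : ∀ c : EtOver A, (Over.post (X := c) (EtOver.postcomp p hE)).IsContinuous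
      ((etTop A).over c) ((etTop B).over _) := fun c =>
    QcohDescent.isContinuous_overPost _ (EtPostOver.coverPreserving_postcomp p hE) c
  haveI : F.IsQuasicoherent := hF
  have hN : ((SheafOfModules.pushforward.{u + 1} (Groth.Agent.S10252.φ hE)).obj F).IsQuasicoherent :=
    SheafOfModules.isQuasicoherent_pushforward_of_isLeftAdjoint (EtOver.postcomp p hE)
      (Groth.Agent.S10252.φ hE) (QcohDescent.pushforwardUnitIso (Groth.Agent.S10252.φ hE))
  exact (SheafOfModules.isQuasicoherent (OEtRing A)).prop_of_iso (e.app F).symm hN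


/-- Let X be an algebraic space over a scheme S and F a quasi-coherent O_X-module on the small etale
site of X. Then for every affine scheme U and every etale map p : h_U ⟶ X the pullback p^*F is
quasi-coherent. -/
theorem result {S : Scheme.{u}} (X : AlgSp.Space S) (F : AlgSp.ModEt X.obj)
    (hF : F.IsQuasicoherent) {U : Over S} (hU : IsAffine U.left) (p : (AlgSp.yon S).obj U ⟶ X.obj)
    (hrep : AlgSp.Representable p) (hp : AlgSp.RepWith @Etale p)
    [(SheafOfModules.pushforward.{u + 1} (AlgSp.bcRingHom hrep)).IsRightAdjoint] :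
    ((AlgSp.pullModEt hrep).obj F).IsQuasicoherent := by
  exact aux hrep (isEtaleMor_of_repWith p hp) F hF
end Groth.Agent.S10238
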