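import Groth.Statements.S10239
import Groth.Agent.Lib.Helper15.AlgSpHensApps2

set_option autoImplicit false
universe u
open CategoryTheory CategoryTheory.Limits AlgebraicGeometry Topology TopologicalSpace
open AlgSp

namespace Groth.Agent.S10239

/-- (1) ⇔ (4) ⇔ (5): let X be an algebraic space over a scheme S, x ∈ |X| and n ≥ 1 an integer. The
following are equivalent: (1) for every scheme U, etale h_U ⟶ X and u ∈ U over x the local ring of U
at u has at most n minimal primes, and for some such (U, u) exactly n; (4) for every such (U, u) the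
number of geometric branches of U at u is n; (5) for every geometric point x̄ over x the etale local
ring of X at x̄ has exactly n minimal primes. -/
theorem result {S : Scheme.{u}} (X : AlgSp.Space S) (x : AlgSp.Points X.obj)
    (n : ℕ) (hn : 1 ≤ n) :
    (((∀ (U : Over S) (a : (AlgSp.yon S).obj U ⟶ X.obj) (u : ↥U.left),
        AlgSp.RepWith @Etale a → AlgSp.Points.ofPt a u = x → (minimalPrimes ↥(U.left.presheaf.stalk u)).encard ≤ n) ∧
        AlgSp.HasAt (fun U u => (minimalPrimes ↥(U.presheaf.stalk u)).encard = n) X.obj x) ↔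
      (∀ (U : Over S) (a : (AlgSp.yon S).obj U ⟶ X.obj) (u : ↥U.left),
        AlgSp.RepWith @Etale a → AlgSp.Points.ofPt a u = x → Brnch.numGeomBranchesAt U.left u = n)) ∧
    ((∀ (U : Over S) (a : (AlgSp.yon S).obj U ⟶ X.obj) (u : ↥U.left),
        AlgSp.RepWith @Etale a → AlgSp.Points.ofPt a u = x → Brnch.numGeomBranchesAt U.left u = n) ↔
      ∀ p : AlgSp.FieldPt X.obj, p.IsGeometric → AlgSp.Points.mk p = x →
        (minimalPrimes ↥(AlgSp.OEtStalk p)).encard = n) := by
  have h45 : (∀ (U : Over S) (a : (AlgSp.yon S).obj U ⟶ X.obj) (u : ↥U.left),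
        AlgSp.RepWith @Etale a → AlgSp.Points.ofPt a u = x →
          Brnch.numGeomBranchesAt U.left u = n) ↔
      ∀ p : AlgSp.FieldPt X.obj, p.IsGeometric → AlgSp.Points.mk p = x →
        (minimalPrimes ↥(AlgSp.OEtStalk p)).encard = n := by
    constructor
    · intro h4 p hp hpx
      obtain ⟨U, a, u, ha, hu⟩ := Helper15.AlgSpHensApps.exists_chart X x
      rw [Helper15.AlgSpHensApps.encard_eq X p hp a ha u (hu.trans hpx.symm)]
      exact h4 U a u ha hu
    · intro h5 U a u ha hu
      obtain ⟨p, hp, hpx⟩ := Helper15.AlgSpHensApps.exists_geometric X x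
      rw [← Helper15.AlgSpHensApps.encard_eq X p hp a ha u (hu.trans hpx.symm)]
      exact h5 p hp hpx
  refine ⟨?_, h45⟩
  constructor
  · rintro ⟨hle, U₀, a₀, u₀, ha₀, hu₀, heq⟩ U a u ha hu
    obtain ⟨p, hp, hpx⟩ := Helper15.AlgSpHensApps.exists_geometric X x
    apply le_antisymm
    · rw [Helper15.AlgSpHensApps.numGeomBranchesAt_eq_iSup]
      refine iSup_le (fun V => iSup_le (fun g => iSup_le (fun v => iSup_le (fun hgv => ?_))))
      obtain ⟨hc1, hc2⟩ := Helper15.AlgSpHensApps.comp_chart X a ha g hgv.1 v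
      exact hle (Over.mk (g ≫ U.hom)) _ v hc1 (hc2.trans (by rw [hgv.2]; exact hu))
    · have e1 := Helper15.AlgSpHensApps.encard_eq X p hp a ha u (hu.trans hpx.symm)
      have e2 := Helper15.AlgSpHensApps.encard_eq X p hp a₀ ha₀ u₀ (hu₀.trans hpx.symm)
      rw [← e1, e2]
      have heq' : (minimalPrimes ↥(U₀.left.presheaf.stalk u₀)).encard = n := heq
      rw [← heq']
      exact Helper15.AlgSpHensApps2.le_numGeomBranchesAt U₀.left u₀
  · intro h4
    constructor
    · intro U a u ha hu
      exact (Helper15.AlgSpHensApps2.le_numGeomBranchesAt U.left u).trans (h4 U a u ha hu).le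
    · obtain ⟨U, a, u, ha, hu⟩ := Helper15.AlgSpHensApps.exists_chart X x
      obtain ⟨V, g, v, hg, hgv, henc⟩ :=
        Helper15.AlgSpHensApps2.exists_etale_encard_eq U.left u n hn (h4 U a u ha hu)
      obtain ⟨hc1, hc2⟩ := Helper15.AlgSpHensApps.comp_chart X a ha g hg v
      exact ⟨Over.mk (g ≫ U.hom), _, v, hc1, hc2.trans (by rw [hgv]; exact hu), henc⟩

end Groth.Agent.S10239
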