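import Groth.Statements.S10241
import Groth.Agent.Lib.Helper15.AlgSpPsh

set_option autoImplicit false
universe u
open CategoryTheory CategoryTheory.Limits AlgebraicGeometry Topology TopologicalSpace
open AlgSp

namespace Groth.Agent.S10241

/-- Let X be an algebraic space over a scheme S and x̄ a geometric point of X. The stalk functor at x̄
on abelian presheaves on the small etale site of X is exact, and for every presheaf of sets P the
canonical map from the stalk of P at x̄ to the stalk of its sheafification is bijective. -/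
theorem result {S : Scheme.{u}} (X : AlgSp.Space S) (p : AlgSp.FieldPt X.obj)
    (hp : p.IsGeometric) :
    (PreservesFiniteLimits (AlgSp.stalkEtPshFunctor AddCommGrpCat.{u + 1} p) ∧
      PreservesFiniteColimits (AlgSp.stalkEtPshFunctor AddCommGrpCat.{u + 1} p)) ∧
    ∀ P : (AlgSp.EtOver X.obj)ᵒᵖ ⥤ Type (u + 1),
      IsIso ((AlgSp.stalkEtPshFunctor (Type (u + 1)) p).map (toSheafify (AlgSp.etTop X.obj) P)) := by
  exact ⟨⟨Groth.Agent.Lib.Helper15.AlgSpStalk.pshStalk_pfl_ab X p hp,
      Groth.Agent.Lib.Helper15.AlgSpStalk.pshStalk_pfc_ab X p hp⟩,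
    fun P => Groth.Agent.Lib.Helper15.AlgSpStalk.isIso_pshStalk_toSheafify X p hp P⟩

end Groth.Agent.S10241
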