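import Groth.Statements.S10245
import Groth.Agent.Lib.Helper11.AG1
import Groth.Agent.Lib.Helper11.AG2
import Groth.Agent.Lib.Helper11.GQ8
import Groth.Agent.Lib.Helper11.GQ9

set_option autoImplicit false
universe u
open CategoryTheory CategoryTheory.Limits MonoidalCategory CartesianMonoidalCategory MonObj AlgebraicGeometry Topology TopologicalSpace
open AlgSp

namespace Groth.Agent.S10245

open Groth.Agent.Lib.Helper11.AG1 Groth.Agent.Lib.Helper11.AG2 Groth.Agent.Lib.Helper11.GQ7b

/-- Let G ⟶ S be a finite locally free group scheme over a scheme S acting on a scheme X over S by a : G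
×_S X ⟶ X, freely on T-valued points for every S-scheme T. Assume one of the following: the
structure morphism X ⟶ S is affine; X admits an open immersion into some affine scheme; G ⟶ S is
radicial (universally injective). Then the fppf quotient sheaf X/G is a scheme M: there is q : X ⟶ M
over S exhibiting h_M as the quotient of h_X by the projection and the action G ×_S X ⇉ X in fppf
sheaves; moreover the square formed by the action, the projection and q is cartesian (G ×_S X ≅ X
×_M X) and X ⟶ M has sections fppf locally on M, so that X ⟶ X/G is an fppf G-torsor. (The published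
statement also allows X ⟶ S quasi-affine, projective or quasi-projective, or X an open subscheme of
Proj of a graded ring; those cases are not covered by this row.) -/
theorem result {S : Scheme.{u}} (G X : Over S) [GrpObj G]
    (a : AlgGrp.Action G X) (hG : Mor2.IsFinLocFree G.hom)
    (hfree : ∀ (T : Over S) (g : T ⟶ G) (x : T ⟶ X), lift g x ≫ a.act = x → g = toUnit T ≫ η[G])
    (h3 : IsAffineHom X.hom ∨ (∃ (R : CommRingCat.{u}) (i : X.left ⟶ Spec R), IsOpenImmersion i) ∨
      UniversallyInjective G.hom) :
    ∃ (M : Over S) (q : X ⟶ M), QuotSh.IsQuotient Scheme.fppfPrecoverage (snd G X) a.act q ∧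
      IsPullback a.act.left (snd G X).left q.left q.left ∧
      NonAbH1.IsLocallyTrivialFor Scheme.fppfPrecoverage (Over.mk q.left) := by
  haveI : IsFinite (grpd a).s := (s_props a hG).1
  haveI : Flat (grpd a).s := (s_props a hG).2.1
  haveI : LocallyOfFinitePresentation (grpd a).s := (s_props a hG).2.2
  haveI : Mono (grpd a).j := mono_j a hfree
  haveI : HasAffOrbits (grpd a) := by
    rcases h3 with h | ⟨R, i, hi⟩ | h
    · exact hasAffOrbits_of_isAffineHom a
    · exact hasAffOrbits_of_openImm a i
    · exact hasAffOrbits_of_univInj a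
  obtain ⟨M, m, hm, hpb, hq⟩ := Groth.Agent.Lib.Helper11.GQ8.main (grpd a)
  obtain ⟨q, hqm⟩ : ∃ q : X ⟶ M, q = m := ⟨m, rfl⟩
  have hq' : QuotSh.IsQuotient Scheme.fppfPrecoverage (snd G X) a.act q := by
    rw [hqm]; exact hq
  have hpb' : IsPullback a.act.left (snd G X).left q.left q.left := by
    rw [hqm]; exact hpb
  refine ⟨M, q, hq', hpb', ?_⟩
  haveI : Surjective q.left :=
    Groth.Agent.Lib.Helper11.GQ9.surjective_of_isQuotient _ _ q hq'
  obtain ⟨h1, h2, h3'⟩ := hm
  haveI : Flat q.left := by rw [hqm]; exact h2
  haveI : LocallyOfFinitePresentation q.left := by rw [hqm]; exact h3'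
  refine ⟨Presieve.singleton q.left, Scheme.Hom.singleton_mem_fppfPrecoverage q.left, ?_⟩
  rintro S' f ⟨⟩
  exact ⟨𝟙 _, Category.id_comp _⟩

end Groth.Agent.S10245
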