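import Groth.Statements.S10249
import Groth.Agent.Lib.Helper16.SchLocusCodim0b
import Groth.Agent.Lib.Helper16.DecentGeneric

set_option autoImplicit false
universe u
open CategoryTheory CategoryTheory.Limits AlgebraicGeometry Topology TopologicalSpace
open AlgSp

namespace Groth.Agent.S10249

open Groth.Agent.Lib.Helper16 Groth.Agent.Lib.Helper15 Groth.Agent.Lib.Helper16.Strata

theorem topologicalKrullDim_image_of_etale {U V : Scheme.{u}} (h : U ⟶ V) [Etale h] (W : U.Opens) :
    topologicalKrullDim ↥(h '' (W : Set ↥U)) = topologicalKrullDim ↥(W : Set ↥U) := by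
  obtain ⟨O, hO⟩ : ∃ O : V.Opens, (O : Set ↥V) = h '' (W : Set ↥U) := ⟨⟨_, h.isOpenMap _ W.isOpen⟩, rfl⟩
  have e : W ≤ h ⁻¹ᵁ O := fun w hw => by
    change h w ∈ (O : Set ↥V)
    rw [hO]
    exact ⟨w, hw, rfl⟩
  have het : Etale (h.resLE O W e) := inferInstance
  have hsurj : Surjective (h.resLE O W e) := by
    constructor
    intro o
    have ho : o.1 ∈ (O : Set ↥V) := o.2
    rw [hO] at ho
    obtain ⟨w, hw, hwo⟩ := ho
    refine ⟨⟨w, hw⟩, ?_⟩
    apply O.ι.isOpenEmbedding.injective
    rw [← Scheme.Hom.comp_apply, Scheme.Hom.resLE_comp_ι, Scheme.Hom.comp_apply]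
    exact hwo
  have h1 := EtDim.topologicalKrullDim_eq_of_etale_of_surjective (h.resLE O W e)
  rw [← topologicalKrullDim_congr hO]
  exact h1.symm

theorem localDim_eq_of_etale {U V : Scheme.{u}} (h : U ⟶ V) [Etale h] (u : ↥U) :
    FlatMor.localDim ↥U u = FlatMor.localDim ↥V (h u) := by
  unfold FlatMor.localDim
  apply le_antisymm
  · refine le_iInf fun O => ?_
    have hWopen : IsOpen (h ⁻¹' (O.1 : Set ↥V)) := O.1.isOpen.preimage h.continuous
    refine (iInf_le _ (⟨⟨_, hWopen⟩, O.2⟩ : {W : TopologicalSpace.Opens ↥U // u ∈ W})).trans ?_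
    rw [← topologicalKrullDim_image_of_etale h ⟨_, hWopen⟩]
    exact topologicalKrullDim_mono_set (Set.image_preimage_subset _ _)
  · refine le_iInf fun W => ?_
    have hOopen : IsOpen (h '' (W.1 : Set ↥U)) := h.isOpenMap _ W.1.isOpen
    refine (iInf_le _ (⟨⟨_, hOopen⟩, ⟨u, W.2, rfl⟩⟩ :
      {O : TopologicalSpace.Opens ↥V // h u ∈ O})).trans ?_
    exact (topologicalKrullDim_image_of_etale h W.1).le

/-- For a property of pointed schemes invariant under etale morphisms, "some chart has it" is invariant under etale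
morphisms of algebraic spaces. -/
theorem hasAt_iff_of_isEtaleMor {S : Scheme.{u}} (Q : ∀ U : Scheme.{u}, ↥U → Prop)
    (hQ : ∀ {U V : Scheme.{u}} (h : U ⟶ V) [Etale h] (u : ↥U), Q U u ↔ Q V (h u))
    {X Y : AlgSp.Sp S} (hX : AlgSp.IsAlgSpace X) (f : X ⟶ Y) (hf : AlgSp.IsEtaleMor f) (x : AlgSp.Points X) :
    AlgSp.HasAt Q X x ↔ AlgSp.HasAt Q Y (AlgSp.Points.map f x) := by
  constructor
  · rintro ⟨U, a, u, hae, hu, hq⟩
    exact ⟨U, a ≫ f, u, hf a hae, by rw [← Points.map_ofPt, hu], hq⟩
  · rintro ⟨V, b, v, hbe, hbv, hq⟩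
    obtain ⟨U, a, hae, has⟩ := hX.atlas
    obtain ⟨u, hu⟩ := ofPt_surjective_of_surjective a has x
    have hae' : RepWith @Etale (a ≫ f) := hf a hae
    have hu' : Points.ofPt (a ≫ f) u = Points.ofPt b v := by
      rw [← Points.map_ofPt, hu, hbv]
    have sqP := hae'.rep.isPullback' b
    have het1 : Etale (hae'.rep.fst' b).left := hbe.property _ _ _ sqP.flip
    have het2 : Etale (hae'.rep.snd b).left := hae'.property _ _ _ sqP
    obtain ⟨p, hp1, hp2⟩ := exists_point_of_isPullback_yon_yon sqP u v hu'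
    refine ⟨U, a, u, hae, hu, ?_⟩
    rw [← hp1, ← hQ (hae'.rep.fst' b).left p, hQ (hae'.rep.snd b).left p, hp2]
    exact hq


/-- Let X and Y be algebraic spaces over a scheme S, f : X ⟶ Y an etale morphism and x ∈ |X| with image
y ∈ |Y|. Then (1) X at x and Y at y have the same dimension: for every d, some etale chart h_U ⟶ X
from a scheme U and some point u of U over x have local dimension d (of the topological space U at
u) if and only if the same holds for Y at y; and (2) the local rings of X at x and of Y at y have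
the same Krull dimension, in the same some-chart sense with the Krull dimension of the local ring of
U at u. -/
theorem result {S : Scheme.{u}} {X Y : AlgSp.Space S} (f : X ⟶ Y)
    (hf : AlgSp.IsEtaleMor f.hom) (x : AlgSp.Points X.obj) :
    (∀ d : WithBot ℕ∞,
        AlgSp.HasAt (fun U u => FlatMor.localDim ↥U u = d) X.obj x ↔
          AlgSp.HasAt (fun U u => FlatMor.localDim ↥U u = d) Y.obj (AlgSp.Points.map f.hom x)) ∧
    (∀ d : WithBot ℕ∞,
        AlgSp.HasAt (fun U u => ringKrullDim ↥(U.presheaf.stalk u) = d) X.obj x ↔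
          AlgSp.HasAt (fun U u => ringKrullDim ↥(U.presheaf.stalk u) = d) Y.obj (AlgSp.Points.map f.hom x)) := by
  refine ⟨fun d => ?_, fun d => ?_⟩
  · refine hasAt_iff_of_isEtaleMor (fun U u => FlatMor.localDim ↥U u = d) ?_ X.property f.hom hf x
    intro U V h _ u
    rw [localDim_eq_of_etale h u]
  · refine hasAt_iff_of_isEtaleMor (fun U u => ringKrullDim ↥(U.presheaf.stalk u) = d) ?_ X.property f.hom hf x
    intro U V h _ u
    rw [EtDim.ringKrullDim_stalk_eq_of_etale h u]

end Groth.Agent.S10249
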