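import Groth.Statements.S10250
import Groth.Agent.Lib.Helper16.EtDim
import Groth.Agent.Lib.Helper16.Rep
open Groth.Agent.Lib.Helper16

set_option autoImplicit false
universe u
open CategoryTheory CategoryTheory.Limits AlgebraicGeometry Topology TopologicalSpace
open AlgSp

namespace Groth.Agent.S10250

/-- Let f : X ⟶ Y be an etale and surjective morphism of algebraic spaces over a scheme S. Then X and Y
have the same dimension (the dimension of an algebraic space being the supremum of the Krull
dimensions of the schemes etale over it). -/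
theorem result {S : Scheme.{u}} {X Y : AlgSp.Space S} (f : X ⟶ Y)
    (hf : AlgSp.IsEtaleMor f.hom) (hs : AlgSp.IsSurjectiveMor f.hom) :
    AlgSp.dim X.obj = AlgSp.dim Y.obj := by
  apply le_antisymm
  · refine iSup_le fun U => iSup_le fun a => iSup_le fun ha => ?_
    exact le_iSup_of_le U (le_iSup_of_le (a ≫ f.hom) (le_iSup_of_le (hf a ha) le_rfl))
  · refine iSup_le fun V => iSup_le fun b => iSup_le fun hb => ?_
    obtain ⟨U, p, hpe, hps⟩ := X.property.atlas
    have hpf : AlgSp.RepWith @Etale (p ≫ f.hom) := hf p hpe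
    have hpfs : AlgSp.RepWith @Surjective (p ≫ f.hom) := by
      rw [repWith_surjective_iff _ hpf.rep]
      intro y
      obtain ⟨x, rfl⟩ := hs y
      obtain ⟨z, rfl⟩ := (repWith_surjective_iff p hpe.rep).1 hps x
      exact ⟨z, AlgSp.Points.map_comp _ _ _⟩
    obtain ⟨W, r, s₀, sq⟩ := hpf.rep b
    obtain ⟨s, rfl⟩ := (AlgSp.yon S).map_surjective s₀
    have hr : Etale r.left := hpf.property _ _ _ sq
    have hrs : Surjective r.left := hpfs.property _ _ _ sq
    have hse : Etale s.left := hb.property _ _ _ sq.flip
    rw [← EtDim.topologicalKrullDim_eq_of_etale_of_surjective r.left]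
    have hsp : AlgSp.RepWith @Etale ((AlgSp.yon S).map s ≫ p) :=
      (AlgSp.RepWith @Etale).comp_mem _ _ ((AlgSp.repWith_yon_map_iff _ _).2 hse) hpe
    exact le_iSup_of_le W (le_iSup_of_le ((AlgSp.yon S).map s ≫ p) (le_iSup_of_le hsp le_rfl))
end Groth.Agent.S10250
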