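import Groth.Statements.S10252
import Groth.Agent.S10234
import Groth.Agent.Lib.Helper16.PushLim

set_option autoImplicit false
universe u
open CategoryTheory CategoryTheory.Limits AlgebraicGeometry Topology TopologicalSpace
open AlgSp

namespace Groth.Agent.S10252


set_option backward.isDefEq.respectTransparency false

section aux

variable {S : Scheme.{u}} {X Y : Sp S} {f : X ⟶ Y} (hrep : Representable f) (hf : IsEtaleMor f)

instance instContPostcomp : (EtOver.postcomp f hf).IsContinuous (etTop X) (etTop Y) :=
  Groth.Agent.S10234.continuous_postcomp f hf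

/-- The graph section `E ⟶ E ×_Y X`. -/
noncomputable def unitLift (E : EtOver X) : E.obj.left ⟶ hrep.pullback (E.obj.hom ≫ f) :=
  hrep.lift E.obj.hom (𝟙 E.obj.left) (by
    have h : (yon S).map (𝟙 E.obj.left) = 𝟙 _ := (yon S).map_id _
    rw [h, Category.id_comp])

theorem unitLift_fst (E : EtOver X) :
    (yon S).map (unitLift hrep E) ≫ hrep.fst (E.obj.hom ≫ f) = E.obj.hom :=
  hrep.lift_fst _ _ _

theorem unitLift_snd (E : EtOver X) :
    unitLift hrep E ≫ hrep.snd (E.obj.hom ≫ f) = 𝟙 _ :=
  hrep.lift_snd _ _ _

noncomputable def unitApp (E : EtOver X) :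
    E ⟶ (EtOver.bc hrep).obj ((EtOver.postcomp f hf).obj E) :=
  EtOver.homMk (unitLift hrep E) (unitLift_fst hrep E)

noncomputable def counitApp (V : EtOver Y) :
    (EtOver.postcomp f hf).obj ((EtOver.bc hrep).obj V) ⟶ V :=
  EtOver.homMk (hrep.snd V.obj.hom) (hrep.w V.obj.hom).symm

theorem unit_nat {E E' : EtOver X} (g : E ⟶ E') :
    g.hom.left ≫ unitLift hrep E' =
      unitLift hrep E ≫ (EtOver.bcMap hrep ((EtOver.postcomp f hf).map g)).hom.left := by
  have h1 : (yon S).map (EtOver.bcMap hrep ((EtOver.postcomp f hf).map g)).hom.left ≫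
      hrep.fst (E'.obj.hom ≫ f) = hrep.fst (E.obj.hom ≫ f) :=
    EtOver.map_bcMap_fst hrep ((EtOver.postcomp f hf).map g)
  have h2 : (EtOver.bcMap hrep ((EtOver.postcomp f hf).map g)).hom.left ≫
      hrep.snd (E'.obj.hom ≫ f) = hrep.snd (E.obj.hom ≫ f) ≫ g.hom.left :=
    EtOver.bcMap_snd hrep ((EtOver.postcomp f hf).map g)
  refine hrep.hom_ext ?_ ?_
  · rw [Functor.map_comp, Category.assoc, unitLift_fst, Functor.map_comp, Category.assoc, h1,
      unitLift_fst]
    exact EtOver.w g
  · rw [Category.assoc, unitLift_snd, Category.comp_id, Category.assoc, h2, ← Category.assoc,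
      unitLift_snd, Category.id_comp]

theorem right_tri (V : EtOver Y) :
    unitLift hrep ((EtOver.bc hrep).obj V) ≫
      (EtOver.bcMap hrep (counitApp hrep hf V)).hom.left = 𝟙 (hrep.pullback V.obj.hom) := by
  have h1 : (yon S).map (EtOver.bcMap hrep (counitApp hrep hf V)).hom.left ≫ hrep.fst V.obj.hom =
      hrep.fst (hrep.fst V.obj.hom ≫ f) :=
    EtOver.map_bcMap_fst hrep (counitApp hrep hf V)
  have h2 : (EtOver.bcMap hrep (counitApp hrep hf V)).hom.left ≫ hrep.snd V.obj.hom =
      hrep.snd (hrep.fst V.obj.hom ≫ f) ≫ hrep.snd V.obj.hom :=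
    EtOver.bcMap_snd hrep (counitApp hrep hf V)
  have h3 : unitLift hrep ((EtOver.bc hrep).obj V) ≫ hrep.snd (hrep.fst V.obj.hom ≫ f) = 𝟙 _ :=
    unitLift_snd hrep _
  have h4 : (yon S).map (unitLift hrep ((EtOver.bc hrep).obj V)) ≫
      hrep.fst (hrep.fst V.obj.hom ≫ f) = hrep.fst V.obj.hom :=
    unitLift_fst hrep _
  refine hrep.hom_ext ?_ ?_
  · have h5 : (yon S).map (𝟙 (hrep.pullback V.obj.hom)) = 𝟙 _ := (yon S).map_id _
    rw [Functor.map_comp, Category.assoc, h1, h4, h5]
    exact (Category.id_comp _).symm
  · rw [Category.assoc, h2, ← Category.assoc, h3]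
    rfl

/-- Postcomposition with an etale representable `f` is left adjoint to base change along `f`. -/
noncomputable def adj : EtOver.postcomp f hf ⊣ EtOver.bc hrep where
  unit :=
    { app := fun E => unitApp hrep hf E
      naturality := fun E E' g => EtOver.hom_ext _ _ (unit_nat hrep hf g) }
  counit :=
    { app := fun V => counitApp hrep hf V
      naturality := fun V V' g => EtOver.hom_ext _ _ (EtOver.bcMap_snd hrep g) }
  left_triangle_components E := EtOver.hom_ext _ _ (unitLift_snd hrep E)
  right_triangle_components V := EtOver.hom_ext _ _ (right_tri hrep hf V)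

/-- The identification `O_X ⟶ j_* O_Y` (identity on sections). -/
noncomputable def φ :
    OEtRing X ⟶ ((EtOver.postcomp f hf).sheafPushforwardContinuous RingCat.{u + 1}
      (etTop X) (etTop Y)).obj (OEtRing Y) :=
  ObjectProperty.homMk
    { app := fun E => 𝟙 ((OEtRing X).obj.obj E)
      naturality := fun E E' g => (Category.comp_id _).trans (Category.id_comp _).symm }

theorem H₁ : Functor.whiskerRight (NatTrans.op (adj hrep hf).counit) (OEtRing Y).obj =
    (bcRingHom hrep).hom ≫ (EtOver.bc hrep).op.whiskerLeft (φ hf).hom := by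
  ext V : 2
  exact (Category.comp_id _).symm

theorem H₂ : (φ hf).hom ≫ (EtOver.postcomp f hf).op.whiskerLeft (bcRingHom hrep).hom ≫
    Functor.whiskerRight (NatTrans.op (adj hrep hf).unit) (OEtRing X).obj = 𝟙 (OEtRing X).obj := by
  ext E : 2
  change 𝟙 _ ≫ (BigSite.ORing Scheme.etalePrecoverage S).obj.map
      (hrep.snd (E.unop.obj.hom ≫ f)).op ≫
    (BigSite.ORing Scheme.etalePrecoverage S).obj.map (unitLift hrep E.unop).op = 𝟙 _
  rw [Category.id_comp, ← Functor.map_comp, ← op_comp, unitLift_snd, op_id]
  exact (BigSite.ORing Scheme.etalePrecoverage S).obj.map_id _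

theorem pfl : PreservesFiniteLimits
    (SheafOfModules.pushforward.{u + 1} (φ (f := f) hf)) :=
  Groth.Agent.Lib.Helper16.PushLim.preservesFiniteLimits_pushforward.{u + 1} (φ hf)

end aux


/-- Exactness clause, for a representable etale morphism: let f : X ⟶ Y be a representable etale
morphism of algebraic spaces over a scheme S. Then the pullback functor f^* from O_Y-modules to
O_X-modules on the small etale sites is exact: it preserves finite limits (finite colimits being
preserved because it is a left adjoint). (The published statement is for every etale morphism of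
algebraic spaces and also identifies f^* with restriction along the functor (U ⟶ X) ↦ (U ⟶ X ⟶ Y);
this row records exactness for representable f, where f^* is the left adjoint of the direct image V
↦ (V ×_Y X).) -/
theorem result {S : Scheme.{u}} {X Y : AlgSp.Space S} (f : X ⟶ Y)
    (hrep : AlgSp.Representable f.hom) (hf : AlgSp.IsEtaleMor f.hom)
    [(SheafOfModules.pushforward.{u + 1} (AlgSp.bcRingHom hrep)).IsRightAdjoint] :
    PreservesFiniteLimits (AlgSp.pullModEt hrep) := by
  haveI := pfl (f := f.hom) hf
  exact preservesFiniteLimits_of_natIso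
    (Adjunction.leftAdjointUniq
      (SheafOfModules.pushforwardPushforwardAdj.{u + 1} (adj hrep hf) (φ hf) (bcRingHom hrep)
        (H₁ hrep hf) (H₂ hrep hf))
      (pullPushAdjModEt hrep))
end Groth.Agent.S10252
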