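import Groth.Statements.S10260
import Groth.Agent.Lib.Helper16.ZmtSp5

set_option autoImplicit false
universe u
open CategoryTheory CategoryTheory.Limits AlgebraicGeometry
open AlgSp

namespace Groth.Agent.S10260

open Groth.Agent.Lib.Helper15 Groth.Agent.Lib.Helper16 Groth.Agent.Lib.Helper16.SchLocus
  Groth.Agent.Lib.Helper16.ZmtSp


/-- A locally quasi-finite separated morphism of algebraic spaces is representable by schemes. -/
theorem result {S : Scheme.{u}} {X Y : AlgSp.Space S} (f : X ⟶ Y)
    (hqf : AlgSp.LocP (@LocallyQuasiFinite ⊓ @LocallyOfFiniteType) f.hom) (hsep : AlgSp.IsSeparatedMor f.hom) :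
    AlgSp.Representable f.hom := by
  have hX := X.property
  have hY := Y.property
  intro T t
  have sq := IsPullback.of_hasPullback f.hom t
  have hPs : IsAlgSpace (pullback f.hom t) := isAlgSpace_of_isPullback hX hY.diag (IsAlgSpace.yon_obj T) sq
  have hpqf : LocP (@LocallyQuasiFinite ⊓ @LocallyOfFiniteType) (pullback.snd f.hom t) :=
    locP_of_isPullback etLocalST_locallyQuasiFinite hX hY sq hqf
  have hpsep : IsSeparatedMor (pullback.snd f.hom t) := isSeparatedMor_of_isPullback sq hsep
  have hall : ∀ x : Points (pullback f.hom t), x ∈ schLocus (pullback f.hom t) := fun x =>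
    mem_schLocus_of_lqf_separated hPs (pullback.snd f.hom t) hpqf hpsep x
  obtain ⟨M, ⟨e⟩⟩ := exists_iso_yon_of_isRepresentable (isRepresentable_of_forall_mem_schLocus hPs hall)
  obtain ⟨m, hm⟩ := (yon S).map_surjective (e.hom ≫ pullback.snd f.hom t)
  refine ⟨M, m, e.hom ≫ pullback.fst f.hom t, ?_⟩
  have sqIso : IsPullback e.hom ((yon S).map m) (pullback.snd f.hom t) (𝟙 _) :=
    IsPullback.of_horiz_isIso ⟨by rw [hm, Category.comp_id]⟩
  have h3 := sqIso.paste_horiz sq
  rwa [Category.id_comp] at h3

end Groth.Agent.S10260
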