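import Groth.Statements.S10261
import Mathlib
import Groth.Agent.Lib.Helper17.AlgSpUnram
import Groth.Agent.Lib.Helper16.UnivInj
import Groth.Agent.Lib.Helper16.LocPSource
import Groth.Agent.Lib.Helper16.FppfLocal2

set_option autoImplicit false
universe u
open CategoryTheory CategoryTheory.Limits AlgebraicGeometry
open AlgSp

namespace Groth.Agent.S10261

/-- An etale and universally injective morphism of algebraic spaces is an open immersion. -/
theorem result {S : Scheme.{u}} {X Y : AlgSp.Space S}
    (f : X ⟶ Y) (het : AlgSp.IsEtaleMor f.hom) (hinj : AlgSp.IsUnivInjectiveMor f.hom) :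
    AlgSp.RepWith @IsOpenImmersion f.hom := by
  have hX := X.property
  have hY := Y.property
  have hlocE : LocP @Etale f.hom := (Groth.Agent.Lib.Helper16.isEtaleMor_iff_locP_etale hY f.hom).1 het
  have hunr : LocP (@LocallyOfFiniteType ⊓ @FormallyUnramified) f.hom := by
    refine Groth.Agent.Lib.Helper16.locP_mono ?_ hlocE
    intro A B g hg
    have : Etale g := hg
    exact ⟨(inferInstance : LocallyOfFiniteType g), (inferInstance : FormallyUnramified g)⟩
  have hΔ : RepWith @IsOpenImmersion (pullback.diagonal f.hom) :=
    Groth.Agent.Lib.Helper17.repWith_isOpenImmersion_diagonal_of_locP_unramified hX hY f.hom hunr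
  have hsurj : IsSurjectiveMor (pullback.diagonal f.hom) :=
    (Groth.Agent.Lib.Helper16.injOnFieldPoints_iff_diagonal_surjective hX.diag f.hom).1
      ((Groth.Agent.Lib.Helper16.isUnivInjectiveMor_iff_injOnFieldPoints hX.diag f.hom).2 hinj)
  have hΔet : IsEtaleMor (pullback.diagonal f.hom) := by
    intro U φ hφ
    refine (RepWith (S := S) @Etale).comp_mem _ _ hφ ?_
    refine Groth.Agent.Lib.Helper16.repWith_mono ?_ _ hΔ
    intro A B g hg
    have : IsOpenImmersion g := hg
    exact (inferInstance : Etale g)
  have hiso : IsIso (pullback.diagonal f.hom) :=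
    Groth.Agent.Lib.Helper16.isIso_of_etale_mono_surjective hX _ hΔet hsurj
  have hmono : Mono f.hom := (pullback.isIso_diagonal_iff f.hom).1 hiso
  exact Groth.Agent.Lib.Helper16.repWith_isOpenImmersion_of_etale_mono hX hY f.hom hlocE

end Groth.Agent.S10261
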