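import Groth.Statements.S10265
import Mathlib
import Groth.Agent.Lib.Helper16.LocPInst
import Groth.Agent.Lib.Helper16.LocPSource

set_option autoImplicit false
universe u
open CategoryTheory CategoryTheory.Limits AlgebraicGeometry
open AlgSp

namespace Groth.Agent.S10265

/-- Whenever a morphism of algebraic spaces is etale, it is, etale locally on both source and target,
smooth, flat, unramified, locally quasi-finite, locally of finite type and locally of finite
presentation. -/
theorem result {S : Scheme.{u}} {X Y : AlgSp.Space S} (f : X ⟶ Y) (hf : AlgSp.IsEtaleMor f.hom) :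
    AlgSp.LocP (@LocallyQuasiFinite ⊓ @LocallyOfFiniteType) f.hom ∧ AlgSp.LocP @Smooth f.hom ∧
    AlgSp.LocP @Flat f.hom ∧ AlgSp.LocP @LocallyOfFinitePresentation f.hom ∧
    AlgSp.LocP @LocallyOfFiniteType f.hom ∧ AlgSp.LocP (@LocallyOfFiniteType ⊓ @FormallyUnramified) f.hom := by
  have h := (Groth.Agent.Lib.Helper16.isEtaleMor_iff_locP_etale Y.property f.hom).1 hf
  refine ⟨Groth.Agent.Lib.Helper16.locP_mono ?_ h, Groth.Agent.Lib.Helper16.locP_mono ?_ h,
    Groth.Agent.Lib.Helper16.locP_mono ?_ h, Groth.Agent.Lib.Helper16.locP_mono ?_ h,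
    Groth.Agent.Lib.Helper16.locP_mono ?_ h, Groth.Agent.Lib.Helper16.locP_mono ?_ h⟩
  · intro A B g hg
    have : Etale g := hg
    exact Groth.Agent.Lib.Helper16.etLocalST_locallyQuasiFinite.etale_le _ _ g hg
  · intro A B g hg
    have : Etale g := hg
    exact (inferInstance : Smooth g)
  · intro A B g hg
    have : Etale g := hg
    exact (inferInstance : Flat g)
  · intro A B g hg
    have : Etale g := hg
    exact (inferInstance : LocallyOfFinitePresentation g)
  · intro A B g hg
    have : Etale g := hg
    exact (inferInstance : LocallyOfFiniteType g)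
  · intro A B g hg
    have : Etale g := hg
    exact ⟨(inferInstance : LocallyOfFiniteType g), (inferInstance : FormallyUnramified g)⟩

end Groth.Agent.S10265
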