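import Groth.Statements.S10267
import Groth.Agent.Lib.Helper16.AffRep
open Groth.Agent.Lib.Helper16

set_option autoImplicit false
universe u
open CategoryTheory CategoryTheory.Limits AlgebraicGeometry
open AlgSp

namespace Groth.Agent.S10267

/-- (1) ⇔ (2): a morphism of algebraic spaces is integral (resp. finite), tested on affine schemes over
the target, if and only if it is representable with integral (resp. finite) base changes to all
schemes. -/
theorem result {S : Scheme.{u}} {X Y : AlgSp.Space S} (f : X ⟶ Y) :
    (AlgSp.IsIntegralMor f.hom ↔ AlgSp.RepWith @IsIntegralHom f.hom) ∧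
    (AlgSp.IsFiniteMor f.hom ↔ AlgSp.RepWith @IsFinite f.hom) := by
  have h1 : (@IsIntegralHom : MorphismProperty Scheme.{u}) ≤ @IsAffineHom := fun _ _ f hf => by
    have : IsIntegralHom f := hf
    infer_instance
  have h2 : (@IsFinite : MorphismProperty Scheme.{u}) ≤ @IsAffineHom := fun _ _ f hf => by
    have : IsFinite f := hf
    infer_instance
  refine ⟨⟨fun h => ?_, fun h => ?_⟩, ⟨fun h => ?_, fun h => ?_⟩⟩
  · rw [isIntegralMor_eq_affWith] at h
    exact repWith_of_affWith X.property Y.property f.hom h
  · rw [isIntegralMor_eq_affWith]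
    exact affWith_of_repWith h1 f.hom h
  · rw [isFiniteMor_eq_affWith] at h
    exact repWith_of_affWith X.property Y.property f.hom h
  · rw [isFiniteMor_eq_affWith]
    exact affWith_of_repWith h2 f.hom h

end Groth.Agent.S10267
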