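import Groth.Statements.S10268
import Groth.Agent.Lib.Helper16.AffDescEtale
import Groth.Agent.S0084
import Groth.Agent.S0085
open Groth.Agent.Lib.Helper16

set_option autoImplicit false
universe u
open CategoryTheory CategoryTheory.Limits AlgebraicGeometry
open AlgSp

namespace Groth.Agent.S10268

/-- (3) ⇒ (2): integrality and finiteness of a morphism of algebraic spaces descend along a surjective
etale base change from a scheme. -/
theorem result {S : Scheme.{u}} {X Y : AlgSp.Space S} (f : X ⟶ Y) (V : Over S)
    (p : (AlgSp.yon S).obj V ⟶ Y.obj) (hp : AlgSp.RepWith @Etale p) (hps : AlgSp.RepWith @Surjective p)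
    {P : AlgSp.Sp S} (fst : P ⟶ X.obj) (snd : P ⟶ (AlgSp.yon S).obj V) (sq : IsPullback fst snd f.hom p) :
    (AlgSp.IsIntegralMor snd → AlgSp.IsIntegralMor f.hom) ∧ (AlgSp.IsFiniteMor snd → AlgSp.IsFiniteMor f.hom) := by
  have i1 := Groth.Agent.S0084.result.{u}
  have i2 := Groth.Agent.S0085.result.{u}
  refine ⟨fun h => ?_, fun h => ?_⟩
  · rw [isIntegralMor_eq_affWith] at h ⊢
    exact affWith_of_fpqcRefines Y.property _ _ (fpqcRefines_chart Y.property p hp hps) X.property f.hom
      (fun _ => P) (fun _ => snd) (fun _ => fst) (fun _ => sq) (fun _ => h)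
  · rw [isFiniteMor_eq_affWith] at h ⊢
    exact affWith_of_fpqcRefines Y.property _ _ (fpqcRefines_chart Y.property p hp hps) X.property f.hom
      (fun _ => P) (fun _ => snd) (fun _ => fst) (fun _ => sq) (fun _ => h)

end Groth.Agent.S10268
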