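import Groth.Statements.S10273
import Mathlib
import Groth.Agent.Lib.Helper17.AlgSpProper
import Groth.Agent.Lib.Helper17.AlgSpLocP
import Groth.Agent.S9903
import Groth.Agent.S9917
import Groth.Agent.S9923
import Groth.Agent.Lib.Helper16.QuasiCompact

set_option autoImplicit false
universe u
open CategoryTheory CategoryTheory.Limits AlgebraicGeometry
open AlgSp

namespace Groth.Agent.S10273

/-- (1) ⇔ (3): properness of a morphism of algebraic spaces can be tested after base change to affine
schemes over the target. -/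
theorem result {S : Scheme.{u}} {X Y : AlgSp.Space S} (f : X ⟶ Y) :
    AlgSp.IsProperMor f.hom ↔
      ∀ (Z : Over S), IsAffine Z.left → ∀ (g : (AlgSp.yon S).obj Z ⟶ Y.obj) (P : AlgSp.Sp S) (fst : P ⟶ X.obj)
        (snd : P ⟶ (AlgSp.yon S).obj Z), IsPullback fst snd f.hom g → AlgSp.IsProperMor snd := by
  constructor
  · intro hf Z hZ g P fst snd sq
    exact Groth.Agent.Lib.Helper17.isProperMor_of_isPullback X.property Y.property sq hf
  · intro h
    refine ⟨?_, ⟨?_, ?_⟩, ?_⟩
    · exact (Groth.Agent.S9903.result f).1.2 (fun Z hZ g P fst snd sq => (h Z hZ g P fst snd sq).1)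
    · apply Groth.Agent.Lib.Helper17.locP_of_affine_base_change
        Groth.Agent.Lib.Helper16.etLocalST_locallyOfFiniteType
      intro Z hZ g
      exact Groth.Agent.Lib.Helper17.srcP_of_locP_to_yon
        (h Z hZ g _ _ _ (IsPullback.of_hasPullback f.hom g)).2.1.1
    · refine (Groth.Agent.S9917.result f).2 (fun Z hZ g P fst snd sq => ?_)
      have hq := (h Z hZ g P fst snd sq).2.1.2
      have hZ' : IsAffine Z.left := hZ
      have : CompactSpace (Points ((yon S).obj Z)) := (Points.schemeHomeo Z).compactSpace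
      exact hq (IsAlgSpace.yon_obj Z)
        (Groth.Agent.Lib.Helper16.isQuasiCompactSp_of_compactSpace (IsAlgSpace.yon_obj Z)) (𝟙 _) (𝟙 P) snd
        (IsPullback.of_horiz_isIso ⟨by rw [Category.id_comp, Category.comp_id]⟩)
    · refine (Groth.Agent.S9923.result f).2 (fun Z hZ g P fst snd sq => ?_)
      exact Groth.Agent.Lib.Helper17.isClosedMor_of_isUnivClosedMor (IsAlgSpace.yon_obj Z)
        (h Z hZ g P fst snd sq).2.2

end Groth.Agent.S10273
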