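import Groth.Statements.S10274
import Mathlib
import Groth.Agent.S9904
import Groth.Agent.S9949
import Groth.Agent.S9924
import Groth.Agent.Lib.Helper16.QuasiCompactMor2
import Groth.Agent.Lib.Helper16.Rep

set_option autoImplicit false
universe u
open CategoryTheory CategoryTheory.Limits AlgebraicGeometry
open AlgSp

namespace Groth.Agent.S10274

/-- (4) ⇒ (1): properness of a morphism of algebraic spaces descends along a surjective etale base
change from a scheme. -/
theorem result {S : Scheme.{u}} {X Y : AlgSp.Space S} (f : X ⟶ Y) (V : Over S)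
    (p : (AlgSp.yon S).obj V ⟶ Y.obj) (hp : AlgSp.RepWith @Etale p) (hps : AlgSp.RepWith @Surjective p)
    {P : AlgSp.Sp S} (fst : P ⟶ X.obj) (snd : P ⟶ (AlgSp.yon S).obj V) (sq : IsPullback fst snd f.hom p)
    (h : AlgSp.IsProperMor snd) : AlgSp.IsProperMor f.hom := by
  obtain ⟨hsep, ⟨hlft, hqc⟩, huc⟩ := h
  refine ⟨(Groth.Agent.S9904.result f V p hp hps fst snd sq).1 hsep,
    ⟨Groth.Agent.S9949.result f V p hp hps fst snd sq hlft, ?_⟩,
    Groth.Agent.S9924.result f V p hp hps fst snd sq huc⟩
  refine Groth.Agent.Lib.Helper16.isQuasiCompactMor_of_etale_surjective_base X.property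
    Y.property.diag (IsAlgSpace.yon_obj V) f.hom p fst snd sq ?_ ?_ hqc
  · intro U φ hφ
    exact (RepWith (S := S) @Etale).comp_mem _ _ hφ hp
  · exact (Groth.Agent.Lib.Helper16.repWith_surjective_iff p hps.rep).1 hps

end Groth.Agent.S10274
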