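import Groth.Statements.S10278
import Mathlib
import Groth.Agent.Lib.Helper17.AlgSpProper
import Groth.Agent.S9919
import Groth.Agent.Lib.Helper16.LocP
import Groth.Agent.Lib.Helper16.FppfLocal2

set_option autoImplicit false
universe u
open CategoryTheory CategoryTheory.Limits AlgebraicGeometry
open AlgSp

namespace Groth.Agent.S10278

/-- Over a separated Y -> B, a morphism X -> Y from a space universally closed (resp. proper) over B is
universally closed with closed image (resp. proper). -/
theorem result {S : Scheme.{u}} {X Y B : AlgSp.Space S} (f : X ⟶ Y) (p : X ⟶ B)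
    (q : Y ⟶ B) (comm : f ≫ q = p) (hq : AlgSp.IsSeparatedMor q.hom) :
    (AlgSp.IsUnivClosedMor p.hom →
      AlgSp.IsUnivClosedMor f.hom ∧ IsClosed (Set.range (AlgSp.Points.map f.hom))) ∧
    (AlgSp.IsProperMor p.hom → AlgSp.IsProperMor f.hom) := by
  have hc : p.hom = f.hom ≫ q.hom := by rw [← comm]; rfl
  have huc : IsUnivClosedMor p.hom → IsUnivClosedMor f.hom := by
    intro hp
    rw [hc] at hp
    exact Groth.Agent.Lib.Helper17.isUnivClosedMor_of_comp_of_separated X.property Y.property
      B.property.diag f.hom q.hom hq hp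
  refine ⟨fun hp => ⟨huc hp, ?_⟩, ?_⟩
  · have hcl := Groth.Agent.Lib.Helper17.isClosedMor_of_isUnivClosedMor Y.property (huc hp)
    rw [← Set.image_univ]
    exact hcl _ isClosed_univ
  · rintro ⟨hsep, ⟨hlft, hqc⟩, hu⟩
    refine ⟨?_, ⟨?_, ?_⟩, huc hu⟩
    · rw [hc] at hsep
      exact Groth.Agent.Lib.Helper17.isSeparatedMor_of_comp f.hom q.hom hsep
    · rw [hc] at hlft
      exact Groth.Agent.Lib.Helper16.locP_lft_of_comp B.property f.hom q.hom hlft
    · refine Groth.Agent.S9919.result f q ?_ ?_
      · rw [comm]; exact hqc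
      · refine Groth.Agent.Lib.Helper16.repWith_mono ?_ _ hq
        intro A B' j hj
        have : IsClosedImmersion j := hj
        exact (inferInstance : QuasiCompact j)

end Groth.Agent.S10278
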