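import Groth.Statements.S10279
import Mathlib
import Groth.Agent.Lib.Helper16.Points

set_option autoImplicit false
universe u
open CategoryTheory CategoryTheory.Limits AlgebraicGeometry
open AlgSp

namespace Groth.Agent.S10279

/-- The target of a surjective morphism over B from a space universally closed over B is universally
closed over B (hence proper over B as soon as it is also separated and of finite type over B, by
definition). -/
theorem result {S : Scheme.{u}} {X Y B : AlgSp.Space S} (f : X ⟶ Y) (p : X ⟶ B)
    (q : Y ⟶ B) (comm : f ≫ q = p) (hp : AlgSp.IsUnivClosedMor p.hom) (hf : AlgSp.IsSurjectiveMor f.hom) :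
    AlgSp.IsUnivClosedMor q.hom := by
  intro W W' hW t fst snd sq
  have sq2 := IsPullback.of_hasPullback f.hom fst
  have sq3 : IsPullback (pullback.fst f.hom fst) (pullback.snd f.hom fst ≫ snd) (f.hom ≫ q.hom) t :=
    sq2.paste_vert sq
  have hp' : IsUnivClosedMor (f.hom ≫ q.hom) := by
    have : (f ≫ q).hom = f.hom ≫ q.hom := rfl
    rw [← this, comm]
    exact hp
  have hcl : IsClosedMap (Points.map (pullback.snd f.hom fst ≫ snd)) := hp' hW t _ _ sq3
  have hsurj : Function.Surjective (Points.map (pullback.snd f.hom fst)) := by
    intro y'
    obtain ⟨x, hx⟩ := hf (Points.map fst y')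
    obtain ⟨z, -, hz⟩ := Groth.Agent.Lib.Helper16.exists_point_of_isPullback sq2 x y' hx
    exact ⟨z, hz⟩
  have hcomp : Points.map (pullback.snd f.hom fst ≫ snd)
      = Points.map snd ∘ Points.map (pullback.snd f.hom fst) :=
    funext fun x => Points.map_comp _ _ x
  rw [hcomp] at hcl
  change IsClosedMap (Points.map snd)
  intro K hK
  have : Points.map snd '' K
      = (Points.map snd ∘ Points.map (pullback.snd f.hom fst)) ''
        (Points.map (pullback.snd f.hom fst) ⁻¹' K) := by
    rw [Set.image_comp, Set.image_preimage_eq K hsurj]
  rw [this]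
  exact hcl _ (hK.preimage (Points.continuous_map _))

end Groth.Agent.S10279
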