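import Groth.Statements.S10281
import Groth.Agent.Lib.Helper16.SchImgDense
import Groth.Agent.Lib.Helper17.AlgSpProper
import Groth.Agent.S10278
import Groth.Agent.S10279
import Groth.Agent.S9915
import Groth.Agent.S10191
open Groth.Agent.Lib.Helper16

set_option autoImplicit false
universe u
open CategoryTheory CategoryTheory.Limits AlgebraicGeometry
open AlgSp

namespace Groth.Agent.S10281

/-- The scheme theoretic image of a space proper over B in a space separated and locally of finite type
over B is proper over B, and the source surjects onto it. -/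
theorem result {S : Scheme.{u}} {X Y Z B : AlgSp.Space S} (h : X ⟶ Y) (f : X ⟶ B)
    (g : Y ⟶ B) (comm : h ≫ g = f) (hf : AlgSp.IsProperMor f.hom) (hg : AlgSp.IsSeparatedMor g.hom)
    (hg' : AlgSp.LocP @LocallyOfFiniteType g.hom) (i : Z ⟶ Y) (hZ : AlgSp.IsSchImage h.hom i.hom)
    (h' : X ⟶ Z) (fac : h' ≫ i = h) :
    AlgSp.IsProperMor (i ≫ g).hom ∧ AlgSp.IsSurjectiveMor h'.hom := by
  classical
  obtain ⟨hfsep, ⟨hflft, hfqc⟩, hfuc⟩ := hf
  have h1 := Groth.Agent.S10278.result h f g comm hg
  obtain ⟨hhuc, hhcl⟩ := h1.1 hfuc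
  have hhprop : IsProperMor h.hom := h1.2 ⟨hfsep, ⟨hflft, hfqc⟩, hfuc⟩
  have hhqc : IsQuasiCompactMor h.hom := hhprop.2.1.2
  -- surjectivity onto the scheme theoretic image
  have hsub := SchImg.range_subset_closure_of_isSchImage X.property Y.property Z.property h.hom hhqc i.hom hZ
  rw [hhcl.closure_eq] at hsub
  have hiimm : RepWith @IsImmersion i.hom :=
    repWith_mono (fun _ _ k hk => by
      have : IsClosedImmersion k := hk
      exact (inferInstance : IsImmersion k)) _ hZ.1
  have hinj : Function.Injective (Points.map i.hom) := (Groth.Agent.S10191.result i hiimm).1.injective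
  have hfac : h'.hom ≫ i.hom = h.hom := by
    rw [← fac]
    rfl
  have hsurj : IsSurjectiveMor h'.hom := by
    intro z
    obtain ⟨x, hx⟩ := hsub ⟨z, rfl⟩
    refine ⟨x, hinj ?_⟩
    rw [← Points.map_comp, hfac, hx]
  refine ⟨?_, hsurj⟩
  have hcomm : h' ≫ (i ≫ g) = f := by
    rw [← Category.assoc, fac, comm]
  have hisep : IsSeparatedMor i.hom := by
    haveI : Mono i.hom := SchImg.mono_of_repWith_isClosedImmersion _ hZ.1
    exact Groth.Agent.Lib.Helper17.repWith_of_isIso @IsClosedImmersion (pullback.diagonal i.hom)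
  have hilft : LocP @LocallyOfFiniteType i.hom := by
    refine locP_of_repWith @LocallyOfFiniteType @IsClosedImmersion ?_ _ hZ.1
    intro A B C m k hm hk
    have : Etale m := hm
    have : IsClosedImmersion k := hk
    exact (inferInstance : LocallyOfFiniteType (m ≫ k))
  refine ⟨?_, ⟨?_, ?_⟩, ?_⟩
  · exact (RepWith (S := S) @IsClosedImmersion).diagonal.comp_mem i.hom g.hom hisep hg
  · exact locP_comp etLocalST_locallyOfFiniteType Z.property Y.property B.property i.hom g.hom hilft hg'
  · exact Groth.Agent.S9915.result h' f (i ≫ g) hcomm hsurj hfqc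
  · exact Groth.Agent.S10279.result h' f (i ≫ g) hcomm hfuc hsurj

end Groth.Agent.S10281
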