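import Groth.Statements.S10288
import Groth.Agent.Lib.Helper16.ValCrit1
open Groth.Agent.Lib.Helper16

set_option autoImplicit false
universe u
open CategoryTheory CategoryTheory.Limits AlgebraicGeometry
open AlgSp

namespace Groth.Agent.S10288

/-- A quasi-compact morphism of algebraic spaces satisfying the existence part of the valuative
criterion is universally closed. -/
theorem result {S : Scheme.{u}} {X Y : AlgSp.Space S} (f : X ⟶ Y)
    (hq : AlgSp.IsQuasiCompactMor f.hom) (he : AlgSp.ExistVC f.hom) : AlgSp.IsUnivClosedMor f.hom := by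
  refine (univSp_iff_affine isEtaleLocalOnBase_isClosedMor f.hom).2 ?_
  intro Z hZ g P fst snd sq
  haveI := hZ
  have hPq : IsQuasiCompactSp P :=
    hq (IsAlgSpace.yon_obj Z) (isQuasiCompactSp_yon_of_compactSpace Z) g fst snd sq
  exact ValCrit.isClosedMap_of_existVC hPq snd (ValCrit.existVC_of_isPullback sq he)

end Groth.Agent.S10288
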