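import Groth.Statements.S10289
import Groth.Agent.Lib.Helper16.ValCrit3
import Groth.Agent.S10423
open Groth.Agent.Lib.Helper16

set_option autoImplicit false
universe u
open CategoryTheory CategoryTheory.Limits AlgebraicGeometry
open AlgSp

namespace Groth.Agent.S10289

/-- A quasi-separated universally closed morphism of algebraic spaces meets the existence half of the
valuative criterion. -/
theorem result {S : Scheme.{u}} {X Y : AlgSp.Space S} (f : X ⟶ Y)
    (hqs : AlgSp.IsQuasiSeparatedMor f.hom) (hc : AlgSp.IsUnivClosedMor f.hom) : AlgSp.ExistVC f.hom := by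
  have hd : IsDecentMor f.hom := (Groth.Agent.S10423.result f).2 hqs
  intro sq
  have psq := IsPullback.of_hasPullback f.hom sq.bot
  exact ValCrit.hasLiftExt_of_isClosedMap sq psq
    (isAlgSpace_of_isPullback X.property Y.property.diag (IsAlgSpace.yon_obj _) psq)
    (hd sq.bot _ _ psq) (hc (IsAlgSpace.yon_obj _) sq.bot _ _ psq)

end Groth.Agent.S10289
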