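import Groth.Statements.S10291
import Groth.Agent.Lib.Helper16.ValCrit2
import Groth.Agent.S10280
open Groth.Agent.Lib.Helper16

set_option autoImplicit false
universe u
open CategoryTheory CategoryTheory.Limits AlgebraicGeometry
open AlgSp

namespace Groth.Agent.S10291

/-- A quasi-separated morphism of algebraic spaces satisfying the uniqueness part of the valuative
criterion is separated. -/
theorem result {S : Scheme.{u}} {X Y : AlgSp.Space S} (f : X ⟶ Y)
    (hqs : AlgSp.IsQuasiSeparatedMor f.hom) (hu : AlgSp.UniqVC f.hom) : AlgSp.IsSeparatedMor f.hom := by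
  refine (Groth.Agent.S10280.result f).1.2 ?_
  exact ValCrit.isUnivClosedMor_of_quasiCompact_existVC _ (isQuasiCompactMor_of_repWith_quasiCompact _ hqs)
    (ValCrit.existVC_of_existVCStrict (ValCrit.existVCStrict_diagonal_of_uniqVC hu))

end Groth.Agent.S10291
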