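import Groth.Statements.S10293
import Groth.Agent.Lib.Helper16.AffRep
import Groth.Agent.S9867
open Groth.Agent.Lib.Helper16

set_option autoImplicit false
universe u
open CategoryTheory CategoryTheory.Limits AlgebraicGeometry
open AlgSp

namespace Groth.Agent.S10293

/-- (3) ⇒ (1): being finite locally free descends along a surjective etale base change from a scheme. -/
theorem result {S : Scheme.{u}} {X Y : AlgSp.Space S} (f : X ⟶ Y) (V : Over S)
    (p : (AlgSp.yon S).obj V ⟶ Y.obj) (hp : AlgSp.RepWith @Etale p) (hps : AlgSp.RepWith @Surjective p)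
    {P : AlgSp.Sp S} (fst : P ⟶ X.obj) (snd : P ⟶ (AlgSp.yon S).obj V) (sq : IsPullback fst snd f.hom p)
    (h : AlgSp.IsFinLocFreeMor snd) : AlgSp.IsFinLocFreeMor f.hom := by
  have hdesc : MorphismProperty.DescendsAlong (AlgSp.finLocFree.{u})
      (@Surjective ⊓ @Flat ⊓ @QuasiCompact : MorphismProperty Scheme.{u}) := Groth.Agent.S9867.result.{u}.1
  have heq : (AlgSp.finLocFree.{u}) =
      ((@IsFinite ⊓ @Flat ⊓ @LocallyOfFinitePresentation : MorphismProperty Scheme.{u})) := by
    ext X Y f
    exact ⟨fun h => ⟨⟨h.1, h.2.1⟩, h.2.2⟩, fun h => ⟨h.1.1, h.1.2, h.2⟩⟩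
  have hloc : IsZariskiLocalAtTarget (AlgSp.finLocFree.{u}) := by
    rw [heq]
    infer_instance
  exact repWith_of_fpqcRefines_of_le_isAffineHom (fun _ _ f hf => by
      have : IsFinite f := hf.1
      infer_instance) Y.property _ _ (fpqcRefines_chart Y.property p hp hps) X.property f.hom
    (fun _ => P) (fun _ => snd) (fun _ => fst) (fun _ => sq) (fun _ => h)

end Groth.Agent.S10293
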