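import Groth.Statements.S10294
import Groth.Agent.Lib.Helper16.AffRep
open Groth.Agent.Lib.Helper16

set_option autoImplicit false
universe u
open CategoryTheory CategoryTheory.Limits AlgebraicGeometry
open AlgSp

namespace Groth.Agent.S10294

/-- Finite locally free is the same as finite, flat and locally of finite presentation; over a locally
Noetherian target it is the same as finite and flat. -/
theorem result {S : Scheme.{u}} {X Y : AlgSp.Space S} (f : X ⟶ Y) :
    (AlgSp.IsFinLocFreeMor f.hom ↔
      (AlgSp.IsFiniteMor f.hom ∧ AlgSp.LocP @Flat f.hom ∧ AlgSp.LocP @LocallyOfFinitePresentation f.hom)) ∧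
    (AlgSp.IsLocNoethSp Y.obj →
      (AlgSp.IsFinLocFreeMor f.hom ↔ (AlgSp.IsFiniteMor f.hom ∧ AlgSp.LocP @Flat f.hom))) := by
  have heq : (AlgSp.finLocFree.{u}) =
      ((@IsFinite ⊓ @Flat ⊓ @LocallyOfFinitePresentation : MorphismProperty Scheme.{u})) := by
    ext X Y f
    exact ⟨fun h => ⟨⟨h.1, h.2.1⟩, h.2.2⟩, fun h => ⟨h.1.1, h.1.2, h.2⟩⟩
  have hloc : IsZariskiLocalAtTarget (AlgSp.finLocFree.{u}) := by
    rw [heq]
    infer_instance
  have hle : AlgSp.finLocFree.{u} ≤ @IsAffineHom := fun _ _ f hf => by
    have : IsFinite f := hf.1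
    infer_instance
  have hleF : (@IsFinite : MorphismProperty Scheme.{u}) ≤ @IsAffineHom := fun _ _ f hf => by
    have : IsFinite f := hf
    infer_instance
  have key : AlgSp.IsFinLocFreeMor f.hom ↔
      (AlgSp.IsFiniteMor f.hom ∧ AlgSp.LocP @Flat f.hom ∧ AlgSp.LocP @LocallyOfFinitePresentation f.hom) := by
    constructor
    · intro h
      refine ⟨?_, ?_, ?_⟩
      · intro Z hZ g
        obtain ⟨W, i, fst, sq, hW, hi⟩ := affWith_of_repWith hle f.hom h hZ g
        exact ⟨W, i, fst, sq, hW, hi.1⟩
      · exact (locP_iff_repWith etLocalST_flat X.property Y.property f.hom h.rep).2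
          (MorphismProperty.relative_monotone (fun _ _ k hk => hk.2.1) _ h)
      · exact (locP_iff_repWith etLocalST_locallyOfFinitePresentation X.property Y.property f.hom h.rep).2
          (MorphismProperty.relative_monotone (fun _ _ k hk => hk.2.2) _ h)
    · rintro ⟨h1, h2, h3⟩
      have hrep : AlgSp.RepWith @IsFinite f.hom := repWith_of_affWith X.property Y.property f.hom h1
      have h2' := (locP_iff_repWith etLocalST_flat X.property Y.property f.hom hrep.rep).1 h2
      have h3' := (locP_iff_repWith etLocalST_locallyOfFinitePresentation X.property Y.property f.hom hrep.rep).1 h3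
      exact ⟨hrep.rep, fun _ _ t fst g sq => ⟨hrep.property t fst g sq, h2'.property t fst g sq, h3'.property t fst g sq⟩⟩
  refine ⟨key, fun hY => ?_⟩
  rw [key]
  constructor
  · rintro ⟨h1, h2, -⟩
    exact ⟨h1, h2⟩
  · rintro ⟨h1, h2⟩
    refine ⟨h1, h2, ?_⟩
    obtain ⟨V, b, hbe, hbs, hV⟩ := hY
    have hrep : AlgSp.RepWith @IsFinite f.hom := repWith_of_affWith X.property Y.property f.hom h1
    obtain ⟨W, i, fst, sqW⟩ := hrep.rep b
    have hi : IsFinite i.left := hrep.property _ _ _ sqW
    have hVn : IsLocallyNoetherian V.left := hV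
    have hlfp : LocallyOfFinitePresentation i.left :=
      LocallyOfFinitePresentation.iff_locallyOfFiniteType.2 inferInstance
    exact locP_of_chart etLocalST_locallyOfFinitePresentation f.hom fst b i
      ((AlgSp.RepWith @Etale).of_isPullback sqW.flip hbe)
      ((AlgSp.RepWith @Surjective).of_isPullback sqW.flip hbs) hbe sqW.w hlfp

end Groth.Agent.S10294
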