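import Groth.Statements.S10296
import Mathlib
import Groth.Agent.Lib.Helper17.AlgSpAffSep

set_option autoImplicit false
universe u
open CategoryTheory CategoryTheory.Limits AlgebraicGeometry
open AlgSp

namespace Groth.Agent.S10296

/-- The induced morphism from the normalization of X in Y to any integral Z -> X through which Y -> X
factors is the normalization of Z in Y. -/
theorem result {S : Scheme.{u}} {Y X X' Z : AlgSp.Space S} (f : Y ⟶ X)
    (hqc : AlgSp.IsQuasiCompactMor f.hom) (hqs : AlgSp.IsQuasiSeparatedMor f.hom) (ν : X' ⟶ X) (f' : Y ⟶ X')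
    (hn : AlgSp.IsRelNormalization f.hom ν.hom f'.hom) (π : Z ⟶ X) (hπ : AlgSp.IsIntegralMor π.hom) (g : Y ⟶ Z)
    (hg : g ≫ π = f) (h : X' ⟶ Z) (h1 : f' ≫ h = g) (h2 : h ≫ π = ν) :
    AlgSp.IsRelNormalization g.hom h.hom f'.hom := by
  obtain ⟨hn1, hn2, hn3⟩ := hn
  have hπsep : AlgSp.IsSeparatedMor π.hom :=
    Groth.Agent.Lib.Helper17.isSeparatedMor_of_affP Z.property.diag hπ
  have hQ : (@IsClosedImmersion : MorphismProperty Scheme.{u}) ≤ @IsIntegralHom := by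
    intro A B i hi
    have : IsClosedImmersion i := hi
    infer_instance
  have eh1 : f'.hom ≫ h.hom = g.hom := congrArg (·.hom) h1
  have eh2 : h.hom ≫ π.hom = ν.hom := congrArg (·.hom) h2
  have eg : g.hom ≫ π.hom = f.hom := congrArg (·.hom) hg
  refine ⟨eh1, ?_, ?_⟩
  · refine Groth.Agent.Lib.Helper17.affP_of_comp_of_separated (Q := @IsIntegralHom) hQ h.hom π.hom ?_ hπsep
    rw [eh2]; exact hn2
  · intro W hW ρ k hρ hk
    have hρπ : AlgSp.IsIntegralMor (ρ ≫ π.hom) :=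
      Groth.Agent.Lib.Helper17.affP_comp (Q := @IsIntegralHom) _ _ hρ hπ
    obtain ⟨m, ⟨hm1, hm2⟩, hmu⟩ := hn3 hW (ρ ≫ π.hom) k hρπ (by rw [← Category.assoc, hk]; exact eg)
    obtain ⟨h0, -, h0u⟩ := hn3 Z.property π.hom g.hom hπ eg
    have e1 : m ≫ ρ = h0 :=
      h0u _ ⟨by rw [← Category.assoc, hm1, hk], by rw [Category.assoc]; exact hm2⟩
    have e2 : h.hom = h0 := h0u _ ⟨eh1, eh2⟩
    refine ⟨m, ⟨hm1, e1.trans e2.symm⟩, ?_⟩
    rintro m' ⟨hm'1, hm'2⟩
    exact hmu m' ⟨hm'1, by rw [← Category.assoc, hm'2]; exact eh2⟩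

end Groth.Agent.S10296
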