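import Groth.Statements.S10301
import Mathlib
import Groth.Agent.Lib.Helper16.UnivRep

set_option autoImplicit false
universe u
open CategoryTheory CategoryTheory.Limits AlgebraicGeometry
open AlgSp

namespace Groth.Agent.S10301

theorem isHomeomorph_conj_iff {α β : Type u} [TopologicalSpace α] [TopologicalSpace β]
    {α' β' : Type*} [TopologicalSpace α'] [TopologicalSpace β'] (e : α ≃ₜ α') (e' : β ≃ₜ β')
    (g : α → β) : IsHomeomorph (e' ∘ g ∘ e.symm) ↔ IsHomeomorph g := by
  constructor
  · intro h
    rw [Groth.Agent.Lib.Helper16.conj_eq e e' g]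
    exact e'.symm.isHomeomorph.comp (h.comp e.isHomeomorph)
  · intro h
    exact e'.isHomeomorph.comp (h.comp e.symm.isHomeomorph)

/-- For a representable morphism of algebraic spaces, being a universal homeomorphism in the
representable sense agrees with inducing homeomorphisms on points after every base change. -/
theorem result {S : Scheme.{u}} {X Y : AlgSp.Space S} (f : X ⟶ Y)
    (hf : AlgSp.Representable f.hom) :
    AlgSp.RepWith FlatMor.IsUnivHomeo f.hom ↔ AlgSp.IsUnivHomeoMor f.hom := by
  refine Groth.Agent.Lib.Helper16.repWith_universally_iff_univSp (fun f => IsHomeomorph f)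
    (fun _ _ f => IsHomeomorph (Points.map f)) ?_
    Groth.Agent.Lib.Helper16.isEtaleLocalOnBase_isHomeomorph ?_ f.hom hf
  · intro A A' B e π h
    change IsHomeomorph _
    rw [Groth.Agent.Lib.Helper16.map_iso_comp]
    exact IsHomeomorph.comp h (Groth.Agent.Lib.Helper16.pointsHomeoOfIso e).isHomeomorph
  · intro T T' φ
    change IsHomeomorph _ ↔ IsHomeomorph _
    rw [Points.map_yon_map_eq]
    exact isHomeomorph_conj_iff _ _ _

end Groth.Agent.S10301
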