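import Groth.Statements.S10302
import Groth.Agent.Lib.Helper16.EtDim
open Groth.Agent.Lib.Helper16

set_option autoImplicit false
universe u
open CategoryTheory CategoryTheory.Limits AlgebraicGeometry
open AlgSp

namespace Groth.Agent.S10302

/-- A flat morphism of algebraic spaces maps points of codimension 0 to points of codimension 0. -/
theorem result {S : Scheme.{u}} {X Y : AlgSp.Space S} (f : X ⟶ Y) (hf : AlgSp.LocP @Flat f.hom)
    (x : AlgSp.Points X.obj) (hx : AlgSp.HasAt (fun U u => ringKrullDim ↥(U.presheaf.stalk u) = 0) X.obj x) :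
    AlgSp.HasAt (fun U u => ringKrullDim ↥(U.presheaf.stalk u) = 0) Y.obj (AlgSp.Points.map f.hom x) := by
  obtain ⟨U, a, u, ha, rfl, hu⟩ := hx
  obtain ⟨V, b, hbe, hbs⟩ := Y.property.atlas
  obtain ⟨W, r, s₀, sq⟩ := hbe.rep (a ≫ f.hom)
  obtain ⟨s, rfl⟩ := (AlgSp.yon S).map_surjective s₀
  have hr : Etale r.left := hbe.property _ _ _ sq
  have hrs : Surjective r.left := hbs.property _ _ _ sq
  obtain ⟨w, hw⟩ := hrs.surj u
  have hra : AlgSp.RepWith @Etale ((AlgSp.yon S).map r ≫ a) :=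
    (AlgSp.RepWith @Etale).comp_mem _ _ ((AlgSp.repWith_yon_map_iff _ _).2 hr) ha
  have hflat : Flat s.left := hf ((AlgSp.yon S).map r ≫ a) b s hra hbe (by rw [Category.assoc, sq.w])
  refine ⟨V, b, s.left w, hbe, ?_, ?_⟩
  · rw [← ofPt_yon_map_comp, sq.w, ← Category.assoc, ← AlgSp.Points.map_ofPt, ofPt_yon_map_comp, hw]
  · have h1 : ringKrullDim ↥(W.left.presheaf.stalk w) = 0 := by
      rw [EtDim.ringKrullDim_stalk_eq_of_etale r.left w, hw]
      exact hu
    have h2 := EtDim.ringKrullDim_stalk_le_of_flat s.left w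
    rw [h1] at h2
    refine le_antisymm h2 ?_
    exact ringKrullDim_nonneg_of_nontrivial
end Groth.Agent.S10302
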