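import Groth.Statements.S10308
import Groth.Agent.Lib.Helper16.DimF5
import Groth.Agent.Lib.Helper12.Chevalley

open Groth.Agent.Lib.Helper16 Groth.Agent.Lib.Helper16.DimF Groth.Agent.Lib.Helper16.QfAt
open Groth.Agent.Lib.Helper12.SchemeDimIneq Groth.Agent.Lib.Helper12.SchemeDimFT

set_option autoImplicit false
universe u
open CategoryTheory CategoryTheory.Limits AlgebraicGeometry
open AlgSp

namespace Groth.Agent.S10308

/-- For f locally of finite type, the locus of points where the relative dimension of f is at most n is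
open. -/
theorem result {S : Scheme.{u}} {X Y : AlgSp.Space S} (f : X ⟶ Y)
    (hf : AlgSp.LocP @LocallyOfFiniteType f.hom) (n : ℕ) :
    IsOpen {x : AlgSp.Points X.obj |
      AlgSp.HasAtMor (fun _ _ h u => FlatMor.fibreDimAt h u ≤ (n : WithBot ℕ∞)) f.hom x} := by
  rw [isOpen_iff_forall_mem_open]
  rintro x ⟨U, V, a, b, h, u, ha, hb, hc, hu, hle⟩
  have : LocallyOfFiniteType h.left := hf _ _ h ha hb hc
  refine ⟨Points.ofPt a '' {z | FlatMor.fibreDimAt h.left z ≤ (n : WithBot ℕ∞)}, ?_,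
    isOpenMap_ofPt_of_etale a ha _
      (Groth.Agent.Lib.Helper12.Chevalley.isOpen_setOf_fibreDimAt_le h.left n), ⟨u, hle, hu⟩⟩
  rintro _ ⟨z, hz, rfl⟩
  exact ⟨U, V, a, b, h, z, ha, hb, hc, rfl, hz⟩

end Groth.Agent.S10308
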