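import Groth.Statements.S10309
import Groth.Agent.Lib.Helper16.DimF5
import Groth.Agent.Lib.Helper12.FibreDimFP

open Groth.Agent.Lib.Helper16 Groth.Agent.Lib.Helper16.DimF Groth.Agent.Lib.Helper16.QfAt
open Groth.Agent.Lib.Helper12.SchemeDimIneq Groth.Agent.Lib.Helper12.SchemeDimFT

set_option autoImplicit false
universe u
open CategoryTheory CategoryTheory.Limits AlgebraicGeometry
open AlgSp

namespace Groth.Agent.S10309

/-- For f locally of finite presentation, the locus where the relative dimension is at most n is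
retrocompact in |X|. -/
theorem result {S : Scheme.{u}} {X Y : AlgSp.Space S} (f : X ⟶ Y)
    (hf : AlgSp.LocP @LocallyOfFinitePresentation f.hom) (n : ℕ) (V : Set (AlgSp.Points X.obj))
    (hV : IsOpen V) (hVc : IsCompact V) :
    IsCompact (V ∩ {x : AlgSp.Points X.obj |
      AlgSp.HasAtMor (fun _ _ h u => FlatMor.fibreDimAt h u ≤ (n : WithBot ℕ∞)) f.hom x}) := by
  have hft : LocP @LocallyOfFiniteType f.hom := fun U V a b m ha hb hc => by
    have : LocallyOfFinitePresentation m.left := hf _ _ m ha hb hc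
    infer_instance
  obtain ⟨V₀, b, hbe, hbs⟩ := Y.property.atlas
  obtain ⟨U₀, a₀, ha₀e, ha₀s⟩ := X.property.atlas
  obtain ⟨U, h, c, hae, hac, -, -, has⟩ := exists_chart_diagram f.hom b hbe a₀ ha₀e
  generalize (yon S).map c ≫ a₀ = a at hae hac has
  have hsurj := ofPt_surjective_of_surjective a (has hbs ha₀s)
  have : LocallyOfFinitePresentation h.left := hf _ _ h hae hbe hac
  have hLU : ∀ z : ↥U.left, AlgSp.HasAtMor (fun _ _ h u => FlatMor.fibreDimAt h u ≤ (n : WithBot ℕ∞)) f.hom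
      (Points.ofPt a z) ↔ FlatMor.fibreDimAt h.left z ≤ (n : WithBot ℕ∞) := fun z =>
    hasAtMor_fibreDimAt_iff (fun t => t ≤ (n : WithBot ℕ∞)) f.hom hft a b h hae hbe hac z
  have hret := Groth.Agent.Lib.Helper12.FibreDimFP.isRetrocompact_setOf_fibreDimAt_le h.left n
  have hopenPre : IsOpen (Points.ofPt a ⁻¹' V) := hV.preimage (Points.continuous_ofPt a)
  have hcov : ∀ x ∈ V, ∃ A : U.left.Opens, IsAffineOpen A ∧ (A : Set ↥U.left) ⊆ Points.ofPt a ⁻¹' V ∧
      x ∈ Points.ofPt a '' (A : Set ↥U.left) := by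
    intro x hx
    obtain ⟨z, rfl⟩ := hsurj x
    obtain ⟨_, ⟨A, hA, rfl⟩, hzA, hAsub⟩ := U.left.isBasis_affineOpens.exists_subset_of_mem_open
      (show z ∈ Points.ofPt a ⁻¹' V from hx) hopenPre
    exact ⟨A, hA, hAsub, z, hzA, rfl⟩
  choose! A hA hAsub hxA using hcov
  obtain ⟨t, ht, htcov⟩ := hVc.elim_nhds_subcover (fun x => Points.ofPt a '' (A x : Set ↥U.left))
    (fun x hx => (isOpenMap_ofPt_of_etale a hae _ (A x).2).mem_nhds (hxA x hx))
  have heq : V ∩ {x : AlgSp.Points X.obj |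
      AlgSp.HasAtMor (fun _ _ h u => FlatMor.fibreDimAt h u ≤ (n : WithBot ℕ∞)) f.hom x} =
      ⋃ x ∈ t, Points.ofPt a '' ({z | FlatMor.fibreDimAt h.left z ≤ (n : WithBot ℕ∞)} ∩
        (A x : Set ↥U.left)) := by
    ext y
    simp only [Set.mem_inter_iff, Set.mem_setOf_eq, Set.mem_iUnion, Set.mem_image]
    constructor
    · rintro ⟨hyV, hyL⟩
      obtain ⟨x, hx⟩ := Set.mem_iUnion.1 (htcov hyV)
      obtain ⟨hxt, z, hzA, rfl⟩ := Set.mem_iUnion.1 hx
      exact ⟨x, hxt, z, ⟨(hLU z).1 hyL, hzA⟩, rfl⟩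
    · rintro ⟨x, hxt, z, ⟨hz, hzA⟩, rfl⟩
      exact ⟨hAsub x (ht x hxt) hzA, (hLU z).2 hz⟩
  rw [heq]
  refine t.isCompact_biUnion fun x hx => ?_
  exact (hret (hA x (ht x hx)).isCompact (A x).2).image (Points.continuous_ofPt a)

end Groth.Agent.S10309
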