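import Groth.Statements.S1031
import Groth.Agent.Lib.Helper2.TriangEnvelope
-- import your own Groth.Agent.* helpers here

set_option autoImplicit false
universe v u
open CategoryTheory
open CohDer

namespace Groth.Agent.S1031

/-- Let D be a triangulated category admitting a strong generator G (every object is reached from G by
shifts, finite sums, summands and a uniformly bounded number of extensions). Then every classical
generator E of D (every object reached from E with some finite number of extensions) is itself a
strong generator. -/
theorem result {D : Type u} [Category.{v} D] [Preadditive D] [Limits.HasZeroObject D] [HasShift D ℤ]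
    [∀ n : ℤ, (shiftFunctor D n).Additive] [Pretriangulated D] [IsTriangulated D]
    (G E : D) (hG : ObjectProperty.IsStrongTriangulatedGenerator (fun X : D => X = G))
    (hE : ObjectProperty.IsClassicalTriangulatedGenerator (fun X : D => X = E)) :
    ObjectProperty.IsStrongTriangulatedGenerator (fun X : D => X = E) := by
  obtain ⟨n, hn⟩ := hG
  have hGE : ObjectProperty.triangEnvelope (fun X : D => X = E) G := by
    rw [ObjectProperty.isClassicalTriangulatedGenerator_iff] at hE
    rw [hE]
    trivial
  obtain ⟨m, hm⟩ := (ObjectProperty.prop_triangEnvelope_iff _ _).1 hGE
  have : ObjectProperty.Nonempty (fun X : D => X = E) := ⟨⟨E, rfl⟩⟩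
  have hle : (fun X : D => X = G) ≤ ObjectProperty.triangEnvelopeIter (fun X : D => X = E) m := by
    rintro X rfl
    exact hm
  refine ⟨n * (m + 1) + m, ?_⟩
  rw [eq_top_iff, ← hn]
  exact Groth.Agent.Lib.Helper2.triangEnvelopeIter_le_of_le _ _ m hle n

end Groth.Agent.S1031
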