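import Groth.Statements.S10310
import Groth.Agent.Lib.Helper16.QfAt
open Groth.Agent.Lib.Helper16

set_option autoImplicit false
universe u
open CategoryTheory CategoryTheory.Limits AlgebraicGeometry
open AlgSp

namespace Groth.Agent.S10310

/-- A morphism locally of finite type is locally quasi-finite if and only if it has relative dimension 0
at every point. -/
theorem result {S : Scheme.{u}} {X Y : AlgSp.Space S} (f : X ⟶ Y)
    (hf : AlgSp.LocP @LocallyOfFiniteType f.hom) :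
    AlgSp.LocP (@LocallyQuasiFinite ⊓ @LocallyOfFiniteType) f.hom ↔
      ∀ x : AlgSp.Points X.obj, AlgSp.HasAtMor (fun _ _ h u => FlatMor.fibreDimAt h u = 0) f.hom x := by
  constructor
  · intro hL x
    obtain ⟨U₀, a₀, hae, has⟩ := X.property.atlas
    obtain ⟨V, b, hbe, hbs⟩ := Y.property.atlas
    obtain ⟨U, h, c, h1, h2, -, -, h3⟩ := exists_chart_diagram f.hom b hbe a₀ hae
    obtain ⟨u, hu⟩ := ofPt_surjective_of_surjective _ (h3 hbs has) x
    refine ⟨U, V, _, b, h, u, h1, hbe, h2, hu, ?_⟩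
    have hh := hL _ _ h h1 hbe h2
    have : LocallyQuasiFinite h.left := hh.1
    have : LocallyOfFiniteType h.left := hh.2
    exact (QfAt.fibreDimAt_eq_zero_iff h.left u).2 (h.left.quasiFiniteAt u)
  · intro H U₁ V₁ a₁ b₁ m ha₁ hb₁ hc₁
    have hm : LocallyOfFiniteType m.left := hf _ _ m ha₁ hb₁ hc₁
    refine ⟨?_, hm⟩
    rw [← Scheme.Hom.quasiFiniteLocus_eq_top_iff]
    refine top_le_iff.1 fun u₁ _ => ?_
    rw [Scheme.Hom.mem_quasiFiniteLocus]
    obtain ⟨U, V, a, b, h, u, ha, hb, hc, hu, hQ⟩ := H (AlgSp.Points.ofPt a₁ u₁)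
    have : LocallyOfFiniteType h.left := hf _ _ h ha hb hc
    exact QfAt.quasiFiniteAt_transfer f.hom a b h a₁ b₁ m ha hb ha₁ hb₁ hc hc₁ u u₁ hu
      ((QfAt.fibreDimAt_eq_zero_iff h.left u).1 hQ)

end Groth.Agent.S10310
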