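import Groth.Statements.S10311
import Groth.Agent.Lib.Helper16.DimF5
import Groth.Agent.S9358

open Groth.Agent.Lib.Helper16 Groth.Agent.Lib.Helper16.DimF Groth.Agent.Lib.Helper16.QfAt
open Groth.Agent.Lib.Helper12.SchemeDimIneq Groth.Agent.Lib.Helper12.SchemeDimFT

set_option autoImplicit false
universe u
open CategoryTheory CategoryTheory.Limits AlgebraicGeometry
open AlgSp

namespace Groth.Agent.S10311

/-- The relative dimension at a point of a morphism locally of finite type is preserved by base change. -/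
theorem result {S : Scheme.{u}} {X Y Y' X' : AlgSp.Space S} (f : X ⟶ Y) (g : Y' ⟶ Y)
    (g' : X' ⟶ X) (f' : X' ⟶ Y') (sq : IsPullback g'.hom f'.hom f.hom g.hom)
    (hf : AlgSp.LocP @LocallyOfFiniteType f.hom) (x' : AlgSp.Points X'.obj) (d : WithBot ℕ∞)
    (hd : AlgSp.HasAtMor (fun _ _ h u => FlatMor.fibreDimAt h u = d) f.hom (AlgSp.Points.map g'.hom x')) :
    AlgSp.HasAtMor (fun _ _ h u => FlatMor.fibreDimAt h u = d) f'.hom x' := by
  obtain ⟨U, V, U'', V'', a, bV, h, a'', b'', h'', β, γ, hae, hbVe, ha''e, hb''e, ha''s, hc, hc'', hcb, sqS⟩ :=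
    exists_chart_diagram_baseChange X.property Y.property Y'.property sq
  obtain ⟨u'', rfl⟩ := ofPt_surjective_of_surjective a'' ha''s x'
  have hpt : Points.map g'.hom (Points.ofPt a'' u'') = Points.ofPt a (β.left u'') := by
    rw [Points.map_ofPt, hcb, ofPt_yon_map_comp]
  rw [hpt] at hd
  have : LocallyOfFiniteType h.left := hf _ _ h hae hbVe hc
  have hf'' : LocP @LocallyOfFiniteType f'.hom :=
    locP_of_isPullback etLocalST_locallyOfFiniteType X.property Y.property sq hf
  have e1 : FlatMor.fibreDimAt h.left (β.left u'') = d :=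
    (hasAtMor_fibreDimAt_iff (fun t => t = d) f.hom hf a bV h hae hbVe hc _).1 hd
  have e2 := (Groth.Agent.S9358.result h.left γ.left β.left h''.left sqS 0).1 u''
  exact (hasAtMor_fibreDimAt_iff (fun t => t = d) f'.hom hf'' a'' b'' h'' ha''e hb''e hc'' u'').2
    (e2.trans e1)

end Groth.Agent.S10311
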