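import Groth.Statements.S10314
import Groth.Agent.Lib.Helper16.DimF5
import Groth.Agent.Lib.Helper12.FlatRelDim
import Groth.Agent.S10249

open Groth.Agent.Lib.Helper16 Groth.Agent.Lib.Helper16.DimF Groth.Agent.Lib.Helper16.QfAt
open Groth.Agent.Lib.Helper12.SchemeDimIneq Groth.Agent.Lib.Helper12.SchemeDimFT

set_option autoImplicit false
universe u
open CategoryTheory CategoryTheory.Limits AlgebraicGeometry
open AlgSp

namespace Groth.Agent.S10314

/-- For a flat morphism locally of finite type of relative dimension d between locally Noetherian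
algebraic spaces, the dimension of X at a point equals the dimension of Y at the image point plus d. -/
theorem result {S : Scheme.{u}} {X Y : AlgSp.Space S} (f : X ⟶ Y)
    (hX : AlgSp.IsLocNoethSp X.obj) (hY : AlgSp.IsLocNoethSp Y.obj) (hf : AlgSp.LocP @Flat f.hom)
    (hf' : AlgSp.LocP @LocallyOfFiniteType f.hom) (d : ℕ)
    (hd : ∀ x : AlgSp.Points X.obj, AlgSp.HasAtMor (fun _ _ h u => FlatMor.fibreDimAt h u = (d : WithBot ℕ∞)) f.hom x)
    (x : AlgSp.Points X.obj) (dX dY : WithBot ℕ∞) (hx : AlgSp.HasAt (fun U u => FlatMor.localDim ↥U u = dX) X.obj x)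
    (hy : AlgSp.HasAt (fun U u => FlatMor.localDim ↥U u = dY) Y.obj (AlgSp.Points.map f.hom x)) :
    dX = dY + (d : WithBot ℕ∞) := by
  obtain ⟨V, b, hbe, hbs⟩ := Y.property.atlas
  obtain ⟨U₀, a₀, ha₀e, ha₀s⟩ := X.property.atlas
  obtain ⟨U, h, c, hae, hac, -, -, has⟩ := exists_chart_diagram f.hom b hbe a₀ ha₀e
  obtain ⟨u, rfl⟩ := ofPt_surjective_of_surjective _ (has hbs ha₀s) x
  have : LocallyOfFiniteType h.left := hf' _ _ h hae hbe hac
  have : Flat h.left := hf _ _ h hae hbe hac
  have : IsLocallyNoetherian V.left := isLocallyNoetherian_of_chart hY b hbe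
  have hdU : ∀ z : ↥U.left, FlatMor.fibreDimAt h.left z = (d : WithBot ℕ∞) := fun z =>
    (hasAtMor_fibreDimAt_iff (fun t => t = (d : WithBot ℕ∞)) f.hom hf' _ b h hae hbe hac z).1 (hd _)
  have key := Groth.Agent.Lib.Helper12.FlatRelDim.localDim_eq_add h.left d hdU u
  have h1 : FlatMor.localDim ↥U.left u = dX :=
    (HasAtChart.hasAt_iff_of_chart (fun U u => FlatMor.localDim ↥U u = dX)
      (fun g _ v => by rw [Groth.Agent.S10249.localDim_eq_of_etale g v]) _ hae u).1 hx
  have hpt : Points.map f.hom (Points.ofPt ((yon S).map c ≫ a₀) u) = Points.ofPt b (h.left u) := by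
    rw [Points.map_ofPt, hac, ofPt_yon_map_comp]
  rw [hpt] at hy
  have h2 : FlatMor.localDim ↥V.left (h.left u) = dY :=
    (HasAtChart.hasAt_iff_of_chart (fun U u => FlatMor.localDim ↥U u = dY)
      (fun g _ v => by rw [Groth.Agent.S10249.localDim_eq_of_etale g v]) b hbe (h.left u)).1 hy
  rw [← h1, ← h2]
  exact key

end Groth.Agent.S10314
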