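import Groth.Statements.S10315
import Groth.Agent.Lib.Helper16.DimF5
import Groth.Agent.Lib.Helper12.FlatRelDim
import Groth.Agent.Lib.Helper22.SmoothRelDim2
import Groth.Agent.S10249

open Groth.Agent.Lib.Helper16 Groth.Agent.Lib.Helper16.DimF Groth.Agent.Lib.Helper16.QfAt
open Groth.Agent.Lib.Helper12.SchemeDimIneq Groth.Agent.Lib.Helper12.SchemeDimFT

set_option autoImplicit false
universe u
open CategoryTheory CategoryTheory.Limits AlgebraicGeometry
open AlgSp

namespace Groth.Agent.S10315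

/-- For a smooth morphism of locally Noetherian algebraic spaces, the dimension of X at x is the
dimension of Y at the image of x plus the relative dimension of f at x. -/
theorem result {S : Scheme.{u}} {X Y : AlgSp.Space S} (f : X ⟶ Y)
    (hX : AlgSp.IsLocNoethSp X.obj) (hY : AlgSp.IsLocNoethSp Y.obj) (hf : AlgSp.LocP @Smooth f.hom)
    (x : AlgSp.Points X.obj) (d dX dY : WithBot ℕ∞)
    (hd : AlgSp.HasAtMor (fun _ _ h u => FlatMor.fibreDimAt h u = d) f.hom x)
    (hx : AlgSp.HasAt (fun U u => FlatMor.localDim ↥U u = dX) X.obj x)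
    (hy : AlgSp.HasAt (fun U u => FlatMor.localDim ↥U u = dY) Y.obj (AlgSp.Points.map f.hom x)) :
    dX = dY + d := by
  have hft : LocP @LocallyOfFiniteType f.hom := fun U V a b m ha hb hc => by
    have : Smooth m.left := hf _ _ m ha hb hc
    infer_instance
  obtain ⟨V, b, hbe, hbs⟩ := Y.property.atlas
  obtain ⟨U₀, a₀, ha₀e, ha₀s⟩ := X.property.atlas
  obtain ⟨U, h, c, hae, hac, -, -, has⟩ := exists_chart_diagram f.hom b hbe a₀ ha₀e
  obtain ⟨u, rfl⟩ := ofPt_surjective_of_surjective _ (has hbs ha₀s) x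
  have hsm : Smooth h.left := hf _ _ h hae hbe hac
  have : IsLocallyNoetherian V.left := isLocallyNoetherian_of_chart hY b hbe
  obtain ⟨n, W, huW, hW⟩ := Groth.Agent.Lib.Helper22.SmoothRelDim.exists_smoothOfRelativeDimension h.left u
  have hd' : FlatMor.fibreDimAt h.left u = d :=
    (hasAtMor_fibreDimAt_iff (fun t => t = d) f.hom hft _ b h hae hbe hac u).1 hd
  have hWs : Smooth (W.ι ≫ h.left) := inferInstance
  have hconst : ∀ z : ↥W, FlatMor.fibreDimAt (W.ι ≫ h.left) z = (n : WithBot ℕ∞) := fun z =>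
    Groth.Agent.Lib.Helper22.SmoothRelDim.fibreDimAt_eq n (W.ι ≫ h.left) z
  have hdn : d = (n : WithBot ℕ∞) := by
    rw [← hd']
    have e := Groth.Agent.Lib.Helper12.Equidim.fibreDimAt_comp_openImmersion W.ι h.left ⟨u, huW⟩
    rw [hconst] at e
    exact e.symm
  have key := Groth.Agent.Lib.Helper12.FlatRelDim.localDim_eq_add (W.ι ≫ h.left) n hconst ⟨u, huW⟩
  have h0 : FlatMor.localDim ↥W ⟨u, huW⟩ = FlatMor.localDim ↥U.left u :=
    Groth.Agent.S10249.localDim_eq_of_etale W.ι ⟨u, huW⟩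
  have h1 : FlatMor.localDim ↥U.left u = dX :=
    (HasAtChart.hasAt_iff_of_chart (fun U u => FlatMor.localDim ↥U u = dX)
      (fun g _ v => by rw [Groth.Agent.S10249.localDim_eq_of_etale g v]) _ hae u).1 hx
  have hpt : Points.map f.hom (Points.ofPt ((yon S).map c ≫ a₀) u) = Points.ofPt b (h.left u) := by
    rw [Points.map_ofPt, hac, ofPt_yon_map_comp]
  rw [hpt] at hy
  have h2 : FlatMor.localDim ↥V.left (h.left u) = dY :=
    (HasAtChart.hasAt_iff_of_chart (fun U u => FlatMor.localDim ↥U u = dY)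
      (fun g _ v => by rw [Groth.Agent.S10249.localDim_eq_of_etale g v]) b hbe (h.left u)).1 hy
  rw [hdn, ← h1, ← h2, ← h0]
  exact key

end Groth.Agent.S10315
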