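import Groth.Statements.S10316
import Groth.Agent.Lib.Helper16.DimF2
import Groth.Agent.Lib.Helper16.IntDim

open Groth.Agent.Lib.Helper16 Groth.Agent.Lib.Helper16.DimF

set_option autoImplicit false
universe u
open CategoryTheory CategoryTheory.Limits AlgebraicGeometry
open AlgSp

namespace Groth.Agent.S10316

/-- For X -> Y locally quasi-finite and Y -> Z locally of finite type, the transcendence degree of x
over Z equals that of its image y over Z. -/
theorem result {S : Scheme.{u}} {X Y Z : AlgSp.Space S} (f : X ⟶ Y) (g : Y ⟶ Z)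
    (hf : AlgSp.LocP (@LocallyQuasiFinite ⊓ @LocallyOfFiniteType) f.hom) (hg : AlgSp.LocP @LocallyOfFiniteType g.hom)
    (x : AlgSp.Points X.obj) (r : Cardinal.{u}) :
    AlgSp.HasAtMor (fun _ _ h u => Dual3.resTrdeg h u = r) (f ≫ g).hom x ↔
      AlgSp.HasAtMor (fun _ _ h u => Dual3.resTrdeg h u = r) g.hom (AlgSp.Points.map f.hom x) := by
  obtain ⟨U, V, W, a, b, c, h, k, hae, hbe, hce, has, hac, hbc⟩ :=
    exists_chart_tower X.property Y.property Z.property f.hom g.hom
  obtain ⟨u, rfl⟩ := ofPt_surjective_of_surjective a has x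
  have hpt : Points.map f.hom (Points.ofPt a u) = Points.ofPt b (h.left u) := by
    rw [Points.map_ofPt, hac, ofPt_yon_map_comp]
  have hcomp : a ≫ (f ≫ g).hom = (yon S).map (h ≫ k) ≫ c := by
    show a ≫ f.hom ≫ g.hom = _
    rw [← Category.assoc, hac, Category.assoc, hbc, ← Category.assoc, ← Functor.map_comp]
  have hh := hf _ _ h hae hbe hac
  have : LocallyQuasiFinite h.left := hh.1
  have : LocallyOfFiniteType h.left := hh.2
  rw [hpt, hasAtMor_resTrdeg_iff (f ≫ g).hom a c (h ≫ k) hae hce hcomp u r,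
    hasAtMor_resTrdeg_iff g.hom b c k hbe hce hbc (h.left u) r, Over.comp_left, resTrdeg_comp,
    resTrdeg_eq_zero_of_locallyQuasiFinite h.left u, add_zero]

end Groth.Agent.S10316
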