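import Groth.Statements.S10318
import Groth.Agent.Lib.Helper16.DimF5
import Groth.Agent.Lib.Helper12.JacDim

open Groth.Agent.Lib.Helper16 Groth.Agent.Lib.Helper16.DimF Groth.Agent.Lib.Helper16.QfAt
open Groth.Agent.Lib.Helper12.SchemeDimIneq Groth.Agent.Lib.Helper12.SchemeDimFT

set_option autoImplicit false
universe u
open CategoryTheory CategoryTheory.Limits AlgebraicGeometry
open AlgSp

namespace Groth.Agent.S10318

/-- Over a Jacobson algebraic space, a finite type point of a space locally of finite type over it has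
transcendence degree 0 over its image. -/
theorem result {S : Scheme.{u}} {X Y : AlgSp.Space S} (f : X ⟶ Y)
    (hf : AlgSp.LocP @LocallyOfFiniteType f.hom) (hY : AlgSp.EtaleLocally (fun U => JacobsonSpace ↥U) Y.obj)
    (x : AlgSp.Points X.obj) (hx : AlgSp.HasAt (fun U u => IsClosed ({u} : Set ↥U)) X.obj x) :
    AlgSp.HasAtMor (fun _ _ h u => Dual3.resTrdeg h u = 0) f.hom x := by
  obtain ⟨U₁, a₁, u₁, ha₁, hu₁, hcl⟩ := hx
  obtain ⟨V, b, hbe, hbs, hJ⟩ := hY
  obtain ⟨U, h, c, hae, hac, hce, sq, -⟩ := exists_chart_diagram f.hom b hbe a₁ ha₁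
  have hcs : Surjective c.left := hbs.property _ _ _ sq
  obtain ⟨u, hu⟩ := hcs.surj u₁
  have : Etale c.left := hce
  have : LocallyQuasiFinite c.left := locallyQuasiFinite_of_etale _
  have : LocallyOfFiniteType h.left := hf _ _ h hae hbe hac
  have hucl : IsClosed ({u} : Set ↥U.left) := by
    apply isClosed_of_closure_subset
    intro z hz
    have hs : u ⤳ z := specializes_iff_mem_closure.2 hz
    have h1 : c.left u ⤳ c.left z := hs.map c.left.continuous
    have h2 : c.left z ∈ ({u₁} : Set ↥U₁.left) := by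
      rw [hu] at h1
      exact h1.mem_closed hcl rfl
    have h3 : c.left u = c.left z := by rw [hu, Set.mem_singleton_iff.1 h2]
    have h4 := eq_of_specializes_of_locallyQuasiFinite c.left hs h3
    rw [h4]
    rfl
  have h0 := Groth.Agent.Lib.Helper12.JacDim.trn_eq_zero_of_isClosed h.left u hucl
  rw [trn_eq_toENat, Cardinal.toENat_eq_zero] at h0
  refine ⟨U, V, _, b, h, u, hae, hbe, hac, ?_, h0⟩
  rw [ofPt_yon_map_comp, hu, hu₁]

end Groth.Agent.S10318
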