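import Groth.Statements.S10319
import Groth.Agent.Lib.Helper16.DimF2
import Groth.Agent.Lib.Helper16.IntDim

open Groth.Agent.Lib.Helper16 Groth.Agent.Lib.Helper16.DimF

set_option autoImplicit false
universe u
open CategoryTheory CategoryTheory.Limits AlgebraicGeometry
open AlgSp

namespace Groth.Agent.S10319

/-- Transcendence degrees at a point add up along a composition of morphisms locally of finite type. -/
theorem result {S : Scheme.{u}} {X Y Z : AlgSp.Space S} (f : X ⟶ Y) (g : Y ⟶ Z)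
    (hf : AlgSp.LocP @LocallyOfFiniteType f.hom) (hg : AlgSp.LocP @LocallyOfFiniteType g.hom)
    (x : AlgSp.Points X.obj) (r₁ r₂ : Cardinal.{u})
    (h1 : AlgSp.HasAtMor (fun _ _ h u => Dual3.resTrdeg h u = r₁) f.hom x)
    (h2 : AlgSp.HasAtMor (fun _ _ h u => Dual3.resTrdeg h u = r₂) g.hom (AlgSp.Points.map f.hom x)) :
    AlgSp.HasAtMor (fun _ _ h u => Dual3.resTrdeg h u = r₁ + r₂) (f ≫ g).hom x := by
  obtain ⟨U, V, W, a, b, c, h, k, hae, hbe, hce, has, hac, hbc⟩ :=
    exists_chart_tower X.property Y.property Z.property f.hom g.hom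
  obtain ⟨u, rfl⟩ := ofPt_surjective_of_surjective a has x
  have e1 := (hasAtMor_resTrdeg_iff f.hom a b h hae hbe hac u r₁).1 h1
  have hpt : Points.map f.hom (Points.ofPt a u) = Points.ofPt b (h.left u) := by
    rw [Points.map_ofPt, hac, ofPt_yon_map_comp]
  rw [hpt] at h2
  have e2 := (hasAtMor_resTrdeg_iff g.hom b c k hbe hce hbc (h.left u) r₂).1 h2
  have hcomp : a ≫ (f ≫ g).hom = (yon S).map (h ≫ k) ≫ c := by
    show a ≫ f.hom ≫ g.hom = _
    rw [← Category.assoc, hac, Category.assoc, hbc, ← Category.assoc, ← Functor.map_comp]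
  refine (hasAtMor_resTrdeg_iff (f ≫ g).hom a c (h ≫ k) hae hce hcomp u _).2 ?_
  rw [Over.comp_left, resTrdeg_comp, e1, e2, add_comm]

end Groth.Agent.S10319
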