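import Groth.Statements.S10321
import Groth.Agent.Lib.Helper16.ZmtSp4

set_option autoImplicit false
universe u
open CategoryTheory CategoryTheory.Limits AlgebraicGeometry
open AlgSp

namespace Groth.Agent.S10321

open Groth.Agent.Lib.Helper15 Groth.Agent.Lib.Helper16 Groth.Agent.Lib.Helper16.SchLocus
  Groth.Agent.Lib.Helper16.ZmtSp


/-- Let X be separated and locally quasi-finite over an affine scheme T, let T' -> T be etale with T'
affine, and let V' be an open subspace of T' ×_T X that is quasi-affine over T'. Then V' maps onto a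
quasi-compact open subspace of X that is itself a scheme. -/
theorem result {S : Scheme.{u}} {T T' : Over S} [IsAffine T.left]
    [IsAffine T'.left] (e : T' ⟶ T) [Etale e.left] {X P V' : AlgSp.Space S} (f : X ⟶ (AlgSp.ofScheme S).obj T)
    (hsep : AlgSp.IsSeparatedMor f.hom) (hqf : AlgSp.LocP (@LocallyQuasiFinite ⊓ @LocallyOfFiniteType) f.hom)
    (p1 : P ⟶ (AlgSp.ofScheme S).obj T') (p2 : P ⟶ X)
    (sq : IsPullback p2.hom p1.hom f.hom ((AlgSp.yon S).map e)) (j : V' ⟶ P)
    (hj : AlgSp.RepWith @IsOpenImmersion j.hom) (hqa : AlgSp.IsQuasiAffineMor (j ≫ p1).hom) :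
    ∃ (W : Over S) (i : (AlgSp.yon S).obj W ⟶ X.obj), AlgSp.RepWith @IsOpenImmersion i ∧ CompactSpace ↥W.left ∧
      Set.range (AlgSp.Points.map i) = Set.range (AlgSp.Points.map (j ≫ p2).hom) := by
  have hX := X.property
  have hqa' : ∀ g : V'.obj ⟶ (yon S).obj T', g = (j ≫ p1).hom → IsQuasiAffineMor g := by
    rintro _ rfl
    exact hqa
  obtain ⟨g, hg⟩ : ∃ g : V'.obj ⟶ (yon S).obj T', g = (j ≫ p1).hom := ⟨_, rfl⟩
  obtain ⟨W', i', fst', sqW', hW'⟩ := hqa' g hg (inferInstance : IsAffine T'.left) (𝟙 _)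
  have hfst'iso : IsIso fst' := by
    have hw : 𝟙 V'.obj ≫ g = g ≫ 𝟙 _ := by rw [Category.id_comp, Category.comp_id]
    refine ⟨⟨sqW'.lift (𝟙 _) g hw, ?_, sqW'.lift_fst _ _ _⟩⟩
    apply sqW'.hom_ext
    · rw [Category.assoc, sqW'.lift_fst, Category.comp_id, Category.id_comp]
    · rw [Category.assoc, sqW'.lift_snd, Category.id_comp, sqW'.w, Category.comp_id]
  have hfst'o : RepWith @IsOpenImmersion fst' := by
    have : (RepWith (S := S) @IsOpenImmersion).RespectsIso := MorphismProperty.IsStableUnderBaseChange.respectsIso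
    exact (RepWith (S := S) @IsOpenImmersion).of_isIso fst'
  have hj' : RepWith @IsOpenImmersion (fst' ≫ j.hom) := (RepWith @IsOpenImmersion).comp_mem _ _ hfst'o hj
  have hee : RepWith @Etale ((yon S).map e) := (repWith_yon_map_iff _ _).2 inferInstance
  have hp2e : RepWith @Etale p2.hom := (RepWith (S := S) @Etale).of_isPullback sq.flip hee
  have hae : RepWith @Etale ((fst' ≫ j.hom) ≫ p2.hom) :=
    (RepWith @Etale).comp_mem _ _ (repWith_mono isOpenImmersion_le_etale _ hj') hp2e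
  have hcomp : CompactSpace ↥W'.left := hW'.toCompactSpace
  have hsch : ∀ w, Points.ofPt ((fst' ≫ j.hom) ≫ p2.hom) w ∈ schLocus X.obj := by
    intro w
    rw [← Points.map_ofPt]
    exact map_mem_schLocus_of_etale_baseChange e inferInstance hX f.hom hsep hqf p1.hom p2.hom sq _
      ⟨W', _, hj', w, rfl⟩
  obtain ⟨W, i, hi, hWc, hrange⟩ := exists_qc_open_subscheme hX _ hae hsch
  refine ⟨W, i, hi, hWc, ?_⟩
  rw [hrange]
  have hcomp2 : (j ≫ p2).hom = j.hom ≫ p2.hom := rfl
  rw [hcomp2]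
  apply Set.eq_of_subset_of_subset
  · rintro _ ⟨w, rfl⟩
    refine ⟨Points.ofPt fst' w, ?_⟩
    rw [Points.map_ofPt, Category.assoc]
  · rintro _ ⟨x, rfl⟩
    obtain ⟨w, hw⟩ : ∃ w, Points.ofScheme W' w = Points.map (inv fst') x :=
      ⟨Points.toScheme W' _, Points.ofScheme_toScheme W' _⟩
    refine ⟨w, ?_⟩
    rw [Points.ofPt_eq_map_ofScheme, hw, ← Points.map_comp, Category.assoc, IsIso.inv_hom_id_assoc]

end Groth.Agent.S10321
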