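import Groth.Statements.S10323
import Groth.Agent.Lib.Helper16.DimF2
import Groth.Agent.Lib.Helper16.IntDim

open Groth.Agent.Lib.Helper16 Groth.Agent.Lib.Helper16.DimF

set_option autoImplicit false
universe u
open CategoryTheory CategoryTheory.Limits AlgebraicGeometry
open AlgSp

namespace Groth.Agent.S10323

/-- For Y locally Noetherian and f locally of finite type, the dimension of the local ring of X at x is
at most the dimension of the local ring of Y at the image point plus E minus the transcendence
degree of x over its image, where E bounds the transcendence degrees of the codimension-0 points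
specializing to x. -/
theorem result {S : Scheme.{u}} {X Y : AlgSp.Space S} (f : X ⟶ Y)
    (hY : AlgSp.IsLocNoethSp Y.obj) (hf : AlgSp.LocP @LocallyOfFiniteType f.hom) (x : AlgSp.Points X.obj)
    (E : Cardinal.{u})
    (hE : ∀ ξ : AlgSp.Points X.obj, ξ ⤳ x → AlgSp.HasAt (fun U u => ringKrullDim ↥(U.presheaf.stalk u) = 0) X.obj ξ →
      ∀ s : Cardinal.{u}, AlgSp.HasAtMor (fun _ _ h u => Dual3.resTrdeg h u = s) f.hom ξ → s ≤ E)
    (a b : WithBot ℕ∞) (r : Cardinal.{u})
    (ha : AlgSp.HasAt (fun U u => ringKrullDim ↥(U.presheaf.stalk u) = a) X.obj x)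
    (hb : AlgSp.HasAt (fun U u => ringKrullDim ↥(U.presheaf.stalk u) = b) Y.obj (AlgSp.Points.map f.hom x))
    (hr : AlgSp.HasAtMor (fun _ _ h u => Dual3.resTrdeg h u = r) f.hom x) :
    a + ((Cardinal.toENat r : ℕ∞) : WithBot ℕ∞) ≤ b + ((Cardinal.toENat E : ℕ∞) : WithBot ℕ∞) := by
  obtain ⟨U, V, a', b', h, u, hae, hbe, hc, hu, hr'⟩ := hr
  subst hu
  have h1 := (hasAt_dim_iff a' hae u a).1 ha
  have h2 : ringKrullDim ↥(V.left.presheaf.stalk (h.left u)) = b := by
    apply (hasAt_dim_iff b' hbe (h.left u) b).1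
    have : Points.ofPt b' (h.left u) = Points.map f.hom (Points.ofPt a' u) := by
      rw [Points.map_ofPt, hc, ofPt_yon_map_comp]
    rw [this]
    exact hb
  have key := chart_dimIneq f.hom hY hf a' b' h hae hbe hc u E hE
  rw [h1, h2, hr'] at key
  exact key

end Groth.Agent.S10323
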