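import Groth.Statements.S10324
import Groth.Agent.Lib.Helper16.DimF2
import Groth.Agent.Lib.Helper16.IntDim

open Groth.Agent.Lib.Helper16 Groth.Agent.Lib.Helper16.DimF

set_option autoImplicit false
universe u
open CategoryTheory CategoryTheory.Limits AlgebraicGeometry
open AlgSp

namespace Groth.Agent.S10324

/-- For Y locally Noetherian and f : X -> Y locally of finite type, dim X ≤ dim Y + E where E bounds the
transcendence degrees over Y of the codimension-0 points of X. -/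
theorem result {S : Scheme.{u}} {X Y : AlgSp.Space S} (f : X ⟶ Y)
    (hY : AlgSp.IsLocNoethSp Y.obj) (hf : AlgSp.LocP @LocallyOfFiniteType f.hom) (E : Cardinal.{u})
    (hE : ∀ ξ : AlgSp.Points X.obj, AlgSp.HasAt (fun U u => ringKrullDim ↥(U.presheaf.stalk u) = 0) X.obj ξ → ∀ s : Cardinal.{u}, AlgSp.HasAtMor (fun _ _ h u => Dual3.resTrdeg h u = s) f.hom ξ → s ≤ E) :
    AlgSp.dim X.obj ≤ AlgSp.dim Y.obj + ((Cardinal.toENat E : ℕ∞) : WithBot ℕ∞) := by
  unfold AlgSp.dim
  refine iSup_le fun U₀ => iSup_le fun a₀ => iSup_le fun ha₀ => ?_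
  obtain ⟨V, b, hbe, hbs⟩ := Y.property.atlas
  obtain ⟨U, h, c, hae, hac, hce, sq, -⟩ := exists_chart_diagram f.hom b hbe a₀ ha₀
  have hcs : Surjective c.left := hbs.property _ _ _ sq
  have hce' : Etale c.left := hce
  apply IntDim.tkd_le_of_forall_stalk
  intro u₀
  obtain ⟨u, rfl⟩ := hcs.surj u₀
  rw [← EtDim.ringKrullDim_stalk_eq_of_etale c.left u]
  have key := chart_dimIneq f.hom hY hf _ b h hae hbe hac u E (fun ξ _ hξ s hs => hE ξ hξ s hs)
  have h1 : ringKrullDim ↥(V.left.presheaf.stalk (h.left u)) ≤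
      ⨆ (U : Over S) (a : (yon S).obj U ⟶ Y.obj) (_ : RepWith @Etale a), topologicalKrullDim ↥U.left :=
    le_trans (IntDim.stalk_le_tkd V.left (h.left u))
      (le_iSup_of_le V (le_iSup_of_le b (le_iSup_of_le hbe le_rfl)))
  have h0 : (0 : WithBot ℕ∞) ≤ ((Cardinal.toENat (Dual3.resTrdeg h.left u) : ℕ∞) : WithBot ℕ∞) := by
    exact_mod_cast (bot_le : (0 : ℕ∞) ≤ _)
  calc ringKrullDim ↥(U.left.presheaf.stalk u)
      ≤ ringKrullDim ↥(U.left.presheaf.stalk u) +
          ((Cardinal.toENat (Dual3.resTrdeg h.left u) : ℕ∞) : WithBot ℕ∞) := le_add_of_nonneg_right h0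
    _ ≤ _ := key
    _ ≤ _ := add_le_add h1 le_rfl

end Groth.Agent.S10324
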