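import Groth.Statements.S10326
import Groth.Agent.Lib.Helper16.Charts
import Mathlib.AlgebraicGeometry.Noetherian
import Mathlib.Topology.NoetherianSpace
open TopologicalSpace

set_option autoImplicit false
universe u
open CategoryTheory CategoryTheory.Limits AlgebraicGeometry
open AlgSp

namespace Groth.Agent.S10326

/-- Every scheme etale over a locally Noetherian algebraic space has quasi-compact opens with finitely
many irreducible components. -/
theorem result {S : Scheme.{u}} (X : AlgSp.Space S)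
    (hX : AlgSp.IsLocNoethSp X.obj) (U : Over S) (a : (AlgSp.yon S).obj U ⟶ X.obj) (ha : AlgSp.RepWith @Etale a)
    (W : U.left.Opens) (hW : IsCompact (W : Set ↥U.left)) : (irreducibleComponents ↥W).Finite := by
  obtain ⟨V₀, p, hpe, hps, hV₀⟩ := hX
  haveI : IsLocallyNoetherian V₀.left := hV₀
  obtain ⟨E, e₂, e₁', sq⟩ := hpe.rep a
  obtain ⟨e₁, rfl⟩ := (AlgSp.yon S).map_surjective e₁'
  haveI he₂e : Etale e₂.left := hpe.property _ _ _ sq
  have he₂s : Surjective e₂.left := hps.property _ _ _ sq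
  haveI he₁e : Etale e₁.left := ha.property _ _ _ sq.flip
  haveI : IsLocallyNoetherian E.left := LocallyOfFiniteType.isLocallyNoetherian e₁.left
  have key : ∀ w : ↥U.left, ∃ N : Set ↥U.left, IsOpen N ∧ w ∈ N ∧ NoetherianSpace ↥N := by
    intro w
    obtain ⟨z, rfl⟩ := he₂s.surj w
    obtain ⟨A, hA, hzA, -⟩ := exists_isAffineOpen_mem_and_subset (x := z) (U := ⊤) trivial
    haveI : IsNoetherianRing Γ(E.left, A) := IsLocallyNoetherian.component_noetherian ⟨A, hA⟩
    have hn : NoetherianSpace ↥(A : Set ↥E.left) := noetherianSpace_of_isAffineOpen A hA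
    refine ⟨e₂.left '' (A : Set ↥E.left), e₂.left.isOpenMap _ A.isOpen, ⟨z, hzA, rfl⟩, ?_⟩
    rw [Set.image_eq_range]
    exact NoetherianSpace.range _ (e₂.left.continuous.comp continuous_subtype_val)
  choose N hNo hwN hNn using key
  obtain ⟨t, ht⟩ := hW.elim_finite_subcover N hNo (fun w _ => Set.mem_iUnion.2 ⟨w, hwN w⟩)
  haveI : ∀ i : t, NoetherianSpace (N i.1) := fun i => hNn i.1
  have hUn : NoetherianSpace ↥(⋃ i : t, N i.1) := NoetherianSpace.iUnion _
  have hsub : (W : Set ↥U.left) ⊆ ⋃ i : t, N i.1 := by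
    intro x hx
    obtain ⟨i, hi, hxi⟩ := Set.mem_iUnion₂.1 (ht hx)
    exact Set.mem_iUnion.2 ⟨⟨i, hi⟩, hxi⟩
  have hWn : NoetherianSpace ↥(W : Set ↥U.left) :=
    (Topology.IsEmbedding.inclusion hsub).isInducing.noetherianSpace
  exact @NoetherianSpace.finite_irreducibleComponents _ _ hWn

end Groth.Agent.S10326
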