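import Groth.Statements.S10328
import Groth.Agent.Lib.Helper16.FibDimComp
import Groth.Agent.Lib.Helper16.DimF10
import Groth.Agent.Lib.Helper16.DimF5

open Groth.Agent.Lib.Helper16 Groth.Agent.Lib.Helper16.DimF

set_option autoImplicit false
universe u
open CategoryTheory CategoryTheory.Limits AlgebraicGeometry
open AlgSp

namespace Groth.Agent.S10328

/-- The relative dimension of a composite at a point is at most the sum of the relative dimensions, with
equality when the first morphism is flat at the point. (The published part (2) allows more generally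
flatness of a fibre of X -> Y over a field point of Z; only the case f flat at x is stated.) -/
theorem result {S : Scheme.{u}} {X Y Z : AlgSp.Space S} (f : X ⟶ Y) (g : Y ⟶ Z)
    (hf : AlgSp.LocP @LocallyOfFiniteType f.hom) (hg : AlgSp.LocP @LocallyOfFiniteType g.hom)
    (x : AlgSp.Points X.obj) (a b : WithBot ℕ∞)
    (ha : AlgSp.HasAtMor (fun _ _ h u => FlatMor.fibreDimAt h u = a) f.hom x)
    (hb : AlgSp.HasAtMor (fun _ _ h u => FlatMor.fibreDimAt h u = b) g.hom (AlgSp.Points.map f.hom x)) :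
    AlgSp.HasAtMor (fun _ _ h u => FlatMor.fibreDimAt h u ≤ a + b) (f ≫ g).hom x ∧
    (AlgSp.IsFlatAtMor f.hom x → AlgSp.HasAtMor (fun _ _ h u => FlatMor.fibreDimAt h u = a + b) (f ≫ g).hom x) := by
  obtain ⟨U, V, W, a₁, b₁, c₁, m, k, hae, hbe, hce, has, hac, hbc⟩ :=
    exists_chart_tower X.property Y.property Z.property f.hom g.hom
  obtain ⟨u, rfl⟩ := ofPt_surjective_of_surjective a₁ has x
  have hm : LocallyOfFiniteType m.left := hf _ _ m hae hbe hac
  have hk : LocallyOfFiniteType k.left := hg _ _ k hbe hce hbc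
  have h1 : FlatMor.fibreDimAt m.left u = a :=
    (hasAtMor_fibreDimAt_iff (fun t => t = a) f.hom hf a₁ b₁ m hae hbe hac u).1 ha
  have hpt : Points.map f.hom (Points.ofPt a₁ u) = Points.ofPt b₁ (m.left u) :=
    map_ofPt_chart f.hom a₁ b₁ m hac u
  rw [hpt] at hb
  have h2 : FlatMor.fibreDimAt k.left (m.left u) = b :=
    (hasAtMor_fibreDimAt_iff (fun t => t = b) g.hom hg b₁ c₁ k hbe hce hbc (m.left u)).1 hb
  have key := Groth.Agent.Lib.Helper16.FibDimComp.fibreDimAt_comp m.left k.left u
  rw [h1, h2] at key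
  have hfg : (f ≫ g).hom = f.hom ≫ g.hom := rfl
  have hacc : a₁ ≫ (f ≫ g).hom = (yon S).map (m ≫ k) ≫ c₁ := by
    rw [hfg, ← Category.assoc, hac, Category.assoc, hbc, ← Category.assoc, ← Functor.map_comp]
  refine ⟨⟨U, W, a₁, c₁, m ≫ k, u, hae, hce, hacc, rfl, ?_⟩, fun hfl => ⟨U, W, a₁, c₁, m ≫ k, u, hae, hce, hacc, rfl, ?_⟩⟩
  · show FlatMor.fibreDimAt (m ≫ k).left u ≤ a + b
    rw [Over.comp_left]
    exact key.1
  · show FlatMor.fibreDimAt (m ≫ k).left u = a + b
    rw [Over.comp_left]
    exact key.2 (hfl a₁ b₁ m u hae hbe hac rfl)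
end Groth.Agent.S10328
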