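import Groth.Statements.S10336
import Groth.Agent.Lib.Helper16.AffRep
import Groth.Agent.S0084
import Groth.Agent.S0085
import Groth.Agent.S9867
open Groth.Agent.Lib.Helper16

set_option autoImplicit false
universe u
open CategoryTheory CategoryTheory.Limits AlgebraicGeometry
open AlgSp

namespace Groth.Agent.S10336

/-- Integrality, finiteness and finite local freeness of a morphism f : X -> Y of algebraic spaces over
S can be checked on the restrictions of f over the members of a Zariski covering of Y by open
subspaces. -/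
theorem result {S : Scheme.{u}} {X Y : AlgSp.Space S} (f : X ⟶ Y) {ι : Type u}
    (Yi : ι → AlgSp.Space S) (j : ∀ i, Yi i ⟶ Y) (hj : AlgSp.IsZarCover (fun i => (Yi i).obj) (fun i => (j i).hom))
    (Xi : ι → AlgSp.Sp S) (p : ∀ i, Xi i ⟶ X.obj) (q : ∀ i, Xi i ⟶ (Yi i).obj)
    (sq : ∀ i, IsPullback (p i) (q i) f.hom (j i).hom) :
    ((∀ i, AlgSp.IsIntegralMor (q i)) → AlgSp.IsIntegralMor f.hom) ∧
    ((∀ i, AlgSp.IsFiniteMor (q i)) → AlgSp.IsFiniteMor f.hom) ∧
    ((∀ i, AlgSp.IsFinLocFreeMor (q i)) → AlgSp.IsFinLocFreeMor f.hom) := by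
  have hdI := Groth.Agent.S0085.result.{u}
  have hdF := Groth.Agent.S0084.result.{u}
  have hdesc : MorphismProperty.DescendsAlong (AlgSp.finLocFree.{u})
      (@Surjective ⊓ @Flat ⊓ @QuasiCompact : MorphismProperty Scheme.{u}) := Groth.Agent.S9867.result.{u}.1
  have heq : (AlgSp.finLocFree.{u}) =
      ((@IsFinite ⊓ @Flat ⊓ @LocallyOfFinitePresentation : MorphismProperty Scheme.{u})) := by
    ext X Y f
    exact ⟨fun h => ⟨⟨h.1, h.2.1⟩, h.2.2⟩, fun h => ⟨h.1.1, h.1.2, h.2⟩⟩
  have hloc : IsZariskiLocalAtTarget (AlgSp.finLocFree.{u}) := by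
    rw [heq]
    infer_instance
  have het : ∀ i, AlgSp.RepWith @Etale (j i).hom := fun i =>
    MorphismProperty.relative_monotone (fun _ _ k hk => by
      have : IsOpenImmersion k.left := hk
      show Etale k.left
      infer_instance) _ (hj.1 i)
  have href : FpqcRefines (fun i => (Yi i).obj) (fun i => (j i).hom) := by
    refine fpqcRefines_of_isFppfCover Y.property _ (fun i => (Yi i).property) _ ⟨fun i => ⟨?_, ?_⟩, hj.2⟩
    · exact locP_of_repWith_etale etLocalST_flat (Yi i).property Y.property _ (het i)
    · exact locP_of_repWith_etale etLocalST_locallyOfFinitePresentation (Yi i).property Y.property _ (het i)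
  refine ⟨fun h => ?_, fun h => ?_, fun h => ?_⟩
  · exact affWith_of_fpqcRefines (P := @IsIntegralHom) Y.property _ _ href X.property f.hom Xi q p sq h
  · exact affWith_of_fpqcRefines (P := @IsFinite) Y.property _ _ href X.property f.hom Xi q p sq h
  · exact repWith_of_fpqcRefines_of_le_isAffineHom (fun _ _ f hf => by
      have : IsFinite f := hf.1
      infer_instance) Y.property _ _ href X.property f.hom Xi q p sq h

end Groth.Agent.S10336
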