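import Groth.Statements.S10344
import Groth.Agent.Lib.Helper16.Special

set_option autoImplicit false
universe u
open CategoryTheory CategoryTheory.Limits AlgebraicGeometry Topology TopologicalSpace
open AlgSp

namespace Groth.Agent.S10344

/-- Let S be a scheme, Y and X algebraic spaces over S, and f : Y ⟶ X a flat morphism, and let x' ⤳ x be
a specialization in |X|, where x' is represented by a monomorphism Spec k ⟶ X which is representable
quasi-compact (for instance X decent). Then generalizations lift along f at x: every y ∈ |Y| over x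
has a generization y' over x'. -/
theorem result {S : Scheme.{u}} {X Y : AlgSp.Space S} (f : Y ⟶ X)
    (hf : AlgSp.LocP @Flat f.hom) (x x' : AlgSp.Points X.obj) (h : x' ⤳ x)
    (hx' : ∃ p : AlgSp.FieldPt X.obj, AlgSp.Points.mk p = x' ∧ Mono p.toHom ∧ AlgSp.RepWith @QuasiCompact p.toHom)
    (y : AlgSp.Points Y.obj) (hy : AlgSp.Points.map f.hom y = x) :
    ∃ y' : AlgSp.Points Y.obj, y' ⤳ y ∧ AlgSp.Points.map f.hom y' = x' := by
  obtain ⟨p, hp, _, hq⟩ := hx'
  obtain ⟨U, b, hb, hbs⟩ := X.property.atlas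
  obtain ⟨V, c, hc, hcs⟩ := Y.property.atlas
  -- the fibre product `h_U ×_X h_V` is a scheme `V'`
  have sq := hb.rep.isPullback (c ≫ f.hom)
  have het : Etale (hb.rep.snd (c ≫ f.hom)).left := hb.property_snd _
  have hsurj : Surjective (hbs.rep.snd (c ≫ f.hom)).left := hbs.property_snd _
  obtain ⟨h', hh'⟩ := (AlgSp.yon S).map_surjective (hb.rep.fst (c ≫ f.hom))
  rw [← hh'] at sq
  set snd := hb.rep.snd (c ≫ f.hom) with hsnd
  have ha : AlgSp.RepWith @Etale ((AlgSp.yon S).map snd ≫ c) :=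
    MorphismProperty.comp_mem _ _ _ ((AlgSp.repWith_yon_map_iff _ _).2 het) hc
  have hw : ((AlgSp.yon S).map snd ≫ c) ≫ f.hom = (AlgSp.yon S).map h' ≫ b := by
    rw [Category.assoc]; exact sq.w.symm
  have hflat : Flat h'.left := hf _ b h' ha hb hw
  -- lift `y` to `V'`
  obtain ⟨v, hv⟩ := Groth.Agent.Lib.Helper16.ofPt_surjective_of_surjective c hcs y
  obtain ⟨v', hv'⟩ := hsurj.surj v
  have hy' : AlgSp.Points.ofPt ((AlgSp.yon S).map snd ≫ c) v' = y := by
    rw [Groth.Agent.Lib.Helper16.ofPt_yon_map_comp]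
    change AlgSp.Points.ofPt c ((hbs.rep.snd (c ≫ f.hom)).left v') = y
    rw [hv', hv]
  have hu : AlgSp.Points.ofPt b (h'.left v') = x := by
    rw [← Groth.Agent.Lib.Helper16.ofPt_yon_map_comp, ← hw, ← AlgSp.Points.map_ofPt, hy', hy]
  obtain ⟨u', hu's, hu'x⟩ :=
    Groth.Agent.Lib.Helper16.exists_specializes_lift x x' h p hp hq b hb (h'.left v') hu
  obtain ⟨v'', hv''s, hv''⟩ := Flat.generalizingMap h'.left hu's
  refine ⟨AlgSp.Points.ofPt ((AlgSp.yon S).map snd ≫ c) v'', ?_, ?_⟩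
  · rw [← hy']
    exact hv''s.map (AlgSp.Points.continuous_ofPt _)
  · rw [AlgSp.Points.map_ofPt, hw, Groth.Agent.Lib.Helper16.ofPt_yon_map_comp, hv'', hu'x]

end Groth.Agent.S10344
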