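import Groth.Statements.S10347
import Groth.Agent.Lib.Helper16.EtDim
open Groth.Agent.Lib.Helper16

set_option autoImplicit false
universe u
open CategoryTheory CategoryTheory.Limits AlgebraicGeometry Topology TopologicalSpace
open AlgSp

namespace Groth.Agent.S10347

/-- For a locally quasi-finite morphism f : X ⟶ Y of algebraic spaces over a scheme S (locally
quasi-finite and locally of finite type, etale locally on source and target), dim X ≤ dim Y. -/
theorem result {S : Scheme.{u}} {X Y : AlgSp.Space S} (f : X ⟶ Y)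
    (hf : AlgSp.LocP (@LocallyQuasiFinite ⊓ @LocallyOfFiniteType) f.hom) :
    AlgSp.dim X.obj ≤ AlgSp.dim Y.obj := by
  obtain ⟨V, b, hbe, hbs⟩ := Y.property.atlas
  refine iSup_le fun U => iSup_le fun a => iSup_le fun ha => ?_
  obtain ⟨W, r, s₀, sq⟩ := hbe.rep (a ≫ f.hom)
  obtain ⟨s, rfl⟩ := (AlgSp.yon S).map_surjective s₀
  have hr : Etale r.left := hbe.property _ _ _ sq
  have hrs : Surjective r.left := hbs.property _ _ _ sq
  have hra : AlgSp.RepWith @Etale ((AlgSp.yon S).map r ≫ a) :=
    (AlgSp.RepWith @Etale).comp_mem _ _ ((AlgSp.repWith_yon_map_iff _ _).2 hr) ha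
  have hs : LocallyQuasiFinite s.left :=
    (hf ((AlgSp.yon S).map r ≫ a) b s hra hbe (by rw [Category.assoc, sq.w])).1
  rw [← EtDim.topologicalKrullDim_eq_of_etale_of_surjective r.left]
  refine le_trans (EtDim.topologicalKrullDim_le_of_locallyQuasiFinite s.left) ?_
  exact le_iSup_of_le V (le_iSup_of_le b (le_iSup_of_le hbe le_rfl))
end Groth.Agent.S10347
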