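import Groth.Statements.S10384
import Groth.Agent.Lib.Helper16.DecentPt
open Groth.Agent.Lib.Helper16

set_option autoImplicit false
universe u
open CategoryTheory CategoryTheory.Limits AlgebraicGeometry Topology TopologicalSpace
open AlgSp

namespace Groth.Agent.S10384

/-- Let f : X ⟶ Y be a quasi-compact, etale and surjective morphism of algebraic spaces over a scheme S.
If X is decent then Y is decent. -/
theorem result {S : Scheme.{u}} {X Y : AlgSp.Space S} (f : X ⟶ Y)
    (hq : AlgSp.IsQuasiCompactMor f.hom) (he : AlgSp.IsEtaleMor f.hom) (hs : AlgSp.IsSurjectiveMor f.hom)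
    (hX : AlgSp.IsDecent X.obj) : AlgSp.IsDecent Y.obj := by
  intro y
  obtain ⟨x, rfl⟩ := hs y
  obtain ⟨px, hpx, hmx, hqx⟩ := hX x
  have hrep : Representable (px.map f.hom).toHom := Y.property.representable_from_yon _
  have hqc : RepWith @QuasiCompact (px.map f.hom).toHom := by
    rw [repWith_quasiCompact_iff_isQuasiCompactMor _ hrep, FieldPt.toHom_map]
    exact Groth.Agent.Lib.Helper17.isQuasiCompactMor_comp X.property Y.property.diag px.toHom f.hom
      (isQuasiCompactMor_of_repWith_quasiCompact _ hqx) hq
  obtain ⟨p, hp, hm, hpq⟩ := exists_qc_mono_point_of_qc_point Y.property (px.map f.hom) hqc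
  refine ⟨p, ?_, hm, hpq⟩
  rw [hp, ← Points.map_mk, hpx]

end Groth.Agent.S10384
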