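import Groth.Statements.S10353
import Groth.Agent.Lib.Helper16.SchLocusDense
import Groth.Agent.S9912
import Groth.Agent.S10384

set_option autoImplicit false
universe u
open CategoryTheory CategoryTheory.Limits AlgebraicGeometry Topology TopologicalSpace
open AlgSp

namespace Groth.Agent.S10353

open Groth.Agent.Lib.Helper15 Groth.Agent.Lib.Helper16 Groth.Agent.Lib.Helper16.SchLocus

theorem isFinite_le_quasiCompact : (@IsFinite : MorphismProperty Scheme.{u}) ≤ @QuasiCompact :=
  fun _ _ f hf => by
    have : IsFinite f := hf
    exact (inferInstance : QuasiCompact f)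

/-- An algebraic space with a finite etale surjective chart from a scheme is decent. -/
theorem isDecent_of_finite_etale_chart {S : Scheme.{u}} (X : AlgSp.Space S)
    {U : Over S} (a : (AlgSp.yon S).obj U ⟶ X.obj) (hf : AlgSp.RepWith @IsFinite a) (he : AlgSp.RepWith @Etale a)
    (hs : AlgSp.RepWith @Surjective a) : AlgSp.IsDecent X.obj := by
  let Y : AlgSp.Space S := ⟨(AlgSp.yon S).obj U, AlgSp.IsAlgSpace.yon_obj U⟩
  let f : Y ⟶ X := ObjectProperty.homMk a
  have hq : AlgSp.IsQuasiCompactMor f.hom :=
    (Groth.Agent.S9912.result f he.rep).1 (repWith_mono isFinite_le_quasiCompact a hf)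
  have hee : AlgSp.IsEtaleMor f.hom := fun T φ hφ => (AlgSp.RepWith @Etale).comp_mem _ _ hφ he
  have hss : AlgSp.IsSurjectiveMor f.hom := (repWith_surjective_iff a he.rep).1 hs
  exact Groth.Agent.S10384.result f hq hee hss (isDecent_yon U)


/-- Let X be an algebraic space over a scheme S and suppose there is a finite, etale, surjective map h_U
⟶ X from a scheme U. Then some dense open subspace of X is a scheme: an open subspace X' ⟶ X with
representable underlying sheaf and |X'| dense in |X|. -/
theorem result {S : Scheme.{u}} (X : AlgSp.Space S)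
    {U : Over S} (a : (AlgSp.yon S).obj U ⟶ X.obj) (hf : AlgSp.RepWith @IsFinite a) (he : AlgSp.RepWith @Etale a)
    (hs : AlgSp.RepWith @Surjective a) :
    ∃ (X' : AlgSp.Space S) (j : X' ⟶ X), AlgSp.RepWith @IsOpenImmersion j.hom ∧ X'.obj.obj.IsRepresentable ∧
      Dense (Set.range (AlgSp.Points.map j.hom)) := by
  have hX : AlgSp.IsDecent X.obj := isDecent_of_finite_etale_chart X a hf he hs
  obtain ⟨Mg, ⟨e⟩⟩ := exists_iso_yon_openSub_schLocus X.property
  have hopen := isOpen_schLocus X.obj
  refine ⟨⟨openSub X.obj (schLocus X.obj), isAlgSpace_openSub X.property _ hopen⟩,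
    ObjectProperty.homMk (openSubι X.obj (schLocus X.obj)), repWith_isOpenImmersion_openSubι _ hopen,
    isRepresentable_of_iso e.symm, ?_⟩
  change Dense (Set.range (AlgSp.Points.map (openSubι X.obj (schLocus X.obj))))
  rw [range_map_openSubι]
  exact dense_schLocus_of_isDecent X.property hX

end Groth.Agent.S10353
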