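import Groth.Statements.S10355
import Groth.Agent.Lib.Helper16.FinEtQuot
import Groth.Agent.Lib.Helper16.FppfLocalT
import Groth.Agent.Lib.Helper16.QsNoeth2

set_option autoImplicit false
universe u
open CategoryTheory CategoryTheory.Limits AlgebraicGeometry Topology TopologicalSpace
open AlgSp

namespace Groth.Agent.S10355

open Groth.Agent.Lib.Helper16 Groth.Agent.Lib.Helper16.Strata Groth.Agent.Lib.Helper16.Tuple

/-- A sheaf isomorphic to a representable sheaf has a representable underlying presheaf. -/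
theorem isRepresentable_of_iso {S : Scheme.{u}} {F : AlgSp.Sp S} {M : Over S} (e : F ≅ (AlgSp.yon S).obj M) :
    F.obj.IsRepresentable := by
  have e' : F.obj ≅ CategoryTheory.uliftYoneda.{u + 1}.obj M := (sheafToPresheaf _ _).mapIso e
  exact ⟨M, ⟨(Functor.RepresentableBy.equivUliftYonedaIso _ M).symm e'.symm⟩⟩


/-- A decent algebraic space X over a scheme S whose space of points is a single point is a scheme (the
underlying sheaf of X is representable). -/
theorem result {S : Scheme.{u}} (X : AlgSp.Space S)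
    (hX : AlgSp.IsDecent X.obj) [Nonempty (AlgSp.Points X.obj)] [Subsingleton (AlgSp.Points X.obj)] :
    X.obj.obj.IsRepresentable := by
  classical
  obtain ⟨U₀, p₀, hp₀e, hp₀s⟩ := X.property.atlas
  obtain ⟨x₀⟩ := (inferInstance : Nonempty (AlgSp.Points X.obj))
  obtain ⟨u₀, -⟩ := ofPt_surjective_of_surjective p₀ hp₀s x₀
  obtain ⟨O, hOaff, hu₀O⟩ := exists_affineOpen_mem u₀
  obtain ⟨U, hU⟩ : ∃ U : Over S, U = overOpen U₀ O := ⟨_, rfl⟩
  obtain ⟨a, ha⟩ : ∃ a : (AlgSp.yon S).obj U ⟶ X.obj, HEq a ((AlgSp.yon S).map (overOpenι U₀ O) ≫ p₀) := by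
    subst hU
    exact ⟨_, HEq.rfl⟩
  have hae : AlgSp.RepWith @Etale a := by
    subst hU
    rw [eq_of_heq ha]
    exact repWith_etale_restrict p₀ hp₀e O
  have hUaff : IsAffine U.left := by
    subst hU
    exact hOaff
  have hUne : Nonempty ↥U.left := by
    subst hU
    exact ⟨⟨u₀, hu₀O⟩⟩
  obtain ⟨u₁⟩ := hUne
  have has : AlgSp.RepWith @Surjective a :=
    (repWith_surjective_iff a hae.rep).2 fun x => ⟨AlgSp.Points.ofPt (𝟙 _) u₁, Subsingleton.elim _ _⟩
  -- the kernel pair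
  have sq := hae.rep.isPullback a
  obtain ⟨c, hc⟩ := (AlgSp.yon S).map_surjective (hae.rep.fst a)
  rw [← hc] at sq
  obtain ⟨R, hR⟩ : ∃ R : Over S, R = hae.rep.pullback a := ⟨_, rfl⟩
  obtain ⟨sn, hsn⟩ : ∃ sn : hae.rep.pullback a ⟶ U, sn = hae.rep.snd a := ⟨_, rfl⟩
  rw [← hsn] at sq
  have hsne : Etale sn.left := hae.property _ _ _ sq
  have hsns : IsSeparated sn.left := isSeparated_sn sq
  -- the degree is constant
  have hconst : ∀ (u u' : ↥U.left) (d : ℕ), HasDeg sn.left u d → HasDeg sn.left u' d := fun u u' d hd =>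
    hasDeg_of_ofPt_eq sq (Subsingleton.elim _ _) hd
  obtain ⟨N, hN⟩ := exists_bound_hasDeg sq hX hae u₁
  have h1 : HasDeg sn.left u₁ 1 := by
    rw [hasDeg_one_iff]
    obtain ⟨e, -, hes⟩ := exists_lift_R sq (𝟙 U) (𝟙 U) rfl
    refine ⟨e.left u₁, ?_⟩
    rw [← Scheme.Hom.comp_apply, ← Over.comp_left, hes]
    rfl
  obtain ⟨d, hd⟩ : ∃ d, d = Nat.findGreatest (fun d => HasDeg sn.left u₁ d) N := ⟨_, rfl⟩
  have hd1 : 1 ≤ d := by
    rw [hd]
    exact Nat.le_findGreatest (hN 1 h1) h1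
  have hdP : HasDeg sn.left u₁ d := by
    rw [hd]
    exact Nat.findGreatest_spec (P := fun d => HasDeg sn.left u₁ d) (hN 1 h1) h1
  have hdQ : ¬ HasDeg sn.left u₁ (d + 1) := by
    intro h
    have hle := hN _ h
    exact Nat.findGreatest_is_greatest (P := fun d => HasDeg sn.left u₁ d) (n := N) (k := d + 1)
      (by rw [← hd]; exact Nat.lt_succ_self d) hle h
  obtain ⟨k, rfl⟩ : ∃ k, d = k + 1 := ⟨d - 1, by omega⟩
  have hdeg : ∀ u : ↥U.left, HasDeg sn.left u (k + 1) ∧ ¬ HasDeg sn.left u (k + 1 + 1) := fun u =>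
    ⟨hconst u₁ u _ hdP, fun h => hdQ (hconst u u₁ _ h)⟩
  have hfin : IsFinite sn.left := isFinite_of_forall_hasDeg (k + 1) sn.left hdeg
  have haf : AlgSp.RepWith @IsFinite a :=
    (repWith_iff_of_chart a hae.rep a hae has ((AlgSp.yon S).map c) sn sq @IsFinite).2 hfin
  obtain ⟨M, e, -⟩ := exists_iso_yon_of_const_deg hae haf has sq k hdeg
  exact isRepresentable_of_iso e

end Groth.Agent.S10355
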