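import Groth.Statements.S10356
import Groth.Agent.Lib.Helper16.MonoPt
import Groth.Agent.Lib.Helper16.MonoDescent
import Groth.Agent.Lib.Helper16.FiniteFibres
import Mathlib.AlgebraicGeometry.Morphisms.FlatMono
open Groth.Agent.Lib.Helper16

set_option autoImplicit false
universe u
open CategoryTheory CategoryTheory.Limits AlgebraicGeometry Topology TopologicalSpace
open AlgSp

namespace Groth.Agent.S10356

theorem ringHom_flat_of_isField {R T : Type*} [CommRing R] [CommRing T] (hR : IsField R) (f : R →+* T) :
    f.Flat := by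
  let := hR.toField
  let : Algebra R T := f.toAlgebra
  show Module.Flat R T
  infer_instance

theorem isField_stalk_of_no_specializations (U : Scheme.{u}) [IsReduced U]
    (h : ∀ u u' : U, u' ⤳ u → u = u') (u : U) : IsField (U.presheaf.stalk u) := by
  apply isField_stalk_of_closure_mem_irreducibleComponents
  refine ⟨isIrreducible_singleton.closure, fun Z hZ hle => ?_⟩
  obtain ⟨η, hη⟩ := QuasiSober.sober hZ.closure isClosed_closure
  have huZ : u ∈ closure Z := subset_closure (hle (subset_closure rfl))
  have hs : η ⤳ u := hη.specializes huZ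
  have := h u η hs
  subst this
  exact subset_closure.trans hη.def.ge


/-- A reduced decent algebraic space X over a scheme S whose space of points is a single point is
isomorphic to h_{Spec k} for a field k over S. -/
theorem result {S : Scheme.{u}} (X : AlgSp.Space S)
    (hX : AlgSp.IsDecent X.obj) (hr : AlgSp.EtaleLocally (fun U => IsReduced U) X.obj)
    [Nonempty (AlgSp.Points X.obj)] [Subsingleton (AlgSp.Points X.obj)] :
    ∃ (k : Type u) (_ : Field k) (str : Spec (CommRingCat.of k) ⟶ S),
      Nonempty ((AlgSp.yon S).obj (Over.mk str) ≅ X.obj) := by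
  obtain ⟨x₀⟩ := ‹Nonempty (AlgSp.Points X.obj)›
  obtain ⟨r, hr0, hm, hq⟩ := hX x₀
  obtain ⟨U, a, hae, has, hUred⟩ := hr
  have hall : ∀ u : ↥U.left, AlgSp.Points.ofPt a u = AlgSp.Points.mk r := fun u => Subsingleton.elim _ _
  have sq := hq.rep.isPullback a
  obtain ⟨c, hc⟩ := (AlgSp.yon S).map_surjective (hq.rep.fst a)
  rw [← hc] at sq
  have hqc : QuasiCompact (hq.rep.snd a).left := hq.property_snd a
  have hmono : Mono (hq.rep.snd a).left := by
    have h1 : Mono ((AlgSp.yon S).map (hq.rep.snd a)) :=
      MorphismProperty.of_isPullback (P := MorphismProperty.monomorphisms _) sq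
        (MorphismProperty.monomorphisms.infer_property _)
    have h2 : Mono (hq.rep.snd a) := (AlgSp.yon S).mono_of_mono_map h1
    infer_instance
  have hsurj : Surjective (hq.rep.snd a).left :=
    ⟨fun u => (ofPt_eq_mk_iff_mem_range r hq.rep a u).1 (hall u)⟩
  have hred : IsReduced U.left := hUred
  have hnospec : ∀ u u' : ↥U.left, u' ⤳ u → u = u' := fun u u' hs =>
    eq_of_specializes_of_finite_fibres (AlgSp.Points.mk r)
      (fun V₁ b₁ hV₁ hb₁ => by
        have : IsAffine V₁.left := hV₁
        exact finite_fibre_of_quasiCompact_fieldPt r hq b₁ hb₁) a hae u u' (hall u) (hall u') hs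
  have hflat : Flat (hq.rep.snd a).left := Flat.of_stalkMap _ fun t =>
    ringHom_flat_of_isField (isField_stalk_of_no_specializations U.left hnospec _) _
  have hiso : IsIso (hq.rep.snd a).left := Flat.isIso_of_surjective_of_mono _
  have hisoj : IsIso (hq.rep.snd a) := by
    have : IsIso ((Over.forget S).map (hq.rep.snd a)) := hiso
    exact isIso_of_reflects_iso (hq.rep.snd a) (Over.forget S)
  have ha : a = (AlgSp.yon S).map (inv (hq.rep.snd a) ≫ c) ≫ r.toHom := by
    rw [Functor.map_comp, Category.assoc, sq.w, ← Category.assoc, ← Functor.map_comp, IsIso.inv_hom_id,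
      (AlgSp.yon S).map_id, Category.id_comp]
  have hepia : Epi a := epi_of_etale_surjective a hae has
  have hepi' : Epi ((AlgSp.yon S).map (inv (hq.rep.snd a) ≫ c) ≫ r.toHom) := ha ▸ hepia
  have hepir : Epi r.toHom := epi_of_epi ((AlgSp.yon S).map (inv (hq.rep.snd a) ≫ c)) r.toHom
  have : IsIso r.toHom := isIso_of_mono_of_epi _
  exact ⟨r.K, r.field, r.str, ⟨asIso r.toHom⟩⟩

end Groth.Agent.S10356
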