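import Groth.Statements.S10357
import Groth.Agent.Lib.Helper16.ClosedPtAlg
import Groth.Agent.Lib.Helper16.MonoPt
open Groth.Agent.Lib.Helper16

set_option autoImplicit false
universe u
open CategoryTheory CategoryTheory.Limits AlgebraicGeometry Topology TopologicalSpace
open AlgSp

namespace Groth.Agent.S10357

/-- Let S be a scheme, X a decent algebraic space over S, and Spec k ⟶ X a morphism over S from the
spectrum of a field whose image in S is a closed point s with k algebraic over κ(s). Then the image
point of |X| is closed. Here Spec k ⟶ S is written as Spec k ⟶ Spec κ(s) ⟶ S for a ring map φ : κ(s)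
→ k, integral since k is algebraic over κ(s). -/
theorem result {S : Scheme.{u}} (X : AlgSp.Space S)
    (hX : AlgSp.IsDecent X.obj) (s : ↥S) (hs : IsClosed ({s} : Set ↥S)) (k : Type u) [Field k]
    (φ : S.residueField s ⟶ CommRingCat.of k) (hφ : φ.hom.IsIntegral)
    (p : (AlgSp.yon S).obj (Over.mk (Spec.map φ ≫ S.fromSpecResidueField s)) ⟶ X.obj)
    (t : ↥(Spec (CommRingCat.of k))) :
    IsClosed ({AlgSp.Points.ofPt p t} : Set (AlgSp.Points X.obj)) := by

  have hXa := X.property
  obtain ⟨p', hp', hm, hq⟩ := hX (AlgSp.Points.ofPt p t)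
  obtain ⟨qp, hqpdef⟩ : ∃ qp : AlgSp.FieldPt X.obj,
      qp = fieldPtOfHom k (Spec.map φ ≫ S.fromSpecResidueField s) p := ⟨_, rfl⟩
  have hqp : AlgSp.Points.mk qp = AlgSp.Points.ofPt p t := by
    subst hqpdef
    have h1 := FibreEmb.points_map_toHom_eq
      (fieldPtOfHom k (Spec.map φ ≫ S.fromSpecResidueField s) p) (AlgSp.Points.ofScheme _ t)
    rw [← h1, AlgSp.Points.map_ofPt, Category.id_comp]
    exact congrArg (fun l => AlgSp.Points.ofPt l t) (fieldPtOfHom_toHom k _ p)
  have hrel : AlgSp.FieldPt.Rel qp p' := AlgSp.Points.mk_eq_mk_iff.1 (hqp.trans hp'.symm)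
  obtain ⟨c, hc⟩ := exists_factor_of_rel_of_mono p' qp hm hq.rep hrel
  have hstr : c.left ≫ p'.str = qp.str := Over.w c
  have hci : IsClosedImmersion (S.fromSpecResidueField s) := isClosed_singleton_iff_isClosedImmersion.1 hs
  have hint : IsIntegralHom (Spec.map φ) := IsIntegralHom.SpecMap_iff.2 hφ
  have huck : UniversallyClosed (c.left ≫ p'.str) := by
    rw [hstr]
    subst hqpdef
    show UniversallyClosed (Spec.map φ ≫ S.fromSpecResidueField s)
    infer_instance
  have hsubk' : Subsingleton ↥p'.pt.left := inferInstanceAs (Subsingleton ↥(Spec (CommRingCat.of p'.K)))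
  have hnek : Nonempty ↥qp.pt.left := inferInstanceAs (Nonempty ↥(Spec (CommRingCat.of qp.K)))
  have hsurj : Surjective c.left := ⟨fun z => ⟨hnek.some, Subsingleton.elim _ _⟩⟩
  have huc : UniversallyClosed p'.str := UniversallyClosed.of_comp_surjective c.left p'.str
  have := ClosedPt.isClosed_mk_of_universallyClosed_str hXa p' hq huc
  rwa [hp'] at this

end Groth.Agent.S10357
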