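import Groth.Statements.S10358
import Groth.Agent.Lib.Helper16.ClosedPtAlg
import Groth.Agent.Lib.Helper16.MonoPt
import Groth.Agent.S10357
open Groth.Agent.Lib.Helper16

set_option autoImplicit false
universe u
open CategoryTheory CategoryTheory.Limits AlgebraicGeometry Topology TopologicalSpace
open AlgSp

namespace Groth.Agent.S10358

/-- Let S be a scheme, X a decent algebraic space over S, and Spec k ⟶ X a morphism over S from the
spectrum of a field whose image in S is a closed point s with k finite over κ(s) (Spec k ⟶ S written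
through a ring map φ : κ(s) → k). Then Spec k ⟶ X is finite; if moreover φ is bijective (k = κ(s))
it is a closed immersion. -/
theorem result {S : Scheme.{u}} (X : AlgSp.Space S)
    (hX : AlgSp.IsDecent X.obj) (s : ↥S) (hs : IsClosed ({s} : Set ↥S)) (k : Type u) [Field k]
    (φ : S.residueField s ⟶ CommRingCat.of k) (hφ : φ.hom.Finite)
    (p : (AlgSp.yon S).obj (Over.mk (Spec.map φ ≫ S.fromSpecResidueField s)) ⟶ X.obj) :
    AlgSp.RepWith @IsFinite p ∧
      (Function.Bijective φ.hom → AlgSp.RepWith @IsClosedImmersion p) := by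

  have hXa := X.property
  have hxcl : IsClosed ({AlgSp.Points.ofPt p (IsLocalRing.closedPoint k)} : Set (AlgSp.Points X.obj)) :=
    Groth.Agent.S10357.result X hX s hs k φ hφ.to_isIntegral p (IsLocalRing.closedPoint k)
  obtain ⟨p', hp', hm, hq⟩ := hX (AlgSp.Points.ofPt p (IsLocalRing.closedPoint k))
  have hcip' : AlgSp.RepWith @IsClosedImmersion p'.toHom :=
    ClosedPt.repWith_isClosedImmersion_of_isClosed hXa p' hm hq (hp' ▸ hxcl)
  have hqp : AlgSp.Points.mk (fieldPtOfHom k (Spec.map φ ≫ S.fromSpecResidueField s) p) =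
      AlgSp.Points.ofPt p (IsLocalRing.closedPoint k) := by
    have h1 := FibreEmb.points_map_toHom_eq
      (fieldPtOfHom k (Spec.map φ ≫ S.fromSpecResidueField s) p)
      (AlgSp.Points.ofScheme _ (IsLocalRing.closedPoint k))
    rw [← h1, AlgSp.Points.map_ofPt, Category.id_comp]
    exact congrArg (fun l => AlgSp.Points.ofPt l (IsLocalRing.closedPoint k)) (fieldPtOfHom_toHom k _ p)
  have hrel : AlgSp.FieldPt.Rel (fieldPtOfHom k (Spec.map φ ≫ S.fromSpecResidueField s) p) p' :=
    AlgSp.Points.mk_eq_mk_iff.1 (hqp.trans hp'.symm)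
  obtain ⟨c, hc⟩ := exists_factor_of_rel_of_mono p' _ hm hq.rep hrel
  have hstr : c.left ≫ p'.str = Spec.map φ ≫ S.fromSpecResidueField s := Over.w c
  have hp_eq : p = (AlgSp.yon S).map c ≫ p'.toHom := (fieldPtOfHom_toHom k _ p).symm.trans hc
  have hci : IsClosedImmersion (S.fromSpecResidueField s) := isClosed_singleton_iff_isClosedImmersion.1 hs
  have hfinφ : IsFinite (Spec.map φ) := (IsFinite.SpecMap_iff φ).2 hφ
  have hfinres : IsFinite (S.fromSpecResidueField s) := inferInstance
  have hfin_str : IsFinite (c.left ≫ p'.str) := by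
    rw [hstr]; exact MorphismProperty.comp_mem _ _ _ hfinφ hfinres
  have haffk' : IsAffine p'.pt.left := inferInstanceAs (IsAffine (Spec (CommRingCat.of p'.K)))
  have hsep : IsSeparated p'.str := ClosedPt.isSeparated_of_isAffine _
  have hcfin : IsFinite c.left := IsFinite.of_comp c.left p'.str
  constructor
  · rw [hp_eq]
    exact (AlgSp.RepWith @IsFinite).comp_mem _ _ ((AlgSp.repWith_yon_map_iff _ _).2 hcfin)
      (repWith_mono (fun _ _ g hg => by
        have : IsClosedImmersion g := hg
        exact (inferInstance : IsFinite g)) _ hcip')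
  · intro hbij
    have hciφ : IsClosedImmersion (Spec.map φ) := IsClosedImmersion.spec_of_surjective φ hbij.2
    have hci_str : IsClosedImmersion (c.left ≫ p'.str) := by
      rw [hstr]; exact @IsClosedImmersion.comp _ _ _ _ _ hciφ hci
    have hcci : IsClosedImmersion c.left := IsClosedImmersion.of_comp c.left p'.str
    rw [hp_eq]
    exact (AlgSp.RepWith @IsClosedImmersion).comp_mem _ _ ((AlgSp.repWith_yon_map_iff _ _).2 hcci) hcip'

end Groth.Agent.S10358
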