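import Groth.Statements.S10360
import Groth.Agent.Lib.Helper16.DecentPt
import Groth.Agent.Lib.Helper16.FibreFinite
import Groth.Agent.Lib.Helper16.FiniteFibres
import Groth.Agent.Lib.Helper16.QuasiCompact
open Groth.Agent.Lib.Helper16

set_option autoImplicit false
universe u
open CategoryTheory CategoryTheory.Limits AlgebraicGeometry Topology TopologicalSpace
open AlgSp

namespace Groth.Agent.S10360

/-- (1) ⇔ (4): for an algebraic space X over a scheme S and x ∈ |X|, the fibres over x of |U| → |X| and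
|U ×_X U| → |X| are finite for every etale h_U ⟶ X with U affine, if and only if x is represented by
a monomorphism Spec k ⟶ X which is representable quasi-compact. -/
theorem result {S : Scheme.{u}} (X : AlgSp.Space S)
    (x : AlgSp.Points X.obj) :
    (∀ (U : Over S) (φ : (AlgSp.yon S).obj U ⟶ X.obj), IsAffine U.left → AlgSp.RepWith @Etale φ →
        ∀ (R : Over S) (s t : R ⟶ U), IsPullback ((AlgSp.yon S).map t) ((AlgSp.yon S).map s) φ φ →
          (AlgSp.Points.ofPt φ ⁻¹' {x}).Finite ∧ (AlgSp.Points.ofPt ((AlgSp.yon S).map t ≫ φ) ⁻¹' {x}).Finite) ↔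
      ∃ p : AlgSp.FieldPt X.obj, AlgSp.Points.mk p = x ∧ Mono p.toHom ∧ AlgSp.RepWith @QuasiCompact p.toHom := by
  constructor
  · intro H
    obtain ⟨U, φ, hφ, hφs⟩ := X.property.atlas
    obtain ⟨u, hu⟩ := ofPt_surjective_of_surjective φ hφs x
    -- finiteness of the fibre in every affine open of the atlas
    have hfinW : ∀ W : U.left.Opens, IsAffineOpen W →
        ((Points.ofPt φ ⁻¹' {x}) ∩ (W : Set ↥U.left)).Finite := by
      intro W hW
      have hφW := repWith_etale_restrict φ hφ W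
      obtain ⟨R, snd, fst, sq⟩ := hφW.rep ((yon S).map (overOpenι U W) ≫ φ)
      obtain ⟨fst', rfl⟩ := (yon S).map_surjective fst
      have haff : IsAffine (overOpen U W).left := hW
      have h1 := (H (overOpen U W) _ haff hφW R snd fst' sq).1
      refine (h1.image (fun w => W.ι w)).subset ?_
      rintro w ⟨hw1, hw2⟩
      refine ⟨(⟨w, hw2⟩ : ↥W), ?_, rfl⟩
      show Points.ofPt ((yon S).map (overOpenι U W) ≫ φ) _ ∈ ({x} : Set _)
      rw [ofPt_restrict]
      exact hw1
    -- an affine open neighbourhood of `u`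
    obtain ⟨_, ⟨W₀, hW₀, rfl⟩, huW, -⟩ :=
      U.left.isBasis_affineOpens.exists_subset_of_mem_open (Set.mem_univ u) isOpen_univ
    let W : U.left.Opens := W₀
    have hW : IsAffineOpen W := hW₀
    have hφW := repWith_etale_restrict φ hφ W
    obtain ⟨R, snd, fst, sq⟩ := hφW.rep ((yon S).map (overOpenι U W) ≫ φ)
    obtain ⟨fst', rfl⟩ := (yon S).map_surjective fst
    have haff : IsAffine (overOpen U W).left := hW
    have h2 := (H (overOpen U W) _ haff hφW R snd fst' sq).2
    obtain ⟨u₀, hu₀⟩ : ∃ u₀ : ↥(overOpen U W).left, W.ι u₀ = u := ⟨(⟨u, huW⟩ : ↥W), rfl⟩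
    have hu₀x : Points.ofPt ((yon S).map (overOpenι U W) ≫ φ) u₀ = x := by
      rw [ofPt_restrict, hu₀, hu]
    have hfin : {r : ↥R.left | snd.left r = u₀ ∧ fst'.left r = u₀}.Finite := by
      refine h2.subset ?_
      rintro r ⟨-, hr2⟩
      show Points.ofPt ((yon S).map fst' ≫ (yon S).map (overOpenι U W) ≫ φ) r ∈ ({x} : Set _)
      rw [ofPt_yon_map_comp, hr2, hu₀x]
      rfl
    obtain ⟨p, hp, hm⟩ := exists_mono_point_of_finite_relation_fibre X.property _ hφW u₀ u₀ rfl snd fst' sq
      hfin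
    have hpx : Points.mk p = x := hp.trans hu₀x
    refine ⟨p, hpx, hm, ?_⟩
    refine repWith_quasiCompact_of_mono_of_finite_fibres X.property p hm φ hφ hφs ?_
    rw [hpx]
    exact hfinW
  · rintro ⟨p, rfl, hm, hq⟩ U φ haff hφ R s t sq
    have hc : CompactSpace ↥U.left := inferInstance
    have h1 : (Points.ofPt φ ⁻¹' {Points.mk p}).Finite := finite_fibre_of_quasiCompact_fieldPt p hq φ hφ
    refine ⟨h1, ?_⟩
    have h2 : (⋃ u ∈ Points.ofPt φ ⁻¹' {Points.mk p}, ⋃ u' ∈ Points.ofPt φ ⁻¹' {Points.mk p},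
        {r : ↥R.left | s.left r = u ∧ t.left r = u'}).Finite :=
      h1.biUnion fun u hu => h1.biUnion fun u' hu' => finite_fibre_of_mono_point p hm φ hφ u u' hu hu' R s t sq
    refine h2.subset ?_
    intro r hr
    have hr' : Points.ofPt φ (t.left r) = Points.mk p := by
      rw [← ofPt_yon_map_comp]; exact hr
    have hr'' : Points.ofPt φ (s.left r) = Points.mk p := by
      rw [← ofPt_yon_map_comp, ← sq.w]; exact hr
    exact Set.mem_biUnion hr'' (Set.mem_biUnion hr' ⟨rfl, rfl⟩)

end Groth.Agent.S10360
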