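import Groth.Statements.S10365
import Groth.Agent.Lib.Helper16.ResidualSp
import Groth.Agent.Lib.Helper16.GeomRed
import Groth.Agent.Lib.Helper16.LocP
import Groth.Agent.Lib.Helper16.FtPt
open Groth.Agent.Lib.Helper16

set_option autoImplicit false
universe u
open CategoryTheory CategoryTheory.Limits AlgebraicGeometry Topology TopologicalSpace
open AlgSp

namespace Groth.Agent.S10365


theorem ringHom_flat_of_isField {R T : Type*} [CommRing R] [CommRing T] (hR : IsField R) (f : R →+* T) :
    f.Flat := by
  let := hR.toField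
  let : Algebra R T := f.toAlgebra
  show Module.Flat R T
  infer_instance

theorem isField_stalk_of_no_specializations (U : Scheme.{u}) [IsReduced U]
    (h : ∀ u u' : U, u' ⤳ u → u = u') (u : U) : IsField (U.presheaf.stalk u) := by
  apply isField_stalk_of_closure_mem_irreducibleComponents
  refine ⟨isIrreducible_singleton.closure, fun Z hZ hle => ?_⟩
  obtain ⟨η, hη⟩ := QuasiSober.sober hZ.closure isClosed_closure
  have huZ : u ∈ closure Z := subset_closure (hle (subset_closure rfl))
  have hs : η ⤳ u := hη.specializes huZ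
  have := h u η hs
  subst this
  exact subset_closure.trans hη.def.ge

/-- A local ring with a flat local homomorphism to a field is a field. -/
theorem isField_of_flat_isLocalHom {R K : Type*} [CommRing R] [IsLocalRing R] [CommRing K] (hK : IsField K)
    (φ : R →+* K) [hloc : IsLocalHom φ] (hφ : φ.Flat) : IsField R := by
  letI := hK.toField
  algebraize [φ]
  have : IsLocalHom (algebraMap R K) := hloc
  have : Module.FaithfullyFlat R K := Module.FaithfullyFlat.of_flat_of_isLocalHom
  have hinj : Function.Injective (algebraMap R K) := FaithfulSMul.algebraMap_injective R K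
  rw [IsLocalRing.isField_iff_maximalIdeal_eq, eq_bot_iff]
  intro x hx
  rw [Ideal.mem_bot]
  apply hinj
  rw [map_zero]
  by_contra hne
  have hu : IsUnit (algebraMap R K x) := IsUnit.mk0 _ hne
  exact (IsLocalRing.mem_maximalIdeal x).1 hx (hloc.map_nonunit x hu)

theorem isField_stalk_chart {S : Scheme.{u}} {Z : Sp S} (k : Type u) [Field k]
    (str : Spec (CommRingCat.of k) ⟶ S) (p : (yon S).obj (Over.mk str) ⟶ Z) (hpf : LocP @Flat p)
    (hps : IsSurjectiveMor p) {B : Over S} (b : (yon S).obj B ⟶ Z) (hbe : RepWith @Etale b) (β : ↥B.left) :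
    IsField (B.left.presheaf.stalk β) := by
  obtain ⟨P, g, t₀, sq⟩ := hbe.rep p
  obtain ⟨γ, rfl⟩ := (yon S).map_surjective t₀
  have hget : Etale g.left := hbe.property _ _ _ sq
  have hge : RepWith @Etale ((yon S).map g) := (repWith_yon_map_iff _ _).2 hget
  have hγ : Flat γ.left := hpf _ b γ hge hbe sq.w.symm
  obtain ⟨t', ht'⟩ := hps (Points.ofPt b β)
  obtain ⟨π, hπ, -⟩ := exists_point_of_isPullback_yon_yon sq β (Points.toScheme _ t')
    (by rw [Points.ofPt_eq_map_ofScheme p, Points.ofScheme_toScheme, ht'])
  subst hπ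
  have hlqf : LocallyQuasiFinite g.left := locallyQuasiFinite_of_etale g.left
  have hdisc : _root_.IsDiscrete (g.left ⁻¹' {IsLocalRing.closedPoint k}) :=
    g.left.isDiscrete_preimage_singleton _
  have huniv : g.left ⁻¹' {IsLocalRing.closedPoint k} = Set.univ := by
    ext z
    simp only [Set.mem_preimage, Set.mem_singleton_iff, Set.mem_univ, iff_true]
    exact Subsingleton.elim (α := PrimeSpectrum k) _ _
  rw [huniv, isDiscrete_univ_iff] at hdisc
  have hredk : IsReduced (Over.mk str).left := inferInstanceAs (IsReduced (Spec (.of k)))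
  have hPred : IsReduced P.left := Groth.Agent.Lib.Helper22.SmoothRed.isReduced_of_smooth g.left
  have hfieldP : IsField (P.left.presheaf.stalk π) :=
    isField_stalk_of_no_specializations P.left (fun v v' hs => hs.eq.symm) π
  have hloc : IsLocalHom (γ.left.stalkMap π).hom := inferInstance
  exact isField_of_flat_isLocalHom hfieldP (γ.left.stalkMap π).hom (Flat.stalkMap γ.left π)


/-- Let Z be an algebraic space over a scheme S admitting a surjective flat morphism Spec k ⟶ Z from the
spectrum of a field. Then every morphism Spec k' ⟶ Z from the spectrum of a field is surjective and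
flat. -/
theorem result {S : Scheme.{u}} (Z : AlgSp.Space S)
    (k : Type u) [Field k] (str : Spec (CommRingCat.of k) ⟶ S) (p : (AlgSp.yon S).obj (Over.mk str) ⟶ Z.obj)
    (hpf : AlgSp.LocP @Flat p) (hps : AlgSp.IsSurjectiveMor p)
    (k' : Type u) [Field k'] (str' : Spec (CommRingCat.of k') ⟶ S) (q : (AlgSp.yon S).obj (Over.mk str') ⟶ Z.obj) :
    AlgSp.LocP @Flat q ∧ AlgSp.IsSurjectiveMor q := by

  have hsubk : Subsingleton ↥(Over.mk str).left := inferInstanceAs (Subsingleton ↥(Spec (.of k)))
  have hsubP : Subsingleton (AlgSp.Points ((AlgSp.yon S).obj (Over.mk str))) :=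
    (AlgSp.Points.schemeHomeo (Over.mk str)).symm.injective.subsingleton
  have hsubZ : Subsingleton (AlgSp.Points Z.obj) := by
    refine ⟨fun z z' => ?_⟩
    obtain ⟨t, rfl⟩ := hps z
    obtain ⟨t', rfl⟩ := hps z'
    rw [Subsingleton.elim t t']
  refine ⟨?_, ?_⟩
  · intro A B a b m ha hb hc
    exact Flat.of_stalkMap m.left fun α =>
      ringHom_flat_of_isField (isField_stalk_chart k str p hpf hps b hb (m.left α)) _
  · intro z
    exact ⟨AlgSp.Points.ofScheme _ (IsLocalRing.closedPoint k'), Subsingleton.elim _ _⟩

end Groth.Agent.S10365
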