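import Groth.Statements.S10366
import Groth.Agent.Lib.Helper16.ResidualSp
import Groth.Agent.Lib.Helper16.GeomRed
import Groth.Agent.Lib.Helper16.LocP
open Groth.Agent.Lib.Helper16

set_option autoImplicit false
universe u
open CategoryTheory CategoryTheory.Limits AlgebraicGeometry Topology TopologicalSpace
open AlgSp

namespace Groth.Agent.S10366

theorem ringHom_flat_of_isField {R T : Type*} [CommRing R] [CommRing T] (hR : IsField R) (f : R →+* T) :
    f.Flat := by
  let := hR.toField
  let : Algebra R T := f.toAlgebra
  show Module.Flat R T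
  infer_instance

open Groth.Agent.Lib.Helper16.GeomRed in
theorem flat_fromSpecResidueField_of_isField (U : Scheme.{u}) (η : U) (h : IsField (U.presheaf.stalk η)) :
    Flat (U.fromSpecResidueField η) := by
  unfold Scheme.fromSpecResidueField
  have : Flat (Spec.map (U.residue η)) := by
    rw [HasRingHomProperty.Spec_iff (P := @Flat)]
    exact ringHom_flat_of_isField h _
  infer_instance


/-- (1) ⇔ (2): an algebraic space Z over a scheme S is reduced with |Z| a single point if and only if
there is a surjective flat morphism Spec k ⟶ Z from the spectrum of a field. -/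
theorem result {S : Scheme.{u}} (Z : AlgSp.Space S) :
    (AlgSp.EtaleLocally (fun U => IsReduced U) Z.obj ∧ Nonempty (AlgSp.Points Z.obj) ∧ Subsingleton (AlgSp.Points Z.obj)) ↔
      ∃ (k : Type u) (_ : Field k) (str : Spec (CommRingCat.of k) ⟶ S) (p : (AlgSp.yon S).obj (Over.mk str) ⟶ Z.obj),
        AlgSp.LocP @Flat p ∧ AlgSp.IsSurjectiveMor p := by
  constructor
  · rintro ⟨⟨U, a, hae, has, hUred⟩, hne, hsub⟩
    have hred : IsReduced U.left := hUred
    obtain ⟨z⟩ := hne
    obtain ⟨u₀, -⟩ := ofPt_surjective_of_surjective a has z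
    obtain ⟨η, hη⟩ := QuasiSober.sober (isIrreducible_irreducibleComponent (x := u₀))
      isClosed_irreducibleComponent
    have hcomp : closure {η} ∈ irreducibleComponents ↥U.left := by
      rw [hη.def]; exact irreducibleComponent_mem_irreducibleComponents u₀
    have hfield := isField_stalk_of_closure_mem_irreducibleComponents (X := U.left) η hcomp
    have hfl : Flat (U.left.fromSpecResidueField η) := flat_fromSpecResidueField_of_isField U.left η hfield
    refine ⟨(AlgSp.FieldPt.ofPt a η).K, (AlgSp.FieldPt.ofPt a η).field, (AlgSp.FieldPt.ofPt a η).str,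
      (AlgSp.FieldPt.ofPt a η).toHom, ?_, ?_⟩
    · rw [AlgSp.FieldPt.toHom_ofPt]
      refine locP_of_repWith @Flat @Flat (fun A B C m i hm hi => ?_) _
        ((AlgSp.RepWith @Flat).comp_mem _ _ ((AlgSp.repWith_yon_map_iff _ _).2 hfl)
          (repWith_mono etale_le_flat a hae))
      have : Etale m := hm
      have : Flat i := hi
      exact (inferInstance : Flat (m ≫ i))
    · intro z'
      exact ⟨AlgSp.Points.ofScheme _ (IsLocalRing.closedPoint _), Subsingleton.elim _ _⟩
  · rintro ⟨k, _, str, p, hflat, hsurj⟩
    have hsubk : Subsingleton ↥(Over.mk str).left := inferInstanceAs (Subsingleton ↥(Spec (.of k)))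
    have hsubP : Subsingleton (AlgSp.Points ((AlgSp.yon S).obj (Over.mk str))) :=
      (AlgSp.Points.schemeHomeo (Over.mk str)).symm.injective.subsingleton
    refine ⟨?_, ⟨AlgSp.Points.map p (AlgSp.Points.ofScheme _ (IsLocalRing.closedPoint k))⟩, ⟨fun z z' => ?_⟩⟩
    · obtain ⟨U, a, hae, has⟩ := Z.property.atlas
      refine ⟨U, a, hae, has, ?_⟩
      obtain ⟨P, g, t₀, sq⟩ := hae.rep p
      obtain ⟨γ, rfl⟩ := (AlgSp.yon S).map_surjective t₀
      have hget : Etale g.left := hae.property _ _ _ sq
      have hge : AlgSp.RepWith @Etale ((AlgSp.yon S).map g) := (AlgSp.repWith_yon_map_iff _ _).2 hget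
      have hγ : Flat γ.left := hflat _ a γ hge hae sq.w.symm
      have hredk : IsReduced (Over.mk str).left := inferInstanceAs (IsReduced (Spec (.of k)))
      have hPred : IsReduced P.left := Groth.Agent.Lib.Helper22.SmoothRed.isReduced_of_smooth g.left
      have hst : ∀ u : ↥U.left, _root_.IsReduced (U.left.presheaf.stalk u) := by
        intro u
        obtain ⟨t', ht'⟩ := hsurj (AlgSp.Points.ofPt a u)
        obtain ⟨v, hv, -⟩ := exists_point_of_isPullback_yon_yon sq u (AlgSp.Points.toScheme _ t')
          (by rw [AlgSp.Points.ofPt_eq_map_ofScheme p, AlgSp.Points.ofScheme_toScheme, ht'])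
        have := GeomRed.isReduced_stalk_of_flat γ.left v inferInstance
        rwa [hv] at this
      exact isReduced_of_isReduced_stalk _
    · obtain ⟨t, rfl⟩ := hsurj z
      obtain ⟨t', rfl⟩ := hsurj z'
      rw [Subsingleton.elim t t']

end Groth.Agent.S10366
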