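import Groth.Statements.S10368
import Groth.Agent.Lib.Helper16.ResidualSp
import Groth.Agent.Lib.Helper16.GeomRed
import Groth.Agent.Lib.Helper16.LocP
import Groth.Agent.Lib.Helper16.LqfFibres
import Groth.Agent.Lib.Helper16.Fibres
import Groth.Agent.Lib.Helper16.DimZero
open Groth.Agent.Lib.Helper16

set_option autoImplicit false
universe u
open CategoryTheory CategoryTheory.Limits AlgebraicGeometry Topology TopologicalSpace
open AlgSp

namespace Groth.Agent.S10368

theorem ringHom_flat_of_isField {R T : Type*} [CommRing R] [CommRing T] (hR : IsField R) (f : R →+* T) :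
    f.Flat := by
  let := hR.toField
  let : Algebra R T := f.toAlgebra
  show Module.Flat R T
  infer_instance

open Groth.Agent.Lib.Helper16.GeomRed in
theorem flat_fromSpecResidueField_of_isField (U : Scheme.{u}) (η : U) (h : IsField (U.presheaf.stalk η)) :
    Flat (U.fromSpecResidueField η) := by
  unfold Scheme.fromSpecResidueField
  have : Flat (Spec.map (U.residue η)) := by
    rw [HasRingHomProperty.Spec_iff (P := @Flat)]
    exact ringHom_flat_of_isField h _
  infer_instance

theorem isField_stalk_of_no_specializations (U : Scheme.{u}) [IsReduced U]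
    (h : ∀ u u' : U, u' ⤳ u → u = u') (u : U) : IsField (U.presheaf.stalk u) := by
  apply isField_stalk_of_closure_mem_irreducibleComponents
  refine ⟨isIrreducible_singleton.closure, fun Z hZ hle => ?_⟩
  obtain ⟨η, hη⟩ := QuasiSober.sober hZ.closure isClosed_closure
  have huZ : u ∈ closure Z := subset_closure (hle (subset_closure rfl))
  have hs : η ⤳ u := hη.specializes huZ
  have := h u η hs
  subst this
  exact subset_closure.trans hη.def.ge

/-- On a locally Artinian scheme the canonical morphisms from the spectra of residue fields are locally of finite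
presentation. -/
theorem lfp_fromSpecResidueField_of_isLocallyArtinian (U : Scheme.{u}) [IsLocallyArtinian U] (η : U) :
    LocallyOfFinitePresentation (U.fromSpecResidueField η) := by
  obtain ⟨_, ⟨V, hV', rfl⟩, hηV, -⟩ := U.isBasis_affineOpens.exists_subset_of_mem_open
    (Set.mem_univ η) isOpen_univ
  have hV : IsAffineOpen V := hV'
  unfold Scheme.fromSpecResidueField
  rw [← hV.fromSpecStalk_eq_fromSpecStalk hηV]
  unfold IsAffineOpen.fromSpecStalk
  have hA : IsArtinianRing Γ(U, V) := IsLocallyArtinian.isArtinianRing_presheaf_obj ⟨V, hV⟩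
  have h1 : LocallyOfFinitePresentation (Spec.map (U.residue η)) := by
    rw [HasRingHomProperty.Spec_iff (P := @LocallyOfFinitePresentation)]
    exact RingHom.FinitePresentation.of_surjective _ (U.residue_surjective η) (IsNoetherian.noetherian _)
  have h2 : LocallyOfFinitePresentation (Spec.map (U.presheaf.germ V η hηV)) := by
    rw [HasRingHomProperty.Spec_iff (P := @LocallyOfFinitePresentation)]
    let _ : Algebra Γ(U, V) (U.presheaf.stalk η) := (U.presheaf.germ V η hηV).hom.toAlgebra
    have := hV.isLocalization_stalk ⟨η, hηV⟩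
    have hs : Function.Surjective (algebraMap Γ(U, V) (U.presheaf.stalk η)) :=
      IsArtinianRing.localization_surjective (hV.primeIdealOf ⟨η, hηV⟩).asIdeal.primeCompl _
    exact RingHom.FinitePresentation.of_surjective _ hs (IsNoetherian.noetherian _)
  infer_instance


/-- An algebraic space Z over a scheme S is reduced, locally Noetherian and has |Z| a single point if
and only if there is a locally finitely presented, flat, surjective morphism Spec k ⟶ Z from the
spectrum of a field. -/
theorem result {S : Scheme.{u}} (Z : AlgSp.Space S) :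
    (AlgSp.EtaleLocally (fun U => IsReduced U) Z.obj ∧ AlgSp.IsLocNoethSp Z.obj ∧ Nonempty (AlgSp.Points Z.obj) ∧ Subsingleton (AlgSp.Points Z.obj)) ↔
      ∃ (k : Type u) (_ : Field k) (str : Spec (CommRingCat.of k) ⟶ S) (p : (AlgSp.yon S).obj (Over.mk str) ⟶ Z.obj),
        AlgSp.LocP @LocallyOfFinitePresentation p ∧ AlgSp.LocP @Flat p ∧ AlgSp.IsSurjectiveMor p := by
  constructor
  · rintro ⟨⟨U, a, hae, has, hUred⟩, ⟨U₀, a₀, ha₀e, ha₀s, hU₀N⟩, hne, hsub⟩
    have hN : AlgSp.IsLocNoethSp Z.obj := ⟨U₀, a₀, ha₀e, ha₀s, hU₀N⟩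
    have hred : IsReduced U.left := hUred
    have hU₀N' : IsLocallyNoetherian U₀.left := hU₀N
    obtain ⟨z⟩ := hne
    obtain ⟨u, hu⟩ := ofPt_surjective_of_surjective a has z
    obtain ⟨u₀, hu₀⟩ := ofPt_surjective_of_surjective a₀ ha₀s z
    obtain ⟨U', e₁, e₂₀, sq⟩ := hae.rep a₀
    obtain ⟨e₂, rfl⟩ := (AlgSp.yon S).map_surjective e₂₀
    have he₁ : Etale e₁.left := hae.property _ _ _ sq
    have he₂ : Etale e₂.left := ha₀e.property _ _ _ sq.flip
    obtain ⟨η, -, -⟩ := exists_point_of_isPullback_yon_yon sq u u₀ (hu.trans hu₀.symm)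
    have ha' : AlgSp.RepWith @Etale ((AlgSp.yon S).map e₁ ≫ a₀) :=
      (AlgSp.RepWith @Etale).comp_mem _ _ ((AlgSp.repWith_yon_map_iff _ _).2 he₁) ha₀e
    have hU'red : IsReduced U'.left := Groth.Agent.Lib.Helper22.SmoothRed.isReduced_of_smooth e₂.left
    have hU'N : IsLocallyNoetherian U'.left := LocallyOfFiniteType.isLocallyNoetherian e₁.left
    have hnospec : ∀ v v' : ↥U'.left, v' ⤳ v → v = v' := fun v v' hs =>
      eq_of_specializes_of_isLocNoethSp hN _ ha' v v' (Subsingleton.elim _ _) hs
    have hdisc : DiscreteTopology ↥U'.left :=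
      DimZero.discreteTopology_of_forall_specializes_eq _ (fun v v' hs => (hnospec v v' hs).symm)
    have hfield := isField_stalk_of_no_specializations U'.left hnospec η
    have hfl : Flat (U'.left.fromSpecResidueField η) := flat_fromSpecResidueField_of_isField U'.left η hfield
    have hlfp : LocallyOfFinitePresentation (U'.left.fromSpecResidueField η) :=
      lfp_fromSpecResidueField_of_isLocallyArtinian U'.left η
    refine ⟨(AlgSp.FieldPt.ofPt ((AlgSp.yon S).map e₁ ≫ a₀) η).K,
      (AlgSp.FieldPt.ofPt ((AlgSp.yon S).map e₁ ≫ a₀) η).field,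
      (AlgSp.FieldPt.ofPt ((AlgSp.yon S).map e₁ ≫ a₀) η).str,
      (AlgSp.FieldPt.ofPt ((AlgSp.yon S).map e₁ ≫ a₀) η).toHom, ?_, ?_, ?_⟩
    · rw [AlgSp.FieldPt.toHom_ofPt]
      refine locP_of_repWith @LocallyOfFinitePresentation @LocallyOfFinitePresentation
        (fun A B C m i hm hi => ?_) _
        ((AlgSp.RepWith @LocallyOfFinitePresentation).comp_mem _ _ ((AlgSp.repWith_yon_map_iff _ _).2 hlfp)
          (repWith_mono etale_le_lfp _ ha'))
      have : Etale m := hm
      have : LocallyOfFinitePresentation i := hi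
      exact (inferInstance : LocallyOfFinitePresentation (m ≫ i))
    · rw [AlgSp.FieldPt.toHom_ofPt]
      refine locP_of_repWith @Flat @Flat (fun A B C m i hm hi => ?_) _
        ((AlgSp.RepWith @Flat).comp_mem _ _ ((AlgSp.repWith_yon_map_iff _ _).2 hfl)
          (repWith_mono etale_le_flat _ ha'))
      have : Etale m := hm
      have : Flat i := hi
      exact (inferInstance : Flat (m ≫ i))
    · intro z'
      exact ⟨AlgSp.Points.ofScheme _ (IsLocalRing.closedPoint _), Subsingleton.elim _ _⟩
  · rintro ⟨k, _, str, p, hlfp, hflat, hsurj⟩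
    have hsubk : Subsingleton ↥(Over.mk str).left := inferInstanceAs (Subsingleton ↥(Spec (.of k)))
    have hsubP : Subsingleton (AlgSp.Points ((AlgSp.yon S).obj (Over.mk str))) :=
      (AlgSp.Points.schemeHomeo (Over.mk str)).symm.injective.subsingleton
    obtain ⟨U, a, hae, has⟩ := Z.property.atlas
    obtain ⟨P, g, t₀, sq⟩ := hae.rep p
    obtain ⟨γ, rfl⟩ := (AlgSp.yon S).map_surjective t₀
    have hget : Etale g.left := hae.property _ _ _ sq
    have hge : AlgSp.RepWith @Etale ((AlgSp.yon S).map g) := (AlgSp.repWith_yon_map_iff _ _).2 hget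
    have hγ : Flat γ.left := hflat _ a γ hge hae sq.w.symm
    have hγ' : LocallyOfFinitePresentation γ.left := hlfp _ a γ hge hae sq.w.symm
    have hredk : IsReduced (Over.mk str).left := inferInstanceAs (IsReduced (Spec (.of k)))
    have hPred : IsReduced P.left := Groth.Agent.Lib.Helper22.SmoothRed.isReduced_of_smooth g.left
    have hγsurj : ∀ u : ↥U.left, ∃ v : ↥P.left, γ.left v = u := by
      intro u
      obtain ⟨t', ht'⟩ := hsurj (AlgSp.Points.ofPt a u)
      obtain ⟨v, hv, -⟩ := exists_point_of_isPullback_yon_yon sq u (AlgSp.Points.toScheme _ t')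
        (by rw [AlgSp.Points.ofPt_eq_map_ofScheme p, AlgSp.Points.ofScheme_toScheme, ht'])
      exact ⟨v, hv⟩
    have hst : ∀ u : ↥U.left, _root_.IsReduced (U.left.presheaf.stalk u) := by
      intro u
      obtain ⟨v, hv⟩ := hγsurj u
      have := GeomRed.isReduced_stalk_of_flat γ.left v inferInstance
      rwa [hv] at this
    have hUred : IsReduced U.left := isReduced_of_isReduced_stalk _
    have hPdisc : DiscreteTopology ↥P.left := by
      have : LocallyQuasiFinite (g.left : P.left ⟶ Spec (CommRingCat.of k)) := locallyQuasiFinite_of_etale _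
      exact DimZero.discreteTopology_of_lqf_over_field (g.left : P.left ⟶ Spec (CommRingCat.of k))
    have hUdisc : DiscreteTopology ↥U.left := by
      rw [discreteTopology_iff_isOpen_singleton]
      intro u
      obtain ⟨v, hv⟩ := hγsurj u
      have := γ.left.isOpenMap {v} (isOpen_discrete _)
      rwa [Set.image_singleton, hv] at this
    have hUN : IsLocallyNoetherian U.left := inferInstance
    refine ⟨⟨U, a, hae, has, hUred⟩, ⟨U, a, hae, has, hUN⟩,
      ⟨AlgSp.Points.map p (AlgSp.Points.ofScheme _ (IsLocalRing.closedPoint k))⟩, ⟨fun z z' => ?_⟩⟩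
    obtain ⟨t, rfl⟩ := hsurj z
    obtain ⟨t', rfl⟩ := hsurj z'
    rw [Subsingleton.elim t t']

end Groth.Agent.S10368
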