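import Groth.Statements.S10372
import Groth.Agent.Lib.Helper16.ResidualSp
import Groth.Agent.Lib.Helper16.GeomRed
import Groth.Agent.Lib.Helper16.LocP
import Groth.Agent.S10368
open Groth.Agent.Lib.Helper16

set_option autoImplicit false
universe u
open CategoryTheory CategoryTheory.Limits AlgebraicGeometry Topology TopologicalSpace
open AlgSp

namespace Groth.Agent.S10372


theorem isField_stalk_of_no_specializations (U : Scheme.{u}) [IsReduced U]
    (h : ∀ u u' : U, u' ⤳ u → u = u') (u : U) : IsField (U.presheaf.stalk u) := by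
  apply isField_stalk_of_closure_mem_irreducibleComponents
  refine ⟨isIrreducible_singleton.closure, fun Z hZ hle => ?_⟩
  obtain ⟨η, hη⟩ := QuasiSober.sober hZ.closure isClosed_closure
  have huZ : u ∈ closure Z := subset_closure (hle (subset_closure rfl))
  have hs : η ⤳ u := hη.specializes huZ
  have := h u η hs
  subst this
  exact subset_closure.trans hη.def.ge


/-- A reduced, locally Noetherian algebraic space Z over a scheme S whose space of points is a single
point is regular (etale locally a regular scheme). -/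
theorem result {S : Scheme.{u}} (Z : AlgSp.Space S)
    (hr : AlgSp.EtaleLocally (fun U => IsReduced U) Z.obj) (hN : AlgSp.IsLocNoethSp Z.obj)
    [Nonempty (AlgSp.Points Z.obj)] [Subsingleton (AlgSp.Points Z.obj)] :
    AlgSp.EtaleLocally (fun U => IsLocallyNoetherian U ∧ ∀ u : ↥U, IsRegularLocalRing ↥(U.presheaf.stalk u)) Z.obj := by

  obtain ⟨U, a, hae, has, hUred⟩ := hr
  obtain ⟨U₀, a₀, ha₀e, ha₀s, hU₀N⟩ := hN
  have hN : AlgSp.IsLocNoethSp Z.obj := ⟨U₀, a₀, ha₀e, ha₀s, hU₀N⟩
  have hred : IsReduced U.left := hUred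
  have hU₀N' : IsLocallyNoetherian U₀.left := hU₀N
  obtain ⟨U', e₁, e₂₀, sq⟩ := hae.rep a₀
  obtain ⟨e₂, rfl⟩ := (AlgSp.yon S).map_surjective e₂₀
  have he₁ : Etale e₁.left := hae.property _ _ _ sq
  have he₁s : Surjective e₁.left := has.property _ _ _ sq
  have he₂ : Etale e₂.left := ha₀e.property _ _ _ sq.flip
  have ha' : AlgSp.RepWith @Etale ((AlgSp.yon S).map e₁ ≫ a₀) :=
    (AlgSp.RepWith @Etale).comp_mem _ _ ((AlgSp.repWith_yon_map_iff _ _).2 he₁) ha₀e
  have ha's : AlgSp.RepWith @Surjective ((AlgSp.yon S).map e₁ ≫ a₀) :=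
    (AlgSp.RepWith @Surjective).comp_mem _ _ ((AlgSp.repWith_yon_map_iff _ _).2 he₁s) ha₀s
  have hU'red : IsReduced U'.left := Groth.Agent.Lib.Helper22.SmoothRed.isReduced_of_smooth e₂.left
  have hU'N : IsLocallyNoetherian U'.left := LocallyOfFiniteType.isLocallyNoetherian e₁.left
  have hnospec : ∀ v v' : ↥U'.left, v' ⤳ v → v = v' := fun v v' hs =>
    eq_of_specializes_of_isLocNoethSp hN _ ha' v v' (Subsingleton.elim _ _) hs
  refine ⟨U', _, ha', ha's, hU'N, fun w => ?_⟩
  have hfield := isField_stalk_of_no_specializations U'.left hnospec w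
  let := hfield.toField
  infer_instance

end Groth.Agent.S10372
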