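import Groth.Statements.S10373
import Groth.Agent.Lib.Helper16.FibreEmb
import Groth.Agent.Lib.Helper16.RedPt
import Groth.Agent.Lib.Helper16.MonoDescent
import Groth.Agent.Lib.Helper16.FpqcDesc
import Groth.Agent.Lib.Helper22.SmoothRed
open Groth.Agent.Lib.Helper16

set_option autoImplicit false
universe u
open CategoryTheory CategoryTheory.Limits AlgebraicGeometry Topology TopologicalSpace
open AlgSp

namespace Groth.Agent.S10373


theorem aux {S : Scheme.{u}} {Y X : Sp S} (f : Y ⟶ X) (p : FieldPt X) (hm : Mono p.toHom)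
    (hq : RepWith @QuasiCompact p.toHom) (hY : EtaleLocally (fun U => IsReduced U) Y)
    (hf : ∀ y : Points Y, Points.map f y = Points.mk p)
    {V : Over S} (haff : IsAffine V.left) (b : (yon S).obj V ⟶ X) (hbe : RepWith @Etale b) (v : ↥V.left)
    (hv : Points.ofPt b v = Points.mk p) (huniq : ∀ t : ↥V.left, Points.ofPt b t = Points.mk p → t = v) :
    ∃ g : Y ⟶ (yon S).obj p.pt, g ≫ p.toHom = f := by
  obtain ⟨U₀, a₀, ha₀e, ha₀s, hU₀red⟩ := hY
  obtain ⟨U', c, fst, sq⟩ := hbe.rep (a₀ ≫ f)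
  have hce : Etale c.left := hbe.property _ _ _ sq
  obtain ⟨h, hh⟩ := (yon S).map_surjective fst
  have hU₀red' : IsReduced U₀.left := hU₀red
  have hU'red : IsReduced U'.left := Groth.Agent.Lib.Helper22.SmoothRed.isReduced_of_smooth c.left
  have hall : ∀ u : ↥U'.left, h.left u = v := by
    intro u
    apply huniq
    rw [← ofPt_yon_map_comp, hh, sq.w, ← Category.assoc, ← Points.map_ofPt, hf]
  have hcs : Surjective c.left := by
    refine ⟨fun u₀ => ?_⟩
    obtain ⟨u', -, hu'⟩ := exists_point_of_isPullback_yon sq (Points.ofScheme V v) u₀ (by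
      rw [← Points.ofPt_eq_map_ofScheme, hv, ← Points.map_ofPt, hf])
    exact ⟨u', hu'⟩
  have ha'e : RepWith @Etale ((yon S).map c ≫ a₀) :=
    (RepWith @Etale).comp_mem _ _ ((repWith_yon_map_iff _ _).2 hce) ha₀e
  have ha's : RepWith @Surjective ((yon S).map c ≫ a₀) :=
    (RepWith @Surjective).comp_mem _ _ ((repWith_yon_map_iff _ _).2 hcs) ha₀s
  have hepi : Epi ((yon S).map c ≫ a₀) := epi_of_etale_surjective _ ha'e ha's
  obtain ⟨K, _, i, g₀, hgi, hiz⟩ := RedPt.exists_factor_field_of_isReduced h.left v hall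
  let iO : Over.mk (i ≫ V.hom) ⟶ V := Over.homMk i rfl
  let gO : U' ⟶ Over.mk (i ≫ V.hom) := Over.homMk g₀ (by
    show g₀ ≫ i ≫ V.hom = U'.hom
    rw [← Category.assoc, hgi]; exact Over.w h)
  have hgO : gO ≫ iO = h := by ext1; exact hgi
  let q : FieldPt X := fieldPtOfHom K (i ≫ V.hom) ((yon S).map iO ≫ b)
  have hqtoHom : q.toHom = (yon S).map iO ≫ b := fieldPtOfHom_toHom _ _ _
  have hqmk : Points.mk q = Points.mk p := by
    have z₀ : ↥q.pt.left := IsLocalRing.closedPoint K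
    have h1 := FibreEmb.points_map_toHom_eq q (Points.ofScheme q.pt z₀)
    rw [← h1, Points.map_ofPt, Category.id_comp]
    refine (congrArg (fun l => Points.ofPt l z₀) hqtoHom).trans ?_
    refine (ofPt_yon_map_comp iO b z₀).trans ?_
    exact (congrArg (Points.ofPt b) (hiz z₀)).trans hv
  obtain ⟨c', hc'⟩ := exists_factor_of_rel_of_mono p q hm hq.rep (Points.mk_eq_mk_iff.1 hqmk)
  obtain ⟨g', hg'def⟩ : ∃ g' : (yon S).obj U' ⟶ (yon S).obj p.pt, g' = (yon S).map gO ≫ (yon S).map c' :=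
    ⟨_, rfl⟩
  have hg' : g' ≫ p.toHom = ((yon S).map c ≫ a₀) ≫ f := by
    have e1 : (yon S).map c' ≫ p.toHom = (yon S).map iO ≫ b := hc'.symm.trans hqtoHom
    rw [hg'def, Category.assoc]
    refine (congrArg (fun l => (yon S).map gO ≫ l) e1).trans ?_
    rw [← Category.assoc, ← Functor.map_comp, hgO, hh, sq.w, Category.assoc]
  have := IsRegularEpiCategory.regularEpiOfEpi ((yon S).map c ≫ a₀)
  have hdesc : ∀ {F : Sp S} (g₁ g₂ : F ⟶ (yon S).obj U'),
      g₁ ≫ ((yon S).map c ≫ a₀) = g₂ ≫ ((yon S).map c ≫ a₀) → g₁ ≫ g' = g₂ ≫ g' := by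
    intro F g₁ g₂ h12
    rw [← cancel_mono p.toHom, Category.assoc, Category.assoc, hg']
    exact (Category.assoc _ _ _).symm.trans ((congrArg (· ≫ f) h12).trans (Category.assoc _ _ _))
  refine ⟨EffectiveEpi.desc ((yon S).map c ≫ a₀) g' hdesc, ?_⟩
  rw [← cancel_epi ((yon S).map c ≫ a₀), ← Category.assoc, EffectiveEpi.fac, hg']


/-- Let S be a scheme, Y and X algebraic spaces over S, and f : Y ⟶ X a morphism with Y reduced and
|f|(|Y|) ⊆ {x}, where x ∈ |X| is represented by a monomorphism Spec k ⟶ X which is representable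
quasi-compact (for instance X decent). Then f factors through Spec k ⟶ X. -/
theorem result {S : Scheme.{u}} {Y X : AlgSp.Space S} (f : Y ⟶ X)
    (x : AlgSp.Points X.obj) (p : AlgSp.FieldPt X.obj) (hp : AlgSp.Points.mk p = x) (hm : Mono p.toHom)
    (hq : AlgSp.RepWith @QuasiCompact p.toHom) (hY : AlgSp.EtaleLocally (fun U => IsReduced U) Y.obj)
    (hf : ∀ y : AlgSp.Points Y.obj, AlgSp.Points.map f.hom y = x) :
    ∃ g : Y.obj ⟶ (AlgSp.yon S).obj p.pt, g ≫ p.toHom = f.hom := by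

  subst hp
  have hX := X.property
  obtain ⟨V₀, b₀, v₀, hb₀e, hv₀, huniq₀⟩ := FibreEmb.exists_chart_unique_point_over hX p hq
  obtain ⟨_, ⟨W₀, hW₀, rfl⟩, hvW, -⟩ :=
    V₀.left.isBasis_affineOpens.exists_subset_of_mem_open (Set.mem_univ v₀) isOpen_univ
  let W : V₀.left.Opens := W₀
  have hWaff : IsAffineOpen W := hW₀
  let ι' : Over.mk (W.ι ≫ V₀.hom) ⟶ V₀ := Over.homMk W.ι rfl
  have hι' : RepWith @Etale ((yon S).map ι') := (repWith_yon_map_iff _ _).2 (by show Etale W.ι; infer_instance)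
  have hbe : RepWith @Etale ((yon S).map ι' ≫ b₀) := (RepWith @Etale).comp_mem _ _ hι' hb₀e
  have haffV : IsAffine (Over.mk (W.ι ≫ V₀.hom)).left := hWaff
  let v : ↥(Over.mk (W.ι ≫ V₀.hom)).left := (⟨v₀, hvW⟩ : W)
  have hv : Points.ofPt ((yon S).map ι' ≫ b₀) v = Points.mk p := by
    rw [ofPt_yon_map_comp]; exact hv₀
  have huniq : ∀ t : ↥(Over.mk (W.ι ≫ V₀.hom)).left,
      Points.ofPt ((yon S).map ι' ≫ b₀) t = Points.mk p → t = v := by
    intro t ht
    rw [ofPt_yon_map_comp] at ht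
    exact Subtype.ext (huniq₀ _ ht)
  exact aux f.hom p hm hq hY hf haffV _ hbe v hv huniq

end Groth.Agent.S10373
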