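import Groth.Statements.S10377
import Mathlib
import Groth.Agent.Lib.Helper15.AlgSpLocSpectral

set_option autoImplicit false
universe u
open CategoryTheory CategoryTheory.Limits AlgebraicGeometry Topology TopologicalSpace
open AlgSp

namespace Groth.Agent.S10377

/-- Let S be a scheme with quasi-separated underlying space, X an algebraic space over S which is
quasi-separated over S, and E ⊆ |X|. Then E is etale locally constructible (its inverse image in
every scheme etale over X is locally constructible) exactly when E, as a subset of the topological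
space |X|, is locally constructible. (The published statement assumes X quasi-separated in the
absolute sense; this row assumes S has quasi-separated underlying space and X quasi-separated over
S, which together imply it.) -/
theorem result {S : Scheme.{u}} [QuasiSeparatedSpace ↥S]
    (X : AlgSp.Space S) (hX : AlgSp.IsQuasiSeparatedSp X.obj) (E : Set (AlgSp.Points X.obj)) :
    (∀ (U : Over S) (a : (AlgSp.yon S).obj U ⟶ X.obj), AlgSp.RepWith @Etale a →
        IsLocallyConstructible (AlgSp.Points.ofPt a ⁻¹' E)) ↔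
      IsLocallyConstructible E := by
  have hA := X.property
  have hdec := Groth.Agent.S10350.result X hX
  haveI : T0Space (Points X.obj) := Groth.Agent.S10338.result X hdec
  haveI : PrespectralSpace (Points X.obj) :=
    Groth.Agent.Lib.Helper15.AlgSpLocSpectral.prespectralSpace_points hA
  haveI : QuasiSeparatedSpace (Points X.obj) :=
    Groth.Agent.Lib.Helper15.AlgSpLocSpectral.quasiSeparatedSpace_points hA hX
  constructor
  · intro h x
    obtain ⟨U, p, hpe, hps⟩ := hA.atlas
    obtain ⟨u₀, rfl⟩ := Groth.Agent.Lib.Helper16.ofPt_surjective_of_surjective p hps x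
    obtain ⟨A, hAaff, hu₀, -⟩ :=
      (TopologicalSpace.Opens.isBasis_iff_nbhd.mp U.left.isBasis_affineOpens)
        (show u₀ ∈ (⊤ : U.left.Opens) from trivial)
    have hae := Groth.Agent.Lib.Helper16.repWith_etale_restrict p hpe A
    obtain ⟨a, ha⟩ : ∃ a, a = (yon S).map (Groth.Agent.Lib.Helper16.overOpenι U A) ≫ p := ⟨_, rfl⟩
    rw [← ha] at hae
    haveI : IsAffine (Groth.Agent.Lib.Helper16.overOpen U A).left := hAaff
    haveI : CompactSpace ↥(Groth.Agent.Lib.Helper16.overOpen U A).left :=
      isCompact_iff_compactSpace.mp hAaff.isCompact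
    have hcont : Continuous (Points.ofPt a) := Points.continuous_ofPt a
    have hWo : IsOpen (Set.range (Points.ofPt a)) :=
      (Groth.Agent.Lib.Helper16.isOpenMap_ofPt_of_etale a hae).isOpen_range
    have hxW : Points.ofPt p u₀ ∈ Set.range (Points.ofPt a) := by
      refine ⟨(⟨u₀, hu₀⟩ : ↥A), ?_⟩
      rw [ha, Groth.Agent.Lib.Helper16.ofPt_restrict]
      rfl
    refine ⟨Set.range (Points.ofPt a), hWo.mem_nhds hxW, hWo, ?_⟩
    haveI : PrespectralSpace ↥(Set.range (Points.ofPt a)) :=
      hWo.isOpenEmbedding_subtypeVal.prespectralSpace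
    haveI : QuasiSeparatedSpace ↥(Set.range (Points.ofPt a)) :=
      hWo.isOpenEmbedding_subtypeVal.quasiSeparatedSpace
    obtain ⟨f, hf⟩ : ∃ f : ↥(Groth.Agent.Lib.Helper16.overOpen U A).left →
        ↥(Set.range (Points.ofPt a)), ∀ w, (f w).1 = Points.ofPt a w :=
      ⟨fun w => ⟨Points.ofPt a w, w, rfl⟩, fun w => rfl⟩
    have hfc : Continuous f := by
      rw [Topology.IsInducing.subtypeVal.continuous_iff]
      have : Subtype.val ∘ f = Points.ofPt a := funext hf
      rw [this]
      exact hcont
    have hfs : Function.Surjective f := by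
      rintro ⟨y, w, rfl⟩
      exact ⟨w, Subtype.ext (hf w)⟩
    have hfsp : IsSpectralMap f := by
      refine ⟨hfc, fun K hKo hKc => ?_⟩
      have h1 : f ⁻¹' K = Points.ofPt a ⁻¹' (Subtype.val '' K) := by
        ext w
        constructor
        · intro hw
          exact ⟨f w, hw, hf w⟩
        · rintro ⟨y, hy, hyw⟩
          have : f w = y := Subtype.ext ((hf w).trans hyw.symm)
          show f w ∈ K
          rw [this]
          exact hy
      rw [h1]
      exact Groth.Agent.Lib.Helper15.AlgSpLocSpectral.isCompact_preimage_ofPt hA hX a hae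
        (hWo.isOpenMap_subtype_val _ hKo) (hKc.image continuous_subtype_val)
    have hpre : f ⁻¹' ((Subtype.val : ↥(Set.range (Points.ofPt a)) → Points X.obj) ⁻¹' E) = Points.ofPt a ⁻¹' E := by
      ext w
      show (f w).1 ∈ E ↔ _
      rw [hf w]
      rfl
    apply Groth.Agent.Lib.Helper15.SpectralSurj.isConstructible_of_preimage hfsp hfs
    rw [hpre]
    exact (h (Groth.Agent.Lib.Helper16.overOpen U A) a hae).isConstructible
  · intro hE U a hae u
    obtain ⟨W', ⟨hW'o, hW'c⟩, hxW', -⟩ :=
      (PrespectralSpace.isTopologicalBasis (X := Points X.obj)).exists_subset_of_mem_open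
        (Set.mem_univ (Points.ofPt a u)) isOpen_univ
    have hEW : IsConstructible (E ∩ W') := hE.inter_of_isOpen_isCompact hW'o hW'c
    have hcont : Continuous (Points.ofPt a) := Points.continuous_ofPt a
    obtain ⟨A, hAaff, huA, hAW⟩ : ∃ A : U.left.Opens, IsAffineOpen A ∧ u ∈ A ∧
        A ≤ (⟨Points.ofPt a ⁻¹' W', hW'o.preimage hcont⟩ : U.left.Opens) := by
      obtain ⟨A, h1, h2, h3⟩ :=
        (TopologicalSpace.Opens.isBasis_iff_nbhd.mp U.left.isBasis_affineOpens)
          (show u ∈ (⟨Points.ofPt a ⁻¹' W', hW'o.preimage hcont⟩ : U.left.Opens) from hxW')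
      exact ⟨A, h1, h2, h3⟩
    have hae' := Groth.Agent.Lib.Helper16.repWith_etale_restrict a hae A
    obtain ⟨a', ha'⟩ : ∃ a', a' = (yon S).map (Groth.Agent.Lib.Helper16.overOpenι U A) ≫ a :=
      ⟨_, rfl⟩
    rw [← ha'] at hae'
    haveI : IsAffine (Groth.Agent.Lib.Helper16.overOpen U A).left := hAaff
    haveI : CompactSpace ↥(Groth.Agent.Lib.Helper16.overOpen U A).left :=
      isCompact_iff_compactSpace.mp hAaff.isCompact
    have hg : ∀ w, Points.ofPt a' w = Points.ofPt a (A.ι w) := by
      intro w
      rw [ha']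
      exact Groth.Agent.Lib.Helper16.ofPt_restrict a A w
    have hgW : ∀ w, Points.ofPt a' w ∈ W' := by
      intro w
      rw [hg]
      apply hAW
      show A.ι w ∈ (A : Set ↥U.left)
      rw [← Scheme.Opens.range_ι A]
      exact ⟨w, rfl⟩
    have hcons : IsConstructible (Points.ofPt a' ⁻¹' (E ∩ W')) := by
      refine IsConstructible.preimage (Points.continuous_ofPt a') ?_ hEW
      intro s hso hsr
      have h1 : Points.ofPt a' ⁻¹' s = Points.ofPt a' ⁻¹' (s ∩ W') := by
        ext w
        exact ⟨fun h => ⟨h, hgW w⟩, fun h => h.1⟩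
      rw [h1]
      exact (Groth.Agent.Lib.Helper15.AlgSpLocSpectral.isCompact_preimage_ofPt hA hX a' hae'
        (hso.inter hW'o) (hsr hW'c hW'o)).isRetrocompact
        ((hso.inter hW'o).preimage (Points.continuous_ofPt a'))
    have h2 : Points.ofPt a' ⁻¹' (E ∩ W') = Points.ofPt a' ⁻¹' E := by
      ext w
      exact ⟨fun h => h.1, fun h => ⟨h, hgW w⟩⟩
    rw [h2] at hcons
    refine ⟨(A : Set ↥U.left), A.isOpen.mem_nhds huA, A.isOpen, ?_⟩
    have h3 : ((Subtype.val : ↥(A : Set ↥U.left) → ↥U.left) ⁻¹' (Points.ofPt a ⁻¹' E)) = Points.ofPt a' ⁻¹' E := by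
      ext w
      show Points.ofPt a w.1 ∈ E ↔ Points.ofPt a' w ∈ E
      rw [hg]
      rfl
    rw [h3]
    exact hcons

end Groth.Agent.S10377
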