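import Groth.Statements.S10382
import Groth.Agent.Lib.Helper16.Decent

set_option autoImplicit false
universe u
open CategoryTheory CategoryTheory.Limits AlgebraicGeometry Topology TopologicalSpace
open AlgSp

namespace Groth.Agent.S10382

/-- The composition of two decent morphisms of algebraic spaces over a scheme S is decent. -/
theorem result {S : Scheme.{u}} {X Y Z : AlgSp.Space S} (f : X ⟶ Y) (g : Y ⟶ Z)
    (hf : AlgSp.IsDecentMor f.hom) (hg : AlgSp.IsDecentMor g.hom) : AlgSp.IsDecentMor (f ≫ g).hom := by
  intro T F' t fst snd sq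
  have sqg : IsPullback (pullback.fst g.hom t) (pullback.snd g.hom t) g.hom t :=
    IsPullback.of_hasPullback _ _
  have hY' : AlgSp.IsDecent (pullback g.hom t) := hg t _ _ sqg
  have w : (fst ≫ f.hom) ≫ g.hom = snd ≫ t := by
    rw [Category.assoc]; exact sq.w
  let l : F' ⟶ pullback g.hom t := pullback.lift (fst ≫ f.hom) snd w
  have hl1 : l ≫ pullback.fst g.hom t = fst ≫ f.hom := pullback.lift_fst _ _ _
  have hl2 : l ≫ pullback.snd g.hom t = snd := pullback.lift_snd _ _ _
  have sq1 : IsPullback fst l f.hom (pullback.fst g.hom t) := by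
    refine IsPullback.of_bot ?_ hl1.symm sqg
    rw [hl2]
    exact sq
  exact Groth.Agent.Lib.Helper16.isDecent_of_isDecentMor l
    (Groth.Agent.Lib.Helper16.isDecentMor_of_isPullback sq1 hf) hY'

end Groth.Agent.S10382
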