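import Groth.Statements.S10385
import Groth.Agent.Lib.Helper16.MonoPtDesc
import Groth.Agent.Lib.Helper16.MonoPtEx
import Groth.Agent.Lib.Helper16.FieldQuot
open Groth.Agent.Lib.Helper16

set_option autoImplicit false
universe u
open CategoryTheory CategoryTheory.Limits AlgebraicGeometry Topology TopologicalSpace
open AlgSp

namespace Groth.Agent.S10385

/-- Let S be a scheme, X and Y algebraic spaces over S, and f : X ⟶ Y a quasi-compact, etale and
surjective morphism. If each point of X can be represented by a monomorphism whose source is the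
spectrum of a field, then so can each point of Y. -/
theorem result {S : Scheme.{u}} {X Y : AlgSp.Space S} (f : X ⟶ Y)
    (hq : AlgSp.IsQuasiCompactMor f.hom) (he : AlgSp.IsEtaleMor f.hom) (hs : AlgSp.IsSurjectiveMor f.hom)
    (hX : ∀ x : AlgSp.Points X.obj, ∃ p : AlgSp.FieldPt X.obj, AlgSp.Points.mk p = x ∧ Mono p.toHom)
    (y : AlgSp.Points Y.obj) : ∃ q : AlgSp.FieldPt Y.obj, AlgSp.Points.mk q = y ∧ Mono q.toHom := by
  obtain ⟨U, φ, hφ, hφs⟩ := X.property.atlas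
  obtain ⟨x, hx⟩ := hs y
  obtain ⟨u, hu⟩ := ofPt_surjective_of_surjective φ hφs x
  have hψ : RepWith @Etale (φ ≫ f.hom) := he φ hφ
  obtain ⟨p, hp, hpm⟩ := hX x
  obtain ⟨ptu, hptu⟩ : ∃ ptu : (FieldPt.ofPt φ u).pt ⟶ U,
      ptu = Over.homMk (U.left.fromSpecResidueField u) rfl := ⟨_, rfl⟩
  have hqx : (FieldPt.ofPt φ u).toHom = (yon S).map ptu ≫ φ := by
    rw [hptu]; exact FieldPt.toHom_ofPt φ u
  have hq0 : (FieldPt.ofPt (φ ≫ f.hom) u).toHom = (FieldPt.ofPt φ u).toHom ≫ f.hom := by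
    rw [hqx, Category.assoc, hptu]; exact FieldPt.toHom_ofPt (φ ≫ f.hom) u
  have hrel : FieldPt.Rel (FieldPt.ofPt φ u) p := Points.mk_eq_mk_iff.1 (hu.trans hp.symm)
  obtain ⟨c, hc⟩ := exists_factor_of_rel_of_mono p (FieldPt.ofPt φ u) hpm
    (X.property.representable_from_yon _) hrel
  have hrep : Representable (FieldPt.ofPt (φ ≫ f.hom) u).toHom := Y.property.representable_from_yon _
  obtain ⟨F, s, t, hF⟩ : ∃ (F : Over S) (s t : F ⟶ (FieldPt.ofPt (φ ≫ f.hom) u).pt),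
      IsPullback ((yon S).map s) ((yon S).map t) (FieldPt.ofPt (φ ≫ f.hom) u).toHom
        (FieldPt.ofPt (φ ≫ f.hom) u).toHom := ⟨_, _, _, (hrep.isPullback' _).flip⟩
  have hs_lqf : LocallyQuasiFinite s.left :=
    locallyQuasiFinite_fst_of_isPullback_ofPt (φ ≫ f.hom) hψ u _ s t hF
  have hF' : IsPullback ((yon S).map s) ((yon S).map t) ((FieldPt.ofPt φ u).toHom ≫ f.hom)
      ((FieldPt.ofPt φ u).toHom ≫ f.hom) := by
    have hF2 := hF
    rw [hq0] at hF2
    exact hF2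
  have hcF : CompactSpace ↥F.left :=
    compactSpace_kernelPair_of_qc_etale X.property Y.property f.hom hq he (FieldPt.ofPt φ u).K
      (FieldPt.ofPt φ u).str (FieldPt.ofPt φ u).toHom p.K p.str p.toHom hpm c hc s t hF'
  obtain ⟨k', _, str', c', p', hmono, hp', -, -, -⟩ :=
    exists_mono_desc_of_lqf_kernelPair (FieldPt.ofPt (φ ≫ f.hom) u).K (FieldPt.ofPt (φ ≫ f.hom) u).str _ s t hF
      hs_lqf hcF
  refine ⟨fieldPtOfHom k' str' p', ?_, ?_⟩
  · have h1 : Points.mk (fieldPtOfHom (FieldPt.ofPt (φ ≫ f.hom) u).K (FieldPt.ofPt (φ ≫ f.hom) u).str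
        ((yon S).map c' ≫ p')) = Points.mk (fieldPtOfHom k' str' p') := by
      have := mk_fieldPtOfHom_comp (fieldPtOfHom k' str' p') (FieldPt.ofPt (φ ≫ f.hom) u).K
        (FieldPt.ofPt (φ ≫ f.hom) u).str c'
      rwa [fieldPtOfHom_toHom] at this
    have h2 : fieldPtOfHom (FieldPt.ofPt (φ ≫ f.hom) u).K (FieldPt.ofPt (φ ≫ f.hom) u).str
        (FieldPt.ofPt (φ ≫ f.hom) u).toHom = FieldPt.ofPt (φ ≫ f.hom) u := fieldPtOfHom_toHom_self _
    rw [← h1, hp', h2]
    show Points.ofPt (φ ≫ f.hom) u = y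
    rw [← Points.map_ofPt, hu, hx]
  · rw [fieldPtOfHom_toHom]; exact hmono
end Groth.Agent.S10385
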