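import Groth.Statements.S10387
import Groth.Agent.Lib.Helper16.DecentMorLocal
open Groth.Agent.Lib.Helper16 Groth.Agent.Lib.Helper15

set_option autoImplicit false
universe u
open CategoryTheory CategoryTheory.Limits AlgebraicGeometry Topology TopologicalSpace
open AlgSp

namespace Groth.Agent.S10387

/-- (5) ⇒ (1): let S be a scheme, X and Y algebraic spaces over S, f : X ⟶ Y a morphism, and V ⟶ Y a
surjective etale morphism from a scheme. If the base change V ×_Y X ⟶ V is a decent morphism, then f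
is decent. -/
theorem result {S : Scheme.{u}} {X Y : AlgSp.Space S} (f : X ⟶ Y) {V : Over S}
    (p : (AlgSp.yon S).obj V ⟶ Y.obj) (hp : AlgSp.RepWith @Etale p) (hps : AlgSp.RepWith @Surjective p)
    (X' : AlgSp.Sp S) (fst : X' ⟶ X.obj) (snd : X' ⟶ (AlgSp.yon S).obj V) (hsq : IsPullback fst snd f.hom p)
    (h : AlgSp.IsDecentMor snd) : AlgSp.IsDecentMor f.hom := by
  refine isDecentMor_of_affine_base X.property Y.property f.hom ?_
  intro Z g P fstP sndP hZ sqP
  obtain ⟨Z', z₁, ψ, sqZ⟩ := hp.rep g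
  have hz₁e : Etale z₁.left := hp.property g ψ z₁ sqZ
  have hz₁s : Surjective z₁.left := hps.property g ψ z₁ sqZ
  have : IsAffine Z.left := hZ
  obtain ⟨O, hOc, hOs⟩ := exists_compact_open_surjective_scheme z₁.left
  let ζ : overOpen Z' O ⟶ Z := overOpenι Z' O ≫ z₁
  have hζqc : QuasiCompact ζ.left := by
    have : CompactSpace ↥(overOpen Z' O).left := isCompact_iff_compactSpace.mp hOc
    exact HasAffineProperty.iff_of_isAffine.mpr this
  have hPalg : IsAlgSpace P :=
    isAlgSpace_of_isPullback X.property Y.property.diag (IsAlgSpace.yon_obj Z) sqP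
  -- the pullback Q
  let Q : Sp S := pullback sndP ((yon S).map ζ)
  let q₁ : Q ⟶ P := pullback.fst sndP ((yon S).map ζ)
  let q₂ : Q ⟶ (yon S).obj (overOpen Z' O) := pullback.snd sndP ((yon S).map ζ)
  have sqQ : IsPullback q₁ q₂ sndP ((yon S).map ζ) := IsPullback.of_hasPullback _ _
  have hQalg : IsAlgSpace Q :=
    isAlgSpace_of_isPullback hPalg (IsAlgSpace.yon_obj Z).diag (IsAlgSpace.yon_obj _) sqQ
  have hcomm : (q₁ ≫ fstP) ≫ f.hom = (q₂ ≫ (yon S).map (overOpenι Z' O) ≫ ψ) ≫ p := by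
    rw [Category.assoc, sqP.w, ← Category.assoc, sqQ.w, Category.assoc, Category.assoc, Category.assoc,
      sqZ.w, Functor.map_comp, Category.assoc]
  let a : Q ⟶ X' := hsq.lift (q₁ ≫ fstP) (q₂ ≫ (yon S).map (overOpenι Z' O) ≫ ψ) hcomm
  have ha1 : a ≫ fst = q₁ ≫ fstP := hsq.lift_fst _ _ _
  have ha2 : a ≫ snd = q₂ ≫ (yon S).map (overOpenι Z' O) ≫ ψ := hsq.lift_snd _ _ _
  have hbig : IsPullback (q₁ ≫ fstP) q₂ f.hom (((yon S).map (overOpenι Z' O) ≫ ψ) ≫ p) := by
    have := sqQ.paste_horiz sqP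
    have e : (yon S).map ζ ≫ g = ((yon S).map (overOpenι Z' O) ≫ ψ) ≫ p := by
      rw [Functor.map_comp, Category.assoc, Category.assoc, sqZ.w]
    rw [e] at this
    exact this
  have sqA : IsPullback a q₂ snd ((yon S).map (overOpenι Z' O) ≫ ψ) := by
    refine IsPullback.of_right ?_ ha2 hsq
    rw [ha1]
    exact hbig
  have hQd : IsDecent Q := h _ a q₂ sqA
  have hq₁qc : IsQuasiCompactMor q₁ :=
    isQuasiCompactMor_of_isPullback sqQ.flip
      (isQuasiCompactMor_of_repWith_quasiCompact _ ((repWith_yon_map_iff _ _).2 hζqc))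
  have hq₁s : IsSurjectiveMor q₁ := by
    intro x
    obtain ⟨y, hyO, hy⟩ := hOs (Points.toScheme Z (Points.map sndP x))
    obtain ⟨z, hz, -⟩ := exists_point_of_isPullback sqQ x
      (Points.ofScheme (overOpen Z' O) (⟨y, hyO⟩ : ↥O)) (by
        rw [map_yon_map_ofScheme]
        have : ζ.left (⟨y, hyO⟩ : ↥O) = Points.toScheme Z (Points.map sndP x) := by
          rw [← hy]; rfl
        rw [this]
        exact (Points.ofScheme_toScheme Z _).symm)
    exact ⟨z, hz⟩
  exact isDecent_of_qc_surjective hQalg hPalg q₁ hq₁qc hq₁s hQd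

end Groth.Agent.S10387
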