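import Groth.Statements.S10389
import Groth.Agent.Lib.Helper16.FinFibrePair
open Groth.Agent.Lib.Helper16

set_option autoImplicit false
universe u
open CategoryTheory CategoryTheory.Limits AlgebraicGeometry Topology TopologicalSpace
open AlgSp

namespace Groth.Agent.S10389

/-- Let W = X ×_Y Z be a fibre product of algebraic spaces over a scheme S with projections p, q, and
let x ∈ |X|, z ∈ |Z| lie over the same point y ∈ |Y|. If y is represented by a monomorphism Spec k ⟶
Y from the spectrum of a field and g : Z ⟶ Y is quasi-finite at z, then the set of points of |W|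
mapping to x and to z is finite. (Special case: Y decent and g etale.) -/
theorem result {S : Scheme.{u}} {X Y Z W : AlgSp.Space S} (f : X ⟶ Y)
    (g : Z ⟶ Y) (p : W ⟶ X) (q : W ⟶ Z) (hW : IsPullback p.hom q.hom f.hom g.hom) (x : AlgSp.Points X.obj)
    (z : AlgSp.Points Z.obj) (hxz : AlgSp.Points.map f.hom x = AlgSp.Points.map g.hom z)
    (hy : ∃ r : AlgSp.FieldPt Y.obj, AlgSp.Points.mk r = AlgSp.Points.map g.hom z ∧ Mono r.toHom)
    (hg : AlgSp.HasAtMor (fun U _ h u => ∃ W : U.Opens, u ∈ W ∧ LocallyQuasiFinite (W.ι ≫ h) ∧ LocallyOfFiniteType (W.ι ≫ h)) g.hom z) :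
    {w : AlgSp.Points W.obj | AlgSp.Points.map p.hom w = x ∧ AlgSp.Points.map q.hom w = z}.Finite := by
  obtain ⟨r, hr, hm⟩ := hy
  obtain ⟨U₀, V₀, a₀, b₀, h₀, u₀, ha, hb, hc, hu, Wop, huW, hlqf, -⟩ := hg
  refine finite_fibre_pullback_of_mono_point X.property Y.property f.hom g.hom p.hom q.hom hW x z hxz r hr hm
    (O := Over.mk (Wop.ι ≫ U₀.hom))
    ((yon S).map (Over.homMk Wop.ι rfl : Over.mk (Wop.ι ≫ U₀.hom) ⟶ U₀) ≫ a₀) b₀
    ((Over.homMk Wop.ι rfl : Over.mk (Wop.ι ≫ U₀.hom) ⟶ U₀) ≫ h₀) ⟨u₀, huW⟩ hb ?_ ?_ ?_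
  · rw [Category.assoc, hc, Functor.map_comp, Category.assoc]
  · rw [ofPt_yon_map_comp]; exact hu
  · exact hlqf

end Groth.Agent.S10389
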