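import Groth.Statements.S10393
import Groth.Agent.Lib.Helper16.SchLocusField
import Groth.Agent.Lib.Helper16.DiscreteKernelPair

set_option autoImplicit false
universe u
open CategoryTheory CategoryTheory.Limits AlgebraicGeometry Topology TopologicalSpace
open AlgSp

namespace Groth.Agent.S10393

open Groth.Agent.Lib.Helper16 Groth.Agent.Lib.Helper15 Groth.Agent.Lib.Helper16.Strata


/-- Let S be a scheme, Y a scheme over S whose underlying topological space is discrete (equivalently, Y
is a disjoint union of spectra of local rings of dimension zero), and X an algebraic space over S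
with a monomorphism X ⟶ Y over S. Then X is a scheme. -/
theorem result {S : Scheme.{u}} (Y : Over S) [DiscreteTopology ↥Y.left]
    (X : AlgSp.Space S) (f : X ⟶ (AlgSp.ofScheme S).obj Y) [Mono f.hom] : X.obj.obj.IsRepresentable := by
  have hX := X.property
  apply SchLocus.isRepresentable_of_forall_mem_schLocus hX
  intro x
  obtain ⟨U, a, hae, has⟩ := hX.atlas
  obtain ⟨u, hu⟩ := ofPt_surjective_of_surjective a has x
  obtain ⟨O, hO, huO⟩ := exists_affineOpen_mem u
  have hOaff : IsAffine (overOpen U O).left := hO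
  have hae₀ : RepWith @Etale ((yon S).map (overOpenι U O) ≫ a) := repWith_etale_restrict a hae O
  obtain ⟨a₀, ha₀⟩ : ∃ a₀ : (yon S).obj (overOpen U O) ⟶ X.obj, a₀ = (yon S).map (overOpenι U O) ≫ a :=
    ⟨_, rfl⟩
  rw [← ha₀] at hae₀
  have sq := hae₀.rep.isPullback a₀
  obtain ⟨c, hc⟩ := (yon S).map_surjective (hae₀.rep.fst a₀)
  rw [← hc] at sq
  obtain ⟨g₀, hg₀⟩ := (yon S).map_surjective (a₀ ≫ f.hom)
  have sq' : IsPullback ((yon S).map c) ((yon S).map (hae₀.rep.snd a₀)) (a₀ ≫ f.hom) (a₀ ≫ f.hom) :=
    isPullback_comp_mono f.hom sq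
  replace sq' : IsPullback ((yon S).map c) ((yon S).map (hae₀.rep.snd a₀)) ((yon S).map g₀) ((yon S).map g₀) := by
    rw [hg₀]
    exact sq'
  have hcomm : c ≫ g₀ = hae₀.rep.snd a₀ ≫ g₀ := (yon S).map_injective (by
    rw [Functor.map_comp, Functor.map_comp]
    exact sq'.w)
  have sq'' : IsPullback c (hae₀.rep.snd a₀) g₀ g₀ := IsPullback.of_map (yon S) hcomm sq'
  have sqL : IsPullback c.left (hae₀.rep.snd a₀).left g₀.left g₀.left := sq''.map (Over.forget S)
  have hce : Etale c.left := hae₀.property _ _ _ sq.flip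
  have hfe : Etale (pullback.fst g₀.left g₀.left) := by
    have h1 : pullback.fst g₀.left g₀.left = sqL.isoPullback.inv ≫ c.left := by
      rw [Iso.eq_inv_comp, IsPullback.isoPullback_hom_fst]
    rw [h1]
    infer_instance
  have hdisc : DiscreteTopology ↥(overOpen U O).left := DiscreteKP.discreteTopology_of_etale_kernelPair g₀.left
  have hqsY : QuasiSeparatedSpace ↥Y.left := DiscreteKP.quasiSeparatedSpace_of_discreteTopology _
  have hqc : QuasiCompact g₀.left := inferInstance
  have hsnqc : QuasiCompact (hae₀.rep.snd a₀).left := MorphismProperty.of_isPullback (P := @QuasiCompact) sqL hqc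
  have hRc : CompactSpace ↥(hae₀.rep.pullback a₀).left :=
    QuasiCompact.compactSpace_of_compactSpace (hae₀.rep.snd a₀).left
  have hmem := SchLocus.mem_schLocus_of_codim_zero hX a₀ hae₀ sq (⟨u, huO⟩ : ↥O)
    (DiscreteKP.ringKrullDim_stalk_eq_zero_of_discreteTopology _)
  rw [ha₀, ofPt_restrict] at hmem
  rw [← hu]
  exact hmem

end Groth.Agent.S10393
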