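import Groth.Statements.S10395
import Groth.Agent.Lib.Helper16.DecentGeneric
import Groth.Agent.S10352

set_option autoImplicit false
universe u
open CategoryTheory CategoryTheory.Limits AlgebraicGeometry Topology TopologicalSpace
open AlgSp

namespace Groth.Agent.S10395

/-- (1) ⇔ (2) ⇔ (3): let S be a scheme, X a decent algebraic space over S, and (Y, y) ⟶ (X, x) an etale
morphism of pointed algebraic spaces. Then the point y is a generic point of some irreducible
component of |Y| if and only if the point x is a generic point of some irreducible component of |X|. -/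
theorem result {S : Scheme.{u}} {X Y : AlgSp.Space S}
    (hX : AlgSp.IsDecent X.obj) (f : Y ⟶ X) (hf : AlgSp.IsEtaleMor f.hom) (y : AlgSp.Points Y.obj) :
    (∃ T ∈ irreducibleComponents (AlgSp.Points Y.obj), IsGenericPoint y T) ↔
      (∃ T ∈ irreducibleComponents (AlgSp.Points X.obj), IsGenericPoint (AlgSp.Points.map f.hom y) T) := by
  have hY : AlgSp.IsDecent Y.obj := Groth.Agent.S10352.result f hf hX
  rw [Groth.Agent.Lib.Helper16.Strata.isGenericPoint_component_iff Y.property hY,
    Groth.Agent.Lib.Helper16.Strata.isGenericPoint_component_iff X.property hX]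
  constructor
  · rintro ⟨V, b, v, hb, rfl, hdim⟩
    exact ⟨V, b ≫ f.hom, v, hf b hb, rfl, hdim⟩
  · rintro ⟨U, a, u, ha, hu, hdim⟩
    obtain ⟨V, b, hbe, hbs⟩ := Y.property.atlas
    obtain ⟨v, rfl⟩ := Groth.Agent.Lib.Helper16.ofPt_surjective_of_surjective b hbs y
    refine ⟨V, b, v, hbe, rfl, ?_⟩
    have h := Groth.Agent.Lib.Helper16.Strata.ringKrullDim_stalk_eq_of_charts a ha (b ≫ f.hom) (hf b hbe) u v hu
    show ringKrullDim ↥(V.left.presheaf.stalk v) = 0
    rw [← h]
    exact hdim

end Groth.Agent.S10395
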