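import Groth.Statements.S10396
import Groth.Agent.Lib.Helper16.DecentGeneric

set_option autoImplicit false
universe u
open CategoryTheory CategoryTheory.Limits AlgebraicGeometry Topology TopologicalSpace
open AlgSp

namespace Groth.Agent.S10396

/-- Let S be a scheme, X a decent algebraic space over S, and T ⊆ |X| an irreducible closed subset with
generic point ξ. Then codim(T, |X|) equals the dimension of the local ring at ξ of X, read on any
etale chart (U, u) ⟶ (X, ξ) as the Krull dimension of O_{U,u}. -/
theorem result {S : Scheme.{u}} (X : AlgSp.Space S)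
    (hX : AlgSp.IsDecent X.obj) (T : TopologicalSpace.IrreducibleCloseds (AlgSp.Points X.obj)) (ξ : AlgSp.Points X.obj)
    (hξ : IsGenericPoint ξ (T : Set (AlgSp.Points X.obj))) {U : Over S} (a : (AlgSp.yon S).obj U ⟶ X.obj)
    (ha : AlgSp.RepWith @Etale a) (u : ↥U.left) (hu : AlgSp.Points.ofPt a u = ξ) :
    (Order.coheight T : WithBot ℕ∞) = ringKrullDim ↥(U.left.presheaf.stalk u) := by
  have hq : QuasiSober (AlgSp.Points X.obj) :=
    Groth.Agent.Lib.Helper16.Strata.quasiSober_points_of_isDecent X.property hX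
  have ht0 : T0Space (AlgSp.Points X.obj) := Groth.Agent.S10338.result X hX
  letI : PartialOrder (AlgSp.Points X.obj) := specializationOrder (AlgSp.Points X.obj)
  have hg : IsGenericPoint (irreducibleSetEquivPoints (α := AlgSp.Points X.obj) T)
      (T : Set (AlgSp.Points X.obj)) := T.2.isGenericPoint_genericPoint T.3
  have h1 : Order.coheight T = Order.coheight ξ := by
    rw [← Order.coheight_orderIso (irreducibleSetEquivPoints (α := AlgSp.Points X.obj)) T, hg.eq hξ]
  have h2 : Order.coheight u = Order.coheight (AlgSp.Points.ofPt a u) := by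
    refine Order.coheight_eq_of_strictMono (fun w : ↥U.left => AlgSp.Points.ofPt a w) ?_ ?_ u
    · intro u₁ u₂ hab
      have hs : u₂ ⤳ u₁ := hab.1
      refine ⟨hs.map (AlgSp.Points.continuous_ofPt a), fun h3 => ?_⟩
      have h3' : AlgSp.Points.ofPt a u₁ ⤳ AlgSp.Points.ofPt a u₂ := h3
      have he : AlgSp.Points.ofPt a u₁ = AlgSp.Points.ofPt a u₂ :=
        (h3'.antisymm (hs.map (AlgSp.Points.continuous_ofPt a))).eq
      have := Groth.Agent.S10340.result X hX a ha u₁ u₂ he hs
      exact hab.2 (this ▸ le_refl _)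
    · intro u₁ b' hab
      have hs : b' ⤳ AlgSp.Points.ofPt a u₁ := hab.1
      obtain ⟨u', hu', rfl⟩ := Groth.Agent.S10343.result X _ b' hs (hX b') a ha u₁ rfl
      refine ⟨u', ⟨hu', fun h3 => ?_⟩, rfl⟩
      have h3' : u₁ ⤳ u' := h3
      exact hab.2 (h3'.map (AlgSp.Points.continuous_ofPt a))
  rw [ringKrullDim_stalk_eq_coheight, h1, ← hu, h2]

end Groth.Agent.S10396
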