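import Groth.Statements.S10397
import Groth.Agent.Lib.Helper16.GenericDecent
import Groth.Agent.Lib.Helper16.SchLocusDense
import Groth.Agent.Lib.Helper16.IrredFinite

set_option autoImplicit false
universe u
open CategoryTheory CategoryTheory.Limits AlgebraicGeometry Topology TopologicalSpace
open AlgSp

namespace Groth.Agent.S10397

open Groth.Agent.Lib.Helper16 Groth.Agent.Lib.Helper15


/-- (1) ⇔ (3): an algebraic space X over a scheme S is decent with |X| having finitely many irreducible
components if and only if X has a dense open subscheme X' with finitely many irreducible components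
whose generic points x'_j give quasi-compact morphisms Spec κ(x'_j) ⟶ X. -/
theorem result {S : Scheme.{u}} (X : AlgSp.Space S) :
    (AlgSp.IsDecent X.obj ∧ (irreducibleComponents (AlgSp.Points X.obj)).Finite) ↔
      ∃ (X' : Over S) (j : (AlgSp.yon S).obj X' ⟶ X.obj), AlgSp.RepWith @IsOpenImmersion j ∧
        Dense (Set.range (AlgSp.Points.ofPt j)) ∧ (irreducibleComponents ↥X'.left).Finite ∧
        ∀ x' : ↥X'.left, (∃ T ∈ irreducibleComponents ↥X'.left, IsGenericPoint x' T) →
          AlgSp.RepWith @QuasiCompact (AlgSp.FieldPt.ofPt j x').toHom := by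
  have hX : IsAlgSpace X.obj := X.property
  constructor
  · rintro ⟨hdec, hfin⟩
    obtain ⟨Mg, ⟨e⟩⟩ := SchLocus.exists_iso_yon_openSub_schLocus hX
    obtain ⟨j, hjdef⟩ : ∃ j : (yon S).obj Mg ⟶ X.obj, j = e.hom ≫ openSubι X.obj (SchLocus.schLocus X.obj) :=
      ⟨_, rfl⟩
    have hj : RepWith @IsOpenImmersion j := by
      rw [hjdef]
      exact (MorphismProperty.cancel_left_of_respectsIso (RepWith @IsOpenImmersion) e.hom _).2
        (repWith_isOpenImmersion_openSubι _ (SchLocus.isOpen_schLocus _))
    have hjm : Mono j := by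
      rw [hjdef]
      exact mono_comp _ _
    have hrange : Set.range (Points.ofPt j) = SchLocus.schLocus X.obj := by
      rw [← SchLocus.range_map_yon, ← range_map_openSubι (SchLocus.schLocus X.obj)]
      apply Set.eq_of_subset_of_subset
      · rintro _ ⟨y, rfl⟩
        refine ⟨Points.map e.hom y, ?_⟩
        rw [hjdef, Points.map_comp]
      · rintro _ ⟨y, rfl⟩
        refine ⟨Points.map e.inv y, ?_⟩
        rw [hjdef, Points.map_comp, ← Points.map_comp e.inv e.hom, e.inv_hom_id, Points.map_id]
    refine ⟨Mg, j, hj, ?_, ?_, ?_⟩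
    · rw [hrange]
      exact SchLocus.dense_schLocus_of_isDecent hX hdec
    · refine IrredFinite.finite_of_isOpenEmbedding (Points.ofPt j) ?_ hfin
      refine IsOpenEmbedding.of_continuous_injective_isOpenMap (Points.continuous_ofPt j) ?_
        (isOpenMap_ofPt_of_etale j (repWith_mono SchLocus.isOpenImmersion_le_etale j hj))
      intro t t' htt'
      rw [Points.ofPt_eq_map_ofScheme, Points.ofPt_eq_map_ofScheme] at htt'
      exact (Points.schemeEquiv Mg).injective (points_map_injective_of_mono j htt')
    · intro x' _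
      obtain ⟨p, hp, hm, hq⟩ := hdec (Points.ofPt j x')
      obtain ⟨c, hc⟩ := exists_factor_of_rel_of_mono p (FieldPt.ofPt j x') hm (hX.representable_from_yon _)
        (Points.mk_eq_mk_iff.1 hp.symm)
      rw [hc]
      refine (RepWith @QuasiCompact).comp_mem _ _ ((repWith_yon_map_iff _ _).2 ?_) hq
      obtain ⟨c₁, hc₁⟩ : ∃ c₁ : Spec (CommRingCat.of (FieldPt.ofPt j x').K) ⟶ p.pt.left, c₁ = c.left := ⟨_, rfl⟩
      rw [← hc₁]
      exact quasiCompact_of_field_source c₁
  · rintro ⟨X', j, hj, hdense, hfin', hqc⟩
    obtain ⟨G, hGdef⟩ : ∃ G : Set ↥X'.left,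
        G = {x' | ∃ T ∈ irreducibleComponents ↥X'.left, IsGenericPoint x' T} := ⟨_, rfl⟩
    have hGfin : G.Finite := by
      have h1 : G = ⋃ T ∈ irreducibleComponents ↥X'.left, {x' | IsGenericPoint x' T} := by
        rw [hGdef]
        ext x'
        simp
      rw [h1]
      refine hfin'.biUnion fun T _ => Set.Subsingleton.finite ?_
      intro x hx y hy
      exact IsGenericPoint.eq hx hy
    have hG : ∀ m : ↥X'.left, ∃ g ∈ G, g ⤳ m := by
      intro m
      obtain ⟨g, hg⟩ := QuasiSober.sober (isIrreducible_irreducibleComponent (x := m))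
        isClosed_irreducibleComponent
      refine ⟨g, ?_, hg.specializes mem_irreducibleComponent⟩
      rw [hGdef]
      exact ⟨_, irreducibleComponent_mem_irreducibleComponents m, hg⟩
    refine ⟨Strata.isDecent_of_generic j G hX hj hdense hGfin hG (fun g hg => hqc g (by rw [hGdef] at hg; exact hg)), ?_⟩
    exact IrredFinite.finite_of_dense_range (Points.ofPt j) (Points.continuous_ofPt j) hdense hfin'

end Groth.Agent.S10397
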