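import Groth.Statements.S10402
import Groth.Agent.Lib.Helper16.JacobsonEt
import Groth.Agent.Lib.Helper16.LocPGen
open Groth.Agent.Lib.Helper16

set_option autoImplicit false
universe u
open CategoryTheory CategoryTheory.Limits AlgebraicGeometry Topology TopologicalSpace
open AlgSp

namespace Groth.Agent.S10402

/-- Let S be a scheme and X a Jacobson algebraic space over S. Fix a finite type point x of |X|, and let
g : W ⟶ X be locally of finite type, where W is a scheme. If x lies in the image of |W| → |X|, then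
some closed point of W is mapped to x. -/
theorem result {S : Scheme.{u}} (X : AlgSp.Space S) (hX : AlgSp.EtaleLocally (fun U => JacobsonSpace ↥U) X.obj)
    (x : AlgSp.Points X.obj) (hx : AlgSp.HasAt (fun U u => IsClosed ({u} : Set ↥U)) X.obj x) {W : Over S} (g : (AlgSp.yon S).obj W ⟶ X.obj)
    (hg : AlgSp.LocP @LocallyOfFiniteType g) (hxW : x ∈ Set.range (AlgSp.Points.ofPt g)) :
    ∃ w : ↥W.left, IsClosed ({w} : Set ↥W.left) ∧ AlgSp.Points.ofPt g w = x := by
  obtain ⟨V, b, hbe, hbs, hVJ⟩ := hX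
  obtain ⟨U₁, a₁, u₁, ha₁, rfl, hu₁⟩ := hx
  obtain ⟨w₀, hw₀⟩ := hxW
  have hVJ' : JacobsonSpace ↥V.left := hVJ
  have hWJ : JacobsonSpace ↥W.left := by
    obtain ⟨U, h, c, h1, h2, hce, sq, -⟩ := exists_chart_diagram g b hbe (𝟙 _) (repWith_id _ W)
    have hh : LocallyOfFiniteType h.left := hg _ _ h h1 hbe h2
    have : JacobsonSpace ↥U.left := LocallyOfFiniteType.jacobsonSpace h.left
    have hcs : Surjective c.left := hbs.property _ _ _ sq
    have : Etale c.left := hce
    have : LocallyQuasiFinite c.left := locallyQuasiFinite_of_etale _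
    exact FtPt.jacobsonSpace_of_flat_lqf_surjective c.left
  obtain ⟨W', p₂, p₁', sq'⟩ := ha₁.rep g
  obtain ⟨p₁, rfl⟩ := (AlgSp.yon S).map_surjective p₁'
  have hp₂ : Etale p₂.left := ha₁.property _ _ _ sq'
  obtain ⟨w', hw'1, hw'2⟩ := exists_point_of_isPullback_yon_yon sq' u₁ w₀ hw₀.symm
  have : JacobsonSpace ↥W'.left := LocallyOfFiniteType.jacobsonSpace p₂.left
  obtain ⟨w'', hw''F, hw''cl⟩ := nonempty_inter_closedPoints (Z := p₁.left ⁻¹' {u₁}) ⟨w', hw'1⟩
    (hu₁.preimage p₁.left.continuous).isLocallyClosed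
  refine ⟨p₂.left w'', ?_, ?_⟩
  · exact p₂.left.closePoints_subset_preimage_closedPoints hw''cl
  · rw [← ofPt_yon_map_comp, ← sq'.w, ofPt_yon_map_comp]
    exact congrArg _ hw''F

end Groth.Agent.S10402
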