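import Groth.Statements.S10405
import Groth.Agent.S10202
import Groth.Agent.S10338
import Groth.Agent.S10339
import Groth.Agent.Lib.Helper16.PuncGen
open Groth.Agent.Lib.Helper16

set_option autoImplicit false
universe u
open CategoryTheory CategoryTheory.Limits AlgebraicGeometry Topology TopologicalSpace
open AlgSp

namespace Groth.Agent.S10405

/-- Let S be a scheme, X an algebraic space over S which is decent and locally Noetherian, and x ∈ |X|.
Then the set W of proper generizations of x (points x' ≠ x with x' ⤳ x), with the topology induced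
from |X|, is a topological space which is Noetherian, spectral, sober and Jacobson. -/
theorem result {S : Scheme.{u}} (X : AlgSp.Space S)
    (hd : AlgSp.IsDecent X.obj) (hN : AlgSp.IsLocNoethSp X.obj) (x : AlgSp.Points X.obj) :
    NoetherianSpace {x' : AlgSp.Points X.obj // x' ⤳ x ∧ x' ≠ x} ∧
      SpectralSpace {x' : AlgSp.Points X.obj // x' ⤳ x ∧ x' ≠ x} ∧
      QuasiSober {x' : AlgSp.Points X.obj // x' ⤳ x ∧ x' ≠ x} ∧
      JacobsonSpace {x' : AlgSp.Points X.obj // x' ⤳ x ∧ x' ≠ x} := by
  haveI hT0 : T0Space (AlgSp.Points X.obj) := Groth.Agent.S10338.result X hd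
  haveI hQS : QuasiSober (AlgSp.Points X.obj) := Groth.Agent.S10339.result X hd
  obtain ⟨O, hOo, hxO, hON⟩ := Groth.Agent.S10202.result X hN x
  haveI : NoetherianSpace ↥O := hON
  have hNoe : NoetherianSpace {x' : AlgSp.Points X.obj // x' ⤳ x ∧ x' ≠ x} :=
    PuncGen.noetherianSpace_subtype_of_subset _ O (fun t ht => ht.1.mem_open hOo hxO)
  haveI := hNoe
  have hQ : QuasiSober {x' : AlgSp.Points X.obj // x' ⤳ x ∧ x' ≠ x} :=
    PuncGen.quasiSober_subtype_of_stableUnderGeneralization _ (by
      rintro a b hba ⟨hax, hne⟩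
      refine ⟨hba.trans hax, ?_⟩
      rintro rfl
      exact hne (hax.antisymm hba).eq)
  haveI := hQ
  exact ⟨hNoe, PuncGen.spectralSpace_of_noetherian, hQ, PuncGen.jacobsonSpace_puncGen hd hN x⟩

end Groth.Agent.S10405
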