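import Groth.Statements.S10406
import Groth.Agent.Lib.Helper16.Birat2
import Groth.Agent.S10343
import Groth.Agent.S10340

open Groth.Agent.Lib.Helper15 Groth.Agent.Lib.Helper16

set_option autoImplicit false
universe u
open CategoryTheory CategoryTheory.Limits AlgebraicGeometry Topology TopologicalSpace
open AlgSp

namespace Groth.Agent.S10406

theorem eq_of_specializes_of_locallyQuasiFinite {W V : Scheme.{u}} (i : W ⟶ V) [LocallyQuasiFinite i]
    {w w' : W} (h : w ⤳ w') (hi : i w = i w') : w = w' := by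
  have hd := i.isDiscrete_preimage_singleton (i w')
  have hdt : DiscreteTopology ↥(i ⁻¹' {i w'}) := isDiscrete_iff_discreteTopology.1 hd
  have hs : (⟨w, hi⟩ : ↥(i ⁻¹' {i w'})) ⤳ ⟨w', rfl⟩ := IsInducing.subtypeVal.specializes_iff.1 h
  exact congrArg Subtype.val hs.eq

/-- No nontrivial specializations in the fibres of a finite morphism of decent spaces. -/
theorem eq_of_specializes_of_isFiniteMor {S : Scheme.{u}} {X Y : AlgSp.Space S} (f : Y ⟶ X)
    (hf : AlgSp.IsFiniteMor f.hom) (hX : AlgSp.IsDecent X.obj) (hY : AlgSp.IsDecent Y.obj)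
    {y c : AlgSp.Points Y.obj} (h : y ⤳ c)
    (hfc : AlgSp.Points.map f.hom y = AlgSp.Points.map f.hom c) : y = c := by
  obtain ⟨U, p, hpe, hps⟩ := X.property.atlas
  obtain ⟨u₀, hu₀⟩ := ofPt_surjective_of_surjective p hps (Points.map f.hom c)
  obtain ⟨_, ⟨A, hA, rfl⟩, hu₀A, -⟩ := U.left.isBasis_affineOpens.exists_subset_of_mem_open
    (Set.mem_univ u₀) isOpen_univ
  have hVaff : IsAffine (overOpen U A).left := hA
  have hbe : RepWith @Etale ((yon S).map (overOpenι U A) ≫ p) := repWith_etale_restrict p hpe A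
  obtain ⟨W, i, fst, sq, hWaff, hfin⟩ := hf hVaff ((yon S).map (overOpenι U A) ≫ p)
  have hfst : RepWith @Etale fst := (RepWith @Etale).of_isPullback sq.flip hbe
  have hv₀ : Points.map f.hom c = Points.ofPt ((yon S).map (overOpenι U A) ≫ p) (⟨u₀, hu₀A⟩ : ↥A) := by
    rw [ofPt_restrict, ← hu₀]
    rfl
  obtain ⟨wc, hwc1, hwc2⟩ := exists_point_of_isPullback_yon sq c (⟨u₀, hu₀A⟩ : ↥A) hv₀
  obtain ⟨wy, hwys, hwy⟩ := Groth.Agent.S10343.result Y c y h (hY y) fst hfst wc hwc1
  have hcomm : ∀ w : ↥W.left, Points.ofPt ((yon S).map (overOpenι U A) ≫ p) (i.left w) =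
      Points.map f.hom (Points.ofPt fst w) := by
    intro w
    rw [← ofPt_yon_map_comp, ← sq.w, Points.map_ofPt]
  have h1 : Points.ofPt ((yon S).map (overOpenι U A) ≫ p) (i.left wc) =
      Points.ofPt ((yon S).map (overOpenι U A) ≫ p) (i.left wy) := by
    rw [hcomm, hcomm, hwc1, hwy, hfc]
  have h2 : i.left wy ⤳ i.left wc := hwys.map i.left.continuous
  have h3 : i.left wc = i.left wy := Groth.Agent.S10340.result X hX _ hbe (i.left wc) (i.left wy) h1 h2
  have : IsFinite i.left := hfin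
  have h4 : wy = wc := eq_of_specializes_of_locallyQuasiFinite i.left hwys h3.symm
  rw [← hwy, h4, hwc1]


/-- Let S be a scheme, Y and X decent, locally Noetherian algebraic spaces over S, and f : Y ⟶ X a
surjective finite morphism, and let δ : |X| → ℤ be a function. Suppose δ ∘ |f| is a dimension
function on |Y| (it decreases strictly along nontrivial specializations and by exactly one along
immediate specializations). Then δ is a dimension function on |X|. -/
theorem result {S : Scheme.{u}} {X Y : AlgSp.Space S} (f : Y ⟶ X)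
    (hf : AlgSp.IsFiniteMor f.hom) (hs : AlgSp.IsSurjectiveMor f.hom) (hX : AlgSp.IsDecent X.obj)
    (hY : AlgSp.IsDecent Y.obj) (hXN : AlgSp.IsLocNoethSp X.obj) (hYN : AlgSp.IsLocNoethSp Y.obj)
    (δ : AlgSp.Points X.obj → ℤ)
    (hδ : (∀ a b : AlgSp.Points Y.obj, a ⤳ b → a ≠ b → (δ ∘ AlgSp.Points.map f.hom) b < (δ ∘ AlgSp.Points.map f.hom) a ∧ ((∀ c : AlgSp.Points Y.obj, a ⤳ c → c ⤳ b → c = a ∨ c = b) → (δ ∘ AlgSp.Points.map f.hom) a = (δ ∘ AlgSp.Points.map f.hom) b + 1))) :
    (∀ a b : AlgSp.Points X.obj, a ⤳ b → a ≠ b → δ b < δ a ∧ ((∀ c : AlgSp.Points X.obj, a ⤳ c → c ⤳ b → c = a ∨ c = b) → δ a = δ b + 1)) := by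
  intro a b hab hne
  have hcl := Groth.Agent.Lib.Helper16.Birat.isClosedMap_of_isFiniteMor f hf
  obtain ⟨y, hy⟩ := hs a
  have hb : b ∈ AlgSp.Points.map f.hom '' closure {y} := by
    have h1 : IsClosed (AlgSp.Points.map f.hom '' closure {y}) := hcl _ isClosed_closure
    have h2 : a ∈ AlgSp.Points.map f.hom '' closure {y} := ⟨y, subset_closure rfl, hy⟩
    have h3 : closure {a} ⊆ AlgSp.Points.map f.hom '' closure {y} :=
      h1.closure_subset_iff.2 (Set.singleton_subset_iff.2 h2)
    exact h3 (specializes_iff_mem_closure.1 hab)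
  obtain ⟨y', hy'cl, hy'⟩ := hb
  have hyy' : y ⤳ y' := specializes_iff_mem_closure.2 hy'cl
  have hney : y ≠ y' := by
    intro e
    apply hne
    rw [← hy, ← hy', e]
  obtain ⟨h1, h2⟩ := hδ y y' hyy' hney
  simp only [Function.comp_apply, hy, hy'] at h1 h2
  refine ⟨h1, fun himm => h2 ?_⟩
  intro c' hyc' hc'y'
  have hc1 : a ⤳ AlgSp.Points.map f.hom c' := by
    rw [← hy]
    exact hyc'.map (AlgSp.Points.continuous_map f.hom)
  have hc2 : AlgSp.Points.map f.hom c' ⤳ b := by
    rw [← hy']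
    exact hc'y'.map (AlgSp.Points.continuous_map f.hom)
  rcases himm _ hc1 hc2 with e | e
  · left
    exact (eq_of_specializes_of_isFiniteMor f hf hX hY hyc' (hy.trans e.symm)).symm
  · right
    exact eq_of_specializes_of_isFiniteMor f hf hX hY hc'y' (e.trans hy'.symm)

end Groth.Agent.S10406
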