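import Groth.Statements.S10409
import Groth.Agent.Lib.Helper16.DecentPt
open Groth.Agent.Lib.Helper16

set_option autoImplicit false
universe u
open CategoryTheory CategoryTheory.Limits AlgebraicGeometry Topology TopologicalSpace
open AlgSp

namespace Groth.Agent.S10409

/-- (3) ⇔ (4): for an algebraic space X over a scheme S and x ∈ |X|, there is a monomorphism Spec k ⟶ X
representing x if and only if there is a morphism Spec k' ⟶ X representing x whose
self-fibre-product has etale and quasi-compact projections to Spec k'. -/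
theorem result {S : Scheme.{u}} (X : AlgSp.Space S)
    (x : AlgSp.Points X.obj) :
    (∃ p : AlgSp.FieldPt X.obj, AlgSp.Points.mk p = x ∧ Mono p.toHom) ↔
      ∃ q : AlgSp.FieldPt X.obj, AlgSp.Points.mk q = x ∧
        ∀ (P : AlgSp.Sp S) (fst snd : P ⟶ (AlgSp.yon S).obj q.pt), IsPullback fst snd q.toHom q.toHom →
          AlgSp.RepWith @Etale fst ∧ AlgSp.RepWith @QuasiCompact fst := by
  constructor
  · rintro ⟨p, hp, hm⟩
    refine ⟨p, hp, fun P fst snd sq => ?_⟩
    have hiso : IsIso fst := IsKernelPair.isIso_of_mono (f := p.toHom) sq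
    exact ⟨MorphismProperty.of_isIso (RepWith @Etale) fst, MorphismProperty.of_isIso (RepWith @QuasiCompact) fst⟩
  · rintro ⟨q, hq, H⟩
    have hrep : Representable q.toHom := X.property.representable_from_yon _
    obtain ⟨F, s, t, hF⟩ : ∃ (F : Over S) (s t : F ⟶ q.pt),
        IsPullback ((yon S).map s) ((yon S).map t) q.toHom q.toHom := ⟨_, _, _, hrep.isPullback' _⟩
    obtain ⟨h1, h2⟩ := H _ _ _ hF
    have hse : Etale s.left := (repWith_yon_map_iff _ _).1 h1
    have hsq : QuasiCompact s.left := (repWith_yon_map_iff _ _).1 h2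
    have hcK : CompactSpace ↥q.pt.left := inferInstanceAs (CompactSpace ↥(Spec (CommRingCat.of q.K)))
    have hcF : CompactSpace ↥F.left := QuasiCompact.compactSpace_of_compactSpace s.left
    obtain ⟨k, _, str', c, p', hmono, hp', -, -, -⟩ :=
      exists_mono_desc_of_lqf_kernelPair q.K q.str _ s t hF (locallyQuasiFinite_of_etale s.left) hcF
    refine ⟨fieldPtOfHom k str' p', ?_, ?_⟩
    · have h1 : Points.mk (fieldPtOfHom q.K q.str ((yon S).map c ≫ p')) =
          Points.mk (fieldPtOfHom k str' p') := by
        have := mk_fieldPtOfHom_comp (fieldPtOfHom k str' p') q.K q.str c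
        rwa [fieldPtOfHom_toHom] at this
      rw [← h1, hp', fieldPtOfHom_toHom_self]
      exact hq
    · rw [fieldPtOfHom_toHom]; exact hmono

end Groth.Agent.S10409
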