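import Groth.Statements.S10410
import Groth.Agent.Lib.Helper16.DecentPt
import Groth.Agent.Lib.Helper16.FibreFinite
import Groth.Agent.Lib.Helper16.FiniteFibres
import Groth.Agent.Lib.Helper16.MonoPtEx
open Groth.Agent.Lib.Helper16

set_option autoImplicit false
universe u
open CategoryTheory CategoryTheory.Limits AlgebraicGeometry Topology TopologicalSpace
open AlgSp

namespace Groth.Agent.S10410

/-- Let X be an algebraic space over a scheme S, x ∈ |X|, and φ : U ⟶ X etale with U a scheme. Then x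
lies in the image of |U| and the fibres of |U| → |X| and |U ×_X U| → |X| over x are finite, if and
only if x is represented by a monomorphism Spec k ⟶ X such that Spec k ×_X U is a nonempty scheme
finite over k. -/
theorem result {S : Scheme.{u}} (X : AlgSp.Space S) (x : AlgSp.Points X.obj)
    {U : Over S} (φ : (AlgSp.yon S).obj U ⟶ X.obj) (hφ : AlgSp.RepWith @Etale φ) :
    (x ∈ Set.range (AlgSp.Points.ofPt φ) ∧ (AlgSp.Points.ofPt φ ⁻¹' {x}).Finite ∧
        ∀ (R : Over S) (s t : R ⟶ U), IsPullback ((AlgSp.yon S).map t) ((AlgSp.yon S).map s) φ φ →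
          (AlgSp.Points.ofPt ((AlgSp.yon S).map t ≫ φ) ⁻¹' {x}).Finite) ↔
      ∃ p : AlgSp.FieldPt X.obj, AlgSp.Points.mk p = x ∧ Mono p.toHom ∧
        ∀ (T : Over S) (c : T ⟶ p.pt) (snd : (AlgSp.yon S).obj T ⟶ (AlgSp.yon S).obj U),
          IsPullback ((AlgSp.yon S).map c) snd p.toHom φ → Nonempty ↥T.left ∧ IsFinite c.left := by
  constructor
  · rintro ⟨⟨u, hu⟩, hfinU, H⟩
    obtain ⟨R, snd, fst, sq⟩ := hφ.rep φ
    obtain ⟨fst', rfl⟩ := (yon S).map_surjective fst
    have h2 := H R snd fst' sq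
    have hfin : {r : ↥R.left | snd.left r = u ∧ fst'.left r = u}.Finite := by
      refine h2.subset ?_
      rintro r ⟨-, hr2⟩
      show Points.ofPt ((yon S).map fst' ≫ φ) r ∈ ({x} : Set _)
      rw [ofPt_yon_map_comp, hr2, hu]
      rfl
    obtain ⟨p, hp, hm⟩ := exists_mono_point_of_finite_relation_fibre X.property φ hφ u u rfl snd fst' sq hfin
    have hpx : Points.mk p = x := hp.trans hu
    refine ⟨p, hpx, hm, fun T c ψ sqT => ?_⟩
    obtain ⟨ε, rfl⟩ := (yon S).map_surjective ψ
    have hce : Etale c.left := hφ.property _ _ _ sqT.flip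
    have hεm : Mono ((yon S).map ε) := sqT.mono_snd_of_mono
    have hεm' : Mono ε := (yon S).mono_of_mono_map hεm
    have hεl : Mono ε.left := inferInstance
    have hεinj : Function.Injective ε.left := ε.left.injective
    obtain ⟨v, -, -⟩ := exists_point_of_isPullback_yon_yon sqT
      (IsLocalRing.closedPoint p.K : ↥(Spec (CommRingCat.of p.K))) u (by rw [Points.ofPt_toHom, hpx, hu])
    refine ⟨⟨v⟩, ?_⟩
    have himg : ∀ w : ↥T.left, ε.left w ∈ Points.ofPt φ ⁻¹' {x} := by
      intro w
      show Points.ofPt φ (ε.left w) = x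
      rw [← ofPt_yon_map_comp, ← sqT.w, ofPt_yon_map_comp, Points.ofPt_toHom, hpx]
    have hfinT : Finite ↥T.left := by
      have : (Set.univ : Set ↥T.left).Finite := by
        refine (hfinU.preimage hεinj.injOn).subset ?_
        intro w _
        exact himg w
      exact Set.finite_univ_iff.mp this
    have hcT : CompactSpace ↥T.left := Finite.compactSpace
    obtain ⟨c₁, hc₁⟩ : ∃ c₁ : T.left ⟶ Spec (CommRingCat.of p.K), c₁ = c.left := ⟨_, rfl⟩
    have h1 : LocallyQuasiFinite c₁ := by rw [hc₁]; exact locallyQuasiFinite_of_etale c.left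
    have h2 : QuasiCompact c₁ := HasAffineProperty.iff_of_isAffine.mpr (by infer_instance)
    have h3 : IsLocallyArtinian (Spec (CommRingCat.of p.K)) := by
      rw [Scheme.isLocallyArtinianScheme_Spec]
      infer_instance
    have h4 : IsFinite c₁ := IsFinite.of_locallyQuasiFinite c₁
    exact hc₁ ▸ h4
  · rintro ⟨p, rfl, hm, H⟩
    obtain ⟨T, c, ψ, sqT₀⟩ := hφ.rep p.toHom
    obtain ⟨ε, rfl⟩ := (yon S).map_surjective ψ
    obtain ⟨⟨v⟩, hfin⟩ := H T c _ sqT₀.flip
    have himg : ∀ w : ↥T.left, Points.ofPt φ (ε.left w) = Points.mk p := by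
      intro w
      rw [← ofPt_yon_map_comp, sqT₀.w, ofPt_yon_map_comp, Points.ofPt_toHom]
    have hfinT : Finite ↥T.left := by
      have h := IsFinite.finite_preimage_singleton c.left (c.left v)
      have hsub : (Set.univ : Set ↥T.left) ⊆ c.left ⁻¹' {c.left v} := by
        intro w _
        show c.left w = c.left v
        exact Subsingleton.elim (α := PrimeSpectrum p.K) _ _
      exact Set.finite_univ_iff.mp (h.subset hsub)
    have h1 : (Points.ofPt φ ⁻¹' {Points.mk p}).Finite := by
      refine (Set.finite_range (fun w : ↥T.left => ε.left w)).subset ?_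
      intro w hw
      obtain ⟨t, ht, -⟩ := exists_point_of_isPullback_yon_yon sqT₀ w
        (IsLocalRing.closedPoint p.K : ↥(Spec (CommRingCat.of p.K))) (by rw [Points.ofPt_toHom]; exact hw)
      exact ⟨t, ht⟩
    refine ⟨⟨ε.left v, himg v⟩, h1, fun R s t sq => ?_⟩
    have h2 : (⋃ u ∈ Points.ofPt φ ⁻¹' {Points.mk p}, ⋃ u' ∈ Points.ofPt φ ⁻¹' {Points.mk p},
        {r : ↥R.left | s.left r = u ∧ t.left r = u'}).Finite :=
      h1.biUnion fun u hu => h1.biUnion fun u' hu' => finite_fibre_of_mono_point p hm φ hφ u u' hu hu' R s t sq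
    refine h2.subset ?_
    intro r hr
    have hr' : Points.ofPt φ (t.left r) = Points.mk p := by
      rw [← ofPt_yon_map_comp]; exact hr
    have hr'' : Points.ofPt φ (s.left r) = Points.mk p := by
      rw [← ofPt_yon_map_comp, ← sq.w]; exact hr
    exact Set.mem_biUnion hr'' (Set.mem_biUnion hr' ⟨rfl, rfl⟩)
end Groth.Agent.S10410
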