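import Groth.Statements.S10412
import Groth.Prelude.Def_AlgSpEt
import Groth.Agent.Lib.Helper16.QuasiCompactMor2
import Groth.Agent.Lib.Helper15.OpenSubspace
import Groth.Agent.Lib.Helper15.MonoInj
import Groth.Agent.Lib.Helper15.OpenLocusInst
import Groth.Agent.Lib.Helper16.Rep
open Groth.Agent.Lib.Helper16 Groth.Agent.Lib.Helper15

set_option autoImplicit false
universe u
open CategoryTheory CategoryTheory.Limits AlgebraicGeometry Topology TopologicalSpace
open AlgSp

namespace Groth.Agent.S10412

/-- For an algebraic space X over a scheme S the following are equivalent: (1) X has a Zariski covering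
by open subspaces X_i, each X_i admitting a surjective, etale and quasi-compact morphism U_i ⟶ X_i
with U_i a scheme; (2) there are etale morphisms U_i ⟶ X from schemes, jointly surjective, such that
for each i both projection morphisms from U_i ×_X U_i to U_i are quasi-compact. -/
theorem result {S : Scheme.{u}} (X : AlgSp.Space S) :
    (∃ (ι : Type u) (Xi : ι → AlgSp.Space S) (j : ∀ i, Xi i ⟶ X) (U : ι → Over S)
        (a : ∀ i, (AlgSp.yon S).obj (U i) ⟶ (Xi i).obj),
        AlgSp.IsZarCover (fun i => (Xi i).obj) (fun i => (j i).hom) ∧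
          ∀ i, AlgSp.RepWith @Etale (a i) ∧ AlgSp.RepWith @Surjective (a i) ∧ AlgSp.RepWith @QuasiCompact (a i)) ↔
      ∃ (ι : Type u) (U : ι → Over S) (φ : ∀ i, (AlgSp.yon S).obj (U i) ⟶ X.obj),
        (∀ i, AlgSp.RepWith @Etale (φ i)) ∧
          (∀ x : AlgSp.Points X.obj, ∃ (i : ι) (v : ↥(U i).left), AlgSp.Points.ofPt (φ i) v = x) ∧
          ∀ (i : ι) (R : Over S) (s t : R ⟶ U i), IsPullback ((AlgSp.yon S).map t) ((AlgSp.yon S).map s) (φ i) (φ i) →
            QuasiCompact s.left ∧ QuasiCompact t.left := by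
  constructor
  · rintro ⟨ι, Xi, j, U, a, ⟨hjo, hjs⟩, ha⟩
    refine ⟨ι, U, fun i => a i ≫ (j i).hom, fun i => ?_, fun x => ?_, fun i R s t sq => ?_⟩
    · exact isEtaleMor_of_isOpenImmersion (j i).hom (hjo i) (a i) (ha i).1
    · obtain ⟨i, x', rfl⟩ := hjs x
      have hrep : Representable (a i) := (ha i).1.1
      obtain ⟨u, hu⟩ := (repWith_surjective_iff (a i) hrep).1 (ha i).2.1 x'
      subst hu
      refine ⟨i, Points.toScheme (U i) u, ?_⟩
      rw [Points.ofPt_eq_map_ofScheme, Points.ofScheme_toScheme, Points.map_comp]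
    · have hm : Mono (j i).hom := mono_of_repWith_isOpenImmersion _ (hjo i)
      have sq' : IsPullback ((yon S).map t) ((yon S).map s) (a i) (a i) :=
        isPullback_of_comp_mono (j i).hom sq
      exact ⟨(ha i).2.2.property _ _ _ sq', (ha i).2.2.property _ _ _ sq'.flip⟩
  · rintro ⟨ι, U, φ, hφe, hφs, hφq⟩
    let W : ι → Set (Points X.obj) := fun i => Set.range (Points.ofPt (φ i))
    have hW : ∀ i, IsOpen (W i) := fun i => (isOpenMap_ofPt_of_etale (φ i) (hφe i)).isOpen_range
    have hfac : ∀ i, ∃ a' : (yon S).obj (U i) ⟶ openSub X.obj (W i), a' ≫ openSubι X.obj (W i) = φ i :=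
      fun i => (exists_factor_openSub_iff (W i) (φ i)).2 fun t => ⟨t, rfl⟩
    choose a ha using hfac
    have hXi : ∀ i, IsAlgSpace (openSub X.obj (W i)) := fun i => isAlgSpace_openSub X.property (W i) (hW i)
    refine ⟨ι, fun i => ⟨openSub X.obj (W i), hXi i⟩, fun i => ObjectProperty.homMk (openSubι X.obj (W i)), U, a,
      ⟨fun i => repWith_isOpenImmersion_openSubι (W i) (hW i), fun x => ?_⟩, fun i => ?_⟩
    · obtain ⟨i, v, rfl⟩ := hφs x
      refine ⟨i, ?_⟩
      change _ ∈ Set.range (Points.map (openSubι X.obj (W i)))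
      rw [range_map_openSubι]
      exact ⟨v, rfl⟩
    · have hae : RepWith @Etale (a i) := by
        apply repWith_of_comp_mono @Etale (a i) (openSubι X.obj (W i))
        rw [ha i]
        exact hφe i
      have has : Function.Surjective (Points.map (a i)) := by
        intro x'
        have hx : Points.map (openSubι X.obj (W i)) x' ∈ W i :=
          (range_map_openSubι (W i)).subset ⟨x', rfl⟩
        obtain ⟨v, hv⟩ := hx
        refine ⟨Points.ofScheme (U i) v, ?_⟩
        apply points_map_injective_of_mono (openSubι X.obj (W i))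
        rw [← hv, ← Points.ofPt_eq_map_ofScheme, Points.map_ofPt, ha i]
      refine ⟨hae, (repWith_surjective_iff (a i) hae.1).2 has, ?_⟩
      refine repWith_quasiCompact_of_isQuasiCompactMor (a i) hae.1 ?_
      obtain ⟨R, s, fst, sqR⟩ := (hφe i).rep (φ i)
      obtain ⟨t, rfl⟩ := (yon S).map_surjective fst
      have hq := (hφq i R s t sqR).1
      have sqR' : IsPullback ((yon S).map t) ((yon S).map s) (a i ≫ openSubι X.obj (W i))
          (a i ≫ openSubι X.obj (W i)) := by
        rw [ha i]; exact sqR
      have sq' : IsPullback ((yon S).map t) ((yon S).map s) (a i) (a i) :=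
        isPullback_of_comp_mono (openSubι X.obj (W i)) sqR'
      exact isQuasiCompactMor_of_etale_surjective_base (IsAlgSpace.yon_obj _) (hXi i).diag
        (IsAlgSpace.yon_obj _) (a i) (a i) _ _ sq' (isEtaleMor_of_repWith (a i) hae) has
        (isQuasiCompactMor_of_repWith_quasiCompact _ ((repWith_yon_map_iff _ _).2 hq))

end Groth.Agent.S10412
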