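import Groth.Statements.S10414
import Groth.Agent.Lib.Helper16.ResidualSp
import Groth.Agent.Lib.Helper16.Points
open Groth.Agent.Lib.Helper16

set_option autoImplicit false
universe u
open CategoryTheory CategoryTheory.Limits AlgebraicGeometry Topology TopologicalSpace
open AlgSp

namespace Groth.Agent.S10414

/-- Let S be a scheme, X an algebraic space over S, x ∈ |X|, and Z_x ⟶ X the residual space of x (a
monomorphism with image {x} from a space which admits a locally finitely presented, flat, surjective
morphism whose source is the spectrum of a field). Then Z_x is isomorphic to Spec k' for some field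
k' if and only if the point x is represented by some monomorphism Spec k ⟶ X. (The decent case, in
which the right side holds at every point, is not part of this row.) -/
theorem result {S : Scheme.{u}} (X : AlgSp.Space S) (x : AlgSp.Points X.obj)
    {Z : AlgSp.Space S} (i : Z ⟶ X) [Mono i.hom] (hi : Set.range (AlgSp.Points.map i.hom) = {x})
    (hZ : ∃ (k : Type u) (_ : Field k) (str : Spec (CommRingCat.of k) ⟶ S) (p : (AlgSp.yon S).obj (Over.mk str) ⟶ Z.obj),
        AlgSp.LocP @LocallyOfFinitePresentation p ∧ AlgSp.LocP @Flat p ∧ AlgSp.IsSurjectiveMor p) :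
    (∃ (k : Type u) (_ : Field k) (str : Spec (CommRingCat.of k) ⟶ S), Nonempty (Z.obj ≅ (AlgSp.yon S).obj (Over.mk str))) ↔
      ∃ p : AlgSp.FieldPt X.obj, AlgSp.Points.mk p = x ∧ Mono p.toHom := by
  obtain ⟨k₀, _, str₀, p₀, h1, h2, h3⟩ := hZ
  constructor
  · rintro ⟨k, _, str, ⟨e⟩⟩
    refine ⟨fieldPtOfHom k str (e.inv ≫ i.hom), ?_, ?_⟩
    · have h0 := AlgSp.Points.ofPt_toHom (fieldPtOfHom k str (e.inv ≫ i.hom)) (IsLocalRing.closedPoint k)
      rw [fieldPtOfHom_toHom] at h0
      have hx : AlgSp.Points.map i.hom (AlgSp.Points.ofPt e.inv (IsLocalRing.closedPoint k)) = x :=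
        hi.le ⟨_, rfl⟩
      exact h0.symm.trans hx
    · rw [fieldPtOfHom_toHom]
      exact mono_comp e.inv i.hom
  · rintro ⟨q, hq, hm⟩
    have sq := IsPullback.of_hasPullback i.hom q.toHom
    have hP : AlgSp.IsAlgSpace (pullback i.hom q.toHom) :=
      isAlgSpace_of_isPullback Z.property X.property.diag (AlgSp.IsAlgSpace.yon_obj _) sq
    have hmf : Mono (pullback.fst i.hom q.toHom) :=
      MorphismProperty.of_isPullback (P := MorphismProperty.monomorphisms _) sq.flip
        (MorphismProperty.monomorphisms.infer_property _)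
    have hms : Mono (pullback.snd i.hom q.toHom) :=
      MorphismProperty.of_isPullback (P := MorphismProperty.monomorphisms _) sq
        (MorphismProperty.monomorphisms.infer_property _)
    have hne : Nonempty (AlgSp.Points (pullback i.hom q.toHom)) := by
      obtain ⟨z, hz⟩ := hi.ge rfl
      obtain ⟨w, -, -⟩ := exists_point_of_isPullback sq z
        (AlgSp.Points.ofScheme q.pt (IsLocalRing.closedPoint q.K))
        (by rw [hz, ← AlgSp.Points.ofPt_eq_map_ofScheme, AlgSp.Points.ofPt_toHom, hq])
      exact ⟨w⟩
    have hif : IsIso (pullback.fst i.hom q.toHom) :=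
      (ResidualSp.isEmpty_or_isIso_of_mono hP Z.property _ k₀ str₀ p₀ h1 h2 h3).resolve_left
        (not_isEmpty_of_nonempty _)
    have his : IsIso (pullback.snd i.hom q.toHom) := ResidualSp.isIso_of_mono_to_field hP q.K q.str _
    exact ⟨q.K, q.field, q.str, ⟨(asIso (pullback.fst i.hom q.toHom)).symm ≪≫
      asIso (pullback.snd i.hom q.toHom)⟩⟩

end Groth.Agent.S10414
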