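import Groth.Statements.S10416
import Groth.Agent.Lib.Helper16.FactorMono
import Groth.Agent.Lib.Helper16.SchImg2
import Groth.Agent.Lib.Helper16.JacobsonDecent
import Groth.Agent.S10192
open Groth.Agent.Lib.Helper16

set_option autoImplicit false
universe u
open CategoryTheory CategoryTheory.Limits AlgebraicGeometry Topology TopologicalSpace
open AlgSp

namespace Groth.Agent.S10416

/-- Let S be a scheme, X a locally Noetherian algebraic space over S, x ∈ |X|, and i : Z_x ⟶ X the
residual space at x. Then x is closed in |X| if and only if i is a closed immersion. -/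
theorem result {S : Scheme.{u}} {X Z : AlgSp.Space S}
    (hX : AlgSp.IsLocNoethSp X.obj) (x : AlgSp.Points X.obj) (i : Z ⟶ X) [Mono i.hom]
    (hi : Set.range (AlgSp.Points.map i.hom) = {x}) (hZ : ∃ (k : Type u) (_ : Field k) (str : Spec (CommRingCat.of k) ⟶ S) (p : (AlgSp.yon S).obj (Over.mk str) ⟶ Z.obj),
        AlgSp.LocP @LocallyOfFinitePresentation p ∧ AlgSp.LocP @Flat p ∧ AlgSp.IsSurjectiveMor p) :
    IsClosed ({x} : Set (AlgSp.Points X.obj)) ↔ AlgSp.RepWith @IsClosedImmersion i.hom := by

  have hXa := X.property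
  have hxi : x ∈ Set.range (AlgSp.Points.map i.hom) := by rw [hi]; rfl
  constructor
  · intro hx
    obtain ⟨Z', j, hcl, hrange, hred⟩ := Groth.Agent.S10192.result X {x} hx
    have hjx : ∀ y : AlgSp.Points Z'.obj, AlgSp.Points.map j.hom y = x := fun y => by
      have : AlgSp.Points.map j.hom y ∈ Set.range (AlgSp.Points.map j.hom) := ⟨y, rfl⟩
      rw [hrange] at this
      exact this
    obtain ⟨φ, hφ⟩ := FactorMono.exists_factor_of_reduced_of_isLocNoethSp hXa Z.property j.hom x hjx hred hX
      i.hom hxi
    have hmj : Mono j.hom := SchImg.mono_of_repWith_isClosedImmersion j.hom hcl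
    have hmφ : Mono φ := by
      have : Mono (φ ≫ i.hom) := by rw [hφ]; exact hmj
      exact mono_of_mono φ i.hom
    obtain ⟨k, _, str, p, h1, h2, h3⟩ := hZ
    have hne : Nonempty (AlgSp.Points Z'.obj) := by
      have : x ∈ Set.range (AlgSp.Points.map j.hom) := by rw [hrange]; rfl
      obtain ⟨y, -⟩ := this
      exact ⟨y⟩
    have hiso : IsIso φ := by
      rcases ResidualSp.isEmpty_or_isIso_of_mono Z'.property Z.property φ k str p h1 h2 h3 with h | h
      · exact (h.false hne.some).elim
      · exact h
    have hi' : i.hom = inv φ ≫ j.hom := by rw [← hφ, IsIso.inv_hom_id_assoc]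
    rw [hi']
    exact ((AlgSp.RepWith @IsClosedImmersion).cancel_left_of_respectsIso (inv φ) j.hom).2 hcl
  · intro hcl
    obtain ⟨V, b, hbe, hbs⟩ := hXa.atlas
    obtain ⟨T, snd, fst, sq⟩ := hcl.rep b
    have hci : IsClosedImmersion snd.left := hcl.property _ _ _ sq
    have hrange : Set.range snd.left = AlgSp.Points.ofPt b ⁻¹' {x} := by
      ext v
      constructor
      · rintro ⟨t, rfl⟩
        show AlgSp.Points.ofPt b (snd.left t) = x
        rw [← ofPt_yon_map_comp, ← sq.w, ← AlgSp.Points.map_ofPt]
        have : AlgSp.Points.map i.hom (AlgSp.Points.ofPt fst t) ∈ Set.range (AlgSp.Points.map i.hom) := ⟨_, rfl⟩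
        rw [hi] at this
        exact this
      · intro hv
        obtain ⟨z, hz⟩ := hxi
        obtain ⟨t, -, ht⟩ := exists_point_of_isPullback_yon sq z v (hz.trans (Eq.symm hv))
        exact ⟨t, ht⟩
    rw [← (FtPt.isQuotientMap_ofPt b hbe hbs).isClosed_preimage, ← hrange]
    exact snd.left.isClosedEmbedding.isClosed_range

end Groth.Agent.S10416
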