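import Groth.Statements.S10417
import Groth.Agent.Lib.Helper16.FibrePt
import Groth.Agent.Lib.Helper16.QuasiCompactMor
open Groth.Agent.Lib.Helper16 Groth.Agent.Lib.Helper16.DimZero

set_option autoImplicit false
universe u
open CategoryTheory CategoryTheory.Limits AlgebraicGeometry Topology TopologicalSpace
open AlgSp

namespace Groth.Agent.S10417

/-- Let W = X ×_Y Z be a fibre product of algebraic spaces over a scheme S with projections p, q and let
x ∈ |X|, z ∈ |Z| lie over the same point of |Y|. If f : X ⟶ Y is of finite type and quasi-finite at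
x, then the set of points of |W| mapping to x and to z is finite. -/
theorem result {S : Scheme.{u}} {X Y Z W : AlgSp.Space S} (f : X ⟶ Y)
    (g : Z ⟶ Y) (p : W ⟶ X) (q : W ⟶ Z) (hW : IsPullback p.hom q.hom f.hom g.hom) (x : AlgSp.Points X.obj)
    (z : AlgSp.Points Z.obj) (hxz : AlgSp.Points.map f.hom x = AlgSp.Points.map g.hom z)
    (hft : AlgSp.IsFiniteTypeMor f.hom) (hf : AlgSp.HasAtMor (fun U _ h u => ∃ W : U.Opens, u ∈ W ∧ LocallyQuasiFinite (W.ι ≫ h) ∧ LocallyOfFiniteType (W.ι ≫ h)) f.hom x) :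
    {w : AlgSp.Points W.obj | AlgSp.Points.map p.hom w = x ∧ AlgSp.Points.map q.hom w = z}.Finite := by
  obtain ⟨ζ, rfl⟩ := AlgSp.Points.mk_surjective z
  have hX := X.property
  have hY := Y.property
  have hxq : x ∈ QfAt.qfLocus f.hom := (QfAt.mem_qfLocus_iff_hasAtMor_open f.hom hft.1 x).2 hf
  have hr : (ζ.map g.hom).toHom = ζ.toHom ≫ g.hom := AlgSp.FieldPt.toHom_map g.hom ζ
  have sq := IsPullback.of_hasPullback f.hom (ζ.map g.hom).toHom
  have hXk : AlgSp.IsAlgSpace (pullback f.hom (ζ.map g.hom).toHom) :=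
    isAlgSpace_of_isPullback hX hY.diag (AlgSp.IsAlgSpace.yon_obj _) sq
  have hch := FibrePt.chartsNJ_fibre hX hY f.hom hft.1 (ζ.map g.hom) _ _ sq
  have hcpt : CompactSpace ↥((ζ.map g.hom).pt).left := inferInstanceAs (CompactSpace ↥(Spec (.of ζ.K)))
  have hqc : AlgSp.IsQuasiCompactSp (pullback f.hom (ζ.map g.hom).toHom) :=
    hft.2 (AlgSp.IsAlgSpace.yon_obj _) (isQuasiCompactSp_yon_of_compactSpace (ζ.map g.hom).pt)
      (ζ.map g.hom).toHom _ _ sq
  have w : pullback.fst f.hom (ζ.map g.hom).toHom ≫ f.hom =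
      (pullback.snd f.hom (ζ.map g.hom).toHom ≫ ζ.toHom) ≫ g.hom := by
    rw [Category.assoc]
    exact sq.w.trans (congrArg (fun m => pullback.snd f.hom (ζ.map g.hom).toHom ≫ m) hr)
  have sqL : IsPullback (hW.lift _ _ w) (pullback.snd f.hom (ζ.map g.hom).toHom) q.hom ζ.toHom := by
    refine IsPullback.of_right ?_ (hW.lift_snd _ _ _) hW
    rw [hW.lift_fst]
    exact hr ▸ sq
  refine ((FibrePt.finite_isolated_of_quasiCompact hch hXk hqc).image
    (AlgSp.Points.map (hW.lift _ _ w))).subset ?_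
  rintro t ⟨ht1, ht2⟩
  obtain ⟨s, hs1, -⟩ := exists_point_of_isPullback sqL t
    (AlgSp.Points.ofScheme ζ.pt (IsLocalRing.closedPoint ζ.K))
    (by rw [ht2]; exact (FibreEmb.points_map_toHom_eq ζ _).symm)
  refine ⟨s, ?_, hs1⟩
  apply (FibrePt.isOpen_singleton_iff_mem_qfLocus hX hY f.hom hft.1 (ζ.map g.hom) _ _ sq hXk s).2
  have h1 : AlgSp.Points.map (pullback.fst f.hom (ζ.map g.hom).toHom) s =
      AlgSp.Points.map p.hom (AlgSp.Points.map (hW.lift _ _ w) s) := by
    rw [← AlgSp.Points.map_comp, hW.lift_fst]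
  rw [h1, hs1, ht1]
  exact hxq

end Groth.Agent.S10417
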