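import Groth.Statements.S10418
import Groth.Agent.Lib.Helper16.FiltCore3
import Groth.Agent.Lib.Helper16.DenseFin3
open Groth.Agent.Lib.Helper16 Opposite

set_option autoImplicit false
universe u
open CategoryTheory CategoryTheory.Limits AlgebraicGeometry Topology TopologicalSpace
open AlgSp

namespace Groth.Agent.S10418

/-- Let S be a scheme and X an algebraic space over S which is quasi-compact. There are open subspaces X
= U_1 ⊇ U_2 ⊇ U_3 ⊇ ⋯ such that (1) with T_p = U_p ∖ U_{p+1} (reduced induced subspace structure)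
there is a separated scheme V_p with a surjective etale f_p : V_p ⟶ U_p for which the map f_p⁻¹(T_p)
⟶ T_p is an isomorphism, and (2) every x ∈ |X| admitting a representative given by a quasi-compact
morphism from the spectrum of a field lies in T_p for some p. -/
theorem result {S : Scheme.{u}} (X : AlgSp.Space S)
    (hX : AlgSp.IsQuasiCompactSp X.obj) :
    ∃ (Uo : ℕ → AlgSp.Space S) (j : ∀ p, Uo p ⟶ X) (k : ∀ p, Uo (p + 1) ⟶ Uo p)
      (T : ℕ → AlgSp.Space S) (i : ∀ p, T p ⟶ Uo p),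
      (∀ p, AlgSp.RepWith @IsOpenImmersion (j p).hom) ∧ (∀ p, k p ≫ j p = j (p + 1)) ∧ IsIso (j 1) ∧
      (∀ p, AlgSp.IsRedInduced (Set.range (AlgSp.Points.map (k p).hom))ᶜ (i p).hom) ∧
      (∀ p, 1 ≤ p → ∃ (V : Over S) (f : (AlgSp.yon S).obj V ⟶ (Uo p).obj), V.left.IsSeparated ∧
        AlgSp.RepWith @Etale f ∧ AlgSp.RepWith @Surjective f ∧
        ∀ (P : AlgSp.Sp S) (fst : P ⟶ (T p).obj) (snd : P ⟶ (AlgSp.yon S).obj V),
          IsPullback fst snd (i p).hom f → IsIso fst) ∧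
      (∀ x : AlgSp.Points X.obj, (∃ q : AlgSp.FieldPt X.obj, AlgSp.Points.mk q = x ∧ AlgSp.RepWith @QuasiCompact q.toHom) →
        ∃ p, 1 ≤ p ∧ x ∈ Set.range (AlgSp.Points.map ((i p) ≫ (j p)).hom)) := by

  classical
  obtain ⟨U, a, hU, hae, has⟩ := DenseFin.exists_affine_chart_of_isQuasiCompactSp hX
  have : IsAffine U.left := hU
  have hrep := X.property.representable_from_yon a
  obtain ⟨R, sn, fstR, sqR⟩ := hrep a
  obtain ⟨c, rfl⟩ := (yon S).map_surjective fstR
  obtain ⟨Uo, j, k, T, i, h1, h2, h3, h4, h5, h6, h7⟩ := Filt.exists_filtration X a hae has sqR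
  refine ⟨Uo, j, k, T, i, h1, h2, h3, h4, fun p hp => ?_, ?_⟩
  · obtain ⟨V, f, hV, -, hfe, hfs, hiso⟩ := h5 p hp
    exact ⟨V, f, hV, hfe, hfs, hiso⟩
  · rintro x ⟨q, rfl, hq⟩
    obtain ⟨u, hu⟩ := ofPt_surjective_of_surjective a has (Points.mk q)
    obtain ⟨N, hN⟩ := Filt.exists_bound_hasDeg_of_quasiCompact sqR hae u q hu.symm hq
    have hd1 : Strata.HasDeg sn.left u 1 := by
      rw [← Filt.ofPt_mem_degGE_iff sqR u 1, Filt.degGE_one has sqR]
      exact Set.mem_univ _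
    have h1N : 1 ≤ N := hN 1 hd1
    obtain ⟨P, hPdef⟩ : ∃ P : ℕ → Prop, P = fun d => Strata.HasDeg sn.left u d := ⟨_, rfl⟩
    have hP : ∀ d, P d ↔ Strata.HasDeg sn.left u d := fun d => by rw [hPdef]
    have hPp : P (Nat.findGreatest P N) := Nat.findGreatest_spec (P := P) h1N ((hP 1).2 hd1)
    have hp1 : 1 ≤ Nat.findGreatest P N := Nat.le_findGreatest h1N ((hP 1).2 hd1)
    have hnP : ¬ P (Nat.findGreatest P N + 1) := fun h => by
      have := Nat.le_findGreatest (hN _ ((hP _).1 h)) h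
      omega
    refine ⟨Nat.findGreatest P N, hp1, ?_⟩
    rw [h7, ← hu]
    exact ⟨(Filt.ofPt_mem_degGE_iff sqR u _).2 ((hP _).1 hPp),
      fun h => hnP ((hP _).2 ((Filt.ofPt_mem_degGE_iff sqR u _).1 h))⟩

end Groth.Agent.S10418
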