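import Groth.Statements.S10424
import Groth.Agent.Lib.Helper16.UBFComp
import Groth.Agent.Lib.Helper16.UnivBdd
open Groth.Agent.Lib.Helper16 Groth.Agent.Lib.Helper16.UBF

set_option autoImplicit false
universe u
open CategoryTheory CategoryTheory.Limits AlgebraicGeometry Topology TopologicalSpace
open AlgSp

namespace Groth.Agent.S10424

/-- Let X be an algebraic space over a scheme S, V ⟶ U a morphism of schemes over S and U ⟶ X a
morphism. Suppose that the fibres of V ⟶ U and of U ⟶ X are universally bounded. Then V ⟶ X also has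
universally bounded fibres. -/
theorem result {S : Scheme.{u}} (X : AlgSp.Space S) {U V : Over S} (f : V ⟶ U)
    (g : (AlgSp.yon S).obj U ⟶ X.obj) (hf : W4dec.HasUnivBddFibres ((AlgSp.yon S).map f)) (hg : W4dec.HasUnivBddFibres g) :
    W4dec.HasUnivBddFibres ((AlgSp.yon S).map f ≫ g) := by
  obtain ⟨m, hm⟩ := hf
  obtain ⟨n, hn⟩ := hg
  refine ⟨n * (n * m) * n, ?_⟩
  intro q T c snd sq
  obtain ⟨σ, rfl⟩ := (yon S).map_surjective snd
  have hrep : Representable g := X.property.representable_from_yon g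
  obtain ⟨E, e₂, e₁, sqE⟩ := hrep q.toHom
  obtain ⟨ε₁, rfl⟩ := (yon S).map_surjective e₁
  obtain ⟨hE1, hE2⟩ := hn q E e₂ ((yon S).map ε₁) sqE.flip
  have hcomm : ((yon S).map σ ≫ (yon S).map f) ≫ g = (yon S).map c ≫ q.toHom := by
    rw [Category.assoc]; exact sq.w.symm
  obtain ⟨τ, hτ⟩ := (yon S).map_surjective (sqE.lift ((yon S).map σ ≫ (yon S).map f) ((yon S).map c) hcomm)
  have hτ1 : τ ≫ ε₁ = σ ≫ f := by
    apply (yon S).map_injective
    rw [Functor.map_comp, hτ, sqE.lift_fst, Functor.map_comp]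
  have hτ2 : τ ≫ e₂ = c := by
    apply (yon S).map_injective
    rw [Functor.map_comp, hτ, sqE.lift_snd]
  have sqτ : IsPullback ((yon S).map σ) ((yon S).map τ) ((yon S).map f) ((yon S).map ε₁) := by
    refine IsPullback.of_bot ?_ ?_ sqE
    · rw [← Functor.map_comp, hτ2]
      exact sq.flip
    · rw [← Functor.map_comp, ← Functor.map_comp, hτ1]
  have hEaff : IsAffine E.left :=
    isAffine_of_isAffineHom (Y := Spec (CommRingCat.of q.K)) e₂.left
  have hE : DegLE e₂.left n := ⟨hE1, hE2⟩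
  have key : DegLE (τ.left ≫ e₂.left) (n * (n * m) * n) := by
    refine DegLE.comp e₂.left τ.left n m hE ?_
    intro 𝔪 h𝔪
    let _ := Ideal.Quotient.field 𝔪
    let y := maxPt E.left 𝔪
    let ι𝔪 : Over.mk (y ≫ E.hom) ⟶ E := Over.homMk y rfl
    let T𝔪 : Over S := Over.mk (pullback.fst τ.left y ≫ T.hom)
    let p₁ : T𝔪 ⟶ T := Over.homMk (pullback.fst τ.left y) rfl
    let p₂ : T𝔪 ⟶ Over.mk (y ≫ E.hom) := Over.homMk (pullback.snd τ.left y) (by
      show pullback.snd τ.left y ≫ y ≫ E.hom = pullback.fst τ.left y ≫ T.hom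
      rw [← Category.assoc, ← pullback.condition, Category.assoc, Over.w τ])
    have sqO : IsPullback p₁ p₂ τ ι𝔪 :=
      IsPullback.of_map (Over.forget S) (Over.OverMorphism.ext pullback.condition)
        (IsPullback.of_hasPullback τ.left y)
    have sqY := (sqO.map (yon S)).paste_horiz sqτ
    exact degFibresLE_apply_hom hm (y ≫ E.hom) ((yon S).map ι𝔪 ≫ (yon S).map ε₁) T𝔪 p₂ _ sqY.flip
  rw [← hτ2]
  exact key

end Groth.Agent.S10424
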