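import Groth.Statements.S10425
import Groth.Agent.Lib.Helper16.Decent
open Groth.Agent.Lib.Helper16

set_option autoImplicit false
universe u
open CategoryTheory CategoryTheory.Limits AlgebraicGeometry Topology TopologicalSpace
open AlgSp

namespace Groth.Agent.S10425

/-- Let S be a scheme, X and Y algebraic spaces over S, Y ⟶ X a representable morphism, and U ⟶ X a
morphism from a scheme with universally bounded fibres. Then the base change U ×_X Y ⟶ Y (whose
source is a scheme) has universally bounded fibres. -/
theorem result {S : Scheme.{u}} {X Y : AlgSp.Space S} (p : Y ⟶ X) (hp : AlgSp.Representable p.hom)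
    {U V : Over S} (g : (AlgSp.yon S).obj U ⟶ X.obj) (hg : W4dec.HasUnivBddFibres g)
    (fst : (AlgSp.yon S).obj V ⟶ (AlgSp.yon S).obj U) (snd : (AlgSp.yon S).obj V ⟶ Y.obj)
    (h : IsPullback fst snd g p.hom) : W4dec.HasUnivBddFibres snd := by
  obtain ⟨n, hn⟩ := hg
  refine ⟨n, ?_⟩
  intro q T c snd' sq
  have hpaste : IsPullback (snd' ≫ fst) ((yon S).map c) g (q.toHom ≫ p.hom) := sq.flip.paste_horiz h
  have hq : (q.map p.hom).toHom = q.toHom ≫ p.hom := FieldPt.toHom_map p.hom q
  have hsq : IsPullback ((yon S).map c) (snd' ≫ fst) (q.map p.hom).toHom g := by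
    rw [hq]
    exact hpaste.flip
  exact hn (q.map p.hom) T c (snd' ≫ fst) hsq

end Groth.Agent.S10425
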