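import Groth.Statements.S10429
import Groth.Agent.Lib.Helper16.UBFEt
import Groth.Agent.S10424
open Groth.Agent.Lib.Helper16 Groth.Agent.Lib.Helper16.UBF TopologicalSpace

set_option autoImplicit false
universe u
open CategoryTheory CategoryTheory.Limits AlgebraicGeometry Topology TopologicalSpace
open AlgSp

namespace Groth.Agent.S10429

/-- For an algebraic space X over a scheme S, if there are etale morphisms U_i ⟶ X from schemes with ∐
U_i ⟶ X surjective and each U_i ⟶ X with universally bounded fibres, then every etale morphism U ⟶ X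
from an affine scheme has universally bounded fibres (the converse implication is immediate). -/
theorem result {S : Scheme.{u}} (X : AlgSp.Space S) {ι : Type u} (U : ι → Over S)
    (φ : ∀ i, (AlgSp.yon S).obj (U i) ⟶ X.obj) (hφ : ∀ i, AlgSp.RepWith @Etale (φ i))
    (hsurj : ∀ x : AlgSp.Points X.obj, ∃ (i : ι) (v : ↥(U i).left), AlgSp.Points.ofPt (φ i) v = x)
    (hb : ∀ i, W4dec.HasUnivBddFibres (φ i)) {V : Over S} [IsAffine V.left] (ψ : (AlgSp.yon S).obj V ⟶ X.obj)
    (hψ : AlgSp.RepWith @Etale ψ) : W4dec.HasUnivBddFibres ψ := by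
  have hpt : ∀ v : ↥V.left, ∃ O : V.left.Opens, v ∈ O ∧
      W4dec.HasUnivBddFibres ((yon S).map (overOpenι V O) ≫ ψ) := by
    intro v
    obtain ⟨i, u, hu⟩ := hsurj (Points.ofPt ψ v)
    obtain ⟨P, p₂, p₁, sqP⟩ := (hφ i).rep ψ
    obtain ⟨π₁, rfl⟩ := (yon S).map_surjective p₁
    have hp₂ : Etale p₂.left := (hφ i).property ψ ((yon S).map π₁) p₂ sqP
    have hπ₁ : Etale π₁.left := hψ.property (φ i) ((yon S).map p₂) π₁ sqP.flip
    obtain ⟨z, hz1, hz2⟩ := exists_point_of_isPullback_yon_yon sqP u v hu
    have key : ∀ Wz : P.left.Opens, IsAffineOpen Wz → z ∈ Wz → ∃ O : V.left.Opens, v ∈ O ∧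
        W4dec.HasUnivBddFibres ((yon S).map (overOpenι V O) ≫ ψ) := by
      intro Wz hWz hzW
      have hWaff : IsAffine (overOpen P Wz).left := hWz
      let h : overOpen P Wz ⟶ V := overOpenι P Wz ≫ p₂
      have hhe : Etale h.left := by
        show Etale (Wz.ι ≫ p₂.left)
        infer_instance
      let O : V.left.Opens := ⟨Set.range h.left, h.left.isOpenMap.isOpen_range⟩
      let l : Wz.toScheme ⟶ O.toScheme := IsOpenImmersion.lift O.ι h.left (by
        rw [Scheme.Opens.range_ι]; rfl)
      have hl : l ≫ O.ι = h.left := IsOpenImmersion.lift_fac _ _ _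
      let l' : overOpen P Wz ⟶ overOpen V O := Over.homMk l (by
        show l ≫ O.ι ≫ V.hom = Wz.ι ≫ P.hom
        rw [← Category.assoc, hl]
        exact Over.w h)
      have hl' : l' ≫ overOpenι V O = h := Over.OverMorphism.ext hl
      have hsurjl : Surjective l'.left := by
        refine ⟨fun o => ?_⟩
        obtain ⟨w, hw⟩ := o.2
        refine ⟨w, Subtype.ext ?_⟩
        have : O.ι (l w) = h.left w := by rw [← Scheme.Hom.comp_apply, hl]
        exact this.trans hw
      have hle : Etale (l ≫ O.ι) := by rw [hl]; exact hhe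
      have hle' : Etale l := Etale.of_comp l O.ι
      have hflatl : Flat l'.left := by
        show Flat l
        infer_instance
      refine ⟨O, ⟨⟨z, hzW⟩, hz2⟩, ?_⟩
      apply hasUnivBddFibres_of_flat_surjective X l' ((yon S).map (overOpenι V O) ≫ ψ)
      rw [← Category.assoc, ← Functor.map_comp, hl']
      have e1 : (yon S).map h ≫ ψ = (yon S).map (overOpenι P Wz ≫ π₁) ≫ φ i := by
        rw [Functor.map_comp, Functor.map_comp, Category.assoc, Category.assoc, sqP.w]
      rw [e1]
      have hcomp : CompactSpace ↥(overOpen P Wz).left := inferInstance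
      have het : Etale (overOpenι P Wz ≫ π₁).left := by
        show Etale (Wz.ι ≫ π₁.left)
        infer_instance
      exact Groth.Agent.S10424.result X (overOpenι P Wz ≫ π₁) (φ i)
        (hasUnivBddFibres_yon_map_of_etale _) (hb i)
    obtain ⟨_, ⟨Wz, hWz, rfl⟩, hzW, -⟩ := P.left.isBasis_affineOpens.exists_subset_of_mem_open
      (Set.mem_univ z) isOpen_univ
    exact key Wz hWz hzW
  choose O hvO hO using hpt
  obtain ⟨t, ht⟩ := isCompact_univ.elim_finite_subcover (fun v => (O v : Set ↥V.left))
    (fun v => (O v).isOpen) (fun v _ => Set.mem_iUnion.2 ⟨v, hvO v⟩)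
  refine hasUnivBddFibres_of_openCover ψ (fun v : ↥t => O v.1) ?_ (fun v => hO v.1)
  rw [eq_top_iff]
  intro x _
  have := ht (Set.mem_univ x)
  simp only [Set.mem_iUnion] at this
  obtain ⟨u, hu, hx⟩ := this
  simp only [Opens.mem_iSup]
  exact ⟨⟨u, hu⟩, hx⟩

end Groth.Agent.S10429
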