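import Groth.Statements.S10431
import Groth.Agent.S10429
import Groth.Agent.S10425
import Groth.Agent.Lib.Helper16.Rep
import Groth.Agent.Lib.Helper16.QuasiCompact
open Groth.Agent.Lib.Helper16 TopologicalSpace

set_option autoImplicit false
universe u
open CategoryTheory CategoryTheory.Limits AlgebraicGeometry Topology TopologicalSpace
open AlgSp

namespace Groth.Agent.S10431

/-- Let S be a scheme, X and Y algebraic spaces over S, and X ⟶ Y a representable morphism. If every
etale morphism from an affine scheme to Y has universally bounded fibres, then so does every etale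
morphism from an affine scheme to X. -/
theorem result {S : Scheme.{u}} {X Y : AlgSp.Space S} (f : X ⟶ Y)
    (hf : AlgSp.Representable f.hom)
    (hY : ∀ (V : Over S) (ψ : (AlgSp.yon S).obj V ⟶ Y.obj), IsAffine V.left → AlgSp.RepWith @Etale ψ → W4dec.HasUnivBddFibres ψ)
    (U : Over S) (φ : (AlgSp.yon S).obj U ⟶ X.obj) (hU : IsAffine U.left) (hφ : AlgSp.RepWith @Etale φ) :
    W4dec.HasUnivBddFibres φ := by
  obtain ⟨V, b, hbe, hbs⟩ := Y.property.atlas
  have hbsurj := (repWith_surjective_iff b hbe.1).1 hbs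
  let ι : Type u := V.left.affineOpens
  let bO : ∀ O : ι, (yon S).obj (overOpen V O.1) ⟶ Y.obj := fun O => (yon S).map (overOpenι V O.1) ≫ b
  have hbOe : ∀ O : ι, RepWith @Etale (bO O) := fun O => repWith_etale_restrict b hbe O.1
  have hbOb : ∀ O : ι, W4dec.HasUnivBddFibres (bO O) := fun O =>
    hY (overOpen V O.1) (bO O) O.2 (hbOe O)
  have hQ : ∀ O : ι, ∃ (Q : Over S) (q₂ : Q ⟶ overOpen V O.1) (q₁ : (yon S).obj Q ⟶ X.obj),
      IsPullback q₁ ((yon S).map q₂) f.hom (bO O) := fun O => hf (bO O)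
  choose Q q₂ q₁ sqQ using hQ
  haveI : IsAffine U.left := hU
  refine Groth.Agent.S10429.result X Q q₁ (fun O => ?_) (fun x => ?_) (fun O => ?_) φ hφ
  · exact (RepWith (S := S) @Etale).of_isPullback (sqQ O).flip (hbOe O)
  · obtain ⟨v', hv'⟩ := hbsurj (Points.map f.hom x)
    obtain ⟨_, ⟨O, hO, rfl⟩, hvO, -⟩ := V.left.isBasis_affineOpens.exists_subset_of_mem_open
      (Set.mem_univ (Points.toScheme V v')) isOpen_univ
    have h1 : Points.map f.hom x = Points.ofPt (bO ⟨O, hO⟩) (⟨_, hvO⟩ : ↥O) := by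
      rw [ofPt_restrict, ← hv', Points.ofPt_eq_map_ofScheme]
      congr 1
      exact (Points.ofScheme_toScheme V v').symm
    obtain ⟨z, hz, -⟩ := exists_point_of_isPullback_yon (sqQ ⟨O, hO⟩) x _ h1
    exact ⟨⟨O, hO⟩, z, hz⟩
  · exact Groth.Agent.S10425.result f hf (bO O) (hbOb O) ((yon S).map (q₂ O)) (q₁ O) (sqQ O).flip

end Groth.Agent.S10431
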