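import Groth.Statements.S10432
import Groth.Agent.Lib.Helper16.UBFCover
import Groth.Agent.Lib.Helper16.QuasiCompact
open Groth.Agent.Lib.Helper16 Groth.Agent.Lib.Helper15 Groth.Agent.Lib.Helper16.UBF TopologicalSpace

set_option autoImplicit false
universe u
open CategoryTheory CategoryTheory.Limits AlgebraicGeometry Topology TopologicalSpace
open AlgSp

namespace Groth.Agent.S10432

/-- Let X be an algebraic space over a scheme S with a Zariski covering by open subspaces X_i ⟶ X such
that every etale morphism from an affine scheme to X_i has universally bounded fibres. Then every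
etale morphism from an affine scheme to X has universally bounded fibres. -/
theorem result {S : Scheme.{u}} (X : AlgSp.Space S) {ι : Type u}
    (Xi : ι → AlgSp.Space S) (j : ∀ i, Xi i ⟶ X) (hj : AlgSp.IsZarCover (fun i => (Xi i).obj) (fun i => (j i).hom))
    (h : ∀ (i : ι) (V : Over S) (ψ : (AlgSp.yon S).obj V ⟶ (Xi i).obj), IsAffine V.left → AlgSp.RepWith @Etale ψ → W4dec.HasUnivBddFibres ψ)
    (U : Over S) (φ : (AlgSp.yon S).obj U ⟶ X.obj) (hU : IsAffine U.left) (hφ : AlgSp.RepWith @Etale φ) :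
    W4dec.HasUnivBddFibres φ := by
  obtain ⟨hjo, hjs⟩ := hj
  have : IsAffine U.left := hU
  have hpt : ∀ u : ↥U.left, ∃ (i : ι) (W : U.left.Opens), IsAffineOpen W ∧ u ∈ W ∧
      ∃ ψ : (yon S).obj (overOpen U W) ⟶ (Xi i).obj,
        ψ ≫ (j i).hom = (yon S).map (overOpenι U W) ≫ φ := by
    intro u
    obtain ⟨i, x', hx'⟩ := hjs (Points.ofPt φ u)
    obtain ⟨P, p₂, p₁, sqP⟩ := (hjo i).rep φ
    have hp₂ : IsOpenImmersion p₂.left := (hjo i).property φ p₁ p₂ sqP
    obtain ⟨v, hv1, hv2⟩ := exists_point_of_isPullback_yon sqP x' u hx'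
    have hlift : ∀ W : U.left.Opens, (W : Set ↥U.left) ⊆ Set.range p₂.left →
        ∃ w : overOpen U W ⟶ P, w ≫ p₂ = overOpenι U W := by
      intro W hWsub
      let l : W.toScheme ⟶ P.left := IsOpenImmersion.lift p₂.left W.ι (by
        rw [Scheme.Opens.range_ι]; exact hWsub)
      have hl : l ≫ p₂.left = W.ι := IsOpenImmersion.lift_fac _ _ _
      refine ⟨Over.homMk l ?_, Over.OverMorphism.ext hl⟩
      show l ≫ P.hom = W.ι ≫ U.hom
      rw [← Over.w p₂, ← Category.assoc, hl]
    obtain ⟨_, ⟨W, hW, rfl⟩, huW, hWsub⟩ := U.left.isBasis_affineOpens.exists_subset_of_mem_open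
      (⟨v, hv2⟩ : u ∈ Set.range p₂.left) p₂.left.isOpenEmbedding.isOpen_range
    obtain ⟨w, hw⟩ := hlift W hWsub
    refine ⟨i, W, hW, huW, (yon S).map w ≫ p₁, ?_⟩
    rw [Category.assoc, sqP.w, ← Category.assoc, ← Functor.map_comp, hw]
  choose i W hWaff huW ψ hψ using hpt
  obtain ⟨t, ht⟩ := isCompact_univ.elim_finite_subcover (fun u => (W u : Set ↥U.left))
    (fun u => (W u).isOpen) (fun u _ => Set.mem_iUnion.2 ⟨u, huW u⟩)
  refine hasUnivBddFibres_of_openCover φ (fun u : ↥t => W u.1) ?_ ?_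
  · rw [eq_top_iff]
    intro x _
    have := ht (Set.mem_univ x)
    simp only [Set.mem_iUnion] at this
    obtain ⟨u, hu, hx⟩ := this
    simp only [Opens.mem_iSup]
    exact ⟨⟨u, hu⟩, hx⟩
  · intro u
    rw [← hψ u.1]
    have : Mono (j (i u.1)).hom := mono_of_repWith_isOpenImmersion _ (hjo _)
    apply hasUnivBddFibres_comp_mono
    apply h (i u.1) (overOpen U (W u.1)) (ψ u.1) (hWaff u.1)
    apply repWith_of_comp_mono @Etale (ψ u.1) (j (i u.1)).hom
    rw [hψ u.1]
    exact repWith_etale_restrict φ hφ (W u.1)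

end Groth.Agent.S10432
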