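import Groth.Statements.S10435
import Groth.Agent.Lib.Helper16.Birat1
import Groth.Agent.S9678
open Groth.Agent.Lib.Helper16

set_option autoImplicit false
universe u
open CategoryTheory CategoryTheory.Limits AlgebraicGeometry Topology TopologicalSpace
open AlgSp

namespace Groth.Agent.S10435

/-- Take decent algebraic spaces X and Y over a scheme S, each with only finitely many irreducible
components in its space of points, and a birational f : X ⟶ Y. Suppose f is locally of finite type
with Y reduced, or else locally of finite presentation. Then X and Y contain dense open subspaces U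
and V, which may be taken to be schemes, such that f carries U into V and induces an isomorphism U ⟶
V. -/
theorem result {S : Scheme.{u}} {X Y : AlgSp.Space S} (f : X ⟶ Y)
    (hX : AlgSp.IsDecent X.obj) (hY : AlgSp.IsDecent Y.obj)
    (hXf : (irreducibleComponents (AlgSp.Points X.obj)).Finite)
    (hYf : (irreducibleComponents (AlgSp.Points Y.obj)).Finite)
    (hf : W4stk3decentspacesp2.IsBirational f.hom)
    (h : (AlgSp.LocP @LocallyOfFiniteType f.hom ∧ AlgSp.EtaleLocally (fun T => IsReduced T) Y.obj) ∨
      AlgSp.LocP @LocallyOfFinitePresentation f.hom) :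
    ∃ (U V : Over S) (a : (AlgSp.yon S).obj U ⟶ X.obj) (b : (AlgSp.yon S).obj V ⟶ Y.obj) (g : U ⟶ V),
      AlgSp.RepWith @IsOpenImmersion a ∧ AlgSp.RepWith @IsOpenImmersion b ∧
        Dense (Set.range (AlgSp.Points.ofPt a)) ∧ Dense (Set.range (AlgSp.Points.ofPt b)) ∧
          a ≫ f.hom = (AlgSp.yon S).map g ≫ b ∧ IsIso g.left := by
  have hQX : QuasiSober (Points X.obj) := Strata.quasiSober_points_of_isDecent X.property hX
  have hQY : QuasiSober (Points Y.obj) := Strata.quasiSober_points_of_isDecent Y.property hY
  obtain ⟨U, V, a, b, g, ha, hb, hc, hgX, hgY⟩ := Birat.exists_scheme_model f hf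
  obtain ⟨hUf, hVf, hbij, hiso⟩ := Birat.model_props f hX hY hXf hYf hf a b g ha hb hc hgX
  have hae : RepWith @Etale a := repWith_mono SchLocus.isOpenImmersion_le_etale a ha
  have hbe : RepWith @Etale b := repWith_mono SchLocus.isOpenImmersion_le_etale b hb
  have hP : (LocallyOfFiniteType g.left ∧ IsReduced V.left) ∨ LocallyOfFinitePresentation g.left := by
    rcases h with ⟨h1, h2⟩ | h1
    · exact Or.inl ⟨h1 a b g hae hbe hc, SchImg.isReduced_of_etale_of_isReducedSp h2 b hbe⟩
    · exact Or.inr (h1 a b g hae hbe hc)
  obtain ⟨U', V', hUV, hdU, hdV, hisoR⟩ := Groth.Agent.S9678.result g.left hUf hVf hbij hiso hP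
  exact Birat.exists_of_dense_opens f a b g ha hb hc hgX hgY U' V' hUV hdU hdV hisoR

end Groth.Agent.S10435
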