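import Groth.Statements.S10436
import Groth.Agent.Lib.Helper16.Birat2
import Groth.Agent.S10435
import Groth.Agent.S10400
open Groth.Agent.Lib.Helper16

set_option autoImplicit false
universe u
open CategoryTheory CategoryTheory.Limits AlgebraicGeometry Topology TopologicalSpace
open AlgSp

namespace Groth.Agent.S10436

/-- Take decent algebraic spaces X and Y over a scheme S, each with only finitely many irreducible
components in its space of points, and a birational f : X ⟶ Y. Suppose f is quasi-compact or
separated, and in addition that f is locally of finite type with Y reduced, or locally of finite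
presentation. Then Y contains a dense open subspace V, which may be taken to be a scheme, such that
f⁻¹(V) ⟶ V is an isomorphism. -/
theorem result {S : Scheme.{u}} {X Y : AlgSp.Space S} (f : X ⟶ Y)
    (hX : AlgSp.IsDecent X.obj) (hY : AlgSp.IsDecent Y.obj)
    (hXf : (irreducibleComponents (AlgSp.Points X.obj)).Finite)
    (hYf : (irreducibleComponents (AlgSp.Points Y.obj)).Finite)
    (hf : W4stk3decentspacesp2.IsBirational f.hom) (h₁ : AlgSp.IsQuasiCompactMor f.hom ∨ AlgSp.IsSeparatedMor f.hom)
    (h₂ : (AlgSp.LocP @LocallyOfFiniteType f.hom ∧ AlgSp.EtaleLocally (fun T => IsReduced T) Y.obj) ∨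
      AlgSp.LocP @LocallyOfFinitePresentation f.hom) :
    ∃ (V : Over S) (b : (AlgSp.yon S).obj V ⟶ Y.obj), AlgSp.RepWith @IsOpenImmersion b ∧
      Dense (Set.range (AlgSp.Points.ofPt b)) ∧
        ∀ ⦃P : AlgSp.Sp S⦄ (fst : P ⟶ X.obj) (snd : P ⟶ (AlgSp.yon S).obj V),
          IsPullback fst snd f.hom b → IsIso snd := by
  have hlft : LocP @LocallyOfFiniteType f.hom := by
    rcases h₂ with ⟨h, -⟩ | h
    · exact h
    · intro U V a b g ha hb hc
      have : LocallyOfFinitePresentation g.left := h a b g ha hb hc
      infer_instance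
  obtain ⟨U, V, a, b, g, ha, hb, hdA, hdB, hc, hg⟩ :=
    Groth.Agent.S10435.result f hX hY hXf hYf hf h₂
  have hT0X : T0Space (Points X.obj) := Groth.Agent.S10338.result X hX
  have hT0Y : T0Space (Points Y.obj) := Groth.Agent.S10338.result Y hY
  have hF := Birat.mem_genericPoints_of_map_mem f hX hY hf hlft
  have hX0 : {x : AlgSp.Points X.obj | AlgSp.HasAt
      (fun U u => ringKrullDim ↥(U.presheaf.stalk u) = 0) X.obj x}.Finite := by
    refine (genericPoints.finite hXf).subset ?_
    intro x hx
    exact (Birat.hasAt_dim_zero_iff_mem_genericPoints X hX x).1 hx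
  have hY0 : {y : AlgSp.Points Y.obj | AlgSp.HasAt
      (fun U u => ringKrullDim ↥(U.presheaf.stalk u) = 0) Y.obj y}.Finite := by
    refine (genericPoints.finite hYf).subset ?_
    intro y hy
    exact (Birat.hasAt_dim_zero_iff_mem_genericPoints Y hY y).1 hy
  have hpre : ∀ x : AlgSp.Points X.obj,
      AlgSp.HasAt (fun U u => ringKrullDim ↥(U.presheaf.stalk u) = 0) X.obj x ↔
        AlgSp.HasAt (fun U u => ringKrullDim ↥(U.presheaf.stalk u) = 0) Y.obj
          (AlgSp.Points.map f.hom x) := by
    intro x
    rw [Birat.hasAt_dim_zero_iff_mem_genericPoints X hX, Birat.hasAt_dim_zero_iff_mem_genericPoints Y hY]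
    exact ⟨fun h => hf.bijOn.mapsTo h, hF x⟩
  obtain ⟨Vf, X', j, fst, snd, hj, hdj, sq, hfin⟩ :=
    Groth.Agent.S10400.result f hlft hY hX0 hY0 hpre h₁
  exact Birat.exists_dense_open_isIso_pullback f hY hXf hYf hF a b g ha hb hdA hdB hc hg j fst snd
    hj hdj sq hfin

end Groth.Agent.S10436
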