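import Groth.Statements.S10438
import Groth.Agent.Lib.Helper16.Birat5

open Groth.Agent.Lib.Helper15 Groth.Agent.Lib.Helper16 Groth.Agent.Lib.Helper16.Birat Groth.Agent.Lib.Helper16.SchLocus

set_option autoImplicit false
universe u
open CategoryTheory CategoryTheory.Limits AlgebraicGeometry Topology TopologicalSpace
open AlgSp

namespace Groth.Agent.S10438

/-- Take decent algebraic spaces X and Y over a scheme S, each with only finitely many irreducible
components in its space of points, and f : X ⟶ Y integral as well as birational. If Y is normal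
while X is reduced, f is an isomorphism. -/
theorem result {S : Scheme.{u}} {X Y : AlgSp.Space S} (f : X ⟶ Y)
    (hX : AlgSp.IsDecent X.obj) (hY : AlgSp.IsDecent Y.obj)
    (hXf : (irreducibleComponents (AlgSp.Points X.obj)).Finite)
    (hYf : (irreducibleComponents (AlgSp.Points Y.obj)).Finite)
    (hi : AlgSp.IsIntegralMor f.hom) (hf : W4stk3decentspacesp2.IsBirational f.hom)
    (hYn : AlgSp.EtaleLocally (fun T => ∀ t : ↥T, IsDomain ↥(T.presheaf.stalk t) ∧
      IsIntegrallyClosed ↥(T.presheaf.stalk t)) Y.obj)
    (hXr : AlgSp.EtaleLocally (fun T => IsReduced T) X.obj) : IsIso f.hom := by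
  classical
  obtain ⟨T, q, hqe, hqs, hTn0⟩ := hYn
  have hTn : ∀ t : ↥T.left, IsDomain ↥(T.left.presheaf.stalk t) ∧
      IsIntegrallyClosed ↥(T.left.presheaf.stalk t) := hTn0
  have key : ∀ t : ↥T.left, ∃ O : T.left.Opens, IsAffineOpen O ∧ t ∈ O ∧ ∃ ξ ∈ O, ∀ o ∈ O, ξ ⤳ o := by
    intro t
    obtain ⟨_, ⟨A, hA, rfl⟩, htA, -⟩ := T.left.isBasis_affineOpens.exists_subset_of_mem_open
      (Set.mem_univ t) isOpen_univ
    have hAaff : IsAffine (overOpen T A).left := hA
    have hfin : (irreducibleComponents ↥(overOpen T A).left).Finite :=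
      finite_irreducibleComponents_of_etale_chart Y hY hYf _ (repWith_etale_restrict q hqe A)
    have hdom : IsDomain (T.left.presheaf.stalk t) := (hTn t).1
    obtain ⟨O, hO, htO, -, ξ, hξ, hsp⟩ := exists_irreducible_affine_nhd A hfin t htA
    exact ⟨O, hO, htO, ξ, hξ, hsp⟩
  choose O hOaff htO ξ hξO hξsp using key
  have hbe : ∀ t, RepWith @Etale ((AlgSp.yon S).map (overOpenι T (O t)) ≫ q) :=
    fun t => repWith_etale_restrict q hqe (O t)
  have hVaff : ∀ t, IsAffine (overOpen T (O t)).left := fun t => hOaff t
  choose W i fstW sqW hWaff hint using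
    fun t => hi (hVaff t) ((AlgSp.yon S).map (overOpenι T (O t)) ≫ q)
  have hiso : ∀ t, IsIso ((AlgSp.yon S).map (i t)) := by
    intro t
    have := hVaff t
    have hbir := (Groth.Agent.S10437.result f hX hY hXf hYf hf _ (hbe t) (fstW t)
      ((AlgSp.yon S).map (i t)) (sqW t)).2.2.2
    obtain ⟨hbij, hst⟩ := scheme_facts_of_isBirational_yon_map (i t) hbir
    have hnorm : ∀ v : ↥(overOpen T (O t)).left,
        IsDomain ↥((overOpen T (O t)).left.presheaf.stalk v) ∧
          IsIntegrallyClosed ↥((overOpen T (O t)).left.presheaf.stalk v) :=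
      fun v => normal_stalk_of_isOpenImmersion (O t).ι hTn v
    have hredV : IsReduced (overOpen T (O t)).left := by
      have : ∀ v : ↥(overOpen T (O t)).left,
          _root_.IsReduced ↥((overOpen T (O t)).left.presheaf.stalk v) := fun v => by
        have := (hnorm v).1
        infer_instance
      exact isReduced_of_isReduced_stalk _
    have hirrV : IrreducibleSpace ↥(overOpen T (O t)).left := by
      refine irreducibleSpace_of_forall_specializes (⟨ξ t, hξO t⟩ : ↥(O t)) ?_
      intro o
      exact (IsInducing.subtypeVal.specializes_iff).1 (hξsp t o.1 o.2)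
    have hintV : IsIntegral (overOpen T (O t)).left := isIntegral_of_irreducibleSpace_of_isReduced _
    have hredW : IsReduced (W t).left := isReduced_of_etale_chart X hXr (fstW t)
      ((RepWith @Etale).of_isPullback (sqW t).flip (hbe t))
    have := hint t
    have hI : IsIso (i t).left :=
      isIso_of_isIntegralHom_of_bijOn (i t).left (fun y => (hnorm y).2) hbij hst
    have hI' : IsIso (i t) := by
      have : IsIso ((Over.forget S).map (i t)) := hI
      exact isIso_of_reflects_iso (i t) (Over.forget S)
    infer_instance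
  have href := fpqcRefines_comp (fun _ : PUnit.{u+1} => (AlgSp.yon S).obj T) (fun _ => q) (fun _ => ↥T.left)
    (fun _ t => (AlgSp.yon S).obj (overOpen T (O t))) (fun _ t => (AlgSp.yon S).map (overOpenι T (O t)))
    (fpqcRefines_chart Y.property q hqe hqs)
    (fun _ => fpqcRefines_of_open_cover T O (fun x => ⟨x, htO x⟩))
  exact isIso_of_fpqcRefines Y.property _ (fun r => IsAlgSpace.yon_obj _) _ href X.property f.hom
    (fun r => (AlgSp.yon S).obj (W r.2)) (fun r => IsAlgSpace.yon_obj _) (fun r => (AlgSp.yon S).map (i r.2))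
    (fun r => fstW r.2) (fun r => sqW r.2) (fun r => hiso r.2)

end Groth.Agent.S10438
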