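import Groth.Statements.S10444
import Groth.Agent.Lib.Helper16.FibrePt
import Groth.Agent.S10338
open Groth.Agent.Lib.Helper16 Groth.Agent.Lib.Helper16.DimZero

set_option autoImplicit false
universe u
open CategoryTheory CategoryTheory.Limits AlgebraicGeometry Topology TopologicalSpace
open AlgSp

namespace Groth.Agent.S10444

/-- Take f : X ⟶ Y locally of finite type between algebraic spaces over a scheme S, a field-valued point
Spec k ⟶ Y whose class y ∈ |Y| lies in the image of |f|, the fibre product X_k = Spec k ×_Y X, and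
the fibre F = |f|⁻¹(y) ⊆ |X| with the induced topology. Numbering the conditions (1) F finite, (2) F
discrete, (3) dim F = 0, (4) |X_k| finite, (5) |X_k| discrete, (6) dim |X_k| = 0, (7) dim X_k = 0,
(8) f quasi-finite at all points over y: (5) ⇔ (7) ⇔ (8); (5) ⇒ (6), with the converse when X_k is
decent; (4) ⇒ (5) when X_k is decent; (4) ⇒ (1); (2) ⇒ (3); if Y is decent then (2) ⇔ (5); if X and
Y are decent then (3) ⇒ (2) and (1) ⇒ (2). (The published statement asserts (5) ⇔ (6) for every f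
and (2) ⇔ (3) whenever Y is decent, and does not exclude an empty fibre; for the quotient of the
affine line over a field of characteristic zero by an infinite cyclic group of translations, mapping
to the point, the space of points is infinite and indiscrete, so (3) and (6) hold while (2) and (5)
fail, and for y outside the image (5) holds while (6) and (7) fail; hence the decency hypotheses on
those two converses and the hypothesis that y is in the image. Finiteness of |X_k| for an arbitrary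
field k in the class of y is not derived here from (1).) -/
theorem result {S : Scheme.{u}} {X Y : AlgSp.Space S} (f : X ⟶ Y)
    (hf : AlgSp.LocP @LocallyOfFiniteType f.hom) (r : AlgSp.FieldPt Y.obj)
    (hy : AlgSp.Points.mk r ∈ Set.range (AlgSp.Points.map f.hom)) (Xk : AlgSp.Space S) (fst : Xk ⟶ X)
    (snd : Xk.obj ⟶ (AlgSp.yon S).obj r.pt) (hsq : IsPullback fst.hom snd f.hom r.toHom) :
    (DiscreteTopology (AlgSp.Points Xk.obj) ↔ AlgSp.dim Xk.obj = 0) ∧
    (AlgSp.dim Xk.obj = 0 ↔
      ∀ x : AlgSp.Points X.obj, AlgSp.Points.map f.hom x = AlgSp.Points.mk r → AlgSp.HasAtMor (fun U _ h u => ∃ W : U.Opens, u ∈ W ∧ LocallyQuasiFinite (W.ι ≫ h) ∧ LocallyOfFiniteType (W.ι ≫ h)) f.hom x) ∧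
    (DiscreteTopology (AlgSp.Points Xk.obj) → topologicalKrullDim (AlgSp.Points Xk.obj) = 0) ∧
    (AlgSp.IsDecent Xk.obj → topologicalKrullDim (AlgSp.Points Xk.obj) = 0 →
      DiscreteTopology (AlgSp.Points Xk.obj)) ∧
    (AlgSp.IsDecent Xk.obj → Finite (AlgSp.Points Xk.obj) → DiscreteTopology (AlgSp.Points Xk.obj)) ∧
    (Finite (AlgSp.Points Xk.obj) → (AlgSp.Points.map f.hom ⁻¹' {AlgSp.Points.mk r}).Finite) ∧
    (DiscreteTopology ↥(AlgSp.Points.map f.hom ⁻¹' {AlgSp.Points.mk r}) → topologicalKrullDim ↥(AlgSp.Points.map f.hom ⁻¹' {AlgSp.Points.mk r}) = 0) ∧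
    (AlgSp.IsDecent Y.obj → (DiscreteTopology ↥(AlgSp.Points.map f.hom ⁻¹' {AlgSp.Points.mk r}) ↔ DiscreteTopology (AlgSp.Points Xk.obj))) ∧
    (AlgSp.IsDecent Y.obj → AlgSp.IsDecent X.obj →
      (topologicalKrullDim ↥(AlgSp.Points.map f.hom ⁻¹' {AlgSp.Points.mk r}) = 0 → DiscreteTopology ↥(AlgSp.Points.map f.hom ⁻¹' {AlgSp.Points.mk r})) ∧
        ((AlgSp.Points.map f.hom ⁻¹' {AlgSp.Points.mk r}).Finite → DiscreteTopology ↥(AlgSp.Points.map f.hom ⁻¹' {AlgSp.Points.mk r}))) := by
  have hX := X.property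
  have hY := Y.property
  have hXk := Xk.property
  have hch := FibrePt.chartsNJ_fibre hX hY f.hom hf r fst.hom snd hsq
  have hne : Nonempty (AlgSp.Points Xk.obj) := by
    obtain ⟨x, hx⟩ := hy
    obtain ⟨xt, -⟩ := (FibrePt.range_map_fst f.hom r fst.hom snd hsq).ge
      (show x ∈ AlgSp.Points.map f.hom ⁻¹' {AlgSp.Points.mk r} from hx)
    exact ⟨xt⟩
  have hneF : Nonempty ↥(AlgSp.Points.map f.hom ⁻¹' {AlgSp.Points.mk r}) := by
    obtain ⟨x, hx⟩ := hy
    exact ⟨⟨x, hx⟩⟩
  have hL4 := FibrePt.discreteTopology_iff_forall_mem_qfLocus hX hY f.hom hf r fst.hom snd hsq hXk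
  have ha := Gen.discreteTopology_iff_dim_eq_zero hch hXk
  refine ⟨ha, ?_, ?_, ?_, ?_, ?_, ?_, ?_, ?_⟩
  · rw [← ha, hL4]
    exact forall_congr' fun x => imp_congr_right fun _ => QfAt.mem_qfLocus_iff_hasAtMor_open f.hom hf x
  · intro hD
    exact le_antisymm (topologicalKrullDim_zero_of_discreteTopology _)
      (DimZero.topologicalKrullDim_nonneg_of_nonempty _)
  · intro hd h
    have : T0Space (AlgSp.Points Xk.obj) := Groth.Agent.S10338.result Xk hd
    exact Gen.discreteTopology_of_topologicalKrullDim_eq_zero hch hXk h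
  · intro hd hfin
    exact ha.2 (Gen.dim_eq_zero_of_finite hch hXk hd)
  · intro hfin
    rw [← FibrePt.range_map_fst f.hom r fst.hom snd hsq]
    exact Set.finite_range _
  · intro hD
    exact le_antisymm (topologicalKrullDim_zero_of_discreteTopology _)
      (DimZero.topologicalKrullDim_nonneg_of_nonempty _)
  · intro hdY
    obtain ⟨Xk₀, hXk₀, r₀, fst₀, snd₀, sq₀, hr₀, φ, hφ⟩ :=
      FibrePt.exists_fibre_homeomorph hX hY f.hom hdY (AlgSp.Points.mk r)
    have hL4₀ := FibrePt.discreteTopology_iff_forall_mem_qfLocus hX hY f.hom hf r₀ fst₀ snd₀ sq₀ hXk₀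
    rw [hr₀] at hL4₀
    have hφD : DiscreteTopology ↥(AlgSp.Points.map f.hom ⁻¹' {AlgSp.Points.mk r}) ↔
        DiscreteTopology (AlgSp.Points Xk₀) :=
      ⟨fun _ => φ.isEmbedding.discreteTopology, fun _ => φ.symm.isEmbedding.discreteTopology⟩
    rw [hφD, hL4₀, hL4]
  · intro hdY hdX
    obtain ⟨Xk₀, hXk₀, r₀, fst₀, snd₀, sq₀, hr₀, φ, hφ⟩ :=
      FibrePt.exists_fibre_homeomorph hX hY f.hom hdY (AlgSp.Points.mk r)
    have hch₀ := FibrePt.chartsNJ_fibre hX hY f.hom hf r₀ fst₀ snd₀ sq₀
    have hL4₀ := FibrePt.discreteTopology_iff_forall_mem_qfLocus hX hY f.hom hf r₀ fst₀ snd₀ sq₀ hXk₀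
    rw [hr₀] at hL4₀
    have : T0Space (AlgSp.Points X.obj) := Groth.Agent.S10338.result X hdX
    have : T0Space (AlgSp.Points Xk₀) := φ.isEmbedding.t0Space
    refine ⟨fun h => ?_, fun hfin => ?_⟩
    · have h' : topologicalKrullDim (AlgSp.Points Xk₀) = 0 := by
        rw [IsHomeomorph.topologicalKrullDim_eq _ φ.isHomeomorph]; exact h
      have := Gen.discreteTopology_of_topologicalKrullDim_eq_zero hch₀ hXk₀ h'
      exact φ.symm.isEmbedding.discreteTopology
    · have : DiscreteTopology (AlgSp.Points Xk₀) := hL4₀.2 fun x hx =>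
        FibrePt.mem_qfLocus_of_finite_fibre hX hY f.hom hf hdX (AlgSp.Points.mk r) hfin x hx
      exact φ.symm.isEmbedding.discreteTopology

end Groth.Agent.S10444
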