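import Groth.Statements.S10445
import Groth.Agent.Lib.Helper16.FibrePt
import Groth.Agent.S10338
open Groth.Agent.Lib.Helper16 Groth.Agent.Lib.Helper16.DimZero

set_option autoImplicit false
universe u
open CategoryTheory CategoryTheory.Limits AlgebraicGeometry Topology TopologicalSpace
open AlgSp

namespace Groth.Agent.S10445

theorem auxA {S : Scheme.{u}} {Z : AlgSp.Sp S} (hch : Gen.ChartsNJ Z) (hZ : AlgSp.IsAlgSpace Z) (z : AlgSp.Points Z) :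
    IsOpen ({z} : Set (AlgSp.Points Z)) ↔
      IsClosed ({z} : Set (AlgSp.Points Z)) ∧ ∀ z' : AlgSp.Points Z, z' ⤳ z → z' = z :=
  ⟨fun h => ⟨Gen.isClosed_singleton_of_isOpen_singleton hch hZ z h, fun x' hs => hs.mem_open h rfl⟩,
    fun ⟨hcl, hgen⟩ => Gen.isOpen_singleton_of_isClosed_of_forall_specializes_eq hch hZ z hcl hgen⟩


/-- Take f : X ⟶ Y locally of finite type between algebraic spaces over a scheme S, a field-valued point
Spec k ⟶ Y with class y, the fibre product X_k = Spec k ×_Y X, x ∈ |X| over y, x̃ ∈ |X_k| over x,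
and F = |f|⁻¹(y) with the induced topology. Numbering the conditions (1) dim_x F = 0, (2) x isolated
in F, (3) x closed in F with no proper generization in F, (4) dim_{x̃} |X_k| = 0, (5) x̃ isolated in
|X_k|, (6) x̃ closed in |X_k| with no proper generization, (7) dim_{x̃}(X_k) = 0 (local dimension of
an etale chart), (8) f quasi-finite at x: (5) ⇔ (6) ⇔ (7) ⇔ (8); (4) ⇔ (5) when X_k is decent; (2) ⇔
(5) and (3) ⇔ (6) when Y is decent; (1) ⇔ (2) when X and Y are decent. -/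
theorem result {S : Scheme.{u}} {X Y : AlgSp.Space S} (f : X ⟶ Y)
    (hf : AlgSp.LocP @LocallyOfFiniteType f.hom) (r : AlgSp.FieldPt Y.obj) (Xk : AlgSp.Space S) (fst : Xk ⟶ X)
    (snd : Xk.obj ⟶ (AlgSp.yon S).obj r.pt) (hsq : IsPullback fst.hom snd f.hom r.toHom)
    (x : AlgSp.Points X.obj) (hx : x ∈ (AlgSp.Points.map f.hom ⁻¹' {AlgSp.Points.mk r})) (xt : AlgSp.Points Xk.obj)
    (hxt : AlgSp.Points.map fst.hom xt = x) :
    ((IsOpen ({xt} : Set (AlgSp.Points Xk.obj)) ↔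
      IsClosed ({xt} : Set (AlgSp.Points Xk.obj)) ∧ ∀ x' : AlgSp.Points Xk.obj, x' ⤳ xt → x' = xt) ∧
    (IsOpen ({xt} : Set (AlgSp.Points Xk.obj)) ↔ AlgSp.HasAt (fun U u => FlatMor.localDim ↥U u = 0) Xk.obj xt) ∧
    (AlgSp.HasAt (fun U u => FlatMor.localDim ↥U u = 0) Xk.obj xt ↔ AlgSp.HasAtMor (fun U _ h u => ∃ W : U.Opens, u ∈ W ∧ LocallyQuasiFinite (W.ι ≫ h) ∧ LocallyOfFiniteType (W.ι ≫ h)) f.hom x) ∧
    (AlgSp.IsDecent Xk.obj →
      (FlatMor.localDim (AlgSp.Points Xk.obj) xt = 0 ↔ IsOpen ({xt} : Set (AlgSp.Points Xk.obj)))) ∧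
    (AlgSp.IsDecent Y.obj →
      (IsOpen ({(⟨x, hx⟩ : ↥(AlgSp.Points.map f.hom ⁻¹' {AlgSp.Points.mk r}))} : Set ↥(AlgSp.Points.map f.hom ⁻¹' {AlgSp.Points.mk r})) ↔ IsOpen ({xt} : Set (AlgSp.Points Xk.obj))) ∧
      ((IsClosed ({(⟨x, hx⟩ : ↥(AlgSp.Points.map f.hom ⁻¹' {AlgSp.Points.mk r}))} : Set ↥(AlgSp.Points.map f.hom ⁻¹' {AlgSp.Points.mk r})) ∧ ∀ x' : ↥(AlgSp.Points.map f.hom ⁻¹' {AlgSp.Points.mk r}), x' ⤳ (⟨x, hx⟩ : ↥(AlgSp.Points.map f.hom ⁻¹' {AlgSp.Points.mk r})) → x' = (⟨x, hx⟩ : ↥(AlgSp.Points.map f.hom ⁻¹' {AlgSp.Points.mk r}))) ↔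
        IsClosed ({xt} : Set (AlgSp.Points Xk.obj)) ∧ ∀ x' : AlgSp.Points Xk.obj, x' ⤳ xt → x' = xt)) ∧
    (AlgSp.IsDecent Y.obj → AlgSp.IsDecent X.obj →
      (FlatMor.localDim ↥(AlgSp.Points.map f.hom ⁻¹' {AlgSp.Points.mk r}) (⟨x, hx⟩ : ↥(AlgSp.Points.map f.hom ⁻¹' {AlgSp.Points.mk r})) = 0 ↔ IsOpen ({(⟨x, hx⟩ : ↥(AlgSp.Points.map f.hom ⁻¹' {AlgSp.Points.mk r}))} : Set ↥(AlgSp.Points.map f.hom ⁻¹' {AlgSp.Points.mk r}))))) := by
  have hX := X.property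
  have hY := Y.property
  have hXk := Xk.property
  have hch := FibrePt.chartsNJ_fibre hX hY f.hom hf r fst.hom snd hsq
  have hL3 := FibrePt.isOpen_singleton_iff_mem_qfLocus hX hY f.hom hf r fst.hom snd hsq hXk xt
  rw [hxt] at hL3
  refine ⟨auxA hch hXk xt, Gen.isOpen_singleton_iff_hasAt_localDim hch hXk xt, ?_, ?_, ?_, ?_⟩
  · rw [FibrePt.hasAt_localDim_iff_mem_qfLocus hX hY f.hom hf r fst.hom snd hsq xt, hxt]
    exact QfAt.mem_qfLocus_iff_hasAtMor_open f.hom hf x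
  · intro hd
    have : T0Space (AlgSp.Points Xk.obj) := Groth.Agent.S10338.result Xk hd
    exact Gen.localDim_points_eq_zero_iff hch hXk xt
  · intro hdY
    obtain ⟨Xk₀, hXk₀, r₀, fst₀, snd₀, sq₀, hr₀, φ, hφ⟩ :=
      FibrePt.exists_fibre_homeomorph hX hY f.hom hdY (AlgSp.Points.mk r)
    have hch₀ := FibrePt.chartsNJ_fibre hX hY f.hom hf r₀ fst₀ snd₀ sq₀
    have hφx : φ (φ.symm ⟨x, hx⟩) = ⟨x, hx⟩ := φ.apply_symm_apply _
    have hx₀ : AlgSp.Points.map fst₀ (φ.symm ⟨x, hx⟩) = x := by rw [← hφ, hφx]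
    have hL3₀ := FibrePt.isOpen_singleton_iff_mem_qfLocus hX hY f.hom hf r₀ fst₀ snd₀ sq₀ hXk₀
      (φ.symm ⟨x, hx⟩)
    rw [hx₀] at hL3₀
    have h0 := FibrePt.isOpen_singleton_homeomorph φ (φ.symm ⟨x, hx⟩)
    rw [hφx] at h0
    have h1 := FibrePt.isClosed_singleton_homeomorph φ (φ.symm ⟨x, hx⟩)
    rw [hφx] at h1
    have h2 := FibrePt.nogen_homeomorph φ (φ.symm ⟨x, hx⟩)
    rw [hφx] at h2
    refine ⟨by rw [h0, hL3₀, hL3], ?_⟩
    rw [h1, h2, ← auxA hch₀ hXk₀, ← auxA hch hXk, hL3₀, hL3]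
  · intro hdY hdX
    obtain ⟨Xk₀, hXk₀, r₀, fst₀, snd₀, sq₀, hr₀, φ, hφ⟩ :=
      FibrePt.exists_fibre_homeomorph hX hY f.hom hdY (AlgSp.Points.mk r)
    have hch₀ := FibrePt.chartsNJ_fibre hX hY f.hom hf r₀ fst₀ snd₀ sq₀
    have hφx : φ (φ.symm ⟨x, hx⟩) = ⟨x, hx⟩ := φ.apply_symm_apply _
    have : T0Space (AlgSp.Points X.obj) := Groth.Agent.S10338.result X hdX
    have : T0Space (AlgSp.Points Xk₀) := φ.isEmbedding.t0Space
    have h3 := FibrePt.localDim_homeomorph φ (φ.symm ⟨x, hx⟩)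
    rw [hφx] at h3
    have h4 := FibrePt.isOpen_singleton_homeomorph φ (φ.symm ⟨x, hx⟩)
    rw [hφx] at h4
    rw [h3, h4]
    exact Gen.localDim_points_eq_zero_iff hch₀ hXk₀ _

end Groth.Agent.S10445
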