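import Groth.Statements.S10446
import Mathlib
import Groth.Agent.S10398
import Groth.Agent.S10350
import Groth.Agent.S10381
import Groth.Agent.Lib.Helper16.QcOpen
import Groth.Agent.Lib.Helper16.QsRel
import Groth.Agent.Lib.Helper16.FibrePt
import Groth.Agent.Lib.Helper16.FpqcCover
open Groth.Agent.Lib.Helper16 Groth.Agent.Lib.Helper15 Groth.Agent.Lib.Helper16.QfAt

set_option autoImplicit false
universe u
open CategoryTheory CategoryTheory.Limits AlgebraicGeometry Topology TopologicalSpace
open AlgSp

namespace Groth.Agent.S10446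

/-- (1) ⇔ (3): let S be a scheme with quasi-separated underlying space, f : X ⟶ Y a quasi-separated
morphism of algebraic spaces over S that is locally of finite type, with Y quasi-separated over S,
and y ∈ |Y| a point of codimension 0. Then |f|⁻¹(y) is finite if and only if f restricts to a finite
morphism X' ⟶ Y' between an open subspace X' of X containing the whole fibre |f|⁻¹(y) and an open
subspace Y' of Y through y. (The published statement assumes Y quasi-separated in the absolute
sense; this row assumes S has quasi-separated underlying space and Y quasi-separated over S. Its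
condition on the finiteness of |Spec k ×_Y X| is not part of this row.) -/
theorem result {S : Scheme.{u}} [QuasiSeparatedSpace ↥S] {X Y : AlgSp.Space S}
    (f : X ⟶ Y) (hqs : AlgSp.IsQuasiSeparatedMor f.hom) (hft : AlgSp.LocP @LocallyOfFiniteType f.hom)
    (hY : AlgSp.IsQuasiSeparatedSp Y.obj) (y : AlgSp.Points Y.obj)
    (hy : AlgSp.HasAt (fun U u => ringKrullDim ↥(U.presheaf.stalk u) = 0) Y.obj y) :
    (AlgSp.Points.map f.hom ⁻¹' {y}).Finite ↔
      ∃ (X' Y' : AlgSp.Space S) (i : X' ⟶ X) (j : Y' ⟶ Y) (f' : X' ⟶ Y'), AlgSp.RepWith @IsOpenImmersion i.hom ∧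
        AlgSp.RepWith @IsOpenImmersion j.hom ∧ f' ≫ j = i ≫ f ∧ y ∈ Set.range (AlgSp.Points.map j.hom) ∧
          AlgSp.Points.map f.hom ⁻¹' {y} ⊆ Set.range (AlgSp.Points.map i.hom) ∧ AlgSp.IsFiniteMor f'.hom := by
  constructor
  · intro hfin
    have hYdec := Groth.Agent.S10350.result Y hY
    have hdecmor := isDecentMor_of_isQuasiSeparatedMor X.property Y.property f.hom hqs
    have hXdec := Groth.Agent.S10381.result f hdecmor hYdec
    have hqfl : ∀ x, Points.map f.hom x = y → x ∈ qfLocus f.hom := fun x hx =>
      FibrePt.mem_qfLocus_of_finite_fibre X.property Y.property f.hom hft hXdec y hfin x hx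
    obtain ⟨A, hAo, hFA, hAq⟩ := QcOpen.exists_qc_open_of_finite X.property _ hfin
    have hX' : IsAlgSpace (openSub X.obj A) := isAlgSpace_openSub X.property A hAo
    obtain ⟨ι, hιdef⟩ : ∃ ι : openSub X.obj A ⟶ X.obj, ι = openSubι X.obj A := ⟨_, rfl⟩
    have hι : RepWith @IsOpenImmersion ι := by
      rw [hιdef]; exact repWith_isOpenImmersion_openSubι A hAo
    have hιm : Mono ι := mono_of_repWith_isOpenImmersion ι hι
    have hιe : RepWith @Etale ι := repWith_mono isOpenImmersion_le_etale _ hι
    have hιqs : IsQuasiSeparatedMor ι := by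
      have : (RepWith (S := S) @QuasiCompact).RespectsIso :=
        MorphismProperty.IsStableUnderBaseChange.respectsIso
      exact (RepWith (S := S) @QuasiCompact).of_isIso (pullback.diagonal ι)
    have hgqs : IsQuasiSeparatedMor (ι ≫ f.hom) :=
      (RepWith (S := S) @QuasiCompact).diagonal.comp_mem ι f.hom hιqs hqs
    have hιlft : LocP @LocallyOfFiniteType ι :=
      locP_of_repWith_etale etLocalST_locallyOfFiniteType hX' X.property ι hιe
    have hglft : LocP @LocallyOfFiniteType (ι ≫ f.hom) :=
      locP_comp etLocalST_locallyOfFiniteType hX' X.property Y.property ι f.hom hιlft hft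
    have hgqc : IsQuasiCompactMor (ι ≫ f.hom) :=
      QcOpen.isQuasiCompactMor_of_isQuasiCompactSp hX' Y.property hAq hY _
    have hgqf : ∀ x' : Points (openSub X.obj A), Points.map (ι ≫ f.hom) x' = y →
        HasAtMor (fun U _ h u => ∃ W : U.Opens, u ∈ W ∧ LocallyQuasiFinite (W.ι ≫ h) ∧
          LocallyOfFiniteType (W.ι ≫ h)) (ι ≫ f.hom) x' := by
      intro x' hx'
      rw [← mem_qfLocus_iff_hasAtMor_open (ι ≫ f.hom) hglft x']
      apply QcOpen.mem_qfLocus_comp_of_etale hX' Y.property ι hιe f.hom hft x'
      apply hqfl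
      rw [← Points.map_comp]
      exact hx'
    obtain ⟨Y', X'', j, fst, snd, hj, hyj, sq, hfin'⟩ :=
      Groth.Agent.S10398.result (X := ⟨openSub X.obj A, hX'⟩) (Y := Y) (ObjectProperty.homMk (ι ≫ f.hom))
        hgqs ⟨hglft, hgqc⟩ y hy hgqf
    change IsPullback fst.hom snd.hom j.hom (ι ≫ f.hom) at sq
    have hsnd : RepWith @IsOpenImmersion snd.hom := (RepWith (S := S) @IsOpenImmersion).of_isPullback sq hj
    refine ⟨X'', Y', snd ≫ ObjectProperty.homMk ι, j, fst, ?_, hj, ?_, hyj, ?_, hfin'⟩
    · exact (RepWith (S := S) @IsOpenImmersion).comp_mem _ _ hsnd hι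
    · apply ObjectProperty.hom_ext
      change fst.hom ≫ j.hom = (snd.hom ≫ ι) ≫ f.hom
      rw [Category.assoc]
      exact sq.w
    · intro x hx
      have hxA : x ∈ A := hFA hx
      have h1 : x ∈ Set.range (Points.map ι) := by
        rw [hιdef, range_map_openSubι A]; exact hxA
      obtain ⟨x', rfl⟩ := h1
      obtain ⟨y', hy'⟩ := hyj
      have hxy : Points.map (ι ≫ f.hom) x' = Points.map j.hom y' := by
        rw [Points.map_comp, hy']
        exact hx
      obtain ⟨x'', hx'', -⟩ := exists_point_of_isPullback sq.flip x' y' hxy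
      refine ⟨x'', ?_⟩
      change Points.map (snd.hom ≫ ι) x'' = _
      rw [Points.map_comp, hx'']
  · rintro ⟨X', Y', i, j, f', hi, hj, hcomm, hyj, hfib, hfin⟩
    obtain ⟨y', rfl⟩ := hyj
    induction y' using Points.ind with
    | h r =>
    have hKaff : IsAffine r.pt.left := (inferInstance : IsAffine (Spec (CommRingCat.of r.K)))
    obtain ⟨W, k, φ, sqW, hW, hk⟩ := hfin hKaff r.toHom
    haveI : IsFinite k.left := hk
    have hWfin : Finite ↥W.left := by
      have h1 := k.left.finite_preimage_singleton (IsLocalRing.closedPoint r.K)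
      exact Set.finite_univ_iff.1 (h1.subset (fun w _ => Subsingleton.elim (α := PrimeSpectrum r.K) _ _))
    have hjm : Mono j.hom := mono_of_repWith_isOpenImmersion j.hom hj
    have hcomm' : f'.hom ≫ j.hom = i.hom ≫ f.hom := congrArg (fun t => t.hom) hcomm
    refine (Set.finite_range (fun w : ↥W.left => Points.map i.hom (Points.ofPt φ w))).subset ?_
    intro x hx
    obtain ⟨x', rfl⟩ := hfib hx
    have h1 : Points.map f'.hom x' = Points.mk r := by
      apply points_map_injective_of_mono j.hom
      rw [← Points.map_comp, hcomm', Points.map_comp]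
      exact hx
    obtain ⟨w, hw, -⟩ := exists_point_of_isPullback_yon sqW x' (IsLocalRing.closedPoint r.K)
      (h1.trans (Points.ofPt_toHom r _).symm)
    refine ⟨w, ?_⟩
    change Points.map i.hom (Points.ofPt φ w) = _
    rw [hw]
end Groth.Agent.S10446
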