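import Groth.Statements.S10448
import Groth.Agent.Lib.Helper16.IntDim

open Groth.Agent.Lib.Helper15 Groth.Agent.Lib.Helper16 Groth.Agent.Lib.Helper16.IntDim

set_option autoImplicit false
universe u
open CategoryTheory CategoryTheory.Limits AlgebraicGeometry Topology TopologicalSpace
open AlgSp

namespace Groth.Agent.S10448

/-- For an integral morphism f : X ⟶ Y of algebraic spaces over a scheme S, the dimension of X is at
most the dimension of Y. -/
theorem result {S : Scheme.{u}} {X Y : AlgSp.Space S} (f : X ⟶ Y)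
    (hf : AlgSp.IsIntegralMor f.hom) : AlgSp.dim X.obj ≤ AlgSp.dim Y.obj := by
  refine iSup_le fun U => iSup_le fun a => iSup_le fun ha => ?_
  apply tkd_le_of_forall_stalk
  intro u
  obtain ⟨V₀, b₀, hb₀e, hb₀s⟩ := Y.property.atlas
  obtain ⟨v₀, hv₀⟩ := ofPt_surjective_of_surjective b₀ hb₀s
    (AlgSp.Points.map f.hom (AlgSp.Points.ofPt a u))
  obtain ⟨V, Z, b, i, fstZ, v, hbe, hfst, sq, hint, hv, -⟩ :=
    exists_affine_chart_integral f hf b₀ hb₀e v₀
  obtain ⟨z, hz1, hz2⟩ := exists_point_of_isPullback_yon sq (AlgSp.Points.ofPt a u) v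
    (by rw [hv, hv₀])
  rw [Strata.ringKrullDim_stalk_eq_of_charts a ha fstZ hfst u z hz1.symm]
  calc ringKrullDim ↥(Z.left.presheaf.stalk z) ≤ topologicalKrullDim ↥Z.left := stalk_le_tkd _ z
    _ ≤ topologicalKrullDim ↥V.left := (Groth.Agent.S9683.result i.left).1
    _ ≤ AlgSp.dim Y.obj := le_iSup_of_le V (le_iSup_of_le b (le_iSup_of_le hbe le_rfl))

end Groth.Agent.S10448
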