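import Groth.Statements.S10449
import Groth.Agent.Lib.Helper16.IntDim

open Groth.Agent.Lib.Helper15 Groth.Agent.Lib.Helper16 Groth.Agent.Lib.Helper16.IntDim

set_option autoImplicit false
universe u
open CategoryTheory CategoryTheory.Limits AlgebraicGeometry Topology TopologicalSpace
open AlgSp

namespace Groth.Agent.S10449

/-- For an integral surjective morphism f : X ⟶ Y of algebraic spaces over a scheme S, the dimension of
Y is at most the dimension of X (together with the inequality dim X ≤ dim Y, which holds for every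
integral morphism, the two dimensions are equal). -/
theorem result {S : Scheme.{u}} {X Y : AlgSp.Space S} (f : X ⟶ Y)
    (hf : AlgSp.IsIntegralMor f.hom) (hs : AlgSp.IsSurjectiveMor f.hom) :
    AlgSp.dim Y.obj ≤ AlgSp.dim X.obj := by
  refine iSup_le fun V₀ => iSup_le fun b₀ => iSup_le fun hb₀ => ?_
  apply tkd_le_of_forall_stalk
  intro v₀
  obtain ⟨V, Z, b, i, fstZ, v, hbe, hfst, sq, hint, hv, hdim⟩ :=
    exists_affine_chart_integral f hf b₀ hb₀ v₀
  rw [← hdim]
  have hsurj : Surjective i.left := by
    refine ⟨fun v' => ?_⟩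
    obtain ⟨x, hx⟩ := hs (AlgSp.Points.ofPt b v')
    obtain ⟨z, -, hz2⟩ := exists_point_of_isPullback_yon sq x v' hx
    exact ⟨z, hz2⟩
  calc ringKrullDim ↥(V.left.presheaf.stalk v) ≤ topologicalKrullDim ↥V.left := stalk_le_tkd _ v
    _ = topologicalKrullDim ↥Z.left := ((Groth.Agent.S9683.result i.left).2 hsurj).symm
    _ ≤ AlgSp.dim X.obj := le_iSup_of_le Z (le_iSup_of_le fstZ (le_iSup_of_le hfst le_rfl))

end Groth.Agent.S10449
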