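import Groth.Statements.S10450
import Groth.Agent.Lib.Helper16.SchLocusQs
import Groth.Agent.Lib.Helper16.SchLocusField
import Groth.Agent.Lib.Helper16.DimZeroSep

set_option autoImplicit false
universe u
open CategoryTheory CategoryTheory.Limits AlgebraicGeometry Topology TopologicalSpace
open AlgSp

namespace Groth.Agent.S10450

open Groth.Agent.Lib.Helper16 Groth.Agent.Lib.Helper15

theorem repWith_diag_of_iso {S : Scheme.{u}} (P : MorphismProperty Scheme.{u}) [P.IsStableUnderBaseChange]
    {X X' : AlgSp.Sp S} (e : X' ≅ X) (h : AlgSp.RepWith P (Limits.diag X)) : AlgSp.RepWith P (Limits.diag X') := by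
  have : P.RespectsIso := MorphismProperty.IsStableUnderBaseChange.respectsIso
  have h1 : AlgSp.RepWith P (e.hom ≫ Limits.diag X) :=
    (MorphismProperty.cancel_left_of_respectsIso (AlgSp.RepWith P) e.hom _).2 h
  rw [← Limits.prod.diag_map] at h1
  exact (MorphismProperty.cancel_right_of_respectsIso (AlgSp.RepWith P) _ (Limits.prod.map e.hom e.hom)).1 h1


/-- Let X be a quasi-separated algebraic space of dimension 0 over a quasi-separated scheme S. Then X is
a separated scheme and every quasi-compact open of X is affine. (The published statement allows any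
base scheme S and takes X quasi-separated in the absolute sense; this row asks S to be
quasi-separated and X quasi-separated over S, which together imply absolute quasi-separatedness.) -/
theorem result {S : Scheme.{u}} [QuasiSeparatedSpace S]
    (X : AlgSp.Space S) (hqs : AlgSp.IsQuasiSeparatedSp X.obj) (hd : AlgSp.dim X.obj = 0) :
    ∃ (U : Over S) (_ : (AlgSp.yon S).obj U ≅ X.obj), U.left.IsSeparated ∧
      ∀ V : U.left.Opens, IsCompact (V : Set ↥U.left) → IsAffineOpen V := by
  have hX := X.property
  have hstalk : ∀ {U : Over S} (a : (yon S).obj U ⟶ X.obj) (_ : RepWith @Etale a) (u : ↥U.left),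
      ringKrullDim ↥(U.left.presheaf.stalk u) = 0 := by
    intro U a hae u
    apply le_antisymm
    · rw [ringKrullDim_stalk_eq_coheight]
      have h1 : topologicalKrullDim ↥U.left ≤ AlgSp.dim X.obj :=
        le_iSup_of_le U (le_iSup_of_le a (le_iSup_of_le hae le_rfl))
      rw [hd, EtDim.topologicalKrullDim_eq_krullDim] at h1
      exact (Order.coheight_le_krullDim u).trans h1
    · exact ringKrullDim_nonneg_of_nontrivial
  have hall : ∀ x : Points X.obj, x ∈ SchLocus.schLocus X.obj := by
    intro x
    obtain ⟨U, a, hae, has⟩ := hX.atlas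
    obtain ⟨u, hu⟩ := ofPt_surjective_of_surjective a has x
    exact SchLocus.mem_schLocus_of_hasAt_of_quasiSeparated hX hqs ⟨U, a, u, hae, hu, hstalk a hae u⟩
  obtain ⟨M, ⟨e⟩⟩ := SchLocus.exists_iso_yon_of_isRepresentable
    (SchLocus.isRepresentable_of_forall_mem_schLocus hX hall)
  have hqsM : RepWith @QuasiCompact (Limits.diag ((yon S).obj M)) := repWith_diag_of_iso _ e hqs
  have hqsM' : QuasiSeparated M.hom := ⟨(repWith_diag_yon_iff _ M).1 hqsM⟩
  have hqsM'' : QuasiSeparatedSpace ↥M.left := quasiSeparatedSpace_of_quasiSeparated M.hom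
  have hee : RepWith @Etale e.hom := by
    have h1 : RepWith @Etale (𝟙 ((yon S).obj M) ≫ e.hom) :=
      MorphismProperty.RespectsIso.postcomp _ e.hom _ (repWith_id _ M)
    rwa [Category.id_comp] at h1
  have hdimM : ∀ y : ↥M.left, ringKrullDim ↥(M.left.presheaf.stalk y) = 0 := fun y => hstalk e.hom hee y
  exact ⟨M, e, DimZeroSch.isSeparated hdimM, fun V hV => DimZeroSch.isAffineOpen_of_isCompact hdimM V hV⟩

end Groth.Agent.S10450
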