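import Groth.Statements.S10451
import Groth.Agent.Lib.Helper16.SchLocusField
import Groth.Agent.Lib.Helper16.DimZeroSep
import Groth.Agent.Lib.Helper16.DimZero

set_option autoImplicit false
universe u
open CategoryTheory CategoryTheory.Limits AlgebraicGeometry Topology TopologicalSpace
open AlgSp

namespace Groth.Agent.S10451

open Groth.Agent.Lib.Helper16 Groth.Agent.Lib.Helper15 Groth.Agent.Lib.Helper16.Strata

/-- A compact scheme locally quasi-finite over the spectrum of a field is finite (as a set). -/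
theorem finite_of_lqf_over_field {Z : Scheme.{u}} {K : Type u} [Field K] (c : Z ⟶ Spec (CommRingCat.of K))
    [LocallyQuasiFinite c] [CompactSpace Z] : Finite Z := by
  have : QuasiCompact c := HasAffineProperty.iff_of_isAffine.mpr (by infer_instance)
  have h := c.finite_preimage_singleton (IsLocalRing.closedPoint K)
  refine Set.finite_univ_iff.1 (h.subset fun z _ => ?_)
  exact Subsingleton.elim (α := ↥(Spec (CommRingCat.of K))) _ _

theorem quasiSeparatedSpace_of_discreteTopology (T : Type*) [TopologicalSpace T] [DiscreteTopology T] :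
    QuasiSeparatedSpace T :=
  ⟨fun U V _ hU _ _ => (hU.finite_of_discrete.subset Set.inter_subset_left).isCompact⟩


/-- Let k be a field and X an algebraic space locally of finite type over k with dim X = 0. Then X is a
separated scheme and every quasi-compact open of X is affine. -/
theorem result (k : Type u) [Field k]
    (X : AlgSp.Space (Spec (CommRingCat.of k))) (p : X.obj ⟶ (AlgSp.yon (Spec (CommRingCat.of k))).obj (Over.mk (𝟙 _)))
    (hp : AlgSp.LocP @LocallyOfFiniteType p) (hd : AlgSp.dim X.obj = 0) :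
    ∃ (U : Over (Spec (CommRingCat.of k))) (_ : (AlgSp.yon (Spec (CommRingCat.of k))).obj U ≅ X.obj), U.left.IsSeparated ∧
      ∀ V : U.left.Opens, IsCompact (V : Set ↥U.left) → IsAffineOpen V := by
  have hX := X.property
  have hstalk : ∀ {U : Over (Spec (CommRingCat.of k))}
      (a : (yon (Spec (CommRingCat.of k))).obj U ⟶ X.obj) (_ : RepWith @Etale a) (u : ↥U.left),
      ringKrullDim ↥(U.left.presheaf.stalk u) = 0 := by
    intro U a hae u
    apply le_antisymm
    · rw [ringKrullDim_stalk_eq_coheight]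
      have h1 : topologicalKrullDim ↥U.left ≤ AlgSp.dim X.obj :=
        le_iSup_of_le U (le_iSup_of_le a (le_iSup_of_le hae le_rfl))
      rw [hd, EtDim.topologicalKrullDim_eq_krullDim] at h1
      exact (Order.coheight_le_krullDim u).trans h1
    · exact ringKrullDim_nonneg_of_nontrivial
  have hLFT : ∀ {U : Over (Spec (CommRingCat.of k))}
      (a : (yon (Spec (CommRingCat.of k))).obj U ⟶ X.obj) (_ : RepWith @Etale a), LocallyOfFiniteType U.hom :=
    fun a hae => DimZero.prop_of_locP_terminal p hp a hae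
  have hdisc : ∀ {U : Over (Spec (CommRingCat.of k))}
      (a : (yon (Spec (CommRingCat.of k))).obj U ⟶ X.obj) (_ : RepWith @Etale a), DiscreteTopology ↥U.left := by
    intro U a hae
    have := hLFT a hae
    have : IsLocallyNoetherian U.left := LocallyOfFiniteType.isLocallyNoetherian U.hom
    apply DimZero.discreteTopology_of_topologicalKrullDim_le_zero
    have h1 : topologicalKrullDim ↥U.left ≤ AlgSp.dim X.obj :=
      le_iSup_of_le U (le_iSup_of_le a (le_iSup_of_le hae le_rfl))
    rwa [hd] at h1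
  have hlqf : ∀ {U : Over (Spec (CommRingCat.of k))}
      (a : (yon (Spec (CommRingCat.of k))).obj U ⟶ X.obj) (_ : RepWith @Etale a), LocallyQuasiFinite U.hom := by
    intro U a hae
    have := hLFT a hae
    have := hdisc a hae
    rw [locallyQuasiFinite_iff_isDiscrete_preimage_singleton]
    intro x
    exact IsDiscrete.univ.mono (Set.subset_univ _)
  have hall : ∀ x : Points X.obj, x ∈ SchLocus.schLocus X.obj := by
    intro x
    obtain ⟨U, a, hae, has⟩ := hX.atlas
    obtain ⟨u, hu⟩ := ofPt_surjective_of_surjective a has x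
    obtain ⟨O, hO, huO⟩ := exists_affineOpen_mem u
    have hOaff : IsAffine (overOpen U O).left := hO
    have hae₀ : RepWith @Etale ((yon _).map (overOpenι U O) ≫ a) := repWith_etale_restrict a hae O
    obtain ⟨a₀, ha₀⟩ : ∃ a₀ : (yon _).obj (overOpen U O) ⟶ X.obj, a₀ = (yon _).map (overOpenι U O) ≫ a :=
      ⟨_, rfl⟩
    rw [← ha₀] at hae₀
    have hlq₀ : LocallyQuasiFinite (overOpen U O).hom := hlqf a₀ hae₀
    obtain ⟨g₁, hg₁⟩ : ∃ g₁ : (overOpen U O).left ⟶ Spec (CommRingCat.of k), g₁ = (overOpen U O).hom := ⟨_, rfl⟩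
    have hg₁q : LocallyQuasiFinite g₁ := hg₁ ▸ hlq₀
    have sq := hae₀.rep.isPullback a₀
    obtain ⟨c, hc⟩ := (yon _).map_surjective (hae₀.rep.fst a₀)
    rw [← hc] at sq
    have hcg₁ : c.left ≫ g₁ = (hae₀.rep.snd a₀).left ≫ g₁ := by
      rw [hg₁, Over.w c, Over.w (hae₀.rep.snd a₀)]
    obtain ⟨m, hm1, hm2⟩ : ∃ m : (hae₀.rep.pullback a₀).left ⟶ pullback g₁ g₁,
        m ≫ pullback.fst g₁ g₁ = c.left ∧ m ≫ pullback.snd g₁ g₁ = (hae₀.rep.snd a₀).left :=
      ⟨pullback.lift c.left (hae₀.rep.snd a₀).left hcg₁, pullback.lift_fst _ _ _, pullback.lift_snd _ _ _⟩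
    have hm : Mono m := by
      constructor
      intro W m₁ m₂ h
      have h1 : m₁ ≫ c.left = m₂ ≫ c.left := by
        have := congrArg (· ≫ pullback.fst g₁ g₁) h
        simpa only [Category.assoc, hm1] using this
      have h2 : m₁ ≫ (hae₀.rep.snd a₀).left = m₂ ≫ (hae₀.rep.snd a₀).left := by
        have := congrArg (· ≫ pullback.snd g₁ g₁) h
        simpa only [Category.assoc, hm2] using this
      have hw : m₂ ≫ (hae₀.rep.pullback a₀).hom = m₁ ≫ (hae₀.rep.pullback a₀).hom := by
        rw [← Over.w (hae₀.rep.snd a₀), ← Category.assoc, ← h2, Category.assoc]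
      let m₁' : Over.mk (m₁ ≫ (hae₀.rep.pullback a₀).hom) ⟶ hae₀.rep.pullback a₀ := Over.homMk m₁ rfl
      let m₂' : Over.mk (m₁ ≫ (hae₀.rep.pullback a₀).hom) ⟶ hae₀.rep.pullback a₀ := Over.homMk m₂ hw
      have := hom_ext_R sq (ρ₁ := m₁') (ρ₂ := m₂') (Over.OverMorphism.ext h1) (Over.OverMorphism.ext h2)
      exact congrArg CommaMorphism.left this
    have hT : Finite ↥(pullback g₁ g₁) := finite_of_lqf_over_field (pullback.fst g₁ g₁ ≫ g₁)
    have hRfin : Finite ↥(hae₀.rep.pullback a₀).left := Finite.of_injective _ m.injective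
    have hRc : CompactSpace ↥(hae₀.rep.pullback a₀).left := Finite.compactSpace
    have hmem := SchLocus.mem_schLocus_of_codim_zero hX a₀ hae₀ sq (⟨u, huO⟩ : ↥O)
      (hstalk a₀ hae₀ _)
    rw [ha₀, ofPt_restrict] at hmem
    rw [← hu]
    exact hmem
  obtain ⟨M, ⟨e⟩⟩ := SchLocus.exists_iso_yon_of_isRepresentable
    (SchLocus.isRepresentable_of_forall_mem_schLocus hX hall)
  have hee : RepWith @Etale e.hom := by
    have h1 : RepWith @Etale (𝟙 ((yon _).obj M) ≫ e.hom) :=
      MorphismProperty.RespectsIso.postcomp _ e.hom _ (repWith_id _ M)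
    rwa [Category.id_comp] at h1
  have hMdisc : DiscreteTopology ↥M.left := hdisc e.hom hee
  have hqsM : QuasiSeparatedSpace ↥M.left := quasiSeparatedSpace_of_discreteTopology _
  have hdimM : ∀ y : ↥M.left, ringKrullDim ↥(M.left.presheaf.stalk y) = 0 := fun y => hstalk e.hom hee y
  exact ⟨M, e, DimZeroSch.isSeparated hdimM, fun V hV => DimZeroSch.isAffineOpen_of_isCompact hdimM V hV⟩

end Groth.Agent.S10451
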