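import Groth.Statements.S10455
import Groth.Agent.Lib.Helper16.DimF3

open Groth.Agent.Lib.Helper16 Groth.Agent.Lib.Helper16.DimF Groth.Agent.Lib.Helper16.QfAt
open Groth.Agent.Lib.Helper12.SchemeDimIneq Groth.Agent.Lib.Helper12.SchemeDimFT

set_option autoImplicit false
universe u
open CategoryTheory CategoryTheory.Limits AlgebraicGeometry Topology TopologicalSpace
open AlgSp

namespace Groth.Agent.S10455

/-- Let f : X ⟶ Y be a morphism of algebraic spaces over a scheme S which is locally of finite type,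
with Y locally Noetherian, and let y be a point of Y of codimension at most 1. If every codimension
0 point x of X whose image specializes to y has transcendence degree 0 over its image, then every
point of X mapping to y is a point where f is quasi-finite. -/
theorem result {S : Scheme.{u}} {X Y : AlgSp.Space S} (f : X ⟶ Y)
    (hf : AlgSp.LocP @LocallyOfFiniteType f.hom) (hY : AlgSp.IsLocNoethSp Y.obj) (y : AlgSp.Points Y.obj)
    (hy : AlgSp.HasAt (fun U u => ringKrullDim ↥(U.presheaf.stalk u) ≤ 1) Y.obj y)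
    (h : ∀ x : AlgSp.Points X.obj, AlgSp.HasAt (fun U u => ringKrullDim ↥(U.presheaf.stalk u) = 0) X.obj x → AlgSp.Points.map f.hom x ⤳ y →
      AlgSp.HasAtMor (fun _ _ h u => Dual3.resTrdeg h u = 0) f.hom x)
    (x : AlgSp.Points X.obj) (hx : AlgSp.Points.map f.hom x = y) :
    AlgSp.HasAtMor (fun U _ h u => ∃ W : U.Opens, u ∈ W ∧ LocallyQuasiFinite (W.ι ≫ h) ∧ LocallyOfFiniteType (W.ι ≫ h)) f.hom x := by
  rw [← mem_qfLocus_iff_hasAtMor_open f.hom hf x]
  obtain ⟨V, b, hbe, hbs⟩ := Y.property.atlas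
  obtain ⟨U₀, a₀, ha₀e, ha₀s⟩ := X.property.atlas
  obtain ⟨U, h', c, hae, hac, -, -, has⟩ := exists_chart_diagram f.hom b hbe a₀ ha₀e
  obtain ⟨u, rfl⟩ := ofPt_surjective_of_surjective _ (has hbs ha₀s) x
  have : LocallyOfFiniteType h'.left := hf _ _ h' hae hbe hac
  have : IsLocallyNoetherian V.left := isLocallyNoetherian_of_chart hY b hbe
  rw [mem_qfLocus_iff f.hom hf _ b h' hae hbe hac u]
  have hpt : ∀ t : ↥U.left, Points.map f.hom (Points.ofPt ((yon S).map c ≫ a₀) t) =
      Points.ofPt b (h'.left t) := by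
    intro t
    rw [Points.map_ofPt, hac, ofPt_yon_map_comp]
  apply quasiFiniteAt_of_codim_le_one
  · apply (hasAt_dim_le_iff b hbe (h'.left u) 1).1
    rw [← hpt, hx]
    exact hy
  · intro ξ hξm hξs
    have h1 : HasAt (fun U u => ringKrullDim ↥(U.presheaf.stalk u) = 0) X.obj
        (Points.ofPt ((yon S).map c ≫ a₀) ξ) :=
      (hasAt_dim_iff _ hae ξ 0).2 ((isMaxPt_iff_dim_zero ξ).1 hξm)
    have h2 : Points.map f.hom (Points.ofPt ((yon S).map c ≫ a₀) ξ) ⤳ y := by
      rw [← hx, hpt, hpt]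
      exact hξs.map (Points.continuous_ofPt b)
    have h3 := h _ h1 h2
    have h4 := (hasAtMor_resTrdeg_iff f.hom _ b h' hae hbe hac ξ 0).1 h3
    rw [trn_eq_toENat, h4]
    simp

end Groth.Agent.S10455
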