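import Groth.Statements.S10649
import Mathlib
import Groth.Agent.S10271
import Groth.Agent.S9955
import Groth.Agent.Lib.Helper16.ZmtSp5
import Groth.Agent.Lib.Helper16.UnivClosed
import Groth.Agent.Lib.Helper16.LqfFibres
import Groth.Agent.Lib.Helper16.SchLocusField
open Groth.Agent.Lib.Helper16

set_option autoImplicit false
universe u
open CategoryTheory CategoryTheory.Limits AlgebraicGeometry
open AlgSp

namespace Groth.Agent.S10649

/-- The following conditions on a morphism f : X ⟶ Y of algebraic spaces over S are equivalent: (1)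
finiteness of f; (2) f is locally quasi-finite as well as proper (locally quasi-finite and locally
of finite type etale locally); (3) f is proper and for every field k and every k-point Spec k ⟶ Y
the fibre X_k (any pullback of f along it in fppf sheaves) has discrete space of points; (4) f is
universally closed, separated and locally of finite type, and every such fibre X_k has discrete
space of points. -/
theorem result {S : Scheme.{u}} {X Y : AlgSp.Space S} (f : X ⟶ Y) :
    [AlgSp.IsFiniteMor f.hom,
      AlgSp.IsProperMor f.hom ∧ AlgSp.LocP (@LocallyQuasiFinite ⊓ @LocallyOfFiniteType) f.hom,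
      AlgSp.IsProperMor f.hom ∧
        ∀ (k : AlgSp.FieldPt Y.obj) (Xk : AlgSp.Sp S) (fst : Xk ⟶ X.obj) (snd : Xk ⟶ (AlgSp.yon S).obj k.pt),
          IsPullback fst snd f.hom k.toHom → DiscreteTopology (AlgSp.Points Xk),
      AlgSp.IsUnivClosedMor f.hom ∧ AlgSp.IsSeparatedMor f.hom ∧ AlgSp.LocP @LocallyOfFiniteType f.hom ∧
        ∀ (k : AlgSp.FieldPt Y.obj) (Xk : AlgSp.Sp S) (fst : Xk ⟶ X.obj) (snd : Xk ⟶ (AlgSp.yon S).obj k.pt),
          IsPullback fst snd f.hom k.toHom → DiscreteTopology (AlgSp.Points Xk)].TFAE := by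
  have h21 : (AlgSp.IsProperMor f.hom ∧
      AlgSp.LocP (@LocallyQuasiFinite ⊓ @LocallyOfFiniteType) f.hom) → AlgSp.IsFiniteMor f.hom := by
    rintro ⟨⟨hsep, ⟨hlft, hqc⟩, huc⟩, hlqf⟩ Z hZ g
    have sq := IsPullback.of_hasPullback f.hom g
    have hP : IsAlgSpace (pullback f.hom g) :=
      isAlgSpace_of_isPullback X.property Y.property.diag (IsAlgSpace.yon_obj Z) sq
    have hqf' : LocP (@LocallyQuasiFinite ⊓ @LocallyOfFiniteType) (pullback.snd f.hom g) :=
      locP_of_isPullback etLocalST_locallyQuasiFinite X.property Y.property sq hlqf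
    have hsep' : IsSeparatedMor (pullback.snd f.hom g) := ZmtSp.isSeparatedMor_of_isPullback sq hsep
    have hrep : (pullback f.hom g).obj.IsRepresentable :=
      SchLocus.isRepresentable_of_forall_mem_schLocus hP
        (fun x => ZmtSp.mem_schLocus_of_lqf_separated hP _ hqf' hsep' x)
    obtain ⟨M, ⟨e⟩⟩ := SchLocus.exists_iso_yon_of_isRepresentable hrep
    obtain ⟨m, hm⟩ := (yon S).map_surjective (e.hom ≫ pullback.snd f.hom g)
    have sqM : IsPullback (e.hom ≫ pullback.fst f.hom g) ((yon S).map m) f.hom g := by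
      rw [hm]
      have h0 : IsPullback e.hom (e.hom ≫ pullback.snd f.hom g) (pullback.snd f.hom g) (𝟙 _) :=
        IsPullback.of_horiz_isIso ⟨by rw [Category.comp_id]⟩
      have := h0.paste_horiz sq
      rwa [Category.id_comp] at this
    have hm_sep : IsSeparated m.left :=
      (isSeparatedMor_yon_map_iff m).1 (ZmtSp.isSeparatedMor_of_isPullback sqM hsep)
    have hm_uc : UniversallyClosed m.left :=
      Groth.Agent.Lib.Helper17.universallyClosed_of_isPullback_yon huc sqM
    have hm_lqf : (@LocallyQuasiFinite ⊓ @LocallyOfFiniteType : MorphismProperty Scheme.{u}) m.left := by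
      have h1 := srcP_of_locP_yon etLocalST_locallyQuasiFinite X.property Y.property f.hom hlqf g _
        ((yon S).map m) sqM
      exact h1 (𝟙 _) m (repWith_id _ M) (Category.id_comp _)
    have hm_qc : QuasiCompact m.left := by
      have hQ : IsQuasiCompactSp ((yon S).obj M) :=
        (Groth.Agent.S9917.result f).1 hqc Z hZ g _ _ _ sqM
      have : CompactSpace (Points ((yon S).obj M)) := compactSpace_points_of_isQuasiCompactSp hQ
      have : CompactSpace M.left := (Points.schemeHomeo M).symm.compactSpace
      have : IsAffine Z.left := hZ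
      exact (HasAffineProperty.iff_of_isAffine (P := @QuasiCompact)).2 inferInstance
    have : LocallyOfFiniteType m.left := hm_lqf.2
    have : LocallyQuasiFinite m.left := hm_lqf.1
    have : IsProper m.left := {}
    have hfin : IsFinite m.left := IsFinite.of_isProper_of_locallyQuasiFinite m.left
    have : IsAffine Z.left := hZ
    have : IsAffine M.left := isAffine_of_isAffineHom m.left
    exact ⟨M, m, _, sqM, this, hfin⟩
  have hconv : (∀ (k : AlgSp.FieldPt Y.obj) (Xk : AlgSp.Sp S) (fst : Xk ⟶ X.obj)
        (snd : Xk ⟶ (AlgSp.yon S).obj k.pt),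
          IsPullback fst snd f.hom k.toHom → DiscreteTopology (AlgSp.Points Xk)) →
      ∀ (k : Type u) [Field k] (str : Spec (CommRingCat.of k) ⟶ S)
        (y : (AlgSp.yon S).obj (Over.mk str) ⟶ Y.obj)
        (P : AlgSp.Sp S) (fst : P ⟶ X.obj) (snd : P ⟶ (AlgSp.yon S).obj (Over.mk str)),
        IsPullback fst snd f.hom y → DiscreteTopology (AlgSp.Points P) := by
    intro H k _ str y P fst snd sq
    let p : AlgSp.FieldPt Y.obj := ⟨k, str, (J S).uliftYonedaEquiv y⟩
    have hp : p.toHom = y := Equiv.symm_apply_apply _ _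
    exact H p P fst snd (by rw [hp]; exact sq)
  tfae_have 1 → 2 := by
    intro hf
    obtain ⟨haff, hprop⟩ := (Groth.Agent.S10271.result f).1 hf
    refine ⟨hprop, ?_⟩
    apply Groth.Agent.Lib.Helper17.locP_of_affine_base_change etLocalST_locallyQuasiFinite
    intro Z hZ g U a k ha hc
    obtain ⟨W, i, φ, sqW, hW, hi⟩ := hf hZ g
    have sq := IsPullback.of_hasPullback f.hom g
    have e : (sq.isoIsPullback _ _ sqW).hom ≫ (yon S).map i = pullback.snd f.hom g :=
      IsPullback.isoIsPullback_hom_snd _ _ sq sqW
    obtain ⟨a', ha'⟩ := (yon S).map_surjective (a ≫ (sq.isoIsPullback _ _ sqW).hom)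
    have hae : RepWith @Etale ((yon S).map a') := by
      rw [ha']
      exact ((RepWith (S := S) @Etale).cancel_right_of_respectsIso a
        (sq.isoIsPullback _ _ sqW).hom).2 ha
    have hae' : Etale a'.left := (repWith_yon_map_iff _ _).1 hae
    have hk : a' ≫ i = k := by
      apply (yon S).map_injective
      rw [Functor.map_comp, ha', Category.assoc, e, hc]
    have : IsFinite i.left := hi
    rw [← hk, Over.comp_left]
    have : LocallyQuasiFinite a'.left := locallyQuasiFinite_of_unramified a'.left
    exact ⟨inferInstance, inferInstance⟩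
  tfae_have 2 → 1 := h21
  tfae_have 2 → 3 := by
    rintro ⟨hprop, hlqf⟩
    refine ⟨hprop, ?_⟩
    intro k Xk fst snd sq
    have hP : AlgSp.IsAlgSpace Xk :=
      isAlgSpace_of_isPullback X.property Y.property.diag (AlgSp.IsAlgSpace.yon_obj _) sq
    exact DimZero.discreteTopology_points_of_locP_lqf hP snd
      (locP_of_isPullback etLocalST_locallyQuasiFinite X.property Y.property sq hlqf)
  tfae_have 3 → 4 := by
    rintro ⟨⟨hsep, ⟨hlft, hqc⟩, huc⟩, H⟩
    exact ⟨huc, hsep, hlft, H⟩
  tfae_have 4 → 2 := by
    rintro ⟨huc, hsep, hlft, H⟩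
    refine ⟨⟨hsep, ⟨hlft, isQuasiCompactMor_of_isUnivClosedMor X.property Y.property f.hom huc⟩, huc⟩, ?_⟩
    exact (Groth.Agent.S9955.result f hlft).2 (hconv H)
  tfae_finish
end Groth.Agent.S10649
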