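import Groth.Statements.S10650
import Mathlib
import Groth.Agent.S10649
import Groth.Agent.Lib.Helper16.QfLocus
import Groth.Agent.Lib.Helper15.OpenSubspace
import Groth.Agent.Lib.Helper17.AlgSpProper
open Groth.Agent.Lib.Helper16 Groth.Agent.Lib.Helper15 Groth.Agent.Lib.Helper16.QfAt

set_option autoImplicit false
universe u
open CategoryTheory CategoryTheory.Limits AlgebraicGeometry
open AlgSp

namespace Groth.Agent.S10650

/-- For a proper morphism f : X ⟶ Y of algebraic spaces over S and a point y of |Y| such that f is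
quasi-finite at every point of |X| lying over y (for each such point some etale chart diagram
through it has top arrow locally quasi-finite and locally of finite type on an open neighbourhood),
there is an open subspace V of Y containing y such that the base change X ×_Y V ⟶ V is finite. -/
theorem result {S : Scheme.{u}} {X Y : AlgSp.Space S} (f : X ⟶ Y) (y : AlgSp.Points Y.obj)
    (hf : AlgSp.IsProperMor f.hom)
    (hq : ∀ x : AlgSp.Points X.obj, AlgSp.Points.map f.hom x = y →
      AlgSp.HasAtMor (fun U _ h u => ∃ W : U.Opens, u ∈ W ∧ LocallyQuasiFinite (W.ι ≫ h) ∧ LocallyOfFiniteType (W.ι ≫ h)) f.hom x) :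
    ∃ (V : AlgSp.Space S) (j : V ⟶ Y), AlgSp.RepWith @IsOpenImmersion j.hom ∧
      y ∈ Set.range (AlgSp.Points.map j.hom) ∧
        ∀ (P : AlgSp.Space S) (fst : P ⟶ X) (snd : P ⟶ V), IsPullback fst.hom snd.hom f.hom j.hom →
          AlgSp.IsFiniteMor snd.hom := by
  have hlft : LocP @LocallyOfFiniteType f.hom := hf.2.1.1
  have huc : IsUnivClosedMor f.hom := hf.2.2
  have hcl : IsClosedMap (Points.map f.hom) :=
    huc Y.property (𝟙 Y.obj) (𝟙 X.obj) f.hom IsPullback.of_id_fst
  have hopen : IsOpen (qfLocus f.hom) := isOpen_qfLocus f.hom hlft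
  set Vs : Set (Points Y.obj) := (Points.map f.hom '' (qfLocus f.hom)ᶜ)ᶜ with hVs
  have hVo : IsOpen Vs := (hcl _ hopen.isClosed_compl).isOpen_compl
  have hyV : y ∈ Vs := by
    rintro ⟨x, hx, hxy⟩
    exact hx ((mem_qfLocus_iff_hasAtMor_open f.hom hlft x).2 (hq x hxy))
  have hV' : AlgSp.IsAlgSpace (openSub Y.obj Vs) := isAlgSpace_openSub Y.property Vs hVo
  refine ⟨⟨openSub Y.obj Vs, hV'⟩, ObjectProperty.homMk (openSubι Y.obj Vs),
    repWith_isOpenImmersion_openSubι Vs hVo, ?_, ?_⟩
  · change y ∈ Set.range (AlgSp.Points.map (openSubι Y.obj Vs))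
    rw [range_map_openSubι]
    exact hyV
  · intro P fst snd sq
    change IsPullback fst.hom snd.hom f.hom (openSubι Y.obj Vs) at sq
    have hprop' : IsProperMor snd.hom :=
      Groth.Agent.Lib.Helper17.isProperMor_of_isPullback X.property Y.property sq hf
    have hlft' : LocP @LocallyOfFiniteType snd.hom := hprop'.2.1.1
    have hall : ∀ p : Points P.obj, p ∈ qfLocus snd.hom := by
      intro p
      rw [qfLocus_baseChange X.property Y.property hV' sq hlft p]
      by_contra hx
      have h1 : Points.map (openSubι Y.obj Vs) (Points.map snd.hom p) ∈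
          Set.range (Points.map (openSubι Y.obj Vs)) := ⟨_, rfl⟩
      rw [range_map_openSubι] at h1
      apply h1
      refine ⟨Points.map fst.hom p, hx, ?_⟩
      rw [← Points.map_comp, ← Points.map_comp, sq.w]
    have hlqf' : LocP (@LocallyQuasiFinite ⊓ @LocallyOfFiniteType) snd.hom := by
      intro U' V' a' b' m' ha' hb' hc'
      have hm : LocallyOfFiniteType m'.left := hlft' _ _ m' ha' hb' hc'
      refine ⟨?_, hm⟩
      rw [← Scheme.Hom.quasiFiniteLocus_eq_top_iff]
      refine top_le_iff.1 fun u' _ => ?_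
      rw [Scheme.Hom.mem_quasiFiniteLocus]
      exact (mem_qfLocus_iff snd.hom hlft' a' b' m' ha' hb' hc' u').1 (hall _)
    have htf := (Groth.Agent.S10649.result snd).out 1 0
    exact htf.1 ⟨hprop', hlqf'⟩
end Groth.Agent.S10650
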