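import Groth.Statements.S10460
import Groth.Agent.Lib.Helper16.DimF10
import Groth.Agent.S10459

open Groth.Agent.Lib.Helper16 Groth.Agent.Lib.Helper16.DimF Groth.Agent.Lib.Helper16.QfAt
open Groth.Agent.Lib.Helper12.SchemeDimIneq Groth.Agent.Lib.Helper12.SchemeDimFT
open Groth.Agent.Lib.Helper12.WithBotENat

set_option autoImplicit false
universe u
open CategoryTheory CategoryTheory.Limits AlgebraicGeometry Topology TopologicalSpace
open AlgSp

namespace Groth.Agent.S10460

/-- Let f : X ⟶ Y be a proper dominant morphism between integral algebraic spaces over a scheme S, with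
Y locally Noetherian, and let r be the transcendence degree of the generic point of X over the
generic point of Y. Then dim X = dim Y + r. -/
theorem result {S : Scheme.{u}} {X Y : AlgSp.Space S} (f : X ⟶ Y)
    (hY : AlgSp.IsLocNoethSp Y.obj) (hXi : AlgSp.IsIntegralSp X.obj) (hYi : AlgSp.IsIntegralSp Y.obj)
    (hd : AlgSp.IsDominantMor f.hom) (hp : AlgSp.IsProperMor f.hom)
    (x : AlgSp.Points X.obj) (hx : IsGenericPoint x (Set.univ : Set (AlgSp.Points X.obj))) (r : ℕ)
    (hr : AlgSp.HasAtMor (fun _ _ h u => Dual3.resTrdeg h u = (r : Cardinal.{u})) f.hom x) :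
    AlgSp.dim X.obj = AlgSp.dim Y.obj + ((r : ℕ∞) : WithBot ℕ∞) := by
  apply le_antisymm
  · exact Groth.Agent.S10459.result f hY hXi hYi hd hp.2.1.1 x hx r hr
  · have hXd := hXi.2.1
    have hYd := hYi.2.1
    have hcl : IsClosedMap (Points.map f.hom) :=
      hp.2.2 Y.property (𝟙 Y.obj) (𝟙 X.obj) f.hom (IsPullback.id_horiz f.hom)
    have hd' : DenseRange (Points.map f.hom) := hd
    have hy : IsGenericPoint (Points.map f.hom x) (Set.univ : Set (Points Y.obj)) := by
      have h1 := hx.image (Points.continuous_map f.hom)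
      rwa [Set.image_univ, hd'.closure_range] at h1
    unfold AlgSp.dim
    have hr' : ((r : ℕ∞) : WithBot ℕ∞) = ((r : ℕ) : WithBot ℕ∞) := rfl
    rw [hr']
    refine iSup_add_nat_le _ r _ fun V => iSup_add_nat_le _ r _ fun b => iSup_add_nat_le _ r _ fun hb => ?_
    rw [EtDim.topologicalKrullDim_eq_krullDim, Order.krullDim_eq_iSup_coheight]
    refine iSup_add_nat_le _ r _ fun v => ?_
    refine enat_add_nat_le _ r _ fun n hn => ?_
    obtain ⟨U₀, a₀, ha₀e, ha₀s⟩ := X.property.atlas
    obtain ⟨U, h, c, hae, hac, hce, sq, -⟩ := exists_chart_diagram f.hom b hb a₀ ha₀e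
    have hlift : ∀ (v : ↥V.left) (x' : Points X.obj), Points.map f.hom x' = Points.ofPt b v →
        ∃ u : ↥U.left, h.left u = v ∧ Points.ofPt ((yon S).map c ≫ a₀) u = x' := by
      intro v x' hx'
      obtain ⟨u₀, rfl⟩ := ofPt_surjective_of_surjective a₀ ha₀s x'
      obtain ⟨w, hw1, hw2⟩ := exists_point_of_isPullback_yon_yon sq v u₀
        (by rw [← hx', Points.map_ofPt])
      exact ⟨w, hw1, by rw [ofPt_yon_map_comp, hw2]⟩
    have : LocallyOfFiniteType h.left := hp.2.1.1 _ _ h hae hb hac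
    have hbase : ∀ ξ : ↥V.left, IsMaxPt ξ → ∃ u₀ : ↥U.left, h.left u₀ = ξ ∧ (r : ℕ∞) ≤ trn h.left u₀ := by
      intro ξ hξ
      have h0 : HasAt (fun U u => ringKrullDim ↥(U.presheaf.stalk u) = 0) Y.obj (Points.ofPt b ξ) :=
        (hasAt_dim_iff b hb ξ 0).2 ((isMaxPt_iff_dim_zero ξ).1 hξ)
      have e := eq_generic_of_codimZero Y hYi _ hy _ h0
      obtain ⟨u₀, hu₀1, hu₀2⟩ := hlift ξ x e.symm
      refine ⟨u₀, hu₀1, le_of_eq ?_⟩
      have hr2 := hr
      rw [← hu₀2] at hr2
      have h3 := (hasAtMor_resTrdeg_iff f.hom _ b h hae hb hac u₀ _).1 hr2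
      rw [trn_eq_toENat, h3]
      simp
    have hstep := fun (u : ↥U.left) (v' : ↥V.left) (hs : h.left u ⤳ v') =>
      exists_lift_step f hXd hYd hcl _ b h hae hb hac hlift u v' hs
    obtain ⟨u, hu1, hu2, hu3⟩ := exists_lift_chain h.left (r : ℕ∞) hbase hstep n v hn
    have hE := coheight_add_trn_le_tkd h.left u
    refine le_trans ?_ (le_trans hE (le_iSup_of_le U (le_iSup_of_le _ (le_iSup_of_le hae le_rfl))))
    rw [← WithBot.coe_add]
    apply WithBot.coe_le_coe.2
    push_cast
    exact add_le_add hu3 hu2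
end Groth.Agent.S10460
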