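import Groth.Statements.S10465
import Groth.Agent.Lib.Helper16.FieldBC
open Groth.Agent.Lib.Helper16

set_option autoImplicit false
universe u
open CategoryTheory CategoryTheory.Limits AlgebraicGeometry Topology TopologicalSpace
open AlgSp

namespace Groth.Agent.S10465

/-- For a field extension k'/k and an algebraic space X over k, geometric connectedness of X over k is
equivalent to geometric connectedness of its base change X_{k'} over k' (the base changes of X_{k'}
to extensions K of k' being the base changes X_K of X, geometric connectedness of X_{k'} over k'
reads: |X_K| is connected for every field K over k'). -/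
theorem result (k : Type u) [Field k] (X : AlgSp.Space (Spec (CommRingCat.of k))) (k' : Type u) [Field k'] [Algebra k k'] :
    (∀ (K : Type u) [Field K] [Algebra k K], ConnectedSpace (AlgSp.Points (X.obj ⨯ (AlgSp.yon (Spec (CommRingCat.of k))).obj (Over.mk (Spec.map (CommRingCat.ofHom (algebraMap k K))))))) ↔
      ∀ (K : Type u) [Field K] [Algebra k K] [Algebra k' K] [IsScalarTower k k' K],
        ConnectedSpace (AlgSp.Points (X.obj ⨯ (AlgSp.yon (Spec (CommRingCat.of k))).obj (Over.mk (Spec.map (CommRingCat.ofHom (algebraMap k K)))))) := by
  constructor
  · intro h K _ _ _ _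
    exact h K
  · intro h K _ _
    obtain ⟨L, hL, a0, a1, a2, t1, t2⟩ := exists_compositum k K k'
    have hc := @h L hL a0 a2 t2
    let g : (Over.mk (Spec.map (CommRingCat.ofHom (algebraMap k L))) : Over (Spec (CommRingCat.of k))) ⟶
        Over.mk (Spec.map (CommRingCat.ofHom (algebraMap k K))) :=
      Over.homMk (Spec.map (CommRingCat.ofHom (algebraMap K L))) (by
        dsimp
        rw [← Spec.map_comp, ← CommRingCat.ofHom_comp, ← IsScalarTower.algebraMap_eq])
    have hsurj : Surjective g.left := by
      refine ⟨fun x => ?_⟩
      have : Nonempty ↥(Spec (CommRingCat.of L)) := inferInstance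
      obtain ⟨y⟩ := this
      exact ⟨y, Subsingleton.elim (α := PrimeSpectrum K) _ _⟩
    have hs := surjective_points_prod_map X.obj g
    exact hs.connectedSpace (AlgSp.Points.continuous_map _)

end Groth.Agent.S10465
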