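import Groth.Statements.S10481
import Groth.Agent.Lib.Helper16.GeomRedSp
open Groth.Agent.Lib.Helper16

set_option autoImplicit false
universe u
open CategoryTheory CategoryTheory.Limits AlgebraicGeometry Topology TopologicalSpace
open AlgSp

namespace Groth.Agent.S10481

/-- Let k be a field, f : X ⟶ Y a morphism of algebraic spaces over k and x a point of X at which f is
etale. Then X is geometrically reduced at x if and only if Y is geometrically reduced at the image
of x. -/
theorem result (k : Type u) [Field k] {X Y : AlgSp.Space (Spec (CommRingCat.of k))} (f : X ⟶ Y)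
    (x : AlgSp.Points X.obj)
    (he : AlgSp.HasAtMor (fun U _ h u => ∃ W : U.Opens, u ∈ W ∧ Etale (W.ι ≫ h)) f.hom x) :
    (∃ (U : Over (Spec (CommRingCat.of k))) (a : (AlgSp.yon (Spec (CommRingCat.of k))).obj U ⟶ X.obj) (u : ↥U.left),
      AlgSp.RepWith @Etale a ∧ AlgSp.Points.ofPt a u = x ∧ FBase.IsGeomReducedAt U.hom u) ↔ (∃ (U : Over (Spec (CommRingCat.of k))) (a : (AlgSp.yon (Spec (CommRingCat.of k))).obj U ⟶ Y.obj) (u : ↥U.left),
      AlgSp.RepWith @Etale a ∧ AlgSp.Points.ofPt a u = (AlgSp.Points.map f.hom x) ∧ FBase.IsGeomReducedAt U.hom u) := by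
  obtain ⟨U, V, a, b, h, u, ha, hb, hcomm, hu, W, huW, hW⟩ := he
  -- the chart-level equivalence
  have key : FBase.IsGeomReducedAt U.hom u ↔ FBase.IsGeomReducedAt V.hom (h.left u) := by
    let WO : Over (Spec (CommRingCat.of k)) := Over.mk (W.ι ≫ U.hom)
    let j : WO ⟶ U := Over.homMk W.ι rfl
    let j' : WO ⟶ V := Over.homMk (W.ι ≫ h.left) (by
      show (W.ι ≫ h.left) ≫ V.hom = W.ι ≫ U.hom
      rw [Category.assoc, Over.w h])
    have : Etale j.left := inferInstanceAs (Etale W.ι)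
    have : Etale j'.left := hW
    have h1 := GeomRed.isGeomReducedAt_iff_of_over j (⟨u, huW⟩ : W)
    have h2 := GeomRed.isGeomReducedAt_iff_of_over j' (⟨u, huW⟩ : W)
    exact h1.symm.trans h2
  have hy : AlgSp.Points.ofPt b (h.left u) = AlgSp.Points.map f.hom x := by
    rw [← ofPt_yon_map_comp, ← hcomm, ← hu]
    rfl
  constructor
  · rintro ⟨U₁, a₁, u₁, ha₁, hu₁, hred⟩
    refine ⟨V, b, h.left u, hb, hy, key.1 ?_⟩
    exact (GeomRed.isGeomReducedAt_iff_of_charts a₁ ha₁ a ha u₁ u (hu₁.trans hu.symm)).1 hred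
  · rintro ⟨V₁, b₁, v₁, hb₁, hv₁, hred⟩
    refine ⟨U, a, u, ha, hu, key.2 ?_⟩
    exact (GeomRed.isGeomReducedAt_iff_of_charts b₁ hb₁ b hb v₁ (h.left u) (hv₁.trans hy.symm)).1 hred
end Groth.Agent.S10481
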