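import Groth.Statements.S10482
import Groth.Agent.Lib.Helper16.DimZero
import Groth.Agent.Lib.Helper16.LocPSource
open Groth.Agent.Lib.Helper16

set_option autoImplicit false
universe u
open CategoryTheory CategoryTheory.Limits AlgebraicGeometry Topology TopologicalSpace
open AlgSp

namespace Groth.Agent.S10482

/-- (1) ⇔ (2): let k be a field and X an algebraic space over k. Then X is locally quasi-finite over k
if and only if X is locally of finite type over k of dimension at most 0. (The published statement
says dimension 0; dimension at most 0 is used so that the empty space, whose dimension is the bottom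
element, is covered by both sides.) -/
theorem result (k : Type u) [Field k] (X : AlgSp.Space (Spec (CommRingCat.of k))) (p : X.obj ⟶ (AlgSp.yon (Spec (CommRingCat.of k))).obj (Over.mk (𝟙 _))) :
    AlgSp.LocP (@LocallyQuasiFinite ⊓ @LocallyOfFiniteType : MorphismProperty Scheme.{u}) p ↔ AlgSp.LocP @LocallyOfFiniteType p ∧ AlgSp.dim X.obj ≤ 0 := by
  constructor
  · intro h
    refine ⟨locP_mono inf_le_right h, ?_⟩
    refine iSup_le fun U => iSup_le fun a => iSup_le fun ha => ?_
    have h1 := DimZero.prop_of_locP_terminal p h a ha
    have : LocallyQuasiFinite U.hom := h1.1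
    refine (EtDim.topologicalKrullDim_le_of_locallyQuasiFinite U.hom).trans ?_
    have : DiscreteTopology ↥(Spec (CommRingCat.of k)) :=
      inferInstanceAs (DiscreteTopology (PrimeSpectrum k))
    exact topologicalKrullDim_zero_of_discreteTopology _
  · rintro ⟨hlft, hdim⟩
    intro U V a b m ha hb hcomm
    have hm : LocallyOfFiniteType m.left := hlft a b m ha hb hcomm
    refine ⟨?_, hm⟩
    have hU : LocallyOfFiniteType U.hom := DimZero.prop_of_locP_terminal p hlft a ha
    have : IsLocallyNoetherian U.left := LocallyOfFiniteType.isLocallyNoetherian U.hom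
    have h0 : topologicalKrullDim ↥U.left ≤ AlgSp.dim X.obj := by
      unfold AlgSp.dim
      exact le_iSup_of_le U (le_iSup_of_le a (le_iSup_of_le ha le_rfl))
    have hdU : topologicalKrullDim ↥U.left ≤ 0 := h0.trans hdim
    have : DiscreteTopology ↥U.left := DimZero.discreteTopology_of_topologicalKrullDim_le_zero _ hdU
    rw [locallyQuasiFinite_iff_isDiscrete_preimage_singleton]
    intro v
    exact DiscreteTopology.isDiscrete

end Groth.Agent.S10482
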