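import Groth.Statements.S10485
import Groth.Agent.Lib.Helper16.FibrePt
import Groth.Agent.S10338
open Groth.Agent.Lib.Helper16 Groth.Agent.Lib.Helper16.DimZero

set_option autoImplicit false
universe u
open CategoryTheory CategoryTheory.Limits AlgebraicGeometry Topology TopologicalSpace
open AlgSp

namespace Groth.Agent.S10485

/-- (4) ⇔ (5): let f : X ⟶ Y be a dominant morphism locally of finite type between integral algebraic
spaces over a scheme S, with generic points x and y. Then f is quasi-finite at x if and only if x is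
the only point of X mapping to y. -/
theorem result {S : Scheme.{u}} {X Y : AlgSp.Space S} (hXi : AlgSp.IsIntegralSp X.obj) (hYi : AlgSp.IsIntegralSp Y.obj)
    (f : X ⟶ Y) (hft : AlgSp.LocP @LocallyOfFiniteType f.hom) (hd : AlgSp.IsDominantMor f.hom)
    (x : AlgSp.Points X.obj) (hx : IsGenericPoint x (Set.univ : Set (AlgSp.Points X.obj)))
    (y : AlgSp.Points Y.obj) (hy : IsGenericPoint y (Set.univ : Set (AlgSp.Points Y.obj))) :
    AlgSp.HasAtMor (fun U _ h u => ∃ W : U.Opens, u ∈ W ∧ LocallyQuasiFinite (W.ι ≫ h) ∧ LocallyOfFiniteType (W.ι ≫ h)) f.hom x ↔ (∀ x' : AlgSp.Points X.obj, AlgSp.Points.map f.hom x' = y → x' = x) := by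

  have hX := X.property
  have hY := Y.property
  have hdX := hXi.2.1
  have hdY := hYi.2.1
  have hT0Y : T0Space (AlgSp.Points Y.obj) := Groth.Agent.S10338.result Y hdY
  have hfx : AlgSp.Points.map f.hom x = y := by
    have hgen : IsGenericPoint (AlgSp.Points.map f.hom x) (Set.univ) := by
      have := hx.image (AlgSp.Points.continuous_map f.hom)
      rw [Set.image_univ, hd.closure_range] at this
      exact this
    exact hgen.eq hy
  rw [← QfAt.mem_qfLocus_iff_hasAtMor_open f.hom hft x]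
  constructor
  · intro hq x' hx'
    obtain ⟨Xk₀, hXk₀, r₀, fst₀, snd₀, sq₀, hr₀, φ, hφ⟩ :=
      FibrePt.exists_fibre_homeomorph hX hY f.hom hdY y
    have hch₀ := FibrePt.chartsNJ_fibre hX hY f.hom hft r₀ fst₀ snd₀ sq₀
    have hxt : AlgSp.Points.map fst₀ (φ.symm ⟨x, hfx⟩) = x := by rw [← hφ]; simp
    have hxt' : AlgSp.Points.map fst₀ (φ.symm ⟨x', hx'⟩) = x' := by rw [← hφ]; simp
    have hopen : IsOpen ({φ.symm ⟨x, hfx⟩} : Set (AlgSp.Points Xk₀)) :=
      (FibrePt.isOpen_singleton_iff_mem_qfLocus hX hY f.hom hft r₀ fst₀ snd₀ sq₀ hXk₀ _).2 (hxt.symm ▸ hq)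
    have hclosed := Gen.isClosed_singleton_of_isOpen_singleton hch₀ hXk₀ _ hopen
    have hspec : φ.symm ⟨x, hfx⟩ ⤳ φ.symm ⟨x', hx'⟩ := by
      have h1 : x ⤳ x' := hx.specializes (Set.mem_univ _)
      have h2 : (⟨x, hfx⟩ : ↥(AlgSp.Points.map f.hom ⁻¹' {y})) ⤳ ⟨x', hx'⟩ := by
        rw [subtype_specializes_iff]; exact h1
      exact h2.map φ.symm.continuous
    have hmem : φ.symm ⟨x', hx'⟩ ∈ ({φ.symm ⟨x, hfx⟩} : Set (AlgSp.Points Xk₀)) :=
      hspec.mem_closed hclosed rfl
    have heq : φ.symm ⟨x', hx'⟩ = φ.symm ⟨x, hfx⟩ := hmem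
    rw [← hxt', ← hxt, heq]
  · intro huniq
    have hfin : (AlgSp.Points.map f.hom ⁻¹' {y}).Finite := by
      refine (Set.finite_singleton x).subset ?_
      intro x' hx'
      exact huniq x' hx'
    exact FibrePt.mem_qfLocus_of_finite_fibre hX hY f.hom hft hdX y hfin x hfx

end Groth.Agent.S10485
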