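import Groth.Statements.S10486
import Groth.Agent.Lib.Helper16.DimF4
import Groth.Agent.S10455
import Groth.Agent.S10457
import Groth.Agent.S10485

open Groth.Agent.Lib.Helper16 Groth.Agent.Lib.Helper16.DimF Groth.Agent.Lib.Helper16.QfAt
open Groth.Agent.Lib.Helper12.SchemeDimIneq Groth.Agent.Lib.Helper12.SchemeDimFT

set_option autoImplicit false
universe u
open CategoryTheory CategoryTheory.Limits AlgebraicGeometry Topology TopologicalSpace
open AlgSp

namespace Groth.Agent.S10486

/-- (1) ⇔ (5): let f : X ⟶ Y be a dominant morphism locally of finite type between integral algebraic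
spaces over a scheme S, with generic points x and y. Then the transcendence degree of x over y is 0
if and only if x is the only point of X mapping to y. -/
theorem result {S : Scheme.{u}} {X Y : AlgSp.Space S} (hXi : AlgSp.IsIntegralSp X.obj) (hYi : AlgSp.IsIntegralSp Y.obj)
    (f : X ⟶ Y) (hft : AlgSp.LocP @LocallyOfFiniteType f.hom) (hd : AlgSp.IsDominantMor f.hom)
    (x : AlgSp.Points X.obj) (hx : IsGenericPoint x (Set.univ : Set (AlgSp.Points X.obj)))
    (y : AlgSp.Points Y.obj) (hy : IsGenericPoint y (Set.univ : Set (AlgSp.Points Y.obj))) :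
    AlgSp.HasAtMor (fun _ _ h u => Dual3.resTrdeg h u = 0) f.hom x ↔ (∀ x' : AlgSp.Points X.obj, AlgSp.Points.map f.hom x' = y → x' = x) := by
  rw [← Groth.Agent.S10485.result hXi hYi f hft hd x hx y hy,
    ← mem_qfLocus_iff_hasAtMor_open f.hom hft x]
  constructor
  · intro hr
    exact mem_qfLocus_of_codimZero_of_resTrdeg_zero f.hom hft x
      (hasAt_dim_zero_of_isGenericPoint X hXi x hx) hr
  · intro hq
    exact hasAtMor_resTrdeg_zero_of_mem_qfLocus f.hom hft x hq

end Groth.Agent.S10486
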