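-- Statement S10489.
import Groth.Statements.S10489
import Mathlib
import Groth.Agent.Lib.Helper26.RegularSch

set_option autoImplicit false
universe u
open CategoryTheory CategoryTheory.Limits AlgebraicGeometry Topology TopologicalSpace
open AlgSp

namespace Groth.Agent.S10489

/-- Let k be a field and X an algebraic space which is smooth over k. Then X is regular as an algebraic
space. -/
theorem result (k : Type u) [Field k] (X : AlgSp.Space (Spec (CommRingCat.of k))) (p : X.obj ⟶ (AlgSp.yon (Spec (CommRingCat.of k))).obj (Over.mk (𝟙 _))) (hp : AlgSp.LocP @Smooth p) :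
    AlgSp.EtaleLocally (fun U => IsLocallyNoetherian U ∧ ∀ u : ↥U, IsRegularLocalRing ↥(U.presheaf.stalk u)) X.obj := by
  obtain ⟨U, a, hae, has⟩ := X.property.atlas
  refine ⟨U, a, hae, has, ?_⟩
  let h : U ⟶ Over.mk (𝟙 (Spec (CommRingCat.of k))) := Over.mkIdTerminal.from U
  have key : a ≫ p = (AlgSp.yon _).map h ≫ 𝟙 _ := by
    apply Sheaf.hom_ext
    ext V s
    apply ULift.ext
    exact Over.mkIdTerminal.hom_ext _ _
  have hsm : Smooth h.left := hp a (𝟙 _) h hae (AlgSp.repWith_id _ _) key
  haveI := hsm
  have hN : IsLocallyNoetherian U.left :=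
    LocallyOfFiniteType.isLocallyNoetherian (Y := Spec (CommRingCat.of k)) h.left
  exact ⟨hN, fun u =>
    Groth.Agent.Lib.Helper26.RegularSch.isRegularLocalRing_stalk_of_smooth_field k h.left u⟩

end Groth.Agent.S10489
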