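import Groth.Statements.S10491
import Groth.Agent.Lib.Helper16.Charts
import Groth.Agent.Lib.Helper16.QuasiCompact

open Groth.Agent.Lib.Helper16

set_option autoImplicit false
universe u
open CategoryTheory CategoryTheory.Limits AlgebraicGeometry Topology TopologicalSpace
open AlgSp

namespace Groth.Agent.S10491

theorem finite_components_meeting_range {A B : Type*} [TopologicalSpace A] [TopologicalSpace B]
    [NoetherianSpace A] (p : A → B) (hp : Continuous p) (hN : IsOpen (Set.range p)) (T : Set B)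
    (hT : IsClosed T) :
    {Z : Set ↥T | Z ∈ irreducibleComponents ↥T ∧ ((Subtype.val '' Z) ∩ Set.range p).Nonempty}.Finite := by
  classical
  obtain ⟨Sc, hSf, hSc, hSi, hSU⟩ :=
    NoetherianSpace.exists_finite_set_isClosed_irreducible (hT.preimage hp)
  let D : Set A → Set ↥T := fun C => {t | ∃ a ∈ C, p a = t.1}
  have hCT : ∀ C ∈ Sc, ∀ a ∈ C, p a ∈ T := by
    intro C hC a ha
    have : a ∈ p ⁻¹' T := by
      rw [hSU]
      exact Set.mem_sUnion.2 ⟨C, hC, ha⟩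
    exact this
  have hD : ∀ C ∈ Sc, IsIrreducible (D C) := by
    intro C hC
    obtain ⟨hne, hpre⟩ := hSi C hC
    constructor
    · obtain ⟨a, ha⟩ := hne
      exact ⟨⟨p a, hCT C hC a ha⟩, a, ha, rfl⟩
    · rintro O₁ O₂ hO₁ hO₂ ⟨t₁, ⟨a₁, ha₁, e₁⟩, ht₁⟩ ⟨t₂, ⟨a₂, ha₂, e₂⟩, ht₂⟩
      obtain ⟨O₁', hO₁', rfl⟩ := isOpen_induced_iff.1 hO₁
      obtain ⟨O₂', hO₂', rfl⟩ := isOpen_induced_iff.1 hO₂
      have m₁ : a₁ ∈ p ⁻¹' O₁' := by
        show p a₁ ∈ O₁'
        rw [e₁]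
        exact ht₁
      have m₂ : a₂ ∈ p ⁻¹' O₂' := by
        show p a₂ ∈ O₂'
        rw [e₂]
        exact ht₂
      obtain ⟨a, haC, ha1, ha2⟩ := hpre (p ⁻¹' O₁') (p ⁻¹' O₂') (hO₁'.preimage hp) (hO₂'.preimage hp)
        ⟨a₁, ha₁, m₁⟩ ⟨a₂, ha₂, m₂⟩
      exact ⟨⟨p a, hCT C hC a haC⟩, ⟨a, haC, rfl⟩, ha1, ha2⟩
  choose! Zc hZc hDZ using fun C (hC : C ∈ Sc) =>
    exists_mem_irreducibleComponents_subset_of_isIrreducible (D C) (hD C hC)
  refine (hSf.image Zc).subset ?_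
  rintro Z ⟨hZ, t, ⟨t', ht'Z, rfl⟩, a₀, ha₀⟩
  let G : Set ↥T := (Subtype.val ⁻¹' Set.range p)ᶜ
  let 𝒯 : Finset (Set ↥T) := insert G (hSf.toFinset.image (fun C => closure (D C)))
  have hcl : ∀ z ∈ 𝒯, IsClosed z := by
    intro z hz
    rcases Finset.mem_insert.1 hz with rfl | hz
    · exact (hN.preimage continuous_subtype_val).isClosed_compl
    · obtain ⟨C, -, rfl⟩ := Finset.mem_image.1 hz
      exact isClosed_closure
  have hcov : Z ⊆ ⋃₀ (𝒯 : Set (Set ↥T)) := by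
    intro z hz
    by_cases hzr : z.1 ∈ Set.range p
    · obtain ⟨a, ha⟩ := hzr
      have haT : a ∈ p ⁻¹' T := by
        show p a ∈ T
        rw [ha]
        exact z.2
      rw [hSU] at haT
      obtain ⟨C, hC, haC⟩ := Set.mem_sUnion.1 haT
      refine Set.mem_sUnion.2 ⟨closure (D C), ?_, subset_closure ⟨a, haC, ha⟩⟩
      exact Finset.mem_coe.2 (Finset.mem_insert_of_mem
        (Finset.mem_image.2 ⟨C, hSf.mem_toFinset.2 hC, rfl⟩))
    · exact Set.mem_sUnion.2 ⟨G, Finset.mem_coe.2 (Finset.mem_insert_self _ _), hzr⟩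
  obtain ⟨z, hz, hZz⟩ := (isIrreducible_iff_sUnion_isClosed.1 hZ.1) 𝒯 hcl hcov
  rcases Finset.mem_insert.1 hz with rfl | hz
  · exact absurd ⟨a₀, ha₀⟩ (hZz ht'Z)
  · obtain ⟨C, hC', rfl⟩ := Finset.mem_image.1 hz
    have hC : C ∈ Sc := hSf.mem_toFinset.1 hC'
    have hZcl : IsClosed (Zc C) := isClosed_of_mem_irreducibleComponents _ (hZc C hC)
    have h1 : Z ⊆ Zc C := hZz.trans (hZcl.closure_subset_iff.2 (hDZ C hC))
    have h2 : Zc C ⊆ Z := hZ.2 (hZc C hC).1 h1
    exact ⟨C, hC, subset_antisymm h2 h1⟩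


/-- Let X be an algebraic space over a scheme S which is locally Noetherian, and T ⊂ |X| a closed
subset. Then every point of |X| has a neighbourhood meeting only finitely many irreducible
components of T. -/
theorem result {S : Scheme.{u}} (X : AlgSp.Space S)
    (hX : AlgSp.IsLocNoethSp X.obj) (T : Set (AlgSp.Points X.obj)) (hT : IsClosed T) :
    LocallyFinite (fun Z : ↥(irreducibleComponents ↥T) => ((↑) : ↥T → AlgSp.Points X.obj) '' (Z : Set ↥T)) := by
  intro x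
  obtain ⟨U, p, hpe, hps, hUN⟩ := hX
  have hUN' : IsLocallyNoetherian U.left := hUN
  obtain ⟨u, rfl⟩ := ofPt_surjective_of_surjective p hps x
  obtain ⟨_, ⟨A, hA, rfl⟩, huA, -⟩ := U.left.isBasis_affineOpens.exists_subset_of_mem_open
    (Set.mem_univ u) isOpen_univ
  have hNR : IsNoetherianRing Γ(U.left, A) := IsLocallyNoetherian.component_noetherian ⟨A, hA⟩
  have hNA : NoetherianSpace ↥A := noetherianSpace_of_isAffineOpen A hA
  let q : ↥A → AlgSp.Points X.obj := fun a => AlgSp.Points.ofPt p a.1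
  have hq : Continuous q := (AlgSp.Points.continuous_ofPt p).comp continuous_subtype_val
  have hrange : Set.range q = AlgSp.Points.ofPt p '' (A : Set ↥U.left) := by
    ext y
    constructor
    · rintro ⟨a, rfl⟩
      exact ⟨a.1, a.2, rfl⟩
    · rintro ⟨a, ha, rfl⟩
      exact ⟨⟨a, ha⟩, rfl⟩
  have hopen : IsOpen (Set.range q) := by
    rw [hrange]
    exact isOpenMap_ofPt_of_etale p hpe _ A.2
  refine ⟨Set.range q, hopen.mem_nhds ⟨⟨u, huA⟩, rfl⟩, ?_⟩
  have hfin := finite_components_meeting_range q hq hopen T hT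
  refine (hfin.preimage Subtype.val_injective.injOn).subset ?_
  intro Z hZ
  exact ⟨Z.2, hZ⟩

end Groth.Agent.S10491
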