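import Groth.Statements.S10492
import Groth.Agent.Lib.Helper16.Birat5

open Groth.Agent.Lib.Helper15 Groth.Agent.Lib.Helper16 Groth.Agent.Lib.Helper16.Birat Groth.Agent.Lib.Helper16.SchLocus

set_option autoImplicit false
universe u
open CategoryTheory CategoryTheory.Limits AlgebraicGeometry Topology TopologicalSpace
open AlgSp

namespace Groth.Agent.S10492

/-- Let X be a normal integral algebraic space over a scheme S. Each point x of X lies in the image of
some etale morphism U ⟶ X from an affine scheme U that is normal and integral. -/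
theorem result {S : Scheme.{u}} (X : AlgSp.Space S)
    (hXi : AlgSp.IsIntegralSp X.obj)
    (hXn : AlgSp.EtaleLocally (fun U => ∀ u : ↥U, IsDomain ↥(U.presheaf.stalk u) ∧
      IsIntegrallyClosed ↥(U.presheaf.stalk u)) X.obj)
    (x : AlgSp.Points X.obj) :
    ∃ (U : Over S) (a : (AlgSp.yon S).obj U ⟶ X.obj), AlgSp.RepWith @Etale a ∧ IsAffine U.left ∧
      IsIntegral U.left ∧ IsIntegrallyClosed ↥Γ(U.left, ⊤) ∧ x ∈ Set.range (AlgSp.Points.ofPt a) := by
  classical
  obtain ⟨hXr, hXd, hXirr⟩ := hXi
  obtain ⟨T, q, hqe, hqs, hTn0⟩ := hXn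
  have hTn : ∀ t : ↥T.left, IsDomain ↥(T.left.presheaf.stalk t) ∧
      IsIntegrallyClosed ↥(T.left.presheaf.stalk t) := hTn0
  have hXf : (irreducibleComponents (AlgSp.Points X.obj)).Finite := by
    rw [irreducibleComponents_eq_singleton]
    exact Set.finite_singleton _
  obtain ⟨t, rfl⟩ := ofPt_surjective_of_surjective q hqs x
  obtain ⟨_, ⟨A, hA, rfl⟩, htA, -⟩ := T.left.isBasis_affineOpens.exists_subset_of_mem_open
    (Set.mem_univ t) isOpen_univ
  have hAaff : IsAffine (overOpen T A).left := hA
  have hfin : (irreducibleComponents ↥(overOpen T A).left).Finite :=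
    finite_irreducibleComponents_of_etale_chart X hXd hXf _ (repWith_etale_restrict q hqe A)
  have hdom : IsDomain (T.left.presheaf.stalk t) := (hTn t).1
  obtain ⟨O, hO, htO, -, ξ, hξ, hsp⟩ := exists_irreducible_affine_nhd A hfin t htA
  have hnorm : ∀ v : ↥(overOpen T O).left,
      IsDomain ↥((overOpen T O).left.presheaf.stalk v) ∧
        IsIntegrallyClosed ↥((overOpen T O).left.presheaf.stalk v) :=
    fun v => normal_stalk_of_isOpenImmersion O.ι hTn v
  have hredV : IsReduced (overOpen T O).left := by
    have : ∀ v : ↥(overOpen T O).left,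
        _root_.IsReduced ↥((overOpen T O).left.presheaf.stalk v) := fun v => by
      have := (hnorm v).1
      infer_instance
    exact isReduced_of_isReduced_stalk _
  have hirrV : IrreducibleSpace ↥(overOpen T O).left := by
    refine irreducibleSpace_of_forall_specializes (⟨ξ, hξ⟩ : ↥O) ?_
    intro o
    exact (IsInducing.subtypeVal.specializes_iff).1 (hsp o.1 o.2)
  have hintV : IsIntegral (overOpen T O).left := isIntegral_of_irreducibleSpace_of_isReduced _
  have hVaff : IsAffine (overOpen T O).left := hO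
  have hne : Nonempty (⊤ : (overOpen T O).left.Opens) := ⟨⟨(⟨t, htO⟩ : ↥O), trivial⟩⟩
  refine ⟨overOpen T O, (AlgSp.yon S).map (overOpenι T O) ≫ q, repWith_etale_restrict q hqe O, hVaff, hintV,
    Groth.Agent.Lib.Helper12.NormChar.isIntegrallyClosed_sections (fun y _ => (hnorm y).2)
      (isAffineOpen_top _), (⟨t, htO⟩ : ↥O), ?_⟩
  rw [ofPt_restrict]
  rfl

end Groth.Agent.S10492
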