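import Groth.Statements.S10494
import Groth.Agent.S10242
import Groth.Agent.Lib.Helper16.Charts

open Groth.Agent.Lib.Helper16

set_option autoImplicit false
universe u
open CategoryTheory CategoryTheory.Limits AlgebraicGeometry Topology TopologicalSpace
open AlgSp

namespace Groth.Agent.S10494

theorem down_compat {S : Scheme.{u}} {X : AlgSp.Sp S} {E₁ E₂ : AlgSp.EtOver X} (g : E₁ ⟶ E₂)
    (f : ↥(AlgSp.gsectEt (AlgSp.OEt X))) :
    ((limit.π (AlgSp.OEt X).obj (Opposite.op E₁)) f).down =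
      g.hom.left.left.appTop.hom ((limit.π (AlgSp.OEt X).obj (Opposite.op E₂)) f).down := by
  have h := ConcreteCategory.congr_hom (limit.w (AlgSp.OEt X).obj g.op) f
  rw [ConcreteCategory.comp_apply, AlgSp.OEt_map] at h
  rw [← h]


/-- Let X be an integral algebraic space over a scheme S. Then Γ(X, O_X) is a domain. -/
theorem result {S : Scheme.{u}} (X : AlgSp.Space S)
    (hX : AlgSp.IsIntegralSp X.obj) : IsDomain ↥(AlgSp.gsectEt (AlgSp.OEt X.obj)) := by
  classical
  obtain ⟨hXr, hXd, hXirr⟩ := hX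
  have hzero := (Groth.Agent.S10242.result X hXr).2
  -- nontriviality
  have hnt : Nontrivial ↥(AlgSp.gsectEt (AlgSp.OEt X.obj)) := by
    obtain ⟨U, p, hpe, hps⟩ := X.property.atlas
    obtain ⟨x⟩ : Nonempty (AlgSp.Points X.obj) := inferInstance
    obtain ⟨u₀, -⟩ := ofPt_surjective_of_surjective p hps x
    have hne : Nonempty ↥U.left := ⟨u₀⟩
    refine ⟨⟨0, 1, fun h01 => ?_⟩⟩
    have h1 := congrArg (fun f => ((limit.π (AlgSp.OEt X.obj).obj (Opposite.op (AlgSp.EtOver.mk p hpe))) f).down) h01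
    simp only [map_zero, map_one] at h1
    have hne' : Nonempty (⊤ : U.left.Opens) := ⟨⟨u₀, trivial⟩⟩
    exact zero_ne_one (α := Γ(U.left, ⊤)) h1
  have key : ∀ f g : ↥(AlgSp.gsectEt (AlgSp.OEt X.obj)), f * g = 0 → f = 0 ∨ g = 0 := by
    intro f g hfg
    let Dset : ↥(AlgSp.gsectEt (AlgSp.OEt X.obj)) → Set (AlgSp.Points X.obj) := fun f =>
      ⋃ E : AlgSp.EtOver X.obj, AlgSp.Points.ofPt E.obj.hom ''
        (E.obj.left.left.basicOpen ((limit.π (AlgSp.OEt X.obj).obj (Opposite.op E)) f).down : Set ↥E.obj.left.left)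
    have hopen : ∀ f, IsOpen (Dset f) := fun f =>
      isOpen_iUnion fun E => isOpenMap_ofPt_of_etale E.obj.hom E.property _ (TopologicalSpace.Opens.isOpen _)
    have hzero' : ∀ f, Dset f = ∅ → f = 0 := by
      intro f hf
      apply hzero
      intro E
      ext e
      simp only [TopologicalSpace.Opens.coe_bot, Set.mem_empty_iff_false, iff_false]
      intro he
      have : AlgSp.Points.ofPt E.obj.hom e ∈ Dset f := Set.mem_iUnion.2 ⟨E, e, he, rfl⟩
      rw [hf] at this
      exact this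
    by_contra hcon
    rw [not_or] at hcon
    have hf : (Dset f).Nonempty := Set.nonempty_iff_ne_empty.2 fun h => hcon.1 (hzero' f h)
    have hg : (Dset g).Nonempty := Set.nonempty_iff_ne_empty.2 fun h => hcon.2 (hzero' g h)
    obtain ⟨x, hxf, hxg⟩ := nonempty_preirreducible_inter (hopen f) (hopen g) hf hg
    obtain ⟨E, e, he, hex⟩ := Set.mem_iUnion.1 hxf
    obtain ⟨E', e', he', he'x⟩ := Set.mem_iUnion.1 hxg
    obtain ⟨W, snd, fst, sq⟩ := E.property.rep E'.obj.hom
    obtain ⟨c, rfl⟩ := (AlgSp.yon S).map_surjective fst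
    obtain ⟨w, hw1, hw2⟩ := exists_point_of_isPullback_yon_yon sq e e' (hex.trans he'x.symm)
    have hsnd : Etale snd.left := E.property.property _ _ _ sq
    let E'' : AlgSp.EtOver X.obj := AlgSp.EtOver.mk ((AlgSp.yon S).map snd ≫ E'.obj.hom)
      ((AlgSp.RepWith @Etale).comp_mem _ _ ((AlgSp.repWith_yon_map_iff _ _).2 hsnd) E'.property)
    let g₁ : E'' ⟶ E := AlgSp.EtOver.homMk c sq.w
    let g₂ : E'' ⟶ E' := AlgSp.EtOver.homMk snd rfl
    have h1 : w ∈ W.left.basicOpen ((limit.π (AlgSp.OEt X.obj).obj (Opposite.op E'')) f).down := by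
      rw [down_compat g₁ f]
      have := Scheme.preimage_basicOpen_top c.left ((limit.π (AlgSp.OEt X.obj).obj (Opposite.op E)) f).down
      show w ∈ W.left.basicOpen (c.left.appTop.hom _)
      rw [← this, Scheme.Hom.mem_preimage, hw1]
      exact he
    have h2 : w ∈ W.left.basicOpen ((limit.π (AlgSp.OEt X.obj).obj (Opposite.op E'')) g).down := by
      rw [down_compat g₂ g]
      have := Scheme.preimage_basicOpen_top snd.left ((limit.π (AlgSp.OEt X.obj).obj (Opposite.op E')) g).down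
      show w ∈ W.left.basicOpen (snd.left.appTop.hom _)
      rw [← this, Scheme.Hom.mem_preimage, hw2]
      exact he'
    have h3 : w ∈ W.left.basicOpen (((limit.π (AlgSp.OEt X.obj).obj (Opposite.op E'')) (f * g)).down) := by
      rw [map_mul]
      show w ∈ W.left.basicOpen (_ * _)
      rw [Scheme.basicOpen_mul]
      exact ⟨h1, h2⟩
    rw [hfg, map_zero] at h3
    have h4 : W.left.basicOpen (0 : Γ(W.left, ⊤)) = ⊥ := Scheme.basicOpen_zero _ _
    have h5 : w ∈ W.left.basicOpen (0 : Γ(W.left, ⊤)) := h3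
    rw [h4] at h5
    exact h5
  have : NoZeroDivisors ↥(AlgSp.gsectEt (AlgSp.OEt X.obj)) := ⟨fun {a b} h => key a b h⟩
  exact NoZeroDivisors.to_isDomain _

end Groth.Agent.S10494
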