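import Groth.Statements.S10498
import Mathlib
import Groth.Agent.Lib.Helper7.WEtaleFlat2
import Groth.Agent.Lib.Helper8.Hzl.IndEtaleWE

set_option autoImplicit false
universe u
open TensorProduct
open Hensel

namespace Groth.Agent.S10498

/-- (1) ⇔ (2): let k be a field, A a local k-algebra and R a strict henselization of A. Then A is
geometrically reduced over k (K ⊗_k A reduced for every field extension K of k) if and only if R is
geometrically reduced over k. -/
theorem result (k : Type u) [Field k]
    (A : Type u) [CommRing A] [IsLocalRing A] [Algebra k A]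
    (R : Type u) [CommRing R] [IsLocalRing R] [Algebra A R] [IsLocalHom (algebraMap A R)]
    [Hensel.IsStrictHenselization A R] [Algebra k R] [IsScalarTower k A R] :
    (∀ (K : Type u) [Field K] [Algebra k K], IsReduced (TensorProduct k K A)) ↔
      ∀ (K : Type u) [Field K] [Algebra k K], IsReduced (TensorProduct k K R) := by
  have hflat : Module.Flat A R := Groth.Agent.Lib.Helper8.Hzl.strictHenselization_flat A R
  have hff : Module.FaithfullyFlat A R :=
    Groth.Agent.Lib.Helper8.Hzl.strictHenselization_faithfullyFlat A R
  have hind : Groth.Agent.Lib.Helper8.Hzl.IndEtaleLike A R :=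
    Groth.Agent.Lib.Helper8.Hzl.strictHenselization_indEtaleLike A R
  constructor
  · intro hA K _ _
    have h1 : IsReduced (K ⊗[k] A) := hA K
    have h2 : IsReduced (A ⊗[k] K) :=
      isReduced_of_injective (Algebra.TensorProduct.comm k A K).toAlgHom
        (Algebra.TensorProduct.comm k A K).injective
    have h3 : Groth.Agent.Lib.Helper8.Hzl.IndEtaleLike (A ⊗[k] K) ((A ⊗[k] K) ⊗[A] R) :=
      hind.baseChange (A ⊗[k] K)
    have h4 : Algebra.WeaklyEtale (A ⊗[k] K) ((A ⊗[k] K) ⊗[A] R) := h3.weaklyEtale
    have h5 : IsReduced ((A ⊗[k] K) ⊗[A] R) :=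
      Groth.Agent.Lib.Helper7.isReduced_of_weaklyEtale (A ⊗[k] K) _
    have e1 : (A ⊗[k] K) ⊗[A] R ≃ₐ[A] R ⊗[A] (A ⊗[k] K) := Algebra.TensorProduct.comm A _ _
    have e2 : R ⊗[A] (A ⊗[k] K) ≃ₐ[A] R ⊗[k] K :=
      Algebra.TensorProduct.cancelBaseChange k A A R K
    have e3 : R ⊗[k] K ≃ₐ[k] K ⊗[k] R := Algebra.TensorProduct.comm k R K
    have h6 : IsReduced (R ⊗[A] (A ⊗[k] K)) :=
      isReduced_of_injective e1.symm.toAlgHom e1.symm.injective
    have h7 : IsReduced (R ⊗[k] K) :=
      isReduced_of_injective e2.symm.toAlgHom e2.symm.injective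
    exact isReduced_of_injective e3.symm.toAlgHom e3.symm.injective
  · intro hR K _ _
    have h1 : IsReduced (K ⊗[k] R) := hR K
    have hinj : Function.Injective (algebraMap A R) := FaithfulSMul.algebraMap_injective A R
    have hf : Function.Injective
        (Algebra.TensorProduct.map (AlgHom.id k K) (IsScalarTower.toAlgHom k A R)) := by
      have heq : ⇑(Algebra.TensorProduct.map (AlgHom.id k K) (IsScalarTower.toAlgHom k A R)) =
          ⇑(LinearMap.lTensor K (IsScalarTower.toAlgHom k A R).toLinearMap) := by
        funext x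
        induction x using TensorProduct.induction_on with
        | zero => simp
        | tmul a b => simp
        | add x y hx hy => simp only [map_add, hx, hy]
      rw [heq]
      exact Module.Flat.lTensor_preserves_injective_linearMap _ hinj
    exact isReduced_of_injective
      (Algebra.TensorProduct.map (AlgHom.id k K) (IsScalarTower.toAlgHom k A R)) hf

end Groth.Agent.S10498
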