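import Groth.Statements.S10499
import Groth.Agent.Lib.Helper16.DimF4
import Groth.Agent.S10457

open Groth.Agent.Lib.Helper16 Groth.Agent.Lib.Helper16.DimF Groth.Agent.Lib.Helper16.QfAt
open Groth.Agent.Lib.Helper12.SchemeDimIneq Groth.Agent.Lib.Helper12.SchemeDimFT

set_option autoImplicit false
universe u
open CategoryTheory CategoryTheory.Limits AlgebraicGeometry Topology TopologicalSpace
open AlgSp

namespace Groth.Agent.S10499

/-- Let f : X ⟶ Y be a proper morphism of algebraic spaces over a scheme S with Y locally Noetherian,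
and let y be a point of Y of codimension at most 1. If the points of |X| where f is quasi-finite
form a dense subset, then there is an open subspace Y' of Y containing y such that the base change
of f to Y' is finite. -/
theorem result {S : Scheme.{u}} {X Y : AlgSp.Space S} (f : X ⟶ Y)
    (hf : AlgSp.IsProperMor f.hom) (hY : AlgSp.IsLocNoethSp Y.obj) (y : AlgSp.Points Y.obj)
    (hy : AlgSp.HasAt (fun U u => ringKrullDim ↥(U.presheaf.stalk u) ≤ 1) Y.obj y)
    (h : Dense {x : AlgSp.Points X.obj | AlgSp.HasAtMor (fun U _ h u => ∃ W : U.Opens, u ∈ W ∧ LocallyQuasiFinite (W.ι ≫ h) ∧ LocallyOfFiniteType (W.ι ≫ h)) f.hom x}) :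
    ∃ (Y' : AlgSp.Space S) (j : Y' ⟶ Y), AlgSp.RepWith @IsOpenImmersion j.hom ∧
      y ∈ Set.range (AlgSp.Points.map j.hom) ∧
      ∀ (P : AlgSp.Space S) (fst : P ⟶ Y') (snd : P ⟶ X), IsPullback fst.hom snd.hom j.hom f.hom →
        AlgSp.IsFiniteMor fst.hom := by
  have hft : LocP @LocallyOfFiniteType f.hom := hf.2.1.1
  refine Groth.Agent.S10457.result f hf hY y hy ?_
  intro x hx0 _
  obtain ⟨V, b, hbe, hbs⟩ := Y.property.atlas
  obtain ⟨U₀, a₀, ha₀e, ha₀s⟩ := X.property.atlas
  obtain ⟨U, h', c, hae, hac, -, -, has⟩ := exists_chart_diagram f.hom b hbe a₀ ha₀e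
  obtain ⟨u, rfl⟩ := ofPt_surjective_of_surjective _ (has hbs ha₀s) x
  have : LocallyOfFiniteType h'.left := hft _ _ h' hae hbe hac
  have : IsLocallyNoetherian V.left := isLocallyNoetherian_of_chart hY b hbe
  have : IsLocallyNoetherian U.left := LocallyOfFiniteType.isLocallyNoetherian h'.left
  have humax : IsMaxPt u := (isMaxPt_iff_dim_zero u).2 ((hasAt_dim_iff _ hae u 0).1 hx0)
  have hdense : Dense (qfLocus f.hom) := by
    have he : qfLocus f.hom = {x : AlgSp.Points X.obj | AlgSp.HasAtMor (fun U _ h u => ∃ W : U.Opens,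
        u ∈ W ∧ LocallyQuasiFinite (W.ι ≫ h) ∧ LocallyOfFiniteType (W.ι ≫ h)) f.hom x} := by
      ext x
      exact mem_qfLocus_iff_hasAtMor_open f.hom hft x
    rw [he]
    exact h
  have hO : IsOpen (Points.ofPt ((yon S).map c ≫ a₀) ⁻¹' qfLocus f.hom) :=
    (isOpen_qfLocus f.hom hft).preimage (Points.continuous_ofPt _)
  have hOd : Dense (Points.ofPt ((yon S).map c ≫ a₀) ⁻¹' qfLocus f.hom) :=
    hdense.preimage (isOpenMap_ofPt_of_etale _ hae)
  have hmem := mem_of_isMaxPt_of_dense U.left u humax _ hO hOd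
  have hq : h'.left.QuasiFiniteAt u := (mem_qfLocus_iff f.hom hft _ b h' hae hbe hac u).1 hmem
  exact (hasAtMor_resTrdeg_iff f.hom _ b h' hae hbe hac u 0).2
    (resTrdeg_eq_zero_of_quasiFiniteAt h'.left u hq)

end Groth.Agent.S10499
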