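import Groth.Statements.S10500
import Groth.Agent.Lib.Helper16.QfLocus2
import Groth.Agent.S10485
import Groth.Agent.S10650
import Groth.Agent.S10649

set_option autoImplicit false
universe u
open CategoryTheory CategoryTheory.Limits AlgebraicGeometry Topology TopologicalSpace
open AlgSp

namespace Groth.Agent.S10500

/-- Let X and Y be integral algebraic spaces over a scheme S with generic points x and y, and f : X ⟶ Y
a morphism which is proper and dominant. Then f is an alteration (finite over some nonempty open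
subspace of Y) if and only if x is the only point of X mapping to y. -/
theorem result {S : Scheme.{u}} {X Y : AlgSp.Space S}
    (hXi : AlgSp.IsIntegralSp X.obj) (hYi : AlgSp.IsIntegralSp Y.obj) (f : X ⟶ Y) (hp : AlgSp.IsProperMor f.hom)
    (hd : AlgSp.IsDominantMor f.hom)
    (x : AlgSp.Points X.obj) (hx : IsGenericPoint x (Set.univ : Set (AlgSp.Points X.obj)))
    (y : AlgSp.Points Y.obj) (hy : IsGenericPoint y (Set.univ : Set (AlgSp.Points Y.obj))) :
    (∃ (V : AlgSp.Space S) (j : V ⟶ Y), AlgSp.RepWith @IsOpenImmersion j.hom ∧ Nonempty (AlgSp.Points V.obj) ∧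
      ∀ (P : AlgSp.Space S) (fst : P ⟶ V) (snd : P ⟶ X), IsPullback fst.hom snd.hom j.hom f.hom →
        AlgSp.IsFiniteMor fst.hom) ↔ (∀ x' : AlgSp.Points X.obj, AlgSp.Points.map f.hom x' = y → x' = x) := by
  have hX : AlgSp.IsAlgSpace X.obj := X.property
  have hY : AlgSp.IsAlgSpace Y.obj := Y.property
  have hlft : AlgSp.LocP @LocallyOfFiniteType f.hom := hp.2.1.1
  have key := Groth.Agent.S10485.result hXi hYi f hlft hd x hx y hy
  constructor
  · rintro ⟨V, j, hj, hne, hfin⟩
    have hV : AlgSp.IsAlgSpace V.obj := V.property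
    have sq := IsPullback.of_hasPullback j.hom f.hom
    have hP : AlgSp.IsAlgSpace (pullback j.hom f.hom) :=
      Groth.Agent.Lib.Helper16.isAlgSpace_of_isPullback hV hY.diag hX sq
    let P : AlgSp.Space S := ⟨pullback j.hom f.hom, hP⟩
    let fst : P ⟶ V := ObjectProperty.homMk (pullback.fst j.hom f.hom)
    let snd : P ⟶ X := ObjectProperty.homMk (pullback.snd j.hom f.hom)
    have hfst : AlgSp.IsFiniteMor fst.hom := hfin P fst snd sq
    have k2 : AlgSp.IsFiniteMor fst.hom ↔ (AlgSp.IsProperMor fst.hom ∧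
        AlgSp.LocP (@LocallyQuasiFinite ⊓ @LocallyOfFiniteType) fst.hom) :=
      (Groth.Agent.S10649.result fst).out 0 1
    obtain ⟨x₁, hx₁⟩ := Groth.Agent.Lib.Helper16.QfAt.exists_mem_qfLocus_of_lqf_over_open hX hY hV f.hom hlft
      j.hom hj hd hne sq (k2.1 hfst).2
    have hxq := Groth.Agent.Lib.Helper16.QfAt.mem_qfLocus_of_generic f.hom hlft x hx x₁ hx₁
    exact key.1 ((Groth.Agent.Lib.Helper16.QfAt.mem_qfLocus_iff_hasAtMor_open f.hom hlft x).1 hxq)
  · intro huniq
    obtain ⟨V, j, hj, hy', hfin⟩ := Groth.Agent.S10650.result f y hp (fun x' hx' => by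
      rw [huniq x' hx']
      exact key.2 huniq)
    obtain ⟨v, -⟩ := hy'
    exact ⟨V, j, hj, ⟨v⟩, fun P fst snd sq => hfin P snd fst sq.flip⟩

end Groth.Agent.S10500
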