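import Groth.Statements.S10511
import Groth.Agent.Lib.Helper16.CechDesc

set_option autoImplicit false
universe u
open CategoryTheory CategoryTheory.Limits AlgebraicGeometry
open AlgSp

namespace Groth.Agent.S10511


open Groth.Agent.Lib.Helper16 Groth.Agent.Lib.Helper16.CechDesc

theorem affineDiag_of_le {Y : Scheme.{u}} {O V : Y.Opens} (hV : IsAffineOpen V) (h : O ≤ V) :
    IsAffineHom (pullback.diagonal (terminal.from (O : Scheme.{u}))) := by
  haveI : IsAffine (V : Scheme.{u}) := hV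
  haveI : IsSeparated (terminal.from (O : Scheme.{u})) := by
    rw [← terminal.comp_from (Y.homOfLE h)]
    infer_instance
  infer_instance

theorem scheme_round {S : Scheme.{u}} (X : AlgSp.Space S)
    (P : ∀ ⦃U : AlgSp.Sp S⦄, (U ⟶ X.obj) → Prop)
    (hP : ∀ ⦃U : AlgSp.Sp S⦄ (a : U ⟶ X.obj), AlgSp.IsAlgSpace U →
      ∀ ⦃ι : Type u⦄ (Ui : ι → AlgSp.Sp S) (g : ∀ i, Ui i ⟶ U), (∀ i, AlgSp.IsAlgSpace (Ui i)) →
      AlgSp.IsFppfCover Ui g →
      (∀ (n : ℕ) (c : Fin (n + 1) → ι),
        P (WidePullback.base (fun k : Fin (n + 1) => g (c k)) ≫ a)) → P a)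
    {U : AlgSp.Sp S} (a : U ⟶ X.obj) (T : Over S) (e : U ≅ (AlgSp.yon S).obj T)
    (Qo : T.left.Opens → Prop)
    (hQ1 : ∀ V : T.left.Opens, IsAffineOpen V → Qo V)
    (hQ2 : ∀ O V : T.left.Opens, Qo O → IsAffineOpen V → Qo (O ⊓ V))
    (hfl : AlgSp.LocP @Flat a) (hlfp : AlgSp.LocP @LocallyOfFinitePresentation a)
    (H : ∀ (O : T.left.Opens), Qo O → ∀ ⦃U' : AlgSp.Sp S⦄ (a' : U' ⟶ X.obj)
      (e' : U' ≅ (AlgSp.yon S).obj (opOver T O)),
      AlgSp.LocP @Flat a' → AlgSp.LocP @LocallyOfFinitePresentation a' → P a') : P a := by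
  have hU : AlgSp.IsAlgSpace U := (AlgSp.IsAlgSpace.yon_obj T).of_iso e.symm
  refine hP a hU (ι := ↥T.left.affineOpens) (fun V => (AlgSp.yon S).obj (opOver T V.1))
    (fun V => (AlgSp.yon S).map (opIncl T V.1) ≫ e.inv) (fun V => AlgSp.IsAlgSpace.yon_obj _)
    ⟨fun V => ⟨?_, ?_⟩, ?_⟩ ?_
  · exact locP_chart_iso etLocalST_flat _ (Iso.refl _) e (opIncl T V.1) (Category.id_comp _)
      (show Flat V.1.ι from inferInstance)
  · exact locP_chart_iso etLocalST_locallyOfFinitePresentation _ (Iso.refl _) e (opIncl T V.1)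
      (Category.id_comp _) (show LocallyOfFinitePresentation V.1.ι from inferInstance)
  · intro x
    obtain ⟨t, rfl⟩ := exists_pt_of_iso e x
    obtain ⟨_, ⟨V, hV, rfl⟩, htV, -⟩ :=
      T.left.isBasis_affineOpens.exists_subset_of_mem_open (Set.mem_univ t) isOpen_univ
    have ht : t ∈ Set.range (opIncl T V).left := by
      show t ∈ Set.range (Scheme.Opens.ι (X := T.left) V)
      rw [Scheme.Opens.range_ι]; exact htV
    obtain ⟨t', rfl⟩ := ht
    refine ⟨⟨V, hV⟩, AlgSp.Points.ofScheme _ t', ?_⟩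
    rw [AlgSp.Points.map_comp, map_yon_map_ofScheme]
  · intro n c
    obtain ⟨O, e', hO, hc⟩ := wp_opens T e Qo hQ1 hQ2 n c
    have hW : AlgSp.IsAlgSpace (widePullback U (fun k => (AlgSp.yon S).obj (opOver T (c k).1))
        (fun k => (AlgSp.yon S).map (opIncl T (c k).1) ≫ e.inv)) :=
      (AlgSp.IsAlgSpace.yon_obj _).of_iso e'.symm
    have hb1 := locP_chart_iso etLocalST_flat
      (WidePullback.base (fun k => (AlgSp.yon S).map (opIncl T (c k).1) ≫ e.inv)) e' e
      (opIncl T O) hc (show Flat O.ι from inferInstance)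
    have hb2 := locP_chart_iso etLocalST_locallyOfFinitePresentation
      (WidePullback.base (fun k => (AlgSp.yon S).map (opIncl T (c k).1) ≫ e.inv)) e' e
      (opIncl T O) hc (show LocallyOfFinitePresentation O.ι from inferInstance)
    exact H O hO _ e' (locP_comp etLocalST_flat hW hU X.property _ _ hb1 hfl)
      (locP_comp etLocalST_locallyOfFinitePresentation hW hU X.property _ _ hb2 hlfp)


/-- Let `X` be an algebraic space over `S` and `P` a property of sheaves over `X` such that, for every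
algebraic space `U` over `X` and every fppf covering `{U_i ⟶ U}` by algebraic spaces, `P` holds for
`U` as soon as it holds for all the iterated fibre products `U_{i_0} ×_U ⋯ ×_U U_{i_n}` (`n ≥ 0`,
taken in fppf sheaves) over `X`. If `P` holds for every sheaf over `X` that is isomorphic to an
affine scheme and flat and locally of finite presentation over `X`, then `P` holds for `X`. -/
theorem result {S : Scheme.{u}} (X : AlgSp.Space S)
    (P : ∀ ⦃U : AlgSp.Sp S⦄, (U ⟶ X.obj) → Prop)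
    (hP : ∀ ⦃U : AlgSp.Sp S⦄ (a : U ⟶ X.obj), AlgSp.IsAlgSpace U →
      ∀ ⦃ι : Type u⦄ (Ui : ι → AlgSp.Sp S) (g : ∀ i, Ui i ⟶ U), (∀ i, AlgSp.IsAlgSpace (Ui i)) →
      AlgSp.IsFppfCover Ui g →
      (∀ (n : ℕ) (c : Fin (n + 1) → ι),
        P (WidePullback.base (fun k : Fin (n + 1) => g (c k)) ≫ a)) → P a)
    (haff : ∀ ⦃U : AlgSp.Sp S⦄ (a : U ⟶ X.obj) (T : Over S) (e : U ≅ (AlgSp.yon S).obj T), IsAffine T.left →
      AlgSp.LocP @Flat a → AlgSp.LocP @LocallyOfFinitePresentation a → P a) :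
    P (𝟙 X.obj) := by
  -- Round 1: schemes with affine diagonal
  have R1 : ∀ ⦃U : AlgSp.Sp S⦄ (a : U ⟶ X.obj) (T : Over S) (e : U ≅ (AlgSp.yon S).obj T),
      IsAffineHom (pullback.diagonal (terminal.from T.left)) →
      AlgSp.LocP @Flat a → AlgSp.LocP @LocallyOfFinitePresentation a → P a := by
    intro U a T e hT hfl hlfp
    exact scheme_round X P hP a T e (fun O => IsAffineOpen O) (fun V hV => hV)
      (fun O V hO hV => hO.inf hV) hfl hlfp
      (fun O hO U' a' e' h1 h2 => haff a' _ e' hO h1 h2)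
  -- Round 2: all schemes
  have R2 : ∀ ⦃U : AlgSp.Sp S⦄ (a : U ⟶ X.obj) (T : Over S) (e : U ≅ (AlgSp.yon S).obj T),
      AlgSp.LocP @Flat a → AlgSp.LocP @LocallyOfFinitePresentation a → P a := by
    intro U a T e hfl hlfp
    exact scheme_round X P hP a T e (fun O => ∃ V : T.left.Opens, IsAffineOpen V ∧ O ≤ V)
      (fun V hV => ⟨V, hV, le_rfl⟩) (fun O V _ hV => ⟨V, hV, inf_le_right⟩) hfl hlfp
      (fun O hO U' a' e' h1 h2 => by
        obtain ⟨V, hV, hOV⟩ := hO
        exact R1 a' _ e' (affineDiag_of_le hV hOV) h1 h2)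
  -- Round 3: the atlas
  obtain ⟨V, p, hpe, hps⟩ := X.property.atlas
  refine hP (𝟙 X.obj) X.property (ι := PUnit.{u + 1}) (fun _ => (AlgSp.yon S).obj V) (fun _ => p)
    (fun _ => AlgSp.IsAlgSpace.yon_obj V) ⟨fun _ => ⟨?_, ?_⟩, ?_⟩ ?_
  · exact locP_of_chart etLocalST_flat p (𝟙 _) p (𝟙 V) (repWith_etale_iso (Iso.refl _))
      (repWith_surj_iso (Iso.refl _)) hpe (by rw [(AlgSp.yon S).map_id])
      (by rw [Over.id_left]; infer_instance)
  · exact locP_of_chart etLocalST_locallyOfFinitePresentation p (𝟙 _) p (𝟙 V)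
      (repWith_etale_iso (Iso.refl _)) (repWith_surj_iso (Iso.refl _)) hpe
      (by rw [(AlgSp.yon S).map_id]) (by rw [Over.id_left]; infer_instance)
  · intro x
    obtain ⟨v, hv⟩ := ofPt_surjective_of_surjective p hps x
    exact ⟨PUnit.unit, AlgSp.Points.ofScheme V v, by
      rw [← AlgSp.Points.ofPt_eq_map_ofScheme, hv]⟩
  · intro n c
    obtain ⟨Tn, en, hn, hne, hcn⟩ := wp_atlas p hpe n
    have hb1 : AlgSp.LocP @Flat (WidePullback.base (fun _ : Fin (n + 1) => p)) :=
      locP_of_chart etLocalST_flat _ en.inv p hn (repWith_etale_iso en.symm)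
        (repWith_surj_iso en.symm) hpe hcn inferInstance
    have hb2 : AlgSp.LocP @LocallyOfFinitePresentation
        (WidePullback.base (fun _ : Fin (n + 1) => p)) :=
      locP_of_chart etLocalST_locallyOfFinitePresentation _ en.inv p hn (repWith_etale_iso en.symm)
        (repWith_surj_iso en.symm) hpe hcn inferInstance
    refine R2 _ Tn en ?_ ?_
    · rw [Category.comp_id]; exact hb1
    · rw [Category.comp_id]; exact hb2

end Groth.Agent.S10511
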