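import Groth.Statements.S10512
import Groth.Agent.Lib.Helper16.QuasiCompact

set_option autoImplicit false
universe u
open CategoryTheory CategoryTheory.Limits AlgebraicGeometry
open AlgSp

namespace Groth.Agent.S10512


open Groth.Agent.Lib.Helper16

/-- The small etale site of `Y` mapped to algebraic spaces. -/
noncomputable abbrev HH {S : Scheme.{u}} (Y : AlgSp.Sp S) : AlgSp.EtOver Y ⥤ AlgSp.Space S :=
  AlgSp.EtOver.forget Y ⋙ AlgSp.ofScheme S

theorem key {S : Scheme.{u}} (Y : AlgSp.Sp S) : ∀ (W : AlgSp.Space S) (T : Sieve W),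
    (AlgSp.spacesPre S AlgSp.IsEtaleMor).Saturate W T →
    ∀ (E : AlgSp.EtOver Y) (a : (HH Y).obj E ⟶ W),
      (T.pullback a).functorPullback (HH Y) ∈ AlgSp.etTop Y E := by
  intro W T hT
  induction hT with
  | of W R hR =>
    intro E a
    obtain ⟨hRet, hRsurj⟩ := hR
    have hdata : ∀ e : E.obj.left.left, ∃ (E' : AlgSp.EtOver Y) (g : E' ⟶ E),
        (((Sieve.generate R).pullback a).functorPullback (HH Y)).arrows g ∧
          e ∈ Set.range g.hom.left.left := by
      intro e
      obtain ⟨Y', g, hg, y', hy'⟩ := hRsurj (AlgSp.Points.ofPt a.hom e)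
      obtain ⟨V', φ, hφe, hφs⟩ := Y'.property.atlas
      obtain ⟨v', hv'⟩ := ofPt_surjective_of_surjective φ hφs y'
      have hφg : AlgSp.RepWith @Etale (φ ≫ g.hom) := hRet g hg φ hφe
      have sq := hφg.rep.isPullback a.hom
      have het : Etale (hφg.rep.snd a.hom).left := hφg.property_snd a.hom
      obtain ⟨c, hc⟩ := (AlgSp.yon S).map_surjective (hφg.rep.fst a.hom)
      rw [← hc] at sq
      have hrepE' : AlgSp.RepWith @Etale ((AlgSp.yon S).map (hφg.rep.snd a.hom) ≫ E.obj.hom) :=
        (AlgSp.RepWith @Etale).comp_mem _ _ ((AlgSp.repWith_yon_map_iff _ _).2 het) E.property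
      refine ⟨AlgSp.EtOver.mk _ hrepE', AlgSp.EtOver.homMk (hφg.rep.snd a.hom) rfl, ?_, ?_⟩
      · refine ⟨Y', ObjectProperty.homMk ((AlgSp.yon S).map c ≫ φ), g, hg, ?_⟩
        apply ObjectProperty.hom_ext
        exact (Category.assoc _ _ _).trans sq.w
      · have hpt : AlgSp.Points.ofPt (φ ≫ g.hom) v' = AlgSp.Points.ofPt a.hom e := by
          rw [← AlgSp.Points.map_ofPt, hv', hy']
        obtain ⟨p, -, hp2⟩ := exists_point_of_isPullback_yon_yon sq v' e hpt
        exact ⟨p, hp2⟩
    choose E' g hg he using hdata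
    have hcov : Sieve.ofArrows E' g ∈ AlgSp.etTop Y E :=
      AlgSp.ofArrows_mem_etTop E' g (fun x => ⟨x, he x⟩)
    refine (AlgSp.etTop Y).superset_covering ?_ hcov
    show Sieve.generate _ ≤ _
    rw [Sieve.generate_le_iff]
    rintro Z f ⟨x⟩
    exact hg x
  | top W =>
    intro E a
    refine (AlgSp.etTop Y).superset_covering ?_ ((AlgSp.etTop Y).top_mem E)
    intro Z f _
    exact Sieve.top_apply _
  | pullback W T hT W' f ih =>
    intro E a
    have := ih E (a ≫ f)
    rwa [Sieve.pullback_comp] at this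
  | transitive W T' T hT' hT ih1 ih2 =>
    intro E a
    refine (AlgSp.etTop Y).transitive (ih1 E a) _ ?_
    intro E' g hg
    refine (AlgSp.etTop Y).superset_covering ?_ (ih2 hg E' (𝟙 _))
    intro E'' h hh
    have hh' : T.arrows (((HH Y).map h ≫ 𝟙 _) ≫ (HH Y).map g ≫ a) := hh
    show T.arrows ((HH Y).map (h ≫ g) ≫ a)
    rw [Category.comp_id] at hh'
    rw [Functor.map_comp, Category.assoc]
    exact hh'

theorem cocont_HH {S : Scheme.{u}} (Y : AlgSp.Sp S) :
    (HH Y).IsCocontinuous (AlgSp.etTop Y) (AlgSp.spacesTop S AlgSp.IsEtaleMor) := by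
  refine ⟨fun {E T} hT => ?_⟩
  have := key Y _ _ hT E (𝟙 _)
  rwa [Sieve.pullback_id] at this

theorem cocont_of_forget {C : Type*} [Category C] {D : Type*} [Category D] {X : D}
    (G : C ⥤ Over X) (J : GrothendieckTopology C) (K : GrothendieckTopology D)
    (h : (G ⋙ Over.forget X).IsCocontinuous J K) : G.IsCocontinuous J (K.over X) := by
  refine ⟨fun {U R} hR => ?_⟩
  rw [GrothendieckTopology.mem_over_iff] at hR
  have h1 := h.cover_lift hR
  refine J.superset_covering ?_ h1
  intro V g hg
  have h2 : (Sieve.overEquiv _ R).arrows (G.map g).left := hg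
  have h3 := (Sieve.overEquiv_symm_iff (Sieve.overEquiv _ R) (G.map g)).mpr h2
  rwa [OrderIso.symm_apply_apply] at h3


/-- For a morphism `f : Y ⟶ X` of algebraic spaces over `S`, the functor from the small etale site of
`Y` (scheme objects) to the big etale site `(Spaces/X)_{etale}` sending `h_U ⟶ Y` to `h_U ⟶ Y ⟶ X`
is cocontinuous; for `f = 𝟙` this is the cocontinuity of the inclusion of the small etale site of
`X` into its big etale site. (Stated for the small etale site with scheme objects, which defines the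
same topos as the one with algebraic-space objects.) -/
theorem result {S : Scheme.{u}} {X Y : AlgSp.Space S} (f : Y ⟶ X) :
    (AlgSp.EtOver.toEtSpOver Y ⋙ ObjectProperty.ι (fun E : Over Y => AlgSp.IsEtaleMor E.hom.hom) ⋙
        Over.map f).IsCocontinuous (AlgSp.etTop Y.obj) (AlgSp.spacesTopOver AlgSp.IsEtaleMor X) := by
  apply cocont_of_forget
  exact cocont_HH Y.obj

end Groth.Agent.S10512
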