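import Groth.Statements.S10513
import Groth.Agent.S10512

set_option autoImplicit false
universe u
open CategoryTheory CategoryTheory.Limits AlgebraicGeometry
open AlgSp

namespace Groth.Agent.S10513


open Groth.Agent.Lib.Helper16 Groth.Agent.S10512

instance presOfScheme {S : Scheme.{u}} : PreservesLimitsOfShape WalkingCospan (AlgSp.ofScheme S) := by
  have h1 : PreservesLimitsOfShape WalkingCospan
      (AlgSp.ofScheme S ⋙ ObjectProperty.ι (AlgSp.IsAlgSpace (S := S))) :=
    preservesLimitsOfShape_of_natIso (AlgSp.ofSchemeι S).symm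
  exact preservesLimitsOfShape_of_reflects_of_preserves (AlgSp.ofScheme S)
    (ObjectProperty.ι (AlgSp.IsAlgSpace (S := S)))

instance presHH {S : Scheme.{u}} (Y : AlgSp.Sp S) :
    PreservesLimitsOfShape WalkingCospan (HH Y) := by
  unfold HH
  infer_instance

theorem presG {S : Scheme.{u}} {X Y : AlgSp.Space S} (f : Y ⟶ X) :
    PreservesLimitsOfShape WalkingCospan
      (AlgSp.EtOver.toEtSpOver Y ⋙ ObjectProperty.ι (fun E : Over Y => AlgSp.IsEtaleMor E.hom.hom) ⋙
        Over.map f) := by
  have h1 : PreservesLimitsOfShape WalkingCospan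
      ((AlgSp.EtOver.toEtSpOver Y ⋙ ObjectProperty.ι (fun E : Over Y => AlgSp.IsEtaleMor E.hom.hom) ⋙
        Over.map f) ⋙ Over.forget X) := presHH Y.obj
  exact preservesLimitsOfShape_of_reflects_of_preserves _ (Over.forget X)


/-- For a morphism `f : Y ⟶ X` of algebraic spaces over `S`, the functor from the small etale site of
`Y` (scheme objects) to the big etale site `(Spaces/X)_{etale}` sending `h_U ⟶ Y` to `h_U ⟶ Y ⟶ X`
is continuous (precomposition with it carries sheaves of types to sheaves); for `f = 𝟙` this is the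
continuity of the inclusion of the small etale site of `X` into its big etale site. (Stated for the
small etale site with scheme objects, which defines the same topos as the one with algebraic-space
objects.) -/
theorem result {S : Scheme.{u}} {X Y : AlgSp.Space S} (f : Y ⟶ X) :
    (AlgSp.EtOver.toEtSpOver Y ⋙ ObjectProperty.ι (fun E : Over Y => AlgSp.IsEtaleMor E.hom.hom) ⋙
        Over.map f).IsContinuous (AlgSp.etTop Y.obj) (AlgSp.spacesTopOver AlgSp.IsEtaleMor X) := by
  haveI := presG f
  refine ⟨fun P => ?_⟩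
  obtain ⟨P, hP⟩ := P
  rw [isSheaf_iff_isSheaf_of_type] at hP
  show Presieve.IsSheaf (AlgSp.etPre Y.obj).toGrothendieck _
  rw [← Precoverage.toGrothendieck_toCoverage, Presieve.isSheaf_coverage]
  intro E R hR
  have hpp : R.HasPairwisePullbacks := (AlgSp.etPre Y.obj).hasPairwisePullbacks_of_mem hR
  rw [Presieve.IsSheafFor.comp_iff_of_preservesPairwisePullbacks, Presieve.isSheafFor_iff_generate]
  apply hP
  obtain ⟨ι, Z, g, rfl⟩ := R.exists_eq_ofArrows
  have hR' : ∀ x : ↥E.obj.left.left, ∃ i, x ∈ Set.range (g i).hom.left.left :=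
    (AlgSp.ofArrows_mem_etPre_iff Z g).1 hR
  rw [Presieve.map_ofArrows]
  show Sieve.ofArrows _ _ ∈ _
  rw [GrothendieckTopology.mem_over_iff, Sieve.overEquiv_ofArrows]
  refine Precoverage.generate_mem_toGrothendieck ((AlgSp.mem_spacesPre_iff _ _).2 ⟨?_, ?_⟩)
  · rintro Y' g' ⟨i⟩
    exact (AlgSp.isEtaleMor_yon_map_iff _).2 (AlgSp.EtOver.etale_left (g i))
  · intro x
    obtain ⟨i, z, hz⟩ := hR' (AlgSp.Points.toScheme E.obj.left x)
    refine ⟨_, _, ⟨i⟩, AlgSp.Points.ofScheme _ z, ?_⟩
    have h1 := map_yon_map_ofScheme (g i).hom.left z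
    rw [hz, AlgSp.Points.ofScheme_toScheme] at h1
    exact h1

end Groth.Agent.S10513
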