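import Groth.Statements.S10514
import Groth.Agent.Lib.Helper16.FpqcCover
import Groth.Agent.Lib.Helper16.LocPSource
import Groth.Agent.S7190

set_option autoImplicit false
universe u
open CategoryTheory CategoryTheory.Limits AlgebraicGeometry
open AlgSp

namespace Groth.Agent.S10514

open Groth.Agent.Lib.Helper16

/-- An fppf covering of an algebraic space `X` over `S` by algebraic spaces is a ph covering of `X`: its
members are locally of finite type and every morphism from an affine scheme `Z` to `X` admits a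
standard ph covering of `Z` whose members lift through members of the family. -/
theorem result {S : Scheme.{u}} (X : AlgSp.Space S) {ι : Type u}
    (Xi : ι → AlgSp.Space S) (g : ∀ i, Xi i ⟶ X)
    (h : AlgSp.IsFppfCover (fun i => (Xi i).obj) (fun i => (g i).hom)) :
    AlgSp.IsPhCover (fun i => (Xi i).obj) (fun i => (g i).hom) := by
  refine ⟨fun i => ?_, fun Z hZ t => ?_⟩
  · exact locP_mono (fun _ _ f (hf : LocallyOfFinitePresentation f) =>
      (inferInstance : LocallyOfFiniteType f)) (h.1 i).2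
  · obtain ⟨U, k, l, hl, hkf, hkp, hks⟩ :=
      exists_fppf_charts X.property _ (fun i => (Xi i).property) _ h Z t
    let E : PreZeroHypercover.{u} Z.left :=
      { I₀ := ι, X := fun i => (U i).left, f := fun i => (k i).left }
    have hE : HTop.IsPhCover E := Groth.Agent.S7190.result E hkf hkp (fun z => by
      obtain ⟨i, x, hx⟩ := hks z
      exact ⟨i, x, hx⟩)
    obtain ⟨F, hF, hFE⟩ := hE.2 ⟨⊤, isAffineOpen_top Z.left⟩
    have hiso : IsIso (⊤ : Z.left.Opens).ι := by
      have : (⊤ : Z.left.Opens).ι = Z.left.topIso.hom := rfl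
      rw [this]; infer_instance
    refine ⟨{ I₀ := F.I₀, X := F.X, f := fun j => F.f j ≫ (⊤ : Z.left.Opens).ι }, ?_, fun j => ?_⟩
    · refine ⟨hZ, hF.finite_index, hF.isAffine_obj, ?_⟩
      obtain ⟨W, f, ι', hprop, hsurj, hoi, hcomm, hcov⟩ := hF.exists_proper
      refine ⟨W, f ≫ (⊤ : Z.left.Opens).ι, ι', inferInstance, inferInstance, hoi, fun j => ?_, hcov⟩
      show ι' j ≫ f ≫ _ = F.f j ≫ _
      rw [← Category.assoc, hcomm]
    · obtain ⟨i, hh, hw⟩ := hFE j
      have hw' : hh ≫ (k i).left = F.f j ≫ (⊤ : Z.left.Opens).ι := hw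
      have hov : hh ≫ (U i).hom = (F.f j ≫ (⊤ : Z.left.Opens).ι) ≫ Z.hom := by
        rw [← Over.w (k i), ← Category.assoc, hw']
      have e : (Over.homMk hh hov : Over.mk ((F.f j ≫ (⊤ : Z.left.Opens).ι) ≫ Z.hom) ⟶ U i) ≫ k i =
          (Over.homMk (F.f j ≫ (⊤ : Z.left.Opens).ι) rfl :
            Over.mk ((F.f j ≫ (⊤ : Z.left.Opens).ι) ≫ Z.hom) ⟶ Z) := by
        ext
        exact hw'
      refine ⟨i, (yon S).map (Over.homMk hh hov :
        Over.mk ((F.f j ≫ (⊤ : Z.left.Opens).ι) ≫ Z.hom) ⟶ U i) ≫ l i, ?_⟩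
      calc ((yon S).map (Over.homMk hh hov :
              Over.mk ((F.f j ≫ (⊤ : Z.left.Opens).ι) ≫ Z.hom) ⟶ U i) ≫ l i) ≫ (g i).hom
          = (yon S).map (Over.homMk hh hov :
              Over.mk ((F.f j ≫ (⊤ : Z.left.Opens).ι) ≫ Z.hom) ⟶ U i) ≫ (l i ≫ (g i).hom) :=
            Category.assoc _ _ _
        _ = (yon S).map (Over.homMk hh hov :
              Over.mk ((F.f j ≫ (⊤ : Z.left.Opens).ι) ≫ Z.hom) ⟶ U i) ≫ ((yon S).map (k i) ≫ t) := by
            rw [hl i]
        _ = (yon S).map ((Over.homMk hh hov :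
              Over.mk ((F.f j ≫ (⊤ : Z.left.Opens).ι) ≫ Z.hom) ⟶ U i) ≫ k i) ≫ t := by
            rw [Functor.map_comp]
            exact (Category.assoc _ _ _).symm
        _ = _ := by rw [e]

end Groth.Agent.S10514
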