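import Groth.Statements.S1052
import Groth.Agent.Lib.Helper2.K0Der.Main
import Groth.Agent.Lib.Helper3.QCProps
import Groth.Agent.Lib.Helper3.QCOpen
-- import your own Groth.Agent.* helpers here

set_option autoImplicit false
universe u
open CategoryTheory CategoryTheory.Limits AlgebraicGeometry
attribute [local instance] HasDerivedCategory.standard
open KZero

namespace Groth.Agent.S1052

/-- Let X be a Noetherian scheme. There is an isomorphism between K₀(Coh(O_X)) (free abelian group on
coherent O_X-modules modulo short exact sequences of coherent modules) and K₀(D^b_Coh(O_X)) (free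
abelian group on bounded objects of D(O_X) with coherent cohomology modulo distinguished triangles
among them) which sends the class of a coherent module F to the class of F placed in degree 0. -/
theorem result (X : Scheme.{u}) [IsNoetherian X] :
    ∃ φ : KZero.K0sub (fun M : X.Modules => Coh.IsCoh M) ≃+
        KZero.K0tr (fun K : DCoh.D X => DCoh.IsCohD K ∧ ∃ a b : ℤ, K.IsGE a ∧ K.IsLE b),
      ∀ F : X.Modules, Coh.IsCoh F →
        φ (KZero.clSub (fun M : X.Modules => Coh.IsCoh M) F) =
          KZero.clTr (fun K : DCoh.D X => DCoh.IsCohD K ∧ ∃ a b : ℤ, K.IsGE a ∧ K.IsLE b) (DCoh.inD X F) := by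
  let P : ObjectProperty X.Modules := fun M => Coh.IsCoh M
  haveI : P.IsClosedUnderIsomorphisms := ⟨fun {M N} e h => by
    obtain ⟨h1, h2⟩ := h
    haveI := h1
    haveI := h2
    exact ⟨(SheafOfModules.isQuasicoherent X.ringCatSheaf).prop_of_iso e h1,
      Groth.Agent.Lib.Helper3.QCProps.isFiniteType_of_iso e⟩⟩
  haveI : P.ContainsZero := ⟨⟨_, isZero_zero _,
    Groth.Agent.Lib.Helper3.QCOpen.isQuasicoherent_of_isZero (isZero_zero _),
    Groth.Agent.Lib.Helper3.QCOpen.isFiniteType_of_isZero (isZero_zero _)⟩⟩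
  haveI : P.IsClosedUnderKernels := ⟨by
    rintro _ ⟨f, k, hk, ⟨⟨q1, t1⟩, ⟨q2, t2⟩⟩⟩
    haveI := q1
    haveI := t1
    haveI := q2
    haveI := t2
    have e0 := IsLimit.conePointUniqueUpToIso hk (kernelIsKernel f)
    have e : k.pt ≅ kernel f := e0
    haveI hq : (kernel f : X.Modules).IsQuasicoherent :=
      Groth.Agent.Lib.Helper3.QCProps.isQuasicoherent_kernel f
    haveI hf : SheafOfModules.IsFiniteType (R := X.ringCatSheaf) (kernel f : X.Modules) :=
      Groth.Agent.Lib.Helper3.QCProps.isFiniteType_of_mono (kernel.ι f)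
    exact ⟨(SheafOfModules.isQuasicoherent X.ringCatSheaf).prop_of_iso e.symm hq,
      Groth.Agent.Lib.Helper3.QCProps.isFiniteType_of_iso e.symm⟩⟩
  exact Groth.Agent.Lib.Helper2.K0Der.main P _ (fun K => Iff.rfl)

end Groth.Agent.S1052
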