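import Groth.Statements.S10541
import Groth.Agent.Lib.Helper16.QuasiFiniteDescent
import Groth.Agent.Lib.Helper16.LocPInst
import Groth.Agent.Lib.Helper16.QuasiCompactMor2
open Groth.Agent.Lib.Helper16

set_option autoImplicit false
universe u
open CategoryTheory CategoryTheory.Limits AlgebraicGeometry
open AlgSp

namespace Groth.Agent.S10541

/-- The properties of morphisms of algebraic spaces over S given by locally quasi-finite (locally
quasi-finite and locally of finite type on etale charts) and by quasi-finite (the same together with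
quasi-compact) are both fpqc local on the base: for an fpqc covering of an algebraic space Y by
algebraic spaces Y_i, a morphism f : X ⟶ Y of algebraic spaces and cartesian squares X_i = Y_i ×_Y
X, f has the property if and only if every X_i ⟶ Y_i has it. -/
theorem result (S : Scheme.{u}) :
    AlgSp.IsLocalOnBase (AlgSp.IsFpqcCover (S := S)) (AlgSp.LocP (@LocallyQuasiFinite ⊓ @LocallyOfFiniteType)) ∧
    AlgSp.IsLocalOnBase (AlgSp.IsFpqcCover (S := S))
      (fun _ _ f => AlgSp.LocP (@LocallyQuasiFinite ⊓ @LocallyOfFiniteType) f ∧ AlgSp.IsQuasiCompactMor f) := by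
  have h1 : AlgSp.IsLocalOnBase (AlgSp.IsFpqcCover (S := S))
      (AlgSp.LocP (@LocallyQuasiFinite ⊓ @LocallyOfFiniteType)) :=
    isLocalOnBase_fpqc_locP etLocalST_locallyQuasiFinite
  exact ⟨h1, IsLocalOnBase.and h1 isLocalOnBase_fpqc_isQuasiCompactMor⟩

end Groth.Agent.S10541
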