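import Groth.Statements.S10545
import Groth.Agent.Lib.Helper16.AffRep
import Groth.Agent.S9867
open Groth.Agent.Lib.Helper16

set_option autoImplicit false
universe u
open CategoryTheory CategoryTheory.Limits AlgebraicGeometry
open AlgSp

namespace Groth.Agent.S10545

/-- The property of morphisms of algebraic spaces over S given by f is finite locally free
(representable by finite, flat, locally finitely presented morphisms of schemes) is fpqc local on
the base: for an fpqc covering of an algebraic space Y by algebraic spaces Y_i, a morphism f : X ⟶ Y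
of algebraic spaces and cartesian squares X_i = Y_i ×_Y X, f has the property if and only if every
X_i ⟶ Y_i has it. -/
theorem result (S : Scheme.{u}) :
    AlgSp.IsLocalOnBase (AlgSp.IsFpqcCover (S := S)) AlgSp.IsFinLocFreeMor := by
  have hdesc : MorphismProperty.DescendsAlong (AlgSp.finLocFree.{u})
      (@Surjective ⊓ @Flat ⊓ @QuasiCompact : MorphismProperty Scheme.{u}) := Groth.Agent.S9867.result.{u}.1
  have heq : (AlgSp.finLocFree.{u}) =
      ((@IsFinite ⊓ @Flat ⊓ @LocallyOfFinitePresentation : MorphismProperty Scheme.{u})) := by
    ext X Y f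
    exact ⟨fun h => ⟨⟨h.1, h.2.1⟩, h.2.2⟩, fun h => ⟨h.1.1, h.1.2, h.2⟩⟩
  have hloc : IsZariskiLocalAtTarget (AlgSp.finLocFree.{u}) := by
    rw [heq]
    infer_instance
  exact isLocalOnBase_fpqc_repWith_of_le_isAffineHom (fun _ _ f hf => by
    have : IsFinite f := hf.1
    infer_instance)

end Groth.Agent.S10545
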