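import Groth.Statements.S10580
import Groth.Agent.Lib.Helper15.LocalAtSourceMain
open Groth.Agent.Lib.Helper15 Groth.Agent.Lib.Helper16

set_option autoImplicit false
universe u
open CategoryTheory CategoryTheory.Limits AlgebraicGeometry
open AlgSp

namespace Groth.Agent.S10580

/-- Let P be a property of morphisms of schemes and P_spaces the induced property of morphisms of
algebraic spaces over S (P on every etale chart diagram). For τ one of fpqc, fppf, smooth, etale: if
P is τ local on the source for morphisms of schemes, then P_spaces is τ local on the source for
morphisms of algebraic spaces. (The published statement assumes P etale local on the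
source-and-target, which is what makes the chart-wise property the right notion; the implication
itself holds for every P and is stated that way. The syntomic case is not included. τ-locality on
the source for schemes is taken in the form that includes invariance of P under isomorphisms, which
the published definition requires implicitly.) -/
theorem result (S : Scheme.{u}) (P : MorphismProperty Scheme.{u}) :
    (P.IsLocalAtSource Scheme.fpqcPrecoverage → AlgSp.IsLocalOnSource (AlgSp.IsFpqcCover (S := S)) (AlgSp.LocP P)) ∧
    (P.IsLocalAtSource Scheme.fppfPrecoverage → AlgSp.IsLocalOnSource (AlgSp.IsFppfCover (S := S)) (AlgSp.LocP P)) ∧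
    (P.IsLocalAtSource (Scheme.precoverage @Smooth) → AlgSp.IsLocalOnSource (AlgSp.IsSmCover (S := S)) (AlgSp.LocP P)) ∧
    (P.IsLocalAtSource Scheme.etalePrecoverage → AlgSp.IsLocalOnSource (AlgSp.IsEtCover (S := S)) (AlgSp.LocP P)) := by
  refine ⟨fun hP => ?_, fun hP => ?_, fun hP => ?_, fun hP => ?_⟩
  · exact isLocalOnSource_locP_fpqc
  · have : P.IsLocalAtSource (Scheme.precoverage (@Flat ⊓ @LocallyOfFinitePresentation)) := hP
    have h := isLocalOnSource_locP_precoverage (S := S) (P := P)
      (etLocalST_flat.inf etLocalST_locallyOfFinitePresentation)
    intro ι X Xi g hX hXi hcov Y f hY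
    refine h Xi g hX hXi ⟨fun i => ?_, hcov.2⟩ f hY
    exact fun U V a b k ha hb comm => ⟨(hcov.1 i).1 a b k ha hb comm, (hcov.1 i).2 a b k ha hb comm⟩
  · exact isLocalOnSource_locP_precoverage etLocalST_smooth
  · have : P.IsLocalAtSource (Scheme.precoverage @Etale) := hP
    have h := isLocalOnSource_locP_precoverage (S := S) (P := P) etLocalST_etale
    intro ι X Xi g hX hXi hcov Y f hY
    exact h Xi g hX hXi ⟨fun i => (isEtaleMor_iff_locP_etale hX (g i)).1 (hcov.1 i), hcov.2⟩ f hY

end Groth.Agent.S10580
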