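import Groth.Statements.S9844
import Mathlib
import Groth.Agent.Lib.Helper9.FppfSource

set_option autoImplicit false
open CategoryTheory CategoryTheory.Limits AlgebraicGeometry Opposite
universe u
open Desc

namespace Groth.Agent.S9844

/-- Being locally of finite type is fppf local on the source: for every fppf covering family g i : X i ⟶
X, a morphism f : X ⟶ Y is locally of finite type if and only if every composite g i ≫ f is. -/
theorem result :
    MorphismProperty.IsLocalAtSource (@LocallyOfFiniteType : MorphismProperty Scheme.{u}) Scheme.fppfPrecoverage := by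
  refine MorphismProperty.IsLocalAtSource.mk_of_iff ?_
  intro X Y f R hR
  have hR' : R ∈ Scheme.precoverage (@Flat ⊓ @LocallyOfFinitePresentation) X := hR
  constructor
  · intro hf U g hg
    have hgP : (@Flat ⊓ @LocallyOfFinitePresentation : MorphismProperty Scheme.{u}) g := hR'.2 hg
    have : LocallyOfFinitePresentation g := hgP.2
    have : LocallyOfFiniteType f := hf
    show LocallyOfFiniteType (g ≫ f)
    infer_instance
  · intro H
    refine Groth.Agent.Lib.Helper9.FppfSource.core' (P := @LocallyOfFiniteType)
      Groth.Agent.Lib.Helper9.FppfSource.ft_source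
      (fun φ ψ => Groth.Agent.Lib.Helper9.FppfSource.ft_desc φ ψ) f (fun x => ?_)
    obtain ⟨U, g, hg, u, hu⟩ :=
      (Presieve.mem_comap_jointlySurjectivePrecoverage_iff Scheme.forget).mp hR'.1 x
    have hgP : (@Flat ⊓ @LocallyOfFinitePresentation : MorphismProperty Scheme.{u}) g := hR'.2 hg
    exact ⟨U, g, u, hu, hgP.1, hgP.2, H hg⟩

end Groth.Agent.S9844
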