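import Groth.Statements.S10559
import Groth.Agent.S10580
import Groth.Agent.S10553
import Groth.Agent.Lib.Helper25.AlgSpSrc

set_option autoImplicit false
universe u
open CategoryTheory CategoryTheory.Limits AlgebraicGeometry
open AlgSp

namespace Groth.Agent.S10559

/-- Let f : X ⟶ Y and q : Y ⟶ B be morphisms of algebraic spaces over S. If f is surjective and smooth
and f ≫ q is smooth, then q is smooth; if f is surjective and etale and f ≫ q is etale, then q is
etale. (The syntomic case of the published statement is not included.) -/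
theorem result {S : Scheme.{u}} {X Y B : AlgSp.Space S} (f : X ⟶ Y) (q : Y ⟶ B)
    (hs : AlgSp.IsSurjectiveMor f.hom) :
    (AlgSp.LocP @Smooth f.hom → AlgSp.LocP @Smooth (f ≫ q).hom → AlgSp.LocP @Smooth q.hom) ∧
    (AlgSp.IsEtaleMor f.hom → AlgSp.IsEtaleMor (f ≫ q).hom → AlgSp.IsEtaleMor q.hom) := by
  refine ⟨fun hf h => ?_, fun hf h => ?_⟩
  · have cov : AlgSp.IsSmCover (S := S) (fun _ : PUnit.{u+1} => X.obj) (fun _ => f.hom) :=
      ⟨fun _ => hf, fun x => ⟨PUnit.unit, hs x⟩⟩
    exact (Groth.Agent.S10553.result S (fun _ : PUnit.{u+1} => X.obj) (fun _ => f.hom) Y.property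
      (fun _ => X.property) cov q.hom B.property).2 (fun _ => h)
  · have cov : AlgSp.IsEtCover (S := S) (fun _ : PUnit.{u+1} => X.obj) (fun _ => f.hom) :=
      ⟨fun _ => hf, fun x => ⟨PUnit.unit, hs x⟩⟩
    have hloc := (Groth.Agent.S10580.result S @Etale).2.2.2
      Groth.Agent.Lib.Helper25.AlgSpSrc.etale_isLocalAtSource_etale
    have h' : AlgSp.LocP @Etale (f ≫ q).hom :=
      (Groth.Agent.Lib.Helper16.isEtaleMor_iff_locP_etale B.property _).1 h
    have h2 := (hloc (fun _ : PUnit.{u+1} => X.obj) (fun _ => f.hom) Y.property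
      (fun _ => X.property) cov q.hom B.property).2 (fun _ => h')
    exact (Groth.Agent.Lib.Helper16.isEtaleMor_iff_locP_etale B.property _).2 h2

end Groth.Agent.S10559
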