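import Groth.Statements.S10562
import Groth.Agent.Lib.Helper16.NoethDescent
import Groth.Agent.Lib.Helper16.ChartDiagram
open Groth.Agent.Lib.Helper16

set_option autoImplicit false
universe u
open CategoryTheory CategoryTheory.Limits AlgebraicGeometry
open AlgSp

namespace Groth.Agent.S10562

/-- Let f : X ⟶ Y be a morphism of algebraic spaces over S which is locally of finite presentation, flat
and surjective. If X is locally Noetherian then Y is locally Noetherian. -/
theorem result {S : Scheme.{u}} {X Y : AlgSp.Space S} (f : X ⟶ Y)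
    (hfp : AlgSp.LocP @LocallyOfFinitePresentation f.hom) (hfl : AlgSp.LocP @Flat f.hom)
    (hs : AlgSp.IsSurjectiveMor f.hom) (hX : AlgSp.IsLocNoethSp X.obj) :
    AlgSp.IsLocNoethSp Y.obj := by
  obtain ⟨U, a₀, ha₀e, ha₀s, hU⟩ := hX
  obtain ⟨V, b, hbe, hbs⟩ := Y.property.atlas
  obtain ⟨U₁, h, c, ha₁e, ha₁c, hce, sq, -⟩ := exists_chart_diagram f.hom b hbe a₀ ha₀e
  have hUn : IsLocallyNoetherian U.left := hU
  have hc : Etale c.left := hce
  have hU₁n : IsLocallyNoetherian U₁.left := LocallyOfFiniteType.isLocallyNoetherian c.left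
  have hflat : Flat h.left := hfl _ _ h ha₁e hbe ha₁c
  have hlfp : LocallyOfFinitePresentation h.left := hfp _ _ h ha₁e hbe ha₁c
  have hsurj : Surjective h.left := by
    refine ⟨fun v => ?_⟩
    obtain ⟨x, hx⟩ := hs (AlgSp.Points.ofPt b v)
    obtain ⟨u, rfl⟩ := ofPt_surjective_of_surjective a₀ ha₀s x
    obtain ⟨u₁, hu₁, -⟩ := exists_point_of_isPullback_yon_yon sq v u (by rw [← hx]; rfl)
    exact ⟨u₁, hu₁⟩
  exact ⟨V, b, hbe, hbs, isLocallyNoetherian_of_fppf_surjective h.left⟩

end Groth.Agent.S10562
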