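import Groth.Statements.S10571
import Groth.Agent.Lib.Helper16.SpCoprod2
import Groth.Agent.Lib.Helper16.FibreProduct
open Groth.Agent.Lib.Helper16

set_option autoImplicit false
universe u
open CategoryTheory CategoryTheory.Limits AlgebraicGeometry
open AlgSp

namespace Groth.Agent.S10571

/-- Suppose a property P of morphisms between algebraic spaces over S satisfies: (1) if finitely many
morphisms X_i ⟶ Y_i have P then so does the induced morphism ∐ X_i ⟶ ∐ Y_i, (2) f : X ⟶ Y has P
exactly when, for each affine scheme Z and each h_Z ⟶ Y, the base change h_Z ×_Y X ⟶ h_Z has P, and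
(3) for every surjective flat morphism of affine schemes Z' ⟶ Z over S and every f : X ⟶ h_Z, if the
base change h_{Z'} ×_{h_Z} X ⟶ h_{Z'} has P then f has P. Under these hypotheses, P is local on the
base for the fpqc topology. (The published statement asks (1) only for two morphisms; its proof
applies (1) to a disjoint union indexed by a finite set that may be empty, and with (1) for two
morphisms only the property that holds for no morphism satisfies all three hypotheses without being
fpqc local on the base, as the empty covering of the empty algebraic space shows. This row asks (1)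
for all finite families, the empty one included.) -/
theorem result {S : Scheme.{u}} (P : MorphismProperty (AlgSp.Sp S))
    (h1 : ∀ ⦃ι : Type u⦄ [Finite ι] (Xi Yi : ι → AlgSp.Sp S) (fi : ∀ i, Xi i ⟶ Yi i)
      (cX : Cofan Xi) (cY : Cofan Yi) (hcX : IsColimit cX) (hcY : IsColimit cY) (m : cX.pt ⟶ cY.pt),
      (∀ i, AlgSp.IsAlgSpace (Xi i)) → (∀ i, AlgSp.IsAlgSpace (Yi i)) →
      AlgSp.IsAlgSpace cX.pt → AlgSp.IsAlgSpace cY.pt →
      (∀ i, cX.inj i ≫ m = fi i ≫ cY.inj i) → (∀ i, P (fi i)) → P m)
    (h2 : ∀ ⦃X Y : AlgSp.Sp S⦄, AlgSp.IsAlgSpace X → AlgSp.IsAlgSpace Y → ∀ (f : X ⟶ Y),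
      P f ↔ ∀ (Z : Over S), IsAffine Z.left → ∀ (g : (AlgSp.yon S).obj Z ⟶ Y) (W : AlgSp.Sp S)
        (fst : W ⟶ X) (snd : W ⟶ (AlgSp.yon S).obj Z), AlgSp.IsAlgSpace W → IsPullback fst snd f g → P snd)
    (h3 : ∀ ⦃Z Z' : Over S⦄ (c : Z' ⟶ Z), IsAffine Z.left → IsAffine Z'.left → Surjective c.left → Flat c.left →
      ∀ ⦃X X' : AlgSp.Sp S⦄ (f : X ⟶ (AlgSp.yon S).obj Z) (fst : X' ⟶ X) (f' : X' ⟶ (AlgSp.yon S).obj Z'),
        AlgSp.IsAlgSpace X → AlgSp.IsAlgSpace X' → IsPullback fst f' f ((AlgSp.yon S).map c) → P f' → P f) :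
    AlgSp.IsLocalOnBase (AlgSp.IsFpqcCover (S := S)) P := by
  intro ι Y Yi g hY hYi hcov X f hX Xi p q hXi sq
  constructor
  · intro hPf i
    refine (h2 (hXi i) (hYi i) (p i)).2 (fun Z hZ g' W fst snd hW sqW => ?_)
    exact (h2 hX hY f).1 hPf Z hZ (g' ≫ g i) W (fst ≫ q i) snd hW (sqW.paste_horiz (sq i))
  · intro hp
    refine (h2 hX hY f).2 (fun Z hZ h W fst snd hW sqW => ?_)
    obtain ⟨m, Wj, c, hWaff, hcflat, hcsurj, hlift⟩ := hcov.2 Z hZ h
    choose ij l hl using hlift
    -- the disjoint union of the covering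
    let κ := ULift.{u} (Fin m)
    let Wk : κ → Over S := fun k => Wj k.down
    have hWkaff : ∀ k, IsAffine (Wk k).left := fun k => hWaff k.down
    let Z' : Over S := SpCoprod.sig Wk
    let cc : Z' ⟶ Z := SpCoprod.sigDesc Wk (fun k => c k.down)
    have hZ'aff : IsAffine Z'.left := by
      change IsAffine (∐ fun k => (Wk k).left)
      infer_instance
    have hccflat : Flat cc.left := SpCoprod.sigDesc_prop (P := @Flat) Wk _ (fun k => hcflat k.down)
    have hccsurj : Surjective cc.left := SpCoprod.sigDesc_surjective Wk _ (fun z => by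
      obtain ⟨j, hj⟩ := hcsurj z
      exact ⟨⟨j⟩, hj⟩)
    obtain ⟨hcY⟩ := SpCoprod.isColimit_sig Wk
    have hVK := SpCoprod.isVanKampen_cofan _ hcY
    -- the base change to `Z'`
    have hX' : IsAlgSpace (pullback snd ((yon S).map cc)) :=
      isAlgSpace_of_isPullback hW (IsAlgSpace.yon_obj Z).diag (IsAlgSpace.yon_obj Z')
        (IsPullback.of_hasPullback snd ((yon S).map cc))
    refine h3 cc hZ hZ'aff hccsurj hccflat snd (pullback.fst snd ((yon S).map cc))
      (pullback.snd snd ((yon S).map cc)) hW hX' (IsPullback.of_hasPullback _ _) ?_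
    -- the pieces
    let f' := pullback.snd snd ((yon S).map cc)
    let Xk : κ → Sp S := fun k => pullback f' ((yon S).map (SpCoprod.sigι Wk k))
    have hXk : ∀ k, IsAlgSpace (Xk k) := fun k =>
      isAlgSpace_of_isPullback hX' (IsAlgSpace.yon_obj Z').diag (IsAlgSpace.yon_obj (Wk k))
        (IsPullback.of_hasPullback f' ((yon S).map (SpCoprod.sigι Wk k)))
    let fk : ∀ k, Xk k ⟶ (yon S).obj (Wk k) := fun k => pullback.snd f' ((yon S).map (SpCoprod.sigι Wk k))
    let cX : Cofan Xk := Cofan.mk (pullback snd ((yon S).map cc))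
      (fun k => pullback.fst f' ((yon S).map (SpCoprod.sigι Wk k)))
    let α : Discrete.functor Xk ⟶ Discrete.functor (fun k => (yon S).obj (Wk k)) :=
      Discrete.natTrans fun k => fk k.as
    have hcX : Nonempty (IsColimit cX) :=
      (hVK cX α f' (by
        ext1
        ext1 ⟨k⟩
        simpa [α, cX, fk, Cofan.inj] using (pullback.condition (f := f')
          (g := (yon S).map (SpCoprod.sigι Wk k))).symm) (NatTrans.Equifibered.of_discrete α)).2
        (fun ⟨k⟩ => IsPullback.of_hasPullback f' ((yon S).map (SpCoprod.sigι Wk k)))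
    obtain ⟨hcX⟩ := hcX
    refine h1 Xk (fun k => (yon S).obj (Wk k)) fk cX _ hcX hcY f' hXk (fun k => IsAlgSpace.yon_obj _) hX'
      (IsAlgSpace.yon_obj Z') (fun k => pullback.condition) (fun k => ?_)
    -- each piece is a base change of `p (ij k)`
    have big : IsPullback (pullback.fst f' ((yon S).map (SpCoprod.sigι Wk k)) ≫
        pullback.fst snd ((yon S).map cc) ≫ fst) (fk k) f (l k.down ≫ g (ij k.down)) := by
      have e : l k.down ≫ g (ij k.down) = (yon S).map (SpCoprod.sigι Wk k) ≫ (yon S).map cc ≫ h := by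
        rw [hl, ← Category.assoc, ← Functor.map_comp, SpCoprod.sigι_desc]
      rw [e]
      exact (IsPullback.of_hasPullback f' ((yon S).map (SpCoprod.sigι Wk k))).paste_horiz
        ((IsPullback.of_hasPullback snd ((yon S).map cc)).paste_horiz sqW)
    obtain ⟨r, hr1, hr2⟩ : ∃ r : Xk k ⟶ Xi (ij k.down), r ≫ q (ij k.down) =
        pullback.fst f' ((yon S).map (SpCoprod.sigι Wk k)) ≫ pullback.fst snd ((yon S).map cc) ≫ fst ∧
        r ≫ p (ij k.down) = fk k ≫ l k.down :=
      ⟨(sq (ij k.down)).lift _ _ (by rw [big.w, Category.assoc]), (sq (ij k.down)).lift_fst _ _ _,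
        (sq (ij k.down)).lift_snd _ _ _⟩
    have sqk : IsPullback r (fk k) (p (ij k.down)) (l k.down) := by
      refine IsPullback.of_right ?_ hr2 (sq (ij k.down))
      rw [hr1]
      exact big
    exact (h2 (hXi _) (hYi _) (p (ij k.down))).1 (hp _) (Wk k) (hWkaff k) (l k.down) (Xk k) r (fk k) (hXk k) sqk
end Groth.Agent.S10571
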