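import Groth.Statements.S10573
import Groth.Agent.Lib.Helper16.FpqcCore
import Groth.Agent.Lib.Helper16.QuasiCompact
open Groth.Agent.Lib.Helper16

set_option autoImplicit false
universe u
open CategoryTheory CategoryTheory.Limits AlgebraicGeometry
open AlgSp

namespace Groth.Agent.S10573

/-- Let {g_i : T_i ⟶ T} be a family of algebraic spaces over S forming an fpqc covering, and let W_i ⊂
|T_i| be open subsets (open subspaces) such that for all i, j the two projections T_i ×_T T_j ⟶ T_i,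
T_j pull W_i and W_j back to the same subset of |T_i ×_T T_j|. Then there is a unique open subset W
⊂ |T| with g_i⁻¹(W) = W_i for every i. -/
theorem result {S : Scheme.{u}} {ι : Type u} {T : AlgSp.Space S}
    (Ti : ι → AlgSp.Space S) (g : ∀ i, Ti i ⟶ T)
    (hg : AlgSp.IsFpqcCover (fun i => (Ti i).obj) (fun i => (g i).hom))
    (Wi : ∀ i, Set (AlgSp.Points (Ti i).obj)) (hW : ∀ i, IsOpen (Wi i))
    (hc : ∀ i j, AlgSp.Points.map (pullback.fst (g i).hom (g j).hom) ⁻¹' Wi i =
      AlgSp.Points.map (pullback.snd (g i).hom (g j).hom) ⁻¹' Wi j) :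
    ∃! W : TopologicalSpace.Opens (AlgSp.Points T.obj), ∀ i, AlgSp.Points.map (g i).hom ⁻¹' (W : Set (AlgSp.Points T.obj)) = Wi i := by
  have hsurj : ∀ x : AlgSp.Points T.obj, ∃ i y, AlgSp.Points.map (g i).hom y = x := by
    intro x
    induction x using AlgSp.Points.ind with | h p => ?_
    have haff : IsAffine p.pt.left := (inferInstance : IsAffine (Spec (CommRingCat.of p.K)))
    obtain ⟨m, Wj, c, hWa, hcf, hcs, hl⟩ := hg.2 p.pt haff p.toHom
    have hne : Nonempty ↥(Spec (CommRingCat.of p.K)) := inferInstance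
    obtain ⟨s⟩ := hne
    obtain ⟨j, w, hw⟩ := hcs s
    obtain ⟨i, l, hl⟩ := hl j
    refine ⟨i, AlgSp.Points.ofPt l w, ?_⟩
    rw [AlgSp.Points.map_ofPt, hl, ofPt_yon_map_comp, AlgSp.Points.ofPt_toHom]
  have hcompat : ∀ i j (ti : AlgSp.Points (Ti i).obj) (tj : AlgSp.Points (Ti j).obj),
      AlgSp.Points.map (g i).hom ti = AlgSp.Points.map (g j).hom tj → (ti ∈ Wi i ↔ tj ∈ Wi j) := by
    intro i j ti tj h
    obtain ⟨z, hz1, hz2⟩ := exists_point_of_isPullback
      (IsPullback.of_hasPullback (g i).hom (g j).hom) ti tj h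
    have := Set.ext_iff.1 (hc i j) z
    simp only [Set.mem_preimage] at this
    rw [hz1, hz2] at this
    exact this
  let W₀ : Set (AlgSp.Points T.obj) := ⋃ i, AlgSp.Points.map (g i).hom '' Wi i
  have hpre : ∀ i, AlgSp.Points.map (g i).hom ⁻¹' W₀ = Wi i := by
    intro i
    ext t
    constructor
    · intro ht
      obtain ⟨j, tj, htj, hj⟩ := Set.mem_iUnion.1 ht
      exact (hcompat i j t tj hj.symm).2 htj
    · intro ht
      exact Set.mem_iUnion.2 ⟨i, t, ht, rfl⟩
  have hopen : IsOpen W₀ := by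
    rw [AlgSp.Points.isOpen_iff]
    intro Z a
    rw [isOpen_iff_forall_mem_open]
    intro z hz
    obtain ⟨V₀, hV, hzV, -⟩ := (TopologicalSpace.Opens.isBasis_iff_nbhd.mp Z.left.isBasis_affineOpens)
      (show z ∈ (⊤ : Z.left.Opens) from trivial)
    obtain ⟨V, rfl⟩ : ∃ V : Z.left.Opens, V = V₀ := ⟨V₀, rfl⟩
    have hVa : IsAffine (overOpen Z V).left := hV
    have hVo : IsOpen (AlgSp.Points.ofPt ((AlgSp.yon S).map (overOpenι Z V) ≫ a) ⁻¹' W₀) := by
      obtain ⟨m, Wj, c, hWa, hcf, hcs, hl⟩ := hg.2 (overOpen Z V) hVa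
        ((AlgSp.yon S).map (overOpenι Z V) ≫ a)
      refine isOpen_of_std_cover (fun j => (Wj j).left) (fun j => (c j).left) (fun j => ?_) hcf hcs _
        (fun j => ?_)
      · haveI := hVa
        haveI := hWa j
        infer_instance
      · obtain ⟨i, l, hl⟩ := hl j
        have e : ((c j).left : ↥(Wj j).left → ↥(overOpen Z V).left) ⁻¹'
            (AlgSp.Points.ofPt ((AlgSp.yon S).map (overOpenι Z V) ≫ a) ⁻¹' W₀) =
            AlgSp.Points.ofPt l ⁻¹' (Wi i) := by
          ext w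
          simp only [Set.mem_preimage]
          rw [← ofPt_yon_map_comp, ← hl, ← AlgSp.Points.map_ofPt, ← Set.mem_preimage, hpre]
        rw [e]
        exact (hW i).preimage (AlgSp.Points.continuous_ofPt l)
    refine ⟨V.ι '' (AlgSp.Points.ofPt ((AlgSp.yon S).map (overOpenι Z V) ≫ a) ⁻¹' W₀), ?_,
      V.ι.isOpenEmbedding.isOpenMap _ hVo, ⟨(⟨z, hzV⟩ : ↥V), ?_, rfl⟩⟩
    · rintro _ ⟨v, hv, rfl⟩
      rw [Set.mem_preimage, ← ofPt_restrict]
      exact hv
    · rw [Set.mem_preimage, ofPt_restrict]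
      exact hz
  refine ⟨⟨W₀, hopen⟩, hpre, ?_⟩
  intro W' hW'
  apply TopologicalSpace.Opens.ext
  ext x
  obtain ⟨i, y, rfl⟩ := hsurj x
  have h1 := Set.ext_iff.1 (hW' i) y
  have h2 := Set.ext_iff.1 (hpre i) y
  simp only [Set.mem_preimage] at h1 h2
  exact h1.trans h2.symm

end Groth.Agent.S10573
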