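import Groth.Statements.S10581
import Groth.Agent.Lib.Helper16.FlatMonoSp2

set_option autoImplicit false
universe u
open CategoryTheory CategoryTheory.Limits AlgebraicGeometry
open AlgSp

namespace Groth.Agent.S10581

/-- If a morphism of algebraic spaces is both flat and a monomorphism, then it is representable by
schemes. Flatness is the etale-local condition on charts; the monomorphism condition is taken in
fppf sheaves. -/
theorem result {S : Scheme.{u}} {X Y : AlgSp.Space S} (f : X ⟶ Y)
    (hflat : AlgSp.LocP @Flat f.hom) [Mono f.hom] : AlgSp.Representable f.hom := by
  exact Groth.Agent.Lib.Helper16.FlatMonoSp.representable_of_flat_mono X.property Y.property f.hom hflat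

end Groth.Agent.S10581
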