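import Groth.Statements.S10609
import Groth.Agent.Lib.Helper16.FlatBC2
import Groth.Agent.Lib.Helper14.FlatOpen.Stalk

open Groth.Agent.Lib.Helper16 Groth.Agent.Lib.Helper16.FlatBC Groth.Agent.Lib.Helper16.DimF

set_option autoImplicit false
universe u
open CategoryTheory CategoryTheory.Limits AlgebraicGeometry
open AlgSp

namespace Groth.Agent.S10609

/-- Let f : X ⟶ Y and h : Y ⟶ Z be morphisms of algebraic spaces over S with X locally of finite
presentation and flat over Z and Y locally of finite type over Z. Then the set of points of X at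
which f is flat is open in the space of points of X, and its formation commutes with base change:
for Z' ⟶ Z and pullback squares Y' = Y ×_Z Z', X' = X ×_Y Y', the set of points of X' at which X' ⟶
Y' is flat is the inverse image of that set under the map on points of X' ⟶ X. -/
theorem result {S : Scheme.{u}} {X Y Z : AlgSp.Space S} (f : X ⟶ Y) (h : Y ⟶ Z)
    (hfp : AlgSp.LocP @LocallyOfFinitePresentation (f ≫ h).hom) (hfl : AlgSp.LocP @Flat (f ≫ h).hom)
    (hft : AlgSp.LocP @LocallyOfFiniteType h.hom) :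
    IsOpen {x : AlgSp.Points X.obj | AlgSp.IsFlatAtMor f.hom x} ∧
    ∀ (X' Y' Z' : AlgSp.Space S) (g : Z' ⟶ Z) (f' : X' ⟶ Y') (h' : Y' ⟶ Z') (pX : X' ⟶ X) (pY : Y' ⟶ Y),
      IsPullback pY.hom h'.hom h.hom g.hom → IsPullback pX.hom f'.hom f.hom pY.hom →
      {x' : AlgSp.Points X'.obj | AlgSp.IsFlatAtMor f'.hom x'} =
        AlgSp.Points.map pX.hom ⁻¹' {x : AlgSp.Points X.obj | AlgSp.IsFlatAtMor f.hom x} := by
  obtain ⟨W, c, hce, hcs⟩ := Z.property.atlas
  obtain ⟨V₀, b₀, hb₀e, hb₀s⟩ := Y.property.atlas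
  obtain ⟨U₀, a₀, ha₀e, ha₀s⟩ := X.property.atlas
  obtain ⟨V, k, cV, hbe, hbc, -, sqV₀, hbs⟩ := exists_chart_diagram h.hom c hce b₀ hb₀e
  obtain ⟨U, m, cU, hae, hac, -, sqU₀, has⟩ := exists_chart_diagram f.hom _ hbe a₀ ha₀e
  have hbs' := hbs hcs hb₀s
  have has' := has hbs' ha₀s
  have hfh : (f ≫ h).hom = f.hom ≫ h.hom := rfl
  have hacc : ((yon S).map cU ≫ a₀) ≫ (f ≫ h).hom = (yon S).map (m ≫ k) ≫ c := by
    rw [hfh, ← Category.assoc, hac, Category.assoc, hbc, ← Category.assoc, ← Functor.map_comp]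
  have hmk : Flat (m ≫ k).left := hfl _ c (m ≫ k) hae hce hacc
  haveI hmk' : Flat (m.left ≫ k.left) := by rwa [Over.comp_left] at hmk
  have hmkp : LocallyOfFinitePresentation (m ≫ k).left := hfp _ c (m ≫ k) hae hce hacc
  haveI hmkp' : LocallyOfFinitePresentation (m.left ≫ k.left) := by rwa [Over.comp_left] at hmkp
  haveI hkt : LocallyOfFiniteType k.left := hft _ c k hbe hce hbc
  haveI hmp : LocallyOfFinitePresentation m.left :=
    Groth.Agent.Lib.Helper14.LCF.locallyOfFinitePresentation_of_comp m.left k.left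
  have hiff : ∀ u : ↥U.left, IsFlatAtMor f.hom (Points.ofPt ((yon S).map cU ≫ a₀) u) ↔
      (m.left.stalkMap u).hom.Flat := fun u => isFlatAtMor_iff f.hom _ _ m hae hbe hac u
  refine ⟨?_, ?_⟩
  · have hopen : IsOpen {u : ↥U.left | (m.left.stalkMap u).hom.Flat} :=
      Groth.Agent.Lib.Helper14.FlatOpen.isOpen_flat_stalkMap m.left
    have hset : {x : Points X.obj | IsFlatAtMor f.hom x} =
        Points.ofPt ((yon S).map cU ≫ a₀) '' {u : ↥U.left | (m.left.stalkMap u).hom.Flat} := by
      ext x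
      constructor
      · intro hx
        obtain ⟨u, rfl⟩ := ofPt_surjective_of_surjective _ has' x
        exact ⟨u, (hiff u).1 hx, rfl⟩
      · rintro ⟨u, hu, rfl⟩
        exact (hiff u).2 hu
    rw [hset]
    exact isOpenMap_ofPt_of_etale _ hae _ hopen
  · intro X' Y' Z' g f' h' pX pY sqY sqX
    obtain ⟨W'₀, c'₀, hc'₀e, hc'₀s⟩ := Z'.property.atlas
    obtain ⟨W', n, cW', hc'e, hcc, -, -, hc's⟩ := exists_chart_diagram g.hom c hce c'₀ hc'₀e
    have hc's' := hc's hcs hc'₀s
    obtain ⟨b', hb'1, hb'2, hb'e, hb'pt⟩ := chart_baseChange sqY c b₀ k cV sqV₀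
      ((yon S).map cW' ≫ c'₀) n hcc (pullback.fst k n) (pullback.snd k n)
      (IsPullback.of_hasPullback k n) hb₀e hc'e
    obtain ⟨a', ha'1, ha'2, ha'e, ha'pt⟩ := chart_baseChange sqX ((yon S).map cV ≫ b₀) a₀ m cU sqU₀
      b' (pullback.fst k n) hb'1 (pullback.fst m (pullback.fst k n))
      (pullback.snd m (pullback.fst k n)) (IsPullback.of_hasPullback _ _) ha₀e hb'e
    ext x'
    show IsFlatAtMor f'.hom x' ↔ IsFlatAtMor f.hom (Points.map pX.hom x')
    obtain ⟨w', hw'⟩ := ofPt_surjective_of_surjective _ hc's'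
      (Points.map h'.hom (Points.map f'.hom x'))
    obtain ⟨v', hv'1, hv'2⟩ := hb'pt hb₀s (Points.map f'.hom x') w' hw'
    obtain ⟨u', hu'1, hu'2⟩ := ha'pt ha₀s x' v' hv'1
    subst hu'1
    have hpt : Points.map pX.hom (Points.ofPt a' u') = Points.ofPt ((yon S).map cU ≫ a₀)
        ((pullback.fst m (pullback.fst k n)).left u') := by
      rw [Points.map_ofPt, ha'1, ofPt_yon_map_comp]
    rw [hpt, hiff, isFlatAtMor_iff f'.hom a' b' _ ha'e hb'e ha'2 u']
    have sqVs : IsPullback (pullback.fst k n).left (pullback.snd k n).left k.left n.left :=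
      (IsPullback.of_hasPullback k n).map (Over.forget S)
    have sqUs : IsPullback (pullback.fst m (pullback.fst k n)).left
        (pullback.snd m (pullback.fst k n)).left m.left (pullback.fst k n).left :=
      (IsPullback.of_hasPullback m (pullback.fst k n)).map (Over.forget S)
    exact flatAt_baseChange_iff m.left k.left n.left _ _ _ _ sqVs sqUs u'
      (Flat.stalkMap (m.left ≫ k.left) _)

end Groth.Agent.S10609
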