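import Groth.Statements.S10598
import Groth.Agent.Lib.Helper16.WhereEngine
import Groth.Agent.Lib.Helper16.FlatBC3
import Groth.Agent.Lib.Helper16.Thick
import Groth.Agent.S10609

open Groth.Agent.Lib.Helper16 Groth.Agent.Lib.Helper16.Where Groth.Agent.Lib.Helper16.FlatBC AlgSp

set_option autoImplicit false
universe u
open CategoryTheory CategoryTheory.Limits AlgebraicGeometry
open AlgSp

namespace Groth.Agent.S10598

/-- Let iB : B ⟶ B' be a thickening of algebraic spaces over S (representable, every base change to a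
scheme a surjective closed immersion), f' : X' ⟶ Y' a morphism of algebraic spaces over B' (via g' :
Y' ⟶ B') with Y' locally of finite type over B' and X' flat and locally of finite presentation over
B', and f : X ⟶ Y, g : Y ⟶ B its base change to B (both squares to iB cartesian, iX ≫ f' = f ≫ iY).
If f is flat, then f' is flat and g' : Y' ⟶ B' is flat at every point of Y' in the image of f'. -/
theorem result {S : Scheme.{u}} {X X' Y Y' B B' : AlgSp.Space S} (iX : X ⟶ X') (iY : Y ⟶ Y') (iB : B ⟶ B')
    (f : X ⟶ Y) (f' : X' ⟶ Y') (g : Y ⟶ B) (g' : Y' ⟶ B')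
    (hcX : IsPullback iX.hom (f ≫ g).hom (f' ≫ g').hom iB.hom) (hcY : IsPullback iY.hom g.hom g'.hom iB.hom)
    (w : iX ≫ f' = f ≫ iY)
    (hB : AlgSp.IsThickMor iB.hom)
    (hg' : AlgSp.LocP @LocallyOfFiniteType g'.hom)
    (hflat : AlgSp.LocP @Flat (f' ≫ g').hom) (hfp : AlgSp.LocP @LocallyOfFinitePresentation (f' ≫ g').hom)
    (hf : AlgSp.LocP @Flat f.hom) :
    AlgSp.LocP @Flat f'.hom ∧
    ∀ x' : AlgSp.Points X'.obj, AlgSp.IsFlatAtMor g'.hom (AlgSp.Points.map f'.hom x') := by
  have sqX : IsPullback iX.hom f.hom f'.hom iY.hom := by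
    refine IsPullback.of_bot ?_ ?_ hcY
    · exact hcX
    · exact congrArg (fun t => t.hom) w
  obtain ⟨-, hbc⟩ := Groth.Agent.S10609.result f' g' hfp hflat hg'
  have hb := hbc X Y B iB f g iX iY hcY sqX
  have hiX : IsThickMor iX.hom := (RepWith (S := S) thick).of_isPullback hcX.flip hB
  have hsurj : Function.Surjective (Points.map iX.hom) :=
    (Thick.isHomeomorph_points_of_isThickMor X.property X'.property iX.hom hiX).surjective
  have hall : ∀ x' : Points X'.obj, IsFlatAtMor f'.hom x' := by
    intro x'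
    obtain ⟨x, rfl⟩ := hsurj x'
    have h1 : x ∈ {x : Points X.obj | IsFlatAtMor f.hom x} :=
      (locP_flat_iff_forall_isFlatAtMor f.hom).1 hf x
    rw [hb] at h1
    exact h1
  refine ⟨(locP_flat_iff_forall_isFlatAtMor f'.hom).2 hall, fun x' => ?_⟩
  exact isFlatAtMor_of_comp X'.property Y'.property B'.property f'.hom g'.hom x'
    ((locP_flat_iff_forall_isFlatAtMor (f' ≫ g').hom).1 hflat x') (hall x')

end Groth.Agent.S10598
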