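import Groth.Statements.S10601
import Groth.Agent.Lib.Helper16.UnivInjEt
open Groth.Agent.Lib.Helper16

set_option autoImplicit false
universe u
open CategoryTheory CategoryTheory.Limits AlgebraicGeometry
open AlgSp

namespace Groth.Agent.S10601

/-- Take a morphism f : X ⟶ Y of algebraic spaces over S that is locally of finite type and such that
for every etale morphism V ⟶ Y of algebraic spaces the base change X ×_Y V ⟶ V is injective on
points. Then f is universally injective. -/
theorem result {S : Scheme.{u}} {X Y : AlgSp.Space S} (f : X ⟶ Y)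
    (hft : AlgSp.LocP @LocallyOfFiniteType f.hom)
    (hinj : ∀ (V : AlgSp.Space S) (g : V ⟶ Y), AlgSp.IsEtaleMor g.hom →
      ∀ (P : AlgSp.Sp S) (fst : P ⟶ X.obj) (snd : P ⟶ V.obj), IsPullback fst snd f.hom g.hom →
        Function.Injective (AlgSp.Points.map snd)) :
    AlgSp.IsUnivInjectiveMor f.hom := by
  obtain ⟨V₀, b₀, hb₀e, hb₀s⟩ := Y.property.atlas
  have sq := IsPullback.of_hasPullback f.hom b₀
  have hX' : AlgSp.IsAlgSpace (pullback f.hom b₀) :=
    isAlgSpace_of_isPullback X.property Y.property.diag (AlgSp.IsAlgSpace.yon_obj V₀) sq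
  have hsurj : AlgSp.IsSurjectiveMor b₀ := by
    intro y
    obtain ⟨v, hv⟩ := ofPt_surjective_of_surjective b₀ hb₀s y
    exact ⟨AlgSp.Points.ofScheme V₀ v, by rw [← AlgSp.Points.ofPt_eq_map_ofScheme]; exact hv⟩
  refine isUnivInjectiveMor_of_surjective_base X.property.diag (AlgSp.IsAlgSpace.yon_obj V₀).diag f.hom b₀ hsurj
    _ _ sq ?_
  apply isUnivInjectiveMor_of_injOnFieldPoints
  refine UnivInjEt.injOnFieldPoints_of_yon hX' (pullback.snd f.hom b₀)
    (locP_of_isPullback_etale hb₀e sq hft) ?_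
  intro V g hg P fst snd sqP
  have hge : AlgSp.RepWith @Etale ((AlgSp.yon S).map g ≫ b₀) :=
    (AlgSp.RepWith @Etale).comp_mem _ _ ((AlgSp.repWith_yon_map_iff _ _).2 hg) hb₀e
  exact hinj ⟨(AlgSp.yon S).obj V, AlgSp.IsAlgSpace.yon_obj V⟩ (ObjectProperty.homMk ((AlgSp.yon S).map g ≫ b₀))
    (fun _ _ hφ => (AlgSp.RepWith @Etale).comp_mem _ _ hφ hge) P (fst ≫ pullback.fst f.hom b₀) snd (sqP.paste_horiz sq)

end Groth.Agent.S10601
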