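import Groth.Statements.S10603
import Groth.Agent.Lib.Helper16.FlatFib2
import Groth.Agent.Lib.Helper16.FlatFib3
import Groth.Agent.Lib.Helper16.Charts

open Groth.Agent.Lib.Helper16 Groth.Agent.Lib.Helper16.FlatFib Groth.Agent.Lib.Helper16.DimF

set_option autoImplicit false
universe u
open CategoryTheory CategoryTheory.Limits AlgebraicGeometry
open AlgSp

namespace Groth.Agent.S10603

/-- Let f : X ⟶ Y and h : Y ⟶ Z be morphisms of algebraic spaces over S. Suppose X is flat and locally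
of finite presentation over Z, Y is locally of finite type over Z, and for every field K and every z
: Spec K ⟶ Z the base change X_z ⟶ Y_z of f is flat (fibres taken as pullback squares of fppf
sheaves). Then f is flat; if moreover f is surjective, then h is flat. -/
theorem result {S : Scheme.{u}} {X Y Z : AlgSp.Space S} (f : X ⟶ Y) (h : Y ⟶ Z)
    (hfp : AlgSp.LocP @LocallyOfFinitePresentation (f ≫ h).hom) (hfl : AlgSp.LocP @Flat (f ≫ h).hom)
    (hft : AlgSp.LocP @LocallyOfFiniteType h.hom)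
    (hfib : ∀ (K : Type u) [Field K] (sK : Spec (CommRingCat.of K) ⟶ S)
      (z : (AlgSp.yon S).obj (Over.mk sK) ⟶ Z.obj) (Xz Yz : AlgSp.Sp S)
      (pX : Xz ⟶ X.obj) (qX : Xz ⟶ (AlgSp.yon S).obj (Over.mk sK))
      (pY : Yz ⟶ Y.obj) (qY : Yz ⟶ (AlgSp.yon S).obj (Over.mk sK)) (fz : Xz ⟶ Yz),
      IsPullback pX qX (f ≫ h).hom z → IsPullback pY qY h.hom z → fz ≫ pY = pX ≫ f.hom → fz ≫ qY = qX →
      AlgSp.LocP @Flat fz) :
    AlgSp.LocP @Flat f.hom ∧ (AlgSp.IsSurjectiveMor f.hom → AlgSp.LocP @Flat h.hom) := by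
  obtain ⟨W, c, hce, hcs⟩ := Z.property.atlas
  obtain ⟨V₀, b₀, hb₀e, hb₀s⟩ := Y.property.atlas
  obtain ⟨U₀, a₀, ha₀e, ha₀s⟩ := X.property.atlas
  obtain ⟨V, k, cV, hbe, hbc, -, -, hbs⟩ := exists_chart_diagram h.hom c hce b₀ hb₀e
  obtain ⟨U, m, cU, hae, hac, -, sqU, has⟩ := exists_chart_diagram f.hom _ hbe a₀ ha₀e
  have hbs' := hbs hcs hb₀s
  have has' := has hbs' ha₀s
  have hfh : (f ≫ h).hom = f.hom ≫ h.hom := rfl
  have hacc : ((yon S).map cU ≫ a₀) ≫ (f ≫ h).hom = (yon S).map (m ≫ k) ≫ c := by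
    rw [hfh, ← Category.assoc, hac, Category.assoc, hbc, ← Category.assoc, ← Functor.map_comp]
  have hmk : Flat (m ≫ k).left := hfl _ c (m ≫ k) hae hce hacc
  have hmk' : Flat (m.left ≫ k.left) := by rwa [Over.comp_left] at hmk
  have hmkp : LocallyOfFinitePresentation (m ≫ k).left := hfp _ c (m ≫ k) hae hce hacc
  have hmkp' : LocallyOfFinitePresentation (m.left ≫ k.left) := by rwa [Over.comp_left] at hmkp
  have hkt : LocallyOfFiniteType k.left := hft _ c k hbe hce hbc
  have hfibS : ∀ w : ↥W.left, ∃ m' : (m.left ≫ k.left).fiber w ⟶ k.left.fiber w,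
      m' ≫ k.left.fiberι w = (m.left ≫ k.left).fiberι w ≫ m.left ∧ Flat m' := by
    intro w
    let ι : Over.mk (W.left.fromSpecResidueField w ≫ W.hom) ⟶ W :=
      Over.homMk (W.left.fromSpecResidueField w) rfl
    let mT : pullback (m ≫ k) ι ⟶ pullback k ι :=
      pullback.lift (pullback.fst (m ≫ k) ι ≫ m) (pullback.snd (m ≫ k) ι) (by
        rw [Category.assoc]; exact pullback.condition)
    have hmT1 : mT ≫ pullback.fst k ι = pullback.fst (m ≫ k) ι ≫ m := pullback.lift_fst _ _ _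
    have hmT2 : mT ≫ pullback.snd k ι = pullback.snd (m ≫ k) ι := pullback.lift_snd _ _ _
    have hmT : Flat mT.left := flat_fibre_chart f.hom h.hom _ _ c m k hae hbe hce hac hbc ι
      (fun Xz Yz pX qX pY qY fz s1 s2 e1 e2 =>
        hfib ↑(W.left.residueField w) (W.left.fromSpecResidueField w ≫ W.hom) ((yon S).map ι ≫ c)
          Xz Yz pX qX pY qY fz s1 s2 e1 e2) mT hmT1 hmT2
    have sqA : IsPullback (pullback.fst (m ≫ k) ι).left (pullback.snd (m ≫ k) ι).left
        (m.left ≫ k.left) (W.left.fromSpecResidueField w) :=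
      (IsPullback.of_hasPullback (m ≫ k) ι).map (Over.forget S)
    have sqB : IsPullback (pullback.fst k ι).left (pullback.snd k ι).left
        k.left (W.left.fromSpecResidueField w) :=
      (IsPullback.of_hasPullback k ι).map (Over.forget S)
    refine ⟨sqA.isoPullback.inv ≫ mT.left ≫ sqB.isoPullback.hom, ?_, inferInstance⟩
    show (sqA.isoPullback.inv ≫ mT.left ≫ sqB.isoPullback.hom) ≫ pullback.fst _ _ =
      pullback.fst _ _ ≫ m.left
    have hmT1' : mT.left ≫ (pullback.fst k ι).left = (pullback.fst (m ≫ k) ι).left ≫ m.left := by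
      rw [← Over.comp_left, hmT1, Over.comp_left]
    rw [Category.assoc, Category.assoc, sqB.isoPullback_hom_fst, hmT1', ← Category.assoc,
      sqA.isoPullback_inv_fst]
  have hstalk := fun u => flat_of_flat_fibres_fp m.left k.left hfibS u
  have hm : Flat m.left := Flat.of_stalkMap m.left (fun u => (hstalk u).1)
  refine ⟨locP_of_chart etLocalST_flat f.hom _ _ m hae has' hbe hac hm, fun hsurj => ?_⟩
  have hmsurj : ∀ v : ↥V.left, ∃ u : ↥U.left, m.left u = v := by
    intro v
    obtain ⟨x, hx⟩ := hsurj (Points.ofPt ((yon S).map cV ≫ b₀) v)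
    obtain ⟨u₀, rfl⟩ := ofPt_surjective_of_surjective a₀ ha₀s x
    obtain ⟨w, hw1, -⟩ := exists_point_of_isPullback_yon_yon sqU v u₀ (by rw [← hx, Points.map_ofPt])
    exact ⟨w, hw1⟩
  have hk : Flat k.left := Flat.of_stalkMap k.left (fun v => by
    obtain ⟨u, rfl⟩ := hmsurj v
    exact (hstalk u).2)
  exact locP_of_chart etLocalST_flat h.hom _ c k hbe hbs' hce hbc hk

end Groth.Agent.S10603
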