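import Groth.Statements.S10605
import Groth.Agent.Lib.Helper16.AffRep
import Groth.Agent.S0083
open Groth.Agent.Lib.Helper16

set_option autoImplicit false
universe u
open CategoryTheory CategoryTheory.Limits AlgebraicGeometry
open AlgSp

namespace Groth.Agent.S10605

/-- The property of a morphism of algebraic spaces over S of being a thickening (representable, every
base change to a scheme a surjective closed immersion) is local on the base for the fpqc topology.
(The published statement also claims the same for first order thickenings; this row states only the
thickening clause.) -/
theorem result {S : Scheme.{u}} :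
    AlgSp.IsLocalOnBase (S := S) AlgSp.IsFpqcCover
      AlgSp.IsThickMor := by
  have := Groth.Agent.S0083.result.{u}
  have h1 : (AlgSp.thick.{u}).DescendsAlong (@Surjective ⊓ @Flat ⊓ @QuasiCompact) := by
    unfold AlgSp.thick
    infer_instance
  have h2 : IsZariskiLocalAtTarget (AlgSp.thick.{u}) := by
    unfold AlgSp.thick
    infer_instance
  exact isLocalOnBase_fpqc_repWith_of_le_isAffineHom (Pr := AlgSp.thick) (fun _ _ f hf => by
    have : IsClosedImmersion f := hf.1
    infer_instance)

end Groth.Agent.S10605
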