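import Groth.Statements.S10613
import Groth.Agent.Lib.Helper16.UnramMono
open Groth.Agent.Lib.Helper16 Groth.Agent.Lib.Helper15 AlgSp

set_option autoImplicit false
universe u
open CategoryTheory CategoryTheory.Limits AlgebraicGeometry
open AlgSp

namespace Groth.Agent.S10613

/-- For a morphism f : X ⟶ Y of algebraic spaces over S, these four conditions on f are equivalent: (a)
unramified plus monomorphism; (b) unramified plus universally injective; (c) a monomorphism that is
locally of finite type; (d) universally injective, locally of finite type and formally unramified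
(lifting sense). In that case f is representable by schemes, separated and locally quasi-finite.
(Unramified is the etale-local condition locally of finite type and formally unramified on charts;
monomorphisms are taken in fppf sheaves.) -/
theorem result {S : Scheme.{u}} {X Y : AlgSp.Space S} (f : X ⟶ Y) :
    ((AlgSp.LocP (@LocallyOfFiniteType ⊓ @FormallyUnramified) f.hom ∧ Mono f.hom) ↔
      (AlgSp.LocP (@LocallyOfFiniteType ⊓ @FormallyUnramified) f.hom ∧ AlgSp.IsUnivInjectiveMor f.hom)) ∧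
    ((AlgSp.LocP (@LocallyOfFiniteType ⊓ @FormallyUnramified) f.hom ∧ Mono f.hom) ↔
      (AlgSp.LocP @LocallyOfFiniteType f.hom ∧ Mono f.hom)) ∧
    ((AlgSp.LocP (@LocallyOfFiniteType ⊓ @FormallyUnramified) f.hom ∧ Mono f.hom) ↔
      (AlgSp.IsUnivInjectiveMor f.hom ∧ AlgSp.LocP @LocallyOfFiniteType f.hom ∧ AlgSp.IsFormallyUnramifiedMor f.hom)) ∧
    (AlgSp.LocP @LocallyOfFiniteType f.hom ∧ Mono f.hom →
      AlgSp.Representable f.hom ∧ AlgSp.IsSeparatedMor f.hom ∧
        AlgSp.LocP (@LocallyQuasiFinite ⊓ @LocallyOfFiniteType) f.hom) := by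
  have hX := X.property
  have hY := Y.property
  have hMI : Mono f.hom → IsUnivInjectiveMor f.hom := fun _ => UnramMono.isUnivInjectiveMor_of_mono f.hom
  have hUIM : LocP (@LocallyOfFiniteType ⊓ @FormallyUnramified) f.hom → IsUnivInjectiveMor f.hom → Mono f.hom :=
    fun u i => UnramMono.mono_of_locP_unramified_of_univInjective hX hY f.hom u i
  have hLMU : LocP @LocallyOfFiniteType f.hom → Mono f.hom →
      LocP (@LocallyOfFiniteType ⊓ @FormallyUnramified) f.hom :=
    fun l _ => UnramMono.locP_unramified_of_mono_lft hX hY f.hom l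
  have hUL : LocP (@LocallyOfFiniteType ⊓ @FormallyUnramified) f.hom → LocP @LocallyOfFiniteType f.hom :=
    fun u U V a b h ha hb c => (u a b h ha hb c).1
  have hMF : Mono f.hom → IsFormallyUnramifiedMor f.hom := by
    intro _ sq l l' h1 h2 h3 h4
    exact (cancel_mono f.hom).1 (h2.trans h4.symm)
  have hLFU : LocP @LocallyOfFiniteType f.hom → IsFormallyUnramifiedMor f.hom →
      LocP (@LocallyOfFiniteType ⊓ @FormallyUnramified) f.hom := by
    intro l fu U V a b h ha hb c
    exact ⟨l a b h ha hb c,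
      UnramMono.locP_formallyUnramified_of_isFormallyUnramifiedMor f.hom fu a b h ha hb c⟩
  refine ⟨⟨fun ⟨u, m⟩ => ⟨u, hMI m⟩, fun ⟨u, i⟩ => ⟨u, hUIM u i⟩⟩,
    ⟨fun ⟨u, m⟩ => ⟨hUL u, m⟩, fun ⟨l, m⟩ => ⟨hLMU l m, m⟩⟩,
    ⟨fun ⟨u, m⟩ => ⟨hMI m, hUL u, hMF m⟩, fun ⟨i, l, fu⟩ => ⟨hLFU l fu, hUIM (hLFU l fu) i⟩⟩, ?_⟩
  rintro ⟨l, m⟩
  exact ⟨UnramMono.representable_of_mono_lft hX hY f.hom l, ZmtSp.isSeparatedMor_of_mono f.hom,
    EtChart.locP_lqf_of_mono_lft hX hY f.hom l⟩

end Groth.Agent.S10613
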