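import Groth.Statements.S10614
import Groth.Agent.Lib.Helper16.UnramMono
import Groth.Agent.S10613
open Groth.Agent.Lib.Helper16 Groth.Agent.Lib.Helper15 AlgSp

set_option autoImplicit false
universe u
open CategoryTheory CategoryTheory.Limits AlgebraicGeometry
open AlgSp

namespace Groth.Agent.S10614

/-- For a morphism f : X ⟶ Y of algebraic spaces over S, being a closed immersion (representable by
closed immersions) is equivalent to each of: (a) universally closed plus unramified plus
monomorphism; (b) universally closed plus unramified plus universally injective; (c) a universally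
closed monomorphism that is locally of finite type; (d) universally closed, universally injective,
locally of finite type and formally unramified (lifting sense). (Unramified is the etale-local
condition locally of finite type and formally unramified on charts; monomorphisms are taken in fppf
sheaves.) -/
theorem result {S : Scheme.{u}} {X Y : AlgSp.Space S} (f : X ⟶ Y) :
    (AlgSp.RepWith @IsClosedImmersion f.hom ↔
      (AlgSp.IsUnivClosedMor f.hom ∧ AlgSp.LocP (@LocallyOfFiniteType ⊓ @FormallyUnramified) f.hom ∧ Mono f.hom)) ∧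
    (AlgSp.RepWith @IsClosedImmersion f.hom ↔
      (AlgSp.IsUnivClosedMor f.hom ∧ AlgSp.LocP (@LocallyOfFiniteType ⊓ @FormallyUnramified) f.hom ∧ AlgSp.IsUnivInjectiveMor f.hom)) ∧
    (AlgSp.RepWith @IsClosedImmersion f.hom ↔
      (AlgSp.IsUnivClosedMor f.hom ∧ AlgSp.LocP @LocallyOfFiniteType f.hom ∧ Mono f.hom)) ∧
    (AlgSp.RepWith @IsClosedImmersion f.hom ↔
      (AlgSp.IsUnivClosedMor f.hom ∧ AlgSp.IsUnivInjectiveMor f.hom ∧ AlgSp.LocP @LocallyOfFiniteType f.hom ∧
        AlgSp.IsFormallyUnramifiedMor f.hom)) := by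
  have hX := X.property
  have hY := Y.property
  obtain ⟨e1, e2, e3, -⟩ := Groth.Agent.S10613.result f
  have hC : RepWith @IsClosedImmersion f.hom →
      IsUnivClosedMor f.hom ∧ LocP @LocallyOfFiniteType f.hom ∧ Mono f.hom := by
    intro c
    refine ⟨?_, ?_, SchImg.mono_of_repWith_isClosedImmersion f.hom c⟩
    · refine (repWith_universallyClosed_iff f.hom c.rep).1 ?_
      exact MorphismProperty.relative_monotone (fun _ _ k hk => by
        have : IsClosedImmersion k.left := hk
        exact (inferInstance : UniversallyClosed k.left)) _ c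
    · exact locP_of_repWith @LocallyOfFiniteType @IsClosedImmersion (fun A B C m i hm hi => by
        have : Etale m := hm
        have : IsClosedImmersion i := hi
        exact (inferInstance : LocallyOfFiniteType (m ≫ i))) f.hom c
  have hback : IsUnivClosedMor f.hom → LocP @LocallyOfFiniteType f.hom → Mono f.hom →
      RepWith @IsClosedImmersion f.hom := by
    intro uc l m
    have hrep := UnramMono.representable_of_mono_lft hX hY f.hom l
    refine ⟨hrep, fun T W ξ fst snd sq => ?_⟩
    have h1 : Mono snd.left := (repWith_monomorphisms_of_mono f.hom hrep).property _ _ _ sq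
    have h2 : UniversallyClosed snd.left := Groth.Agent.Lib.Helper17.universallyClosed_of_isPullback_yon uc sq
    have h3 : LocallyOfFiniteType snd.left :=
      ((locP_iff_repWith etLocalST_locallyOfFiniteType hX hY f.hom hrep).1 l).property _ _ _ sq
    have h4 : IsProper snd.left := (isProper_iff _).2 ⟨inferInstance, h2, h3⟩
    exact (IsClosedImmersion.iff_isProper_and_mono _).2 ⟨h4, h1⟩
  refine ⟨⟨fun c => ?_, fun ⟨uc, u, m⟩ => hback uc (e2.1 ⟨u, m⟩).1 m⟩,
    ⟨fun c => ?_, fun ⟨uc, u, i⟩ => hback uc (e2.1 (e1.2 ⟨u, i⟩)).1 (e1.2 ⟨u, i⟩).2⟩,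
    ⟨fun c => hC c, fun ⟨uc, l, m⟩ => hback uc l m⟩,
    ⟨fun c => ?_, fun ⟨uc, i, l, fu⟩ => hback uc l (e3.2 ⟨i, l, fu⟩).2⟩⟩
  · obtain ⟨uc, l, m⟩ := hC c
    exact ⟨uc, (e2.2 ⟨l, m⟩).1, m⟩
  · obtain ⟨uc, l, m⟩ := hC c
    exact ⟨uc, e1.1 (e2.2 ⟨l, m⟩)⟩
  · obtain ⟨uc, l, m⟩ := hC c
    exact ⟨uc, e3.1 (e2.2 ⟨l, m⟩)⟩

end Groth.Agent.S10614
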