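import Groth.Statements.S1062
import Groth.Agent.Lib.Helper2.Aff.TensorQCohD

set_option autoImplicit false
universe u
open CategoryTheory CategoryTheory.Limits AlgebraicGeometry Opposite
attribute [local instance] HasDerivedCategory.standard
open Perf

namespace Groth.Agent.S1062

/-- Let X be a scheme, E ∈ D(O_X) with quasi-coherent cohomology sheaves and F a cochain complex of
O_X-modules whose image in D(O_X) has quasi-coherent cohomology sheaves. Assuming the derived
functor - ⊗^L F exists, E ⊗^L_{O_X} F has quasi-coherent cohomology sheaves. -/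
theorem result (X : Scheme.{u}) (F : CochainComplex X.Modules ℤ) (hF : DCoh.IsQCohD (DCoh.toD X F)) [DCoh.HasLTensorCx F]
    (E : DCoh.D X) (hE : DCoh.IsQCohD E) : DCoh.IsQCohD ((DCoh.LTensorCx F).obj E) := by
  obtain ⟨P, s, hP, _, _, hs, _⟩ :=
    Groth.Agent.Lib.Helper2.LDer.DC.exists_good_resolution (DerivedCategory.Q.objPreimage E)
  haveI : IsIso (DerivedCategory.Q.map s) := (DerivedCategory.isIso_Q_map_iff_quasiIso _ s).2 hs
  let eE : DCoh.toD X P ≅ E :=
    asIso (DerivedCategory.Q.map s) ≪≫ DerivedCategory.Q.objObjPreimageIso E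
  have h₁ : DCoh.IsQCohD (DCoh.toD X P) := fun i =>
    Groth.Agent.Lib.Helper2.Aff.isQCoh_of_iso
      ((DerivedCategory.homologyFunctor _ i).mapIso eE.symm) (hE i)
  have h := Groth.Agent.Lib.Helper2.Mon.isQCohD_tensorCx P F hP h₁ hF
  have e : (DCoh.LTensorCx F).obj E ≅ DCoh.toD X ((DCoh.tensorCx.obj P).obj F) :=
    (DCoh.LTensorCx F).mapIso eE.symm ≪≫ Groth.Agent.Lib.Helper2.Stk.LT.LTensorCxIso F P hP
  intro i
  exact Groth.Agent.Lib.Helper2.Aff.isQCoh_of_iso
    ((DerivedCategory.homologyFunctor _ i).mapIso e.symm) (h i)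


end Groth.Agent.S1062
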