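import Groth.Statements.S10621
import Groth.Agent.Lib.Helper16.FormalA
import Groth.Agent.Lib.Helper16.ChartDiagram

open Groth.Agent.Lib.Helper16 Groth.Agent.Lib.Helper16.Formal Groth.Agent.Lib.Helper26.AlgSpFormal

set_option autoImplicit false
universe u
open CategoryTheory CategoryTheory.Limits AlgebraicGeometry
open AlgSp

namespace Groth.Agent.S10621

/-- For a morphism f : X ⟶ Y of algebraic spaces over S, these conditions are equivalent: f is formally
unramified (lifting along square-zero thickenings of affine schemes); for every scheme U with a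
representable etale U ⟶ X, every scheme V with a representable etale V ⟶ Y and every compatible U ⟶
V, the morphism of schemes U ⟶ V is formally unramified; and this holds as soon as it holds for one
such diagram in which both charts are moreover surjective. Formal unramifiedness of a morphism of
schemes is Mathlib's FormallyUnramified (formally unramified ring maps on affine opens, no
finite-type condition), which agrees with the lifting definition used here. -/
theorem result {S : Scheme.{u}} {X Y : AlgSp.Space S} (f : X ⟶ Y) :
    (AlgSp.IsFormallyUnramifiedMor f.hom ↔ AlgSp.LocP @FormallyUnramified f.hom) ∧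
    (∀ (U V : Over S) (a : (AlgSp.yon S).obj U ⟶ X.obj) (b : (AlgSp.yon S).obj V ⟶ Y.obj) (h : U ⟶ V),
      AlgSp.RepWith @Etale a → AlgSp.RepWith @Surjective a → AlgSp.RepWith @Etale b → AlgSp.RepWith @Surjective b →
      a ≫ f.hom = (AlgSp.yon S).map h ≫ b → FormallyUnramified h.left → AlgSp.IsFormallyUnramifiedMor f.hom) := by
  have part2 : ∀ (U V : Over S) (a : (AlgSp.yon S).obj U ⟶ X.obj) (b : (AlgSp.yon S).obj V ⟶ Y.obj) (h : U ⟶ V),
      AlgSp.RepWith @Etale a → AlgSp.RepWith @Surjective a → AlgSp.RepWith @Etale b →
      a ≫ f.hom = (AlgSp.yon S).map h ≫ b → FormallyUnramified h.left → AlgSp.IsFormallyUnramifiedMor f.hom := by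
    intro U V a b h hae has hbe hcomm hh
    apply isFormallyUnramifiedMor_of_comp a f.hom hae has
    rw [hcomm]
    exact unramified_comp ((isFormallyUnramifiedMor_yon_map_iff h).2 hh)
      ((isFormallyEtaleMor_iff b).1 (isFormallyEtaleMor_of_repWith_etale b hbe)).2
  refine ⟨⟨fun hf U V a b h hae hbe hcomm => ?_, fun hL => ?_⟩,
    fun U V a b h hae has hbe _ hcomm hh => part2 U V a b h hae has hbe hcomm hh⟩
  · rw [← isFormallyUnramifiedMor_yon_map_iff]
    apply unramified_of_comp (b := b)
    rw [← hcomm]
    exact unramified_comp ((isFormallyEtaleMor_iff a).1 (isFormallyEtaleMor_of_repWith_etale a hae)).2 hf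
  · obtain ⟨V, b, hbe, hbs⟩ := Y.property.atlas
    obtain ⟨U₀, a₀, hae, has⟩ := X.property.atlas
    obtain ⟨U, h, c, h1, h2, -, -, h3⟩ := exists_chart_diagram f.hom b hbe a₀ hae
    exact part2 U V _ b h h1 (h3 hbs has) hbe h2 (hL _ _ h h1 hbe h2)

end Groth.Agent.S10621
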