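import Groth.Statements.S10624
import Groth.Agent.Lib.Helper16.FormalA
import Groth.Agent.Lib.Helper16.ZarGlue
import Groth.Agent.Lib.Helper16.MonoDescent

open Groth.Agent.Lib.Helper16 Groth.Agent.Lib.Helper16.Formal Groth.Agent.Lib.Helper26.AlgSpFormal

set_option autoImplicit false
universe u
open CategoryTheory CategoryTheory.Limits AlgebraicGeometry
open AlgSp

namespace Groth.Agent.S10624

/-- Let f : X ⟶ Y be a formally unramified morphism of algebraic spaces over S and let j : T ⟶ T' be a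
first order thickening of algebraic spaces (not necessarily affine schemes) with a : T ⟶ X, b : T' ⟶
Y and a ≫ f = j ≫ b. Then any two morphisms l, l' : T' ⟶ X with j ≫ l = a = j ≫ l' and l ≫ f = b =
l' ≫ f are equal. -/
theorem result {S : Scheme.{u}} {X Y : AlgSp.Space S} (f : X ⟶ Y)
    (hf : AlgSp.IsFormallyUnramifiedMor f.hom) {T T' : AlgSp.Space S} (j : T ⟶ T') (hj : AlgSp.IsFOThickMor j.hom)
    (a : T ⟶ X) (b : T' ⟶ Y) (w : a ≫ f = j ≫ b)
    (l l' : T' ⟶ X) (h1 : j ≫ l = a) (h2 : l ≫ f = b) (h3 : j ≫ l' = a) (h4 : l' ≫ f = b) : l = l' := by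
  obtain ⟨V, p, hpe, hps⟩ := T'.property.atlas
  have hepi : Epi p := epi_of_etale_surjective p hpe hps
  apply ObjectProperty.hom_ext
  rw [← cancel_epi p]
  have e1 : j.hom ≫ l.hom = a.hom := congrArg (fun t => t.hom) h1
  have e2 : l.hom ≫ f.hom = b.hom := congrArg (fun t => t.hom) h2
  have e3 : j.hom ≫ l'.hom = a.hom := congrArg (fun t => t.hom) h3
  have e4 : l'.hom ≫ f.hom = b.hom := congrArg (fun t => t.hom) h4
  let 𝒰 := V.left.affineOpenCover
  let VO : 𝒰.I₀ → Over S := fun i => Over.mk (𝒰.f i ≫ V.hom)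
  let ι : ∀ i, VO i ⟶ V := fun i => Over.homMk (𝒰.f i) rfl
  refine yon_hom_ext_of_open_cover (p ≫ l.hom) (p ≫ l'.hom) VO ι
    (fun i => by show IsOpenImmersion (𝒰.f i); infer_instance) (fun x => ⟨𝒰.idx x, 𝒰.covers x⟩) (fun i => ?_)
  have hιe : Etale (ι i).left := by
    show Etale (𝒰.f i)
    infer_instance
  have hpi : AlgSp.RepWith @Etale ((AlgSp.yon S).map (ι i) ≫ p) :=
    (AlgSp.RepWith @Etale).comp_mem _ _ ((AlgSp.repWith_yon_map_iff _ _).2 hιe) hpe
  obtain ⟨Wi, snd, fst, sqi⟩ := hj.1.rep ((AlgSp.yon S).map (ι i) ≫ p)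
  have hthick : AlgSp.thick snd.left := hj.1.property _ _ _ sqi
  have : IsAffine (VO i).left := by
    show IsAffine (Spec (𝒰.X i))
    infer_instance
  have hsz : AlgSp.sqZero snd.left := hj.2 _ fst snd inferInstance hpi sqi
  have : IsClosedImmersion snd.left := hthick.1
  rw [← Category.assoc, ← Category.assoc]
  apply eq_of_affine_thickening f.hom hf snd hsz
  · rw [← Category.assoc, ← sqi.w, Category.assoc, e1, ← Category.assoc ((AlgSp.yon S).map snd), ← sqi.w,
      Category.assoc, e3]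
  · simp only [Category.assoc, e2, e4]

end Groth.Agent.S10624
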