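import Groth.Statements.S10627
import Groth.Agent.Lib.Helper16.FormalD
import Groth.Agent.Lib.Helper16.LocPGen
import Groth.Agent.Lib.Helper16.EtLocal
import Groth.Agent.S1489

open Groth.Agent.Lib.Helper16 Groth.Agent.Lib.Helper16.Formal Groth.Agent.Lib.Helper26.AlgSpFormal

set_option autoImplicit false
universe u
open CategoryTheory CategoryTheory.Limits AlgebraicGeometry
open AlgSp

namespace Groth.Agent.S10627

/-- A morphism f : X ⟶ Y of algebraic spaces over S is etale if and only if it is locally of finite
presentation and formally etale (lifting sense). -/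
theorem result {S : Scheme.{u}} {X Y : AlgSp.Space S} (f : X ⟶ Y) :
    AlgSp.IsEtaleMor f.hom ↔ AlgSp.LocP @LocallyOfFinitePresentation f.hom ∧ AlgSp.IsFormallyEtaleMor f.hom := by
  constructor
  · intro hf
    refine ⟨fun U V a b h ha hb hcomm => ?_, isFormallyEtaleMor_of_isEtaleMor X.property f.hom hf⟩
    have : Etale h.left := etale_of_etale_charts (a ≫ f.hom) b (hf a ha) hb h hcomm.symm
    infer_instance
  · rintro ⟨hlfp, hfe⟩ U φ hφ
    have hU : AlgSp.IsAlgSpace ((AlgSp.yon S).obj U) := AlgSp.IsAlgSpace.yon_obj U
    have hrepφ : AlgSp.Representable φ := hφ.rep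
    have hφL : AlgSp.LocP @Etale φ :=
      (locP_iff_repWith etLocalST_etale hU X.property φ hrepφ).2 hφ
    have hφL' : AlgSp.LocP @LocallyOfFinitePresentation φ := fun U' V' a b h ha hb c => by
      have : Etale h.left := hφL a b h ha hb c
      infer_instance
    have hcompL : AlgSp.LocP @LocallyOfFinitePresentation (φ ≫ f.hom) :=
      locP_comp etLocalST_locallyOfFinitePresentation hU X.property Y.property φ f.hom hφL' hlfp
    have hrep : AlgSp.Representable (φ ≫ f.hom) := Y.property.representable_from_yon _
    have hR : AlgSp.RepWith @LocallyOfFinitePresentation (φ ≫ f.hom) :=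
      (locP_iff_repWith etLocalST_locallyOfFinitePresentation hU Y.property _ hrep).1 hcompL
    have hfe' : AlgSp.IsFormallyEtaleMor (φ ≫ f.hom) :=
      etale_comp (isFormallyEtaleMor_of_repWith_etale φ hφ) hfe
    refine ⟨hrep, fun T W t fst' w sq' => ?_⟩
    have h1 : LocallyOfFinitePresentation w.left := hR.property t fst' w sq'
    have h2 : AlgSp.IsFormallyEtaleMor ((AlgSp.yon S).map w) := etale_baseChange sq' hfe'
    exact (Groth.Agent.S1489.result w.left).2 ⟨h1, (isFormallyEtaleMor_yon_map_iff w).1 h2⟩

end Groth.Agent.S10627
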