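import Groth.Statements.S1063
import Groth.Agent.Lib.Helper26.FinPush


set_option autoImplicit false
universe u
open CategoryTheory AlgebraicGeometry
open Perf

namespace Groth.Agent.S1063

/-- The resolution property descends along a surjective, finite locally free morphism f : X ⟶ Y; if
every finite-type quasi-coherent module on X is a quotient of a vector bundle, the same is true on
Y. -/
theorem result {X Y : Scheme.{u}} (f : X ⟶ Y) (hf : Mor2.IsFinLocFree f) [Surjective f]
    (hX : PerfAux.HasResolutionProperty X) : PerfAux.HasResolutionProperty Y  := by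
  obtain ⟨hfin, hflat, hfp⟩ := hf
  haveI := hfin
  haveI := hflat
  haveI := hfp
  intro N hNq hNft
  haveI : N.IsQuasicoherent := hNq
  obtain ⟨M', p, hM'q, hp, hM'f⟩ :=
    Groth.Agent.Lib.Helper26.FinPush.exists_epi_pushforward f N
  haveI := hM'q
  haveI := hp
  obtain ⟨E, π, hE, hπ⟩ := hX M' hM'q (hM'f hNft)
  haveI := hπ
  haveI : E.IsQuasicoherent :=
    Groth.Agent.Lib.Helper3.LocFreeCrit.isQuasicoherent_of_isFinLocFree hE
  haveI : Epi ((Scheme.Modules.pushforward f).map π) :=
    Groth.Agent.Lib.Helper26.FinPush.epi_pushforward_map f π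
  exact ⟨(Scheme.Modules.pushforward f).obj E, (Scheme.Modules.pushforward f).map π ≫ p,
    Groth.Agent.Lib.Helper26.FinPush.isFinLocFree_pushforward f E hE, epi_comp _ _⟩

end Groth.Agent.S1063
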