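import Groth.Statements.S10631
import Groth.Agent.Lib.Helper16.FormalE

open Groth.Agent.Lib.Helper16 Groth.Agent.Lib.Helper16.Formal Groth.Agent.Lib.Helper26.AlgSpFormal

set_option autoImplicit false
universe u
open CategoryTheory CategoryTheory.Limits AlgebraicGeometry
open AlgSp

namespace Groth.Agent.S10631

/-- Consider morphisms Z ⟶ Y ⟶ X of algebraic spaces over S. If (i : Z ⟶ Z', h' : Z' ⟶ Y) is, over Y, a
universal first order thickening of Z and g : Y ⟶ X is formally etale, then (i, h' ≫ g) is, over X,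
a universal first order thickening of Z. -/
theorem result {S : Scheme.{u}} {Z Z' Y X : AlgSp.Space S} (hZ : Z ⟶ Y) (g : Y ⟶ X)
    (i : Z ⟶ Z') (h' : Z' ⟶ Y) (HU : AlgSp.IsUnivFOThick hZ.hom i.hom h'.hom) (hg : AlgSp.IsFormallyEtaleMor g.hom) :
    AlgSp.IsUnivFOThick (hZ ≫ g).hom i.hom (h' ≫ g).hom := by
  obtain ⟨hi, hw, hU⟩ := HU
  refine ⟨hi, ?_, ?_⟩
  · show i.hom ≫ h'.hom ≫ g.hom = hZ.hom ≫ g.hom
    rw [← Category.assoc, hw]
  · intro T T' hT hT' j a b hj hcomm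
    have hcomm' : (a ≫ hZ.hom) ≫ g.hom = j ≫ b := by
      rw [Category.assoc]
      exact hcomm.symm
    obtain ⟨b', ⟨hb'1, hb'2⟩, hb'u⟩ := existsUnique_lift_of_FOThick hT' g.hom hg j hj (a ≫ hZ.hom) b hcomm'
    obtain ⟨a', ⟨ha'1, ha'2⟩, ha'u⟩ := hU hT hT' j a b' hj hb'1
    refine ⟨a', ⟨ha'1, ?_⟩, ?_⟩
    · show a' ≫ h'.hom ≫ g.hom = b
      rw [← Category.assoc, ha'2, hb'2]
    · rintro a'' ⟨h1, h2⟩
      apply ha'u
      refine ⟨h1, ?_⟩
      apply hb'u
      refine ⟨?_, ?_⟩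
      · rw [← Category.assoc, h1, Category.assoc, hw]
      · rw [Category.assoc]
        exact h2

end Groth.Agent.S10631
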