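import Groth.Statements.S10632
import Groth.Agent.Lib.Helper16.FormalE

open Groth.Agent.Lib.Helper16 Groth.Agent.Lib.Helper16.Formal Groth.Agent.Lib.Helper26.AlgSpFormal

set_option autoImplicit false
universe u
open CategoryTheory CategoryTheory.Limits AlgebraicGeometry
open AlgSp

namespace Groth.Agent.S10632

/-- Let e : Z ⟶ Y be an etale morphism of algebraic spaces over S, hY : Y ⟶ X, and let (iY : Y ⟶ Y', hY'
: Y' ⟶ X) be a universal first order thickening of Y over X. Let e' : Z' ⟶ Y' be etale with iZ : Z ⟶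
Z' making Z = Y ×_{Y'} Z' a pullback square. Then (iZ, e' ≫ hY') is a universal first order
thickening of Z over X. -/
theorem result {S : Scheme.{u}} {Z Y Y' Z' X : AlgSp.Space S} (e : Z ⟶ Y)
    (he : AlgSp.IsEtaleMor e.hom) (hY : Y ⟶ X) (iY : Y ⟶ Y') (hY' : Y' ⟶ X)
    (HU : AlgSp.IsUnivFOThick hY.hom iY.hom hY'.hom) (iZ : Z ⟶ Z') (e' : Z' ⟶ Y') (he' : AlgSp.IsEtaleMor e'.hom)
    (sq : IsPullback e.hom iZ.hom iY.hom e'.hom) :
    AlgSp.IsUnivFOThick (e ≫ hY).hom iZ.hom (e' ≫ hY').hom := by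
  obtain ⟨hiY, hwY, hU⟩ := HU
  have he'fe : AlgSp.IsFormallyEtaleMor e'.hom := isFormallyEtaleMor_of_isEtaleMor Z'.property e'.hom he'
  refine ⟨⟨?_, ?_⟩, ?_, ?_⟩
  · exact (AlgSp.RepWith AlgSp.thick).of_isPullback sq hiY.1
  · intro V W b fst snd hV hb hpb
    have hpaste : IsPullback (fst ≫ e.hom) ((AlgSp.yon S).map snd) iY.hom (b ≫ e'.hom) := hpb.paste_horiz sq
    exact hiY.2 (b ≫ e'.hom) (fst ≫ e.hom) snd hV (he' b hb) hpaste
  · show iZ.hom ≫ e'.hom ≫ hY'.hom = e.hom ≫ hY.hom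
    rw [← Category.assoc, ← sq.w, Category.assoc, hwY]
  · intro T T' hT hT' j a b hj hcomm
    obtain ⟨c, ⟨hc1, hc2⟩, hcu⟩ := hU hT hT' j (a ≫ e.hom) b hj (by
      rw [Category.assoc]
      exact hcomm)
    have hsq : (a ≫ iZ.hom) ≫ e'.hom = j ≫ c := by
      rw [Category.assoc, ← sq.w, ← Category.assoc, hc1]
    obtain ⟨a', ⟨ha'1, ha'2⟩, ha'u⟩ :=
      existsUnique_lift_of_FOThick hT' e'.hom he'fe j hj (a ≫ iZ.hom) c hsq
    refine ⟨a', ⟨ha'1, ?_⟩, ?_⟩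
    · show a' ≫ e'.hom ≫ hY'.hom = b
      rw [← Category.assoc, ha'2, hc2]
    · rintro a'' ⟨h1, h2⟩
      apply ha'u
      refine ⟨h1, ?_⟩
      apply hcu
      refine ⟨?_, ?_⟩
      · rw [← Category.assoc, h1, Category.assoc, ← sq.w, Category.assoc]
      · rw [Category.assoc]
        exact h2

end Groth.Agent.S10632
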