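import Groth.Statements.S10643
import Groth.Agent.Lib.Helper16.WhereEngine
import Groth.Agent.S10609

open Groth.Agent.Lib.Helper16 Groth.Agent.Lib.Helper16.Where AlgSp

set_option autoImplicit false
universe u
open CategoryTheory CategoryTheory.Limits AlgebraicGeometry
open AlgSp

namespace Groth.Agent.S10643

/-- For morphisms f : X ⟶ Y, p : X ⟶ Z and q : Y ⟶ Z of algebraic spaces over S with f ≫ q = p, where p
is flat, closed and locally of finite presentation and q is closed and locally of finite type, there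
is an open subspace W of Z with the following property: a morphism of algebraic spaces g : Z' ⟶ Z
factors through W exactly when the base change X' ⟶ Y' of f along g is flat and surjective (on
points). Here the base change of f along g is any f' : X' ⟶ Y' obtained from pullback squares Y' = Y
×_Z Z' and X' = X ×_Y Y' of algebraic spaces over S, and W ⊂ Z is given as a representable open
immersion w : W ⟶ Z. -/
theorem result {S : Scheme.{u}} {X Y Z : AlgSp.Space S}
    (f : X ⟶ Y) (p : X ⟶ Z) (q : Y ⟶ Z) (hc : f ≫ q = p)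
    (hp1 : AlgSp.LocP @LocallyOfFinitePresentation p.hom) (hp2 : AlgSp.LocP @Flat p.hom)
    (hp3 : AlgSp.IsClosedMor p.hom) (hq1 : AlgSp.LocP @LocallyOfFiniteType q.hom)
    (hq2 : AlgSp.IsClosedMor q.hom) :
    ∃ (W : AlgSp.Space S) (w : W ⟶ Z), AlgSp.RepWith @IsOpenImmersion w.hom ∧
      ∀ (Z' : AlgSp.Space S) (g : Z' ⟶ Z),
        (∃ k : Z' ⟶ W, k ≫ w = g) ↔
          ∀ (Y' : AlgSp.Space S) (gY : Y' ⟶ Y) (q' : Y' ⟶ Z'),
            IsPullback gY.hom q'.hom q.hom g.hom →
            ∀ (X' : AlgSp.Space S) (gX : X' ⟶ X) (f' : X' ⟶ Y'),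
              IsPullback gX.hom f'.hom f.hom gY.hom →
                (AlgSp.IsSurjectiveMor f'.hom ∧ AlgSp.LocP @Flat f'.hom) := by
  subst hc
  obtain ⟨hopen, hbc⟩ := Groth.Agent.S10609.result f q hp1 hp2 hq1
  have hflfp : LocP @LocallyOfFinitePresentation f.hom := locP_lfp_of_comp f q hp1 hq1
  have hfA : IsOpen (Points.map f.hom '' {x | IsFlatAtMor f.hom x}) :=
    isOpen_image_of_isFlatAtMor X.property Y.property f.hom hflfp _ hopen (fun x hx => hx)
  refine where_engine f (f ≫ q) q rfl {x | IsFlatAtMor f.hom x}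
    (Points.map f.hom '' {x | IsFlatAtMor f.hom x})ᶜ (hp3 _ hopen.isClosed_compl)
    (hq2 _ hfA.isClosed_compl)
    (fun X' Y' f' => IsSurjectiveMor f'.hom ∧ LocP @Flat f'.hom) ?_
  intro Z' g Y' gY q' sqY X' gX f' sqX
  have hb := hbc X' Y' Z' g f' q' gX gY sqY sqX
  show IsSurjectiveMor f'.hom ∧ LocP @Flat f'.hom ↔ _
  rw [locP_flat_iff_forall_isFlatAtMor]
  constructor
  · rintro ⟨hs, hf⟩
    have hx : ∀ x' : Points X'.obj, Points.map gX.hom x' ∈ {x | IsFlatAtMor f.hom x} := by
      intro x'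
      have h1 : x' ∈ {x' : Points X'.obj | IsFlatAtMor f'.hom x'} := hf x'
      rw [hb] at h1
      exact h1
    refine ⟨hx, fun y' hy' => hy' ?_⟩
    obtain ⟨x', rfl⟩ := hs y'
    refine ⟨Points.map gX.hom x', hx x', ?_⟩
    rw [← Points.map_comp, sqX.w, Points.map_comp]
  · rintro ⟨hx, hy⟩
    refine ⟨fun y' => ?_, fun x' => ?_⟩
    · have h1 : Points.map gY.hom y' ∈ Points.map f.hom '' {x | IsFlatAtMor f.hom x} := by
        by_contra h
        exact hy y' h
      obtain ⟨x, -, hxy⟩ := h1
      obtain ⟨x', -, hx'2⟩ := exists_point_of_isPullback sqX x y' hxy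
      exact ⟨x', hx'2⟩
    · have h1 : x' ∈ Points.map gX.hom ⁻¹' {x : Points X.obj | IsFlatAtMor f.hom x} := hx x'
      rw [← hb] at h1
      exact h1

end Groth.Agent.S10643
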