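import Mathlib
import Groth.Agent.Lib.Helper20.WhereInter
import Groth.Agent.S10641
import Groth.Agent.S10643
import Groth.Statements.S10644
-- import your own Groth.Agent.* helpers here

set_option autoImplicit false
universe u
open CategoryTheory CategoryTheory.Limits AlgebraicGeometry
open AlgSp

namespace Groth.Agent.S10644

/-- For morphisms f : X ⟶ Y, p : X ⟶ Z and q : Y ⟶ Z of algebraic spaces over S with f ≫ q = p, where p
is flat, universally closed and locally of finite presentation and q is closed, separated and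
locally of finite type, there is an open subspace W of Z with the following property: a morphism of
algebraic spaces g : Z' ⟶ Z factors through W exactly when the base change X' ⟶ Y' of f along g is
an isomorphism. Here the base change of f along g is any f' : X' ⟶ Y' obtained from pullback squares
Y' = Y ×_Z Z' and X' = X ×_Y Y' of algebraic spaces over S, and W ⊂ Z is given as a representable
open immersion w : W ⟶ Z. -/
theorem result {S : Scheme.{u}} {X Y Z : AlgSp.Space S}
    (f : X ⟶ Y) (p : X ⟶ Z) (q : Y ⟶ Z) (hc : f ≫ q = p)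
    (hp1 : AlgSp.LocP @LocallyOfFinitePresentation p.hom) (hp2 : AlgSp.LocP @Flat p.hom)
    (hp3 : AlgSp.IsUnivClosedMor p.hom) (hq1 : AlgSp.LocP @LocallyOfFiniteType q.hom)
    (hq2 : AlgSp.IsClosedMor q.hom) (hq3 : AlgSp.IsSeparatedMor q.hom) :
    ∃ (W : AlgSp.Space S) (w : W ⟶ Z), AlgSp.RepWith @IsOpenImmersion w.hom ∧
      ∀ (Z' : AlgSp.Space S) (g : Z' ⟶ Z),
        (∃ k : Z' ⟶ W, k ≫ w = g) ↔
          ∀ (Y' : AlgSp.Space S) (gY : Y' ⟶ Y) (q' : Y' ⟶ Z'),
            IsPullback gY.hom q'.hom q.hom g.hom →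
            ∀ (X' : AlgSp.Space S) (gX : X' ⟶ X) (f' : X' ⟶ Y'),
              IsPullback gX.hom f'.hom f.hom gY.hom →
                IsIso f'.hom := by
  have hp1' : AlgSp.LocP @LocallyOfFiniteType p.hom := by
    intro U V a b h ha hb hc
    have : LocallyOfFinitePresentation h.left := hp1 a b h ha hb hc
    infer_instance
  have hp3' : AlgSp.IsClosedMor p.hom :=
    Groth.Agent.Lib.Helper17.isClosedMor_of_isUnivClosedMor Z.property hp3
  have h1 := Groth.Agent.S10641.result f p q hc hp1' hp3 hq3
  have h2 := Groth.Agent.S10643.result f p q hc hp1 hp2 hp3' hq1 hq2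
  obtain ⟨W, w, hw, hW⟩ := Groth.Agent.Lib.Helper20.WhereInter.where_inter f q
    (fun X' Y' f' => AlgSp.RepWith @IsClosedImmersion f'.hom)
    (fun X' Y' f' => AlgSp.IsSurjectiveMor f'.hom ∧ AlgSp.LocP @Flat f'.hom) h1 h2
  refine ⟨W, w, hw, fun Z' g => (hW Z' g).trans ⟨?_, ?_⟩⟩
  · intro H Y' gY q' sqY X' gX f' sqX
    exact (Groth.Agent.Lib.Helper20.WhereInter.isIso_iff_closedImmersion_surjective_flat f').1
      (H Y' gY q' sqY X' gX f' sqX)
  · intro H Y' gY q' sqY X' gX f' sqX
    exact (Groth.Agent.Lib.Helper20.WhereInter.isIso_iff_closedImmersion_surjective_flat f').2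
      (H Y' gY q' sqY X' gX f' sqX)

end Groth.Agent.S10644
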