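import Groth.Statements.S10645
import Groth.Agent.Lib.Helper9.KNear

set_option autoImplicit false
universe u
open CategoryTheory CategoryTheory.Limits AlgebraicGeometry
open AlgSp

namespace Groth.Agent.S10645

open Groth.Agent.Lib.Helper16 Groth.Agent.Lib.Helper16.Where Groth.Agent.Lib.Helper9.KNear

/-- For morphisms f : X ⟶ Y, p : X ⟶ Z and q : Y ⟶ Z of algebraic spaces over S with f ≫ q = p, where p
is flat, closed and locally of finite presentation and q is flat and also locally of finite
presentation, there is an open subspace W of Z with the following property: a morphism of algebraic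
spaces g : Z' ⟶ Z factors through W exactly when the base change X' ⟶ Y' of f along g is a local
complete intersection (Koszul) morphism, i.e. Koszul at every point etale locally on source and
target. Here the base change of f along g is any f' : X' ⟶ Y' obtained from pullback squares Y' = Y
×_Z Z' and X' = X ×_Y Y' of algebraic spaces over S, and W ⊂ Z is given as a representable open
immersion w : W ⟶ Z. -/
theorem result {S : Scheme.{u}} {X Y Z : AlgSp.Space S}
    (f : X ⟶ Y) (p : X ⟶ Z) (q : Y ⟶ Z) (hc : f ≫ q = p)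
    (hp1 : AlgSp.LocP @Flat p.hom) (hp2 : AlgSp.LocP @LocallyOfFinitePresentation p.hom)
    (hp3 : AlgSp.IsClosedMor p.hom) (hq1 : AlgSp.LocP @Flat q.hom)
    (hq2 : AlgSp.LocP @LocallyOfFinitePresentation q.hom) :
    ∃ (W : AlgSp.Space S) (w : W ⟶ Z), AlgSp.RepWith @IsOpenImmersion w.hom ∧
      ∀ (Z' : AlgSp.Space S) (g : Z' ⟶ Z),
        (∃ k : Z' ⟶ W, k ≫ w = g) ↔
          ∀ (Y' : AlgSp.Space S) (gY : Y' ⟶ Y) (q' : Y' ⟶ Z'),
            IsPullback gY.hom q'.hom q.hom g.hom →
            ∀ (X' : AlgSp.Space S) (gX : X' ⟶ X) (f' : X' ⟶ Y'),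
              IsPullback gX.hom f'.hom f.hom gY.hom →
                AlgSp.IsLCIMor f'.hom := by
  subst hc
  have hopen : IsOpen {x : Points X.obj | LocPNear lci f.hom x} :=
    isOpen_locPNear_lci X.property Y.property f.hom
  refine where_engine f (f ≫ q) q rfl {x | LocPNear lci f.hom x} ∅ (hp3 _ hopen.isClosed_compl)
    (by rw [Set.image_empty]; exact isClosed_empty)
    (fun X' Y' f' => IsLCIMor f'.hom) ?_
  intro Z' g Y' gY q' sqY X' gX f' sqX
  have hb := koszulLocus_baseChange f q hp1 hp2 hq1 hq2 g gY q' sqY gX f' sqX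
  show IsLCIMor f'.hom ↔ _
  have hiff : IsLCIMor f'.hom ↔ ∀ x', LocPNear lci f'.hom x' :=
    locP_lci_iff_forall X'.property Y'.property f'.hom
  rw [hiff]
  constructor
  · intro hf
    refine ⟨fun x' => ?_, fun y' => Set.notMem_empty _⟩
    have h1 : x' ∈ {x' | LocPNear lci f'.hom x'} := hf x'
    rw [hb] at h1
    exact h1
  · rintro ⟨hx, -⟩ x'
    have h1 : x' ∈ Points.map gX.hom ⁻¹' {x | LocPNear lci f.hom x} := hx x'
    rw [← hb] at h1
    exact h1

end Groth.Agent.S10645
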