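import Groth.Statements.S10653
import Groth.Agent.Lib.Helper16.DimF6
import Groth.Agent.S1240
import Groth.Agent.Lib.Helper15.OpenLocusInst

open Groth.Agent.Lib.Helper16 Groth.Agent.Lib.Helper16.DimF Groth.Agent.Lib.Helper16.QfAt Groth.Agent.Lib.Helper15
open Groth.Agent.Lib.Helper12.SchemeDimIneq Groth.Agent.Lib.Helper12.SchemeDimFT

set_option autoImplicit false
universe u
open CategoryTheory CategoryTheory.Limits AlgebraicGeometry
open AlgSp

namespace Groth.Agent.S10653

/-- For a flat morphism f : X ⟶ Y of algebraic spaces over S which is locally of finite type, and an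
open subspace j : V ⟶ Y with |V| dense in |Y| such that the base change X ×_Y V ⟶ V has relative
dimension at most d (at every point some etale chart diagram has top arrow with local fibre
dimension at most d): if either j is quasi-compact or f is locally of finite presentation, then f
has relative dimension at most d at every point of |X|. -/
theorem result {S : Scheme.{u}} {X Y V : AlgSp.Space S} (f : X ⟶ Y) (j : V ⟶ Y) (d : ℕ)
    (hf1 : AlgSp.LocP @Flat f.hom) (hf2 : AlgSp.LocP @LocallyOfFiniteType f.hom)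
    (hj1 : AlgSp.RepWith @IsOpenImmersion j.hom) (hj2 : Dense (Set.range (AlgSp.Points.map j.hom)))
    (P : AlgSp.Space S) (fst : P ⟶ X) (snd : P ⟶ V) (hP : IsPullback fst.hom snd.hom f.hom j.hom)
    (hV : ∀ x, AlgSp.HasAtMor (fun _ _ h u => FlatMor.fibreDimAt h u ≤ (d : WithBot ℕ∞)) snd.hom x)
    (h : AlgSp.LocP @LocallyOfFinitePresentation f.hom ∨ AlgSp.IsQuasiCompactMor j.hom) :
    ∀ x, AlgSp.HasAtMor (fun _ _ h u => FlatMor.fibreDimAt h u ≤ (d : WithBot ℕ∞)) f.hom x := by
  intro x
  obtain ⟨B, b, hbe, hbs⟩ := Y.property.atlas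
  obtain ⟨U₀, a₀, ha₀e, ha₀s⟩ := X.property.atlas
  obtain ⟨U, m, c, hae, hac, -, -, has⟩ := exists_chart_diagram f.hom b hbe a₀ ha₀e
  generalize (yon S).map c ≫ a₀ = a at hae hac has
  obtain ⟨u, rfl⟩ := ofPt_surjective_of_surjective a (has hbs ha₀s) x
  have : LocallyOfFiniteType m.left := hf2 _ _ m hae hbe hac
  have : Flat m.left := hf1 _ _ m hae hbe hac
  refine (hasAtMor_fibreDimAt_iff (fun t => t ≤ (d : WithBot ℕ∞)) f.hom hf2 a b m hae hbe hac u).2 ?_
  have hjo : IsOpen (Set.range (Points.map j.hom)) :=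
    DenseFin.isOpen_range_map_of_etale V.property j.hom (repWith_etale_of_isOpenImmersion j.hom hj1)
  let O : B.left.Opens := ⟨Points.ofPt b ⁻¹' Set.range (Points.map j.hom),
    hjo.preimage (Points.continuous_ofPt b)⟩
  have hOd : Dense (O : Set ↥B.left) := hj2.preimage (isOpenMap_ofPt_of_etale b hbe)
  have hle : ∀ z : ↥U.left, m.left z ∈ O → FlatMor.fibreDimAt m.left z ≤ (d : WithBot ℕ∞) := by
    intro z hz
    obtain ⟨v, hv⟩ := hz
    have hpt : Points.map f.hom (Points.ofPt a z) = Points.map j.hom v := by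
      rw [Points.map_ofPt, hac, ofPt_yon_map_comp, hv]
    obtain ⟨p, hp1, hp2⟩ := exists_point_of_isPullback hP (Points.ofPt a z) v hpt
    have h2 := (hasAtMor_fibreDimAt_baseChange (fun t => t ≤ (d : WithBot ℕ∞)) X.property Y.property
      V.property hP hf2 p).1 (hV p)
    rw [hp1] at h2
    exact (hasAtMor_fibreDimAt_iff (fun t => t ≤ (d : WithBot ℕ∞)) f.hom hf2 a b m hae hbe hac z).1 h2
  refine Groth.Agent.S1240.result m.left O hOd d hle ?_ u
  rcases h with h | h
  · exact Or.inl (h _ _ m hae hbe hac)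
  · exact Or.inr (isRetrocompact_preimage_range_of_isQuasiCompactMor V.property j.hom h b)

end Groth.Agent.S10653
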