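import Groth.Statements.S10654
import Groth.Agent.Lib.Helper16.DimF6
import Groth.Agent.S10653
import Groth.Agent.S10310
import Groth.Agent.S10649

open Groth.Agent.Lib.Helper16 Groth.Agent.Lib.Helper16.DimF Groth.Agent.Lib.Helper16.QfAt Groth.Agent.Lib.Helper15

set_option autoImplicit false
universe u
open CategoryTheory CategoryTheory.Limits AlgebraicGeometry
open AlgSp

namespace Groth.Agent.S10654

/-- For a flat proper morphism f : X ⟶ Y of algebraic spaces over S and an open subspace j : V ⟶ Y with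
|V| dense in |Y| such that the base change X ×_Y V ⟶ V is finite: f is finite over all of Y,
provided either j is quasi-compact or f is locally of finite presentation. -/
theorem result {S : Scheme.{u}} {X Y V : AlgSp.Space S} (f : X ⟶ Y) (j : V ⟶ Y)
    (hf1 : AlgSp.LocP @Flat f.hom) (hf2 : AlgSp.IsProperMor f.hom)
    (hj1 : AlgSp.RepWith @IsOpenImmersion j.hom) (hj2 : Dense (Set.range (AlgSp.Points.map j.hom)))
    (P : AlgSp.Space S) (fst : P ⟶ X) (snd : P ⟶ V) (hP : IsPullback fst.hom snd.hom f.hom j.hom)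
    (hV : AlgSp.IsFiniteMor snd.hom)
    (h : AlgSp.LocP @LocallyOfFinitePresentation f.hom ∨ AlgSp.IsQuasiCompactMor j.hom) :
    AlgSp.IsFiniteMor f.hom := by
  have hft : LocP @LocallyOfFiniteType f.hom := hf2.2.1.1
  have htf' := (Groth.Agent.S10649.result snd).out 0 1
  have hsnd := htf'.1 hV
  have hsndft : LocP @LocallyOfFiniteType snd.hom := hsnd.1.2.1.1
  have h0 := (Groth.Agent.S10310.result snd hsndft).1 hsnd.2
  have hle0 : ∀ p, AlgSp.HasAtMor (fun _ _ h u => FlatMor.fibreDimAt h u ≤ ((0 : ℕ) : WithBot ℕ∞))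
      snd.hom p := by
    intro p
    obtain ⟨U, V, a, b, h, u, ha, hb, hc, hu, he⟩ := h0 p
    refine ⟨U, V, a, b, h, u, ha, hb, hc, hu, ?_⟩
    show FlatMor.fibreDimAt h.left u ≤ ((0 : ℕ) : WithBot ℕ∞)
    rw [he]
    simp
  have key := Groth.Agent.S10653.result f j 0 hf1 hft hj1 hj2 P fst snd hP hle0 h
  have h0' : ∀ x, AlgSp.HasAtMor (fun _ _ h u => FlatMor.fibreDimAt h u = 0) f.hom x := by
    intro x
    obtain ⟨U, V, a, b, h, u, ha, hb, hc, hu, he⟩ := key x
    have he' : FlatMor.fibreDimAt h.left u ≤ ((0 : ℕ) : WithBot ℕ∞) := he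
    refine ⟨U, V, a, b, h, u, ha, hb, hc, hu, ?_⟩
    show FlatMor.fibreDimAt h.left u = 0
    exact le_antisymm (by simpa using he') (fibreDimAt_nonneg h.left u)
  have hlqf := (Groth.Agent.S10310.result f hft).2 h0'
  have htf := (Groth.Agent.S10649.result f).out 0 1
  exact htf.2 ⟨hf2, hlqf⟩

end Groth.Agent.S10654
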