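import Groth.Statements.S10661
import Mathlib
import Groth.Agent.S8905
import Groth.Agent.S5003
import Groth.Agent.Lib.Helper16.DimF2
set_option linter.style.haveILetI false

set_option autoImplicit false
universe u
open CategoryTheory CategoryTheory.Limits AlgebraicGeometry
open AlgSp

namespace Groth.Agent.S10661

/-- For an immersion i : Z ⟶ X of algebraic spaces over S with X locally Noetherian (some etale
surjective chart is a locally Noetherian scheme), the three conditions Koszul-regular immersion,
H_1-regular immersion and quasi-regular immersion on i are equivalent. -/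
theorem result {S : Scheme.{u}} {Z X : AlgSp.Space S} (i : Z ⟶ X) (hi : AlgSp.RepWith @IsImmersion i.hom)
    (hX : AlgSp.IsLocNoethSp X.obj) :
    (AlgSp.IsRegImmMor RegImm.Kind.koszul i.hom ↔ AlgSp.IsRegImmMor RegImm.Kind.h1 i.hom) ∧
      (AlgSp.IsRegImmMor RegImm.Kind.h1 i.hom ↔ AlgSp.IsRegImmMor RegImm.Kind.quasi i.hom) := by
  have key : ∀ (k₁ k₂ : RegImm.Kind)
      (_ : ∀ {A B : Scheme.{u}} [IsLocallyNoetherian B] (j : A ⟶ B),
        RegImm.IsRegularImmersion k₁ j → RegImm.IsRegularImmersion k₂ j),
      AlgSp.IsRegImmMor k₁ i.hom → AlgSp.IsRegImmMor k₂ i.hom := by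
    intro k₁ k₂ hk h
    refine ⟨h.1, fun V W b fst snd hb sq => ?_⟩
    haveI : IsLocallyNoetherian V.left :=
      Groth.Agent.Lib.Helper16.DimF.isLocallyNoetherian_of_chart hX b hb
    exact hk snd.left (h.2 b fst snd hb sq)
  have q2r : ∀ {A B : Scheme.{u}} [IsLocallyNoetherian B] (j : A ⟶ B),
      RegImm.IsRegularImmersion RegImm.Kind.quasi j → RegImm.IsRegularImmersion RegImm.Kind.regular j :=
    fun j h => (Groth.Agent.S5003.result j).2 h
  refine ⟨⟨key _ _ (fun j h => (Groth.Agent.S8905.result j).2.1 h),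
      key _ _ (fun j h => (Groth.Agent.S8905.result j).1 (q2r j ((Groth.Agent.S8905.result j).2.2 h)))⟩,
    ⟨key _ _ (fun j h => (Groth.Agent.S8905.result j).2.2 h),
      key _ _ (fun j h => (Groth.Agent.S8905.result j).2.1
        ((Groth.Agent.S8905.result j).1 (q2r j h)))⟩⟩

end Groth.Agent.S10661
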