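import Groth.Statements.S10662
import Mathlib
import Groth.Agent.Lib.Helper25.OpenDesc
import Groth.Agent.Lib.Helper16.ImmDesc5
import Groth.Agent.Lib.Helper16.FppfLocal
import Groth.Agent.Lib.Helper22.RegFlatBC
set_option linter.style.haveILetI false

set_option autoImplicit false
universe u
open CategoryTheory CategoryTheory.Limits AlgebraicGeometry
open AlgSp

namespace Groth.Agent.S10662

/-- Let k be one of the kinds Koszul-regular, H_1-regular, quasi-regular; let i : Z ⟶ X be a regular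
immersion of algebraic spaces over S of kind k and g : X' ⟶ X a flat morphism of algebraic spaces.
Then the base change Z ×_X X' ⟶ X' (any pullback square of algebraic spaces) is a regular immersion
of kind k. -/
theorem result {S : Scheme.{u}} (k : RegImm.Kind) (hk : k = RegImm.Kind.koszul ∨ k = RegImm.Kind.h1 ∨ k = RegImm.Kind.quasi)
    {Z X X' : AlgSp.Space S} (i : Z ⟶ X) (g : X' ⟶ X)
    (hi : AlgSp.IsRegImmMor k i.hom) (hg : AlgSp.LocP @Flat g.hom)
    (P : AlgSp.Space S) (fst : P ⟶ Z) (i' : P ⟶ X') (sq : IsPullback fst.hom i'.hom i.hom g.hom) :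
    AlgSp.IsRegImmMor k i'.hom := by
  refine ⟨MorphismProperty.of_isPullback (P := AlgSp.Representable) sq hi.1, ?_⟩
  intro V W b' fst' snd hb' sq'
  obtain ⟨U, p, hp, hps⟩ := X.property.atlas
  obtain ⟨V₁, π, m₀, sqV⟩ := hp.rep (b' ≫ g.hom)
  obtain ⟨m, rfl⟩ := (AlgSp.yon S).map_surjective m₀
  have hπ : Etale π.left := hp.property _ _ _ sqV
  have hπs : Surjective π.left := hps.property _ _ _ sqV
  have hπe : AlgSp.RepWith @Etale ((AlgSp.yon S).map π) := (AlgSp.repWith_yon_map_iff @Etale π).2 hπ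
  have hπss : AlgSp.RepWith @Surjective ((AlgSp.yon S).map π) :=
    (AlgSp.repWith_yon_map_iff @Surjective π).2 hπs
  have hmflat : Flat m.left :=
    hg ((AlgSp.yon S).map π ≫ b') p m ((AlgSp.RepWith @Etale).comp_mem _ _ hπe hb') hp
      (by rw [Category.assoc]; exact sqV.w.symm)
  obtain ⟨ZU, j, q, sqZ⟩ := hi.1 p
  have hj : RegImm.IsRegularImmersion k j.left := hi.2 p q j hp sqZ
  obtain ⟨T, t₁, t₂₀, sqT⟩ := AlgSp.representable_yon_map snd ((AlgSp.yon S).map π)
  obtain ⟨t₂, rfl⟩ := (AlgSp.yon S).map_surjective t₂₀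
  have big := sqT.paste_horiz (sq'.paste_horiz sq)
  have hw : ((AlgSp.yon S).map t₂ ≫ fst' ≫ fst.hom) ≫ i.hom =
      ((AlgSp.yon S).map t₁ ≫ (AlgSp.yon S).map m) ≫ p := by
    rw [big.w, Category.assoc, sqV.w]
  obtain ⟨r, hr⟩ := (AlgSp.yon S).map_surjective (sqZ.lift _ _ hw)
  have hr1 : (AlgSp.yon S).map r ≫ q = (AlgSp.yon S).map t₂ ≫ fst' ≫ fst.hom := by
    rw [hr, sqZ.lift_fst]
  have hr2 : (AlgSp.yon S).map r ≫ (AlgSp.yon S).map j =
      (AlgSp.yon S).map t₁ ≫ (AlgSp.yon S).map m := by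
    rw [hr, sqZ.lift_snd]
  have sqL : IsPullback ((AlgSp.yon S).map r) ((AlgSp.yon S).map t₁) ((AlgSp.yon S).map j)
      ((AlgSp.yon S).map m) := by
    refine IsPullback.of_right ?_ hr2 sqZ
    rw [hr1, sqV.w]
    exact big
  have sqL' : IsPullback r.left t₁.left j.left m.left :=
    Groth.Agent.Lib.Helper16.isPullback_left_of_yon sqL
  have sqT' : IsPullback t₂.left t₁.left snd.left π.left :=
    Groth.Agent.Lib.Helper16.isPullback_left_of_yon sqT
  have ht₁ : RegImm.IsRegularImmersion k t₁.left :=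
    Groth.Agent.Lib.Helper22.RegFlatBC.baseChange_flat sqL' k hj
  have himm : IsImmersion snd.left := by
    have h1 : AlgSp.RepWith @IsImmersion ((AlgSp.yon S).map snd) :=
      Groth.Agent.Lib.Helper16.ImmDesc.repWith_isImmersion_of_fppfRefines
        (AlgSp.IsAlgSpace.yon_obj V) (fun _ : PUnit.{u + 1} => (AlgSp.yon S).obj V₁)
        (fun _ => (AlgSp.yon S).map π)
        (Groth.Agent.Lib.Helper16.ImmDesc.fppfRefines_chart (AlgSp.IsAlgSpace.yon_obj V)
          ((AlgSp.yon S).map π) hπe hπss)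
        (AlgSp.IsAlgSpace.yon_obj W) ((AlgSp.yon S).map snd) (fun _ => (AlgSp.yon S).obj T)
        (fun _ => (AlgSp.yon S).map t₁) (fun _ => (AlgSp.yon S).map t₂) (fun _ => sqT)
        (fun _ => (AlgSp.repWith_yon_map_iff @IsImmersion t₁).2 ht₁.1)
    exact (AlgSp.repWith_yon_map_iff @IsImmersion snd).1 h1
  exact Groth.Agent.Lib.Helper25.OpenDesc.isRegularImmersion_of_open k hk
    (Scheme.Hom.isOpenMap π.left) sqT' ht₁

end Groth.Agent.S10662
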