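import Groth.Statements.S9773
import Mathlib
import Groth.Agent.S15821

set_option autoImplicit false
universe u
open FlatMor

namespace Groth.Agent.S9773



open AlgebraicGeometry CategoryTheory Limits in
/-- A regular immersion of schemes, and likewise a Koszul-regular immersion, is a local complete
intersection morphism (Koszul at every point). -/
theorem result {Z X : Scheme.{u}} (i : Z ⟶ X) (k : RegImm.Kind)
    (hk : k = RegImm.Kind.regular ∨ k = RegImm.Kind.koszul) (hi : RegImm.IsRegularImmersion k i) (z : Z) :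
    Synt.IsKoszulAt i z := by
  obtain ⟨himm, hat⟩ := hi
  haveI := himm
  haveI : IsIso (Scheme.Opens.ι (⊤ : Z.Opens)) := (Scheme.topIso Z).isIso_hom
  refine ⟨⊤, X, (⊤ : Z.Opens).ι ≫ i, 𝟙 X, trivial, inferInstance, ⟨inferInstance, ?_⟩,
    inferInstance, by rw [Category.comp_id]⟩
  intro z'
  obtain ⟨U, hzU, hcl, rs, hrs, hker⟩ := hat ((⊤ : Z.Opens).ι z')
  refine ⟨U, ?_, ?_, rs, ?_, ?_⟩
  · rw [Scheme.Hom.comp_apply]
    exact hzU
  · rw [morphismRestrict_comp]
    haveI := hcl
    have hiso : IsIso ((Scheme.Opens.ι (⊤ : Z.Opens)) ∣_ (i ⁻¹ᵁ U.1)) := by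
      infer_instance
    exact @IsClosedImmersion.comp _ _ _ _ _
      (@IsClosedImmersion.instOfIsIsoScheme _ _ _ hiso) hcl
  · rcases hk with rfl | rfl
    · exact (Groth.Agent.S15821.result _ rs hrs.toIsWeaklyRegular).1
    · exact hrs
  · rw [← hker]
    ext x
    rw [RingHom.mem_ker, RingHom.mem_ker]
    have h1 : ((Scheme.Opens.ι (⊤ : Z.Opens) ≫ i).app U.1).hom x =
        ((Scheme.Opens.ι (⊤ : Z.Opens)).app (i ⁻¹ᵁ U.1)).hom ((i.app U.1).hom x) := rfl
    rw [h1]
    have hinj : Function.Injective ((Scheme.Opens.ι (⊤ : Z.Opens)).app (i ⁻¹ᵁ U.1)).hom :=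
      ((ConcreteCategory.isIso_iff_bijective _).1 inferInstance).1
    exact ⟨fun h => hinj (h.trans (map_zero _).symm), fun h => (congrArg _ h).trans (map_zero _)⟩

end Groth.Agent.S9773
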