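-- Statement S10664.
import Groth.Statements.S10664
import Mathlib
import Groth.Agent.Lib.Helper1.LciLocal2
import Groth.Agent.Lib.Helper1.SmDesc3
import Groth.Agent.Lib.Helper16.LocPGen
import Groth.Agent.Lib.Helper16.LocP
import Groth.Agent.S9773

set_option autoImplicit false
universe u
open CategoryTheory CategoryTheory.Limits AlgebraicGeometry
open AlgSp

namespace Groth.Agent.S10664

/-- For a local complete intersection (Koszul) morphism f : X ⟶ Y of algebraic spaces over S, a smooth g
: P ⟶ Y, an etale e : U ⟶ X and a representable immersion i : U ⟶ P with i ≫ g = e ≫ f, the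
immersion i is Koszul-regular as an immersion of algebraic spaces. -/
theorem result {S : Scheme.{u}} {X Y P U : AlgSp.Space S} (f : X ⟶ Y) (g : P ⟶ Y) (e : U ⟶ X) (i : U ⟶ P)
    (hc : i ≫ g = e ≫ f) (hf : AlgSp.IsLCIMor f.hom) (hg : AlgSp.LocP @Smooth g.hom)
    (he : AlgSp.IsEtaleMor e.hom) (hi : AlgSp.RepWith @IsImmersion i.hom) :
    AlgSp.IsRegImmMor RegImm.Kind.koszul i.hom := by
  refine ⟨hi.rep, ?_⟩
  intro V W b fst snd hb sq
  haveI himm : IsImmersion snd.left := hi.property _ _ _ sq
  obtain ⟨T, c, hce, hcs⟩ := Y.property.atlas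
  obtain ⟨V', π, w, hπe, hπs, hπw⟩ :=
    Groth.Agent.Lib.Helper16.exists_cover_over_chart g.hom b c hce hcs
  haveI := hπe
  haveI := hπs
  have hπb : AlgSp.RepWith @Etale ((AlgSp.yon S).map π ≫ b) :=
    (AlgSp.RepWith @Etale).comp_mem _ _ ((AlgSp.repWith_yon_map_iff _ _).2 hπe) hb
  haveI hw : Smooth w.left := hg ((AlgSp.yon S).map π ≫ b) c w hπb hce hπw
  have hfst : AlgSp.RepWith @Etale fst := (AlgSp.RepWith @Etale).of_isPullback sq.flip hb
  have hφ : AlgSp.RepWith @Etale ((AlgSp.yon S).map (pullback.fst snd π) ≫ fst) :=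
    (AlgSp.RepWith @Etale).comp_mem _ _
      ((AlgSp.repWith_yon_map_iff _ _).2 (Groth.Agent.Lib.Helper16.etale_pullback_fst_left snd π)) hfst
  have ha' : AlgSp.RepWith @Etale (((AlgSp.yon S).map (pullback.fst snd π) ≫ fst) ≫ e.hom) :=
    he _ hφ
  have hcomm : (((AlgSp.yon S).map (pullback.fst snd π) ≫ fst) ≫ e.hom) ≫ f.hom =
      (AlgSp.yon S).map (pullback.snd snd π ≫ w) ≫ c := by
    have hc' : e.hom ≫ f.hom = i.hom ≫ g.hom := by
      have := congrArg (fun k => k.hom) hc
      exact this.symm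
    have h1 : (AlgSp.yon S).map (pullback.fst snd π) ≫ (AlgSp.yon S).map snd =
        (AlgSp.yon S).map (pullback.snd snd π) ≫ (AlgSp.yon S).map π := by
      rw [← Functor.map_comp, ← Functor.map_comp, pullback.condition]
    calc (((AlgSp.yon S).map (pullback.fst snd π) ≫ fst) ≫ e.hom) ≫ f.hom
        = (AlgSp.yon S).map (pullback.fst snd π) ≫ (fst ≫ i.hom) ≫ g.hom := by
          simp only [Category.assoc]; rw [hc']
      _ = ((AlgSp.yon S).map (pullback.fst snd π) ≫ (AlgSp.yon S).map snd) ≫ b ≫ g.hom := by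
          rw [sq.w]; simp only [Category.assoc]
      _ = (AlgSp.yon S).map (pullback.snd snd π) ≫ ((AlgSp.yon S).map π ≫ b) ≫ g.hom := by
          rw [h1]; simp only [Category.assoc]
      _ = (AlgSp.yon S).map (pullback.snd snd π ≫ w) ≫ c := by
          rw [hπw, Functor.map_comp, Category.assoc]
  have hlci : AlgSp.lci (pullback.snd snd π ≫ w).left := hf _ c _ ha' hce hcomm
  have sqW : IsPullback (pullback.fst snd π).left (pullback.snd snd π).left snd.left π.left :=
    (IsPullback.of_hasPullback snd π).map (Over.forget S)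
  haveI : IsImmersion (pullback.snd snd π).left :=
    MorphismProperty.of_isPullback (P := @IsImmersion) sqW himm
  have hreg' : RegImm.IsRegularImmersion .koszul (pullback.snd snd π).left :=
    Groth.Agent.Lib.Helper1.SmDesc.isRegularImmersion_of_isKoszulAt
      (pullback.snd snd π ≫ w).left hlci w.left (pullback.snd snd π).left (Over.comp_left _ _ _ _ _).symm
  have hK : ∀ z, Synt.IsKoszulAt snd.left z :=
    Groth.Agent.Lib.Helper1.LciLocal.isKoszulAt_of_fppf sqW
      (fun z => Groth.Agent.S9773.result _ .koszul (Or.inr rfl) hreg' z)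
  exact Groth.Agent.Lib.Helper1.SmDesc.isRegularImmersion_of_isKoszulAt snd.left hK (𝟙 _) snd.left
    (Category.comp_id _)

end Groth.Agent.S10664
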