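-- Statement S10665.
import Groth.Statements.S10665
import Mathlib
import Groth.Agent.Lib.Helper1.LciLocal2
import Groth.Agent.Lib.Helper16.LocPGen
import Groth.Agent.S9773

set_option autoImplicit false
universe u
open CategoryTheory CategoryTheory.Limits AlgebraicGeometry
open AlgSp

namespace Groth.Agent.S10665

/-- A Koszul-regular immersion between algebraic spaces over S (representable, Koszul-regular immersion
on every etale scheme chart of the target) is a local complete intersection morphism (Koszul at
every point, etale locally on source and target). -/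
theorem result {S : Scheme.{u}} {X Y : AlgSp.Space S} (i : X ⟶ Y) (hi : AlgSp.IsRegImmMor RegImm.Kind.koszul i.hom) :
    AlgSp.IsLCIMor i.hom := by
  obtain ⟨hrep, hloc⟩ := hi
  intro U V a b h ha hb hcomm
  obtain ⟨W, snd, fst, sq⟩ := hrep b
  have hreg : RegImm.IsRegularImmersion .koszul snd.left := hloc b fst snd hb sq
  have hfst : AlgSp.RepWith @Etale fst := (AlgSp.RepWith @Etale).of_isPullback sq.flip hb
  let l := sq.lift a ((AlgSp.yon S).map h) hcomm
  have hl1 : l ≫ fst = a := sq.lift_fst _ _ _
  have hl2 : l ≫ (AlgSp.yon S).map snd = (AlgSp.yon S).map h := sq.lift_snd _ _ _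
  have hle : AlgSp.RepWith @Etale l :=
    Groth.Agent.Lib.Helper16.repWith_etale_of_comp l fst hfst (by rw [hl1]; exact ha)
  obtain ⟨l', hl'⟩ := (AlgSp.yon S).map_surjective l
  have hl'e : Etale l'.left := (AlgSp.repWith_yon_map_iff _ _).1 (hl' ▸ hle)
  have hh : l' ≫ snd = h := by
    apply (AlgSp.yon S).map_injective
    rw [Functor.map_comp, hl', hl2]
  intro x
  have hh' : h.left = l'.left ≫ snd.left := by rw [← Over.comp_left, hh]
  rw [hh']
  exact Groth.Agent.Lib.Helper1.LciComp.isKoszulAt_comp l'.left snd.left x
    (Groth.Agent.Lib.Helper1.KDesc.isKoszulAt_of_smooth l'.left x)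
    (Groth.Agent.S9773.result snd.left .koszul (Or.inr rfl) hreg (l'.left x))

end Groth.Agent.S10665
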