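-- Statement S10666.
import Groth.Statements.S10666
import Mathlib
import Groth.Agent.Lib.Helper1.LciLocal2
import Groth.Agent.Lib.Helper16.LocP
import Groth.Agent.Lib.Helper17.AlgSpLocP

set_option autoImplicit false
universe u
open CategoryTheory CategoryTheory.Limits AlgebraicGeometry
open AlgSp

namespace Groth.Agent.S10666

/-- For morphisms f : X ⟶ Y, p : X ⟶ Z, q : Y ⟶ Z of algebraic spaces over S with f ≫ q = p: if q is
smooth and p is a local complete intersection morphism, then so is f. -/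
theorem result {S : Scheme.{u}} {X Y Z : AlgSp.Space S} (f : X ⟶ Y) (p : X ⟶ Z) (q : Y ⟶ Z) (hc : f ≫ q = p)
    (hq : AlgSp.LocP @Smooth q.hom) (hp : AlgSp.IsLCIMor p.hom) :
    AlgSp.IsLCIMor f.hom := by
  intro U V a b m ha hb hcomm
  obtain ⟨W₀, c, hce, hcs⟩ := Z.property.atlas
  obtain ⟨V', π, w, hπe, hπs, hπw⟩ :=
    Groth.Agent.Lib.Helper16.exists_cover_over_chart q.hom b c hce hcs
  haveI := hπe
  haveI := hπs
  obtain ⟨h1, h2⟩ := Groth.Agent.Lib.Helper16.chart_diagram_comp f.hom q.hom a b m ha hcomm c π w hπw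
  have hp' : AlgSp.LocP AlgSp.lci (f.hom ≫ q.hom) := by
    have : f.hom ≫ q.hom = p.hom := by rw [← hc]; rfl
    rw [this]; exact hp
  have h3 : AlgSp.lci (pullback.snd m π ≫ w).left := hp' _ c _ h1 hce h2
  have hw : Smooth w.left :=
    hq ((AlgSp.yon S).map π ≫ b) c w
      ((AlgSp.RepWith @Etale).comp_mem _ _ ((AlgSp.repWith_yon_map_iff _ _).2 hπe) hb) hce hπw
  rw [Over.comp_left] at h3
  have h4 : ∀ z, Synt.IsKoszulAt (pullback.snd m π).left z := fun z =>
    Groth.Agent.Lib.Helper1.LciLocal.isKoszulAt_of_comp_smooth _ w.left z (h3 z)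
  have sq : IsPullback (pullback.fst m π).left (pullback.snd m π).left m.left π.left :=
    (IsPullback.of_hasPullback m π).map (Over.forget S)
  intro x
  exact Groth.Agent.Lib.Helper1.LciLocal.isKoszulAt_of_fppf sq h4 x

end Groth.Agent.S10666
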