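import Groth.Statements.S10670
import Groth.Agent.Lib.Helper16.GeomConnRel

set_option autoImplicit false
universe u
open CategoryTheory CategoryTheory.Limits AlgebraicGeometry
open AlgSp

namespace Groth.Agent.S10670

/-- For morphisms f : X ⟶ Y and g : Y' ⟶ Y between algebraic spaces over S, f' : X' ⟶ Y' the base change
of f along g, an algebraically closed field point k' of Y' and an algebraically closed field point k
of Y whose class in |Y| is the image of the class of k', the fibres X'_{k'} and X_k (pullbacks in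
fppf sheaves) have the same number of connected components of their spaces of points, counted in ℕ∞.
With g the identity this says the number of geometric connected components of the fibre over a point
of |Y| is well defined. -/
theorem result {S : Scheme.{u}} {X Y X' Y' : AlgSp.Space S} (f : X ⟶ Y) (g : Y' ⟶ Y) (gX : X' ⟶ X) (f' : X' ⟶ Y')
    (hsq : IsPullback gX.hom f'.hom f.hom g.hom)
    (k' : AlgSp.FieldPt Y'.obj) (hk' : k'.IsGeometric) (k : AlgSp.FieldPt Y.obj) (hk : k.IsGeometric)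
    (hkk : AlgSp.Points.mk k = AlgSp.Points.map g.hom (AlgSp.Points.mk k'))
    (Xk' : AlgSp.Sp S) (a' : Xk' ⟶ X'.obj) (b' : Xk' ⟶ (AlgSp.yon S).obj k'.pt) (h' : IsPullback a' b' f'.hom k'.toHom)
    (Xk : AlgSp.Sp S) (a : Xk ⟶ X.obj) (b : Xk ⟶ (AlgSp.yon S).obj k.pt) (h : IsPullback a b f.hom k.toHom) :
    ENat.card (_root_.ConnectedComponents (AlgSp.Points Xk')) = ENat.card (_root_.ConnectedComponents (AlgSp.Points Xk)) := by
  have hrel : AlgSp.FieldPt.Rel k (k'.map g.hom) := by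
    rw [← AlgSp.Points.mk_eq_mk_iff, hkk, AlgSp.Points.map_mk]
  rw [Groth.Agent.Lib.Helper16.rel_iff_toHom] at hrel
  obtain ⟨Ω, _, w, c, c₀', hcc₀⟩ := hrel
  rw [AlgSp.FieldPt.toHom_map] at hcc₀
  obtain ⟨c', rfl⟩ : ∃ c' : Over.mk w ⟶ k'.pt, c' = c₀' := ⟨c₀', rfl⟩
  have hcc : (AlgSp.yon S).map c ≫ k.toHom = (AlgSp.yon S).map c' ≫ k'.toHom ≫ g.hom := hcc₀
  haveI : IsAlgClosed k.K := hk
  haveI : IsAlgClosed k'.K := hk'
  have hXk : AlgSp.IsAlgSpace Xk :=
    Groth.Agent.Lib.Helper16.isAlgSpace_of_isPullback X.2 Y.2.diag (AlgSp.IsAlgSpace.yon_obj _) h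
  have hXk' : AlgSp.IsAlgSpace Xk' :=
    Groth.Agent.Lib.Helper16.isAlgSpace_of_isPullback X'.2 Y'.2.diag (AlgSp.IsAlgSpace.yon_obj _) h'
  have sq1 := IsPullback.of_hasPullback b ((AlgSp.yon S).map c)
  have B1 := Groth.Agent.Lib.Helper16.GeomConn.bijective_connectedComponentsMap_bc_field hXk k.K k.str b
    Ω w c _ _ sq1
  have BS1 : IsPullback (pullback.fst b ((AlgSp.yon S).map c) ≫ a) (pullback.snd b ((AlgSp.yon S).map c))
      f.hom ((AlgSp.yon S).map c ≫ k.toHom) := sq1.paste_horiz h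
  have BS2 : IsPullback (a' ≫ gX.hom) b' f.hom (k'.toHom ≫ g.hom) := h'.paste_horiz hsq
  have hlc : (pullback.fst b ((AlgSp.yon S).map c) ≫ a) ≫ f.hom =
      (pullback.snd b ((AlgSp.yon S).map c) ≫ (AlgSp.yon S).map c') ≫ (k'.toHom ≫ g.hom) := by
    rw [BS1.w, hcc]
    exact (Category.assoc _ _ _).symm
  have sq2 : IsPullback (BS2.lift _ _ hlc) (pullback.snd b ((AlgSp.yon S).map c)) b'
      ((AlgSp.yon S).map c') := by
    refine IsPullback.of_right ?_ (BS2.lift_snd _ _ hlc) BS2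
    rw [BS2.lift_fst, ← hcc]
    exact BS1
  have B2 := Groth.Agent.Lib.Helper16.GeomConn.bijective_connectedComponentsMap_bc_field hXk' k'.K k'.str b'
    Ω w c' _ _ sq2
  exact (ENat.card_congr (Equiv.ofBijective _ B2)).symm.trans (ENat.card_congr (Equiv.ofBijective _ B1))

end Groth.Agent.S10670
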