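import Groth.Statements.S10678
import Groth.Agent.Lib.Helper16.DimF7
import Groth.Agent.Lib.Helper16.FibreProduct

open Groth.Agent.Lib.Helper16 Groth.Agent.Lib.Helper16.DimF Groth.Agent.Lib.Helper16.QfAt Groth.Agent.Lib.Helper15

set_option autoImplicit false
universe u
open CategoryTheory CategoryTheory.Limits AlgebraicGeometry
open AlgSp

namespace Groth.Agent.S10678

/-- For a morphism f : X ⟶ Y of finite type between algebraic spaces over S, a point y of |Y| and any
field point k of Y in the class of y, with fibre X_k (pullback in fppf sheaves): the dimension of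
X_k (supremum of the dimensions of its etale scheme charts) is -∞ exactly when y lies outside the
image of |X|, and for every natural number d it is at most d exactly when f has relative dimension
at most d at every point of |X| over y (some etale chart diagram through the point whose top arrow
has local fibre dimension at most d there). -/
theorem result {S : Scheme.{u}} {X Y : AlgSp.Space S} (f : X ⟶ Y) (hf : AlgSp.IsFiniteTypeMor f.hom)
    (y : AlgSp.Points Y.obj) (k : AlgSp.FieldPt Y.obj) (hk : AlgSp.Points.mk k = y)
    (Xk : AlgSp.Sp S) (fst : Xk ⟶ X.obj) (snd : Xk ⟶ (AlgSp.yon S).obj k.pt) (h : IsPullback fst snd f.hom k.toHom) :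
    (AlgSp.dim Xk = ⊥ ↔ y ∉ Set.range (AlgSp.Points.map f.hom)) ∧
      ∀ d : ℕ, (AlgSp.dim Xk ≤ d ↔
        ∀ x : AlgSp.Points X.obj, AlgSp.Points.map f.hom x = y →
          AlgSp.HasAtMor (fun _ _ h u => FlatMor.fibreDimAt h u ≤ (d : WithBot ℕ∞)) f.hom x) := by
  have hft : LocP @LocallyOfFiniteType f.hom := hf.1
  have hXk : IsAlgSpace Xk :=
    isAlgSpace_of_isPullback X.property Y.property.diag (IsAlgSpace.yon_obj _) h
  have hsnd : LocP @LocallyOfFiniteType snd :=
    locP_of_isPullback etLocalST_locallyOfFiniteType X.property Y.property h hft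
  have hsub : Subsingleton ↥(k.pt).left := inferInstanceAs (Subsingleton ↥(Spec (.of k.K)))
  have hrange := FibrePt.range_map_fst f.hom k fst snd h
  subst hk
  constructor
  · rw [dim_eq_bot_iff hXk]
    constructor
    · rintro hE ⟨x, hx⟩
      have hx' : x ∈ Set.range (Points.map fst) := by rw [hrange]; exact hx
      obtain ⟨z, -⟩ := hx'
      exact hE.false z
    · intro hy
      refine ⟨fun z => hy ⟨Points.map fst z, ?_⟩⟩
      have hz : Points.map fst z ∈ Points.map f.hom ⁻¹' {Points.mk k} := by
        rw [← hrange]; exact ⟨z, rfl⟩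
      exact hz
  · intro d
    rw [dim_le_iff_of_subsingleton hXk k.pt snd hsnd d]
    constructor
    · intro H x hx
      have hx' : x ∈ Set.range (Points.map fst) := by rw [hrange]; exact hx
      obtain ⟨z, rfl⟩ := hx'
      exact (hasAtMor_fibreDimAt_baseChange (fun t => t ≤ (d : WithBot ℕ∞)) X.property Y.property
        (IsAlgSpace.yon_obj _) h hft z).1 (H z)
    · intro H z
      have hz : Points.map fst z ∈ Points.map f.hom ⁻¹' {Points.mk k} := by
        rw [← hrange]; exact ⟨z, rfl⟩
      exact (hasAtMor_fibreDimAt_baseChange (fun t => t ≤ (d : WithBot ℕ∞)) X.property Y.property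
        (IsAlgSpace.yon_obj _) h hft z).2 (H _ hz)

end Groth.Agent.S10678
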