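import Groth.Statements.S10679
import Groth.Agent.Lib.Helper16.DimF9
import Groth.Agent.S10678
import Groth.Agent.S9962
import Groth.Agent.Lib.Helper16.FibreProduct

open Groth.Agent.Lib.Helper16 Groth.Agent.Lib.Helper16.DimF Groth.Agent.Lib.Helper16.QfAt Groth.Agent.Lib.Helper15

set_option autoImplicit false
universe u
open CategoryTheory CategoryTheory.Limits AlgebraicGeometry
open AlgSp

namespace Groth.Agent.S10679

theorem aux {S : Scheme.{u}} {X Y : AlgSp.Space S} (f : X ⟶ Y) (d : WithBot ℕ∞)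
    (P' : AlgSp.Points Y.obj → Prop)
    (hP : ∀ y, (∀ (k : AlgSp.FieldPt Y.obj), AlgSp.Points.mk k = y →
      ∀ (Xk : AlgSp.Sp S) (fst : Xk ⟶ X.obj) (snd : Xk ⟶ (AlgSp.yon S).obj k.pt),
        IsPullback fst snd f.hom k.toHom → d < AlgSp.dim Xk) ↔ P' y)
    (hO : IsOpen {y | P' y}) :
    IsOpen {y : AlgSp.Points Y.obj | ∀ (k : AlgSp.FieldPt Y.obj), AlgSp.Points.mk k = y →
      ∀ (Xk : AlgSp.Sp S) (fst : Xk ⟶ X.obj) (snd : Xk ⟶ (AlgSp.yon S).obj k.pt),
        IsPullback fst snd f.hom k.toHom → d < AlgSp.dim Xk} := by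
  have h : {y : AlgSp.Points Y.obj | ∀ (k : AlgSp.FieldPt Y.obj), AlgSp.Points.mk k = y →
      ∀ (Xk : AlgSp.Sp S) (fst : Xk ⟶ X.obj) (snd : Xk ⟶ (AlgSp.yon S).obj k.pt),
        IsPullback fst snd f.hom k.toHom → d < AlgSp.dim Xk} = {y | P' y} := Set.ext hP
  rw [h]
  exact hO

/-- For a flat morphism locally of finite presentation the image of the locus of relative dimension `> m` is open. -/
theorem isOpen_image_compl {S : Scheme.{u}} {X Y : AlgSp.Space S} (f : X ⟶ Y)
    (hfl : AlgSp.LocP @Flat f.hom) (hfp : AlgSp.LocP @LocallyOfFinitePresentation f.hom) (m : ℕ) :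
    IsOpen (AlgSp.Points.map f.hom '' {x : AlgSp.Points X.obj |
      AlgSp.HasAtMor (fun _ _ h u => FlatMor.fibreDimAt h u ≤ (m : WithBot ℕ∞)) f.hom x}ᶜ) := by
  have hft : LocP @LocallyOfFiniteType f.hom := fun U V a b g ha hb hc => by
    have : LocallyOfFinitePresentation g.left := hfp _ _ g ha hb hc
    infer_instance
  obtain ⟨V, b, hbe, hbs⟩ := Y.property.atlas
  obtain ⟨U₀, a₀, ha₀e, ha₀s⟩ := X.property.atlas
  obtain ⟨U, h, c, hae, hac, -, -, has⟩ := exists_chart_diagram f.hom b hbe a₀ ha₀e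
  generalize (yon S).map c ≫ a₀ = a at hae hac has
  have hsurj := ofPt_surjective_of_surjective a (has hbs ha₀s)
  have : LocallyOfFinitePresentation h.left := hfp _ _ h hae hbe hac
  have : Flat h.left := hfl _ _ h hae hbe hac
  have hLU : ∀ z : ↥U.left, AlgSp.HasAtMor (fun _ _ h u => FlatMor.fibreDimAt h u ≤ (m : WithBot ℕ∞)) f.hom
      (Points.ofPt a z) ↔ FlatMor.fibreDimAt h.left z ≤ (m : WithBot ℕ∞) := fun z =>
    hasAtMor_fibreDimAt_iff (fun t => t ≤ (m : WithBot ℕ∞)) f.hom hft a b h hae hbe hac z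
  have hpt : ∀ z : ↥U.left, Points.map f.hom (Points.ofPt a z) = Points.ofPt b (h.left z) := by
    intro z
    rw [Points.map_ofPt, hac, ofPt_yon_map_comp]
  have heq : AlgSp.Points.map f.hom '' {x : AlgSp.Points X.obj |
      AlgSp.HasAtMor (fun _ _ h u => FlatMor.fibreDimAt h u ≤ (m : WithBot ℕ∞)) f.hom x}ᶜ =
      Points.ofPt b '' (h.left '' {z : ↥U.left | FlatMor.fibreDimAt h.left z ≤ (m : WithBot ℕ∞)}ᶜ) := by
    ext y
    constructor
    · rintro ⟨x, hx, rfl⟩
      obtain ⟨z, rfl⟩ := hsurj x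
      exact ⟨h.left z, ⟨z, fun hz => hx ((hLU z).2 hz), rfl⟩, (hpt z).symm⟩
    · rintro ⟨_, ⟨z, hz, rfl⟩, rfl⟩
      exact ⟨Points.ofPt a z, fun hx => hz ((hLU z).1 hx), hpt z⟩
  rw [heq]
  exact isOpenMap_ofPt_of_etale b hbe _ (isOpen_image_setOf_not_fibreDimAt_le h.left m)


/-- For a flat morphism f : X ⟶ Y of algebraic spaces over S which is of finite presentation, the fibre
dimension function on |Y|, y ↦ dimension of X_k for a field point k in the class of y, is lower
semi-continuous: for every d the set of y such that every fibre X_k over y (k a field point in the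
class of y, X_k any pullback in fppf sheaves) has dimension greater than d is open. -/
theorem result {S : Scheme.{u}} {X Y : AlgSp.Space S} (f : X ⟶ Y)
    (hf1 : AlgSp.LocP @Flat f.hom) (hf2 : AlgSp.IsFinitePresentationMor f.hom) (d : WithBot ℕ∞) :
    IsOpen {y : AlgSp.Points Y.obj | ∀ (k : AlgSp.FieldPt Y.obj), AlgSp.Points.mk k = y →
      ∀ (Xk : AlgSp.Sp S) (fst : Xk ⟶ X.obj) (snd : Xk ⟶ (AlgSp.yon S).obj k.pt),
        IsPullback fst snd f.hom k.toHom → d < AlgSp.dim Xk} := by
  have hfp : LocP @LocallyOfFinitePresentation f.hom := hf2.1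
  have hlft : LocP @LocallyOfFiniteType f.hom := fun U V a b g ha hb hc => by
    have : LocallyOfFinitePresentation g.left := hfp _ _ g ha hb hc
    infer_instance
  have hft : IsFiniteTypeMor f.hom := ⟨hlft, hf2.2.1⟩
  have hop : IsOpenMap (Points.map f.hom) :=
    (Groth.Agent.S9962.result f hf1 hfp) Y.property (𝟙 Y.obj) (𝟙 X.obj) f.hom IsPullback.of_id_fst
  have key := fun y k hk Xk fst snd h => Groth.Agent.S10678.result f hft y k hk Xk fst snd h
  have hex : ∀ y : Points Y.obj, ∃ (k : FieldPt Y.obj), Points.mk k = y := fun y => Points.mk_surjective y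
  induction d using WithBot.recBotCoe with
  | bot =>
    refine aux f ⊥ (fun y => y ∈ Set.range (Points.map f.hom)) (fun y => ?_) hop.isOpen_range
    constructor
    · intro H
      obtain ⟨k, hk⟩ := hex y
      have h := IsPullback.of_hasPullback f.hom k.toHom
      by_contra hy
      exact (H k hk _ _ _ h).ne' (((key y k hk _ _ _ h).1).2 hy)
    · intro hy k hk Xk fst snd h
      rw [bot_lt_iff_ne_bot]
      intro h0
      exact ((key y k hk _ _ _ h).1).1 h0 hy
  | coe d =>
    induction d using ENat.recTopCoe with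
    | top =>
      refine aux f _ (fun _ => False) (fun y => ?_) (by simp)
      simp only [iff_false]
      intro H
      obtain ⟨k, hk⟩ := hex y
      exact not_top_lt (H k hk _ _ _ (IsPullback.of_hasPullback f.hom k.toHom))
    | coe m =>
      refine aux f _ (fun y => y ∈ Points.map f.hom '' {x : AlgSp.Points X.obj |
          AlgSp.HasAtMor (fun _ _ h u => FlatMor.fibreDimAt h u ≤ (m : WithBot ℕ∞)) f.hom x}ᶜ)
          (fun y => ?_) (isOpen_image_compl f hf1 hfp m)
      constructor
      · intro H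
        obtain ⟨k, hk⟩ := hex y
        have h := IsPullback.of_hasPullback f.hom k.toHom
        have h1 : ¬ AlgSp.dim (pullback f.hom k.toHom) ≤ ((m : ℕ) : WithBot ℕ∞) :=
          not_le.2 (H k hk _ _ _ h)
        rw [(key y k hk _ _ _ h).2 m] at h1
        simp only [not_forall] at h1
        obtain ⟨x, hx, hnot⟩ := h1
        exact ⟨x, hnot, hx⟩
      · rintro ⟨x, hx, rfl⟩ k hk Xk fst snd h
        have h1 : ¬ AlgSp.dim Xk ≤ ((m : ℕ) : WithBot ℕ∞) := by
          rw [(key _ k hk _ _ _ h).2 m]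
          intro Hall
          exact hx (Hall x rfl)
        exact not_le.1 h1

end Groth.Agent.S10679
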