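import Groth.Statements.S10680
import Groth.Agent.Lib.Helper16.DimF9
import Groth.Agent.S10678
import Groth.Agent.S10308
import Groth.Agent.Lib.Helper16.FibreProduct

open Groth.Agent.Lib.Helper16 Groth.Agent.Lib.Helper16.DimF Groth.Agent.Lib.Helper16.QfAt Groth.Agent.Lib.Helper15

set_option autoImplicit false
universe u
open CategoryTheory CategoryTheory.Limits AlgebraicGeometry
open AlgSp

namespace Groth.Agent.S10680

theorem aux {S : Scheme.{u}} {X Y : AlgSp.Space S} (f : X ⟶ Y) (d : WithBot ℕ∞)
    (P' : AlgSp.Points Y.obj → Prop)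
    (hP : ∀ y, (∀ (k : AlgSp.FieldPt Y.obj), AlgSp.Points.mk k = y →
      ∀ (Xk : AlgSp.Sp S) (fst : Xk ⟶ X.obj) (snd : Xk ⟶ (AlgSp.yon S).obj k.pt),
        IsPullback fst snd f.hom k.toHom → AlgSp.dim Xk < d) ↔ P' y)
    (hO : IsOpen {y | P' y}) :
    IsOpen {y : AlgSp.Points Y.obj | ∀ (k : AlgSp.FieldPt Y.obj), AlgSp.Points.mk k = y →
      ∀ (Xk : AlgSp.Sp S) (fst : Xk ⟶ X.obj) (snd : Xk ⟶ (AlgSp.yon S).obj k.pt),
        IsPullback fst snd f.hom k.toHom → AlgSp.dim Xk < d} := by
  have h : {y : AlgSp.Points Y.obj | ∀ (k : AlgSp.FieldPt Y.obj), AlgSp.Points.mk k = y →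
      ∀ (Xk : AlgSp.Sp S) (fst : Xk ⟶ X.obj) (snd : Xk ⟶ (AlgSp.yon S).obj k.pt),
        IsPullback fst snd f.hom k.toHom → AlgSp.dim Xk < d} = {y | P' y} := Set.ext hP
  rw [h]
  exact hO


/-- For a proper morphism f : X ⟶ Y between algebraic spaces over S the fibre dimension function on |Y|
is upper semi-continuous: for every d the set of y such that every fibre X_k over y (k a field point
in the class of y, X_k any pullback in fppf sheaves) has dimension less than d is open. -/
theorem result {S : Scheme.{u}} {X Y : AlgSp.Space S} (f : X ⟶ Y) (hf : AlgSp.IsProperMor f.hom) (d : WithBot ℕ∞) :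
    IsOpen {y : AlgSp.Points Y.obj | ∀ (k : AlgSp.FieldPt Y.obj), AlgSp.Points.mk k = y →
      ∀ (Xk : AlgSp.Sp S) (fst : Xk ⟶ X.obj) (snd : Xk ⟶ (AlgSp.yon S).obj k.pt),
        IsPullback fst snd f.hom k.toHom → AlgSp.dim Xk < d} := by
  have hft : IsFiniteTypeMor f.hom := hf.2.1
  have hlft : LocP @LocallyOfFiniteType f.hom := hft.1
  have hcl : IsClosedMap (Points.map f.hom) :=
    hf.2.2 Y.property (𝟙 Y.obj) (𝟙 X.obj) f.hom IsPullback.of_id_fst
  have key := fun y k hk Xk fst snd h => Groth.Agent.S10678.result f hft y k hk Xk fst snd h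
  have hex : ∀ y : Points Y.obj, ∃ (k : FieldPt Y.obj), Points.mk k = y := fun y => Points.mk_surjective y
  induction d using WithBot.recBotCoe with
  | bot =>
    refine aux f ⊥ (fun _ => False) (fun y => ?_) (by simp)
    simp only [iff_false]
    intro H
    obtain ⟨k, hk⟩ := hex y
    exact not_lt_bot (H k hk _ _ _ (IsPullback.of_hasPullback f.hom k.toHom))
  | coe d =>
    induction d using ENat.recTopCoe with
    | top =>
      refine aux f _ (fun _ => True) (fun y => ?_) (by simp)
      simp only [iff_true]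
      intro k hk Xk fst snd h
      have hXk : IsAlgSpace Xk :=
        isAlgSpace_of_isPullback X.property Y.property.diag (IsAlgSpace.yon_obj _) h
      have hsnd : LocP @LocallyOfFiniteType snd :=
        locP_of_isPullback etLocalST_locallyOfFiniteType X.property Y.property h hlft
      have hsub : Subsingleton ↥(k.pt).left := inferInstanceAs (Subsingleton ↥(Spec (.of k.K)))
      have hcs : CompactSpace ↥(k.pt).left := inferInstanceAs (CompactSpace ↥(Spec (.of k.K)))
      have hZqc : IsQuasiCompactSp ((yon S).obj k.pt) := ⟨k.pt, 𝟙 _, repWith_id _ _, repWith_id _ _, hcs⟩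
      have hqc : IsQuasiCompactSp Xk := hft.2 (IsAlgSpace.yon_obj _) hZqc k.toHom fst snd h
      exact dim_lt_top_of_isQuasiCompactSp hXk hqc k.pt snd hsnd
    | coe m =>
      cases m with
      | zero =>
        refine aux f _ (fun y => y ∈ (Set.range (Points.map f.hom))ᶜ) (fun y => ?_)
          hcl.isClosed_range.isOpen_compl
        constructor
        · intro H
          obtain ⟨k, hk⟩ := hex y
          have h := IsPullback.of_hasPullback f.hom k.toHom
          exact ((key y k hk _ _ _ h).1).1 ((withBot_lt_zero_iff _).1 (H k hk _ _ _ h))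
        · intro hy k hk Xk fst snd h
          rw [withBot_lt_zero_iff]
          exact ((key y k hk _ _ _ h).1).2 hy
      | succ n =>
        refine aux f _ (fun y => y ∈ (Points.map f.hom '' {x : AlgSp.Points X.obj |
          AlgSp.HasAtMor (fun _ _ h u => FlatMor.fibreDimAt h u ≤ (n : WithBot ℕ∞)) f.hom x}ᶜ)ᶜ)
          (fun y => ?_) (hcl _ (Groth.Agent.S10308.result f hlft n).isClosed_compl).isOpen_compl
        constructor
        · rintro H ⟨x, hx, rfl⟩
          obtain ⟨k, hk⟩ := hex (Points.map f.hom x)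
          have h := IsPullback.of_hasPullback f.hom k.toHom
          have h1 := (withBot_lt_succ_iff _ n).1 (H k hk _ _ _ h)
          exact hx (((key _ k hk _ _ _ h).2 n).1 h1 x rfl)
        · intro hy k hk Xk fst snd h
          rw [withBot_lt_succ_iff]
          refine ((key y k hk _ _ _ h).2 n).2 fun x hx => ?_
          by_contra hcon
          exact hy ⟨x, hcon, hx⟩

end Groth.Agent.S10680
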