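import Groth.Statements.S10683
import Groth.Agent.Lib.Helper9.GRFib
import Groth.Agent.S1301

set_option autoImplicit false
universe u
open CategoryTheory CategoryTheory.Limits AlgebraicGeometry
open AlgSp

namespace Groth.Agent.S10683

open Groth.Agent.Lib.Helper16 Groth.Agent.Lib.Helper16.GeomRedFib Groth.Agent.Lib.Helper9.GRFib

/-- For a quasi-compact morphism f : X ⟶ Y between algebraic spaces over S which is locally of finite
presentation, the set E of points of |Y| at which the fibre of f is geometrically reduced is etale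
locally constructible: for every affine scheme V with a representable etale a : h_V ⟶ Y, the inverse
image of E in V is a constructible subset. Here the fibre of f at y being geometrically reduced
means: for every field point k of Y in the class of y and every field homomorphism k ⟶ k', the base
change X_{k'} (pullback in fppf sheaves) is reduced (some etale surjective scheme chart is reduced). -/
theorem result {S : Scheme.{u}} {X Y : AlgSp.Space S} (f : X ⟶ Y)
    (hf1 : AlgSp.IsQuasiCompactMor f.hom) (hf2 : AlgSp.LocP @LocallyOfFinitePresentation f.hom)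
    (V : Over S) (hV : IsAffine V.left) (a : (AlgSp.yon S).obj V ⟶ Y.obj) (ha : AlgSp.RepWith @Etale a) :
    Topology.IsConstructible ((AlgSp.Points.ofPt a) ⁻¹' {y : AlgSp.Points Y.obj | ∀ (k : AlgSp.FieldPt Y.obj), AlgSp.Points.mk k = y →
        ∀ (k' : Type u) [Field k'] (φ : k.K →+* k') (Xk' : AlgSp.Sp S) (a : Xk' ⟶ X.obj)
          (b : Xk' ⟶ (AlgSp.yon S).obj (Over.mk (Spec.map (CommRingCat.ofHom φ) ≫ k.str))),
          IsPullback a b f.hom ((AlgSp.yon S).map (Over.homMk (Spec.map (CommRingCat.ofHom φ)) rfl :
            Over.mk (Spec.map (CommRingCat.ofHom φ) ≫ k.str) ⟶ k.pt) ≫ k.toHom) →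
          AlgSp.EtaleLocally (fun U => IsReduced U) Xk'}) := by
  haveI : IsAffine V.left := hV
  have hVqc : AlgSp.IsQuasiCompactSp ((AlgSp.yon S).obj V) :=
    ⟨V, 𝟙 _, AlgSp.repWith_id _ V, AlgSp.repWith_id _ V, (inferInstance : CompactSpace V.left)⟩
  have sqXV := IsPullback.of_hasPullback f.hom a
  obtain ⟨W, π, hπe, hπs, hWc⟩ := hf1 (AlgSp.IsAlgSpace.yon_obj V) hVqc a _ _ sqXV
  obtain ⟨g, hg⟩ := (AlgSp.yon S).map_surjective (π ≫ pullback.snd f.hom a)
  have hsnd : AlgSp.LocP @LocallyOfFinitePresentation (pullback.snd f.hom a) :=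
    locP_of_isPullback etLocalST_locallyOfFinitePresentation X.property Y.property sqXV hf2
  haveI hglfp : LocallyOfFinitePresentation g.left :=
    hsnd π (𝟙 _) g hπe (AlgSp.repWith_id _ V) (by rw [Category.comp_id, hg])
  haveI : CompactSpace W.left := hWc
  haveI : QuasiCompact g.left := (HasAffineProperty.iff_of_isAffine (P := @QuasiCompact)).mpr hWc
  have hLC := Groth.Agent.S1301.result g.left
  have hC : Topology.IsConstructible
      {v : ↥V.left | GeometricallyReduced (g.left.fiberToSpecResidueField v)} := hLC.isConstructible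
  convert hC using 1
  ext v
  simp only [Set.mem_preimage, Set.mem_setOf_eq]
  rw [← geomRedFibre_iff f.hom a π hπe hπs g hg.symm v]
  constructor
  · intro h
    exact h (AlgSp.FieldPt.ofPt a v) rfl
  · intro h k hk
    exact geomRedFibre_of_rel X.2 Y.2 f.hom _ k (AlgSp.Points.mk_eq_mk_iff.1 hk.symm) h

end Groth.Agent.S10683
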