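import Groth.Statements.S10686
import Groth.Agent.Lib.Helper16.GeomRedFib

set_option autoImplicit false
universe u
open CategoryTheory CategoryTheory.Limits AlgebraicGeometry
open AlgSp

namespace Groth.Agent.S10686

/-- For a morphism f : X ⟶ Y between algebraic spaces over S and a point y of |Y|, write X_k for the
fibre (pullback in fppf sheaves) over a field point k of Y and call X_k geometrically reduced when
for every field homomorphism k ⟶ k' the base change X_{k'} is reduced (some etale surjective scheme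
chart reduced). The following are equivalent: (1) X_k is geometrically reduced for some k in the
class of y; (2) X_k is geometrically reduced for every k in the class of y; (3) X_k is reduced for
every k in the class of y. -/
theorem result {S : Scheme.{u}} {X Y : AlgSp.Space S} (f : X ⟶ Y) (y : AlgSp.Points Y.obj) :
    [∃ (k : AlgSp.FieldPt Y.obj), AlgSp.Points.mk k = y ∧
        ∀ (k' : Type u) [Field k'] (φ : k.K →+* k') (Xk' : AlgSp.Sp S) (a : Xk' ⟶ X.obj)
          (b : Xk' ⟶ (AlgSp.yon S).obj (Over.mk (Spec.map (CommRingCat.ofHom φ) ≫ k.str))),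
          IsPullback a b f.hom ((AlgSp.yon S).map (Over.homMk (Spec.map (CommRingCat.ofHom φ)) rfl :
            Over.mk (Spec.map (CommRingCat.ofHom φ) ≫ k.str) ⟶ k.pt) ≫ k.toHom) →
          AlgSp.EtaleLocally (fun U => IsReduced U) Xk',
      ∀ (k : AlgSp.FieldPt Y.obj), AlgSp.Points.mk k = y →
        ∀ (k' : Type u) [Field k'] (φ : k.K →+* k') (Xk' : AlgSp.Sp S) (a : Xk' ⟶ X.obj)
          (b : Xk' ⟶ (AlgSp.yon S).obj (Over.mk (Spec.map (CommRingCat.ofHom φ) ≫ k.str))),
          IsPullback a b f.hom ((AlgSp.yon S).map (Over.homMk (Spec.map (CommRingCat.ofHom φ)) rfl :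
            Over.mk (Spec.map (CommRingCat.ofHom φ) ≫ k.str) ⟶ k.pt) ≫ k.toHom) →
          AlgSp.EtaleLocally (fun U => IsReduced U) Xk',
      ∀ (k : AlgSp.FieldPt Y.obj), AlgSp.Points.mk k = y →
        ∀ (Xk : AlgSp.Sp S) (a : Xk ⟶ X.obj) (b : Xk ⟶ (AlgSp.yon S).obj k.pt), IsPullback a b f.hom k.toHom →
          AlgSp.EtaleLocally (fun U => IsReduced U) Xk].TFAE := by
  tfae_have 1 → 2 := by
    rintro ⟨k₁, hk₁, h₁⟩ k₂ hk₂
    exact Groth.Agent.Lib.Helper16.GeomRedFib.geomRedFibre_of_rel X.2 Y.2 f.hom k₁ k₂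
      (AlgSp.Points.mk_eq_mk_iff.1 (hk₁.trans hk₂.symm)) h₁
  tfae_have 2 → 3 := by
    intro H2 k hk Xk a b sq
    have hid : Spec.map (CommRingCat.ofHom (RingHom.id k.K)) = 𝟙 _ := by
      rw [CommRingCat.ofHom_id, Spec.map_id]
    have hjw : (Iso.refl (Spec (CommRingCat.of k.K))).hom ≫
        (Spec.map (CommRingCat.ofHom (RingHom.id k.K)) ≫ k.str) = k.str := by
      rw [Iso.refl_hom, Category.id_comp, hid, Category.id_comp]
    obtain ⟨j, hjl⟩ : ∃ j : k.pt ≅ Over.mk (Spec.map (CommRingCat.ofHom (RingHom.id k.K)) ≫ k.str),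
        j.hom.left = 𝟙 _ := ⟨Over.isoMk (Iso.refl _) hjw, rfl⟩
    have hj : j.hom ≫ (Over.homMk (Spec.map (CommRingCat.ofHom (RingHom.id k.K))) rfl :
        Over.mk (Spec.map (CommRingCat.ofHom (RingHom.id k.K)) ≫ k.str) ⟶ k.pt) = 𝟙 k.pt := by
      apply Over.OverMorphism.ext
      rw [Over.comp_left, hjl, Category.id_comp]
      exact hid
    have sq' : IsPullback a (b ≫ (AlgSp.yon S).map j.hom) f.hom
        ((AlgSp.yon S).map (Over.homMk (Spec.map (CommRingCat.ofHom (RingHom.id k.K))) rfl :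
          Over.mk (Spec.map (CommRingCat.ofHom (RingHom.id k.K)) ≫ k.str) ⟶ k.pt) ≫ k.toHom) :=
      IsPullback.of_iso sq (Iso.refl _) (Iso.refl _) ((AlgSp.yon S).mapIso j) (Iso.refl _)
        (by simp) (by simp) (by simp)
        (by rw [Iso.refl_hom, Category.comp_id, Functor.mapIso_hom, ← Category.assoc,
          ← Functor.map_comp, hj, (AlgSp.yon S).map_id, Category.id_comp])
    exact H2 k hk k.K (RingHom.id k.K) Xk a (b ≫ (AlgSp.yon S).map j.hom) sq'
  tfae_have 3 → 2 := by
    intro H3 k hk k' _ φ Xk' a b sq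
    exact H3 (Groth.Agent.Lib.Helper16.fieldPtOfHom k' (Spec.map (CommRingCat.ofHom φ) ≫ k.str)
        ((AlgSp.yon S).map (Over.homMk (Spec.map (CommRingCat.ofHom φ)) rfl :
          Over.mk (Spec.map (CommRingCat.ofHom φ) ≫ k.str) ⟶ k.pt) ≫ k.toHom))
      (by rw [Groth.Agent.Lib.Helper16.mk_fieldPtOfHom_comp]; exact hk) Xk' a b
      (by rw [Groth.Agent.Lib.Helper16.fieldPtOfHom_toHom]; exact sq)
  tfae_have 2 → 1 := by
    intro H2
    obtain ⟨k, hk⟩ := AlgSp.Points.mk_surjective y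
    exact ⟨k, hk, H2 k hk⟩
  tfae_finish

end Groth.Agent.S10686
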