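import Groth.Statements.S10687
import Groth.Agent.Lib.Helper16.GorSp

set_option autoImplicit false
universe u
open CategoryTheory CategoryTheory.Limits AlgebraicGeometry
open AlgSp

namespace Groth.Agent.S10687

/-- For morphisms f : X ⟶ Y and g : Y ⟶ Z between algebraic spaces over S whose fibres, and those of f ≫
g, are locally Noetherian, and a point x of |X|: (1) if g is Gorenstein at the image of x and f is
Gorenstein at x itself, then so is f ≫ g at x; (2) if f ≫ g is Gorenstein at x and f is flat there,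
then f is Gorenstein at x and g at the image of x. Here f is Gorenstein at x when in every etale
chart diagram through x the top arrow is Gorenstein at the point over x (flat there, with Gorenstein
local ring of its fibre), and the fibres of a morphism are locally Noetherian when every fibre over
a field point (pullback in fppf sheaves) is a locally Noetherian algebraic space. -/
theorem result {S : Scheme.{u}} {X Y Z : AlgSp.Space S} (f : X ⟶ Y) (g : Y ⟶ Z)
    (hf : ∀ (k : AlgSp.FieldPt Y.obj) (Xk : AlgSp.Sp S) (a : Xk ⟶ X.obj) (b : Xk ⟶ (AlgSp.yon S).obj k.pt),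
        IsPullback a b f.hom k.toHom → AlgSp.IsLocNoethSp Xk)
    (hg : ∀ (k : AlgSp.FieldPt Z.obj) (Xk : AlgSp.Sp S) (a : Xk ⟶ Y.obj) (b : Xk ⟶ (AlgSp.yon S).obj k.pt),
        IsPullback a b g.hom k.toHom → AlgSp.IsLocNoethSp Xk)
    (hfg : ∀ (k : AlgSp.FieldPt Z.obj) (Xk : AlgSp.Sp S) (a : Xk ⟶ X.obj) (b : Xk ⟶ (AlgSp.yon S).obj k.pt),
        IsPullback a b (f ≫ g).hom k.toHom → AlgSp.IsLocNoethSp Xk)
    (x : AlgSp.Points X.obj) :
    (AlgSp.LocPAt (fun h u => Dual3.IsGorensteinAt h u) f.hom x → AlgSp.LocPAt (fun h u => Dual3.IsGorensteinAt h u) g.hom (AlgSp.Points.map f.hom x) →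
        AlgSp.LocPAt (fun h u => Dual3.IsGorensteinAt h u) (f ≫ g).hom x) ∧
      (AlgSp.LocPAt (fun h u => Dual3.IsGorensteinAt h u) (f ≫ g).hom x → AlgSp.IsFlatAtMor f.hom x →
        AlgSp.LocPAt (fun h u => Dual3.IsGorensteinAt h u) f.hom x ∧ AlgSp.LocPAt (fun h u => Dual3.IsGorensteinAt h u) g.hom (AlgSp.Points.map f.hom x)) := by
  open Groth.Agent.Lib.Helper16 Groth.Agent.Lib.Helper16.DimF Groth.Agent.Lib.Helper16.FlatBC
    Groth.Agent.Lib.Helper16.GorSp AlgSp in
  obtain ⟨U, V, W, a, b, c, m, k, hae, hbe, hce, has, hac, hbc⟩ :=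
    exists_chart_tower X.2 Y.2 Z.2 f.hom g.hom
  open Groth.Agent.Lib.Helper16 Groth.Agent.Lib.Helper16.DimF Groth.Agent.Lib.Helper16.FlatBC
    Groth.Agent.Lib.Helper16.GorSp AlgSp in
  obtain ⟨u, rfl⟩ := ofPt_surjective_of_surjective a has x
  have hacc : a ≫ (f.hom ≫ g.hom) = (AlgSp.yon S).map (m ≫ k) ≫ c := by
    rw [← Category.assoc, hac, Category.assoc, hbc, ← Category.assoc, ← Functor.map_comp]
  have hf' : Groth.Agent.Lib.Helper16.GorSp.HasLocNoethFibres f.hom := hf
  have hg' : Groth.Agent.Lib.Helper16.GorSp.HasLocNoethFibres g.hom := hg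
  have hfg' : Groth.Agent.Lib.Helper16.GorSp.HasLocNoethFibres (f.hom ≫ g.hom) := hfg
  have Fm := Groth.Agent.Lib.Helper16.GorSp.isLocallyNoetherian_chart_fiber f.hom hf' a b m hae hbe hac
  have Fk := Groth.Agent.Lib.Helper16.GorSp.isLocallyNoetherian_chart_fiber g.hom hg' b c k hbe hce hbc
  have Fmk : ∀ y, IsLocallyNoetherian ((m.left ≫ k.left).fiber y) :=
    Groth.Agent.Lib.Helper16.GorSp.isLocallyNoetherian_chart_fiber (f.hom ≫ g.hom) hfg' a c (m ≫ k)
      hae hce hacc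
  have key := Groth.Agent.S3627.result U.left V.left W.left m.left k.left Fm Fk Fmk u
  have e1 := Groth.Agent.Lib.Helper16.GorSp.locPAt_gor_iff f.hom hf' a b m hae hbe hac u
  have e2 : AlgSp.LocPAt (fun h u => Dual3.IsGorensteinAt h u) g.hom
      (AlgSp.Points.map f.hom (AlgSp.Points.ofPt a u)) ↔ Dual3.IsGorensteinAt k.left (m.left u) := by
    rw [Groth.Agent.Lib.Helper16.DimF.map_ofPt_chart f.hom a b m hac u]
    exact Groth.Agent.Lib.Helper16.GorSp.locPAt_gor_iff g.hom hg' b c k hbe hce hbc (m.left u)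
  have e3 : AlgSp.LocPAt (fun h u => Dual3.IsGorensteinAt h u) (f ≫ g).hom (AlgSp.Points.ofPt a u) ↔
      Dual3.IsGorensteinAt (m.left ≫ k.left) u :=
    Groth.Agent.Lib.Helper16.GorSp.locPAt_gor_iff (f.hom ≫ g.hom) hfg' a c (m ≫ k) hae hce hacc u
  have e4 := Groth.Agent.Lib.Helper16.FlatBC.isFlatAtMor_iff f.hom a b m hae hbe hac u
  refine ⟨fun h1 h2 => e3.2 (key.1 (e1.1 h1) (e2.1 h2)), fun h3 h4 => ?_⟩
  obtain ⟨r1, r2⟩ := key.2 (e3.1 h3) (e4.1 h4)
  exact ⟨e1.2 r1, e2.2 r2⟩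

end Groth.Agent.S10687
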