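import Groth.Statements.S10688
import Groth.Agent.Lib.Helper16.GorSp
import Groth.Agent.S3625

set_option autoImplicit false
universe u
open CategoryTheory CategoryTheory.Limits AlgebraicGeometry
open AlgSp

namespace Groth.Agent.S10688

/-- For a morphism f : X ⟶ Y between algebraic spaces over S with locally Noetherian fibres, g : Y' ⟶ Y
locally of finite type, f' : X' ⟶ Y' the base change (a pullback square of algebraic spaces) with
projection g' : X' ⟶ X, and x' a point of |X'| with image x: (1) if f is Gorenstein at x then so is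
f' at x'; (2) when f is flat at x, Gorensteinness of f' at x' implies that of f at x; (3) the same
conclusion holds if instead g is flat at the image of x' and f' is Gorenstein at x'. Here f is
Gorenstein at x when in every etale chart diagram through x the top arrow is Gorenstein at the point
over x (flat there, with Gorenstein local ring of its fibre), and the fibres of a morphism are
locally Noetherian when every fibre over a field point (pullback in fppf sheaves) is a locally
Noetherian algebraic space. -/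
theorem result {S : Scheme.{u}} {X Y X' Y' : AlgSp.Space S} (f : X ⟶ Y) (g : Y' ⟶ Y) (g' : X' ⟶ X) (f' : X' ⟶ Y')
    (hsq : IsPullback g'.hom f'.hom f.hom g.hom)
    (hf : ∀ (k : AlgSp.FieldPt Y.obj) (Xk : AlgSp.Sp S) (a : Xk ⟶ X.obj) (b : Xk ⟶ (AlgSp.yon S).obj k.pt),
        IsPullback a b f.hom k.toHom → AlgSp.IsLocNoethSp Xk)
    (hg : AlgSp.LocP @LocallyOfFiniteType g.hom) (x' : AlgSp.Points X'.obj) :
    (AlgSp.LocPAt (fun h u => Dual3.IsGorensteinAt h u) f.hom (AlgSp.Points.map g'.hom x') → AlgSp.LocPAt (fun h u => Dual3.IsGorensteinAt h u) f'.hom x') ∧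
      (AlgSp.IsFlatAtMor f.hom (AlgSp.Points.map g'.hom x') → AlgSp.LocPAt (fun h u => Dual3.IsGorensteinAt h u) f'.hom x' →
        AlgSp.LocPAt (fun h u => Dual3.IsGorensteinAt h u) f.hom (AlgSp.Points.map g'.hom x')) ∧
      (AlgSp.IsFlatAtMor g.hom (AlgSp.Points.map f'.hom x') → AlgSp.LocPAt (fun h u => Dual3.IsGorensteinAt h u) f'.hom x' →
        AlgSp.LocPAt (fun h u => Dual3.IsGorensteinAt h u) f.hom (AlgSp.Points.map g'.hom x')) := by
  obtain ⟨V, b, hbe, hbs⟩ := Y.2.atlas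
  obtain ⟨U₀, a₀, ha₀e, ha₀s⟩ := X.2.atlas
  obtain ⟨V₀', b₀', hb₀'e, hb₀'s⟩ := Y'.2.atlas
  obtain ⟨U, h, cU, hae, hac, -, sqU₀, has⟩ :=
    Groth.Agent.Lib.Helper16.exists_chart_diagram f.hom b hbe a₀ ha₀e
  obtain ⟨V', pV, cV, hb'e, hb'c, -, -, hb's⟩ :=
    Groth.Agent.Lib.Helper16.exists_chart_diagram g.hom b hbe b₀' hb₀'e
  have sqU := IsPullback.of_hasPullback h pV
  obtain ⟨a', ha'1, ha'2, ha'e, hlift⟩ := Groth.Agent.Lib.Helper16.FlatBC.chart_baseChange hsq b a₀ h cU
    sqU₀ ((AlgSp.yon S).map cV ≫ b₀') pV hb'c (pullback.fst h pV) (pullback.snd h pV) sqU ha₀e hb'e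
  obtain ⟨v', hv'⟩ := Groth.Agent.Lib.Helper16.ofPt_surjective_of_surjective _ (hb's hbs hb₀'s)
    (AlgSp.Points.map f'.hom x')
  obtain ⟨u', rfl, hu'v'⟩ := hlift ha₀s x' v' hv'
  -- the fibres of `f'` are fibres of `f`
  have hf0 : Groth.Agent.Lib.Helper16.GorSp.HasLocNoethFibres f.hom := hf
  have hf' : Groth.Agent.Lib.Helper16.GorSp.HasLocNoethFibres f'.hom := by
    intro k Xk a₁ b₁ sq₁
    have h1 : IsPullback (a₁ ≫ g'.hom) b₁ f.hom (k.toHom ≫ g.hom) := sq₁.paste_horiz hsq
    refine hf (k.map g.hom) Xk (a₁ ≫ g'.hom) b₁ ?_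
    rw [AlgSp.FieldPt.toHom_map]
    exact h1
  have e1 := Groth.Agent.Lib.Helper16.GorSp.locPAt_gor_iff f'.hom hf' a' _ (pullback.snd h pV) ha'e hb'e
    ha'2 u'
  have hpt : AlgSp.Points.map g'.hom (AlgSp.Points.ofPt a' u') =
      AlgSp.Points.ofPt ((AlgSp.yon S).map cU ≫ a₀) ((pullback.fst h pV).left u') :=
    Groth.Agent.Lib.Helper16.DimF.map_ofPt_chart g'.hom a' _ (pullback.fst h pV) ha'1 u'
  have hpt' : AlgSp.Points.map f'.hom (AlgSp.Points.ofPt a' u') =
      AlgSp.Points.ofPt ((AlgSp.yon S).map cV ≫ b₀') ((pullback.snd h pV).left u') :=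
    Groth.Agent.Lib.Helper16.DimF.map_ofPt_chart f'.hom a' _ (pullback.snd h pV) ha'2 u'
  have e2 := Groth.Agent.Lib.Helper16.GorSp.locPAt_gor_iff f.hom hf0 _ b h hae hbe hac
    ((pullback.fst h pV).left u')
  have e3 := Groth.Agent.Lib.Helper16.FlatBC.isFlatAtMor_iff f.hom _ b h hae hbe hac
    ((pullback.fst h pV).left u')
  have e4 := Groth.Agent.Lib.Helper16.FlatBC.isFlatAtMor_iff g.hom _ b pV hb'e hbe hb'c
    ((pullback.snd h pV).left u')
  have sqL := Groth.Agent.Lib.Helper16.isPullback_left_forget h pV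
  haveI : LocallyOfFiniteType pV.left := hg _ b pV hb'e hbe hb'c
  have Fh := Groth.Agent.Lib.Helper16.GorSp.isLocallyNoetherian_chart_fiber f.hom hf0 _ b h hae hbe hac
  have key := Groth.Agent.S3625.result U.left V.left (pullback h pV).left V'.left h.left pV.left
    (pullback.snd h pV).left (pullback.fst h pV).left sqL Fh u'
  rw [hpt, hpt']
  refine ⟨fun h1 => e1.2 (key.1 (e2.1 h1)), fun h1 h2 => e2.2 (key.2.1 (e3.1 h1) (e1.1 h2)),
    fun h1 h2 => e2.2 (key.2.2 (e4.1 h1) (e1.1 h2))⟩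

end Groth.Agent.S10688
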