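import Groth.Statements.S10690
import Groth.Agent.Lib.Helper16.GorSp3

set_option autoImplicit false
universe u
open CategoryTheory CategoryTheory.Limits AlgebraicGeometry
open AlgSp

namespace Groth.Agent.S10690

/-- For a morphism f : X ⟶ Y between algebraic spaces over S whose fibres are locally Noetherian, the
following are equivalent: (1) f is Gorenstein at every point of |X|; (2) f is flat and for some
scheme V with a representable etale surjective b : h_V ⟶ Y every fibre of X ×_Y V ⟶ V over a point v
of V (pullback along the residue field point of v) is a Gorenstein algebraic space (some etale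
surjective scheme chart is a Gorenstein scheme); (3) f is flat and the same holds for every scheme V
with a representable etale b : h_V ⟶ Y. Here f is Gorenstein at x when in every etale chart diagram
through x the top arrow is Gorenstein at the point over x (flat there, with Gorenstein local ring of
its fibre), and the fibres of a morphism are locally Noetherian when every fibre over a field point
(pullback in fppf sheaves) is a locally Noetherian algebraic space. (The published statement also
characterises being Gorenstein at a single point through strict henselizations; that part is stated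
separately and not included here.) -/
theorem result {S : Scheme.{u}} {X Y : AlgSp.Space S} (f : X ⟶ Y)
    (hf : ∀ (k : AlgSp.FieldPt Y.obj) (Xk : AlgSp.Sp S) (a : Xk ⟶ X.obj) (b : Xk ⟶ (AlgSp.yon S).obj k.pt),
        IsPullback a b f.hom k.toHom → AlgSp.IsLocNoethSp Xk) :
    [∀ x : AlgSp.Points X.obj, AlgSp.LocPAt (fun h u => Dual3.IsGorensteinAt h u) f.hom x,
      AlgSp.LocP @Flat f.hom ∧ ∃ (V : Over S) (b : (AlgSp.yon S).obj V ⟶ Y.obj),
        AlgSp.RepWith @Etale b ∧ AlgSp.RepWith @Surjective b ∧
          ∀ (v : ↥V.left) (Xv : AlgSp.Sp S) (a : Xv ⟶ X.obj)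
            (c : Xv ⟶ (AlgSp.yon S).obj (Over.mk (V.left.fromSpecResidueField v ≫ V.hom))),
            IsPullback a c f.hom ((AlgSp.yon S).map (Over.homMk (V.left.fromSpecResidueField v) rfl :
              Over.mk (V.left.fromSpecResidueField v ≫ V.hom) ⟶ V) ≫ b) →
            AlgSp.EtaleLocally Dual3.IsGorenstein Xv,
      AlgSp.LocP @Flat f.hom ∧ ∀ (V : Over S) (b : (AlgSp.yon S).obj V ⟶ Y.obj), AlgSp.RepWith @Etale b →
          ∀ (v : ↥V.left) (Xv : AlgSp.Sp S) (a : Xv ⟶ X.obj)
            (c : Xv ⟶ (AlgSp.yon S).obj (Over.mk (V.left.fromSpecResidueField v ≫ V.hom))),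
            IsPullback a c f.hom ((AlgSp.yon S).map (Over.homMk (V.left.fromSpecResidueField v) rfl :
              Over.mk (V.left.fromSpecResidueField v ≫ V.hom) ⟶ V) ≫ b) →
            AlgSp.EtaleLocally Dual3.IsGorenstein Xv].TFAE := by
  have hf' : Groth.Agent.Lib.Helper16.GorSp.HasLocNoethFibres f.hom := hf
  tfae_have 1 → 3 := by
    intro H1
    refine ⟨?_, ?_⟩
    · intro U V a b h ha hb hc
      rw [AlgebraicGeometry.Flat.iff_flat_stalkMap]
      intro u
      exact (H1 (AlgSp.Points.ofPt a u) a b h u ha hb hc rfl).1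
    · intro V b hb v Xv av cv sqv
      obtain ⟨U₀, a₀, ha₀e, ha₀s⟩ := X.2.atlas
      obtain ⟨U, h, c, hae, hac, -, sq, -⟩ :=
        Groth.Agent.Lib.Helper16.exists_chart_diagram f.hom b hb a₀ ha₀e
      obtain ⟨a', ha'e, ha's⟩ := Groth.Agent.Lib.Helper16.GorSp.exists_fibre_chart f.hom b a₀ h c sq ha₀e
        v av cv sqv
      haveI : IsLocallyNoetherian (h.left.fiber v) :=
        Groth.Agent.Lib.Helper16.GorSp.isLocallyNoetherian_chart_fiber f.hom hf' _ b h hae hb hac v
      have hFG : Dual3.IsGorenstein (h.left.fiber v) :=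
        Groth.Agent.Lib.Helper16.GorSp.isGorenstein_fiber_of_isGorensteinAt h.left v
          (fun u _ => H1 (AlgSp.Points.ofPt _ u) _ b h u hae hb hac rfl)
      have sqL := Groth.Agent.Lib.Helper16.isPullback_left_forget h
        (Over.homMk (V.left.fromSpecResidueField v) rfl :
          Over.mk (V.left.fromSpecResidueField v ≫ V.hom) ⟶ V)
      have hG : Dual3.IsGorenstein (pullback h (Over.homMk (V.left.fromSpecResidueField v) rfl :
          Over.mk (V.left.fromSpecResidueField v ≫ V.hom) ⟶ V)).left :=
        Groth.Agent.Lib.Helper16.GorSp.isGorenstein_of_etale sqL.isoPullback.hom hFG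
      exact ⟨_, a', ha'e, ha's ha₀s, hG⟩
  tfae_have 3 → 2 := by
    intro H
    obtain ⟨V, b, hbe, hbs⟩ := Y.2.atlas
    exact ⟨H.1, V, b, hbe, hbs, H.2 V b hbe⟩
  tfae_have 2 → 1 := by
    rintro ⟨Hfl, V, b, hbe, hbs, HG⟩ x
    obtain ⟨U₀, a₀, ha₀e, ha₀s⟩ := X.2.atlas
    obtain ⟨U, h, c, hae, hac, -, sq, hsurj⟩ :=
      Groth.Agent.Lib.Helper16.exists_chart_diagram f.hom b hbe a₀ ha₀e
    obtain ⟨u, rfl⟩ := Groth.Agent.Lib.Helper16.ofPt_surjective_of_surjective _ (hsurj hbs ha₀s) x
    rw [Groth.Agent.Lib.Helper16.GorSp.locPAt_gor_iff f.hom hf' _ b h hae hbe hac u]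
    haveI : Flat h.left := Hfl _ b h hae hbe hac
    refine ⟨AlgebraicGeometry.Flat.stalkMap h.left u, ?_⟩
    have hXv := HG (h.left u) _ _ _ (IsPullback.of_hasPullback f.hom
      ((AlgSp.yon S).map (Over.homMk (V.left.fromSpecResidueField (h.left u)) rfl :
        Over.mk (V.left.fromSpecResidueField (h.left u) ≫ V.hom) ⟶ V) ≫ b))
    obtain ⟨a', ha'e, -⟩ := Groth.Agent.Lib.Helper16.GorSp.exists_fibre_chart f.hom b a₀ h c sq ha₀e
      (h.left u) _ _ (IsPullback.of_hasPullback f.hom
      ((AlgSp.yon S).map (Over.homMk (V.left.fromSpecResidueField (h.left u)) rfl :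
        Over.mk (V.left.fromSpecResidueField (h.left u) ≫ V.hom) ⟶ V) ≫ b))
    have hG := Groth.Agent.Lib.Helper16.GorSp.isGorenstein_of_chart hXv a' ha'e
    have sqL := Groth.Agent.Lib.Helper16.isPullback_left_forget h
      (Over.homMk (V.left.fromSpecResidueField (h.left u)) rfl :
        Over.mk (V.left.fromSpecResidueField (h.left u) ≫ V.hom) ⟶ V)
    have hFG : Dual3.IsGorenstein (h.left.fiber (h.left u)) :=
      Groth.Agent.Lib.Helper16.GorSp.isGorenstein_of_etale sqL.isoPullback.inv hG
    exact hFG.2 (h.left.asFiber u)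
  tfae_finish

end Groth.Agent.S10690
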