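import Groth.Statements.S10691
import Groth.Agent.Lib.Helper16.GorSp2
import Groth.Agent.Lib.Helper16.GorSH
import Groth.Agent.S3624

set_option autoImplicit false
universe u
open CategoryTheory CategoryTheory.Limits AlgebraicGeometry
open AlgSp

namespace Groth.Agent.S10691

/-- For locally Noetherian algebraic spaces X, Y over S and a flat morphism f : X ⟶ Y, with X Gorenstein
(some etale surjective scheme chart is a Gorenstein scheme): f is Gorenstein at every point of |X|,
and for every point x of |X| the etale local ring of Y at a geometric point over f(x), presented as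
a strict henselization R of the local ring of an etale scheme chart V of Y at a point v over f(x),
is a Gorenstein local ring. Here f is Gorenstein at x when in every etale chart diagram through x
the top arrow is Gorenstein at the point over x (flat there, with Gorenstein local ring of its
fibre), and the fibres of a morphism are locally Noetherian when every fibre over a field point
(pullback in fppf sheaves) is a locally Noetherian algebraic space. -/
theorem result {S : Scheme.{u}} {X Y : AlgSp.Space S} (f : X ⟶ Y) (hf : AlgSp.LocP @Flat f.hom)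
    (hX1 : AlgSp.IsLocNoethSp X.obj) (hY1 : AlgSp.IsLocNoethSp Y.obj)
    (hX2 : AlgSp.EtaleLocally Dual3.IsGorenstein X.obj) :
    (∀ x : AlgSp.Points X.obj, AlgSp.LocPAt (fun h u => Dual3.IsGorensteinAt h u) f.hom x) ∧
      ∀ (x : AlgSp.Points X.obj) (V : Over S) (b : (AlgSp.yon S).obj V ⟶ Y.obj), AlgSp.RepWith @Etale b →
        ∀ (v : ↥V.left), AlgSp.Points.ofPt b v = AlgSp.Points.map f.hom x →
          ∀ (R : Type u) [CommRing R] [IsLocalRing R] [Algebra ↥(V.left.presheaf.stalk v) R]
            [IsLocalHom (algebraMap ↥(V.left.presheaf.stalk v) R)]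
            [Hensel.IsStrictHenselization ↥(V.left.presheaf.stalk v) R],
            LocCoh.IsGorensteinLocalRing R := by
  constructor
  · intro x U V a b h u ha hb hc hu
    have hUG : Dual3.IsGorenstein U.left := Groth.Agent.Lib.Helper16.GorSp.isGorenstein_of_chart hX2 a ha
    haveI : IsLocallyNoetherian V.left := Groth.Agent.Lib.Helper16.DimF.isLocallyNoetherian_of_chart hY1 b hb
    haveI : Flat h.left := hf a b h ha hb hc
    exact (Groth.Agent.S3624.result U.left V.left h.left hUG).1 u
  · intro x V b hb v hv R _ _ _ _ _
    obtain ⟨U₀, a₀, ha₀e, ha₀s⟩ := X.2.atlas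
    obtain ⟨U, h, c, hae, hac, -, sq, -⟩ :=
      Groth.Agent.Lib.Helper16.exists_chart_diagram f.hom b hb a₀ ha₀e
    obtain ⟨u₀, hu₀⟩ := Groth.Agent.Lib.Helper16.ofPt_surjective_of_surjective a₀ ha₀s x
    have hpt : AlgSp.Points.ofPt b v = AlgSp.Points.ofPt (a₀ ≫ f.hom) u₀ := by
      rw [hv, ← hu₀, AlgSp.Points.map_ofPt]
    obtain ⟨w, hw1, hw2⟩ := Groth.Agent.Lib.Helper16.exists_point_of_isPullback_yon_yon sq v u₀ hpt
    have hUG : Dual3.IsGorenstein U.left :=
      Groth.Agent.Lib.Helper16.GorSp.isGorenstein_of_chart hX2 _ hae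
    haveI : IsLocallyNoetherian V.left := Groth.Agent.Lib.Helper16.DimF.isLocallyNoetherian_of_chart hY1 b hb
    haveI : Flat h.left := hf _ b h hae hb hac
    have hG := (Groth.Agent.S3624.result U.left V.left h.left hUG).2 w
    rw [hw1] at hG
    exact (Groth.Agent.Lib.Helper16.GorSH.gor_strictHenselization_iff _ R).1 hG

end Groth.Agent.S10691
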