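import Groth.Statements.S10692
import Groth.Agent.S10679
import Groth.Agent.S10680
import Groth.Agent.Lib.Helper16.DimF9
import Groth.Agent.Lib.Helper16.FpqcCover

set_option autoImplicit false
universe u
open CategoryTheory CategoryTheory.Limits AlgebraicGeometry
open AlgSp

namespace Groth.Agent.S10692

open Groth.Agent.Lib.Helper16 Groth.Agent.Lib.Helper16.DimF

/-- For a proper flat morphism f : X ⟶ Y between algebraic spaces over S which is of finite
presentation, the fibre dimension function on |Y| is locally constant: for every d the set of y such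
that every fibre X_k over y (k a field point in the class of y, X_k any pullback in fppf sheaves)
has dimension exactly d is open. -/
theorem result {S : Scheme.{u}} {X Y : AlgSp.Space S} (f : X ⟶ Y) (hf1 : AlgSp.IsProperMor f.hom)
    (hf2 : AlgSp.LocP @Flat f.hom) (hf3 : AlgSp.IsFinitePresentationMor f.hom) (d : WithBot ℕ∞) :
    IsOpen {y : AlgSp.Points Y.obj | ∀ (k : AlgSp.FieldPt Y.obj), AlgSp.Points.mk k = y →
      ∀ (Xk : AlgSp.Sp S) (fst : Xk ⟶ X.obj) (snd : Xk ⟶ (AlgSp.yon S).obj k.pt),
        IsPullback fst snd f.hom k.toHom → AlgSp.dim Xk = d} := by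
  have hex : ∀ y : AlgSp.Points Y.obj, ∃ k : AlgSp.FieldPt Y.obj, AlgSp.Points.mk k = y :=
    fun y => AlgSp.Points.mk_surjective y
  have hlft : AlgSp.LocP @LocallyOfFiniteType f.hom := hf1.2.1.1
  have L0 : ∀ x : WithBot ℕ∞, x = (((0 : ℕ) : ℕ∞) : WithBot ℕ∞) ↔
      (⊥ < x ∧ x < (((0 + 1 : ℕ) : ℕ∞) : WithBot ℕ∞)) := by
    intro x
    rw [withBot_lt_succ_iff]
    constructor
    · rintro rfl
      exact ⟨WithBot.bot_lt_coe _, le_of_eq (by norm_cast)⟩
    · rintro ⟨h1, h2⟩
      induction x using WithBot.recBotCoe with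
      | bot => exact absurd h1 (lt_irrefl _)
      | coe x =>
        have h3 : x ≤ ((0 : ℕ) : ℕ∞) := by exact_mod_cast h2
        have h4 : x = 0 := by simpa using h3
        subst h4
        norm_cast
  have L1 : ∀ (x : WithBot ℕ∞) (m : ℕ), x = (((m + 1 : ℕ) : ℕ∞) : WithBot ℕ∞) ↔
      ((((m : ℕ) : ℕ∞) : WithBot ℕ∞) < x ∧ x < (((m + 1 + 1 : ℕ) : ℕ∞) : WithBot ℕ∞)) := by
    intro x m
    rw [withBot_lt_succ_iff]
    constructor
    · rintro rfl
      refine ⟨?_, le_of_eq (by norm_cast)⟩
      have : ((m : ℕ) : ℕ∞) < ((m + 1 : ℕ) : ℕ∞) := by exact_mod_cast Nat.lt_succ_self m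
      exact WithBot.coe_lt_coe.2 this
    · rintro ⟨h1, h2⟩
      induction x using WithBot.recBotCoe with
      | bot => exact absurd h1 (not_lt_bot)
      | coe x =>
        induction x using ENat.recTopCoe with
        | top =>
          have h3 : (⊤ : ℕ∞) ≤ ((m + 1 : ℕ) : ℕ∞) := by exact_mod_cast h2
          exact absurd h3 (by simp)
        | coe j =>
          have h3 : j ≤ m + 1 := by exact_mod_cast h2
          have h4 : ((m : ℕ) : ℕ∞) < ((j : ℕ) : ℕ∞) := WithBot.coe_lt_coe.1 h1
          have h5 : m < j := by exact_mod_cast h4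
          have h6 : j = m + 1 := by omega
          subst h6
          rfl
  induction d using WithBot.recBotCoe with
  | bot =>
    have h := Groth.Agent.S10680.result f hf1 (((0 : ℕ) : ℕ∞) : WithBot ℕ∞)
    convert h using 1
    ext y
    refine forall_congr' fun k => forall_congr' fun hk => forall_congr' fun Xk =>
      forall_congr' fun fst => forall_congr' fun snd => forall_congr' fun hsq => ?_
    rw [withBot_lt_zero_iff]
  | coe d =>
    induction d using ENat.recTopCoe with
    | top =>
      convert isOpen_empty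
      ext y
      simp only [Set.mem_ofPred_eq, Set.mem_empty_iff_false, iff_false]
      intro H
      obtain ⟨k, hk⟩ := hex y
      have sq := IsPullback.of_hasPullback f.hom k.toHom
      haveI : Subsingleton ↥k.pt.left := inferInstanceAs (Subsingleton (PrimeSpectrum k.K))
      have hqc : AlgSp.IsQuasiCompactSp ((AlgSp.yon S).obj k.pt) :=
        ⟨k.pt, 𝟙 _, AlgSp.repWith_id _ _, AlgSp.repWith_id _ _,
          (inferInstanceAs (CompactSpace ↥(Spec (CommRingCat.of k.K))))⟩
      have hlt : AlgSp.dim (pullback f.hom k.toHom) < ⊤ :=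
        dim_lt_top_of_isQuasiCompactSp
          (isAlgSpace_of_isPullback X.property Y.property.diag (AlgSp.IsAlgSpace.yon_obj _) sq)
          (hf3.2.1 (AlgSp.IsAlgSpace.yon_obj k.pt) hqc k.toHom _ _ sq) k.pt (pullback.snd _ _)
          (locP_of_isPullback etLocalST_locallyOfFiniteType X.property Y.property sq hlft)
      rw [H k hk _ _ _ sq] at hlt
      exact absurd hlt (lt_irrefl _)
    | coe n =>
      cases n with
      | zero =>
        have hA := Groth.Agent.S10679.result f hf2 hf3 ⊥
        have hB := Groth.Agent.S10680.result f hf1 (((0 + 1 : ℕ) : ℕ∞) : WithBot ℕ∞)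
        convert hA.inter hB using 1
        ext y
        simp only [Set.mem_ofPred_eq, Set.mem_inter_iff]
        constructor
        · intro H
          exact ⟨fun k hk Xk fst snd hsq => ((L0 _).1 (H k hk Xk fst snd hsq)).1,
            fun k hk Xk fst snd hsq => ((L0 _).1 (H k hk Xk fst snd hsq)).2⟩
        · rintro ⟨H1, H2⟩ k hk Xk fst snd hsq
          exact (L0 _).2 ⟨H1 k hk Xk fst snd hsq, H2 k hk Xk fst snd hsq⟩
      | succ m =>
        have hA := Groth.Agent.S10679.result f hf2 hf3 (((m : ℕ) : ℕ∞) : WithBot ℕ∞)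
        have hB := Groth.Agent.S10680.result f hf1 (((m + 1 + 1 : ℕ) : ℕ∞) : WithBot ℕ∞)
        convert hA.inter hB using 1
        ext y
        simp only [Set.mem_ofPred_eq, Set.mem_inter_iff]
        constructor
        · intro H
          exact ⟨fun k hk Xk fst snd hsq => ((L1 _ m).1 (H k hk Xk fst snd hsq)).1,
            fun k hk Xk fst snd hsq => ((L1 _ m).1 (H k hk Xk fst snd hsq)).2⟩
        · rintro ⟨H1, H2⟩ k hk Xk fst snd hsq
          exact (L1 _ m).2 ⟨H1 k hk Xk fst snd hsq, H2 k hk Xk fst snd hsq⟩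

end Groth.Agent.S10692
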