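import Groth.Statements.S10702
import Mathlib
import Groth.Agent.Lib.Helper16.MonoDescent
import Groth.Agent.Lib.Helper16.Rep
open Groth.Agent.Lib.Helper16

set_option autoImplicit false
universe u
open CategoryTheory CategoryTheory.Limits AlgebraicGeometry
open AlgSp

namespace Groth.Agent.S10702

/-- Consider a commutative diagram of algebraic spaces over `S` with top row `A → C → E`, bottom row `B
→ D → F` and vertical maps `A → B`, `C → D`, `E → F`. If the left square and the outer rectangle are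
cartesian and `B → D` is surjective etale, then the right square is cartesian. -/
theorem result {S : Scheme.{u}} {A B C D E F : AlgSp.Space S} (ac : A ⟶ C) (ab : A ⟶ B)
    (cd : C ⟶ D) (bd : B ⟶ D) (ce : C ⟶ E) (df : D ⟶ F) (ef : E ⟶ F)
    (hl : IsPullback ac.hom ab.hom cd.hom bd.hom) (hcomm : cd ≫ df = ce ≫ ef)
    (hout : IsPullback (ac ≫ ce).hom ab.hom ef.hom (bd ≫ df).hom) (hsurj : AlgSp.IsSurjectiveMor bd.hom)
    (het : AlgSp.IsEtaleMor bd.hom) : IsPullback ce.hom cd.hom ef.hom df.hom := by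
  obtain ⟨U, b, hbe, hbs⟩ := B.property.atlas
  set p : (yon S).obj U ⟶ D.obj := b ≫ bd.hom with hp
  have hpe : RepWith @Etale p := het b hbe
  have hps : RepWith @Surjective p := by
    rw [repWith_surjective_iff p hpe.1]
    have h1 : Function.Surjective (Points.map b) := (repWith_surjective_iff b hbe.1).1 hbs
    intro y
    obtain ⟨x, hx⟩ := hsurj y
    obtain ⟨u, hu⟩ := h1 x
    exact ⟨u, by rw [hp, Points.map_comp, hu, hx]⟩
  have hcomm' : ce.hom ≫ ef.hom = cd.hom ≫ df.hom := by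
    have := congrArg (fun t => t.hom) hcomm
    exact this.symm
  have hlw : ac.hom ≫ cd.hom = ab.hom ≫ bd.hom := hl.w
  change IsPullback (ac.hom ≫ ce.hom) ab.hom ef.hom (bd.hom ≫ df.hom) at hout
  -- local data
  have key : ∀ {T : Over S} (d : (yon S).obj T ⟶ D.obj), ∃ (T' : Over S) (π : T' ⟶ T)
      (β : (yon S).obj T' ⟶ B.obj), Epi ((yon S).map π) ∧ β ≫ bd.hom = (yon S).map π ≫ d := by
    intro T d
    have sq' := hpe.rep.isPullback d
    have he : RepWith @Etale ((yon S).map (hpe.rep.snd d)) :=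
      (repWith_yon_map_iff _ _).2 (hpe.property_snd _)
    have hs : RepWith @Surjective ((yon S).map (hpe.rep.snd d)) :=
      (repWith_yon_map_iff _ _).2 (hps.property _ _ _ sq')
    refine ⟨_, hpe.rep.snd d, hpe.rep.fst d ≫ b, epi_of_etale_surjective _ he hs, ?_⟩
    rw [Category.assoc]
    exact sq'.w
  let φ : C.obj ⟶ pullback ef.hom df.hom := pullback.lift ce.hom cd.hom hcomm'
  have hφ1 : φ ≫ pullback.fst ef.hom df.hom = ce.hom := pullback.lift_fst _ _ _
  have hφ2 : φ ≫ pullback.snd ef.hom df.hom = cd.hom := pullback.lift_snd _ _ _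
  have hmono : Mono φ := by
    constructor
    intro Q g h hgh
    apply sp_hom_ext
    intro T z
    have e1 : g ≫ ce.hom = h ≫ ce.hom := by
      rw [← hφ1, ← Category.assoc g, ← Category.assoc h, hgh]
    have e2 : g ≫ cd.hom = h ≫ cd.hom := by
      rw [← hφ2, ← Category.assoc g, ← Category.assoc h, hgh]
    obtain ⟨T', π, β, hπ, hβ⟩ := key ((z ≫ g) ≫ cd.hom)
    rw [← cancel_epi ((yon S).map π)]
    have w1 : ((yon S).map π ≫ z ≫ g) ≫ cd.hom = β ≫ bd.hom := by
      rw [hβ, Category.assoc]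
    have w2 : ((yon S).map π ≫ z ≫ h) ≫ cd.hom = β ≫ bd.hom := by
      rw [hβ]
      simp only [Category.assoc, e2]
    obtain ⟨ag, hag1, hag2⟩ : ∃ ag : (yon S).obj T' ⟶ A.obj,
        ag ≫ ac.hom = (yon S).map π ≫ z ≫ g ∧ ag ≫ ab.hom = β :=
      ⟨hl.lift _ _ w1, hl.lift_fst _ _ _, hl.lift_snd _ _ _⟩
    obtain ⟨ah, hah1, hah2⟩ : ∃ ah : (yon S).obj T' ⟶ A.obj,
        ah ≫ ac.hom = (yon S).map π ≫ z ≫ h ∧ ah ≫ ab.hom = β :=
      ⟨hl.lift _ _ w2, hl.lift_fst _ _ _, hl.lift_snd _ _ _⟩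
    have hag : ag = ah := by
      apply hout.hom_ext
      · rw [← Category.assoc, ← Category.assoc, hag1, hah1, Category.assoc, Category.assoc,
          Category.assoc, Category.assoc, e1]
      · rw [hag2, hah2]
    rw [← hag1, ← hah1, hag]
  have hepi : Epi φ := by
    constructor
    intro Z' g h hgh
    apply sp_hom_ext
    intro T t
    obtain ⟨T', π, β, hπ, hβ⟩ := key (t ≫ pullback.snd ef.hom df.hom)
    rw [← cancel_epi ((yon S).map π)]
    have w : ((yon S).map π ≫ t ≫ pullback.fst ef.hom df.hom) ≫ ef.hom = β ≫ bd.hom ≫ df.hom := by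
      rw [← Category.assoc β, hβ]
      simp only [Category.assoc, pullback.condition]
    obtain ⟨a, ha1, ha2⟩ : ∃ a : (yon S).obj T' ⟶ A.obj,
        a ≫ ac.hom ≫ ce.hom = (yon S).map π ≫ t ≫ pullback.fst ef.hom df.hom ∧ a ≫ ab.hom = β :=
      ⟨hout.lift _ _ w, hout.lift_fst _ _ _, hout.lift_snd _ _ _⟩
    have hc' : (a ≫ ac.hom) ≫ φ = (yon S).map π ≫ t := by
      apply pullback.hom_ext
      · rw [Category.assoc, hφ1, Category.assoc, ha1, Category.assoc]
      · rw [Category.assoc, hφ2, Category.assoc, hlw, ← Category.assoc, ha2, hβ, Category.assoc]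
    calc (yon S).map π ≫ t ≫ g = ((yon S).map π ≫ t) ≫ g := (Category.assoc _ _ _).symm
      _ = ((a ≫ ac.hom) ≫ φ) ≫ g := by rw [hc']
      _ = (a ≫ ac.hom) ≫ φ ≫ g := Category.assoc _ _ _
      _ = (a ≫ ac.hom) ≫ φ ≫ h := by rw [hgh]
      _ = ((a ≫ ac.hom) ≫ φ) ≫ h := (Category.assoc _ _ _).symm
      _ = ((yon S).map π ≫ t) ≫ h := by rw [hc']
      _ = _ := Category.assoc _ _ _
  have hiso : IsIso φ := Balanced.isIso_of_mono_of_epi φ
  exact IsPullback.of_iso_pullback ⟨hcomm'⟩ (asIso φ) hφ1 hφ2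
end Groth.Agent.S10702
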