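import Groth.Statements.S1073
import Groth.Agent.Lib.Helper2.Aff.TorStalk

set_option autoImplicit false
universe u
open CategoryTheory CategoryTheory.Limits AlgebraicGeometry Opposite
attribute [local instance] HasDerivedCategory.standard
open Perf

namespace Groth.Agent.S1073

/-- Let X be a quasi-separated scheme, E ∈ D(O_X) with quasi-coherent cohomology sheaves, and a ≤ b.
Then E has tor amplitude in [a, b] (Hⁱ(E ⊗^L F) = 0 outside [a, b] for every O_X-module F, whenever
the derived functor is available) if and only if the same vanishing holds for every quasi-coherent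
O_X-module F. -/
theorem result (X : Scheme.{u}) [QuasiSeparatedSpace ↥X] (E : DCoh.D X) (hE : DCoh.IsQCohD E)
    (a b : ℤ) (hab : a ≤ b) :
    DCoh.HasTorAmplitudeIn a b E ↔
      ∀ (F : X.Modules), Coh.IsQCoh F → ∀ [DCoh.HasLTensorMod F] (i : ℤ), (i < a ∨ b < i) →
        IsZero (DCoh.HD ((DCoh.LTensorMod F).obj E) i) := by
  constructor
  · intro h F _ _ i hi
    exact h F i hi
  · intro h F _ i hi
    obtain ⟨P, s, hP, _, _, hs, _⟩ :=
      Groth.Agent.Lib.Helper2.LDer.DC.exists_good_resolution (DerivedCategory.Q.objPreimage E)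
    haveI : IsIso (DerivedCategory.Q.map s) := (DerivedCategory.isIso_Q_map_iff_quasiIso _ s).2 hs
    let eP : DCoh.toD X P ≅ E :=
      asIso (DerivedCategory.Q.map s) ≪≫ DerivedCategory.Q.objObjPreimageIso E
    obtain ⟨e1⟩ := Groth.Agent.Lib.Helper2.LDer.DC.nonempty_HD_iso F E P hP eP i
    refine IsZero.of_iso ?_ e1
    apply Groth.Agent.Lib.Helper2.Stk.isZero_of_forall_isZero_stalk
    intro x
    obtain ⟨G, hG, ⟨eG⟩⟩ := Groth.Agent.Lib.Helper2.Aff.exists_qcoh_with_stalk X x
      ((Groth.Agent.Lib.Helper2.Stk.Φ x).obj F)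
    haveI := Groth.Agent.Lib.Helper2.LDer.DC.hasLTensorMod G
    obtain ⟨e2⟩ := Groth.Agent.Lib.Helper2.LDer.DC.nonempty_HD_iso G E P hP eP i
    exact Groth.Agent.Lib.Helper2.Aff.isZero_stalk_homology_tensorRightMod P F G x eG.symm i
      (IsZero.of_iso (h G hG i hi) e2.symm)


end Groth.Agent.S1073
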