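import Groth.Statements.S10750
import Mathlib
import Groth.Agent.S10650
import Groth.Agent.S10423
import Groth.Agent.Lib.Helper16.QfLocus
import Groth.Agent.Lib.Helper16.FibrePt
open Groth.Agent.Lib.Helper16 Groth.Agent.Lib.Helper15 Groth.Agent.Lib.Helper16.QfAt

set_option autoImplicit false
universe u
open CategoryTheory CategoryTheory.Limits AlgebraicGeometry Opposite
open AlgSp

namespace Groth.Agent.S10750

/-- Take a proper morphism f : X ⟶ Y of algebraic spaces over S whose target Y is locally Noetherian,
and let y be a geometric point of Y such that the fibre X_y (a pullback of f along the corresponding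
morphism from the spectrum of the algebraically closed field) has finitely many points. Then there
is an open subspace V of Y containing the image of y such that the base change X ×_Y V ⟶ V is
finite. -/
theorem result {S : Scheme.{u}} {X Y : AlgSp.Space S}
    (f : X ⟶ Y) (hY : AlgSp.IsLocNoethSp Y.obj) (hf : AlgSp.IsProperMor f.hom) (y : AlgSp.FieldPt Y.obj)
    (hy : y.IsGeometric) (Xy : AlgSp.Sp S) (fst : Xy ⟶ X.obj) (snd : Xy ⟶ (AlgSp.yon S).obj y.pt)
    (hsq : IsPullback fst snd f.hom y.toHom) (hfin : Finite (AlgSp.Points Xy)) :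
    ∃ (V : AlgSp.Space S) (j : V ⟶ Y), AlgSp.RepWith @IsOpenImmersion j.hom ∧
      AlgSp.Points.mk y ∈ Set.range (AlgSp.Points.map j.hom) ∧
        ∀ (P : AlgSp.Space S) (fst' : P ⟶ X) (snd' : P ⟶ V), IsPullback fst'.hom snd'.hom f.hom j.hom →
          AlgSp.IsFiniteMor snd'.hom := by
  obtain ⟨hsep, ⟨hlft, hqc⟩, huc⟩ := hf
  have hqs : IsQuasiSeparatedMor f.hom :=
    repWith_mono (fun _ _ g hg => by
      have : IsClosedImmersion g := hg
      exact (inferInstance : QuasiCompact g)) _ hsep
  have hdec : IsDecentMor f.hom := (Groth.Agent.S10423.result f).2 hqs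
  have hXy_dec : IsDecent Xy := hdec y.toHom fst snd hsq
  have hXy : IsAlgSpace Xy :=
    isAlgSpace_of_isPullback X.property Y.property.diag (IsAlgSpace.yon_obj _) hsq
  have hlft' : LocP @LocallyOfFiniteType snd :=
    locP_of_isPullback etLocalST_locallyOfFiniteType X.property Y.property hsq hlft
  apply Groth.Agent.S10650.result f (Points.mk y) ⟨hsep, ⟨hlft, hqc⟩, huc⟩
  intro x hx
  rw [← mem_qfLocus_iff_hasAtMor_open f.hom hlft x]
  let s : ↥(Spec (CommRingCat.of y.K)) := IsLocalRing.closedPoint y.K
  have hs : Points.map y.toHom (Points.ofScheme y.pt s) = Points.mk y := by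
    rw [← Points.ofPt_eq_map_ofScheme, Points.ofPt_toHom]
  obtain ⟨x', hx', -⟩ := exists_point_of_isPullback hsq x (Points.ofScheme y.pt s) (hx.trans hs.symm)
  rw [← hx', ← qfLocus_baseChange X.property Y.property (IsAlgSpace.yon_obj _) hsq hlft x']
  exact FibrePt.mem_qfLocus_of_finite_fibre hXy (IsAlgSpace.yon_obj _) snd hlft' hXy_dec
    (Points.map snd x') (Set.toFinite _) x' rfl
end Groth.Agent.S10750
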