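import Groth.Statements.S10768
import Groth.Agent.Lib.Helper16.IndPrin
open Groth.Agent.Lib.Helper16 Groth.Agent.Lib.Helper15 Opposite

set_option autoImplicit false
universe u
open CategoryTheory CategoryTheory.Limits AlgebraicGeometry
open AlgSp

namespace Groth.Agent.S10768

/-- Let X be a quasi-compact and quasi-separated algebraic space over S, W ⊂ X a quasi-compact open
subspace, and P a property of open subspaces of X (pairs of an algebraic space and a representable
open immersion into X). Assume (1) W has property P, and (2) given any elementary distinguished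
square (W₁ ⊂ W₂, V ⟶ W₂) where W₁ ⊂ W₂ are quasi-compact open subspaces of X containing W and V is
affine, P for W₁ implies P for W₂. Then P holds for X (with its identity). Quasi-separatedness is
relative to S with S quasi-separated. -/
theorem result {S : Scheme.{u}} [QuasiSeparatedSpace ↥S] (X : AlgSp.Space S)
    (hXc : AlgSp.IsQuasiCompactSp X.obj) (hXs : AlgSp.IsQuasiSeparatedSp X.obj)
    (P : ∀ U : AlgSp.Space S, (U ⟶ X) → Prop)
    (W : AlgSp.Space S) (jW : W ⟶ X) (hjW : AlgSp.RepWith @IsOpenImmersion jW.hom)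
    (hWc : AlgSp.IsQuasiCompactSp W.obj) (h1 : P W jW)
    (h2 : ∀ (W₁ W₂ V : AlgSp.Space S) (j₁ : W₁ ⟶ X) (j₂ : W₂ ⟶ X) (k : W₁ ⟶ W₂) (m : W ⟶ W₁) (f : V ⟶ W₂),
      AlgSp.RepWith @IsOpenImmersion j₁.hom → AlgSp.RepWith @IsOpenImmersion j₂.hom →
      k ≫ j₂ = j₁ → m ≫ j₁ = jW →
      AlgSp.IsQuasiCompactSp W₁.obj → AlgSp.IsQuasiCompactSp W₂.obj →
      (∃ T : Over S, IsAffine T.left ∧ Nonempty ((AlgSp.yon S).obj T ≅ V.obj)) →
      AlgSp.IsElemDistSq k.hom f.hom → P W₁ j₁ → P W₂ j₂) :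
    P X (𝟙 X) := by
  classical
  let Q : Set (AlgSp.Points X.obj) → Prop := fun O => ∃ (W₁ : AlgSp.Space S) (j₁ : W₁ ⟶ X) (m : W ⟶ W₁),
    AlgSp.RepWith @IsOpenImmersion j₁.hom ∧ m ≫ j₁ = jW ∧ AlgSp.IsQuasiCompactSp W₁.obj ∧
      Set.range (AlgSp.Points.map j₁.hom) = O ∧ P W₁ j₁
  have hbase : Q (Set.range (AlgSp.Points.map jW.hom)) :=
    ⟨W, jW, 𝟙 W, hjW, Category.id_comp _, hWc, rfl, h1⟩
  have hOW : IsOpen (Set.range (AlgSp.Points.map jW.hom)) :=
    (Thick.isOpenMap_points_of_openImmersion X.property jW.hom hjW).isOpen_range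
  have hQuniv : Q Set.univ := by
    refine IndPrin.induction_opens X hXc hXs Q (fun O hO hQ A g hA hge hM => ?_) _ hOW hbase
    obtain ⟨W₁, j₁, m, hj₁, hm, hW₁c, hr₁, hP₁⟩ := hQ
    have hO₂open : IsOpen (O ∪ Set.range (AlgSp.Points.ofPt g)) :=
      hO.union (isOpenMap_ofPt_of_etale g hge).isOpen_range
    let W₂ : AlgSp.Space S := ⟨openSub X.obj (O ∪ Set.range (AlgSp.Points.ofPt g)),
      isAlgSpace_openSub X.property _ hO₂open⟩
    let j₂ : W₂ ⟶ X := ObjectProperty.homMk (openSubι X.obj (O ∪ Set.range (AlgSp.Points.ofPt g)))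
    have hj₂ : AlgSp.RepWith @IsOpenImmersion j₂.hom := repWith_isOpenImmersion_openSubι _ hO₂open
    obtain ⟨k₀, hk₀⟩ := QuotOpen.exists_factor_openSub_of_range_subset
      (O ∪ Set.range (AlgSp.Points.ofPt g)) j₁.hom (by rw [hr₁]; exact Set.subset_union_left)
    obtain ⟨f₀, hf₀⟩ := QuotOpen.exists_factor_openSub_of_range_subset
      (O ∪ Set.range (AlgSp.Points.ofPt g)) g (by rw [SchLocus.range_map_yon]; exact Set.subset_union_right)
    have hr₂ : Set.range (AlgSp.Points.map j₂.hom) = O ∪ Set.range (AlgSp.Points.ofPt g) :=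
      range_map_openSubι _
    have hW₂c : AlgSp.IsQuasiCompactSp W₂.obj := by
      haveI : Mono (openSubι X.obj (O ∪ Set.range (AlgSp.Points.ofPt g))) :=
        mono_of_repWith_isOpenImmersion _ hj₂
      have hemb : Topology.IsOpenEmbedding
          (AlgSp.Points.map (openSubι X.obj (O ∪ Set.range (AlgSp.Points.ofPt g)))) :=
        .of_continuous_injective_isOpenMap (AlgSp.Points.continuous_map _) (points_map_injective_of_mono _)
          (Thick.isOpenMap_points_of_openImmersion X.property _ hj₂)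
      have hcomp : IsCompact (O ∪ Set.range (AlgSp.Points.ofPt g)) := by
        haveI := compactSpace_points_of_isQuasiCompactSp hW₁c
        have h1' : IsCompact (Set.range (AlgSp.Points.map j₁.hom)) :=
          isCompact_range (AlgSp.Points.continuous_map _)
        haveI : IsAffine A.left := hA
        have h2' : IsCompact (Set.range (AlgSp.Points.ofPt g)) :=
          isCompact_range (AlgSp.Points.continuous_ofPt g)
        rw [hr₁] at h1'
        exact h1'.union h2'
      refine (isQuasiCompactSp_iff_compactSpace W₂.property).2 ⟨?_⟩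
      rw [hemb.isInducing.isCompact_iff, Set.image_univ]
      show IsCompact (Set.range (AlgSp.Points.map (openSubι X.obj (O ∪ Set.range (AlgSp.Points.ofPt g)))))
      rw [range_map_openSubι]
      exact hcomp
    have hsq : AlgSp.IsElemDistSq k₀ f₀ :=
      IndPrin.isElemDistSq_step X.property W₂.property O g hge hM j₁.hom j₂.hom k₀ hk₀ hj₁ hj₂ hr₁ hr₂ f₀ hf₀
    have hkk : (ObjectProperty.homMk k₀ : W₁ ⟶ W₂) ≫ j₂ = j₁ := by
      apply ObjectProperty.hom_ext
      exact hk₀
    refine ⟨W₂, j₂, m ≫ ObjectProperty.homMk k₀, hj₂, ?_, hW₂c, hr₂, ?_⟩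
    · rw [Category.assoc, hkk, hm]
    · exact h2 W₁ W₂ ⟨(AlgSp.yon S).obj A, AlgSp.IsAlgSpace.yon_obj A⟩ j₁ j₂ (ObjectProperty.homMk k₀) m
        (ObjectProperty.homMk f₀) hj₁ hj₂ hkk hm hW₁c hW₂c ⟨A, hA, ⟨Iso.refl _⟩⟩ hsq hP₁
  obtain ⟨W₁, j₁, m, hj₁, hm, hW₁c, hr₁, hP₁⟩ := hQuniv
  obtain ⟨U, a, hU, hae, has⟩ := DenseFin.exists_affine_chart_of_isQuasiCompactSp hXc
  have hid : AlgSp.RepWith @IsOpenImmersion (𝟙 X.obj) :=
    Groth.Agent.Lib.Helper17.repWith_of_isIso @IsOpenImmersion (𝟙 X.obj)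
  have hsq : AlgSp.IsElemDistSq j₁.hom a := by
    refine IndPrin.isElemDistSq_step X.property X.property Set.univ a hae ?_ j₁.hom (𝟙 X.obj) j₁.hom
      (Category.comp_id _) hj₁ hid hr₁ ?_ a (Category.comp_id _)
    · intro T v v' _ h2'
      by_cases hT : Nonempty ↥T.left
      · obtain ⟨t⟩ := hT
        exact absurd (Set.mem_univ _) (h2' t)
      · haveI : IsEmpty ↥T.left := not_nonempty_iff.1 hT
        exact Over.OverMorphism.ext ((isInitialOfIsEmpty (X := T.left)).hom_ext _ _)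
    · rw [Set.univ_union]
      ext x
      simp only [Set.mem_range, Set.mem_univ, iff_true]
      exact ⟨x, by rw [AlgSp.Points.map_id]⟩
  exact h2 W₁ X ⟨(AlgSp.yon S).obj U, AlgSp.IsAlgSpace.yon_obj U⟩ j₁ (𝟙 X) j₁ m (ObjectProperty.homMk a) hj₁ hid
    (Category.comp_id _) hm hW₁c hXc ⟨U, hU, ⟨Iso.refl _⟩⟩ hsq hP₁

end Groth.Agent.S10768
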