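import Groth.Statements.S1077
import Mathlib
import Groth.Agent.Lib.Helper25.SerreNoeth

set_option autoImplicit false
universe v u
open CategoryTheory CategoryTheory.Limits
open CohDer

namespace Groth.Agent.S1077


open Groth.Agent.Lib.Helper25.SerreNoeth

section Aux

variable {A : Type u} [Category.{v} A] [Abelian A]

theorem simple_noeth (S : A) [Simple S] : IsNoetherianObject S := by
  haveI : Finite (Subobject S) := by
    classical exact Finite.of_equiv Bool IsSimpleOrder.equivBool.symm
  exact (ObjectProperty.is_iff _ _).2 (show WellFoundedGT (Subobject S) from inferInstance)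

theorem simple_art (S : A) [Simple S] : IsArtinianObject S := by
  haveI : Finite (Subobject S) := by
    classical exact Finite.of_equiv Bool IsSimpleOrder.equivBool.symm
  exact (ObjectProperty.is_iff _ _).2 (show WellFoundedLT (Subobject S) from inferInstance)

theorem simple_transport {X : A} {Y Z Y' Z' : Subobject X} (hY : Y = Y') (hZ : Z = Z')
    (h : Y ≤ Z) (h' : Y' ≤ Z') (hs : Simple (cokernel (Subobject.ofLE Y Z h))) :
    Simple (cokernel (Subobject.ofLE Y' Z' h')) := by
  subst hY hZ; exact hs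

theorem isIso_ofLE_of_eq {X : A} {Y Z : Subobject X} (h : Y = Z) (hle : Y ≤ Z) :
    IsIso (Subobject.ofLE Y Z hle) := by
  subst h
  rw [Subobject.ofLE_refl]; infer_instance

/-- `P` holds for `X` if `X` has a finite filtration with simple quotients. -/
theorem of_chain {P : A → Prop} (hP : SerreLike P) (hsimple : ∀ S : A, Simple S → P S) (X : A)
    (n : ℕ) (F : Fin (n + 1) → Subobject X) (hF : Monotone F) (h0 : F 0 = ⊥)
    (hn : F (Fin.last n) = ⊤)
    (hs : ∀ i : Fin n, Simple (cokernel (Subobject.ofLE (F (Fin.castSucc i)) (F (Fin.succ i))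
      (hF (Fin.castSucc_lt_succ (i := i)).le)))) : P X := by
  have key : ∀ (k : ℕ) (hk : k < n + 1), P ((F ⟨k, hk⟩ : Subobject X) : A) := by
    intro k
    induction k with
    | zero =>
      intro hk
      have h1 : F ⟨0, hk⟩ = ⊥ := h0
      rw [h1]
      exact hP.zero _ (IsZero.of_iso (isZero_zero A) Subobject.botCoeIsoZero)
    | succ k ih =>
      intro hk
      have hk' : k < n := by omega
      have hk2 : k < n + 1 := by omega
      have ih' := ih hk2
      have hsi := hs ⟨k, hk'⟩
      have hle : F ⟨k, hk2⟩ ≤ F ⟨k + 1, hk⟩ := hF (by simp [Fin.le_def])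
      have hsi' : Simple (cokernel (Subobject.ofLE (F ⟨k, hk2⟩) (F ⟨k + 1, hk⟩) hle)) := hsi
      refine hP.ext (cokernel.π (Subobject.ofLE (F ⟨k, hk2⟩) (F ⟨k + 1, hk⟩) hle)) ?_
        (hsimple _ hsi')
      exact hP.mono (inv (Abelian.factorThruImage
        (Subobject.ofLE (F ⟨k, hk2⟩) (F ⟨k + 1, hk⟩) hle))) ih'
  have hnn : n < n + 1 := by omega
  have h1 := key n hnn
  have h2 : F ⟨n, hnn⟩ = ⊤ := hn
  rw [h2] at h1
  exact hP.mono (inv (⊤ : Subobject X).arrow) h1

/-- The chain predicate. -/
def Chain (X : A) (Y : Subobject X) : Prop :=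
  ∃ (n : ℕ) (F : Fin (n + 1) → Subobject X) (hF : Monotone F), F 0 = ⊥ ∧ F (Fin.last n) = Y ∧
    ∀ i : Fin n, Simple (cokernel (Subobject.ofLE (F (Fin.castSucc i)) (F (Fin.succ i))
      (hF (Fin.castSucc_lt_succ (i := i)).le)))

theorem chain_bot (X : A) : Chain X ⊥ :=
  ⟨0, fun _ => ⊥, fun _ _ _ => le_rfl, rfl, rfl, fun i => i.elim0⟩

theorem chain_ext (X : A) {Y Z : Subobject X} (hY : Chain X Y) (hYZ : Y ≤ Z)
    (hsimple : Simple (cokernel (Subobject.ofLE Y Z hYZ))) : Chain X Z := by
  obtain ⟨n, F, hF, h0, hl, hs⟩ := hY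
  have hmono : Monotone (Fin.snoc (α := fun _ => Subobject X) F Z) := by
    intro a b hab
    induction b using Fin.lastCases with
    | last =>
      induction a using Fin.lastCases with
      | last => exact le_rfl
      | cast a' =>
        rw [Fin.snoc_castSucc, Fin.snoc_last]
        exact ((hF (Fin.le_last a')).trans hl.le).trans hYZ
    | cast b' =>
      induction a using Fin.lastCases with
      | last =>
        exact absurd hab (not_le.2 (Fin.castSucc_lt_last b'))
      | cast a' =>
        rw [Fin.snoc_castSucc, Fin.snoc_castSucc]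
        exact hF (Fin.castSucc_le_castSucc_iff.1 hab)
  refine ⟨n + 1, Fin.snoc (α := fun _ => Subobject X) F Z, hmono, ?_, ?_, ?_⟩
  · have : (0 : Fin (n + 1 + 1)) = Fin.castSucc (0 : Fin (n + 1)) := rfl
    rw [this, Fin.snoc_castSucc, h0]
  · rw [Fin.snoc_last]
  · intro i
    induction i using Fin.lastCases with
    | last =>
      refine simple_transport ?_ ?_ hYZ _ hsimple
      · rw [Fin.snoc_castSucc, hl]
      · rw [Fin.succ_last, Fin.snoc_last]
    | cast i' =>
      refine simple_transport ?_ ?_ (hF (Fin.castSucc_lt_succ (i := i')).le) _ (hs i')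
      · rw [Fin.snoc_castSucc]
      · rw [← Fin.castSucc_succ, Fin.snoc_castSucc]

theorem exists_next (X : A) [IsArtinianObject X] (Y : Subobject X) (hY : Y ≠ ⊤) :
    ∃ (Z : Subobject X) (h : Y ≤ Z), Y ≠ Z ∧ Simple (cokernel (Subobject.ofLE Y Z h)) := by
  have hC : ¬ IsZero (cokernel Y.arrow) := by
    intro hz
    apply hY
    haveI : Epi Y.arrow := Preadditive.epi_of_isZero_cokernel Y.arrow hz
    haveI : IsIso Y.arrow := isIso_of_mono_of_epi _
    exact Subobject.eq_top_of_isIso_arrow Y
  haveI : IsArtinianObject (cokernel Y.arrow) := isArtinianObject_of_epi (cokernel.π Y.arrow)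
  obtain ⟨T, hT⟩ := exists_simple_subobject hC
  have hpb := Subobject.isPullback (cokernel.π Y.arrow) T
  haveI : Epi (Subobject.pullbackπ (cokernel.π Y.arrow) T) :=
    Abelian.epi_fst_of_isLimit _ _ hpb.isLimit
  have hw0 : (0 : (Y : A) ⟶ (T : A)) ≫ T.arrow = Y.arrow ≫ cokernel.π Y.arrow := by
    rw [zero_comp, cokernel.condition]
  have hYZ : Y ≤ (Subobject.pullback (cokernel.π Y.arrow)).obj T :=
    Subobject.le_of_comm (hpb.lift 0 Y.arrow hw0) (hpb.lift_snd _ _ _)
  have hj : Subobject.ofLE Y _ hYZ ≫ ((Subobject.pullback (cokernel.π Y.arrow)).obj T).arrow =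
      Y.arrow := Subobject.ofLE_arrow hYZ
  have hjπ : Subobject.ofLE Y _ hYZ ≫ Subobject.pullbackπ (cokernel.π Y.arrow) T = 0 := by
    rw [← cancel_mono T.arrow, Category.assoc, hpb.w, ← Category.assoc, hj,
      cokernel.condition, zero_comp]
  have hlim : IsLimit (KernelFork.ofι (Subobject.ofLE Y _ hYZ) hjπ) := by
    refine KernelFork.IsLimit.ofι _ _
      (fun {W'} g' hg' => Abelian.monoLift Y.arrow
        (g' ≫ ((Subobject.pullback (cokernel.π Y.arrow)).obj T).arrow) (by
          rw [Category.assoc, ← hpb.w, ← Category.assoc, hg', zero_comp])) ?_ ?_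
    · intro W' g' hg'
      rw [← cancel_mono ((Subobject.pullback (cokernel.π Y.arrow)).obj T).arrow,
        Category.assoc, hj, Abelian.monoLift_comp]
    · intro W' g' hg' m hm
      rw [← cancel_mono (Subobject.ofLE Y _ hYZ), hm,
        ← cancel_mono ((Subobject.pullback (cokernel.π Y.arrow)).obj T).arrow,
        Category.assoc, hj, Abelian.monoLift_comp]
  have hcok := Abelian.epiIsCokernelOfKernel (KernelFork.ofι (Subobject.ofLE Y _ hYZ) hjπ) hlim
  have iso : cokernel (Subobject.ofLE Y _ hYZ) ≅ (T : A) :=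
    (cokernelIsCokernel (Subobject.ofLE Y _ hYZ)).coconePointUniqueUpToIso hcok
  haveI : Simple (T : A) := hT
  have hsimple : Simple (cokernel (Subobject.ofLE Y _ hYZ)) := Simple.of_iso iso
  refine ⟨_, hYZ, ?_, hsimple⟩
  intro heq
  haveI := isIso_ofLE_of_eq heq hYZ
  exact Simple.not_isZero (cokernel (Subobject.ofLE Y _ hYZ))
    (isZero_cokernel_of_epi (Subobject.ofLE Y _ hYZ))

theorem chain_top (X : A) [IsArtinianObject X] [IsNoetherianObject X] : Chain X ⊤ := by
  have key : ∀ Y : Subobject X, Chain X Y → Chain X ⊤ := by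
    intro Y
    induction Y using WellFoundedGT.induction with
    | ind Y ih =>
      intro hY
      by_cases htop : Y = ⊤
      · rw [← htop]; exact hY
      · obtain ⟨Z, hYZ, hne, hs⟩ := exists_next X Y htop
        exact ih Z (lt_of_le_of_ne hYZ hne) (chain_ext X hY hYZ hs)
  exact key ⊥ (chain_bot X)

end Aux


/-- An object X of an abelian category is Artinian and Noetherian if and only if there is a finite chain
of subobjects ⊥ = F₀ ≤ F₁ ≤ … ≤ Fₙ = ⊤ of X whose successive quotients Fᵢ₊₁/Fᵢ are simple. -/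
theorem result {A : Type u} [Category.{v} A] [Abelian A] (X : A) :
    (IsArtinianObject X ∧ IsNoetherianObject X) ↔
      ∃ (n : ℕ) (F : Fin (n + 1) → Subobject X) (hF : Monotone F), F 0 = ⊥ ∧ F (Fin.last n) = ⊤ ∧
        ∀ i : Fin n, Simple (cokernel (Subobject.ofLE (F (Fin.castSucc i)) (F (Fin.succ i)) (hF (Fin.castSucc_lt_succ (i := i)).le))) := by
  constructor
  · rintro ⟨hA, hN⟩
    exact chain_top X
  · rintro ⟨n, F, hF, h0, hn, hs⟩
    exact ⟨of_chain serreLike_art (fun S hS => simple_art S) X n F hF h0 hn hs,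
      of_chain serreLike_noeth (fun S hS => simple_noeth S) X n F hF h0 hn hs⟩

end Groth.Agent.S1077
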