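import Groth.Statements.S10792
import Groth.Agent.Lib.Helper15.EffCartierChart

set_option autoImplicit false
universe u
open CategoryTheory CategoryTheory.Limits AlgebraicGeometry Topology TopologicalSpace
open AlgSp

namespace Groth.Agent.S10792

/-- (2) ⇔ (4): let X be an algebraic space over a scheme S and D ⟶ X a closed subspace (representable by
closed immersions). Then D is an effective Cartier divisor in the one-chart sense if and only if for
every point x of |D| there are an affine scheme U over S, a representable etale h_U ⟶ X, a point u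
of U mapping to the image of x in |X|, and a nonzerodivisor f of the ring A of global functions of U
such that the inverse image of D in U is the closed subscheme Spec (A/(f)), that is, the closed
subscheme of the quasi-coherent ideal sheaf of U whose ideal of global sections is generated by f. -/
theorem result {S : Scheme.{u}} (X D : AlgSp.Space S) (i : D ⟶ X)
    (hi : AlgSp.RepWith @IsClosedImmersion i.hom) :
    AlgSp.IsEffCartierSub i.hom ↔
      ∀ x : AlgSp.Points D.obj,
        ∃ (U : Over S) (_ : IsAffine U.left) (a : (AlgSp.yon S).obj U ⟶ X.obj) (u : ↥U.left)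
          (f : Γ(U.left, ⊤)) (I : U.left.IdealSheafData)
          (fst : (AlgSp.yon S).obj (Over.mk (I.subschemeι ≫ U.hom)) ⟶ D.obj),
          AlgSp.RepWith @Etale a ∧ AlgSp.Points.ofPt a u = AlgSp.Points.map i.hom x ∧
            f ∈ nonZeroDivisors Γ(U.left, ⊤) ∧
            I.ideal ⟨⊤, isAffineOpen_top U.left⟩ = Ideal.span {f} ∧
            IsPullback fst ((AlgSp.yon S).map (Over.homMk I.subschemeι rfl : Over.mk (I.subschemeι ≫ U.hom) ⟶ U)) i.hom a := by
  constructor
  · intro hD x
    obtain ⟨-, V, φ, I, fstV, hφe, hφs, sqV, hI⟩ := hD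
    obtain ⟨v, hv⟩ := Groth.Agent.Lib.Helper16.ofPt_surjective_of_surjective φ hφs
      (AlgSp.Points.map i.hom x)
    obtain ⟨U₀, hvU₀, f₀, hf₀, hI₀⟩ := hI v
    let ι₀ : Over.mk (U₀.1.ι ≫ V.hom) ⟶ V := Over.homMk U₀.1.ι rfl
    have haff : IsAffine (Over.mk (U₀.1.ι ≫ V.hom)).left := U₀.2
    obtain ⟨fstW, sqW⟩ := Groth.Agent.Lib.Helper15.exists_isPullback_comap sqV ι₀
    let m : Γ(V.left, U₀.1) →+* Γ(V.left, U₀.1.ι ''ᵁ ⊤) :=
      (V.left.presheaf.map (eqToHom U₀.1.ι_image_top).op).hom
    have hm : Function.Bijective m :=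
      ConcreteCategory.bijective_of_isIso (V.left.presheaf.map (eqToHom U₀.1.ι_image_top).op)
    refine ⟨Over.mk (U₀.1.ι ≫ V.hom), haff, (AlgSp.yon S).map ι₀ ≫ φ, ⟨v, hvU₀⟩, m f₀,
      I.comap ι₀.left, fstW, ?_, ?_, ?_, ?_, sqW⟩
    · exact (AlgSp.RepWith @Etale).comp_mem _ _
        ((AlgSp.repWith_yon_map_iff _ _).2 (inferInstanceAs (Etale U₀.1.ι))) hφe
    · rw [Groth.Agent.Lib.Helper16.ofPt_yon_map_comp]; exact hv
    · exact Groth.Agent.Lib.Helper15.map_mem_nonZeroDivisors_of_bijective m hm hf₀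
    · have := Groth.Agent.Lib.Helper3.ideal_comap_ι_top I U₀
      rw [hI₀, Ideal.map_span, Set.image_singleton] at this
      exact this
  · intro h
    obtain ⟨V₀, φ₀, hφe, hφs⟩ := X.property.atlas
    obtain ⟨I₀, fst₀, sq₀⟩ := Groth.Agent.Lib.Helper15.exists_chart_ideal hi φ₀
    refine ⟨hi, V₀, φ₀, I₀, fst₀, hφe, hφs, sq₀, fun v => ?_⟩
    by_cases hv : v ∈ I₀.support
    · obtain ⟨z, rfl⟩ : v ∈ Set.range I₀.subschemeι := by rw [I₀.range_subschemeι]; exact hv
      obtain ⟨U, hUaff, a, u, f, I, fstU, hae, hpt, hf, hIf, sqU⟩ := h (AlgSp.Points.ofPt fst₀ z)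
      haveI := hUaff
      have hpt' : AlgSp.Points.ofPt φ₀ (I₀.subschemeι z) = AlgSp.Points.ofPt a u := by
        rw [hpt, AlgSp.Points.map_ofPt, sq₀.w, Groth.Agent.Lib.Helper16.ofPt_yon_map_comp]
        rfl
      have sqW := hφe.rep.isPullback a
      let q : hφe.rep.pullback a ⟶ V₀ := (AlgSp.yon S).preimage (hφe.rep.fst a)
      have hq : (AlgSp.yon S).map q = hφe.rep.fst a := Functor.map_preimage _ _
      rw [← hq] at sqW
      have hpe : Etale (hφe.rep.snd a).left := hφe.property_snd a
      have hqe : Etale q.left := hae.property φ₀ _ _ sqW.flip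
      obtain ⟨w, hw1, hw2⟩ := Groth.Agent.Lib.Helper16.exists_point_of_isPullback_yon_yon sqW
        (I₀.subschemeι z) u hpt'
      have hcomap := Groth.Agent.Lib.Helper15.comap_eq_comap_of_charts sq₀ sqU (hφe.rep.snd a) q
        sqW.w.symm
      have hIeff : BlowUp.IsEffCartierIdeal I :=
        fun y => ⟨⟨⊤, isAffineOpen_top _⟩, trivial, f, hf, hIf⟩
      have h1 : BlowUp.IsEffCartierIdeal (I.comap (hφe.rep.snd a).left) :=
        Groth.Agent.S10855.result _ I hIeff
      rw [hcomap] at h1
      have := Groth.Agent.Lib.Helper15.exists_principal_of_comap q.left q.left.isOpenMap I₀ h1 w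
      rw [hw1] at this
      exact this
    · exact Groth.Agent.Lib.Helper15.exists_principal_of_notMem_support I₀ v hv

end Groth.Agent.S10792
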