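import Groth.Statements.S10793
import Groth.Agent.Lib.Helper15.EffCartierDense

set_option autoImplicit false
universe u
open CategoryTheory CategoryTheory.Limits AlgebraicGeometry Topology TopologicalSpace
open AlgSp

namespace Groth.Agent.S10793

/-- For an algebraic space X over a scheme S, an effective Cartier divisor D ⟶ X (in the one-chart
sense) and the open subspace U ⟶ X complementary to D, that is, a morphism representable by open
immersions whose image in |X| is the complement of the image of |D|: the inclusion of U in X is an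
affine morphism, and in the scheme-theoretic sense (one-chart form) U is dense in X. -/
theorem result {S : Scheme.{u}} (X D U : AlgSp.Space S)
    (i : D ⟶ X) (hD : AlgSp.IsEffCartierSub i.hom) (j : U ⟶ X) (hj : AlgSp.RepWith @IsOpenImmersion j.hom)
    (hU : Set.range (AlgSp.Points.map j.hom) = (Set.range (AlgSp.Points.map i.hom))ᶜ) :
    AlgSp.IsAffineMor j.hom ∧ AlgSp.IsSchDense j.hom := by
  obtain ⟨hi, V, φ, I, fstV, hφe, hφs, sqV, hI⟩ := hD
  have hIlp : Curv2.IsLocPrincipal I := fun v _ => by
    obtain ⟨A, hA, f, -, hf⟩ := hI v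
    exact ⟨A, hA, f, hf⟩
  constructor
  · intro Z₀ hZ₀ g
    have sqU := hj.rep.isPullback g
    refine ⟨hj.rep.pullback g, hj.rep.snd g, hj.rep.fst g, sqU, ?_⟩
    obtain ⟨J, fstJ, sqJ⟩ := Groth.Agent.Lib.Helper15.exists_chart_ideal hi g
    have hJ : Curv2.IsLocPrincipal J :=
      Groth.Agent.Lib.Helper15.isLocPrincipal_chart hφe hφs sqV hIlp sqJ
    have hopen : IsOpenImmersion (hj.rep.snd g).left := hj.property_snd g
    haveI := hZ₀
    exact Groth.Agent.Lib.Helper15.isAffine_of_range_eq_compl_support (hj.rep.snd g).left J hJ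
      (Groth.Agent.Lib.Helper15.range_left_eq_compl_support hU sqJ sqU)
  · have hrange := Groth.Agent.Lib.Helper15.range_left_eq_compl_support hU sqV (hj.rep.isPullback φ)
    obtain ⟨fst, sq⟩ := Groth.Agent.Lib.Helper15.exists_isPullback_opens_of_range hj φ I.support.compl
      hrange
    exact ⟨hj, V, φ, I.support.compl, fst, hφe, hφs, sq,
      Groth.Agent.Lib.Helper15.isSchematicallyDense_compl_support I hI⟩

end Groth.Agent.S10793
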