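import Groth.Statements.S1686
import Groth.Agent.Lib.Helper3.TopDimLt
import Groth.Agent.Lib.Helper3.BlowUpBasic

set_option autoImplicit false
universe u
open CategoryTheory CategoryTheory.Limits AlgebraicGeometry TopologicalSpace
open SDiv

namespace Groth.Agent.S1686
open Groth.Agent.Lib.Helper3 Groth.Agent.Lib.Helper9

/-- Let D be the closed subscheme of an effective Cartier divisor on a scheme S and d a point of D with
image s in S. If the local dimension of S at s is finite, then the local dimension of D at d is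
strictly smaller. -/
theorem result (S : Scheme.{u}) (𝓘 : S.IdealSheafData) (h𝓘 : BlowUp.IsEffCartierIdeal 𝓘) (d : ↥𝓘.subscheme)
    (hfin : FlatMor.localDim ↥S (𝓘.subschemeι d) ≠ ⊤) :
    FlatMor.localDim ↥𝓘.subscheme d < FlatMor.localDim ↥S (𝓘.subschemeι d) := by
  obtain ⟨⟨W, hsW⟩, hW⟩ := exists_opens_localDim_eq (X := ↥S) (𝓘.subschemeι d)
  dsimp only at hW
  rw [← hW] at hfin ⊢
  have hdV : d ∈ 𝓘.subschemeι ⁻¹ᵁ W := hsW
  refine lt_of_le_of_lt (localDim_le_of_mem (𝓘.subschemeι ⁻¹ᵁ W) hdV) ?_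
  -- the closed embedding `ι⁻¹ W → W`
  let f : ↥((𝓘.subschemeι ⁻¹ᵁ W : Opens ↥𝓘.subscheme) : Set ↥𝓘.subscheme) → ↥(W : Set ↥S) :=
    (W : Set ↥S).restrictPreimage 𝓘.subschemeι
  have hf : Topology.IsClosedEmbedding f :=
    (𝓘.subschemeι.isClosedEmbedding).restrictPreimage (W : Set ↥S)
  have hne : Nonempty ↥(W : Set ↥S) := ⟨⟨_, hsW⟩⟩
  refine topologicalKrullDim_lt_of_isClosedEmbedding f hf hfin ?_
  intro C hC hCf
  have hqs : QuasiSober ↥(W : Set ↥S) := inferInstanceAs (QuasiSober (Scheme.Opens.toScheme (X := S) W))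
  have ht0 : T0Space ↥(W : Set ↥S) := inferInstanceAs (T0Space (Scheme.Opens.toScheme (X := S) W))
  obtain ⟨c, hc⟩ := QuasiSober.sober hC.1 (isClosed_of_mem_irreducibleComponents C hC)
  have hmax := maximal_of_isGenericPoint_of_mem_irreducibleComponents hC hc
  have hmax' : ∀ y : S, y ⤳ c.1 → y = c.1 :=
    (maximal_iff_of_isOpenEmbedding (Subtype.val : ↥(W : Set ↥S) → S)
      W.2.isOpenEmbedding_subtypeVal c).mpr hmax
  have hnot := notMem_support_of_isEffCartierIdeal 𝓘 h𝓘 c.1 hmax'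
  have hcC : c ∈ C := hc.mem
  obtain ⟨e, he⟩ := hCf hcC
  apply hnot
  rw [← SetLike.mem_coe, ← 𝓘.range_subschemeι]
  exact ⟨e.1, congrArg Subtype.val he⟩

end Groth.Agent.S1686
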