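import Groth.Statements.S10795
import Groth.Agent.Lib.Helper15.EffCartierChart

set_option autoImplicit false
universe u
open CategoryTheory CategoryTheory.Limits AlgebraicGeometry Topology TopologicalSpace
open AlgSp

namespace Groth.Agent.S10795

/-- For algebraic spaces X and Y over a scheme S, a flat morphism f : X ⟶ Y and an effective Cartier
divisor D ⟶ Y (one-chart sense), the inverse image of D under f is an effective Cartier divisor on
X: for every pullback square of D ⟶ Y along f, the projection to X is an effective Cartier divisor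
(one-chart sense). -/
theorem result {S : Scheme.{u}} (X Y D P : AlgSp.Space S) (f : X ⟶ Y)
    (hf : AlgSp.LocP @Flat f.hom) (i : D ⟶ Y) (hD : AlgSp.IsEffCartierSub i.hom)
    (fst : P ⟶ D) (snd : P ⟶ X) (hP : IsPullback fst.hom snd.hom i.hom f.hom) :
    AlgSp.IsEffCartierSub snd.hom := by
  obtain ⟨hi, V, φ, I, fstV, hφe, hφs, sqV, hI⟩ := hD
  obtain ⟨U, a, hae, has⟩ := X.property.atlas
  have sqW := hφe.rep.isPullback (a ≫ f.hom)
  have hpe : Etale (hφe.rep.snd (a ≫ f.hom)).left := hφe.property_snd _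
  have hps : Surjective (hφe.rep.snd (a ≫ f.hom)).left := hφs.property _ _ _ sqW
  let q : hφe.rep.pullback (a ≫ f.hom) ⟶ V := (AlgSp.yon S).preimage (hφe.rep.fst (a ≫ f.hom))
  have hq : (AlgSp.yon S).map q = hφe.rep.fst _ := Functor.map_preimage _ _
  rw [← hq] at sqW
  let b : (AlgSp.yon S).obj (hφe.rep.pullback (a ≫ f.hom)) ⟶ X.obj :=
    (AlgSp.yon S).map (hφe.rep.snd (a ≫ f.hom)) ≫ a
  have hbe : AlgSp.RepWith @Etale b :=
    (AlgSp.RepWith @Etale).comp_mem _ _ ((AlgSp.repWith_yon_map_iff _ _).2 hpe) hae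
  have hbs : AlgSp.RepWith @Surjective b :=
    (AlgSp.RepWith @Surjective).comp_mem _ _ ((AlgSp.repWith_yon_map_iff _ _).2 hps) has
  have hbq : b ≫ f.hom = (AlgSp.yon S).map q ≫ φ := by
    rw [Category.assoc]; exact sqW.w.symm
  have hqflat : Flat q.left := hf b φ q hbe hφe hbq
  obtain ⟨fstW, sqP⟩ :=
    Groth.Agent.Lib.Helper15.exists_isPullback_chart_of_isPullback hP sqV b q hbq
  exact ⟨(AlgSp.RepWith @IsClosedImmersion).of_isPullback hP hi, _, b, I.comap q.left, fstW, hbe, hbs,
    sqP, Groth.Agent.S10855.result q.left I hI⟩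

end Groth.Agent.S10795
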