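import Groth.Statements.S10796
import Groth.Agent.Lib.Helper15.WeakAssPoint
open Groth.Agent.Lib.Helper15 Groth.Agent.Lib.Helper16

set_option autoImplicit false
universe u
open CategoryTheory CategoryTheory.Limits AlgebraicGeometry Topology TopologicalSpace
open AlgSp

namespace Groth.Agent.S10796

/-- For algebraic spaces X and Y over a scheme S, a morphism f : X ⟶ Y and an effective Cartier divisor
D ⟶ Y (one-chart sense), assume that no weakly associated point of X (weakly associated point of the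
structure sheaf O_X on the small etale site of X) is mapped into |D|. Then the inverse image of D
under f is an effective Cartier divisor on X: for every pullback square of D ⟶ Y along f, the
projection to X is an effective Cartier divisor (one-chart sense). -/
theorem result {S : Scheme.{u}} (X Y D P : AlgSp.Space S) (f : X ⟶ Y)
    (i : D ⟶ Y) (hD : AlgSp.IsEffCartierSub i.hom) [(AlgSp.unitModEt X.obj).IsQuasicoherent]
    (h : ∀ x ∈ AlgSp.WeakAssEt (AlgSp.unitModEt X.obj),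
      AlgSp.Points.map f.hom x ∉ Set.range (AlgSp.Points.map i.hom))
    (fst : P ⟶ D) (snd : P ⟶ X) (hP : IsPullback fst.hom snd.hom i.hom f.hom) :
    AlgSp.IsEffCartierSub snd.hom := by
  obtain ⟨hicl, V, φ, I, fstV, hφe, hφs, sqV, hI⟩ := hD
  refine ⟨(RepWith @IsClosedImmersion).of_isPullback hP hicl, ?_⟩
  obtain ⟨U₀, a₀, ha₀e, ha₀s⟩ := X.property.atlas
  obtain ⟨W, s, q, sqW₀, hse, hss⟩ := exists_yon_pullback hφe hφs (a₀ ≫ f.hom)
  let ψ : (yon S).obj W ⟶ X.obj := (yon S).map s ≫ a₀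
  have hψe : RepWith @Etale ψ :=
    (RepWith @Etale).comp_mem _ _ ((repWith_yon_map_iff _ s).2 hse) ha₀e
  have hψs : RepWith @Surjective ψ :=
    (RepWith @Surjective).comp_mem _ _ ((repWith_yon_map_iff _ s).2 hss) ha₀s
  have hbq : ψ ≫ f.hom = (yon S).map q ≫ φ := by
    show ((yon S).map s ≫ a₀) ≫ f.hom = _
    rw [Category.assoc]; exact sqW₀.w.symm
  obtain ⟨fstW, sqW⟩ := exists_isPullback_chart_of_isPullback hP sqV ψ q hbq
  refine ⟨W, ψ, I.comap q.left, fstW, hψe, hψs, sqW, ?_⟩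
  intro w
  obtain ⟨V', hqV', t₀, -, hIV'⟩ := hI (q.left w)
  have hw : w ∈ q.left ⁻¹ᵁ V'.1 := hqV'
  obtain ⟨_, ⟨W', hW', rfl⟩, hwW', hle⟩ :=
    W.left.isBasis_affineOpens.exists_subset_of_mem_open hw (q.left ⁻¹ᵁ V'.1).isOpen
  have hK : (I.comap q.left).ideal ⟨W', hW'⟩ =
      Ideal.span {(q.left.appLE V'.1 W' hle).hom t₀} := by
    rw [Groth.Agent.Lib.Helper3.ideal_comap_of_le q.left I ⟨W', hW'⟩ V' hle, hIV', Ideal.map_span,
      Set.image_singleton]
  refine ⟨⟨W', hW'⟩, hwW', (q.left.appLE V'.1 W' hle).hom t₀, ?_, hK⟩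
  by_contra ht
  obtain ⟨w', hw'supp, hw'ass⟩ :=
    exists_mem_weakAssEt_of_not_nzd hψe (I.comap q.left) ⟨W', hW'⟩ _ hK ht
  apply h _ hw'ass
  have hz : w' ∈ Set.range (I.comap q.left).subschemeι := by
    rw [Scheme.IdealSheafData.range_subschemeι]; exact hw'supp
  obtain ⟨z, hz⟩ := hz
  refine ⟨Points.ofPt (fstW ≫ fst.hom) z, ?_⟩
  have e3 : (fstW ≫ fst.hom) ≫ i.hom =
      ((yon S).map (subι W (I.comap q.left)) ≫ ψ) ≫ f.hom := by
    calc (fstW ≫ fst.hom) ≫ i.hom = fstW ≫ (fst.hom ≫ i.hom) := Category.assoc _ _ _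
      _ = fstW ≫ (snd.hom ≫ f.hom) := by rw [hP.w]
      _ = (fstW ≫ snd.hom) ≫ f.hom := (Category.assoc _ _ _).symm
      _ = _ := by rw [sqW.w]
  calc Points.map i.hom (Points.ofPt (fstW ≫ fst.hom) z)
      = Points.ofPt ((fstW ≫ fst.hom) ≫ i.hom) z := Points.map_ofPt _ _ _
    _ = Points.ofPt (((yon S).map (subι W (I.comap q.left)) ≫ ψ) ≫ f.hom) z := by rw [e3]
    _ = Points.map f.hom (Points.ofPt ((yon S).map (subι W (I.comap q.left)) ≫ ψ) z) :=
        (Points.map_ofPt _ _ _).symm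
    _ = Points.map f.hom (Points.ofPt ψ ((subι W (I.comap q.left)).left z)) := by
        rw [ofPt_yon_map_comp]
    _ = Points.map f.hom (Points.ofPt ψ w') := by rw [← hz]; rfl

end Groth.Agent.S10796
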