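import Groth.Statements.S1662
import Groth.Agent.Lib.Helper3.IdealComap
import Groth.Agent.Lib.Helper3.NzdTensor

set_option autoImplicit false
universe u
open CategoryTheory CategoryTheory.Limits AlgebraicGeometry
open Divisors

namespace Groth.Agent.S1662

open scoped TensorProduct

theorem fromSpec_appLE_top {X : Scheme.{u}} {U : X.Opens} (hU : IsAffineOpen U)
    (h : (⊤ : (Spec Γ(X, U)).Opens) ≤ hU.fromSpec ⁻¹ᵁ U) :
    hU.fromSpec.appLE U ⊤ h = (Scheme.ΓSpecIso Γ(X, U)).inv := by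
  rw [Scheme.Hom.appLE, hU.fromSpec_app_self, Category.assoc, ← Functor.map_comp]
  convert Category.comp_id _
  exact (Spec Γ(X, U)).presheaf.map_id _

theorem appLE_congr_hom {X Y : Scheme.{u}} {φ ψ : X ⟶ Y} (hφψ : φ = ψ) (U : Y.Opens) (V : X.Opens)
    (h1 : V ≤ φ ⁻¹ᵁ U) (h2 : V ≤ ψ ⁻¹ᵁ U) : φ.appLE U V h1 = ψ.appLE U V h2 := by
  subst hφψ; rfl


/-- Let f : X → S, D an effective Cartier divisor on X such that D → S is flat, and g : S' → S any
morphism. Then the inverse image of D in X ×_S S' is an effective Cartier divisor. -/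
theorem result {X S S' : Scheme.{u}} (f : X ⟶ S) (D : X.IdealSheafData) (hD : BlowUp.IsEffCartierIdeal D)
    [Flat (D.subschemeι ≫ f)] (g : S' ⟶ S) :
    BlowUp.IsEffCartierIdeal (D.comap (pullback.fst f g)) := by
  intro x'
  set p := pullback.fst f g with hp
  set q := pullback.snd f g with hq
  -- Step A
  obtain ⟨_, ⟨W, hW, rfl⟩, hsW, -⟩ := S.isBasis_affineOpens.exists_subset_of_mem_open
    (Set.mem_univ (f (p x'))) isOpen_univ
  -- Step B
  have hs' : q x' ∈ g ⁻¹ᵁ W := by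
    change g (q x') ∈ W
    rw [← Scheme.Hom.comp_apply, hq, ← pullback.condition, Scheme.Hom.comp_apply]
    exact hsW
  obtain ⟨_, ⟨W', hW', rfl⟩, hs'W', hW'le⟩ := S'.isBasis_affineOpens.exists_subset_of_mem_open
    hs' (g ⁻¹ᵁ W).isOpen
  -- Step C
  obtain ⟨U₀, hxU₀, t₀, ht₀, hD₀⟩ := hD (p x')
  obtain ⟨h, hhle, hxh⟩ := U₀.2.exists_basicOpen_le (V := f ⁻¹ᵁ W) ⟨p x', hsW⟩ hxU₀
  let U : X.affineOpens := X.affineBasicOpen h
  have hUW : U.1 ≤ f ⁻¹ᵁ W := hhle
  have hlocU := U₀.2.isLocalization_basicOpen h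
  let t : Γ(X, U.1) := algebraMap Γ(X, U₀.1) Γ(X, X.basicOpen h) t₀
  have ht : t ∈ nonZeroDivisors Γ(X, U.1) :=
    IsLocalization.map_nonZeroDivisors_le (Submonoid.powers h) Γ(X, X.basicOpen h)
      (Submonoid.mem_map_of_mem _ ht₀)
  have hDU : D.ideal U = Ideal.span {t} := by
    rw [← D.map_ideal_basicOpen U₀ h, hD₀, Ideal.map_span, Set.image_singleton]
    rfl
  -- rings
  let α := f.appLE W U.1 hUW
  let β := g.appLE W W' hW'le
  algebraize [α.hom, β.hom]
  -- flatness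
  have hflat : ((Ideal.Quotient.mk (D.ideal U)).comp
      (algebraMap Γ(S, W) Γ(X, U.1))).Flat := by
    have hZU : IsAffineOpen (D.subschemeι ⁻¹ᵁ U.1) := U.2.preimage D.subschemeι
    have hle : D.subschemeι ⁻¹ᵁ U.1 ≤ (D.subschemeι ≫ f) ⁻¹ᵁ W := by
      rw [Scheme.Hom.comp_preimage]
      exact (D.subschemeι).preimage_mono hUW
    have h1 := Scheme.Hom.flat_appLE (D.subschemeι ≫ f) hW hZU hle
    have h2 : (D.subschemeι ≫ f).appLE W (D.subschemeι ⁻¹ᵁ U.1) hle =
        α ≫ CommRingCat.ofHom (Ideal.Quotient.mk (D.ideal U)) ≫ (D.subschemeObjIso U).inv := by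
      rw [← Scheme.Hom.appLE_comp_appLE D.subschemeι f W U.1 _ hUW le_rfl,
        Scheme.Hom.appLE_eq_app, D.subschemeι_app]
    rw [h2] at h1
    have h3 : ((D.subschemeObjIso U).hom.hom).Flat :=
      RingHom.Flat.of_bijective (ConcreteCategory.bijective_of_isIso (D.subschemeObjIso U).hom)
    have h4 := RingHom.Flat.comp h1 h3
    convert h4 using 1
    ext r
    simp [RingHom.algebraMap_toAlgebra]
  have hnzd := Groth.Agent.Lib.Helper3.tmul_one_mem_nonZeroDivisors' Γ(S, W) Γ(X, U.1) Γ(S', W')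
    t ht (D.ideal U) hDU hflat
  -- morphisms
  let a := U.2.fromSpec
  let b := hW.fromSpec
  let c := hW'.fromSpec
  have hoa : IsOpenImmersion a := IsAffineOpen.isOpenImmersion_fromSpec U.2
  have hob : IsOpenImmersion b := IsAffineOpen.isOpenImmersion_fromSpec hW
  have hoc : IsOpenImmersion c := IsAffineOpen.isOpenImmersion_fromSpec hW'
  have e₁ : Spec.map (CommRingCat.ofHom (algebraMap Γ(S, W) Γ(X, U.1))) ≫ b = a ≫ f :=
    IsAffineOpen.SpecMap_appLE_fromSpec f hW U.2 hUW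
  have e₂ : Spec.map (CommRingCat.ofHom (algebraMap Γ(S, W) Γ(S', W'))) ≫ b = c ≫ g :=
    IsAffineOpen.SpecMap_appLE_fromSpec g hW hW' hW'le
  let j₀ := pullback.map (Spec.map (CommRingCat.ofHom (algebraMap Γ(S, W) Γ(X, U.1))))
    (Spec.map (CommRingCat.ofHom (algebraMap Γ(S, W) Γ(S', W')))) f g a c b e₁ e₂
  let ε := pullbackSpecIso Γ(S, W) Γ(X, U.1) Γ(S', W')
  let j := ε.inv ≫ j₀
  have hjp : j ≫ p = Spec.map (CommRingCat.ofHom
      (Algebra.TensorProduct.includeLeftRingHom (R := Γ(S, W)) (A := Γ(X, U.1)) (B := Γ(S', W')))) ≫ a := by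
    simp only [j, j₀, Category.assoc, hp, pullback.lift_fst]
    rw [← Category.assoc, pullbackSpecIso_inv_fst]
  have hrange : Set.range j = p ⁻¹' (U.1 : Set X) ∩ q ⁻¹' (W' : Set S') := by
    have h1 : Set.range j = Set.range j₀ := by
      simp only [j, Scheme.Hom.comp_base, TopCat.coe_comp, Set.range_comp]
      have : Function.Surjective ε.inv := ε.inv.homeomorph.surjective
      rw [this.range_eq, Set.image_univ]
    rw [h1, Scheme.Pullback.range_map, U.2.range_fromSpec, hW'.range_fromSpec]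
  have hx'j : x' ∈ Set.range j := by
    rw [hrange]
    exact ⟨hxh, hs'W'⟩
  have hoj : IsOpenImmersion j := inferInstance
  -- the affine open
  let O' : (pullback f g).Opens := j ''ᵁ ⊤
  have hO'aff : IsAffineOpen O' := (isAffineOpen_top _).image_of_isOpenImmersion j
  have hx'O' : x' ∈ O' := by
    obtain ⟨z, rfl⟩ := hx'j
    exact ⟨z, trivial, rfl⟩
  have hO' : O' ≤ p ⁻¹ᵁ U.1 := by
    rintro _ ⟨z, -, rfl⟩
    change p (j z) ∈ U.1
    rw [← Scheme.Hom.comp_apply, hjp, Scheme.Hom.comp_apply]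
    have := U.2.range_fromSpec
    rw [← SetLike.mem_coe, ← this]
    exact ⟨_, rfl⟩
  let τ : Γ(pullback f g, O') := (p.appLE U.1 O' hO').hom t
  have hideal : (D.comap p).ideal ⟨O', hO'aff⟩ = Ideal.span {τ} := by
    rw [Groth.Agent.Lib.Helper3.ideal_comap_of_le p D ⟨O', hO'aff⟩ U hO', hDU, Ideal.map_span,
      Set.image_singleton]
  -- the comparison map
  let Φ : Γ(pullback f g, O') ⟶ CommRingCat.of (Γ(X, U.1) ⊗[Γ(S, W)] Γ(S', W')) :=
    (j.appIso ⊤).hom ≫ (Scheme.ΓSpecIso _).hom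
  have hΦinj : Function.Injective Φ.hom :=
    (ConcreteCategory.bijective_of_isIso Φ).1
  have hΦ : p.appLE U.1 O' hO' ≫ Φ = CommRingCat.ofHom
      (Algebra.TensorProduct.includeLeftRingHom (R := Γ(S, W)) (A := Γ(X, U.1)) (B := Γ(S', W'))) := by
    simp only [Φ]
    rw [Scheme.Hom.appIso_hom', ← Category.assoc, Scheme.Hom.appLE_comp_appLE,
      appLE_congr_hom hjp U.1 ⊤ _ (by rw [Scheme.Hom.comp_preimage, U.2.fromSpec_preimage_self]; exact le_top),
      ← Scheme.Hom.appLE_comp_appLE _ _ U.1 ⊤ ⊤ (by rw [U.2.fromSpec_preimage_self]) le_top]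
    have ha : a.appLE U.1 ⊤ (by rw [U.2.fromSpec_preimage_self]) = (Scheme.ΓSpecIso Γ(X, U.1)).inv :=
      fromSpec_appLE_top U.2 _
    rw [ha, Category.assoc]
    have : (Spec.map (CommRingCat.ofHom
      (Algebra.TensorProduct.includeLeftRingHom (R := Γ(S, W)) (A := Γ(X, U.1)) (B := Γ(S', W'))))).appLE ⊤ ⊤ le_top =
        (Spec.map (CommRingCat.ofHom
      (Algebra.TensorProduct.includeLeftRingHom (R := Γ(S, W)) (A := Γ(X, U.1)) (B := Γ(S', W'))))).appTop :=
      Scheme.Hom.appLE_eq_app _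
    rw [this, Scheme.ΓSpecIso_naturality]
    exact (Scheme.ΓSpecIso Γ(X, U.1)).inv_hom_id_assoc _
  have hΦτ : Φ.hom τ = t ⊗ₜ[Γ(S, W)] (1 : Γ(S', W')) := by
    have := congrArg (fun φ => φ.hom t) hΦ
    simpa using this
  refine ⟨⟨O', hO'aff⟩, hx'O', τ, ?_, hideal⟩
  rw [mem_nonZeroDivisors_iff_right]
  intro z hz
  apply hΦinj
  rw [map_zero]
  have h5 := congrArg Φ.hom hz
  rw [map_mul, hΦτ, map_zero] at h5
  exact (mem_nonZeroDivisors_iff_right.mp hnzd) _ h5

end Groth.Agent.S1662
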