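import Groth.Statements.S10797
import Groth.Agent.Lib.Helper15.RepWithPullback
import Groth.Agent.S1662
open Groth.Agent.Lib.Helper15

set_option autoImplicit false
universe u
open CategoryTheory CategoryTheory.Limits AlgebraicGeometry Topology TopologicalSpace
open AlgSp

namespace Groth.Agent.S10797

/-- Let f : X ⟶ Y be a morphism of algebraic spaces over a scheme S and D ⟶ X an effective Cartier
divisor (one-chart sense) such that the composite D ⟶ Y is flat. Then for every morphism g : Y' ⟶ Y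
and every pullback square exhibiting X' as Y' ×_Y X with projection g' : X' ⟶ X, the inverse image
of D under g' (the projection to X' from any pullback of D ⟶ X along g') is an effective Cartier
divisor on X'. (The published statement takes g to be a morphism from a scheme Y'; this row allows
Y' to be an algebraic space, to which the same etale-local reduction to schemes applies.) -/
theorem result {S : Scheme.{u}} (X Y D Y' X' D' : AlgSp.Space S)
    (f : X ⟶ Y) (i : D ⟶ X) (hD : AlgSp.IsEffCartierSub i.hom) (hflat : AlgSp.LocP @Flat (i ≫ f).hom)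
    (g : Y' ⟶ Y) (g' : X' ⟶ X) (f' : X' ⟶ Y') (hX' : IsPullback g'.hom f'.hom f.hom g.hom)
    (k : D' ⟶ D) (i' : D' ⟶ X') (hD' : IsPullback k.hom i'.hom i.hom g'.hom) :
    AlgSp.IsEffCartierSub i'.hom := by
  refine ⟨(RepWith @IsClosedImmersion).of_isPullback hD' hD.1, ?_⟩
  obtain ⟨T, t, hte, hts⟩ := Y.property.atlas
  obtain ⟨V₀, a₀, ha₀e, ha₀s⟩ := X.property.atlas
  obtain ⟨T₀', c₀, hc₀e, hc₀s⟩ := Y'.property.atlas
  obtain ⟨V₁, s, h, sqV₁, hse, hss⟩ := exists_yon_pullback hte hts (a₀ ≫ f.hom)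
  obtain ⟨T', s', r, sqT', hs'e, hs's⟩ := exists_yon_pullback hte hts (c₀ ≫ g.hom)
  have hrep : Representable (a₀ ≫ f.hom) := Y.property.representable_from_yon _
  obtain ⟨W₀, p₁, p₂, sqW₀⟩ : ∃ (W₀ : Over S) (p₁ : W₀ ⟶ V₀) (p₂ : W₀ ⟶ T₀'),
      IsPullback ((yon S).map p₁) ((yon S).map p₂) (a₀ ≫ f.hom) (c₀ ≫ g.hom) := by
    refine ⟨hrep.pullback (c₀ ≫ g.hom), (yon S).preimage (hrep.fst _), hrep.snd _, ?_⟩
    rw [Functor.map_preimage]
    exact hrep.isPullback _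
  -- the chart `W₀ ⟶ X'`
  have hw₀ : ((yon S).map p₁ ≫ a₀) ≫ f.hom = ((yon S).map p₂ ≫ c₀) ≫ g.hom := by
    rw [Category.assoc, Category.assoc]; exact sqW₀.w
  let ψ₀ : (yon S).obj W₀ ⟶ X'.obj := hX'.lift ((yon S).map p₁ ≫ a₀) ((yon S).map p₂ ≫ c₀) hw₀
  have hψ₀₁ : ψ₀ ≫ g'.hom = (yon S).map p₁ ≫ a₀ := hX'.lift_fst _ _ _
  have hψ₀₂ : ψ₀ ≫ f'.hom = (yon S).map p₂ ≫ c₀ := hX'.lift_snd _ _ _
  have hψ₀e : RepWith @Etale ψ₀ :=
    mem_of_isPullback_of_isPullback (RepWith @Etale) hX' ha₀e hc₀e sqW₀ ψ₀ hψ₀₁ hψ₀₂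
  have hψ₀s : RepWith @Surjective ψ₀ :=
    mem_of_isPullback_of_isPullback (RepWith @Surjective) hX' ha₀s hc₀s sqW₀ ψ₀ hψ₀₁ hψ₀₂
  -- the scheme `W = V₁ ×_T T'`
  let W : Over S := Over.mk (pullback.fst h.left r.left ≫ V₁.hom)
  let pr₁ : W ⟶ V₁ := Over.homMk (pullback.fst h.left r.left) rfl
  let pr₂ : W ⟶ T' := Over.homMk (pullback.snd h.left r.left) (by
    show pullback.snd h.left r.left ≫ T'.hom = pullback.fst h.left r.left ≫ V₁.hom
    rw [← Over.w r, ← Over.w h, ← Category.assoc, ← Category.assoc, pullback.condition])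
  have sqO : IsPullback pr₁ pr₂ h r :=
    IsPullback.of_map (Over.forget S) (Over.OverMorphism.ext pullback.condition)
      (IsPullback.of_hasPullback h.left r.left)
  have sqW := sqO.map (yon S)
  have hσw : (yon S).map (pr₁ ≫ s) ≫ (a₀ ≫ f.hom) = (yon S).map (pr₂ ≫ s') ≫ (c₀ ≫ g.hom) := by
    rw [Functor.map_comp, Functor.map_comp, Category.assoc, Category.assoc, ← sqV₁.w, ← sqT'.w,
      ← Category.assoc, ← Category.assoc, sqW.w]
  let σ : W ⟶ W₀ := (yon S).preimage (sqW₀.lift ((yon S).map (pr₁ ≫ s)) ((yon S).map (pr₂ ≫ s')) hσw)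
  have hσ : (yon S).map σ = sqW₀.lift ((yon S).map (pr₁ ≫ s)) ((yon S).map (pr₂ ≫ s')) hσw :=
    Functor.map_preimage _ _
  have hσ₁ : (yon S).map σ ≫ (yon S).map p₁ = (yon S).map pr₁ ≫ (yon S).map s := by
    rw [hσ, sqW₀.lift_fst, Functor.map_comp]
  have hσ₂ : (yon S).map σ ≫ (yon S).map p₂ = (yon S).map pr₂ ≫ (yon S).map s' := by
    rw [hσ, sqW₀.lift_snd, Functor.map_comp]
  have B1 : IsPullback ((yon S).map pr₂ ≫ (yon S).map s') ((yon S).map pr₁) (c₀ ≫ g.hom)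
      ((yon S).map h ≫ t) := sqW.flip.paste_horiz sqT'.flip
  have B2 : IsPullback ((yon S).map σ) ((yon S).map pr₁) ((yon S).map p₁) ((yon S).map s) := by
    refine IsPullback.of_right ?_ hσ₁ sqW₀.flip
    rw [hσ₂, ← sqV₁.w]
    exact B1
  have B3 : IsPullback ((yon S).map σ) ((yon S).map pr₁ ≫ (yon S).map h)
      ((yon S).map p₁ ≫ (a₀ ≫ f.hom)) t := B2.paste_vert sqV₁.flip
  have hσe : Etale σ.left := hte.property _ _ _ B3.flip
  have hσs : Surjective σ.left := hts.property _ _ _ B3.flip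
  let ψ : (yon S).obj W ⟶ X'.obj := (yon S).map σ ≫ ψ₀
  have hψe : RepWith @Etale ψ :=
    (RepWith @Etale).comp_mem _ _ ((repWith_yon_map_iff _ σ).2 hσe) hψ₀e
  have hψs : RepWith @Surjective ψ :=
    (RepWith @Surjective).comp_mem _ _ ((repWith_yon_map_iff _ σ).2 hσs) hψ₀s
  -- the chart of `D` on `V₁`
  let a₁ : (yon S).obj V₁ ⟶ X.obj := (yon S).map s ≫ a₀
  have ha₁e : RepWith @Etale a₁ :=
    (RepWith @Etale).comp_mem _ _ ((repWith_yon_map_iff _ s).2 hse) ha₀e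
  obtain ⟨I₁, fst₁, sq₁⟩ := exists_chart_ideal hD.1 a₁
  have hI₁ : BlowUp.IsEffCartierIdeal I₁ := isEffCartierIdeal_of_chart hD ha₁e sq₁
  have e1 : a₁ ≫ f.hom = (yon S).map h ≫ t := by
    show ((yon S).map s ≫ a₀) ≫ f.hom = _
    rw [Category.assoc]; exact sqV₁.w.symm
  have hfst₁e : RepWith @Etale fst₁ := (RepWith @Etale).of_isPullback sq₁.flip ha₁e
  have e2 : fst₁ ≫ (i ≫ f).hom = (yon S).map (subι V₁ I₁ ≫ h) ≫ t := by
    calc fst₁ ≫ (i ≫ f).hom = (fst₁ ≫ i.hom) ≫ f.hom := (Category.assoc fst₁ i.hom f.hom).symm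
      _ = ((yon S).map (subι V₁ I₁) ≫ a₁) ≫ f.hom := by rw [sq₁.w]
      _ = (yon S).map (subι V₁ I₁) ≫ (yon S).map h ≫ t := by rw [Category.assoc, e1]
      _ = (yon S).map (subι V₁ I₁ ≫ h) ≫ t := by rw [Functor.map_comp, Category.assoc]
  haveI hfl : Flat (I₁.subschemeι ≫ h.left) := hflat fst₁ t (subι V₁ I₁ ≫ h) hfst₁e hte e2
  have hbq : ψ ≫ g'.hom = (yon S).map pr₁ ≫ a₁ := by
    show ((yon S).map σ ≫ ψ₀) ≫ g'.hom = (yon S).map pr₁ ≫ (yon S).map s ≫ a₀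
    rw [Category.assoc, hψ₀₁, ← Category.assoc, hσ₁, Category.assoc]
  obtain ⟨fstW, sqWch⟩ := exists_isPullback_chart_of_isPullback hD' sq₁ ψ pr₁ hbq
  exact ⟨W, ψ, I₁.comap pr₁.left, fstW, hψe, hψs, sqWch,
    Groth.Agent.S1662.result h.left I₁ hI₁ r.left⟩

end Groth.Agent.S10797
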