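import Groth.Statements.S1685
import Groth.Agent.Lib.Helper3.CartierStalk
import Groth.Agent.Lib.Helper3.RingSk

set_option autoImplicit false
universe u
open CategoryTheory CategoryTheory.Limits AlgebraicGeometry TopologicalSpace
open SDiv

namespace Groth.Agent.S1685
open Groth.Agent.Lib.Helper3

/-- Let X be a locally Noetherian scheme all of whose local rings satisfy Serre's condition (S_k), and
let D be the closed subscheme of an effective Cartier divisor. Then all local rings of D satisfy
(S_{k-1}). -/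
theorem result (X : Scheme.{u}) [IsLocallyNoetherian X] (k : ℕ)
    (hX : ∀ x : ↥X, min (k : WithBot ℕ∞) (ringKrullDim (X.presheaf.stalk x)) ≤
      ((LocCoh.depth (X.presheaf.stalk x) (X.presheaf.stalk x) : ℕ∞) : WithBot ℕ∞))
    (𝓘 : X.IdealSheafData) (h𝓘 : BlowUp.IsEffCartierIdeal 𝓘) (d : ↥𝓘.subscheme) :
    min ((k - 1 : ℕ) : WithBot ℕ∞) (ringKrullDim (𝓘.subscheme.presheaf.stalk d)) ≤
      ((LocCoh.depth (𝓘.subscheme.presheaf.stalk d) (𝓘.subscheme.presheaf.stalk d) : ℕ∞) : WithBot ℕ∞) := by
  obtain ⟨t, ht, htm, hker⟩ := exists_stalk_generator 𝓘 h𝓘 d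
  have hN : IsNoetherianRing (X.presheaf.stalk (𝓘.subschemeι d)) := isNoetherianRing_stalk _
  have hsurj := stalkMap_subschemeι_surjective 𝓘 d
  have h1 := ringKrullDim_add_one_of_surjective (𝓘.subschemeι.stalkMap d).hom hsurj t ht htm hker
  have h2 := depth_add_one_of_surjective (𝓘.subschemeι.stalkMap d).hom hsurj t ht htm hker
  have h3 := hX (𝓘.subschemeι d)
  rw [← h1, ← h2] at h3
  exact min_pred_le_of_min_le k _ _ h3

end Groth.Agent.S1685
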