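import Groth.Statements.S10799
import Groth.Agent.Lib.Helper15.EffCartierChart
import Groth.Agent.S1685
import Groth.Agent.Lib.Helper4.SerreNormal
import Groth.Agent.Lib.Helper3.CartierStalk

set_option autoImplicit false
universe u
open CategoryTheory CategoryTheory.Limits AlgebraicGeometry Topology TopologicalSpace
open AlgSp

namespace Groth.Agent.S10799

/-- Let X be an algebraic space over a scheme S which is locally Noetherian and normal in the
etale-local sense: some etale surjective chart of X from a locally Noetherian scheme all of whose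
local rings are integrally closed domains. Let D ⟶ X be an effective Cartier divisor (one-chart
sense). Then D is (S_1): some etale surjective chart of D from a locally Noetherian scheme all of
whose local rings O satisfy min(1, dim O) ≤ depth O. -/
theorem result {S : Scheme.{u}} (X D : AlgSp.Space S)
    (hX : AlgSp.EtaleLocally (fun U => IsLocallyNoetherian U ∧ Pi1.IsNormalScheme U) X.obj)
    (i : D ⟶ X) (hD : AlgSp.IsEffCartierSub i.hom) :
    AlgSp.EtaleLocally (fun V => IsLocallyNoetherian V ∧ ∀ v : ↥V,
        min ((1 : ℕ) : WithBot ℕ∞) (ringKrullDim ↥(V.presheaf.stalk v)) ≤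
          ((LocCoh.depth ↥(V.presheaf.stalk v) ↥(V.presheaf.stalk v) : ℕ∞) : WithBot ℕ∞)) D.obj := by
  obtain ⟨U, p, hpe, hps, hN, hnorm⟩ := hX
  obtain ⟨J, fst, sq⟩ := Groth.Agent.Lib.Helper15.exists_chart_ideal hD.1 p
  have hJ : BlowUp.IsEffCartierIdeal J := Groth.Agent.Lib.Helper15.isEffCartierIdeal_of_chart hD hpe sq
  have hfe : AlgSp.RepWith @Etale fst := (AlgSp.RepWith @Etale).of_isPullback sq.flip hpe
  have hfs : AlgSp.RepWith @Surjective fst := (AlgSp.RepWith @Surjective).of_isPullback sq.flip hps
  have : IsLocallyNoetherian U.left := hN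
  have hN' : IsLocallyNoetherian J.subscheme := LocallyOfFiniteType.isLocallyNoetherian J.subschemeι
  have hS2 : ∀ x : ↥U.left, min ((2 : ℕ) : WithBot ℕ∞) (ringKrullDim ↥(U.left.presheaf.stalk x)) ≤
      ((LocCoh.depth ↥(U.left.presheaf.stalk x) ↥(U.left.presheaf.stalk x) : ℕ∞) : WithBot ℕ∞) := by
    intro x
    obtain ⟨hdom, hic⟩ := hnorm x
    have hnoeth : IsNoetherianRing (U.left.presheaf.stalk x) :=
      Groth.Agent.Lib.Helper3.isNoetherianRing_stalk x
    have h := Groth.Agent.Lib.Helper4.SerreNormal.min_two_le_depth_of_normal (U.left.presheaf.stalk x)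
    rw [← IsLocalRing.maximalIdeal_height_eq_ringKrullDim]
    have h2 : ((2 : ℕ) : WithBot ℕ∞) = (((2 : ℕ) : ℕ∞) : WithBot ℕ∞) := rfl
    rw [h2, ← WithBot.coe_min]
    exact WithBot.coe_le_coe.mpr h
  exact ⟨_, fst, hfe, hfs, hN', fun v => Groth.Agent.S1685.result U.left 2 hS2 J hJ v⟩

end Groth.Agent.S10799
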