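import Groth.Statements.S10802
import Groth.Agent.Lib.Helper16.LocPGen
import Groth.Agent.Lib.Helper16.EtLocal
import Groth.Agent.Lib.Helper16.FibreProduct

set_option autoImplicit false
universe u
open CategoryTheory CategoryTheory.Limits AlgebraicGeometry Topology TopologicalSpace
open AlgSp

namespace Groth.Agent.S10802

/-- For algebraic spaces X and Y over a scheme S and a morphism f : X ⟶ Y which is locally of finite
type, every fibre of f over a field-valued point of Y is a locally Noetherian algebraic space: for
every field k and every point p : Spec k ⟶ Y, the fibre X_p = Spec k ×_Y X (any pullback of f along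
the morphism of p) admits a representable etale surjective chart from a locally Noetherian scheme. -/
theorem result {S : Scheme.{u}} (X Y : AlgSp.Space S) (f : X ⟶ Y)
    (hf : AlgSp.LocP @LocallyOfFiniteType f.hom) (p : AlgSp.FieldPt Y.obj)
    {P : AlgSp.Sp S} (fst : P ⟶ X.obj) (snd : P ⟶ (AlgSp.yon S).obj p.pt) (hP : IsPullback fst snd f.hom p.toHom) :
    AlgSp.IsLocNoethSp P := by
  have hPalg : AlgSp.IsAlgSpace P :=
    Groth.Agent.Lib.Helper16.isAlgSpace_of_isPullback X.property Y.property.diag
      (AlgSp.IsAlgSpace.yon_obj p.pt) hP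
  have hsnd : AlgSp.LocP @LocallyOfFiniteType snd :=
    Groth.Agent.Lib.Helper16.locP_of_isPullback Groth.Agent.Lib.Helper16.etLocalST_locallyOfFiniteType
      X.property Y.property hP hf
  obtain ⟨U, a, hae, has⟩ := hPalg.atlas
  obtain ⟨e, he⟩ := (AlgSp.yon S).map_surjective (a ≫ snd)
  haveI : LocallyOfFiniteType e.left :=
    hsnd a (𝟙 _) e hae (AlgSp.repWith_id _ p.pt) (by rw [Category.comp_id, he])
  haveI : IsLocallyNoetherian p.pt.left :=
    inferInstanceAs (IsLocallyNoetherian (Spec (CommRingCat.of p.K)))
  exact ⟨U, a, hae, has, LocallyOfFiniteType.isLocallyNoetherian e.left⟩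

end Groth.Agent.S10802
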