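import Groth.Statements.S10803
import Groth.Agent.Lib.Helper15.FibreNoeth
open Groth.Agent.Lib.Helper15 Groth.Agent.Lib.Helper16

set_option autoImplicit false
universe u
open CategoryTheory CategoryTheory.Limits AlgebraicGeometry Topology TopologicalSpace
open AlgSp

namespace Groth.Agent.S10803

/-- (3) ⇒ (2) (with (2) ⇒ (1) ⇒ (3) immediate, this gives the equivalence of the three conditions
defining a locally Noetherian fibre over y): take a morphism f : X ⟶ Y of algebraic spaces over a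
scheme S and a point y of |Y|. Suppose that for some field k and some point p : Spec k ⟶ Y
representing y the fibre X_p (any pullback of f along the morphism of p) is locally Noetherian. Then
for every scheme V, every representable etale h_V ⟶ Y and every point v of V mapping to y, the fibre
X_v = Spec κ(v) ×_Y X is locally Noetherian. -/
theorem result {S : Scheme.{u}} (X Y : AlgSp.Space S) (f : X ⟶ Y)
    (y : AlgSp.Points Y.obj) (p : AlgSp.FieldPt Y.obj) (hp : AlgSp.Points.mk p = y)
    (hNoeth : ∀ ⦃P : AlgSp.Sp S⦄ (fst : P ⟶ X.obj) (snd : P ⟶ (AlgSp.yon S).obj p.pt),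
      IsPullback fst snd f.hom p.toHom → AlgSp.IsLocNoethSp P)
    (V : Over S) (b : (AlgSp.yon S).obj V ⟶ Y.obj) (hb : AlgSp.RepWith @Etale b) (v : ↥V.left)
    (hv : AlgSp.Points.ofPt b v = y)
    {Q : AlgSp.Sp S} (qfst : Q ⟶ X.obj) (qsnd : Q ⟶ (AlgSp.yon S).obj (AlgSp.FieldPt.ofPt b v).pt)
    (hQ : IsPullback qfst qsnd f.hom (AlgSp.FieldPt.ofPt b v).toHom) :
    AlgSp.IsLocNoethSp Q := by
  have hrel : AlgSp.FieldPt.Rel p (AlgSp.FieldPt.ofPt b v) :=
    AlgSp.Points.mk_eq_mk_iff.1 (hp.trans hv.symm)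
  rw [rel_iff_toHom] at hrel
  obtain ⟨Ω, _, w, a, c, hac⟩ := hrel
  -- the fibre of the chart over `p`
  obtain ⟨T, snd, fst', sqT⟩ := hb.rep p.toHom
  obtain ⟨t₁, rfl⟩ := (AlgSp.yon S).map_surjective fst'
  haveI hsnd : Etale snd.left := hb.property _ _ _ sqT
  let ιv : (AlgSp.FieldPt.ofPt b v).pt ⟶ V := Over.homMk (V.left.fromSpecResidueField v) rfl
  have hq' : (AlgSp.FieldPt.ofPt b v).toHom = (AlgSp.yon S).map ιv ≫ b := AlgSp.FieldPt.toHom_ofPt b v
  obtain ⟨ℓ, hℓ⟩ := (AlgSp.yon S).map_surjective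
    (sqT.lift ((AlgSp.yon S).map (c ≫ ιv)) ((AlgSp.yon S).map a)
      (by rw [Functor.map_comp, Category.assoc, ← hq', hac]))
  have hℓ1 : ℓ ≫ t₁ = c ≫ ιv := (AlgSp.yon S).map_injective (by
    rw [Functor.map_comp, hℓ, sqT.lift_fst])
  let t : ↥T.left := ℓ.left (IsLocalRing.closedPoint Ω)
  have ht : t₁.left t = v := by
    have h0 : (ℓ ≫ t₁).left = (c ≫ ιv).left := congrArg CommaMorphism.left hℓ1
    have h := congrArg (fun φ : Spec (CommRingCat.of Ω) ⟶ V.left => φ (IsLocalRing.closedPoint Ω)) h0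
    simp only [Over.comp_left, Scheme.Hom.comp_apply] at h
    rw [h]
    exact Scheme.fromSpecResidueField_apply _ _
  -- the residue field of `t`
  let E : Over S := Over.mk (T.left.fromSpecResidueField t ≫ T.hom)
  let ιt : E ⟶ T := Over.homMk (T.left.fromSpecResidueField t) rfl
  let e : E ⟶ p.pt := ιt ≫ snd
  have he : LocallyOfFiniteType e.left :=
    locallyOfFiniteType_fromSpecResidueField_comp (k := p.K) snd.left t
  obtain ⟨d₀, hd₀⟩ := exists_factor_fromSpecResidueField
    (K := ↥(T.left.residueField t)) (T.left.fromSpecResidueField t ≫ t₁.left) v (by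
      rw [Scheme.Hom.comp_apply, Scheme.fromSpecResidueField_apply]
      exact ht)
  let d : E ⟶ (AlgSp.FieldPt.ofPt b v).pt := Over.homMk d₀ (by
    show d₀ ≫ (V.left.fromSpecResidueField v ≫ V.hom) = T.left.fromSpecResidueField t ≫ T.hom
    rw [← Category.assoc, hd₀, Category.assoc, Over.w t₁])
  have hd : d ≫ ιv = ιt ≫ t₁ := Over.OverMorphism.ext hd₀
  have hed : (AlgSp.yon S).map e ≫ p.toHom = (AlgSp.yon S).map d ≫ (AlgSp.FieldPt.ofPt b v).toHom := by
    rw [hq', ← Category.assoc, ← Functor.map_comp, hd, Functor.map_comp, Functor.map_comp,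
      Category.assoc, Category.assoc, sqT.w]
  -- the fibre over `E`
  have sqP := IsPullback.of_hasPullback f.hom p.toHom
  have hP : AlgSp.IsLocNoethSp (pullback f.hom p.toHom) := hNoeth _ _ sqP
  have sqPE := IsPullback.of_hasPullback (pullback.snd f.hom p.toHom) ((AlgSp.yon S).map e)
  have hPE : AlgSp.IsLocNoethSp (pullback (pullback.snd f.hom p.toHom) ((AlgSp.yon S).map e)) :=
    isLocNoethSp_of_isPullback_of_locallyOfFiniteType e he _ _ _ sqPE hP
  have hbig := sqPE.paste_horiz sqP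
  rw [hed] at hbig
  let m : pullback (pullback.snd f.hom p.toHom) ((AlgSp.yon S).map e) ⟶ Q :=
    hQ.lift (pullback.fst (pullback.snd f.hom p.toHom) ((AlgSp.yon S).map e) ≫ pullback.fst f.hom p.toHom)
      (pullback.snd (pullback.snd f.hom p.toHom) ((AlgSp.yon S).map e) ≫ (AlgSp.yon S).map d)
      (by simpa only [Category.assoc] using hbig.w)
  have hm1 : m ≫ qfst = pullback.fst (pullback.snd f.hom p.toHom) ((AlgSp.yon S).map e) ≫
      pullback.fst f.hom p.toHom := hQ.lift_fst _ _ _
  have hm2 : m ≫ qsnd = pullback.snd (pullback.snd f.hom p.toHom) ((AlgSp.yon S).map e) ≫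
      (AlgSp.yon S).map d := hQ.lift_snd _ _ _
  have sqQ : IsPullback m (pullback.snd (pullback.snd f.hom p.toHom) ((AlgSp.yon S).map e)) qsnd
      ((AlgSp.yon S).map d) := by
    refine IsPullback.of_right ?_ hm2 hQ
    rw [hm1]
    exact hbig
  have hQalg : AlgSp.IsAlgSpace Q :=
    isAlgSpace_of_isPullback X.property Y.property.diag (AlgSp.IsAlgSpace.yon_obj _) hQ
  haveI : IsIntegral (AlgSp.FieldPt.ofPt b v).pt.left :=
    inferInstanceAs (IsIntegral (Spec (CommRingCat.of (AlgSp.FieldPt.ofPt b v).K)))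
  haveI : Subsingleton ↥(AlgSp.FieldPt.ofPt b v).pt.left :=
    inferInstanceAs (Subsingleton (PrimeSpectrum (AlgSp.FieldPt.ofPt b v).K))
  have hsurj : Surjective d.left := ⟨fun x =>
    ⟨(IsLocalRing.closedPoint ↥(T.left.residueField t) : ↥(Spec (T.left.residueField t))),
      Subsingleton.elim _ _⟩⟩
  exact isLocNoethSp_of_isPullback_of_flat_surjective_open d inferInstance hsurj inferInstance
    hQalg qsnd m _ sqQ hPE

end Groth.Agent.S10803
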