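import Groth.Statements.S10805
import Groth.Agent.Lib.Helper15.WeakAssUnit
open Groth.Agent.Lib.Helper15 Groth.Agent.Lib.Helper16

set_option autoImplicit false
universe u
open CategoryTheory CategoryTheory.Limits AlgebraicGeometry Topology TopologicalSpace
open AlgSp

namespace Groth.Agent.S10805

/-- Let X be a reduced algebraic space over a scheme S and x a point of |X|. Then x is a weakly
associated point of X (a weakly associated point of the structure sheaf O_X on the small etale site)
if and only if x is a point of codimension 0 of X (for some scheme U with a representable etale h_U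
⟶ X and some point u of U over x, the local ring of U at u has Krull dimension 0). -/
theorem result {S : Scheme.{u}} (X : AlgSp.Space S)
    (hX : AlgSp.IsReducedSp X.obj) [(AlgSp.unitModEt X.obj).IsQuasicoherent] (x : AlgSp.Points X.obj) :
    x ∈ AlgSp.WeakAssEt (AlgSp.unitModEt X.obj) ↔
      AlgSp.HasAt (fun U u => ringKrullDim ↥(U.presheaf.stalk u) = 0) X.obj x := by
  constructor
  · rintro ⟨E, hEaff, u, hux, s, hs⟩
    obtain ⟨U₀, a₀, hae, has, hU₀⟩ := hX
    obtain ⟨V, p, q, sqV, hpe, hps⟩ := exists_yon_pullback hae has E.obj.hom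
    have hqe : Etale q.left := E.property.property a₀ _ _ sqV.flip
    haveI : IsReduced U₀.left := hU₀
    haveI : IsReduced V.left := Groth.Agent.Lib.Helper22.SmoothRed.isReduced_of_smooth q.left
    haveI : IsReduced E.obj.left.left := isReduced_of_flat_of_surjective p.left
    obtain ⟨b, rfl⟩ := exists_upΓ_eq E s
    rw [annSect_upΓ] at hs
    have hmin := mem_minimalPrimes_of_mem_minimalPrimes_annihilator hs
    exact ⟨E.obj.left, E.obj.hom, u, E.property, hux, (ringKrullDim_stalk_eq_zero_iff _ u).2 hmin⟩
  · rintro ⟨U, a, u, hae, hux, hdim⟩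
    obtain ⟨_, ⟨U', hU', rfl⟩, huU', -⟩ :=
      U.left.isBasis_affineOpens.exists_subset_of_mem_open (Set.mem_univ u) isOpen_univ
    let Z : Over S := Over.mk (hU'.fromSpec ≫ U.hom)
    let ι' : Z ⟶ U := Over.homMk hU'.fromSpec rfl
    have hι'e : RepWith @Etale ((yon S).map ι') :=
      (repWith_yon_map_iff _ ι').2 (inferInstanceAs (Etale hU'.fromSpec))
    let E : EtOver X.obj := EtOver.mk ((yon S).map ι' ≫ a) ((RepWith @Etale).comp_mem _ _ hι'e hae)
    have hEaff : IsAffine E.obj.left.left := inferInstanceAs (IsAffine (Spec Γ(U.left, U')))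
    let u' : Spec Γ(U.left, U') := hU'.primeIdealOf ⟨u, huU'⟩
    have hu' : hU'.fromSpec u' = u := hU'.fromSpec_primeIdealOf ⟨u, huU'⟩
    refine ⟨E, hEaff, u', ?_, upΓ E 1, ?_⟩
    · refine (ofPt_yon_map_comp ι' a u').trans ?_
      show Points.ofPt a (hU'.fromSpec u') = x
      rw [hu']; exact hux
    · rw [annSect_upΓ]
      have h1 : (Ideal.span {(1 : Γ(E.obj.left.left, ⊤))}).annihilator = ⊥ := by
        ext c
        rw [Submodule.mem_annihilator_span_singleton, smul_eq_mul, mul_one, Ideal.mem_bot]
      rw [h1]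
      apply (ringKrullDim_stalk_eq_zero_iff (Spec Γ(U.left, U')) u').1
      rw [← hu'] at hdim
      rw [← hdim]
      exact ringKrullDim_eq_of_ringEquiv
        (asIso (hU'.fromSpec.stalkMap u')).commRingCatIsoToRingEquiv.symm

end Groth.Agent.S10805
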