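import Groth.Statements.S10806
import Groth.Agent.Lib.Helper15.LocPrincipalDescent

set_option autoImplicit false
universe u
open CategoryTheory CategoryTheory.Limits AlgebraicGeometry Topology TopologicalSpace
open AlgSp

namespace Groth.Agent.S10806

/-- Let X be an algebraic space over a scheme S, Z ⟶ X a locally principal closed subspace (one-chart
sense: representable by closed immersions, and on some etale surjective scheme chart the inverse
image of Z is cut out by a quasi-coherent ideal sheaf that is Zariski-locally generated by one
section) and U ⟶ X the complementary open subspace, that is, a morphism representable by open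
immersions whose image in |X| is the complement of the image of |Z|. Then U ⟶ X is an affine
morphism. -/
theorem result {S : Scheme.{u}} (X Z U : AlgSp.Space S)
    (i : Z ⟶ X) (hZ : AlgSp.IsLocPrincipalSub i.hom) (j : U ⟶ X) (hj : AlgSp.RepWith @IsOpenImmersion j.hom)
    (hU : Set.range (AlgSp.Points.map j.hom) = (Set.range (AlgSp.Points.map i.hom))ᶜ) :
    AlgSp.IsAffineMor j.hom := by
  obtain ⟨hi, V, φ, I, fstV, hφe, hφs, sqV, hI⟩ := hZ
  intro Z₀ hZ₀ g
  have sqU := hj.rep.isPullback g
  refine ⟨hj.rep.pullback g, hj.rep.snd g, hj.rep.fst g, sqU, ?_⟩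
  obtain ⟨J, fstJ, sqJ⟩ := Groth.Agent.Lib.Helper15.exists_chart_ideal hi g
  have hJ : Curv2.IsLocPrincipal J := Groth.Agent.Lib.Helper15.isLocPrincipal_chart hφe hφs sqV hI sqJ
  have hopen : IsOpenImmersion (hj.rep.snd g).left := hj.property_snd g
  haveI := hZ₀
  exact Groth.Agent.Lib.Helper15.isAffine_of_range_eq_compl_support (hj.rep.snd g).left J hJ
    (Groth.Agent.Lib.Helper15.range_left_eq_compl_support hU sqJ sqU)

end Groth.Agent.S10806
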