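import Groth.Statements.S10811
import Groth.Agent.Lib.Helper16.WeakAssEt

set_option autoImplicit false
universe u
open CategoryTheory CategoryTheory.Limits AlgebraicGeometry Topology TopologicalSpace
open AlgSp

namespace Groth.Agent.S10811

/-- Let X be an algebraic space over a scheme S and 0 ⟶ F₁ ⟶ F₂ ⟶ F₃ ⟶ 0 a short exact sequence of
quasi-coherent O_X-modules on the small etale site of X. Then the weakly associated points satisfy
WeakAss(F₂) ⊆ WeakAss(F₁) ∪ WeakAss(F₃) and WeakAss(F₁) ⊆ WeakAss(F₂). -/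
theorem result {S : Scheme.{u}} (X : AlgSp.Space S)
    (C : ShortComplex (AlgSp.ModEt X.obj)) (hC : C.ShortExact)
    [C.X₁.IsQuasicoherent] [C.X₂.IsQuasicoherent] [C.X₃.IsQuasicoherent] :
    AlgSp.WeakAssEt C.X₂ ⊆ AlgSp.WeakAssEt C.X₁ ∪ AlgSp.WeakAssEt C.X₃ ∧
      AlgSp.WeakAssEt C.X₁ ⊆ AlgSp.WeakAssEt C.X₂ := by
  haveI := hC.mono_f
  constructor
  · intro x hx
    obtain ⟨E, hE, u, s, hxu, hs⟩ := Groth.Agent.Lib.Helper16.WeakAssEt.exists_of_mem_weakAssEt hx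
    subst hxu
    rcases Groth.Agent.Lib.Helper16.WeakAssEt.weakAss_of_shortExact C hC E s _ hs with ⟨s₁, h₁⟩ | ⟨s₃, h₃⟩
    · exact Or.inl (Groth.Agent.Lib.Helper16.WeakAssEt.mem_weakAssEt_of E u s₁ h₁)
    · exact Or.inr (Groth.Agent.Lib.Helper16.WeakAssEt.mem_weakAssEt_of E u s₃ h₃)
  · intro x hx
    obtain ⟨E, hE, u, s, hxu, hs⟩ := Groth.Agent.Lib.Helper16.WeakAssEt.exists_of_mem_weakAssEt hx
    subst hxu
    refine Groth.Agent.Lib.Helper16.WeakAssEt.mem_weakAssEt_of E u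
      (Groth.Agent.Lib.Helper16.WeakAssEt.secMap C.f E s) ?_
    rw [Groth.Agent.Lib.Helper16.WeakAssEt.annSect_map_eq_of_mono]
    exact hs
end Groth.Agent.S10811
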