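import Groth.Statements.S8852
import Mathlib
import Groth.Agent.Lib.Helper3.AffinePoints
import Groth.Agent.Lib.Helper18.InvIdealLocal

set_option autoImplicit false
universe u
open CategoryTheory CategoryTheory.Limits AlgebraicGeometry TopologicalSpace
open SDiv

namespace Groth.Agent.S8852

/-- Let 𝓘, 𝓙 be quasi-coherent ideal sheaves on a scheme X (closed subschemes Z, Y). If the product 𝓘𝓙
is the ideal sheaf of an effective Cartier divisor D, then 𝓘 and 𝓙 are ideal sheaves of effective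
Cartier divisors (and D is their sum, D having ideal 𝓘𝓙 by assumption). -/
theorem result {X : Scheme.{u}} (𝓘 𝓙 : X.IdealSheafData)
    (h : BlowUp.IsEffCartierIdeal (𝓘 * 𝓙)) : BlowUp.IsEffCartierIdeal 𝓘 ∧ BlowUp.IsEffCartierIdeal 𝓙 := by
  have key : ∀ (𝓘 𝓙 : X.IdealSheafData), BlowUp.IsEffCartierIdeal (𝓘 * 𝓙) →
      BlowUp.IsEffCartierIdeal 𝓘 := by
    intro 𝓘 𝓙 h x
    obtain ⟨U, hxU, f, hf, hIJ⟩ := h x
    have hIJ' : 𝓘.ideal U * 𝓙.ideal U = Ideal.span {f} := hIJ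
    haveI := (U.2.primeIdealOf ⟨x, hxU⟩).isPrime
    obtain ⟨c, a, b, hc, ha, hb, hab⟩ :=
      Groth.Agent.Lib.Helper18.InvIdealLocal.exists_mul_eq (𝓘.ideal U) (𝓙.ideal U) f hf hIJ'
        (U.2.primeIdealOf ⟨x, hxU⟩).asIdeal
    have hxc : x ∈ X.basicOpen c :=
      (Groth.Agent.Lib.Helper3.mem_basicOpen_iff_notMem_primeIdealOf U.2 x hxU c).mpr hc
    haveI := U.2.isLocalization_basicOpen c
    obtain ⟨h1, h2⟩ := Groth.Agent.Lib.Helper18.InvIdealLocal.map_eq_span_of_mul_eq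
      (𝓘.ideal U) (𝓙.ideal U) f hf hIJ' c a b ha hb hab Γ(X, X.basicOpen c)
    refine ⟨X.affineBasicOpen c, hxc, algebraMap Γ(X, U.1) Γ(X, X.basicOpen c) a, h2, ?_⟩
    rw [← 𝓘.map_ideal_basicOpen U c]
    exact h1
  exact ⟨key 𝓘 𝓙 h, key 𝓙 𝓘 (by rwa [mul_comm])⟩

end Groth.Agent.S8852
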