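import Groth.Statements.S10814
import Groth.Agent.Lib.Helper15.EffCartierIdealEt

set_option autoImplicit false
universe u
open CategoryTheory CategoryTheory.Limits AlgebraicGeometry Topology TopologicalSpace
open AlgSp

namespace Groth.Agent.S10814

/-- Let X be an algebraic space over a scheme S and D₁, D₂ ⟶ X effective Cartier divisors (one-chart
sense) with quasi-coherent ideal sheaves I₁, I₂ on the small etale site. Then their sum, the closed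
subspace D ⟶ X cut out by the product ideal I₁·I₂, is an effective Cartier divisor. -/
theorem result {S : Scheme.{u}} (X D₁ D₂ D : AlgSp.Space S)
    (i₁ : D₁ ⟶ X) (i₂ : D₂ ⟶ X) (i : D ⟶ X) (I₁ I₂ : AlgSp.IdealEt X.obj) (hI₁ : I₁.IsQCoh) (hI₂ : I₂.IsQCoh)
    (h₁ : AlgSp.IsCutOutBy I₁ i₁.hom) (h₂ : AlgSp.IsCutOutBy I₂ i₂.hom) (hD : AlgSp.IsCutOutBy (I₁ * I₂) i.hom)
    (e₁ : AlgSp.IsEffCartierSub i₁.hom) (e₂ : AlgSp.IsEffCartierSub i₂.hom) :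
    AlgSp.IsEffCartierSub i.hom := by
  obtain ⟨V, φ, hφe, hφs⟩ := X.property.atlas
  obtain ⟨J, fst, sq⟩ := Groth.Agent.Lib.Helper15.exists_chart_ideal hD.1 φ
  obtain ⟨J₁, fst₁, sq₁⟩ := Groth.Agent.Lib.Helper15.exists_chart_ideal e₁.1 φ
  obtain ⟨J₂, fst₂, sq₂⟩ := Groth.Agent.Lib.Helper15.exists_chart_ideal e₂.1 φ
  have hJ₁ := Groth.Agent.Lib.Helper15.isEffCartierIdeal_of_chart e₁ hφe sq₁
  have hJ₂ := Groth.Agent.Lib.Helper15.isEffCartierIdeal_of_chart e₂ hφe sq₂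
  have hJ : J = J₁ * J₂ :=
    Groth.Agent.Lib.Helper15.chart_ideal_eq_mul hφe sq sq₁ sq₂ I₁ I₂ hD h₁ h₂
  exact ⟨hD.1, V, φ, J, fst, hφe, hφs, sq,
    hJ ▸ Groth.Agent.Lib.Helper15.isEffCartierIdeal_mul J₁ J₂ hJ₁ hJ₂⟩

end Groth.Agent.S10814
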