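import Groth.Statements.S10820
import Groth.Agent.Lib.Helper4.Unmixed

set_option autoImplicit false
universe u
open AlgebraicGeometry Topology TopologicalSpace
open Variety

namespace Groth.Agent.S10820

open MvPolynomial AlgebraicGeometry

variable (k : Type u) [Field k] (n : ℕ)

lemma decompose_zero_eq (f : MvPolynomial (Fin (n + 1)) k) :
    ((DirectSum.decompose (CohB1.polyGrading n k) f) 0 : MvPolynomial (Fin (n + 1)) k)
      = C (coeff 0 f) := by
  have h := MvPolynomial.decomposition.decompose'_apply (σ := Fin (n + 1)) (R := k) f 0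
  rw [homogeneousComponent_zero] at h
  exact h

/-- a proper homogeneous ideal consists of polynomials without constant term
(after helper4's `Unmixed2`). -/
lemma constantCoeff_eq_zero_of_mem (Q : Ideal (MvPolynomial (Fin (n + 1)) k))
    (hQ : Q.IsHomogeneous (CohB1.polyGrading n k)) (hQtop : Q ≠ ⊤)
    (p : MvPolynomial (Fin (n + 1)) k) (hp : p ∈ Q) : constantCoeff p = 0 := by
  rw [constantCoeff_eq]
  by_contra hne
  have h0 : ((DirectSum.decompose (CohB1.polyGrading n k) p) 0 : MvPolynomial (Fin (n + 1)) k) ∈ Q :=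
    hQ 0 hp
  rw [decompose_zero_eq] at h0
  exact hQtop (Ideal.eq_top_of_isUnit_mem _ h0 ((IsUnit.mk0 _ hne).map C))

/-- minimal primes over a homogeneous ideal are homogeneous (after helper4's `Unmixed2`). -/
lemma isHomogeneous_of_mem_minimalPrimes (J Q : Ideal (MvPolynomial (Fin (n + 1)) k))
    (hJ : J.IsHomogeneous (CohB1.polyGrading n k)) (hQ : Q ∈ J.minimalPrimes) :
    Q.IsHomogeneous (CohB1.polyGrading n k) := by
  have hQprime : Q.IsPrime := hQ.1.1
  have hprime := Ideal.IsPrime.homogeneousCore (𝒜 := CohB1.polyGrading n k) hQprime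
  have hmono : (J.homogeneousCore (CohB1.polyGrading n k)).toIdeal ≤
      (Q.homogeneousCore (CohB1.polyGrading n k)).toIdeal :=
    Ideal.homogeneousCore_mono (CohB1.polyGrading n k) hQ.1.2
  rw [hJ.toIdeal_homogeneousCore_eq_self] at hmono
  have h2 : Q ≤ (Q.homogeneousCore (CohB1.polyGrading n k)).toIdeal :=
    hQ.2 ⟨hprime, hmono⟩ (Ideal.toIdeal_homogeneousCore_le _ Q)
  have h3 : (Q.homogeneousCore (CohB1.polyGrading n k)).toIdeal = Q :=
    le_antisymm (Ideal.toIdeal_homogeneousCore_le _ Q) h2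
  rw [← h3]
  exact (Q.homogeneousCore (CohB1.polyGrading n k)).isHomogeneous

/-- the point of `Proj` given by a relevant homogeneous prime. -/
noncomputable def mkPt (P : Ideal (MvPolynomial (Fin (n + 1)) k)) (hP : P.IsPrime)
    (hh : P.IsHomogeneous (CohB1.polyGrading n k))
    (hirr : ¬ (HomogeneousIdeal.irrelevant (CohB1.polyGrading n k)).toIdeal ≤ P) :
    ProjectiveSpectrum (CohB1.polyGrading n k) where
  asHomogeneousIdeal := ⟨P, hh⟩
  isPrime := hP
  not_irrelevant_le := fun h => hirr (fun x hx => h hx)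

lemma not_irr_le (hn : 2 ≤ n) (P : Ideal (MvPolynomial (Fin (n + 1)) k)) [P.IsPrime]
    (hht : P.height ≤ 2) :
    ¬ (HomogeneousIdeal.irrelevant (CohB1.polyGrading n k)).toIdeal ≤ P := by
  intro hle
  have hX : ∀ i, (X i : MvPolynomial (Fin (n + 1)) k) ∈ P := fun i =>
    hle (HomogeneousIdeal.mem_irrelevant_of_mem _ zero_lt_one (isHomogeneous_X k i))
  have h1 := Groth.Agent.Lib.Helper4.Unmixed.le_height_of_X_mem k n P hX
  have h2 : ((n + 1 : ℕ) : ℕ∞) ≤ ((2 : ℕ) : ℕ∞) := h1.trans hht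
  have h3 : n + 1 ≤ 2 := by exact_mod_cast h2
  omega

lemma exists_pt (hn : 2 ≤ n) (a b : MvPolynomial (Fin (n + 1)) k)
    (hJ : (Ideal.span ({a, b} : Set (MvPolynomial (Fin (n + 1)) k))).IsHomogeneous
      (CohB1.polyGrading n k))
    (ha : constantCoeff a = 0) (hb : constantCoeff b = 0) :
    ∃ x : ProjectiveSpectrum (CohB1.polyGrading n k),
      a ∈ x.asHomogeneousIdeal.toIdeal ∧ b ∈ x.asHomogeneousIdeal.toIdeal := by
  have hle : Ideal.span ({a, b} : Set (MvPolynomial (Fin (n + 1)) k)) ≤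
      RingHom.ker (constantCoeff : MvPolynomial (Fin (n + 1)) k →+* k) := by
    rw [Ideal.span_le]
    intro x hx
    simp only [Set.mem_insert_iff, Set.mem_singleton_iff] at hx
    rcases hx with rfl | rfl
    · exact (RingHom.mem_ker).2 ha
    · exact (RingHom.mem_ker).2 hb
  haveI : (RingHom.ker (constantCoeff : MvPolynomial (Fin (n + 1)) k →+* k)).IsPrime :=
    RingHom.ker_isPrime _
  obtain ⟨P, hPmin, -⟩ := Ideal.exists_minimalPrimes_le hle
  haveI hPp : P.IsPrime := hPmin.1.1
  have hPh : P.IsHomogeneous (CohB1.polyGrading n k) :=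
    isHomogeneous_of_mem_minimalPrimes k n _ P hJ hPmin
  have hht : P.height ≤ 2 := by
    have h := Ideal.height_le_card_of_mem_minimalPrimes_span
      ((Set.finite_singleton b).insert a) hPmin
    refine h.trans ?_
    have h2 : ({a, b} : Set (MvPolynomial (Fin (n + 1)) k)).ncard ≤ 2 :=
      (Set.ncard_insert_le a {b}).trans (by rw [Set.ncard_singleton])
    exact_mod_cast h2
  refine ⟨mkPt k n P hPp hPh (not_irr_le k n hn P hht), ?_, ?_⟩
  · exact hPmin.1.2 (Ideal.subset_span (by simp))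
  · exact hPmin.1.2 (Ideal.subset_span (by simp))

lemma mem_Z_iff (f : MvPolynomial (Fin (n + 1)) k)
    (x : ProjectiveSpectrum (CohB1.polyGrading n k)) :
    x ∈ ProjectiveSpectrum.zeroLocus (CohB1.polyGrading n k)
      ({f} : Set (MvPolynomial (Fin (n + 1)) k)) ↔ f ∈ x.asHomogeneousIdeal.toIdeal := by
  rw [ProjectiveSpectrum.mem_zeroLocus, Set.singleton_subset_iff]
  rfl

lemma principal_of_minimal (f : MvPolynomial (Fin (n + 1)) k) (hf0 : f ≠ 0)
    (p : Ideal (MvPolynomial (Fin (n + 1)) k))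
    (hp : p ∈ (Ideal.span ({f} : Set (MvPolynomial (Fin (n + 1)) k))).minimalPrimes) :
    ∃ π : MvPolynomial (Fin (n + 1)) k, p = Ideal.span {π} := by
  haveI hpp : p.IsPrime := hp.1.1
  have hfp : f ∈ p := hp.1.2 (Ideal.subset_span rfl)
  obtain ⟨s, hs, hsf⟩ := UniqueFactorizationMonoid.exists_prime_factors f hf0
  obtain ⟨u, hu⟩ := hsf.symm
  have hsp : s.prod ∈ p := by rw [← hu]; exact Ideal.mul_mem_right _ _ hfp
  obtain ⟨π, hπs, hπp⟩ := (hpp.multiset_prod_mem_iff_exists_mem s).1 hsp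
  have hπ : Prime π := hs π hπs
  have hdvd : π ∣ f := (Multiset.dvd_prod hπs).trans hsf.dvd
  have hle : Ideal.span {π} ≤ p := (Ideal.span_le).2 (Set.singleton_subset_iff.2 hπp)
  refine ⟨π, le_antisymm ?_ hle⟩
  apply hp.2 ⟨Ideal.isPrime_span_singleton_of_prime hπ, ?_⟩ hle
  rw [Ideal.span_singleton_le_span_singleton]
  exact hdvd

/-- For a field k, n ≥ 2 and a nonzero homogeneous polynomial f of degree d ≥ 1 in n + 1 variables, the
hypersurface V_+(f) in projective n-space over k (as a subspace of Proj of the polynomial ring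
graded by degree) is connected and nonempty. -/
theorem result (k : Type u) [Field k] (n d : ℕ) (hn : 2 ≤ n)
    (f : MvPolynomial (Fin (n + 1)) k) (hf : f.IsHomogeneous d) (hd : 0 < d) (hf0 : f ≠ 0) :
    IsConnected (ProjectiveSpectrum.zeroLocus (CohB1.polyGrading n k)
      ({f} : Set (MvPolynomial (Fin (n + 1)) k))) := by
  have hfc : constantCoeff f = 0 := by
    rw [constantCoeff_eq]
    apply hf.coeff_eq_zero
    have : (0 : Fin (n + 1) →₀ ℕ).degree = 0 := by simp
    omega
  have hJf : (Ideal.span ({f, f} : Set (MvPolynomial (Fin (n + 1)) k))).IsHomogeneous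
      (CohB1.polyGrading n k) := by
    apply Ideal.homogeneous_span
    intro x hx
    simp only [Set.mem_insert_iff, Set.mem_singleton_iff, or_self] at hx
    subst hx
    exact ⟨d, hf⟩
  have hJ1 : (Ideal.span ({f} : Set (MvPolynomial (Fin (n + 1)) k))).IsHomogeneous
      (CohB1.polyGrading n k) := by
    apply Ideal.homogeneous_span
    intro x hx
    rw [Set.mem_singleton_iff] at hx
    subst hx
    exact ⟨d, hf⟩
  refine ⟨?_, ?_⟩
  · obtain ⟨x, hx, -⟩ := exists_pt k n hn f f hJf hfc hfc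
    exact ⟨x, (mem_Z_iff k n f x).2 hx⟩
  · rw [isPreconnected_closed_iff]
    rintro t t' ht ht' hsub ⟨xa, hxaZ, hxat⟩ ⟨xb, hxbZ, hxbt'⟩
    have hfa : f ∈ xa.asHomogeneousIdeal.toIdeal := (mem_Z_iff k n f xa).1 hxaZ
    have hfb : f ∈ xb.asHomogeneousIdeal.toIdeal := (mem_Z_iff k n f xb).1 hxbZ
    have hspa : Ideal.span ({f} : Set (MvPolynomial (Fin (n + 1)) k)) ≤
        xa.asHomogeneousIdeal.toIdeal := (Ideal.span_le).2 (Set.singleton_subset_iff.2 hfa)
    have hspb : Ideal.span ({f} : Set (MvPolynomial (Fin (n + 1)) k)) ≤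
        xb.asHomogeneousIdeal.toIdeal := (Ideal.span_le).2 (Set.singleton_subset_iff.2 hfb)
    obtain ⟨p, hpmin, hpa⟩ := Ideal.exists_minimalPrimes_le hspa
    obtain ⟨q, hqmin, hqb⟩ := Ideal.exists_minimalPrimes_le hspb
    have hph := isHomogeneous_of_mem_minimalPrimes k n _ p hJ1 hpmin
    have hqh := isHomogeneous_of_mem_minimalPrimes k n _ q hJ1 hqmin
    haveI hpp : p.IsPrime := hpmin.1.1
    haveI hqp : q.IsPrime := hqmin.1.1
    have hpirr : ¬ (HomogeneousIdeal.irrelevant (CohB1.polyGrading n k)).toIdeal ≤ p :=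
      fun h => xa.not_irrelevant_le (fun x hx => hpa (h hx))
    have hqirr : ¬ (HomogeneousIdeal.irrelevant (CohB1.polyGrading n k)).toIdeal ≤ q :=
      fun h => xb.not_irrelevant_le (fun x hx => hqb (h hx))
    have hfp : f ∈ p := hpmin.1.2 (Ideal.subset_span rfl)
    have hfq : f ∈ q := hqmin.1.2 (Ideal.subset_span rfl)
    obtain ⟨ya, hya⟩ : ∃ ya : ProjectiveSpectrum (CohB1.polyGrading n k),
        ya.asHomogeneousIdeal.toIdeal = p := ⟨mkPt k n p hpp hph hpirr, rfl⟩
    obtain ⟨yb, hyb⟩ : ∃ yb : ProjectiveSpectrum (CohB1.polyGrading n k),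
        yb.asHomogeneousIdeal.toIdeal = q := ⟨mkPt k n q hqp hqh hqirr, rfl⟩
    have hyaZ : ya ∈ ProjectiveSpectrum.zeroLocus (CohB1.polyGrading n k)
        ({f} : Set (MvPolynomial (Fin (n + 1)) k)) := (mem_Z_iff k n f ya).2 (by rw [hya]; exact hfp)
    have hybZ : yb ∈ ProjectiveSpectrum.zeroLocus (CohB1.polyGrading n k)
        ({f} : Set (MvPolynomial (Fin (n + 1)) k)) := (mem_Z_iff k n f yb).2 (by rw [hyb]; exact hfq)
    have hcl : ∀ (y x : ProjectiveSpectrum (CohB1.polyGrading n k))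
        (s : Set (ProjectiveSpectrum (CohB1.polyGrading n k))), IsClosed s → y ∈ s → y ≤ x →
        x ∈ s := by
      intro y x s hs hy hyx
      have hx : x ∈ closure ({y} : Set (ProjectiveSpectrum (CohB1.polyGrading n k))) :=
        (ProjectiveSpectrum.le_iff_mem_closure _ y x).1 hyx
      exact (closure_minimal (Set.singleton_subset_iff.2 hy) hs) hx
    have hya_le : ya ≤ xa := by
      intro x hx
      have hx' : x ∈ ya.asHomogeneousIdeal.toIdeal := hx
      rw [hya] at hx'
      exact hpa hx'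
    have hyb_le : yb ≤ xb := by
      intro x hx
      have hx' : x ∈ yb.asHomogeneousIdeal.toIdeal := hx
      rw [hyb] at hx'
      exact hqb hx'
    rcases hsub hyaZ with hyat | hyat'
    swap
    · exact ⟨xa, hxaZ, hxat, hcl ya xa t' ht' hyat' hya_le⟩
    rcases hsub hybZ with hybt | hybt'
    · exact ⟨xb, hxbZ, hcl yb xb t ht hybt hyb_le, hxbt'⟩
    obtain ⟨πa, hπa⟩ := principal_of_minimal k n f hf0 p hpmin
    obtain ⟨πb, hπb⟩ := principal_of_minimal k n f hf0 q hqmin
    have hJ2 : (Ideal.span ({πa, πb} : Set (MvPolynomial (Fin (n + 1)) k))).IsHomogeneous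
        (CohB1.polyGrading n k) := by
      have hsp : Ideal.span ({πa, πb} : Set (MvPolynomial (Fin (n + 1)) k)) = p ⊔ q := by
        rw [Set.insert_eq, Ideal.span_union, ← hπa, ← hπb]
      rw [hsp]
      exact hph.sup hqh
    have hπap : πa ∈ p := by rw [hπa]; exact Ideal.mem_span_singleton_self _
    have hπbq : πb ∈ q := by rw [hπb]; exact Ideal.mem_span_singleton_self _
    have hca : constantCoeff πa = 0 :=
      constantCoeff_eq_zero_of_mem k n p hph hpp.ne_top πa hπap
    have hcb : constantCoeff πb = 0 :=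
      constantCoeff_eq_zero_of_mem k n q hqh hqp.ne_top πb hπbq
    obtain ⟨z, hza, hzb⟩ := exists_pt k n hn πa πb hJ2 hca hcb
    have hya_z : ya ≤ z := by
      intro x hx
      have hx' : x ∈ ya.asHomogeneousIdeal.toIdeal := hx
      rw [hya, hπa, Ideal.mem_span_singleton] at hx'
      obtain ⟨c, rfl⟩ := hx'
      exact Ideal.mul_mem_right _ _ hza
    have hyb_z : yb ≤ z := by
      intro x hx
      have hx' : x ∈ yb.asHomogeneousIdeal.toIdeal := hx
      rw [hyb, hπb, Ideal.mem_span_singleton] at hx'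
      obtain ⟨c, rfl⟩ := hx'
      exact Ideal.mul_mem_right _ _ hzb
    refine ⟨z, ?_, hcl ya z t ht hyat hya_z, hcl yb z t' ht' hybt' hyb_z⟩
    apply (mem_Z_iff k n f z).2
    have h1 : f ∈ ya.asHomogeneousIdeal.toIdeal := by rw [hya]; exact hfp
    exact hya_z h1

end Groth.Agent.S10820
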