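import Groth.Statements.S10821
import Groth.Agent.Lib.Lead.ProjTop

set_option autoImplicit false
universe u
open AlgebraicGeometry Topology TopologicalSpace
open Variety

namespace Groth.Agent.S10821

open MvPolynomial Groth.Agent.Lib.Lead.ProjTop

/-- For a field k and an irreducible closed subset Z of projective n-space over k, Z has codimension 1
(the longest chain of irreducible closed subsets strictly above Z has length 1) if and only if Z is
the zero set V_+(f) of an irreducible homogeneous polynomial f in n + 1 variables. -/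
theorem result (k : Type u) [Field k] (n : ℕ)
    (Z : TopologicalSpace.IrreducibleCloseds (ProjectiveSpectrum (CohB1.polyGrading n k))) :
    Order.coheight Z = 1 ↔
      ∃ (d : ℕ) (f : MvPolynomial (Fin (n + 1)) k), f.IsHomogeneous d ∧ Irreducible f ∧
        (Z : Set (ProjectiveSpectrum (CohB1.polyGrading n k))) =
          ProjectiveSpectrum.zeroLocus (CohB1.polyGrading n k) ({f} : Set (MvPolynomial (Fin (n + 1)) k)) := by
  classical
  obtain ⟨x, hx⟩ := exists_generic k n (Z : Set (PS k n)) Z.isClosed Z.isIrreducible
  rw [coheight_irreducibleCloseds k n Z x hx]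
  constructor
  · intro hh
    have hne : x.asHomogeneousIdeal.toIdeal ≠ ⊥ := by
      intro h0
      have hmin : IsMin x := by
        intro y _
        intro a ha
        have ha' : a ∈ x.asHomogeneousIdeal.toIdeal := ha
        rw [h0, Ideal.mem_bot] at ha'
        rw [ha']
        exact zero_mem _
      rw [Order.height_eq_zero.2 hmin] at hh
      exact zero_ne_one hh
    obtain ⟨a, hax, ha0⟩ := Submodule.exists_mem_ne_zero_of_ne_bot hne
    have hex : ∃ j, homogeneousComponent j a ≠ 0 := by
      by_contra hcon
      push Not at hcon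
      apply ha0
      rw [← sum_homogeneousComponent a]
      exact Finset.sum_eq_zero (fun j _ => hcon j)
    obtain ⟨j, hj⟩ := hex
    obtain ⟨b, hb⟩ : ∃ b : SR k n, b = homogeneousComponent j a := ⟨_, rfl⟩
    rw [← hb] at hj
    have hbx : b ∈ x.asHomogeneousIdeal.toIdeal := by
      have h0 : ((DirectSum.decompose (CohB1.polyGrading n k) a) j : SR k n) ∈
          x.asHomogeneousIdeal.toIdeal := x.asHomogeneousIdeal.isHomogeneous j hax
      rw [decompose_eq, ← hb] at h0
      exact h0
    have hbh : b.IsHomogeneous j := by rw [hb]; exact homogeneousComponent_isHomogeneous j a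
    obtain ⟨s, hs, hsb⟩ := UniqueFactorizationMonoid.exists_prime_factors b hj
    obtain ⟨u, hu⟩ := hsb.symm
    have hsp : s.prod ∈ x.asHomogeneousIdeal.toIdeal := by
      rw [← hu]; exact Ideal.mul_mem_right _ _ hbx
    obtain ⟨π, hπs, hπx⟩ := (x.isPrime.multiset_prod_mem_iff_exists_mem s).1 hsp
    have hπ : Prime π := hs π hπs
    have hπb : π ∣ b := (Multiset.dvd_prod hπs).trans hsb.dvd
    have hmin := span_prime_mem_minimalPrimes k n b π hj hπ hπb
    have hJ1 : (Ideal.span ({b} : Set (SR k n))).IsHomogeneous (CohB1.polyGrading n k) := by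
      apply Ideal.homogeneous_span
      intro c hc
      rw [Set.mem_singleton_iff] at hc
      subst hc
      exact ⟨j, hbh⟩
    have hPh := isHomogeneous_of_mem_minimalPrimes k n _ _ hJ1 hmin
    have hPp : (Ideal.span ({π} : Set (SR k n))).IsPrime := hmin.1.1
    have hle : Ideal.span ({π} : Set (SR k n)) ≤ x.asHomogeneousIdeal.toIdeal :=
      (Ideal.span_le).2 (Set.singleton_subset_iff.2 hπx)
    have hirr : ¬ (HomogeneousIdeal.irrelevant (CohB1.polyGrading n k)).toIdeal ≤
        Ideal.span ({π} : Set (SR k n)) :=
      fun h => x.not_irrelevant_le (fun c hc => hle (h hc))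
    obtain ⟨x', hx'⟩ := exists_pt_of_prime k n _ hPp hPh hirr
    have hx'x : x' ≤ x := by
      intro c hc
      have hc' : c ∈ x'.asHomogeneousIdeal.toIdeal := hc
      rw [hx'] at hc'
      exact hle hc'
    have hbot : botPt k n < x' := by
      refine lt_of_le_not_ge (botPt_le k n x') (fun h => ?_)
      have h1 : π ∈ x'.asHomogeneousIdeal.toIdeal := by
        rw [hx']; exact Ideal.mem_span_singleton_self π
      have h3 : π ∈ (⊥ : Ideal (SR k n)) := h h1
      exact hπ.ne_zero ((Ideal.mem_bot).1 h3)
    have hxx' : x' = x := by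
      by_contra hne'
      have hlt : x' < x := lt_of_le_of_ne hx'x hne'
      have h1 := Order.height_add_one_le hbot
      have h2 := Order.height_add_one_le hlt
      rw [hh] at h2
      have h3 : (1 : ℕ∞) ≤ Order.height x' := le_trans le_add_self h1
      have h4 : (1 : ℕ∞) + 1 ≤ 1 := le_trans (by gcongr) h2
      have h5 : ((1 + 1 : ℕ) : ℕ∞) ≤ ((1 : ℕ) : ℕ∞) := by exact_mod_cast h4
      have h6 := Nat.cast_le.1 h5
      omega
    have hxI : x.asHomogeneousIdeal.toIdeal = Ideal.span ({π} : Set (SR k n)) := by
      rw [← hxx', hx']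
    refine ⟨π.totalDegree, π, isHomogeneous_of_span k n π hπ.ne_zero hPh, hπ.irreducible, ?_⟩
    rw [← hx]
    ext y
    rw [mem_closure_singleton_iff, mem_zeroLocus_iff]
    constructor
    · intro hxy
      rw [← hxI]
      exact fun c hc => hxy hc
    · intro h c hc
      have hc' : c ∈ x.asHomogeneousIdeal.toIdeal := hc
      rw [hxI] at hc'
      exact h hc'
  · rintro ⟨d, f, hfh, hfirr, hZf⟩
    have hπ : Prime f := UniqueFactorizationMonoid.irreducible_iff_prime.1 hfirr
    have hPp : (Ideal.span ({f} : Set (SR k n))).IsPrime :=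
      Ideal.isPrime_span_singleton_of_prime hπ
    have hPh : (Ideal.span ({f} : Set (SR k n))).IsHomogeneous (CohB1.polyGrading n k) := by
      apply Ideal.homogeneous_span
      intro c hc
      rw [Set.mem_singleton_iff] at hc
      subst hc
      exact ⟨d, hfh⟩
    have hxZ : x ∈ (Z : Set (PS k n)) := by rw [← hx]; exact subset_closure rfl
    rw [hZf, mem_zeroLocus_iff] at hxZ
    have hirr : ¬ (HomogeneousIdeal.irrelevant (CohB1.polyGrading n k)).toIdeal ≤
        Ideal.span ({f} : Set (SR k n)) :=
      fun h => x.not_irrelevant_le (fun c hc => hxZ (h hc))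
    obtain ⟨x', hx'⟩ := exists_pt_of_prime k n _ hPp hPh hirr
    have hx'Z : x' ∈ (Z : Set (PS k n)) := by
      rw [hZf, mem_zeroLocus_iff, hx']
    have h1 : x ≤ x' := by
      rw [← hx] at hx'Z
      exact (mem_closure_singleton_iff k n x x').1 hx'Z
    have h2 : x' ≤ x := by
      intro c hc
      have hc' : c ∈ x'.asHomogeneousIdeal.toIdeal := hc
      rw [hx'] at hc'
      exact hxZ hc'
    have hxx : x = x' := le_antisymm h1 h2
    apply le_antisymm
    · have h3 := Order.height_le_height_apply_of_strictMono (pr k n) (pr_strictMono k n) x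
      rw [← PrimeSpectrum.height_eq_orderHeight] at h3
      have h4 : (pr k n x).asIdeal = Ideal.span ({f} : Set (SR k n)) := by
        rw [hxx]; exact hx'
      rw [h4] at h3
      exact h3.trans (Ideal.height_span_singleton_le_one hπ.not_unit)
    · have hbot : botPt k n < x := by
        refine lt_of_le_not_ge (botPt_le k n x) (fun h => ?_)
        have h5 : f ∈ x.asHomogeneousIdeal.toIdeal := hxZ (Ideal.mem_span_singleton_self f)
        have h3 : f ∈ (⊥ : Ideal (SR k n)) := h h5
        exact hπ.ne_zero ((Ideal.mem_bot).1 h3)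
      exact le_trans le_add_self (Order.height_add_one_le hbot)

end Groth.Agent.S10821
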