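import Groth.Statements.S10822
import Groth.Agent.Lib.Lead.ProjTop2

set_option autoImplicit false
universe u
open AlgebraicGeometry Topology TopologicalSpace
open Variety

namespace Groth.Agent.S10822

open MvPolynomial Groth.Agent.Lib.Lead.ProjTop

/-- Let k be a field, X an irreducible closed subset of projective n-space over k of positive dimension,
and f a homogeneous polynomial in n + 1 variables whose zero set V_+(f) is nonempty and does not
contain X. Then X meets V_+(f), and every irreducible component C of X ∩ V_+(f) has dim C + 1 = dim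
X, i.e. codimension 1 in X (all maximal chains of irreducible closed subsets of X have length dim
X). -/
theorem result (k : Type u) [Field k] (n d : ℕ)
    (X : Set (ProjectiveSpectrum (CohB1.polyGrading n k))) (hXc : IsClosed X) (hXi : IsIrreducible X)
    (hXd : 0 < topologicalKrullDim ↥X)
    (f : MvPolynomial (Fin (n + 1)) k) (hf : f.IsHomogeneous d)
    (hV : (ProjectiveSpectrum.zeroLocus (CohB1.polyGrading n k)
      ({f} : Set (MvPolynomial (Fin (n + 1)) k))).Nonempty)
    (hX : ¬ X ⊆ ProjectiveSpectrum.zeroLocus (CohB1.polyGrading n k)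
      ({f} : Set (MvPolynomial (Fin (n + 1)) k))) :
    (X ∩ ProjectiveSpectrum.zeroLocus (CohB1.polyGrading n k)
        ({f} : Set (MvPolynomial (Fin (n + 1)) k))).Nonempty ∧
      ∀ C ∈ irreducibleComponents ↥(X ∩ ProjectiveSpectrum.zeroLocus (CohB1.polyGrading n k)
          ({f} : Set (MvPolynomial (Fin (n + 1)) k))),
        topologicalKrullDim ↥C + 1 = topologicalKrullDim ↥X := by
  classical
  obtain ⟨x0, hx0⟩ := exists_generic k n X hXc hXi
  have hdimX := topDim_irreducible k n X x0 hx0
  have hXeq : X = Set.Ici x0 := by rw [← hx0, closure_singleton_eq]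
  subst hXeq
  obtain ⟨c0, hc0, hdP⟩ := coheight_spec k n x0
  rw [hdimX, hc0] at hXd
  have hc0pos : 1 ≤ c0 := by
    have h1 : 0 < c0 := by exact_mod_cast hXd
    omega
  have hfP : f ∉ x0.asHomogeneousIdeal.toIdeal := by
    intro h
    apply hX
    intro y hy
    rw [mem_zeroLocus_iff, Ideal.span_le, Set.singleton_subset_iff]
    exact hy h
  have hfc : constantCoeff f = 0 := by
    obtain ⟨y0, hy0⟩ := hV
    have h1 : f ∈ y0.asHomogeneousIdeal.toIdeal :=
      (mem_zeroLocus_iff k n {f} y0).1 hy0 (Ideal.subset_span rfl)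
    exact constantCoeff_eq_zero_of_mem k n _ y0.asHomogeneousIdeal.isHomogeneous
      y0.isPrime.ne_top f h1
  have hsh : (Ideal.span ({f} : Set (SR k n))).IsHomogeneous (CohB1.polyGrading n k) := by
    apply Ideal.homogeneous_span
    intro a ha
    rw [Set.mem_singleton_iff] at ha
    subst ha
    exact ⟨d, hf⟩
  have hWc : IsClosed (Set.Ici x0 ∩ ProjectiveSpectrum.zeroLocus (CohB1.polyGrading n k)
      ({f} : Set (MvPolynomial (Fin (n + 1)) k))) :=
    hXc.inter (ProjectiveSpectrum.isClosed_zeroLocus _ _)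
  -- bookkeeping for a minimal prime over `(f) + P`
  have key : ∀ Q : Ideal (SR k n), Q ∈ (Ideal.span ({f} : Set (SR k n)) ⊔
      x0.asHomogeneousIdeal.toIdeal).minimalPrimes →
      ringKrullDim (SR k n ⧸ Q) = ((c0 : ℕ) : WithBot ℕ∞) := by
    intro Q hQmin
    obtain ⟨m, c, hcQ, hcP, hm1, hmpos⟩ := quot_dims k n x0.asHomogeneousIdeal.toIdeal Q
      ({f} : Set (SR k n)) (Set.finite_singleton _) hQmin
    have hfQ : f ∈ Q := hQmin.1.2 (le_sup_left (a := Ideal.span ({f} : Set (SR k n)))
      (Ideal.subset_span rfl))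
    have hne : Q ≠ x0.asHomogeneousIdeal.toIdeal := by
      intro h
      rw [h] at hfQ
      exact hfP hfQ
    have hm1' : m ≤ 1 := by rwa [Set.ncard_singleton] at hm1
    have hmeq : m = 1 := le_antisymm hm1' (hmpos hne)
    rw [hdP, hmeq] at hcP
    have h1 : c0 + 1 = 1 + c := by exact_mod_cast hcP
    rw [hcQ]
    have : c = c0 := by omega
    rw [this]
  refine ⟨?_, ?_⟩
  · have hJle : Ideal.span ({f} : Set (SR k n)) ⊔ x0.asHomogeneousIdeal.toIdeal ≤
        (mIrr k n).asIdeal := by
      refine sup_le ?_ (pr_lt k n x0).le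
      rw [Ideal.span_le, Set.singleton_subset_iff]
      exact (RingHom.mem_ker).2 hfc
    haveI : (mIrr k n).asIdeal.IsPrime := (mIrr k n).isPrime
    obtain ⟨Q, hQmin, -⟩ := Ideal.exists_minimalPrimes_le hJle
    haveI hQp : Q.IsPrime := hQmin.1.1
    have hQdim := key Q hQmin
    have hQh : Q.IsHomogeneous (CohB1.polyGrading n k) :=
      isHomogeneous_of_mem_minimalPrimes k n _ Q
        (hsh.sup x0.asHomogeneousIdeal.isHomogeneous) hQmin
    have hQne : ringKrullDim (SR k n ⧸ Q) ≠ 0 := by
      rw [hQdim]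
      have : c0 ≠ 0 := by omega
      exact_mod_cast this
    obtain ⟨y, hy⟩ := exists_pt_of_prime k n Q hQp hQh (not_irr_le_of_dim k n Q hQne)
    refine ⟨y, ?_, ?_⟩
    · intro a ha
      show a ∈ y.asHomogeneousIdeal.toIdeal
      rw [hy]
      exact hQmin.1.2 (le_sup_right (a := Ideal.span ({f} : Set (SR k n))) ha)
    · rw [mem_zeroLocus_iff, hy]
      exact le_sup_left.trans hQmin.1.2
  · intro C hC
    obtain ⟨y, hyW, hymin, hdimC⟩ := component_data k n _ hWc C hC
    have hQ := minimal_point_ideal k n x0 ({f} : Set (SR k n)) hsh y hyW hymin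
    have hQdim := key _ hQ
    obtain ⟨c, hcy, hdy⟩ := coheight_spec k n y
    rw [hdy] at hQdim
    have h1 : c + 1 = c0 := by exact_mod_cast hQdim
    rw [hdimC, hdimX, hcy, hc0]
    exact_mod_cast h1

end Groth.Agent.S10822
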