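import Groth.Statements.S10823
import Groth.Agent.Lib.Lead.ProjTop2

set_option autoImplicit false
universe u
open AlgebraicGeometry Topology TopologicalSpace
open Variety

namespace Groth.Agent.S10823

open MvPolynomial Groth.Agent.Lib.Lead.ProjTop

/-- Let k be a field, X an irreducible closed subset of projective n-space over k, and f_1, …, f_r
nonzero homogeneous polynomials of positive degrees in n + 1 variables. Then every irreducible
component C of X ∩ V_+(f_1, …, f_r) has codimension at most r in X, i.e. dim X ≤ dim C + r, and if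
dim X ≥ r the intersection is nonempty. -/
theorem result (k : Type u) [Field k] (n r : ℕ)
    (X : Set (ProjectiveSpectrum (CohB1.polyGrading n k))) (hXc : IsClosed X) (hXi : IsIrreducible X)
    (f : Fin r → MvPolynomial (Fin (n + 1)) k) (d : Fin r → ℕ)
    (hf : ∀ i, (f i).IsHomogeneous (d i)) (hd : ∀ i, 0 < d i) (hf0 : ∀ i, f i ≠ 0) :
    (∀ C ∈ irreducibleComponents ↥(X ∩ ProjectiveSpectrum.zeroLocus (CohB1.polyGrading n k) (Set.range f)),
        topologicalKrullDim ↥X ≤ topologicalKrullDim ↥C + (r : WithBot ℕ∞)) ∧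
      ((r : WithBot ℕ∞) ≤ topologicalKrullDim ↥X →
        (X ∩ ProjectiveSpectrum.zeroLocus (CohB1.polyGrading n k) (Set.range f)).Nonempty) := by
  classical
  obtain ⟨x0, hx0⟩ := exists_generic k n X hXc hXi
  have hdimX := topDim_irreducible k n X x0 hx0
  have hXeq : X = Set.Ici x0 := by rw [← hx0, closure_singleton_eq]
  subst hXeq
  obtain ⟨c0, hc0, hdP⟩ := coheight_spec k n x0
  have hfin : (Set.range f).Finite := Set.finite_range f
  have hcard : (Set.range f).ncard ≤ r := by
    have h1 : (Set.range f).ncard ≤ (Set.univ : Set (Fin r)).ncard := by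
      rw [← Set.image_univ]
      exact Set.ncard_image_le Set.finite_univ
    rw [Set.ncard_univ, Nat.card_fin] at h1
    exact h1
  have hsh : (Ideal.span (Set.range f)).IsHomogeneous (CohB1.polyGrading n k) := by
    apply Ideal.homogeneous_span
    rintro a ⟨i, rfl⟩
    exact ⟨d i, hf i⟩
  have hfc : ∀ i, constantCoeff (f i) = 0 := by
    intro i
    rw [constantCoeff_eq]
    apply (hf i).coeff_eq_zero
    have h0 : (0 : Fin (n + 1) →₀ ℕ).degree = 0 := by simp
    have := hd i
    omega
  have hWc : IsClosed (Set.Ici x0 ∩ ProjectiveSpectrum.zeroLocus (CohB1.polyGrading n k)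
      (Set.range f)) :=
    hXc.inter (ProjectiveSpectrum.isClosed_zeroLocus _ _)
  have key : ∀ Q : Ideal (SR k n), Q ∈ (Ideal.span (Set.range f) ⊔
      x0.asHomogeneousIdeal.toIdeal).minimalPrimes →
      ∃ m c : ℕ, ringKrullDim (SR k n ⧸ Q) = ((c : ℕ) : WithBot ℕ∞) ∧ c0 + 1 = m + c ∧ m ≤ r := by
    intro Q hQmin
    obtain ⟨m, c, hcQ, hcP, hm1, -⟩ := quot_dims k n x0.asHomogeneousIdeal.toIdeal Q
      (Set.range f) hfin hQmin
    rw [hdP] at hcP
    have h1 : c0 + 1 = m + c := by exact_mod_cast hcP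
    exact ⟨m, c, hcQ, h1, hm1.trans hcard⟩
  refine ⟨?_, ?_⟩
  · intro C hC
    obtain ⟨y, hyW, hymin, hdimC⟩ := component_data k n _ hWc C hC
    have hQ := minimal_point_ideal k n x0 (Set.range f) hsh y hyW hymin
    obtain ⟨m, c', hcQ, hsum, hmr⟩ := key _ hQ
    obtain ⟨c, hcy, hdy⟩ := coheight_spec k n y
    rw [hdy] at hcQ
    have h1 : c + 1 = c' := by exact_mod_cast hcQ
    rw [hdimC, hdimX, hcy, hc0]
    have h2 : c0 ≤ c + r := by omega
    exact_mod_cast h2
  · intro hr
    rw [hdimX, hc0] at hr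
    have hr' : r ≤ c0 := by exact_mod_cast hr
    have hJle : Ideal.span (Set.range f) ⊔ x0.asHomogeneousIdeal.toIdeal ≤
        (mIrr k n).asIdeal := by
      refine sup_le ?_ (pr_lt k n x0).le
      rw [Ideal.span_le]
      rintro a ⟨i, rfl⟩
      exact (RingHom.mem_ker).2 (hfc i)
    haveI : (mIrr k n).asIdeal.IsPrime := (mIrr k n).isPrime
    obtain ⟨Q, hQmin, -⟩ := Ideal.exists_minimalPrimes_le hJle
    haveI hQp : Q.IsPrime := hQmin.1.1
    obtain ⟨m, c', hcQ, hsum, hmr⟩ := key Q hQmin
    have hQh : Q.IsHomogeneous (CohB1.polyGrading n k) :=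
      isHomogeneous_of_mem_minimalPrimes k n _ Q
        (hsh.sup x0.asHomogeneousIdeal.isHomogeneous) hQmin
    have hQne : ringKrullDim (SR k n ⧸ Q) ≠ 0 := by
      rw [hcQ]
      have : c' ≠ 0 := by omega
      exact_mod_cast this
    obtain ⟨y, hy⟩ := exists_pt_of_prime k n Q hQp hQh (not_irr_le_of_dim k n Q hQne)
    refine ⟨y, ?_, ?_⟩
    · intro a ha
      show a ∈ y.asHomogeneousIdeal.toIdeal
      rw [hy]
      exact hQmin.1.2 (le_sup_right (a := Ideal.span (Set.range f)) ha)
    · rw [mem_zeroLocus_iff, hy]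
      exact le_sup_left.trans hQmin.1.2

end Groth.Agent.S10823
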