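import Groth.Statements.S10824
import Groth.Agent.Lib.Helper22.Bezout2

set_option autoImplicit false
universe u
open Variety

namespace Groth.Agent.S10824

open MvPolynomial Groth.Agent.Lib.Helper22.Bezout Groth.Agent.Lib.Helper22.GrSamuel

/-- Let k be a field, S the polynomial ring in three variables over k with degree-d part S_d, and f, g
nonzero homogeneous polynomials of positive degrees n and m with no common non-unit factor. Then for
every d ≥ n + m the degree-d part of S/(f, g), namely S_d modulo its intersection with the ideal (f,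
g), has dimension n·m over k. -/
theorem result (k : Type u) [Field k] (n m d : ℕ)
    (f g : MvPolynomial (Fin 3) k) (hf : f.IsHomogeneous n) (hg : g.IsHomogeneous m)
    (hn : 0 < n) (hm : 0 < m) (hf0 : f ≠ 0) (hg0 : g ≠ 0) (hfg : IsRelPrime f g) (hd : n + m ≤ d) :
    Module.finrank k
        (↥(MvPolynomial.homogeneousSubmodule (Fin 3) k d) ⧸
          Submodule.comap (MvPolynomial.homogeneousSubmodule (Fin 3) k d).subtype
            ((Ideal.span ({f, g} : Set (MvPolynomial (Fin 3) k))).restrictScalars k)) = n * m := by
  classical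
  set I : Ideal (PR k 3) := Ideal.span ({f, g} : Set (PR k 3)) with hI
  set F : Fin 2 → PR k 3 := ![f, g] with hF
  set dd : Fin 2 → ℕ := ![n, m] with hdd
  have hrange : Ideal.span (Set.range F) = I := by
    rw [hI, hF]
    congr 1
    ext x
    simp [eq_comm]
    exact or_comm
  have hht : ((2 : ℕ) : ℕ∞) ≤ (Ideal.span (Set.range F)).height := by
    rw [hrange]
    exact_mod_cast two_le_height_of_isRelPrime hfg
  have hd1 : ∀ i, 1 ≤ dd i := by
    intro i
    fin_cases i
    · exact hn
    · exact hm
  have hFh : ∀ i, (F i).IsHomogeneous (dd i) := by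
    intro i
    fin_cases i
    · exact hf
    · exact hg
  have hsum : ∑ j ∈ Finset.range 2, dext 2 dd j = n + m := by
    rw [Finset.sum_range_succ, Finset.sum_range_one, dext_of_lt 2 dd 0 (by norm_num),
      dext_of_lt 2 dd 1 (by norm_num)]
    rfl
  have h := hilbert_eq (n := 2) hd1 hFh hht 2 le_rfl d (by rw [hsum]; exact hd)
  rw [Ipart_top, Qp_top_eval 2 (dext 2 dd) (dext_pos 2 dd hd1), hrange] at h
  have hprod : ∏ j ∈ Finset.range 2, (dext 2 dd j : ℚ) = ((n * m : ℕ) : ℚ) := by
    rw [Finset.prod_range_succ, Finset.prod_range_one, dext_of_lt 2 dd 0 (by norm_num),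
      dext_of_lt 2 dd 1 (by norm_num)]
    push_cast
    rfl
  rw [hprod] at h
  have h' : (Module.finrank k ↥(homogeneousSubmodule (Fin 3) k d) : ℚ) -
      (Module.finrank k ↥(piece (N := 3) I d) : ℚ) = ((n * m : ℕ) : ℚ) := h
  have hq := Submodule.finrank_quotient_add_finrank (R := k)
    (Submodule.comap (homogeneousSubmodule (Fin 3) k d).subtype (I.restrictScalars k))
  have hcomap : Submodule.comap (homogeneousSubmodule (Fin 3) k d).subtype (I.restrictScalars k) =
      Submodule.comap (homogeneousSubmodule (Fin 3) k d).subtype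
        (I.restrictScalars k ⊓ homogeneousSubmodule (Fin 3) k d) := by
    rw [Submodule.comap_inf, Submodule.comap_subtype_self, inf_top_eq]
  have he : Module.finrank k ↥(Submodule.comap (homogeneousSubmodule (Fin 3) k d).subtype
      (I.restrictScalars k)) = Module.finrank k ↥(piece (N := 3) I d) := by
    rw [hcomap]
    exact (Submodule.comapSubtypeEquivOfLe
      (inf_le_right : I.restrictScalars k ⊓ homogeneousSubmodule (Fin 3) k d ≤ _)).finrank_eq
  have hqQ : (Module.finrank k (↥(homogeneousSubmodule (Fin 3) k d) ⧸
      Submodule.comap (homogeneousSubmodule (Fin 3) k d).subtype (I.restrictScalars k)) : ℚ) +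
      (Module.finrank k ↥(Submodule.comap (homogeneousSubmodule (Fin 3) k d).subtype
      (I.restrictScalars k)) : ℚ) = (Module.finrank k ↥(homogeneousSubmodule (Fin 3) k d) : ℚ) := by
    exact_mod_cast hq
  have heQ : (Module.finrank k ↥(Submodule.comap (homogeneousSubmodule (Fin 3) k d).subtype
      (I.restrictScalars k)) : ℚ) = (Module.finrank k ↥(piece (N := 3) I d) : ℚ) := by
    exact_mod_cast he
  have hfin : (Module.finrank k (↥(homogeneousSubmodule (Fin 3) k d) ⧸
      Submodule.comap (homogeneousSubmodule (Fin 3) k d).subtype (I.restrictScalars k)) : ℚ) =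
      ((n * m : ℕ) : ℚ) := by linarith
  exact_mod_cast hfin

end Groth.Agent.S10824
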