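import Groth.Statements.S10825
import Mathlib
import Groth.Agent.Lib.Helper12.IntegralDim
-- import your own Groth.Agent.* helpers here

set_option autoImplicit false
universe u
open Topology
open CAlg

namespace Groth.Agent.S10825

open Function Polynomial IntermediateField

/-- The topological Krull dimension of a zero locus is the Krull dimension of the quotient. -/
theorem topologicalKrullDim_zeroLocus {R : Type*} [CommRing R] (I : Ideal R) :
    topologicalKrullDim ↥(PrimeSpectrum.zeroLocus (I : Set R)) = ringKrullDim (R ⧸ I) := by
  rw [← PrimeSpectrum.topologicalKrullDim_eq_ringKrullDim]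
  have hemb := (PrimeSpectrum.isClosedEmbedding_comap_of_surjective (R ⧸ I) (Ideal.Quotient.mk I)
    Ideal.Quotient.mk_surjective).isEmbedding
  have hr : Set.range (PrimeSpectrum.comap (Ideal.Quotient.mk I)) =
      PrimeSpectrum.zeroLocus (I : Set R) := by
    rw [range_comap_of_surjective _ _ Ideal.Quotient.mk_surjective, Ideal.mk_ker]
  have h1 := IsHomeomorph.topologicalKrullDim_eq _ hemb.toHomeomorph.isHomeomorph
  have h2 := IsHomeomorph.topologicalKrullDim_eq _ (Homeomorph.setCongr hr).isHomeomorph
  rw [h1, h2]

/-- Let A → B be an injective integral homomorphism of integral domains with fraction fields K and L, L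
a finite extension of K, and A integrally closed. For b in B the norm N_{L/K}(b) lies in A; if a
denotes this element of A, then the image of the closed set V(b) of Spec B under Spec B → Spec A is
exactly V(a), and V(b) and V(a) have the same dimension. -/
theorem result
    (A B K L : Type u) [CommRing A] [IsDomain A] [CommRing B] [IsDomain B] [Algebra A B]
    [Field K] [Field L] [Algebra A K] [IsFractionRing A K] [Algebra B L] [IsFractionRing B L]
    [Algebra A L] [Algebra K L] [IsScalarTower A B L] [IsScalarTower A K L]
    [FiniteDimensional K L] [Algebra.IsIntegral A B] [IsIntegrallyClosed A]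
    (hinj : Function.Injective (algebraMap A B))
    (b : B) (a : A) (ha : algebraMap A K a = Algebra.norm K (algebraMap B L b)) :
    PrimeSpectrum.comap (algebraMap A B) '' PrimeSpectrum.zeroLocus ({b} : Set B) =
        PrimeSpectrum.zeroLocus ({a} : Set A) ∧
      topologicalKrullDim ↥(PrimeSpectrum.zeroLocus ({b} : Set B)) =
        topologicalKrullDim ↥(PrimeSpectrum.zeroLocus ({a} : Set A)) := by
  classical
  have hBL : Injective (algebraMap B L) := IsFractionRing.injective B L
  have hAK : Injective (algebraMap A K) := IsFractionRing.injective A K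
  have hβint : IsIntegral A (algebraMap B L b) :=
    (Algebra.IsIntegral.isIntegral (R := A) b).algebraMap
  have hKint : IsIntegral K (algebraMap B L b) := hβint.tower_top
  -- Step 1: `a` is a multiple of `b` in `B`.
  have hdiv : algebraMap A B a ∈ Ideal.span ({b} : Set B) := by
    have hmin : minpoly K (algebraMap B L b) =
        (minpoly A (algebraMap B L b)).map (algebraMap A K) :=
      minpoly.isIntegrallyClosed_eq_field_fractions' K hβint
    have hnorm := Algebra.norm_eq_norm_adjoin K (algebraMap B L b)
    have hgen := Algebra.PowerBasis.norm_gen_eq_coeff_zero_minpoly (adjoin.powerBasis hKint)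
    rw [adjoin.powerBasis_gen, minpoly_gen, hmin, coeff_map] at hgen
    rw [hgen] at hnorm
    have hpos : 0 < Module.finrank K⟮algebraMap B L b⟯ L := Module.finrank_pos
    have ha' : a = ((-1) ^ (adjoin.powerBasis hKint).dim *
        (minpoly A (algebraMap B L b)).coeff 0) ^ Module.finrank K⟮algebraMap B L b⟯ L := by
      apply hAK
      rw [ha, hnorm]
      simp
    have h0 : aeval b (minpoly A (algebraMap B L b)) = 0 := by
      apply hBL
      rw [map_zero, ← aeval_algebraMap_apply]
      exact minpoly.aeval A _
    have h1 := divX_mul_X_add (minpoly A (algebraMap B L b))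
    have h2 : aeval b (minpoly A (algebraMap B L b)).divX * b +
        algebraMap A B ((minpoly A (algebraMap B L b)).coeff 0) = 0 := by
      rw [← h0]
      conv_rhs => rw [← h1]
      simp
    have h3 : algebraMap A B ((minpoly A (algebraMap B L b)).coeff 0) ∈
        Ideal.span ({b} : Set B) := by
      rw [Ideal.mem_span_singleton']
      exact ⟨-aeval b (minpoly A (algebraMap B L b)).divX, by linear_combination -h2⟩
    rw [ha', map_pow, map_mul]
    exact Ideal.pow_mem_of_mem _ (Ideal.mul_mem_left _ _ h3) _ hpos
  -- Step 2: the contraction of `(b)` has the same radical as `(a)`.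
  have hJ : ∀ x : A, algebraMap A B x ∈ Ideal.span ({b} : Set B) →
      x ^ Module.finrank K L ∈ Ideal.span ({a} : Set A) := by
    intro x hx
    obtain ⟨c, hc⟩ := Ideal.mem_span_singleton'.1 hx
    have hγint : IsIntegral A (algebraMap B L c) :=
      (Algebra.IsIntegral.isIntegral (R := A) c).algebraMap
    have hNint : IsIntegral A (Algebra.norm K (algebraMap B L c)) :=
      Algebra.isIntegral_norm K hγint
    obtain ⟨a', ha'⟩ := IsIntegrallyClosed.algebraMap_eq_of_integral hNint
    have h1 : algebraMap K L (algebraMap A K x) = algebraMap B L c * algebraMap B L b := by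
      rw [← IsScalarTower.algebraMap_apply, IsScalarTower.algebraMap_apply A B L, ← hc, map_mul]
    have h2 := congrArg (Algebra.norm K) h1
    rw [Algebra.norm_algebraMap, map_mul, ← ha, ← ha', ← map_pow, ← map_mul] at h2
    have h3 := hAK h2
    rw [h3]
    exact Ideal.mem_span_singleton'.2 ⟨a', rfl⟩
  have hpos : 0 < Module.finrank K L := Module.finrank_pos
  -- Step 3: zero loci
  have hzero : PrimeSpectrum.zeroLocus ({a} : Set A) =
      PrimeSpectrum.zeroLocus (((Ideal.span ({b} : Set B)).comap (algebraMap A B) : Ideal A) :
        Set A) := by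
    ext P
    simp only [PrimeSpectrum.mem_zeroLocus, Set.singleton_subset_iff, SetLike.mem_coe]
    constructor
    · intro haP x hx
      have h1 : x ^ Module.finrank K L ∈ P.asIdeal :=
        ((Ideal.span_singleton_le_iff_mem _).2 haP) (hJ x hx)
      exact P.isPrime.mem_of_pow_mem _ h1
    · intro h
      exact h hdiv
  refine ⟨?_, ?_⟩
  · ext P
    constructor
    · rintro ⟨Q, hQ, rfl⟩
      rw [PrimeSpectrum.mem_zeroLocus, Set.singleton_subset_iff] at hQ ⊢
      have : algebraMap A B a ∈ Q.asIdeal :=
        ((Ideal.span_singleton_le_iff_mem _).2 hQ) hdiv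
      exact this
    · intro hP
      rw [hzero, PrimeSpectrum.mem_zeroLocus] at hP
      obtain ⟨Q, hQI, hQ, hQP⟩ := Ideal.exists_ideal_over_prime_of_isIntegral P.asIdeal
        (Ideal.span ({b} : Set B)) hP
      refine ⟨⟨Q, hQ⟩, ?_, PrimeSpectrum.ext hQP⟩
      rw [PrimeSpectrum.mem_zeroLocus, Set.singleton_subset_iff]
      exact hQI (Ideal.mem_span_singleton_self b)
  · have hb : PrimeSpectrum.zeroLocus ({b} : Set B) =
        PrimeSpectrum.zeroLocus ((Ideal.span ({b} : Set B) : Ideal B) : Set B) :=
      (PrimeSpectrum.zeroLocus_span _).symm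
    rw [IsHomeomorph.topologicalKrullDim_eq _ (Homeomorph.setCongr hb).isHomeomorph,
      IsHomeomorph.topologicalKrullDim_eq _ (Homeomorph.setCongr hzero).isHomeomorph,
      topologicalKrullDim_zeroLocus, topologicalKrullDim_zeroLocus]
    exact le_antisymm Groth.Agent.Lib.Helper12.ringKrullDim_le_of_isIntegral
      (Groth.Agent.Lib.Helper12.ringKrullDim_le_of_isIntegral_of_injective
        Ideal.algebraMap_quotient_injective)

end Groth.Agent.S10825
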