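import Groth.Statements.S4619
import Mathlib
import Groth.Agent.Lib.Helper11.SepFibre
import Groth.Agent.Lib.Helper11.GeomSep

set_option autoImplicit false
open CategoryTheory AlgebraicGeometry
universe u
open FBase

namespace Groth.Agent.S4619

open Groth.Agent.Lib.Helper11.FBaseLib Groth.Agent.Lib.Helper11.FBaseLib2
  Groth.Agent.Lib.Helper11.BcLevels Groth.Agent.Lib.Helper11.GeomSep
  Groth.Agent.Lib.Helper11.SepFibre

/-- general form: `k` separably closed in `κ(x)` and `X` connected imply geometrically connected -/
theorem geomConn_of_sepClosedIn {k : Type u} [Field k] {X : Scheme.{u}}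
    [ConnectedSpace X] (f : X ⟶ Spec (CommRingCat.of k)) (x : X) (φ : k →+* X.residueField x)
    (hφ : Spec.map (CommRingCat.ofHom φ) = X.fromSpecResidueField x ≫ f)
    (hsc : letI := φ.toAlgebra
      ∀ a : X.residueField x, IsSeparable k a → a ∈ Set.range (algebraMap k (X.residueField x))) :
    GeometricallyConnected f := by
  letI := φ.toAlgebra
  have hsub := fibre_subsingleton f x φ hφ (SeparableClosure k)
    (subsingleton_primeSpectrum_tensor hsc (SeparableClosure k))
  haveI : ConnectedSpace ↥(FBase.bc f (SeparableClosure k)) := by
    obtain ⟨y₀, hy₀⟩ := (FBase.bcπ f (SeparableClosure k)).surjective x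
    refine connectedSpace_iff_connectedComponent.mpr ⟨y₀, ?_⟩
    rw [Set.eq_univ_iff_forall]
    intro y
    obtain ⟨z, hz, hzx⟩ := exists_mem_connectedComponent_of_isAlgebraic f (SeparableClosure k) y x
    have hzy : z = y₀ := hsub hzx hy₀
    rw [hzy] at hz
    rw [← connectedComponent_eq hz]
    exact mem_connectedComponent
  exact geometricallyConnected_of_sepClosure f

/-- For a connected scheme: let X be a connected scheme over a field k and x a point of X whose residue
field κ(x) is a primary extension of k, i.e. the separable algebraic closure of k in κ(x) is k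
itself (this holds in particular when x is a k-rational point). Then X is geometrically connected
over k. (The published statement concerns the connected component of x in an arbitrary scheme over
k; this row takes X connected.) -/
theorem result {k : Type u} [Field k] {X : Scheme.{u}}
    [ConnectedSpace X] (f : X ⟶ Spec (CommRingCat.of k)) (x : X)
    (hx : FBase.ResidueFieldProp f x (fun K _ _ => separableClosure k K = ⊥)) :
    GeometricallyConnected f := by

  obtain ⟨φ, hφ, hP⟩ := hx
  refine geomConn_of_sepClosedIn f x φ hφ ?_
  letI := φ.toAlgebra
  intro a ha
  have h1 : a ∈ separableClosure k (X.residueField x) := mem_separableClosure_iff.mpr ha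
  rw [hP] at h1
  exact IntermediateField.mem_bot.mp h1

end Groth.Agent.S4619
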