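import Groth.Statements.S1537
import Mathlib
import Groth.Agent.S4619

set_option autoImplicit false
universe u
open CategoryTheory CategoryTheory.Limits AlgebraicGeometry
open Variety

namespace Groth.Agent.S1537

theorem specMap_resMap (k : Type u) [Field k] (X : Scheme.{u}) [X.Over (Spec (CommRingCat.of k))]
    (x : X) :
    Spec.map (CommRingCat.ofHom (Curv2.resMap k X x)) =
      X.fromSpecResidueField x ≫ (X ↘ Spec (CommRingCat.of k)) := by
  set f := X ↘ Spec (CommRingCat.of k) with hf
  have h1 : f = X.toSpecΓ ≫ Spec.map f.appTop ≫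
      Spec.map (Scheme.ΓSpecIso (CommRingCat.of k)).inv := by
    rw [← Scheme.toSpecΓ_naturality_assoc, toSpecΓ_SpecMap_ΓSpecIso_inv, Category.comp_id]
  have h2 : CommRingCat.ofHom (Curv2.resMap k X x) =
      (Scheme.ΓSpecIso (CommRingCat.of k)).inv ≫ f.appTop ≫ X.presheaf.germ ⊤ x trivial ≫
        X.residue x := rfl
  rw [h2]
  conv_rhs => rw [h1]
  unfold Scheme.fromSpecResidueField
  simp only [Category.assoc, Spec.map_comp]
  rw [Scheme.fromSpecStalk_toSpecΓ_assoc]

/-- A connected k-scheme is geometrically connected as soon as it has a point whose residue field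
contains no element integral over k other than the elements of k. -/
theorem result (k : Type u) [Field k] (X : Scheme.{u}) [X.Over (Spec (CommRingCat.of k))] [ConnectedSpace X]
    (x : X) (hx : ∀ a : X.residueField x, (Curv2.resMap k X x).IsIntegralElem a → a ∈ (Curv2.resMap k X x).range) :
    GeometricallyConnected (X ↘ (Spec (CommRingCat.of k))) := by

  refine Groth.Agent.S4619.geomConn_of_sepClosedIn (X ↘ Spec (CommRingCat.of k)) x
    (Curv2.resMap k X x) (specMap_resMap k X x) ?_
  letI := (Curv2.resMap k X x).toAlgebra
  intro a ha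
  have hint : IsIntegral k a := ha.isIntegral
  obtain ⟨c, hc⟩ := hx a hint
  exact ⟨c, hc⟩

end Groth.Agent.S1537
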