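import Groth.Statements.S10828
import Mathlib
import Groth.Agent.Lib.Helper12.SchemeDimFT
import Groth.Agent.S1537

set_option autoImplicit false
universe u
open CategoryTheory AlgebraicGeometry
open Variety

namespace Groth.Agent.S10828

open AlgebraicGeometry CategoryTheory Limits
open Groth.Agent.Lib.Helper12.SchemeDimFT

attribute [local instance] Curv2.resAlgebra

section

variable (k : Type u) [Field k] (X : Scheme.{u}) [X.Over (Spec (CommRingCat.of k))]
  [LocallyOfFiniteType (X ↘ Spec (CommRingCat.of k))]

theorem isAlgebraic_residueField_of_isClosed (x : X) (hx : IsClosed ({x} : Set X)) :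
    Algebra.IsAlgebraic k (X.residueField x) := by
  obtain ⟨U, hU, hxU⟩ := exists_affineOpen_mem X x
  letI := secAlgebra k X U
  haveI := finiteType_sec k X U hU
  obtain ⟨e⟩ := nonempty_algEquiv_residueField k X U hU x hxU
  haveI hmax : (hU.primeIdealOf ⟨x, hxU⟩).asIdeal.IsMaximal :=
    hU.primeIdealOf_isMaximal_of_isClosed ⟨x, hxU⟩ hx
  generalize hU.primeIdealOf ⟨x, hxU⟩ = P at e hmax
  obtain ⟨p, hpP⟩ : ∃ p : Ideal Γ(X, U), p = P.asIdeal := ⟨_, rfl⟩
  haveI : p.IsPrime := hpP ▸ P.2
  haveI : p.IsMaximal := hpP ▸ hmax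
  letI : Field (Γ(X, U) ⧸ p) := Ideal.Quotient.field p
  haveI : Algebra.FiniteType k (Γ(X, U) ⧸ p) := inferInstance
  haveI : Module.Finite k (Γ(X, U) ⧸ p) := finite_of_finite_type_of_isJacobsonRing k _
  haveI : Algebra.IsIntegral k (Γ(X, U) ⧸ p) := inferInstance
  have hsurj : Function.Surjective (IsScalarTower.toAlgHom k (Γ(X, U) ⧸ p) p.ResidueField) :=
    (Ideal.bijective_algebraMap_quotient_residueField p).2
  haveI : Algebra.IsIntegral k p.ResidueField := Algebra.IsIntegral.of_surjective _ hsurj
  subst hpP
  haveI : Algebra.IsIntegral k (X.residueField x) :=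
    Algebra.IsIntegral.of_surjective e.toAlgHom e.surjective
  infer_instance

theorem isClosed_of_isAlgebraic (x : X) [Algebra.IsAlgebraic k (X.residueField x)] :
    IsClosed ({x} : Set X) := by
  obtain ⟨U, hU, hxU⟩ := exists_affineOpen_mem X x
  letI := secAlgebra k X U
  obtain ⟨e⟩ := nonempty_algEquiv_residueField k X U hU x hxU
  have hgoal : (hU.primeIdealOf ⟨x, hxU⟩).asIdeal.IsMaximal := by
    generalize hU.primeIdealOf ⟨x, hxU⟩ = P at e
    haveI : Algebra.IsAlgebraic k P.asIdeal.ResidueField :=
      Algebra.IsAlgebraic.of_injective e.toAlgHom e.injective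
    haveI : Algebra.IsIntegral k P.asIdeal.ResidueField := inferInstance
    have hinj : Function.Injective
        (IsScalarTower.toAlgHom k (Γ(X, U) ⧸ P.asIdeal) P.asIdeal.ResidueField) :=
      P.asIdeal.injective_algebraMap_quotient_residueField
    haveI : Algebra.IsIntegral k (Γ(X, U) ⧸ P.asIdeal) := Algebra.IsIntegral.of_injective _ hinj
    have hfield : IsField (Γ(X, U) ⧸ P.asIdeal) :=
      isField_of_isIntegral_of_isField' (Field.toIsField k)
    exact Ideal.Quotient.maximal_of_isField P.asIdeal hfield
  exact isClosed_singleton_of_isMaximal k X U hU x hxU hgoal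

theorem comp_eq_iff (K : Type u) [Field K] [Algebra k K] (x : X)
    (φ : X.residueField x ⟶ CommRingCat.of K) :
    (Spec.map φ ≫ X.fromSpecResidueField x) ≫ (X ↘ Spec (CommRingCat.of k)) =
        Spec.map (CommRingCat.ofHom (algebraMap k K)) ↔
      φ.hom.comp (Curv2.resMap k X x) = algebraMap k K := by
  rw [Category.assoc, ← Groth.Agent.S1537.specMap_resMap k X x, ← Spec.map_comp]
  constructor
  · intro h
    exact congrArg CommRingCat.Hom.hom (Spec.map_injective h)
  · intro h
    exact congrArg Spec.map (CommRingCat.hom_ext h)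

end

theorem exists_desc {X : Scheme.{u}} (K : Type u) [Field K] (p : Spec (CommRingCat.of K) ⟶ X)
    (x : X) (hx : p.base (IsLocalRing.closedPoint K) = x) :
    ∃ φ : X.residueField x ⟶ CommRingCat.of K, p = Spec.map φ ≫ X.fromSpecResidueField x := by
  subst hx
  exact ⟨_, (Scheme.descResidueField_stalkClosedPointTo_fromSpecResidueField K X p).symm⟩

theorem exists_algEquiv_comp' {k L K : Type u} [Field k] [Field L] [Field K] [Algebra k L]
    [Algebra k K] [Normal k K] (ψ ψ' : L →ₐ[k] K) : ∃ σ : K ≃ₐ[k] K, ∀ y, σ (ψ y) = ψ' y := by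
  let χ : ψ.fieldRange ≃ₐ[k] ψ'.fieldRange := ψ.equivFieldRange.symm.trans ψ'.equivFieldRange
  refine ⟨χ.liftNormal K, fun y => ?_⟩
  have h1 : ψ y = algebraMap ψ.fieldRange K (ψ.equivFieldRange y) := rfl
  rw [h1, AlgEquiv.liftNormal_commutes]
  have h2 : χ (ψ.equivFieldRange y) = ψ'.equivFieldRange y := by
    simp [χ]
  rw [h2]
  rfl

/-- Let k be a field, K an algebraic closure of k with its group G of k-automorphisms, and X a k-scheme
locally of finite type. The map sending a K-valued point of X over k to its image point identifies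
the closed points of X with the G-orbits in X(K): a point is closed if and only if it is the image
of some K-valued point, and two K-valued points have the same image if and only if one is obtained
from the other by composing with Spec of a k-automorphism of K. -/
theorem result (k K : Type u) [Field k] [Field K]
    [Algebra k K] [IsAlgClosure k K] {X : Scheme.{u}} (f : X ⟶ Spec (CommRingCat.of k))
    [LocallyOfFiniteType f] :
    (∀ x : X, IsClosed ({x} : Set X) ↔
        ∃ p : Spec (CommRingCat.of K) ⟶ X, p ≫ f = Spec.map (CommRingCat.ofHom (algebraMap k K)) ∧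
          p.base (IsLocalRing.closedPoint K) = x) ∧
      ∀ p q : Spec (CommRingCat.of K) ⟶ X,
        p ≫ f = Spec.map (CommRingCat.ofHom (algebraMap k K)) →
        q ≫ f = Spec.map (CommRingCat.ofHom (algebraMap k K)) →
          (p.base (IsLocalRing.closedPoint K) = q.base (IsLocalRing.closedPoint K) ↔
            ∃ σ : K ≃ₐ[k] K, q = Spec.map (CommRingCat.ofHom σ.toRingHom) ≫ p) := by

  letI : X.Over (Spec (CommRingCat.of k)) := ⟨f⟩
  haveI : LocallyOfFiniteType (X ↘ Spec (CommRingCat.of k)) := ‹LocallyOfFiniteType f›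
  haveI : IsAlgClosed K := IsAlgClosure.isAlgClosed k
  haveI : Algebra.IsAlgebraic k K := IsAlgClosure.isAlgebraic
  haveI : Normal k K := inferInstance
  have hf : (X ↘ Spec (CommRingCat.of k)) = f := rfl
  -- from a `K`-point over `k` to an algebra hom
  have key : ∀ (p : Spec (CommRingCat.of K) ⟶ X) (x : X),
      p ≫ f = Spec.map (CommRingCat.ofHom (algebraMap k K)) →
      p.base (IsLocalRing.closedPoint K) = x →
      ∃ ψ : X.residueField x →ₐ[k] K,
        p = Spec.map (CommRingCat.ofHom (ψ : X.residueField x →+* K)) ≫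
          X.fromSpecResidueField x := by
    intro p x hp hx
    obtain ⟨φ, hφ⟩ := exists_desc K p x hx
    rw [hφ, ← hf] at hp
    have h := (comp_eq_iff k X K x φ).mp hp
    refine ⟨{ φ.hom with commutes' := fun c => congrFun (congrArg DFunLike.coe h) c }, ?_⟩
    rw [hφ]
    rfl
  constructor
  · intro x
    constructor
    · intro hx
      haveI := isAlgebraic_residueField_of_isClosed k X x hx
      let ψ : X.residueField x →ₐ[k] K := IsAlgClosed.lift
      refine ⟨Spec.map (CommRingCat.ofHom (ψ : X.residueField x →+* K)) ≫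
        X.fromSpecResidueField x, ?_, ?_⟩
      · rw [← hf]
        exact (comp_eq_iff k X K x _).mpr ψ.comp_algebraMap
      · exact Scheme.fromSpecResidueField_apply x _
    · rintro ⟨p, hp, hx⟩
      obtain ⟨ψ, -⟩ := key p x hp hx
      haveI : Algebra.IsAlgebraic k (X.residueField x) :=
        Algebra.IsAlgebraic.of_injective ψ ψ.injective
      exact isClosed_of_isAlgebraic k X x
  · intro p q hp hq
    constructor
    · intro hpq
      obtain ⟨ψp, hψp⟩ := key p _ hp rfl
      obtain ⟨ψq, hψq⟩ := key q _ hq hpq.symm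
      obtain ⟨σ, hσ⟩ := exists_algEquiv_comp' ψp ψq
      refine ⟨σ, ?_⟩
      rw [hψq]
      conv_rhs => rw [hψp]
      rw [← Category.assoc, ← Spec.map_comp]
      congr 2
      apply CommRingCat.hom_ext
      ext y
      exact (hσ y).symm
    · rintro ⟨σ, rfl⟩
      have : (Spec.map (CommRingCat.ofHom σ.toRingHom)).base (IsLocalRing.closedPoint K) =
          IsLocalRing.closedPoint K := Subsingleton.elim _ _
      change _ = p.base ((Spec.map (CommRingCat.ofHom σ.toRingHom)).base (IsLocalRing.closedPoint K))
      rw [this]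

end Groth.Agent.S10828
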