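import Groth.Statements.S10830
import Mathlib

set_option autoImplicit false
universe u
open Topology TopologicalSpace
open TopDim

namespace Groth.Agent.S10830

/-- In an irreducible topological space X of finite Krull dimension, every proper closed subset Y has
strictly smaller Krull dimension than X. -/
theorem result (X : Type u) [TopologicalSpace X]
    [IrreducibleSpace X] (hfin : topologicalKrullDim X ≠ ⊤) (Y : Set X) (hY : IsClosed Y) (hYX : Y ≠ Set.univ) :
    topologicalKrullDim ↥Y < topologicalKrullDim X := by
  let top : IrreducibleCloseds X := ⟨Set.univ, IrreducibleSpace.isIrreducible_univ X, isClosed_univ⟩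
  haveI : Nonempty (IrreducibleCloseds X) := ⟨top⟩
  rcases isEmpty_or_nonempty (IrreducibleCloseds ↥Y) with hE | hN
  · unfold topologicalKrullDim
    rw [Order.krullDim_eq_bot]
    exact Order.bot_lt_krullDim
  · have h1 : Order.krullDim (WithTop (IrreducibleCloseds ↥Y)) ≤ Order.krullDim (IrreducibleCloseds X) := by
      refine Order.krullDim_le_of_strictMono
        (fun w => w.recTopCoe top (IrreducibleCloseds.map Subtype.val continuous_subtype_val)) ?_
      intro a b hab
      induction a using WithTop.recTopCoe with
      | top => exact absurd hab (not_top_lt)
      | coe a =>
        induction b using WithTop.recTopCoe with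
        | top =>
          show IrreducibleCloseds.map Subtype.val continuous_subtype_val a < top
          rw [← SetLike.coe_ssubset_coe]
          refine Set.ssubset_iff_subset_ne.mpr ⟨Set.subset_univ _, fun heq => hYX ?_⟩
          apply Set.eq_univ_of_univ_subset
          have hsub : (IrreducibleCloseds.map Subtype.val continuous_subtype_val a : Set X) ⊆ Y := by
            rw [IrreducibleCloseds.coe_map]
            refine (hY.closure_subset_iff).mpr ?_
            rintro _ ⟨y, -, rfl⟩
            exact y.2
          rw [← show (top : Set X) = Set.univ from rfl, ← heq]
          exact hsub
        | coe b =>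
          show IrreducibleCloseds.map Subtype.val continuous_subtype_val a <
            IrreducibleCloseds.map Subtype.val continuous_subtype_val b
          exact IrreducibleCloseds.map_strictMono_of_isInducing IsInducing.subtypeVal
            (WithTop.coe_lt_coe.mp hab)
    rw [Order.krullDim_WithTop] at h1
    unfold topologicalKrullDim at hfin ⊢
    have h0 : (0 : WithBot ℕ∞) ≤ Order.krullDim (IrreducibleCloseds ↥Y) := Order.krullDim_nonneg
    generalize Order.krullDim (IrreducibleCloseds ↥Y) = a at *
    generalize Order.krullDim (IrreducibleCloseds X) = b at *
    induction a using WithBot.recBotCoe with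
    | bot => simp at h0
    | coe a =>
      induction b using WithBot.recBotCoe with
      | bot => simp at h1
      | coe b =>
        have hb : b ≠ ⊤ := fun h => hfin (by rw [h]; rfl)
        have h1' : a + 1 ≤ b := by exact_mod_cast h1
        have : a < b := by
          have ha : a ≠ ⊤ := by
            rintro rfl
            simp at h1'
            exact hb h1'
          exact lt_of_lt_of_le (ENat.lt_add_one_iff ha |>.mpr le_rfl) h1'
        exact_mod_cast this

end Groth.Agent.S10830
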