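import Groth.Statements.S10832
import Mathlib

set_option autoImplicit false
universe u
open CategoryTheory AlgebraicGeometry Topology
open Variety

namespace Groth.Agent.S10832

section Disc

open TopologicalSpace Opposite

variable {X : Scheme.{u}} [DiscreteTopology X]

/-- the singleton open -/
def pt (x : X) : X.Opens := ⟨{x}, isOpen_discrete _⟩

theorem mem_pt (x y : X) : y ∈ pt x ↔ y = x := Iff.rfl

theorem le_iSup_pt : (⊤ : X.Opens) ≤ ⨆ x, pt x :=
  fun x _ => Opens.mem_iSup.mpr ⟨x, rfl⟩

theorem res_injective (s t : Γ(X, ⊤))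
    (h : ∀ x, X.presheaf.map (homOfLE (le_top : pt x ≤ ⊤)).op s =
      X.presheaf.map (homOfLE (le_top : pt x ≤ ⊤)).op t) : s = t :=
  X.sheaf.eq_of_locally_eq' (fun x => pt x) ⊤ (fun x => homOfLE le_top) le_iSup_pt s t h

theorem res_surjective (v : ∀ x : X, Γ(X, pt x)) :
    ∃ s : Γ(X, ⊤), ∀ x, X.presheaf.map (homOfLE (le_top : pt x ≤ ⊤)).op s = v x := by
  have hc : TopCat.Presheaf.IsCompatible X.sheaf.1 (fun x => pt x) v := by
    intro x y
    by_cases hxy : x = y
    · subst hxy
      rw [Subsingleton.elim (Opens.infLELeft (pt x) (pt x)) (Opens.infLERight (pt x) (pt x))]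
    · have hbot : pt x ⊓ pt y = ⊥ := by
        ext z
        simp only [Opens.coe_inf, Set.mem_inter_iff, SetLike.mem_coe, mem_pt, Opens.coe_bot,
          Set.mem_empty_iff_false, iff_false, not_and]
        intro h1 h2
        exact hxy (h1.symm.trans h2)
      have hsub : Subsingleton Γ(X, pt x ⊓ pt y) := by rw [hbot]; infer_instance
      exact @Subsingleton.elim _ hsub _ _
  obtain ⟨s, hs, -⟩ := X.sheaf.existsUnique_gluing' (fun x => pt x) ⊤
    (fun x => homOfLE le_top) le_iSup_pt v hc
  exact ⟨s, hs⟩

theorem germ_pt_injective (x : X) :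
    Function.Injective (X.presheaf.germ (pt x) x rfl) := by
  intro s t h
  obtain ⟨W, hxW, iU, iV, hst⟩ := TopCat.Presheaf.germ_eq X.presheaf x rfl rfl s t h
  have hW : W = pt x :=
    le_antisymm iU.le (fun y hy => by rw [(mem_pt x y).mp hy]; exact hxW)
  subst hW
  rw [Subsingleton.elim iU (𝟙 _), Subsingleton.elim iV (𝟙 _)] at hst
  simpa using hst

theorem germ_pt_surjective (x : X) :
    Function.Surjective (X.presheaf.germ (pt x) x rfl) := by
  intro t
  obtain ⟨U, hxU, s, rfl⟩ := TopCat.Presheaf.germ_exist (F := X.presheaf) (x := x) t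
  have hle : pt x ≤ U := fun y hy => by rw [(mem_pt x y).mp hy]; exact hxU
  exact ⟨X.presheaf.map (homOfLE hle).op s,
    TopCat.Presheaf.germ_res_apply X.presheaf (homOfLE hle) x rfl s⟩

theorem germ_top_eq (s : Γ(X, ⊤)) (x : X) :
    X.presheaf.germ ⊤ x trivial s =
      X.presheaf.germ (pt x) x rfl (X.presheaf.map (homOfLE (le_top : pt x ≤ ⊤)).op s) :=
  (TopCat.Presheaf.germ_res_apply X.presheaf (homOfLE le_top) x rfl s).symm

theorem germ_top_bijective :
    Function.Bijective (fun s : Γ(X, ⊤) => fun x : X => X.presheaf.germ ⊤ x trivial s) := by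
  constructor
  · intro s t h
    apply res_injective
    intro x
    apply germ_pt_injective x
    rw [← germ_top_eq, ← germ_top_eq]
    exact congrFun h x
  · intro v
    choose w hw using fun x => germ_pt_surjective x (v x)
    obtain ⟨s, hs⟩ := res_surjective w
    refine ⟨s, funext fun x => ?_⟩
    show X.presheaf.germ ⊤ x trivial s = v x
    rw [germ_top_eq, hs, hw]

theorem isAffineOpen_pt (x : X) : IsAffineOpen (pt x) := by
  obtain ⟨W, hW, hxW, hsub⟩ := exists_isAffineOpen_mem_and_subset (x := x) (U := pt x) rfl
  have : W = pt x :=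
    le_antisymm hsub (fun y hy => by rw [(mem_pt x y).mp hy]; exact hxW)
  rw [← this]; exact hW

theorem isAffine_of_discrete [Finite X] : IsAffine X := by
  classical
  haveI := Fintype.ofFinite X
  choose e he using fun x : X =>
    res_surjective (fun y : X => if y = x then (1 : Γ(X, pt y)) else 0)
  have hsum : ∑ x, e x = 1 := by
    apply res_injective
    intro y
    show (X.presheaf.map (homOfLE (le_top : pt y ≤ ⊤)).op).hom (∑ x, e x) =
      (X.presheaf.map (homOfLE (le_top : pt y ≤ ⊤)).op).hom 1
    rw [map_sum, map_one]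
    have : ∀ x, (X.presheaf.map (homOfLE (le_top : pt y ≤ ⊤)).op).hom (e x) =
        if y = x then (1 : Γ(X, pt y)) else 0 := fun x => he x y
    simp only [this]
    rw [Finset.sum_ite_eq]
    simp
  have hbasic : ∀ x, X.basicOpen (e x) = pt x := by
    intro x
    ext y
    rw [SetLike.mem_coe, SetLike.mem_coe, Scheme.mem_basicOpen_top, germ_top_eq, he x y, mem_pt]
    by_cases hyx : y = x
    · simp [hyx]
    · simp only [hyx, if_false, map_zero, iff_false]
      exact not_isUnit_zero
  apply isAffine_of_isAffineOpen_basicOpen (Set.range e)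
  · rw [Ideal.eq_top_iff_one, ← hsum]
    exact Ideal.sum_mem _ fun x _ => Ideal.subset_span ⟨x, rfl⟩
  · rintro _ ⟨x, rfl⟩
    rw [hbasic]; exact isAffineOpen_pt x

end Disc

/-- For a nonempty scheme X of finite type over a field k the following are equivalent: X has Krull
dimension 0; X is affine with ring of global sections finite over k and equal to the product of all
its local rings via the germ maps; the underlying space of X is discrete; the underlying space of X
is finite. -/
theorem result (k : Type u) [Field k] {X : Scheme.{u}} [Nonempty X]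
    (f : X ⟶ Spec (CommRingCat.of k)) [LocallyOfFiniteType f] [QuasiCompact f] :
    [topologicalKrullDim ↥X = 0,
      IsAffine X ∧ f.appTop.hom.Finite ∧
        Function.Bijective (fun s : Γ(X, ⊤) => fun x : X => X.presheaf.germ ⊤ x trivial s),
      DiscreteTopology ↥X,
      Finite ↥X].TFAE := by

  haveI : IsLocallyNoetherian X := LocallyOfFiniteType.isLocallyNoetherian f
  haveI : CompactSpace X :=
    (HasAffineProperty.iff_of_isAffine (P := @QuasiCompact) (f := f)).mp inferInstance
  haveI hArtk : IsArtinianRing Γ(Spec (CommRingCat.of k), ⊤) :=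
    (Scheme.ΓSpecIso (CommRingCat.of k)).commRingCatIsoToRingEquiv.symm.surjective.isArtinianRing
  tfae_have 1 → 3 := by
    intro h
    haveI := IsLocallyArtinian.of_topologicalKrullDim_le_zero (X := X) h.le
    infer_instance
  tfae_have 3 → 1 := by
    intro h
    haveI := h
    obtain ⟨x⟩ := ‹Nonempty X›
    haveI : Nonempty (TopologicalSpace.IrreducibleCloseds X) :=
      ⟨⟨closure {x}, isIrreducible_singleton.closure, isClosed_closure⟩⟩
    exact le_antisymm (topologicalKrullDim_zero_of_discreteTopology X) Order.krullDim_nonneg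
  tfae_have 3 → 4 := by
    intro h
    haveI := h
    exact finite_of_compact_of_discrete
  tfae_have 4 → 3 := by
    intro h
    haveI := h
    haveI : JacobsonSpace X := LocallyOfFiniteType.jacobsonSpace f
    infer_instance
  tfae_have 3 → 2 := by
    intro h
    haveI := h
    haveI : Finite X := finite_of_compact_of_discrete
    haveI haff : IsAffine X := isAffine_of_discrete
    refine ⟨haff, ?_, germ_top_bijective⟩
    haveI : IsLocallyArtinian X := IsLocallyArtinian.of_isLocallyNoetherian_of_discreteTopology
    haveI : IsArtinianRing Γ(X, ⊤) := inferInstance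
    have hft : f.appTop.hom.FiniteType :=
      HasRingHomProperty.appTop (P := @LocallyOfFiniteType) f inferInstance
    algebraize [f.appTop.hom]
    exact (Module.finite_iff_isArtinianRing Γ(Spec (CommRingCat.of k), ⊤) Γ(X, ⊤)).mpr inferInstance
  tfae_have 2 → 4 := by
    rintro ⟨haff, hfin, -⟩
    haveI := haff
    algebraize [f.appTop.hom]
    haveI : IsArtinianRing Γ(X, ⊤) := IsArtinianRing.of_finite Γ(Spec (CommRingCat.of k), ⊤) Γ(X, ⊤)
    haveI : Finite ↥(Spec Γ(X, ⊤)) := inferInstanceAs (Finite (PrimeSpectrum Γ(X, ⊤)))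
    exact Finite.of_injective _ X.isoSpec.hom.homeomorph.injective
  tfae_finish

end Groth.Agent.S10832
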