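import Groth.Statements.S10834
import Groth.Agent.Lib.Helper4.HypersurfaceCM

set_option autoImplicit false
universe u
open CAlg

namespace Groth.Agent.S10834

/-- Let A be a Noetherian ring whose localizations at all prime ideals are regular local rings, and f an
element of A generating a prime ideal, so that A/(f) is an integral domain (an integral hypersurface
in the regular affine scheme Spec A). Then A/(f) is normal (integrally closed in its fraction field)
if and only if it is regular in codimension 1, i.e. its localization at every prime at which the
local ring has dimension 1 is a regular local ring. -/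
theorem result (A : Type u) [CommRing A]
    [IsNoetherianRing A] (hreg : ∀ (p : Ideal A) (_ : p.IsPrime), IsRegularLocalRing (Localization.AtPrime p))
    (f : A) (hf : (Ideal.span ({f} : Set A)).IsPrime) :
    IsIntegrallyClosed (A ⧸ Ideal.span ({f} : Set A)) ↔
      ∀ q : PrimeSpectrum (A ⧸ Ideal.span ({f} : Set A)),
        ringKrullDim (Localization.AtPrime q.asIdeal) = 1 →
          IsRegularLocalRing (Localization.AtPrime q.asIdeal) := by
  haveI := hf
  haveI : IsDomain (A ⧸ Ideal.span ({f} : Set A)) := Ideal.Quotient.isDomain _
  constructor
  · intro hic q hq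
    haveI := hic
    haveI : IsIntegrallyClosed (Localization.AtPrime q.asIdeal) :=
      isIntegrallyClosed_of_isLocalization (S := Localization.AtPrime q.asIdeal)
        q.asIdeal.primeCompl q.asIdeal.primeCompl_le_nonZeroDivisors
    exact Groth.Agent.Lib.Helper4.SerreNormal.isRegularLocalRing_of_normal_of_dim_le_one _ hq.le
  · intro h
    have hR1 : LocCoh.HasRk 1 (A ⧸ Ideal.span ({f} : Set A)) := by
      intro q _ hq
      have hq' : q.height ≤ 1 := by exact_mod_cast hq
      rcases Order.le_one_iff.mp hq' with h0 | h1
      · have hqbot : q = ⊥ := by
          by_contra hne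
          have hlt : (⊥ : Ideal (A ⧸ Ideal.span ({f} : Set A))) < q := bot_lt_iff_ne_bot.mpr hne
          haveI : (⊥ : Ideal (A ⧸ Ideal.span ({f} : Set A))).IsPrime := Ideal.isPrime_bot
          have hlt2 := Ideal.height_strict_mono_of_isPrime hlt
          rw [h0] at hlt2
          exact not_lt_zero hlt2
        let : Field (Localization.AtPrime q) := IsField.toField <| by
          simp [IsLocalRing.isField_iff_maximalIdeal_eq,
            ← Localization.AtPrime.map_eq_maximalIdeal, hqbot]
        infer_instance
      · exact h ⟨q, inferInstance⟩ (by
          rw [IsLocalization.AtPrime.ringKrullDim_eq_height q (Localization.AtPrime q), h1]; rfl)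
    have hS2 : LocCoh.HasSk 2 (A ⧸ Ideal.span ({f} : Set A)) (A ⧸ Ideal.span ({f} : Set A)) :=
      Groth.Agent.Lib.Helper4.HypersurfaceCM.hasSk_quotient hreg f 2
    apply IsIntegrallyClosed.of_localization_maximal
    intro p _ _
    exact ((Groth.Agent.Lib.Helper4.SerreNormal.serre_criterion _).mpr ⟨hR1, hS2⟩ p).2

end Groth.Agent.S10834
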