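import Groth.Statements.S10837
import Groth.Agent.Lib.Helper13.OpenGeneralizing

set_option autoImplicit false
universe u
open CategoryTheory AlgebraicGeometry Topology
open Mor

namespace Groth.Agent.S10837

/-- For a morphism of schemes f : X → Y which is open as a map of topological spaces, generalizations
lift along f: every generalization of f(x) is the image of a generalization of x. -/
theorem result {X Y : Scheme.{u}} (f : X ⟶ Y) (hf : IsOpenMap f.base) :
    GeneralizingMap f.base := by
  exact Groth.Agent.Lib.Helper13.OpenGeneralizing.generalizingMap_of_isOpenMap f hf

end Groth.Agent.S10837
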