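import Groth.Statements.S10840
import Groth.Agent.Lib.Lead.ProjTop
import Groth.Agent.Lib.Helper22.Bezout2

set_option autoImplicit false
universe u
open AlgebraicGeometry Topology
open Variety

namespace Groth.Agent.S10840

open MvPolynomial Groth.Agent.Lib.Lead.ProjTop

theorem main (k : Type u) [Field k] (n m : ℕ)
    (f g : SR k 2) (hf : f.IsHomogeneous n) (hg : g.IsHomogeneous m)
    (hn : 0 < n) (hm : 0 < m) (hf0 : f ≠ 0) (hg0 : g ≠ 0) :
    topologicalKrullDim ↥(ProjectiveSpectrum.zeroLocus (CohB1.polyGrading 2 k)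
        ({f, g} : Set (SR k 2))) = 0 ↔ IsRelPrime f g := by
  classical
  obtain ⟨Y, hY⟩ : ∃ Y : Set (PS k 2), Y = ProjectiveSpectrum.zeroLocus (CohB1.polyGrading 2 k)
      ({f, g} : Set (SR k 2)) := ⟨_, rfl⟩
  rw [← hY]
  have hYc : IsClosed Y := by rw [hY]; exact ProjectiveSpectrum.isClosed_zeroLocus _ _
  rw [topDim_closed k 2 Y hYc]
  have hfc : constantCoeff f = 0 := by
    rw [constantCoeff_eq]
    apply hf.coeff_eq_zero
    have : (0 : Fin (2 + 1) →₀ ℕ).degree = 0 := by simp
    omega
  have hgc : constantCoeff g = 0 := by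
    rw [constantCoeff_eq]
    apply hg.coeff_eq_zero
    have : (0 : Fin (2 + 1) →₀ ℕ).degree = 0 := by simp
    omega
  have hJ : (Ideal.span ({f, g} : Set (SR k 2))).IsHomogeneous (CohB1.polyGrading 2 k) := by
    apply Ideal.homogeneous_span
    intro x hx
    simp only [Set.mem_insert_iff, Set.mem_singleton_iff] at hx
    rcases hx with rfl | rfl
    · exact ⟨n, hf⟩
    · exact ⟨m, hg⟩
  have hJ1 : (Ideal.span ({f} : Set (SR k 2))).IsHomogeneous (CohB1.polyGrading 2 k) := by
    apply Ideal.homogeneous_span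
    intro x hx
    rw [Set.mem_singleton_iff] at hx
    subst hx
    exact ⟨n, hf⟩
  have memY : ∀ x : PS k 2, x ∈ Y ↔
      Ideal.span ({f, g} : Set (SR k 2)) ≤ x.asHomogeneousIdeal.toIdeal := by
    intro x
    rw [hY]
    exact mem_zeroLocus_iff k 2 _ x
  have hcard2 : ∀ a b : SR k 2, ({a, b} : Set (SR k 2)).ncard < 2 + 1 := by
    intro a b
    have h2 : ({a, b} : Set (SR k 2)).ncard ≤ 2 :=
      (Set.ncard_insert_le a {b}).trans (by rw [Set.ncard_singleton])
    omega
  constructor
  · -- dimension zero implies coprime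
    intro hdim
    by_contra hnr
    unfold IsRelPrime at hnr
    push Not at hnr
    obtain ⟨d, hdf, hdg, hdu⟩ := hnr
    have hd0 : d ≠ 0 := by
      rintro rfl
      exact hf0 (zero_dvd_iff.1 hdf)
    obtain ⟨π, hπirr, hπd⟩ := WfDvdMonoid.exists_irreducible_factor hdu hd0
    have hπ : Prime π := UniqueFactorizationMonoid.irreducible_iff_prime.1 hπirr
    have hπf : π ∣ f := hπd.trans hdf
    have hπg : π ∣ g := hπd.trans hdg
    have hmin := span_prime_mem_minimalPrimes k 2 f π hf0 hπ hπf
    have hPh := isHomogeneous_of_mem_minimalPrimes k 2 _ _ hJ1 hmin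
    haveI hPp : (Ideal.span ({π} : Set (SR k 2))).IsPrime := hmin.1.1
    have hht : (Ideal.span ({π} : Set (SR k 2))).height < ((2 + 1 : ℕ) : ℕ∞) := by
      have h := Ideal.height_le_card_of_mem_minimalPrimes_span (Set.finite_singleton f) hmin
      rw [Set.ncard_singleton] at h
      refine lt_of_le_of_lt h ?_
      exact_mod_cast (by norm_num : (1 : ℕ) < 2 + 1)
    obtain ⟨x, hx⟩ := exists_pt_of_prime k 2 _ hPp hPh (not_irr_le_of_height k 2 _ hht)
    have hxY : x ∈ Y := by
      rw [memY, hx, Ideal.span_le]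
      intro a ha
      simp only [Set.mem_insert_iff, Set.mem_singleton_iff] at ha
      rcases ha with rfl | rfl
      · exact Ideal.mem_span_singleton.2 hπf
      · exact Ideal.mem_span_singleton.2 hπg
    obtain ⟨i, hi⟩ := exists_X_notMem k 2 x
    rw [hx] at hi
    have hJ2 : (Ideal.span ({π, X i} : Set (SR k 2))).IsHomogeneous (CohB1.polyGrading 2 k) := by
      have hsp : Ideal.span ({π, X i} : Set (SR k 2)) =
          Ideal.span ({π} : Set (SR k 2)) ⊔ Ideal.span ({X i} : Set (SR k 2)) := by
        rw [Set.insert_eq, Ideal.span_union]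
      rw [hsp]
      refine hPh.sup ?_
      apply Ideal.homogeneous_span
      intro a ha
      rw [Set.mem_singleton_iff] at ha
      subst ha
      exact ⟨1, isHomogeneous_X k i⟩
    have hπc : constantCoeff π = 0 :=
      constantCoeff_eq_zero_of_mem k 2 _ hPh hPp.ne_top π (Ideal.mem_span_singleton_self π)
    obtain ⟨y, hy⟩ := exists_pt k 2 ({π, X i} : Set (SR k 2))
      ((Set.finite_singleton (X i)).insert π) (hcard2 π (X i)) hJ2 (by
        intro a ha
        simp only [Set.mem_insert_iff, Set.mem_singleton_iff] at ha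
        rcases ha with rfl | rfl
        · exact hπc
        · exact constantCoeff_X _ i)
    have hπy : π ∈ y.asHomogeneousIdeal.toIdeal := hy.1.2 (Ideal.subset_span (by simp))
    have hXy : (X i : SR k 2) ∈ y.asHomogeneousIdeal.toIdeal :=
      hy.1.2 (Ideal.subset_span (by simp))
    have hxy : x ≤ y := by
      intro a ha
      have ha' : a ∈ x.asHomogeneousIdeal.toIdeal := ha
      rw [hx, Ideal.mem_span_singleton] at ha'
      obtain ⟨c, rfl⟩ := ha'
      exact Ideal.mul_mem_right _ _ hπy
    have hlt : x < y := by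
      refine lt_of_le_not_ge hxy (fun hyx => hi ?_)
      have h1 : (X i : SR k 2) ∈ x.asHomogeneousIdeal.toIdeal := hyx hXy
      rw [hx] at h1
      exact h1
    have hyY : y ∈ Y := mem_of_le_of_isClosed k 2 hYc hxY hxy
    have hpos : 0 < Order.krullDim ↥Y :=
      Order.krullDim_pos_iff.2 ⟨⟨x, hxY⟩, ⟨y, hyY⟩, hlt⟩
    rw [hdim] at hpos
    exact lt_irrefl _ hpos
  · -- coprime implies dimension zero
    intro hfg
    obtain ⟨x0, hx0⟩ := exists_pt k 2 ({f, g} : Set (SR k 2))
      ((Set.finite_singleton g).insert f) (hcard2 f g) hJ (by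
        intro a ha
        simp only [Set.mem_insert_iff, Set.mem_singleton_iff] at ha
        rcases ha with rfl | rfl
        · exact hfc
        · exact hgc)
    have hx0Y : x0 ∈ Y := (memY x0).2 hx0.1.2
    haveI : Nonempty ↥Y := ⟨⟨x0, hx0Y⟩⟩
    refine le_antisymm ?_ Order.krullDim_nonneg
    rw [Order.krullDim_nonpos_iff_forall_isMax]
    intro x y hxy
    by_contra hyx
    have hlt : x.1 < y.1 := lt_of_le_not_ge hxy hyx
    have h1 : pr k 2 x.1 < pr k 2 y.1 := pr_strictMono k 2 hlt
    have h2 : pr k 2 y.1 < mIrr k 2 := pr_lt k 2 y.1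
    have hco1 := Order.coheight_add_one_le h2
    have hco2 := Order.coheight_add_one_le h1
    have hco : (2 : ℕ∞) ≤ Order.coheight (pr k 2 x.1) := by
      calc (2 : ℕ∞) = 0 + 1 + 1 := by norm_num
        _ ≤ Order.coheight (mIrr k 2) + 1 + 1 := by gcongr; exact zero_le
        _ ≤ Order.coheight (pr k 2 y.1) + 1 := by gcongr
        _ ≤ _ := hco2
    have hspan : Ideal.span ({f, g} : Set (SR k 2)) ≤ x.1.asHomogeneousIdeal.toIdeal :=
      (memY x.1).1 x.2
    have hht : (2 : ℕ∞) ≤ Order.height (pr k 2 x.1) := by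
      rw [← PrimeSpectrum.height_eq_orderHeight]
      exact (Groth.Agent.Lib.Helper22.Bezout.two_le_height_of_isRelPrime hfg).trans
        (Ideal.height_mono hspan)
    have hsum := height_add_coheight k 2 (pr k 2 x.1)
    have h4 : (2 : ℕ∞) + 2 ≤ ((2 + 1 : ℕ) : ℕ∞) := by
      rw [← hsum]
      exact add_le_add hht hco
    have h5 : ((2 + 2 : ℕ) : ℕ∞) ≤ ((2 + 1 : ℕ) : ℕ∞) := by exact_mod_cast h4
    have h6 := Nat.cast_le.1 h5
    omega

/-- For a field k and nonzero homogeneous polynomials f, g of positive degrees in three variables, the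
common zero set V_+(f, g) in the projective plane over k is zero-dimensional as a topological
subspace exactly when f and g are coprime, i.e. their only common divisors are the non-zero
constants. -/
theorem result (k : Type u) [Field k] (n m : ℕ)
    (f g : MvPolynomial (Fin 3) k) (hf : f.IsHomogeneous n) (hg : g.IsHomogeneous m)
    (hn : 0 < n) (hm : 0 < m) (hf0 : f ≠ 0) (hg0 : g ≠ 0) :
    topologicalKrullDim ↥(ProjectiveSpectrum.zeroLocus (CohB1.polyGrading 2 k)
        ({f, g} : Set (MvPolynomial (Fin 3) k))) = 0 ↔ IsRelPrime f g := by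
  exact main k n m f g hf hg hn hm hf0 hg0

end Groth.Agent.S10840
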