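import Groth.Statements.S10841
-- import your own Groth.Agent.* helpers here
import Mathlib
import Groth.Agent.Lib.Helper12.SchemeDimFT2

set_option autoImplicit false
universe u
open CategoryTheory AlgebraicGeometry Topology
open Variety

namespace Groth.Agent.S10841

/-- Let k be a field, X an irreducible scheme of finite type over k, and f : Y → X a morphism over k
from a scheme Y of finite type over k whose image contains the generic point of X. Then dim Y ≥ dim
X. -/
theorem result (k : Type u) [Field k] {X Y : Scheme.{u}}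
    (p : X ⟶ Spec (CommRingCat.of k)) (q : Y ⟶ Spec (CommRingCat.of k))
    [LocallyOfFiniteType p] [QuasiCompact p] [LocallyOfFiniteType q] [QuasiCompact q]
    [IrreducibleSpace ↥X] (f : Y ⟶ X) (hf : f ≫ p = q)
    (hη : genericPoint ↥X ∈ Set.range f.base) :
    topologicalKrullDim ↥X ≤ topologicalKrullDim ↥Y := by
  letI : X.Over (Spec (CommRingCat.of k)) := ⟨p⟩
  letI : Y.Over (Spec (CommRingCat.of k)) := ⟨q⟩
  haveI : LocallyOfFiniteType (X ↘ Spec (CommRingCat.of k)) := ‹LocallyOfFiniteType p›
  haveI : LocallyOfFiniteType (Y ↘ Spec (CommRingCat.of k)) := ‹LocallyOfFiniteType q›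
  letI := Curv2.resAlgebra k X
  letI := Curv2.resAlgebra k Y
  obtain ⟨y, hy⟩ := hη
  obtain ⟨n, hn⟩ := Groth.Agent.Lib.Helper12.SchemeDimFT.exists_trdeg_eq k X (genericPoint ↥X)
  obtain ⟨m, hm⟩ := Groth.Agent.Lib.Helper12.SchemeDimFT.exists_trdeg_eq k Y y
  rw [Groth.Agent.Lib.Helper12.SchemeDimFT.topologicalKrullDim_eq_of_irreducible k X n hn]
  refine le_trans ?_ (Groth.Agent.Lib.Helper12.SchemeDimFT.trdeg_le_topologicalKrullDim k Y y m hm)
  have h1 := Groth.Agent.Lib.Helper12.SchemeDimFT.trdeg_le_of_hom k p q f hf y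
  have hy' : f y = genericPoint ↥X := hy
  rw [hy'] at h1
  have h2 : (n : Cardinal.{u}) ≤ (m : Cardinal.{u}) := by
    rw [← hn, ← hm]; exact h1
  have h3 : n ≤ m := by exact_mod_cast h2
  exact_mod_cast h3

end Groth.Agent.S10841
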