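import Groth.Statements.S10842
import Mathlib

set_option autoImplicit false
universe u
open CategoryTheory AlgebraicGeometry
open Variety

namespace Groth.Agent.S10842

theorem normal_of_isLocalization_le {A S T : Type*} [CommRing A] [CommRing S] [CommRing T]
    [Algebra A S] [Algebra A T] (p q : Ideal A) [p.IsPrime] [q.IsPrime] (hpq : p ≤ q)
    [IsLocalization.AtPrime S q] [IsLocalization.AtPrime T p] [IsDomain S]
    [IsIntegrallyClosed S] : IsDomain T ∧ IsIntegrallyClosed T := by
  have hle : q.primeCompl ≤ p.primeCompl := fun a ha hap => ha (hpq hap)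
  have hunits : ∀ a : q.primeCompl, IsUnit (algebraMap A T a) := fun a =>
    IsLocalization.map_units T (⟨a.1, hle a.2⟩ : p.primeCompl)
  let φ : S →+* T := IsLocalization.lift (M := q.primeCompl) (g := algebraMap A T) hunits
  let _ : Algebra S T := φ.toAlgebra
  have hst : IsScalarTower A S T :=
    IsScalarTower.of_algebraMap_eq (fun a => (IsLocalization.lift_eq hunits a).symm)
  have hloc : IsLocalization (p.primeCompl.map (algebraMap A S)) T :=
    IsLocalization.isLocalization_of_submonoid_le S T q.primeCompl p.primeCompl hle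
  have hnt : Nontrivial T := (IsLocalization.AtPrime.isLocalRing T p).toNontrivial
  have hnzd : p.primeCompl.map (algebraMap A S) ≤ nonZeroDivisors S := by
    rintro _ ⟨a, ha, rfl⟩
    apply mem_nonZeroDivisors_of_ne_zero
    intro h0
    have h1 : algebraMap A T a = 0 := by
      rw [IsScalarTower.algebraMap_apply A S T, h0, map_zero]
    exact (IsLocalization.map_units T (⟨a, ha⟩ : p.primeCompl)).ne_zero h1
  exact ⟨IsLocalization.isDomain_of_le_nonZeroDivisors T hnzd,
    isIntegrallyClosed_of_isLocalization T _ hnzd⟩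

/-- A quasi-compact scheme whose local rings at all closed points are integrally closed domains is
normal, i.e. all of its local rings are integrally closed domains. -/
theorem result (X : Scheme.{u}) [CompactSpace ↥X]
    (h : ∀ x : X, IsClosed ({x} : Set X) →
      IsDomain (X.presheaf.stalk x) ∧ IsIntegrallyClosed (X.presheaf.stalk x)) :
    Pi1.IsNormalScheme X := by
  intro x
  obtain ⟨y, hyx, hy⟩ := IsClosed.exists_closed_singleton (isClosed_closure (s := ({x} : Set X)))
    ⟨x, subset_closure rfl⟩
  have hspec : x ⤳ y := specializes_iff_mem_closure.mpr hyx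
  obtain ⟨hdom, hic⟩ := h y hy
  obtain ⟨_, ⟨U, hU, rfl⟩, hyU, -⟩ :=
    X.isBasis_affineOpens.exists_subset_of_mem_open (Set.mem_univ y) isOpen_univ
  have hU' : IsAffineOpen U := hU
  have hxU : x ∈ U := hspec.mem_open U.isOpen hyU
  let _ := X.presheaf.algebra_section_stalk ⟨y, hyU⟩
  let _ := X.presheaf.algebra_section_stalk ⟨x, hxU⟩
  have := hU'.isLocalization_stalk ⟨y, hyU⟩
  have := hU'.isLocalization_stalk ⟨x, hxU⟩
  have hle : (hU'.primeIdealOf ⟨x, hxU⟩).asIdeal ≤ (hU'.primeIdealOf ⟨y, hyU⟩).asIdeal := by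
    change hU'.primeIdealOf ⟨x, hxU⟩ ≤ hU'.primeIdealOf ⟨y, hyU⟩
    rw [PrimeSpectrum.le_iff_specializes]
    refine (hU'.fromSpec.isOpenEmbedding.isInducing.specializes_iff).mp ?_
    rw [hU'.fromSpec_primeIdealOf, hU'.fromSpec_primeIdealOf]
    exact hspec
  exact normal_of_isLocalization_le (S := X.presheaf.stalk y) (T := X.presheaf.stalk x)
    (hU'.primeIdealOf ⟨x, hxU⟩).asIdeal (hU'.primeIdealOf ⟨y, hyU⟩).asIdeal hle

end Groth.Agent.S10842
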