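import Groth.Statements.S10843
import Mathlib
import Groth.Agent.Lib.Helper12.IntegralDim

set_option autoImplicit false
universe u
open CAlg

namespace Groth.Agent.S10843

lemma dim_eq_of_finite_inj (k A : Type u) [Field k] [CommRing A] [Algebra k A] (s : ℕ)
    (φ : MvPolynomial (Fin s) k →ₐ[k] A) (hfin : φ.toRingHom.Finite) (hinj : Function.Injective φ) :
    ringKrullDim A = (s : WithBot ℕ∞) := by
  let _ : Algebra (MvPolynomial (Fin s) k) A := φ.toRingHom.toAlgebra
  have hF : Module.Finite (MvPolynomial (Fin s) k) A := hfin
  have hI : Algebra.IsIntegral (MvPolynomial (Fin s) k) A := inferInstance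
  have h1 : ringKrullDim (MvPolynomial (Fin s) k) ≤ ringKrullDim A :=
    Groth.Agent.Lib.Helper12.ringKrullDim_le_of_isIntegral_of_injective hinj
  have h2 : ringKrullDim A ≤ ringKrullDim (MvPolynomial (Fin s) k) :=
    Groth.Agent.Lib.Helper12.ringKrullDim_le_of_isIntegral
  rw [← Groth.Agent.Lib.Helper12.ringKrullDim_mvPolynomial_field k s]
  exact le_antisymm h2 h1

/-- For a field k, a nonzero finitely generated k-algebra A and a natural number d, the algebra A has
Krull dimension d exactly when some injective k-algebra map from the polynomial ring in d variables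
over k to A makes A a finite module over that polynomial ring. -/
theorem result (k A : Type u) [Field k]
    [CommRing A] [Nontrivial A] [Algebra k A] [Algebra.FiniteType k A] (d : ℕ) :
    ringKrullDim A = (d : WithBot ℕ∞) ↔
      ∃ φ : MvPolynomial (Fin d) k →ₐ[k] A, φ.toRingHom.Finite ∧ Function.Injective φ := by
  constructor
  · intro h
    obtain ⟨s, g, hinj, hfin⟩ := exists_finite_inj_algHom_of_fg k A
    have hs := dim_eq_of_finite_inj k A s g hfin hinj
    rw [h] at hs
    have hsd : d = s := by exact_mod_cast hs
    subst hsd
    exact ⟨g, hfin, hinj⟩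
  · rintro ⟨φ, hfin, hinj⟩
    exact dim_eq_of_finite_inj k A d φ hfin hinj

end Groth.Agent.S10843
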