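import Groth.Statements.S10844
import Mathlib
import Groth.Agent.Lib.Helper17.PbEpi
import Groth.Agent.S0020

set_option autoImplicit false
universe u
open RepF

namespace Groth.Agent.S10844

open AlgebraicGeometry CategoryTheory in
/-- For a scheme S and a homomorphism v : E → F of quasi-coherent O_S-modules with F of finite type,
there is an open subscheme U of S such that a morphism of schemes f : T → S factors through U (its
image lies in U) if and only if the pulled-back homomorphism f^*v : f^*E → f^*F is an epimorphism. -/
theorem result {S : Scheme.{u}} {E F : S.Modules}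
    [Coh.IsQCoh E] [Coh.IsQCoh F] (hF : CohB1.IsFT F) (v : E ⟶ F) :
    ∃ U : S.Opens, ∀ (T : Scheme.{u}) (f : T ⟶ S),
      Set.range f.base ⊆ (U : Set S) ↔ Epi ((Scheme.Modules.pullback f).map v) := by
  haveI : F.IsFiniteType := hF
  haveI : (Limits.cokernel v : S.Modules).IsFiniteType :=
    Groth.Agent.Lib.Helper3.QCProps.isFiniteType_of_epi (Limits.cokernel.π v)
  have hcl : IsClosed (CohB1.support (Limits.cokernel v)) :=
    Groth.Agent.S0020.result S (Limits.cokernel v) inferInstance
  refine ⟨⟨(CohB1.support (Limits.cokernel v))ᶜ, hcl.isOpen_compl⟩, fun T f => ?_⟩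
  rw [Groth.Agent.Lib.Helper17.PbEpi.epi_pullback_map_iff f v]
  constructor
  · intro h y
    have hy : f y ∈ (CohB1.support (Limits.cokernel v))ᶜ := h ⟨y, rfl⟩
    exact not_not.mp hy
  · rintro h _ ⟨y, rfl⟩
    exact not_not.mpr (h y)

end Groth.Agent.S10844
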