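import Groth.Statements.S10849
import Mathlib

set_option autoImplicit false
universe u
open VbP1

namespace Groth.Agent.S10849


namespace H10849
open Polynomial Matrix
open scoped LaurentPolynomial

variable {k : Type*} [Field k] {n : ℕ}

/-- φ = invert ∘ toLaurent -/
noncomputable def phi (k : Type*) [Field k] : k[X] →+* k[T;T⁻¹] :=
  ((LaurentPolynomial.invert (R := k) : k[T;T⁻¹] ≃ₐ[k] k[T;T⁻¹]) :
    k[T;T⁻¹] →+* k[T;T⁻¹]).comp Polynomial.toLaurent

theorem phi_apply (p : k[X]) : phi k p = LaurentPolynomial.invert (toLaurent p) := rfl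

theorem phi_C (c : k) : phi k (C c) = LaurentPolynomial.C c := by
  rw [phi_apply, Polynomial.toLaurent_C, LaurentPolynomial.invert_C]

theorem phi_X : phi k (X : k[X]) = LaurentPolynomial.T (-1) := by
  rw [phi_apply, Polynomial.toLaurent_X, LaurentPolynomial.invert_T]

theorem isUnit_of_phi_isUnit (g : k[X]) (hg : IsUnit (phi k g)) (h0 : g.coeff 0 ≠ 0) :
    IsUnit g := by
  have hu : IsUnit (toLaurent g) := by
    have := hg.map (LaurentPolynomial.invert (R := k))
    rw [phi_apply, LaurentPolynomial.involutive_invert] at this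
    exact this
  obtain ⟨h, hh⟩ := hu.exists_right_inv
  obtain ⟨s, h', hh'⟩ := LaurentPolynomial.exists_T_pow h
  have e1 : toLaurent (g * h') = toLaurent (X ^ s : k[X]) := by
    rw [map_mul, hh', ← mul_assoc, hh, one_mul, Polynomial.toLaurent_X_pow]
  have e2 : g * h' = X ^ s := Polynomial.toLaurent_injective e1
  have hdvd : g ∣ X ^ s := ⟨h', e2.symm⟩
  obtain ⟨i, _, hassoc⟩ := (dvd_prime_pow Polynomial.prime_X s).1 hdvd
  rcases Nat.eq_zero_or_pos i with rfl | hipos
  · rw [pow_zero] at hassoc
    exact hassoc.symm.isUnit isUnit_one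
  · exfalso
    apply h0
    have : (X : k[X]) ∣ g := (dvd_pow_self X hipos.ne').trans hassoc.symm.dvd
    exact Polynomial.X_dvd_iff.1 this

theorem exists_witness (B : Matrix (Fin n) (Fin n) k[T;T⁻¹]) :
    ∃ (N : Matrix (Fin n) (Fin n) k[X]) (m : ℤ),
      B = N.map (phi k) * diagonal (fun _ => LaurentPolynomial.T m) := by
  have h : ∀ l i, ∃ (s : ℕ) (f : k[X]),
      toLaurent f = LaurentPolynomial.invert (B l i) * LaurentPolynomial.T s :=
    fun l i => LaurentPolynomial.exists_T_pow _
  choose s f hf using h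
  obtain ⟨m₀, hm₀⟩ : ∃ m₀ : ℕ, ∀ l i, s l i ≤ m₀ :=
    ⟨∑ p : Fin n × Fin n, s p.1 p.2, fun l i =>
      Finset.single_le_sum (f := fun p : Fin n × Fin n => s p.1 p.2)
        (fun _ _ => Nat.zero_le _) (Finset.mem_univ (l, i))⟩
  refine ⟨Matrix.of fun l i => f l i * X ^ (m₀ - s l i), (m₀ : ℤ), ?_⟩
  ext l i
  rw [Matrix.mul_diagonal, Matrix.map_apply, Matrix.of_apply, phi_apply]
  rw [map_mul, hf, Polynomial.toLaurent_X_pow, map_mul, map_mul,
    LaurentPolynomial.involutive_invert (B l i), LaurentPolynomial.invert_T,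
    LaurentPolynomial.invert_T]
  rw [mul_assoc, mul_assoc, ← LaurentPolynomial.T_add, ← LaurentPolynomial.T_add]
  have : (-(s l i : ℤ) + (-((m₀ - s l i : ℕ) : ℤ) + (m₀ : ℤ))) = 0 := by
    have := hm₀ l i; omega
  rw [this, LaurentPolynomial.T_zero, mul_one]

theorem step (N : Matrix (Fin n) (Fin n) k[X]) (δ : Fin n → ℤ) (h0 : N.det.coeff 0 = 0) :
    ∃ (U N' : Matrix (Fin n) (Fin n) k[X]) (δ' : Fin n → ℤ) (a : k), a ≠ 0 ∧ IsUnit U ∧
      (N.map (phi k) * diagonal (fun i => LaurentPolynomial.T (δ i))) * U.map toLaurent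
        = N'.map (phi k) * diagonal (fun i => LaurentPolynomial.T (δ' i)) ∧
      N'.det * X = C a * N.det := by
  classical
  have hE : (N.map (Polynomial.constantCoeff (R := k))).det = 0 := by
    rw [← RingHom.mapMatrix_apply, ← RingHom.map_det]
    exact h0
  obtain ⟨c, hc0, hc⟩ := Matrix.exists_mulVec_eq_zero_iff.2 hE
  have hS : (Finset.univ.filter (fun i => c i ≠ 0)).Nonempty := by
    obtain ⟨i, hi⟩ := Function.ne_iff.1 hc0
    exact ⟨i, Finset.mem_filter.2 ⟨Finset.mem_univ _, hi⟩⟩
  obtain ⟨j, hjS, hjmax⟩ := Finset.exists_max_image _ δ hS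
  have hcj : c j ≠ 0 := (Finset.mem_filter.1 hjS).2
  have hmax : ∀ i, c i ≠ 0 → δ i ≤ δ j := fun i hi =>
    hjmax i (Finset.mem_filter.2 ⟨Finset.mem_univ _, hi⟩)
  obtain ⟨s, hs⟩ : ∃ s : Fin n → k[X], ∀ l, s l = ∑ i, N l i * C (c i) := ⟨_, fun _ => rfl⟩
  have hs0 : ∀ l, (s l).coeff 0 = 0 := by
    intro l
    have h1 := congrFun hc l
    rw [hs, Polynomial.finset_sum_coeff]
    simp only [Polynomial.coeff_mul_C]
    simpa [Matrix.mulVec, dotProduct] using h1
  obtain ⟨q, hq⟩ : ∃ q : Fin n → k[X], ∀ l, s l = q l * X := by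
    refine ⟨fun l => (s l).divX, fun l => ?_⟩
    have h1 := Polynomial.divX_mul_X_add (s l)
    rw [hs0 l, map_zero, add_zero] at h1
    exact h1.symm
  refine ⟨(1 : Matrix (Fin n) (Fin n) k[X]).updateCol j
      (fun i => C (c i) * X ^ (δ j - δ i).toNat),
    N.updateCol j q, Function.update δ j (δ j - 1), c j, hcj, ?_, ?_, ?_⟩
  · rw [Matrix.isUnit_iff_isUnit_det, ← Matrix.cramer_apply, Matrix.cramer_one]
    show IsUnit (C (c j) * X ^ (δ j - δ j).toNat)
    rw [sub_self, Int.toNat_zero, pow_zero, mul_one]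
    exact Polynomial.isUnit_C.2 (isUnit_iff_ne_zero.2 hcj)
  · ext l i
    rw [Matrix.mul_diagonal, Matrix.mul_apply]
    simp only [Matrix.mul_diagonal, Matrix.map_apply]
    by_cases hi : i = j
    · subst hi
      simp only [Matrix.updateCol_self, Function.update_self]
      have hterm : ∀ m, (phi k) (N l m) * LaurentPolynomial.T (δ m)
            * toLaurent (C (c m) * X ^ (δ i - δ m).toNat)
          = (phi k) (N l m * C (c m)) * LaurentPolynomial.T (δ i) := by
        intro m
        by_cases hm : c m = 0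
        · rw [hm]; simp
        · have hle := hmax m hm
          rw [map_mul toLaurent, Polynomial.toLaurent_C, Polynomial.toLaurent_X_pow,
            map_mul (phi k), phi_C]
          have hcast : ((δ i - δ m).toNat : ℤ) = δ i - δ m := Int.toNat_of_nonneg (by omega)
          rw [hcast]
          have hT : (LaurentPolynomial.T (δ i) : k[T;T⁻¹])
              = LaurentPolynomial.T (δ m) * LaurentPolynomial.T (δ i - δ m) := by
            rw [← LaurentPolynomial.T_add]; congr 1; ring
          rw [hT]; ring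
      rw [Finset.sum_congr rfl (fun m _ => hterm m), ← Finset.sum_mul, ← map_sum, ← hs, hq l,
        map_mul, phi_X, mul_assoc, ← LaurentPolynomial.T_add]
      congr 2; ring
    · simp only [Matrix.updateCol_ne hi, Function.update_of_ne hi, Matrix.one_apply]
      rw [Finset.sum_eq_single i]
      · simp
      · intro m _ hm; simp [hm]
      · intro h; exact absurd (Finset.mem_univ _) h
  · have hN'' : N * (1 : Matrix (Fin n) (Fin n) k[X]).updateCol j (fun i => C (c i))
        = N.updateCol j (fun l => (X : k[X]) • q l) := by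
      ext l i
      rw [Matrix.mul_apply]
      by_cases hi : i = j
      · subst hi
        simp only [Matrix.updateCol_self]
        rw [← hs, hq l, smul_eq_mul, mul_comm]
      · simp only [Matrix.updateCol_ne hi, Matrix.one_apply]
        rw [Finset.sum_eq_single i]
        · simp
        · intro m _ hm; simp [hm]
        · intro h; exact absurd (Finset.mem_univ _) h
    have h1 := congrArg Matrix.det hN''
    rw [Matrix.det_mul, ← Matrix.cramer_apply, Matrix.cramer_one] at h1
    have h2 : (N.updateCol j (fun l => (X : k[X]) • q l)).det = X * (N.updateCol j q).det :=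
      Matrix.det_updateCol_smul N j X q
    rw [h2] at h1
    have h3 : ((1 : (Fin n → k[X]) →ₗ[k[X]] (Fin n → k[X])) (fun i => C (c i))) j = C (c j) := rfl
    rw [h3] at h1
    rw [mul_comm, ← h1, mul_comm]

theorem reduce : ∀ (m : ℕ) (N : Matrix (Fin n) (Fin n) k[X]) (δ : Fin n → ℤ),
    N.det ≠ 0 → N.det.natDegree = m →
    ∃ (U N' : Matrix (Fin n) (Fin n) k[X]) (δ' : Fin n → ℤ), IsUnit U ∧ N'.det ≠ 0 ∧
      (N.map (phi k) * diagonal (fun i => LaurentPolynomial.T (δ i))) * U.map toLaurent
        = N'.map (phi k) * diagonal (fun i => LaurentPolynomial.T (δ' i)) ∧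
      N'.det.coeff 0 ≠ 0 := by
  intro m
  induction m using Nat.strong_induction_on with
  | _ m ih =>
    intro N δ hN hm
    by_cases h0 : N.det.coeff 0 = 0
    · obtain ⟨U, N₁, δ₁, a, ha, hU, heq, hdet⟩ := step N δ h0
      have hN₁ : N₁.det ≠ 0 := by
        intro h
        rw [h, zero_mul] at hdet
        exact (mul_ne_zero (Polynomial.C_ne_zero.2 ha) hN) hdet.symm
      have hdeg : N₁.det.natDegree + 1 = m := by
        have h1 := congrArg Polynomial.natDegree hdet
        rw [Polynomial.natDegree_mul_X hN₁, Polynomial.natDegree_C_mul ha, hm] at h1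
        exact h1
      obtain ⟨U₂, N₂, δ₂, hU₂, hN₂, heq₂, hc₂⟩ :=
        ih N₁.det.natDegree (by omega) N₁ δ₁ hN₁ rfl
      refine ⟨U * U₂, N₂, δ₂, hU.mul hU₂, hN₂, ?_, hc₂⟩
      rw [Matrix.map_mul, ← Matrix.mul_assoc, heq, heq₂]
    · exact ⟨1, N, δ, isUnit_one, hN, by simp, h0⟩

theorem main (A : Matrix (Fin n) (Fin n) k[T;T⁻¹]) (hA : IsUnit A) :
    ∃ (P Q : Matrix (Fin n) (Fin n) k[X]) (d : Fin n → ℤ), IsUnit P ∧ IsUnit Q ∧
      A = P.map toLaurent * diagonal (fun i => LaurentPolynomial.T (d i)) * Q.map (phi k) := by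
  obtain ⟨B, hAB⟩ := hA.exists_right_inv
  have hBA : B * A = 1 := mul_eq_one_comm.1 hAB
  obtain ⟨N₀, m₀, hB⟩ := exists_witness (k := k) B
  have hdetB : IsUnit B.det := by
    have h1 : B.det * A.det = 1 := by rw [← Matrix.det_mul, hBA, Matrix.det_one]
    exact IsUnit.of_mul_eq_one _ h1
  have hdetN₀ : N₀.det ≠ 0 := by
    intro h
    have h1 : B.det = 0 := by
      rw [hB, Matrix.det_mul, ← RingHom.mapMatrix_apply, ← RingHom.map_det, h, map_zero,
        zero_mul]
    rw [h1] at hdetB
    exact not_isUnit_zero hdetB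
  obtain ⟨U, N', δ', hU, hN', heq, hc⟩ :=
    reduce N₀.det.natDegree N₀ (fun _ => m₀) hdetN₀ rfl
  rw [← hB] at heq
  have hdet : (phi k) N'.det * ∏ i, (LaurentPolynomial.T (δ' i) : k[T;T⁻¹])
      = B.det * toLaurent U.det := by
    have h1 := congrArg Matrix.det heq
    rw [Matrix.det_mul, Matrix.det_mul, Matrix.det_diagonal, ← RingHom.mapMatrix_apply,
      ← RingHom.map_det, ← RingHom.mapMatrix_apply, ← RingHom.map_det] at h1
    exact h1.symm
  have hunit : IsUnit ((phi k) N'.det) := by
    have h1 : IsUnit (B.det * toLaurent U.det) :=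
      hdetB.mul (((Matrix.isUnit_iff_isUnit_det _).1 hU).map toLaurent)
    rw [← hdet] at h1
    exact isUnit_of_mul_isUnit_left h1
  have hN'u : IsUnit N' :=
    (Matrix.isUnit_iff_isUnit_det _).2 (isUnit_of_phi_isUnit _ hunit hc)
  obtain ⟨Q, hNQ⟩ := hN'u.exists_right_inv
  have hQu : IsUnit Q := IsUnit.of_mul_eq_one _ (mul_eq_one_comm.1 hNQ)
  refine ⟨U, Q, fun i => - δ' i, hU, hQu, ?_⟩
  have h1 : U.map toLaurent
      = A * (N'.map (phi k) * diagonal (fun i => LaurentPolynomial.T (δ' i))) := by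
    rw [← heq, ← Matrix.mul_assoc, hAB, Matrix.one_mul]
  have h2 : diagonal (fun i => (LaurentPolynomial.T (δ' i) : k[T;T⁻¹]))
      * diagonal (fun i => LaurentPolynomial.T (- δ' i)) = 1 := by
    rw [Matrix.diagonal_mul_diagonal]
    have h2' : (fun i => (LaurentPolynomial.T (δ' i) : k[T;T⁻¹]) * LaurentPolynomial.T (- δ' i))
        = fun _ => 1 := by
      funext i
      rw [← LaurentPolynomial.T_add, add_neg_cancel, LaurentPolynomial.T_zero]
    rw [h2', Matrix.diagonal_one]
  have h3 : N'.map (phi k) * Q.map (phi k) = 1 := by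
    rw [← Matrix.map_mul, hNQ]
    simp
  calc A
      = A * (N'.map (phi k) * (diagonal (fun i => (LaurentPolynomial.T (δ' i) : k[T;T⁻¹]))
          * diagonal (fun i => LaurentPolynomial.T (- δ' i)))
          * Q.map (phi k)) := by
        rw [h2, Matrix.mul_one, h3, Matrix.mul_one]
    _ = U.map toLaurent * diagonal (fun i => LaurentPolynomial.T (- δ' i))
          * Q.map (phi k) := by
        rw [h1]; simp only [Matrix.mul_assoc]

end H10849

/-- Let k be a field and n a natural number. For every invertible n × n matrix A with entries in the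
Laurent polynomial ring k[T, T⁻¹] there are matrices P and Q over k[T], invertible over k[T], and
integers d_1 ≥ d_2 ≥ … ≥ d_n (indexed by Fin n, antitone) such that A = P · diag(T^{d_i}) · Q⁻,
where Q⁻ is obtained from Q by the substitution T ↦ T⁻¹ (so Q⁻ is invertible over k[T⁻¹]). -/
theorem result (k : Type u) [Field k] (n : ℕ)
    (A : Matrix (Fin n) (Fin n) (LaurentPolynomial k)) (hA : IsUnit A) :
    ∃ (P Q : Matrix (Fin n) (Fin n) (Polynomial k)) (d : Fin n → ℤ),
      IsUnit P ∧ IsUnit Q ∧ Antitone d ∧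
        A = P.map Polynomial.toLaurent * Matrix.diagonal (fun i => LaurentPolynomial.T (d i)) *
          (Q.map Polynomial.toLaurent).map LaurentPolynomial.invert := by
  classical
  obtain ⟨P, Q, d, hP, hQ, hA'⟩ := H10849.main A hA
  refine ⟨P.submatrix id (Tuple.sort (fun i => - d i)),
    Q.submatrix (Tuple.sort (fun i => - d i)) id, d ∘ (Tuple.sort (fun i => - d i)), ?_, ?_, ?_, ?_⟩
  · exact (Matrix.isUnit_submatrix_equiv (Equiv.refl _) (Tuple.sort (fun i => - d i))).2 hP
  · exact (Matrix.isUnit_submatrix_equiv (Tuple.sort (fun i => - d i)) (Equiv.refl _)).2 hQ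
  · intro a b hab
    have h1 := Tuple.monotone_sort (fun i => - d i) hab
    simp only [Function.comp_apply, neg_le_neg_iff] at h1
    exact h1
  · have e1 : (P.submatrix id (Tuple.sort (fun i => - d i))).map Polynomial.toLaurent
        = (P.map Polynomial.toLaurent).submatrix id (Tuple.sort (fun i => - d i)) := rfl
    have e2 : Matrix.diagonal (fun i => (LaurentPolynomial.T
          ((d ∘ (Tuple.sort (fun i => - d i))) i) : LaurentPolynomial k))
        = (Matrix.diagonal (fun i => (LaurentPolynomial.T (d i) : LaurentPolynomial k))).submatrix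
          (Tuple.sort (fun i => - d i)) (Tuple.sort (fun i => - d i)) :=
      (Matrix.submatrix_diagonal_equiv (fun i => (LaurentPolynomial.T (d i) : LaurentPolynomial k)) (Tuple.sort (fun i => - d i))).symm
    have e3 : ((Q.submatrix (Tuple.sort (fun i => - d i)) id).map Polynomial.toLaurent).map
          LaurentPolynomial.invert
        = (Q.map (H10849.phi k)).submatrix (Tuple.sort (fun i => - d i)) id := rfl
    rw [e1, e2, e3, Matrix.submatrix_mul_equiv, Matrix.submatrix_mul_equiv, Matrix.submatrix_id_id]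
    exact hA'

end Groth.Agent.S10849
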