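import Groth.Statements.S10851
import Groth.Agent.Lib.Helper28.MeroDivLocal

set_option autoImplicit false
universe u
open Mero

namespace Groth.Agent.S10851

open AlgebraicGeometry in
/-- Let X be a locally Noetherian scheme and D a divisor on X (a global section of K_X^×/O_X^×). Then
the support of D has codimension at least 1 in X: for every point z at which the germ of D is
non-trivial, the local ring O_{X,z} has Krull dimension at least 1. -/
theorem result {X : Scheme.{u}} [IsLocallyNoetherian X]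
    (D : Mero.Divisor X) (z : X) (hz : z ∈ Mero.supp D) :
    (1 : WithBot ℕ∞) ≤ ringKrullDim (X.presheaf.stalk z) := by
  by_contra hlt
  rw [not_le] at hlt
  have h0 : ringKrullDim (X.presheaf.stalk z) ≤ ((0 : ℕ) : WithBot ℕ∞) := by
    apply ENat.WithBot.lt_add_one_iff.mp
    simpa using hlt
  have : Ring.KrullDimLE 0 (X.presheaf.stalk z) := Ring.krullDimLE_iff.mpr h0
  have hunit : ∀ c ∈ nonZeroDivisors (X.presheaf.stalk z), IsUnit c := by
    intro c hc
    by_contra hcu
    have hm : c ∈ IsLocalRing.maximalIdeal (X.presheaf.stalk z) :=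
      (IsLocalRing.mem_maximalIdeal c).mpr hcu
    obtain ⟨n, hn⟩ := Ring.KrullDimLE.isNilpotent_iff_mem_maximalIdeal.mpr hm
    have h1 : c ^ n ∈ nonZeroDivisors (X.presheaf.stalk z) := pow_mem hc n
    rw [hn] at h1
    exact zero_notMem_nonZeroDivisors h1
  have hz' : D.1 z ≠ 1 := hz
  apply hz'
  obtain ⟨W, hW, hzW, a, b, hab⟩ := Groth.Agent.Lib.Helper28.MeroDivLocal.exists_local_fraction D z
  obtain ⟨a', ha'⟩ := (hunit _ (a.2 ⟨z, hzW⟩)).exists_right_inv
  obtain ⟨b', hb'⟩ := (hunit _ (b.2 ⟨z, hzW⟩)).exists_right_inv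
  refine Groth.Agent.Lib.Helper28.MeroDivLocal.germ_eq_one_of_dvd_dvd
    (Mero.regGerm ⟨z, hzW⟩ a) (Mero.regGerm ⟨z, hzW⟩ b) (hab ⟨z, hzW⟩)
    (b' * X.presheaf.germ W z hzW a.1) (a' * X.presheaf.germ W z hzW b.1) ?_ ?_
  · change X.presheaf.germ W z hzW a.1 =
      X.presheaf.germ W z hzW b.1 * (b' * X.presheaf.germ W z hzW a.1)
    rw [← mul_assoc, hb', one_mul]
  · change X.presheaf.germ W z hzW b.1 =
      X.presheaf.germ W z hzW a.1 * (a' * X.presheaf.germ W z hzW b.1)
    rw [← mul_assoc, ha', one_mul]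

end Groth.Agent.S10851
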