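import Groth.Statements.S10863
import Mathlib

set_option autoImplicit false
universe u
open CAlg

namespace Groth.Agent.S10863

open TensorProduct

theorem card_algHom_eq_sum (k' B Ω : Type u) [Field k'] [CommRing B] [Algebra k' B]
    [Module.Finite k' B] [Field Ω] [Algebra k' Ω] [IsAlgClosed Ω] :
    Nat.card (B →ₐ[k'] Ω) = ∑ᶠ m : MaximalSpectrum B,
      Field.finSepDegree k' (IsLocalRing.ResidueField (Localization.AtPrime m.asIdeal)) := by
  classical
  haveI : IsArtinianRing B := IsArtinianRing.of_finite k' B
  haveI : Fintype (MaximalSpectrum B) := Fintype.ofFinite _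
  let f : (B →ₐ[k'] Ω) → MaximalSpectrum B := fun φ =>
    ⟨RingHom.ker φ.toRingHom, by
      haveI : (RingHom.ker φ.toRingHom).IsPrime := RingHom.ker_isPrime _
      exact IsArtinianRing.isMaximal_of_isPrime _⟩
  have hfib : ∀ m : MaximalSpectrum B,
      Nat.card {φ : B →ₐ[k'] Ω // f φ = m} =
        Field.finSepDegree k' (IsLocalRing.ResidueField (Localization.AtPrime m.asIdeal)) := by
    intro m
    letI : Field (B ⧸ m.asIdeal) := Ideal.Quotient.field m.asIdeal
    haveI : Module.Finite k' (B ⧸ m.asIdeal) :=
      Module.Finite.of_surjective (Ideal.Quotient.mkₐ k' m.asIdeal).toLinearMap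
        (Ideal.Quotient.mkₐ_surjective k' _)
    haveI : Algebra.IsAlgebraic k' (B ⧸ m.asIdeal) := Algebra.IsAlgebraic.of_finite _ _
    let e : {φ : B →ₐ[k'] Ω // f φ = m} ≃ ((B ⧸ m.asIdeal) →ₐ[k'] Ω) :=
      { toFun := fun φ => Ideal.Quotient.liftₐ m.asIdeal φ.1 (by
            intro a ha
            have h1 : RingHom.ker φ.1.toRingHom = m.asIdeal :=
              congrArg MaximalSpectrum.asIdeal φ.2
            have h2 : a ∈ RingHom.ker φ.1.toRingHom := h1 ▸ ha
            exact h2)
        invFun := fun ψ => ⟨ψ.comp (Ideal.Quotient.mkₐ k' m.asIdeal), by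
            apply MaximalSpectrum.ext
            show RingHom.ker (ψ.comp (Ideal.Quotient.mkₐ k' m.asIdeal)).toRingHom = m.asIdeal
            ext a
            rw [RingHom.mem_ker]
            show ψ (Ideal.Quotient.mk m.asIdeal a) = 0 ↔ _
            rw [map_eq_zero_iff ψ ψ.toRingHom.injective, Ideal.Quotient.eq_zero_iff_mem]⟩
        left_inv := fun φ => by
            apply Subtype.ext
            apply AlgHom.ext
            intro a
            rfl
        right_inv := fun ψ => by
            apply AlgHom.ext
            intro x
            obtain ⟨a, rfl⟩ := Ideal.Quotient.mk_surjective x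
            rfl }
    rw [Nat.card_congr e, ← Field.finSepDegree_eq_of_isAlgClosed k' (B ⧸ m.asIdeal) Ω]
    let r : (B ⧸ m.asIdeal) ≃+* IsLocalRing.ResidueField (Localization.AtPrime m.asIdeal) :=
      IsLocalization.AtPrime.equivQuotMaximalIdeal m.asIdeal (Localization.AtPrime m.asIdeal)
    let ra : (B ⧸ m.asIdeal) ≃ₐ[k'] IsLocalRing.ResidueField (Localization.AtPrime m.asIdeal) :=
      AlgEquiv.ofRingEquiv (f := r) (by
        intro c
        rfl)
    exact Field.finSepDegree_eq_of_equiv k' _ _ ra
  rw [finsum_eq_sum_of_fintype]
  rw [← Nat.card_congr (Equiv.sigmaFiberEquiv f), Nat.card_sigma]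
  exact Finset.sum_congr rfl (fun m _ => hfib m)

theorem card_algHom_tensor (k A k' Ω : Type u) [Field k] [CommRing A] [Algebra k A] [Field k']
    [Algebra k k'] [Field Ω] [Algebra k Ω] [Algebra k' Ω] [IsScalarTower k k' Ω] :
    Nat.card (A →ₐ[k] Ω) = Nat.card (k' ⊗[k] A →ₐ[k'] Ω) := by
  refine Nat.card_congr
    { toFun := fun φ =>
        Algebra.TensorProduct.lift (Algebra.ofId k' Ω) φ (fun _ _ => Commute.all _ _)
      invFun := fun Ψ => (Ψ.restrictScalars k).comp Algebra.TensorProduct.includeRight
      left_inv := fun φ => by
        apply AlgHom.ext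
        intro a
        simp
      right_inv := fun Ψ => by
        apply Algebra.TensorProduct.ext
        · apply AlgHom.ext
          intro c
          have h1 : (c ⊗ₜ[k] (1 : A) : k' ⊗[k] A) = algebraMap k' (k' ⊗[k] A) c := by
            rw [Algebra.TensorProduct.algebraMap_apply]
            rfl
          simp only [AlgHom.comp_apply, Algebra.TensorProduct.includeLeft_apply,
            Algebra.TensorProduct.lift_tmul, map_one, mul_one, Algebra.ofId_apply]
          rw [h1, AlgHom.commutes]
        · apply AlgHom.ext
          intro a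
          simp }

theorem card_algHom_residueField (k A Ω : Type u) [Field k] [CommRing A] [Algebra k A]
    [Module.Finite k A] [IsLocalRing A] [Field Ω] [Algebra k Ω] :
    Nat.card (IsLocalRing.ResidueField A →ₐ[k] Ω) = Nat.card (A →ₐ[k] Ω) := by
  haveI : IsArtinianRing A := IsArtinianRing.of_finite k A
  have hker : ∀ φ : A →ₐ[k] Ω, ∀ a ∈ IsLocalRing.maximalIdeal A, φ a = 0 := by
    intro φ a ha
    haveI : (RingHom.ker φ.toRingHom).IsPrime := RingHom.ker_isPrime _
    have hmax : (RingHom.ker φ.toRingHom).IsMaximal := IsArtinianRing.isMaximal_of_isPrime _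
    have h1 := IsLocalRing.eq_maximalIdeal hmax
    have h2 : a ∈ RingHom.ker φ.toRingHom := h1 ▸ ha
    exact h2
  refine Nat.card_congr
    { toFun := fun ψ => ψ.comp (IsScalarTower.toAlgHom k A (IsLocalRing.ResidueField A))
      invFun := fun φ => Ideal.Quotient.liftₐ (IsLocalRing.maximalIdeal A) φ (hker φ)
      left_inv := fun ψ => by
        apply AlgHom.ext
        intro x
        obtain ⟨a, rfl⟩ := IsLocalRing.residue_surjective x
        rfl
      right_inv := fun φ => by
        apply AlgHom.ext
        intro a
        rfl }

open TensorProduct in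
/-- Let k be a field, A a finite-dimensional local k-algebra with residue field κ, and k' a field
extension of k. Then the separable degree of κ over k equals the sum over the maximal ideals m' of
k' ⊗_k A (the points of the base-changed finite scheme lying over the given point) of the separable
degrees over k' of their residue fields. -/
theorem result (k A k' : Type u) [Field k] [CommRing A] [Algebra k A]
    [Module.Finite k A] [IsLocalRing A] [Field k'] [Algebra k k'] :
    Field.finSepDegree k (IsLocalRing.ResidueField A) =
      ∑ᶠ m : MaximalSpectrum (k' ⊗[k] A),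
        Field.finSepDegree k' (IsLocalRing.ResidueField (Localization.AtPrime m.asIdeal)) := by

  classical
  haveI : Module.Finite k (IsLocalRing.ResidueField A) :=
    Module.Finite.of_surjective
      (IsScalarTower.toAlgHom k A (IsLocalRing.ResidueField A)).toLinearMap
      IsLocalRing.residue_surjective
  haveI : Algebra.IsAlgebraic k (IsLocalRing.ResidueField A) := Algebra.IsAlgebraic.of_finite _ _
  rw [Field.finSepDegree_eq_of_isAlgClosed k (IsLocalRing.ResidueField A) (AlgebraicClosure k'),
    card_algHom_residueField k A (AlgebraicClosure k'),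
    card_algHom_tensor k A k' (AlgebraicClosure k'),
    card_algHom_eq_sum k' (k' ⊗[k] A) (AlgebraicClosure k')]

end Groth.Agent.S10863
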