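import Groth.Statements.S10870
-- import your own Groth.Agent.* helpers here
import Mathlib
import Groth.Agent.Lib.Helper22.DetDim2

set_option autoImplicit false
universe u
open CAlgX

namespace Groth.Agent.S10870

/-- For a field k and 0 ≤ r ≤ min(n, m), the affine determinantal scheme of n × m matrices of rank at
most r over k — the spectrum of the polynomial ring on the entries of the generic n × m matrix
modulo the ideal of its (r+1) × (r+1) minors — has dimension r(m + n − r). -/
theorem result (k : Type u) [Field k] (n m r : ℕ) (hr : r ≤ min n m) :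
    ringKrullDim (MvPolynomial (Fin n × Fin m) k ⧸ CAlgX.minorIdeal (Matrix.of fun (i : Fin n) (j : Fin m) => (MvPolynomial.X (i, j) : MvPolynomial (Fin n × Fin m) k)) (r + 1)) =
      ((r * (m + n - r) : ℕ) : WithBot ℕ∞) := by
  have hrn : r ≤ n := hr.trans (min_le_left _ _)
  have hrm : r ≤ m := hr.trans (min_le_right _ _)
  have harith : r * m + (n - r) * r = r * (m + n - r) := by
    obtain ⟨q, rfl⟩ := Nat.exists_eq_add_of_le hrn
    have h1 : r + q - r = q := by omega
    have h2 : m + (r + q) - r = m + q := by omega
    rw [h1, h2]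
    ring
  apply le_antisymm
  · refine Groth.Agent.Lib.Helper22.DetDim.ringKrullDim_quotient_le hrn hrm _ ?_
    intro f' g'
    exact Ideal.subset_span ⟨(f', g'), rfl⟩
  · rw [← harith]
    refine Groth.Agent.Lib.Helper22.DetDim.le_ringKrullDim_quotient hrn hrm _ ?_
    unfold CAlgX.minorIdeal
    rw [Ideal.span_le]
    rintro _ ⟨fg, rfl⟩
    exact Groth.Agent.Lib.Helper22.DetDim.psi_minor hrn fg.1 fg.2

end Groth.Agent.S10870
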