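import Groth.Statements.S12419
import Mathlib
import Groth.Agent.Lib.Helper9.FlatDescArt

set_option autoImplicit false
universe u
open TensorProduct
open CAlg

namespace Groth.Agent.S12419

/-- Let A → B be a local homomorphism of Noetherian local rings, m the maximal ideal of A, and φ : A →
A' a ring homomorphism to a semi-local Noetherian ring A' with Jacobson radical r', such that
φ⁻¹(r') = m and such that every power m^n contains φ⁻¹(r'^N) for some N. Then B is flat over A if
and only if A' ⊗_A B is flat over A'. (Given φ⁻¹(r') = m, the condition on powers says that the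
m-adic topology of A is induced by the r'-adic topology of A', equivalently that the induced
homomorphism of adic completions is injective, which is how the published statement phrases this
hypothesis.) -/
theorem result (A B A' : Type u) [CommRing A] [CommRing B]
    [CommRing A'] [IsNoetherianRing A] [IsLocalRing A] [IsNoetherianRing B] [IsLocalRing B]
    [Algebra A B] [IsLocalHom (algebraMap A B)] [IsNoetherianRing A'] [Finite (MaximalSpectrum A')]
    [Algebra A A']
    (hrad : (Ideal.jacobson (⊥ : Ideal A')).comap (algebraMap A A') = IsLocalRing.maximalIdeal A)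
    (htop : ∀ n : ℕ, ∃ N : ℕ,
      ((Ideal.jacobson (⊥ : Ideal A')) ^ N).comap (algebraMap A A') ≤ (IsLocalRing.maximalIdeal A) ^ n) :
    Module.Flat A B ↔ Module.Flat A' (A' ⊗[A] B) := by
  constructor
  · intro h
    infer_instance
  · intro hflat
    haveI := hflat
    have hmr : (IsLocalRing.maximalIdeal A).map (algebraMap A A') ≤ Ideal.jacobson ⊥ := by
      rw [Ideal.map_le_iff_le_comap, hrad]
    refine Groth.Agent.Lib.Helper8.flat_of_forall_flat_quotient_pow (IsLocalRing.maximalIdeal A) B
      ?_ ?_
    · intro n hn
      obtain ⟨N, hN⟩ := htop n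
      have hne : ((Ideal.jacobson (⊥ : Ideal A')) ^ N).comap (algebraMap A A') ≠ ⊤ := by
        intro htop'
        rw [htop'] at hN
        have : (IsLocalRing.maximalIdeal A) ^ n ≤ IsLocalRing.maximalIdeal A :=
          Ideal.pow_le_self (Nat.pos_iff_ne_zero.mp hn)
        exact (IsLocalRing.maximalIdeal.isMaximal A).ne_top (top_le_iff.mp (hN.trans this))
      exact Groth.Agent.Lib.Helper9.FlatDescArt.flat_quotient_of_flat_baseChange B
        (Ideal.jacobson ⊥) hmr N hne ((IsLocalRing.maximalIdeal A) ^ n) hN
    · intro 𝔞
      refine Groth.Agent.Lib.Helper9.FlatDescArt.iInf_pow_smul_tensor_eq_bot (B := B)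
        (IsLocalRing.maximalIdeal A) ?_ B 𝔞
      rw [IsLocalRing.jacobson_eq_maximalIdeal ⊥ bot_ne_top]
      have hloc : IsLocalHom (algebraMap A B) := inferInstance
      exact ((IsLocalRing.local_hom_TFAE (algebraMap A B)).out 0 2).mp hloc

end Groth.Agent.S12419
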