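import Groth.Statements.S10876
import Mathlib
import Groth.Agent.S12419

set_option autoImplicit false
universe u
open TensorProduct
open CAlg

namespace Groth.Agent.S10876

/-- Descent of flatness along finite injective maps: let A → B be a local homomorphism of Noetherian
local rings and A → A' an injective ring homomorphism making A' a finite A-module. Then B is A-flat
if and only if the base change A' ⊗_A B is A'-flat. -/
theorem result (A B A' : Type u) [CommRing A] [CommRing B]
    [CommRing A'] [IsNoetherianRing A] [IsLocalRing A] [IsNoetherianRing B] [IsLocalRing B]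
    [Algebra A B] [IsLocalHom (algebraMap A B)] [Algebra A A'] [Module.Finite A A']
    (hinj : Function.Injective (algebraMap A A')) :
    Module.Flat A B ↔ Module.Flat A' (A' ⊗[A] B) := by
  haveI : IsNoetherianRing A' := IsNoetherianRing.of_finite A A'
  haveI : Algebra.IsIntegral A A' := Algebra.IsIntegral.of_finite A A'
  haveI : Nontrivial A' := hinj.nontrivial
  have hover : ∀ M : Ideal A', M.IsMaximal →
      M.comap (algebraMap A A') = IsLocalRing.maximalIdeal A := by
    intro M hM
    haveI := hM
    exact IsLocalRing.eq_maximalIdeal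
      (Ideal.isMaximal_comap_of_isIntegral_of_isMaximal (R := A) M)
  haveI : Finite (MaximalSpectrum A') := by
    have hfin : ((IsLocalRing.maximalIdeal A).primesOver A').Finite :=
      Algebra.QuasiFinite.finite_primesOver (IsLocalRing.maximalIdeal A)
    haveI := hfin.to_subtype
    let f : MaximalSpectrum A' → ↥((IsLocalRing.maximalIdeal A).primesOver A') := fun M =>
      ⟨M.asIdeal, M.isMaximal.isPrime, ⟨(hover M.asIdeal M.isMaximal).symm⟩⟩
    refine Finite.of_injective f ?_
    intro M₁ M₂ h
    have h' : M₁.asIdeal = M₂.asIdeal := congrArg Subtype.val h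
    exact MaximalSpectrum.ext h'
  have hrad : (Ideal.jacobson (⊥ : Ideal A')).comap (algebraMap A A') =
      IsLocalRing.maximalIdeal A := by
    apply le_antisymm
    · apply IsLocalRing.le_maximalIdeal
      intro htop
      rw [Ideal.comap_eq_top_iff, Ideal.jacobson_eq_top_iff] at htop
      exact bot_ne_top htop
    · intro a ha
      rw [Ideal.mem_comap, Ideal.jacobson, Ideal.mem_sInf]
      rintro M ⟨_, hM⟩
      have h1 := hover M hM
      have ha' : a ∈ M.comap (algebraMap A A') := by rw [h1]; exact ha
      exact ha'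
  have hr_le : Ideal.jacobson (⊥ : Ideal A') ≤
      ((IsLocalRing.maximalIdeal A).map (algebraMap A A')).radical := by
    rw [Ideal.radical_eq_sInf]
    apply le_sInf
    rintro P ⟨hP1, hP2⟩
    haveI := hP2
    have h1 : IsLocalRing.maximalIdeal A ≤ P.comap (algebraMap A A') :=
      Ideal.map_le_iff_le_comap.mp hP1
    have h2 : P.comap (algebraMap A A') ≠ ⊤ := (Ideal.comap_isPrime _ P).ne_top
    have hPm : IsLocalRing.maximalIdeal A = P.comap (algebraMap A A') :=
      (IsLocalRing.maximalIdeal.isMaximal A).eq_of_le h2 h1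
    have hPmax : P.IsMaximal :=
      Ideal.isMaximal_of_isIntegral_of_isMaximal_comap (R := A) P
        (by rw [← hPm]; exact IsLocalRing.maximalIdeal.isMaximal A)
    exact sInf_le (show P ∈ {J : Ideal A' | ⊥ ≤ J ∧ J.IsMaximal} from ⟨bot_le, hPmax⟩)
  obtain ⟨N₀, hN₀⟩ := Ideal.exists_radical_pow_le_of_fg
    ((IsLocalRing.maximalIdeal A).map (algebraMap A A')) (IsNoetherian.noetherian _)
  obtain ⟨c, hc⟩ := Ideal.exists_pow_inf_eq_pow_smul (IsLocalRing.maximalIdeal A)
    (LinearMap.range (Algebra.linearMap A A'))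
  have hrange : ∀ (n : ℕ) (x : A'),
      x ∈ (IsLocalRing.maximalIdeal A) ^ n • LinearMap.range (Algebra.linearMap A A') →
      ∃ a' ∈ (IsLocalRing.maximalIdeal A) ^ n, algebraMap A A' a' = x := by
    intro n x hx
    refine Submodule.smul_induction_on hx ?_ ?_
    · rintro r hr y ⟨b, rfl⟩
      exact ⟨r * b, Ideal.mul_mem_right _ _ hr, by
        rw [Algebra.linearMap_apply, Algebra.smul_def, map_mul]⟩
    · rintro x y ⟨a₁, h₁, rfl⟩ ⟨a₂, h₂, rfl⟩
      exact ⟨a₁ + a₂, Ideal.add_mem _ h₁ h₂, map_add _ _ _⟩
  have htop : ∀ n : ℕ, ∃ N : ℕ,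
      ((Ideal.jacobson (⊥ : Ideal A')) ^ N).comap (algebraMap A A') ≤
        (IsLocalRing.maximalIdeal A) ^ n := by
    intro n
    refine ⟨N₀ * (n + c), ?_⟩
    intro a ha
    rw [Ideal.mem_comap] at ha
    have h1 : algebraMap A A' a ∈
        ((IsLocalRing.maximalIdeal A) ^ (n + c)).map (algebraMap A A') := by
      have h0 : (Ideal.jacobson (⊥ : Ideal A')) ^ (N₀ * (n + c)) ≤
          ((IsLocalRing.maximalIdeal A) ^ (n + c)).map (algebraMap A A') := by
        rw [pow_mul, Ideal.map_pow]
        exact Ideal.pow_right_mono ((Ideal.pow_right_mono hr_le N₀).trans hN₀) (n + c)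
      exact h0 ha
    have h2 : algebraMap A A' a ∈
        (IsLocalRing.maximalIdeal A) ^ (n + c) • (⊤ : Submodule A A') := by
      rw [Ideal.smul_top_eq_map]
      exact h1
    have h3 : algebraMap A A' a ∈
        (IsLocalRing.maximalIdeal A) ^ (n + c) • (⊤ : Submodule A A') ⊓
          LinearMap.range (Algebra.linearMap A A') := ⟨h2, ⟨a, rfl⟩⟩
    rw [hc (n + c) (Nat.le_add_left c n), Nat.add_sub_cancel] at h3
    have h4 : algebraMap A A' a ∈
        (IsLocalRing.maximalIdeal A) ^ n • LinearMap.range (Algebra.linearMap A A') :=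
      Submodule.smul_mono le_rfl inf_le_right h3
    obtain ⟨a', ha', hEq⟩ := hrange n _ h4
    rw [← hinj hEq]
    exact ha'
  exact Groth.Agent.S12419.result A B A' hrad htop

end Groth.Agent.S10876
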