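import Groth.Statements.S10877
import Mathlib

set_option autoImplicit false
universe u
open CategoryTheory AlgebraicGeometry
open FlatMor

namespace Groth.Agent.S10877

section helpers
open CategoryTheory.Limits

set_option backward.isDefEq.respectTransparency false in
/-- Pointwise version of `ext_of_isDominant_of_isSeparated` without reducedness. -/
theorem pointwise_eq_of_isDominant_of_isSeparated {W X Y Z : Scheme.{u}} {f g : X ⟶ Y}
    (s : Y ⟶ Z) [IsSeparated s] (h : f ≫ s = g ≫ s)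
    (ι : W ⟶ X) [IsDominant ι] (hU : ι ≫ f = ι ≫ g) (x : X) : f x = g x := by
  let X' : Over Z := Over.mk (f ≫ s)
  let Y' : Over Z := Over.mk s
  let U' : Over Z := Over.mk (ι ≫ f ≫ s)
  let f' : X' ⟶ Y' := Over.homMk f
  let g' : X' ⟶ Y' := Over.homMk g
  let ι' : U' ⟶ X' := Over.homMk ι
  have : IsSeparated Y'.hom := ‹_›
  have : IsDominant (equalizer.ι f' g').left := by
    apply +allowSynthFailures IsDominant.of_comp (equalizer.lift ι' ?_).left
    · rwa [← Over.comp_left, equalizer.lift_ι]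
    · ext1; exact hU
  have hsurj : Surjective (equalizer.ι f' g').left :=
    surjective_of_isDominant_of_isClosed_range _ (Scheme.Hom.isClosedEmbedding _).isClosed_range
  obtain ⟨e, rfl⟩ := hsurj.surj x
  have h2 : (equalizer.ι f' g').left ≫ f = (equalizer.ι f' g').left ≫ g :=
    congr($(equalizer.condition f' g').left)
  exact congrArg (fun φ : (equalizer f' g').left ⟶ Y => φ e) h2

end helpers


/-- A separated morphism f : X → Y, with X having finitely many irreducible components, which restricts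
to an open immersion on each member of a cover of X by dense open subsets, is an open immersion. -/
theorem result {X Y : Scheme.{u}} (f : X ⟶ Y) [IsSeparated f]
    (hfin : (irreducibleComponents (X : Type u)).Finite) {ι : Type u} (U : ι → X.Opens)
    (hU : ⨆ i, U i = ⊤) (hd : ∀ i, Dense (U i : Set X)) (h : ∀ i, IsOpenImmersion ((U i).ι ≫ f)) :
    IsOpenImmersion f := by
  have hcover : ∀ x : X, ∃ i, x ∈ U i := by
    intro x
    have hx : x ∈ (⨆ i, U i : X.Opens) := by rw [hU]; trivial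
    exact TopologicalSpace.Opens.mem_iSup.mp hx
  have hinj : Function.Injective ⇑f := by
    intro a b hab
    obtain ⟨i, hai⟩ := hcover a
    obtain ⟨j, hbj⟩ := hcover b
    haveI := h i
    haveI := h j
    let gi := (U i).ι ≫ f
    let gj := (U j).ι ≫ f
    let T : (U i).toScheme.Opens := gi ⁻¹ᵁ gj.opensRange
    have hrange : Set.range (T.ι ≫ gi) ⊆ Set.range gj := by
      rintro _ ⟨τ, rfl⟩
      exact τ.2
    let ℓ : T.toScheme ⟶ (U j).toScheme := IsOpenImmersion.lift gj (T.ι ≫ gi) hrange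
    have hℓ : ℓ ≫ gj = T.ι ≫ gi := IsOpenImmersion.lift_fac _ _ _
    let si : T.toScheme ⟶ X := T.ι ≫ (U i).ι
    let sj : T.toScheme ⟶ X := ℓ ≫ (U j).ι
    have hsf : si ≫ f = sj ≫ f := by
      show (T.ι ≫ (U i).ι) ≫ f = (ℓ ≫ (U j).ι) ≫ f
      rw [Category.assoc, Category.assoc]
      exact hℓ.symm
    let WT : T.toScheme.Opens := T.ι ⁻¹ᵁ ((U i).ι ⁻¹ᵁ (U j))
    have hWTdense : Dense (WT : Set T.toScheme) := by
      have h1 : Dense (((U i).ι ⁻¹ᵁ (U j) : (U i).toScheme.Opens) : Set (U i).toScheme) :=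
        (hd j).preimage (U i).ι.isOpenEmbedding.isOpenMap
      exact h1.preimage T.ι.isOpenEmbedding.isOpenMap
    haveI : IsDominant WT.ι := ⟨by
      rw [DenseRange, Scheme.Opens.range_ι]; exact hWTdense⟩
    have hrange2 : Set.range (WT.ι ≫ T.ι ≫ (U i).ι) ⊆ Set.range (U j).ι := by
      rintro _ ⟨w, rfl⟩
      rw [Scheme.Opens.range_ι]
      exact w.2
    let ρ : WT.toScheme ⟶ (U j).toScheme :=
      IsOpenImmersion.lift (U j).ι (WT.ι ≫ T.ι ≫ (U i).ι) hrange2
    have hρ : ρ ≫ (U j).ι = WT.ι ≫ T.ι ≫ (U i).ι := IsOpenImmersion.lift_fac _ _ _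
    have hρℓ : WT.ι ≫ ℓ = ρ := by
      rw [← cancel_mono gj, Category.assoc, hℓ]
      show WT.ι ≫ T.ι ≫ (U i).ι ≫ f = ρ ≫ (U j).ι ≫ f
      rw [← Category.assoc ρ, hρ]
      simp only [Category.assoc]
    have hagree : WT.ι ≫ si = WT.ι ≫ sj := by
      show WT.ι ≫ T.ι ≫ (U i).ι = WT.ι ≫ ℓ ≫ (U j).ι
      rw [← Category.assoc WT.ι ℓ, hρℓ, hρ]
    have hτ : (⟨a, hai⟩ : (U i).toScheme) ∈ T := by
      show gi ⟨a, hai⟩ ∈ gj.opensRange
      refine ⟨⟨b, hbj⟩, ?_⟩
      exact hab.symm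
    have key := pointwise_eq_of_isDominant_of_isSeparated f hsf WT.ι hagree ⟨⟨a, hai⟩, hτ⟩
    have h1 : si ⟨⟨a, hai⟩, hτ⟩ = a := rfl
    have h2 : ℓ ⟨⟨a, hai⟩, hτ⟩ = ⟨b, hbj⟩ := by
      apply gj.isOpenEmbedding.injective
      have h4 : gj (ℓ ⟨⟨a, hai⟩, hτ⟩) = gi ⟨a, hai⟩ :=
        congrArg (fun φ : T.toScheme ⟶ Y => φ ⟨⟨a, hai⟩, hτ⟩) hℓ
      rw [h4]
      exact hab
    have h3 : sj ⟨⟨a, hai⟩, hτ⟩ = b := by
      show (U j).ι (ℓ ⟨⟨a, hai⟩, hτ⟩) = b
      rw [h2]
      rfl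
    rw [← h1, key, h3]
  have hopen : IsOpenMap ⇑f := by
    intro O hO
    have himg : ⇑f '' O = ⋃ i, ⇑((U i).ι ≫ f) '' (⇑(U i).ι ⁻¹' O) := by
      ext y
      constructor
      · rintro ⟨x, hxO, rfl⟩
        obtain ⟨i, hxi⟩ := hcover x
        exact Set.mem_iUnion.mpr ⟨i, ⟨⟨x, hxi⟩, hxO, rfl⟩⟩
      · intro hy
        obtain ⟨i, x, hx, rfl⟩ := Set.mem_iUnion.mp hy
        exact ⟨(U i).ι x, hx, rfl⟩
    rw [himg]
    refine isOpen_iUnion (fun i => ?_)
    haveI := h i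
    exact ((U i).ι ≫ f).isOpenEmbedding.isOpenMap _ (hO.preimage (U i).ι.continuous)
  have hemb : Topology.IsOpenEmbedding ⇑f :=
    Topology.IsOpenEmbedding.of_continuous_injective_isOpenMap f.continuous hinj hopen
  haveI : ∀ x, IsIso (f.stalkMap x) := by
    intro x
    obtain ⟨i, hxi⟩ := hcover x
    haveI := h i
    have hcomp := Scheme.Hom.stalkMap_comp (U i).ι f ⟨x, hxi⟩
    have hiso : IsIso (((U i).ι ≫ f).stalkMap ⟨x, hxi⟩) := inferInstance
    rw [hcomp] at hiso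
    haveI := hiso
    exact @IsIso.of_isIso_comp_right _ _ _ _ _ (f.stalkMap ((U i).ι ⟨x, hxi⟩)) ((U i).ι.stalkMap ⟨x, hxi⟩) inferInstance hiso
  exact IsOpenImmersion.of_isIso_stalkMap f hemb

end Groth.Agent.S10877
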