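import Groth.Statements.S10878
import Mathlib

set_option autoImplicit false
universe u
open CategoryTheory AlgebraicGeometry
open FlatMor

namespace Groth.Agent.S10878

theorem main {X Y : Scheme.{u}} (f : X ⟶ Y) [IsSeparated f] {ι : Type u} (U : ι → X.Opens)
    (hU : ⨆ i, U i = ⊤) (hd : ∀ i, Dense (U i : Set X)) (h : ∀ i, IsImmersion ((U i).ι ≫ f)) :
    IsImmersion f := by
  let g : ∀ i, ((U i : X.Opens) : Scheme.{u}) ⟶ Y := fun i => (U i).ι ≫ f
  haveI hgi : ∀ i, IsImmersion (g i) := h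
  let V : ι → Y.Opens := fun i => (g i).coborderRange
  let c : ∀ i, ((U i : X.Opens) : Scheme.{u}) ⟶ ((V i : Y.Opens) : Scheme.{u}) :=
    fun i => (g i).liftCoborder
  have hc : ∀ i, c i ≫ (V i).ι = (U i).ι ≫ f := fun i => (g i).liftCoborder_ι
  have hUV : ∀ i, U i ≤ f ⁻¹ᵁ V i := by
    intro i x hx
    have h1 : f x = (g i) ⟨x, hx⟩ := rfl
    change f x ∈ coborder (Set.range (g i))
    rw [h1]
    exact subset_coborder ⟨_, rfl⟩
  have hkey : ∀ i, f ⁻¹ᵁ V i = U i := by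
    intro i
    refine le_antisymm ?_ (hUV i)
    let j : ((U i : X.Opens) : Scheme.{u}) ⟶ ((f ⁻¹ᵁ V i : X.Opens) : Scheme.{u}) :=
      X.homOfLE (hUV i)
    have hj : j ≫ (f ∣_ V i) = c i := by
      rw [← cancel_mono (V i).ι, Category.assoc, morphismRestrict_ι, Scheme.homOfLE_ι_assoc, hc]
    haveI : IsClosedImmersion (j ≫ (f ∣_ V i)) := by rw [hj]; infer_instance
    haveI : IsClosedImmersion j := IsClosedImmersion.of_comp j (f ∣_ V i)
    have hcl : IsClosed (Set.range j) := j.isClosedEmbedding.isClosed_range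
    have hr : Set.range j = (f ⁻¹ᵁ V i).ι ⁻¹' (U i : Set X) := by
      ext w
      constructor
      · rintro ⟨u, rfl⟩
        change (f ⁻¹ᵁ V i).ι (j u) ∈ U i
        rw [← Scheme.Hom.comp_apply, Scheme.homOfLE_ι]
        exact u.2
      · intro hw
        refine ⟨⟨w.1, hw⟩, ?_⟩
        apply (f ⁻¹ᵁ V i).ι.isEmbedding.injective
        rw [← Scheme.Hom.comp_apply, Scheme.homOfLE_ι]
        rfl
    rw [hr] at hcl
    obtain ⟨C, hC, hCeq⟩ := (f ⁻¹ᵁ V i).ι.isEmbedding.isInducing.isClosed_iff.mp hcl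
    have hUC : (U i : Set X) ⊆ C := by
      intro x hx
      have h2 : (⟨x, hUV i hx⟩ : (f ⁻¹ᵁ V i : X.Opens)) ∈ (f ⁻¹ᵁ V i).ι ⁻¹' (U i : Set X) := hx
      rw [← hCeq] at h2
      exact h2
    have hCuniv : C = Set.univ := by
      apply Set.eq_univ_of_univ_subset
      rw [← (hd i).closure_eq]
      exact closure_minimal hUC hC
    intro x hx
    have h3 : (⟨x, hx⟩ : (f ⁻¹ᵁ V i : X.Opens)) ∈ (f ⁻¹ᵁ V i).ι ⁻¹' C := by
      rw [hCuniv]; trivial
    rw [hCeq] at h3
    exact h3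
  -- the union of the `V i`
  let W : Y.Opens := ⨆ i, V i
  have hrange : Set.range f ⊆ Set.range W.ι := by
    rw [Scheme.Opens.range_ι]
    rintro _ ⟨x, rfl⟩
    have hx : x ∈ (⨆ i, U i : X.Opens) := hU ▸ trivial
    obtain ⟨i, hi⟩ := TopologicalSpace.Opens.mem_iSup.mp hx
    exact TopologicalSpace.Opens.mem_iSup.mpr ⟨i, hUV i hi⟩
  let f' : X ⟶ ((W : Y.Opens) : Scheme.{u}) := IsOpenImmersion.lift W.ι f hrange
  have hf' : f' ≫ W.ι = f := IsOpenImmersion.lift_fac _ _ _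
  suffices hcf : IsClosedImmersion f' by
    rw [← hf']; infer_instance
  let W' : ι → (W : Scheme.{u}).Opens := fun i => W.ι ⁻¹ᵁ V i
  have hW' : ⨆ i, W' i = ⊤ := by
    apply top_unique
    rintro ⟨y, hy⟩ -
    obtain ⟨i, hi⟩ := TopologicalSpace.Opens.mem_iSup.mp hy
    exact TopologicalSpace.Opens.mem_iSup.mpr ⟨i, hi⟩
  rw [IsZariskiLocalAtTarget.iff_of_iSup_eq_top (P := @IsClosedImmersion) W' hW']
  intro i
  have hpre : f' ⁻¹ᵁ W' i = U i := by
    rw [← hkey i, ← hf', Scheme.Hom.comp_preimage]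
  let e1 := X.isoOfEq hpre.symm
  have hrng : Set.range ((W' i).ι ≫ W.ι) = Set.range (V i).ι := by
    rw [Scheme.Hom.comp_base, TopCat.coe_comp, Set.range_comp, Scheme.Opens.range_ι,
      Scheme.Opens.range_ι]
    ext y
    constructor
    · rintro ⟨w, hw, rfl⟩; exact hw
    · intro hy
      exact ⟨⟨y, TopologicalSpace.Opens.mem_iSup.mpr ⟨i, hy⟩⟩, hy, rfl⟩
  let φ := IsOpenImmersion.isoOfRangeEq ((W' i).ι ≫ W.ι) (V i).ι hrng
  have hφ : φ.hom ≫ (V i).ι = (W' i).ι ≫ W.ι := IsOpenImmersion.isoOfRangeEq_hom_fac _ _ _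
  have heq : e1.hom ≫ (f' ∣_ W' i) ≫ φ.hom = c i := by
    rw [← cancel_mono (V i).ι, Category.assoc, Category.assoc, hφ, morphismRestrict_ι_assoc,
      Scheme.isoOfEq_hom_ι_assoc, hf', hc]
  have h1 : IsClosedImmersion (e1.hom ≫ (f' ∣_ W' i) ≫ φ.hom) := by rw [heq]; infer_instance
  have h2 : IsClosedImmersion ((f' ∣_ W' i) ≫ φ.hom) :=
    (MorphismProperty.cancel_left_of_respectsIso @IsClosedImmersion e1.hom _).mp h1
  exact (MorphismProperty.cancel_right_of_respectsIso @IsClosedImmersion _ φ.hom).mp h2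

/-- A separated morphism f : X → Y, with X having finitely many irreducible components, which restricts
to an immersion on each member of a cover of X by dense open subsets, is an immersion. -/
theorem result {X Y : Scheme.{u}} (f : X ⟶ Y) [IsSeparated f]
    (hfin : (irreducibleComponents (X : Type u)).Finite) {ι : Type u} (U : ι → X.Opens)
    (hU : ⨆ i, U i = ⊤) (hd : ∀ i, Dense (U i : Set X)) (h : ∀ i, IsImmersion ((U i).ι ≫ f)) :
    IsImmersion f := by
  exact main f U hU hd h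

end Groth.Agent.S10878
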