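import Groth.Statements.S10886
import Mathlib

set_option autoImplicit false
universe u
open CategoryTheory AlgebraicGeometry
open Curves

namespace Groth.Agent.S10886


section Topo
open TopologicalSpace
variable {T : Type*} [TopologicalSpace T]

lemma irred_closed_singleton [T0Space T] [QuasiSober T] [IrreducibleSpace T]
    (hdim : topologicalKrullDim T ≤ 1) {Z : Set T} (hZc : IsClosed Z) (hZi : IsIrreducible Z)
    (hZ : Z ≠ Set.univ) : ∃ z, Z = {z} := by
  obtain ⟨z, hz⟩ := QuasiSober.sober hZi hZc
  have hzZ : z ∈ Z := by rw [← hz.def]; exact subset_closure rfl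
  refine ⟨z, Set.Subset.antisymm ?_ (Set.singleton_subset_iff.mpr hzZ)⟩
  intro y hy
  rw [Set.mem_singleton_iff]
  have hyZ : closure ({y} : Set T) ⊆ Z :=
    (hZc.closure_subset_iff).mpr (Set.singleton_subset_iff.mpr hy)
  let a : IrreducibleCloseds T := ⟨closure {y}, isIrreducible_singleton.closure, isClosed_closure⟩
  let b : IrreducibleCloseds T := ⟨Z, hZi, hZc⟩
  let c : IrreducibleCloseds T := ⟨Set.univ, IrreducibleSpace.isIrreducible_univ T, isClosed_univ⟩
  have hab : a ≤ b := hyZ
  have hbc : b ≤ c := Set.subset_univ _
  rcases (Order.krullDim_le_one_iff.mp hdim) b with hmin | hmax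
  · have hba : b ≤ a := hmin hab
    have h1 : z ∈ closure ({y} : Set T) := hba hzZ
    have h2 : y ∈ closure ({z} : Set T) := by rw [hz.def]; exact hy
    exact ((specializes_iff_mem_closure.mpr h2).antisymm (specializes_iff_mem_closure.mpr h1)).eq.symm
  · exact absurd (Set.eq_univ_of_univ_subset (hmax hbc)) hZ

lemma closed_finite [T0Space T] [QuasiSober T] [IrreducibleSpace T] [NoetherianSpace T]
    (hdim : topologicalKrullDim T ≤ 1) {F : Set T} (hF : IsClosed F) (hne : F ≠ Set.univ) :
    F.Finite ∧ ∀ x ∈ F, IsClosed ({x} : Set T) := by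
  obtain ⟨S, hSf, hSc, hSi, rfl⟩ := NoetherianSpace.exists_finite_set_isClosed_irreducible hF
  have key : ∀ t ∈ S, ∃ z, t = {z} := fun t ht =>
    irred_closed_singleton hdim (hSc t ht) (hSi t ht) (by
      intro h
      apply hne
      exact Set.eq_univ_of_univ_subset (h ▸ Set.subset_sUnion_of_mem ht))
  constructor
  · refine Set.Finite.sUnion hSf (fun t ht => ?_)
    obtain ⟨z, rfl⟩ := key t ht
    exact Set.finite_singleton z
  · rintro x ⟨t, ht, hxt⟩
    obtain ⟨z, rfl⟩ := key t ht
    rw [Set.mem_singleton_iff] at hxt
    subst hxt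
    exact hSc _ ht

end Topo

/-- In an irreducible Noetherian scheme of dimension one every constructible subset is either a finite
set of closed points or the complement of such a set; in particular it is open or closed. -/
theorem result {X : Scheme.{u}} [IsNoetherian X]
    [IrreducibleSpace X] (hX : topologicalKrullDim X = 1) (s : Set X) (hs : Topology.IsConstructible s) :
    (s.Finite ∧ (∀ x ∈ s, IsClosed ({x} : Set X))) ∨ (sᶜ.Finite ∧ ∀ x ∈ sᶜ, IsClosed ({x} : Set X)) := by
  have hdim : topologicalKrullDim X ≤ 1 := hX.le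
  induction hs using Topology.IsConstructible.empty_union_induction with
  | open_retrocompact U hUo hUc =>
    by_cases hU : U = ∅
    · left
      subst hU
      exact ⟨Set.finite_empty, fun x hx => absurd hx (Set.notMem_empty x)⟩
    · right
      exact closed_finite hdim hUo.isClosed_compl (by
        intro h
        apply hU
        rw [← compl_compl U, h, Set.compl_univ])
  | union s hs t ht ihs iht =>
    rcases ihs with ⟨h1, h2⟩ | ⟨h1, h2⟩
    · rcases iht with ⟨h3, h4⟩ | ⟨h3, h4⟩
      · left
        exact ⟨h1.union h3, fun x hx => hx.elim (h2 x) (h4 x)⟩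
      · right
        exact ⟨h3.subset (Set.compl_subset_compl.mpr Set.subset_union_right),
          fun x hx => h4 x (fun hxt => hx (Or.inr hxt))⟩
    · right
      exact ⟨h1.subset (Set.compl_subset_compl.mpr Set.subset_union_left),
        fun x hx => h2 x (fun hxs => hx (Or.inl hxs))⟩
  | compl s hs ih =>
    rcases ih with h | h
    · right
      rwa [compl_compl]
    · left
      exact h

end Groth.Agent.S10886
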