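import Groth.Statements.S10887
import Mathlib

set_option autoImplicit false
universe u
open CategoryTheory AlgebraicGeometry
open FlatMor

namespace Groth.Agent.S10887


namespace H10887
open CategoryTheory AlgebraicGeometry TopologicalSpace

/-- (⇒) -/
theorem dense_of_flat {X Y : Scheme.{u}} [IsIntegral Y] (f : X ⟶ Y) [Flat f]
    (Z : Set X) (hZ : Z ∈ irreducibleComponents X) : Dense (f.base '' Z) := by
  have hZirr : IsIrreducible Z := hZ.1
  have hZcl : IsClosed Z := isClosed_of_mem_irreducibleComponents Z hZ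
  obtain ⟨ξ, hξ⟩ := QuasiSober.sober hZirr hZcl
  have hspec : genericPoint Y ⤳ f.base ξ := genericPoint_specializes _
  have hgen : GeneralizingMap f.base := Flat.generalizingMap f
  obtain ⟨ξ', hξ'ξ, hfξ'⟩ := hgen hspec
  have hξ'Z : ξ' ∈ Z := by
    have h1 : Z ⊆ closure {ξ'} := by
      rw [← hξ.def]
      exact closure_minimal (Set.singleton_subset_iff.mpr hξ'ξ.mem_closure) isClosed_closure
    have h2 : IsIrreducible (closure ({ξ'} : Set X)) := isIrreducible_singleton.closure
    have h3 : closure {ξ'} ⊆ Z := hZ.2 h2 h1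
    exact h3 (subset_closure rfl)
  rw [dense_iff_closure_eq]
  apply Set.eq_univ_of_univ_subset
  rw [← (genericPoint_spec Y).def]
  apply closure_mono
  rw [Set.singleton_subset_iff]
  exact ⟨ξ', hξ'Z, hfξ'⟩

theorem dim_stalk_le {Y : Scheme.{u}} (hdim : topologicalKrullDim Y ≤ 1) (y : Y) :
    ringKrullDim (Y.presheaf.stalk y) ≤ 1 := by
  obtain ⟨_, ⟨U, hU, rfl⟩, hyU, -⟩ :=
    Y.isBasis_affineOpens.exists_subset_of_mem_open (Set.mem_univ y) isOpen_univ
  have h1 : ringKrullDim Γ(Y, U) ≤ 1 := by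
    rw [← PrimeSpectrum.topologicalKrullDim_eq_ringKrullDim Γ(Y, U)]
    change topologicalKrullDim (Spec Γ(Y, U)) ≤ 1
    rw [← IsHomeomorph.topologicalKrullDim_eq _ hU.isoSpec.hom.homeomorph.isHomeomorph]
    exact (topologicalKrullDim_subspace_le Y U).trans hdim
  letI := Y.presheaf.algebra_section_stalk ⟨y, hyU⟩
  haveI := hU.isLocalization_stalk ⟨y, hyU⟩
  rw [IsLocalization.AtPrime.ringKrullDim_eq_height (hU.primeIdealOf ⟨y, hyU⟩).asIdeal
    (Y.presheaf.stalk y)]
  exact (Ideal.height_le_ringKrullDim_of_ne_top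
    (hU.primeIdealOf ⟨y, hyU⟩).isPrime.ne_top).trans h1

theorem bezout_of_reg (R : Type u) [CommRing R] [IsDomain R] [hreg : IsRegularLocalRing R]
    (hdim : ringKrullDim R ≤ 1) : IsBezout R := by
  have hsp := hreg.spanFinrank_maximalIdeal
  have hle : (IsLocalRing.maximalIdeal R).spanFinrank ≤ 1 := by
    have : (((IsLocalRing.maximalIdeal R).spanFinrank : ℕ) : WithBot ℕ∞) ≤ 1 := hsp ▸ hdim
    exact_mod_cast this
  have hfg : (IsLocalRing.maximalIdeal R).FG := IsNoetherian.noetherian _
  have hprin : (IsLocalRing.maximalIdeal R).IsPrincipal := by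
    have hn := Submodule.FG.generators_ncard hfg
    have hfin := Submodule.FG.finite_generators hfg
    have hspan := Submodule.span_generators (IsLocalRing.maximalIdeal R)
    rw [← hn] at hle
    rcases (Set.ncard_le_one_iff_eq hfin).mp hle with h0 | ⟨a, ha⟩
    · rw [h0, Submodule.span_empty] at hspan
      rw [← hspan]
      infer_instance
    · rw [ha] at hspan
      exact ⟨a, hspan.symm⟩
  by_cases hF : IsField R
  · haveI := hF.isPrincipalIdealRing
    infer_instance
  · haveI : IsDiscreteValuationRing R := ((IsDiscreteValuationRing.TFAE R hF).out 0 4).mpr hprin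
    infer_instance

theorem gen_unit (Y : Scheme.{u}) [IsIntegral Y] (y' y : Y) (hs : y' ⤳ y)
    (hy' : y' = genericPoint Y)
    (a : Y.presheaf.stalk y) (ha : a ≠ 0) : IsUnit ((Y.presheaf.stalkSpecializes hs).hom a) := by
  subst hy'
  have h1 : (Y.presheaf.stalkSpecializes hs).hom a =
      algebraMap (Y.presheaf.stalk y) Y.functionField a := rfl
  have h2 : algebraMap (Y.presheaf.stalk y) Y.functionField a ≠ 0 := by
    intro h0
    exact ha (IsFractionRing.injective (Y.presheaf.stalk y) Y.functionField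
      (by rw [h0, map_zero]))
  show IsUnit ((Y.presheaf.stalkSpecializes hs).hom a : Y.functionField)
  rw [h1]
  exact isUnit_iff_ne_zero.mpr h2

theorem not_mem_minimal {X Y : Scheme.{u}} [IsIntegral Y] (f : X ⟶ Y)
    (h : ∀ Z ∈ irreducibleComponents (X : Type u), Dense (f.base '' Z)) (x : X)
    (𝔭 : Ideal (X.presheaf.stalk x)) (h𝔭 : 𝔭 ∈ minimalPrimes (X.presheaf.stalk x))
    (a : Y.presheaf.stalk (f.base x)) (ha : a ≠ 0) : (f.stalkMap x).hom a ∉ 𝔭 := by
  haveI h𝔭prime : 𝔭.IsPrime := h𝔭.1.1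
  let P : Spec (X.presheaf.stalk x) := (⟨𝔭, h𝔭prime⟩ : PrimeSpectrum (X.presheaf.stalk x))
  let ξ : X := (X.fromSpecStalk x).base P
  have hξx : ξ ⤳ x := by
    have h0 : ξ ∈ Set.range (X.fromSpecStalk x).base := ⟨P, rfl⟩
    rw [Scheme.range_fromSpecStalk] at h0
    exact h0
  have hemb := (X.fromSpecStalk x).isEmbedding
  have hZ : closure {ξ} ∈ irreducibleComponents X := by
    refine ⟨isIrreducible_singleton.closure, ?_⟩
    intro Z' hZ' hle
    obtain ⟨ξ', hξ'⟩ := QuasiSober.sober hZ'.closure isClosed_closure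
    have h1 : ξ' ⤳ ξ := hξ'.specializes (subset_closure (hle (subset_closure rfl)))
    have h2 : ξ' ⤳ x := h1.trans hξx
    obtain ⟨P', hP'⟩ : ξ' ∈ Set.range (X.fromSpecStalk x).base := by
      rw [Scheme.range_fromSpecStalk]; exact h2
    have h3 : P' ⤳ P := by
      rw [← hemb.isInducing.specializes_iff]
      rw [hP']; exact h1
    have h4 : P'.asIdeal ≤ 𝔭 := (PrimeSpectrum.le_iff_specializes P' P).mpr h3
    have h5 : 𝔭 ≤ P'.asIdeal := h𝔭.2 ⟨P'.isPrime, bot_le⟩ h4
    have h6 : P' = P := PrimeSpectrum.ext (le_antisymm h4 h5)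
    have h7 : ξ' = ξ := by rw [← hP', h6]
    calc Z' ⊆ closure Z' := subset_closure
      _ = closure {ξ'} := hξ'.def.symm
      _ = closure {ξ} := by rw [h7]
  have hd := h _ hZ
  have hgen : closure {f.base ξ} = Set.univ := by
    apply Set.eq_univ_of_univ_subset
    rw [← hd.closure_eq]
    apply closure_minimal _ isClosed_closure
    calc f.base '' closure {ξ} ⊆ closure (f.base '' {ξ}) :=
          image_closure_subset_closure_image f.continuous
      _ = closure {f.base ξ} := by rw [Set.image_singleton]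
  have hfξ : f.base ξ = genericPoint Y :=
    IsGenericPoint.eq (show IsGenericPoint (f.base ξ) Set.univ from hgen) (genericPoint_spec Y)
  intro hmem
  have hP : P = (Spec.map (X.presheaf.stalkSpecializes hξx)).base
      (IsLocalRing.closedPoint (X.presheaf.stalk ξ)) := by
    apply hemb.injective
    rw [← Scheme.Hom.comp_apply, Scheme.SpecMap_stalkSpecializes_fromSpecStalk,
      Scheme.fromSpecStalk_closedPoint]
  have h𝔭eq : 𝔭 = Ideal.comap (X.presheaf.stalkSpecializes hξx).hom
      (IsLocalRing.maximalIdeal (X.presheaf.stalk ξ)) :=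
    congrArg PrimeSpectrum.asIdeal hP
  rw [h𝔭eq, Ideal.mem_comap] at hmem
  rw [← Scheme.Hom.stalkSpecializes_stalkMap_apply f ξ x hξx a] at hmem
  have h8 : ¬ IsUnit ((Y.presheaf.stalkSpecializes (f.base.hom.map_specializes hξx)).hom a) := by
    intro hu
    exact (IsLocalRing.mem_maximalIdeal _).mp hmem (hu.map (f.stalkMap ξ).hom)
  exact h8 (gen_unit Y (f.base ξ) (f.base x) _ hfξ a ha)

theorem flat_of_dominant {X Y : Scheme.{u}} [IsIntegral Y]
    (hreg : ∀ y : Y, IsRegularLocalRing (Y.presheaf.stalk y)) (hdim : topologicalKrullDim Y ≤ 1)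
    (f : X ⟶ Y) [IsReduced X]
    (h : ∀ Z ∈ irreducibleComponents (X : Type u), Dense (f.base '' Z)) : Flat f := by
  rw [Flat.iff_flat_stalkMap]
  intro x
  haveI := hreg (f.base x)
  haveI : IsBezout (Y.presheaf.stalk (f.base x)) :=
    bezout_of_reg _ (dim_stalk_le hdim (f.base x))
  algebraize [(f.stalkMap x).hom]
  show Module.Flat (Y.presheaf.stalk (f.base x)) (X.presheaf.stalk x)
  rw [Module.Flat.flat_iff_torsion_eq_bot_of_isBezout, eq_bot_iff]
  intro s hs
  rw [Submodule.mem_torsion_iff] at hs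
  obtain ⟨a, has⟩ := hs
  rw [Submodule.mem_bot]
  have ha0 : (a : Y.presheaf.stalk (f.base x)) ≠ 0 := nonZeroDivisors.ne_zero a.2
  have hmul : (f.stalkMap x).hom a * s = 0 := by
    rw [← has, Submonoid.smul_def, Algebra.smul_def]
    rfl
  have hnil : s ∈ nilradical (X.presheaf.stalk x) := by
    rw [nilradical, ← Ideal.sInf_minimalPrimes, Ideal.mem_sInf]
    intro 𝔭 h𝔭
    haveI : 𝔭.IsPrime := h𝔭.1.1
    have h0 : (f.stalkMap x).hom a * s ∈ 𝔭 := by rw [hmul]; exact 𝔭.zero_mem
    rcases Ideal.IsPrime.mem_or_mem inferInstance h0 with h1 | h1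
    · exact absurd h1 (not_mem_minimal f h x 𝔭 h𝔭 a ha0)
    · exact h1
  rw [nilradical_eq_zero] at hnil
  exact hnil

end H10887

/-- (i) ⇔ (iii): let Y be a Dedekind scheme — an integral Noetherian scheme of dimension at most one all
of whose local rings are regular — and f : X → Y a morphism of schemes with X reduced. Then f is
flat if and only if every irreducible component of X dominates Y. (Without reducedness only the
forward implication holds.) -/
theorem result {X Y : Scheme.{u}} [IsIntegral Y]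
    [IsNoetherian Y] (hreg : ∀ y : Y, IsRegularLocalRing (Y.presheaf.stalk y)) (hdim : topologicalKrullDim Y ≤ 1)
    (f : X ⟶ Y) [IsReduced X] :
    Flat f ↔ ∀ Z ∈ irreducibleComponents (X : Type u), Dense (f.base '' Z) := by
  constructor
  · intro hf Z hZ
    exact H10887.dense_of_flat f Z hZ
  · intro h
    exact H10887.flat_of_dominant hreg hdim f h

end Groth.Agent.S10887
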