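import Groth.Statements.S10889
-- import your own Groth.Agent.* helpers here
import Mathlib
import Groth.Agent.Lib.Helper12.FlatFibreDim2
import Groth.Agent.Lib.Helper12.FibQF2
import Groth.Agent.Lib.Helper12.ConsPropFin

set_option autoImplicit false
universe u
open CategoryTheory AlgebraicGeometry
open FlatMor

namespace Groth.Agent.S10889

/-- Let f : X → Y be proper, flat and of finite presentation, and let V be the set of points of Y whose
fibre is (non-empty and) zero-dimensional. Then V is a clopen subset of Y, and over every open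
subset of V the restriction of f is finite, hence finite locally free. -/
theorem result {X Y : Scheme.{u}} (f : X ⟶ Y) [IsProper f] [Flat f]
    [LocallyOfFinitePresentation f] :
    IsClopen {y : Y | topologicalKrullDim (f.base ⁻¹' {y}) = 0} ∧
      ∀ U : Y.Opens, (U : Set Y) ⊆ {y : Y | topologicalKrullDim (f.base ⁻¹' {y}) = 0} → IsFinite (f ∣_ U) := by
  classical
  have hdim : ∀ y : Y, topologicalKrullDim (f.base ⁻¹' {y}) = topologicalKrullDim (f.fiber y) :=
    fun y => (IsHomeomorph.topologicalKrullDim_eq _ (f.fiberHomeo y).isHomeomorph).symm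
  have hpos : {y : Y | (0 : WithBot ℕ∞) < topologicalKrullDim (f.fiber y)} =
      f.base '' {x : X | FlatMor.fibreDimAt f x ≤ ((0 : ℕ) : WithBot ℕ∞)}ᶜ := by
    ext s
    rw [Set.mem_setOf_eq, lt_iff_not_ge,
      Groth.Agent.Lib.Helper12.ChevalleyCor.dim_fiber_le_iff]
    push Not
    simp only [Set.mem_image, Set.mem_compl_iff, Set.mem_setOf_eq, Nat.cast_zero]
    constructor
    · rintro ⟨x, hx, h⟩
      exact ⟨x, not_le.mpr h, hx⟩
    · rintro ⟨x, h, hx⟩
      exact ⟨x, hx, not_le.mp h⟩
  have hV : {y : Y | topologicalKrullDim (f.base ⁻¹' {y}) = 0} =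
      Set.range f.base ∩ {y : Y | (0 : WithBot ℕ∞) < topologicalKrullDim (f.fiber y)}ᶜ := by
    ext y
    simp only [Set.mem_setOf_eq, Set.mem_inter_iff, Set.mem_compl_iff, not_lt, hdim,
      ← Groth.Agent.Lib.Helper12.ChevalleyCor.zero_le_dim_fiber_iff]
    exact ⟨fun h => ⟨h.ge, h.le⟩, fun h => le_antisymm h.2 h.1⟩
  have hle : ∀ y : Y, topologicalKrullDim (f.base ⁻¹' {y}) = 0 →
      ∀ x : X, f.base x = y → f.QuasiFiniteAt x := by
    intro y hy x hx
    rw [← Groth.Agent.Lib.Helper12.FibQF.fibreDimAt_le_zero_iff]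
    have h1 : topologicalKrullDim (f.fiber y) ≤ ((0 : ℕ) : WithBot ℕ∞) := by
      rw [← hdim, hy]; simp
    exact (Groth.Agent.Lib.Helper12.ChevalleyCor.dim_fiber_le_iff f y _).mp h1 x hx
  constructor
  · rw [hV]
    refine IsClopen.inter ⟨f.isClosedMap.isClosed_range, f.isOpenMap.isOpen_range⟩
      (IsClopen.compl ⟨?_, ?_⟩)
    · rw [hpos]
      apply f.isClosedMap
      exact (Groth.Agent.Lib.Helper12.Chevalley.isOpen_setOf_fibreDimAt_le f 0).isClosed_compl
    · exact Groth.Agent.Lib.Helper12.FlatFibreDim.isOpen_setOf_lt_dim_fiber f 0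
  · intro U hU
    haveI : LocallyQuasiFinite (f ∣_ U) := by
      apply LocallyQuasiFinite.of_fiberToSpecResidueField
      intro u
      rw [Groth.Agent.Lib.Helper12.ConsPropFin.locallyQuasiFinite_fiberToSpecResidueField_iff]
      intro x hx
      rw [Groth.Agent.Lib.Helper12.FibQF.quasiFiniteAt_iff_of_isPullback f U.ι
        (f ⁻¹ᵁ U).ι (f ∣_ U) (isPullback_morphismRestrict f U).flip x]
      refine hle (U.ι u) (hU u.2) _ ?_
      have := congrArg (fun g => g.base x) (isPullback_morphismRestrict f U).w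
      simp only [Scheme.Hom.comp_base, TopCat.comp_app] at this
      rw [← hx]
      exact this.symm
    exact IsFinite.of_isProper_of_locallyQuasiFinite _

end Groth.Agent.S10889
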