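import Groth.Statements.S10890
import Mathlib
import Groth.Agent.Lib.Helper27.CauchyBinet

set_option autoImplicit false
universe u
open CAlgX

namespace Groth.Agent.S10890


section MinorLemmas
open Matrix
variable {R : Type u} [CommRing R]

lemma det_mul_eq_zero_of_lt {r : ℕ} (X : Matrix (Fin (r+1)) (Fin r) R)
    (Y : Matrix (Fin r) (Fin (r+1)) R) : (X * Y).det = 0 := by
  have h := Groth.Agent.Lib.Helper27.CB.det_mul_transpose_eq_sum_fun X Yᵀ
  rw [Matrix.transpose_transpose] at h
  rw [h]
  refine Finset.sum_eq_zero (fun f _ => ?_)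
  have hf : ¬ Function.Injective f := by
    intro hinj
    have := Fintype.card_le_of_injective f hinj
    simp at this
  rw [Groth.Agent.Lib.Helper27.CB.det_submatrix_eq_zero_of_not_injective X f hf, zero_mul]

lemma det_mul_submatrix_mem {n m r : ℕ} (A : Matrix (Fin n) (Fin m) R)
    (X : Matrix (Fin r) (Fin n) R) (g : Fin r → Fin m) :
    (X * A.submatrix id g).det ∈ CAlgX.minorIdeal A r := by
  have h1 : (X * A.submatrix id g).det = ((A.submatrix id g)ᵀ * Xᵀ).det := by
    rw [← Matrix.det_transpose, Matrix.transpose_mul]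
  rw [h1, Groth.Agent.Lib.Helper27.CB.det_mul_transpose_eq_sum_fun]
  refine Ideal.sum_mem _ (fun f _ => Ideal.mul_mem_right _ _ ?_)
  have h2 : ((A.submatrix id g)ᵀ.submatrix id f) = (A.submatrix f g)ᵀ := by
    ext i j; rfl
  rw [h2, Matrix.det_transpose]
  exact Ideal.subset_span ⟨(f, g), rfl⟩

lemma det_mul_mul_mem {n m r : ℕ} (A : Matrix (Fin n) (Fin m) R)
    (X : Matrix (Fin r) (Fin n) R) (Y : Matrix (Fin m) (Fin r) R) :
    (X * A * Y).det ∈ CAlgX.minorIdeal A r := by
  have h1 : X * A * Y = (X * A) * (Yᵀ)ᵀ := by rw [Matrix.transpose_transpose]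
  rw [h1, Groth.Agent.Lib.Helper27.CB.det_mul_transpose_eq_sum_fun]
  refine Ideal.sum_mem _ (fun g _ => Ideal.mul_mem_right _ _ ?_)
  have h2 : (X * A).submatrix id g = X * A.submatrix id g := by
    ext i j; simp [Matrix.mul_apply]
  rw [h2]
  exact det_mul_submatrix_mem A X g

lemma exists_isUnit_of_span_eq_top [IsLocalRing R] {S : Set R} (h : Ideal.span S = ⊤) :
    ∃ s ∈ S, IsUnit s := by
  by_contra hcon
  push Not at hcon
  have hle : Ideal.span S ≤ IsLocalRing.maximalIdeal R :=
    Ideal.span_le.mpr (fun s hs => (IsLocalRing.mem_maximalIdeal s).mpr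
      (mem_nonunits_iff.mpr (hcon s hs)))
  rw [h] at hle
  exact (IsLocalRing.maximalIdeal.isMaximal R).ne_top (top_le_iff.mp hle)

lemma forward {n m r : ℕ} [IsLocalRing R] (A : Matrix (Fin n) (Fin m) R)
    (N' : Submodule R (Fin n → R)) (hc : IsCompl (LinearMap.range (Matrix.mulVecLin A)) N')
    (hfr : Module.finrank R (LinearMap.range (Matrix.mulVecLin A)) = r) :
    CAlgX.minorIdeal A (r + 1) = ⊥ ∧ CAlgX.minorIdeal A r = ⊤ := by
  classical
  let proj : (Fin n → R) →ₗ[R] LinearMap.range (Matrix.mulVecLin A) :=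
    (LinearMap.range (Matrix.mulVecLin A)).projectionOnto N' hc
  have hproj : ∀ x : LinearMap.range (Matrix.mulVecLin A), proj x = x :=
    fun x => Submodule.projectionOnto_apply_left hc x
  haveI : Module.Projective R (LinearMap.range (Matrix.mulVecLin A)) :=
    Module.Projective.of_split (LinearMap.range (Matrix.mulVecLin A)).subtype proj
      (LinearMap.ext fun x => hproj x)
  haveI : Module.Free R (LinearMap.range (Matrix.mulVecLin A)) := Module.free_of_flat_of_isLocalRing
  let b : Module.Basis (Fin r) R (LinearMap.range (Matrix.mulVecLin A)) :=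
    Module.finBasisOfFinrankEq R _ hfr
  let Cl : (Fin r → R) →ₗ[R] (Fin n → R) :=
    (LinearMap.range (Matrix.mulVecLin A)).subtype ∘ₗ b.equivFun.symm.toLinearMap
  let Dl : (Fin m → R) →ₗ[R] (Fin r → R) :=
    b.equivFun.toLinearMap ∘ₗ (Matrix.mulVecLin A).rangeRestrict
  let Cl' : (Fin n → R) →ₗ[R] (Fin r → R) := b.equivFun.toLinearMap ∘ₗ proj
  have hDsurj : Function.Surjective Dl :=
    b.equivFun.surjective.comp (LinearMap.surjective_rangeRestrict _)
  obtain ⟨Dl', hDl'⟩ := Module.projective_lifting_property Dl LinearMap.id hDsurj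
  have hCD : Cl ∘ₗ Dl = Matrix.mulVecLin A := by
    refine LinearMap.ext fun v => ?_
    simp [Cl, Dl]
  have hC'C : Cl' ∘ₗ Cl = LinearMap.id := by
    refine LinearMap.ext fun v => ?_
    show b.equivFun (proj ((b.equivFun.symm v : LinearMap.range (Matrix.mulVecLin A)) : Fin n → R)) = v
    rw [hproj, LinearEquiv.apply_symm_apply]
  have hA : A = LinearMap.toMatrix' Cl * LinearMap.toMatrix' Dl := by
    rw [← LinearMap.toMatrix'_comp, hCD, ← Matrix.toLin'_apply', LinearMap.toMatrix'_toLin']
  have h1 : LinearMap.toMatrix' Cl' * LinearMap.toMatrix' Cl = 1 := by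
    rw [← LinearMap.toMatrix'_comp, hC'C, LinearMap.toMatrix'_id]
  have h2 : LinearMap.toMatrix' Dl * LinearMap.toMatrix' Dl' = 1 := by
    rw [← LinearMap.toMatrix'_comp, hDl', LinearMap.toMatrix'_id]
  constructor
  · rw [eq_bot_iff]
    apply Ideal.span_le.mpr
    rintro _ ⟨⟨f, g⟩, rfl⟩
    rw [SetLike.mem_coe, Ideal.mem_bot]
    dsimp only
    rw [hA, Matrix.submatrix_mul _ _ f id g Function.bijective_id]
    exact det_mul_eq_zero_of_lt _ _
  · rw [Ideal.eq_top_iff_one]
    have hdet : (LinearMap.toMatrix' Cl' * A * LinearMap.toMatrix' Dl').det = 1 := by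
      have : LinearMap.toMatrix' Cl' * A * LinearMap.toMatrix' Dl' = 1 := by
        calc LinearMap.toMatrix' Cl' * A * LinearMap.toMatrix' Dl'
            = (LinearMap.toMatrix' Cl' * LinearMap.toMatrix' Cl) *
                (LinearMap.toMatrix' Dl * LinearMap.toMatrix' Dl') := by
              conv_lhs => rw [hA]
              simp only [Matrix.mul_assoc]
          _ = 1 := by rw [h1, h2, Matrix.one_mul]
      rw [this, Matrix.det_one]
    have := det_mul_mul_mem A (LinearMap.toMatrix' Cl') (LinearMap.toMatrix' Dl')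
    rwa [hdet] at this

lemma backward {n m r : ℕ} [IsLocalRing R] (A : Matrix (Fin n) (Fin m) R)
    (h1 : CAlgX.minorIdeal A (r + 1) = ⊥) (h2 : CAlgX.minorIdeal A r = ⊤) :
    ∃ N' : Submodule R (Fin n → R), IsCompl (LinearMap.range (Matrix.mulVecLin A)) N' ∧
        Module.finrank R (LinearMap.range (Matrix.mulVecLin A)) = r := by
  classical
  obtain ⟨_, ⟨⟨f, g⟩, rfl⟩, hu⟩ := exists_isUnit_of_span_eq_top h2
  dsimp only at hu
  letI : Invertible (A.submatrix f g) := Matrix.invertibleOfIsUnitDet _ hu
  have hkey : A = A.submatrix id g * (⅟(A.submatrix f g) * A.submatrix f id) := by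
    ext i k
    let e : Fin r ⊕ Fin 1 ≃ Fin (r + 1) := finSumFinEquiv
    let f' : Fin (r + 1) → Fin n := Sum.elim f (fun _ => i) ∘ e.symm
    let g' : Fin (r + 1) → Fin m := Sum.elim g (fun _ => k) ∘ e.symm
    have hz : (A.submatrix f' g').det = 0 := by
      have : (A.submatrix f' g').det ∈ CAlgX.minorIdeal A (r + 1) :=
        Ideal.subset_span ⟨(f', g'), rfl⟩
      rwa [h1, Ideal.mem_bot] at this
    rw [← Matrix.det_submatrix_equiv_self e] at hz
    have hblock : (A.submatrix f' g').submatrix e e =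
        Matrix.fromBlocks (A.submatrix f g) (A.submatrix f (fun _ : Fin 1 => k))
          (A.submatrix (fun _ : Fin 1 => i) g)
          (A.submatrix (fun _ : Fin 1 => i) (fun _ : Fin 1 => k)) := by
      ext (a | a) (b | b) <;> simp [f', g']
    rw [hblock, Matrix.det_fromBlocks₁₁] at hz
    have hz' := (hu.mul_right_eq_zero).mp hz
    rw [Matrix.det_unique, Matrix.sub_apply, sub_eq_zero, Matrix.mul_assoc] at hz'
    exact hz'
  have hG : A.submatrix id g = A * (1 : Matrix (Fin m) (Fin m) R).submatrix id g := by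
    rw [show (id : Fin m → Fin m) = ⇑(Equiv.refl (Fin m)) from rfl, Matrix.mul_submatrix_one]
    rfl
  have hrange : LinearMap.range (Matrix.mulVecLin A) =
      LinearMap.range (Matrix.mulVecLin (A.submatrix id g)) := by
    apply le_antisymm
    · have : Matrix.mulVecLin A = Matrix.mulVecLin (A.submatrix id g) ∘ₗ
          Matrix.mulVecLin (⅟(A.submatrix f g) * A.submatrix f id) := by
        rw [← Matrix.mulVecLin_mul, ← hkey]
      rw [this]
      exact LinearMap.range_comp_le_range _ _
    · have : Matrix.mulVecLin (A.submatrix id g) = Matrix.mulVecLin A ∘ₗ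
          Matrix.mulVecLin ((1 : Matrix (Fin m) (Fin m) R).submatrix id g) := by
        rw [← Matrix.mulVecLin_mul, ← hG]
      rw [this]
      exact LinearMap.range_comp_le_range _ _
  have hπ : ∀ w : Fin r → R, LinearMap.funLeft R R f (A.submatrix id g *ᵥ w) =
      A.submatrix f g *ᵥ w := fun w => rfl
  have hinj : Function.Injective (Matrix.mulVecLin (A.submatrix id g)) := by
    rw [← LinearMap.ker_eq_bot, LinearMap.ker_eq_bot']
    intro w hw
    have h3 : A.submatrix f g *ᵥ w = 0 := by
      rw [← hπ, show A.submatrix id g *ᵥ w = 0 from hw, map_zero]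
    have h4 := congrArg (fun v => ⅟(A.submatrix f g) *ᵥ v) h3
    simpa [Matrix.mulVec_mulVec] using h4
  let proj : (Fin n → R) →ₗ[R] LinearMap.range (Matrix.mulVecLin (A.submatrix id g)) :=
    (Matrix.mulVecLin (A.submatrix id g)).rangeRestrict ∘ₗ
      Matrix.mulVecLin (⅟(A.submatrix f g)) ∘ₗ LinearMap.funLeft R R f
  have hproj : ∀ x : LinearMap.range (Matrix.mulVecLin (A.submatrix id g)), proj x = x := by
    rintro ⟨_, w, rfl⟩
    apply Subtype.ext
    show A.submatrix id g *ᵥ (⅟(A.submatrix f g) *ᵥ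
      (LinearMap.funLeft R R f (A.submatrix id g *ᵥ w))) = A.submatrix id g *ᵥ w
    have h5 : ⅟(A.submatrix f g) *ᵥ (A.submatrix f g *ᵥ w) = w := by
      rw [Matrix.mulVec_mulVec, invOf_mul_self, Matrix.one_mulVec]
    rw [hπ, h5]
  refine ⟨LinearMap.ker proj, ?_, ?_⟩
  · rw [hrange]
    exact LinearMap.isCompl_of_proj hproj
  · rw [hrange]
    exact (LinearEquiv.ofInjective _ hinj).finrank_eq.symm.trans (Module.finrank_fin_fun R)

end MinorLemmas

/-- (i) ⇔ (ii): let R be a local ring, A an n × m matrix over R regarded as a linear map R^m → R^n, and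
1 ≤ r ≤ n. Then the image of A is a direct summand of R^n of rank r if and only if every (r+1) ×
(r+1) minor of A is zero and the r × r minors of A generate the unit ideal. (The printed statement
is over an arbitrary ring with 'direct summand of rank r'; its proof localises at once, and this row
states the local case, where a direct summand of R^n is free and its rank is its finrank.) -/
theorem result (R : Type u) [CommRing R] [IsLocalRing R] (n m r : ℕ)
    (hr : 1 ≤ r) (hrn : r ≤ n) (A : Matrix (Fin n) (Fin m) R) :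
    (∃ N' : Submodule R (Fin n → R), IsCompl (LinearMap.range (Matrix.mulVecLin A)) N' ∧
        Module.finrank R (LinearMap.range (Matrix.mulVecLin A)) = r) ↔
      (CAlgX.minorIdeal A (r + 1) = ⊥ ∧ CAlgX.minorIdeal A r = ⊤) := by
  constructor
  · rintro ⟨N', hc, hfr⟩
    exact forward A N' hc hfr
  · rintro ⟨h1, h2⟩
    exact backward A h1 h2

end Groth.Agent.S10890
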