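import Groth.Statements.S10891
import Mathlib

set_option autoImplicit false
universe u
open CAlg

namespace Groth.Agent.S10891


open MvPolynomial in
lemma aeval_scale_monomial {σ k : Type*} [Field k] (c : σ → k) (e : σ →₀ ℕ) (b : k) :
    aeval (fun i => C (c i) * (X i : MvPolynomial σ k)) (monomial e b) =
      monomial e (b * e.prod fun i n => c i ^ n) := by
  rw [aeval_monomial, MvPolynomial.algebraMap_eq]
  simp only [mul_pow, ← C_pow]
  rw [Finsupp.prod_mul, ← map_finsuppProd C, monomial_eq, C_mul]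
  ring

open MvPolynomial in
lemma coeff_scale {σ k : Type*} [Field k] (c : σ → k) (p : MvPolynomial σ k) (d : σ →₀ ℕ) :
    coeff d (aeval (fun i => C (c i) * (X i : MvPolynomial σ k)) p) =
      coeff d p * d.prod fun i n => c i ^ n := by
  classical
  induction p using MvPolynomial.induction_on' with
  | monomial e b =>
    rw [aeval_scale_monomial, coeff_monomial, coeff_monomial]
    split_ifs with h
    · rw [h]
    · rw [zero_mul]
  | add p q hp hq => rw [map_add, coeff_add, coeff_add, hp, hq, add_mul]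

open MvPolynomial in
lemma mono_mem {k : Type*} [Field k] (r a : ℕ) (hr : 0 < r) : ∀ n i j : ℕ, i + j = n → r ∣ i + a * j →
    (X 0 ^ i * X 1 ^ j : MvPolynomial (Fin 2) k) ∈
      Algebra.adjoin k {q : MvPolynomial (Fin 2) k | ∃ i j : ℕ, i ≤ r ∧ j ≤ r ∧ ¬ (i = r ∧ j = r) ∧
        r ∣ i + a * j ∧ q = MvPolynomial.X 0 ^ i * MvPolynomial.X 1 ^ j} := by
  intro n
  induction n using Nat.strong_induction_on with
  | _ n ih =>
    intro i j hn hdvd
    by_cases hi : r ≤ i
    · have h1 : (X 0 ^ r : MvPolynomial (Fin 2) k) ∈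
          Algebra.adjoin k {q : MvPolynomial (Fin 2) k | ∃ i j : ℕ, i ≤ r ∧ j ≤ r ∧ ¬ (i = r ∧ j = r) ∧
          r ∣ i + a * j ∧ q = MvPolynomial.X 0 ^ i * MvPolynomial.X 1 ^ j} :=
        Algebra.subset_adjoin ⟨r, 0, le_rfl, Nat.zero_le _, fun h => hr.ne h.2, by simp, by simp⟩
      have hd' : r ∣ (i - r) + a * j := by
        have h3 : i + a * j = ((i - r) + a * j) + r := by omega
        rw [h3] at hdvd
        exact (Nat.dvd_add_left dvd_rfl).mp hdvd
      have h2 := ih (i - r + j) (by omega) (i - r) j rfl hd'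
      have h4 : (X 0 ^ i * X 1 ^ j : MvPolynomial (Fin 2) k) = X 0 ^ r * (X 0 ^ (i - r) * X 1 ^ j) := by
        rw [← mul_assoc, ← pow_add, Nat.add_sub_cancel' hi]
      rw [h4]
      exact Subalgebra.mul_mem _ h1 h2
    · by_cases hj : r ≤ j
      · have h1 : (X 1 ^ r : MvPolynomial (Fin 2) k) ∈
            Algebra.adjoin k {q : MvPolynomial (Fin 2) k | ∃ i j : ℕ, i ≤ r ∧ j ≤ r ∧ ¬ (i = r ∧ j = r) ∧
            r ∣ i + a * j ∧ q = MvPolynomial.X 0 ^ i * MvPolynomial.X 1 ^ j} :=
          Algebra.subset_adjoin ⟨0, r, Nat.zero_le _, le_rfl, fun h => hr.ne h.1, by simp, by simp⟩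
        have hd' : r ∣ i + a * (j - r) := by
          have h3 : i + a * j = (i + a * (j - r)) + a * r := by
            rw [add_assoc, ← mul_add, Nat.sub_add_cancel hj]
          rw [h3] at hdvd
          exact (Nat.dvd_add_left (dvd_mul_left r a)).mp hdvd
        have h2 := ih (i + (j - r)) (by omega) i (j - r) rfl hd'
        have h4 : (X 0 ^ i * X 1 ^ j : MvPolynomial (Fin 2) k) = X 1 ^ r * (X 0 ^ i * X 1 ^ (j - r)) := by
          rw [mul_left_comm, ← pow_add, Nat.add_sub_cancel' hj]
        rw [h4]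
        exact Subalgebra.mul_mem _ h1 h2
      · exact Algebra.subset_adjoin ⟨i, j, by omega, by omega, by omega, hdvd, rfl⟩

/-- Let k be a field containing a primitive r-th root of unity ζ and 0 < a < r. The cyclic group of r-th
roots of unity acts on k[X, Y] through the generator X ↦ ζ⁻¹ X, Y ↦ ζ^(−a) Y, and the ring of
invariants of this action is generated as a k-algebra by the monomials X^i Y^j with 0 ≤ i, j ≤ r,
(i, j) ≠ (r, r) and i + a·j ≡ 0 (mod r). (The printed statement writes n for the order of the group,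
which the surrounding section calls r.) -/
theorem result (k : Type u) [Field k] (r a : ℕ) (ha : 0 < a) (har : a < r)
    (ζ : k) (hζ : IsPrimitiveRoot ζ r) (p : MvPolynomial (Fin 2) k) :
    MvPolynomial.aeval (fun i : Fin 2 => if i = 0 then MvPolynomial.C ζ⁻¹ * MvPolynomial.X 0
        else MvPolynomial.C (ζ⁻¹ ^ a) * (MvPolynomial.X 1 : MvPolynomial (Fin 2) k)) p = p ↔
      p ∈ Algebra.adjoin k {q : MvPolynomial (Fin 2) k | ∃ i j : ℕ, i ≤ r ∧ j ≤ r ∧ ¬ (i = r ∧ j = r) ∧
        r ∣ i + a * j ∧ q = MvPolynomial.X 0 ^ i * MvPolynomial.X 1 ^ j} := by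
  classical
  have hr : 0 < r := lt_of_le_of_lt (Nat.zero_le a) har
  set cc : Fin 2 → k := fun i => if i = 0 then ζ⁻¹ else ζ⁻¹ ^ a with hcc
  have hfun : (fun i : Fin 2 => if i = 0 then MvPolynomial.C ζ⁻¹ * MvPolynomial.X 0
        else MvPolynomial.C (ζ⁻¹ ^ a) * (MvPolynomial.X 1 : MvPolynomial (Fin 2) k)) =
      fun i => MvPolynomial.C (cc i) * MvPolynomial.X i := by
    funext i
    fin_cases i <;> simp [cc]
  have hw : ∀ d : Fin 2 →₀ ℕ, (d.prod fun i n => cc i ^ n) = ζ⁻¹ ^ (d 0 + a * d 1) := by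
    intro d
    rw [Finsupp.prod_fintype _ _ (by simp), Fin.prod_univ_two]
    simp only [cc, if_true, one_ne_zero, if_false]
    rw [← pow_mul, ← pow_add]
  rw [hfun]
  constructor
  · intro hfix
    have hsup : ∀ d ∈ p.support, r ∣ d 0 + a * d 1 := by
      intro d hd
      have h1 := congrArg (MvPolynomial.coeff d) hfix
      rw [coeff_scale, hw] at h1
      have hne : MvPolynomial.coeff d p ≠ 0 := MvPolynomial.mem_support_iff.mp hd
      have h2 : ζ⁻¹ ^ (d 0 + a * d 1) = 1 := by
        apply mul_left_cancel₀ hne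
        rw [h1, mul_one]
      exact (hζ.inv.pow_eq_one_iff_dvd _).mp h2
    rw [p.as_sum]
    refine Subalgebra.sum_mem _ (fun d hd => ?_)
    have hmon : MvPolynomial.monomial d (MvPolynomial.coeff d p) =
        MvPolynomial.coeff d p • (MvPolynomial.X 0 ^ d 0 * MvPolynomial.X 1 ^ d 1 :
          MvPolynomial (Fin 2) k) := by
      rw [MvPolynomial.smul_eq_C_mul, MvPolynomial.monomial_eq, Finsupp.prod_fintype _ _ (by simp),
        Fin.prod_univ_two]
    rw [hmon]
    exact Subalgebra.smul_mem _ (mono_mem r a hr _ _ _ rfl (hsup d hd)) _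
  · intro hp
    have hle : Algebra.adjoin k {q : MvPolynomial (Fin 2) k | ∃ i j : ℕ, i ≤ r ∧ j ≤ r ∧ ¬ (i = r ∧ j = r) ∧
        r ∣ i + a * j ∧ q = MvPolynomial.X 0 ^ i * MvPolynomial.X 1 ^ j} ≤
        AlgHom.equalizer (MvPolynomial.aeval fun i => MvPolynomial.C (cc i) * MvPolynomial.X i)
          (AlgHom.id k (MvPolynomial (Fin 2) k)) := by
      apply Algebra.adjoin_le
      rintro q ⟨i, j, -, -, -, hdvd, rfl⟩
      rw [SetLike.mem_coe, AlgHom.mem_equalizer]
      apply MvPolynomial.ext
      intro d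
      rw [coeff_scale, hw, AlgHom.coe_id, id]
      by_cases hd : MvPolynomial.coeff d (MvPolynomial.X 0 ^ i * MvPolynomial.X 1 ^ j :
          MvPolynomial (Fin 2) k) = 0
      · rw [hd, zero_mul]
      · have hmon : (MvPolynomial.X 0 ^ i * MvPolynomial.X 1 ^ j : MvPolynomial (Fin 2) k) =
            MvPolynomial.monomial (Finsupp.single 0 i + Finsupp.single 1 j) 1 := by
          rw [MvPolynomial.X_pow_eq_monomial, MvPolynomial.X_pow_eq_monomial,
            MvPolynomial.monomial_mul, one_mul]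
        rw [hmon, MvPolynomial.coeff_monomial] at hd
        have hd' : Finsupp.single 0 i + Finsupp.single 1 j = d := by
          by_contra hne
          exact hd (if_neg hne)
        have h0 : d 0 = i := by rw [← hd']; simp
        have h1 : d 1 = j := by rw [← hd']; simp
        rw [h0, h1, (hζ.inv.pow_eq_one_iff_dvd _).mpr hdvd, mul_one]
    exact hle hp

end Groth.Agent.S10891
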