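import Groth.Statements.S10895
import Mathlib

set_option autoImplicit false
universe u
open CategoryTheory AlgebraicGeometry
open FlatMor

namespace Groth.Agent.S10895


lemma ann_fg {A : Type*} [CommRing A] (p : Ideal A) [p.IsPrime] (I : Ideal A) (hI : I.FG)
    (h : ∀ a ∈ I, ∃ s ∉ p, s * a = 0) : ∃ s ∉ p, ∀ a ∈ I, s * a = 0 := by
  classical
  obtain ⟨G, rfl⟩ := hI
  choose! t ht1 ht2 using h
  refine ⟨∏ g ∈ G, t g, ?_, ?_⟩
  · intro hmem
    obtain ⟨g, hg, hgp⟩ := (Ideal.IsPrime.prod_mem_iff).mp hmem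
    exact ht1 g (Ideal.subset_span hg) hgp
  · intro a ha
    induction ha using Submodule.span_induction with
    | mem g hg =>
      rw [← Finset.mul_prod_erase G t hg, mul_right_comm, ht2 g (Ideal.subset_span hg), zero_mul]
    | zero => simp
    | add x y _ _ hx hy => rw [mul_add, hx, hy, add_zero]
    | smul c x _ hx => rw [smul_eq_mul, mul_left_comm, hx, mul_zero]

lemma loc_bij {A B A' B' : Type*} [CommRing A] [CommRing B] [CommRing A'] [CommRing B']
    (α : A →+* A') (β : B →+* B') (s : A) (φ : A →+* B) (φ' : A' →+* B')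
    (hA : @IsLocalization.Away A _ s A' _ α.toAlgebra)
    (hB : @IsLocalization.Away B _ (φ s) B' _ β.toAlgebra)
    (hcomm : φ'.comp α = β.comp φ) (hsurj : Function.Surjective φ)
    (hker : ∀ a, φ a = 0 → s * a = 0) : Function.Bijective φ' := by
  letI := α.toAlgebra
  letI := β.toAlgebra
  have hα : ∀ a, algebraMap A A' a = α a := fun a => rfl
  have hβ : ∀ b, algebraMap B B' b = β b := fun b => rfl
  have hc : ∀ a, φ' (α a) = β (φ a) := fun a => RingHom.congr_fun hcomm a
  constructor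
  · rw [injective_iff_map_eq_zero]
    intro x' hx'
    obtain ⟨a, m, rfl⟩ := IsLocalization.exists_mk'_eq (Submonoid.powers s) x'
    have h1 : β (φ a) = 0 := by
      rw [← hc, ← hα, ← IsLocalization.mk'_spec A' a m, map_mul, hx', zero_mul]
    rw [← hβ, IsLocalization.map_eq_zero_iff (Submonoid.powers (φ s))] at h1
    obtain ⟨⟨_, k, rfl⟩, hk⟩ := h1
    have h2 : φ (s ^ k * a) = 0 := by rw [map_mul, map_pow]; exact hk
    have h3 := hker _ h2
    rw [IsLocalization.mk'_eq_zero_iff]
    refine ⟨⟨s ^ (k + 1), k + 1, rfl⟩, ?_⟩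
    show s ^ (k + 1) * a = 0
    rw [pow_succ', mul_assoc]
    exact h3
  · intro y'
    obtain ⟨b, ⟨_, k, rfl⟩, rfl⟩ := IsLocalization.exists_mk'_eq (Submonoid.powers (φ s)) y'
    obtain ⟨a, rfl⟩ := hsurj b
    refine ⟨IsLocalization.mk' A' a (⟨s ^ k, k, rfl⟩ : Submonoid.powers s), ?_⟩
    rw [IsLocalization.eq_mk'_iff_mul_eq]
    show φ' _ * algebraMap B B' (φ s ^ k) = algebraMap B B' (φ a)
    rw [hβ, hβ, ← map_pow, ← hc, ← hc, ← map_mul, ← hα, ← hα]
    congr 1
    exact IsLocalization.mk'_spec A' a (⟨s ^ k, k, rfl⟩ : Submonoid.powers s)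

open CategoryTheory AlgebraicGeometry in
lemma isIso_map_eqToHom {X : Scheme.{u}} {U V : X.Opens} (p : U = V) :
    IsIso (X.presheaf.map (eqToHom p).op) := by
  subst p
  simp only [eqToHom_refl, op_id, CategoryTheory.Functor.map_id]
  infer_instance

/-- A closed immersion of finite presentation which is flat at a point x is an isomorphism over some
open neighbourhood of the image of x. -/
theorem result {X Y : Scheme.{u}} (f : X ⟶ Y) [IsClosedImmersion f]
    [LocallyOfFinitePresentation f] (x : X) (hflat : (f.stalkMap x).hom.Flat) :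
    ∃ V : Y.Opens, f.base x ∈ V ∧ IsIso (f ∣_ V) := by
  classical
  obtain ⟨W, hW, hyW⟩ : ∃ W : Y.Opens, IsAffineOpen W ∧ f.base x ∈ W := by
    obtain ⟨_, ⟨W, hW, rfl⟩, hy, -⟩ := Y.isBasis_affineOpens.exists_subset_of_mem_open
      (Set.mem_univ (f.base x)) isOpen_univ
    exact ⟨W, hW, hy⟩
  have hU : IsAffineOpen (f ⁻¹ᵁ W) := hW.preimage f
  have hφsurj : Function.Surjective (f.app W).hom := f.app_surjective W hW
  have hφfp : (f.app W).hom.FinitePresentation := by
    have := HasRingHomProperty.appLE (P := @LocallyOfFinitePresentation) f inferInstance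
      ⟨W, hW⟩ ⟨f ⁻¹ᵁ W, hU⟩ le_rfl
    rwa [Scheme.Hom.appLE_eq_app] at this
  have hker : (RingHom.ker (f.app W).hom).FG := by
    letI := (f.app W).hom.toAlgebra
    haveI : Algebra.FinitePresentation Γ(Y, W) Γ(X, f ⁻¹ᵁ W) := hφfp
    exact Algebra.FinitePresentation.ker_fG_of_surjective (Algebra.ofId Γ(Y, W) Γ(X, f ⁻¹ᵁ W)) hφsurj
  have hinj : Function.Injective (f.stalkMap x).hom := by
    algebraize [(f.stalkMap x).hom]
    have : Module.FaithfullyFlat (Y.presheaf.stalk (f.base x)) (X.presheaf.stalk x) :=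
      @Module.FaithfullyFlat.of_flat_of_isLocalHom _ _ _ _ _ _ _ hflat (f.toLRSHom.prop x)
    exact ‹RingHom.FaithfullyFlat _›.injective
  letI : Algebra Γ(Y, W) (Y.presheaf.stalk (f.base x)) :=
    TopCat.Presheaf.algebra_section_stalk Y.presheaf (⟨f.base x, hyW⟩ : W)
  have hloc : IsLocalization.AtPrime (Y.presheaf.stalk (f.base x))
      (hW.primeIdealOf ⟨f.base x, hyW⟩).asIdeal := hW.isLocalization_stalk ⟨f.base x, hyW⟩
  have h1 : ∀ a ∈ RingHom.ker (f.app W).hom,
      ∃ s ∉ (hW.primeIdealOf ⟨f.base x, hyW⟩).asIdeal, s * a = 0 := by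
    intro a ha
    have hg : Y.presheaf.germ W (f.base x) hyW a = 0 := by
      apply hinj
      rw [map_zero]
      have := Scheme.Hom.germ_stalkMap_apply f W x hyW a
      rw [this, show (f.app W).hom a = 0 from ha, map_zero]
    obtain ⟨⟨s, hs⟩, hsa⟩ := (IsLocalization.map_eq_zero_iff
      (hW.primeIdealOf ⟨f.base x, hyW⟩).asIdeal.primeCompl (Y.presheaf.stalk (f.base x)) a).mp hg
    exact ⟨s, hs, hsa⟩
  obtain ⟨s, hs, hsI⟩ := ann_fg _ _ hker h1
  refine ⟨Y.basicOpen s, ?_, ?_⟩
  · rw [Scheme.mem_basicOpen _ _ _ hyW]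
    exact IsLocalization.map_units (Y.presheaf.stalk (f.base x))
      (⟨s, hs⟩ : (hW.primeIdealOf ⟨f.base x, hyW⟩).asIdeal.primeCompl)
  · have hV : IsAffineOpen (Y.basicOpen s) := hW.basicOpen s
    haveI : IsAffine (Y.basicOpen s : Y.Opens) := hV
    rw [← MorphismProperty.isomorphisms.iff,
      HasAffineProperty.iff_of_isAffine (P := MorphismProperty.isomorphisms Scheme)]
    refine ⟨hV.preimage f, ?_⟩
    rw [morphismRestrict_appTop]
    suffices h : IsIso (f.app ((Y.basicOpen s).ι ''ᵁ ⊤)) from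
      IsIso.comp_isIso' h (isIso_map_eqToHom _)
    suffices ∀ V' : Y.Opens, V' = Y.basicOpen s → IsIso (f.app V') from this _ (by simp)
    rintro _ rfl
    rw [ConcreteCategory.isIso_iff_bijective]
    refine loc_bij (Y.presheaf.map (homOfLE (Y.basicOpen_le s)).op).hom
      (X.presheaf.map (homOfLE (f.preimage_mono (Y.basicOpen_le s))).op).hom s (f.app W).hom
      (f.app (Y.basicOpen s)).hom
      (hW.isLocalization_of_eq_basicOpen s _ rfl)
      (hU.isLocalization_of_eq_basicOpen _ _ (Scheme.preimage_basicOpen f s)) ?_ hφsurj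
      (fun a ha => hsI a ha)
    rw [← CommRingCat.hom_comp, ← CommRingCat.hom_comp]
    congr 1
    exact f.naturality _

end Groth.Agent.S10895
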