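import Groth.Statements.S10897
import Mathlib.RingTheory.MvPolynomial.EulerIdentity

set_option autoImplicit false
universe u
open Cubic

namespace Groth.Agent.S10897

open Module

section lib
variable {k : Type u} [Field k]

/-- the linear polynomial `z_i X + p_i`. -/
noncomputable def gl (p z : Fin 4 → k) (i : Fin 4) : Polynomial k :=
  Polynomial.C (z i) * Polynomial.X + Polynomial.C (p i)

/-- restriction of `q` to the parametrized line `x ↦ p + x z`. -/
noncomputable def lineP (q : MvPolynomial (Fin 4) k) (p z : Fin 4 → k) : Polynomial k :=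
  MvPolynomial.aeval (gl p z) q

theorem lineP_C (a : k) (p z : Fin 4 → k) : lineP (MvPolynomial.C a) p z = Polynomial.C a := by
  simp [lineP]

theorem lineP_zero (p z : Fin 4 → k) : lineP (0 : MvPolynomial (Fin 4) k) p z = 0 := by
  simp [lineP]

theorem lineP_add (a b : MvPolynomial (Fin 4) k) (p z : Fin 4 → k) :
    lineP (a + b) p z = lineP a p z + lineP b p z := by
  simp [lineP]

theorem lineP_mul_X (q : MvPolynomial (Fin 4) k) (j : Fin 4) (p z : Fin 4 → k) :
    lineP (q * MvPolynomial.X j) p z = lineP q p z * gl p z j := by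
  simp [lineP]

theorem eval_gl (p z : Fin 4 → k) (j : Fin 4) (x : k) :
    Polynomial.eval x (gl p z j) = p j + x * z j := by
  simp only [gl, Polynomial.eval_add, Polynomial.eval_mul, Polynomial.eval_C, Polynomial.eval_X]
  ring

theorem derivative_gl (p z : Fin 4 → k) (j : Fin 4) :
    Polynomial.derivative (gl p z j) = Polynomial.C (z j) := by
  simp [gl]

theorem eval_lineP (q : MvPolynomial (Fin 4) k) (p z : Fin 4 → k) (x : k) :
    Polynomial.eval x (lineP q p z) = MvPolynomial.eval (p + x • z) q := by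
  induction q using MvPolynomial.induction_on with
  | C a => rw [lineP_C, Polynomial.eval_C, MvPolynomial.eval_C]
  | add a b ha hb => rw [lineP_add, Polynomial.eval_add, ha, hb, RingHom.map_add]
  | mul_X q j ih =>
    rw [lineP_mul_X, Polynomial.eval_mul, ih, eval_gl, RingHom.map_mul, MvPolynomial.eval_X]
    simp [Pi.add_apply, Pi.smul_apply, smul_eq_mul]

theorem natDegree_lineP_le (q : MvPolynomial (Fin 4) k) (p z : Fin 4 → k) :
    (lineP q p z).natDegree ≤ q.totalDegree := by
  have h := MvPolynomial.aeval_natDegree_le (m := q.totalDegree) (n := 1) q (le_refl _) (gl p z)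
    (fun i => Polynomial.natDegree_linear_le)
  rw [mul_one] at h
  exact h

theorem deriv_lineP (q : MvPolynomial (Fin 4) k) (p z : Fin 4 → k) :
    Polynomial.derivative (lineP q p z) =
      ∑ i, lineP (MvPolynomial.pderiv i q) p z * Polynomial.C (z i) := by
  induction q using MvPolynomial.induction_on with
  | C a =>
    rw [lineP_C, Polynomial.derivative_C]
    symm
    apply Finset.sum_eq_zero
    intro i _
    rw [MvPolynomial.pderiv_C, lineP_zero, zero_mul]
  | add a b ha hb =>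
    rw [lineP_add, Polynomial.derivative_add, ha, hb, ← Finset.sum_add_distrib]
    refine Finset.sum_congr rfl (fun i _ => ?_)
    rw [map_add, lineP_add, add_mul]
  | mul_X q j ih =>
    have h1 : ∀ i, lineP (MvPolynomial.pderiv i (q * MvPolynomial.X j)) p z * Polynomial.C (z i)
        = (lineP (MvPolynomial.pderiv i q) p z * Polynomial.C (z i)) * gl p z j
          + (if i = j then lineP q p z * Polynomial.C (z j) else 0) := by
      intro i
      rw [MvPolynomial.pderiv_mul, MvPolynomial.pderiv_X, lineP_add, lineP_mul_X]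
      by_cases h : i = j
      · subst h
        rw [if_pos rfl, Pi.single_eq_same, mul_one]
        ring
      · rw [if_neg h, Pi.single_eq_of_ne (Ne.symm h), mul_zero, lineP_zero]
        ring
    rw [lineP_mul_X, Polynomial.derivative_mul, ih, derivative_gl,
      Finset.sum_congr rfl (fun i _ => h1 i), Finset.sum_add_distrib, Finset.sum_mul]
    congr 1
    simp

/-- the linear form `z ↦ Σ ∂_i q (p) z_i`. -/
noncomputable def Lfun (q : MvPolynomial (Fin 4) k) (p : Fin 4 → k) : (Fin 4 → k) →ₗ[k] k :=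
  ∑ i, (MvPolynomial.eval p (MvPolynomial.pderiv i q)) • (LinearMap.proj i : (Fin 4 → k) →ₗ[k] k)

theorem Lfun_apply (q : MvPolynomial (Fin 4) k) (p z : Fin 4 → k) :
    Lfun q p z = ∑ i, MvPolynomial.eval p (MvPolynomial.pderiv i q) * z i := by
  simp [Lfun, LinearMap.sum_apply]

theorem Lfun_single (q : MvPolynomial (Fin 4) k) (p : Fin 4 → k) (i : Fin 4) :
    Lfun q p (Pi.single i (1 : k)) = MvPolynomial.eval p (MvPolynomial.pderiv i q) := by
  rw [Lfun_apply]
  simp [Pi.single_apply]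

theorem eval_smul_hom {g : MvPolynomial (Fin 4) k} {n : ℕ} (hg : g.IsHomogeneous n) (c : k)
    (x : Fin 4 → k) : MvPolynomial.eval (c • x) g = c ^ n * MvPolynomial.eval x g := by
  classical
  have hcx : c • x = fun i => c * x i := by
    funext i
    simp
  rw [hcx, MvPolynomial.eval_eq', MvPolynomial.eval_eq', Finset.mul_sum]
  refine Finset.sum_congr rfl fun s hs => ?_
  have hdeg : ∑ i, s i = n := by
    have h1 := hg (MvPolynomial.mem_support_iff.mp hs)
    rw [← Finsupp.degree_eq_sum]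
    rw [Finsupp.degree_eq_weight_one]
    exact h1
  simp only [mul_pow, Finset.prod_mul_distrib, Finset.prod_pow_eq_pow_sum, hdeg]
  ring

end lib

section main
variable {k : Type u} [Field k] [IsAlgClosed k] [CharZero k]

theorem T1 (q : MvPolynomial (Fin 4) k) (p z : Fin 4 → k)
    (h : ∀ t : k, MvPolynomial.eval (p + t • z) q = 0) : Lfun q p z = 0 := by
  have h0 : lineP q p z = 0 := by
    apply Polynomial.funext
    intro x
    rw [eval_lineP, h x, Polynomial.eval_zero]
  have h1 : Polynomial.derivative (lineP q p z) = 0 := by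
    rw [h0, Polynomial.derivative_zero]
  rw [deriv_lineP] at h1
  have h2 := congrArg (Polynomial.eval 0) h1
  rw [Polynomial.eval_finsetSum, Polynomial.eval_zero] at h2
  rw [Lfun_apply, ← h2]
  refine Finset.sum_congr rfl (fun i _ => ?_)
  rw [Polynomial.eval_mul, Polynomial.eval_C, eval_lineP, zero_smul, add_zero]

theorem lemZ {g : MvPolynomial (Fin 4) k} {n : ℕ} (hg : g.IsHomogeneous n) (p h : Fin 4 → k)
    (hz : ∀ x : k, MvPolynomial.eval (p + x • h) g = 0) : MvPolynomial.eval h g = 0 := by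
  have hB : lineP g h p = 0 := by
    apply Polynomial.eq_of_infinite_eval_eq
    refine Set.Infinite.mono (s := ({0} : Set k)ᶜ) (fun y hy => ?_)
      ((Set.finite_singleton (0 : k)).infinite_compl)
    have hy' : y ≠ 0 := fun e => hy (Set.mem_singleton_iff.mpr e)
    show Polynomial.eval y (lineP g h p) = Polynomial.eval y 0
    have hh : h + y • p = y • (p + y⁻¹ • h) := by
      rw [smul_add, smul_smul, mul_inv_cancel₀ hy', one_smul, add_comm]
    rw [Polynomial.eval_zero, eval_lineP, hh, eval_smul_hom hg, hz, mul_zero]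
  have h3 := congrArg (Polynomial.eval 0) hB
  rwa [eval_lineP, zero_smul, add_zero, Polynomial.eval_zero] at h3

theorem quadZero {P : MvPolynomial (Fin 4) k} (hP : P.IsHomogeneous 2) (v w : Fin 4 → k) :
    ∃ a b : k, (a ≠ 0 ∨ b ≠ 0) ∧ MvPolynomial.eval (a • v + b • w) P = 0 := by
  by_cases hdeg : (lineP P v w).degree = 0
  · have hB : lineP P v w = Polynomial.C ((lineP P v w).coeff 0) :=
      Polynomial.eq_C_of_degree_eq_zero hdeg
    have hconst : ∀ y : k, MvPolynomial.eval (v + y • w) P = (lineP P v w).coeff 0 := by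
      intro y
      rw [← eval_lineP]
      conv_lhs => rw [hB]
      rw [Polynomial.eval_C]
    have hA : lineP P w v = Polynomial.C ((lineP P v w).coeff 0) * Polynomial.X ^ 2 := by
      apply Polynomial.eq_of_infinite_eval_eq
      refine Set.Infinite.mono (s := ({0} : Set k)ᶜ) (fun x hx => ?_)
        ((Set.finite_singleton (0 : k)).infinite_compl)
      have hx' : x ≠ 0 := fun e => hx (Set.mem_singleton_iff.mpr e)
      show Polynomial.eval x (lineP P w v)
        = Polynomial.eval x (Polynomial.C ((lineP P v w).coeff 0) * Polynomial.X ^ 2)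
      have hh : w + x • v = x • (v + x⁻¹ • w) := by
        rw [smul_add, smul_smul, mul_inv_cancel₀ hx', one_smul, add_comm]
      rw [eval_lineP, Polynomial.eval_mul, Polynomial.eval_C, Polynomial.eval_pow,
        Polynomial.eval_X, hh, eval_smul_hom hP, hconst, mul_comm]
    refine ⟨0, 1, Or.inr one_ne_zero, ?_⟩
    have h3 := congrArg (Polynomial.eval 0) hA
    rw [eval_lineP, zero_smul, add_zero] at h3
    rw [zero_smul, one_smul, zero_add, h3]
    simp
  · obtain ⟨y0, hy0⟩ := IsAlgClosed.exists_root (lineP P v w) hdeg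
    refine ⟨1, y0, Or.inl one_ne_zero, ?_⟩
    rw [one_smul, ← eval_lineP]
    exact hy0

theorem lemP {v q : Fin 4 → k} (hv : v ≠ 0) {U U' : Submodule k (Fin 4 → k)}
    (hU : finrank k ↥U = 2) (hU' : finrank k ↥U' = 2)
    (hvU : v ∈ U) (hvU' : v ∈ U') (hqU : q ∈ U) (hqU' : q ∈ U')
    (hq : q ∉ Submodule.span k {v}) : U = U' := by
  have key : ∀ (A B : Submodule k (Fin 4 → k)), finrank k ↥A = 2 → v ∈ A → v ∈ B → q ∈ A → q ∈ B →
      A ≤ B := by
    intro A B hA hvA hvB hqA hqB
    by_contra hle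
    have hlt : A ⊓ B < A := lt_of_le_of_ne inf_le_left (fun h => hle (inf_eq_left.mp h))
    have h1 : finrank k ↥(A ⊓ B) < 2 := hA ▸ Submodule.finrank_lt_finrank_of_lt hlt
    have hsp : Submodule.span k {v} ≤ A ⊓ B := by
      rw [Submodule.span_singleton_le_iff_mem]
      exact ⟨hvA, hvB⟩
    have h2 : finrank k ↥(Submodule.span k {v}) = 1 := finrank_span_singleton hv
    have heq : Submodule.span k {v} = A ⊓ B := Submodule.eq_of_le_of_finrank_le hsp (by omega)
    apply hq
    rw [heq]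
    exact ⟨hqA, hqB⟩
  exact le_antisymm (key U U' hU hvU hvU' hqU hqU') (key U' U hU' hvU' hvU hqU' hqU)

theorem lemQ {U H : Submodule k (Fin 4 → k)} (hUH : U ≤ H) (hU : finrank k ↥U = 2)
    (hH : finrank k ↥H = 3) {h p : Fin 4 → k} (hh : h ∈ H) (hhU : h ∉ U) (hp : p ∈ H) :
    ∃ x : k, p + x • h ∈ U := by
  have hlt : U < U ⊔ Submodule.span k {h} := by
    refine lt_of_le_of_ne le_sup_left (fun heq => hhU ?_)
    rw [heq]
    exact Submodule.mem_sup_right (Submodule.mem_span_singleton_self h)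
  have hle : U ⊔ Submodule.span k {h} ≤ H :=
    sup_le hUH (by rw [Submodule.span_singleton_le_iff_mem]; exact hh)
  have h1 : 2 < finrank k ↥(U ⊔ Submodule.span k {h}) :=
    hU ▸ Submodule.finrank_lt_finrank_of_lt hlt
  have heq : U ⊔ Submodule.span k {h} = H := Submodule.eq_of_le_of_finrank_le hle (by omega)
  have hp' : p ∈ U ⊔ Submodule.span k {h} := by rw [heq]; exact hp
  obtain ⟨u, hu, y, hy, huy⟩ := Submodule.mem_sup.mp hp'
  obtain ⟨c, rfl⟩ := Submodule.mem_span_singleton.mp hy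
  refine ⟨-c, ?_⟩
  have e : p + (-c) • h = u := by
    rw [← huy, neg_smul, add_neg_cancel_right]
  rw [e]
  exact hu

theorem finrank_ker_of_ne_zero (L : (Fin 4 → k) →ₗ[k] k) (hL : L ≠ 0) :
    finrank k ↥(LinearMap.ker L) = 3 := by
  have h1 := Module.Dual.finrank_ker_add_one_of_ne_zero (f := L) hL
  rw [Module.finrank_fin_fun] at h1
  omega

theorem le_ker_Lfun (f : MvPolynomial (Fin 4) k) (v : Fin 4 → k) (U : Submodule k (Fin 4 → k))
    (hvU : v ∈ U) (hU : ∀ u ∈ U, MvPolynomial.eval u f = 0) :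
    U ≤ LinearMap.ker (Lfun f v) := by
  intro u hu
  rw [LinearMap.mem_ker]
  exact T1 f v u (fun t => hU _ (U.add_mem hvU (U.smul_mem t hu)))

theorem four_false (f : MvPolynomial (Fin 4) k) (hf : f.IsHomogeneous 3)
    (hsm : ∀ v : Fin 4 → k, v ≠ 0 → MvPolynomial.eval v f = 0 →
      ∃ i : Fin 4, MvPolynomial.eval v (MvPolynomial.pderiv i f) ≠ 0)
    (v : Fin 4 → k) (hv : v ≠ 0) (hfv : MvPolynomial.eval v f = 0)
    (U1 U2 U3 U4 : Submodule k (Fin 4 → k))
    (m1 : v ∈ U1 ∧ (finrank k ↥U1 = 2 ∧ ∀ u ∈ U1, MvPolynomial.eval u f = 0))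
    (m2 : v ∈ U2 ∧ (finrank k ↥U2 = 2 ∧ ∀ u ∈ U2, MvPolynomial.eval u f = 0))
    (m3 : v ∈ U3 ∧ (finrank k ↥U3 = 2 ∧ ∀ u ∈ U3, MvPolynomial.eval u f = 0))
    (m4 : v ∈ U4 ∧ (finrank k ↥U4 = 2 ∧ ∀ u ∈ U4, MvPolynomial.eval u f = 0))
    (h12 : U1 ≠ U2) (h13 : U1 ≠ U3) (h14 : U1 ≠ U4) (h23 : U2 ≠ U3) (h24 : U2 ≠ U4)
    (h34 : U3 ≠ U4) : False := by
  classical
  obtain ⟨i0, hi0⟩ := hsm v hv hfv
  have hne : Lfun f v (Pi.single i0 (1 : k)) ≠ 0 := by
    rw [Lfun_single]
    exact hi0
  have hLne : Lfun f v ≠ 0 := by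
    intro h
    apply hne
    rw [h, LinearMap.zero_apply]
  have hH3 : finrank k ↥(LinearMap.ker (Lfun f v)) = 3 := finrank_ker_of_ne_zero _ hLne
  have hUH : ∀ U : Submodule k (Fin 4 → k), v ∈ U → (∀ u ∈ U, MvPolynomial.eval u f = 0) →
      U ≤ LinearMap.ker (Lfun f v) := le_ker_Lfun f v
  -- a second vector of U1
  obtain ⟨p1, hp1U, hp1v⟩ : ∃ p1 ∈ U1, p1 ∉ Submodule.span k {v} := by
    by_contra hcon
    push Not at hcon
    have hle : U1 ≤ Submodule.span k {v} := hcon
    have h1 := Submodule.finrank_mono hle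
    rw [finrank_span_singleton hv, m1.2.1] at h1
    omega
  have hp1H : p1 ∈ LinearMap.ker (Lfun f v) := hUH U1 m1.1 m1.2.2 hp1U
  -- f vanishes on all of H
  have hallH : ∀ h ∈ LinearMap.ker (Lfun f v), MvPolynomial.eval h f = 0 := by
    intro h hh
    by_cases c1 : h ∈ U1
    · exact m1.2.2 h c1
    by_cases c2 : h ∈ U2
    · exact m2.2.2 h c2
    by_cases c3 : h ∈ U3
    · exact m3.2.2 h c3
    by_cases c4 : h ∈ U4
    · exact m4.2.2 h c4
    have hroot : ∀ U : Submodule k (Fin 4 → k),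
        (v ∈ U ∧ (finrank k ↥U = 2 ∧ ∀ u ∈ U, MvPolynomial.eval u f = 0)) →
        U1 ≠ U → h ∉ U → ∃ x : k, x ≠ 0 ∧ p1 + x • h ∈ U := by
      intro U mU hU1U hhU
      obtain ⟨x, hx⟩ := lemQ (hUH U mU.1 mU.2.2) mU.2.1 hH3 hh hhU hp1H
      refine ⟨x, ?_, hx⟩
      intro hx0
      rw [hx0, zero_smul, add_zero] at hx
      exact hU1U (lemP hv m1.2.1 mU.2.1 m1.1 mU.1 hp1U hx hp1v)
    have hdist : ∀ U U' : Submodule k (Fin 4 → k),
        (v ∈ U ∧ (finrank k ↥U = 2 ∧ ∀ u ∈ U, MvPolynomial.eval u f = 0)) →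
        (v ∈ U' ∧ (finrank k ↥U' = 2 ∧ ∀ u ∈ U', MvPolynomial.eval u f = 0)) →
        U ≠ U' → ∀ x : k, x ≠ 0 → p1 + x • h ∈ U → p1 + x • h ∈ U' → False := by
      intro U U' mU mU' hne' x hx0 hxU hxU'
      apply hne'
      refine lemP hv mU.2.1 mU'.2.1 mU.1 mU'.1 hxU hxU' ?_
      intro hmem
      obtain ⟨c, hc⟩ := Submodule.mem_span_singleton.mp hmem
      apply c1
      have e : h = x⁻¹ • (c • v - p1) := by
        rw [hc, add_sub_cancel_left, smul_smul, inv_mul_cancel₀ hx0, one_smul]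
      rw [e]
      exact U1.smul_mem _ (U1.sub_mem (U1.smul_mem _ m1.1) hp1U)
    obtain ⟨x2, hx2, hm2⟩ := hroot U2 m2 h12 c2
    obtain ⟨x3, hx3, hm3⟩ := hroot U3 m3 h13 c3
    obtain ⟨x4, hx4, hm4⟩ := hroot U4 m4 h14 c4
    have d23 : x2 ≠ x3 := fun e =>
      hdist U2 U3 m2 m3 h23 x2 hx2 hm2 (by rw [e]; exact hm3)
    have d24 : x2 ≠ x4 := fun e =>
      hdist U2 U4 m2 m4 h24 x2 hx2 hm2 (by rw [e]; exact hm4)
    have d34 : x3 ≠ x4 := fun e =>
      hdist U3 U4 m3 m4 h34 x3 hx3 hm3 (by rw [e]; exact hm4)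
    have hG : lineP f p1 h = 0 := by
      refine Polynomial.eq_zero_of_natDegree_lt_card_of_eval_eq_zero' (lineP f p1 h)
        ({0, x2, x3, x4} : Finset k) ?_ ?_
      · intro x hx
        simp only [Finset.mem_insert, Finset.mem_singleton] at hx
        rw [eval_lineP]
        rcases hx with hx | hx | hx | hx
        · rw [hx, zero_smul, add_zero]
          exact m1.2.2 _ hp1U
        · rw [hx]; exact m2.2.2 _ hm2
        · rw [hx]; exact m3.2.2 _ hm3
        · rw [hx]; exact m4.2.2 _ hm4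
      · have e1 : x3 ∉ ({x4} : Finset k) := by simpa using d34
        have e2 : x2 ∉ ({x3, x4} : Finset k) := by simp [d23, d24]
        have e3 : (0 : k) ∉ ({x2, x3, x4} : Finset k) := by
          simp [hx2.symm, hx3.symm, hx4.symm]
        have hcard : 3 < ({0, x2, x3, x4} : Finset k).card := by
          rw [Finset.card_insert_of_notMem e3, Finset.card_insert_of_notMem e2,
            Finset.card_insert_of_notMem e1, Finset.card_singleton]
          norm_num
        have hd1 := natDegree_lineP_le f p1 h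
        have hd2 := MvPolynomial.IsHomogeneous.totalDegree_le hf
        omega
    apply lemZ hf p1 h
    intro x
    rw [← eval_lineP, hG, Polynomial.eval_zero]
  -- a nonzero point of U1 where the i0-th partial vanishes
  have hP : (MvPolynomial.pderiv i0 f).IsHomogeneous 2 := by
    have h := MvPolynomial.IsHomogeneous.pderiv (i := i0) hf
    simpa using h
  obtain ⟨h0, hh0U, hh0ne, hP0⟩ : ∃ h0 ∈ U1, h0 ≠ 0 ∧
      MvPolynomial.eval h0 (MvPolynomial.pderiv i0 f) = 0 := by
    obtain ⟨a, b, hab, hab0⟩ := quadZero hP v p1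
    refine ⟨a • v + b • p1, U1.add_mem (U1.smul_mem a m1.1) (U1.smul_mem b hp1U), ?_, hab0⟩
    intro h0z
    by_cases hb : b = 0
    · have ha : a ≠ 0 := by
        rcases hab with ha | hb'
        · exact ha
        · exact absurd hb hb'
      rw [hb, zero_smul, add_zero] at h0z
      rcases smul_eq_zero.mp h0z with h | h
      · exact ha h
      · exact hv h
    · apply hp1v
      rw [Submodule.mem_span_singleton]
      refine ⟨-(b⁻¹ * a), ?_⟩
      have h' : b • p1 = -(a • v) := eq_neg_of_add_eq_zero_right h0z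
      calc (-(b⁻¹ * a)) • v = b⁻¹ • (-(a • v)) := by rw [smul_neg, smul_smul, neg_smul]
        _ = b⁻¹ • (b • p1) := by rw [h']
        _ = p1 := by rw [smul_smul, inv_mul_cancel₀ hb, one_smul]
  have hh0H : h0 ∈ LinearMap.ker (Lfun f v) := hUH U1 m1.1 m1.2.2 hh0U
  have hL : ∀ z ∈ LinearMap.ker (Lfun f v), Lfun f h0 z = 0 := fun z hz =>
    T1 f h0 z (fun t => hallH _
      ((LinearMap.ker (Lfun f v)).add_mem hh0H ((LinearMap.ker (Lfun f v)).smul_mem t hz)))
  have hLi0 : Lfun f h0 (Pi.single i0 (1 : k)) = 0 := by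
    rw [Lfun_single]
    exact hP0
  have hall : ∀ i, MvPolynomial.eval h0 (MvPolynomial.pderiv i f) = 0 := by
    intro i
    have hz : (Pi.single i (1 : k) : Fin 4 → k)
        - (Lfun f v (Pi.single i (1 : k)) / Lfun f v (Pi.single i0 (1 : k)))
          • (Pi.single i0 (1 : k) : Fin 4 → k) ∈ LinearMap.ker (Lfun f v) := by
      rw [LinearMap.mem_ker, map_sub, map_smul, smul_eq_mul, div_mul_cancel₀ _ hne, sub_self]
    have h2 := hL _ hz
    rw [map_sub, map_smul, hLi0, smul_zero, sub_zero, Lfun_single] at h2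
    exact h2
  obtain ⟨i, hi⟩ := hsm h0 hh0ne (hallH h0 hh0H)
  exact hi (hall i)

end main

/-- Over an algebraically closed field of characteristic zero, through a point s of a smooth cubic
surface S = V_+(f) ⊂ P^3 there pass at most three lines contained in S, and these lines are
coplanar. With s given by a nonzero vector v with f(v) = 0, the lines through s on S are the
2-dimensional subspaces of k^4 containing v on which f vanishes; there are at most three of them and
one 3-dimensional subspace contains them all. -/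
theorem result (k : Type u) [Field k] [IsAlgClosed k] [CharZero k]
    (f : MvPolynomial (Fin 4) k) (hf : f.IsHomogeneous 3) (hf0 : f ≠ 0)
    (hsm : ∀ v : Fin 4 → k, v ≠ 0 → MvPolynomial.eval v f = 0 →
      ∃ i : Fin 4, MvPolynomial.eval v (MvPolynomial.pderiv i f) ≠ 0)
    (v : Fin 4 → k) (hv : v ≠ 0) (hfv : MvPolynomial.eval v f = 0) :
    {U : Submodule k (Fin 4 → k) | v ∈ U ∧ (Module.finrank k ↥U = 2 ∧ ∀ u ∈ U, MvPolynomial.eval u f = 0)}.Finite ∧
      {U : Submodule k (Fin 4 → k) | v ∈ U ∧ (Module.finrank k ↥U = 2 ∧ ∀ u ∈ U, MvPolynomial.eval u f = 0)}.ncard ≤ 3 ∧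
      ∃ H : Submodule k (Fin 4 → k), Module.finrank k ↥H = 3 ∧
        ∀ U : Submodule k (Fin 4 → k), v ∈ U → (Module.finrank k ↥U = 2 ∧ ∀ u ∈ U, MvPolynomial.eval u f = 0) → U ≤ H := by
  classical
  have henc : {U : Submodule k (Fin 4 → k) | v ∈ U ∧ (Module.finrank k ↥U = 2 ∧
      ∀ u ∈ U, MvPolynomial.eval u f = 0)}.encard ≤ ((3 : ℕ) : ℕ∞) := by
    by_contra hcon
    have hlt := not_le.mp hcon
    have h4 : (4 : ℕ∞) ≤ {U : Submodule k (Fin 4 → k) | v ∈ U ∧ (Module.finrank k ↥U = 2 ∧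
        ∀ u ∈ U, MvPolynomial.eval u f = 0)}.encard := by
      have h5 := Order.add_one_le_of_lt hlt
      calc (4 : ℕ∞) = ((3 : ℕ) : ℕ∞) + 1 := by norm_num
        _ ≤ _ := h5
    obtain ⟨t, hts, ht⟩ := Set.exists_subset_encard_eq h4
    obtain ⟨U1, U2, U3, U4, h12, h13, h14, h23, h24, h34, rfl⟩ := Set.encard_eq_four.mp ht
    have m1 : U1 ∈ ({U1, U2, U3, U4} : Set (Submodule k (Fin 4 → k))) := by simp
    have m2 : U2 ∈ ({U1, U2, U3, U4} : Set (Submodule k (Fin 4 → k))) := by simp
    have m3 : U3 ∈ ({U1, U2, U3, U4} : Set (Submodule k (Fin 4 → k))) := by simp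
    have m4 : U4 ∈ ({U1, U2, U3, U4} : Set (Submodule k (Fin 4 → k))) := by simp
    exact four_false f hf hsm v hv hfv U1 U2 U3 U4 (hts m1) (hts m2) (hts m3) (hts m4)
      h12 h13 h14 h23 h24 h34
  have hfin := Set.finite_of_encard_le_coe henc
  refine ⟨hfin, ?_, ?_⟩
  · have h3 : ((Set.ncard {U : Submodule k (Fin 4 → k) | v ∈ U ∧ (Module.finrank k ↥U = 2 ∧
        ∀ u ∈ U, MvPolynomial.eval u f = 0)} : ℕ) : ℕ∞) ≤ ((3 : ℕ) : ℕ∞) := by
      rw [hfin.cast_ncard_eq]
      exact henc
    exact_mod_cast h3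
  · obtain ⟨i0, hi0⟩ := hsm v hv hfv
    refine ⟨LinearMap.ker (Lfun f v), finrank_ker_of_ne_zero _ ?_,
      fun U hvU hU => le_ker_Lfun f v U hvU hU.2⟩
    intro h
    apply hi0
    rw [← Lfun_single, h, LinearMap.zero_apply]

end Groth.Agent.S10897
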