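import Groth.Statements.S10898


set_option autoImplicit false
universe u
open Polynomial
open WDiv

namespace Groth.Agent.S10898

open Polynomial in
lemma comap_C_map_C {A : Type*} [CommRing A] (I : Ideal A) :
    (I.map (C : A →+* A[X])).comap C = I := by
  ext a
  rw [Ideal.mem_comap, Ideal.mem_map_C_iff]
  constructor
  · intro h; simpa using h 0
  · intro h n
    rw [Polynomial.coeff_C]
    split_ifs
    exacts [h, I.zero_mem]

open Polynomial in
lemma lt_height_one {A : Type*} [CommRing A] [IsDomain A] {Q P : Ideal A} [Q.IsPrime] [P.IsPrime]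
    (hP : P.height = 1) (h : Q < P) : Q = ⊥ := by
  have hPfin : P.FiniteHeight := by simp [Ideal.finiteHeight_iff, hP]
  have := Ideal.height_strict_mono_of_isPrime_of_isPrime h
  rw [hP] at this
  exact Ideal.height_eq_zero_iff_eq_bot.mp (Order.lt_one_iff.mp this)

/-- Let A be a Noetherian integral domain and P a prime ideal of height 1 of the polynomial ring A[X].
Then either P meets A in 0 only, or its contraction p = P ∩ A is a prime of height 1 of A and P is
the extension p·A[X]. (The published lemma also assumes A regular in codimension 1; that hypothesis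
is not used for this assertion.) -/
theorem result (A : Type u) [CommRing A] [IsDomain A]
    [IsNoetherianRing A] (P : Ideal A[X]) [P.IsPrime] (hP : P.height = 1) :
    P.comap (C : A →+* A[X]) = ⊥ ∨
      ((P.comap (C : A →+* A[X])).height = 1 ∧ P = (P.comap (C : A →+* A[X])).map C) := by
  classical
  by_cases hp0 : P.comap (C : A →+* A[X]) = ⊥
  · exact Or.inl hp0
  right
  have hpprime : (P.comap (C : A →+* A[X])).IsPrime := Ideal.comap_isPrime _ _
  have hQprime : ((P.comap (C : A →+* A[X])).map (C : A →+* A[X])).IsPrime :=
    Ideal.isPrime_map_C_of_isPrime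
  have hQle : (P.comap (C : A →+* A[X])).map (C : A →+* A[X]) ≤ P := Ideal.map_comap_le
  have hQne : (P.comap (C : A →+* A[X])).map (C : A →+* A[X]) ≠ ⊥ := by
    intro h
    apply hp0
    rw [← comap_C_map_C (P.comap (C : A →+* A[X])), h]
    ext a
    simp
  have hQP : (P.comap (C : A →+* A[X])).map (C : A →+* A[X]) = P := by
    by_contra hne
    exact hQne (lt_height_one hP (lt_of_le_of_ne hQle hne))
  refine ⟨?_, hQP.symm⟩
  apply le_antisymm
  · have := (Ideal.height_le_iff (p := P.comap (C : A →+* A[X])) (n := 1)).mpr ?_
    · simpa using this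
    intro q hq hqp
    have := hq
    have hq' : (q.map (C : A →+* A[X])).IsPrime := Ideal.isPrime_map_C_of_isPrime
    have hlt : q.map (C : A →+* A[X]) < P := by
      rw [← hQP]
      refine lt_of_le_of_ne (Ideal.map_mono hqp.le) ?_
      intro h
      have h2 := congrArg (Ideal.comap (C : A →+* A[X])) h
      rw [comap_C_map_C, comap_C_map_C] at h2
      exact hqp.ne h2
    have h0 := lt_height_one hP hlt
    have hq0 : q = ⊥ := by
      rw [← comap_C_map_C q, h0]
      ext a
      simp
    rw [hq0, Ideal.height_bot]
    exact Nat.cast_pos.mpr one_pos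
  · rw [ENat.one_le_iff_ne_zero]
    intro h
    exact hp0 (Ideal.height_eq_zero_iff_eq_bot.mp h)

end Groth.Agent.S10898
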