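import Groth.Statements.S10899
import Mathlib
import Groth.Agent.S10898

set_option autoImplicit false
universe u
open Polynomial
open WDiv

namespace Groth.Agent.S10899


lemma dvr_of_gen {B : Type*} [CommRing B] [IsDomain B] [IsNoetherianRing B] (P : Ideal B) [P.IsPrime]
    (hP0 : P ≠ ⊥) (f : B) (hf : f ∈ P) (G : Set B) (hG : P = Ideal.span G)
    (h : ∀ q ∈ G, ∃ s ∉ P, ∃ c, s * q = f * c) :
    IsDiscreteValuationRing (Localization.AtPrime P) := by
  have hnf : ¬ IsField (Localization.AtPrime P) := IsLocalization.AtPrime.not_isField B hP0 _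
  refine ((IsDiscreteValuationRing.TFAE (Localization.AtPrime P) hnf).out 0 4).mpr ?_
  rw [← Localization.AtPrime.map_eq_maximalIdeal]
  refine ⟨⟨algebraMap B (Localization.AtPrime P) f, ?_⟩⟩
  apply le_antisymm
  · rw [Ideal.map_le_iff_le_comap]
    refine le_trans (le_of_eq hG) (Ideal.span_le.mpr ?_)
    intro q hq
    obtain ⟨s, hs, c, hc⟩ := h q hq
    rw [SetLike.mem_coe, Ideal.mem_comap, Ideal.submodule_span_eq, Ideal.mem_span_singleton']
    have hu : IsUnit (algebraMap B (Localization.AtPrime P) s) :=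
      IsLocalization.map_units (Localization.AtPrime P) (⟨s, hs⟩ : P.primeCompl)
    obtain ⟨u, hu⟩ := hu
    refine ⟨algebraMap B _ c * ↑u⁻¹, ?_⟩
    have := congrArg (algebraMap B (Localization.AtPrime P)) hc
    rw [map_mul, map_mul, ← hu] at this
    calc algebraMap B (Localization.AtPrime P) c * ↑u⁻¹ * algebraMap B (Localization.AtPrime P) f
        = ↑u⁻¹ * (algebraMap B (Localization.AtPrime P) f * algebraMap B (Localization.AtPrime P) c) := by
          ring
      _ = ↑u⁻¹ * (↑u * algebraMap B (Localization.AtPrime P) q) := by rw [this]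
      _ = algebraMap B (Localization.AtPrime P) q := by rw [← mul_assoc, Units.inv_mul, one_mul]
  · rw [Ideal.submodule_span_eq, Ideal.span_le, Set.singleton_subset_iff]
    exact Ideal.mem_map_of_mem _ hf

section
open Polynomial
attribute [local instance] Polynomial.algebra

lemma case1 {A : Type*} [CommRing A] [IsDomain A] (P : Ideal A[X]) [P.IsPrime]
    (h0 : P.comap (C : A →+* A[X]) = ⊥) :
    ∃ f ∈ P, ∀ q ∈ P, ∃ s ∉ P, ∃ c, s * q = f * c := by
  classical
  let K := FractionRing A
  haveI : IsLocalization ((nonZeroDivisors A).map (C : A →+* A[X])) K[X] :=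
    Polynomial.isLocalization (nonZeroDivisors A) K
  have hinj : Function.Injective (algebraMap A[X] K[X]) := by
    rw [Polynomial.algebraMap_def]
    exact Polynomial.map_injective _ (IsFractionRing.injective A K)
  have hM : ∀ m : (nonZeroDivisors A).map (C : A →+* A[X]), (m : A[X]) ∉ P := by
    rintro ⟨m, a, ha, rfl⟩ hmem
    have : a ∈ P.comap (C : A →+* A[X]) := hmem
    rw [h0, Ideal.mem_bot] at this
    exact nonZeroDivisors.ne_zero ha this
  obtain ⟨g, hg⟩ := (IsPrincipalIdealRing.principal (P.map (algebraMap A[X] K[X]))).principal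
  have hgmem : g ∈ P.map (algebraMap A[X] K[X]) := by
    rw [hg]; exact Submodule.mem_span_singleton_self g
  obtain ⟨⟨⟨f, hf⟩, m⟩, hfm⟩ :=
    (IsLocalization.mem_map_algebraMap_iff ((nonZeroDivisors A).map (C : A →+* A[X])) K[X]).mp hgmem
  dsimp only at hfm
  refine ⟨f, hf, fun q hq => ?_⟩
  have hq' : algebraMap A[X] K[X] q ∈ P.map (algebraMap A[X] K[X]) := Ideal.mem_map_of_mem _ hq
  rw [hg, Ideal.submodule_span_eq, Ideal.mem_span_singleton'] at hq'
  obtain ⟨c, hc⟩ := hq'
  obtain ⟨⟨c', m'⟩, hcm⟩ := IsLocalization.surj ((nonZeroDivisors A).map (C : A →+* A[X])) c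
  dsimp only at hcm
  refine ⟨(m : A[X]) * (m' : A[X]), ?_, c', ?_⟩
  · intro hmem
    rcases Ideal.IsPrime.mem_or_mem ‹_› hmem with h | h
    exacts [hM m h, hM m' h]
  · apply hinj
    simp only [map_mul]
    rw [← hfm, ← hcm, ← hc]
    ring

end

lemma case2 {A : Type*} [CommRing A] [IsDomain A] (p : Ideal A) [p.IsPrime]
    [IsDiscreteValuationRing (Localization.AtPrime p)] :
    ∃ t ∈ p, ∀ a ∈ p, ∃ s ∉ p, ∃ b, s * a = t * b := by
  obtain ⟨ϖ, hϖ⟩ := IsDiscreteValuationRing.exists_irreducible (Localization.AtPrime p)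
  have hmax := hϖ.maximalIdeal_eq
  obtain ⟨t, s, rfl⟩ := IsLocalization.exists_mk'_eq p.primeCompl ϖ
  have ht : t ∈ p := by
    have : IsLocalization.mk' (Localization.AtPrime p) t s ∈
        IsLocalRing.maximalIdeal (Localization.AtPrime p) := by
      rw [hmax]; exact Ideal.mem_span_singleton_self _
    exact (IsLocalization.AtPrime.mk'_mem_maximal_iff (Localization.AtPrime p) p t s).mp this
  refine ⟨t, ht, fun a ha => ?_⟩
  have : algebraMap A (Localization.AtPrime p) a ∈
      IsLocalRing.maximalIdeal (Localization.AtPrime p) :=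
    (IsLocalization.AtPrime.to_map_mem_maximal_iff (Localization.AtPrime p) p a).mpr ha
  rw [hmax, Ideal.mem_span_singleton'] at this
  obtain ⟨c, hc⟩ := this
  obtain ⟨b, s', rfl⟩ := IsLocalization.exists_mk'_eq p.primeCompl c
  refine ⟨(s' : A) * (s : A), (s' * s).2, b, ?_⟩
  apply IsLocalization.injective (Localization.AtPrime p) p.primeCompl_le_nonZeroDivisors
  rw [← IsLocalization.mk'_mul, eq_comm, IsLocalization.eq_mk'_iff_mul_eq] at hc
  simp only [map_mul, Submonoid.coe_mul] at hc ⊢
  linear_combination hc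

/-- Let A be a Noetherian integral domain which is regular in codimension 1, i.e. whose localization at
every prime ideal of height 1 is a discrete valuation ring. Then the polynomial ring A[X] is regular
in codimension 1 as well: its localization at every prime ideal of height 1 is a discrete valuation
ring. -/
theorem result (A : Type u) [CommRing A]
    [IsDomain A] [IsNoetherianRing A]
    (hR1 : ∀ (p : Ideal A) [p.IsPrime], p.height = 1 → IsDiscreteValuationRing (Localization.AtPrime p))
    (P : Ideal A[X]) [P.IsPrime] (hP : P.height = 1) :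
    IsDiscreteValuationRing (Localization.AtPrime P) := by
  classical
  have hP0 : P ≠ ⊥ := Ideal.ne_bot_of_height_eq_one hP
  rcases Groth.Agent.S10898.result A P hP with h0 | ⟨hht, hPeq⟩
  · obtain ⟨f, hf, h⟩ := case1 P h0
    exact dvr_of_gen P hP0 f hf (P : Set A[X]) (Ideal.span_eq P).symm h
  · haveI : (P.comap (C : A →+* A[X])).IsPrime := Ideal.comap_isPrime _ _
    haveI := hR1 (P.comap (C : A →+* A[X])) hht
    obtain ⟨t, ht, h⟩ := case2 (P.comap (C : A →+* A[X]))
    refine dvr_of_gen P hP0 (C t) ht ((C : A →+* A[X]) '' (P.comap (C : A →+* A[X]) : Set A)) hPeq ?_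
    rintro q ⟨a, ha, rfl⟩
    obtain ⟨s, hs, b, hb⟩ := h a ha
    refine ⟨C s, hs, C b, ?_⟩
    rw [← map_mul, ← map_mul, hb]

end Groth.Agent.S10899
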