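import Groth.Statements.S10904
-- import your own Groth.Agent.* helpers here
import Mathlib
import Groth.Agent.Lib.Helper22.HilbSection

set_option autoImplicit false
universe u
open Polynomial
open ProjDeg

namespace Groth.Agent.S10904

/-- Let k be a field, R = k[X_0, …, X_n] graded by degree, I a homogeneous prime ideal of R, f a
homogeneous element of degree d ≥ 1 not in I, and I' = I + (f). Let P be the Hilbert polynomial of
R/I and Q that of R/I': rational polynomials whose value at every large integer m is the k-dimension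
of the degree-m piece, i.e. dim R_m − dim (I ∩ R_m). Assume P has degree at least 1, i.e. the
projective variety V(I) ⊆ P^n_k has dimension ≥ 1. Then Q has degree deg P − 1, and the degrees of
the projective schemes, (degree of the Hilbert polynomial)! times its leading coefficient, satisfy
deg V(I') = d · deg V(I). (The published statement has no dimension hypothesis; for V(I) a single
point the left side is 0 and the right side is d · deg V(I) ≠ 0, and the printed proof uses dim
V(I') = dim V(I) − 1.) -/
theorem result (k : Type u) [Field k] (n : ℕ)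
    (I : Ideal (MvPolynomial (Fin (n + 1)) k)) (hIh : I.IsHomogeneous (CohB1.polyGrading n k)) [I.IsPrime]
    (f : MvPolynomial (Fin (n + 1)) k) (d : ℕ) (hd : 0 < d) (hf : f.IsHomogeneous d) (hfI : f ∉ I)
    (P Q : ℚ[X])
    (hP : ∃ m₀ : ℕ, ∀ m : ℕ, m₀ ≤ m → P.eval (m : ℚ) =
      (Module.finrank k ↥(CohB1.polyGrading n k m) : ℚ) -
        Module.finrank k ↥(Submodule.restrictScalars k I ⊓ CohB1.polyGrading n k m))
    (hQ : ∃ m₀ : ℕ, ∀ m : ℕ, m₀ ≤ m → Q.eval (m : ℚ) =
      (Module.finrank k ↥(CohB1.polyGrading n k m) : ℚ) -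
        Module.finrank k ↥(Submodule.restrictScalars k (I ⊔ Ideal.span {f}) ⊓ CohB1.polyGrading n k m))
    (hdim : 1 ≤ P.natDegree) :
    Q.natDegree + 1 = P.natDegree ∧
      (Q.natDegree.factorial : ℚ) * Q.leadingCoeff =
        d * ((P.natDegree.factorial : ℚ) * P.leadingCoeff) := by
  classical
  obtain ⟨mP, hP⟩ := hP
  obtain ⟨mQ, hQ⟩ := hQ
  have hQeq : Q = P - Polynomial.taylor (-(d : ℚ)) P := by
    apply Polynomial.eq_of_infinite_eval_eq
    apply Set.infinite_of_injective_forall_mem (f := fun j : ℕ => ((j + mP + mQ + d : ℕ) : ℚ))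
    · intro a b h
      simp only [Nat.cast_inj] at h
      omega
    · intro j
      simp only [Set.mem_setOf_eq]
      have hm : d ≤ j + mP + mQ + d := by omega
      have hcast : ((j + mP + mQ + d : ℕ) : ℚ) + -(d : ℚ) = ((j + mP + mQ + d - d : ℕ) : ℚ) := by
        rw [Nat.cast_sub hm]
        ring
      rw [hQ _ (by omega), Polynomial.eval_sub, Polynomial.taylor_apply, Polynomial.eval_comp,
        Polynomial.eval_add, Polynomial.eval_X, Polynomial.eval_C, hcast, hP _ (by omega),
        hP (j + mP + mQ + d - d) (by omega)]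
      have key := Groth.Agent.Lib.Helper22.HilbSection.finrank_piece_sup I hIh f d hf hfI
        (j + mP + mQ + d) hm
      have keyQ : ((Module.finrank k ↥(Submodule.restrictScalars k (I ⊔ Ideal.span {f}) ⊓
          CohB1.polyGrading n k (j + mP + mQ + d)) : ℕ) : ℚ) +
          (Module.finrank k ↥(Submodule.restrictScalars k I ⊓
            CohB1.polyGrading n k (j + mP + mQ + d - d)) : ℕ) =
          (Module.finrank k ↥(Submodule.restrictScalars k I ⊓
            CohB1.polyGrading n k (j + mP + mQ + d)) : ℕ) +
          (Module.finrank k ↥(CohB1.polyGrading n k (j + mP + mQ + d - d)) : ℕ) := by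
        exact_mod_cast key
      linarith
  have hd' : (d : ℚ) ≠ 0 := by exact_mod_cast hd.ne'
  obtain ⟨h1, h2⟩ := Groth.Agent.Lib.Helper22.HilbSection.natDegree_sub_taylor P hdim (d : ℚ) hd'
  subst hQeq
  refine ⟨h1, ?_⟩
  rw [h2, ← h1, Nat.factorial_succ]
  push_cast
  ring

end Groth.Agent.S10904
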