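import Groth.Statements.S10907
-- import your own Groth.Agent.* helpers here
import Mathlib
import Groth.Agent.Lib.Helper22.HilbDim1
import Groth.Agent.Lib.Helper22.HS7

set_option autoImplicit false
universe u
open Polynomial
open ProjDeg

namespace Groth.Agent.S10907

/-- Let k be a field, R = k[X_0, …, X_n] graded by degree, and I a homogeneous ideal whose Hilbert
polynomial P (a rational polynomial with P(m) = dim_k R_m − dim_k (I ∩ R_m) for all large m) is
nonzero, i.e. the projective scheme V_+(I) ⊆ P^n_k is nonempty. Then the Krull dimension of R/I (the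
affine cone) equals deg P + 1; the dimension of V_+(I) itself is deg P. -/
theorem result (k : Type u) [Field k]
    (n : ℕ) (I : Ideal (MvPolynomial (Fin (n + 1)) k)) (hIh : I.IsHomogeneous (CohB1.polyGrading n k))
    (P : ℚ[X]) (hP0 : P ≠ 0)
    (hP : ∃ m₀ : ℕ, ∀ m : ℕ, m₀ ≤ m → P.eval (m : ℚ) =
      (Module.finrank k ↥(CohB1.polyGrading n k m) : ℚ) -
        Module.finrank k ↥(Submodule.restrictScalars k I ⊓ CohB1.polyGrading n k m)) :
    ringKrullDim (MvPolynomial (Fin (n + 1)) k ⧸ I) = (P.natDegree : WithBot ℕ∞) + 1 := by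
  classical
  obtain ⟨m₀, hm₀⟩ := hP
  set 𝒜 := CohB1.polyGrading n k with h𝒜
  have hPI : Groth.Agent.Lib.Helper22.HS.IsHomog 𝒜 I := fun j a ha => hIh j ha
  letI dec : DirectSum.Decomposition (Groth.Agent.Lib.Helper22.HS.quotGr 𝒜 I) := Groth.Agent.Lib.Helper22.HS.quotGrDecomposition 𝒜 I hPI
  set 𝒬 : ℕ → Submodule k (MvPolynomial (Fin (n + 1)) k ⧸ I) := Groth.Agent.Lib.Helper22.HS.quotGr 𝒜 I with h𝒬
  letI gm : SetLike.GradedMonoid 𝒬 :=
    { one_mem := ⟨1, SetLike.GradedOne.one_mem, rfl⟩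
      mul_mem := by
        rintro i j _ _ ⟨a, ha, rfl⟩ ⟨b, hb, rfl⟩
        exact ⟨a * b, SetLike.mul_mem_graded ha hb, rfl⟩ }
  letI : GradedAlgebra 𝒬 := { gm, dec with }
  have h0 : ∀ a ∈ 𝒬 0, ∃ c : k, algebraMap k (MvPolynomial (Fin (n + 1)) k ⧸ I) c = a := by
    rintro _ ⟨a, ha, rfl⟩
    have ha' : a ∈ MvPolynomial.homogeneousSubmodule (Fin (n + 1)) k 0 := ha
    rw [MvPolynomial.homogeneousSubmodule_zero, Submodule.mem_one] at ha'
    obtain ⟨c, rfl⟩ := ha'
    exact ⟨c, rfl⟩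
  haveI : Algebra.FiniteType k (MvPolynomial (Fin (n + 1)) k ⧸ I) :=
    Algebra.FiniteType.of_surjective (Ideal.Quotient.mkₐ k _) Ideal.Quotient.mk_surjective
  haveI hfinQ : ∀ m, Module.Finite k ↥(𝒬 m) := fun m => by
    rw [h𝒬]
    unfold Groth.Agent.Lib.Helper22.HS.quotGr
    infer_instance
  -- the Hilbert function
  set f : ℕ → ℤ := fun m => (Module.finrank k ↥(𝒬 m) : ℤ) with hf
  have hfP : ∀ m, m₀ ≤ m → (f m : ℚ) = P.eval (m : ℚ) := by
    intro m hm
    rw [hm₀ m hm, hf]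
    simp only
    rw [h𝒬, Groth.Agent.Lib.Helper22.HS.finrank_quotGr (n + 1) I m]
    unfold Groth.Agent.Lib.Helper22.HS.hf
    push_cast
    rfl
  have hf0 : ∀ m, 0 ≤ f m := fun m => Int.natCast_nonneg _
  -- the dimension
  have hdimle : ringKrullDim (MvPolynomial (Fin (n + 1)) k ⧸ I) ≤ ((n + 1 : ℕ) : WithBot ℕ∞) := by
    refine (ringKrullDim_quotient_le I).trans ?_
    rw [MvPolynomial.ringKrullDim_of_isNoetherianRing, ringKrullDim_eq_zero_of_field]
    simp
  by_cases hd0 : ringKrullDim (MvPolynomial (Fin (n + 1)) k ⧸ I) ≤ 0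
  · exfalso
    haveI : Ring.KrullDimLE 0 (MvPolynomial (Fin (n + 1)) k ⧸ I) := Ring.krullDimLE_iff.2 hd0
    haveI : Module.Finite k (MvPolynomial (Fin (n + 1)) k ⧸ I) :=
      (Module.finite_iff_krullDimLE_zero k _).2 inferInstance
    obtain ⟨N, hN⟩ := Groth.Agent.Lib.Helper22.HilbDim.eq_bot_of_finite 𝒬
    have hg : Groth.Agent.Lib.Helper22.HS.EvPoly 0 (fun _ : ℕ => (0 : ℤ)) := ⟨0, fun _ _ => rfl⟩
    have := Groth.Agent.Lib.Helper22.HS.natDegree_lt_of_bounds (N := max m₀ N) hP0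
      (fun m hm => hfP m (le_trans (le_max_left _ _) hm)) hg (fun m hm => ⟨hf0 m, by
        rw [hf]
        simp only
        rw [hN m (le_trans (le_max_right _ _) hm), finrank_bot]
        simp⟩)
    omega
  · obtain ⟨r', hr'⟩ : ∃ r' : ℕ, ringKrullDim (MvPolynomial (Fin (n + 1)) k ⧸ I) =
        ((r' + 1 : ℕ) : WithBot ℕ∞) := by
      generalize ringKrullDim (MvPolynomial (Fin (n + 1)) k ⧸ I) = v at hd0 hdimle
      have hb : v ≠ ⊥ := by
        rintro rfl
        exact hd0 bot_le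
      obtain ⟨e, rfl⟩ := WithBot.ne_bot_iff_exists.1 hb
      have he : e ≠ ⊤ := by
        rintro rfl
        have : (⊤ : ℕ∞) ≤ ((n + 1 : ℕ) : ℕ∞) := by exact_mod_cast hdimle
        simp at this
      obtain ⟨r, rfl⟩ := ENat.ne_top_iff_exists.1 he
      cases r with
      | zero => exact absurd (by simp) hd0
      | succ r' => exact ⟨r', by norm_cast⟩
    obtain ⟨D, hD, hpar⟩ := Groth.Agent.Lib.Helper22.GrNN.exists_parameters 𝒬 h0 (r' + 1) hr'
    obtain ⟨x, hx, hxa, hxi⟩ := hpar 1 one_pos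
    simp only [one_mul] at hx
    haveI : Algebra.FiniteType (Algebra.adjoin k (Set.range x)) (MvPolynomial (Fin (n + 1)) k ⧸ I) :=
      Algebra.FiniteType.of_restrictScalars_finiteType k _ _
    haveI : Module.Finite (Algebra.adjoin k (Set.range x)) (MvPolynomial (Fin (n + 1)) k ⧸ I) :=
      Algebra.IsIntegral.finite (R := ↥(Algebra.adjoin k (Set.range x)))
        (A := MvPolynomial (Fin (n + 1)) k ⧸ I)
    obtain ⟨t, ht⟩ := Groth.Agent.Lib.Helper22.HilbDim.finrank_le 𝒬 hD x hx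
    -- upper bound
    have hg : Groth.Agent.Lib.Helper22.HS.EvPoly (r' + 1) (fun m : ℕ => (t : ℤ) * (((m + r').choose r' : ℕ) : ℤ)) := by
      refine Groth.Agent.Lib.Helper22.HS.EvPoly.nsmul ?_ t
      refine ⟨0, fun m _ => ?_⟩
      rw [Function.iterate_succ_apply']
      have h3 := fwdDiff_iter_choose 0 r'
      have h4 : (fwdDiff 1)^[r'] (fun m : ℕ => (((m + r').choose r' : ℕ) : ℤ)) = fun _ => 1 := by
        funext j
        have h5 := fwdDiff_iter_comp_add (1 : ℕ) (fun x : ℕ => ((x.choose (r' + 0) : ℕ) : ℤ)) r' r' j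
        rw [h3] at h5
        simpa using h5
      rw [h4]
      simp [fwdDiff]
    have hub := Groth.Agent.Lib.Helper22.HS.natDegree_lt_of_bounds (N := m₀) hP0 hfP hg (fun m _ => ⟨hf0 m, by
      rw [hf]
      simp only
      exact_mod_cast ht m⟩)
    -- lower bound
    have hlb := Groth.Agent.Lib.Helper22.HS.le_natDegree_of_lower (N := m₀) hfP hD 0 (r' := r') (fun j _ => by
      rw [hf]
      simp only
      exact_mod_cast Groth.Agent.Lib.Helper22.HilbDim.choose_le_finrank 𝒬 x hx hxa j)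
    rw [hr']
    have : P.natDegree = r' := by omega
    rw [this]
    norm_cast

end Groth.Agent.S10907
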