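import Groth.Statements.S10906
-- import your own Groth.Agent.* helpers here
import Mathlib
import Groth.Agent.S10907
import Groth.Agent.Lib.Helper22.Samuel18

set_option autoImplicit false
universe u
open Polynomial
open ProjDeg

namespace Groth.Agent.S10906

/-- Let k be a field, R = k[X_0, …, X_n] graded by degree, I a homogeneous ideal with Hilbert polynomial
P (a rational polynomial with P(m) = dim_k R_m − dim_k (I ∩ R_m) for all large m), and p_1, …, p_r
the minimal prime ideals over I, listed without repetition, with Hilbert polynomials Q_i; put t =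
deg P. Defining the degree of V(J) as (degree of its Hilbert polynomial)! times the leading
coefficient and the multiplicity of the component V(p_i) in Y = V(I) as the length of (R/I)_{p_i}
over R_{p_i}, the degree of Y is the sum, over the components of top dimension (those i with deg Q_i
= t), of multiplicity times degree: deg Y = Σ_{deg Q_i = t} i(Y_i; Y) · deg V(p_i). -/
theorem result (k : Type u) [Field k] (n : ℕ)
    (I : Ideal (MvPolynomial (Fin (n + 1)) k)) (hIh : I.IsHomogeneous (CohB1.polyGrading n k))
    (P : ℚ[X])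
    (hP : ∃ m₀ : ℕ, ∀ m : ℕ, m₀ ≤ m → P.eval (m : ℚ) =
      (Module.finrank k ↥(CohB1.polyGrading n k m) : ℚ) -
        Module.finrank k ↥(Submodule.restrictScalars k I ⊓ CohB1.polyGrading n k m))
    (r : ℕ) (p : Fin r → Ideal (MvPolynomial (Fin (n + 1)) k)) [hp : ∀ i, (p i).IsPrime] (hpinj : Function.Injective p)
    (hpmin : ∀ q : Ideal (MvPolynomial (Fin (n + 1)) k), q ∈ I.minimalPrimes ↔ ∃ i, q = p i)
    (Qp : Fin r → ℚ[X])
    (hQp : ∀ i, ∃ m₀ : ℕ, ∀ m : ℕ, m₀ ≤ m → (Qp i).eval (m : ℚ) =
      (Module.finrank k ↥(CohB1.polyGrading n k m) : ℚ) -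
        Module.finrank k ↥(Submodule.restrictScalars k (p i) ⊓ CohB1.polyGrading n k m)) :
    (P.natDegree.factorial : ℚ) * P.leadingCoeff =
      ∑ i : Fin r, if (Qp i).natDegree = P.natDegree then
        ((Qp i).natDegree.factorial : ℚ) * (Qp i).leadingCoeff *
          (Module.length (Localization.AtPrime (p i))
            (LocalizedModule (p i).primeCompl (MvPolynomial (Fin (n + 1)) k ⧸ I))).toNat
      else 0 := by
  classical
  have hHF : ∀ (J : Ideal (MvPolynomial (Fin (n + 1)) k)) (m : ℕ),
      (Groth.Agent.Lib.Helper22.GrSamuel.HF J m : ℚ) =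
      (Module.finrank k ↥(CohB1.polyGrading n k m) : ℚ) -
        Module.finrank k ↥(Submodule.restrictScalars k J ⊓ CohB1.polyGrading n k m) := by
    intro J m
    simp only [Groth.Agent.Lib.Helper22.GrSamuel.HF]
    push_cast
    rfl
  have hmin : ∀ i, p i ∈ I.minimalPrimes := fun i => (hpmin (p i)).2 ⟨i, rfl⟩
  by_cases hP0 : P = 0
  · subst hP0
    obtain ⟨m₀, hm₀⟩ := hP
    have hQ0 : ∀ i, Qp i = 0 := by
      intro i
      obtain ⟨mi, hmi⟩ := hQp i
      apply Polynomial.eq_zero_of_infinite_isRoot
      refine Set.infinite_of_injective_forall_mem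
        (f := fun j : ℕ => ((j + max m₀ mi : ℕ) : ℚ)) ?_ ?_
      · intro a b hab
        have hab' : ((a + max m₀ mi : ℕ) : ℚ) = ((b + max m₀ mi : ℕ) : ℚ) := hab
        have : a + max m₀ mi = b + max m₀ mi := by exact_mod_cast hab'
        omega
      · intro j
        show (Qp i).IsRoot _
        rw [Polynomial.IsRoot.def, hmi _ (le_trans (le_max_right _ _) (Nat.le_add_left _ _))]
        have h1 := hm₀ (j + max m₀ mi) (le_trans (le_max_left _ _) (Nat.le_add_left _ _))
        rw [Polynomial.eval_zero] at h1
        have hle1 : Module.finrank k ↥(Submodule.restrictScalars k I ⊓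
            CohB1.polyGrading n k (j + max m₀ mi)) ≤
            Module.finrank k ↥(Submodule.restrictScalars k (p i) ⊓
              CohB1.polyGrading n k (j + max m₀ mi)) := by
          haveI : Module.Finite k ↥(CohB1.polyGrading n k (j + max m₀ mi)) :=
            Groth.Agent.Lib.Helper22.GrSamuel.finite_homogeneousSubmodule _
          refine Submodule.finrank_mono (inf_le_inf_right _ ?_)
          intro x hx
          exact (hmin i).1.2 hx
        have hle2 : Module.finrank k ↥(Submodule.restrictScalars k (p i) ⊓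
            CohB1.polyGrading n k (j + max m₀ mi)) ≤
            Module.finrank k ↥(CohB1.polyGrading n k (j + max m₀ mi)) := by
          haveI : Module.Finite k ↥(CohB1.polyGrading n k (j + max m₀ mi)) :=
            Groth.Agent.Lib.Helper22.GrSamuel.finite_homogeneousSubmodule _
          exact Submodule.finrank_mono inf_le_right
        have hle1' : (Module.finrank k ↥(Submodule.restrictScalars k I ⊓
            CohB1.polyGrading n k (j + max m₀ mi)) : ℚ) ≤
            Module.finrank k ↥(Submodule.restrictScalars k (p i) ⊓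
              CohB1.polyGrading n k (j + max m₀ mi)) := by exact_mod_cast hle1
        have hle2' : (Module.finrank k ↥(Submodule.restrictScalars k (p i) ⊓
            CohB1.polyGrading n k (j + max m₀ mi)) : ℚ) ≤
            Module.finrank k ↥(CohB1.polyGrading n k (j + max m₀ mi)) := by exact_mod_cast hle2
        linarith
    simp [hQ0]
  · have hdimR := Groth.Agent.S10907.result k n I hIh P hP0 hP
    have hdim : Module.supportDim (MvPolynomial (Fin (n + 1)) k)
        (MvPolynomial (Fin (n + 1)) k ⧸ I) ≤ ((P.natDegree + 1 : ℕ) : WithBot ℕ∞) := by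
      rw [Module.supportDim_quotient_eq_ringKrullDim, hdimR]
      push_cast
      exact le_rfl
    have hP' : ∃ m₀ : ℕ, ∀ m : ℕ, m₀ ≤ m → P.eval (m : ℚ) =
        (Groth.Agent.Lib.Helper22.GrSamuel.HF I m : ℚ) := by
      obtain ⟨m₀, hm₀⟩ := hP
      exact ⟨m₀, fun m hm => by rw [hm₀ m hm, hHF]⟩
    have hQp' : ∀ i, ∃ m₀ : ℕ, ∀ m : ℕ, m₀ ≤ m → (Qp i).eval (m : ℚ) =
        (Groth.Agent.Lib.Helper22.GrSamuel.HF (p i) m : ℚ) := by
      intro i
      obtain ⟨m₀, hm₀⟩ := hQp i
      exact ⟨m₀, fun m hm => by rw [hm₀ m hm, hHF]⟩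
    obtain ⟨cI, c, hcI, hc, hsum⟩ := Groth.Agent.Lib.Helper22.GrSamuel.degree_formula_int
      (N := n + 1) I hIh P hP' hdim r p hpinj hpmin Qp hQp'
    rw [← hcI, hsum]
    push_cast
    refine Finset.sum_congr rfl (fun i _ => ?_)
    split_ifs with h
    · rw [hc i]
    · rfl

end Groth.Agent.S10906
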