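import Groth.Statements.S10905
-- import your own Groth.Agent.* helpers here
import Mathlib
import Groth.Agent.S10904
import Groth.Agent.S10906
import Groth.Agent.S10907
import Groth.Agent.Lib.Helper22.Samuel19

set_option autoImplicit false
universe u
open Polynomial
open ProjDeg

namespace Groth.Agent.S10905

/-- Let k be a field, R = k[X_0, …, X_n] graded by degree, I a homogeneous prime ideal whose Hilbert
polynomial P (a rational polynomial with P(m) = dim_k R_m − dim_k (I ∩ R_m) for all large m) has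
degree ≥ 1, so that Y = V(I) is a projective variety of dimension ≥ 1; let f ∉ I be homogeneous of
degree d ≥ 1, I' = I + (f), and p_1, …, p_r the minimal prime ideals over I' (listed without
repetition), with Hilbert polynomials Q_i. Define the degree of V(J) as (degree of its Hilbert
polynomial)! times the leading coefficient, and the intersection multiplicity of I and (f) at p_i as
the length of (R/I')_{p_i} over R_{p_i}. Then d · deg Y = Σ_i deg V(p_i) · i(I, (f); p_i). (The
published statement has no dimension hypothesis; for Y a single point the only minimal prime over I'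
is the irrelevant ideal, whose Hilbert polynomial is 0, so the right side vanishes while the left
side does not.) -/
theorem result (k : Type u) [Field k] (n : ℕ)
    (I : Ideal (MvPolynomial (Fin (n + 1)) k)) (hIh : I.IsHomogeneous (CohB1.polyGrading n k)) [I.IsPrime]
    (f : MvPolynomial (Fin (n + 1)) k) (d : ℕ) (hd : 0 < d) (hf : f.IsHomogeneous d) (hfI : f ∉ I)
    (P : ℚ[X])
    (hP : ∃ m₀ : ℕ, ∀ m : ℕ, m₀ ≤ m → P.eval (m : ℚ) =
      (Module.finrank k ↥(CohB1.polyGrading n k m) : ℚ) -
        Module.finrank k ↥(Submodule.restrictScalars k I ⊓ CohB1.polyGrading n k m))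
    (hdim : 1 ≤ P.natDegree)
    (r : ℕ) (p : Fin r → Ideal (MvPolynomial (Fin (n + 1)) k)) [hp : ∀ i, (p i).IsPrime] (hpinj : Function.Injective p)
    (hpmin : ∀ q : Ideal (MvPolynomial (Fin (n + 1)) k), q ∈ (I ⊔ Ideal.span {f}).minimalPrimes ↔ ∃ i, q = p i)
    (Qp : Fin r → ℚ[X])
    (hQp : ∀ i, ∃ m₀ : ℕ, ∀ m : ℕ, m₀ ≤ m → (Qp i).eval (m : ℚ) =
      (Module.finrank k ↥(CohB1.polyGrading n k m) : ℚ) -
        Module.finrank k ↥(Submodule.restrictScalars k (p i) ⊓ CohB1.polyGrading n k m)) :
    (d : ℚ) * ((P.natDegree.factorial : ℚ) * P.leadingCoeff) =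
      ∑ i : Fin r, ((Qp i).natDegree.factorial : ℚ) * (Qp i).leadingCoeff *
        (Module.length (Localization.AtPrime (p i))
          (LocalizedModule (p i).primeCompl (MvPolynomial (Fin (n + 1)) k ⧸ (I ⊔ Ideal.span {f})))).toNat := by
  classical
  have hHF : ∀ (J : Ideal (MvPolynomial (Fin (n + 1)) k)) (m : ℕ),
      (Groth.Agent.Lib.Helper22.GrSamuel.HF J m : ℚ) =
      (Module.finrank k ↥(CohB1.polyGrading n k m) : ℚ) -
        Module.finrank k ↥(Submodule.restrictScalars k J ⊓ CohB1.polyGrading n k m) := by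
    intro J m
    simp only [Groth.Agent.Lib.Helper22.GrSamuel.HF]
    push_cast
    rfl
  have hP0 : P ≠ 0 := by
    rintro rfl
    simp at hdim
  have hdimI := Groth.Agent.S10907.result k n I hIh P hP0 hP
  -- the ideal I' is homogeneous
  have hI'h : (I ⊔ Ideal.span {f}).IsHomogeneous (CohB1.polyGrading n k) := by
    refine hIh.sup (Ideal.homogeneous_span _ _ ?_)
    intro x hx
    rw [Set.mem_singleton_iff] at hx
    rw [hx]
    exact ⟨d, hf⟩
  -- its Hilbert polynomial
  obtain ⟨Q, m₀, hQ0⟩ := Groth.Agent.Lib.Helper22.GrSamuel.exists_hilbPoly (N := n + 1) hI'h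
  have hQ : ∃ m₀ : ℕ, ∀ m : ℕ, m₀ ≤ m → Q.eval (m : ℚ) =
      (Module.finrank k ↥(CohB1.polyGrading n k m) : ℚ) -
        Module.finrank k ↥(Submodule.restrictScalars k (I ⊔ Ideal.span {f}) ⊓
          CohB1.polyGrading n k m) :=
    ⟨m₀, fun m hm => by rw [hQ0 m hm, hHF]⟩
  obtain ⟨hdeg, hmul⟩ := Groth.Agent.S10904.result k n I hIh f d hd hf hfI P Q hP hQ hdim
  have hsum := Groth.Agent.S10906.result k n (I ⊔ Ideal.span {f}) hI'h Q hQ r p hpinj hpmin Qp hQp
  rw [← hmul, hsum]
  refine Finset.sum_congr rfl (fun i _ => ?_)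
  by_cases hQi : Qp i = 0
  · rw [hQi]
    simp
  · have hpi : p i ∈ (I ⊔ Ideal.span {f}).minimalPrimes := (hpmin (p i)).2 ⟨i, rfl⟩
    have hpih : (p i).IsHomogeneous (CohB1.polyGrading n k) :=
      Groth.Agent.Lib.Helper22.GrSamuel.isHomogeneous_of_mem_minimalPrimes (N := n + 1) hI'h hpi
    have h1 := Groth.Agent.S10907.result k n (p i) hpih (Qp i) hQi (hQp i)
    have hD : ringKrullDim (MvPolynomial (Fin (n + 1)) k ⧸ I) = ((P.natDegree + 1 : ℕ) : WithBot ℕ∞) := by
      rw [hdimI]
      push_cast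
      rfl
    have h2 := Groth.Agent.Lib.Helper22.GrSamuel.ringKrullDim_quotient_add_one k
      (MvPolynomial (Fin (n + 1)) k) I f hfI (p i) hpi (P.natDegree + 1) hD
    rw [h1] at h2
    have h3 : (Qp i).natDegree + 1 + 1 = P.natDegree + 1 := by
      have : (((Qp i).natDegree + 1 + 1 : ℕ) : WithBot ℕ∞) = ((P.natDegree + 1 : ℕ) : WithBot ℕ∞) := by
        rw [← h2]
        push_cast
        rfl
      exact_mod_cast this
    have h4 : (Qp i).natDegree = Q.natDegree := by omega
    rw [if_pos h4]

end Groth.Agent.S10905
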