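import Groth.Statements.S10908
import Mathlib

set_option autoImplicit false
universe u
open ProjDeg

namespace Groth.Agent.S10908


namespace H10908

open TopologicalSpace Opposite

variable {R A : Type u} [CommRing R] [CommRing A] [IsDomain A] [Algebra R A]
  (𝒜 : ℕ → Submodule R A) [GradedAlgebra 𝒜]

lemma mk_eq_mk_dom (S : Submonoid A) (hS : (0 : A) ∉ S) (a c : A) (b d : S) :
    Localization.mk a b = Localization.mk c d ↔ (d : A) * a = b * c := by
  rw [Localization.mk_eq_mk_iff, Localization.r_iff_exists]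
  constructor
  · rintro ⟨t, ht⟩
    have ht0 : (t : A) ≠ 0 := fun h => hS (h ▸ t.2)
    exact mul_left_cancel₀ ht0 ht
  · intro h
    exact ⟨1, congrArg (fun z => ((1 : S) : A) * z) h⟩

lemma zero_notMem (x : ProjectiveSpectrum 𝒜) :
    (0 : A) ∉ x.asHomogeneousIdeal.toIdeal.primeCompl :=
  fun h => h (Ideal.zero_mem _)

/-- the generic point -/
def eta (h1 : 𝒜 1 ≠ ⊥) : ProjectiveSpectrum 𝒜 where
  asHomogeneousIdeal := ⊥
  isPrime := by
    show (⊥ : Ideal A).IsPrime
    exact Ideal.bot_prime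
  not_irrelevant_le := by
    intro hle
    obtain ⟨f, hf, hf0⟩ := (Submodule.ne_bot_iff _).1 h1
    have h2 : f ∈ (⊥ : HomogeneousIdeal 𝒜) :=
      hle (HomogeneousIdeal.mem_irrelevant_of_mem 𝒜 one_pos hf)
    have h3 : f ∈ (⊥ : Ideal A) := h2
    exact hf0 (Ideal.mem_bot.1 h3)

lemma mem_eta (h1 : 𝒜 1 ≠ ⊥) (g : A) (hg : g ∈ (eta 𝒜 h1).asHomogeneousIdeal) : g = 0 := by
  have h3 : g ∈ (⊥ : Ideal A) := hg
  exact Ideal.mem_bot.1 h3

lemma eta_mem (h1 : 𝒜 1 ≠ ⊥) (V : Opens (ProjectiveSpectrum.top 𝒜)) (x : ProjectiveSpectrum 𝒜)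
    (hx : x ∈ V) : eta 𝒜 h1 ∈ V := by
  obtain ⟨_, ⟨g, rfl⟩, hxg, hgV⟩ :=
    (ProjectiveSpectrum.isTopologicalBasis_basic_opens 𝒜).exists_subset_of_mem_open
      (SetLike.mem_coe.2 hx) V.2
  apply hgV
  show eta 𝒜 h1 ∈ ProjectiveSpectrum.basicOpen 𝒜 g
  rw [ProjectiveSpectrum.mem_basicOpen]
  intro hg
  have hg0 := mem_eta 𝒜 h1 g hg
  have hxg' : x ∈ ProjectiveSpectrum.basicOpen 𝒜 g := hxg
  rw [ProjectiveSpectrum.mem_basicOpen] at hxg'
  apply hxg'
  rw [hg0]
  exact Ideal.zero_mem _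

lemma globalOf_val {i : ℕ} (a : 𝒜 i) (x : ProjectiveSpectrum 𝒜) :
    (((Twist.globalOf 𝒜 a).1 ⟨x, trivial⟩ : Twist.twistAt 𝒜 (i : ℤ) x) : Twist.Loc 𝒜 x) =
      Localization.mk a.1 1 := rfl

lemma local_form (n : ℤ) (t : Twist.sectN (𝒜 := 𝒜) n (op ⊤)) (x : ProjectiveSpectrum 𝒜) :
    ∃ (V : Opens (ProjectiveSpectrum.top 𝒜)) (_ : x ∈ V) (i j : ℕ) (a : 𝒜 i) (s : 𝒜 j)
      (s_nin : ∀ y : ProjectiveSpectrum 𝒜, y ∈ V → s.1 ∉ y.asHomogeneousIdeal),
      ((i : ℤ) = j + n ∨ a.1 = 0) ∧ ∀ (y : ProjectiveSpectrum 𝒜) (hy : y ∈ V),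
        ((t.1 ⟨y, trivial⟩ : Twist.twistAt 𝒜 n y) : Twist.Loc 𝒜 y) =
          Localization.mk a.1 ⟨s.1, s_nin y hy⟩ := by
  have h : (Twist.isLocFracN 𝒜 n).pred t.1 := t.2
  obtain ⟨V, hxV, iV, i, j, a, s, s_nin, hdeg, hval⟩ := h ⟨x, trivial⟩
  exact ⟨V, hxV, i, j, a, s, fun y hy => s_nin ⟨y, hy⟩, hdeg, fun y hy => hval ⟨y, hy⟩⟩

def Dideal (a s : A) : Ideal A where
  carrier := {b | ∃ c, b * a = c * s}
  zero_mem' := ⟨0, by simp⟩
  add_mem' := by
    rintro b b' ⟨c, hc⟩ ⟨c', hc'⟩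
    exact ⟨c + c', by rw [add_mul, add_mul, hc, hc']⟩
  smul_mem' := by
    rintro r b ⟨c, hc⟩
    exact ⟨r * c, by rw [smul_eq_mul, mul_assoc, hc, mul_assoc]⟩

lemma mem_Dideal {a s b : A} : b ∈ Dideal a s ↔ ∃ c, b * a = c * s := Iff.rfl

def Wideal (a s : A) : Ideal A where
  carrier := {w | ∀ k : ℕ, ∃ c, w * a ^ k = c * s ^ k}
  zero_mem' := fun k => ⟨0, by simp⟩
  add_mem' := by
    intro w w' hw hw' k
    obtain ⟨c, hc⟩ := hw k
    obtain ⟨c', hc'⟩ := hw' k
    exact ⟨c + c', by rw [add_mul, add_mul, hc, hc']⟩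
  smul_mem' := by
    intro r w hw k
    obtain ⟨c, hc⟩ := hw k
    exact ⟨r * c, by rw [smul_eq_mul, mul_assoc, hc, mul_assoc]⟩

lemma mem_Wideal {a s w : A} : w ∈ Wideal a s ↔ ∀ k : ℕ, ∃ c, w * a ^ k = c * s ^ k := Iff.rfl

theorem main [IsNoetherianRing A] (hgen : ∀ i : ℕ, 𝒜 1 * 𝒜 i = 𝒜 (i + 1)) (h1 : 𝒜 1 ≠ ⊥)
    (hint : IsIntegrallyClosed A) (d : ℕ) :
    Function.Bijective (fun a : ↥(𝒜 d) => Twist.globalOf 𝒜 a) := by
  constructor
  · intro a b hab
    have h := congrArg (fun t : Twist.sectN (𝒜 := 𝒜) (d : ℤ) (op ⊤) =>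
      ((t.1 ⟨eta 𝒜 h1, trivial⟩ : Twist.twistAt 𝒜 (d : ℤ) (eta 𝒜 h1)) : Twist.Loc 𝒜 (eta 𝒜 h1))) hab
    have h' : Localization.mk a.1 (1 : (eta 𝒜 h1).asHomogeneousIdeal.toIdeal.primeCompl) =
        Localization.mk b.1 1 := h
    rw [mk_eq_mk_dom _ (zero_notMem 𝒜 _)] at h'
    apply Subtype.ext
    simpa using h'
  · intro t
    obtain ⟨V₀, hηV₀, i₀, j₀, a₀, s₀, s₀_nin, hdeg₀, hval₀⟩ := local_form 𝒜 (d : ℤ) t (eta 𝒜 h1)
    have hs₀ : (s₀ : A) ≠ 0 := by
      intro h
      apply s₀_nin (eta 𝒜 h1) hηV₀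
      rw [h]
      exact Ideal.zero_mem _
    have hcmp : ∀ x : ProjectiveSpectrum 𝒜, ∃ (i j : ℕ) (a : 𝒜 i) (s : 𝒜 j)
        (hs : s.1 ∉ x.asHomogeneousIdeal), (a : A) * s₀ = a₀ * s ∧
        ((t.1 ⟨x, trivial⟩ : Twist.twistAt 𝒜 (d : ℤ) x) : Twist.Loc 𝒜 x) =
          Localization.mk a.1 ⟨s.1, hs⟩ := by
      intro x
      obtain ⟨V, hxV, i, j, a, s, s_nin, hdeg, hval⟩ := local_form 𝒜 (d : ℤ) t x
      have hηV := eta_mem 𝒜 h1 V x hxV
      have e1 := hval (eta 𝒜 h1) hηV
      have e2 := hval₀ (eta 𝒜 h1) hηV₀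
      have e3 := e1.symm.trans e2
      rw [mk_eq_mk_dom _ (zero_notMem 𝒜 _)] at e3
      refine ⟨i, j, a, s, s_nin x hxV, ?_, hval x hxV⟩
      have e4 : (s₀ : A) * a = s * a₀ := e3
      rw [mul_comm, e4, mul_comm]
    obtain ⟨e, he⟩ : ∃ e : 𝒜 d, (e : A) * s₀ = a₀ := by
      rcases hdeg₀ with hdeg | ha0
      · have hij : i₀ = j₀ + d := by exact_mod_cast hdeg
        have hD : ∀ x : ProjectiveSpectrum 𝒜, ∃ (j : ℕ) (s : A), s ∈ 𝒜 j ∧
            s ∈ Dideal (a₀ : A) (s₀ : A) ∧ s ∉ x.asHomogeneousIdeal := by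
          intro x
          obtain ⟨i, j, a, s, hs, hrel, -⟩ := hcmp x
          refine ⟨j, s.1, s.2, ⟨a.1, ?_⟩, hs⟩
          rw [hrel]
          exact mul_comm _ _
        have hrad : Ideal.span (𝒜 1 : Set A) ≤ (Dideal (a₀ : A) (s₀ : A)).radical := by
          rw [Ideal.span_le]
          intro g hg
          by_contra hgr
          rw [Ideal.radical_eq_sInf] at hgr
          have hgr' : ¬ ∀ ⦃I : Ideal A⦄, I ∈ {J : Ideal A | Dideal (a₀ : A) (s₀ : A) ≤ J ∧ J.IsPrime} →
              g ∈ I := fun hh => hgr (Ideal.mem_sInf.2 hh)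
          push Not at hgr'
          obtain ⟨P, ⟨hDP, hP⟩, hgP⟩ := hgr'
          have hcore_prime := Ideal.IsPrime.homogeneousCore (𝒜 := 𝒜) hP
          have hg_core : g ∉ (P.homogeneousCore 𝒜).toIdeal :=
            fun h => hgP (Ideal.toIdeal_homogeneousCore_le 𝒜 P h)
          let x : ProjectiveSpectrum 𝒜 := ⟨P.homogeneousCore 𝒜, hcore_prime,
            fun hle => hg_core (hle (HomogeneousIdeal.mem_irrelevant_of_mem 𝒜 one_pos hg))⟩
          obtain ⟨j, s, hsj, hsD, hsx⟩ := hD x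
          exact hsx (Ideal.mem_homogeneousCore_of_homogeneous_of_mem ⟨j, hsj⟩ (hDP hsD))
        obtain ⟨N, hN⟩ := Ideal.exists_pow_le_of_le_radical_of_fg hrad (IsNoetherian.noetherian _)
        have hpow : ∀ n : ℕ, ∀ w ∈ 𝒜 n, w ∈ (Ideal.span (𝒜 1 : Set A)) ^ n := by
          intro n
          induction n with
          | zero => intro w _; simp
          | succ n ih =>
            intro w hw
            rw [← hgen n] at hw
            rw [pow_succ']
            refine Submodule.mul_induction_on hw ?_ ?_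
            · intro g hg v hv
              exact Ideal.mul_mem_mul (Ideal.subset_span hg) (ih v hv)
            · intro y z hy hz
              exact add_mem hy hz
        have hDn : ∀ n : ℕ, N ≤ n → ∀ w ∈ 𝒜 n, w ∈ Dideal (a₀ : A) (s₀ : A) :=
          fun n hn w hw => hN (Ideal.pow_le_pow_right hn (hpow n w hw))
        have hk : ∀ k : ℕ, ∀ n : ℕ, N ≤ n → ∀ w ∈ 𝒜 n, ∃ c ∈ 𝒜 (n + k * d),
            w * (a₀ : A) ^ k = c * (s₀ : A) ^ k := by
          intro k
          induction k with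
          | zero =>
            intro n hn w hw
            exact ⟨w, by simpa using hw, by simp⟩
          | succ k ih =>
            intro n hn w hw
            obtain ⟨c, hc, hwc⟩ := ih n hn w hw
            obtain ⟨c', hc'⟩ := hDn (n + k * d) (by omega) c hc
            refine ⟨(DirectSum.decompose 𝒜 c' (n + (k + 1) * d) : A), SetLike.coe_mem _, ?_⟩
            have hmem : c * (a₀ : A) ∈ 𝒜 (n + (k + 1) * d + j₀) := by
              have h5 := SetLike.mul_mem_graded hc a₀.2
              have e : n + k * d + i₀ = n + (k + 1) * d + j₀ := by rw [hij]; ring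
              rw [e] at h5
              exact h5
            have h2 : ((DirectSum.decompose 𝒜 (c' * (s₀ : A)) (n + (k + 1) * d + j₀) : A)) =
                (DirectSum.decompose 𝒜 c' (n + (k + 1) * d) : A) * s₀ := by
              rw [DirectSum.coe_decompose_mul_of_right_mem_of_le 𝒜 s₀.2 (Nat.le_add_left _ _),
                Nat.add_sub_cancel]
            have h3 : (DirectSum.decompose 𝒜 (c' * (s₀ : A)) (n + (k + 1) * d + j₀) : A) =
                c * a₀ := by
              rw [← hc', DirectSum.decompose_of_mem_same 𝒜 hmem]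
            calc w * (a₀ : A) ^ (k + 1) = (w * (a₀ : A) ^ k) * a₀ := by ring
              _ = (c * (s₀ : A) ^ k) * a₀ := by rw [hwc]
              _ = (c * a₀) * (s₀ : A) ^ k := by ring
              _ = ((DirectSum.decompose 𝒜 c' (n + (k + 1) * d) : A) * s₀) * (s₀ : A) ^ k := by
                rw [← h3, h2]
              _ = (DirectSum.decompose 𝒜 c' (n + (k + 1) * d) : A) * (s₀ : A) ^ (k + 1) := by ring
        obtain ⟨g, hg, hg0⟩ := (Submodule.ne_bot_iff _).1 h1
        have hgN : g ^ N ∈ 𝒜 N := by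
          have h6 := SetLike.pow_mem_graded N hg
          simpa using h6
        have hgW : g ^ N ∈ Wideal (a₀ : A) (s₀ : A) := fun k => by
          obtain ⟨c, -, hc⟩ := hk k N le_rfl _ hgN
          exact ⟨c, hc⟩
        have hgN0 : g ^ N ≠ 0 := pow_ne_zero _ hg0
        have hstab : ∀ w ∈ Wideal (a₀ : A) (s₀ : A), ∃ c ∈ Wideal (a₀ : A) (s₀ : A),
            w * (a₀ : A) = c * s₀ := by
          intro w hw
          obtain ⟨c, hc⟩ := hw 1
          rw [pow_one, pow_one] at hc
          refine ⟨c, fun k => ?_, hc⟩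
          obtain ⟨c2, hc2⟩ := hw (k + 1)
          refine ⟨c2, mul_right_cancel₀ hs₀ ?_⟩
          calc c * (a₀ : A) ^ k * s₀ = (c * s₀) * (a₀ : A) ^ k := by ring
            _ = (w * a₀) * (a₀ : A) ^ k := by rw [hc]
            _ = w * (a₀ : A) ^ (k + 1) := by ring
            _ = c2 * (s₀ : A) ^ (k + 1) := hc2
            _ = c2 * (s₀ : A) ^ k * s₀ := by ring
        have hsK : algebraMap A (FractionRing A) s₀ ≠ 0 :=
          (map_ne_zero_iff _ (IsFractionRing.injective A (FractionRing A))).2 hs₀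
        have hint' : IsIntegral A
            (algebraMap A (FractionRing A) a₀ / algebraMap A (FractionRing A) s₀) := by
          refine isIntegral_of_smul_mem_submodule
            (Submodule.map (Algebra.linearMap A (FractionRing A)) (Wideal (a₀ : A) (s₀ : A)))
            ?_ ?_ _ ?_
          · intro hbot
            have h7 : algebraMap A (FractionRing A) (g ^ N) ∈
                Submodule.map (Algebra.linearMap A (FractionRing A)) (Wideal (a₀ : A) (s₀ : A)) :=
              ⟨g ^ N, hgW, rfl⟩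
            rw [hbot, Submodule.mem_bot] at h7
            exact hgN0 ((map_eq_zero_iff _ (IsFractionRing.injective A (FractionRing A))).1 h7)
          · exact Submodule.FG.map _ (IsNoetherian.noetherian _)
          · rintro _ ⟨w, hw, rfl⟩
            obtain ⟨c, hcW, hc⟩ := hstab w hw
            refine ⟨c, hcW, ?_⟩
            show algebraMap A (FractionRing A) c =
              (algebraMap A (FractionRing A) a₀ / algebraMap A (FractionRing A) s₀) •
                algebraMap A (FractionRing A) w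
            rw [smul_eq_mul, div_mul_eq_mul_div, eq_div_iff hsK, ← map_mul, ← map_mul, ← hc,
              mul_comm]
        obtain ⟨e, he⟩ := IsIntegrallyClosed.algebraMap_eq_of_integral hint'
        have hes : e * (s₀ : A) = a₀ := by
          apply IsFractionRing.injective A (FractionRing A)
          rw [map_mul, he]
          exact div_mul_cancel₀ _ hsK
        refine ⟨⟨(DirectSum.decompose 𝒜 e d : A), SetLike.coe_mem _⟩, ?_⟩
        have h8 := DirectSum.coe_decompose_mul_of_right_mem_of_le 𝒜 (a := e) s₀.2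
          (Nat.le_add_left j₀ d)
        have h9 : (a₀ : A) ∈ 𝒜 (d + j₀) := by
          have e' : d + j₀ = i₀ := by omega
          rw [e']
          exact a₀.2
        rw [Nat.add_sub_cancel, hes, DirectSum.decompose_of_mem_same 𝒜 h9] at h8
        exact h8.symm
      · exact ⟨0, by simp [ha0]⟩
    refine ⟨e, ?_⟩
    refine Subtype.ext (funext fun x => Subtype.ext ?_)
    obtain ⟨i, j, a, s, hs, hrel, hv⟩ := hcmp x.1
    refine Eq.trans ?_ hv.symm
    show Localization.mk e.1 (1 : x.1.asHomogeneousIdeal.toIdeal.primeCompl) =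
      Localization.mk a.1 ⟨s.1, hs⟩
    rw [mk_eq_mk_dom _ (zero_notMem 𝒜 _)]
    have h10 : (a : A) = e * s := by
      apply mul_right_cancel₀ hs₀
      rw [hrel, ← he]
      ring
    show (s : A) * e = ((1 : x.1.asHomogeneousIdeal.toIdeal.primeCompl) : A) * a
    rw [h10, OneMemClass.coe_one, one_mul, mul_comm]

end H10908

/-- Let S be a Noetherian graded integral domain, graded by the natural numbers as an algebra over a
ring R, generated by its degree-one part over S_0 (S_1 S_i = S_{i+1}) with S_1 ≠ 0, and integrally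
closed in its field of fractions (so that X = Proj S is projectively normal). Then for every d ≥ 0
the canonical map from S_d to the global sections of the twisting sheaf O_X(d), sending a to the
section a/1, is bijective. (The underlying lemma: every global section of O_X(d) is an element of
the homogeneous fraction ring integral over S.) (The published corollary takes the degree-zero part
to be a finitely generated algebra over a field; this row assumes only that the ring is Noetherian,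
which is all the argument uses.) -/
theorem result {R A : Type u} [CommRing R] [CommRing A] [IsDomain A]
    [IsNoetherianRing A] [Algebra R A] (𝒜 : ℕ → Submodule R A) [GradedAlgebra 𝒜]
    (hgen : ∀ i : ℕ, 𝒜 1 * 𝒜 i = 𝒜 (i + 1)) (h1 : 𝒜 1 ≠ ⊥) (hint : IsIntegrallyClosed A) (d : ℕ) :
    Function.Bijective (fun a : ↥(𝒜 d) => Twist.globalOf 𝒜 a) := by
  exact H10908.main 𝒜 hgen h1 hint d

end Groth.Agent.S10908
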