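import Groth.Statements.S10912
import Groth.Agent.Lib.Helper11.WDivOrd

set_option autoImplicit false
universe u
open CategoryTheory CategoryTheory.Limits AlgebraicGeometry TopologicalSpace
open WDiv

namespace Groth.Agent.S10912

/-- Let X be an integral Noetherian separated scheme which is regular in codimension 1, and U a nonempty
open subscheme whose complement has codimension at least 2: every point not in U has coheight ≥ 2 in
the specialization order. Then restriction identifies the divisor class groups of X and U;
concretely, since all points of coheight 1 lie in U, a Weil divisor D on X (integer-valued function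
with finite support inside the coheight-1 points) is the divisor of a nonzero rational function on X
if and only if its restriction to U is the divisor of a nonzero rational function on U. -/
theorem result (X : Scheme.{u}) [IsIntegral X]
    [IsNoetherian X] [X.IsSeparated]
    (hR1 : ∀ x : ↥X, Order.coheight x = 1 → IsDiscreteValuationRing ↑(X.presheaf.stalk x))
    (U : X.Opens) [Nonempty U] (hcod : ∀ x : ↥X, x ∉ U → 2 ≤ Order.coheight x)
    (D : ↥X → ℤ) (hD : ∀ x, Order.coheight x ≠ 1 → D x = 0) (hfin : {x | D x ≠ 0}.Finite) :
    (∃ f : ↑X.functionField, f ≠ 0 ∧ ∀ x : ↥X, Order.coheight x = 1 → Scheme.ord f x = D x) ↔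
      ∃ g : ↑(U : Scheme.{u}).functionField, g ≠ 0 ∧
        ∀ u : ↥(U : Scheme.{u}), Order.coheight u = 1 → Scheme.ord g u = D u.1 := by

  have hinj : Function.Injective (Groth.Agent.Lib.Helper11.WDivOrd.ffmap U.ι).hom :=
    (Groth.Agent.Lib.Helper11.WDivOrd.ffmap U.ι).hom.injective
  constructor
  · rintro ⟨f, hf, h⟩
    refine ⟨(Groth.Agent.Lib.Helper11.WDivOrd.ffmap U.ι).hom f, ?_, ?_⟩
    · intro h0
      apply hf
      apply hinj
      rw [h0, map_zero]
    · intro u hu
      rw [Groth.Agent.Lib.Helper11.WDivOrd.ord_ffmap U.ι u f]
      have hx : Order.coheight (U.ι u) = 1 := by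
        rw [coheight_eq_of_isOpenImmersion]
        exact hu
      exact h (U.ι u) hx
  · rintro ⟨g, hg, h⟩
    have hsurj : Function.Surjective (Groth.Agent.Lib.Helper11.WDivOrd.ffmap U.ι).hom :=
      (ConcreteCategory.bijective_of_isIso (Groth.Agent.Lib.Helper11.WDivOrd.ffmap U.ι)).2
    obtain ⟨f, rfl⟩ := hsurj g
    refine ⟨f, ?_, ?_⟩
    · rintro rfl
      apply hg
      exact map_zero _
    · intro x hx
      have hxU : x ∈ U := by
        by_contra hn
        have := hcod x hn
        rw [hx] at this
        exact absurd this (by norm_num)
      let u : ↥(U : Scheme.{u}) := ⟨x, hxU⟩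
      have hu : Order.coheight u = 1 := by
        have e := coheight_eq_of_isOpenImmersion (x := u) U.ι
        rw [← e]
        exact hx
      have := h u hu
      rw [Groth.Agent.Lib.Helper11.WDivOrd.ord_ffmap U.ι u f] at this
      exact this

end Groth.Agent.S10912
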