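import Groth.Statements.S10915
-- import your own Groth.Agent.* helpers here
import Mathlib
import Groth.Agent.Lib.Helper22.GrNN5
import Groth.Agent.Lib.Helper22.HS5

set_option autoImplicit false
universe u
open ProjDeg

namespace Groth.Agent.S10915

/-- Let k be an algebraically closed field, R = k[X_0, …, X_n] graded by degree, and I a homogeneous
prime ideal with dim R/I = r + 1, so that X = V_+(I) ⊆ P^n_k is a projective variety of dimension r.
Then there are r + 1 linear forms h_1, …, h_{r+1} (homogeneous of degree 1) whose common zero set in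
P^n_k does not meet X, i.e. the ideal I + (h_1, …, h_{r+1}) contains some power of the irrelevant
ideal (X_0, …, X_n). (The published statement says that a generic linear subspace of dimension n − r
− 1 misses X; this row asserts only that one such subspace, cut out by r + 1 linear forms, exists.) -/
theorem result (k : Type u) [Field k] [IsAlgClosed k]
    (n r : ℕ) (I : Ideal (MvPolynomial (Fin (n + 1)) k)) (hIh : I.IsHomogeneous (CohB1.polyGrading n k)) [I.IsPrime]
    (hdim : ringKrullDim (MvPolynomial (Fin (n + 1)) k ⧸ I) = (r : WithBot ℕ∞) + 1) :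
    ∃ h : Fin (r + 1) → MvPolynomial (Fin (n + 1)) k, (∀ i, (h i).IsHomogeneous 1) ∧
      ∃ N : ℕ, (Ideal.span (Set.range (MvPolynomial.X : Fin (n + 1) → MvPolynomial (Fin (n + 1)) k))) ^ N ≤
        I ⊔ Ideal.span (Set.range h) := by
  classical
  have hx := Groth.Agent.Lib.Helper22.HS.stdGen_mvPolynomial k (n + 1)
  have h0 : ∀ a ∈ CohB1.polyGrading n k 0,
      ∃ c : k, algebraMap k (MvPolynomial (Fin (n + 1)) k) c = a := hx.zero
  have hgen : (HomogeneousIdeal.irrelevant (CohB1.polyGrading n k)).toIdeal ≤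
      Ideal.span (CohB1.polyGrading n k 1 : Set (MvPolynomial (Fin (n + 1)) k)) :=
    hx.irr_le.trans (Ideal.span_mono (by rintro _ ⟨i, rfl⟩; exact hx.mem_one i))
  haveI : Infinite k := IsAlgClosed.instInfinite
  obtain ⟨h, hh, hdim0⟩ := Groth.Agent.Lib.Helper22.GrNN.exists_linear_parameters
    (CohB1.polyGrading n k) h0 hgen (r + 1) I hIh (by rw [hdim]; push_cast; exact le_rfl)
  have hJ : (I ⊔ Ideal.span (Set.range h)).IsHomogeneous (CohB1.polyGrading n k) := by
    refine hIh.sup ?_
    apply Ideal.homogeneous_span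
    rintro _ ⟨i, rfl⟩
    exact ⟨1, hh i⟩
  obtain ⟨N, hN⟩ := Groth.Agent.Lib.Helper22.GrNN.irrelevant_pow_le_of_dim_le_zero
    (CohB1.polyGrading n k) h0 hJ hdim0
  refine ⟨h, hh, N, (Ideal.pow_right_mono ?_ N).trans hN⟩
  rw [Ideal.span_le]
  rintro _ ⟨i, rfl⟩
  change MvPolynomial.X i ∈ HomogeneousIdeal.irrelevant (CohB1.polyGrading n k)
  rw [HomogeneousIdeal.mem_irrelevant_iff, GradedRing.proj_apply,
    DirectSum.decompose_of_mem_ne (CohB1.polyGrading n k) (hx.mem_one i) (by norm_num : (1 : ℕ) ≠ 0)]

end Groth.Agent.S10915
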