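import Groth.Statements.S10927
import Mathlib
import Groth.Agent.S10929
import Groth.Agent.Lib.Helper6.ActionTranslate

set_option autoImplicit false
universe u
open CategoryTheory CategoryTheory.Limits MonoidalCategory CartesianMonoidalCategory MonObj GrpObj AlgebraicGeometry
open Variety

namespace Groth.Agent.S10927

/-- Let k be an algebraically closed field of characteristic zero, G a group variety over k (an
integral, separated k-group scheme of finite type) and X a homogeneous space for G: a k-variety
(integral, separated, of finite type over k) with an action of G such that G(k) acts transitively on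
X(k). Then for every k-point x of X the orbit map G → X, g ↦ g · x, is smooth. -/
theorem result (k : Type u) [Field k] [IsAlgClosed k] [CharZero k]
    (G X : Over (Spec (CommRingCat.of k))) [GrpObj G] (a : AlgGrp.Action G X)
    [IsIntegral G.left] [IsSeparated G.hom] [LocallyOfFiniteType G.hom] [QuasiCompact G.hom]
    [IsIntegral X.left] [IsSeparated X.hom] [LocallyOfFiniteType X.hom] [QuasiCompact X.hom]
    (htrans : ∀ x x' : 𝟙_ (Over (Spec (CommRingCat.of k))) ⟶ X,
      ∃ σ : 𝟙_ (Over (Spec (CommRingCat.of k))) ⟶ G, CartesianMonoidalCategory.lift σ x ≫ a.act = x')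
    (x : 𝟙_ (Over (Spec (CommRingCat.of k))) ⟶ X) :
    Smooth (a.orbitMap x).left := by
  haveI : IsNoetherianRing (CommRingCat.of k) := inferInstanceAs (IsNoetherianRing k)
  haveI : IsLocallyNoetherian X.left := LocallyOfFiniteType.isLocallyNoetherian X.hom
  haveI : LocallyOfFiniteType ((a.orbitMap x).left ≫ X.hom) := by
    rw [Over.w]; infer_instance
  haveI : LocallyOfFiniteType (a.orbitMap x).left := locallyOfFiniteType_of_comp _ X.hom
  haveI : LocallyOfFinitePresentation (a.orbitMap x).left := inferInstance
  have hdom : DenseRange (a.orbitMap x).left.base := by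
    haveI := LocallyOfFiniteType.jacobsonSpace X.hom
    rw [DenseRange, dense_iff_closure_eq, ← Set.univ_subset_iff,
      ← closure_closedPoints (X := X.left)]
    apply closure_mono
    intro z hz
    let z' : 𝟙_ (Over (Spec (CommRingCat.of k))) ⟶ X :=
      Over.homMk _ ((pointEquivClosedPoint X.hom).symm ⟨z, hz⟩).2
    obtain ⟨σ, hσ⟩ := htrans x z'
    have h1 : σ ≫ a.orbitMap x = z' :=
      (Groth.Agent.Lib.Helper6.ActionTranslate.comp_orbitMap a x σ).trans hσ
    have h2 := congr(($h1).left (IsLocalRing.closedPoint k))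
    refine ⟨σ.left (IsLocalRing.closedPoint k), ?_⟩
    simpa [z', pointEquivClosedPoint] using h2
  obtain ⟨U, hUne, hU⟩ :=
    Groth.Agent.S10929.result k G.hom X.hom (a.orbitMap x).left (Over.w _) hdom
  have hne : ((a.orbitMap x).left.smoothLocus : Set G.left).Nonempty := by
    obtain ⟨u, hu⟩ := hUne
    refine ⟨u, ?_⟩
    haveI := hU
    have h1 : (U.ι ≫ (a.orbitMap x).left).smoothLocus = ⊤ := Scheme.Hom.smoothLocus_eq_top _
    rw [← Scheme.Hom.preimage_smoothLocus_eq] at h1
    have h2 : (⟨u, hu⟩ : U) ∈ U.ι ⁻¹ᵁ (a.orbitMap x).left.smoothLocus := by rw [h1]; trivial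
    exact h2
  refine Groth.Agent.Lib.Helper6.ActionTranslate.smooth_of_translations (a.orbitMap x) hne
    (fun g0 g1 => ?_)
  refine ⟨Groth.Agent.Lib.Helper6.ActionTranslate.translIso
      (Groth.Agent.Lib.Helper6.ActionTranslate.mulAction G) (g1 * g0⁻¹),
    Groth.Agent.Lib.Helper6.ActionTranslate.translIso a (g1 * g0⁻¹), ?_, ?_⟩
  · change g0 ≫ Groth.Agent.Lib.Helper6.ActionTranslate.transl
      (Groth.Agent.Lib.Helper6.ActionTranslate.mulAction G) (g1 * g0⁻¹) = g1
    rw [Groth.Agent.Lib.Helper6.ActionTranslate.comp_transl_mulAction, inv_mul_cancel_right]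
  · exact Groth.Agent.Lib.Helper6.ActionTranslate.transl_orbitMap a x (g1 * g0⁻¹)

end Groth.Agent.S10927
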