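import Groth.Statements.S10932
import Groth.Agent.Lib.Helper26.RegularRing
import Groth.Agent.Lib.Helper9.ProjDim
import Groth.Agent.Lib.Helper4.Depth

set_option autoImplicit false
universe u
open CategoryTheory
open CAlg

namespace Groth.Agent.S10932

open CategoryTheory in
/-- If `pd M < r + 2` and `Ext^{r+1}(M, A) = 0` then `pd M < r + 1` (finite `M`, Noetherian `A`). -/
lemma pd_pred (A : Type u) [CommRing A] [IsNoetherianRing A] (M : Type u) [AddCommGroup M]
    [Module A M] [Module.Finite A M] (r : ℕ)
    (h : HasProjectiveDimensionLT (ModuleCat.of A M) (r + 2))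
    (hE : Subsingleton (Abelian.Ext (ModuleCat.of A M) (ModuleCat.of A A) (r + 1))) :
    HasProjectiveDimensionLT (ModuleCat.of A M) (r + 1) := by
  apply Groth.Agent.Lib.Helper9.hasProjectiveDimensionLT_of_cyclic r M
  intro I
  let S : ShortComplex (ModuleCat.{u} A) :=
    ModuleCat.shortComplexOfCompEqZero I.subtype I.mkQ
      (LinearMap.exact_subtype_mkQ I).linearMap_comp_eq_zero
  have hS : S.ShortExact := ModuleCat.shortComplex_shortExact S
    (LinearMap.exact_subtype_mkQ I) I.injective_subtype (Submodule.mkQ_surjective _)
  exact Groth.Agent.Lib.Helper4.subsingleton_ext_X₃ hS (ModuleCat.of A M) (r + 1) hE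
    (HasProjectiveDimensionLT.subsingleton (ModuleCat.of A M) (r + 2) (r + 1 + 1) le_rfl _)

/-- Let A be a (Noetherian) regular local ring of Krull dimension n and M a finitely generated A-module
such that Ext^j_A(M, A) = 0 for every j with 1 ≤ j ≤ n. Then M is projective, hence a free A-module. -/
theorem result (A : Type u) [CommRing A] [IsRegularLocalRing A]
    (n : ℕ) (hn : ringKrullDim A = n) (M : Type u) [AddCommGroup M] [Module A M] [Module.Finite A M]
    (h : ∀ j : ℕ, 1 ≤ j → j ≤ n →
      Subsingleton (Abelian.Ext (ModuleCat.of A M) (ModuleCat.of A A) j)) :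
    Module.Free A M := by
  have key : ∀ k : ℕ, k ≤ n →
      CategoryTheory.HasProjectiveDimensionLT (ModuleCat.of A M) (n - k + 1) := by
    intro k
    induction k with
    | zero => intro _; exact Groth.Agent.S0563.result A n hn M
    | succ k ih =>
      intro hk
      have h1 := ih (by omega)
      have e1 : n - k + 1 = (n - (k + 1)) + 2 := by omega
      rw [e1] at h1
      exact pd_pred A M (n - (k + 1)) h1 (h (n - (k + 1) + 1) (by omega) (by omega))
  have h1 := key n le_rfl
  rw [Nat.sub_self, zero_add] at h1
  have hP : CategoryTheory.Projective (ModuleCat.of A M) :=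
    CategoryTheory.projective_iff_hasProjectiveDimensionLT_one.mpr h1
  have hP' : Module.Projective A M := (IsProjective.iff_projective (R := A) M).mpr hP
  exact Module.free_of_flat_of_isLocalRing

end Groth.Agent.S10932
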