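import Groth.Statements.S10933
import Groth.Agent.Lib.Helper26.RegularExt

set_option autoImplicit false
universe u
open CategoryTheory
open CAlg

namespace Groth.Agent.S10933

/-- Let A be a (Noetherian) regular local ring, M a finitely generated A-module and d a natural number.
Then the projective dimension of M equals d if and only if Ext^j_A(M, A) = 0 for every j > d and
Ext^d_A(M, A) ≠ 0. (Projective dimension valued in WithBot ℕ∞, the zero module having projective
dimension ⊥.) -/
theorem result (A : Type u) [CommRing A] [IsRegularLocalRing A]
    (M : Type u) [AddCommGroup M] [Module A M] [Module.Finite A M] (d : ℕ) :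
    projectiveDimension (ModuleCat.of A M) = (d : WithBot ℕ∞) ↔
      ((∀ j : ℕ, d < j → Subsingleton (Abelian.Ext (ModuleCat.of A M) (ModuleCat.of A A) j)) ∧
        Nontrivial (Abelian.Ext (ModuleCat.of A M) (ModuleCat.of A A) d)) := by
  have key := Groth.Agent.Lib.Helper26.RegularExt.hasProjectiveDimensionLT_iff_ext_self A M
  constructor
  · intro h
    have hle : HasProjectiveDimensionLE (ModuleCat.of A M) d :=
      (projectiveDimension_le_iff _ d).mp h.le
    refine ⟨(key d).mp hle, ?_⟩
    by_contra hnt
    rw [not_nontrivial_iff_subsingleton] at hnt
    cases d with
    | zero =>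
      have hproj : HasProjectiveDimensionLT (ModuleCat.of A M) 1 := hle
      have hP : Projective (ModuleCat.of A M) :=
        projective_iff_hasProjectiveDimensionLT_one.mpr hproj
      have hP' : Module.Projective A M := (IsProjective.iff_projective (R := A) M).mpr hP
      haveI : Module.Free A M := Module.free_of_flat_of_isLocalRing
      have hM : Nontrivial M := by
        by_contra hM
        rw [not_nontrivial_iff_subsingleton] at hM
        have hz : Limits.IsZero (ModuleCat.of A M) := ModuleCat.isZero_of_subsingleton _
        rw [← projectiveDimension_eq_bot_iff, h] at hz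
        exact absurd hz (by simp)
      let b := Module.Free.chooseBasis A M
      haveI : Nonempty (Module.Free.ChooseBasisIndex A M) := by
        by_contra hemp
        rw [not_nonempty_iff] at hemp
        exact not_subsingleton M (b.repr.toEquiv.subsingleton)
      obtain ⟨i⟩ := ‹Nonempty (Module.Free.ChooseBasisIndex A M)›
      have hsub : Subsingleton (ModuleCat.of A M ⟶ ModuleCat.of A A) :=
        Abelian.Ext.homEquiv₀.symm.subsingleton
      have h1 : ModuleCat.ofHom (b.coord i) = 0 := Subsingleton.elim _ _
      have h2 : b.coord i (b i) = 0 := by
        have := congrArg (fun f => f.hom (b i)) h1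
        simpa using this
      rw [Module.Basis.coord_apply, Module.Basis.repr_self, Finsupp.single_eq_same] at h2
      exact one_ne_zero h2
    | succ d' =>
      have h1 : HasProjectiveDimensionLT (ModuleCat.of A M) (d' + 1) := by
        rw [key d']
        intro j hj
        rcases Nat.lt_or_ge (d' + 1) j with h2 | h2
        · exact (key (d' + 1)).mp hle j h2
        · have : j = d' + 1 := by omega
          subst this
          exact hnt
      have h3 := projectiveDimension_lt_iff.mpr h1
      rw [h] at h3
      exact lt_irrefl _ h3
  · rintro ⟨hE, hN⟩
    have hle : HasProjectiveDimensionLT (ModuleCat.of A M) (d + 1) := (key d).mpr hE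
    apply le_antisymm
    · exact (projectiveDimension_le_iff _ d).mpr hle
    · rw [projectiveDimension_ge_iff]
      intro hlt
      exact not_subsingleton _ (HasProjectiveDimensionLT.subsingleton (ModuleCat.of A M) d d le_rfl
        (ModuleCat.of A A))

end Groth.Agent.S10933
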