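import Groth.Statements.S10939
-- import your own Groth.Agent.* helpers here
import Mathlib
import Groth.Agent.Lib.Helper22.ProjDim3

set_option autoImplicit false
universe u
open CategoryTheory CategoryTheory.Limits AlgebraicGeometry
open Variety

namespace Groth.Agent.S10939

/-- Let k be a field, P = P^n_k = Proj k[x_0, …, x_n], and i_X : X → P, i_Y : Y → P closed immersions
with X of dimension r. Then there are homogeneous polynomials h_1, …, h_{r+1} of positive degree,
with basic opens D_j = D_+(h_j) and hypersurfaces H_j = P ∖ D_j, such that every H_j contains Y and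
X ∖ Y = ⋃_j (X ∖ H_j), i.e. every point of X outside Y lies in some D_j; moreover each X ∖ H_j = X ∩
D_j is affine. (The published statement takes X and Y reduced; the assertion only concerns the
underlying closed sets.) -/
theorem result (k : Type u) [Field k] (n r : ℕ)
    {X Y : Scheme.{u}} (iX : X ⟶ CohB1.ProjSpace n k) (iY : Y ⟶ CohB1.ProjSpace n k)
    [IsClosedImmersion iX] [IsClosedImmersion iY] (hX : topologicalKrullDim ↥X = r) :
    ∃ (h : Fin (r + 1) → MvPolynomial (Fin (n + 1)) k) (D : Fin (r + 1) → (CohB1.ProjSpace n k).Opens),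
      (∀ j, D j = Proj.basicOpen (CohB1.polyGrading n k) (h j)) ∧
      (∀ j, ∃ d : ℕ, 0 < d ∧ (h j).IsHomogeneous d) ∧
      (∀ j, Set.range iY.base ⊆ (D j : Set ↥(CohB1.ProjSpace n k))ᶜ) ∧
      (Set.range iX.base \ Set.range iY.base ⊆ ⋃ j, (D j : Set ↥(CohB1.ProjSpace n k))) ∧
      ∀ j, IsAffineOpen (iX ⁻¹ᵁ (D j)) := by
  classical
  have hXc : IsClosed (Set.range iX.base) := iX.isClosedEmbedding.isClosed_range
  have hYc : IsClosed (Set.range iY.base) := iY.isClosedEmbedding.isClosed_range
  have hdimX : topologicalKrullDim ↥(Set.range iX.base) = (r : WithBot ℕ∞) := by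
    rw [← hX]
    exact (IsHomeomorph.topologicalKrullDim_eq _
      (iX.isEmbedding.toHomeomorph).isHomeomorph).symm
  have hdim : Order.krullDim ↥(Set.range iX.base \ Set.range iY.base) ≤ (r : WithBot ℕ∞) := by
    have h1 : Order.krullDim ↥(Set.range iX.base \ Set.range iY.base) ≤
        Order.krullDim ↥(Set.range iX.base) :=
      Order.krullDim_le_of_strictMono
        (fun t : ↥(Set.range iX.base \ Set.range iY.base) =>
          (⟨t.1, t.2.1⟩ : ↥(Set.range iX.base))) (fun _ _ hab => hab)
    refine le_trans h1 ?_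
    rw [← Groth.Agent.Lib.Helper12.ClosedDim.topologicalKrullDim_eq_krullDim_of_isLocallyClosed _
      hXc.isLocallyClosed, hdimX]
  obtain ⟨h, h1, h2, h3⟩ := Groth.Agent.Lib.Helper22.ProjDim.exists_cover k n
    (show Set ↥(Proj (CohB1.polyGrading n k)) from Set.range iX.base)
    (show Set ↥(Proj (CohB1.polyGrading n k)) from Set.range iY.base) hXc hYc r hdim
  refine ⟨h, fun j => Proj.basicOpen (CohB1.polyGrading n k) (h j), fun j => rfl, ?_, ?_, ?_, ?_⟩
  · intro j
    obtain ⟨d, hd, hhd⟩ := h1 j
    exact ⟨d, hd, (MvPolynomial.mem_homogeneousSubmodule _ _).1 hhd⟩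
  · intro j x hx hxD
    have h4 : h j ∈ (Groth.Agent.Lib.Helper22.ProjDim.pr k n x).asIdeal :=
      Groth.Agent.Lib.Helper22.ProjDim.vI_le_of_mem k n hx (h2 j)
    exact hxD h4
  · intro x hx
    obtain ⟨i, hi⟩ := h3 x hx
    exact Set.mem_iUnion.2 ⟨i, hi⟩
  · intro j
    obtain ⟨d, hd, hhd⟩ := h1 j
    have hD : IsAffineOpen (show (CohB1.ProjSpace n k).Opens from
        Proj.basicOpen (CohB1.polyGrading n k) (h j)) :=
      Proj.isAffineOpen_basicOpen (CohB1.polyGrading n k) (h j) hhd hd
    exact hD.preimage iX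

end Groth.Agent.S10939
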