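import Groth.Statements.S10940
-- import your own Groth.Agent.* helpers here
import Mathlib
import Groth.Agent.Lib.Helper22.ProjDim3

set_option autoImplicit false
universe u
open CategoryTheory CategoryTheory.Limits AlgebraicGeometry
open Variety

namespace Groth.Agent.S10940

/-- Let k be a field and X a quasi-projective variety over k of dimension r: an integral scheme with an
immersion j : X → P^n_k. Then X admits a cover by r + 1 affine open subschemes. (Consequently the
cohomology of every quasi-coherent O_X-module vanishes above degree r; that consequence is the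
general vanishing above the number of affines in a cover and is not restated here. The published
statement is for varieties over an algebraically closed field; the argument, r + 1 hypersurfaces
through the boundary of the closure of X, works over any field, so k is an arbitrary field here.) -/
theorem result (k : Type u) [Field k] (n r : ℕ)
    {X : Scheme.{u}} (j : X ⟶ CohB1.ProjSpace n k) [IsImmersion j] [IsIntegral X]
    (hX : topologicalKrullDim ↥X = r) :
    ∃ U : Fin (r + 1) → X.Opens, (∀ i, IsAffineOpen (U i)) ∧ ⨆ i, U i = ⊤ := by
  classical
  let ι : X ⟶ Proj (CohB1.polyGrading n k) := j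
  haveI hι : IsImmersion ι := ‹IsImmersion j›
  have hXc : IsClosed (closure (Set.range ι.base)) := isClosed_closure
  have hYc : IsClosed (closure (Set.range ι.base) \ Set.range ι.base) :=
    Groth.Agent.Lib.Helper22.ProjAff.isClosed_boundary (CohB1.polyGrading n k) ι
  have hdiff : closure (Set.range ι.base) \ (closure (Set.range ι.base) \ Set.range ι.base) =
      Set.range ι.base := Set.diff_diff_cancel_left subset_closure
  have hdimX : topologicalKrullDim ↥(Set.range ι.base) = (r : WithBot ℕ∞) := by
    rw [← hX]
    exact (IsHomeomorph.topologicalKrullDim_eq _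
      (ι.isEmbedding.toHomeomorph).isHomeomorph).symm
  have hdim : Order.krullDim
      ↥(closure (Set.range ι.base) \ (closure (Set.range ι.base) \ Set.range ι.base)) ≤
      (r : WithBot ℕ∞) := by
    have h1 : Order.krullDim
        ↥(closure (Set.range ι.base) \ (closure (Set.range ι.base) \ Set.range ι.base)) ≤
        Order.krullDim ↥(Set.range ι.base) :=
      Order.krullDim_le_of_strictMono
        (fun t : ↥(closure (Set.range ι.base) \
            (closure (Set.range ι.base) \ Set.range ι.base)) =>
          (⟨t.1, hdiff.le t.2⟩ : ↥(Set.range ι.base))) (fun _ _ hab => hab)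
    refine le_trans h1 ?_
    rw [← Groth.Agent.Lib.Helper12.ClosedDim.topologicalKrullDim_eq_krullDim_of_isLocallyClosed _
      ι.isLocallyClosed_range, hdimX]
  obtain ⟨h, h1, h2, h3⟩ := Groth.Agent.Lib.Helper22.ProjDim.exists_cover k n
    (closure (Set.range ι.base)) (closure (Set.range ι.base) \ Set.range ι.base) hXc hYc r hdim
  refine ⟨fun i => ι ⁻¹ᵁ Proj.basicOpen (CohB1.polyGrading n k) (h i), ?_, ?_⟩
  · intro i
    obtain ⟨d, hd, hhd⟩ := h1 i
    exact Groth.Agent.Lib.Helper22.ProjAff.isAffineOpen_preimage_basicOpen
      (CohB1.polyGrading n k) ι (h i) hd hhd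
      (Groth.Agent.Lib.Helper22.ProjAff.inter_basicOpen_subset (CohB1.polyGrading n k) ι (h i)
        (h2 i))
  · rw [eq_top_iff]
    intro x _
    have hx : ι.base x ∈ closure (Set.range ι.base) \
        (closure (Set.range ι.base) \ Set.range ι.base) := by
      rw [hdiff]; exact ⟨x, rfl⟩
    obtain ⟨i, hi⟩ := h3 _ hx
    exact TopologicalSpace.Opens.mem_iSup.2 ⟨i, hi⟩

end Groth.Agent.S10940
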