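import Groth.Statements.S10941
-- import your own Groth.Agent.* helpers here
import Mathlib
import Groth.Agent.Lib.Helper12.FlatDimBC

set_option autoImplicit false
universe u
open CategoryTheory CategoryTheory.Limits AlgebraicGeometry
open FlatMor

namespace Groth.Agent.S10941
open Groth.Agent.Lib.Helper12 Groth.Agent.Lib.Helper12.SchemeDimFT
  Groth.Agent.Lib.Helper12.SchemeDimIneq Groth.Agent.Lib.Helper12.Equidim
  Groth.Agent.Lib.Helper12.FlatDim

theorem dim_univ_eq (T : Type u) [TopologicalSpace T] :
    topologicalKrullDim (Set.univ : Set T) = topologicalKrullDim T :=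
  IsHomeomorph.topologicalKrullDim_eq _ (Homeomorph.Set.univ T).isHomeomorph


/-- Let k be a field, X, Y and Y' schemes of finite type over k with Y irreducible, f : X → Y a flat
k-morphism and n a natural number such that every irreducible component of X has dimension dim Y +
n. Let g : Y' → Y be a k-morphism and f' : X ×_Y Y' → Y' the base change of f. Then for every
irreducible closed subset V of Y', every irreducible component of the preimage of V under f' (with
the subspace topology) has dimension dim V + n. In particular (Y' = Y) every irreducible component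
of f⁻¹(V) has dimension dim V + n for every irreducible closed V ⊆ Y. -/
theorem result (k : Type u) [Field k]
    {X Y Y' : Scheme.{u}} (qX : X ⟶ Spec (CommRingCat.of k)) (qY : Y ⟶ Spec (CommRingCat.of k))
    (qY' : Y' ⟶ Spec (CommRingCat.of k))
    [LocallyOfFiniteType qX] [QuasiCompact qX] [LocallyOfFiniteType qY] [QuasiCompact qY]
    [LocallyOfFiniteType qY'] [QuasiCompact qY']
    [IrreducibleSpace ↥Y] (f : X ⟶ Y) (hf : f ≫ qY = qX) [Flat f] (n : ℕ)
    (hX : ∀ Z : Set ↥X, Z ∈ irreducibleComponents ↥X →
      topologicalKrullDim ↥Z = topologicalKrullDim ↥Y + (n : WithBot ℕ∞))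
    (g : Y' ⟶ Y) (hg : g ≫ qY = qY')
    (V : Set ↥Y') (hV : IsClosed V) (hVirr : IsIrreducible V)
    (W : Set ↥((pullback.snd f g).base ⁻¹' V))
    (hW : W ∈ irreducibleComponents ↥((pullback.snd f g).base ⁻¹' V)) :
    topologicalKrullDim ↥W = topologicalKrullDim ↥V + (n : WithBot ℕ∞) := by
  subst hf
  subst hg
  haveI : LocallyOfFiniteType f := locallyOfFiniteType_of_comp f qY
  haveI : LocallyOfFiniteType g := locallyOfFiniteType_of_comp g qY
  haveI : LocallyOfFiniteType (pullback.snd f g) :=
    MorphismProperty.pullback_snd (P := @LocallyOfFiniteType) f g inferInstance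
  haveI : Flat (pullback.snd f g) := MorphismProperty.pullback_snd (P := @Flat) f g inferInstance
  letI : Y.Over (Spec (CommRingCat.of k)) := ⟨qY⟩
  haveI : LocallyOfFiniteType (Y ↘ Spec (CommRingCat.of k)) := ‹LocallyOfFiniteType qY›
  have hYd : topologicalKrullDim Y = ((tr k Y (genericPoint Y) : ℕ) : WithBot ℕ∞) :=
    topologicalKrullDim_eq_of_irreducible k Y _ (tr_spec k Y _)
  have hcY : ∀ Z ∈ irreducibleComponents (Y : Type u),
      topologicalKrullDim Z = ((tr k Y (genericPoint Y) : ℕ) : WithBot ℕ∞) := by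
    intro Z hZ
    rw [irreducibleComponents_eq_singleton, Set.mem_singleton_iff] at hZ
    rw [hZ, dim_univ_eq, hYd]
  have hfib := (equidim_iff_fibres k qY f (tr k Y (genericPoint Y)) n hcY).mp (by
    intro Z hZ
    rw [hX Z hZ, hYd]
    push_cast
    rfl)
  have hFE : FibEq f n := (fibEq_iff f n).mpr hfib
  have hFE' : FibEq (pullback.snd f g) n := FibEq.pullback f hFE g
  obtain ⟨v, hv⟩ := QuasiSober.sober hVirr hV
  obtain ⟨w, hwS, hwmax, hWdim⟩ := exists_of_mem_irreducibleComponents_closed
    ((pullback.snd f g).base ⁻¹' V) (hV.preimage (pullback.snd f g).continuous) W hW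
  rw [hWdim]
  letI : Y'.Over (Spec (CommRingCat.of k)) := ⟨g ≫ qY⟩
  haveI : LocallyOfFiniteType (Y' ↘ Spec (CommRingCat.of k)) := ‹LocallyOfFiniteType (g ≫ qY)›
  letI : (pullback f g).Over (Spec (CommRingCat.of k)) := ⟨pullback.snd f g ≫ g ≫ qY⟩
  haveI : LocallyOfFiniteType ((pullback f g) ↘ Spec (CommRingCat.of k)) :=
    inferInstanceAs (LocallyOfFiniteType (pullback.snd f g ≫ g ≫ qY))
  rw [topologicalKrullDim_closure_singleton k (pullback f g) w]
  have hVd : topologicalKrullDim ↥V = ((tr k Y' v : ℕ) : WithBot ℕ∞) := by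
    rw [← hv.def, topologicalKrullDim_closure_singleton k Y' v]
  have hmem : ∀ t : ↥(pullback f g), v ⤳ (pullback.snd f g) t ↔
      t ∈ (pullback.snd f g).base ⁻¹' V := by
    intro t
    rw [specializes_iff_mem_closure, hv.def]
    rfl
  have key := tr_eq_of_max_preimage k (g ≫ qY) (pullback.snd f g) hFE' v w ((hmem w).mpr hwS)
    (fun t ht hsp => hwmax t ((hmem t).mp ht) hsp)
  rw [hVd, key]
  push_cast
  rfl

end Groth.Agent.S10941
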