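import Groth.Statements.S10942
import Groth.Agent.Lib.Helper2.Flasque.FreeOnStalk

set_option autoImplicit false
universe u
open CategoryTheory AlgebraicGeometry Opposite
open Coherent

open Groth.Agent.Lib.Helper2.Flasque Groth.Agent.Lib.Helper13.ModSiteFreeOn Groth.Agent.Lib.Helper5.TypeA

namespace Groth.Agent.S10942

/-- Let X be a scheme, F an O_X-module for which the internal Hom functor Hom(F, -) exists (as the right
adjoint of F ⊗ -; always true) and I an injective object of the category of O_X-modules. Then the
O_X-module Hom(F, I) is flasque: for all opens U ⊆ V of X the restriction map Hom(F, I)(V) → Hom(F,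
I)(U) is surjective. -/
theorem result (X : Scheme.{u}) (F I : X.Modules)
    [DCoh.HasSheafHom F] (hI : Injective I) (U V : X.Opens) (hUV : U ≤ V) :
    Function.Surjective (((DCoh.sheafHom F).obj I).val.map (homOfLE hUV).op).hom := by
  intro s
  let H : X.Modules := (DCoh.sheafHom F).obj I
  let i : U ⟶ V := homOfLE hUV
  let hs : fo U ⟶ H := (freeOnHomEquiv X.sheaf U H).symm s
  let gs : (DCoh.tensorBi.obj F).obj (fo U) ⟶ I := ((DCoh.sheafHomAdj F).homEquiv _ _).symm hs
  haveI := mono_tensor_foMap F i
  let gt := Injective.factorThru gs ((DCoh.tensorBi.obj F).map (foMap i))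
  have hgt : (DCoh.tensorBi.obj F).map (foMap i) ≫ gt = gs := Injective.comp_factorThru _ _
  let ht : fo V ⟶ H := (DCoh.sheafHomAdj F).homEquiv _ _ gt
  refine ⟨freeOnHomEquiv X.sheaf V H ht, ?_⟩
  have h1 : foMap i ≫ ht = hs := by
    rw [← Adjunction.homEquiv_naturality_left, hgt]
    exact Equiv.apply_symm_apply _ _
  have h2 := freeOnHomEquiv_freeOnMap_comp X.sheaf i H ht
  have h3 : freeOnHomEquiv X.sheaf U H (foMap i ≫ ht) = s :=
    (congrArg (freeOnHomEquiv X.sheaf U H) h1).trans (Equiv.apply_symm_apply _ _)
  exact h2.symm.trans h3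

end Groth.Agent.S10942
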