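import Groth.Statements.S10944
-- import your own Groth.Agent.* helpers here
import Mathlib
import Groth.Agent.Lib.Helper12.FlatDim

set_option autoImplicit false
universe u
open CategoryTheory AlgebraicGeometry
open FlatMor

namespace Groth.Agent.S10944
open AlgebraicGeometry CategoryTheory
open Groth.Agent.Lib.Helper12 Groth.Agent.Lib.Helper12.SchemeDimFT
  Groth.Agent.Lib.Helper12.FlatDim


/-- Let f : X → Y be a flat morphism of Noetherian schemes and Y' an irreducible component of Y. Then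
f⁻¹(Y') is the union of the irreducible components Z of X with f(Z) ⊆ Y'. -/
theorem result {X Y : Scheme.{u}}
    [IsNoetherian X] [IsNoetherian Y] (f : X ⟶ Y) [Flat f]
    (Y' : Set ↥Y) (hY' : Y' ∈ irreducibleComponents ↥Y) :
    f.base ⁻¹' Y' = ⋃₀ {Z : Set ↥X | Z ∈ irreducibleComponents ↥X ∧ f.base '' Z ⊆ Y'} := by
  obtain ⟨η, hη, rfl⟩ := (mem_irreducibleComponents_iff Y').mp hY'
  ext x
  constructor
  · intro hx
    have hsp : η ⤳ f x := specializes_iff_mem_closure.mpr hx
    obtain ⟨x', hx', hfx'⟩ := Flat.generalizingMap f hsp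
    obtain ⟨ζ, hζ1, hζ2⟩ := exists_isMaxPt_specializes x'
    have hfζ : f ζ = η := by
      apply hη
      rw [← hfx']
      exact hζ2.map f.continuous
    refine ⟨closure {ζ}, ⟨(mem_irreducibleComponents_iff _).mpr ⟨ζ, hζ1, rfl⟩, ?_⟩,
      specializes_iff_mem_closure.mp (hζ2.trans hx')⟩
    rintro _ ⟨z, hz, rfl⟩
    rw [← specializes_iff_mem_closure, ← hfζ]
    exact (specializes_iff_mem_closure.mpr hz).map f.continuous
  · rintro ⟨Z, ⟨-, hZ⟩, hxZ⟩
    exact hZ ⟨x, hxZ, rfl⟩

end Groth.Agent.S10944
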