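import Groth.Statements.S10946
import Groth.Agent.S0013
import Groth.Agent.Lib.Helper3.QCSubSec
import Groth.Agent.Lib.Helper3.QCExact
import Groth.Agent.Lib.Helper5.CechColim

set_option linter.style.haveILetI false

set_option autoImplicit false
universe u
open CategoryTheory AlgebraicGeometry
open Coherent

namespace Groth.Agent.S10946

/-- Let X be a Noetherian separated scheme and n a natural number such that H^i(X, F) = 0 for all
coherent O_X-modules F and all i > n. Then H^i(X, G) = 0 for all quasi-coherent O_X-modules G and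
all i > n. -/
theorem result (X : Scheme.{u}) [IsNoetherian X]
    [X.IsSeparated] (n : ℕ)
    (h : ∀ F : X.Modules, Coh.IsCoh F → ∀ i : ℕ, n < i → Subsingleton (Coh.HH X F i))
    (G : X.Modules) (hG : Coh.IsQCoh G) (i : ℕ) (hi : n < i) :
    Subsingleton (Coh.HH X G i) := by
  classical
  open Groth.Agent.Lib.Helper13 Groth.Agent.Lib.Helper13.CechBasic
    Groth.Agent.Lib.Helper13.CechLow Groth.Agent.Lib.Helper5.CechColim in
  -- a finite affine cover with affine finite intersections
  obtain ⟨ι, hι, U, hUa, -, hcov⟩ :=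
    Groth.Agent.Lib.Helper3.QCSec.exists_finite_affine_cover (⊤ : X.Opens)
      (by simpa using (isCompact_univ : IsCompact (Set.univ : Set X)))
  have hcov' : ⨆ i, U i = ⊤ := top_le_iff.mp hcov
  haveI : Finite ι := hι
  have hU : ∀ s : Finset ι, s.Nonempty → IsAffineOpen (⨅ i ∈ s, U i) := by
    intro s hs
    induction hs using Finset.Nonempty.cons_induction with
    | singleton a => simpa using hUa a
    | cons a s ha hs ih =>
      rw [Finset.cons_eq_insert, Finset.iInf_insert]
      exact (hUa a).inf ih
  -- key equivalence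
  have key : ∀ (F : X.Modules) (_ : Coh.IsQCoh F) (m : ℕ),
      CechExact U F.presheaf m ↔ Subsingleton (Coh.HH X F (m + 1)) := by
    intro F hF m
    haveI : Coh.IsQCoh F := hF
    obtain ⟨e⟩ := Groth.Agent.S0013.result X U hcov' hU F (m + 1)
    rw [cechExact_iff]
    constructor
    · intro hz
      haveI : Subsingleton ↑(CohB1.cechH U F (m + 1)) :=
        AddCommGrpCat.subsingleton_of_isZero (G := CohB1.cechH U F (m + 1)) hz
      exact e.symm.toEquiv.subsingleton
    · intro hs
      haveI : Subsingleton ↑(CohB1.cechH U F (m + 1)) := e.toEquiv.subsingleton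
      exact AddCommGrpCat.isZero_of_subsingleton (CohB1.cechH U F (m + 1))
  obtain ⟨m, rfl⟩ : ∃ m, i = m + 1 := ⟨i - 1, by omega⟩
  rw [← key G hG m]
  intro c hc
  haveI : G.IsQuasicoherent := hG
  haveI : CompactSpace X := inferInstance
  haveI : QuasiSeparatedSpace X := inferInstance
  obtain ⟨K, mK, hmono, hKq, hKf, hK⟩ :=
    Groth.Agent.Lib.Helper3.QCSubSec.exists_finiteType_sub_sections G
      (J := Fin (m + 2) → ι) (fun a => ∏ᶜ (U ∘ a))
      (fun a => TopologicalSpace.NoetherianSpace.isCompact _)
      (fun a => (proj U G.presheaf (m + 1) a).hom c)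
  haveI := hmono
  choose y0 hy0 using hK
  set τ : K.presheaf ⟶ G.presheaf := mK.mapPresheaf with hτ
  have hinj : ∀ (k : ℕ), Function.Injective (cmap U τ k) := by
    intro k x x' hxx
    apply ext_elem
    intro a
    apply Groth.Agent.Lib.Helper3.QCExact.injective_sections mK (∏ᶜ (U ∘ a))
    have := congrArg (fun z => (proj U G.presheaf k a).hom z) hxx
    simp only [proj_cmap] at this
    exact this
  set y : (cx U K.presheaf).X (m + 1) := mk U K.presheaf (fun a => y0 a) with hy
  have hyc : cmap U τ (m + 1) y = c := by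
    apply ext_elem
    intro a
    rw [proj_cmap, hy, proj_mk]
    exact hy0 a
  have hdy : ((cx U K.presheaf).d (m + 1) (m + 2)).hom y = 0 := by
    apply hinj (m + 2)
    rw [← d_cmap, hyc, hc, map_zero]
  have hKex : CechExact U K.presheaf m :=
    (key K hKq m).mpr (h K ⟨hKq, hKf⟩ (m + 1) hi)
  obtain ⟨z, hz⟩ := hKex y hdy
  refine ⟨cmap U τ m z, ?_⟩
  rw [d_cmap, hz, hyc]

end Groth.Agent.S10946
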