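import Groth.Statements.S10947
import Groth.Agent.Lib.Helper7.AmpleRes
import Groth.Agent.Lib.Helper3.PbAmple
import Groth.Agent.Lib.Helper3.VAConv
import Groth.Agent.S2357

set_option autoImplicit false
universe u
open CategoryTheory AlgebraicGeometry
open Coherent

namespace Groth.Agent.S10947

/-- Let k be a field and X a quasi-projective scheme over k, given with an immersion ι : X → P^N_k into
a projective space. If n is a natural number with H^i(X, E) = 0 for all finite locally free
O_X-modules E and all i > n, then H^i(X, F) = 0 for all coherent O_X-modules F (quasi-coherent of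
finite type) and all i > n. -/
theorem result
    (k : Type u) [Field k] (N : ℕ) {X : Scheme.{u}} (ι : X ⟶ CohB1.ProjSpace N k) [IsImmersion ι]
    (n : ℕ) (h : ∀ E : X.Modules, FlatMod.IsFinLocFree E → ∀ i : ℕ, n < i → Subsingleton (Coh.HH X E i))
    (F : X.Modules) (hF : Coh.IsCoh F) (i : ℕ) (hi : n < i) :
    Subsingleton (Coh.HH X F i) := by
  haveI : IsNoetherianRing (MvPolynomial (Fin (N + 1)) k) := inferInstance
  haveI hP : IsNoetherian (CohB1.ProjSpace N k) := Groth.Agent.S2357.result (CohB1.polyGrading N k)
  haveI : IsLocallyNoetherian X := LocallyOfFiniteType.isLocallyNoetherian ι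
  haveI : TopologicalSpace.NoetherianSpace X := (Scheme.Hom.isEmbedding ι).isInducing.noetherianSpace
  haveI : CompactSpace X := inferInstance
  haveI : IsNoetherian X := {}
  have hA : CohB1.IsAmple ((Scheme.Modules.pullback ι).obj
      (Twist.twist (CohB1.polyGrading N k) ((1 : ℕ) : ℤ))) :=
    Groth.Agent.Lib.Helper3.PbAmple.isAmple_pullback_of_isEmbedding ι (Scheme.Hom.isEmbedding ι)
      (Groth.Agent.Lib.Helper3.VAConv.isAmple_twist_projSpace k N)
  exact Groth.Agent.Lib.Helper7.AmpleRes.coh_vanishing_of_locFree_vanishing hA n h F hF i hi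

end Groth.Agent.S10947
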