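import Groth.Statements.S10953
import Mathlib

set_option autoImplicit false
universe u
open RedSep

namespace Groth.Agent.S10953

open AlgebraicGeometry CategoryTheory Limits in
theorem aux {X S : Scheme.{u}} [IsAffine S] (f : X ⟶ S)
    (h : ∀ x y : X, f x = f y → ∃ U : X.Opens, IsAffineOpen U ∧ x ∈ U ∧ y ∈ U) :
    IsSeparated f := by
  refine ⟨?_⟩
  let jU : ∀ U : X.affineOpens, pullback (U.1.ι ≫ f) (U.1.ι ≫ f) ⟶ pullback f f := fun U =>
    pullback.map (U.1.ι ≫ f) (U.1.ι ≫ f) f f U.1.ι U.1.ι (𝟙 S) (by simp) (by simp)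
  haveI : ∀ U, IsOpenImmersion (jU U) := fun U => by
    dsimp only [jU]; infer_instance
  apply IsZariskiLocalAtTarget.of_iSup_eq_top (P := @IsClosedImmersion)
    (fun U : X.affineOpens => (jU U).opensRange)
  · rw [eq_top_iff]
    intro z _
    obtain ⟨U, hU, hx, hy⟩ := h (pullback.fst f f z) (pullback.snd f f z) (by
      rw [← Scheme.Hom.comp_apply, ← Scheme.Hom.comp_apply, pullback.condition])
    rw [TopologicalSpace.Opens.mem_iSup]
    refine ⟨⟨U, hU⟩, ?_⟩
    show z ∈ Set.range (jU ⟨U, hU⟩)
    dsimp only [jU]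
    rw [Scheme.Pullback.range_map]
    refine ⟨?_, ?_⟩
    · show pullback.fst f f z ∈ Set.range U.ι
      rw [Scheme.Opens.range_ι]; exact hx
    · show pullback.snd f f z ∈ Set.range U.ι
      rw [Scheme.Opens.range_ι]; exact hy
  · intro U
    haveI : IsAffine (U.1 : Scheme) := U.2
    refine (MorphismProperty.arrow_mk_iso_iff @IsClosedImmersion
      (morphismRestrictOpensRange (pullback.diagonal f) (jU U))).mpr ?_
    have hpb := pullback_map_diagonal_isPullback U.1.ι U.1.ι f
    have e1 : pullback.snd (pullback.diagonal f) (jU U) = hpb.isoPullback.inv ≫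
        pullback.map U.1.ι U.1.ι (U.1.ι ≫ f) (U.1.ι ≫ f) (𝟙 _) (𝟙 _) f
          (Category.id_comp _).symm (Category.id_comp _).symm := by
      rw [Iso.eq_inv_comp]
      exact hpb.isoPullback_hom_snd
    have e2 : pullback.map U.1.ι U.1.ι (U.1.ι ≫ f) (U.1.ι ≫ f) (𝟙 _) (𝟙 _) f
          (Category.id_comp _).symm (Category.id_comp _).symm =
        pullback.fst U.1.ι U.1.ι ≫ pullback.diagonal (U.1.ι ≫ f) := by
      have hmono : pullback.fst U.1.ι U.1.ι = pullback.snd U.1.ι U.1.ι := by
        rw [← cancel_mono U.1.ι]; exact pullback.condition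
      apply pullback.hom_ext
      · rw [Category.assoc, pullback.diagonal_fst, Category.comp_id]
        exact (pullback.lift_fst _ _ _).trans (Category.comp_id _)
      · rw [Category.assoc, pullback.diagonal_snd, Category.comp_id]
        exact ((pullback.lift_snd _ _ _).trans (Category.comp_id _)).trans hmono.symm
    rw [e1, MorphismProperty.cancel_left_of_respectsIso @IsClosedImmersion, e2]
    haveI : IsClosedImmersion (pullback.diagonal (U.1.ι ≫ f)) :=
      IsSeparated.isClosedImmersion_diagonal
    infer_instance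

open AlgebraicGeometry CategoryTheory in
/-- For a morphism of schemes f : X → S to an affine scheme S such that any two points of X with the
same image in S lie in one common affine open subset of X, the morphism f is separated. -/
theorem result {X S : Scheme.{u}} [IsAffine S] (f : X ⟶ S)
    (h : ∀ x y : X, f x = f y → ∃ U : X.Opens, IsAffineOpen U ∧ x ∈ U ∧ y ∈ U) :
    IsSeparated f := by
  exact aux f h

end Groth.Agent.S10953
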