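import Groth.Statements.S10956
import Mathlib

set_option autoImplicit false
universe u
open scoped TensorProduct
open CAlg

namespace Groth.Agent.S10956

open KaehlerDifferential in
attribute [local instance] Algebra.TensorProduct.rightAlgebra in
theorem aux (R A B : Type u) [CommRing R] [CommRing A] [CommRing B]
    [Algebra R A] [Algebra R B] :
    ∃ r : Ω[(A ⊗[R] B)⁄R] →ₗ[A ⊗[R] B] ((A ⊗[R] B) ⊗[A] Ω[A⁄R]),
      (∀ (a : A) (b : B), r (KaehlerDifferential.D R (A ⊗[R] B) (a ⊗ₜ[R] b)) =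
          ((1 : A) ⊗ₜ[R] b) ⊗ₜ[A] KaehlerDifferential.D R A a) ∧
        Function.Bijective (fun ω : Ω[(A ⊗[R] B)⁄R] =>
          (r ω, KaehlerDifferential.map R A (A ⊗[R] B) (A ⊗[R] B) ω)) := by
  haveI : Algebra.IsPushout R B A (A ⊗[R] B) := inferInstance
  let e : (A ⊗[R] B) ⊗[A] Ω[A⁄R] ≃ₗ[A ⊗[R] B] Ω[(A ⊗[R] B)⁄B] :=
    KaehlerDifferential.tensorKaehlerEquiv R B A (A ⊗[R] B)
  let π' : Ω[(A ⊗[R] B)⁄R] →ₗ[A ⊗[R] B] Ω[(A ⊗[R] B)⁄B] :=
    KaehlerDifferential.map R B (A ⊗[R] B) (A ⊗[R] B)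
  let r : Ω[(A ⊗[R] B)⁄R] →ₗ[A ⊗[R] B] (A ⊗[R] B) ⊗[A] Ω[A⁄R] := e.symm.toLinearMap ∘ₗ π'
  have hr : ∀ ω, r ω = e.symm (π' ω) := fun ω => rfl
  have hrα : ∀ (ω : Ω[A⁄R]) (t : A ⊗[R] B),
      r (KaehlerDifferential.mapBaseChange R A (A ⊗[R] B) (t ⊗ₜ ω)) = t ⊗ₜ ω := by
    intro ω
    have hω : ω ∈ Submodule.span A (Set.range (KaehlerDifferential.D R A)) := by
      rw [KaehlerDifferential.span_range_derivation]; trivial
    induction hω using Submodule.span_induction with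
    | mem ω h =>
      obtain ⟨a, rfl⟩ := h
      intro t
      rw [hr, LinearEquiv.symm_apply_eq, KaehlerDifferential.mapBaseChange_tmul, map_smul,
        KaehlerDifferential.map_D, KaehlerDifferential.map_D]
      show _ = e _
      rw [KaehlerDifferential.tensorKaehlerEquiv_tmul_D]
      rfl
    | zero => intro t; simp
    | add x y _ _ hx hy =>
      intro t
      rw [TensorProduct.tmul_add, map_add, map_add, hx, hy]
    | smul a x _ hx =>
      intro t
      rw [← TensorProduct.smul_tmul, hx]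
  have hrα' : ∀ z, r (KaehlerDifferential.mapBaseChange R A (A ⊗[R] B) z) = z := by
    intro z
    induction z using TensorProduct.induction_on with
    | zero => simp
    | add x y hx hy => rw [map_add, map_add, hx, hy]
    | tmul t ω => exact hrα ω t
  refine ⟨r, ?_, ?_, ?_⟩
  · intro a b
    rw [hr, LinearEquiv.symm_apply_eq]
    show π' _ = e _
    rw [KaehlerDifferential.tensorKaehlerEquiv_tmul_D, KaehlerDifferential.map_D]
    have h1 : (a ⊗ₜ[R] b : A ⊗[R] B) = ((1 : A) ⊗ₜ[R] b) * (algebraMap A (A ⊗[R] B) a) := by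
      rw [Algebra.TensorProduct.algebraMap_apply, Algebra.TensorProduct.tmul_mul_tmul]; simp
    have h2 : ((1 : A) ⊗ₜ[R] b : A ⊗[R] B) = algebraMap B (A ⊗[R] B) b := rfl
    rw [Algebra.algebraMap_self, RingHom.id_apply, h1, Derivation.leibniz, h2,
      Derivation.map_algebraMap, smul_zero, add_zero]
  · intro ω₁ ω₂ h
    have h1 : r ω₁ = r ω₂ := congrArg Prod.fst h
    have h2 : KaehlerDifferential.map R A (A ⊗[R] B) (A ⊗[R] B) ω₁ =
        KaehlerDifferential.map R A (A ⊗[R] B) (A ⊗[R] B) ω₂ := congrArg Prod.snd h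
    have h3 : KaehlerDifferential.map R A (A ⊗[R] B) (A ⊗[R] B) (ω₁ - ω₂) = 0 := by
      rw [map_sub, h2, sub_self]
    obtain ⟨z, hz⟩ := (KaehlerDifferential.exact_mapBaseChange_map R A (A ⊗[R] B) _).mp h3
    have h4 : r (ω₁ - ω₂) = 0 := by rw [map_sub, h1, sub_self]
    rw [← hz, hrα'] at h4
    rw [h4, map_zero] at hz
    exact sub_eq_zero.mp hz.symm
  · rintro ⟨z, η⟩
    obtain ⟨ω₀, hω₀⟩ := KaehlerDifferential.map_surjective R A (A ⊗[R] B) η
    refine ⟨ω₀ + KaehlerDifferential.mapBaseChange R A (A ⊗[R] B) (z - r ω₀), ?_⟩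
    have h5 : KaehlerDifferential.map R A (A ⊗[R] B) (A ⊗[R] B)
        (KaehlerDifferential.mapBaseChange R A (A ⊗[R] B) (z - r ω₀)) = 0 :=
      (KaehlerDifferential.exact_mapBaseChange_map R A (A ⊗[R] B) _).mpr ⟨_, rfl⟩
    apply Prod.ext
    · show r (ω₀ + _) = z
      rw [map_add, hrα']; abel
    · show KaehlerDifferential.map R A (A ⊗[R] B) (A ⊗[R] B) (ω₀ + _) = η
      rw [map_add, h5, add_zero, hω₀]

/-- Let R be a commutative ring, A and B commutative R-algebras and T = A ⊗_R B, an A-algebra through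
the left factor. There is a T-linear map r from Ω_{T/R} to T ⊗_A Ω_{A/R} sending d(a ⊗ b) to (1 ⊗ b)
⊗ da for all a in A and b in B, and together with the canonical map Ω_{T/R} → Ω_{T/A} it identifies
Ω_{T/R} with the product (T ⊗_A Ω_{A/R}) × Ω_{T/A}. (The published statement is the isomorphism of
(Ω_{A/R} ⊗_R B) ⊕ (A ⊗_R Ω_{B/R}) with Ω_{T/R} matching the exterior differentials; it is stated
here through the canonical identifications T ⊗_A Ω_{A/R} = Ω_{A/R} ⊗_R B and Ω_{T/A} = A ⊗_R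
Ω_{B/R}.) -/
theorem result (R A B : Type u) [CommRing R] [CommRing A] [CommRing B]
    [Algebra R A] [Algebra R B] :
    ∃ r : Ω[(A ⊗[R] B)⁄R] →ₗ[A ⊗[R] B] ((A ⊗[R] B) ⊗[A] Ω[A⁄R]),
      (∀ (a : A) (b : B), r (KaehlerDifferential.D R (A ⊗[R] B) (a ⊗ₜ[R] b)) =
          ((1 : A) ⊗ₜ[R] b) ⊗ₜ[A] KaehlerDifferential.D R A a) ∧
        Function.Bijective (fun ω : Ω[(A ⊗[R] B)⁄R] =>
          (r ω, KaehlerDifferential.map R A (A ⊗[R] B) (A ⊗[R] B) ω)) := by
  exact aux R A B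

end Groth.Agent.S10956
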