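import Groth.Statements.S10957
-- import your own Groth.Agent.* helpers here
import Mathlib

set_option autoImplicit false
universe u
open CAlg

namespace Groth.Agent.S10957

/-- Let A be a Noetherian local integral domain that is normal (integrally closed in its field of
fractions). If there is a nonzero element a of A such that the maximal ideal of A is an associated
prime of the A-module A/(a), then A is a discrete valuation ring. (The other conditions listed in
the published result — normal of dimension one, maximal ideal nonzero principal, regular of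
dimension one — are the library's standard characterisations; this row records the criterion through
an associated prime.) -/
theorem result
    (A : Type u) [CommRing A] [IsDomain A] [IsNoetherianRing A] [IsLocalRing A] [IsIntegrallyClosed A]
    (a : A) (ha : a ≠ 0)
    (hass : IsLocalRing.maximalIdeal A ∈ associatedPrimes A (A ⧸ Ideal.span ({a} : Set A))) :
    IsDiscreteValuationRing A := by
  classical
  obtain ⟨_, x, hx⟩ := (isAssociatedPrime_iff (R := A)).mp hass
  obtain ⟨b, rfl⟩ := Ideal.Quotient.mk_surjective x
  have hmem : ∀ r : A, r ∈ IsLocalRing.maximalIdeal A ↔ r * b ∈ Ideal.span ({a} : Set A) := by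
    intro r
    have h1 : r • (Ideal.Quotient.mk (Ideal.span ({a} : Set A)) b)
        = Ideal.Quotient.mk (Ideal.span ({a} : Set A)) (r * b) := by
      rw [Algebra.smul_def, Ideal.Quotient.algebraMap_eq, map_mul]
    rw [hx, Submodule.mem_colon_singleton, Submodule.mem_bot, h1, Ideal.Quotient.eq_zero_iff_mem]
  have hb : b ∉ Ideal.span ({a} : Set A) := by
    intro hb
    have h1 : (1 : A) ∈ IsLocalRing.maximalIdeal A := by rw [hmem, one_mul]; exact hb
    exact (IsLocalRing.maximalIdeal.isMaximal A).ne_top ((Ideal.eq_top_iff_one _).mpr h1)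
  have hb0 : b ≠ 0 := by rintro rfl; exact hb (Ideal.zero_mem _)
  have ham : a ∈ IsLocalRing.maximalIdeal A := by
    rw [hmem, mul_comm]
    exact Ideal.mul_mem_left _ b (Ideal.mem_span_singleton_self a)
  by_cases hcase : ∀ r ∈ IsLocalRing.maximalIdeal A, ∀ c : A, r * b = a * c →
      c ∈ IsLocalRing.maximalIdeal A
  · exfalso
    have haK : algebraMap A (FractionRing A) a ≠ 0 :=
      (map_ne_zero_iff _ (IsFractionRing.injective A (FractionRing A))).mpr ha
    obtain ⟨θ, hθ⟩ : ∃ θ : FractionRing A,
        θ = algebraMap A (FractionRing A) b / algebraMap A (FractionRing A) a := ⟨_, rfl⟩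
    have hint : IsIntegral A θ := by
      refine isIntegral_of_smul_mem_submodule
        (Submodule.map (Algebra.linearMap A (FractionRing A)) (IsLocalRing.maximalIdeal A))
        ?_ ?_ θ ?_
      · intro h
        have h2 : algebraMap A (FractionRing A) a ∈
            Submodule.map (Algebra.linearMap A (FractionRing A)) (IsLocalRing.maximalIdeal A) :=
          ⟨a, ham, rfl⟩
        rw [h, Submodule.mem_bot] at h2
        exact haK h2
      · exact Submodule.FG.map _ (IsNoetherian.noetherian _)
      · rintro _ ⟨r, hr, rfl⟩
        obtain ⟨c, hc⟩ := Ideal.mem_span_singleton'.mp ((hmem r).mp hr)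
        have hc' : r * b = a * c := by rw [← hc, mul_comm]
        refine ⟨c, hcase r hr c hc', ?_⟩
        have h3 : algebraMap A (FractionRing A) c * algebraMap A (FractionRing A) a
            = algebraMap A (FractionRing A) b * algebraMap A (FractionRing A) r := by
          rw [← map_mul, ← map_mul]; congr 1; rw [mul_comm b r, hc']; ring
        rw [Algebra.linearMap_apply, Algebra.linearMap_apply, smul_eq_mul, hθ,
          div_mul_eq_mul_div, eq_div_iff haK, h3]
    obtain ⟨y, hy⟩ := IsIntegrallyClosed.isIntegral_iff.mp hint
    apply hb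
    rw [Ideal.mem_span_singleton']
    refine ⟨y, ?_⟩
    apply IsFractionRing.injective A (FractionRing A)
    rw [map_mul, hy, hθ, div_mul_cancel₀ _ haK]
  · push Not at hcase
    obtain ⟨r, hr, c, hrc, hc⟩ := hcase
    have hcu : IsUnit c := by
      by_contra hnu
      exact hc ((IsLocalRing.mem_maximalIdeal c).mpr (mem_nonunits_iff.mpr hnu))
    obtain ⟨u, rfl⟩ := hcu
    have hπ : (r * ↑u⁻¹) * b = a := by
      calc (r * ↑u⁻¹) * b = (r * b) * ↑u⁻¹ := by ring
        _ = a * ↑u * ↑u⁻¹ := by rw [hrc]
        _ = a := by rw [mul_assoc, Units.mul_inv, mul_one]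
    have hπm : r * ↑u⁻¹ ∈ IsLocalRing.maximalIdeal A := Ideal.mul_mem_right _ _ hr
    have hprin : IsLocalRing.maximalIdeal A = Ideal.span {r * ↑u⁻¹} := by
      apply le_antisymm
      · intro x hx
        obtain ⟨c', hc'⟩ := Ideal.mem_span_singleton'.mp ((hmem x).mp hx)
        rw [Ideal.mem_span_singleton']
        refine ⟨c', ?_⟩
        apply mul_right_cancel₀ hb0
        rw [mul_assoc, hπ, hc']
      · rw [Ideal.span_singleton_le_iff_mem]; exact hπm
    have hnf : ¬ IsField A := by
      rw [IsLocalRing.isField_iff_maximalIdeal_eq]
      intro h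
      rw [h, Ideal.mem_bot] at ham
      exact ha ham
    have h04 : IsDiscreteValuationRing A ↔ (IsLocalRing.maximalIdeal A).IsPrincipal :=
      (IsDiscreteValuationRing.TFAE A hnf).out 0 4
    exact h04.mpr ⟨⟨_, hprin⟩⟩

end Groth.Agent.S10957
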