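import Groth.Statements.S10960
import Groth.Agent.Lib.Helper7.PicPn
import Groth.Agent.Lib.Helper7.LocFreePn

set_option autoImplicit false
universe u
open CategoryTheory CategoryTheory.Limits AlgebraicGeometry TopologicalSpace
open SDiv

namespace Groth.Agent.S10960

open Groth.Agent.Lib.Helper7 Groth.Agent.Lib.Helper3 Groth.Agent.Lib.Helper3.TwistBasic
  Groth.Agent.Lib.Helper3.QCSec Groth.Agent.Lib.Helper7.PnSections MvPolynomial
  AlgebraicGeometry AlgebraicGeometry.Scheme.Modules CategoryTheory CategoryTheory.Limits in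
lemma iso_hom_ne_zero (L : Type u) [Field L] (n : ℕ) (d d' : ℤ)
    (ε : Twist.twist (CohB1.polyGrading n L) d ≅ Twist.twist (CohB1.polyGrading n L) d') :
    ε.hom ≠ 0 := by
  intro h0
  have hid : (𝟙 (Twist.twist (CohB1.polyGrading n L) d)) = 0 := by
    rw [← ε.hom_inv_id, h0, zero_comp]
  obtain ⟨P, Q, hPQ⟩ : ∃ P Q : ℕ, (P : ℤ) = Q + d := ⟨d.toNat, (-d).toNat, by omega⟩
  have hbv : ∀ x : V n L 0,
      (X 0 ^ Q : MvPolynomial (Fin (n + 1)) L) ∉ x.1.asHomogeneousIdeal :=
    fun x hmem => (mem_V n L).mp x.2 (x.1.isPrime.mem_of_pow_mem Q hmem)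
  obtain ⟨s, hs⟩ : ∃ s : Γ(Twist.twist (CohB1.polyGrading n L) d, V n L 0),
      s = frac (V n L 0)
        (⟨X 0 ^ P, isHomogeneous_X_pow 0 P⟩ : (CohB1.polyGrading n L) P)
        (⟨X 0 ^ Q, isHomogeneous_X_pow 0 Q⟩ : (CohB1.polyGrading n L) Q) hbv d hPQ := ⟨_, rfl⟩
  have hs0 : s = 0 := by
    have h1 : (𝟙 (Twist.twist (CohB1.polyGrading n L) d) : Twist.twist (CohB1.polyGrading n L) d ⟶
          Twist.twist (CohB1.polyGrading n L) d).app (V n L 0) s =
        (0 : Twist.twist (CohB1.polyGrading n L) d ⟶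
          Twist.twist (CohB1.polyGrading n L) d).app (V n L 0) s :=
      MulSurj.app_congr hid (V n L 0) s
    have h2' : (𝟙 (Twist.twist (CohB1.polyGrading n L) d) : Twist.twist (CohB1.polyGrading n L) d ⟶
          Twist.twist (CohB1.polyGrading n L) d).app (V n L 0) s = s :=
      MulSurj.id_app' _ _ s
    have h3' : (0 : Twist.twist (CohB1.polyGrading n L) d ⟶
          Twist.twist (CohB1.polyGrading n L) d).app (V n L 0) s = 0 :=
      GGTwist.zero_app' (V n L 0) s
    exact h2'.symm.trans (h1.trans h3')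
  have h2 := PicPn.kapt_frac (PicPn.gen_mem_V n L 0)
    (⟨X 0 ^ P, isHomogeneous_X_pow 0 P⟩ : (CohB1.polyGrading n L) P)
    (⟨X 0 ^ Q, isHomogeneous_X_pow 0 Q⟩ : (CohB1.polyGrading n L) Q) hbv d hPQ
  rw [← hs, hs0] at h2
  have h3 : PicPn.kapt (PicPn.gen_mem_V n L 0)
      (0 : Γ(Twist.twist (CohB1.polyGrading n L) d, V n L 0)) = 0 :=
    map_zero (PicPn.jgen n L)
  rw [h3, zero_mul] at h2
  have h4 : (X 0 ^ P : MvPolynomial (Fin (n + 1)) L) = 0 :=
    (map_eq_zero_iff _ (IsFractionRing.injective (MvPolynomial (Fin (n + 1)) L)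
      (PicPn.KK n L))).mp h2.symm
  exact pow_ne_zero P (X_ne_zero (0 : Fin (n + 1))) h4

/-- Let L be a field and n ≥ 1. Then every invertible module on projective n-space over L is isomorphic
to the twisting sheaf O(d) for exactly one integer d. In other words d ↦ O(d) is a bijection from
the integers onto the isomorphism classes of invertible modules on P^n_L. -/
theorem result (L : Type u) [Field L] (n : ℕ) (hn : 1 ≤ n)
    (M : (CohB1.ProjSpace n L).Modules) (hM : PicF.IsInvertible M) :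
    ∃! d : ℤ, Nonempty (M ≅ Twist.twistProjSpace n L d) := by
  obtain ⟨d, ⟨e⟩⟩ := Groth.Agent.Lib.Helper7.PicPn.exists_iso_twist n L M hM
  refine ⟨d, ⟨e⟩, ?_⟩
  rintro d' ⟨e'⟩
  by_contra hne
  rcases lt_or_gt_of_ne hne with hlt | hgt
  · exact iso_hom_ne_zero L n d d' (e.symm ≪≫ e')
      (Groth.Agent.Lib.Helper7.LocFreePn.hom_twist_eq_zero n L hn d d' hlt _)
  · exact iso_hom_ne_zero L n d' d (e'.symm ≪≫ e)
      (Groth.Agent.Lib.Helper7.LocFreePn.hom_twist_eq_zero n L hn d' d hgt _)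

end Groth.Agent.S10960
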