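import Groth.Statements.S10962
import Groth.Agent.S0843
import Groth.Agent.S0844
import Groth.Agent.S0846
import Groth.Agent.Lib.Helper7.Mumford
import Groth.Agent.Lib.Helper7.RegRes
import Groth.Agent.Lib.Helper7.PnFinite
import Groth.Agent.Lib.Helper7.TwFun
import Groth.Agent.Lib.Helper3.TwistProj
import Groth.Agent.Lib.Helper3.GlobGen
import Groth.Agent.Lib.Helper3.FreeSec
import Groth.Agent.Lib.Helper23.AmpleCurve5

set_option autoImplicit false
universe u
open CategoryTheory CategoryTheory.Limits AlgebraicGeometry TopologicalSpace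
open SDiv

namespace Groth.Agent.S10962

theorem isZero_of_gg_of_subsingleton {X : Scheme.{u}} (F : X.Modules)
    (hgg : Curv2.IsGloballyGenerated F) (h : Subsingleton (Coh.HH X F 0)) : IsZero F := by
  obtain ⟨ι, p, hp⟩ := hgg
  have hsubΓ : Subsingleton (Groth.Agent.Lib.Helper23.T2.Γm F) :=
    @Equiv.subsingleton _ _ (Groth.Agent.Lib.Helper23.T2.H0equiv F).symm.toEquiv h
  have h1 : p ≫ 𝟙 F = p ≫ (0 : F ⟶ F) := by
    apply Groth.Agent.Lib.Helper3.FreeSec.free_hom_ext
    intro i
    exact @Subsingleton.elim _ hsubΓ _ _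
  have h2 : 𝟙 F = 0 := (cancel_epi p).mp h1
  exact (IsZero.iff_id_eq_zero F).mpr h2

/-- Let R be a nonzero ring and n ≥ 1, and let X be projective n-space over R. For an integer d, the
Serre twist O_X(d) is ample if and only if d > 0. (Ample is taken in the sense that X is
quasi-compact and covered by the affine open non-vanishing loci X_s of global sections s of positive
tensor powers; for the quasi-compact separated scheme X this agrees with the definition through
finitely many generating sections with quasi-affine non-vanishing loci. The published remark also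
asserts that O_X(d) is very ample relative to R for d > 0; that clause is not part of this row.) -/
theorem result (R : Type u) [CommRing R] [Nontrivial R] (n : ℕ) (hn : 1 ≤ n) (d : ℤ) :
    CohB1.IsAmple (Twist.twistProjSpace n R d) ↔ 0 < d := by
  classical
  have hU := Groth.Agent.Lib.Helper7.Mumford.hU n R
  haveI : CompactSpace (Proj (CohB1.polyGrading n R)) :=
    (Groth.Agent.Lib.Helper23.AmpleCurve.isAmple_twistProjSpace n R).2.1
  constructor
  · intro hA
    by_contra hd
    obtain ⟨e0⟩ := Groth.Agent.S0843.result R n 0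
    rw [Nat.cast_zero] at e0
    have hd0 : d ≤ 0 := not_lt.mp hd
    have hA' : CohB1.IsAmple (Twist.twist (CohB1.polyGrading n R) d) := hA
    have hFc := Groth.Agent.Lib.Helper7.PnFinite.isCoh_twist n R (-1)
    haveI : (Twist.twist (CohB1.polyGrading n R) (-1)).IsQuasicoherent := hFc.1
    haveI : (Twist.twist (CohB1.polyGrading n R) (-1)).IsFiniteType := hFc.2
    obtain ⟨n₀, h⟩ := Groth.Agent.Lib.Helper3.GlobGen.exists_isGloballyGenerated_twist hA'
      (Twist.twist (CohB1.polyGrading n R) (-1))
    have hgg := h n₀ le_rfl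
    obtain ⟨e, he⟩ : ∃ e : ℤ, e = -1 + (n₀ : ℤ) * d := ⟨_, rfl⟩
    have he0 : e < 0 := by nlinarith [Int.natCast_nonneg n₀]
    let iso1 : CohB1.tensorMod (Twist.twist (CohB1.polyGrading n R) (-1))
        (CohB1.tensorPow (Twist.twist (CohB1.polyGrading n R) d) n₀) ≅
        Twist.twist (CohB1.polyGrading n R) e :=
      Groth.Agent.Lib.Helper3.InvMonoidal.tensorMapIso (Iso.refl _)
        (Groth.Agent.S0846.powIsoD0846 d (hU d) n₀).symm ≪≫
      Groth.Agent.Lib.Helper7.RegRes.mulIso' hU (-1) ((n₀ : ℤ) * d) e he.symm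
    have hgg' : Curv2.IsGloballyGenerated (Twist.twist (CohB1.polyGrading n R) e) :=
      Groth.Agent.Lib.Helper3.GlobGen.isGloballyGenerated_of_iso iso1 hgg
    have hH0 : Subsingleton (Coh.HH (CohB1.ProjSpace n R) (Twist.twistProjSpace n R e) 0) :=
      Groth.Agent.S0844.result R n e 0 (fun h => by have := h.2; omega)
        (fun h => by have := h.1; omega)
    have hz : IsZero (Twist.twist (CohB1.polyGrading n R) e) :=
      isZero_of_gg_of_subsingleton _ hgg' hH0
    have hz2 : IsZero ((Groth.Agent.Lib.Helper7.TwFun.twR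
        (Twist.twist (CohB1.polyGrading n R) (-e))).obj
        (Twist.twist (CohB1.polyGrading n R) e)) := Functor.map_isZero _ hz
    have hz3 : IsZero (Twist.twist (CohB1.polyGrading n R) 0) :=
      IsZero.of_iso hz2 (Groth.Agent.Lib.Helper7.RegRes.mulIso' hU e (-e) 0 (by ring)).symm
    have hx : ∀ z : Coh.HH (Proj (CohB1.polyGrading n R))
        (Twist.twist (CohB1.polyGrading n R) 0) 0, z = 0 := by
      intro z
      have h1 := Groth.Agent.Lib.Helper23.T2.Hmap_id (Twist.twist (CohB1.polyGrading n R) 0) 0 z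
      rw [hz3.eq_of_src (𝟙 _) 0, Groth.Agent.Lib.Helper23.T2.Hmap_zero] at h1
      exact h1.symm
    have hsub0 : Subsingleton (Coh.HH (CohB1.ProjSpace n R) (Twist.twistProjSpace n R 0) 0) :=
      ⟨fun x y => (hx x).trans (hx y).symm⟩
    have hsub1 : Subsingleton ↥(MvPolynomial.homogeneousSubmodule (Fin (n + 1)) R 0) :=
      @Equiv.subsingleton _ _ e0.symm.toEquiv hsub0
    have h10 : (⟨1, MvPolynomial.isHomogeneous_one _ _⟩ :
        ↥(MvPolynomial.homogeneousSubmodule (Fin (n + 1)) R 0)) = 0 :=
      @Subsingleton.elim _ hsub1 _ _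
    have h11 := congrArg Subtype.val h10
    exact one_ne_zero h11
  · intro hd
    obtain ⟨m, rfl⟩ := Int.eq_ofNat_of_zero_le hd.le
    have hm : 0 < m := by exact_mod_cast hd
    show CohB1.IsAmple (Twist.twist (CohB1.polyGrading n R) (m : ℤ))
    apply Groth.Agent.Lib.Helper3.TwistProj.isAmple_twist_of_cover hm
    intro x
    obtain ⟨j, _, hj⟩ := Groth.Agent.Lib.Helper7.Mumford.hcov n R x
    refine ⟨⟨((Groth.Agent.Lib.Helper7.Mumford.fs n R j : (CohB1.polyGrading n R) 1) :
      MvPolynomial (Fin (n + 1)) R) ^ m, ?_⟩, ?_⟩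
    · have := SetLike.pow_mem_graded m (Groth.Agent.Lib.Helper7.Mumford.fs n R j).2
      simpa using this
    · show x ∈ Proj.basicOpen _ (_ ^ m)
      rw [Proj.basicOpen_pow _ _ m hm]
      exact hj

end Groth.Agent.S10962
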