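import Groth.Statements.S10965
import Groth.Agent.Lib.Helper3.VAChart

set_option autoImplicit false
universe u
open CategoryTheory CategoryTheory.Limits AlgebraicGeometry
open RelAmple

namespace Groth.Agent.S10965

open Groth.Agent.Lib.Helper3 in
open InvGen InvTensor InvMonoidal InvAmple SecCoord VASegre VAMain VAChart in

/-- Let S be an affine scheme, q : X → S a morphism of schemes and L an invertible O_X-module that is
very ample relative to q, in the sense that there are n and an immersion i : X → P^n_S over S with
i^*O(1) ≅ L. If L' is a second invertible O_X-module generated by finitely many global sections s_1,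
…, s_m (their germs span every stalk), then L ⊗ L' is very ample relative to q in the same sense. -/
theorem result {X S : Scheme.{u}} [IsAffine S] (q : X ⟶ S)
    (L L' : X.Modules) (hL : PicF.IsInvertible L) (hva : RelAmple.IsRelVeryAmplePn q L)
    (hL' : PicF.IsInvertible L') {m : ℕ} (s : Fin m → ProjUP.Γm L') (hs : ProjUP.GeneratedBy L' s) :
    RelAmple.IsRelVeryAmplePn q (CohB1.tensorMod L L') := by
  have hG : IsFGG L' := ⟨ULift.{u} (Fin m), inferInstance, fun j => s j.down, fun x => by
    obtain ⟨j, hj⟩ := exists_mem_locus hL' s hs x
    exact ⟨⟨j⟩, hj⟩⟩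
  exact isRelVeryAmplePn_of_isVA' q (IsVA'.tensor q hL hL' (isVA'_of_isRelVeryAmplePn q hva) hG)

end Groth.Agent.S10965
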