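import Groth.Statements.S10967
import Groth.Agent.Lib.Helper16.QAffScheme
open Groth.Agent.Lib.Helper16

set_option autoImplicit false
universe u
open CategoryTheory AlgebraicGeometry TopologicalSpace
open MoreMor

namespace Groth.Agent.S10967

/-- Quasi-affine over an affine base: call a morphism f : X → Y quasi-affine when Y has a cover by
affine opens V_i whose preimages f⁻¹(V_i) are quasi-affine schemes (quasi-compact open subschemes of
affine schemes; equivalently quasi-compact with X → Spec Γ(X, O_X) an immersion). If Y is affine and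
f is quasi-affine in this sense, then X is a quasi-affine scheme. -/
theorem result {X Y : Scheme.{u}} [IsAffine Y]
    (f : X ⟶ Y) {ι : Type u} (V : ι → Y.Opens) (hV : iSup V = ⊤) (hVa : ∀ i, IsAffineOpen (V i))
    (hq : ∀ i, Scheme.IsQuasiAffine (↑(f ⁻¹ᵁ V i) : Scheme.{u})) :
    X.IsQuasiAffine := by
  have hcov : (Set.univ : Set ↥Y) ⊆ ⋃ i, (V i : Set ↥Y) := by
    intro y _
    have : y ∈ iSup V := by rw [hV]; trivial
    simpa using this
  obtain ⟨t, ht⟩ := isCompact_univ.elim_finite_subcover (fun i => (V i : Set ↥Y)) (fun i => (V i).2) hcov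
  let eq := t.equivFin
  refine isQuasiAffine_of_std_fpqc f (fun j => (↑(V (eq.symm j).1) : Scheme.{u}))
    (fun j => (↑(f ⁻¹ᵁ V (eq.symm j).1) : Scheme.{u})) (fun j => (V (eq.symm j).1).ι)
    (fun j => f ∣_ (V (eq.symm j).1)) (fun j => (f ⁻¹ᵁ V (eq.symm j).1).ι)
    (fun j => (isPullback_morphismRestrict f (V (eq.symm j).1)).flip) (fun j => hVa _) (fun j => inferInstance)
    (fun z => ?_) (fun j => hq _)
  obtain ⟨i, hi, hzi⟩ := Set.mem_iUnion₂.1 (ht (Set.mem_univ z))
  refine ⟨eq ⟨i, hi⟩, ?_⟩
  rw [Scheme.Opens.range_ι, Equiv.symm_apply_apply]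
  exact hzi

end Groth.Agent.S10967
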