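import Groth.Statements.S10973
import Mathlib
import Groth.Agent.Lib.Helper27.FunFld2
open Groth.Agent.Lib.Helper27.FF

set_option autoImplicit false
open FunFld

namespace Groth.Agent.S10973

/-- Two nonzero elements of a function field of one variable with the same principal divisor differ by a
constant multiple. -/
theorem result (k K : Type*) [Field k] [Field K] [Algebra k K]
    (hK : FunFld.IsFunctionField k K) (x y : K) (hx : x ≠ 0) (hy : y ≠ 0)
    (h : ∀ P : FunFld.Place k K, P.ord x = P.ord y) : ∃ c : k, x = c • y := by
  have hz0 : x / y ≠ 0 := div_ne_zero hx hy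
  have hval : ∀ P : FunFld.Place k K, P.1 (x / y) = 1 := by
    intro P
    rw [map_div₀, val_eq_exp_neg_ord P hx, val_eq_exp_neg_ord P hy, h P]
    exact div_self WithZero.exp_ne_zero
  have hmem : x / y ∈ Set.range (algebraMap k K) := by
    by_contra hnot
    have hxt : Transcendental k (x / y) := transcendental_of_not_mem_range hK hnot
    obtain ⟨P, hP⟩ := exists_place_val_lt_one hK hxt
    rw [hval P] at hP
    exact lt_irrefl _ hP
  obtain ⟨c, hc⟩ := hmem
  refine ⟨c, ?_⟩
  rw [Algebra.smul_def, hc, div_mul_cancel₀ _ hy]

end Groth.Agent.S10973
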