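import Groth.Statements.S10981
-- import your own Groth.Agent.* helpers here
import Mathlib
import Groth.Agent.Lib.Helper12.FunFldFin

set_option autoImplicit false
open FunFld

namespace Groth.Agent.S10981

/-- Let `P` be a place of a function field of one variable `K/k` and let `K'` be a field of finite
degree over `K`, separable or not; then `O_P` has a module-finite integral closure in `K'`. -/
theorem result (k K : Type*) [Field k] [Field K] [Algebra k K]
    (hK : FunFld.IsFunctionField k K) (P : FunFld.Place k K) (K' : Type*) [Field K'] [Algebra K K']
    [FiniteDimensional K K'] [Algebra P.O K'] [IsScalarTower P.O K K'] :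
    Module.Finite P.O (integralClosure P.O K') := by
  classical
  obtain ⟨⟨x, -, hfd⟩, -⟩ := hK
  have hw1 : ∀ c : k, P.1 (algebraMap k K c) ≤ 1 := P.2.1
  have hsurj : Function.Surjective P.1 := P.2.2
  have hN : Groth.Agent.Lib.Helper12.N2.N2' P.1.valuationSubring := by
    by_cases hx : P.1 x ≤ 1
    · haveI := hfd
      exact Groth.Agent.Lib.Helper12.FunFldFin.N2'_valuationSubring P.1 hw1 hsurj x hx
    · have hx' : P.1 x⁻¹ ≤ 1 := by
        rw [map_inv₀]
        exact inv_le_one_of_one_le₀ (le_of_lt (not_le.1 hx))
      have heq : IntermediateField.adjoin k ({x⁻¹} : Set K) =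
          IntermediateField.adjoin k ({x} : Set K) := by
        apply le_antisymm
        · rw [IntermediateField.adjoin_simple_le_iff]
          exact inv_mem (IntermediateField.mem_adjoin_simple_self k x)
        · rw [IntermediateField.adjoin_simple_le_iff]
          have := inv_mem (IntermediateField.mem_adjoin_simple_self k x⁻¹)
          rwa [inv_inv] at this
      haveI : FiniteDimensional (IntermediateField.adjoin k ({x⁻¹} : Set K)) K := by
        rw [heq]; exact hfd
      exact Groth.Agent.Lib.Helper12.FunFldFin.N2'_valuationSubring P.1 hw1 hsurj x⁻¹ hx'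
  have hinj : Function.Injective (algebraMap P.O K') := by
    rw [IsScalarTower.algebraMap_eq P.O K K']
    exact (algebraMap K K').injective.comp Subtype.val_injective
  have hfg : Groth.Agent.Lib.Helper12.N2.FinGen P.O K' :=
    Groth.Agent.Lib.Helper12.N2.finGen_of_finiteDimensional _ K K'
  exact Groth.Agent.Lib.Helper12.N2Univ.finite_integralClosure_of_N2' hN K' hinj hfg

end Groth.Agent.S10981
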