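import Groth.Statements.S11001
import Groth.Agent.Lib.Helper27.Geo3
open Groth.Agent.Lib.Helper27.Geo

set_option autoImplicit false
universe u v
open FunFld

namespace Groth.Agent.S11001

/-- For a geometric function field of one variable `K/k` of characteristic `p > 0`, `[K : kK^p] = p`. -/
theorem result (k : Type u) (K : Type v) [Field k] [Field K] [Algebra k K] (p : ℕ) [Fact p.Prime] [CharP K p]
    (hK : FunFld.IsFunctionField k K) (hg : FunFld.IsGeometric k K) :
    Module.finrank (IntermediateField.adjoin k (Set.range fun y : K => y ^ p)) K = p := by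
  obtain ⟨x, hx, hsep⟩ := exists_separating hK hg
  have htop := adjoin_kKp_eq_top_of_isSeparable (k := k) p x
  have hxF : x ∉ IntermediateField.adjoin k (Set.range fun y : K => y ^ p) := fun h =>
    (kaehler_aux x hx).2 (derivation_eq_zero_of_mem_kKp p (KaehlerDifferential.D k K) h)
  have h := finrank_adjoin_simple_of_pow_mem p (pow_mem_kKp p x) hxF
  rw [htop] at h
  rwa [IntermediateField.finrank_top'] at h

end Groth.Agent.S11001
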