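import Groth.Statements.S11002
import Groth.Agent.Lib.Helper27.Geo4
open Groth.Agent.Lib.Helper27.Geo

set_option autoImplicit false
universe u v
open FunFld

namespace Groth.Agent.S11002

/-- In a geometric function field of one variable of characteristic `p > 0`, `x ∈ kK^p` iff `dx = 0` in
`Ω_{K/k}` iff `x` is not a separating variable (`K/k(x)` not separable algebraic). -/
theorem result (k : Type u) (K : Type v) [Field k] [Field K] [Algebra k K] (p : ℕ) [Fact p.Prime] [CharP K p]
    (hK : FunFld.IsFunctionField k K) (hg : FunFld.IsGeometric k K) (x : K) :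
    (x ∈ IntermediateField.adjoin k (Set.range fun y : K => y ^ p) ↔ KaehlerDifferential.D k K x = 0) ∧
    (x ∈ IntermediateField.adjoin k (Set.range fun y : K => y ^ p) ↔
      ¬ Algebra.IsSeparable (IntermediateField.adjoin k ({x} : Set K)) K) := by
  have hp : Fact p.Prime := inferInstance
  have A : x ∈ IntermediateField.adjoin k (Set.range fun y : K => y ^ p) →
      KaehlerDifferential.D k K x = 0 :=
    derivation_eq_zero_of_mem_kKp p (KaehlerDifferential.D k K)
  have B : x ∉ IntermediateField.adjoin k (Set.range fun y : K => y ^ p) →
      Algebra.IsSeparable (IntermediateField.adjoin k ({x} : Set K)) K :=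
    isSeparable_of_not_mem_kKp p hK hg
  have C : Algebra.IsSeparable (IntermediateField.adjoin k ({x} : Set K)) K →
      KaehlerDifferential.D k K x ≠ 0 := by
    intro hsep
    have hxt : Transcendental k x := by
      intro halg
      obtain ⟨⟨x₀, hx₀, _⟩, _⟩ := hK
      apply hx₀
      have h1 : Algebra.IsAlgebraic k (IntermediateField.adjoin k ({x} : Set K)) :=
        IntermediateField.isAlgebraic_adjoin_simple halg.isIntegral
      have h2 : Algebra.IsAlgebraic (IntermediateField.adjoin k ({x} : Set K)) K := inferInstance
      exact (Algebra.IsAlgebraic.trans k (IntermediateField.adjoin k ({x} : Set K)) K).isAlgebraic x₀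
    exact (kaehler_aux x hxt).2
  exact ⟨⟨A, fun h0 => by_contra fun hx => C (B hx) h0⟩,
    ⟨fun hx hsep => C hsep (A hx), fun hns => by_contra fun hx => hns (B hx)⟩⟩

end Groth.Agent.S11002
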