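import Groth.Statements.S11007
import Groth.Agent.Lib.Helper27.Geo3
open Groth.Agent.Lib.Helper27.Geo

set_option autoImplicit false
universe u v
open FunFld

namespace Groth.Agent.S11007

/-- In a geometric function field of one variable of characteristic `p > 0`, `kK^p` is the only
intermediate field over which `K` is purely inseparable of degree `p`. The companion assertion about
the natural map on Kähler differentials is not stated. -/
theorem result (k : Type u) (K : Type v) [Field k] [Field K] [Algebra k K] (p : ℕ) [Fact p.Prime] [CharP K p]
    (hK : FunFld.IsFunctionField k K) (hg : FunFld.IsGeometric k K) (K₀ : IntermediateField k K) :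
    (IsPurelyInseparable K₀ K ∧ Module.finrank K₀ K = p) ↔ K₀ = IntermediateField.adjoin k (Set.range fun y : K => y ^ p) := by
  have hp : Fact p.Prime := inferInstance
  have hFrank := finrank_kKp (k := k) (K := K) p hK hg
  constructor
  · rintro ⟨hpi, hrank⟩
    have hfd : FiniteDimensional K₀ K := Module.finite_of_finrank_pos (hrank ▸ hp.out.pos)
    have hexp : ExpChar K₀ p := by
      have : CharP K₀ p := (algebraMap K₀ K).charP_iff_charP p |>.mpr inferInstance
      exact ExpChar.prime hp.out
    have hle : IntermediateField.adjoin k (Set.range fun y : K => y ^ p) ≤ K₀ := by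
      rw [IntermediateField.adjoin_le_iff]
      rintro _ ⟨y, rfl⟩
      obtain ⟨n, a, hmin⟩ := IsPurelyInseparable.minpoly_eq_X_pow_sub_C K₀ p y
      have hdeg : (minpoly K₀ y).natDegree ≤ p := hrank ▸ minpoly.natDegree_le y
      rw [hmin, Polynomial.natDegree_X_pow_sub_C] at hdeg
      have hn : n ≤ 1 := by
        by_contra hcon
        rw [not_le] at hcon
        have h2 : p ^ 2 ≤ p ^ n := Nat.pow_le_pow_right hp.out.pos hcon
        have h3 : p < p ^ 2 := by
          have := hp.out.one_lt
          nlinarith
        omega
      have hroot : Polynomial.aeval y (minpoly K₀ y) = 0 := minpoly.aeval _ _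
      rw [hmin] at hroot
      simp only [map_sub, map_pow, Polynomial.aeval_X, Polynomial.aeval_C, sub_eq_zero] at hroot
      interval_cases n
      · simp only [pow_zero, pow_one] at hroot
        show y ^ p ∈ K₀
        rw [hroot]
        exact pow_mem a.2 p
      · simp only [pow_one] at hroot
        show y ^ p ∈ K₀
        rw [hroot]
        exact a.2
    have hfdF : FiniteDimensional (IntermediateField.adjoin k (Set.range fun y : K => y ^ p)) K :=
      Module.finite_of_finrank_pos (by rw [hFrank]; exact hp.out.pos)
    exact (IntermediateField.eq_of_le_of_finrank_eq' hle (hFrank.trans hrank.symm)).symm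
  · rintro rfl
    refine ⟨?_, hFrank⟩
    have hexp : ExpChar (IntermediateField.adjoin k (Set.range fun y : K => y ^ p)) p := by
      have : CharP (IntermediateField.adjoin k (Set.range fun y : K => y ^ p)) p :=
        (algebraMap (IntermediateField.adjoin k (Set.range fun y : K => y ^ p)) K).charP_iff_charP p
          |>.mpr inferInstance
      exact ExpChar.prime hp.out
    rw [isPurelyInseparable_iff_pow_mem _ p]
    intro y
    exact ⟨1, ⟨⟨y ^ p, pow_mem_kKp p y⟩, by simp⟩⟩

end Groth.Agent.S11007
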