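import Groth.Statements.S11010
import Groth.Agent.Lib.Helper27.Geo8
open Groth.Agent.Lib.Helper27

set_option autoImplicit false
universe u v
open FunFld

namespace Groth.Agent.S11010

/-- A finite separable extension `K'/k'` of a geometric function field of one variable `K/k` (with `k'`
the constant field of `K'`) is again geometric. (The published statement has no separability
hypothesis on `K'/K`; for `k = 𝔽_p(s,t)`, `K = k(x)` and `K' = K(y)` with `y^p = s x^p + t`, the
field `k` is algebraically closed in `K'` yet `k(s^{1/p}, t^{1/p}) ⊗_k K'` has nonzero nilpotents,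
so `K'/K` is taken separable here.) -/
theorem result (k k' : Type u) (K K' : Type v) [Field k] [Field k'] [Field K] [Field K']
    [Algebra k k'] [Algebra k K] [Algebra K K'] [Algebra k' K'] [Algebra k K']
    [IsScalarTower k k' K'] [IsScalarTower k K K'] [FiniteDimensional K K'] [Algebra.IsSeparable K K']
    (hK : FunFld.IsFunctionField k K) (hg : FunFld.IsGeometric k K)
    (hK' : FunFld.IsFunctionField k' K') : FunFld.IsGeometric k' K' := by
  obtain ⟨x₀, hx₀, hsep⟩ := Geo.exists_separating hK hg
  haveI := hsep
  haveI : Algebra.IsSeparable (IntermediateField.adjoin k ({x₀} : Set K)) K' :=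
    Algebra.IsSeparable.trans (IntermediateField.adjoin k ({x₀} : Set K)) K K'
  have hle : ∀ z : IntermediateField.adjoin k ({x₀} : Set K),
      algebraMap (IntermediateField.adjoin k ({x₀} : Set K)) K' z ∈
        IntermediateField.adjoin k' ({algebraMap K K' x₀} : Set K') := by
    rintro ⟨z, hz⟩
    show algebraMap K K' z ∈ _
    induction hz using IntermediateField.adjoin_induction with
    | mem w hw' =>
      rw [Set.mem_singleton_iff] at hw'
      rw [hw']
      exact IntermediateField.mem_adjoin_simple_self k' _
    | algebraMap c =>
      rw [← IsScalarTower.algebraMap_apply k K K', IsScalarTower.algebraMap_apply k k' K']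
      exact IntermediateField.algebraMap_mem _ _
    | add a b _ _ ha hb =>
      rw [map_add]
      exact add_mem ha hb
    | inv a _ ha =>
      rw [map_inv₀]
      exact inv_mem ha
    | mul a b _ _ ha hb =>
      rw [map_mul]
      exact mul_mem ha hb
  let j : IntermediateField.adjoin k ({x₀} : Set K) →+*
      IntermediateField.adjoin k' ({algebraMap K K' x₀} : Set K') :=
    (algebraMap (IntermediateField.adjoin k ({x₀} : Set K)) K').codRestrict
      (IntermediateField.adjoin k' ({algebraMap K K' x₀} : Set K')) hle
  letI : Algebra (IntermediateField.adjoin k ({x₀} : Set K))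
      (IntermediateField.adjoin k' ({algebraMap K K' x₀} : Set K')) := j.toAlgebra
  haveI : IsScalarTower (IntermediateField.adjoin k ({x₀} : Set K))
      (IntermediateField.adjoin k' ({algebraMap K K' x₀} : Set K')) K' :=
    IsScalarTower.of_algebraMap_eq (fun _ => rfl)
  haveI : Algebra.IsSeparable (IntermediateField.adjoin k' ({algebraMap K K' x₀} : Set K')) K' :=
    Algebra.isSeparable_tower_top_of_isSeparable (IntermediateField.adjoin k ({x₀} : Set K))
      (IntermediateField.adjoin k' ({algebraMap K K' x₀} : Set K')) K'
  exact Geo.isGeometric_of_separating hK' (algebraMap K K' x₀)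

end Groth.Agent.S11010
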