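import Groth.Statements.S11013
import Mathlib
import Groth.Agent.Lib.Helper27.FFExt7
open Groth.Agent.Lib.Helper27.FF

set_option autoImplicit false
open FunFld

namespace Groth.Agent.S11013

/-- In a finite Galois extension `K'/K` of a geometric function field of one variable, the Galois group
acts transitively on the places of `K'` above a given place of `K`. -/
theorem result (k K K' : Type*) [Field k] [Field K] [Field K'] [Algebra k K] [Algebra K K'] [Algebra k K']
    [IsScalarTower k K K'] [FiniteDimensional K K'] (hK : FunFld.IsFunctionField k K) (hg : FunFld.IsGeometric k K) [IsGalois K K']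
    (Q₁ Q₂ : FunFld.Place k K')
    (h : (Q₁.1.comap (algebraMap K K')).IsEquiv (Q₂.1.comap (algebraMap K K'))) :
    ∃ σ : K' ≃ₐ[K] K', Q₁.1.comap (σ : K' →+* K') = Q₂.1 := by
  obtain ⟨P, e, he⟩ := exists_isOverWith hK Q₁
  have h₂ : FunFld.IsOver Q₂ P := isOver_of_isEquiv hK ⟨e, he⟩ h
  obtain ⟨σ, hσ⟩ := exists_actP_eq hK ⟨e, he⟩ h₂
  refine ⟨σ, ?_⟩
  rw [← hσ]
  ext z
  rfl

end Groth.Agent.S11013
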