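import Groth.Statements.S11016
import Mathlib
import Groth.Agent.Lib.Helper27.FunFld8
open Groth.Agent.Lib.Helper27.FF

set_option autoImplicit false
open FunFld

namespace Groth.Agent.S11016

/-- `L(D) ≠ 0` iff there is an effective divisor linearly equivalent to `D`. -/
theorem result (k K : Type*) [Field k] [Field K] [Algebra k K]
    (hK : FunFld.IsFunctionField k K) (D : FunFld.Divisor k K) :
    FunFld.L D ≠ ⊥ ↔ ∃ x : K, x ≠ 0 ∧ 0 ≤ D + FunFld.div k x := by
  constructor
  · intro h
    obtain ⟨x, hx, hx0⟩ := (Submodule.ne_bot_iff _).mp h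
    exact ⟨x, hx0, le_div_of_mem_L' hK hx0 hx⟩
  · rintro ⟨x, hx0, hx⟩
    rw [Submodule.ne_bot_iff]
    refine ⟨x, ?_, hx0⟩
    intro P
    rw [val_eq_exp_neg_div' hK hx0, WithZero.exp_le_exp]
    have := hx P
    rw [Finsupp.add_apply] at this
    have h0 : (0 : FunFld.Divisor k K) P = 0 := rfl
    rw [h0] at this
    linarith

end Groth.Agent.S11016
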