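import Groth.Statements.S11017
import Mathlib

set_option autoImplicit false
open FunFld

namespace Groth.Agent.S11017

/-- For a Weil differential `ω` with divisor `C`, `ord_P [ω] ≥ e` iff `ω` kills every repartition
concentrated at `P` with `P`-component of order at least `-e`. -/
theorem result (k K : Type*) [Field k] [Field K] [Algebra k K] (ω : Module.Dual k (FunFld.adele k K)) (C : FunFld.Divisor k K) (hω : FunFld.IsDivOf ω C)
    (P : FunFld.Place k K) (e : ℤ) :
    e ≤ C P ↔ ∀ (a : FunFld.Place k K → K) (ha : a ∈ FunFld.adele k K),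
      (∀ Q, Q ≠ P → a Q = 0) → P.1 (a P) ≤ WithZero.exp e → ω ⟨a, ha⟩ = 0 := by
  classical
  constructor
  · intro he a ha hconc hP
    have hC : ω ∈ FunFld.WD C := (hω C).mpr le_rfl
    rw [FunFld.WD, Submodule.mem_dualAnnihilator] at hC
    apply hC
    rw [FunFld.ADK, Submodule.mem_comap]
    refine Submodule.mem_sup_left ?_
    intro Q
    show Q.1 (a Q) ≤ _
    by_cases hQ : Q = P
    · subst hQ
      exact hP.trans (WithZero.exp_le_exp.mpr he)
    · rw [hconc Q hQ, map_zero]
      exact zero_le
  · intro h
    by_contra hlt
    push Not at hlt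
    -- E := C with value e at P
    let E : FunFld.Divisor k K := C + Finsupp.single P (e - C P)
    have hEP : E P = e := by simp [E]
    have hEQ : ∀ Q, Q ≠ P → E Q = C Q := by
      intro Q hQ
      simp [E, Finsupp.single_apply, Ne.symm hQ]
    have hE : ω ∈ FunFld.WD E := by
      rw [FunFld.WD, Submodule.mem_dualAnnihilator]
      intro a ha
      rw [FunFld.ADK, Submodule.mem_comap] at ha
      obtain ⟨b, hb, z, ⟨y, rfl⟩, hbz⟩ := Submodule.mem_sup.mp ha
      -- b'' concentrated at P
      let b2 : FunFld.Place k K → K := fun Q => if Q = P then b P else 0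
      let b1 : FunFld.Place k K → K := fun Q => if Q = P then 0 else b Q
      have hb12 : b = b1 + b2 := by
        funext Q
        by_cases hQ : Q = P
        · subst hQ; simp [b1, b2]
        · simp [b1, b2, hQ]
      have hb2ad : b2 ∈ FunFld.adele k K := by
        show ∀ᶠ Q : FunFld.Place k K in Filter.cofinite, Q.1 (b2 Q) ≤ 1
        rw [Filter.eventually_cofinite]
        refine (Set.finite_singleton P).subset ?_
        intro Q hQ
        by_contra hne
        apply hQ
        have : b2 Q = 0 := by simp [b2, show Q ≠ P from hne]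
        rw [this, map_zero]
        exact zero_le
      have hb2 : ω ⟨b2, hb2ad⟩ = 0 := by
        apply h b2 hb2ad
        · intro Q hQ
          simp [b2, hQ]
        · have := hb P
          simp only [b2, if_true]
          rw [← hEP]
          exact this
      have hb1C : b1 ∈ FunFld.AD C := by
        intro Q
        show Q.1 (b1 Q) ≤ _
        by_cases hQ : Q = P
        · simp [b1, hQ]
        · simp only [b1, if_neg hQ]
          rw [← hEQ Q hQ]
          exact hb Q
      have hC : ω ∈ FunFld.WD C := (hω C).mpr le_rfl
      rw [FunFld.WD, Submodule.mem_dualAnnihilator] at hC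
      have hrest : (a - ⟨b2, hb2ad⟩ : FunFld.adele k K) ∈ FunFld.ADK C := by
        rw [FunFld.ADK, Submodule.mem_comap]
        refine Submodule.mem_sup.mpr ⟨b1, hb1C, FunFld.diag k K y, ⟨y, rfl⟩, ?_⟩
        show b1 + FunFld.diag k K y = (a : FunFld.Place k K → K) - b2
        have hbz' : b + FunFld.diag k K y = (a : FunFld.Place k K → K) := hbz
        have hb1eq : b1 = b - b2 := eq_sub_of_add_eq hb12.symm
        rw [← hbz', hb1eq]
        abel
      have h3 := hC _ hrest
      rw [map_sub, hb2, sub_zero] at h3
      exact h3
    have hle : E ≤ C := (hω E).mp hE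
    have := hle P
    rw [hEP] at this
    exact absurd this (not_le.mpr hlt)

end Groth.Agent.S11017
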