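import Groth.Statements.S11019
import Groth.Agent.Lib.Helper27.Hyper1
open Groth.Agent.Lib.Helper27

set_option autoImplicit false
open FunFld

namespace Groth.Agent.S11019

/-- For `char k ≠ 2` and `K = k(x, y)` with `x` transcendental and `y² = f(x)`, `f` squarefree of degree
`≥ 1`: the field `k` is algebraically closed in `K` (whatever in `K` is algebraic over `k` lies in
`k`), and `K/k` is a function field of one variable. -/
theorem result (k K : Type*) [Field k] [Field K] [Algebra k K] (h2 : ringChar k ≠ 2) (x y : K) (hx : Transcendental k x)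
    (hxy : IntermediateField.adjoin k ({x, y} : Set K) = ⊤)
    (f : Polynomial k) (hf : Squarefree f) (hd : 1 ≤ f.natDegree)
    (heq : y ^ 2 = Polynomial.aeval x f) : FunFld.IsFunctionField k K := by
  classical
  have h2' : (2 : k) ≠ 0 := Ring.two_ne_zero h2
  let e := RatFunc.algEquivOfTranscendental x hx
  let ι : RatFunc k →ₐ[k] K := (IntermediateField.val (IntermediateField.adjoin k {x})).comp e.toAlgHom
  letI : Algebra (RatFunc k) K := ι.toRingHom.toAlgebra
  haveI : IsScalarTower k (RatFunc k) K := IsScalarTower.of_algebraMap_eq (fun c => (ι.commutes c).symm)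
  have hιX : algebraMap (RatFunc k) K RatFunc.X = x := by
    show ((e RatFunc.X : IntermediateField.adjoin k {x}) : K) = x
    rw [RatFunc.algEquivOfTranscendental_X]
  have heq' : y ^ 2 = algebraMap (RatFunc k) K (algebraMap (Polynomial k) (RatFunc k) f) := by
    rw [heq]
    show _ = ((e (algebraMap (Polynomial k) (RatFunc k) f) : IntermediateField.adjoin k {x}) : K)
    rw [RatFunc.algEquivOfTranscendental_algebraMap]
    rw [← IntermediateField.AdjoinSimple.algebraMap_gen k x, Polynomial.aeval_algebraMap_apply]
    rfl
  have hyR := Hyper.not_mem_range_of_sq y f hf hd heq'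
  -- `K = R(y)`
  have htop : IntermediateField.adjoin (RatFunc k) ({y} : Set K) = ⊤ := by
    apply IntermediateField.restrictScalars_injective k
    rw [IntermediateField.restrictScalars_top, eq_top_iff, ← hxy, IntermediateField.adjoin_le_iff]
    intro v hv
    rcases hv with rfl | rfl
    · show v ∈ IntermediateField.adjoin (RatFunc k) ({y} : Set K)
      rw [← hιX]
      exact IntermediateField.algebraMap_mem _ _
    · exact IntermediateField.subset_adjoin _ _ rfl
  have hyint : IsIntegral (RatFunc k) y := by
    refine ⟨Polynomial.X ^ 2 - Polynomial.C (algebraMap (Polynomial k) (RatFunc k) f),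
      Polynomial.monic_X_pow_sub_C _ two_ne_zero, ?_⟩
    simp [heq']
  have hrank : Module.finrank (RatFunc k) K = 2 := by
    rw [← IntermediateField.finrank_top', ← htop, IntermediateField.adjoin.finrank hyint]
    have hle : (minpoly (RatFunc k) y).natDegree ≤ 2 := by
      have hdvd : minpoly (RatFunc k) y ∣
          Polynomial.X ^ 2 - Polynomial.C (algebraMap (Polynomial k) (RatFunc k) f) :=
        minpoly.dvd _ _ (by simp [heq'])
      have := Polynomial.natDegree_le_of_dvd hdvd
        (Polynomial.monic_X_pow_sub_C _ two_ne_zero).ne_zero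
      rwa [Polynomial.natDegree_X_pow_sub_C] at this
    have hge := (minpoly.two_le_natDegree_iff hyint).mpr (by simpa using hyR)
    omega
  refine ⟨⟨x, hx, ?_⟩, fun z hz => Hyper.constants_of_quadratic h2' y f hf hd heq' hrank z hz⟩
  have h1 : Module.finrank (RatFunc k) K = Module.finrank (IntermediateField.adjoin k {x}) K :=
    Algebra.finrank_eq_of_equiv_equiv e.toRingEquiv (RingEquiv.refl K) (by
      ext r
      rfl)
  exact Module.finite_of_finrank_pos (by rw [← h1, hrank]; norm_num)

end Groth.Agent.S11019
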