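import Groth.Statements.S11024
-- import your own Groth.Agent.* helpers here
import Groth.Agent.Lib.Helper23.Ram4

set_option autoImplicit false
open FunFld

namespace Groth.Agent.S11024



/-- The quotient `G₁/G₂` of the first two ramification groups of a place in a finite Galois extension of
a geometric function field of one variable is cyclic. (Residue field of `Q` assumed separable over
`k`, stronger than the published `F_Q/F_P` separable.) -/
theorem result (k K K' : Type*) [Field k] [Field K] [Field K'] [Algebra k K] [Algebra K K'] [Algebra k K']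
    [IsScalarTower k K K'] [FiniteDimensional K K'] (hK : FunFld.IsFunctionField k K) (hg : FunFld.IsGeometric k K) [IsGalois K K'] (Q : FunFld.Place k K') [Algebra.IsSeparable k (IsLocalRing.ResidueField Q.O)] :
    ∃ σ₀ : K' ≃ₐ[K] K', (∀ x : K', Q.1 x ≤ 1 → Q.1 (σ₀ x - x) ≤ WithZero.exp (-(1 : ℤ))) ∧
      ∀ σ : K' ≃ₐ[K] K', (∀ x : K', Q.1 x ≤ 1 → Q.1 (σ x - x) ≤ WithZero.exp (-(1 : ℤ))) →
        ∃ n : ℕ, (∀ x : K', Q.1 x ≤ 1 → Q.1 (((σ₀ ^ n)⁻¹ * σ) x - x) ≤ WithZero.exp (-(2 : ℤ))) := by
  obtain ⟨σ₀, h0, h1⟩ := Groth.Agent.Lib.Helper23.Ram.cyclic_quotient (K := K) Q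
  refine ⟨σ₀, ?_, ?_⟩
  · intro x hx
    have := h0 x hx
    simpa using this
  · intro σ hσ
    obtain ⟨n, hn⟩ := h1 σ (by
      intro x hx
      have := hσ x hx
      simpa using this)
    refine ⟨n, ?_⟩
    intro x hx
    have := hn x hx
    simpa using this

end Groth.Agent.S11024
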