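import Groth.Statements.S11026
import Groth.Agent.Lib.Helper27.Geo7
open Groth.Agent.Lib.Helper27

set_option autoImplicit false
universe u v
open FunFld

namespace Groth.Agent.S11026

/-- A weakly separable finite extension `K'/k'` of a geometric function field `K/k` (the map `Ω_{K/k} →
Ω_{K'/k'}` injective) is separable over the compositum `k'K`. -/
theorem result (k k' : Type u) (K K' : Type v) [Field k] [Field k'] [Field K] [Field K']
    [Algebra k k'] [Algebra k K] [Algebra K K'] [Algebra k' K'] [Algebra k K']
    [IsScalarTower k k' K'] [IsScalarTower k K K'] [FiniteDimensional K K']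
    (hK : FunFld.IsFunctionField k K) (hg : FunFld.IsGeometric k K)
    (hK' : FunFld.IsFunctionField k' K') (hg' : FunFld.IsGeometric k' K')
    (hw : Function.Injective (KaehlerDifferential.map k k' K K')) :
    Algebra.IsSeparable (IntermediateField.adjoin K (Set.range (algebraMap k' K'))) K' := by
  obtain ⟨x₀, hx₀, hsep⟩ := Geo.exists_separating hK hg
  have hD := (Geo.kaehler_aux x₀ hx₀).2
  set x' : K' := algebraMap K K' x₀ with hx'
  have hD' : KaehlerDifferential.D k' K' x' ≠ 0 := by
    intro h
    apply hD
    apply hw
    rw [KaehlerDifferential.map_D, map_zero]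
    exact h
  haveI hsep' : Algebra.IsSeparable (IntermediateField.adjoin k' ({x'} : Set K')) K' :=
    Geo.isSeparable_of_D_ne_zero hK' hg' hD'
  set E := IntermediateField.adjoin K (Set.range (algebraMap k' K')) with hE
  have hle : ∀ z : IntermediateField.adjoin k' ({x'} : Set K'), (z : K') ∈ E := by
    rintro ⟨z, hz⟩
    show z ∈ E
    induction hz using IntermediateField.adjoin_induction with
    | mem w hw' =>
      rw [Set.mem_singleton_iff] at hw'
      rw [hw']
      exact E.algebraMap_mem x₀
    | algebraMap c => exact IntermediateField.subset_adjoin _ _ ⟨c, rfl⟩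
    | add a b _ _ ha hb => exact E.add_mem ha hb
    | inv a _ ha => exact E.inv_mem ha
    | mul a b _ _ ha hb => exact E.mul_mem ha hb
  let i : IntermediateField.adjoin k' ({x'} : Set K') →+* E :=
    (algebraMap (IntermediateField.adjoin k' ({x'} : Set K')) K').codRestrict E hle
  letI : Algebra (IntermediateField.adjoin k' ({x'} : Set K')) E := i.toAlgebra
  haveI : IsScalarTower (IntermediateField.adjoin k' ({x'} : Set K')) E K' :=
    IsScalarTower.of_algebraMap_eq (fun z => rfl)
  exact Algebra.isSeparable_tower_top_of_isSeparable (IntermediateField.adjoin k' ({x'} : Set K')) E K'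

end Groth.Agent.S11026
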