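import Groth.Statements.S11029
-- import your own Groth.Agent.* helpers here
import Groth.Agent.Lib.Helper23.Inert4

set_option autoImplicit false
open FunFld

namespace Groth.Agent.S11029



/-- For an intermediate field `E` of a finite Galois extension `K'/K` of a geometric function field of
one variable and a place `Q` of `K'`, `e(Q ∩ E | Q ∩ K) = 1` iff `E` lies in the inertia field `K₁`
of `Q`. (Residue field of `Q` assumed separable over `k`; the total ramification of `K'/K₁` is not
stated.) -/
theorem result (k K K' : Type*) [Field k] [Field K] [Field K'] [Algebra k K] [Algebra K K'] [Algebra k K']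
    [IsScalarTower k K K'] [FiniteDimensional K K'] (hK : FunFld.IsFunctionField k K) (hg : FunFld.IsGeometric k K) [IsGalois K K'] (Q : FunFld.Place k K') [Algebra.IsSeparable k (IsLocalRing.ResidueField Q.O)]
    (E : IntermediateField K K') :
    Set.range (Q.1.comap (algebraMap E K')) = Set.range (Q.1.comap (algebraMap K K')) ↔
      E ≤ IntermediateField.fixedField
        (((Q.O).inertiaSubgroup K).map ((Q.O).decompositionSubgroup K).subtype) := by
  classical
  haveI : IsScalarTower k E K' := IsScalarTower.of_algebraMap_eq (fun c => rfl)
  obtain ⟨P, e, he⟩ := Groth.Agent.Lib.Helper27.FF.exists_isOverWith hK Q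
  obtain ⟨P', e', he'⟩ := Groth.Agent.Lib.Helper23.Inert.exists_below_tower hK (E := E) Q
  have hcard := Groth.Agent.Lib.Helper23.Inert.card_inertia_map hK Q P e he
  have hcard' := Groth.Agent.Lib.Helper23.Inert.card_inf_fixingSubgroup hK Q E P' e' he'
  rw [Groth.Agent.Lib.Helper23.Inert.range_comap_eq he',
    Groth.Agent.Lib.Helper23.Inert.range_comap_eq he,
    Groth.Agent.Lib.Helper23.Inert.valRange_eq_iff, IntermediateField.le_iff_le]
  constructor
  · intro h
    have h1 : ((Q.O).inertiaSubgroup K).map ((Q.O).decompositionSubgroup K).subtype ⊓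
        E.fixingSubgroup =
        ((Q.O).inertiaSubgroup K).map ((Q.O).decompositionSubgroup K).subtype :=
      Subgroup.eq_of_le_of_card_ge inf_le_left (by rw [hcard, hcard', h])
    rw [← h1]
    exact inf_le_right
  · intro h
    rw [← hcard, ← hcard', inf_eq_left.mpr h]

end Groth.Agent.S11029
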