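import Groth.Statements.S11030
-- import your own Groth.Agent.* helpers here
import Groth.Agent.Lib.Helper23.Inert5
import Groth.Agent.Lib.Helper27.Geo5
import Groth.Agent.Lib.Helper27.Geo4

set_option autoImplicit false
universe u v
open FunFld

namespace Groth.Agent.S11030



/-- In a geometric function field of one variable, a local parameter at a place with separable residue
field is a separating variable: `dt ≠ 0` in `Ω_{K/k}`. (The duality isomorphism `Ω_K ≅ W_K` and the
order of `dt` at `P` are not stated.) -/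
theorem result (k : Type u) (K : Type v) [Field k] [Field K] [Algebra k K]
    (hK : FunFld.IsFunctionField k K) (hg : FunFld.IsGeometric k K) (P : FunFld.Place k K)
    [Algebra.IsSeparable k (IsLocalRing.ResidueField P.O)] (t : K) (ht : P.1 t = WithZero.exp (-1)) :
    KaehlerDifferential.D k K t ≠ 0 := by
  classical
  -- `t` is transcendental
  have htr : Transcendental k t := by
    intro halg
    obtain ⟨c, rfl⟩ := hK.2 t halg
    by_cases hc : c = 0
    · subst hc
      rw [map_zero, map_zero] at ht
      exact WithZero.exp_ne_zero ht.symm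
    · rw [Groth.Agent.Lib.Helper23.FF.val_const P hc] at ht
      have h1 : (WithZero.exp (-1 : ℤ) : WithZero (Multiplicative ℤ)) < 1 := by
        rw [← WithZero.exp_zero, WithZero.exp_lt_exp]; norm_num
      rw [← ht] at h1
      exact lt_irrefl _ h1
  have hfd : FiniteDimensional (IntermediateField.adjoin k ({t} : Set K)) K :=
    Groth.Agent.Lib.Helper23.FF.finiteDimensional_adjoin hK htr
  obtain ⟨p, hchar⟩ := CharP.exists K
  rcases CharP.char_is_prime_or_zero K p with hp | hp0
  swap
  · -- characteristic zero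
    subst hp0
    haveI : CharZero K := CharP.charP_to_charZero K
    haveI : CharZero (IntermediateField.adjoin k ({t} : Set K)) :=
      (algebraMap (IntermediateField.adjoin k ({t} : Set K)) K).charZero
    haveI : Algebra.IsSeparable (IntermediateField.adjoin k ({t} : Set K)) K := inferInstance
    exact (Groth.Agent.Lib.Helper27.Geo.kaehler_aux t htr).2
  -- characteristic p
  haveI : Fact p.Prime := ⟨hp⟩
  have hnot : t ∉ IntermediateField.adjoin k (Set.range fun y : K => y ^ p) := by
    intro htL
    obtain ⟨L, hL⟩ : ∃ L : IntermediateField k K,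
      L = IntermediateField.adjoin k (Set.range fun y : K => y ^ p) := ⟨_, rfl⟩
    rw [← hL] at htL
    have hpowL : ∀ y : K, y ^ p ∈ L := fun y => by
      rw [hL]; exact Groth.Agent.Lib.Helper27.Geo.pow_mem_kKp p y
    have hfr : Module.finrank L K = p := by
      rw [hL]; exact Groth.Agent.Lib.Helper27.Geo.finrank_kKp p hK hg
    have hfdL : FiniteDimensional L K :=
      Module.finite_of_finrank_pos (by rw [hfr]; exact hp.pos)
    have hLF : IsFunctionField k L :=
      Groth.Agent.Lib.Helper27.Geo.isFunctionField_intermediateField hK L ⟨t, htL, htr⟩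
    obtain ⟨PL, e, he⟩ := Groth.Agent.Lib.Helper27.FF.exists_isOverWith (K' := K) hLF P
    -- e = 1
    have he1 : e = 1 := by
      have h1 := he ⟨t, htL⟩
      have h2 : algebraMap L K ⟨t, htL⟩ = t := rfl
      rw [h2, ht] at h1
      have hepos := Groth.Agent.Lib.Helper27.FF.isOverWith_pos he
      have hv0 : PL.1 ⟨t, htL⟩ ≠ 0 := by
        intro h0
        rw [h0, zero_pow (by omega)] at h1
        exact WithZero.exp_ne_zero h1
      rw [← WithZero.exp_log hv0, ← WithZero.exp_nsmul, WithZero.exp_inj] at h1
      have h3 : (e : ℤ) * WithZero.log (PL.1 ⟨t, htL⟩) = -1 := by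
        rw [h1, nsmul_eq_mul]
      have h4 : (e : ℤ) ∣ ((1 : ℕ) : ℤ) := ⟨-WithZero.log (PL.1 ⟨t, htL⟩), by push_cast; linarith⟩
      exact Nat.dvd_one.mp (Int.natCast_dvd_natCast.mp h4)
    subst he1
    -- `P` is the only place above `PL`
    have hval : ∀ (Q' : Place k K) (e' : ℕ), IsOverWith Q' PL e' → ∀ x : K,
        (Q'.1 x ≤ 1 ↔ PL.1 ⟨x ^ p, hpowL x⟩ ≤ 1) := by
      intro Q' e' he' x
      rw [← Groth.Agent.Lib.Helper27.FF.isOverWith_val_le_one_iff he' ⟨x ^ p, hpowL x⟩]
      have h2 : algebraMap L K ⟨x ^ p, hpowL x⟩ = x ^ p := rfl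
      rw [h2, map_pow, pow_le_one_iff_of_nonneg zero_le hp.ne_zero]
    have huniq : ∀ Q' : Place k K, IsOver Q' PL ↔ Q' = P := by
      intro Q'
      constructor
      · rintro ⟨e', he'⟩
        apply Groth.Agent.Lib.Helper27.FF.place_eq_of_le_one_iff
        intro x
        rw [hval Q' e' he' x, hval P 1 he x]
      · rintro rfl
        exact ⟨1, he⟩
    have hsum := (Groth.Agent.Lib.Helper27.FF.sum_ramIdx_mul_deg (K' := K) hLF PL).2 {P}
      (fun Q' => by rw [Finset.mem_singleton, huniq])
    rw [Finset.sum_singleton, Groth.Agent.Lib.Helper27.FF.ramIdx_eq he, one_mul, hfr] at hsum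
    have hPdeg : 1 ≤ P.deg := Groth.Agent.Lib.Helper27.FF.one_le_deg' hK P
    have hdeg : P.deg = PL.deg :=
      Groth.Agent.Lib.Helper23.Inert.deg_eq_of_residue_pow he (by omega) p (by
        intro y hy
        refine ⟨⟨y ^ p, hpowL y⟩, (hval P 1 he y).mp hy, ?_⟩
        have h2 : algebraMap L K ⟨y ^ p, hpowL y⟩ = y ^ p := rfl
        rw [h2, sub_self, map_zero]
        exact zero_lt_one)
    rw [← hdeg] at hsum
    have hp2 := hp.two_le
    nlinarith
  haveI : Algebra.IsSeparable (IntermediateField.adjoin k ({t} : Set K)) K :=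
    Groth.Agent.Lib.Helper27.Geo.isSeparable_of_not_mem_kKp p hK hg hnot
  exact (Groth.Agent.Lib.Helper27.Geo.kaehler_aux t htr).2

end Groth.Agent.S11030
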