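import Groth.Statements.S11034
import Groth.Agent.Lib.Helper27.Hyper2
open Groth.Agent.Lib.Helper27

set_option autoImplicit false
open FunFld

namespace Groth.Agent.S11034

/-- For `char k ≠ 2` and `K = k(x, y)`, `y² = f(x)` with `f` squarefree, each irreducible factor `p` of
`f` has a unique place `P` of `K` above it, with `e(P|p) = 2`, `f(P|p) = 1` and `deg P = deg p`. The
zero divisor of `y` and the behaviour above the infinite place of `k(x)` are not stated. -/
theorem result (k K : Type*) [Field k] [Field K] (h2 : ringChar k ≠ 2) [Algebra k K]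
    [Algebra (RatFunc k) K] [IsScalarTower k (RatFunc k) K]
    (hdeg : Module.finrank (RatFunc k) K = 2) (y : K) (f : Polynomial k) (hf : Squarefree f)
    (hd : 1 ≤ f.natDegree)
    (heq : y ^ 2 = algebraMap (RatFunc k) K (algebraMap (Polynomial k) (RatFunc k) f))
    (p : Polynomial k) (hp : Irreducible p) (hpf : p ∣ f)
    (P₀ : FunFld.Place k (RatFunc k)) (hP₀ : P₀.1 (algebraMap (Polynomial k) (RatFunc k) p) < 1) :
    (∃! P : FunFld.Place k K, FunFld.IsOver P P₀) ∧
    ∀ P : FunFld.Place k K, FunFld.IsOver P P₀ → FunFld.IsOverWith P P₀ 2 ∧ P.deg = P₀.deg := by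
  have h2' : (2 : k) ≠ 0 := Ring.two_ne_zero h2
  obtain ⟨f₁, hf₁⟩ := hpf
  have hnd : ¬ p ∣ f₁ := by
    rintro ⟨c, hc⟩
    have : p * p ∣ f := ⟨c, by rw [hf₁, hc]; ring⟩
    exact hp.not_isUnit (hf p this)
  have hval : P₀.1 (algebraMap (Polynomial k) (RatFunc k) f) = WithZero.exp (-1) := by
    rw [hf₁, map_mul, map_mul, Rat.val_irreducible_eq P₀ hp hP₀,
      Rat.val_poly_eq_one_of_not_dvd P₀ hp hP₀ hnd, mul_one]
  have hodd : Odd (P₀.ord (algebraMap (Polynomial k) (RatFunc k) f)) := by
    unfold FunFld.Place.ord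
    rw [hval, WithZero.log_exp]
    simp
  exact Hyper.ramified_of_odd h2' y f hf hd heq hdeg P₀ hodd

end Groth.Agent.S11034
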