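import Groth.Statements.S11038
-- import your own Groth.Agent.* helpers here
import Groth.Agent.Lib.Helper23.FFZeta7

set_option autoImplicit false
open FunFld

namespace Groth.Agent.S11038



/-- `L_K(1) = h_K`, the class number, where `L_K(t) = (1 - t)(1 - q t) Z_K(t)` is the numerator of the
zeta function. -/
theorem result
    (k K : Type*) [Field k] [Finite k] [Field K] [Algebra k K]
    (hK : FunFld.IsFunctionField k K) (p : Polynomial ℤ)
    (hp : (p : PowerSeries ℤ) = FunFld.numerZ k K) :
    p.eval 1 = (FunFld.classNum k K : ℤ) := by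
  have hcoeff : ∀ n, p.coeff n = PowerSeries.coeff n (FunFld.numerZ k K) := by
    intro n
    rw [← hp, Polynomial.coeff_coe]
  have hdeg : p.natDegree < 2 * FunFld.genus k K + 1 := by
    by_contra hge
    rw [not_lt] at hge
    by_cases hp0 : p = 0
    · rw [hp0, Polynomial.natDegree_zero] at hge
      omega
    · have h1 : p.coeff p.natDegree ≠ 0 := by
        rw [Polynomial.coeff_natDegree]
        exact Polynomial.leadingCoeff_ne_zero.mpr hp0
      apply h1
      rw [hcoeff]
      exact Groth.Agent.Lib.Helper23.FF.coeff_numerZ_eq_zero hK (by omega)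
  rw [Polynomial.eval_eq_sum_range' hdeg]
  simp only [one_pow, mul_one, hcoeff]
  exact Groth.Agent.Lib.Helper23.FF.sum_coeff_numerZ hK

end Groth.Agent.S11038
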