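import Groth.Statements.S11042
-- import your own Groth.Agent.* helpers here
import Groth.Agent.S11040
import Groth.Agent.Lib.Helper23.FFHW18

set_option autoImplicit false
open FunFld

namespace Groth.Agent.S11042



/-- A function field of one variable of genus `g` over a finite field with `q` elements has `N` places
of degree one with `|N - q - 1| ≤ 2 g √q`. -/
theorem result
    (k K : Type*) [Field k] [Finite k] [Field K] [Algebra k K]
    (hK : FunFld.IsFunctionField k K) :
    |(Nat.card {P : FunFld.Place k K // P.deg = 1} : ℝ) - (Nat.card k : ℝ) - 1| ≤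
      2 * (FunFld.genus k K : ℝ) * Real.sqrt (Nat.card k : ℝ) := by
  obtain ⟨α, -, hα, hpair⟩ := Groth.Agent.S11040.result k K hK
  have hnorm := Groth.Agent.Lib.Helper23.FF.norm_eq_sqrt hK α hα hpair
  have h1 := Groth.Agent.Lib.Helper23.FF.Nw_eq hK α hα (j := 1) one_ne_zero
  rw [Groth.Agent.Lib.Helper23.FF.Nw_one hK] at h1
  simp only [pow_one] at h1
  have h2 : ((Nat.card {P : FunFld.Place k K // P.deg = 1} : ℝ) - (Nat.card k : ℝ) - 1 : ℝ) =
      -(∑ i, α i).re := by
    have h3 := congrArg Complex.re h1
    simp only [Complex.natCast_re, Complex.sub_re, Complex.add_re, Complex.one_re] at h3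
    linarith
  rw [h2, abs_neg]
  calc |(∑ i, α i).re| ≤ ‖∑ i, α i‖ := Complex.abs_re_le_norm _
    _ ≤ ∑ i, ‖α i‖ := norm_sum_le _ _
    _ = ∑ _i : Fin (2 * FunFld.genus k K), Real.sqrt (Nat.card k) :=
        Finset.sum_congr rfl (fun i _ => hnorm i)
    _ = 2 * (FunFld.genus k K : ℝ) * Real.sqrt (Nat.card k : ℝ) := by
        rw [Finset.sum_const, Finset.card_univ, Fintype.card_fin, nsmul_eq_mul]
        push_cast
        ring

end Groth.Agent.S11042
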