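import Groth.Statements.S11043
import Mathlib.RingTheory.Polynomial.Cyclotomic.Basic
import Mathlib.RingTheory.RootsOfUnity.Complex
import Mathlib.Tactic

set_option autoImplicit false
open FunFld

namespace Groth.Agent.S11043

theorem prod_pow_range (ω : ℂ) (m e : ℕ) (hω : ω ^ m = 1) (F : ℂ → ℂ) :
    ∏ j ∈ Finset.range (e * m), F (ω ^ j) = (∏ j ∈ Finset.range m, F (ω ^ j)) ^ e := by
  induction e with
  | zero => simp
  | succ e ih =>
    rw [Nat.succ_mul, Finset.prod_range_add, ih, pow_succ]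
    congr 1
    apply Finset.prod_congr rfl
    intro x _
    rw [pow_add, pow_mul', hω, one_pow, one_mul]

theorem prod_roots (ζ : ℂ) (m : ℕ) (hm : 0 < m) (hζ : IsPrimitiveRoot ζ m) (F : ℂ → ℂ) :
    ∏ θ ∈ Polynomial.nthRootsFinset m (1 : ℂ), F θ = ∏ j ∈ Finset.range m, F (ζ ^ j) := by
  haveI : NeZero m := ⟨hm.ne'⟩
  symm
  apply Finset.prod_bij (fun j _ => ζ ^ j)
  · intro j _
    rw [Polynomial.mem_nthRootsFinset hm, ← pow_mul, mul_comm, pow_mul, hζ.pow_eq_one, one_pow]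
  · intro i hi j hj hij
    exact hζ.pow_inj (Finset.mem_range.mp hi) (Finset.mem_range.mp hj) hij
  · intro ξ hξ
    rw [Polynomial.mem_nthRootsFinset hm] at hξ
    obtain ⟨i, hi, hiξ⟩ := hζ.eq_pow_of_pow_eq_one hξ
    exact ⟨i, Finset.mem_range.mpr hi, hiξ⟩
  · intro j _
    rfl

theorem complex_identity (n d : ℕ) (hn : 0 < n) (hd : 0 < d) (a : ℂ) :
    ((1 : ℂ) - a ^ (n * d / Nat.gcd n d)) ^ Nat.gcd n d =
      ∏ θ ∈ Polynomial.nthRootsFinset n (1 : ℂ), (1 - θ ^ d * a ^ d) := by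
  set e := Nat.gcd n d with he
  have he_pos : 0 < e := Nat.gcd_pos_of_pos_left d hn
  obtain ⟨n', hn'⟩ : e ∣ n := Nat.gcd_dvd_left n d
  have hn'_pos : 0 < n' := by
    rcases Nat.eq_zero_or_pos n' with h | h
    · rw [h, mul_zero] at hn'; omega
    · exact h
  have hdiv : n / e = n' := by rw [hn']; exact Nat.mul_div_cancel_left n' he_pos
  have hζ : IsPrimitiveRoot (Complex.exp (2 * Real.pi * Complex.I / n)) n :=
    Complex.isPrimitiveRoot_exp n hn.ne'
  set ζ := Complex.exp (2 * Real.pi * Complex.I / n) with hζdef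
  have hω : IsPrimitiveRoot (ζ ^ d) n' := by
    have h1 := IsPrimitiveRoot.orderOf (ζ ^ d)
    rw [orderOf_pow' ζ hd.ne', ← hζ.eq_orderOf, ← he, hdiv] at h1
    exact h1
  set b := a ^ d with hb
  rw [prod_roots ζ n hn hζ (fun θ => 1 - θ ^ d * b)]
  have h2 : ∏ j ∈ Finset.range n, (1 - (ζ ^ j) ^ d * b) =
      ∏ j ∈ Finset.range (e * n'), (fun ξ => 1 - ξ * b) ((ζ ^ d) ^ j) := by
    rw [← hn']
    apply Finset.prod_congr rfl
    intro j _
    simp only
    rw [← pow_mul, ← pow_mul, Nat.mul_comm j d]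
  rw [h2, prod_pow_range (ζ ^ d) n' e hω.pow_eq_one (fun ξ => 1 - ξ * b),
    ← prod_roots (ζ ^ d) n' hn'_pos hω (fun ξ => 1 - ξ * b),
    ← hω.pow_sub_pow_eq_prod_sub_mul 1 b hn'_pos, one_pow]
  congr 2
  rw [hb, ← pow_mul]
  congr 1
  rw [hn', mul_assoc, Nat.mul_div_cancel_left _ he_pos, mul_comm]

/-- For positive integers `n`, `d` with `e = gcd(n, d)`, in `ℂ[t]` one has `(1 - t^{nd/e})^e = ∏_{θⁿ =
1} (1 - (θ t)^d)`, the product over the complex `n`-th roots of unity. -/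
theorem result (n d : ℕ) (hn : 0 < n) (hd : 0 < d) :
    ((1 : Polynomial ℂ) - Polynomial.X ^ (n * d / Nat.gcd n d)) ^ Nat.gcd n d =
      ∏ θ ∈ Polynomial.nthRootsFinset n (1 : ℂ),
        (1 - Polynomial.C (θ ^ d) * Polynomial.X ^ d) := by
  apply Polynomial.funext
  intro a
  simp only [Polynomial.eval_pow, Polynomial.eval_sub, Polynomial.eval_one, Polynomial.eval_X,
    Polynomial.eval_prod, Polynomial.eval_mul, Polynomial.eval_C]
  exact complex_identity n d hn hd a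

end Groth.Agent.S11043
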