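import Groth.Statements.S11045
import Mathlib.Data.Set.Card
import Mathlib.Tactic

set_option autoImplicit false
open FunFld

namespace Groth.Agent.S11045

variable {k K : Type*} [Field k] [Field K] [Algebra k K]

/-- `m` is a pole number at `P`: some function has a pole of exact order `m` at `P` and no other pole. -/
def IsPoleNum (P : FunFld.Place k K) (m : ℤ) : Prop :=
  ∃ x : K, (∀ Q : FunFld.Place k K, Q ≠ P → Q.1 x ≤ 1) ∧ P.1 x = WithZero.exp m

theorem mem_L_single (P : FunFld.Place k K) (m : ℤ) (x : K) :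
    x ∈ FunFld.L (Finsupp.single P m) ↔
      (∀ Q : FunFld.Place k K, Q ≠ P → Q.1 x ≤ 1) ∧ P.1 x ≤ WithZero.exp m := by
  constructor
  · intro hx
    refine ⟨fun Q hQ => ?_, ?_⟩
    · have := hx Q
      rwa [Finsupp.single_eq_of_ne hQ, WithZero.exp_zero] at this
    · have := hx P
      rwa [Finsupp.single_eq_same] at this
  · rintro ⟨h1, h2⟩ Q
    by_cases hQ : Q = P
    · subst hQ
      rwa [Finsupp.single_eq_same]
    · rw [Finsupp.single_eq_of_ne hQ, WithZero.exp_zero]
      exact h1 Q hQ

theorem L_ne_iff (P : FunFld.Place k K) (m : ℤ) :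
    FunFld.L (Finsupp.single P m) ≠ FunFld.L (Finsupp.single P (m - 1)) ↔ IsPoleNum P m := by
  constructor
  · intro hne
    by_contra hcon
    apply hne
    apply le_antisymm
    · intro x hx
      rw [mem_L_single] at hx ⊢
      refine ⟨hx.1, ?_⟩
      by_contra hlt
      apply hcon
      refine ⟨x, hx.1, le_antisymm hx.2 ?_⟩
      rw [not_le] at hlt
      have hx0 : P.1 x ≠ 0 := by
        intro h0
        rw [h0] at hlt
        exact absurd hlt (by simp)
      rw [← WithZero.lt_log_iff_exp_lt hx0] at hlt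
      rw [← WithZero.le_log_iff_exp_le hx0]
      omega
    · intro x hx
      rw [mem_L_single] at hx ⊢
      refine ⟨hx.1, hx.2.trans ?_⟩
      rw [WithZero.exp_le_exp]
      omega
  · rintro ⟨x, h1, h2⟩ heq
    have hx : x ∈ FunFld.L (Finsupp.single P m) := by
      rw [mem_L_single]
      exact ⟨h1, h2.le⟩
    rw [heq, mem_L_single, h2, WithZero.exp_le_exp] at hx
    omega

theorem IsPoleNum.add {P : FunFld.Place k K} {a b : ℤ} (ha : IsPoleNum P a) (hb : IsPoleNum P b) :
    IsPoleNum P (a + b) := by
  obtain ⟨x, hx1, hx2⟩ := ha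
  obtain ⟨y, hy1, hy2⟩ := hb
  refine ⟨x * y, fun Q hQ => ?_, ?_⟩
  · rw [map_mul]
    exact mul_le_one' (hx1 Q hQ) (hy1 Q hQ)
  · rw [map_mul, hx2, hy2, WithZero.exp_add]

/-- Over an algebraically closed constant field, if `n ≥ 1` is a gap number at the place `P` (no
function has a pole of exact order `n` at `P` and no other pole, i.e. `L(nP) = L((n-1)P)`), then the
gap numbers at `P` make up at least half of the positive integers below `n`. -/
theorem result
    (k K : Type*) [Field k] [IsAlgClosed k] [Field K] [Algebra k K]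
    (hK : FunFld.IsFunctionField k K) (P : FunFld.Place k K) (n : ℕ) (hn : 1 ≤ n)
    (hgap : FunFld.L (Finsupp.single P (n : ℤ)) = FunFld.L (Finsupp.single P ((n : ℤ) - 1))) :
    n - 1 ≤ 2 * Set.ncard {m : ℕ | 1 ≤ m ∧ m < n ∧
      FunFld.L (Finsupp.single P (m : ℤ)) = FunFld.L (Finsupp.single P ((m : ℤ) - 1))} := by
  classical
  set gap : ℕ → Prop := fun m =>
    FunFld.L (Finsupp.single P (m : ℤ)) = FunFld.L (Finsupp.single P ((m : ℤ) - 1)) with hgapdef
  set S := (Finset.Ico 1 n).filter gap with hS
  set T := (Finset.Ico 1 n).filter (fun m => ¬ gap m) with hT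
  have hset : {m : ℕ | 1 ≤ m ∧ m < n ∧
      FunFld.L (Finsupp.single P (m : ℤ)) = FunFld.L (Finsupp.single P ((m : ℤ) - 1))} = ↑S := by
    ext m
    simp [hS, hgapdef, and_assoc]
  rw [hset, Set.ncard_coe_finset]
  have hsum : S.card + T.card = n - 1 := by
    have := Finset.card_filter_add_card_filter_not (s := Finset.Ico 1 n) gap
    rw [Nat.card_Ico] at this
    exact this
  have hnpole : ¬ IsPoleNum P (n : ℤ) := by
    rw [← L_ne_iff]
    exact fun h => h hgap
  have hle : T.card ≤ S.card := by
    apply Finset.card_le_card_of_injOn (fun m => n - m)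
    · intro m hm
      simp only [hT, Finset.coe_filter, Finset.mem_Ico, Set.mem_setOf_eq] at hm
      simp only [hS, Finset.coe_filter, Finset.mem_Ico, Set.mem_setOf_eq]
      obtain ⟨⟨hm1, hm2⟩, hm3⟩ := hm
      refine ⟨⟨by omega, by omega⟩, ?_⟩
      by_contra hng
      apply hnpole
      have h1 : IsPoleNum P (m : ℤ) := (L_ne_iff P m).mp hm3
      have h2 : IsPoleNum P ((n - m : ℕ) : ℤ) := (L_ne_iff P _).mp hng
      have := h1.add h2
      have hcast : (m : ℤ) + ((n - m : ℕ) : ℤ) = (n : ℤ) := by
        push_cast [Nat.cast_sub hm2.le]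
        ring
      rwa [hcast] at this
    · intro a ha b hb hab
      simp only [hT, Finset.coe_filter, Finset.mem_Ico, Set.mem_setOf_eq] at ha hb
      simp only at hab
      omega
  omega

end Groth.Agent.S11045
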