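import Groth.Statements.S11049
import Mathlib.LinearAlgebra.Isomorphisms
import Mathlib.LinearAlgebra.Dimension.Finite
import Mathlib.LinearAlgebra.FiniteDimensional.Lemmas
import Mathlib.RingTheory.Finiteness.Finsupp
import Mathlib.Tactic

set_option autoImplicit false
open CAlg

namespace Groth.Agent.S11049

theorem finrank_of_surj {k A B : Type*} [Field k] [AddCommGroup A] [Module k A] [AddCommGroup B]
    [Module k B] [Module.Finite k A] (g : A →ₗ[k] B) (hg : Function.Surjective g) :
    Module.finrank k A = Module.finrank k B + Module.finrank k (LinearMap.ker g) := by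
  have := LinearMap.finrank_range_add_finrank_ker g
  rw [LinearMap.range_eq_top.2 hg, finrank_top] at this
  exact this.symm

theorem key {k V W : Type*} [Field k] [AddCommGroup V] [Module k V] [AddCommGroup W] [Module k W]
    (e : V →ₗ[k] V) (he : Function.Injective e) (ι : W →ₗ[k] V) (hι : Function.Injective ι)
    (J : Submodule k W) (hJ : J.map ι = (LinearMap.range ι).map e)
    [Module.Finite k (V ⧸ LinearMap.range ι)] [Module.Finite k (V ⧸ LinearMap.range e)] :
    Module.finrank k (V ⧸ LinearMap.range e) = Module.finrank k (W ⧸ J) := by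
  set N := LinearMap.range ι with hN
  set I := LinearMap.range e with hI
  set xN := N.map e with hxN
  have h1 : xN ≤ I := LinearMap.map_le_range
  have h2 : xN ≤ N := by rw [← hJ]; exact LinearMap.map_le_range
  set g₁ : V ⧸ xN →ₗ[k] V ⧸ I := Submodule.factor h1 with hg₁
  set g₂ : V ⧸ xN →ₗ[k] V ⧸ N := Submodule.factor h2 with hg₂
  have hker : N ≤ LinearMap.ker (xN.mkQ ∘ₗ e) := by
    intro n hn
    rw [LinearMap.mem_ker, LinearMap.comp_apply, Submodule.mkQ_apply, Submodule.Quotient.mk_eq_zero]
    exact Submodule.mem_map_of_mem hn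
  set h₁ : V ⧸ N →ₗ[k] V ⧸ xN := N.liftQ (xN.mkQ ∘ₗ e) hker with hh₁
  have hker' : LinearMap.ker (xN.mkQ ∘ₗ e) ≤ N := by
    intro v hv
    rw [LinearMap.mem_ker, LinearMap.comp_apply, Submodule.mkQ_apply,
      Submodule.Quotient.mk_eq_zero] at hv
    obtain ⟨n, hn, hnv⟩ := hv
    rw [← he hnv]; exact hn
  have hinj : Function.Injective h₁ := by
    rw [← LinearMap.ker_eq_bot]
    exact Submodule.ker_liftQ_eq_bot _ _ _ hker'
  have hkerg₁ : LinearMap.ker g₁ = I.map xN.mkQ := by
    rw [hg₁, Submodule.factor, Submodule.mapQ, Submodule.ker_liftQ, LinearMap.comp_id,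
      Submodule.ker_mkQ]
  have hrange : LinearMap.range h₁ = I.map xN.mkQ := by
    rw [hh₁, Submodule.range_liftQ, LinearMap.range_comp]
  have hexact : Function.Exact h₁ g₁ := by
    rw [LinearMap.exact_iff, hkerg₁, hrange]
  haveI : Module.Finite k (V ⧸ xN) :=
    Module.Finite.of_exact hexact (Submodule.factor_surjective h1)
  have e1 := finrank_of_surj g₁ (Submodule.factor_surjective h1)
  have e2 := finrank_of_surj g₂ (Submodule.factor_surjective h2)
  have e3 : Module.finrank k (LinearMap.ker g₁) = Module.finrank k (V ⧸ N) := by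
    rw [hkerg₁, ← hrange]
    exact (LinearEquiv.ofInjective h₁ hinj).finrank_eq.symm
  have hkerg₂ : LinearMap.ker g₂ = N.map xN.mkQ := by
    rw [hg₂, Submodule.factor, Submodule.mapQ, Submodule.ker_liftQ, LinearMap.comp_id,
      Submodule.ker_mkQ]
  set h₂ : W →ₗ[k] V ⧸ xN := xN.mkQ ∘ₗ ι with hh₂
  have hrange₂ : LinearMap.range h₂ = N.map xN.mkQ := by
    rw [hh₂, LinearMap.range_comp]
  have hker₂ : LinearMap.ker h₂ = J := by
    rw [hh₂, LinearMap.ker_comp, Submodule.ker_mkQ]
    show Submodule.comap ι xN = J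
    rw [← hJ, Submodule.comap_map_eq_of_injective hι]
  have e4 : Module.finrank k (LinearMap.ker g₂) = Module.finrank k (W ⧸ J) := by
    rw [hkerg₂, ← hrange₂, ← hker₂]
    exact (LinearMap.quotKerEquivRange h₂).finrank_eq.symm
  omega

/-- For `k`-algebras `S ⊆ R` with `R` an integral domain and a nonzero `x ∈ S`, if `R/S` and `R/Rx` are
finite-dimensional over `k` then `dim_k R/Rx = dim_k S/Sx`. (The published statement allows `x = 0`;
then `R` is a field finite over `k` and the two sides are `dim_k R` and `dim_k S`, which differ for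
`S = k ⊊ R`; the published proof multiplies by `x` as an injection, so `x ≠ 0` is assumed here.) -/
theorem result
    (k R : Type*) [Field k] [CommRing R]
    [IsDomain R] [Algebra k R] (S : Subalgebra k R) (x : S) (hx : (x : R) ≠ 0)
    [Module.Finite k (R ⧸ Subalgebra.toSubmodule S)]
    [Module.Finite k (R ⧸ Ideal.span {(x : R)})] :
    Module.finrank k (R ⧸ Ideal.span {(x : R)}) = Module.finrank k (S ⧸ Ideal.span {x}) := by
  set e : R →ₗ[k] R := LinearMap.mulLeft k (x : R) with he
  have heinj : Function.Injective e := by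
    intro a b hab
    simp only [he, LinearMap.mulLeft_apply] at hab
    exact mul_left_cancel₀ hx hab
  set ι : S →ₗ[k] R := S.val.toLinearMap with hι
  have hιinj : Function.Injective ι := Subtype.val_injective
  have hrι : LinearMap.range ι = Subalgebra.toSubmodule S := by
    ext r
    simp [hι]
  have hre : LinearMap.range e = (Ideal.span {(x : R)}).restrictScalars k := by
    ext r
    simp only [he, LinearMap.mem_range, LinearMap.mulLeft_apply, Submodule.restrictScalars_mem,
      Ideal.mem_span_singleton']
    constructor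
    · rintro ⟨a, rfl⟩; exact ⟨a, mul_comm _ _⟩
    · rintro ⟨a, rfl⟩; exact ⟨a, mul_comm _ _⟩
  set J : Submodule k S := (Ideal.span {x}).restrictScalars k with hJdef
  have hJ : J.map ι = (LinearMap.range ι).map e := by
    ext r
    simp only [Submodule.mem_map, hJdef, Submodule.restrictScalars_mem, Ideal.mem_span_singleton',
      LinearMap.mem_range, he, LinearMap.mulLeft_apply, hι]
    constructor
    · rintro ⟨s, ⟨a, rfl⟩, rfl⟩
      exact ⟨a, ⟨a, rfl⟩, by simp [mul_comm]⟩
    · rintro ⟨_, ⟨a, rfl⟩, rfl⟩
      exact ⟨a * x, ⟨a, rfl⟩, by simp [mul_comm]⟩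
  have : Module.Finite k (R ⧸ LinearMap.range ι) := by
    rw [hrι]; infer_instance
  have : Module.Finite k (R ⧸ LinearMap.range e) := by
    rw [hre]
    exact Module.Finite.equiv
      (Submodule.Quotient.restrictScalarsEquiv k (Ideal.span {(x : R)})).symm
  have := key e heinj ι hιinj J hJ
  have e1 : Module.finrank k (R ⧸ LinearMap.range e) =
      Module.finrank k (R ⧸ Ideal.span {(x : R)}) := by
    rw [hre]
    exact (Submodule.Quotient.restrictScalarsEquiv k (Ideal.span {(x : R)})).finrank_eq
  have e2 : Module.finrank k (S ⧸ J) = Module.finrank k (S ⧸ Ideal.span {x}) :=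
    (Submodule.Quotient.restrictScalarsEquiv k (Ideal.span {x})).finrank_eq
  rw [← e1, ← e2, this]

end Groth.Agent.S11049
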