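import Groth.Statements.S11050
import Groth.Agent.Lib.Helper27.Geo4
open Groth.Agent.Lib.Helper27

set_option autoImplicit false
open FunFld

namespace Groth.Agent.S11050

/-- Over an algebraically closed constant field, let `W` be a finite-dimensional subspace of the
function field `K` containing `1` and generating `K` over `k` (the span of an effective birational
projective map). Then `W` contains a separating variable `x`, and for each separating `x ∈ W` some
`y ∈ W` gives `K = k(x, y)`. -/
theorem result
    (k K : Type*) [Field k] [IsAlgClosed k] [Field K] [Algebra k K]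
    (hK : FunFld.IsFunctionField k K) (W : Submodule k K)
    [FiniteDimensional k W] (h1 : (1 : K) ∈ W)
    (hW : IntermediateField.adjoin k (W : Set K) = ⊤) :
    (∃ x ∈ W, Algebra.IsSeparable (IntermediateField.adjoin k ({x} : Set K)) K) ∧
    ∀ x ∈ W, Algebra.IsSeparable (IntermediateField.adjoin k ({x} : Set K)) K →
      ∃ y ∈ W, IntermediateField.adjoin k ({x, y} : Set K) = ⊤ := by
  classical
  have hg : FunFld.IsGeometric k K := by
    intro k' _ _ hfd
    have hbij : Function.Bijective (algebraMap k k') :=
      IsAlgClosed.algebraMap_bijective_of_isIntegral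
    let e0 : k ≃ₐ[k] k' := AlgEquiv.ofBijective (Algebra.ofId k k') hbij
    let e : TensorProduct k k' K ≃ₐ[k] K :=
      (Algebra.TensorProduct.congr e0.symm AlgEquiv.refl).trans (Algebra.TensorProduct.lid k K)
    exact e.toMulEquiv.isField (Field.toIsField K)
  obtain ⟨⟨x₀, hx₀, hfd₀⟩, hconst⟩ := id hK
  have hA : ∃ x ∈ W, Algebra.IsSeparable (IntermediateField.adjoin k ({x} : Set K)) K := by
    obtain _ | ⟨p, hp, hpk⟩ := CharP.exists' k
    · -- characteristic zero
      have hex : ∃ x ∈ W, Transcendental k x := by
        by_contra hcon
        push_neg at hcon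
        have hle : IntermediateField.adjoin k (W : Set K) ≤ ⊥ := by
          rw [IntermediateField.adjoin_le_iff]
          intro w hw
          have halg : IsAlgebraic k w := by
            by_contra h
            exact hcon w hw h
          exact IntermediateField.mem_bot.mpr (hconst w halg)
        rw [hW] at hle
        have : x₀ ∈ (⊥ : IntermediateField k K) := hle trivial
        obtain ⟨c, rfl⟩ := IntermediateField.mem_bot.mp this
        exact hx₀ (isAlgebraic_algebraMap c)
      obtain ⟨x, hxW, hx⟩ := hex
      refine ⟨x, hxW, ?_⟩
      have : FiniteDimensional (IntermediateField.adjoin k ({x} : Set K)) K :=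
        Groth.Agent.Lib.Helper23.FF.finiteDimensional_adjoin hK hx
      have : CharZero (IntermediateField.adjoin k ({x} : Set K)) :=
        charZero_of_injective_algebraMap (algebraMap k _).injective
      infer_instance
    · have : CharP K p := charP_of_injective_algebraMap (algebraMap k K).injective p
      have hex : ∃ x ∈ W, x ∉ IntermediateField.adjoin k (Set.range fun y : K => y ^ p) := by
        by_contra hcon
        push_neg at hcon
        have hle : IntermediateField.adjoin k (W : Set K) ≤
            IntermediateField.adjoin k (Set.range fun y : K => y ^ p) := by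
          rw [IntermediateField.adjoin_le_iff]
          exact fun w hw => hcon w hw
        rw [hW, top_le_iff] at hle
        have h1 := Geo.finrank_kKp (k := k) (K := K) p hK hg
        rw [hle, IntermediateField.finrank_top] at h1
        exact hp.out.one_lt.ne h1
      obtain ⟨x, hxW, hx⟩ := hex
      exact ⟨x, hxW, Geo.isSeparable_of_not_mem_kKp p hK hg hx⟩
  refine ⟨hA, ?_⟩
  intro x hxW hsep
  have hxt : Transcendental k x := by
    intro halg
    apply hx₀
    have h1 : Algebra.IsAlgebraic k (IntermediateField.adjoin k ({x} : Set K)) :=
      IntermediateField.isAlgebraic_adjoin_simple halg.isIntegral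
    have h2 : Algebra.IsAlgebraic (IntermediateField.adjoin k ({x} : Set K)) K := inferInstance
    exact (Algebra.IsAlgebraic.trans k (IntermediateField.adjoin k ({x} : Set K)) K).isAlgebraic x₀
  have hfd : FiniteDimensional (IntermediateField.adjoin k ({x} : Set K)) K :=
    Groth.Agent.Lib.Helper23.FF.finiteDimensional_adjoin hK hxt
  have hfin : Finite (IntermediateField (IntermediateField.adjoin k ({x} : Set K)) K) :=
    Field.finite_intermediateField_of_exists_primitive_element _ _
      (Field.exists_primitive_element _ _)
  have hfinS := Set.toFinite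
    {M : IntermediateField (IntermediateField.adjoin k ({x} : Set K)) K | M ≠ ⊤}
  let sub : IntermediateField (IntermediateField.adjoin k ({x} : Set K)) K → Subspace k W :=
    fun M => Submodule.comap W.subtype (M.restrictScalars k).toSubalgebra.toSubmodule
  have hsub : ∀ M : IntermediateField (IntermediateField.adjoin k ({x} : Set K)) K, ∀ w : W,
      w ∈ sub M ↔ (w : K) ∈ M := fun M w => Iff.rfl
  have hne : ⊤ ∉ hfinS.toFinset.image sub := by
    intro hmem
    obtain ⟨M, hM, hMtop⟩ := Finset.mem_image.mp hmem
    rw [Set.Finite.mem_toFinset] at hM
    apply hM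
    have hWM : (W : Set K) ⊆ (M.restrictScalars k : Set K) := by
      intro w hw
      have : (⟨w, hw⟩ : W) ∈ sub M := by rw [hMtop]; trivial
      exact (hsub M ⟨w, hw⟩).mp this
    have hle : IntermediateField.adjoin k (W : Set K) ≤ M.restrictScalars k :=
      IntermediateField.adjoin_le_iff.mpr hWM
    rw [hW, top_le_iff] at hle
    apply IntermediateField.restrictScalars_injective k
    rw [hle, IntermediateField.restrictScalars_top]
  have hcover := Subspace.biUnion_ne_univ_of_top_notMem hne
  obtain ⟨w, hw⟩ : ∃ w : W, w ∉ ⋃ p ∈ hfinS.toFinset.image sub, (p : Set W) := by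
    by_contra hcon
    push_neg at hcon
    exact hcover (Set.eq_univ_of_forall hcon)
  refine ⟨w, w.2, ?_⟩
  have hgen : IntermediateField.adjoin (IntermediateField.adjoin k ({x} : Set K)) ({(w : K)} : Set K)
      = ⊤ := by
    by_contra hM
    apply hw
    simp only [Set.mem_iUnion, Finset.mem_image, Set.Finite.mem_toFinset, Set.mem_setOf_eq,
      exists_prop]
    refine ⟨sub _, ⟨_, hM, rfl⟩, ?_⟩
    exact (hsub _ w).mpr (IntermediateField.mem_adjoin_simple_self _ _)
  have h3 := IntermediateField.adjoin_adjoin_left k ({x} : Set K) ({(w : K)} : Set K)
  rw [hgen, IntermediateField.restrictScalars_top] at h3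
  rw [h3]
  congr 1

end Groth.Agent.S11050
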