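import Groth.Statements.S11057
-- import your own Groth.Agent.* helpers here
import Groth.Agent.Lib.Helper23.FFEmb4

set_option autoImplicit false
open FunFld

namespace Groth.Agent.S11057

/-- Over an algebraically closed constant field, if `K` has degree at least `3` over every subfield
`k(x)` generated by a nonconstant element, then the canonical map (given by a basis of `L(D)` for a
canonical divisor `D`) is an embedding, i.e. nonsingular at every place. Here a projective map is
nonsingular at a place when its local ring there (quotients of polynomials over `k` in the ratios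
`φᵢ/φⱼ`, `φⱼ` of least order at the place, with denominator a unit there) is the whole valuation
ring. -/
theorem result
    (k K : Type*) [Field k] [IsAlgClosed k] [Field K] [Algebra k K]
    (hK : FunFld.IsFunctionField k K)
    (h2 : ∀ x : K, Transcendental k x →
      2 < Module.finrank (IntermediateField.adjoin k ({x} : Set K)) K)
    (D : FunFld.Divisor k K) (hD : FunFld.IsCanonical k K D) {n : ℕ} (φ : Fin (n + 1) → K)
    (hφ : LinearIndependent k φ) (hspan : Submodule.span k (Set.range φ) = FunFld.L D)
    (P : FunFld.Place k K) : FunFld.IsNonsingularAt φ P := by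
  refine Groth.Agent.Lib.Helper23.FF.isNonsingularAt_of_sep hK D φ hspan ?_ P
  intro P Q
  have C := Groth.Agent.Lib.Helper27.FF.core_of hK
  have hdeg : (D - Finsupp.single P 1 - Finsupp.single Q 1).deg = D.deg - 2 := by
    rw [Groth.Agent.Lib.Helper23.FF.deg_sub, Groth.Agent.Lib.Helper23.FF.deg_sub,
      Groth.Agent.Lib.Helper23.FF.deg_single, Groth.Agent.Lib.Helper23.FF.deg_single,
      Groth.Agent.Lib.Helper23.FF.deg_eq_one hK P, Groth.Agent.Lib.Helper23.FF.deg_eq_one hK Q]
    norm_num
    ring
  have hPQ0 : (0 : FunFld.Divisor k K) ≤ Finsupp.single P 1 + Finsupp.single Q 1 :=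
    add_nonneg (Finsupp.single_nonneg.mpr zero_le_one) (Finsupp.single_nonneg.mpr zero_le_one)
  have hPQdeg : (Finsupp.single P 1 + Finsupp.single Q 1 : FunFld.Divisor k K).deg = 2 := by
    rw [Groth.Agent.Lib.Helper23.FF.deg_add,
      Groth.Agent.Lib.Helper23.FF.deg_single, Groth.Agent.Lib.Helper23.FF.deg_single,
      Groth.Agent.Lib.Helper23.FF.deg_eq_one hK P, Groth.Agent.Lib.Helper23.FF.deg_eq_one hK Q]
    norm_num
  have hell : FunFld.ell (Finsupp.single P 1 + Finsupp.single Q 1 : FunFld.Divisor k K) = 1 := by
    apply Groth.Agent.Lib.Helper23.FF.ell_eq_one_of_no_small hK hPQ0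
    intro x hx
    rw [hPQdeg]
    exact_mod_cast h2 x hx
  have h1 := C.ell_canonical hD
  have h3 := C.riemann_roch hD (D - Finsupp.single P 1 - Finsupp.single Q 1)
  have e1 : D - (D - Finsupp.single P 1 - Finsupp.single Q 1)
      = Finsupp.single P 1 + Finsupp.single Q 1 := by abel
  rw [hdeg, C.deg_canonical hD, e1, hell] at h3
  have : ((FunFld.ell (D - Finsupp.single P 1 - Finsupp.single Q 1) + 2 : ℕ) : ℤ)
      = (FunFld.ell D : ℤ) := by
    rw [h1]
    push_cast
    push_cast at h3
    omega
  exact_mod_cast this

end Groth.Agent.S11057
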