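import Groth.Statements.S11060
-- import your own Groth.Agent.* helpers here
import Groth.Agent.Lib.Helper23.FFProjN4

set_option autoImplicit false
open FunFld

namespace Groth.Agent.S11060



/-- Over an algebraically closed constant field, a function field of genus `g` with a nonsingular plane
model has `g` a triangular number. Here a projective map is nonsingular at a place when its local
ring there (quotients of polynomials over `k` in the ratios `φᵢ/φⱼ`, `φⱼ` of least order at the
place, with denominator a unit there) is the whole valuation ring. -/
theorem result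
    (k K : Type*) [Field k] [IsAlgClosed k] [Field K] [Algebra k K]
    (hK : FunFld.IsFunctionField k K)
    (h : ∃ x y : K, IntermediateField.adjoin k ({x, y} : Set K) = ⊤ ∧
      ∀ P : FunFld.Place k K, FunFld.IsNonsingularAt ![(1 : K), x, y] P) :
    ∃ m : ℕ, 2 * FunFld.genus k K = m * (m + 1) := by
  obtain ⟨x, y, hxy, hns⟩ := h
  have h1 := Groth.Agent.Lib.Helper23.FF.two_genus_eq_of_nonsingular hK x y hxy hns
  have hd1 := Groth.Agent.Lib.Helper23.FF.plane_one_le_deg hK x y hxy
  set d := (FunFld.mapDiv k ![(1 : K), x, y]).deg with hd
  refine ⟨(d - 2).toNat, ?_⟩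
  have key : (2 * (FunFld.genus k K : ℤ)) = ((d - 2).toNat : ℤ) * (((d - 2).toNat : ℤ) + 1) := by
    rcases le_or_gt 2 d with h2 | h2
    · rw [Int.toNat_of_nonneg (by omega), h1]
      ring
    · have hd' : d = 1 := by omega
      rw [h1, hd']
      simp
  exact_mod_cast key

end Groth.Agent.S11060
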