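import Groth.Statements.S11063
-- import your own Groth.Agent.* helpers here
import Groth.Agent.Lib.Helper23.FFGap

set_option autoImplicit false
open FunFld

namespace Groth.Agent.S11063

/-- Over an algebraically closed constant field, for a place `P` of a function field of genus `g` and `1
≤ l ≤ g`, the `l`-th gap number at `P` is at most `2l - 1`, i.e. at least `l` of the integers `1 ≤ m
≤ 2l - 1` satisfy `L(mP) = L((m-1)P)`. (The published statement bounds the `l`-th order of the
canonical map at `P` by `2l`; the orders of the canonical map at `P` are the gap numbers at `P` less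
one, which gives the form stated here.) -/
theorem result
    (k K : Type*) [Field k] [IsAlgClosed k] [Field K] [Algebra k K]
    (hK : FunFld.IsFunctionField k K) (P : FunFld.Place k K) (l : ℕ)
    (hl : 1 ≤ l) (hlg : l ≤ FunFld.genus k K) :
    l ≤ Set.ncard {m : ℕ | 1 ≤ m ∧ m ≤ 2 * l - 1 ∧
      FunFld.L (Finsupp.single P (m : ℤ)) = FunFld.L (Finsupp.single P ((m : ℤ) - 1))} := by
  classical
  have h := Groth.Agent.Lib.Helper23.FF.le_card_gaps_two_mul_sub_one hK P
    (Groth.Agent.Lib.Helper23.FF.deg_eq_one hK P) hl hlg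
  have hset : {m : ℕ | 1 ≤ m ∧ m ≤ 2 * l - 1 ∧
      FunFld.L (Finsupp.single P (m : ℤ)) = FunFld.L (Finsupp.single P ((m : ℤ) - 1))} =
      ↑(Groth.Agent.Lib.Helper23.FF.gapsLE
        (fun m : ℕ => Groth.Agent.Lib.Helper23.FF.IsPoleNumber P (m : ℤ)) (2 * l - 1)) := by
    ext m
    rw [Finset.mem_coe, Groth.Agent.Lib.Helper23.FF.mem_gapsLE, Set.mem_ofPred_eq,
      Groth.Agent.Lib.Helper23.FF.isPoleNumber_iff, not_not]
    constructor
    · rintro ⟨_, h2, h3⟩
      exact ⟨h2, h3⟩
    · rintro ⟨h2, h3⟩
      refine ⟨?_, h2, h3⟩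
      by_contra h0
      have hm : m = 0 := by omega
      subst hm
      have := (Groth.Agent.Lib.Helper23.FF.isPoleNumber_iff P ((0 : ℕ) : ℤ)).mp
        (by rw [Nat.cast_zero]; exact Groth.Agent.Lib.Helper23.FF.isPoleNumber_zero P)
      exact this h3
  rw [hset, Set.ncard_coe_finset]
  exact h

end Groth.Agent.S11063
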