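import Groth.Statements.S11064

set_option autoImplicit false
open FunFld

namespace Groth.Agent.S11064

theorem adjoin_le_aux {k K : Type*} [Field k] [Field K] [Algebra k K] {n : ℕ}
    (φ : Fin (n + 1) → K) (h0 : φ 0 ≠ 0) (j : Fin (n + 1)) (hj : φ j ≠ 0) :
    ∀ u ∈ Algebra.adjoin k (Set.range fun i => φ i / φ j),
      u ∈ IntermediateField.adjoin k (Set.range fun i => φ i / φ 0) := by
  intro u hu
  have hle : Algebra.adjoin k (Set.range fun i => φ i / φ j) ≤
      (IntermediateField.adjoin k (Set.range fun i => φ i / φ 0)).toSubalgebra := by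
    apply Algebra.adjoin_le
    rintro _ ⟨i, rfl⟩
    have hi : φ i / φ 0 ∈ IntermediateField.adjoin k (Set.range fun i => φ i / φ 0) :=
      IntermediateField.subset_adjoin k _ ⟨i, rfl⟩
    have hj' : φ j / φ 0 ∈ IntermediateField.adjoin k (Set.range fun i => φ i / φ 0) :=
      IntermediateField.subset_adjoin k _ ⟨j, rfl⟩
    have : φ i / φ j = (φ i / φ 0) / (φ j / φ 0) := by
      field_simp
    show φ i / φ j ∈ IntermediateField.adjoin k (Set.range fun i => φ i / φ 0)
    rw [this]
    exact div_mem hi hj'
  exact hle hu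

theorem mem_of_inLocRing {k K : Type*} [Field k] [Field K] [Algebra k K] {n : ℕ}
    (φ : Fin (n + 1) → K) (h0 : φ 0 ≠ 0) (P : FunFld.Place k K) (z : K)
    (hz : FunFld.InLocRing φ P z) :
    z ∈ IntermediateField.adjoin k (Set.range fun i => φ i / φ 0) := by
  obtain ⟨j, hj, _, u, hu, w, hw, hPw, hzw⟩ := hz
  have hw0 : w ≠ 0 := by
    rintro rfl
    simp at hPw
  have hu' := adjoin_le_aux φ h0 j hj u hu
  have hw' := adjoin_le_aux φ h0 j hj w hw
  have : z = u / w := by
    rw [← hzw]; field_simp
  rw [this]
  exact div_mem hu' hw'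

/-- Over an algebraically closed constant field, a projective map `φ = (φ₀, …, φₙ)` that is nonsingular
at some place is birational, i.e. the ratios `φᵢ/φ₀` generate `K` over `k`. Here the local ring of a
projective map at a place consists of the quotients of polynomials over `k` in the ratios `φᵢ/φⱼ`,
`φⱼ` of least order at the place, with denominator a unit there; the map is nonsingular at the place
when this ring is the whole valuation ring. -/
theorem result
    (k K : Type*) [Field k] [IsAlgClosed k] [Field K] [Algebra k K]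
    (hK : FunFld.IsFunctionField k K) {n : ℕ} (φ : Fin (n + 1) → K)
    (h0 : φ 0 ≠ 0) (P : FunFld.Place k K) (h : FunFld.IsNonsingularAt φ P) :
    IntermediateField.adjoin k (Set.range fun i => φ i / φ 0) = ⊤ := by
  rw [eq_top_iff]
  intro z _
  rcases le_total (P.1 z) 1 with hz | hz
  · exact mem_of_inLocRing φ h0 P z (h z hz)
  · have hz0 : z ≠ 0 := by
      rintro rfl
      simp at hz
    have hinv : P.1 z⁻¹ ≤ 1 := by
      rw [map_inv₀]
      exact inv_le_one_of_one_le₀ hz
    have := mem_of_inLocRing φ h0 P z⁻¹ (h z⁻¹ hinv)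
    have h2 := inv_mem this
    rwa [inv_inv] at h2

end Groth.Agent.S11064
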