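import Groth.Statements.S11065
-- import your own Groth.Agent.* helpers here
import Groth.Agent.Lib.Helper23.FFNS6

set_option autoImplicit false
open FunFld

namespace Groth.Agent.S11065

/-- Over an algebraically closed constant field, a projective map `φ = (φ₀, …, φₙ)`, `n ≥ 1`, is
nonsingular at the place `P` if and only if its local ring at `P` lies in the valuation ring of no
place other than `P` and contains a local parameter at `P`. Here the local ring of a projective map
at a place consists of the quotients of polynomials over `k` in the ratios `φᵢ/φⱼ`, `φⱼ` of least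
order at the place, with denominator a unit there; the map is nonsingular at the place when this
ring is the whole valuation ring. (The published statement is for any projective map; the published
proof uses the finiteness property of the local ring that is established for birational maps, so `φ`
is taken birational here: the ratios `φᵢ/φ₀` generate `K` over `k`.) -/
theorem result
    (k K : Type*) [Field k] [IsAlgClosed k] [Field K] [Algebra k K]
    (hK : FunFld.IsFunctionField k K) {n : ℕ} (hn : 1 ≤ n)
    (φ : Fin (n + 1) → K) (hφ : LinearIndependent k φ)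
    (hbir : IntermediateField.adjoin k (Set.range fun i => φ i / φ 0) = ⊤) (P : FunFld.Place k K) :
    FunFld.IsNonsingularAt φ P ↔
      (∀ Q : FunFld.Place k K, (∀ z : K, FunFld.InLocRing φ P z → Q.1 z ≤ 1) → Q = P) ∧
        ∃ t : K, FunFld.InLocRing φ P t ∧ P.1 t = WithZero.exp (-1) := by
  classical
  open Groth.Agent.Lib.Helper23.FF in
  have h0 : ∀ i, φ i ≠ 0 := hφ.ne_zero
  obtain ⟨j, hj0, hj⟩ := Groth.Agent.Lib.Helper23.FF.exists_index φ P h0
  have hiff := Groth.Agent.Lib.Helper23.FF.inLocRing_iff_of_index φ P hj0 hj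
  have hRP : ∀ r ∈ Groth.Agent.Lib.Helper23.FF.ratioAlg (k := k) φ j, P.1 r ≤ 1 := fun r hr =>
    Groth.Agent.Lib.Helper23.FF.val_le_one_of_mem_ratioAlg φ P hj0 hj hr
  constructor
  · intro hns
    refine ⟨fun Q hQ => ?_, ?_⟩
    · apply Groth.Agent.Lib.Helper23.FF.place_eq_of_lt_one_imp Q P
      intro x hQx
      by_contra hPx
      rw [not_lt] at hPx
      have hx0 : x ≠ 0 := by
        rintro rfl
        rw [map_zero] at hPx
        exact absurd hPx (not_le.mpr zero_lt_one)
      have h1 : P.1 x⁻¹ ≤ 1 := by
        rw [map_inv₀]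
        exact inv_le_one_of_one_le₀ hPx
      have h2 : Q.1 x⁻¹ ≤ 1 := hQ _ (hns _ h1)
      rw [map_inv₀] at h2
      have h3 : 1 ≤ Q.1 x := by
        have hv : 0 < Q.1 x := zero_lt_iff.mpr ((Q.1.ne_zero_iff).mpr hx0)
        exact (inv_le_one₀ hv).mp h2
      exact absurd hQx (not_lt.mpr h3)
    · obtain ⟨t, ht⟩ := P.2.2 (WithZero.exp (-1))
      refine ⟨t, hns t ?_, ht⟩
      rw [ht, ← WithZero.exp_zero, WithZero.exp_le_exp]
      norm_num
  · rintro ⟨H1, t, htA, hPt⟩ z hz
    rw [hiff]
    refine Groth.Agent.Lib.Helper23.FF.mem_locAlg_ratioAlg hK φ P hj0 hj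
      (Groth.Agent.Lib.Helper23.FF.adjoin_ratio_eq_top φ 0 j hj0 hbir) ?_ ⟨t, (hiff t).mp htA, hPt⟩ hz
    intro Q hQ
    exact H1 Q (fun z hz => hQ z ((hiff z).mp hz))

end Groth.Agent.S11065
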