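import Groth.Statements.S11068
-- import your own Groth.Agent.* helpers here
import Groth.Agent.Lib.Helper23.Frob1

set_option autoImplicit false
open FunFld

namespace Groth.Agent.S11068



/-- Over a finite constant field with `q` elements, let `K̄ = k̄ ⊗ K` be the constant-field extension to
an algebraic closure and `F` its Frobenius map (identity on `k̄`, `q`-th power on `K`). A place `Q`
of `K̄/k̄` satisfies `Q^F = Q` (the maximal ideal of `Q` is exactly the preimage of itself under
`F`) if and only if `Q` is defined over `k`, i.e. the place of `K` below `Q` has degree one. -/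
theorem result
    (k K kb Kb : Type*) [Field k] [Finite k] [Field K] [Algebra k K] [Field kb] [Algebra k kb]
    [IsAlgClosure k kb] [Field Kb] [Algebra K Kb] [Algebra kb Kb]
    (hK : FunFld.IsFunctionField k K)
    (hc : ∀ c : k, algebraMap K Kb (algebraMap k K c) = algebraMap kb Kb (algebraMap k kb c))
    (hgen : Algebra.adjoin K (Set.range (algebraMap kb Kb)) = ⊤)
    (F : Kb →+* Kb) (hF1 : ∀ c : kb, F (algebraMap kb Kb c) = algebraMap kb Kb c)
    (hF2 : ∀ x : K, F (algebraMap K Kb x) = algebraMap K Kb x ^ Nat.card k)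
    (Q : FunFld.Place kb Kb) :
    (∀ z : Kb, Q.1 (F z) < 1 ↔ Q.1 z < 1) ↔
      ∃ P : FunFld.Place k K, (∀ x : K, Q.1 (algebraMap K Kb x) ≤ 1 ↔ P.1 x ≤ 1) ∧ P.deg = 1 := by
  classical
  haveI : IsAlgClosed kb := IsAlgClosure.isAlgClosed k
  letI : Algebra k Kb := ((algebraMap K Kb).comp (algebraMap k K)).toAlgebra
  haveI : IsScalarTower k K Kb := IsScalarTower.of_algebraMap_eq (fun _ => rfl)
  haveI : IsScalarTower k kb Kb := IsScalarTower.of_algebraMap_eq (fun c => hc c)
  constructor
  · intro hfix
    haveI halg : Algebra.IsAlgebraic K Kb := by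
      constructor
      intro z
      have hz : z ∈ Algebra.adjoin K (Set.range (algebraMap kb Kb)) := by
        rw [hgen]; exact Algebra.mem_top
      have hle : Algebra.adjoin K (Set.range (algebraMap kb Kb)) ≤ integralClosure K Kb := by
        apply Algebra.adjoin_le
        rintro _ ⟨c, rfl⟩
        have hc_int : IsIntegral k c := (Algebra.IsAlgebraic.isAlgebraic c).isIntegral
        have h1 : IsIntegral k (algebraMap kb Kb c) :=
          hc_int.map (IsScalarTower.toAlgHom k kb Kb)
        exact h1.tower_top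
      exact (hle hz).isAlgebraic
    obtain ⟨P, e, hPe⟩ := Groth.Agent.Lib.Helper27.FF.exists_isOverWith hK
      (Groth.Agent.Lib.Helper27.FF.Place.down (k := k) Q)
    have hle : ∀ x : K, Q.1 (algebraMap K Kb x) ≤ 1 ↔ P.1 x ≤ 1 :=
      fun x => Groth.Agent.Lib.Helper27.FF.isOverWith_val_le_one_iff hPe x
    have hlt : ∀ x : K, Q.1 (algebraMap K Kb x) < 1 ↔ P.1 x < 1 :=
      fun x => Groth.Agent.Lib.Helper27.FF.isOverWith_val_lt_one_iff hPe x
    exact ⟨P, hle, Groth.Agent.Lib.Helper23.Frob.deg_eq_one_of_fixed hc hK F hF1 hF2 Q P hlt hle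
      hfix⟩
  · rintro ⟨P, hQP, hdeg⟩ z
    obtain ⟨s, a, rfl⟩ := Groth.Agent.Lib.Helper23.Frob.exists_repr hc hgen
      (Module.Basis.ofVectorSpace k kb) z
    have hFz : F (∑ i ∈ s, algebraMap kb Kb (Module.Basis.ofVectorSpace k kb i) *
          algebraMap K Kb (a i)) =
        ∑ i ∈ s, algebraMap kb Kb (Module.Basis.ofVectorSpace k kb i) *
          algebraMap K Kb ((a i) ^ Nat.card k) := by
      rw [map_sum]
      apply Finset.sum_congr rfl
      intro i _
      rw [map_mul, hF1, hF2, map_pow]
    rw [hFz, Groth.Agent.Lib.Helper23.Frob.val_sum_lt_one_iff hc Q P hQP hdeg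
        (Module.Basis.ofVectorSpace k kb) (Module.Basis.ofVectorSpace k kb).linearIndependent s,
      Groth.Agent.Lib.Helper23.Frob.val_sum_lt_one_iff hc Q P hQP hdeg
        (Module.Basis.ofVectorSpace k kb) (Module.Basis.ofVectorSpace k kb).linearIndependent s]
    have hq : Nat.card k ≠ 0 := (Finite.card_pos).ne'
    constructor
    · intro h i hi
      have h1 : P.1 (a i ^ Nat.card k) < 1 := h i hi
      rw [map_pow] at h1
      by_contra hge
      rw [not_lt] at hge
      exact absurd h1 (not_lt.mpr (one_le_pow₀ hge))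
    · intro h i hi
      show P.1 (a i ^ Nat.card k) < 1
      rw [map_pow]
      exact pow_lt_one₀ zero_le' (h i hi) hq

end Groth.Agent.S11068
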