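import Groth.Statements.S11070
-- import your own Groth.Agent.* helpers here
import Groth.Agent.Lib.Helper23.FFHilb3

set_option autoImplicit false
open FunFld

namespace Groth.Agent.S11070



/-- Over an algebraically closed constant field, a plane curve `V = V(f)` with natural map `(1 : x :
y)`, `K = k(x, y)`, has degree `deg V = deg f`: the degree of the divisor of the map `(1 : x : y)`
equals the total degree of the irreducible polynomial relation `f(x, y) = 0`. -/
theorem result
    (k K : Type*) [Field k] [IsAlgClosed k] [Field K] [Algebra k K]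
    (hK : FunFld.IsFunctionField k K) (x y : K)
    (hxy : IntermediateField.adjoin k ({x, y} : Set K) = ⊤) (f : MvPolynomial (Fin 2) k)
    (hf : Irreducible f) (hfxy : MvPolynomial.aeval ![x, y] f = 0) :
    (FunFld.mapDiv k ![(1 : K), x, y]).deg = f.totalDegree := by
  obtain ⟨f₀, hf₀, hker⟩ := Groth.Agent.Lib.Helper23.FF.exists_prime_ker_planeEv hK x y hxy
  have hfmem : f ∈ RingHom.ker (Groth.Agent.Lib.Helper23.FF.planeEv k x y) := hfxy
  rw [hker, Ideal.mem_span_singleton] at hfmem
  obtain ⟨u, hu⟩ := hfmem
  rcases hf.isUnit_or_isUnit hu with h | h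
  · exact absurd h hf₀.not_isUnit
  · have hker' : RingHom.ker (Groth.Agent.Lib.Helper23.FF.planeEv k x y) = Ideal.span {f} := by
      rw [hker, Ideal.span_singleton_eq_span_singleton]
      exact ⟨h.unit, by rw [hu]; rfl⟩
    exact (Groth.Agent.Lib.Helper23.FF.totalDegree_eq_deg hK x y hxy f hf.ne_zero hker').symm

end Groth.Agent.S11070
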