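import Groth.Statements.S11071
-- import your own Groth.Agent.* helpers here
import Groth.Agent.Lib.Helper23.FFJacN2
import Groth.Agent.Lib.Helper23.FFJacN3
import Groth.Agent.Lib.Helper23.FFJacN5
import Groth.Agent.Lib.Helper23.FFJacN6
import Groth.Agent.Lib.Helper23.FFAC
import Groth.Agent.Lib.Helper23.FFAC2
import Groth.Agent.Lib.Helper23.FFTan2
import Groth.Agent.Lib.Helper23.FFJac2

set_option autoImplicit false
open FunFld

namespace Groth.Agent.S11071



/-- Over an algebraically closed constant field, let `φ = (φ₀, …, φₙ)`, `n ≥ 1`, be a birational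
projective map, `f₁, …, f_r` homogeneous generators of its ideal of homogeneous relations (the ideal
of the image curve), and `P` a place at which all `φᵢ/φ₀` are integral, with image point `a`. Then
`φ` is nonsingular at `P` if and only if the matrix `(∂fᵢ/∂Xⱼ(a))`, `1 ≤ j ≤ n`, has rank `n - 1`
(entries read in the residue field of `P`). Here the local ring of `φ` at `P` consists of the
quotients of polynomials over `k` in the ratios `φᵢ/φ₀` with denominator a unit at `P`; `φ` is
nonsingular at `P` when this ring is the whole valuation ring. -/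
theorem result (k K : Type*) [Field k] [IsAlgClosed k] [Field K] [Algebra k K]
    (hK : FunFld.IsFunctionField k K) {n : ℕ} (hn : 1 ≤ n)
    (φ : Fin (n + 1) → K) (hφ : LinearIndependent k φ)
    (hbir : IntermediateField.adjoin k (Set.range fun i => φ i / φ 0) = ⊤)
    (P : FunFld.Place k K) (hP : ∀ i, P.1 (φ i) ≤ P.1 (φ 0)) {r : ℕ}
    (f : Fin r → MvPolynomial (Fin (n + 1)) k)
    (hhom : ∀ i, (f i).IsHomogeneous (f i).totalDegree)
    (hgen : Ideal.span (Set.range f) =
      RingHom.ker (MvPolynomial.aeval fun i => Polynomial.C (φ i) * Polynomial.X))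
    (M : Matrix (Fin r) (Fin n) P.O)
    (hM : ∀ i j, ((M i j : P.O) : K) =
      MvPolynomial.aeval (fun l => φ l / φ 0) (MvPolynomial.pderiv j.succ (f i))) :
    FunFld.IsNonsingularAt φ P ↔ (M.map (IsLocalRing.residue P.O)).rank = n - 1 := by
  classical
  have hP1 : P.deg = 1 := Groth.Agent.Lib.Helper23.FF.deg_eq_one hK P
  have hj0 : φ 0 ≠ 0 := hφ.ne_zero 0
  have hle : ∀ l, P.1 (φ l / φ 0) ≤ 1 := fun l => by
    rw [map_div₀]
    exact div_le_one_of_le₀ (hP l) zero_le
  choose α hα using fun l =>
    Groth.Agent.Lib.Helper23.FF.exists_const_val_sub_lt_one P hP1 (hle l)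
  let ι' : k →+* IsLocalRing.ResidueField P.O := algebraMap k (IsLocalRing.ResidueField P.O)
  have hinj : Function.Injective ι' := (algebraMap k (IsLocalRing.ResidueField P.O)).injective
  have hsurj : Function.Surjective ι' := by
    intro x
    obtain ⟨a, rfl⟩ := IsLocalRing.residue_surjective x
    obtain ⟨c, hc⟩ := Groth.Agent.Lib.Helper23.FF.exists_const_val_sub_lt_one P hP1 a.2
    exact ⟨c, (Groth.Agent.Lib.Helper23.FF.residue_eq_algebraMap_of_val_sub_lt P a c hc).symm⟩
  let J : Matrix (Fin r) (Fin n) k := fun i m =>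
    MvPolynomial.eval α (MvPolynomial.pderiv m.succ (f i))
  have hres : M.map (IsLocalRing.residue P.O) = J.map ι' := by
    ext i m
    show IsLocalRing.residue P.O (M i m) = ι' (J i m)
    apply Groth.Agent.Lib.Helper23.FF.residue_eq_algebraMap_of_val_sub_lt
    rw [hM]
    exact Groth.Agent.Lib.Helper23.FF.val_aeval_sub_eval_lt P α _ hα _
  rw [hres, Groth.Agent.Lib.Helper23.FF.rank_eq_pred_iff hn]
  constructor
  · intro hNS
    obtain ⟨τ₀, hτ₀, hτ₀J⟩ :=
      Groth.Agent.Lib.Helper23.FF.exists_tangent_vector hK φ hφ P hP f hhom hgen α hα hNS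
    obtain ⟨l₀, w, hw⟩ :=
      Groth.Agent.Lib.Helper23.FF.tangent_proportional hn φ hφ P hP f hhom hgen α hα hNS ι'
    apply Groth.Agent.Lib.Helper23.FF.finrank_ker_eq_one_of_proportional (J.map ι')
      (fun m => ι' (τ₀ m)) ?_ ?_ l₀ (fun l => ι' (w l)) ?_
    · intro h
      apply hτ₀
      funext m
      apply hinj
      rw [Pi.zero_apply, map_zero]
      exact congrFun h m
    · funext i
      show ∑ m, ι' (J i m) * ι' (τ₀ m) = 0
      simp only [← map_mul]
      rw [← map_sum, hτ₀J i, map_zero]
    · intro τ hτ l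
      apply hw τ
      intro i
      exact congrFun hτ i
  · intro hfin
    obtain ⟨l₀, c, Λ, hrel⟩ :=
      Groth.Agent.Lib.Helper23.FF.exists_rowspace_of_finrank_ker_eq_one _ hfin
    choose c' hc' using fun l => hsurj (c l)
    choose Λ' hΛ' using fun l i => hsurj (Λ l i)
    apply Groth.Agent.Lib.Helper23.FF.isNonsingularAt_of_rowspace φ hφ hbir P hP f hhom hgen α hα
      l₀ c' Λ'
    intro l m
    apply hinj
    have h1 := hrel l m
    rw [map_sub, map_mul, map_sum]
    simp only [map_mul, hc', hΛ', apply_ite ι', map_one, map_zero]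
    exact h1

end Groth.Agent.S11071
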