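import Groth.Statements.S11072
-- import your own Groth.Agent.* helpers here
import Groth.Agent.Lib.Helper23.FFJac4

set_option autoImplicit false
open FunFld

namespace Groth.Agent.S11072



/-- Over an algebraically closed constant field, a plane curve with defining irreducible homogeneous
polynomial `f` and birational natural map `φ = (φ₀ : φ₁ : φ₂)` is singular at the point `a = φ(P)`
(coordinates `(φᵢ/φⱼ)(P)` for an entry `φⱼ` of least order at `P`, read in the residue field) if and
only if `∂f/∂Xᵢ(a) = 0` for `i = 0, 1, 2`. Here `φ` is nonsingular at `P` when its local ring there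
(quotients of polynomials over `k` in the `φᵢ/φⱼ` with denominator a unit at `P`) is the whole
valuation ring. -/
theorem result (k K : Type*) [Field k] [IsAlgClosed k] [Field K] [Algebra k K]
    (hK : FunFld.IsFunctionField k K) (φ : Fin 3 → K)
    (hφ : LinearIndependent k φ)
    (hbir : IntermediateField.adjoin k (Set.range fun i => φ i / φ 0) = ⊤)
    (f : MvPolynomial (Fin 3) k) (hf : Irreducible f) (hhom : f.IsHomogeneous f.totalDegree)
    (hfφ : MvPolynomial.aeval φ f = 0) (P : FunFld.Place k K) (j : Fin 3)
    (hj : ∀ i, P.1 (φ i) ≤ P.1 (φ j)) (a : Fin 3 → P.O) (ha : ∀ i, ((a i : P.O) : K) = φ i / φ j) :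
    ¬ FunFld.IsNonsingularAt φ P ↔
      ∀ l : Fin 3, MvPolynomial.aeval (fun i => IsLocalRing.residue P.O (a i))
        (MvPolynomial.pderiv l f) = 0 := by
  classical
  have hP1 : P.deg = 1 := Groth.Agent.Lib.Helper23.FF.deg_eq_one hK P
  have hj0 : φ j ≠ 0 := hφ.ne_zero j
  have hle : ∀ l, P.1 (φ l / φ j) ≤ 1 := fun l => by
    rw [← ha l]
    exact (a l).2
  choose α hα using fun l =>
    Groth.Agent.Lib.Helper23.FF.exists_const_val_sub_lt_one P hP1 (hle l)
  have hres : ∀ l, IsLocalRing.residue P.O (a l)
      = algebraMap k (IsLocalRing.ResidueField P.O) (α l) := fun l =>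
    Groth.Agent.Lib.Helper23.FF.residue_eq_algebraMap_of_val_sub_lt P (a l) (α l)
      (by rw [ha l]; exact hα l)
  have hcα : ∀ l, MvPolynomial.aeval (fun i => IsLocalRing.residue P.O (a i))
        (MvPolynomial.pderiv l f)
      = algebraMap k (IsLocalRing.ResidueField P.O)
        (MvPolynomial.eval α (MvPolynomial.pderiv l f)) := by
    intro l
    rw [Groth.Agent.Lib.Helper23.FF.algebraMap_eval_eq_aeval]
    have hfun : (fun l => IsLocalRing.residue P.O (a l))
        = fun l => algebraMap k (IsLocalRing.ResidueField P.O) (α l) := funext hres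
    rw [hfun]
  have hbir' := Groth.Agent.Lib.Helper23.FF.adjoin_ratio_eq_top φ 0 j hj0 hbir
  constructor
  · intro hNS l
    by_contra hne
    apply hNS
    rw [hcα l] at hne
    have hne' : MvPolynomial.eval α (MvPolynomial.pderiv l f) ≠ 0 := fun h =>
      hne (by rw [h, map_zero])
    exact Groth.Agent.Lib.Helper23.FF.isNonsingularAt_of_pderiv_ne_zero φ hφ f hhom hfφ P j hj
      hbir' α hα l hne'
  · intro hall
    apply Groth.Agent.Lib.Helper23.FF.not_isNonsingularAt_of_grad_eq_zero φ hφ f hf hhom hfφ P j
      hj α hα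
    intro l
    have h1 := hall l
    rw [hcα l] at h1
    exact (map_eq_zero_iff _ (algebraMap k (IsLocalRing.ResidueField P.O)).injective).mp h1

end Groth.Agent.S11072
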