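import Groth.Statements.S11075
-- import your own Groth.Agent.* helpers here
import Groth.Agent.Lib.Helper23.FFAC2

set_option autoImplicit false
open FunFld

namespace Groth.Agent.S11075

theorem aeval_mul_const {K : Type*} {k : Type*} [Field k] [Field K] [Algebra k K]
    {σ : Type*} [Fintype σ] (g : MvPolynomial σ k) {N : ℕ}
    (hg : g.IsHomogeneous N) (φ : σ → K) (c : K) :
    MvPolynomial.aeval (fun i => φ i * c) g = MvPolynomial.aeval φ g * c ^ N := by
  rw [MvPolynomial.aeval_def, MvPolynomial.eval₂_eq', MvPolynomial.aeval_def,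
    MvPolynomial.eval₂_eq', Finset.sum_mul]
  refine Finset.sum_congr rfl fun d hd => ?_
  have hdeg : ∑ i, d i = N := by
    rw [← Finsupp.degree_eq_sum]
    by_contra hne
    exact (MvPolynomial.mem_support_iff.mp hd) (hg.coeff_eq_zero hne)
  simp_rw [mul_pow]
  rw [Finset.prod_mul_distrib, Finset.prod_pow_eq_pow_sum, hdeg, mul_assoc]

/-- Over an algebraically closed constant field, let `φ = (φ₀, …, φₙ)`, `n ≥ 1`, be a projective map
onto the curve `V`. (a) A homogeneous `g` not vanishing identically on `V` vanishes at the image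
point of only finitely many places (so a closed set not containing `V` meets `V` in a finite set);
(b) each fibre of `φ` is finite. Here `g` vanishes at `φ(P)` when `g(φ₀/φⱼ, …, φₙ/φⱼ)` lies in the
maximal ideal of `P` for an entry `φⱼ` of least order at `P`. Two places have the same image point
when some entry `φⱼ` has least order at both and each `φᵢ/φⱼ` is congruent to one constant modulo
both maximal ideals. -/
theorem result (k K : Type*) [Field k] [IsAlgClosed k] [Field K] [Algebra k K]
    (hK : FunFld.IsFunctionField k K) {n : ℕ} (hn : 1 ≤ n)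
    (φ : Fin (n + 1) → K) (hφ : LinearIndependent k φ) :
    (∀ g : MvPolynomial (Fin (n + 1)) k, g.IsHomogeneous g.totalDegree →
      MvPolynomial.aeval φ g ≠ 0 →
        {P : FunFld.Place k K | ∃ j, φ j ≠ 0 ∧ (∀ i, P.1 (φ i) ≤ P.1 (φ j)) ∧
          P.1 (MvPolynomial.aeval (fun i => φ i / φ j) g) < 1}.Finite) ∧
    ∀ P : FunFld.Place k K, {Q : FunFld.Place k K | FunFld.SameImage φ P Q}.Finite := by
  classical
  constructor
  · intro g hg hne
    have hsub : {P : FunFld.Place k K | ∃ j, φ j ≠ 0 ∧ (∀ i, P.1 (φ i) ≤ P.1 (φ j)) ∧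
          P.1 (MvPolynomial.aeval (fun i => φ i / φ j) g) < 1} ⊆
        ⋃ j : Fin (n + 1), {P : FunFld.Place k K | φ j ≠ 0 ∧
          P.1 (MvPolynomial.aeval φ g * ((φ j)⁻¹) ^ g.totalDegree) < 1} := by
      rintro P ⟨j, hj, -, hlt⟩
      rw [Set.mem_iUnion]
      refine ⟨j, hj, ?_⟩
      rw [← aeval_mul_const g hg φ (φ j)⁻¹]
      simpa only [div_eq_mul_inv] using hlt
    refine Set.Finite.subset (Set.finite_iUnion fun j => ?_) hsub
    by_cases hj : φ j = 0
    · convert Set.finite_empty
      ext P
      simp [hj]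
    · refine Set.Finite.subset (Groth.Agent.Lib.Helper23.FF.finite_zeros_of_ne_zero hK
        (x := MvPolynomial.aeval φ g * ((φ j)⁻¹) ^ g.totalDegree)
        (mul_ne_zero hne (pow_ne_zero _ (inv_ne_zero hj)))) ?_
      rintro P ⟨-, h⟩
      exact h
  · intro P
    -- for each j an index different from j
    have hex : ∀ j : Fin (n + 1), ∃ i : Fin (n + 1), i ≠ j := by
      intro j
      by_cases hj : j = 0
      · refine ⟨⟨1, by omega⟩, ?_⟩
        rw [hj]
        intro h
        have := congrArg Fin.val h
        simp at this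
      · exact ⟨0, Ne.symm hj⟩
    choose ι hι using hex
    have hsub : {Q : FunFld.Place k K | FunFld.SameImage φ P Q} ⊆
        ⋃ j : Fin (n + 1), {Q : FunFld.Place k K | φ j ≠ 0 ∧ ∃ c : k,
          P.1 (φ (ι j) / φ j - algebraMap k K c) < 1 ∧
          Q.1 (φ (ι j) / φ j - algebraMap k K c) < 1} := by
      rintro Q ⟨j, hj, -, -, hc⟩
      rw [Set.mem_iUnion]
      exact ⟨j, hj, hc (ι j)⟩
    refine Set.Finite.subset (Set.finite_iUnion fun j => ?_) hsub
    by_cases hj : φ j = 0
    · convert Set.finite_empty
      ext Q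
      simp [hj]
    by_cases hc0 : ∃ c₀ : k, P.1 (φ (ι j) / φ j - algebraMap k K c₀) < 1
    · obtain ⟨c₀, hc₀⟩ := hc0
      have hne : φ (ι j) / φ j - algebraMap k K c₀ ≠ 0 := by
        intro h0
        have h1 : φ (ι j) = c₀ • φ j := by
          rw [sub_eq_zero, div_eq_iff hj] at h0
          rw [h0, Algebra.smul_def]
        refine hφ.notMem_span_image (s := {j}) (x := ι j)
          (fun h => hι j (Set.mem_singleton_iff.mp h)) ?_
        rw [h1, Set.image_singleton]
        exact Submodule.smul_mem _ _ (Submodule.mem_span_singleton_self _)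
      refine Set.Finite.subset
        (Groth.Agent.Lib.Helper23.FF.finite_zeros_of_ne_zero hK hne) ?_
      rintro Q ⟨-, c, hPc, hQc⟩
      have : c = c₀ := Groth.Agent.Lib.Helper23.FF.const_unique P hPc hc₀
      rw [this] at hQc
      exact hQc
    · convert Set.finite_empty
      ext Q
      simp only [Set.mem_ofPred_eq, Set.mem_empty_iff_false, iff_false, not_and, not_exists]
      intro _ c hPc _
      exact hc0 ⟨c, hPc⟩

end Groth.Agent.S11075
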