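import Groth.Statements.S11079
import Mathlib

set_option autoImplicit false
universe u
open CAlg

namespace Groth.Agent.S11079

open Matrix

variable {K L : Type u} [Field K] [Field L] [Algebra K L] [FiniteDimensional K L] {n : ℕ}

/-- The averaging operator on vectors. -/
noncomputable def bvec (B : (L ≃ₐ[K] L) → GL (Fin n) L) (x : Fin n → L) : Fin n → L :=
  ∑ σ : L ≃ₐ[K] L, (B σ : Matrix (Fin n) (Fin n) L) *ᵥ (σ ∘ x)

/-- The averaging operator on matrices. -/
noncomputable def Tmat (B : (L ≃ₐ[K] L) → GL (Fin n) L) (C : Matrix (Fin n) (Fin n) L) :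
    Matrix (Fin n) (Fin n) L :=
  ∑ σ : L ≃ₐ[K] L, (B σ : Matrix (Fin n) (Fin n) L) * C.map σ

theorem bvec_smul (B : (L ≃ₐ[K] L) → GL (Fin n) L) (c : L) (x : Fin n → L) :
    bvec B (c • x) = ∑ σ : L ≃ₐ[K] L, σ c • ((B σ : Matrix (Fin n) (Fin n) L) *ᵥ (σ ∘ x)) := by
  unfold bvec
  apply Finset.sum_congr rfl
  intro σ _
  have : (σ ∘ (c • x)) = σ c • (σ ∘ x) := by
    ext i
    simp
  rw [this, Matrix.mulVec_smul]

theorem span_bvec (B : (L ≃ₐ[K] L) → GL (Fin n) L) :
    Submodule.span L (Set.range (bvec B)) = ⊤ := by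
  by_contra h
  obtain ⟨f, hf0, hfker⟩ := Submodule.exists_le_ker_of_lt_top _ (lt_top_iff_ne_top.2 h)
  have hfb : ∀ x, f (bvec B x) = 0 := fun x =>
    LinearMap.mem_ker.1 (hfker (Submodule.subset_span ⟨x, rfl⟩))
  have key : ∀ (x : Fin n → L) (σ : L ≃ₐ[K] L),
      f ((B σ : Matrix (Fin n) (Fin n) L) *ᵥ (σ ∘ x)) = 0 := by
    intro x
    have hli : LinearIndependent L (fun σ : L ≃ₐ[K] L => ((σ : L →ₐ[K] L).toLinearMap)) :=
      (linearIndependent_algHom_toLinearMap K L L).comp _ AlgEquiv.coe_toAlgHom_injective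
    rw [Fintype.linearIndependent_iff] at hli
    apply hli (fun σ => f ((B σ : Matrix (Fin n) (Fin n) L) *ᵥ (σ ∘ x)))
    ext c
    have := hfb (c • x)
    rw [bvec_smul, map_sum] at this
    simp only [map_smul, smul_eq_mul] at this
    rw [LinearMap.sum_apply, LinearMap.zero_apply, ← this]
    apply Finset.sum_congr rfl
    intro σ _
    rw [LinearMap.smul_apply, smul_eq_mul, mul_comm]
    rfl
  apply hf0
  refine LinearMap.ext fun y => ?_
  have h1 := key ((((B 1)⁻¹ : GL (Fin n) L) : Matrix (Fin n) (Fin n) L) *ᵥ y) 1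
  have h2 : ((1 : L ≃ₐ[K] L) : L → L) ∘ ((((B 1)⁻¹ : GL (Fin n) L) :
      Matrix (Fin n) (Fin n) L) *ᵥ y) = (((B 1)⁻¹ : GL (Fin n) L) :
      Matrix (Fin n) (Fin n) L) *ᵥ y := by
    ext i; simp
  rw [h2, Matrix.mulVec_mulVec, ← Units.val_mul, mul_inv_cancel, Units.val_one,
    Matrix.one_mulVec] at h1
  simpa using h1

theorem Tmat_col (B : (L ≃ₐ[K] L) → GL (Fin n) L) (C : Matrix (Fin n) (Fin n) L) (j : Fin n) :
    (Tmat B C).col j = bvec B (C.col j) := by
  ext i
  simp only [Tmat, bvec, Matrix.col_apply, Matrix.sum_apply, Finset.sum_apply, Matrix.mul_apply,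
    Matrix.mulVec, dotProduct, Matrix.map_apply, Function.comp_apply]

theorem exists_isUnit_Tmat (B : (L ≃ₐ[K] L) → GL (Fin n) L) :
    ∃ C : Matrix (Fin n) (Fin n) L, IsUnit (Tmat B C) := by
  obtain ⟨s, hs, hspan, hli⟩ := exists_linearIndependent L (Set.range (bvec B))
  rw [span_bvec B] at hspan
  let bs : Module.Basis s L (Fin n → L) := Module.Basis.mk hli (by
    rw [Subtype.range_coe_subtype, Set.ofPred_mem_eq, hspan])
  letI : Fintype s := FiniteDimensional.fintypeBasisIndex bs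
  have hcard : Fintype.card s = n := by
    rw [← Module.finrank_eq_card_basis bs, Module.finrank_fin_fun]
  let e : Fin n ≃ s := (Fintype.equivFinOfCardEq hcard).symm
  have hx : ∀ j : Fin n, ∃ x : Fin n → L, bvec B x = (e j : Fin n → L) := fun j => hs (e j).2
  choose x hx using hx
  refine ⟨Matrix.of (fun i j => x j i), ?_⟩
  rw [← Matrix.linearIndependent_cols_iff_isUnit]
  have hcol : (Tmat B (Matrix.of (fun i j => x j i))).col = fun j => (e j : Fin n → L) := by
    ext j i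
    rw [Tmat_col, ← hx j]
    rfl
  rw [hcol]
  exact hli.comp e e.injective

theorem Tmat_cocycle (B : (L ≃ₐ[K] L) → GL (Fin n) L)
    (hB : ∀ σ τ : L ≃ₐ[K] L,
      (B σ : Matrix (Fin n) (Fin n) L) * (B τ : Matrix (Fin n) (Fin n) L).map σ =
        (B (σ * τ) : Matrix (Fin n) (Fin n) L))
    (C : Matrix (Fin n) (Fin n) L) (τ : L ≃ₐ[K] L) :
    (B τ : Matrix (Fin n) (Fin n) L) * (Tmat B C).map τ = Tmat B C := by
  have hmap : ∀ M : Matrix (Fin n) (Fin n) L, M.map τ = (τ : L →+* L).mapMatrix M := by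
    intro M; rfl
  unfold Tmat
  rw [hmap, map_sum, Finset.mul_sum]
  rw [← Equiv.sum_comp (Equiv.mulLeft τ)
    (fun σ => (B σ : Matrix (Fin n) (Fin n) L) * C.map σ)]
  apply Finset.sum_congr rfl
  intro σ _
  rw [map_mul, ← hmap, ← hmap, ← mul_assoc, hB τ σ, Matrix.map_map]
  rfl

/-- Let L/K be a finite Galois extension of fields, n a natural number, and B a map from the Galois
group of L over K to the invertible n × n matrices over L such that B(σ) · σ(B(τ)) = B(στ) for all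
σ, τ, where σ acts on matrices entrywise and στ is the automorphism applying τ first. Then there is
an invertible matrix A over L with B(σ) = A⁻¹ · σ(A) for every σ; that is, every 1-cocycle of the
Galois group with values in GL_n(L) is a coboundary. -/
theorem result (K L : Type u) [Field K] [Field L]
    [Algebra K L] [FiniteDimensional K L] [IsGalois K L] (n : ℕ)
    (B : (L ≃ₐ[K] L) → GL (Fin n) L)
    (hB : ∀ σ τ : L ≃ₐ[K] L,
      (B σ : Matrix (Fin n) (Fin n) L) * (B τ : Matrix (Fin n) (Fin n) L).map σ = (B (σ * τ) : Matrix (Fin n) (Fin n) L)) :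
    ∃ A : GL (Fin n) L, ∀ σ : L ≃ₐ[K] L,
      (B σ : Matrix (Fin n) (Fin n) L) = ((A⁻¹ : GL (Fin n) L) : Matrix (Fin n) (Fin n) L) * (A : Matrix (Fin n) (Fin n) L).map σ := by
  obtain ⟨C, hC⟩ := exists_isUnit_Tmat B
  obtain ⟨A', hA'⟩ := hC
  refine ⟨A'⁻¹, fun σ => ?_⟩
  rw [inv_inv]
  have h1 := Tmat_cocycle B hB C σ
  rw [← hA'] at h1
  have hmap : ∀ M : Matrix (Fin n) (Fin n) L, M.map σ = (σ : L →+* L).mapMatrix M := by
    intro M; rfl
  have h2 : (A' : Matrix (Fin n) (Fin n) L).map σ *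
      ((A'⁻¹ : GL (Fin n) L) : Matrix (Fin n) (Fin n) L).map σ = 1 := by
    rw [hmap, hmap, ← map_mul, ← Units.val_mul, mul_inv_cancel, Units.val_one, map_one]
  calc (B σ : Matrix (Fin n) (Fin n) L)
      = (B σ : Matrix (Fin n) (Fin n) L) * ((A' : Matrix (Fin n) (Fin n) L).map σ *
          ((A'⁻¹ : GL (Fin n) L) : Matrix (Fin n) (Fin n) L).map σ) := by rw [h2, mul_one]
    _ = (A' : Matrix (Fin n) (Fin n) L) *
          ((A'⁻¹ : GL (Fin n) L) : Matrix (Fin n) (Fin n) L).map σ := by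
        rw [← mul_assoc, h1]

end Groth.Agent.S11079
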