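import Groth.Statements.S1108
import Mathlib
import Groth.Agent.Lib.Helper3.RelAmpleQuot
import Groth.Agent.Lib.Helper7.TwFun
import Groth.Agent.Lib.Helper23.Inverse
import Groth.Agent.Lib.Helper17.PullBasis
import Groth.Agent.Lib.Helper13.PCohSingle
import Groth.Agent.Lib.Helper2.Mon.PerfTensor


set_option autoImplicit false
universe u
open CategoryTheory AlgebraicGeometry
open Perf

namespace Groth.Agent.S1108

open CategoryTheory.Limits
open Groth.Agent.Lib.Helper3 Groth.Agent.Lib.Helper3.InvTensor Groth.Agent.Lib.Helper3.InvCoh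
  Groth.Agent.Lib.Helper3.InvMonoidal Groth.Agent.Lib.Helper3.GlobGen
  Groth.Agent.Lib.Helper3.GlobGenFin Groth.Agent.Lib.Helper7.TwFun

/-- A scheme X admitting an ample invertible O_X-module has the resolution property: every
quasi-coherent O_X-module of finite type is a quotient of a finite locally free O_X-module. -/
theorem result (X : Scheme.{u}) (L : X.Modules) (hL : CohB1.IsAmple L) : PerfAux.HasResolutionProperty X := by
  intro M hq hft
  haveI : M.IsQuasicoherent := hq
  haveI : M.IsFiniteType := hft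
  have hinv : PicF.IsInvertible L := hL.1
  haveI : CompactSpace X := hL.2.1
  haveI : X.IsSeparated := RelAmpleLib.isSeparated_of_isAmple hL
  obtain ⟨n₀, h⟩ := RelAmpleQuot.exists_isFinSpanned_twist hL M
  obtain ⟨I, hI, σ, hσ⟩ := h n₀ le_rfl
  haveI := hI
  have hP : PicF.IsInvertible (CohB1.tensorPow L n₀) := isInvertible_tensorPow hinv n₀
  haveI : (CohB1.tensorMod M (CohB1.tensorPow L n₀)).IsQuasicoherent :=
    isQuasicoherent_tensorMod M _ hP
  haveI hep : Epi (freeHom (CohB1.tensorMod M (CohB1.tensorPow L n₀)) σ) :=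
    epi_freeHom _ σ hσ
  obtain ⟨P', hP', ⟨e⟩⟩ := Groth.Agent.Lib.Helper23.Inverse.exists_isInverseOf hP
  haveI : (twR P').IsEquivalence :=
    isEquivalence_twR P' (CohB1.tensorPow L n₀) (braid P' (CohB1.tensorPow L n₀) ≪≫ e)
  refine ⟨(twR P').obj (QCExtend.freeMod X I),
    (twR P').map (freeHom (CohB1.tensorMod M (CohB1.tensorPow L n₀)) σ) ≫
      (cancelNat (CohB1.tensorPow L n₀) P' e).hom.app M, ?_, ?_⟩
  · exact Groth.Agent.Lib.Helper2.Mon.isFinLocFree_tensor _ _
      (Groth.Agent.Lib.Helper13.PCohSingle.isFinLocFree_free I)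
      (Groth.Agent.Lib.Helper17.PullBasis.isFinLocFree_of_isInvertible hP')
  · haveI : Epi ((twR P').map (freeHom (CohB1.tensorMod M (CohB1.tensorPow L n₀)) σ)) :=
      inferInstance
    have h2 : IsIso ((cancelNat (CohB1.tensorPow L n₀) P' e).hom.app M) :=
      NatIso.hom_app_isIso _ M
    have h3 : Epi ((cancelNat (CohB1.tensorPow L n₀) P' e).hom.app M) :=
      @IsIso.epi_of_iso _ _ _ _ _ h2
    exact @epi_comp _ _ _ _ _ _ this _ h3

end Groth.Agent.S1108
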