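import Groth.Statements.S11080
import Mathlib.RingTheory.DedekindDomain.AdicValuation
import Mathlib.Tactic

set_option autoImplicit false

universe u

open CAlg

namespace Groth.Agent.S11080

open IsDedekindDomain

theorem forward (A K : Type u) [CommRing A]
    [IsDedekindDomain A] [Field K] [Algebra A K] [IsFractionRing A K] (O : ValuationSubring K)
    (hA : (algebraMap A K).range ≤ O.toSubring) (hO : O ≠ ⊤) :
    ∃ v : IsDedekindDomain.HeightOneSpectrum A, O = (v.valuation K).valuationSubring := by
  have hmem : ∀ a : A, algebraMap A K a ∈ O := fun a => hA ⟨a, rfl⟩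
  have hval : ∀ a : A, O.valuation (algebraMap A K a) ≤ 1 := fun a =>
    (O.valuation_le_one_iff _).2 (hmem a)
  set f : A →+* O := (algebraMap A K).codRestrict O.toSubring hmem with hf
  set p : Ideal A := Ideal.comap f (IsLocalRing.maximalIdeal O) with hp
  have hpmem : ∀ a : A, a ∈ p ↔ O.valuation (algebraMap A K a) < 1 := by
    intro a
    rw [hp, Ideal.mem_comap, ValuationSubring.valuation_lt_one_iff]
    rfl
  have hprime : p.IsPrime := Ideal.comap_isPrime f _
  have hbot : p ≠ ⊥ := by
    intro hbot
    apply hO
    rw [eq_top_iff]
    intro x _
    obtain ⟨a, b, hb, rfl⟩ := IsFractionRing.div_surjective (A := A) x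
    have hb0 : b ≠ 0 := nonZeroDivisors.ne_zero hb
    have hbp : b ∉ p := by
      rw [hbot, Ideal.mem_bot]; exact hb0
    rw [hpmem, not_lt] at hbp
    have hb1 : O.valuation (algebraMap A K b) = 1 := le_antisymm (hval b) hbp
    rw [← ValuationSubring.valuation_le_one_iff, map_div₀, hb1, div_one]
    exact hval a
  let v : HeightOneSpectrum A := ⟨p, hprime, hbot⟩
  refine ⟨v, ?_⟩
  have hle : HeightOneSpectrum.valuationSubringAtPrime K v ≤ O := by
    rw [HeightOneSpectrum.valuationSubringAtPrime_eq_valuationSubring]
    intro x hx
    rw [Valuation.mem_valuationSubring_iff] at hx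
    obtain ⟨n, d, hnd⟩ := v.exists_primeCompl_mul_eq_of_integer x hx
    have hdp : (d : A) ∉ p := d.2
    rw [hpmem, not_lt] at hdp
    have hd1 : O.valuation (algebraMap A K d) = 1 := le_antisymm (hval d) hdp
    rw [← ValuationSubring.valuation_le_one_iff]
    have : O.valuation x = O.valuation (algebraMap A K n) := by
      rw [← hnd, map_mul, hd1, mul_one]
    rw [this]
    exact hval n
  rw [← HeightOneSpectrum.valuationSubringAtPrime_eq_valuationSubring]
  exact (ValuationSubring.eq_of_le_of_ne_top _ hle hO).symm

theorem backward (A K : Type u) [CommRing A]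
    [IsDedekindDomain A] [Field K] [Algebra A K] [IsFractionRing A K]
    (v : IsDedekindDomain.HeightOneSpectrum A) :
    (algebraMap A K).range ≤ ((v.valuation K).valuationSubring).toSubring ∧
      (v.valuation K).valuationSubring ≠ ⊤ := by
  constructor
  · rintro _ ⟨a, rfl⟩
    exact v.valuation_le_one a
  · intro htop
    obtain ⟨π, hπ⟩ := v.valuation_exists_uniformizer K
    have hmem : π⁻¹ ∈ (v.valuation K).valuationSubring := by
      rw [htop]; trivial
    rw [Valuation.mem_valuationSubring_iff, map_inv₀, hπ, ← WithZero.exp_neg, neg_neg,
      ← WithZero.exp_zero, WithZero.exp_le_exp] at hmem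
    omega

/-- Valuation rings over a curve: let A be a Dedekind domain with fraction field K. A valuation subring
O of K contains A and is different from K if and only if O is the valuation ring of the v-adic
valuation of K at some nonzero prime v of A (equivalently O is the local ring of A at a maximal
ideal, a discrete valuation ring). (The published statement takes A to be the coordinate ring of a
nonsingular affine curve over an algebraically closed field, which is such a Dedekind domain; its
proof uses only that the local rings of A at nonzero primes are discrete valuation rings and that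
nonzero primes are maximal.) -/
theorem result (A K : Type u) [CommRing A]
    [IsDedekindDomain A] [Field K] [Algebra A K] [IsFractionRing A K] (O : ValuationSubring K) :
    ((algebraMap A K).range ≤ O.toSubring ∧ O ≠ ⊤) ↔
      ∃ v : IsDedekindDomain.HeightOneSpectrum A, O = (v.valuation K).valuationSubring := by
  constructor
  · rintro ⟨h1, h2⟩
    exact forward A K O h1 h2
  · rintro ⟨v, rfl⟩
    exact backward A K v

end Groth.Agent.S11080
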