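import Groth.Statements.S11082
import Mathlib

set_option autoImplicit false
universe u v
open CAlg

namespace Groth.Agent.S11082

open scoped IntermediateField.algebraAdjoinAdjoin TensorProduct
open KaehlerDifferential

section
variable {k : Type u} {F : Type v} [Field k] [Field F] [Algebra k F] {ι : Type v} (x : ι → F)

/-- If `F` is formally étale over `k[x]`, then the `d(x i)` form a basis. -/
theorem basis_of_formallyEtale (hx : AlgebraicIndependent k x)
    [Algebra.FormallyEtale (Algebra.adjoin k (Set.range x)) F] :
    ∃ b : Module.Basis ι F Ω[F⁄k], ∀ i, b i = D k F (x i) := by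
  let A := Algebra.adjoin k (Set.range x)
  let P := MvPolynomial ι k
  let e : P ≃ₐ[k] A := hx.aevalEquiv
  letI : Algebra P A := e.toAlgHom.toRingHom.toAlgebra
  letI : Algebra P F := ((algebraMap A F).comp (algebraMap P A)).toAlgebra
  haveI : IsScalarTower P A F := IsScalarTower.of_algebraMap_eq' rfl
  haveI : IsScalarTower k P A := IsScalarTower.of_algebraMap_eq fun c => (e.commutes c).symm
  haveI : IsScalarTower k P F := IsScalarTower.of_algebraMap_eq fun c => by
    show algebraMap k F c = algebraMap A F (e (algebraMap k P c))
    rw [e.commutes]; rfl
  haveI : Algebra.FormallyEtale P A :=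
    Algebra.FormallyEtale.of_equiv (AlgEquiv.ofBijective (Algebra.ofId P A) e.bijective)
  haveI : Algebra.FormallyEtale P F := Algebra.FormallyEtale.comp P A F
  let T := KaehlerDifferential.tensorKaehlerEquivOfFormallyEtale k P F
  let b₀ : Module.Basis ι F (F ⊗[P] Ω[P⁄k]) :=
    (KaehlerDifferential.mvPolynomialBasis k ι).baseChange F
  refine ⟨b₀.map T, fun i => ?_⟩
  rw [Module.Basis.map_apply, Module.Basis.baseChange_apply]
  have hb : (KaehlerDifferential.mvPolynomialBasis k ι) i = D k P (MvPolynomial.X i) := by
    apply (KaehlerDifferential.mvPolynomialBasis k ι).repr.injective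
    rw [Module.Basis.repr_self, KaehlerDifferential.mvPolynomialBasis_repr_D_X]
  rw [hb, KaehlerDifferential.tensorKaehlerEquivOfFormallyEtale_apply,
    KaehlerDifferential.mapBaseChange_tmul, one_smul, KaehlerDifferential.map_D]
  congr 1
  show algebraMap A F (e (MvPolynomial.X i)) = x i
  rw [AlgebraicIndependent.algebraMap_aevalEquiv, MvPolynomial.aeval_X]

theorem forward_dir (hx : IsTranscendenceBasis k x)
    (hsep : Algebra.IsSeparable (IntermediateField.adjoin k (Set.range x)) F) :
    LinearIndependent F (fun i : ι => KaehlerDifferential.D k F (x i)) ∧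
      Submodule.span F (Set.range fun i : ι => KaehlerDifferential.D k F (x i)) = ⊤ := by
  let A := Algebra.adjoin k (Set.range x)
  let E := IntermediateField.adjoin k (Set.range x)
  haveI : Algebra.FormallyEtale A E := Algebra.FormallyEtale.of_isLocalization (nonZeroDivisors A)
  haveI : Algebra.FormallyEtale E F := Algebra.FormallyEtale.of_isSeparable E F
  haveI : Algebra.FormallyEtale A F := Algebra.FormallyEtale.comp A E F
  obtain ⟨b, hb⟩ := basis_of_formallyEtale x hx.1
  have hfun : (fun i : ι => KaehlerDifferential.D k F (x i)) = b := by
    ext i; rw [hb]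
  rw [hfun]
  exact ⟨b.linearIndependent, b.span_eq⟩

theorem backward_dir (hF : (⊤ : IntermediateField k F).FG)
    (hspan : Submodule.span F (Set.range fun i : ι => KaehlerDifferential.D k F (x i)) = ⊤) :
    Algebra.IsSeparable (IntermediateField.adjoin k (Set.range x)) F := by
  let E := IntermediateField.adjoin k (Set.range x)
  haveI : Algebra.EssFiniteType k F := IntermediateField.fg_top_iff.mp hF
  haveI : Algebra.EssFiniteType E F := Algebra.EssFiniteType.of_comp k E F
  rw [← Algebra.FormallyUnramified.iff_isSeparable]
  rw [Algebra.formallyUnramified_iff]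
  -- Ω[F⁄E] is spanned by the images of D k F (x i), which vanish
  have hsurj := KaehlerDifferential.map_surjective k E F
  have hzero : ∀ ω : Ω[F⁄k], KaehlerDifferential.map k E F F ω = 0 := by
    intro ω
    have hω : ω ∈ Submodule.span F (Set.range fun i : ι => KaehlerDifferential.D k F (x i)) := by
      rw [hspan]; trivial
    induction hω using Submodule.span_induction with
    | mem y hy =>
      obtain ⟨i, rfl⟩ := hy
      rw [KaehlerDifferential.map_D]
      have : (algebraMap F F) (x i) = algebraMap E F ⟨x i, IntermediateField.subset_adjoin k _ ⟨i, rfl⟩⟩ := rfl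
      rw [this, Derivation.map_algebraMap]
    | zero => exact map_zero _
    | add y z _ _ hy hz => rw [map_add, hy, hz, add_zero]
    | smul c y _ hy => rw [map_smul, hy, smul_zero]
  constructor
  intro a b
  obtain ⟨a', rfl⟩ := hsurj a
  obtain ⟨b', rfl⟩ := hsurj b
  rw [hzero, hzero]

end

/-- Let k be an algebraically closed field, F a field extension of k which is finitely generated as a
field, and x a transcendence basis of F over k indexed by a type ι. Then F is a separable algebraic
extension of the subfield k(x) generated by the family (x is a separating transcendence basis) if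
and only if the differentials d(x i) form a basis of the F-vector space of Kähler differentials of F
over k, i.e. they are linearly independent over F and span it. -/
theorem result (k : Type u) (F : Type v)
    [Field k] [IsAlgClosed k] [Field F] [Algebra k F] (hF : (⊤ : IntermediateField k F).FG)
    {ι : Type v} (x : ι → F) (hx : IsTranscendenceBasis k x) :
    Algebra.IsSeparable (IntermediateField.adjoin k (Set.range x)) F ↔
      (LinearIndependent F (fun i : ι => KaehlerDifferential.D k F (x i)) ∧
        Submodule.span F (Set.range fun i : ι => KaehlerDifferential.D k F (x i)) = ⊤) := by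
  constructor
  · intro hsep
    exact forward_dir x hx hsep
  · rintro ⟨_, hspan⟩
    exact backward_dir x hF hspan

end Groth.Agent.S11082
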