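import Groth.Statements.S11083
import Groth.Agent.S11082
import Mathlib

set_option autoImplicit false
universe u v
open CAlg

namespace Groth.Agent.S11083

open scoped IntermediateField.algebraAdjoinAdjoin
open KaehlerDifferential

/-- Over a perfect field, the Kähler differentials of a finitely generated field extension
have a basis indexed by some transcendence basis. -/
theorem exists_basis (k : Type u) (F : Type v) [Field k] [PerfectField k] [Field F] [Algebra k F]
    (hF : (⊤ : IntermediateField k F).FG) :
    ∃ (s : Finset F) (_ : IsTranscendenceBasis k ((↑) : s → F)) (b : Module.Basis s F Ω[F⁄k]),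
      ∀ i, b i = D k F (i : F) := by
  haveI : Algebra.EssFiniteType k F := IntermediateField.fg_top_iff.mp hF
  obtain ⟨s, hs, hsep⟩ := exists_isTranscendenceBasis_and_isSeparable_of_perfectField k F
  refine ⟨s, hs, ?_⟩
  have hr : Set.range ((↑) : s → F) = (s : Set F) := Subtype.range_coe_subtype
  let A := Algebra.adjoin k (Set.range ((↑) : s → F))
  let E := IntermediateField.adjoin k (Set.range ((↑) : s → F))
  haveI : Algebra.IsSeparable E F := by
    show Algebra.IsSeparable (IntermediateField.adjoin k (Set.range ((↑) : s → F))) F
    rw [hr]; exact hsep
  haveI : Algebra.FormallyEtale A E := Algebra.FormallyEtale.of_isLocalization (nonZeroDivisors A)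
  haveI : Algebra.FormallyEtale E F := Algebra.FormallyEtale.of_isSeparable E F
  haveI : Algebra.FormallyEtale A F := Algebra.FormallyEtale.comp A E F
  exact Groth.Agent.S11082.basis_of_formallyEtale ((↑) : s → F) hs.1

/-- Let k be an algebraically closed field, F a field extension of k which is finitely generated as a
field, and x a transcendence basis of F over k indexed by Fin d. Then the F-vector space of Kähler
differentials of F over k has F-rank exactly d: it is finite-dimensional of dimension the
transcendence degree. -/
theorem result (k : Type u) (F : Type v)
    [Field k] [IsAlgClosed k] [Field F] [Algebra k F] (hF : (⊤ : IntermediateField k F).FG)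
    (d : ℕ) (x : Fin d → F) (hx : IsTranscendenceBasis k x) :
    Module.rank F (Ω[F⁄k]) = d := by
  obtain ⟨s, hs, b, -⟩ := exists_basis k F hF
  rw [← b.mk_eq_rank'']
  have := hs.lift_cardinalMk_eq hx
  simpa using this

end Groth.Agent.S11083
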