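import Groth.Statements.S11084
import Groth.Agent.S11080
import Mathlib.NumberTheory.RatFunc.Ostrowski
import Mathlib.Tactic

set_option autoImplicit false
universe u
open CAlg

namespace Groth.Agent.S11084

open Polynomial

theorem isTrivialOn_of_range_le (k : Type u) [Field k] (O : ValuationSubring (RatFunc k))
    (h : (algebraMap k (RatFunc k)).range ≤ O.toSubring) : O.valuation.IsTrivialOn k := by
  constructor
  intro c hc
  have h1 : O.valuation (algebraMap k (RatFunc k) c) ≤ 1 :=
    (O.valuation_le_one_iff _).2 (h ⟨c, rfl⟩)
  have h2 : O.valuation (algebraMap k (RatFunc k) c⁻¹) ≤ 1 :=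
    (O.valuation_le_one_iff _).2 (h ⟨c⁻¹, rfl⟩)
  have h3 : O.valuation (algebraMap k (RatFunc k) c) * O.valuation (algebraMap k (RatFunc k) c⁻¹)
      = 1 := by
    rw [← map_mul, ← map_mul, mul_inv_cancel₀ hc, map_one, map_one]
  apply le_antisymm h1
  by_contra hlt
  rw [not_le] at hlt
  have : O.valuation (algebraMap k (RatFunc k) c) *
      O.valuation (algebraMap k (RatFunc k) c⁻¹) < 1 := by
    calc O.valuation (algebraMap k (RatFunc k) c) * O.valuation (algebraMap k (RatFunc k) c⁻¹)
        ≤ O.valuation (algebraMap k (RatFunc k) c) * 1 := mul_le_mul_right h2 _
      _ = O.valuation (algebraMap k (RatFunc k) c) := mul_one _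
      _ < 1 := hlt
  rw [h3] at this
  exact lt_irrefl _ this

/-- Let k be a field and O a valuation subring of the field of rational functions k(x). Then O contains
the constants k and is different from k(x) if and only if O is the valuation ring of the P-adic
valuation at a nonzero prime P of the polynomial ring k[x], or O is the valuation ring of the
valuation at infinity (given by the degree). (The published statement has k algebraically closed, so
that these valuation rings correspond to the points of the projective line; the published proof does
not use that k is algebraically closed. The published statement also asserts that distinct points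
give distinct valuation rings, which this row does not state, and counts k(x) itself among the
valuation rings containing k; this row excludes it.) -/
theorem result (k : Type u) [Field k] [DecidableEq (RatFunc k)]
    (O : ValuationSubring (RatFunc k)) :
    ((algebraMap k (RatFunc k)).range ≤ O.toSubring ∧ O ≠ ⊤) ↔
      ((∃ v : IsDedekindDomain.HeightOneSpectrum (Polynomial k), O = (v.valuation (RatFunc k)).valuationSubring) ∨
        O = (RatFunc.inftyValuation k).valuationSubring) := by
  constructor
  · rintro ⟨hk, htop⟩
    haveI := isTrivialOn_of_range_le k O hk
    rcases lt_or_ge 1 (O.valuation RatFunc.X) with hlt | hle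
    · right
      have := RatFunc.valuation_isEquiv_inftyValuation_of_one_lt_valuation_X hlt
      rw [Valuation.isEquiv_iff_valuationSubring, ValuationSubring.valuationSubring_valuation] at this
      exact this
    · left
      apply Groth.Agent.S11080.forward (Polynomial k) (RatFunc k) O _ htop
      rintro _ ⟨p, rfl⟩
      have := Polynomial.valuation_le_one_of_valuation_X_le_one (v := O.valuation) k hle p
      exact (O.valuation_le_one_iff _).1 this
  · rintro (⟨v, rfl⟩ | rfl)
    · obtain ⟨h1, h2⟩ := Groth.Agent.S11080.backward (Polynomial k) (RatFunc k) v
      refine ⟨?_, h2⟩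
      rintro _ ⟨c, rfl⟩
      apply h1
      exact ⟨Polynomial.C c, (IsScalarTower.algebraMap_apply k (Polynomial k) (RatFunc k) c).symm⟩
    · constructor
      · rintro _ ⟨c, rfl⟩
        show RatFunc.inftyValuation k (algebraMap k (RatFunc k) c) ≤ 1
        by_cases hc : c = 0
        · rw [hc, map_zero, map_zero]; exact zero_le
        · rw [RatFunc.algebraMap_eq_C, RatFunc.inftyValuation.C k hc]
      · intro htop
        have hmem : (RatFunc.X : RatFunc k) ∈ (RatFunc.inftyValuation k).valuationSubring := by
          rw [htop]; trivial
        rw [Valuation.mem_valuationSubring_iff, RatFunc.inftyValuation.X, ← WithZero.exp_zero,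
          WithZero.exp_le_exp] at hmem
        omega

end Groth.Agent.S11084
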