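import Groth.Statements.S11086
import Mathlib
import Groth.Agent.Lib.Helper6.DiffLoc

set_option autoImplicit false
universe u
attribute [local instance] FractionRing.liftAlgebra
open CAlg

namespace Groth.Agent.S11086

/-- Let A be a Dedekind domain, B a Dedekind domain which is a finitely generated torsion-free A-algebra
with fraction field separable over that of A (the integral closure of A in a finite separable
extension), and S a submonoid of A consisting of non-zero-divisors. Let A_S and B_S be localizations
of A at S and of B at the image of S, with B_S an algebra over A_S compatibly with A and B (so A_S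
is integrally closed and B_S is a Dedekind domain, torsion-free over A_S). Then the ideal of B_S
generated by the different of B over A is the different of B_S over A_S. -/
theorem result (A B : Type u) [CommRing A] [CommRing B]
    [IsDedekindDomain A] [IsDedekindDomain B] [Algebra A B] [Module.Finite A B] [Module.IsTorsionFree A B]
    [Algebra.IsSeparable (FractionRing A) (FractionRing B)]
    (S : Submonoid A) (hS : S ≤ nonZeroDivisors A)
    (Aₛ Bₛ : Type u) [CommRing Aₛ] [CommRing Bₛ] [Algebra A Aₛ] [Algebra B Bₛ] [Algebra Aₛ Bₛ]
    [Algebra A Bₛ] [IsScalarTower A Aₛ Bₛ] [IsScalarTower A B Bₛ]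
    [IsLocalization S Aₛ] [IsLocalization (Algebra.algebraMapSubmonoid B S) Bₛ]
    [IsDomain Aₛ] [IsIntegrallyClosed Aₛ] [IsDedekindDomain Bₛ] [Module.IsTorsionFree Aₛ Bₛ] :
    Ideal.map (algebraMap B Bₛ) (differentIdeal A B) = differentIdeal Aₛ Bₛ := by
  classical
  let K := FractionRing A
  let L := FractionRing B
  haveI : IsScalarTower A K L := FractionRing.isScalarTower_liftAlgebra A L
  let f : Aₛ →+* K := IsLocalization.map _ (T := nonZeroDivisors A) (RingHom.id A) hS
  let g : Bₛ →+* L := IsLocalization.map _ (M := Algebra.algebraMapSubmonoid B S)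
      (T := nonZeroDivisors B)
      (RingHom.id B) (Submonoid.map_le_of_le_comap _ <| hS.trans
      (nonZeroDivisors_le_comap_nonZeroDivisors_of_injective _
        (FaithfulSMul.algebraMap_injective _ _)))
  letI : Algebra Aₛ K := f.toAlgebra
  letI : Algebra Bₛ L := g.toAlgebra
  letI : Algebra Aₛ L := ((algebraMap K L).comp f).toAlgebra
  haveI : IsScalarTower Aₛ K L := IsScalarTower.of_algebraMap_eq' rfl
  haveI : IsScalarTower A Aₛ K := IsScalarTower.of_algebraMap_eq'
    (by rw [RingHom.algebraMap_toAlgebra, IsLocalization.map_comp, RingHomCompTriple.comp_eq])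
  haveI := IsFractionRing.isFractionRing_of_isDomain_of_isLocalization S Aₛ K
  haveI : IsScalarTower B Bₛ L := IsScalarTower.of_algebraMap_eq'
    (by rw [RingHom.algebraMap_toAlgebra, IsLocalization.map_comp, RingHomCompTriple.comp_eq])
  haveI : IsScalarTower Aₛ Bₛ L := by
    apply IsScalarTower.of_algebraMap_eq'
    apply IsLocalization.ringHom_ext S
    ext a
    simp only [RingHom.comp_apply]
    have h1 : algebraMap Aₛ L (algebraMap A Aₛ a)
        = algebraMap K L (algebraMap Aₛ K (algebraMap A Aₛ a)) := rfl
    rw [h1, ← IsScalarTower.algebraMap_apply A Aₛ K, ← IsScalarTower.algebraMap_apply A K L,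
      ← IsScalarTower.algebraMap_apply A Aₛ Bₛ, IsScalarTower.algebraMap_apply A B Bₛ,
      ← IsScalarTower.algebraMap_apply B Bₛ L, ← IsScalarTower.algebraMap_apply A B L]
  haveI := IsFractionRing.isFractionRing_of_isDomain_of_isLocalization
    (Algebra.algebraMapSubmonoid B S) Bₛ L
  haveI : Module.Finite Aₛ Bₛ := Module.Finite.of_isLocalization A B S
  haveI : IsIntegralClosure B A L := IsIntegralClosure.of_isIntegrallyClosed B A L
  haveI : IsIntegralClosure Bₛ Aₛ L := IsIntegralClosure.of_isIntegrallyClosed Bₛ Aₛ L
  haveI : IsLocalization (Algebra.algebraMapSubmonoid B (nonZeroDivisors A)) L :=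
    IsIntegralClosure.isLocalization _ K _ _
  haveI : FiniteDimensional K L := .of_isLocalization A B (nonZeroDivisors A)
  exact Groth.Agent.Lib.Helper6.DiffLoc.main A B Aₛ Bₛ K L S

end Groth.Agent.S11086
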