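import Groth.Statements.S11087
import Mathlib
import Groth.Agent.Lib.Helper15.FiniteComplete
import Groth.Agent.Lib.Helper15.ComplSemilocal

set_option autoImplicit false
universe u
attribute [local instance] FractionRing.liftAlgebra
open CAlg

namespace Groth.Agent.S11087


namespace H11087
open Groth.Agent.Lib.Helper15 IsLocalRing

/-- uniqueness part: an element of a maximal ideal algebraic over a subfield is zero -/
lemma eq_zero_of_isAlgebraic_of_mem {K B : Type*} [Field K] [CommRing B] [IsDomain B] [Algebra K B]
    (M : Ideal B) (hM : M ≠ ⊤) (d : B) (hd : IsAlgebraic K d) (hdM : d ∈ M) : d = 0 := by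
  by_contra hd0
  have hint : IsIntegral K d := hd.isIntegral
  have h0 := minpoly.coeff_zero_ne_zero hint hd0
  have h1 : Polynomial.aeval d (minpoly K d) = 0 := minpoly.aeval K d
  have h2 : minpoly K d = Polynomial.X * (minpoly K d).divX + Polynomial.C ((minpoly K d).coeff 0) :=
    (Polynomial.X_mul_divX_add _).symm
  rw [h2, map_add, map_mul, Polynomial.aeval_X, Polynomial.aeval_C] at h1
  have h3 : algebraMap K B ((minpoly K d).coeff 0) ∈ M := by
    have h4 : algebraMap K B ((minpoly K d).coeff 0)
        = - (d * Polynomial.aeval d (minpoly K d).divX) := by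
      rw [eq_neg_iff_add_eq_zero, add_comm]; exact h1
    rw [h4]
    exact M.neg_mem (M.mul_mem_right _ hdM)
  exact hM (Ideal.eq_top_of_isUnit_mem _ h3 ((IsUnit.mk0 _ h0).map (algebraMap K B)))

/-- existence via Hensel in a henselian local ring -/
lemma exists_lift {K B : Type*} [Field K] [PerfectField K] [CommRing B] [HenselianLocalRing B]
    [Algebra K B] (b : B) (hint : IsIntegral K (residue B b)) :
    ∃ c : B, IsAlgebraic K c ∧ c - b ∈ maximalIdeal B := by
  obtain ⟨e, he⟩ : ∃ e : ResidueField B, e = residue B b := ⟨_, rfl⟩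
  rw [← he] at hint
  obtain ⟨μ, hμ⟩ : ∃ μ : Polynomial K, μ = minpoly K e := ⟨_, rfl⟩
  have hμirr : Irreducible μ := hμ ▸ minpoly.irreducible hint
  have hμmonic : μ.Monic := hμ ▸ minpoly.monic hint
  have hμroot : Polynomial.aeval e μ = 0 := hμ ▸ minpoly.aeval K e
  have hμsep : μ.Separable := PerfectField.separable_of_irreducible hμirr
  have halg : algebraMap K (ResidueField B) = (residue B).comp (algebraMap K B) := rfl
  have hres : ∀ R : Polynomial K,
      residue B (R.eval₂ (algebraMap K B) b) = Polynomial.aeval e R := by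
    intro R
    rw [Polynomial.hom_eval₂, ← he, Polynomial.aeval_def, halg]
  have hP1 : (μ.map (algebraMap K B)).eval b ∈ maximalIdeal B := by
    rw [← residue_eq_zero_iff, Polynomial.eval_map, hres, hμroot]
  have hP2 : IsUnit ((μ.map (algebraMap K B)).derivative.eval b) := by
    rw [← residue_ne_zero_iff_isUnit, Polynomial.derivative_map, Polynomial.eval_map, hres]
    exact hμsep.aeval_derivative_ne_zero hμroot
  obtain ⟨c, hcroot, hcb⟩ :=
    HenselianLocalRing.is_henselian (μ.map (algebraMap K B)) (hμmonic.map _) b hP1 hP2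
  refine ⟨c, ⟨μ, hμmonic.ne_zero, ?_⟩, hcb⟩
  rw [Polynomial.aeval_def, Polynomial.eval₂_eq_eval_map]
  exact hcroot

theorem main (K A B : Type u) [Field K]
    [PerfectField K] [CommRing A] [IsDomain A] [IsDiscreteValuationRing A]
    [IsAdicComplete (IsLocalRing.maximalIdeal A) A]
    [Algebra K A] (hK : Function.Bijective ((IsLocalRing.residue A).comp (algebraMap K A)))
    [CommRing B] [IsDedekindDomain B] [Algebra A B] [Module.Finite A B] [Module.IsTorsionFree A B]
    [Algebra K B] [IsScalarTower K A B]
    (M : Ideal B) [hM : M.IsMaximal] (b : B) :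
    ∃! c : B, IsAlgebraic K c ∧ b - c ∈ M := by
  classical
  haveI hcompl : IsAdicComplete (FiniteComplete.mS A B) B := FiniteComplete.isAdicComplete_mS A B
  have hinj : Function.Injective (algebraMap A B) := FaithfulSMul.algebraMap_injective A B
  have hK0 : FiniteComplete.mS A B ≠ ⊥ := by
    obtain ⟨ϖ, hϖ, hϖ0⟩ := Submodule.exists_mem_ne_zero_of_ne_bot
      (IsDiscreteValuationRing.not_a_field A)
    intro h
    have h1 : algebraMap A B ϖ ∈ FiniteComplete.mS A B := Ideal.mem_map_of_mem _ hϖ
    rw [h, Ideal.mem_bot] at h1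
    exact hϖ0 (hinj (by rw [h1, map_zero]))
  have H : ∀ P : Ideal B, P.IsPrime → P ≠ ⊥ → FiniteComplete.mS A B ≤ P := fun P hP hP0 =>
    FiniteComplete.mS_le_maximal A B P (hP.isMaximal hP0)
  obtain ⟨-, hmax, hcomp⟩ := ComplSemilocal.main (FiniteComplete.mS A B) hK0 H
  haveI hloc : IsLocalRing B :=
    IsLocalRing.of_unique_max_ideal ⟨M, hM, fun m' hm' => by rw [hmax m' hm', hmax M hM]⟩
  have hMeq : maximalIdeal B = M := (IsLocalRing.eq_maximalIdeal hM).symm
  have hrad : (FiniteComplete.mS A B).radical = maximalIdeal B := by rw [hMeq, hmax M hM]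
  haveI : IsAdicComplete (maximalIdeal B) B := hrad ▸ hcomp
  haveI : HenselianLocalRing B :=
    { toIsLocalRing := hloc
      is_henselian := fun f hf a₀ h₁ h₂ =>
        HenselianRing.is_henselian (I := maximalIdeal B) f hf a₀ h₁
          (h₂.map (Ideal.Quotient.mk (maximalIdeal B))) }
  -- integrality of the residue class over K
  have hint : IsIntegral K (residue B b) := by
    obtain ⟨g, hgm, hg⟩ := Algebra.IsIntegral.isIntegral (R := A) b
    obtain ⟨f, hf⟩ : ∃ f : K →+* ResidueField B, f = (residue B).comp (algebraMap K B) := ⟨_, rfl⟩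
    obtain ⟨φA, hφA⟩ : ∃ φA : A →+* ResidueField B, φA = (residue B).comp (algebraMap A B) :=
      ⟨_, rfl⟩
    have hrange : ∀ a : A, φA a ∈ Set.range f := by
      intro a
      obtain ⟨c, hc⟩ := hK.2 (residue A a)
      refine ⟨c, ?_⟩
      have h1 : algebraMap K A c - a ∈ maximalIdeal A := by
        rw [← residue_eq_zero_iff, map_sub, sub_eq_zero]
        exact hc
      have h2 : algebraMap A B (algebraMap K A c - a) ∈ maximalIdeal B := by
        rw [hMeq]
        exact FiniteComplete.mS_le_maximal A B M hM (Ideal.mem_map_of_mem _ h1)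
      rw [← residue_eq_zero_iff, map_sub, map_sub, sub_eq_zero,
        ← IsScalarTower.algebraMap_apply K A B] at h2
      rw [hf, hφA]
      exact h2
    have hlift : g.map φA ∈ Polynomial.lifts f :=
      (Polynomial.lifts_iff_coeff_lifts _).2 (fun n => by rw [Polynomial.coeff_map]; exact hrange _)
    obtain ⟨Q, hQ, -, hQm⟩ := Polynomial.lifts_and_degree_eq_and_monic hlift (hgm.map φA)
    refine ⟨Q, hQm, ?_⟩
    have h3 : algebraMap K (ResidueField B) = f := by rw [hf]; rfl
    rw [h3, Polynomial.eval₂_eq_eval_map, hQ, Polynomial.eval_map, hφA,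
      ← Polynomial.hom_eval₂, hg, map_zero]
  obtain ⟨c, hcalg, hcb⟩ := exists_lift (K := K) b hint
  refine ⟨c, ⟨hcalg, ?_⟩, ?_⟩
  · rw [← hMeq]
    have : b - c = -(c - b) := by ring
    rw [this]; exact Ideal.neg_mem_iff _ |>.2 hcb
  · rintro c' ⟨hc'alg, hc'b⟩
    have hd : c' - c ∈ M := by
      have : c' - c = (b - c) - (b - c') := by ring
      rw [this]
      refine M.sub_mem ?_ hc'b
      rw [← hMeq]
      have : b - c = -(c - b) := by ring
      rw [this]; exact Ideal.neg_mem_iff _ |>.2 hcb
    have := eq_zero_of_isAlgebraic_of_mem (K := K) M hM.ne_top (c' - c) (hc'alg.sub hcalg) hd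
    exact sub_eq_zero.1 this

end H11087

/-- Let A be a complete discrete valuation ring and K a perfect field contained in A such that K → A →
A/m is bijective. Let B be a Dedekind domain which is a finite torsion-free A-algebra with fraction
field separable over that of A (the integral closure of A in a finite separable extension of its
fraction field). Then for every maximal ideal M of B and every b in B there is exactly one element c
of B which is algebraic over K and congruent to b modulo M; in other words the algebraic closure of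
K in B is a subfield mapping isomorphically onto B/M. -/
theorem result (K A B : Type u) [Field K]
    [PerfectField K] [CommRing A] [IsDomain A] [IsDiscreteValuationRing A]
    [IsAdicComplete (IsLocalRing.maximalIdeal A) A]
    [Algebra K A] (hK : Function.Bijective ((IsLocalRing.residue A).comp (algebraMap K A)))
    [CommRing B] [IsDedekindDomain B] [Algebra A B] [Module.Finite A B] [Module.IsTorsionFree A B]
    [Algebra.IsSeparable (FractionRing A) (FractionRing B)] [Algebra K B] [IsScalarTower K A B]
    (M : Ideal B) [M.IsMaximal] (b : B) :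
    ∃! c : B, IsAlgebraic K c ∧ b - c ∈ M := by
  exact H11087.main K A B hK M b

end Groth.Agent.S11087
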