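import Groth.Statements.S11088
import Mathlib
import Groth.Agent.S11091
import Groth.Agent.S0612

set_option autoImplicit false
universe u
attribute [local instance] FractionRing.liftAlgebra
open CAlg

namespace Groth.Agent.S11088


namespace H11088
open IsLocalRing

/-- DVR: multiplicity of the maximal ideal in `(x)` is the length of `R/(x)`. -/
theorem dvr_emult (R : Type u) [CommRing R] [IsDomain R] [IsDiscreteValuationRing R] (x : R)
    (hx : x ≠ 0) :
    emultiplicity (maximalIdeal R) (Ideal.span {x}) =
      Module.length R (R ⧸ Ideal.span {x}) := by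
  obtain ⟨ϖ, hϖ⟩ := IsDiscreteValuationRing.exists_irreducible R
  obtain ⟨n, u, rfl⟩ := IsDiscreteValuationRing.eq_unit_mul_pow_irreducible hx hϖ
  have h1 : Module.length R (R ⧸ Ideal.span {(u : R) * ϖ ^ n}) = n := by
    have := Ring.ord_eq_addVal ((u : R) * ϖ ^ n)
    rw [IsDiscreteValuationRing.addVal_def' u hϖ n] at this
    exact this
  have h2 : Ideal.span {(u : R) * ϖ ^ n} = (maximalIdeal R) ^ n := by
    rw [hϖ.maximalIdeal_eq, Ideal.span_singleton_pow, Ideal.span_singleton_eq_span_singleton]
    exact associated_unit_mul_left_iff.mpr (Associated.refl _)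
  rw [h1, h2]
  refine emultiplicity_pow_self ?_ ?_ n
  · rw [Ideal.zero_eq_bot]
    exact IsDiscreteValuationRing.not_a_field R
  · rw [Ideal.isUnit_iff]
    exact (maximalIdeal.isMaximal R).ne_top

theorem main (A B : Type u) [CommRing A] [IsDomain A] [IsDiscreteValuationRing A]
    [IsAdicComplete (IsLocalRing.maximalIdeal A) A]
    [CommRing B] [IsDedekindDomain B] [Algebra A B] [Module.Finite A B] [Module.IsTorsionFree A B]
    [Algebra.IsSeparable (FractionRing A) (FractionRing B)]
    (M : Ideal B) [hM : M.IsMaximal] (x : B) (hx : x ≠ 0) :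
    emultiplicity (IsLocalRing.maximalIdeal A) (Ideal.span {Algebra.intNorm A B x}) =
      (M.inertiaDeg A : ℕ∞) * emultiplicity M (Ideal.span {x}) := by
  classical
  haveI : IsLocalRing B := IsLocalRing.of_unique_max_ideal (Groth.Agent.S11091.result A B)
  have hMeq : M = maximalIdeal B := IsLocalRing.eq_maximalIdeal hM
  rw [hMeq]
  have hinj : Function.Injective (algebraMap A B) := FaithfulSMul.algebraMap_injective A B
  have hBf : ¬ IsField B := fun h =>
    IsDiscreteValuationRing.not_isField A (isField_of_isIntegral_of_isField hinj h)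
  haveI : IsDiscreteValuationRing B :=
    ((IsDiscreteValuationRing.TFAE B hBf).out 0 2).mpr (inferInstance : IsDedekindDomain B)
  haveI : IsLocalHom (algebraMap A B) := inferInstance
  haveI : Module.Free A B := inferInstance
  obtain ⟨b⟩ : Nonempty (Module.Basis (Fin (Module.finrank A B)) A B) := ⟨Module.finBasis A B⟩
  obtain ⟨X, hX⟩ : ∃ X : Matrix (Fin (Module.finrank A B)) (Fin (Module.finrank A B)) A,
      X = Algebra.leftMulMatrix b x := ⟨_, rfl⟩
  have hdet : X.det = Algebra.intNorm A B x := by
    rw [hX, ← Algebra.norm_eq_matrix_det, Algebra.intNorm_eq_norm]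
  have hN0 : Algebra.intNorm A B x ≠ 0 := Algebra.intNorm_ne_zero.mpr hx
  have hdetnzd : X.det ∈ nonZeroDivisors A := mem_nonZeroDivisors_of_ne_zero (hdet ▸ hN0)
  have hmap : ((Ideal.span {x} : Ideal B).restrictScalars A).map
      (b.equivFun : B →ₗ[A] (Fin (Module.finrank A B) → A)) = LinearMap.range X.mulVecLin := by
    ext v
    constructor
    · rintro ⟨y, hy, rfl⟩
      have hy' : y ∈ Ideal.span {x} := hy
      obtain ⟨c, rfl⟩ := Ideal.mem_span_singleton'.mp hy'
      refine ⟨b.equivFun c, ?_⟩
      rw [Matrix.mulVecLin_apply, hX, mul_comm c x]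
      exact Algebra.leftMulMatrix_mulVec_repr b x c
    · rintro ⟨w, rfl⟩
      refine ⟨x * b.equivFun.symm w, ?_, ?_⟩
      · show x * _ ∈ Ideal.span {x}
        exact Ideal.mul_mem_right _ _ (Ideal.subset_span rfl)
      · have h1 := Algebra.leftMulMatrix_mulVec_repr b x (b.equivFun.symm w)
        have h2 : (b.repr (b.equivFun.symm w) : Fin (Module.finrank A B) → A) = w :=
          b.equivFun.apply_symm_apply w
        rw [h2] at h1
        rw [Matrix.mulVecLin_apply, hX]
        exact h1.symm
  have e1 : Module.length A (B ⧸ Ideal.span {x}) =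
      Module.length A ((Fin (Module.finrank A B) → A) ⧸ LinearMap.range X.mulVecLin) :=
    ((Submodule.Quotient.restrictScalarsEquiv A (Ideal.span {x})).symm.trans
      (Submodule.Quotient.equiv _ _ b.equivFun hmap)).length_eq
  have e2 := IsLocalRing.length_restrictScalars A B (B ⧸ Ideal.span {x})
  have e3 : Module.length A (A ⧸ Ideal.span {X.det}) =
      Module.length A ((Fin (Module.finrank A B) → A) ⧸ LinearMap.range X.mulVecLin) :=
    (Groth.Agent.S0612.H0612.global_main X hdetnzd).symm
  have e4 := dvr_emult A (Algebra.intNorm A B x) hN0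
  have e5 := dvr_emult B x hx
  have e6 : (((maximalIdeal B).inertiaDeg A : ℕ) : ℕ∞) =
      Module.length (ResidueField A) (ResidueField B) := by
    rw [Module.length_eq_finrank]
    congr 1
    exact Ideal.inertiaDeg_eq_of_isMaximal (maximalIdeal A) (maximalIdeal B)
  rw [e4, ← hdet, e3, ← e1, e2, ← e5, e6, mul_comm]

end H11088

/-- Let A be a complete discrete valuation ring with maximal ideal m and B a Dedekind domain which is a
finite torsion-free A-algebra with fraction field separable over that of A (the integral closure of
A in a finite separable extension). Then for every maximal ideal M of B, with f the degree of B/M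
over A/m, and every nonzero x in B, the multiplicity of m in the ideal generated by the norm of x
equals f times the multiplicity of M in the ideal generated by x: v(N(x)) = f · w(x). -/
theorem result (A B : Type u) [CommRing A] [IsDomain A] [IsDiscreteValuationRing A]
    [IsAdicComplete (IsLocalRing.maximalIdeal A) A]
    [CommRing B] [IsDedekindDomain B] [Algebra A B] [Module.Finite A B] [Module.IsTorsionFree A B]
    [Algebra.IsSeparable (FractionRing A) (FractionRing B)]
    (M : Ideal B) [M.IsMaximal] (x : B) (hx : x ≠ 0) :
    emultiplicity (IsLocalRing.maximalIdeal A) (Ideal.span {Algebra.intNorm A B x}) =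
      (M.inertiaDeg A : ℕ∞) * emultiplicity M (Ideal.span {x}) := by
  exact H11088.main A B M x hx

end Groth.Agent.S11088
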