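import Groth.Statements.S11092
import Groth.Agent.S11082
import Groth.Agent.S11083
import Groth.Agent.Lib.Helper17.KaehlerField
import Mathlib

set_option autoImplicit false
universe u v
open CAlg

namespace Groth.Agent.S11092

open scoped IntermediateField.algebraAdjoinAdjoin TensorProduct
open KaehlerDifferential

/-- Over a perfect field, a finitely generated field extension has a separating transcendence basis
whose differentials form a basis of the Kähler differentials. -/
theorem exists_sep_basis (k : Type u) (F : Type v) [Field k] [PerfectField k] [Field F]
    [Algebra k F] (hF : (⊤ : IntermediateField k F).FG) :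
    ∃ (s : Finset F) (_ : IsTranscendenceBasis k ((↑) : s → F))
      (_ : Algebra.IsSeparable (IntermediateField.adjoin k (s : Set F)) F)
      (b : Module.Basis s F Ω[F⁄k]), ∀ i, b i = D k F (i : F) := by
  haveI : Algebra.EssFiniteType k F := IntermediateField.fg_top_iff.mp hF
  obtain ⟨s, hs, hsep⟩ := exists_isTranscendenceBasis_and_isSeparable_of_perfectField k F
  refine ⟨s, hs, hsep, ?_⟩
  have hr : Set.range ((↑) : s → F) = (s : Set F) := Subtype.range_coe_subtype
  let A := Algebra.adjoin k (Set.range ((↑) : s → F))
  let E := IntermediateField.adjoin k (Set.range ((↑) : s → F))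
  haveI : Algebra.IsSeparable E F := by
    show Algebra.IsSeparable (IntermediateField.adjoin k (Set.range ((↑) : s → F))) F
    rw [hr]; exact hsep
  haveI : Algebra.FormallyEtale A E := Algebra.FormallyEtale.of_isLocalization (nonZeroDivisors A)
  haveI : Algebra.FormallyEtale E F := Algebra.FormallyEtale.of_isSeparable E F
  haveI : Algebra.FormallyEtale A F := Algebra.FormallyEtale.comp A E F
  exact Groth.Agent.S11082.basis_of_formallyEtale ((↑) : s → F) hs.1

section
variable {k : Type u} {K L : Type v}
    [Field k] [IsAlgClosed k] [Field K] [Field L] [Algebra k K] [Algebra k L] [Algebra K L]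
    [IsScalarTower k K L]

theorem zero_or_injective (hK : (⊤ : IntermediateField k K).FG)
    (hx : ∃ x : K, IsTranscendenceBasis k (fun _ : Unit => x)) :
    KaehlerDifferential.map k k K L = 0 ∨ Function.Injective (KaehlerDifferential.map k k K L) := by
  obtain ⟨x, hx⟩ := hx
  obtain ⟨s, hs, -, b, -⟩ := exists_sep_basis k K hK
  have hcard := hs.lift_cardinalMk_eq hx
  have hcard' : Fintype.card s = 1 := by
    have : (Cardinal.mk s : Cardinal) = 1 := by simpa using hcard
    rw [Cardinal.mk_fintype] at this
    exact_mod_cast this
  obtain ⟨i₀, hi₀⟩ := Fintype.card_eq_one_iff.mp hcard'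
  set f := KaehlerDifferential.map k k K L with hf
  by_cases h0 : f (b i₀) = 0
  · left
    apply b.ext
    intro i
    rw [hi₀ i, h0]; rfl
  · right
    rw [injective_iff_map_eq_zero]
    intro ω hω
    have hrepr : ω = b.repr ω i₀ • b i₀ := by
      conv_lhs => rw [← b.sum_repr ω]
      rw [Fintype.sum_eq_single i₀]
      intro i hi
      exact absurd (hi₀ i) hi
    rw [hrepr, map_smul, smul_eq_zero] at hω
    rcases hω with hc | hc
    · rw [hrepr, hc, zero_smul]
    · exact absurd hc h0

theorem injective_of_isSeparable [FiniteDimensional K L] [Algebra.IsSeparable K L] :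
    Function.Injective (KaehlerDifferential.map k k K L) := by
  haveI : Algebra.FormallyEtale K L := Algebra.FormallyEtale.of_isSeparable K L
  let T := KaehlerDifferential.tensorKaehlerEquivOfFormallyEtale k K L
  have h1 : Function.Injective (TensorProduct.mk K L Ω[K⁄k] 1) :=
    Module.Flat.tensorProduct_mk_injective K Ω[K⁄k] L
  have h2 : ∀ ω, KaehlerDifferential.map k k K L ω = T (TensorProduct.mk K L Ω[K⁄k] 1 ω) := by
    intro ω
    rw [TensorProduct.mk_apply, KaehlerDifferential.tensorKaehlerEquivOfFormallyEtale_apply,
      KaehlerDifferential.mapBaseChange_tmul, one_smul]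
  intro ω ω' h
  rw [h2, h2] at h
  exact h1 (T.injective h)

theorem isSeparable_of_injective (hK : (⊤ : IntermediateField k K).FG)
    (hx : ∃ x : K, IsTranscendenceBasis k (fun _ : Unit => x)) [FiniteDimensional K L]
    (hinj : Function.Injective (KaehlerDifferential.map k k K L)) :
    Algebra.IsSeparable K L := by
  obtain ⟨x, hx⟩ := hx
  obtain ⟨s, hs, hsep, b, hb⟩ := exists_sep_basis k K hK
  have hcard := hs.lift_cardinalMk_eq hx
  have hcard' : Fintype.card s = 1 := by
    have : (Cardinal.mk s : Cardinal) = 1 := by simpa using hcard
    rw [Cardinal.mk_fintype] at this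
    exact_mod_cast this
  obtain ⟨i₀, hi₀⟩ := Fintype.card_eq_one_iff.mp hcard'
  -- L is finitely generated over k of transcendence degree one
  haveI : Algebra.EssFiniteType k K := IntermediateField.fg_top_iff.mp hK
  haveI : Algebra.EssFiniteType k L := Algebra.EssFiniteType.comp k K L
  have hL : (⊤ : IntermediateField k L).FG := IntermediateField.fg_top_iff.mpr inferInstance
  have hxL : IsTranscendenceBasis k (algebraMap K L ∘ fun _ : Unit => x) := hx.algebraMap_comp
  have hxL' : IsTranscendenceBasis k (fun _ : Fin 1 => algebraMap K L x) :=
    (isTranscendenceBasis_equiv' (Equiv.ofUnique (Fin 1) Unit) (by ext; rfl)).mpr hxL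
  have hrank := Groth.Agent.S11083.result k L hL 1 _ hxL'
  have hfin : Module.finrank L Ω[L⁄k] = 1 := by
    apply Module.finrank_eq_of_rank_eq
    rw [hrank]
  -- the image of the basis vector is nonzero, hence spans
  have hne : KaehlerDifferential.map k k K L (b i₀) ≠ 0 := by
    intro h0
    exact b.ne_zero i₀ (hinj (by rw [h0, map_zero]))
  rw [hb, KaehlerDifferential.map_D] at hne
  have hspanL := (finrank_eq_one_iff_of_nonzero' _ hne).mp hfin
  -- apply the criterion with E = k(s) inside K
  let E := IntermediateField.adjoin k (s : Set K)
  let y : s → E := fun i => ⟨i, IntermediateField.subset_adjoin k _ i.2⟩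
  have hsepE : Algebra.IsSeparable E L := by
    apply Groth.Agent.Lib.Helper17.isSeparable_of_span_D_eq_top (k := k) y
    rw [eq_top_iff]
    intro ω _
    obtain ⟨c, hc⟩ := hspanL ω
    rw [← hc]
    apply Submodule.smul_mem
    apply Submodule.subset_span
    exact ⟨i₀, rfl⟩
  exact Algebra.isSeparable_tower_top_of_isSeparable E K L

end

/-- Let k be an algebraically closed field, K a field finitely generated over k admitting a one-element
transcendence basis over k (a function field of dimension one), and L a finite extension field of K
with the compatible k-algebra structure. Then the K-linear map from the Kähler differentials of K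
over k to those of L over k induced by the inclusion is either the zero map or injective, and it is
injective if and only if L is separable over K. (The published statement takes K ⊆ L to be the
function fields of two elliptic curves related by a nonzero homomorphism; its proof uses only that
they are function fields of dimension one over k.) -/
theorem result (k : Type u) (K L : Type v)
    [Field k] [IsAlgClosed k] [Field K] [Field L] [Algebra k K] [Algebra k L] [Algebra K L]
    [IsScalarTower k K L] (hK : (⊤ : IntermediateField k K).FG)
    (hx : ∃ x : K, IsTranscendenceBasis k (fun _ : Unit => x)) [FiniteDimensional K L] :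
    (KaehlerDifferential.map k k K L = 0 ∨ Function.Injective (KaehlerDifferential.map k k K L)) ∧
      (Function.Injective (KaehlerDifferential.map k k K L) ↔ Algebra.IsSeparable K L) := by
  refine ⟨zero_or_injective hK hx, ?_, ?_⟩
  · intro hinj
    exact isSeparable_of_injective hK hx hinj
  · intro hsep
    exact injective_of_isSeparable

end Groth.Agent.S11092
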