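import Groth.Statements.S11095
import Groth.Agent.Lib.Helper14.GeomIrr

set_option autoImplicit false
universe u
open CAlg

namespace Groth.Agent.S11095

/-- Let K₀ be a perfect field, K an algebraic extension of K₀ and F₀ a field extension of K₀ such that
K₀ is algebraically closed in F₀. Then the K₀-algebra F₀ ⊗ K is a field; consequently F₀ and K,
embedded in it by x ↦ x ⊗ 1 and y ↦ 1 ⊗ y, are linearly disjoint over K₀. -/
theorem result (K₀ F₀ K : Type u)
    [Field K₀] [PerfectField K₀] [Field F₀] [Algebra K₀ F₀] [Field K] [Algebra K₀ K]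
    [Algebra.IsAlgebraic K₀ K] (h : algebraicClosure K₀ F₀ = ⊥) :
    IsField (TensorProduct K₀ F₀ K) := by
  haveI : Algebra.IsSeparable K₀ K := Algebra.IsAlgebraic.isSeparable_of_perfectField
  have H : ∀ α : F₀, IsSeparable K₀ α → α ∈ Set.range (algebraMap K₀ F₀) := by
    intro α hα
    have h1 : α ∈ algebraicClosure K₀ F₀ := by
      rw [mem_algebraicClosure_iff]
      exact hα.isIntegral.isAlgebraic
    rw [h] at h1
    exact IntermediateField.mem_bot.mp h1
  haveI hnzd : NoZeroDivisors (TensorProduct K₀ K F₀) := by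
    apply Groth.Agent.Lib.Helper9.GeomLib.noZeroDivisors_of_finite_subextensions
    intro F hF
    haveI := hF
    haveI : Algebra.IsSeparable K₀ F := Algebra.isSeparable_tower_bot_of_isSeparable K₀ F K
    haveI : IsDomain (TensorProduct K₀ F F₀) :=
      Groth.Agent.Lib.Helper14.GeomIrr.isDomain_tensor_of_sepClosedIn (F := F) H
    have hnz := @IsDomain.to_noZeroDivisors _ _ this
    exact hnz
  haveI : IsDomain (TensorProduct K₀ F₀ K) := by
    haveI : NoZeroDivisors (TensorProduct K₀ F₀ K) :=
      (Algebra.TensorProduct.comm K₀ F₀ K).injective.noZeroDivisors _ (map_zero _) (map_mul _)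
    haveI : Nontrivial (TensorProduct K₀ F₀ K) :=
      Algebra.TensorProduct.nontrivial_of_algebraMap_injective_of_flat_right K₀ F₀ K
        (algebraMap K₀ F₀).injective
    exact NoZeroDivisors.to_isDomain _
  exact Algebra.TensorProduct.isField_of_isAlgebraic K₀ F₀ K (Or.inr inferInstance)

end Groth.Agent.S11095
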