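import Groth.Statements.S11096
import Mathlib.Tactic

set_option autoImplicit false
universe u
open Neron

namespace Groth.Agent.S11096

theorem mul_mem_sq {R : Type u} [CommRing R] (I : Ideal R) {a b : R} (ha : a ∈ I) (hb : b ∈ I) :
    a * b ∈ I ^ 2 := by
  rw [pow_two]; exact Ideal.mul_mem_mul ha hb

/-- Let a Weierstrass equation have coefficients in a commutative ring R and let I be an ideal with a₃,
a₄, a₆ ∈ I. If the discriminant Δ does not lie in I ^ 2, then a₆ does not lie in I ^ 2 and b₂ does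
not lie in I. (For a discrete valuation ring with maximal ideal (π): if π divides a₃, a₄, a₆ and
v(Δ) = 1, then v(a₆) = 1 and π does not divide b₂.) -/
theorem result {R : Type u} [CommRing R] (W : WeierstrassCurve R)
    (I : Ideal R) (h3 : W.a₃ ∈ I) (h4 : W.a₄ ∈ I) (h6 : W.a₆ ∈ I) (hΔ : W.Δ ∉ I ^ 2) :
    W.a₆ ∉ I ^ 2 ∧ W.b₂ ∉ I := by
  have hb4 : W.b₄ ∈ I := by
    rw [WeierstrassCurve.b₄]
    exact I.add_mem (I.mul_mem_left _ h4) (I.mul_mem_left _ h3)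
  have hb6 : W.b₆ ∈ I := by
    rw [WeierstrassCurve.b₆]
    exact I.add_mem (by rw [pow_two]; exact I.mul_mem_left _ h3) (I.mul_mem_left _ h6)
  -- Δ = -b₂³ a₆ + (element of I²)
  have key : W.Δ + W.b₂ ^ 3 * W.a₆ ∈ I ^ 2 := by
    have e : W.Δ + W.b₂ ^ 3 * W.a₆ =
        W.b₂ ^ 2 * (W.a₁ * W.a₄ * W.a₃ - W.a₂ * (W.a₃ * W.a₃) + W.a₄ * W.a₄)
          - 8 * W.b₄ * (W.b₄ * W.b₄) - 27 * (W.b₆ * W.b₆) + 9 * W.b₂ * (W.b₄ * W.b₆) := by
      rw [WeierstrassCurve.Δ, WeierstrassCurve.b₈, WeierstrassCurve.b₂]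
      ring
    rw [e]
    refine Ideal.add_mem _ (Ideal.sub_mem _ (Ideal.sub_mem _ ?_ ?_) ?_) ?_
    · apply Ideal.mul_mem_left
      refine Ideal.add_mem _ (Ideal.sub_mem _ ?_ ?_) ?_
      · rw [mul_assoc]; exact Ideal.mul_mem_left _ _ (mul_mem_sq I h4 h3)
      · exact Ideal.mul_mem_left _ _ (mul_mem_sq I h3 h3)
      · exact mul_mem_sq I h4 h4
    · exact Ideal.mul_mem_left _ _ (mul_mem_sq I hb4 hb4)
    · exact Ideal.mul_mem_left _ _ (mul_mem_sq I hb6 hb6)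
    · exact Ideal.mul_mem_left _ _ (mul_mem_sq I hb4 hb6)
  constructor
  · intro h6'
    apply hΔ
    have : W.Δ = (W.Δ + W.b₂ ^ 3 * W.a₆) - W.b₂ ^ 3 * W.a₆ := by ring
    rw [this]
    exact Ideal.sub_mem _ key (Ideal.mul_mem_left _ _ h6')
  · intro hb2
    apply hΔ
    have : W.Δ = (W.Δ + W.b₂ ^ 3 * W.a₆) - W.b₂ ^ 2 * (W.b₂ * W.a₆) := by ring
    rw [this]
    exact Ideal.sub_mem _ key (Ideal.mul_mem_left _ _ (mul_mem_sq I hb2 h6))

end Groth.Agent.S11096
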