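import Groth.Statements.S11097
import Mathlib

set_option autoImplicit false
universe u
open Polynomial
open Neron

namespace Groth.Agent.S11097

open IsLocalRing WeierstrassCurve.Affine

section
variable {R : Type u} [CommRing R]

theorem algMap_eq (W : WeierstrassCurve.Affine R) (r : R) :
    algebraMap R W.CoordinateRing r = CoordinateRing.mk W (C (C r)) := rfl

/-- every element of the coordinate ring is congruent to a constant modulo `(x, y)` -/
theorem exists_const (W : WeierstrassCurve.Affine R) (c : W.CoordinateRing) :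
    ∃ r : R, c - algebraMap R W.CoordinateRing r ∈
      Ideal.span {CoordinateRing.mk W (C X), CoordinateRing.mk W X} := by
  obtain ⟨g, rfl⟩ := AdjoinRoot.mk_surjective c
  obtain ⟨h, hh⟩ := Polynomial.X_dvd_sub_C (p := g)
  obtain ⟨h', hh'⟩ := Polynomial.X_dvd_sub_C (p := g.coeff 0)
  refine ⟨(g.coeff 0).coeff 0, ?_⟩
  have e : g - C (C ((g.coeff 0).coeff 0)) = X * h + C X * C h' := by
    have e0 : g - C (C ((g.coeff 0).coeff 0)) =
        (g - C (g.coeff 0)) + C (g.coeff 0 - C ((g.coeff 0).coeff 0)) := by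
      rw [C_sub]; ring
    rw [e0, hh, hh', C_mul]
  have e2 : AdjoinRoot.mk W.polynomial g - algebraMap R W.CoordinateRing ((g.coeff 0).coeff 0)
      = CoordinateRing.mk W X * CoordinateRing.mk W h +
        CoordinateRing.mk W (C X) * CoordinateRing.mk W (C h') := by
    rw [algMap_eq, ← map_sub, e, map_add, map_mul, map_mul]
  rw [e2]
  exact Ideal.add_mem _ (Ideal.mul_mem_right _ _ (Ideal.subset_span (by simp)))
    (Ideal.mul_mem_right _ _ (Ideal.subset_span (by simp)))

theorem a6_mem (W : WeierstrassCurve.Affine R) :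
    algebraMap R W.CoordinateRing W.a₆ ∈
      Ideal.span {CoordinateRing.mk W (C X), CoordinateRing.mk W X} := by
  have e : (C (C W.a₆) : Polynomial (Polynomial R)) =
      X * (X + C (C W.a₁ * X + C W.a₃)) - C X * C (X ^ 2 + C W.a₂ * X + C W.a₄)
        - W.polynomial := by
    rw [WeierstrassCurve.Affine.polynomial]
    simp only [map_add, map_mul, map_pow]
    ring
  rw [algMap_eq, e, map_sub, map_sub, AdjoinRoot.mk_self, sub_zero, map_mul, map_mul]
  exact Ideal.sub_mem _ (Ideal.mul_mem_right _ _ (Ideal.subset_span (by simp)))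
    (Ideal.mul_mem_right _ _ (Ideal.subset_span (by simp)))

variable [IsDomain R] [IsDiscreteValuationRing R]

theorem mem_of_mem_max (W : WeierstrassCurve.Affine R)
    (h6 : W.a₆ ∈ maximalIdeal R) (h6' : W.a₆ ∉ maximalIdeal R ^ 2) (r : R)
    (hr : r ∈ maximalIdeal R) :
    algebraMap R W.CoordinateRing r ∈
      Ideal.span {CoordinateRing.mk W (C X), CoordinateRing.mk W X} := by
  obtain ⟨ϖ, hϖ⟩ := IsDiscreteValuationRing.exists_irreducible R
  have hm : maximalIdeal R = Ideal.span {ϖ} := hϖ.maximalIdeal_eq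
  rw [hm, Ideal.mem_span_singleton'] at h6 hr
  obtain ⟨u, hu⟩ := h6
  obtain ⟨s, hs⟩ := hr
  have hu' : IsUnit u := by
    by_contra hnu
    have hum : u ∈ maximalIdeal R := (IsLocalRing.mem_maximalIdeal u).2 hnu
    rw [hm, Ideal.mem_span_singleton'] at hum
    obtain ⟨v, hv⟩ := hum
    apply h6'
    rw [hm, ← hu, ← hv, Ideal.span_singleton_pow, Ideal.mem_span_singleton']
    exact ⟨v, by ring⟩
  obtain ⟨u', rfl⟩ := hu'
  have hr' : r = (s * ↑u'⁻¹) * W.a₆ := by
    calc r = s * ϖ := hs.symm
      _ = s * (↑u'⁻¹ * (↑u' * ϖ)) := by rw [Units.inv_mul_cancel_left]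
      _ = (s * ↑u'⁻¹) * W.a₆ := by rw [hu, mul_assoc]
  rw [hr', map_mul]
  exact Ideal.mul_mem_left _ _ (a6_mem W)

theorem P_eq (W : WeierstrassCurve.Affine R)
    (h6 : W.a₆ ∈ maximalIdeal R) (h6' : W.a₆ ∉ maximalIdeal R ^ 2)
    (P : Ideal W.CoordinateRing) [P.IsMaximal]
    (hx : CoordinateRing.mk W (C X) ∈ P) (hy : CoordinateRing.mk W X ∈ P) :
    P = Ideal.span {CoordinateRing.mk W (C X), CoordinateRing.mk W X} := by
  have hJ : Ideal.span {CoordinateRing.mk W (C X), CoordinateRing.mk W X} ≤ P := by
    rw [Ideal.span_le]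
    rintro z (rfl | rfl)
    · exact hx
    · exact hy
  refine le_antisymm (fun c hc => ?_) hJ
  obtain ⟨r, hr⟩ := exists_const W c
  have hrP : algebraMap R W.CoordinateRing r ∈ P := by
    have := P.sub_mem hc (hJ hr)
    rwa [sub_sub_cancel] at this
  have hrm : r ∈ maximalIdeal R := by
    by_contra hnr
    have hu : IsUnit r := IsLocalRing.notMem_maximalIdeal.1 hnr
    exact (Ideal.IsMaximal.ne_top ‹_›) (Ideal.eq_top_of_isUnit_mem _ hrP (hu.map _))
  have := Ideal.add_mem _ hr (mem_of_mem_max W h6 h6' r hrm)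
  rwa [sub_add_cancel] at this

theorem two_le_height (W : WeierstrassCurve.Affine R) (h6 : W.a₆ ∈ maximalIdeal R)
    (P : Ideal W.CoordinateRing) [P.IsMaximal]
    (hPJ : P = Ideal.span {CoordinateRing.mk W (C X), CoordinateRing.mk W X}) :
    (2 : ℕ∞) ≤ P.height := by
  have h0 : (WeierstrassCurve.Affine.polynomial (W.map (IsLocalRing.residue R))).evalEval 0 0
      = 0 := by
    rw [evalEval_polynomial_zero, neg_eq_zero]
    show IsLocalRing.residue R W.a₆ = 0
    exact (IsLocalRing.residue_eq_zero_iff _).2 h6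
  let φ : W.CoordinateRing →+* (W.map (IsLocalRing.residue R)).toAffine.CoordinateRing :=
    CoordinateRing.map W (IsLocalRing.residue R)
  let ε : (W.map (IsLocalRing.residue R)).toAffine.CoordinateRing →+* ResidueField R :=
    AdjoinRoot.evalEval h0
  have hQprime : (RingHom.ker φ).IsPrime := RingHom.ker_isPrime φ
  have hker : RingHom.ker φ ≤ RingHom.ker (ε.comp φ) := fun c hc => by
    rw [RingHom.mem_ker] at hc ⊢
    rw [RingHom.comp_apply, hc, map_zero]
  have hP' : P = RingHom.ker (ε.comp φ) := by
    have hprime : (RingHom.ker (ε.comp φ)).IsPrime := RingHom.ker_isPrime _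
    refine Ideal.IsMaximal.eq_of_le ‹_› hprime.ne_top ?_
    rw [hPJ, Ideal.span_le]
    rintro z (rfl | rfl)
    · rw [SetLike.mem_coe, RingHom.mem_ker, RingHom.comp_apply, CoordinateRing.map_mk,
        AdjoinRoot.evalEval_mk]
      simp [Polynomial.evalEval]
    · rw [SetLike.mem_coe, RingHom.mem_ker, RingHom.comp_apply, CoordinateRing.map_mk,
        AdjoinRoot.evalEval_mk]
      simp [Polynomial.evalEval]
  have hQP : RingHom.ker φ < P := by
    refine lt_of_le_of_ne (hP' ▸ hker) ?_
    intro hQeq
    have hxQ : CoordinateRing.mk W (C X) ∈ RingHom.ker φ := by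
      rw [hQeq, hPJ]; exact Ideal.subset_span (by simp)
    rw [RingHom.mem_ker, CoordinateRing.map_mk] at hxQ
    have hne : CoordinateRing.mk (W.map (IsLocalRing.residue R)).toAffine (C X) ≠ 0 :=
      AdjoinRoot.mk_ne_zero_of_natDegree_lt monic_polynomial (C_ne_zero.mpr X_ne_zero)
        (by rw [natDegree_polynomial, natDegree_C]; norm_num)
    apply hne
    simpa using hxQ
  have hQ0 : (⊥ : Ideal W.CoordinateRing) < RingHom.ker φ := by
    obtain ⟨ϖ, hϖ⟩ := IsDiscreteValuationRing.exists_irreducible R
    refine bot_lt_iff_ne_bot.2 fun hQ => ?_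
    have hres : IsLocalRing.residue R ϖ = 0 := by
      rw [IsLocalRing.residue_eq_zero_iff, hϖ.maximalIdeal_eq]
      exact Ideal.mem_span_singleton_self ϖ
    have hmem : algebraMap R W.CoordinateRing ϖ ∈ RingHom.ker φ := by
      rw [RingHom.mem_ker, algMap_eq, CoordinateRing.map_mk]
      simp [hres]
    rw [hQ, Ideal.mem_bot] at hmem
    exact hϖ.ne_zero (FaithfulSMul.algebraMap_injective R W.CoordinateRing
      (by rw [hmem, map_zero]))
  have h1 : (⊥ : Ideal W.CoordinateRing).height < (RingHom.ker φ).height :=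
    Ideal.height_strict_mono_of_isPrime_of_isPrime hQ0
  have h2 : (RingHom.ker φ).height < P.height :=
    Ideal.height_strict_mono_of_isPrime_of_isPrime hQP
  calc (2 : ℕ∞) = 0 + 1 + 1 := by norm_num
    _ ≤ (⊥ : Ideal W.CoordinateRing).height + 1 + 1 := by gcongr; exact zero_le
    _ ≤ (RingHom.ker φ).height + 1 := by gcongr; exact Order.add_one_le_of_lt h1
    _ ≤ P.height := Order.add_one_le_of_lt h2

end


/-- Let R be a discrete valuation ring with maximal ideal m and let y² + a₁xy + a₃y = x³ + a₂x² + a₄x +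
a₆ be a Weierstrass equation with coefficients in R such that a₃, a₄, a₆ ∈ m and a₆ ∉ m². Then the
affine scheme defined by the equation over R is regular at the point π = x = y = 0 of its special
fibre: the localization of the coordinate ring at a maximal ideal containing the image of m and the
classes of x and y is a regular local ring. (The published statement asserts regularity of the
projective Weierstrass scheme; this row states it at the point π = x = y = 0 of the special fibre.) -/
theorem result (R : Type u) [CommRing R] [IsDomain R]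
    [IsDiscreteValuationRing R] (W : WeierstrassCurve.Affine R)
    (h3 : W.a₃ ∈ IsLocalRing.maximalIdeal R) (h4 : W.a₄ ∈ IsLocalRing.maximalIdeal R)
    (h6 : W.a₆ ∈ IsLocalRing.maximalIdeal R) (h6' : W.a₆ ∉ IsLocalRing.maximalIdeal R ^ 2)
    (P : Ideal W.CoordinateRing) [P.IsMaximal]
    (hP : ∀ r ∈ IsLocalRing.maximalIdeal R, algebraMap R W.CoordinateRing r ∈ P)
    (hx : WeierstrassCurve.Affine.CoordinateRing.mk W (C X) ∈ P)
    (hy : WeierstrassCurve.Affine.CoordinateRing.mk W X ∈ P) :
    IsRegularLocalRing (Localization.AtPrime P) := by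
  have hPJ := P_eq W h6 h6' P hx hy
  haveI : IsNoetherianRing (Localization.AtPrime P) :=
    IsLocalization.isNoetherianRing P.primeCompl _ inferInstance
  apply IsRegularLocalRing.of_spanFinrank_maximalIdeal_le
  rw [IsLocalization.AtPrime.ringKrullDim_eq_height P (Localization.AtPrime P)]
  have hmap := IsLocalization.AtPrime.map_eq_maximalIdeal P (Localization.AtPrime P)
  have e1 : Ideal.map (algebraMap W.CoordinateRing (Localization.AtPrime P)) P =
      Ideal.map (algebraMap W.CoordinateRing (Localization.AtPrime P))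
        (Ideal.span {CoordinateRing.mk W (C X), CoordinateRing.mk W X}) :=
    congrArg _ hPJ
  have hmax : maximalIdeal (Localization.AtPrime P) =
      Ideal.span (algebraMap W.CoordinateRing (Localization.AtPrime P) ''
        {CoordinateRing.mk W (C X), CoordinateRing.mk W X}) := by
    rw [← hmap, e1, Ideal.map_span]
  have hfin : (maximalIdeal (Localization.AtPrime P)).spanFinrank ≤ 2 := by
    rw [hmax]
    refine le_trans (Submodule.spanFinrank_span_le_ncard_of_finite (Set.toFinite _)) ?_
    refine le_trans (Set.ncard_image_le (Set.toFinite _)) ?_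
    exact (Set.ncard_insert_le _ _).trans (by simp)
  have h2 := two_le_height W h6 P hPJ
  calc ((maximalIdeal (Localization.AtPrime P)).spanFinrank : WithBot ℕ∞)
      ≤ ((2 : ℕ∞) : WithBot ℕ∞) := by exact_mod_cast hfin
    _ ≤ P.height := by exact_mod_cast h2

end Groth.Agent.S11097
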