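import Groth.Statements.S7241
import Mathlib
import Groth.Agent.Lib.Helper3.RelAmpleQuot
import Groth.Agent.Lib.Helper7.TwFun
import Groth.Agent.Lib.Helper23.Inverse
import Groth.Agent.Lib.Helper17.PullBasis
import Groth.Agent.Lib.Helper17.LocFreeOps
import Groth.Agent.Lib.Helper2.Mon.PerfTensor


set_option autoImplicit false
universe u
open CategoryTheory CategoryTheory.Limits AlgebraicGeometry
attribute [local instance] HasDerivedCategory.standard
open Perf

namespace Groth.Agent.S7241

open CategoryTheory.Limits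
open Groth.Agent.Lib.Helper3 Groth.Agent.Lib.Helper3.InvTensor Groth.Agent.Lib.Helper3.InvCoh
  Groth.Agent.Lib.Helper3.InvMonoidal Groth.Agent.Lib.Helper3.GlobGen
  Groth.Agent.Lib.Helper3.GlobGenFin Groth.Agent.Lib.Helper7.TwFun

/-- the main statement, reusable -/
theorem main {X Y : Scheme.{u}} (f : X ⟶ Y) [CompactSpace ↥Y] [QuasiSeparatedSpace ↥Y]
    (hY : PerfAux.HasResolutionProperty Y) (L : X.Modules) (hL : RelAmple.IsRelAmple f L) :
    PerfAux.HasResolutionProperty X := by
  intro M hq hft
  haveI : M.IsQuasicoherent := hq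
  haveI : M.IsFiniteType := hft
  have hinv : PicF.IsInvertible L := AmpleMisc.isInvertible_of_isRelAmple f hL
  obtain ⟨m₀, h⟩ := RelAmpleQuot.exists_quotient f hL M
  obtain ⟨F, φ, hFq, hFf, hφ⟩ := h m₀ le_rfl
  obtain ⟨V, π, hV, hπ⟩ := hY F hFq hFf
  have hP : PicF.IsInvertible (CohB1.tensorPow L m₀) := isInvertible_tensorPow hinv m₀
  obtain ⟨P', hP', ⟨e⟩⟩ := Groth.Agent.Lib.Helper23.Inverse.exists_isInverseOf hP
  haveI : (twR P').IsEquivalence :=
    isEquivalence_twR P' (CohB1.tensorPow L m₀) (braid P' (CohB1.tensorPow L m₀) ≪≫ e)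
  haveI : Epi ((Scheme.Modules.pullback f).map π) := inferInstance
  have hψ : Epi ((Scheme.Modules.pullback f).map π ≫ φ) := epi_comp _ _
  refine ⟨(twR P').obj ((Scheme.Modules.pullback f).obj V),
    (twR P').map ((Scheme.Modules.pullback f).map π ≫ φ) ≫
      (cancelNat (CohB1.tensorPow L m₀) P' e).hom.app M, ?_, ?_⟩
  · exact Groth.Agent.Lib.Helper2.Mon.isFinLocFree_tensor _ _
      (Groth.Agent.Lib.Helper17.LocFreeOps.isFinLocFree_pullback f V hV)
      (Groth.Agent.Lib.Helper17.PullBasis.isFinLocFree_of_isInvertible hP')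
  · have h1 : Epi ((twR P').map ((Scheme.Modules.pullback f).map π ≫ φ)) := inferInstance
    have h2 : IsIso ((cancelNat (CohB1.tensorPow L m₀) P' e).hom.app M) :=
      NatIso.hom_app_isIso _ M
    have h3 : Epi ((cancelNat (CohB1.tensorPow L m₀) P' e).hom.app M) :=
      @IsIso.epi_of_iso _ _ _ _ _ h2
    exact @epi_comp _ _ _ _ _ _ h1 _ h3

/-- Let f : X ⟶ Y be a morphism of schemes whose target Y is quasi-compact, quasi-separated, and
satisfies the resolution property (every quasi-coherent O_Y-module of finite type is a quotient of a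
finite locally free O_Y-module), and suppose there is an f-ample invertible O_X-module L (f
quasi-compact and L ample on the preimage of every affine open of Y). Then X has the resolution
property. -/
theorem result {X Y : Scheme.{u}} (f : X ⟶ Y) [CompactSpace ↥Y] [QuasiSeparatedSpace ↥Y]
    (hY : PerfAux.HasResolutionProperty Y) (L : X.Modules) (hL : RelAmple.IsRelAmple f L) :
    PerfAux.HasResolutionProperty X :=
  main f hY L hL

end Groth.Agent.S7241
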