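import Groth.Statements.S11104
import Mathlib
import Groth.Agent.S11097

set_option autoImplicit false
universe u
open Neron

namespace Groth.Agent.S11104

open Polynomial IsLocalRing WeierstrassCurve.Affine

/-- a "derivation" maps an element of the symbolic square of a prime into the prime -/
theorem deriv_mem {T : Type*} [CommRing T] (𝔓 : Ideal T) [𝔓.IsPrime] (D : T → T)
    (hadd : ∀ a b, D (a + b) = D a + D b) (hmul : ∀ a b, D (a * b) = a * D b + b * D a)
    (f : T) (hf : f ∈ 𝔓)
    (hsq : algebraMap T (Localization.AtPrime 𝔓) f ∈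
      IsLocalRing.maximalIdeal (Localization.AtPrime 𝔓) ^ 2) :
    D f ∈ 𝔓 := by
  have hD2 : ∀ g ∈ 𝔓 ^ 2, D g ∈ 𝔓 := by
    intro g hg
    rw [pow_two] at hg
    refine Submodule.smul_induction_on (p := fun g => D g ∈ 𝔓) hg ?_ ?_
    · intro a ha b hb
      show D (a * b) ∈ 𝔓
      rw [hmul]
      exact 𝔓.add_mem (𝔓.mul_mem_right _ ha) (𝔓.mul_mem_right _ hb)
    · intro a b ha hb
      show D (a + b) ∈ 𝔓
      rw [hadd]; exact 𝔓.add_mem ha hb
  rw [← IsLocalization.AtPrime.map_eq_maximalIdeal 𝔓 (Localization.AtPrime 𝔓), ← Ideal.map_pow,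
    IsLocalization.algebraMap_mem_map_algebraMap_iff 𝔓.primeCompl] at hsq
  obtain ⟨s, hs, hsf⟩ := hsq
  have h1 := hD2 _ hsf
  rw [hmul] at h1
  have h2 : s * D f ∈ 𝔓 := by
    have := 𝔓.sub_mem h1 (𝔓.mul_mem_right (D s) hf)
    rwa [add_sub_cancel_right] at this
  exact (Ideal.IsPrime.mem_or_mem ‹_› h2).resolve_left hs

/-- killing an element of `m \ m^2` drops the number of generators of the maximal ideal -/
theorem spanFinrank_drop {S S' : Type*} [CommRing S] [CommRing S'] [IsLocalRing S]
    [IsNoetherianRing S] [IsLocalRing S'] (ρ : S →+* S') (hρ : Function.Surjective ρ) (a : S)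
    (ha : a ∈ maximalIdeal S) (ha2 : a ∉ maximalIdeal S ^ 2) (hρa : ρ a = 0) :
    (maximalIdeal S').spanFinrank + 1 ≤ (maximalIdeal S).spanFinrank := by
  classical
  have hmax : maximalIdeal S' = (maximalIdeal S).map ρ := by
    apply le_antisymm
    · intro y' hy'
      obtain ⟨y, rfl⟩ := hρ y'
      have : y ∈ maximalIdeal S := by
        by_contra hy
        exact (IsLocalRing.mem_maximalIdeal _).1 hy' ((IsLocalRing.notMem_maximalIdeal.1 hy).map ρ)
      exact Ideal.mem_map_of_mem ρ this
    · apply IsLocalRing.le_maximalIdeal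
      rw [Ne, Ideal.eq_top_iff_one]
      intro h1
      obtain ⟨x, hx, hx1⟩ := (Ideal.mem_map_iff_of_surjective ρ hρ).1 h1
      have hk : RingHom.ker ρ ≤ maximalIdeal S :=
        IsLocalRing.le_maximalIdeal (RingHom.ker_ne_top ρ)
      have h2 : 1 - x ∈ maximalIdeal S :=
        hk (by rw [RingHom.mem_ker, map_sub, map_one, hx1, sub_self])
      have h11 : (1 : S) ∈ maximalIdeal S := by
        have := Ideal.add_mem _ h2 hx
        rwa [sub_add_cancel] at this
      exact (Ideal.ne_top_iff_one _).1 (IsLocalRing.maximalIdeal.isMaximal S).ne_top h11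
  have hv : (maximalIdeal S).toCotangent ⟨a, ha⟩ ≠ 0 := by
    intro h0
    exact ha2 ((Ideal.toCotangent_eq_zero _ _).1 h0)
  obtain ⟨U, hU⟩ := Submodule.exists_isCompl
    (Submodule.span (ResidueField S) {((maximalIdeal S).toCotangent ⟨a, ha⟩ : CotangentSpace S)})
  have hfin : Module.finrank (ResidueField S) U + 1 =
      Module.finrank (ResidueField S) (CotangentSpace S) := by
    have := Submodule.finrank_add_eq_of_isCompl hU
    rw [finrank_span_singleton hv] at this
    rw [add_comm]
    exact this
  let b := Module.finBasis (ResidueField S) U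
  have hsurj := Ideal.toCotangent_surjective (maximalIdeal S)
  choose e he using fun i => hsurj ((b i : U) : CotangentSpace S)
  have hspan : Submodule.span (ResidueField S) ((maximalIdeal S).toCotangent ''
      (insert ⟨a, ha⟩ (Set.range e))) = ⊤ := by
    rw [Set.image_insert_eq, Submodule.span_insert, ← Set.range_comp]
    have h1 : ((maximalIdeal S).toCotangent ∘ e) = fun i => ((b i : U) : CotangentSpace S) :=
      funext he
    rw [h1]
    have hU' : Submodule.span (ResidueField S)
        (Set.range fun i => ((b i : U) : CotangentSpace S)) = U := by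
      have h2 := congrArg (Submodule.map U.subtype) b.span_eq
      rw [Submodule.map_span, ← Set.range_comp, Submodule.map_top, Submodule.range_subtype] at h2
      exact h2
    rw [hU']
    exact hU.sup_eq_top
  rw [IsLocalRing.CotangentSpace.span_image_eq_top_iff] at hspan
  have hm : maximalIdeal S = Ideal.span (Subtype.val '' (insert ⟨a, ha⟩ (Set.range e))) := by
    have h2 := congrArg (Submodule.map (maximalIdeal S).subtype) hspan
    rw [Submodule.map_span, Submodule.map_top, Submodule.range_subtype] at h2
    exact h2.symm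
  have hm' : maximalIdeal S' = Ideal.span (Set.range fun i => ρ (e i : S)) := by
    have hmm : Ideal.map ρ (maximalIdeal S) =
        Ideal.map ρ (Ideal.span (Subtype.val '' (insert ⟨a, ha⟩ (Set.range e)))) :=
      congrArg (Ideal.map ρ) hm
    rw [hmax, hmm, Ideal.map_span]
    apply le_antisymm
    · rw [Ideal.span_le]
      rintro _ ⟨_, ⟨z, hz, rfl⟩, rfl⟩
      rcases hz with rfl | ⟨i, rfl⟩
      · show ρ a ∈ _
        rw [hρa]; exact Ideal.zero_mem _
      · exact Ideal.subset_span ⟨i, rfl⟩
    · apply Ideal.span_mono
      rintro _ ⟨i, rfl⟩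
      exact ⟨_, ⟨e i, Set.mem_insert_of_mem _ ⟨i, rfl⟩, rfl⟩, rfl⟩
  have hle : (maximalIdeal S').spanFinrank ≤ Module.finrank (ResidueField S) U := by
    rw [hm']
    refine le_trans (Submodule.spanFinrank_span_le_ncard_of_finite (Set.finite_range _)) ?_
    rw [← Set.image_univ]
    refine (Set.ncard_image_le Set.finite_univ).trans ?_
    rw [Set.ncard_univ, Nat.card_fin]
  have hSf := IsLocalRing.spanFinrank_maximalIdeal_eq_finrank_cotangentSpace (R := S)
  rw [hSf, ← hfin]
  omega

section
variable {R : Type u} [CommRing R]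

/-- partial derivative with respect to the inner variable -/
noncomputable def DX (g : Polynomial (Polynomial R)) : Polynomial (Polynomial R) :=
  Polynomial.Bivariate.swap (R := R) (derivative (Polynomial.Bivariate.swap (R := R) g))

theorem DX_add (a b : Polynomial (Polynomial R)) : DX (a + b) = DX a + DX b := by
  unfold DX
  rw [map_add, derivative_add, map_add]

theorem DX_mul (a b : Polynomial (Polynomial R)) : DX (a * b) = a * DX b + b * DX a := by
  unfold DX
  rw [map_mul, derivative_mul, map_add, map_mul, map_mul, Polynomial.Bivariate.swap_swap_apply,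
    Polynomial.Bivariate.swap_swap_apply]
  ring

theorem DX_poly (W : WeierstrassCurve.Affine R) : DX W.polynomial = W.polynomialX := by
  unfold DX
  rw [WeierstrassCurve.Affine.polynomial, WeierstrassCurve.Affine.polynomialX]
  simp only [map_sub, map_add, map_mul, map_pow, Polynomial.Bivariate.swap_Y,
    Polynomial.Bivariate.swap_C, Polynomial.Bivariate.swap_X, Polynomial.Bivariate.swap_C_C,
    Polynomial.map_add, Polynomial.map_mul, Polynomial.map_pow, Polynomial.map_C, Polynomial.map_X,
    derivative_sub, derivative_add, derivative_mul, derivative_pow, derivative_C, derivative_X,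
    derivative_X_pow, map_ofNat]
  simp
  ring

theorem DY_poly (W : WeierstrassCurve.Affine R) : derivative W.polynomial = W.polynomialY := by
  rw [WeierstrassCurve.Affine.polynomial, WeierstrassCurve.Affine.polynomialY]
  simp only [derivative_sub, derivative_add, derivative_mul, derivative_C, derivative_X,
    derivative_X_pow, map_ofNat]
  simp
  try simp only [map_ofNat]
  all_goals ring

theorem homs_eq (W : WeierstrassCurve.Affine R) (P : Ideal W.CoordinateRing)
    (g : Polynomial (Polynomial R)) :
    (g.map (mapRingHom ((Ideal.Quotient.mk P).comp (algebraMap R W.CoordinateRing)))).evalEval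
      (Ideal.Quotient.mk P (CoordinateRing.mk W (C X))) (Ideal.Quotient.mk P (CoordinateRing.mk W X))
    = Ideal.Quotient.mk P (CoordinateRing.mk W g) := by
  have h : (evalEvalRingHom (Ideal.Quotient.mk P (CoordinateRing.mk W (C X)))
      (Ideal.Quotient.mk P (CoordinateRing.mk W X))).comp
        (mapRingHom (mapRingHom ((Ideal.Quotient.mk P).comp (algebraMap R W.CoordinateRing))))
      = (Ideal.Quotient.mk P).comp (CoordinateRing.mk W) := by
    apply Polynomial.ringHom_ext'
    · apply Polynomial.ringHom_ext'
      · ext r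
        simp
        rfl
      · simp
    · simp
  exact DFunLike.congr_fun h g

theorem Δ_mem (W : WeierstrassCurve.Affine R) (P : Ideal W.CoordinateRing) [P.IsPrime]
    (hX : CoordinateRing.mk W W.polynomialX ∈ P) (hY : CoordinateRing.mk W W.polynomialY ∈ P) :
    algebraMap R W.CoordinateRing W.Δ ∈ P := by
  by_contra hΔ
  have hΔ' : (W.map ((Ideal.Quotient.mk P).comp (algebraMap R W.CoordinateRing))).toAffine.Δ
      ≠ 0 := by
    rw [WeierstrassCurve.map_Δ]
    intro h0
    apply hΔ
    exact Ideal.Quotient.eq_zero_iff_mem.1 h0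
  have heq : (W.map ((Ideal.Quotient.mk P).comp (algebraMap R W.CoordinateRing))).toAffine.Equation
      (Ideal.Quotient.mk P (CoordinateRing.mk W (C X)))
      (Ideal.Quotient.mk P (CoordinateRing.mk W X)) := by
    rw [WeierstrassCurve.Affine.Equation, map_polynomial, homs_eq, AdjoinRoot.mk_self, map_zero]
  have hns := (equation_iff_nonsingular_of_Δ_ne_zero hΔ').1 heq
  rcases hns.2 with h | h
  · apply h
    rw [map_polynomialX, homs_eq]
    exact Ideal.Quotient.eq_zero_iff_mem.2 hX
  · apply h
    rw [map_polynomialY, homs_eq]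
    exact Ideal.Quotient.eq_zero_iff_mem.2 hY

variable [IsDomain R] [IsDiscreteValuationRing R]

theorem singular_case (W : WeierstrassCurve.Affine R) (hΔ : W.Δ ≠ 0)
    (h3 : W.a₃ ∈ IsLocalRing.maximalIdeal R) (h4 : W.a₄ ∈ IsLocalRing.maximalIdeal R)
    (h6 : W.a₆ ∈ IsLocalRing.maximalIdeal R) (h6' : W.a₆ ∉ IsLocalRing.maximalIdeal R ^ 2)
    (P : Ideal W.CoordinateRing) [P.IsPrime]
    (hX : CoordinateRing.mk W W.polynomialX ∈ P) (hY : CoordinateRing.mk W W.polynomialY ∈ P) :
    IsRegularLocalRing (Localization.AtPrime P) := by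
  have hΔP := Δ_mem W P hX hY
  have hmP : ∀ r ∈ maximalIdeal R, algebraMap R W.CoordinateRing r ∈ P := by
    obtain ⟨ϖ, hϖ⟩ := IsDiscreteValuationRing.exists_irreducible R
    obtain ⟨n, hn⟩ := IsDiscreteValuationRing.associated_pow_irreducible hΔ hϖ
    obtain ⟨u, hu⟩ := hn
    have hpow : algebraMap R W.CoordinateRing ϖ ^ n ∈ P := by
      rw [← map_pow, ← hu, map_mul]
      exact P.mul_mem_right _ hΔP
    have hϖP := Ideal.IsPrime.mem_of_pow_mem ‹_› n hpow
    intro r hr
    rw [hϖ.maximalIdeal_eq, Ideal.mem_span_singleton'] at hr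
    obtain ⟨s, rfl⟩ := hr
    rw [map_mul]
    exact P.mul_mem_left _ hϖP
  have ha3 := hmP _ h3
  have ha4 := hmP _ h4
  have ha6 := hmP _ h6
  have hxP : CoordinateRing.mk W (C X) ∈ P := by
    apply Ideal.IsPrime.mem_of_pow_mem ‹_› 3
    have e : (C X : Polynomial (Polynomial R)) ^ 3 =
        -(C X * W.polynomialX + X * W.polynomialY - 2 * W.polynomial) - C (C W.a₃) * X
          + C (C W.a₄) * C X + 2 * C (C W.a₆) := by
      rw [WeierstrassCurve.Affine.polynomial, WeierstrassCurve.Affine.polynomialX,
        WeierstrassCurve.Affine.polynomialY]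
      simp only [map_add, map_mul, map_pow, map_ofNat]
      ring
    have e2 : CoordinateRing.mk W (C X) ^ 3 =
        -(CoordinateRing.mk W (C X) * CoordinateRing.mk W W.polynomialX +
          CoordinateRing.mk W X * CoordinateRing.mk W W.polynomialY)
        - algebraMap R W.CoordinateRing W.a₃ * CoordinateRing.mk W X
        + algebraMap R W.CoordinateRing W.a₄ * CoordinateRing.mk W (C X)
        + 2 * algebraMap R W.CoordinateRing W.a₆ := by
      rw [← map_pow, e]
      simp only [map_add, map_sub, map_neg, map_mul, AdjoinRoot.mk_self, map_ofNat,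
        Groth.Agent.S11097.algMap_eq]
      ring
    rw [e2]
    refine P.add_mem (P.add_mem (P.sub_mem (P.neg_mem (P.add_mem (P.mul_mem_left _ hX)
      (P.mul_mem_left _ hY))) (P.mul_mem_right _ ha3)) (P.mul_mem_right _ ha4))
      (P.mul_mem_left _ ha6)
  have hyP : CoordinateRing.mk W X ∈ P := by
    apply Ideal.IsPrime.mem_of_pow_mem ‹_› 2
    have e : (X : Polynomial (Polynomial R)) ^ 2 =
        W.polynomial - (C (C W.a₁) * C X + C (C W.a₃)) * X
          + (C X ^ 3 + C (C W.a₂) * C X ^ 2 + C (C W.a₄) * C X + C (C W.a₆)) := by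
      rw [WeierstrassCurve.Affine.polynomial]
      simp only [map_add, map_mul, map_pow]
      ring
    have e2 : CoordinateRing.mk W X ^ 2 =
        - ((algebraMap R W.CoordinateRing W.a₁ * CoordinateRing.mk W (C X)
            + algebraMap R W.CoordinateRing W.a₃) * CoordinateRing.mk W X)
          + (CoordinateRing.mk W (C X) ^ 3
            + algebraMap R W.CoordinateRing W.a₂ * CoordinateRing.mk W (C X) ^ 2
            + algebraMap R W.CoordinateRing W.a₄ * CoordinateRing.mk W (C X)
            + algebraMap R W.CoordinateRing W.a₆) := by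
      rw [← map_pow, e]
      simp only [map_add, map_sub, map_mul, map_pow, AdjoinRoot.mk_self,
        Groth.Agent.S11097.algMap_eq]
      ring
    rw [e2]
    refine P.add_mem (P.neg_mem (P.mul_mem_right _ (P.add_mem (P.mul_mem_left _ hxP) ha3)))
      (P.add_mem (P.add_mem (P.add_mem (P.pow_mem_of_mem hxP 3 (by norm_num))
        (P.mul_mem_left _ (P.pow_mem_of_mem hxP 2 (by norm_num)))) (P.mul_mem_left _ hxP)) ha6)
  have hspanP : Ideal.span {CoordinateRing.mk W (C X), CoordinateRing.mk W X} ≤ P := by
    rw [Ideal.span_le]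
    rintro z (rfl | rfl)
    · exact hxP
    · exact hyP
  haveI : P.IsMaximal := by
    rw [Ideal.isMaximal_iff]
    refine ⟨(Ideal.ne_top_iff_one P).1 (Ideal.IsPrime.ne_top ‹_›), fun J c hPJ hcP hcJ => ?_⟩
    obtain ⟨r, hr⟩ := Groth.Agent.S11097.exists_const W c
    have hrJ : algebraMap R W.CoordinateRing r ∈ J := by
      have := J.sub_mem hcJ (hPJ (hspanP hr))
      rwa [sub_sub_cancel] at this
    have hru : IsUnit r := by
      by_contra hnu
      have hrm : r ∈ maximalIdeal R := (IsLocalRing.mem_maximalIdeal r).2 hnu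
      apply hcP
      have := P.add_mem (hspanP hr) (hmP r hrm)
      rwa [sub_add_cancel] at this
    have := J.mul_mem_left (algebraMap R W.CoordinateRing ↑hru.unit⁻¹) hrJ
    rwa [← map_mul, IsUnit.val_inv_mul, map_one] at this
  exact Groth.Agent.S11097.result R W h3 h4 h6 h6' P hmP hxP hyP

theorem regular_of_not_sq (W : WeierstrassCurve.Affine R) (P : Ideal W.CoordinateRing) [P.IsPrime]
    (h : algebraMap (Polynomial (Polynomial R))
        (Localization.AtPrime (P.comap (CoordinateRing.mk W))) W.polynomial ∉
      maximalIdeal (Localization.AtPrime (P.comap (CoordinateRing.mk W))) ^ 2) :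
    IsRegularLocalRing (Localization.AtPrime P) := by
  haveI : IsNoetherianRing (Localization.AtPrime (P.comap (CoordinateRing.mk W))) :=
    IsLocalization.isNoetherianRing (P.comap (CoordinateRing.mk W)).primeCompl _ inferInstance
  haveI : IsNoetherianRing (Localization.AtPrime P) :=
    IsLocalization.isNoetherianRing P.primeCompl _ inferInstance
  have hρ : Function.Surjective (Localization.localRingHom (P.comap (CoordinateRing.mk W)) P
      (CoordinateRing.mk W) rfl) :=
    RingHom.surjective_localRingHom_of_surjective _ AdjoinRoot.mk_surjective P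
  have hf𝔓 : W.polynomial ∈ P.comap (CoordinateRing.mk W) := by
    rw [Ideal.mem_comap, AdjoinRoot.mk_self]
    exact P.zero_mem
  have ha : algebraMap (Polynomial (Polynomial R))
      (Localization.AtPrime (P.comap (CoordinateRing.mk W))) W.polynomial ∈
      maximalIdeal (Localization.AtPrime (P.comap (CoordinateRing.mk W))) := by
    rw [← IsLocalization.AtPrime.map_eq_maximalIdeal (P.comap (CoordinateRing.mk W))
      (Localization.AtPrime (P.comap (CoordinateRing.mk W)))]
    exact Ideal.mem_map_of_mem _ hf𝔓
  have hρa : Localization.localRingHom (P.comap (CoordinateRing.mk W)) P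
      (CoordinateRing.mk W) rfl (algebraMap (Polynomial (Polynomial R))
      (Localization.AtPrime (P.comap (CoordinateRing.mk W))) W.polynomial) = 0 := by
    rw [Localization.localRingHom_to_map, AdjoinRoot.mk_self, map_zero]
  have hdrop := spanFinrank_drop (S := Localization.AtPrime (P.comap (CoordinateRing.mk W)))
    (S' := Localization.AtPrime P) (Localization.localRingHom (P.comap (CoordinateRing.mk W)) P
      (CoordinateRing.mk W) rfl) hρ (algebraMap (Polynomial (Polynomial R))
      (Localization.AtPrime (P.comap (CoordinateRing.mk W))) W.polynomial) ha h hρa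
  have hreg : IsRegularLocalRing (Localization.AtPrime (P.comap (CoordinateRing.mk W))) :=
    inferInstance
  have hS : ((maximalIdeal (Localization.AtPrime (P.comap (CoordinateRing.mk W)))).spanFinrank :
      WithBot ℕ∞) = ringKrullDim (Localization.AtPrime (P.comap (CoordinateRing.mk W))) :=
    hreg.spanFinrank_maximalIdeal
  rw [IsLocalization.AtPrime.ringKrullDim_eq_height (P.comap (CoordinateRing.mk W))
    (Localization.AtPrime (P.comap (CoordinateRing.mk W)))] at hS
  have hht : (P.comap (CoordinateRing.mk W)).height ≤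
      ((P.comap (CoordinateRing.mk W)).map (AdjoinRoot.mk W.polynomial)).height + 1 :=
    Ideal.height_le_height_add_one_of_mem hf𝔓
  have hmapP : (P.comap (CoordinateRing.mk W)).map (AdjoinRoot.mk W.polynomial) = P :=
    Ideal.map_comap_of_surjective _ AdjoinRoot.mk_surjective P
  rw [hmapP] at hht
  have hPfin : P.height ≠ ⊤ := Ideal.height_ne_top (Ideal.IsPrime.ne_top ‹_›)
  apply IsRegularLocalRing.of_spanFinrank_maximalIdeal_le
  rw [IsLocalization.AtPrime.ringKrullDim_eq_height P (Localization.AtPrime P)]
  lift P.height to ℕ using hPfin with hP' hP'eq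
  have hS' : ((maximalIdeal (Localization.AtPrime (P.comap (CoordinateRing.mk W)))).spanFinrank :
      ℕ∞) = (P.comap (CoordinateRing.mk W)).height := by exact_mod_cast hS
  rw [← hS'] at hht
  have h3 : (maximalIdeal (Localization.AtPrime (P.comap (CoordinateRing.mk W)))).spanFinrank
      ≤ hP' + 1 := by exact_mod_cast hht
  have h4 : (maximalIdeal (Localization.AtPrime P)).spanFinrank ≤ hP' := by omega
  exact_mod_cast h4

end


/-- Let R be a discrete valuation ring with maximal ideal m and y² + a₁xy + a₃y = x³ + a₂x² + a₄x + a₆ a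
Weierstrass equation over R with nonzero discriminant (an elliptic curve over the fraction field)
such that a₃, a₄, a₆ ∈ m and a₆ ∉ m². Then the affine scheme over R defined by the equation is
regular: every localization of its coordinate ring at a prime ideal is a regular local ring. (The
published statement asserts regularity of the projective Weierstrass scheme in P²_R; this row states
it for the affine part.) -/
theorem result (R : Type u) [CommRing R] [IsDomain R]
    [IsDiscreteValuationRing R] (W : WeierstrassCurve.Affine R) (hΔ : W.Δ ≠ 0)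
    (h3 : W.a₃ ∈ IsLocalRing.maximalIdeal R) (h4 : W.a₄ ∈ IsLocalRing.maximalIdeal R)
    (h6 : W.a₆ ∈ IsLocalRing.maximalIdeal R) (h6' : W.a₆ ∉ IsLocalRing.maximalIdeal R ^ 2)
    (P : Ideal W.CoordinateRing) [P.IsPrime] :
    IsRegularLocalRing (Localization.AtPrime P) := by
  by_cases hsq : algebraMap (Polynomial (Polynomial R))
        (Localization.AtPrime (P.comap (WeierstrassCurve.Affine.CoordinateRing.mk W))) W.polynomial ∈
      IsLocalRing.maximalIdeal
        (Localization.AtPrime (P.comap (WeierstrassCurve.Affine.CoordinateRing.mk W))) ^ 2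
  · have hf𝔓 : W.polynomial ∈ P.comap (WeierstrassCurve.Affine.CoordinateRing.mk W) := by
      rw [Ideal.mem_comap, AdjoinRoot.mk_self]
      exact P.zero_mem
    have hY := deriv_mem (P.comap (WeierstrassCurve.Affine.CoordinateRing.mk W))
      (fun g => Polynomial.derivative g) (fun a b => Polynomial.derivative_add)
      (fun a b => by rw [Polynomial.derivative_mul]; ring) W.polynomial hf𝔓 hsq
    have hX := deriv_mem (P.comap (WeierstrassCurve.Affine.CoordinateRing.mk W))
      DX DX_add DX_mul W.polynomial hf𝔓 hsq
    rw [DX_poly] at hX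
    have hY' : W.polynomialY ∈ P.comap (WeierstrassCurve.Affine.CoordinateRing.mk W) := by
      have := DY_poly W
      rw [← this]
      exact hY
    exact singular_case W hΔ h3 h4 h6 h6' P hX hY'
  · exact regular_of_not_sq W P hsq

end Groth.Agent.S11104
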