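import Groth.Statements.S11107
import Groth.Agent.Lib.Helper11.Birat10

set_option autoImplicit false
universe u
open CategoryTheory AlgebraicGeometry
open Neron

namespace Groth.Agent.S11107

open CategoryTheory.Limits TopologicalSpace Groth.Agent.Lib.Helper11 in
theorem main {R : Type u} [CommRing R] [IsDedekindDomain R]
    {X Y : Scheme.{u}} (pX : X ⟶ Spec (CommRingCat.of R)) (pY : Y ⟶ Spec (CommRingCat.of R))
    [Smooth pX] [IsProper pY] (U : X.Opens) (hU : Dense (U : Set X))
    (f : (U : Scheme.{u}) ⟶ Y) (hf : f ≫ pY = U.ι ≫ pX) :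
    ∃ (V : X.Opens) (hUV : U ≤ V) (g : (V : Scheme.{u}) ⟶ Y),
      g ≫ pY = V.ι ≫ pX ∧ X.homOfLE hUV ≫ g = f ∧
      ∀ x : X, x ∉ V → (2 : WithBot ℕ∞) ≤ ringKrullDim (X.presheaf.stalk x) := by
  haveI : IsLocallyNoetherian X := LocallyOfFiniteType.isLocallyNoetherian pX
  have hnormal := fun y : X => Birat10.stalk_normal_of_smooth R X pX y
  haveI hdom : ∀ y : X, IsDomain (X.presheaf.stalk y) := fun y => (hnormal y).1
  haveI : ∀ y : X, _root_.IsReduced (X.presheaf.stalk y) := fun y => inferInstance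
  haveI : IsReduced X := isReduced_of_isReduced_stalk X
  haveI : Y.IsSeparated := ⟨by rw [← terminal.comp_from pY]; infer_instance⟩
  -- the graph
  obtain ⟨p, hp⟩ : ∃ p : pullback pX pY ⟶ X, p = pullback.fst pX pY := ⟨_, rfl⟩
  haveI : IsProper p := by rw [hp]; infer_instance
  obtain ⟨γ, hγp, hγs⟩ : ∃ γ : U.toScheme ⟶ pullback pX pY, γ ≫ p = U.ι ∧
      γ ≫ pullback.snd pX pY = f := by
    refine ⟨pullback.lift U.ι f hf.symm, ?_, ?_⟩
    · rw [hp]; exact pullback.lift_fst _ _ _
    · exact pullback.lift_snd _ _ _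
  -- local extension at points of codimension ≤ 1
  have hloc : ∀ x : X, x ∉ U → ringKrullDim (X.presheaf.stalk x) ≤ 1 →
      ∃ (U' : X.Opens) (hUU' : U ≤ U') (g : U'.toScheme ⟶ Y), x ∈ U' ∧
        X.homOfLE hUU' ≫ g = f := by
    intro x hxU hdim
    haveI := (hnormal x).2
    haveI : ValuationRing (X.presheaf.stalk x) := Birat6.valuationRing_of_dim_le_one _ hdim
    obtain ⟨V, s, hxV, hs, hag⟩ := Birat10.exists_extension_of_valuationRing p U γ hγp x (hU x)
      (Birat8.exists_integral_nbhd_of_isDomain_stalk x)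
    have hagree : X.homOfLE (inf_le_left : U ⊓ V ≤ U) ≫ f =
        X.homOfLE (inf_le_right : U ⊓ V ≤ V) ≫ s ≫ pullback.snd pX pY := by
      calc X.homOfLE (inf_le_left : U ⊓ V ≤ U) ≫ f
          = X.homOfLE (inf_le_left : U ⊓ V ≤ U) ≫ γ ≫ pullback.snd pX pY := by rw [hγs]
        _ = (X.homOfLE (inf_le_left : U ⊓ V ≤ U) ≫ γ) ≫ pullback.snd pX pY :=
            (Category.assoc _ _ _).symm
        _ = (X.homOfLE (inf_le_right : U ⊓ V ≤ V) ≫ s) ≫ pullback.snd pX pY := by rw [hag]
        _ = X.homOfLE (inf_le_right : U ⊓ V ≤ V) ≫ s ≫ pullback.snd pX pY :=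
            Category.assoc _ _ _
    obtain ⟨U', hUU', hVU', g, hg1, hg2, -⟩ :=
      Birat8.exists_glue_two U V f (s ≫ pullback.snd pX pY) hagree
    exact ⟨U', hUU', g, hVU' hxV, hg1⟩
  -- the maximal domain of definition
  let F₀ : X.PartialMap Y := ⟨U, hU, f⟩
  have hUV : U ≤ F₀.toRationalMap.toPartialMap.domain := F₀.le_domain_toRationalMap
  have hres : X.homOfLE hUV ≫ F₀.toRationalMap.toPartialMap.hom = f :=
    F₀.toPartialMap_toRationalMap_restrict
  refine ⟨F₀.toRationalMap.toPartialMap.domain, hUV, F₀.toRationalMap.toPartialMap.hom, ?_,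
    hres, ?_⟩
  · haveI : IsDominant (X.homOfLE hUV) := Birat10.isDominant_homOfLE_of_dense hUV hU
    apply ext_of_isDominant (ι := X.homOfLE hUV)
    rw [← Category.assoc, hres, hf, ← Category.assoc, X.homOfLE_ι]
  · intro x hxV
    by_contra h2
    have hdim := Birat6.le_one_of_not_two_le _ h2
    apply hxV
    by_cases hxU : x ∈ U
    · exact hUV hxU
    · obtain ⟨U', hUU', g, hxU', hg⟩ := hloc x hxU hdim
      show x ∈ F₀.toRationalMap.domain
      rw [Scheme.RationalMap.mem_domain]
      refine ⟨⟨U', hU.mono hUU', g⟩, hxU', ?_⟩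
      rw [Scheme.PartialMap.toRationalMap_eq_iff]
      refine ⟨U, hU, hUU', le_rfl, ?_⟩
      show X.homOfLE hUU' ≫ g = X.homOfLE (le_refl U) ≫ f
      rw [hg, Scheme.homOfLE_rfl, Category.id_comp]

/-- Let R be a Dedekind domain, X → Spec R a smooth morphism, Y → Spec R a proper morphism, U ⊆ X a
dense open subscheme and f : U → Y a morphism over Spec R (a rational map X ⇢ Y over R). Then f
extends, over Spec R, to an open subscheme V ⊇ U of X such that every point of X outside V has a
local ring of Krull dimension at least 2: the locus where the rational map is undefined has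
codimension at least two. (The published statement assumes the rational map dominant; this row does
not.) -/
theorem result {R : Type u} [CommRing R] [IsDedekindDomain R]
    {X Y : Scheme.{u}} (pX : X ⟶ Spec (CommRingCat.of R)) (pY : Y ⟶ Spec (CommRingCat.of R))
    [Smooth pX] [IsProper pY] (U : X.Opens) (hU : Dense (U : Set X))
    (f : (U : Scheme.{u}) ⟶ Y) (hf : f ≫ pY = U.ι ≫ pX) :
    ∃ (V : X.Opens) (hUV : U ≤ V) (g : (V : Scheme.{u}) ⟶ Y),
      g ≫ pY = V.ι ≫ pX ∧ X.homOfLE hUV ≫ g = f ∧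
      ∀ x : X, x ∉ V → (2 : WithBot ℕ∞) ≤ ringKrullDim (X.presheaf.stalk x) := by
  exact main pX pY U hU f hf

end Groth.Agent.S11107
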