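import Groth.Statements.S11114
import Groth.Agent.Lib.Helper5.IsoRestrictNat
import Groth.Agent.Lib.Helper2.Aff.SecQis

set_option autoImplicit false
universe u
open CategoryTheory CategoryTheory.Limits AlgebraicGeometry
attribute [local instance] HasDerivedCategory.standard
open DCoh

namespace Groth.Agent.S11114

/-- Let Y be a quasi-compact quasi-separated scheme and assume the unbounded derived functor of global
sections RΓ(U, -) exists for every open U of Y (existence binder). A morphism φ : G₁ ⟶ G₂ in D(O_Y)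
is an isomorphism if and only if for every affine open U of Y the morphism RΓ(U, φ|_U) of D(Ab),
obtained from φ through restriction to U and derived global sections, is an isomorphism. -/
theorem result {Y : Scheme.{u}} [CompactSpace Y] [QuasiSeparatedSpace Y]
    [hR : ∀ U : Y.Opens, DCoh.HasRΓ (U : Scheme.{u})] {G₁ G₂ : DCoh.D Y} (φ : G₁ ⟶ G₂) :
    IsIso φ ↔ ∀ U : Y.Opens, IsAffineOpen U →
      IsIso ((DCoh.RΓ (U : Scheme.{u})).map ((DCoh.restrictD U.ι).map φ)) := by
  constructor
  · intro h U _
    infer_instance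
  · intro h
    obtain ⟨I₁, hI₁, -, ⟨e₁⟩⟩ := Groth.Agent.Lib.Helper13.KInjCompute.exists_model
      (Groth.Agent.Lib.Helper13.KInjSch.hasKInjInj Y) G₁
    obtain ⟨I₂, hI₂, -, ⟨e₂⟩⟩ := Groth.Agent.Lib.Helper13.KInjCompute.exists_model
      (Groth.Agent.Lib.Helper13.KInjSch.hasKInjInj Y) G₂
    haveI := hI₂
    obtain ⟨ψ, hψ⟩ := Groth.Agent.Lib.Helper5.FMVChain.exists_lift (e₁.inv ≫ φ ≫ e₂.hom)
    have hψ' : e₁.hom ≫ DerivedCategory.Q.map ψ = φ ≫ e₂.hom := by
      rw [hψ, Iso.hom_inv_id_assoc]
    have hq : QuasiIso ψ := by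
      apply Groth.Agent.Lib.Helper2.Aff.AffPush.quasiIso_of_sections ψ Y.affineOpens
        Y.isBasis_affineOpens
      intro V hV
      have N := Groth.Agent.Lib.Helper5.IsoRestrictNat.isoRestrict_naturality V
        (DCoh.gammaAb (V : Scheme.{u})) hI₂ hI₁ e₂ e₁ φ ψ hψ'
      haveI : IsIso ((DCoh.RΓ (V : Scheme.{u})).map ((DCoh.restrictD V.ι).map φ)) := h V hV
      have hi : IsIso (DerivedCategory.Q.map
          (((Scheme.Modules.restrictFunctor V.ι ⋙ DCoh.gammaAb (V : Scheme.{u})).mapHomologicalComplex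
            (ComplexShape.up ℤ)).map ψ)) := by
        have e : DerivedCategory.Q.map
            (((Scheme.Modules.restrictFunctor V.ι ⋙
              DCoh.gammaAb (V : Scheme.{u})).mapHomologicalComplex (ComplexShape.up ℤ)).map ψ) =
            (Groth.Agent.Lib.Helper13.KInjMV.isoRestrict V (DCoh.gammaAb (V : Scheme.{u})) I₁ hI₁
              e₁).inv ≫ (DCoh.RΓ (V : Scheme.{u})).map ((DCoh.restrictD V.ι).map φ) ≫
            (Groth.Agent.Lib.Helper13.KInjMV.isoRestrict V (DCoh.gammaAb (V : Scheme.{u})) I₂ hI₂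
              e₂).hom := by
          rw [N, Iso.inv_hom_id_assoc]
        rw [e]
        infer_instance
      have hq' : QuasiIso (((Scheme.Modules.restrictFunctor V.ι ⋙
          DCoh.gammaAb (V : Scheme.{u})).mapHomologicalComplex (ComplexShape.up ℤ)).map ψ) :=
        (DerivedCategory.isIso_Q_map_iff_quasiIso _ _).1 hi
      have key : ∀ (V' : Y.Opens), V' = V →
          QuasiIso (((Groth.Agent.Lib.Helper2.Aff.AffPush.secAb V').mapHomologicalComplex
            (ComplexShape.up ℤ)).map ψ) →
          QuasiIso (((Groth.Agent.Lib.Helper2.Aff.AffPush.secAb V).mapHomologicalComplex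
            (ComplexShape.up ℤ)).map ψ) := by
        rintro _ rfl h
        exact h
      exact key (V.ι ''ᵁ ⊤) (Scheme.Opens.ι_image_top V) hq'
    haveI : IsIso (DerivedCategory.Q.map ψ) := (DerivedCategory.isIso_Q_map_iff_quasiIso _ ψ).2 hq
    have e : φ = e₁.hom ≫ DerivedCategory.Q.map ψ ≫ e₂.inv := by
      rw [← Category.assoc, hψ', Category.assoc, Iso.hom_inv_id, Category.comp_id]
    rw [e]
    infer_instance

end Groth.Agent.S11114
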