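import Groth.Statements.S11125
import Groth.Agent.Lib.Helper2.KInj.LiftingConverse
-- import your own Groth.Agent.* helpers here

set_option autoImplicit false
universe v u
open CategoryTheory
open CohDer

namespace Groth.Agent.S11125

/-- In an abelian category, a cochain complex I is K-injective with injective terms if and only if for
every short exact sequence 0 → A → B → C → 0 of cochain complexes whose third term C is acyclic,
every chain map A → I extends to a chain map B → I. -/
theorem result {A : Type u} [Category.{v} A] [Abelian A]
    (I : CochainComplex A ℤ) :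
    (I.IsKInjective ∧ ∀ n : ℤ, Injective (I.X n)) ↔
      ∀ (S : ShortComplex (CochainComplex A ℤ)), S.ShortExact → S.X₃.Acyclic →
        ∀ φ : S.X₁ ⟶ I, ∃ ψ : S.X₂ ⟶ I, S.f ≫ ψ = φ := by
  constructor
  · rintro ⟨h1, h2⟩ S hS hC φ
    exact Groth.Agent.Lib.Helper2.KInj.exists_lift_of_isKInjective I S hS hC φ
  · intro h
    have hI : ∀ {B C : CochainComplex A ℤ} (i : B ⟶ C), Mono i → QuasiIso i → ∀ (g : B ⟶ I),
        ∃ g' : C ⟶ I, i ≫ g' = g := by
      intro B C i hi hq g
      have hS : (ShortComplex.mk i (Limits.cokernel.π i) (Limits.cokernel.condition i)).ShortExact :=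
        { exact := ShortComplex.exact_cokernel i
          mono_f := hi
          epi_g := inferInstanceAs (Epi (Limits.cokernel.π i)) }
      exact h _ hS (hS.acyclic_X₃ hq) g
    exact ⟨Groth.Agent.Lib.Helper2.KInj.isKInjective_of_lifting hI,
      fun n => Groth.Agent.Lib.Helper2.KInj.injective_X_of_lifting hI n⟩

end Groth.Agent.S11125
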