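import Groth.Statements.S1113
import Groth.Agent.Lib.Helper2.TruncFactor
-- import your own Groth.Agent.* helpers here

set_option autoImplicit false
universe w v u
open CategoryTheory CategoryTheory.Limits
open CohDer

namespace Groth.Agent.S1113

/-- Let K : ℕᵒᵖ ⥤ CochainComplex A ℤ be a sequence of cochain maps … → K₂ → K₁ → K₀ in an abelian
category with Hⁱ(K₀) = 0 for i < 0 and such that for every j < n the map Hʲ(Kⱼ₊₁) → Hʲ(Kⱼ) is zero.
Then in the derived category the composite Kₙ → K₀ factors through the canonical truncation Kₙ →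
τ_{≥ n}Kₙ. -/
theorem result {A : Type u} [Category.{v} A] [Abelian A] [HasDerivedCategory.{w} A]
    (K : ℕᵒᵖ ⥤ CochainComplex A ℤ) (n : ℕ)
    (h0 : ∀ i : ℤ, i < 0 → IsZero ((K.obj (Opposite.op 0)).homology i))
    (hz : ∀ j : ℕ, j < n → HomologicalComplex.homologyMap (K.map (homOfLE (Nat.le_succ j)).op) (j : ℤ) = 0) :
    ∃ φ : DerivedCategory.Q.obj ((K.obj (Opposite.op n)).truncGE (n : ℤ)) ⟶ DerivedCategory.Q.obj (K.obj (Opposite.op 0)),
      DerivedCategory.Q.map ((K.obj (Opposite.op n)).πTruncGE (n : ℤ)) ≫ φ = DerivedCategory.Q.map (K.map (homOfLE (Nat.zero_le n)).op) := by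
  classical
  -- the general statement, by induction on `m ≤ n`
  have key : ∀ m : ℕ, m ≤ n →
      ∃ φ : DerivedCategory.Q.obj ((K.obj (Opposite.op m)).truncGE (m : ℤ)) ⟶
          DerivedCategory.Q.obj (K.obj (Opposite.op 0)),
        DerivedCategory.Q.map ((K.obj (Opposite.op m)).πTruncGE (m : ℤ)) ≫ φ =
          DerivedCategory.Q.map (K.map (homOfLE (Nat.zero_le m)).op) := by
    intro m
    induction m with
    | zero =>
      intro _
      have hGE : (K.obj (Opposite.op 0)).IsGE (0 : ℤ) := by
        rw [CochainComplex.isGE_iff]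
        intro i hi
        rw [HomologicalComplex.exactAt_iff_isZero_homology]
        exact h0 i hi
      have hq : QuasiIso ((K.obj (Opposite.op 0)).πTruncGE (0 : ℤ)) :=
        ((K.obj (Opposite.op 0)).quasiIso_πTruncGE_iff 0).2 hGE
      refine ⟨inv (DerivedCategory.Q.map ((K.obj (Opposite.op 0)).πTruncGE (0 : ℤ))), ?_⟩
      have hid : K.map (homOfLE (Nat.zero_le 0)).op = 𝟙 _ := by
        have : (homOfLE (Nat.zero_le 0)).op = 𝟙 (Opposite.op 0) := rfl
        rw [this, K.map_id]
      rw [hid, CategoryTheory.Functor.map_id]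
      exact IsIso.hom_inv_id _
    | succ m ih =>
      intro hm
      obtain ⟨φ, hφ⟩ := ih (by omega)
      have hz' := hz m (by omega)
      obtain ⟨ψ, hψ⟩ := Groth.Agent.Lib.Helper2.exists_factor_of_homologyMap_zero
        (K.map (homOfLE (Nat.le_succ m)).op) (m : ℤ) hz'
      refine ⟨ψ ≫ φ, ?_⟩
      have hcast : ((m + 1 : ℕ) : ℤ) = (m : ℤ) + 1 := by push_cast; rfl
      have hcomp : K.map (homOfLE (Nat.zero_le (m + 1))).op =
          K.map (homOfLE (Nat.le_succ m)).op ≫ K.map (homOfLE (Nat.zero_le m)).op := by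
        rw [← K.map_comp]
        rfl
      rw [hcomp, CategoryTheory.Functor.map_comp, ← hφ, ← Category.assoc, ← Category.assoc]
      congr 1
      rw [← CategoryTheory.Functor.map_comp]
      exact hψ
  exact key n le_rfl

end Groth.Agent.S1113
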