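import Groth.Statements.S11131
import Groth.Agent.Lib.Helper13.ModGrothendieck
import Groth.Agent.Lib.Helper13.ModSheafBasic

set_option autoImplicit false
universe u
open CategoryTheory
open ModSite

namespace Groth.Agent.S11131

/-- Let F : C ⥤ D be a functor between small sites which preserves coverings, is continuous
(precomposition with F preserves sheaves) and is cocontinuous (every covering of F y is refined by
the image of a covering of y). For sheaves of rings S on C and R on D and a ring map φ : S ⟶ F_* R,
the restriction functor from sheaves of R-modules to sheaves of S-modules (precompose with F,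
restrict scalars along φ) is a left adjoint. (The published statement asks the functor to send
coverings to coverings and to preserve fibre products of members of a covering, takes commutative
structure sheaves, and also asserts that restriction commutes with sheafification of presheaves of
modules; this row assumes only that restriction along the functor preserves sheaves, that coverings
go to coverings and that the functor is cocontinuous, and states only that the right adjoint
exists.) -/
theorem result
    {C : Type u} [SmallCategory C] {D : Type u} [SmallCategory D]
    (J : GrothendieckTopology C) (K : GrothendieckTopology D) (F : C ⥤ D)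
    [F.IsContinuous J K] (hF : CoverPreserving J K F) [F.IsCocontinuous J K]
    {S : Sheaf J RingCat.{u}} {R : Sheaf K RingCat.{u}}
    (φ : S ⟶ (F.sheafPushforwardContinuous RingCat.{u} J K).obj R) :
    (SheafOfModules.pushforward.{u} φ).IsLeftAdjoint := by
  haveI := Lib.Helper13.ModGrothendieck.isGrothendieckAbelian R
  haveI : WellPowered.{u} (SheafOfModules.{u} R) := inferInstance
  haveI : LocallySmall.{u} (SheafOfModules.{u} R) := inferInstance
  haveI : WellPowered.{u} (SheafOfModules.{u} R)ᵒᵖ := CategoryTheory.Abelian.wellPowered_opposite
  haveI : Limits.PreservesColimitsOfSize.{u, u} (SheafOfModules.pushforward.{u} φ) := by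
    constructor
    intro K' _
    haveI h1 : Limits.PreservesColimitsOfShape K' (SheafOfModules.toSheaf.{u} R) :=
      Lib.Helper13.ModSheafBasic.toSheaf_preservesColimitsOfShape R K'
    haveI h1' : Limits.PreservesColimitsOfShape K' (SheafOfModules.toSheaf.{u} S) :=
      Lib.Helper13.ModSheafBasic.toSheaf_preservesColimitsOfShape S K'
    haveI h2 : Limits.PreservesColimitsOfSize.{u, u} (F.sheafPushforwardContinuous AddCommGrpCat.{u} J K) :=
      (F.sheafAdjunctionCocontinuous AddCommGrpCat.{u} J K).leftAdjoint_preservesColimits
    haveI h3 : Limits.PreservesColimitsOfShape K'
        (SheafOfModules.pushforward.{u} φ ⋙ SheafOfModules.toSheaf S) :=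
      inferInstanceAs (Limits.PreservesColimitsOfShape K'
        (SheafOfModules.toSheaf R ⋙ F.sheafPushforwardContinuous AddCommGrpCat.{u} J K))
    haveI h4 : Limits.ReflectsColimitsOfShape K' (SheafOfModules.toSheaf.{u} S) :=
      Limits.reflectsColimitsOfShape_of_reflectsIsomorphisms
    exact Limits.preservesColimitsOfShape_of_reflects_of_preserves (SheafOfModules.pushforward.{u} φ)
      (SheafOfModules.toSheaf S)
  exact isLeftAdjoint_of_preservesColimits_of_isSeparating
    (Lib.Helper13.ModGrothendieck.genA_isSeparating R) _

end Groth.Agent.S11131
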