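import Groth.Statements.S11134
import Groth.Agent.Lib.Helper2.Tot.ModSiteRes
import Groth.Agent.Lib.Helper13.ModSiteAcyclic
-- import your own Groth.Agent.* helpers here

set_option autoImplicit false
universe u
open CategoryTheory
open ModSite

namespace Groth.Agent.S11134

/-- On a small ringed site (C, J, O) with commutative O, for every object x of C the module O_x =
j_{x!}(O restricted to C/x), placed in degree 0 as a cochain complex, is K-flat. -/
theorem result {C : Type u} [SmallCategory C] {J : GrothendieckTopology C}
    (O : Sheaf J CommRingCat.{u}) (x : C) :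
    ModSite.IsKFlat ((CochainComplex.singleFunctor (ModSite.Mod O) 0).obj (ModSite.freeOn O x)) := by
  haveI : ((CochainComplex.singleFunctor (ModSite.Mod O) 0).obj (ModSite.freeOn O x)).IsStrictlyLE 0 :=
    inferInstance
  refine Groth.Agent.Lib.Helper2.Tot.MS.isKFlat_of_isStrictlyLE _ 0 (fun n => ?_)
  by_cases hn : n = 0
  · subst hn
    exact Groth.Agent.Lib.Helper13.ModSiteFlatGen.isFlat_of_iso
      (HomologicalComplex.singleObjXSelf (ComplexShape.up ℤ) 0 (ModSite.freeOn O x)).symm
      (Groth.Agent.Lib.Helper13.ModSiteFreeOn.isFlat_freeOn (O := O) x)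
  · exact Groth.Agent.Lib.Helper13.ModSiteAcyclic.isFlat_of_isZero _
      (HomologicalComplex.isZero_single_obj_X (ComplexShape.up ℤ) 0 (ModSite.freeOn O x) n hn)

end Groth.Agent.S11134
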