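import Groth.Statements.S11135
import Mathlib

set_option autoImplicit false
universe u
open InvTh
open scoped Classical

namespace Groth.Agent.S11135

section Basic

variable {ι : Type u} (D : ι → Type u) [∀ i, CommRing (D i)]

/-- Indicator idempotent of a subset of the index set. -/
noncomputable def ind (J : Set ι) : Π i, D i := fun i => if i ∈ J then 1 else 0

theorem ind_apply (J : Set ι) (i : ι) : ind D J i = if i ∈ J then 1 else 0 := rfl

theorem one_sub_ind (J : Set ι) : 1 - ind D J = ind D Jᶜ := by
  funext i
  simp only [Pi.sub_apply, Pi.one_apply, ind_apply, Set.mem_compl_iff]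
  split_ifs <;> simp

theorem ind_mul_ind (J J' : Set ι) : ind D J * ind D J' = ind D (J ∩ J') := by
  funext i
  simp only [Pi.mul_apply, ind_apply, Set.mem_inter_iff]
  split_ifs <;> simp_all

theorem ind_mul_self (J : Set ι) : ind D J * ind D J = ind D J := by
  rw [ind_mul_ind, Set.inter_self]

variable [∀ i, IsDomain (D i)]

theorem mem_nzd_of_forall_ne_zero (s : Π i, D i) (h : ∀ i, s i ≠ 0) :
    s ∈ nonZeroDivisors (Π i, D i) := by
  rw [mem_nonZeroDivisors_iff_right]
  intro x hx
  funext i
  have := congrFun hx i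
  simp only [Pi.mul_apply, Pi.zero_apply, mul_eq_zero] at this
  exact this.resolve_right (h i)

end Basic

section Main

variable {ι : Type u} [Fintype ι] (D : ι → Type u)
    [∀ i, CommRing (D i)] [∀ i, IsDomain (D i)]
    (R : Type u) [CommRing R] (F : Set ((Π i, D i) →+* R))
    (hF : ∀ f ∈ F, ∀ s ∈ nonZeroDivisors (Π i, D i), f s ∈ nonZeroDivisors R)
    (A : Subring (Π i, D i)) (hA : ∀ a, a ∈ A ↔ ∀ f ∈ F, ∀ f' ∈ F, f a = f' a)

include hF hA in
/-- The support idempotent of an element of `A` lies in `A`. -/
theorem ind_support_mem (a : Π i, D i) (ha : a ∈ A) : ind D {i | a i ≠ 0} ∈ A := by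
  set e := ind D {i | a i ≠ 0} with he
  have hea : e * a = a := by
    funext i
    simp only [Pi.mul_apply, he, ind_apply, Set.mem_setOf_eq]
    split_ifs with h
    · simp
    · push_neg at h
      simp [h]
  have hee : e * e = e := ind_mul_self D _
  have hs : a + (1 - e) ∈ nonZeroDivisors (Π i, D i) := by
    apply mem_nzd_of_forall_ne_zero
    intro i
    simp only [Pi.add_apply, Pi.sub_apply, Pi.one_apply, he, ind_apply, Set.mem_setOf_eq]
    split_ifs with h
    · simpa using h
    · push_neg at h
      simp [h]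
  -- key computation
  have key : ∀ f ∈ F, ∀ f' ∈ F, f e * (1 - f' e) = 0 := by
    intro f hf f' hf'
    have hc : f a = f' a := (hA a).mp ha f hf f' hf'
    have h1 : f a * f e = f a := by rw [← map_mul, mul_comm, hea]
    have h2 : f' a * f' e = f' a := by rw [← map_mul, mul_comm, hea]
    have h3 : f e * f e = f e := by rw [← map_mul, hee]
    have hz : f (a + (1 - e)) * (f e * (1 - f' e)) = 0 := by
      rw [map_add, map_sub, map_one]
      have : (f a + (1 - f e)) * (f e * (1 - f' e)) =
          (f a * f e) * (1 - f' e) + (f e - f e * f e) * (1 - f' e) := by ring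
      rw [this, h1, h3, sub_self, zero_mul, add_zero, hc, mul_sub, mul_one, h2, sub_self]
    exact (mul_left_mem_nonZeroDivisors_eq_zero_iff (hF f hf _ hs)).mp hz
  rw [hA]
  intro f hf f' hf'
  have h1 := key f hf f' hf'
  have h2 := key f' hf' f hf
  have e1 : f e = f e * f' e := by
    have := h1; rw [mul_sub, mul_one, sub_eq_zero] at this; exact this
  have e2 : f' e = f' e * f e := by
    have := h2; rw [mul_sub, mul_one, sub_eq_zero] at this; exact this
  rw [e1, mul_comm, ← e2]

/-- Two indices are equivalent when no idempotent of `A` separates them. -/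
def rel : Setoid ι where
  r i i' := ∀ J : Set ι, ind D J ∈ A → (i ∈ J ↔ i' ∈ J)
  iseqv := ⟨fun _ _ _ => Iff.rfl, fun h J hJ => (h J hJ).symm,
    fun h h' J hJ => (h J hJ).trans (h' J hJ)⟩

theorem rel_iff (i i' : ι) :
    (rel D A).r i i' ↔ ∀ J : Set ι, ind D J ∈ A → (i ∈ J ↔ i' ∈ J) := Iff.rfl

noncomputable instance : Fintype (Quotient (rel D A)) := Fintype.ofFinite _

theorem ind_compl_mem (J : Set ι) (hJ : ind D J ∈ A) : ind D Jᶜ ∈ A := by
  rw [← one_sub_ind]
  exact A.sub_mem A.one_mem hJ

/-- The equivalence class of `c`. -/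
def cls (c : Quotient (rel D A)) : Set ι := {i | Quotient.mk (rel D A) i = c}

theorem mem_cls (c : Quotient (rel D A)) (i : ι) :
    i ∈ cls D A c ↔ Quotient.mk (rel D A) i = c := Iff.rfl

theorem ind_cls_mem (c : Quotient (rel D A)) : ind D (cls D A c) ∈ A := by
  have hprod : ind D (cls D A c) =
      ∏ J ∈ Finset.univ.filter (fun J : Set ι => ind D J ∈ A ∧ c.out ∈ J), ind D J := by
    funext i
    rw [Finset.prod_apply]
    simp only [ind_apply]
    have hiff : (∀ J ∈ Finset.univ.filter (fun J : Set ι => ind D J ∈ A ∧ c.out ∈ J), i ∈ J) ↔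
        Quotient.mk (rel D A) i = c := by
      constructor
      · intro h
        have hr : (rel D A).r i c.out := by
          intro J hJ
          constructor
          · intro hiJ
            by_contra hc
            have := h Jᶜ (Finset.mem_filter.mpr ⟨Finset.mem_univ _, ind_compl_mem D A J hJ, hc⟩)
            exact this hiJ
          · intro hc
            exact h J (Finset.mem_filter.mpr ⟨Finset.mem_univ _, hJ, hc⟩)
        exact (Quotient.sound hr).trans (Quotient.out_eq c)
      · intro hi J hJ
        rw [Finset.mem_filter] at hJ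
        have hr : (rel D A).r i c.out := Quotient.exact (hi.trans (Quotient.out_eq c).symm)
        exact (hr J hJ.2.1).mpr hJ.2.2
    rw [mem_cls]
    by_cases hi : Quotient.mk (rel D A) i = c
    · rw [if_pos hi]
      symm
      apply Finset.prod_eq_one
      intro J hJ
      rw [if_pos (hiff.mpr hi J hJ)]
    · rw [if_neg hi]
      symm
      have hn : ¬ ∀ J ∈ Finset.univ.filter (fun J : Set ι => ind D J ∈ A ∧ c.out ∈ J), i ∈ J :=
        fun h => hi (hiff.mp h)
      push_neg at hn
      obtain ⟨J, hJ, hiJ⟩ := hn
      exact Finset.prod_eq_zero hJ (if_neg hiJ)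
  rw [hprod]
  exact Subring.prod_mem A fun J hJ => (Finset.mem_filter.mp hJ).2.1

include hF hA in
/-- Elements of `A` have support a union of classes. -/
theorem ne_zero_iff_of_rel (a : Π i, D i) (ha : a ∈ A) (i i' : ι) (h : (rel D A).r i i') :
    a i ≠ 0 ↔ a i' ≠ 0 :=
  h _ (ind_support_mem D R F hF A hA a ha)

/-- The factor ring of the product over a class. -/
abbrev Sc (c : Quotient (rel D A)) : Type u := Π i : {i : ι // Quotient.mk (rel D A) i = c}, D i.1

/-- Projection onto the coordinates of a class. -/
def proj (c : Quotient (rel D A)) : (Π i, D i) →+* Sc D A c :=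
  RingHom.pi fun i => Pi.evalRingHom D i.1

theorem proj_apply (c : Quotient (rel D A)) (s : Π i, D i)
    (i : {i : ι // Quotient.mk (rel D A) i = c}) : proj D A c s i = s i.1 := rfl

/-- The image of `A` in the factor ring of a class. -/
abbrev E (c : Quotient (rel D A)) : Subring (Sc D A c) := A.map (proj D A c)

/-- The comparison map. -/
def Φ : A →+* Π c, E D A c :=
  RingHom.pi fun c => ((proj D A c).comp A.subtype).codRestrict (E D A c)
    (fun a => ⟨a.1, a.2, rfl⟩)

theorem Φ_apply (a : A) (c : Quotient (rel D A))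
    (i : {i : ι // Quotient.mk (rel D A) i = c}) : (Φ D A a c).1 i = a.1 i.1 := rfl

theorem Φ_bijective : Function.Bijective (Φ D A) := by
  constructor
  · rw [injective_iff_map_eq_zero]
    intro a ha
    ext i
    have := congrArg (fun x => (x (Quotient.mk (rel D A) i)).1 ⟨i, rfl⟩) ha
    simpa [Φ_apply] using this
  · intro x
    have hch : ∀ c, ∃ a ∈ A, proj D A c a = (x c).1 := fun c => Subring.mem_map.mp (x c).2
    choose a haA ha using hch
    refine ⟨⟨∑ c, ind D (cls D A c) * a c,
      Subring.sum_mem A fun c _ => A.mul_mem (ind_cls_mem D A c) (haA c)⟩, ?_⟩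
    funext c
    apply Subtype.ext
    funext i
    rw [Φ_apply]
    simp only [Finset.sum_apply, Pi.mul_apply, ind_apply, mem_cls]
    rw [Finset.sum_eq_single c]
    · rw [if_pos i.2, one_mul, ← ha c]
      rfl
    · intro c' _ hc'
      have hne : ¬ (Quotient.mk (rel D A) i.1 = c') := fun h => hc' (h.symm.trans i.2)
      rw [if_neg hne, zero_mul]
    · intro h
      exact absurd (Finset.mem_univ c) h

include hF hA in
/-- Nonzero elements of `E c` have all coordinates nonzero. -/
theorem coord_ne_zero (c : Quotient (rel D A)) (x : E D A c) (hx : x ≠ 0)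
    (i : {i : ι // Quotient.mk (rel D A) i = c}) : x.1 i ≠ 0 := by
  obtain ⟨a, haA, hax⟩ := Subring.mem_map.mp x.2
  have hx1 : x.1 ≠ 0 := fun h => hx (Subtype.ext h)
  obtain ⟨i₁, hi₁⟩ := Function.ne_iff.mp hx1
  have hr : (rel D A).r i₁.1 i.1 := Quotient.exact (i₁.2.trans i.2.symm)
  have h1 : a i₁.1 ≠ 0 := by
    have := hi₁
    rw [← hax] at this
    exact this
  have h2 := (ne_zero_iff_of_rel D R F hF A hA a haA i₁.1 i.1 hr).mp h1
  rw [← hax]
  exact h2

include hF hA in
theorem isDomain_E (c : Quotient (rel D A)) : IsDomain (E D A c) := by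
  have hc : Quotient.mk (rel D A) c.out = c := Quotient.out_eq c
  haveI : Nontrivial (E D A c) := by
    refine ⟨⟨0, 1, fun h => ?_⟩⟩
    have := congrArg (fun x : E D A c => x.1 ⟨c.out, hc⟩) h
    simp at this
  haveI : NoZeroDivisors (E D A c) := by
    refine ⟨fun {x y} hxy => ?_⟩
    by_contra hn
    push_neg at hn
    have hx := coord_ne_zero D R F hF A hA c x hn.1 ⟨c.out, hc⟩
    have hy := coord_ne_zero D R F hF A hA c y hn.2 ⟨c.out, hc⟩
    have := congrArg (fun x : E D A c => x.1 ⟨c.out, hc⟩) hxy
    simp only [Subring.coe_mul, Pi.mul_apply, ZeroMemClass.coe_zero, Pi.zero_apply,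
      mul_eq_zero] at this
    rcases this with h | h
    · exact hx h
    · exact hy h
  exact NoZeroDivisors.to_isDomain _

include hF hA in
theorem isIntegrallyClosed_E [∀ i, IsIntegrallyClosed (D i)] (c : Quotient (rel D A)) :
    @IsIntegrallyClosed (E D A c) _ := by
  haveI := isDomain_E D R F hF A hA c
  rw [isIntegrallyClosed_iff (FractionRing (E D A c))]
  intro z hz
  obtain ⟨x, y, hy, rfl⟩ := IsFractionRing.div_surjective (A := E D A c) z
  have hy0 : y ≠ 0 := nonZeroDivisors.ne_zero hy
  have hw : ∀ i : {i : ι // Quotient.mk (rel D A) i = c}, ∃ w : D i.1, x.1 i = y.1 i * w := by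
    intro i
    let φ : E D A c →+* D i.1 := (Pi.evalRingHom _ i).comp (E D A c).subtype
    have hφ : Function.Injective φ := by
      rw [injective_iff_map_eq_zero]
      intro t ht
      by_contra h
      exact coord_ne_zero D R F hF A hA c t h i ht
    have hg : Function.Injective ((algebraMap (D i.1) (FractionRing (D i.1))).comp φ) :=
      (IsFractionRing.injective (D i.1) (FractionRing (D i.1))).comp hφ
    have hint : IsIntegral (D i.1) ((IsFractionRing.lift hg :
        FractionRing (E D A c) →+* FractionRing (D i.1))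
        (algebraMap _ _ x / algebraMap _ _ y)) :=
      hz.map_of_comp_eq φ (IsFractionRing.lift hg) (by
        ext t
        simp only [RingHom.comp_apply, IsFractionRing.lift_algebraMap])
    obtain ⟨w, hw⟩ := (isIntegrallyClosed_iff (FractionRing (D i.1))).mp inferInstance hint
    refine ⟨w, ?_⟩
    have hxy : algebraMap (D i.1) (FractionRing (D i.1)) w =
        algebraMap (D i.1) (FractionRing (D i.1)) (x.1 i) /
          algebraMap (D i.1) (FractionRing (D i.1)) (y.1 i) := by
      rw [hw, map_div₀, IsFractionRing.lift_algebraMap, IsFractionRing.lift_algebraMap]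
      rfl
    have hyi : algebraMap (D i.1) (FractionRing (D i.1)) (y.1 i) ≠ 0 := by
      rw [Ne, map_eq_zero_iff _ (IsFractionRing.injective _ _)]
      exact coord_ne_zero D R F hF A hA c y hy0 i
    rw [eq_div_iff hyi] at hxy
    apply IsFractionRing.injective (D i.1) (FractionRing (D i.1))
    rw [map_mul, mul_comm]
    exact hxy.symm
  choose w hw using hw
  obtain ⟨ax, haxA, hax⟩ := Subring.mem_map.mp x.2
  obtain ⟨ay, hayA, hay⟩ := Subring.mem_map.mp y.2
  let W : Π i, D i := fun i => if h : Quotient.mk (rel D A) i = c then w ⟨i, h⟩ else 0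
  have hWA : W ∈ A := by
    have heA := ind_cls_mem D A c
    have hsA : ind D (cls D A c) * ay + (1 - ind D (cls D A c)) ∈ A :=
      A.add_mem (A.mul_mem heA hayA) (A.sub_mem A.one_mem heA)
    have hs : ind D (cls D A c) * ay + (1 - ind D (cls D A c)) ∈
        nonZeroDivisors (Π i, D i) := by
      apply mem_nzd_of_forall_ne_zero
      intro i
      simp only [Pi.add_apply, Pi.mul_apply, Pi.sub_apply, Pi.one_apply, ind_apply, mem_cls]
      split_ifs with h
      · have := coord_ne_zero D R F hF A hA c y hy0 ⟨i, h⟩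
        rw [← hay] at this
        simpa [proj_apply] using this
      · simp
    have hsW : (ind D (cls D A c) * ay + (1 - ind D (cls D A c))) * W =
        ind D (cls D A c) * ax := by
      funext i
      simp only [Pi.mul_apply, Pi.add_apply, Pi.sub_apply, Pi.one_apply, ind_apply, mem_cls, W]
      split_ifs with h
      · have := hw ⟨i, h⟩
        rw [← hax, ← hay] at this
        simpa [proj_apply] using this.symm
      · simp
    rw [hA]
    intro f hf f' hf'
    have h1 : f (ind D (cls D A c) * ay + (1 - ind D (cls D A c))) * f W =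
        f (ind D (cls D A c) * ax) := by rw [← map_mul, hsW]
    have h2 : f' (ind D (cls D A c) * ay + (1 - ind D (cls D A c))) * f' W =
        f' (ind D (cls D A c) * ax) := by rw [← map_mul, hsW]
    have h3 : f (ind D (cls D A c) * ay + (1 - ind D (cls D A c))) =
        f' (ind D (cls D A c) * ay + (1 - ind D (cls D A c))) := (hA _).mp hsA f hf f' hf'
    have h4 : f (ind D (cls D A c) * ax) = f' (ind D (cls D A c) * ax) :=
      (hA _).mp (A.mul_mem heA haxA) f hf f' hf'
    have h5 : f (ind D (cls D A c) * ay + (1 - ind D (cls D A c))) * (f W - f' W) = 0 := by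
      rw [mul_sub, h1]
      rw [h3, h2, h4, sub_self]
    exact sub_eq_zero.mp ((mul_left_mem_nonZeroDivisors_eq_zero_iff (hF f hf _ hs)).mp h5)
  refine ⟨⟨proj D A c W, Subring.mem_map.mpr ⟨W, hWA, rfl⟩⟩, ?_⟩
  have hyK : algebraMap (E D A c) (FractionRing (E D A c)) y ≠ 0 := by
    rw [Ne, map_eq_zero_iff _ (IsFractionRing.injective _ _)]
    exact hy0
  rw [eq_div_iff hyK, ← map_mul]
  congr 1
  apply Subtype.ext
  funext i
  show W i.1 * y.1 i = x.1 i
  simp only [W, dif_pos i.2]
  rw [hw i, mul_comm]

end Main

/-- Suppose S is the product of a finite family of integrally closed domains (a finite product of normal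
domains), R is any commutative ring, and F is a family of ring maps S → R each carrying
non-zero-divisors of S to non-zero-divisors of R. Then the subring A of S on which all members of F
coincide (a ∈ A iff f(a) = f'(a) for all f, f' in F) is ring-isomorphic to a product of finitely
many integrally closed domains. -/
theorem result {ι : Type u} [Fintype ι] (D : ι → Type u)
    [∀ i, CommRing (D i)] [∀ i, IsDomain (D i)] [∀ i, IsIntegrallyClosed (D i)]
    (R : Type u) [CommRing R] (F : Set ((Π i, D i) →+* R))
    (hF : ∀ f ∈ F, ∀ s ∈ nonZeroDivisors (Π i, D i), f s ∈ nonZeroDivisors R)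
    (A : Subring (Π i, D i)) (hA : ∀ a, a ∈ A ↔ ∀ f ∈ F, ∀ f' ∈ F, f a = f' a) :
    ∃ (κ : Type u) (_ : Fintype κ) (E : κ → Type u) (_ : ∀ j, CommRing (E j)) (_ : ∀ j, IsDomain (E j))
      (_ : ∀ j, IsIntegrallyClosed (E j)), Nonempty (A ≃+* Π j, E j) := by
  exact ⟨Quotient (rel D A), inferInstance, fun c => E D A c, fun c => inferInstance,
    fun c => isDomain_E D R F hF A hA c, fun c => isIntegrallyClosed_E D R F hF A hA c,
    ⟨RingEquiv.ofBijective (Φ D A) (Φ_bijective D A)⟩⟩

end Groth.Agent.S11135
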