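import Groth.Statements.S11136
import Mathlib

set_option autoImplicit false
universe u v
open InvTh
open scoped Pointwise

namespace Groth.Agent.S11136

open TopologicalSpace in
/-- In a Noetherian space, connected components are open. -/
theorem isOpen_connectedComponent_of_noetherian {α : Type*} [TopologicalSpace α]
    [NoetherianSpace α] (y : α) : IsOpen (connectedComponent y) := by
  rw [← isClosed_compl_iff]
  have hfin : {Z ∈ irreducibleComponents α | Z ⊆ (connectedComponent y)ᶜ}.Finite :=
    NoetherianSpace.finite_irreducibleComponents.subset (fun Z hZ => hZ.1)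
  have key : (connectedComponent y)ᶜ =
      ⋃ Z ∈ {Z ∈ irreducibleComponents α | Z ⊆ (connectedComponent y)ᶜ}, Z := by
    apply Set.Subset.antisymm
    · intro z hz
      refine Set.mem_biUnion (x := irreducibleComponent z)
        ⟨irreducibleComponent_mem_irreducibleComponents z, ?_⟩ mem_irreducibleComponent
      intro w hw hw'
      have h1 : w ∈ connectedComponent z := irreducibleComponent_subset_connectedComponent hw
      have h2 : connectedComponent z = connectedComponent y :=
        (connectedComponent_eq h1).trans (connectedComponent_eq hw').symm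
      exact hz (h2 ▸ mem_connectedComponent)
    · exact Set.iUnion₂_subset fun Z hZ => hZ.2
  rw [key]
  exact hfin.isClosed_biUnion fun Z hZ => isClosed_of_mem_irreducibleComponents Z hZ.1

theorem image_cc_of_inverse {α : Type*} [TopologicalSpace α] (f f' : α → α) (hf : Continuous f)
    (hf' : Continuous f') (h1 : ∀ z, f (f' z) = z) (h2 : ∀ z, f' (f z) = z) (x : α) :
    f '' connectedComponent x = connectedComponent (f x) := by
  apply Set.Subset.antisymm (hf.image_connectedComponent_subset x)
  intro z hz
  refine ⟨f' z, ?_, h1 z⟩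
  have := hf'.image_connectedComponent_subset (f x) ⟨z, hz, rfl⟩
  rwa [h2] at this

/-- Let a finite group G act on a Noetherian commutative ring R by ring automorphisms, with ring of
invariants A (A → R injective with image the fixed elements). When the prime spectrum of A is
connected, any two connected components of Spec R are exchanged by some element of G: for all points
x, y of Spec R there is g in G whose induced self-map of Spec R carries the connected component of x
onto the connected component of y. -/
theorem result
    (A : Type u) (R : Type v) [CommRing A] [CommRing R] [Algebra A R] [IsNoetherianRing R]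
    (G : Type u) [Group G] [Finite G] [MulSemiringAction G R] [SMulCommClass G A R]
    [Algebra.IsInvariant A R G] [FaithfulSMul A R]
    [ConnectedSpace (PrimeSpectrum A)] (x y : PrimeSpectrum R) :
    ∃ g : G, PrimeSpectrum.comap (MulSemiringAction.toRingHom G R g) '' connectedComponent x =
      connectedComponent y := by
  classical
  haveI : Algebra.IsIntegral A R := Algebra.IsInvariant.isIntegral A R G
  set φ : G → PrimeSpectrum R → PrimeSpectrum R :=
    fun g => PrimeSpectrum.comap (MulSemiringAction.toRingHom G R g) with hφ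
  have hφc : ∀ g, Continuous (φ g) := fun g => PrimeSpectrum.continuous_comap _
  have h_comp : ∀ g h P, φ g (φ h P) = φ (h * g) P := by
    intro g h P
    have : (MulSemiringAction.toRingHom G R h).comp (MulSemiringAction.toRingHom G R g) =
        MulSemiringAction.toRingHom G R (h * g) := RingHom.ext fun r => (mul_smul h g r).symm
    simp only [hφ]
    rw [← PrimeSpectrum.comap_comp_apply, this]
  have h_one : ∀ P, φ 1 P = P := by
    intro P
    have : MulSemiringAction.toRingHom G R 1 = RingHom.id R := RingHom.ext fun r => one_smul G r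
    simp only [hφ]
    rw [this]
    rfl
  set π : PrimeSpectrum R → PrimeSpectrum A := PrimeSpectrum.comap (algebraMap A R) with hπ
  have hπcl : IsClosedMap π :=
    PrimeSpectrum.isClosedMap_comap_of_isIntegral _ (algebraMap_isIntegral_iff.mpr inferInstance)
  have hπsurj : Function.Surjective π := by
    intro a
    obtain ⟨P, -, hPprime, hP⟩ := Ideal.exists_ideal_over_prime_of_isIntegral a.asIdeal
      (⊥ : Ideal R) (by simp [← RingHom.ker_eq_comap_bot])
    exact ⟨⟨P, hPprime⟩, PrimeSpectrum.ext hP⟩
  have h_trans : ∀ P Q : PrimeSpectrum R, π P = π Q → ∃ g, Q = φ g P := by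
    intro P Q h
    obtain ⟨g, hg⟩ := Algebra.IsInvariant.exists_smul_of_under_eq A R G P.asIdeal Q.asIdeal
      (congrArg PrimeSpectrum.asIdeal h)
    refine ⟨g⁻¹, PrimeSpectrum.ext ?_⟩
    ext r
    show r ∈ Q.asIdeal ↔ g⁻¹ • r ∈ P.asIdeal
    rw [hg, Ideal.mem_pointwise_smul_iff_inv_smul_mem]
  set U : Set (PrimeSpectrum R) := ⋃ g : G, (φ g) ⁻¹' connectedComponent y with hU
  have hUclopen : IsClopen U :=
    isClopen_iUnion_of_finite fun g =>
      IsClopen.preimage ⟨isClosed_connectedComponent, isOpen_connectedComponent_of_noetherian y⟩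
        (hφc g)
  have hUstable : ∀ P ∈ U, ∀ h, φ h P ∈ U := by
    intro P hP h
    obtain ⟨g, hg⟩ := Set.mem_iUnion.mp hP
    refine Set.mem_iUnion.mpr ⟨h⁻¹ * g, ?_⟩
    show φ (h⁻¹ * g) (φ h P) ∈ connectedComponent y
    rw [h_comp, mul_inv_cancel_left]
    exact hg
  have hcompl : (π '' U)ᶜ = π '' Uᶜ := by
    apply Set.Subset.antisymm
    · intro a ha
      obtain ⟨P, rfl⟩ := hπsurj a
      exact ⟨P, fun hP => ha ⟨P, hP, rfl⟩, rfl⟩
    · rintro _ ⟨Q, hQ, rfl⟩ ⟨P, hP, hPQ⟩
      obtain ⟨g, rfl⟩ := h_trans P Q hPQ
      exact hQ (hUstable P hP g)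
  have hπUclopen : IsClopen (π '' U) :=
    ⟨hπcl _ hUclopen.1, by
      rw [← isClosed_compl_iff, hcompl]
      exact hπcl _ hUclopen.compl.1⟩
  have hyU : y ∈ U := Set.mem_iUnion.mpr ⟨1, by show φ 1 y ∈ connectedComponent y; rw [h_one]; exact mem_connectedComponent⟩
  have hπU : π '' U = Set.univ := by
    rcases isClopen_iff.mp hπUclopen with h | h
    · exact absurd h (Set.Nonempty.ne_empty ⟨π y, y, hyU, rfl⟩)
    · exact h
  have hxU : x ∈ U := by
    have : π x ∈ π '' U := hπU ▸ Set.mem_univ _
    obtain ⟨P, hP, hPx⟩ := this
    obtain ⟨g, rfl⟩ := h_trans P x hPx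
    exact hUstable P hP g
  obtain ⟨g, hg⟩ := Set.mem_iUnion.mp hxU
  refine ⟨g, ?_⟩
  have himg := image_cc_of_inverse (φ g) (φ g⁻¹) (hφc g) (hφc g⁻¹)
    (fun z => by rw [h_comp, inv_mul_cancel, h_one])
    (fun z => by rw [h_comp, mul_inv_cancel, h_one]) x
  show φ g '' connectedComponent x = connectedComponent y
  rw [himg]
  exact (connectedComponent_eq hg).symm

end Groth.Agent.S11136
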