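import Groth.Statements.S11141
import Groth.Agent.Lib.Helper28.CofreeAlg
import Groth.Agent.S11135

set_option autoImplicit false
universe u
open TensorProduct
open InvTh

namespace Groth.Agent.S11141

/-- Let k be a field, H a finitely generated commutative Hopf algebra over k (the coordinate ring of a
group scheme affine and of finite type over k), and S a commutative k-algebra which is
ring-isomorphic to a finite product of normal (integrally closed) domains and carries an H-comodule
structure whose coaction S → S ⊗ H is multiplicative and unital. Then the k-subalgebra of invariants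
of S, the elements s whose coaction is s ⊗ 1, is again ring-isomorphic to a finite product of normal
domains. -/
theorem result (k : Type u) [Field k]
    (H : Type u) [CommRing H] [HopfAlgebra k H] [Algebra.FiniteType k H]
    (S : Type u) [CommRing S] [Algebra k S] [HopfRep.Comod k H S]
    (hmul : ∀ x y : S, HopfRep.Comod.coact (k := k) (A := H) (x * y) =
        HopfRep.Comod.coact (k := k) (A := H) x * HopfRep.Comod.coact (k := k) (A := H) y)
    (hone : HopfRep.Comod.coact (k := k) (A := H) (1 : S) = 1)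
    {ι : Type u} [Fintype ι] (D : ι → Type u) [∀ i, CommRing (D i)] [∀ i, IsDomain (D i)]
    [∀ i, IsIntegrallyClosed (D i)] (e : S ≃+* Π i, D i)
    (A : Subalgebra k S)
    (hA : ∀ a : S, a ∈ A ↔ HopfRep.Comod.coact (k := k) (A := H) a = a ⊗ₜ[k] (1 : H)) :
    ∃ (κ : Type u) (_ : Fintype κ) (E : κ → Type u) (_ : ∀ j, CommRing (E j)) (_ : ∀ j, IsDomain (E j))
      (_ : ∀ j, IsIntegrallyClosed (E j)), Nonempty (A ≃+* Π j, E j) := by
  classical
  haveI : GLin.IsCoactAlg k H S := ⟨hone, hmul⟩
  let ρ' : (Π i, D i) →+* S ⊗[k] H :=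
    (GLin.coactAlgHom k H S).toRingHom.comp e.symm.toRingHom
  let ι' : (Π i, D i) →+* S ⊗[k] H :=
    (Algebra.TensorProduct.includeLeft : S →ₐ[k] S ⊗[k] H).toRingHom.comp e.symm.toRingHom
  have hρ' : ∀ a, ρ' a = HopfRep.Comod.coact (k := k) (A := H) (e.symm a) := fun a => rfl
  have hι' : ∀ a, ι' a = (e.symm a) ⊗ₜ[k] (1 : H) := fun a => rfl
  have hnzd : ∀ s ∈ nonZeroDivisors (Π i, D i), e.symm s ∈ nonZeroDivisors S := by
    intro s hs
    have h := MulEquivClass.map_nonZeroDivisors e.symm
    rw [← h]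
    exact ⟨s, hs, rfl⟩
  have hF : ∀ f ∈ ({ρ', ι'} : Set ((Π i, D i) →+* S ⊗[k] H)),
      ∀ s ∈ nonZeroDivisors (Π i, D i), f s ∈ nonZeroDivisors (S ⊗[k] H) := by
    intro f hf s hs
    rcases hf with rfl | hf
    · rw [hρ']
      exact Groth.Agent.Lib.Helper28.CofreeAlg.coact_mem_nonZeroDivisors k H S _ (hnzd s hs)
    · rw [Set.mem_singleton_iff] at hf
      subst hf
      rw [hι']
      exact Groth.Agent.Lib.Helper28.CofreeAlg.tmul_one_mem_nonZeroDivisors k H S _ (hnzd s hs)
  let A' : Subring (Π i, D i) := A.toSubring.map e.toRingHom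
  have hA' : ∀ a, a ∈ A' ↔ ∀ f ∈ ({ρ', ι'} : Set ((Π i, D i) →+* S ⊗[k] H)),
      ∀ f' ∈ ({ρ', ι'} : Set ((Π i, D i) →+* S ⊗[k] H)), f a = f' a := by
    intro a
    constructor
    · rintro ⟨s, hs, rfl⟩
      have hs' : HopfRep.Comod.coact (k := k) (A := H) s = s ⊗ₜ[k] (1 : H) := (hA s).mp hs
      have h1 : ρ' (e.toRingHom s) = ι' (e.toRingHom s) := by
        rw [hρ', hι']
        change HopfRep.Comod.coact (k := k) (A := H) (e.symm (e s)) = (e.symm (e s)) ⊗ₜ[k] (1 : H)
        rw [RingEquiv.symm_apply_apply]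
        exact hs'
      intro f hf f' hf'
      rcases hf with rfl | hf <;> rcases hf' with rfl | hf'
      · rfl
      · rw [Set.mem_singleton_iff] at hf'; subst hf'; exact h1
      · rw [Set.mem_singleton_iff] at hf; subst hf; exact h1.symm
      · rw [Set.mem_singleton_iff] at hf hf'; subst hf; subst hf'; rfl
    · intro h
      have h1 : ρ' a = ι' a := h ρ' (Or.inl rfl) ι' (Or.inr rfl)
      rw [hρ', hι'] at h1
      exact ⟨e.symm a, (hA _).mpr h1, by simp⟩
  obtain ⟨κ, hκ, E, hE1, hE2, hE3, ⟨φ⟩⟩ :=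
    Groth.Agent.S11135.result D (S ⊗[k] H) {ρ', ι'} hF A' hA'
  refine ⟨κ, hκ, E, hE1, hE2, hE3, ⟨RingEquiv.trans ?_ φ⟩⟩
  exact RingEquiv.subringMap (s := A.toSubring) e

end Groth.Agent.S11141
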