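import Groth.Statements.S11142
import Mathlib

set_option autoImplicit false
universe u
open CategoryTheory AlgebraicGeometry
open FlatMor

namespace Groth.Agent.S11142

open TopologicalSpace in
/-- In a Noetherian quasi-sober space, a point in the closure of an open set is a specialization
of a point of that open set. -/
theorem exists_specializes_of_mem_closure {W : Type*} [TopologicalSpace W] [NoetherianSpace W]
    [QuasiSober W] {U : Set W} (hU : IsOpen U) {y : W} (hy : y ∈ closure U) :
    ∃ u ∈ U, u ⤳ y := by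
  obtain ⟨S, hSfin, hScl, hSirr, hS⟩ :=
    NoetherianSpace.exists_finite_set_isClosed_irreducible (isClosed_closure (s := U))
  have hS'fin : {T ∈ S | (T ∩ U).Nonempty}.Finite := hSfin.subset (fun T hT => hT.1)
  have hcl : IsClosed (⋃ T ∈ {T ∈ S | (T ∩ U).Nonempty}, T) :=
    hS'fin.isClosed_biUnion fun T hT => hScl T hT.1
  have hsub : U ⊆ ⋃ T ∈ {T ∈ S | (T ∩ U).Nonempty}, T := by
    intro u hu
    have : u ∈ ⋃₀ S := hS ▸ subset_closure hu
    obtain ⟨T, hT, huT⟩ := this
    exact Set.mem_biUnion (x := T) ⟨hT, ⟨u, huT, hu⟩⟩ huT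
  have hy' : y ∈ ⋃ T ∈ {T ∈ S | (T ∩ U).Nonempty}, T := closure_minimal hsub hcl hy
  obtain ⟨T, hT, hyT⟩ := Set.mem_iUnion₂.mp hy'
  have hTirr := hSirr T hT.1
  have hTcl := hScl T hT.1
  obtain ⟨η, hη⟩ := QuasiSober.sober hTirr hTcl
  refine ⟨η, (hη.mem_open_set_iff hU).mpr hT.2, ?_⟩
  rw [specializes_iff_mem_closure, hη.def]
  exact hyT

/-- For a flat morphism f : X → Y between locally Noetherian schemes, the preimage under f of any dense
open subset of Y is dense in X. -/
theorem result (X Y : Scheme.{u}) [IsLocallyNoetherian X]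
    [IsLocallyNoetherian Y] (f : X ⟶ Y) [Flat f] (U : Y.Opens) (hU : Dense (U : Set Y)) :
    Dense ((f ⁻¹ᵁ U : X.Opens) : Set X) := by
  rw [dense_iff_inter_open]
  rintro V hV ⟨x, hxV⟩
  obtain ⟨u, huU, hu⟩ : ∃ u ∈ (U : Set Y), u ⤳ f x := by
    obtain ⟨W, hW, hxW, -⟩ :=
      exists_isAffineOpen_mem_and_subset (TopologicalSpace.Opens.mem_top (f x))
    haveI : IsNoetherianRing Γ(Y, W) := IsLocallyNoetherian.component_noetherian ⟨W, hW⟩
    haveI : TopologicalSpace.NoetherianSpace ↥(W : Set Y) := noetherianSpace_of_isAffineOpen W hW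
    haveI : QuasiSober ↥(W : Set Y) := W.isOpen.isOpenEmbedding_subtypeVal.quasiSober
    have hy : (⟨f x, hxW⟩ : ↥(W : Set Y)) ∈
        closure ((Subtype.val : ↥(W : Set Y) → Y) ⁻¹' (U : Set Y)) := by
      have h := W.isOpen.isOpenMap_subtype_val.preimage_closure_eq_closure_preimage
        continuous_subtype_val (U : Set Y)
      rw [← h, hU.closure_eq]
      trivial
    obtain ⟨u, hu, hspec⟩ :=
      exists_specializes_of_mem_closure (U.isOpen.preimage continuous_subtype_val) hy
    exact ⟨u.1, hu, hspec.map continuous_subtype_val⟩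
  obtain ⟨x', hx', rfl⟩ := Flat.generalizingMap f hu
  exact ⟨x', hx'.mem_open hV hxV, huU⟩

end Groth.Agent.S11142
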