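import Groth.Statements.S11147
import Mathlib

set_option autoImplicit false
universe u
open FrobAlg

namespace Groth.Agent.S11147

open TensorProduct FrobAlg

theorem relFrob_tmul (p : ℕ) [Fact p.Prime] (k K : Type u) [Field k]
    [Field K] [Algebra k K] [CharP k p] [CharP K p] (b : K) (a : Twist p k) :
    relFrob p k K (b ⊗ₜ[k] a) = b ^ p * algebraMap k K ((toTwist p k).symm a) := by
  simp only [relFrob, AlgHom.toRingHom_eq_coe, RingHom.coe_comp, RingHom.coe_coe,
    Function.comp_apply, Algebra.TensorProduct.lift_tmul]
  rfl

/-- Let p be a prime and k ⊆ K fields of characteristic p such that K is finitely generated over k as a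
field. Then the relative Frobenius ring homomorphism K ⊗_{k,Frob} k → K, b ⊗ a ↦ b^p a (the
Radu–André homomorphism of k → K), is bijective exactly when K is algebraic over k and every element
of K is separable over k. -/
theorem result (p : ℕ) [Fact p.Prime] (k K : Type u) [Field k]
    [Field K] [Algebra k K] [CharP k p] [CharP K p] (hfg : (⊤ : IntermediateField k K).FG) :
    Function.Bijective (FrobAlg.relFrob p k K) ↔ Algebra.IsSeparable k K := by
  haveI : Algebra.EssFiniteType k K := IntermediateField.fg_top_iff.mp hfg
  constructor
  · intro hb
    -- every `D x` vanishes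
    have hD : ∀ t : BaseChange p k K, KaehlerDifferential.D k K (relFrob p k K t) = 0 := by
      intro t
      induction t using TensorProduct.induction_on with
      | zero => simp
      | tmul b a =>
        rw [relFrob_tmul, Derivation.leibniz, Derivation.map_algebraMap, smul_zero, zero_add,
          Derivation.leibniz_pow, ← Nat.cast_smul_eq_nsmul K, CharP.cast_eq_zero, zero_smul,
          smul_zero]
      | add x y hx hy => rw [map_add, map_add, hx, hy, add_zero]
    haveI : Algebra.FormallyUnramified k K := by
      refine ⟨⟨fun x y => ?_⟩⟩
      have hbot : (⊤ : Submodule K Ω[K⁄k]) = ⊥ := by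
        rw [← KaehlerDifferential.span_range_derivation, Submodule.span_eq_bot]
        rintro _ ⟨x, rfl⟩
        obtain ⟨t, rfl⟩ := hb.2 x
        exact hD t
      have hx : x ∈ (⊥ : Submodule K Ω[K⁄k]) := hbot ▸ Submodule.mem_top
      have hy : y ∈ (⊥ : Submodule K Ω[K⁄k]) := hbot ▸ Submodule.mem_top
      rw [Submodule.mem_bot] at hx hy
      rw [hx, hy]
    exact Algebra.FormallyUnramified.isSeparable k K
  · intro hsep
    haveI : Algebra.IsAlgebraic k K := Algebra.IsSeparable.isAlgebraic k K
    haveI : Module.Finite k K := Algebra.finite_of_essFiniteType_of_isAlgebraic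
    let b := Module.finBasis k K
    have hspan : Submodule.span k (Set.range (fun i => b i ^ p ^ 1)) = ⊤ :=
      Field.span_map_pow_expChar_pow_eq_top_of_isSeparable p 1 b.span_eq
    simp only [pow_one] at hspan
    have hli : LinearIndependent k (fun i => b i ^ p) :=
      linearIndependent_of_top_le_span_of_card_eq_finrank hspan.ge
        (by simp)
    -- formula on "coordinate" tensors
    have hform : ∀ a : Fin (Module.finrank k K) → Twist p k,
        relFrob p k K (∑ i, b i ⊗ₜ[k] a i) = ∑ i, ((toTwist p k).symm (a i)) • (b i ^ p) := by
      intro a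
      rw [map_sum]
      refine Finset.sum_congr rfl fun i _ => ?_
      rw [relFrob_tmul, Algebra.smul_def, mul_comm]
    constructor
    · rw [injective_iff_map_eq_zero]
      intro t ht
      have hrep : ∀ t : BaseChange p k K,
          ∃ a : Fin (Module.finrank k K) → Twist p k, t = ∑ i, b i ⊗ₜ[k] a i := by
        intro t
        induction t using TensorProduct.induction_on with
        | zero => exact ⟨0, by simp⟩
        | tmul x a =>
          refine ⟨fun i => b.repr x i • a, ?_⟩
          conv_lhs => rw [← b.sum_repr x, TensorProduct.sum_tmul]
          refine Finset.sum_congr rfl fun i _ => ?_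
          rw [TensorProduct.smul_tmul]
        | add x y hx hy =>
          obtain ⟨a, rfl⟩ := hx
          obtain ⟨a', rfl⟩ := hy
          refine ⟨a + a', ?_⟩
          simp [TensorProduct.tmul_add, Finset.sum_add_distrib]
      obtain ⟨a, rfl⟩ := hrep t
      rw [hform] at ht
      have h0 := Fintype.linearIndependent_iff.mp hli _ ht
      refine Finset.sum_eq_zero fun i _ => ?_
      have : a i = 0 := by
        have := h0 i
        simpa using this
      rw [this, TensorProduct.tmul_zero]
    · intro x
      have hx : x ∈ Submodule.span k (Set.range (fun i => b i ^ p)) := hspan ▸ Submodule.mem_top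
      obtain ⟨c, rfl⟩ := (Submodule.mem_span_range_iff_exists_fun k).mp hx
      refine ⟨∑ i, b i ⊗ₜ[k] (toTwist p k (c i)), ?_⟩
      rw [hform]
      simp

end Groth.Agent.S11147
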