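import Groth.Statements.S11152
import Mathlib
import Groth.Agent.Lib.Helper17.WayOut
import Groth.Agent.Lib.Helper17.FourLemma

set_option autoImplicit false
universe w w' v v' u u'
open CategoryTheory CategoryTheory.Limits
open CohDer

namespace Groth.Agent.S11152

open Pretriangulated in
/-- A way-out right triangulated functor sends objects of `A` (in degree 0) to uniformly bounded
below objects. -/
theorem exists_isGE_single {A : Type u} [Category.{v} A] [Abelian A] [HasDerivedCategory.{w} A]
    {B : Type u'} [Category.{v'} B] [Abelian B] [HasDerivedCategory.{w'} B]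
    (F : DerivedCategory A ⥤ DerivedCategory B) [F.CommShift ℤ]
    (hF : ∀ n₁ : ℤ, ∃ n₂ : ℤ, ∀ Y : DerivedCategory A, Y.IsGE n₂ → (F.obj Y).IsGE n₁) :
    ∃ N : ℤ, ∀ X : A, (F.obj ((DerivedCategory.singleFunctor A 0).obj X)).IsGE N := by
  obtain ⟨n₂, h⟩ := hF 0
  refine ⟨-n₂, fun X => ?_⟩
  have h1 : (((DerivedCategory.singleFunctor A 0).obj X)⟦-n₂⟧).IsGE n₂ :=
    DerivedCategory.TStructure.t.isGE_shift _ 0 (-n₂) n₂ (by omega)
  have h2 : (F.obj (((DerivedCategory.singleFunctor A 0).obj X)⟦-n₂⟧)).IsGE 0 := h _ h1
  have h2' : DerivedCategory.TStructure.t.IsGE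
      ((shiftFunctor (DerivedCategory A) (-n₂) ⋙ F).obj
        ((DerivedCategory.singleFunctor A 0).obj X)) 0 := h2
  have h3 : ((F.obj ((DerivedCategory.singleFunctor A 0).obj X))⟦-n₂⟧).IsGE 0 :=
    DerivedCategory.TStructure.t.isGE_of_iso
      ((F.commShiftIso (-n₂)).app ((DerivedCategory.singleFunctor A 0).obj X)) 0
  exact DerivedCategory.TStructure.t.isGE_of_shift _ (-n₂) (-n₂) 0 (by omega)

/-- Fix abelian categories A and B, P a class of objects of A such that every object of A admits a
monomorphism into an object of P, F and G triangulated functors from D(A) to D(B) which are both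
way-out right (given n₁ there is n₂ such that H^i(Y) = 0 for i < n₂ implies H^i(F Y) = 0 for i <
n₁), and η : F ⟶ G a morphism of triangulated functors. If η_X is an isomorphism for every object X
of P placed in degree 0, then η_X is an isomorphism for every object X of A placed in degree 0.
(Stated for functors defined on all of D(A) and the thick subcategory taken to be all of A.) -/
theorem result {A : Type u} [Category.{v} A] [Abelian A] [HasDerivedCategory.{w} A]
    {B : Type u'} [Category.{v'} B] [Abelian B] [HasDerivedCategory.{w'} B]
    (P : ObjectProperty A) (hP : ∀ X : A, ∃ (Y : A) (i : X ⟶ Y), P Y ∧ Mono i)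
    (F G : DerivedCategory A ⥤ DerivedCategory B) [F.CommShift ℤ] [G.CommShift ℤ]
    [F.IsTriangulated] [G.IsTriangulated] (η : F ⟶ G) [NatTrans.CommShift η ℤ]
    (hF : ∀ n₁ : ℤ, ∃ n₂ : ℤ, ∀ Y : DerivedCategory A, Y.IsGE n₂ → (F.obj Y).IsGE n₁)
    (hG : ∀ n₁ : ℤ, ∃ n₂ : ℤ, ∀ Y : DerivedCategory A, Y.IsGE n₂ → (G.obj Y).IsGE n₁)
    (hη : ∀ X : A, P X → IsIso (η.app ((DerivedCategory.singleFunctor A 0).obj X)))
    (X : A) :
    IsIso (η.app ((DerivedCategory.singleFunctor A 0).obj X)) := by
  obtain ⟨NF, hNF⟩ := exists_isGE_single F hF
  obtain ⟨NG, hNG⟩ := exists_isGE_single G hG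
  -- the key claim, by induction
  have key : ∀ (k : ℕ) (j : ℤ), j < min NF NG + k → ∀ X : A,
      IsIso ((DerivedCategory.homologyFunctor B j).map
        (η.app ((DerivedCategory.singleFunctor A 0).obj X))) := by
    intro k
    induction k with
    | zero =>
      intro j hj X
      haveI := hNF X
      haveI := hNG X
      have h1 : IsZero ((DerivedCategory.homologyFunctor B j).obj
          (F.obj ((DerivedCategory.singleFunctor A 0).obj X))) :=
        DerivedCategory.isZero_of_isGE _ NF j (by
          have := min_le_left NF NG
          push_cast at hj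
          omega)
      have h2 : IsZero ((DerivedCategory.homologyFunctor B j).obj
          (G.obj ((DerivedCategory.singleFunctor A 0).obj X))) :=
        DerivedCategory.isZero_of_isGE _ NG j (by
          have := min_le_right NF NG
          push_cast at hj
          omega)
      exact ⟨⟨0, h1.eq_of_src _ _, h2.eq_of_src _ _⟩⟩
    | succ k ih =>
      intro j hj
      by_cases hjk : j < min NF NG + k
      · exact ih j hjk
      · have ih' := ih (j - 1) (by push_cast at hj; omega)
        -- mono for all X
        have hmono : ∀ X : A, Mono ((DerivedCategory.homologyFunctor B j).map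
            (η.app ((DerivedCategory.singleFunctor A 0).obj X))) := by
          intro X
          obtain ⟨Y, i, hPY, hi⟩ := hP X
          have hS : (ShortComplex.mk i (cokernel.π i) (cokernel.condition i)).ShortExact :=
            ShortComplex.ShortExact.mk' (ShortComplex.exact_cokernel i) hi inferInstance
          have hT := hS.singleTriangle_distinguished
          haveI hY : IsIso (η.app hS.singleTriangle.obj₂) := hη Y hPY
          haveI hQ : IsIso ((DerivedCategory.homologyFunctor B (j - 1)).map
              (η.app hS.singleTriangle.obj₃)) := ih' (cokernel i)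
          have e2 : Epi ((DerivedCategory.homologyFunctor B (j - 1)).map
              (η.app hS.singleTriangle.obj₂)) := inferInstance
          have m3 : Mono ((DerivedCategory.homologyFunctor B (j - 1)).map
              (η.app hS.singleTriangle.obj₃)) := inferInstance
          have m2 : Mono ((DerivedCategory.homologyFunctor B j).map
              (η.app hS.singleTriangle.obj₂)) := inferInstance
          exact Groth.Agent.Lib.Helper17.FourLemma.mono_homologyMap_hom₁
            (Groth.Agent.S11149.triHom η hS.singleTriangle)
            (F.map_distinguished _ hT) (G.map_distinguished _ hT) j e2 m3 m2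
        intro X
        obtain ⟨Y, i, hPY, hi⟩ := hP X
        have hS : (ShortComplex.mk i (cokernel.π i) (cokernel.condition i)).ShortExact :=
          ShortComplex.ShortExact.mk' (ShortComplex.exact_cokernel i) hi inferInstance
        have hT := hS.singleTriangle_distinguished
        haveI hY : IsIso (η.app hS.singleTriangle.obj₂) := hη Y hPY
        haveI hQ : IsIso ((DerivedCategory.homologyFunctor B (j - 1)).map
            (η.app hS.singleTriangle.obj₃)) := ih' (cokernel i)
        haveI := hmono X
        haveI hQ' : Mono ((DerivedCategory.homologyFunctor B j).map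
            (η.app hS.singleTriangle.obj₃)) := hmono (cokernel i)
        haveI : Epi ((DerivedCategory.homologyFunctor B j).map
            (η.app ((DerivedCategory.singleFunctor A 0).obj X))) :=
          Groth.Agent.Lib.Helper17.FourLemma.epi_homologyMap_hom₁
            (Groth.Agent.S11149.triHom η hS.singleTriangle)
            (F.map_distinguished _ hT) (G.map_distinguished _ hT) j
            (inferInstance : Epi ((DerivedCategory.homologyFunctor B (j - 1)).map
              (η.app hS.singleTriangle.obj₃)))
            (inferInstance : Epi ((DerivedCategory.homologyFunctor B j).map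
              (η.app hS.singleTriangle.obj₂)))
            hQ'
        exact isIso_of_mono_of_epi _
  rw [DerivedCategory.isIso_iff]
  intro j
  exact key (j - min NF NG + 1).toNat j (by omega) X

end Groth.Agent.S11152
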