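import Groth.Statements.S11153
import Groth.Agent.Lib.Helper2.InjAmp
-- import your own Groth.Agent.* helpers here

set_option autoImplicit false
universe w v u
open CategoryTheory CategoryTheory.Limits
open CohDer

namespace Groth.Agent.S11153

open Groth.Agent.Lib.Helper2.InjAmp

/-- (i) ⇔ (iii): let A be an abelian category with enough injectives and K a bounded below cochain
complex of objects of A. Then K admits a quasi-isomorphism into a bounded complex of injective
objects of A if and only if there is an integer n₀ such that Hom_{D(A)}(Y[0], K[i]) = 0 for every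
object Y of A and every i > n₀. -/
theorem result {A : Type u} [Category.{v} A] [Abelian A]
    [HasDerivedCategory.{w} A] [EnoughInjectives A]
    (K : CochainComplex A ℤ) (a : ℤ) [K.IsStrictlyGE a] :
    (∃ (I : CochainComplex A ℤ) (b c : ℤ) (f : K ⟶ I), I.IsStrictlyGE b ∧ I.IsStrictlyLE c ∧
        (∀ n : ℤ, Injective (I.X n)) ∧ QuasiIso f) ↔
      ∃ n₀ : ℤ, ∀ (Y : A) (i : ℤ), n₀ < i →
        ∀ φ : (DerivedCategory.singleFunctor A 0).obj Y ⟶ (DerivedCategory.Q.obj K)⟦i⟧, φ = 0 := by
  constructor
  · rintro ⟨I, b, c, f, hb, hc, hinj, hf⟩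
    refine ⟨c, fun Y i hi φ => ?_⟩
    haveI : I.IsKInjective := CochainComplex.isKInjective_of_injective I b
    have h1 : VanishAt (DerivedCategory.Q.obj I) i :=
      vanishAt_of_isZero (I.isZero_of_isStrictlyLE c i hi)
    exact (vanishAt_iff _ i).1 (h1.of_iso (asIso (DerivedCategory.Q.map f)).symm) Y φ
  · rintro ⟨n₀, h⟩
    obtain ⟨L, i, hi, hL, hLa⟩ :=
      CochainComplex.Plus.modelCategoryQuillen.exists_quasiIso_injective K a
    haveI : L.IsKInjective := CochainComplex.isKInjective_of_injective L a
    have hvL : ∀ j : ℤ, n₀ < j → VanishAt (DerivedCategory.Q.obj L) j := fun j hj =>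
      ((vanishAt_iff _ j).2 (fun F φ => h F j hj φ)).of_iso (asIso (DerivedCategory.Q.map i))
    haveI := hL n₀
    have hZ : Injective (L.cycles n₀) := injective_cycles (hvL (n₀ + 1) (by omega))
    obtain ⟨h1, h2, h3, h4⟩ := truncLE_properties L a n₀ hL hZ
      (fun j hj => isZero_homology_of_vanishAt (hvL j hj))
    haveI := h1
    haveI : (L.truncLE n₀).IsKInjective := CochainComplex.isKInjective_of_injective _ a
    obtain ⟨f, hf⟩ := Groth.Agent.Lib.Helper2.KInjQ.Q_map_surjective_of_isKInjective K (L.truncLE n₀)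
      (DerivedCategory.Q.map i ≫ inv (DerivedCategory.Q.map (L.ιTruncLE n₀)))
    refine ⟨L.truncLE n₀, a, n₀, f, h4, h3, h1, ?_⟩
    rw [← DerivedCategory.isIso_Q_map_iff_quasiIso, hf]
    infer_instance

end Groth.Agent.S11153
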