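import Groth.Statements.S11154
import Groth.Agent.Lib.Lead.SkyHull

set_option autoImplicit false
universe u
open CategoryTheory CategoryTheory.Limits AlgebraicGeometry
open Coherent

namespace Groth.Agent.S11154

/-- Let X be a locally Noetherian scheme, x a point of X, and k(x) → E an injective hull of the residue
field over the local ring O_{X,x}. Then the direct image along Spec O_{X,x} ⟶ X of the sheaf E~ on
Spec O_{X,x} is an injective O_X-module (an injective object of the category of O_X-modules), and it
is quasi-coherent. -/
theorem result {X : Scheme.{u}} [IsLocallyNoetherian X]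
    (x : X) (E : Type u) [AddCommGroup E] [Module (X.presheaf.stalk x) E]
    (i : IsLocalRing.ResidueField (X.presheaf.stalk x) →ₗ[X.presheaf.stalk x] E)
    (hi : InjHull.IsInjectiveHull i) :
    Injective ((Scheme.Modules.pushforward (X.fromSpecStalk x)).obj
        (tilde (ModuleCat.of (X.presheaf.stalk x) E))) ∧
      Coh.IsQCoh ((Scheme.Modules.pushforward (X.fromSpecStalk x)).obj
        (tilde (ModuleCat.of (X.presheaf.stalk x) E))) := by
  refine ⟨?_, ?_⟩
  · exact Groth.Agent.Lib.Lead.SkyHull.injective_hullMod x E hi.isInjective
      (Groth.Agent.Lib.Helper4.Matlis.isPowerTorsion_of_isEssentialInj hi.toIsEssentialInj)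
  · exact Groth.Agent.Lib.Helper3.QCSec.isQuasicoherent_pushforward (X.fromSpecStalk x) _

end Groth.Agent.S11154
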