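import Groth.Statements.S11159
import Mathlib

set_option autoImplicit false
universe w v u
open CategoryTheory CategoryTheory.Limits CategoryTheory.Pretriangulated
open CohDer

namespace Groth.Agent.S11159

open DerivedCategory in
/-- Morphisms in `D(C)` into a K-injective complex are represented by chain maps. -/
theorem exists_Q_map_eq {C : Type u} [Category.{v} C] [Abelian C] [HasDerivedCategory.{w} C]
    (K L : CochainComplex C ℤ) [L.IsKInjective] (f : Q.obj K ⟶ Q.obj L) :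
    ∃ g : K ⟶ L, Q.map g = f := by
  obtain ⟨h, hh⟩ := (CochainComplex.IsKInjective.Qh_map_bijective
    ((HomotopyCategory.quotient _ _).obj K) L).2
    ((quotientCompQhIso C).hom.app K ≫ f ≫ (quotientCompQhIso C).inv.app L)
  obtain ⟨g, rfl⟩ := (HomotopyCategory.quotient _ _).map_surjective h
  refine ⟨g, ?_⟩
  have hnat := (quotientCompQhIso C).hom.naturality g
  rw [← cancel_epi ((quotientCompQhIso C).hom.app K), ← hnat]
  show Qh.map ((HomotopyCategory.quotient _ _).map g) ≫ _ = _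
  rw [hh]
  simp

open CochainComplex in
/-- The terms of the mapping cone of a morphism between complexes of injectives are injective. -/
theorem injective_mappingCone_X {C : Type u} [Category.{v} C] [Abelian C]
    {K L : CochainComplex C ℤ} (g : K ⟶ L) (hK : ∀ n, Injective (K.X n))
    (hL : ∀ n, Injective (L.X n)) (n : ℤ) : Injective ((mappingCone g).X n) := by
  haveI := hK (n + 1)
  haveI := hL n
  exact Injective.of_iso (HomologicalComplex.homotopyCofiber.XIsoBiprod g n (n + 1) rfl).symm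
    inferInstance

/-- Let A be an abelian category with enough injectives and X ⟶ Y ⟶ Z ⟶ X⟦1⟧ a distinguished triangle in
D(A). If X and Z are each isomorphic in D(A) to a bounded complex of injective objects of A, then so
is Y. -/
theorem result {A : Type u} [Category.{v} A] [Abelian A]
    [HasDerivedCategory.{w} A] [EnoughInjectives A]
    (T : Triangle (DerivedCategory A)) (hT : T ∈ distTriang (DerivedCategory A))
    (h₁ : (∃ (I : CochainComplex A ℤ) (b c : ℤ), I.IsStrictlyGE b ∧ I.IsStrictlyLE c ∧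
        (∀ n : ℤ, Injective (I.X n)) ∧ Nonempty (T.obj₁ ≅ DerivedCategory.Q.obj I)))
    (h₃ : (∃ (I : CochainComplex A ℤ) (b c : ℤ), I.IsStrictlyGE b ∧ I.IsStrictlyLE c ∧
        (∀ n : ℤ, Injective (I.X n)) ∧ Nonempty (T.obj₃ ≅ DerivedCategory.Q.obj I))) :
    (∃ (I : CochainComplex A ℤ) (b c : ℤ), I.IsStrictlyGE b ∧ I.IsStrictlyLE c ∧
        (∀ n : ℤ, Injective (I.X n)) ∧ Nonempty (T.obj₂ ≅ DerivedCategory.Q.obj I)) := by
  obtain ⟨I₁, b₁, c₁, hb₁, hc₁, hI₁, ⟨e₁⟩⟩ := h₁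
  obtain ⟨I₃, b₃, c₃, hb₃, hc₃, hI₃, ⟨e₃⟩⟩ := h₃
  -- the shifted complex `L = I₁⟦1⟧`
  have hLinj : ∀ n : ℤ, Injective ((I₁⟦(1 : ℤ)⟧).X n) := fun n => hI₁ (n + 1)
  haveI hLge : (I₁⟦(1 : ℤ)⟧).IsStrictlyGE (b₁ - 1) := I₁.isStrictlyGE_shift b₁ 1 (b₁ - 1) (by omega)
  haveI hLle : (I₁⟦(1 : ℤ)⟧).IsStrictlyLE (c₁ - 1) := I₁.isStrictlyLE_shift c₁ 1 (c₁ - 1) (by omega)
  haveI : (I₁⟦(1 : ℤ)⟧).IsKInjective :=
    CochainComplex.isKInjective_of_injective _ (b₁ - 1)
  -- the comparison isomorphism on third vertices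
  let c : (T.obj₁)⟦(1 : ℤ)⟧ ≅ DerivedCategory.Q.obj (I₁⟦(1 : ℤ)⟧) :=
    (shiftFunctor (DerivedCategory A) (1 : ℤ)).mapIso e₁ ≪≫
      ((DerivedCategory.Q.commShiftIso (1 : ℤ)).app I₁).symm
  obtain ⟨g, hg⟩ := exists_Q_map_eq I₃ (I₁⟦(1 : ℤ)⟧) (e₃.inv ≫ T.mor₃ ≫ c.hom)
  have hTri := DerivedCategory.mappingCocone_triangle_distinguished g
  have hrot := rot_of_distTriang _ hT
  have comm : T.rotate.mor₂ ≫ c.hom =
      e₃.hom ≫ (DerivedCategory.Q.mapTriangle.obj (CochainComplex.mappingCocone.triangle g)).mor₂ := by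
    show T.mor₃ ≫ c.hom = e₃.hom ≫ DerivedCategory.Q.map g
    rw [hg, Iso.hom_inv_id_assoc]
  obtain ⟨a, ha₁, ha₂⟩ := complete_distinguished_triangle_morphism₁ _ _ hrot hTri e₃.hom c.hom comm
  let φ : T.rotate ⟶ DerivedCategory.Q.mapTriangle.obj (CochainComplex.mappingCocone.triangle g) :=
    { hom₁ := a
      hom₂ := e₃.hom
      hom₃ := c.hom
      comm₁ := ha₁
      comm₂ := comm
      comm₃ := ha₂ }
  have hiso : IsIso φ.hom₁ := isIso₁_of_isIso₂₃ φ hrot hTri
    (by show IsIso e₃.hom; infer_instance) (by show IsIso c.hom; infer_instance)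
  have hiso' : IsIso a := hiso
  -- bounds and injectivity for the mapping cocone
  haveI hconeGE : (CochainComplex.mappingCone g).IsStrictlyGE (min (b₃ - 1) (b₁ - 1)) :=
    CochainComplex.isStrictlyGE_mappingCone g b₃ (b₁ - 1) _
      (by have := min_le_left (b₃ - 1) (b₁ - 1); omega) (min_le_right _ _)
  haveI hconeLE : (CochainComplex.mappingCone g).IsStrictlyLE (max (c₃ - 1) (c₁ - 1)) := by
    rw [CochainComplex.isStrictlyLE_iff]
    intro i hi
    rw [CochainComplex.mappingCone.isZero_X_iff]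
    have h1 := le_max_left (c₃ - 1) (c₁ - 1)
    have h2 := le_max_right (c₃ - 1) (c₁ - 1)
    exact ⟨I₃.isZero_of_isStrictlyLE c₃ _ (by omega),
      (I₁⟦(1 : ℤ)⟧).isZero_of_isStrictlyLE (c₁ - 1) _ (by omega)⟩
  refine ⟨CochainComplex.mappingCocone g, min (b₃ - 1) (b₁ - 1) + 1, max (c₃ - 1) (c₁ - 1) + 1,
    ?_, ?_, ?_, ⟨@asIso _ _ _ _ a hiso'⟩⟩
  · exact (CochainComplex.mappingCone g).isStrictlyGE_shift (min (b₃ - 1) (b₁ - 1)) (-1)
      (min (b₃ - 1) (b₁ - 1) + 1) (by omega)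
  · exact (CochainComplex.mappingCone g).isStrictlyLE_shift (max (c₃ - 1) (c₁ - 1)) (-1)
      (max (c₃ - 1) (c₁ - 1) + 1) (by omega)
  · intro n
    exact injective_mappingCone_X g hI₃ hLinj (n + -1)

end Groth.Agent.S11159
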