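import Groth.Statements.S11160
import Groth.Agent.Lib.Helper2.KInjQ
-- import your own Groth.Agent.* helpers here

set_option autoImplicit false
universe w w' v v' u u'
open CategoryTheory CategoryTheory.Limits
open CohDer

namespace Groth.Agent.S11160

/-- Let ι : A' ⥤ A be an exact fully faithful functor of abelian categories whose essential image is
closed under extensions (a thick abelian subcategory), and suppose every object of A' admits a
monomorphism into an object of A' whose image in A is injective (A' has enough A-injectives). Then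
the induced triangulated functor D(A') ⥤ D(A) is fully faithful on cohomologically bounded below
objects. -/
theorem result {A' : Type u'} [Category.{v'} A'] [Abelian A'] [HasDerivedCategory.{w'} A']
    {A : Type u} [Category.{v} A] [Abelian A] [HasDerivedCategory.{w} A]
    (ι : A' ⥤ A) [ι.Additive] [PreservesFiniteLimits ι] [PreservesFiniteColimits ι] [ι.Full] [ι.Faithful]
    (hext : ∀ S : ShortComplex A, S.ShortExact → ι.essImage S.X₁ → ι.essImage S.X₃ → ι.essImage S.X₂)
    (hinj : ∀ X' : A', ∃ (Y' : A') (i : X' ⟶ Y'), Mono i ∧ Injective (ι.obj Y'))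
    (X Y : DerivedCategory A') (a b : ℤ) [X.IsGE a] [Y.IsGE b] :
    Function.Bijective (fun f : X ⟶ Y => ι.mapDerivedCategory.map f) := by
  haveI : EnoughInjectives A' := Groth.Agent.Lib.Helper2.KInjQ.enoughInjectives ι hinj
  obtain ⟨L, hL, ⟨eY⟩⟩ := DerivedCategory.exists_iso_Q_obj_of_isGE Y b
  haveI := hL
  obtain ⟨I, i, hi, hI, hIb⟩ :=
    CochainComplex.Plus.modelCategoryQuillen.exists_quasiIso_injective L b
  haveI := hi
  haveI := hI
  haveI := hIb
  haveI : I.IsKInjective := CochainComplex.isKInjective_of_injective I b
  haveI : ∀ n, Injective (((ι.mapHomologicalComplex (ComplexShape.up ℤ)).obj I).X n) :=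
    fun n => Groth.Agent.Lib.Helper2.KInjQ.injective_map ι hinj (I.X n)
  haveI : CochainComplex.IsStrictlyGE ((ι.mapHomologicalComplex (ComplexShape.up ℤ)).obj I) b :=
    (CochainComplex.isStrictlyGE_mapHomologicalComplex_obj_iff I ι b).2 hIb
  haveI : CochainComplex.IsKInjective ((ι.mapHomologicalComplex (ComplexShape.up ℤ)).obj I) :=
    CochainComplex.isKInjective_of_injective _ b
  exact Groth.Agent.Lib.Helper2.KInjQ.bijective_map_of_iso ι.mapDerivedCategory
    (DerivedCategory.Q.objObjPreimageIso X).symm (eY ≪≫ asIso (DerivedCategory.Q.map i))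
    (Groth.Agent.Lib.Helper2.KInjQ.map_bijective_Q ι (DerivedCategory.Q.objPreimage X) I)

end Groth.Agent.S11160
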