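import Groth.Statements.S11165
import Groth.Agent.S4456
import Groth.Agent.Lib.Helper2.RpushCompare

set_option autoImplicit false
universe u
open CategoryTheory CategoryTheory.Limits AlgebraicGeometry
open Coherent

namespace Groth.Agent.S11165

/-- Let f : X ⟶ Y be a separated morphism of schemes, U an open of X on which f restricts to an affine
morphism, i : U ⟶ X the inclusion and F a quasi-coherent O_X-module. Then i_*(F|_U) is acyclic for
f_*: its higher direct images R^j f_* vanish for j > 0. (The binder asserting injective resolutions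
of O_X-modules always holds.) -/
theorem result {X Y : Scheme.{u}} (f : X ⟶ Y) [IsSeparated f]
    (U : X.Opens) [IsAffineHom (U.ι ≫ f)] (F : X.Modules) (hF : Coh.IsQCoh F)
    [HasInjectiveResolutions X.Modules] (j : ℕ) (hj : 0 < j) :
    IsZero ((Coh.Rpush f j).obj ((Scheme.Modules.pushforward U.ι).obj ((Scheme.Modules.restrictFunctor U.ι).obj F))) := by
  rw [Groth.Agent.Lib.Helper2.RpushCompare.isZero_Rpush_iff]
  haveI : IsAffineHom U.ι := IsAffineHom.of_comp U.ι f
  haveI : Coh.IsQCoh F := hF
  haveI : Coh.IsQCoh ((Scheme.Modules.restrictFunctor U.ι).obj F) :=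
    Scheme.Modules.isQuasicoherent_restrictFunctor U.ι F
  obtain ⟨e⟩ := Groth.Agent.S4456.result U.ι f ((Scheme.Modules.restrictFunctor U.ι).obj F) j
  refine IsZero.of_iso ?_ e
  obtain ⟨q, rfl⟩ : ∃ q, j = q + 1 := ⟨j - 1, by omega⟩
  exact Groth.Agent.Lib.Helper13.LocallyZero.isZero_Rpush_of_basis (U.ι ≫ f).base
    (Coh.toAb ((Scheme.Modules.restrictFunctor U.ι).obj F)) (q + 1)
    Y.affineOpens Y.isBasis_affineOpens
    (fun V hV => Groth.Agent.Lib.Helper13.AffineVanish.subsingleton_HU_of_isAffineOpen
      ((Scheme.Modules.restrictFunctor U.ι).obj F)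
      (AlgebraicGeometry.IsAffineOpen.preimage hV (U.ι ≫ f)) q)

end Groth.Agent.S11165
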