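import Groth.Statements.S11174
import Mathlib
import Groth.Agent.Lib.Helper4.Matlis
import Groth.Agent.Lib.Helper1.Matlis
import Groth.Agent.Lib.Helper1.MatlisEnd
import Groth.Agent.Lib.Helper1.InjHullLib
import Groth.Agent.Lib.Helper1.InjHullLib2

set_option autoImplicit false
universe u
open CategoryTheory
open InjHull

namespace Groth.Agent.S11174

open IsLocalRing

theorem surj_of_inj_of_length {R : Type*} [Ring R] {M N : Type*} [AddCommGroup M] [Module R M]
    [AddCommGroup N] [Module R N] (T : M →ₗ[R] N) (hT : Function.Injective T)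
    (hlen : Module.length R N = Module.length R M) (hfin : Module.length R M ≠ ⊤) :
    Function.Surjective T := by
  have h1 := Module.length_eq_add_of_exact T (LinearMap.range T).mkQ hT
    (Submodule.mkQ_surjective _) (LinearMap.exact_map_mkQ_range T)
  rw [hlen] at h1
  have h2 : (0 : ℕ∞) = Module.length R (N ⧸ LinearMap.range T) := by
    apply ENat.add_right_injective_of_ne_top hfin
    show Module.length R M + 0 = Module.length R M + _
    rw [add_zero]; exact h1
  have h3 : Subsingleton (N ⧸ LinearMap.range T) := Module.length_eq_zero_iff.1 h2.symm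
  have h4 : LinearMap.range T = ⊤ := Submodule.Quotient.subsingleton_iff.1 h3
  exact LinearMap.range_eq_top.1 h4


/-- Fix a Noetherian local ring A, write m for its maximal ideal and k for its residue field, and let I
be an A-module such that (a) every element of I is killed by some power of m, (b) the A-module
Hom_A(k, I) is isomorphic to k, and (c) there is a decreasing sequence of ideals a_1 ⊇ a_2 ⊇ … of A,
cofinal with the powers of m in both directions (each a_n contains a power of m and each power of m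
contains some a_n), with length_A(A/a_n) = length_A(Hom_A(A/a_n, I)) for every n. Then I is an
injective hull of k: some A-linear map k → I is an essential injection into an injective module. -/
theorem result (A : Type u) [CommRing A] [IsLocalRing A] [IsNoetherianRing A] (I : Type u) [AddCommGroup I] [Module A I] (ha : LocCoh.IsPowerTorsion (IsLocalRing.maximalIdeal A) I) (hb : Nonempty ((IsLocalRing.ResidueField A →ₗ[A] I) ≃ₗ[A] IsLocalRing.ResidueField A)) (a : ℕ → Ideal A) (hanti : Antitone a) (hcof : ∀ n : ℕ, ∃ N : ℕ, IsLocalRing.maximalIdeal A ^ N ≤ a n) (hcof' : ∀ N : ℕ, ∃ n : ℕ, a n ≤ IsLocalRing.maximalIdeal A ^ N) (hlen : ∀ n : ℕ, Module.length A (A ⧸ a n) = Module.length A ((A ⧸ a n) →ₗ[A] I)) : ∃ f : IsLocalRing.ResidueField A →ₗ[A] I, InjHull.IsInjectiveHull f := by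
  classical
  obtain ⟨e⟩ := hb
  have hs : IsSimpleModule A (ResidueField A →ₗ[A] I) := by
    haveI := Groth.Agent.Lib.Helper1.Matlis.isSimpleModule_residueField (R := A)
    exact IsSimpleModule.congr e
  obtain ⟨f₀, hf₀⟩ : ∃ f₀ : ResidueField A →ₗ[A] I, f₀ ≠ 0 :=
    ⟨e.symm 1, fun h => one_ne_zero (e.symm.injective (h.trans (map_zero e.symm).symm))⟩
  have hess₀ : InjHull.IsEssentialInj f₀ :=
    Groth.Agent.Lib.Helper4.Matlis.isEssentialInj_of_simple ha hs f₀ hf₀
  obtain ⟨E, _, _, j, hj⟩ := Groth.Agent.Lib.Helper1.InjHullLib.exists_injective_hull A I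
  have hg : InjHull.IsInjectiveHull (j ∘ₗ f₀) := by
    refine ⟨(Groth.Agent.Lib.Helper1.InjHullLib.isEssentialInj_iff _).2 ⟨?_, ?_⟩, hj.isInjective⟩
    · rw [LinearMap.coe_comp]
      exact hj.injective.comp hess₀.injective
    · intro x hx
      obtain ⟨r, hr0, ⟨y, hy⟩⟩ :=
        ((Groth.Agent.Lib.Helper1.InjHullLib.isEssentialInj_iff j).1 hj.toIsEssentialInj).2 x hx
      have hy0 : y ≠ 0 := by
        rintro rfl
        rw [map_zero] at hy
        exact hr0 hy.symm
      obtain ⟨s, hs0, ⟨c, hc⟩⟩ :=
        ((Groth.Agent.Lib.Helper1.InjHullLib.isEssentialInj_iff f₀).1 hess₀).2 y hy0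
      refine ⟨s * r, ?_, ⟨c, ?_⟩⟩
      · rw [mul_smul, ← hy, ← map_smul]
        intro h0
        exact hs0 (hj.injective (h0.trans (map_zero j).symm))
      · rw [LinearMap.comp_apply, hc, map_smul, hy, mul_smul]
  have hEpt : LocCoh.IsPowerTorsion (maximalIdeal A) E :=
    Groth.Agent.Lib.Helper4.Matlis.isPowerTorsion_of_isEssentialInj hg.toIsEssentialInj
  have hsurj : Function.Surjective j := by
    intro x
    obtain ⟨N, hN⟩ := hEpt x
    obtain ⟨n, hn⟩ := hcof' N
    obtain ⟨N', hN'⟩ := hcof n
    have hfl : IsFiniteLength A (A ⧸ a n) :=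
      (Groth.Agent.Lib.Helper1.Matlis.isFiniteLength_quotient_pow (R := A) N').of_surjective
        (f := Submodule.factor hN') (Submodule.factor_surjective hN')
    have hlenE : Module.length A ((A ⧸ a n) →ₗ[A] E) = Module.length A (A ⧸ a n) :=
      Groth.Agent.Lib.Helper1.Matlis.length_hom_eq_of_isFiniteLength (j ∘ₗ f₀) hg _ hfl
    obtain ⟨J, hJ⟩ : ∃ J : ((A ⧸ a n) →ₗ[A] I) →ₗ[A] ((A ⧸ a n) →ₗ[A] E),
        ∀ φ x, J φ x = j (φ x) :=
      ⟨LinearMap.llcomp A (A ⧸ a n) I E j, fun φ x => rfl⟩
    have hJinj : Function.Injective J := by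
      intro φ φ' h
      refine LinearMap.ext fun x => hj.injective ?_
      rw [← hJ, ← hJ, h]
    have hfin : Module.length A ((A ⧸ a n) →ₗ[A] I) ≠ ⊤ := by
      rw [← hlen n]; exact Module.length_ne_top_iff.2 hfl
    have hJsurj : Function.Surjective J :=
      surj_of_inj_of_length J hJinj (hlenE.trans (hlen n)) hfin
    have hle : a n ≤ LinearMap.ker (LinearMap.toSpanSingleton A E x) := by
      intro r hr
      rw [LinearMap.mem_ker, LinearMap.toSpanSingleton_apply]
      exact hN r (hn hr)
    obtain ⟨ψ', hψ'⟩ := hJsurj ((a n).liftQ (LinearMap.toSpanSingleton A E x) hle)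
    refine ⟨ψ' (Submodule.Quotient.mk 1), ?_⟩
    rw [← hJ, hψ', Submodule.liftQ_apply, LinearMap.toSpanSingleton_apply, one_smul]
  haveI := hj.isInjective
  have hIinj : Module.Injective A I :=
    Groth.Agent.Lib.Helper1.InjHullLib.injective_of_linearEquiv
      (LinearEquiv.ofBijective j ⟨hj.injective, hsurj⟩).symm
  exact ⟨f₀, ⟨hess₀, hIinj⟩⟩

end Groth.Agent.S11174
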