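import Groth.Statements.S11175
import Groth.Agent.Lib.Helper4.GorLC
import Groth.Agent.S0340

set_option autoImplicit false
universe u
open CategoryTheory
open Goren

namespace Groth.Agent.S11175

/-- A Noetherian local ring A with maximal ideal m is Gorenstein (A has finite injective dimension as a
module over itself) if and only if there is a natural number d such that the local cohomology
modules H^i_m(A) (direct limits of Ext^i(A/m^n, A)) vanish for all i ≠ d and H^d_m(A) is an
injective A-module. -/
theorem result (A : Type u) [CommRing A] [IsLocalRing A] [IsNoetherianRing A] : LocCoh.IsGorensteinLocalRing A ↔ ∃ d : ℕ, (∀ i : ℕ, i ≠ d → Subsingleton (LocCoh.H (IsLocalRing.maximalIdeal A) i A)) ∧ Module.Injective A (LocCoh.H (IsLocalRing.maximalIdeal A) d A) := by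
  open Groth.Agent.Lib.Helper4 Groth.Agent.Lib.Helper4.LC in
  constructor
  · intro hG
    haveI := hG
    obtain ⟨n, hn0⟩ := exists_nat_supportDim (R := A) (M := A)
    have hn : ringKrullDim A = n := by
      rw [← Module.supportDim_self_eq_ringKrullDim]
      exact_mod_cast hn0
    refine ⟨n, fun i hi => ?_, ?_⟩
    · rw [subsingleton_H_iff]
      rcases lt_or_gt_of_ne hi with h | h
      · exact gor_HH_self_subsingleton_of_lt A n hn i h
      · exact HH.subsingleton_of_ringKrullDim_lt (IsLocalRing.maximalIdeal A) (ModuleCat.of A A) i
          (by rw [hn]; exact_mod_cast h)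
    · haveI := gor_injective_HH_top A n hn
      exact Groth.Agent.Lib.Helper1.InjHullLib.injective_of_linearEquiv
        (lcEquiv (IsLocalRing.maximalIdeal A) (ModuleCat.of A A) n).symm
  · rintro ⟨d, hv, hinj⟩
    rw [Groth.Agent.S0340.result A]
    refine ⟨d + 1, fun i hi => ?_⟩
    haveI hinj' : Module.Injective A (HH (IsLocalRing.maximalIdeal A) (ModuleCat.of A A) d) :=
      Groth.Agent.Lib.Helper1.InjHullLib.injective_of_linearEquiv
        (lcEquiv (IsLocalRing.maximalIdeal A) (ModuleCat.of A A) d)
    exact ext_subsingleton_of_HH_single (IsLocalRing.maximalIdeal A)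
      (A ⧸ IsLocalRing.maximalIdeal A) (isPowerTorsion_quotient_self _) d A
      (fun q hq => (subsingleton_H_iff _ A q).1 (hv q hq)) hinj' i (by omega)

end Groth.Agent.S11175
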