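import Groth.Statements.S11180
import Mathlib
import Groth.Agent.S0543

set_option autoImplicit false
universe u
open scoped TensorProduct
open CAlg

namespace Groth.Agent.S11180

open IsLocalRing TensorProduct

/-- completion of the localization at a prime -/
abbrev Bp {A : Type u} [CommRing A] (𝔭 : Ideal A) [𝔭.IsPrime] : Type u :=
  AdicCompletion (maximalIdeal (Localization.AtPrime 𝔭)) (Localization.AtPrime 𝔭)

/-- Let A be a Noetherian ring and M an A-module. If an element m of M is such that 1 ⊗ m = 0 in B ⊗_A M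
for every A-algebra B which is a complete Noetherian local ring, flat over A, then m = 0.
(Equivalently the natural map from M to the limit of the modules B ⊗_A M over all such B is
injective.) -/
theorem result (A : Type u) [CommRing A] [IsNoetherianRing A] (M : Type u) [AddCommGroup M] [Module A M] (m : M) (h : ∀ (B : Type u) [CommRing B] [Algebra A B] [IsNoetherianRing B] [IsLocalRing B], IsAdicComplete (IsLocalRing.maximalIdeal B) B → Module.Flat A B → (1 : B) ⊗ₜ[A] m = 0) : m = 0 := by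
  by_contra hm
  let φ : A →ₗ[A] M := LinearMap.toSpanSingleton A M m
  have hφ1 : φ 1 = m := by simp [φ, LinearMap.toSpanSingleton_apply]
  let 𝔞 : Ideal A := LinearMap.ker φ
  have h𝔞 : 𝔞 ≠ ⊤ := by
    intro htop
    apply hm
    have h1 : (1 : A) ∈ 𝔞 := by rw [htop]; exact Submodule.mem_top
    have h2 : φ 1 = 0 := h1
    rw [← hφ1, h2]
  obtain ⟨𝔭, h𝔭max, h𝔞𝔭⟩ := Ideal.exists_le_maximal 𝔞 h𝔞
  haveI := h𝔭max.isPrime
  haveI : IsNoetherianRing (Localization.AtPrime 𝔭) :=
    IsLocalization.isNoetherianRing 𝔭.primeCompl _ inferInstance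
  haveI : IsNoetherianRing (Bp 𝔭) := Groth.Agent.S0543.result _ _
  haveI : Module.Flat A (Localization.AtPrime 𝔭) := IsLocalization.flat _ 𝔭.primeCompl
  have hflat : Module.Flat A (Bp 𝔭) := Module.Flat.trans A (Localization.AtPrime 𝔭) _
  have h0 : (1 : Bp 𝔭) ⊗ₜ[A] m = 0 := h (Bp 𝔭) inferInstance hflat
  let ι : A ⧸ 𝔞 →ₗ[A] M := Submodule.liftQ 𝔞 φ le_rfl
  have hι : Function.Injective ι := by
    rw [← LinearMap.ker_eq_bot]
    exact Submodule.ker_liftQ_eq_bot 𝔞 φ le_rfl le_rfl
  have hinj : Function.Injective (ι.lTensor (Bp 𝔭)) :=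
    Module.Flat.lTensor_preserves_injective_linearMap ι hι
  have h1 : (1 : Bp 𝔭) ⊗ₜ[A] (Ideal.Quotient.mk 𝔞 1) = 0 := by
    apply hinj
    rw [LinearMap.lTensor_tmul, map_zero]
    have h2 : ι (Ideal.Quotient.mk 𝔞 1) = m := hφ1
    rw [h2]; exact h0
  have h2 := congrArg (TensorProduct.tensorQuotEquivQuotSMul (Bp 𝔭) 𝔞) h1
  rw [TensorProduct.tensorQuotEquivQuotSMul_tmul_mk, map_zero, one_smul,
    Submodule.Quotient.mk_eq_zero] at h2
  have hle : (𝔞 • (⊤ : Submodule A (Bp 𝔭))) ≤ (maximalIdeal (Bp 𝔭)).restrictScalars A := by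
    rw [Submodule.smul_le]
    intro r hr b _
    rw [Submodule.restrictScalars_mem, Algebra.smul_def]
    refine Ideal.mul_mem_right _ _ ?_
    rw [IsScalarTower.algebraMap_apply A (Localization.AtPrime 𝔭) (Bp 𝔭)]
    have h3 : algebraMap A (Localization.AtPrime 𝔭) r ∈ maximalIdeal (Localization.AtPrime 𝔭) :=
      (IsLocalization.AtPrime.to_map_mem_maximal_iff (Localization.AtPrime 𝔭) 𝔭 r).2 (h𝔞𝔭 hr)
    rw [mem_maximalIdeal, mem_nonunits_iff] at h3 ⊢
    exact fun hu => h3 (IsLocalHom.map_nonunit _ hu)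
  have h4 := hle h2
  rw [Submodule.restrictScalars_mem, mem_maximalIdeal, mem_nonunits_iff] at h4
  exact h4 isUnit_one

end Groth.Agent.S11180
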