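import Groth.Statements.S5156
import Mathlib
import Groth.Agent.Lib.Helper4.Matlis
import Groth.Agent.Lib.Helper1.Matlis

set_option autoImplicit false
universe u
open Matlis

namespace Groth.Agent.S5156

open IsLocalRing CategoryTheory

section generic

theorem surj_of_inj_of_length {R : Type*} [Ring R] {M N : Type*} [AddCommGroup M] [Module R M]
    [AddCommGroup N] [Module R N] (T : M →ₗ[R] N) (hT : Function.Injective T)
    (hlen : Module.length R N = Module.length R M) (hfin : Module.length R M ≠ ⊤) :
    Function.Surjective T := by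
  have h1 := Module.length_eq_add_of_exact T (LinearMap.range T).mkQ hT
    (Submodule.mkQ_surjective _) (LinearMap.exact_map_mkQ_range T)
  rw [hlen] at h1
  have h2 : (0 : ℕ∞) = Module.length R (N ⧸ LinearMap.range T) := by
    apply ENat.add_right_injective_of_ne_top hfin
    show Module.length R M + 0 = Module.length R M + _
    rw [add_zero]; exact h1
  have h3 : Subsingleton (N ⧸ LinearMap.range T) := Module.length_eq_zero_iff.1 h2.symm
  have h4 : LinearMap.range T = ⊤ := Submodule.Quotient.subsingleton_iff.1 h3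
  exact LinearMap.range_eq_top.1 h4

theorem finLen_of_torsion {A : Type*} [CommRing A] [IsLocalRing A] [IsNoetherianRing A]
    (X : Type*) [AddCommGroup X] [Module A X] [Module.Finite A X]
    (h : ∀ a ∈ maximalIdeal A, ∀ x : X, a • x = 0) : IsFiniteLength A X := by
  rw [isFiniteLength_iff_isNoetherian_isArtinian]
  refine ⟨inferInstance, ?_⟩
  have ht : Module.IsTorsionBySet A X (maximalIdeal A : Set A) := fun x a => h a.1 a.2 x
  letI := ht.module
  haveI : IsScalarTower A (A ⧸ maximalIdeal A) X := ht.isScalarTower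
  haveI : IsArtinianRing (A ⧸ maximalIdeal A) := by
    change IsArtinianRing (ResidueField A)
    infer_instance
  haveI : Module.Finite (A ⧸ maximalIdeal A) X := Module.Finite.of_restrictScalars_finite A _ _
  haveI : IsArtinian (A ⧸ maximalIdeal A) X := inferInstance
  exact isArtinian_of_surjective_algebraMap (R := A ⧸ maximalIdeal A) (S := A)
    Ideal.Quotient.mk_surjective

theorem pt_fg {R : Type*} [CommRing R] (I : Ideal R) {M : Type*} [AddCommGroup M] [Module R M]
    (hM : LocCoh.IsPowerTorsion I M) (N : Submodule R M) (hN : N.FG) :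
    ∃ n : ℕ, ∀ a ∈ I ^ n, ∀ x ∈ N, a • x = 0 := by
  refine Submodule.fg_induction
    (motive := fun N _ => ∃ n : ℕ, ∀ a ∈ I ^ n, ∀ x ∈ N, a • x = 0) ?_ ?_ N hN
  · intro x
    obtain ⟨n, hn⟩ := hM x
    refine ⟨n, fun a ha y hy => ?_⟩
    obtain ⟨r, rfl⟩ := Submodule.mem_span_singleton.1 hy
    rw [smul_comm, hn a ha, smul_zero]
  · rintro N₁ N₂ _ _ ⟨n₁, h₁⟩ ⟨n₂, h₂⟩
    refine ⟨max n₁ n₂, fun a ha y hy => ?_⟩
    obtain ⟨y₁, hy₁, y₂, hy₂, rfl⟩ := Submodule.mem_sup.1 hy
    rw [smul_add, h₁ a (Ideal.pow_le_pow_right (le_max_left _ _) ha) y₁ hy₁,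
      h₂ a (Ideal.pow_le_pow_right (le_max_right _ _) ha) y₂ hy₂, add_zero]

theorem exists_pow_le_map (A B : Type*) [CommRing A] [IsLocalRing A] [CommRing B] [IsLocalRing B]
    [IsNoetherianRing B] [Algebra A B] [Module.Finite A B] :
    ∃ N : ℕ, maximalIdeal B ^ N ≤ Ideal.map (algebraMap A B) (maximalIdeal A) := by
  refine Ideal.exists_pow_le_of_le_radical_of_fg ?_ (IsNoetherian.noetherian _)
  rw [Ideal.radical_eq_sInf]
  refine le_sInf ?_
  rintro J ⟨hJ, hJp⟩
  haveI := hJp
  have h1 : maximalIdeal A ≤ Ideal.comap (algebraMap A B) J := Ideal.map_le_iff_le_comap.1 hJ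
  have hp : (Ideal.comap (algebraMap A B) J).IsPrime := inferInstance
  have h2 : (Ideal.comap (algebraMap A B) J).IsMaximal := by
    have h0 : maximalIdeal A = Ideal.comap (algebraMap A B) J :=
      (maximalIdeal.isMaximal A).eq_of_le hp.ne_top h1
    rw [← h0]; exact maximalIdeal.isMaximal A
  have h3 : J.IsMaximal := Ideal.isMaximal_of_isIntegral_of_isMaximal_comap J h2
  exact (eq_maximalIdeal h3).ge

theorem map_mem_maximalIdeal (A B : Type*) [CommRing A] [IsLocalRing A] [CommRing B]
    [IsLocalRing B] [Algebra A B] [Module.Finite A B] (a : A) (ha : a ∈ maximalIdeal A) :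
    algebraMap A B a ∈ maximalIdeal B := by
  have h : Ideal.comap (algebraMap A B) (maximalIdeal B) = maximalIdeal A :=
    eq_maximalIdeal (Ideal.isMaximal_comap_of_isIntegral_of_isMaximal (R := A) (maximalIdeal B))
  rw [← h] at ha
  exact ha

end generic

section main

variable (A B : Type u) [CommRing A] [IsLocalRing A] [IsNoetherianRing A] [CommRing B]
  [IsLocalRing B] [IsNoetherianRing B] [Algebra A B] [Module.Finite A B] (E : Type u)
  [AddCommGroup E] [Module A E]

/-- the coextended module `Hom_A(B, E)` -/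
noncomputable abbrev CC := (ModuleCat.coextendScalars (algebraMap A B)).obj (ModuleCat.of A E)

variable {A B E}

/-- evaluation of an element of the coextended module -/
noncomputable def cev (g : CC A B E) (b : B) : E :=
  (ModuleCat.CoextendScalars.equiv (algebraMap A B) (ModuleCat.of A E) g) b

theorem cev_add (g : CC A B E) (b b' : B) : cev g (b + b') = cev g b + cev g b' :=
  map_add (ModuleCat.CoextendScalars.equiv (algebraMap A B) (ModuleCat.of A E) g) b b'

theorem cev_smulA (g : CC A B E) (a : A) (b : B) :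
    cev g (algebraMap A B a * b) = a • cev g b :=
  LinearMap.map_smul (ModuleCat.CoextendScalars.equiv (algebraMap A B) (ModuleCat.of A E) g) a b

theorem smul_cev (s : B) (g : CC A B E) (b : B) : cev (s • g) b = cev g (b * s) := rfl

theorem zero_cev (b : B) : cev (0 : CC A B E) b = 0 := by
  unfold cev
  rw [map_zero]
  rfl

theorem cev_ext {g g' : CC A B E} (h : ∀ b, cev g b = cev g' b) : g = g' :=
  ModuleCat.CoextendScalars.ext (LinearMap.ext h)

/-- underlying `A`-linear map -/
noncomputable def ctoLin (g : CC A B E) : B →ₗ[A] E where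
  toFun := cev g
  map_add' := cev_add g
  map_smul' := fun a b => by
    rw [Algebra.smul_def, cev_smulA]; rfl

theorem ctoLin_apply (g : CC A B E) (b : B) : ctoLin g b = cev g b := rfl

/-- element from an `A`-linear map -/
noncomputable def cmk (φ : B →ₗ[A] E) : CC A B E :=
  (ModuleCat.CoextendScalars.equiv (algebraMap A B) (ModuleCat.of A E)).symm
    { toFun := fun b : B => φ b
      map_add' := fun b b' => φ.map_add b b'
      map_smul' := fun a (b : B) => by
        show φ (algebraMap A B a * b) = a • φ b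
        rw [← Algebra.smul_def, map_smul] }

theorem cev_cmk (φ : B →ₗ[A] E) (b : B) : cev (cmk φ) b = φ b := by
  unfold cev cmk
  rw [LinearEquiv.apply_symm_apply]
  rfl

/-- the ideal of elements of `B` killing `g` -/
def annIdeal (g : CC A B E) : Ideal B where
  carrier := {β | ∀ s : B, cev g (s * β) = 0}
  add_mem' := fun {x y} hx hy s => by
    show cev g (s * (x + y)) = 0
    rw [mul_add, cev_add, hx s, hy s, add_zero]
  zero_mem' := fun s => by
    show cev g (s * 0) = 0
    rw [mul_zero]; exact (ctoLin g).map_zero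
  smul_mem' := fun c x hx s => by
    show cev g (s * (c • x)) = 0
    rw [smul_eq_mul, ← mul_assoc]; exact hx (s * c)

theorem mem_annIdeal {g : CC A B E} {β : B} : β ∈ annIdeal g ↔ ∀ s : B, cev g (s * β) = 0 :=
  Iff.rfl

theorem injective_CC (hE : Module.Injective A E) : Module.Injective B (CC A B E) := by
  haveI := hE
  haveI : CategoryTheory.Injective (ModuleCat.of A E) :=
    Module.injective_object_of_injective_module A E
  haveI : CategoryTheory.Injective (CC A B E) :=
    CategoryTheory.Injective.injective_of_adjoint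
      (ModuleCat.restrictCoextendScalarsAdj (algebraMap A B)) (ModuleCat.of A E)
  exact Module.injective_module_of_injective_object B (CC A B E)

theorem powerTorsion_CC (hE : LocCoh.IsPowerTorsion (maximalIdeal A) E) :
    LocCoh.IsPowerTorsion (maximalIdeal B) (CC A B E) := by
  intro g
  obtain ⟨n, hn⟩ := pt_fg (maximalIdeal A) hE (LinearMap.range (ctoLin g)) (by
    rw [LinearMap.range_eq_map]; exact Submodule.FG.map (ctoLin g) Module.Finite.fg_top)
  obtain ⟨N, hN⟩ := exists_pow_le_map A B
  refine ⟨N * n, fun β hβ => ?_⟩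
  have h1 : Ideal.map (algebraMap A B) (maximalIdeal A ^ n) ≤ annIdeal g := by
    rw [Ideal.map_le_iff_le_comap]
    intro a ha
    show algebraMap A B a ∈ annIdeal g
    rw [mem_annIdeal]
    intro s
    rw [mul_comm, cev_smulA]
    exact hn a ha _ ⟨s, rfl⟩
  have h2 : maximalIdeal B ^ (N * n) ≤ annIdeal g := by
    rw [pow_mul]
    refine le_trans (Ideal.pow_right_mono hN n) ?_
    rw [← Ideal.map_pow]; exact h1
  have h3 : ∀ s : B, cev g (s * β) = 0 := mem_annIdeal.1 (h2 hβ)
  refine cev_ext fun s => ?_
  rw [smul_cev, zero_cev]; exact h3 s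

theorem simple_CC (f : ResidueField A →ₗ[A] E) (hf : InjHull.IsInjectiveHull f) :
    IsSimpleModule B (ResidueField B →ₗ[B] CC A B E) := by
  obtain ⟨π, hπ⟩ : ∃ π : B →ₗ[A] ResidueField B, ∀ b, π b = residue B b :=
    ⟨(IsScalarTower.toAlgHom A B (ResidueField B)).toLinearMap, fun b => rfl⟩
  have hπs : Function.Surjective π := fun c => by
    obtain ⟨b, rfl⟩ := residue_surjective c; exact ⟨b, hπ b⟩
  haveI : Module.Finite A (ResidueField B) := Module.Finite.of_surjective π hπs
  have hkill : ∀ a ∈ maximalIdeal A, ∀ c : ResidueField B, a • c = 0 := by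
    intro a ha c
    rw [Algebra.smul_def, IsScalarTower.algebraMap_apply A B (ResidueField B),
      ResidueField.algebraMap_eq, (residue_eq_zero_iff _).2 (map_mem_maximalIdeal A B a ha),
      zero_mul]
  have hfl : IsFiniteLength A (ResidueField B) := finLen_of_torsion _ hkill
  have hlen : Module.length A (ResidueField B →ₗ[A] E) = Module.length A (ResidueField B) :=
    Groth.Agent.Lib.Helper1.Matlis.length_hom_eq_of_isFiniteLength f hf _ hfl
  obtain ⟨φ₀, hφ₀⟩ := Groth.Agent.Lib.Helper1.Matlis.exists_hom_apply_ne_zero f hf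
    (ResidueField B) 1 one_ne_zero
  obtain ⟨T, hT⟩ : ∃ T : ResidueField B →ₗ[A] (ResidueField B →ₗ[A] E),
      ∀ c d, T c d = φ₀ (c * d) :=
    ⟨(LinearMap.llcomp A (ResidueField B) (ResidueField B) E φ₀).comp
      (LinearMap.mul A (ResidueField B)), fun c d => rfl⟩
  have hTinj : Function.Injective T := by
    rw [injective_iff_map_eq_zero]
    intro c hc
    by_contra hc0
    apply hφ₀
    rw [← mul_inv_cancel₀ hc0, ← hT, hc, LinearMap.zero_apply]
  have hTsurj : Function.Surjective T :=
    surj_of_inj_of_length T hTinj hlen (Module.length_ne_top_iff.2 hfl)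
  obtain ⟨x₀, hx₀e⟩ : ∃ x₀ : CC A B E, ∀ b, cev x₀ b = φ₀ (residue B b) :=
    ⟨cmk (φ₀.comp π), fun b => by rw [cev_cmk, LinearMap.comp_apply, hπ]⟩
  have hx₀ : x₀ ≠ 0 := by
    intro h
    apply hφ₀
    rw [← map_one (residue B), ← hx₀e, h, zero_cev]
  have hm : ∀ b ∈ maximalIdeal B, b • x₀ = 0 := by
    intro b hb
    refine cev_ext fun s => ?_
    rw [smul_cev, zero_cev, hx₀e, (residue_eq_zero_iff _).2 (Ideal.mul_mem_left _ s hb), map_zero]
  refine Groth.Agent.Lib.Helper4.Matlis.isSimpleModule_hom_of_socle x₀ hx₀ hm ?_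
  intro x hx
  have hx' : ∀ b ∈ maximalIdeal B, cev x b = 0 := by
    intro b hb
    have h0 : cev (b • x) 1 = cev (0 : CC A B E) 1 := by rw [hx b hb]
    rw [smul_cev, one_mul, zero_cev] at h0
    exact h0
  have hle : LinearMap.ker π ≤ LinearMap.ker (ctoLin x) := by
    intro b hb
    rw [LinearMap.mem_ker, hπ, residue_eq_zero_iff] at hb
    rw [LinearMap.mem_ker, ctoLin_apply]
    exact hx' b hb
  obtain ⟨φx, hφx⟩ : ∃ φx : ResidueField B →ₗ[A] E, ∀ b, φx (residue B b) = cev x b := by
    refine ⟨((LinearMap.ker π).liftQ (ctoLin x) hle) ∘ₗ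
      (π.quotKerEquivOfSurjective hπs).symm.toLinearMap, fun b => ?_⟩
    have h1 : (π.quotKerEquivOfSurjective hπs).symm (residue B b) = Submodule.Quotient.mk b := by
      rw [LinearEquiv.symm_apply_eq, LinearMap.quotKerEquivOfSurjective_apply_mk, hπ]
    rw [LinearMap.comp_apply, LinearEquiv.coe_coe, h1, Submodule.liftQ_apply, ctoLin_apply]
  obtain ⟨c, hc⟩ := hTsurj φx
  obtain ⟨b, rfl⟩ := residue_surjective c
  refine ⟨b, cev_ext fun s => ?_⟩
  rw [smul_cev, hx₀e, ← hφx, ← hc, hT, ← map_mul, mul_comm]

end main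


/-- Let A and B be Noetherian local rings with B a finite A-algebra, and E an injective hull of the
residue field of A (a dualizing module for A). Then Hom_A(B, E), as a B-module through the action on
the source, is an injective hull of the residue field of B (a dualizing module for B). -/
theorem result (A B : Type u) [CommRing A] [IsLocalRing A] [IsNoetherianRing A] [CommRing B] [IsLocalRing B] [IsNoetherianRing B] [Algebra A B] [Module.Finite A B] (E : Type u) [AddCommGroup E] [Module A E] (f : IsLocalRing.ResidueField A →ₗ[A] E) (hf : InjHull.IsInjectiveHull f) : ∃ g : IsLocalRing.ResidueField B →ₗ[B] (ModuleCat.coextendScalars (algebraMap A B)).obj (ModuleCat.of A E), InjHull.IsInjectiveHull g := by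
  have hE := (Groth.Agent.Lib.Helper4.Matlis.exists_isInjectiveHull_iff (A := A) (E := E)).1 ⟨f, hf⟩
  exact (Groth.Agent.Lib.Helper4.Matlis.exists_isInjectiveHull_iff (A := B) (E := CC A B E)).2
    ⟨injective_CC hE.1, powerTorsion_CC hE.2.1, simple_CC f hf⟩

end Groth.Agent.S5156
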