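import Groth.Statements.S11184
import Mathlib
import Groth.Agent.Lib.Helper4.Matlis
import Groth.Agent.Lib.Helper1.Matlis
import Groth.Agent.Lib.Helper1.InjHullLib
import Groth.Agent.S5156


set_option autoImplicit false
universe u
open Matlis

namespace Groth.Agent.S11184

open IsLocalRing CategoryTheory

section wrappers

variable (A B : Type u) [CommRing A] [CommRing B] [Algebra A B] (E : Type u)
  [AddCommGroup E] [Module A E]

/-- the coextended module `Hom_A(B, E)` -/
noncomputable abbrev CCq := (ModuleCat.coextendScalars (algebraMap A B)).obj (ModuleCat.of A E)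

variable {A B E}

/-- evaluation of an element of the coextended module -/
noncomputable def cevq (g : CCq A B E) (b : B) : E :=
  (ModuleCat.CoextendScalars.equiv (algebraMap A B) (ModuleCat.of A E) g) b

theorem cevq_add (g : CCq A B E) (b b' : B) : cevq g (b + b') = cevq g b + cevq g b' :=
  map_add (ModuleCat.CoextendScalars.equiv (algebraMap A B) (ModuleCat.of A E) g) b b'

theorem cevq_smulA (g : CCq A B E) (a : A) (b : B) :
    cevq g (algebraMap A B a * b) = a • cevq g b :=
  LinearMap.map_smul (ModuleCat.CoextendScalars.equiv (algebraMap A B) (ModuleCat.of A E) g) a b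

theorem smul_cevq (s : B) (g : CCq A B E) (b : B) : cevq (s • g) b = cevq g (b * s) := rfl

theorem zero_cevq (b : B) : cevq (0 : CCq A B E) b = 0 := by
  unfold cevq
  rw [map_zero]
  rfl

theorem cevq_ext {g g' : CCq A B E} (h : ∀ b, cevq g b = cevq g' b) : g = g' :=
  ModuleCat.CoextendScalars.ext (LinearMap.ext h)

/-- underlying `A`-linear map -/
noncomputable def ctoLinq (g : CCq A B E) : B →ₗ[A] E where
  toFun := cevq g
  map_add' := cevq_add g
  map_smul' := fun a b => by
    rw [Algebra.smul_def, cevq_smulA]; rfl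

theorem ctoLinq_apply (g : CCq A B E) (b : B) : ctoLinq g b = cevq g b := rfl

/-- element from an `A`-linear map -/
noncomputable def cmkq (φ : B →ₗ[A] E) : CCq A B E :=
  (ModuleCat.CoextendScalars.equiv (algebraMap A B) (ModuleCat.of A E)).symm
    { toFun := fun b : B => φ b
      map_add' := fun b b' => φ.map_add b b'
      map_smul' := fun a (b : B) => by
        show φ (algebraMap A B a * b) = a • φ b
        rw [← Algebra.smul_def, map_smul] }

theorem cevq_cmkq (φ : B →ₗ[A] E) (b : B) : cevq (cmkq φ) b = φ b := by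
  unfold cevq cmkq
  rw [LinearEquiv.apply_symm_apply]
  rfl

/-- the ideal of elements of `B` killing `g` -/
def annIdealq (g : CCq A B E) : Ideal B where
  carrier := {β | ∀ s : B, cevq g (s * β) = 0}
  add_mem' := fun {x y} hx hy s => by
    show cevq g (s * (x + y)) = 0
    rw [mul_add, cevq_add, hx s, hy s, add_zero]
  zero_mem' := fun s => by
    show cevq g (s * 0) = 0
    rw [mul_zero]; exact (ctoLinq g).map_zero
  smul_mem' := fun c x hx s => by
    show cevq g (s * (c • x)) = 0
    rw [smul_eq_mul, ← mul_assoc]; exact hx (s * c)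

theorem mem_annIdealq {g : CCq A B E} {β : B} :
    β ∈ annIdealq g ↔ ∀ s : B, cevq g (s * β) = 0 :=
  Iff.rfl

theorem smul_eq_zero_of_mem_annq {g : CCq A B E} {β : B} (h : β ∈ annIdealq g) :
    β • g = 0 := by
  refine cevq_ext fun s => ?_
  rw [smul_cevq, zero_cevq]; exact mem_annIdealq.1 h s

theorem injective_CCq (hE : Module.Injective A E) : Module.Injective B (CCq A B E) := by
  haveI := hE
  haveI : CategoryTheory.Injective (ModuleCat.of A E) :=
    Module.injective_object_of_injective_module A E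
  haveI : CategoryTheory.Injective (CCq A B E) :=
    CategoryTheory.Injective.injective_of_adjoint
      (ModuleCat.restrictCoextendScalarsAdj (algebraMap A B)) (ModuleCat.of A E)
  exact Module.injective_module_of_injective_object B (CCq A B E)

end wrappers

section torsion

/-- `I`-power torsion submodule -/
def ptorq {R : Type*} [CommRing R] (I : Ideal R) (M : Type*) [AddCommGroup M] [Module R M] :
    Submodule R M where
  carrier := {x | ∃ k : ℕ, ∀ a ∈ I ^ k, a • x = 0}
  zero_mem' := ⟨0, fun a _ => smul_zero a⟩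
  add_mem' := by
    rintro x y ⟨k, hk⟩ ⟨l, hl⟩
    refine ⟨max k l, fun a ha => ?_⟩
    rw [smul_add, hk a (Ideal.pow_le_pow_right (le_max_left _ _) ha),
      hl a (Ideal.pow_le_pow_right (le_max_right _ _) ha), add_zero]
  smul_mem' := by
    rintro c x ⟨k, hk⟩
    exact ⟨k, fun a ha => by rw [smul_comm, hk a ha, smul_zero]⟩

theorem mem_ptorq {R : Type*} [CommRing R] (I : Ideal R) (M : Type*) [AddCommGroup M]
    [Module R M] (x : M) : x ∈ ptorq I M ↔ ∃ k : ℕ, ∀ a ∈ I ^ k, a • x = 0 := Iff.rfl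

/-- elements killed by something outside the prime `n` -/
def ktorq {R : Type*} [CommRing R] (n : Ideal R) [hn : n.IsPrime] (M : Type*) [AddCommGroup M]
    [Module R M] : Submodule R M where
  carrier := {x | ∃ b : R, b ∉ n ∧ b • x = 0}
  zero_mem' := ⟨1, (Ideal.ne_top_iff_one n).1 hn.ne_top, smul_zero 1⟩
  add_mem' := by
    rintro x y ⟨b, hb, hbx⟩ ⟨c, hc, hcy⟩
    refine ⟨b * c, fun h => (hn.mem_or_mem h).elim hb hc, ?_⟩
    have h1 : (b * c) • x = 0 := by rw [mul_comm, mul_smul, hbx, smul_zero]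
    have h2 : (b * c) • y = 0 := by rw [mul_smul, hcy, smul_zero]
    rw [smul_add, h1, h2, add_zero]
  smul_mem' := by
    rintro c x ⟨b, hb, hbx⟩
    exact ⟨b, hb, by rw [smul_comm, hbx, smul_zero]⟩

theorem ptorq_le_ktorq {R : Type*} [CommRing R] (j n : Ideal R) [hn : n.IsPrime] (M : Type*)
    [AddCommGroup M] [Module R M] (c : R) (hcj : c ∈ j) (hcn : c ∉ n) :
    ptorq j M ≤ ktorq n M := by
  rintro x ⟨k, hk⟩
  exact ⟨c ^ k, fun h => hcn (hn.mem_of_pow_mem k h), hk _ (Ideal.pow_mem_pow hcj k)⟩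

theorem disj_q {R : Type*} [CommRing R] (n : Ideal R) [hn : n.IsMaximal] (M : Type*)
    [AddCommGroup M] [Module R M] : Disjoint (ptorq n M) (ktorq n M) := by
  rw [Submodule.disjoint_def]
  rintro x ⟨k, hk⟩ ⟨b, hb, hbx⟩
  obtain ⟨y, i, hi, hyi⟩ := hn.exists_inv hb
  have h1 : i • x = x := by
    have h2 : (y * b + i) • x = x := by rw [hyi, one_smul]
    rw [add_smul, mul_smul, hbx, smul_zero, zero_add] at h2
    exact h2
  have h3 : ∀ m : ℕ, i ^ m • x = x := by
    intro m
    induction m with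
    | zero => rw [pow_zero, one_smul]
    | succ m ih => rw [pow_succ, mul_smul, h1, ih]
  rw [← h3 k]
  exact hk _ (Ideal.pow_mem_pow hi k)

theorem indep_q {R : Type*} [CommRing R] (M : Type*) [AddCommGroup M] [Module R M] :
    iSupIndep (fun n : MaximalSpectrum R => ptorq n.asIdeal M) := by
  intro n
  refine (disj_q n.asIdeal M).mono_right ?_
  refine iSup₂_le fun j hj => ?_
  have hne : j.asIdeal ≠ n.asIdeal := fun h => hj (MaximalSpectrum.ext h)
  have hnle : ¬ j.asIdeal ≤ n.asIdeal := fun hle =>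
    hne (j.isMaximal.eq_of_le n.isMaximal.ne_top hle)
  obtain ⟨c, hcj, hcn⟩ := SetLike.not_le_iff_exists.1 hnle
  exact ptorq_le_ktorq j.asIdeal n.asIdeal _ c hcj hcn

end torsion

section semilocal

theorem le_max_q {A B : Type u} [CommRing A] [IsLocalRing A] [CommRing B] [Algebra A B]
    [Module.Finite A B] (n : Ideal B) [hn : n.IsMaximal] :
    Ideal.map (algebraMap A B) (maximalIdeal A) ≤ n := by
  rw [Ideal.map_le_iff_le_comap]
  have h : Ideal.comap (algebraMap A B) n = maximalIdeal A :=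
    eq_maximalIdeal (Ideal.isMaximal_comap_of_isIntegral_of_isMaximal (R := A) n)
  exact h.ge

theorem max_of_prime_q {A B : Type u} [CommRing A] [IsLocalRing A] [CommRing B] [Algebra A B]
    [Module.Finite A B] (P : Ideal B) [hP : P.IsPrime]
    (hle : Ideal.map (algebraMap A B) (maximalIdeal A) ≤ P) : P.IsMaximal := by
  have h1 : maximalIdeal A ≤ Ideal.comap (algebraMap A B) P := Ideal.map_le_iff_le_comap.1 hle
  have hp : (Ideal.comap (algebraMap A B) P).IsPrime := inferInstance
  have h2 : (Ideal.comap (algebraMap A B) P).IsMaximal := by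
    have h0 : maximalIdeal A = Ideal.comap (algebraMap A B) P :=
      (maximalIdeal.isMaximal A).eq_of_le hp.ne_top h1
    rw [← h0]; exact maximalIdeal.isMaximal A
  exact Ideal.isMaximal_of_isIntegral_of_isMaximal_comap P h2

theorem fin_q (A : Type u) {B : Type u} [CommRing A] [IsLocalRing A] [IsNoetherianRing A]
    [CommRing B] [Algebra A B] [Module.Finite A B] : Finite (MaximalSpectrum B) := by
  haveI : IsNoetherianRing B := IsNoetherianRing.of_finite A B
  have hfin := Ideal.finite_minimalPrimes_of_isNoetherianRing B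
    (Ideal.map (algebraMap A B) (maximalIdeal A))
  haveI := hfin.to_subtype
  refine Finite.of_injective
    (β := ↥(Ideal.map (algebraMap A B) (maximalIdeal A)).minimalPrimes)
    (fun n => ⟨n.asIdeal, ?_⟩) ?_
  · show Minimal (fun q : Ideal B => q.IsPrime ∧
      Ideal.map (algebraMap A B) (maximalIdeal A) ≤ q) n.asIdeal
    refine And.intro ⟨n.isMaximal.isPrime, le_max_q n.asIdeal⟩ ?_
    rintro q ⟨hq, hIq⟩ hqn
    haveI := hq
    have hqmax : q.IsMaximal := max_of_prime_q q hIq
    exact (hqmax.eq_of_le n.isMaximal.ne_top hqn).ge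
  · intro n n' h
    exact MaximalSpectrum.ext (congrArg Subtype.val h)

theorem rad_pow_q (A : Type u) {B : Type u} [CommRing A] [IsLocalRing A] [IsNoetherianRing A]
    [CommRing B] [Algebra A B] [Module.Finite A B] :
    ∃ N : ℕ, (⨅ n : MaximalSpectrum B, n.asIdeal) ^ N ≤
      Ideal.map (algebraMap A B) (maximalIdeal A) := by
  haveI : IsNoetherianRing B := IsNoetherianRing.of_finite A B
  refine Ideal.exists_pow_le_of_le_radical_of_fg ?_ (IsNoetherian.noetherian _)
  rw [Ideal.radical_eq_sInf]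
  refine le_sInf ?_
  rintro P ⟨hP, hPp⟩
  haveI := hPp
  have hmax : P.IsMaximal := max_of_prime_q P hP
  exact iInf_le (fun n : MaximalSpectrum B => n.asIdeal) ⟨P, hmax⟩

theorem annq_pow {A B : Type u} [CommRing A] [IsLocalRing A] [CommRing B] [Algebra A B]
    [Module.Finite A B] {E : Type u} [AddCommGroup E] [Module A E]
    (hE : LocCoh.IsPowerTorsion (maximalIdeal A) E) (g : CCq A B E) :
    ∃ k : ℕ, Ideal.map (algebraMap A B) (maximalIdeal A) ^ k ≤ annIdealq g := by
  obtain ⟨n, hn⟩ := Groth.Agent.S5156.pt_fg (maximalIdeal A) hE (LinearMap.range (ctoLinq g)) (by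
    rw [LinearMap.range_eq_map]; exact Submodule.FG.map (ctoLinq g) Module.Finite.fg_top)
  refine ⟨n, ?_⟩
  rw [← Ideal.map_pow, Ideal.map_le_iff_le_comap]
  intro a ha
  show algebraMap A B a ∈ annIdealq g
  rw [mem_annIdealq]
  intro s
  rw [mul_comm, cevq_smulA]
  exact hn a ha _ ⟨s, rfl⟩

theorem sup_q {A B : Type u} [CommRing A] [IsLocalRing A] [IsNoetherianRing A] [CommRing B]
    [Algebra A B] [Module.Finite A B] {E : Type u} [AddCommGroup E] [Module A E]
    (hE : LocCoh.IsPowerTorsion (maximalIdeal A) E) :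
    (⨆ n : MaximalSpectrum B, ptorq n.asIdeal (CCq A B E)) = ⊤ := by
  classical
  haveI : Finite (MaximalSpectrum B) := fin_q A
  haveI : Fintype (MaximalSpectrum B) := Fintype.ofFinite _
  rw [eq_top_iff]
  rintro g -
  obtain ⟨k, hk⟩ := annq_pow hE g
  obtain ⟨N, hN⟩ := rad_pow_q A (B := B)
  have hcop : ((Finset.univ : Finset (MaximalSpectrum B)) : Set (MaximalSpectrum B)).Pairwise
      fun i j => i.asIdeal ^ (N * k) ⊔ j.asIdeal ^ (N * k) = ⊤ := by
    intro i _ j _ hij
    exact Ideal.pow_sup_pow_eq_top (Ideal.IsMaximal.coprime_of_ne i.isMaximal j.isMaximal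
      (fun h => hij (MaximalSpectrum.ext h)))
  have hcop' : ((Finset.univ : Finset (MaximalSpectrum B)) : Set (MaximalSpectrum B)).Pairwise
      (Function.onFun IsCoprime fun i : MaximalSpectrum B => i.asIdeal ^ (N * k)) := by
    intro i hi j hj hij
    exact Ideal.isCoprime_iff_sup_eq.2 (hcop hi hj hij)
  have hprod : ∏ i ∈ (Finset.univ : Finset (MaximalSpectrum B)), i.asIdeal ^ (N * k) =
      ⨅ i ∈ (Finset.univ : Finset (MaximalSpectrum B)), i.asIdeal ^ (N * k) :=
    Ideal.prod_eq_iInf_of_pairwise_isCoprime hcop'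
  have h3 : (⨅ i ∈ (Finset.univ : Finset (MaximalSpectrum B)), i.asIdeal ^ (N * k)) ≤
      (⨅ n : MaximalSpectrum B, n.asIdeal) ^ (N * k) := by
    rw [← hprod, Finset.prod_pow]
    refine Ideal.pow_right_mono (le_iInf fun i => ?_) _
    exact Ideal.prod_le_inf.trans (Finset.inf_le (Finset.mem_univ i))
  have h1 : (⨆ i ∈ (Finset.univ : Finset (MaximalSpectrum B)),
      Submodule.torsionBySet B (CCq A B E) ((i.asIdeal ^ (N * k) : Ideal B) : Set B)) =
      Submodule.torsionBySet B (CCq A B E)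
        ((⨅ i ∈ (Finset.univ : Finset (MaximalSpectrum B)), i.asIdeal ^ (N * k) : Ideal B) :
          Set B) :=
    Submodule.iSup_torsionBySet_ideal_eq_torsionBySet_iInf hcop
  have h2 : g ∈ Submodule.torsionBySet B (CCq A B E)
      ((⨅ i ∈ (Finset.univ : Finset (MaximalSpectrum B)), i.asIdeal ^ (N * k) : Ideal B) :
        Set B) := by
    rw [Submodule.mem_torsionBySet_iff]
    rintro ⟨a, ha⟩
    show a • g = 0
    have h4 : a ∈ (⨅ n : MaximalSpectrum B, n.asIdeal) ^ (N * k) := h3 ha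
    rw [pow_mul] at h4
    exact smul_eq_zero_of_mem_annq (hk (Ideal.pow_right_mono hN k h4))
  have h6 : (⨆ i ∈ (Finset.univ : Finset (MaximalSpectrum B)),
      Submodule.torsionBySet B (CCq A B E) ((i.asIdeal ^ (N * k) : Ideal B) : Set B)) ≤
      ⨆ n : MaximalSpectrum B, ptorq n.asIdeal (CCq A B E) := by
    refine iSup₂_le fun i _ => ?_
    refine le_trans ?_ (le_iSup (fun n : MaximalSpectrum B => ptorq n.asIdeal (CCq A B E)) i)
    intro x hx
    exact (mem_ptorq _ _ _).2 ⟨N * k, fun a ha =>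
      (Submodule.mem_torsionBySet_iff _ _).1 hx ⟨a, ha⟩⟩
  exact h6 (h1.ge h2)

theorem hull_q {A B : Type u} [CommRing A] [IsLocalRing A] [IsNoetherianRing A] [CommRing B]
    [Algebra A B] [Module.Finite A B] {E : Type u} [AddCommGroup E] [Module A E]
    (f : ResidueField A →ₗ[A] E) (hf : InjHull.IsInjectiveHull f)
    (n : MaximalSpectrum B) (hinj : Module.Injective B (ptorq n.asIdeal (CCq A B E))) :
    ∃ g : (B ⧸ n.asIdeal) →ₗ[B] ptorq n.asIdeal (CCq A B E), InjHull.IsInjectiveHull g := by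
  classical
  have hnmax : n.asIdeal.IsMaximal := n.isMaximal
  obtain ⟨π, hπ⟩ : ∃ π : B →ₗ[A] (B ⧸ n.asIdeal), ∀ b, π b = Ideal.Quotient.mk n.asIdeal b :=
    ⟨(Ideal.Quotient.mkₐ A n.asIdeal).toLinearMap, fun b => rfl⟩
  have hπs : Function.Surjective π := fun c => by
    obtain ⟨b, rfl⟩ := Ideal.Quotient.mk_surjective c; exact ⟨b, hπ b⟩
  haveI : Module.Finite A (B ⧸ n.asIdeal) := Module.Finite.of_surjective π hπs
  have hkill : ∀ a ∈ maximalIdeal A, ∀ c : B ⧸ n.asIdeal, a • c = 0 := by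
    intro a ha c
    have hmem : algebraMap A B a ∈ n.asIdeal :=
      le_max_q n.asIdeal (Ideal.mem_map_of_mem _ ha)
    obtain ⟨b, rfl⟩ := hπs c
    rw [← π.map_smul, hπ, Ideal.Quotient.eq_zero_iff_mem, Algebra.smul_def]
    exact Ideal.mul_mem_right _ _ hmem
  have hfl : IsFiniteLength A (B ⧸ n.asIdeal) := Groth.Agent.S5156.finLen_of_torsion _ hkill
  have hlen : Module.length A ((B ⧸ n.asIdeal) →ₗ[A] E) = Module.length A (B ⧸ n.asIdeal) :=
    Groth.Agent.Lib.Helper1.Matlis.length_hom_eq_of_isFiniteLength f hf _ hfl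
  haveI : Nontrivial (B ⧸ n.asIdeal) := Ideal.Quotient.nontrivial_iff.2 hnmax.ne_top
  obtain ⟨φ₀, hφ₀⟩ := Groth.Agent.Lib.Helper1.Matlis.exists_hom_apply_ne_zero f hf
    (B ⧸ n.asIdeal) 1 one_ne_zero
  obtain ⟨T, hT⟩ : ∃ T : (B ⧸ n.asIdeal) →ₗ[A] ((B ⧸ n.asIdeal) →ₗ[A] E),
      ∀ c d, T c d = φ₀ (c * d) :=
    ⟨(LinearMap.llcomp A (B ⧸ n.asIdeal) (B ⧸ n.asIdeal) E φ₀).comp
      (LinearMap.mul A (B ⧸ n.asIdeal)), fun c d => rfl⟩
  have hTinj : Function.Injective T := by
    rw [injective_iff_map_eq_zero]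
    intro c hc
    by_contra hc0
    obtain ⟨d, hd⟩ := Ideal.Quotient.exists_inv hc0
    apply hφ₀
    rw [← hd, ← hT, hc, LinearMap.zero_apply]
  have hTsurj : Function.Surjective T :=
    Groth.Agent.S5156.surj_of_inj_of_length T hTinj hlen (Module.length_ne_top_iff.2 hfl)
  obtain ⟨x₀, hx₀e⟩ : ∃ x₀ : CCq A B E,
      ∀ b, cevq x₀ b = φ₀ (Ideal.Quotient.mk n.asIdeal b) :=
    ⟨cmkq (φ₀.comp π), fun b => by rw [cevq_cmkq, LinearMap.comp_apply, hπ]⟩
  have hx₀ : x₀ ≠ 0 := by
    intro h
    apply hφ₀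
    rw [← map_one (Ideal.Quotient.mk n.asIdeal), ← hx₀e, h, zero_cevq]
  have hm : ∀ b ∈ n.asIdeal, b • x₀ = 0 := by
    intro b hb
    refine cevq_ext fun s => ?_
    rw [smul_cevq, zero_cevq, hx₀e,
      Ideal.Quotient.eq_zero_iff_mem.2 (Ideal.mul_mem_left _ s hb), map_zero]
  have hsoc : ∀ x : CCq A B E, (∀ b ∈ n.asIdeal, b • x = 0) → ∃ b : B, x = b • x₀ := by
    intro x hx
    have hx' : ∀ b ∈ n.asIdeal, cevq x b = 0 := by
      intro b hb
      have h0 : cevq (b • x) 1 = cevq (0 : CCq A B E) 1 := by rw [hx b hb]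
      rw [smul_cevq, one_mul, zero_cevq] at h0
      exact h0
    have hle : LinearMap.ker π ≤ LinearMap.ker (ctoLinq x) := by
      intro b hb
      rw [LinearMap.mem_ker, hπ, Ideal.Quotient.eq_zero_iff_mem] at hb
      rw [LinearMap.mem_ker, ctoLinq_apply]
      exact hx' b hb
    obtain ⟨φx, hφx⟩ : ∃ φx : (B ⧸ n.asIdeal) →ₗ[A] E,
        ∀ b, φx (Ideal.Quotient.mk n.asIdeal b) = cevq x b := by
      refine ⟨((LinearMap.ker π).liftQ (ctoLinq x) hle) ∘ₗ
        (π.quotKerEquivOfSurjective hπs).symm.toLinearMap, fun b => ?_⟩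
      have h1 : (π.quotKerEquivOfSurjective hπs).symm (Ideal.Quotient.mk n.asIdeal b) =
          Submodule.Quotient.mk b := by
        rw [LinearEquiv.symm_apply_eq, LinearMap.quotKerEquivOfSurjective_apply_mk, hπ]
      rw [LinearMap.comp_apply, LinearEquiv.coe_coe, h1, Submodule.liftQ_apply, ctoLinq_apply]
    obtain ⟨c, hc⟩ := hTsurj φx
    obtain ⟨b, rfl⟩ := Ideal.Quotient.mk_surjective c
    refine ⟨b, cevq_ext fun s => ?_⟩
    rw [smul_cevq, hx₀e, ← hφx, ← hc, hT, ← map_mul, mul_comm]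
  have hx₀mem : x₀ ∈ ptorq n.asIdeal (CCq A B E) :=
    (mem_ptorq _ _ _).2 ⟨1, fun a ha => hm a (by rwa [pow_one] at ha)⟩
  have hle : n.asIdeal ≤ LinearMap.ker
      (LinearMap.toSpanSingleton B (ptorq n.asIdeal (CCq A B E)) ⟨x₀, hx₀mem⟩) := by
    intro b hb
    rw [LinearMap.mem_ker, LinearMap.toSpanSingleton_apply]
    exact Subtype.ext (hm b hb)
  obtain ⟨g, hg⟩ : ∃ g : (B ⧸ n.asIdeal) →ₗ[B] ptorq n.asIdeal (CCq A B E),
      ∀ b : B, ((g (Submodule.Quotient.mk b) : ptorq n.asIdeal (CCq A B E)) : CCq A B E) =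
        b • x₀ := by
    refine ⟨Submodule.liftQ n.asIdeal
      (LinearMap.toSpanSingleton B (ptorq n.asIdeal (CCq A B E)) ⟨x₀, hx₀mem⟩) hle, fun b => ?_⟩
    have h1 : (Submodule.liftQ n.asIdeal
        (LinearMap.toSpanSingleton B (ptorq n.asIdeal (CCq A B E)) ⟨x₀, hx₀mem⟩) hle)
        (Submodule.Quotient.mk b) = b • (⟨x₀, hx₀mem⟩ : ptorq n.asIdeal (CCq A B E)) := by
      rw [Submodule.liftQ_apply, LinearMap.toSpanSingleton_apply]
    exact congrArg Subtype.val h1
  refine ⟨g, ⟨⟨?_, ?_⟩, hinj⟩⟩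
  · rw [injective_iff_map_eq_zero]
    intro c hc
    obtain ⟨b, rfl⟩ := Submodule.Quotient.mk_surjective n.asIdeal c
    have hbn : b ∈ n.asIdeal := by
      by_contra hb
      obtain ⟨y, i, hi, hyi⟩ := hnmax.exists_inv hb
      have h1 : b • x₀ = 0 := by rw [← hg b, hc]; rfl
      have h2 : (y * b + i) • x₀ = x₀ := by rw [hyi, one_smul]
      rw [add_smul, mul_smul, h1, smul_zero, zero_add, hm i hi] at h2
      exact hx₀ h2.symm
    exact (Submodule.Quotient.mk_eq_zero n.asIdeal).2 hbn
  · intro N hN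
    obtain ⟨x, hxN, hx0⟩ := (Submodule.ne_bot_iff _).mp hN
    have hex : ∃ k : ℕ, ∀ a ∈ n.asIdeal ^ k, a • (x : CCq A B E) = 0 :=
      (mem_ptorq _ _ _).1 x.2
    have hxv : (x : CCq A B E) ≠ 0 := fun h => hx0 (Subtype.ext h)
    have hn0 : Nat.find hex ≠ 0 := by
      intro h0
      have h1 := Nat.find_spec hex
      rw [h0, pow_zero, Ideal.one_eq_top] at h1
      apply hxv
      have h2 := h1 1 Submodule.mem_top
      rwa [one_smul] at h2
    obtain ⟨k, hk⟩ := Nat.exists_eq_succ_of_ne_zero hn0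
    have hmin : ¬ ∀ a ∈ n.asIdeal ^ k, a • (x : CCq A B E) = 0 :=
      Nat.find_min hex (by rw [hk]; exact Nat.lt_succ_self k)
    have hmin' : ∃ a ∈ n.asIdeal ^ k, a • (x : CCq A B E) ≠ 0 := by
      by_contra hcon
      apply hmin
      intro a ha
      by_contra hax
      exact hcon ⟨a, ha, hax⟩
    obtain ⟨a, ha, hax⟩ := hmin'
    have hsocle : ∀ b ∈ n.asIdeal, b • (a • (x : CCq A B E)) = 0 := by
      intro b hb
      rw [smul_smul]
      have h1 := Nat.find_spec hex
      rw [hk] at h1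
      exact h1 (b * a) (by rw [pow_succ']; exact Ideal.mul_mem_mul hb ha)
    obtain ⟨b, hb⟩ := hsoc _ hsocle
    rw [Submodule.ne_bot_iff]
    refine ⟨a • x, Submodule.mem_inf.mpr ⟨Submodule.smul_mem _ _ hxN,
      LinearMap.mem_range.2 ⟨Submodule.Quotient.mk b, ?_⟩⟩, ?_⟩
    · exact Subtype.ext ((hg b).trans hb.symm)
    · intro h
      exact hax (congrArg Subtype.val h)

end semilocal

/-- Let A be a Noetherian local ring with residue field k, k → E an injective hull of k, and B a finite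
A-algebra (a semilocal ring all of whose maximal ideals lie over the maximal ideal of A). Then the
B-module Hom_A(B, E), with B acting by (b·φ)(b') = φ(bb'), is the internal direct sum over the
maximal ideals n of B of submodules J_n (independent, with supremum everything), where each J_n is
an injective hull over B of the residue field B/n: each hull occurs exactly once. -/
theorem result (A B : Type u) [CommRing A] [IsLocalRing A] [IsNoetherianRing A] [CommRing B] [Algebra A B] [Module.Finite A B] (E : Type u) [AddCommGroup E] [Module A E] (f : IsLocalRing.ResidueField A →ₗ[A] E) (hf : InjHull.IsInjectiveHull f) : ∃ J : MaximalSpectrum B → Submodule B ((ModuleCat.coextendScalars (algebraMap A B)).obj (ModuleCat.of A E)), iSupIndep J ∧ iSup J = ⊤ ∧ ∀ n : MaximalSpectrum B, ∃ g : (B ⧸ n.asIdeal) →ₗ[B] J n, InjHull.IsInjectiveHull g := by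
  have hE : LocCoh.IsPowerTorsion (maximalIdeal A) E :=
    Groth.Agent.Lib.Helper4.Matlis.isPowerTorsion_of_isEssentialInj hf.toIsEssentialInj
  have hinjC : Module.Injective B (CCq A B E) := injective_CCq hf.isInjective
  have hsup := sup_q (A := A) (B := B) (E := E) hE
  have hind := indep_q (R := B) (CCq A B E)
  refine ⟨fun n => ptorq n.asIdeal (CCq A B E), hind, hsup, fun n => ?_⟩
  have hcompl : IsCompl (ptorq n.asIdeal (CCq A B E))
      (⨆ (j : MaximalSpectrum B) (_ : j ≠ n), ptorq j.asIdeal (CCq A B E)) := by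
    refine ⟨hind n, ?_⟩
    rw [codisjoint_iff, eq_top_iff]
    refine le_trans (le_of_eq hsup.symm) (iSup_le fun j => ?_)
    by_cases hj : j = n
    · subst hj; exact le_sup_left
    · exact le_sup_of_le_right (le_iSup₂
        (f := fun (j : MaximalSpectrum B) (_ : j ≠ n) => ptorq j.asIdeal (CCq A B E)) j hj)
  haveI := hinjC
  exact hull_q f hf n (Groth.Agent.Lib.Helper1.InjHullLib.injective_of_isCompl hcompl)

end Groth.Agent.S11184
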