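import Groth.Statements.S1119
import Groth.Agent.Lib.Helper2.RHom.WeakTri
import Groth.Agent.Lib.Helper2.Aff.QcqsPush
import Groth.Agent.Lib.Helper2.Aff.PCBound
import Groth.Agent.Lib.Helper2.Aff.AffReflect
import Groth.Agent.Lib.Helper2.Aff.HomVanBase
import Groth.Agent.Lib.Helper13.PCohTri
import Groth.Agent.Lib.Helper13.PCohNoeth
import Groth.Agent.S1062
import Groth.Agent.S1103

set_option autoImplicit false
universe u
open CategoryTheory CategoryTheory.Limits AlgebraicGeometry Opposite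
attribute [local instance] HasDerivedCategory.standard
open Perf

namespace Groth.Agent.S1119

/-- Let A be a ring, π : X ⟶ Spec A with X quasi-compact and quasi-separated, and K a cochain complex of
O_X-modules whose image in D(O_X) is bounded above with quasi-coherent cohomology sheaves. Assuming
Rπ_* and - ⊗^L K exist: if Rπ_*(E ⊗^L K) is pseudo-coherent on Spec A for every perfect E ∈ D(O_X),
then Rπ_*(E ⊗^L K) is pseudo-coherent for every pseudo-coherent E ∈ D(O_X). (The source phrases the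
condition with RΓ(X, -) valued in D(A); on the affine base the two formulations correspond under
D(A) ≃ D_QCoh(Spec A).) -/
theorem result (A : Type u) [CommRing A] (X : Scheme.{u}) [CompactSpace ↥X] [QuasiSeparatedSpace ↥X]
    (π : X ⟶ Spec (CommRingCat.of A)) [DCoh.HasRpush π]
    (K : CochainComplex X.Modules ℤ) (hK : DCoh.IsQCohD (DCoh.toD X K)) (b : ℤ) [(DCoh.toD X K).IsLE b] [DCoh.HasLTensorCx K]
    (h : ∀ E : DCoh.D X, DCoh.IsPerfect E → ∀ m : ℤ, DCoh.IsPseudoCoherentD m ((DCoh.Rpush π).obj ((DCoh.LTensorCx K).obj E)))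
    (E : DCoh.D X) (hE : ∀ m : ℤ, DCoh.IsPseudoCoherentD m E) (m : ℤ) :
    DCoh.IsPseudoCoherentD m ((DCoh.Rpush π).obj ((DCoh.LTensorCx K).obj E)) := by
  classical
  obtain ⟨d, hd⟩ := Groth.Agent.Lib.Helper2.Aff.Qcqs.exists_uniform_bound π
  have hEq : DCoh.IsQCohD E := Groth.Agent.Lib.Helper2.Aff.PCB.isQCohD_of_allPC E hE
  obtain ⟨r, hr⟩ := Groth.Agent.S1103.result X Set.univ isClosed_univ (by simp)
  obtain ⟨P, α, hP, -, hiso, hepi⟩ := hr (m - b - d) E hEq (hE _)
    (fun _ _ => Set.subset_univ _)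
  obtain ⟨C, g, hh, hT⟩ := Pretriangulated.distinguished_cocone_triangle α
  have hCq : DCoh.IsQCohD C :=
    Groth.Agent.Lib.Helper2.Aff.AffPush.isQCohD_of_distTriang _ hT
      (Groth.Agent.Lib.Helper2.Aff.HomVan.isQCohD_of_isPerfect P hP) hEq
  have hCz := (Groth.Agent.Lib.Helper2.RightTri.cone_vanish_iff _ hT (m - b - d)).1 ⟨hiso, hepi⟩
  have hCle : C.IsLE (m - b - d - 1) := (DerivedCategory.isLE_iff C _).2
    (fun i hi => hCz i (by omega))
  obtain ⟨δ, hT'⟩ := Groth.Agent.Lib.Helper2.RHom.exists_distinguished_LTensorCx K _ hT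
  have hTCle : ((DCoh.LTensorCx K).obj C).IsLE (m - b - d - 1 + b) :=
    Groth.Agent.Lib.Helper2.RHom.isLE_LTensorCx_obj K b inferInstance C _ hCle
  have hTCq : DCoh.IsQCohD ((DCoh.LTensorCx K).obj C) := Groth.Agent.S1062.result X K hK C hCq
  obtain ⟨cs, tri⟩ := Groth.Agent.Lib.Helper2.Stk.exists_isTriangulated_Rpush π
  have hT'' := (DCoh.Rpush π).map_distinguished _ hT'
  have hle := hd _ hTCq _ hTCle
  have h3 : DCoh.IsPseudoCoherentD m ((DCoh.Rpush π).obj ((DCoh.LTensorCx K).obj C)) :=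
    Groth.Agent.Lib.Helper13.PCohNoeth.isPC_of_isZero_homology m _ (fun i hi =>
      DerivedCategory.isZero_of_isLE _ (m - b - d - 1 + b + d) i (by omega) (hX := hle))
  exact (Groth.Agent.Lib.Helper13.PCohTri.isPC_two_of_three m _ hT'').2.1 (h P hP m) h3

end Groth.Agent.S1119
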