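import Groth.Statements.S11217
import Mathlib

set_option autoImplicit false
universe u
open CategoryTheory MonoidalCategory CartesianMonoidalCategory MonObj GrpObj AlgebraicGeometry
open scoped TensorProduct
open AGF

namespace Groth.Agent.S11217

open MvPolynomial Finsupp

/-- A derivation of a polynomial ring is the combination of the partial derivatives. -/
theorem mkDerivation_eq_sum {σ R : Type*} [Fintype σ] [DecidableEq σ] [CommSemiring R]
    (g : σ → MvPolynomial σ R) (p : MvPolynomial σ R) :
    mkDerivation R g p = ∑ i, g i * pderiv i p := by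
  have h : mkDerivation R g = ∑ i, g i • (pderiv i : Derivation R _ _) := by
    apply derivation_ext
    intro j
    rw [mkDerivation_X, ← Derivation.coeFnAddMonoidHom_apply, map_sum, Finset.sum_apply]
    simp only [Derivation.coeFnAddMonoidHom_apply, Derivation.smul_apply, pderiv_X, smul_eq_mul]
    rw [Finset.sum_eq_single j]
    · simp
    · intro b _ hb
      simp [Pi.single_apply, hb.symm]
    · intro hj
      exact absurd (Finset.mem_univ j) hj
  rw [h, ← Derivation.coeFnAddMonoidHom_apply, map_sum, Finset.sum_apply]
  simp only [Derivation.coeFnAddMonoidHom_apply, Derivation.smul_apply, smul_eq_mul]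

/-- Let k be a field of characteristic zero and m ≥ 2; in the polynomial ring k[x, y, z, s, t, u, v]
(variables 0, …, 6) let δ be the k-derivation with δ(x) = δ(y) = δ(z) = 0, δ(s) = x^(m+1), δ(t) =
y^(m+1), δ(u) = z^(m+1), δ(v) = (xyz)^m, and grade by total degree in s, t, u, v. If f is
homogeneous of degree n ≥ 1 for this grading and δ(f) = 0, then every coefficient of f, as a
polynomial in s, t, u, v over k[x, y, z], lies in the ideal (x, y, z): every monomial of f has
positive degree in x, y, z. (The published statement allows n = 0, where the constant 1 is a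
counterexample; this row assumes n ≥ 1. The published definition of the derivation gives δ(v) =
(xyz)^(m+1), for which the assertion fails: v − (yz)^(m+1)·s is killed by δ and has the monomial v
with coefficient 1; this row uses δ(v) = (xyz)^m, the exponent of the published action formula and
of the published examples of invariants.) -/
theorem result (k : Type u) [Field k] [CharZero k] (m : ℕ) (hm : 2 ≤ m) (n : ℕ) (hn : 1 ≤ n)
    (f : MvPolynomial (Fin 7) k)
    (hf : MvPolynomial.IsWeightedHomogeneous (![0, 0, 0, 1, 1, 1, 1] : Fin 7 → ℕ) f n)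
    (hδ : MvPolynomial.mkDerivation k
      (![0, 0, 0, MvPolynomial.X 0 ^ (m + 1), MvPolynomial.X 1 ^ (m + 1), MvPolynomial.X 2 ^ (m + 1),
        (MvPolynomial.X 0 * MvPolynomial.X 1 * MvPolynomial.X 2) ^ m] : Fin 7 → MvPolynomial (Fin 7) k) f = 0) :
    ∀ d ∈ f.support, 0 < d 0 + d 1 + d 2 := by
  classical
  -- expand the derivation
  have hsum := mkDerivation_eq_sum
    (![0, 0, 0, X 0 ^ (m + 1), X 1 ^ (m + 1), X 2 ^ (m + 1),
        (X 0 * X 1 * X 2) ^ m] : Fin 7 → MvPolynomial (Fin 7) k) f
  rw [hδ, Fin.sum_univ_seven] at hsum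
  have hg3 : (X 0 ^ (m + 1) : MvPolynomial (Fin 7) k) = monomial (single 0 (m + 1)) 1 :=
    X_pow_eq_monomial
  have hg4 : (X 1 ^ (m + 1) : MvPolynomial (Fin 7) k) = monomial (single 1 (m + 1)) 1 :=
    X_pow_eq_monomial
  have hg5 : (X 2 ^ (m + 1) : MvPolynomial (Fin 7) k) = monomial (single 2 (m + 1)) 1 :=
    X_pow_eq_monomial
  have hg6 : ((X 0 * X 1 * X 2) ^ m : MvPolynomial (Fin 7) k) =
      monomial (single 0 m + single 1 m + single 2 m) 1 := by
    rw [mul_pow, mul_pow, X_pow_eq_monomial, X_pow_eq_monomial, X_pow_eq_monomial,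
      monomial_mul, monomial_mul, _root_.one_mul, _root_.one_mul]
  have hrel : monomial (single 0 (m + 1)) 1 * pderiv 3 f + monomial (single 1 (m + 1)) 1 * pderiv 4 f +
      monomial (single 2 (m + 1)) 1 * pderiv 5 f +
      monomial (single 0 m + single 1 m + single 2 m) 1 * pderiv 6 f = 0 := by
    rw [← hg3, ← hg4, ← hg5, ← hg6]
    have := hsum.symm
    simpa using this
  -- coefficients adjacent to pure exponents vanish
  have hkey : ∀ d' : Fin 7 →₀ ℕ, d' 0 = 0 → d' 1 = 0 → d' 2 = 0 →
      coeff (d' + single 3 1) f = 0 ∧ coeff (d' + single 4 1) f = 0 ∧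
      coeff (d' + single 5 1) f = 0 ∧ coeff (d' + single 6 1) f = 0 := by
    intro d' h0 h1 h2
    have hne : ∀ j : Fin 7, ((d' j : k) + 1) ≠ 0 := fun j => Nat.cast_add_one_ne_zero (d' j)
    refine ⟨?_, ?_, ?_, ?_⟩
    · have := congrArg (coeff (d' + single 0 (m + 1))) hrel
      simp only [coeff_add, coeff_monomial_mul', coeff_zero, _root_.one_mul] at this
      rw [if_pos (by rw [single_le_iff]; simp), if_neg (by rw [single_le_iff]; simp [h1]),
        if_neg (by rw [single_le_iff]; simp [h2]),
        if_neg (by
          intro h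
          have := h 1
          simp [h1] at this
          omega), add_zero, add_zero, add_zero, add_tsub_cancel_right, coeff_pderiv] at this
      exact (mul_eq_zero.mp this).resolve_right (hne 3)
    · have := congrArg (coeff (d' + single 1 (m + 1))) hrel
      simp only [coeff_add, coeff_monomial_mul', coeff_zero, _root_.one_mul] at this
      rw [if_neg (by rw [single_le_iff]; simp [h0]), if_pos (by rw [single_le_iff]; simp),
        if_neg (by rw [single_le_iff]; simp [h2]),
        if_neg (by
          intro h
          have := h 0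
          simp [h0] at this
          omega), add_zero, add_zero, zero_add, add_tsub_cancel_right, coeff_pderiv] at this
      exact (mul_eq_zero.mp this).resolve_right (hne 4)
    · have := congrArg (coeff (d' + single 2 (m + 1))) hrel
      simp only [coeff_add, coeff_monomial_mul', coeff_zero, _root_.one_mul] at this
      rw [if_neg (by rw [single_le_iff]; simp [h0]), if_neg (by rw [single_le_iff]; simp [h1]),
        if_pos (by rw [single_le_iff]; simp),
        if_neg (by
          intro h
          have := h 0
          simp [h0] at this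
          omega), add_zero, zero_add, zero_add, add_tsub_cancel_right, coeff_pderiv] at this
      exact (mul_eq_zero.mp this).resolve_right (hne 5)
    · have := congrArg (coeff (d' + (single 0 m + single 1 m + single 2 m))) hrel
      simp only [coeff_add, coeff_monomial_mul', coeff_zero, _root_.one_mul] at this
      rw [if_neg (by rw [single_le_iff]; simp [h0]), if_neg (by rw [single_le_iff]; simp [h1]),
        if_neg (by rw [single_le_iff]; simp [h2]),
        if_pos le_add_self, zero_add, zero_add, zero_add, add_tsub_cancel_right,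
        coeff_pderiv] at this
      exact (mul_eq_zero.mp this).resolve_right (hne 6)
  intro d hd
  by_contra hpos
  have h0 : d 0 = 0 := by omega
  have h1 : d 1 = 0 := by omega
  have h2 : d 2 = 0 := by omega
  have hc : coeff d f ≠ 0 := MvPolynomial.mem_support_iff.mp hd
  have hw := hf hc
  rw [Finsupp.weight_apply, Finsupp.sum_fintype _ _ (fun i => by simp), Fin.sum_univ_seven] at hw
  simp only [Matrix.cons_val_zero, Matrix.cons_val_one, smul_eq_mul, mul_zero, _root_.mul_one,
    zero_add] at hw
  -- some weight-one coordinate is positive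
  have hsplit : ∀ i : Fin 7, i ≠ 0 → i ≠ 1 → i ≠ 2 → 0 < d i →
      (d - single i 1 : Fin 7 →₀ ℕ) 0 = 0 ∧ (d - single i 1 : Fin 7 →₀ ℕ) 1 = 0 ∧
        (d - single i 1 : Fin 7 →₀ ℕ) 2 = 0 ∧
        d - single i 1 + single i 1 = d := by
    intro i hi0 hi1 hi2 hpos'
    refine ⟨?_, ?_, ?_, ?_⟩
    · simp [Finsupp.tsub_apply, Finsupp.single_apply, hi0, h0]
    · simp [Finsupp.tsub_apply, Finsupp.single_apply, hi1, h1]
    · simp [Finsupp.tsub_apply, Finsupp.single_apply, hi2, h2]
    · refine tsub_add_cancel_of_le ?_
      rw [single_le_iff]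
      exact hpos'
  have hex : 0 < d 3 ∨ 0 < d 4 ∨ 0 < d 5 ∨ 0 < d 6 := by
    by_contra hno
    push_neg at hno
    have e3 : d 3 = 0 := by omega
    have e4 : d 4 = 0 := by omega
    have e5 : d 5 = 0 := by omega
    have e6 : d 6 = 0 := by omega
    simp [e3, e4, e5, e6] at hw
    omega
  rcases hex with h | h | h | h
  · obtain ⟨a, b, c, e⟩ := hsplit 3 (by decide) (by decide) (by decide) h
    exact hc (e ▸ (hkey _ a b c).1)
  · obtain ⟨a, b, c, e⟩ := hsplit 4 (by decide) (by decide) (by decide) h
    exact hc (e ▸ (hkey _ a b c).2.1)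
  · obtain ⟨a, b, c, e⟩ := hsplit 5 (by decide) (by decide) (by decide) h
    exact hc (e ▸ (hkey _ a b c).2.2.1)
  · obtain ⟨a, b, c, e⟩ := hsplit 6 (by decide) (by decide) (by decide) h
    exact hc (e ▸ (hkey _ a b c).2.2.2)

end Groth.Agent.S11217
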