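import Groth.Statements.S11223
import Mathlib

set_option autoImplicit false
universe u
open CAlg

namespace Groth.Agent.S11223

open MvPolynomial

theorem deg_of_mem_support {σ R : Type*} [CommSemiring R] {φ : MvPolynomial σ R} {e : ℕ}
    (hφ : φ.IsHomogeneous e) {s : σ →₀ ℕ} (hs : s ∈ φ.support) : Finsupp.degree s = e := by
  have := hφ (mem_support_iff.mp hs)
  rw [Finsupp.degree_eq_weight_one]
  exact this

/-- Homogeneous component of a product with a homogeneous polynomial. -/
theorem homogeneousComponent_mul_of_isHomogeneous {σ R : Type*} [CommSemiring R]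
    (g z : MvPolynomial σ R) (d e : ℕ) (hz : z.IsHomogeneous d) :
    homogeneousComponent e (g * z) =
      ∑ i ∈ Finset.range (g.totalDegree + 1),
        if e = i + d then homogeneousComponent i g * z else 0 := by
  conv_lhs => rw [← sum_homogeneousComponent g, Finset.sum_mul, map_sum]
  refine Finset.sum_congr rfl fun i _ => ?_
  have hmem : homogeneousComponent i g * z ∈ homogeneousSubmodule σ R (i + d) :=
    (homogeneousComponent_isHomogeneous i g).mul hz
  rw [homogeneousComponent_of_mem hmem]

/-- Let k be a field, let z_1, ..., z_m be homogeneous polynomials of positive degree in the polynomial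
ring k[x_1, ..., x_n], and suppose the radical of the ideal (z_1, ..., z_m) is the ideal (x_1, ...,
x_n) generated by the variables. Then the polynomial ring is integral over the subalgebra generated
by z_1, ..., z_m. (The published statement is over an algebraically closed field; this row takes any
field, which its proof allows.) -/
theorem result (k : Type u) [Field k] (n m : ℕ)
    (z : Fin m → MvPolynomial (Fin n) k) (d : Fin m → ℕ) (hd : ∀ i, 0 < d i)
    (hz : ∀ i, (z i).IsHomogeneous (d i))
    (hrad : (Ideal.span (Set.range z)).radical =
      Ideal.span (Set.range (MvPolynomial.X : Fin n → MvPolynomial (Fin n) k))) :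
    Algebra.IsIntegral (Algebra.adjoin k (Set.range z)) (MvPolynomial (Fin n) k) := by
  classical
  -- a power of the irrelevant ideal lies in the ideal generated by the `z`'s
  obtain ⟨D', hD'⟩ : ∃ D' : ℕ, idealOfVars (Fin n) k ^ D' ≤ Ideal.span (Set.range z) :=
    Ideal.exists_pow_le_of_le_radical_of_fg (by rw [hrad]) (idealOfVars_fg (Fin n) k)
  -- the `B`-submodule spanned by the monomials of low degree
  set gens : Set (MvPolynomial (Fin n) k) :=
    (fun s : Fin n →₀ ℕ => monomial s (1 : k)) '' {s | Finsupp.degree s < D'} with hgens
  have hgens_fin : gens.Finite := (Finsupp.finite_of_degree_lt D').image _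
  set M : Submodule (Algebra.adjoin k (Set.range z)) (MvPolynomial (Fin n) k) :=
    Submodule.span _ gens with hM
  have hzB : ∀ j, z j ∈ Algebra.adjoin k (Set.range z) := fun j =>
    Algebra.subset_adjoin ⟨j, rfl⟩
  -- multiplication by `z j` preserves `M`
  have hzM : ∀ (j : Fin m) (p : MvPolynomial (Fin n) k), p ∈ M → p * z j ∈ M := by
    intro j p hp
    have : p * z j = (⟨z j, hzB j⟩ : Algebra.adjoin k (Set.range z)) • p := by
      rw [Subalgebra.smul_def, smul_eq_mul, mul_comm]
    rw [this]
    exact M.smul_mem _ hp
  -- scalars preserve `M`
  have hcM : ∀ (c : k) (p : MvPolynomial (Fin n) k), p ∈ M → C c * p ∈ M := by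
    intro c p hp
    have : C c * p = (algebraMap k (Algebra.adjoin k (Set.range z)) c) • p := by
      rw [Subalgebra.smul_def, smul_eq_mul]
      rfl
    rw [this]
    exact M.smul_mem _ hp
  -- homogeneous polynomials lie in `M`
  have hhom : ∀ (e : ℕ) (f : MvPolynomial (Fin n) k), f.IsHomogeneous e → f ∈ M := by
    intro e
    induction e using Nat.strong_induction_on with
    | _ e ih =>
      intro f hf
      by_cases he : e < D'
      · rw [f.as_sum]
        refine Submodule.sum_mem _ fun s hs => ?_
        have hmon : monomial s (coeff s f) = C (coeff s f) * monomial s (1 : k) := by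
          rw [C_mul_monomial, mul_one]
        rw [hmon]
        refine hcM _ _ (Submodule.subset_span ⟨s, ?_, rfl⟩)
        show Finsupp.degree s < D'
        rw [deg_of_mem_support hf hs]
        exact he
      · push_neg at he
        have hfI : f ∈ idealOfVars (Fin n) k ^ D' := by
          rw [mem_pow_idealOfVars_iff]
          intro s hs
          rw [deg_of_mem_support hf hs]
          exact he
        obtain ⟨g, hg⟩ := (Ideal.mem_span_range_iff_exists_fun).mp (hD' hfI)
        rw [← homogeneousComponent_eq_self hf, ← hg, map_sum]
        refine Submodule.sum_mem _ fun j _ => ?_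
        rw [homogeneousComponent_mul_of_isHomogeneous (g j) (z j) (d j) e (hz j)]
        refine Submodule.sum_mem _ fun i _ => ?_
        split_ifs with hie
        · refine hzM j _ (ih i ?_ _ (homogeneousComponent_isHomogeneous i (g j)))
          have := hd j
          omega
        · exact M.zero_mem
  -- hence everything does
  have htop : M = ⊤ := by
    rw [eq_top_iff]
    intro f _
    rw [← sum_homogeneousComponent f]
    exact Submodule.sum_mem _ fun i _ => hhom i _ (homogeneousComponent_isHomogeneous i f)
  haveI : Module.Finite (Algebra.adjoin k (Set.range z)) (MvPolynomial (Fin n) k) := by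
    rw [Module.finite_def, ← htop]
    exact Submodule.fg_span hgens_fin
  exact Algebra.IsIntegral.of_finite _ _

end Groth.Agent.S11223
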