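import Groth.Statements.S1123
import Groth.Agent.Lib.Helper2.MonoInjective
import Groth.Agent.Lib.Helper2.QuasiIsoSES
-- import your own Groth.Agent.* helpers here

set_option autoImplicit false
universe v u
open CategoryTheory CategoryTheory.Limits
open CohDer

namespace Groth.Agent.S1123

/-- Let A be an abelian category with enough injectives and S : 0 → A• → B• → C• → 0 a short exact
sequence of cochain complexes all vanishing below degree n. Then there are a short exact sequence T
: 0 → I₁ → I₂ → I₃ → 0 of complexes of injective objects vanishing below degree n and a morphism of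
short exact sequences S ⟶ T whose three components are quasi-isomorphisms. -/
theorem result {A : Type u} [Category.{v} A] [Abelian A] [EnoughInjectives A]
    (S : ShortComplex (CochainComplex A ℤ)) (hS : S.ShortExact) (n : ℤ)
    [S.X₁.IsStrictlyGE n] [S.X₂.IsStrictlyGE n] [S.X₃.IsStrictlyGE n] :
    ∃ (T : ShortComplex (CochainComplex A ℤ)) (φ : S ⟶ T), T.ShortExact ∧
      T.X₁.IsStrictlyGE n ∧ T.X₂.IsStrictlyGE n ∧ T.X₃.IsStrictlyGE n ∧
      (∀ k : ℤ, Injective (T.X₁.X k) ∧ Injective (T.X₂.X k) ∧ Injective (T.X₃.X k)) ∧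
      QuasiIso φ.τ₁ ∧ QuasiIso φ.τ₂ ∧ QuasiIso φ.τ₃ := by
  classical
  obtain ⟨I₃, c, hc, hI₃inj, hI₃⟩ :=
    CochainComplex.Plus.modelCategoryQuillen.exists_quasiIso_injective S.X₃ n
  obtain ⟨K', hK', ι, π, hι, hιq, hπ, hfac⟩ :=
    Groth.Agent.Lib.Helper2.exists_factorization n (S.g ≫ c)
  have hπepi : Epi π := CochainComplex.degreewiseEpiWithInjectiveKernel.epi hπ
  let T : ShortComplex (CochainComplex A ℤ) := ShortComplex.mk (kernel.ι π) π (kernel.condition π)
  have hT : T.ShortExact :=
    { exact := ShortComplex.exact_of_f_is_kernel _ (kernelIsKernel π)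
      mono_f := inferInstanceAs (Mono (kernel.ι π))
      epi_g := hπepi }
  let τ₁ : S.X₁ ⟶ kernel π := kernel.lift π (S.f ≫ ι) (by
    rw [Category.assoc, hfac, ← Category.assoc, S.zero, zero_comp])
  let φ : S ⟶ T :=
    { τ₁ := τ₁
      τ₂ := ι
      τ₃ := c
      comm₁₂ := (kernel.lift_ι π _ _)
      comm₂₃ := hfac }
  -- terms of K' are injective
  have hK'inj : ∀ k : ℤ, Injective (K'.X k) := by
    obtain ⟨Z, hZ⟩ : ∃ Z : CochainComplex A ℤ, IsZero Z := ⟨_, isZero_zero _⟩
    have h0 : CochainComplex.degreewiseEpiWithInjectiveKernel (0 : I₃ ⟶ Z) :=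
      (CochainComplex.degreewiseEpiWithInjectiveKernel_iff_of_isZero _ hZ).2 hI₃inj
    have h1 : CochainComplex.degreewiseEpiWithInjectiveKernel (π ≫ (0 : I₃ ⟶ Z)) :=
      MorphismProperty.comp_mem _ _ _ hπ h0
    exact (CochainComplex.degreewiseEpiWithInjectiveKernel_iff_of_isZero _ hZ).1 h1
  -- terms of the kernel are injective
  have hI₁inj : ∀ k : ℤ, Injective ((kernel π).X k) := by
    intro k
    have e : (kernel π).X k ≅ kernel (π.f k) :=
      PreservesKernel.iso (HomologicalComplex.eval A (ComplexShape.up ℤ) k) π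
    have : Injective (kernel (π.f k)) := (hπ k).2
    exact Injective.of_iso e.symm inferInstance
  have hI₁ge : (kernel π).IsStrictlyGE n := by
    rw [CochainComplex.isStrictlyGE_iff]
    intro i hi
    have hm : Mono ((kernel.ι π).f i) := inferInstance
    exact IsZero.of_mono ((kernel.ι π).f i) (K'.isZero_of_isStrictlyGE n i hi)
  have hτ₁ : QuasiIso φ.τ₁ := Groth.Agent.Lib.Helper2.quasiIso_τ₁ φ hS hT hιq hc
  exact ⟨T, φ, hT, hI₁ge, hK', hI₃, fun k => ⟨hI₁inj k, hK'inj k, hI₃inj k⟩, hτ₁, hιq, hc⟩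

end Groth.Agent.S1123
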