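import Groth.Statements.S11231
import Mathlib
set_option linter.style.haveILetI false

set_option autoImplicit false
universe u
open CategoryTheory MonoidalCategory CartesianMonoidalCategory MonObj GrpObj AlgebraicGeometry
open scoped TensorProduct
open AGF

namespace Groth.Agent.S11231

/-- Let k an algebraically closed field, G a connected reductive linear algebraic group over k, B a
Borel subgroup of G with unipotent radical U (a maximal unipotent subgroup), and let A be a
commutative k-algebra with a rational action of G by algebra automorphisms. If A is an integrally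
closed domain then so is A^U. (The published statement is for A normal; its proof reduces to the
case of a domain, which is the case stated here.) -/
theorem result (k : Type u) [Field k] [IsAlgClosed k]
    (G : Over (Spec (CommRingCat.of k))) [GrpObj G] (hG : Red.IsReductiveOver k G)
    (Bo : Over (Spec (CommRingCat.of k))) [GrpObj Bo] (iB : Bo ⟶ G) (hB : Red.IsBorelOver k iB)
    (U : Over (Spec (CommRingCat.of k))) [GrpObj U] (u : U ⟶ Bo) (hU : Par.IsUnipotentRadical u)
    (A : Type u) [CommRing A] [IsDomain A] [Algebra k A] [IsIntegrallyClosed A]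
    (ρ : VecGrp.GMod G A) (hρ : ρ.IsMult) :
    IsIntegrallyClosed ↥(ρ.fixedSubalgebra hρ (u ≫ iB)) := by
  set S := ρ.fixedSubalgebra hρ (u ≫ iB) with hS
  have hmem : ∀ x : A, x ∈ S ↔ ∀ (B : Type u) [CommRing B] [Algebra k B]
      (h : VecGrp.pt k B ⟶ U),
      ρ.ρ B (h ≫ (u ≫ iB)) ((1 : B) ⊗ₜ[k] x) = (1 : B) ⊗ₜ[k] x := fun x => Iff.rfl
  rw [isIntegrallyClosed_iff (FractionRing S)]
  intro x hx
  obtain ⟨a, b, hb, rfl⟩ := IsFractionRing.div_surjective (A := S) x
  have hb0 : (b : A) ≠ 0 := by
    have := nonZeroDivisors.ne_zero hb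
    intro h0
    apply this
    exact Subtype.ext h0
  let g : S →+* FractionRing A := (algebraMap A (FractionRing A)).comp (algebraMap S A)
  have hg : Function.Injective g :=
    (IsFractionRing.injective A (FractionRing A)).comp Subtype.val_injective
  let ψ : FractionRing S →+* FractionRing A := IsFractionRing.lift hg
  have hψ : IsIntegral A (ψ (algebraMap S (FractionRing S) a / algebraMap S (FractionRing S) b)) := by
    refine IsIntegral.map_of_comp_eq (algebraMap S A) ψ ?_ hx
    ext s
    simp only [RingHom.comp_apply]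
    exact (IsFractionRing.lift_algebraMap hg s).symm
  obtain ⟨c, hc⟩ := IsIntegrallyClosed.algebraMap_eq_of_integral hψ
  have hgb : g b ≠ 0 := by
    intro h0
    apply hb0
    have := hg (h0.trans (map_zero g).symm)
    exact congrArg Subtype.val this
  have hcb : c * (b : A) = (a : A) := by
    apply IsFractionRing.injective A (FractionRing A)
    rw [map_mul, hc, map_div₀]
    have e1 : ψ (algebraMap S (FractionRing S) a) = g a := IsFractionRing.lift_algebraMap hg a
    have e2 : ψ (algebraMap S (FractionRing S) b) = g b := IsFractionRing.lift_algebraMap hg b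
    rw [e1, e2]
    exact div_mul_cancel₀ _ hgb
  have hcS : c ∈ S := by
    rw [hmem]
    intro B _ _ h
    have hbB : ρ.ρ B (h ≫ (u ≫ iB)) ((1 : B) ⊗ₜ[k] (b : A)) = (1 : B) ⊗ₜ[k] (b : A) :=
      (hmem _).1 b.2 B h
    have haB : ρ.ρ B (h ≫ (u ≫ iB)) ((1 : B) ⊗ₜ[k] (a : A)) = (1 : B) ⊗ₜ[k] (a : A) :=
      (hmem _).1 a.2 B h
    have e : ((1 : B) ⊗ₜ[k] c : VecGrp.W k A B) * ((1 : B) ⊗ₜ[k] (b : A)) =
        (1 : B) ⊗ₜ[k] (a : A) := by
      rw [Algebra.TensorProduct.tmul_mul_tmul, _root_.one_mul, hcb]
    have h1 : ρ.ρ B (h ≫ (u ≫ iB)) ((1 : B) ⊗ₜ[k] c) * ((1 : B) ⊗ₜ[k] (b : A)) =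
        ((1 : B) ⊗ₜ[k] c : VecGrp.W k A B) * ((1 : B) ⊗ₜ[k] (b : A)) := by
      conv_lhs => rw [← hbB]
      rw [← (hρ B (h ≫ (u ≫ iB))).1, e, haB]
    have h2 : Function.Injective (LinearMap.lTensor B (LinearMap.mulRight k (b : A))) :=
      Module.Flat.lTensor_preserves_injective_linearMap _
        (fun x y hxy => mul_left_injective₀ hb0 (by simpa using hxy))
    have h3 : ∀ z : TensorProduct k B A, z * ((1 : B) ⊗ₜ[k] (b : A)) =
        LinearMap.lTensor B (LinearMap.mulRight k (b : A)) z := by
      intro z
      induction z using TensorProduct.induction_on with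
      | zero => simp
      | tmul x y => simp [Algebra.TensorProduct.tmul_mul_tmul]
      | add x y hx hy => rw [add_mul, hx, hy, map_add]
    apply h2
    rw [← h3, ← h3]
    exact h1
  refine ⟨⟨c, hcS⟩, ?_⟩
  rw [eq_div_iff (map_ne_zero_of_mem_nonZeroDivisors _ (IsFractionRing.injective S (FractionRing S)) hb),
    ← map_mul]
  congr 1
  exact Subtype.ext hcb

end Groth.Agent.S11231
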