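import Groth.Statements.S11233
import Mathlib

set_option autoImplicit false
universe u
open CAlg

namespace Groth.Agent.S11233

/-- Let k be an algebraically closed field, A an integral domain which is a k-algebra, T an m by m
matrix over A with invertible determinant, and let the additive group k^m act on the polynomial ring
A[y_1, ..., y_m] by the A-algebra maps y_s ↦ y_s + Σ_r h_r T_rs. Then the only invariant polynomials
are the constants: a polynomial fixed by all these substitutions lies in A. -/
theorem result (k : Type u) [Field k] [IsAlgClosed k]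
    (A : Type u) [CommRing A] [IsDomain A] [Algebra k A] (m : ℕ) (T : Matrix (Fin m) (Fin m) A)
    (hT : IsUnit T.det) (f : MvPolynomial (Fin m) A)
    (hf : ∀ h : Fin m → k, MvPolynomial.aeval
      (fun s : Fin m => MvPolynomial.X s + MvPolynomial.C (∑ r : Fin m, algebraMap k A (h r) * T r s)) f = f) :
    ∃ a : A, f = MvPolynomial.C a := by
  classical
  -- the polynomial ring in the `y`-variables and the translation polynomial in the `h`-variables
  let G : Fin m → MvPolynomial (Fin m) (MvPolynomial (Fin m) A) := fun s =>
    MvPolynomial.C (MvPolynomial.X s) +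
      ∑ r : Fin m, MvPolynomial.X r * MvPolynomial.C (MvPolynomial.C (T r s))
  -- evaluation of the translated polynomial at a point `x` of `A[y]^m`
  have heval : ∀ x : Fin m → MvPolynomial (Fin m) A,
      MvPolynomial.eval x (MvPolynomial.aeval G f) =
        MvPolynomial.aeval (fun s => MvPolynomial.X s + ∑ r : Fin m, x r * MvPolynomial.C (T r s))
          f := by
    intro x
    have h1 := MvPolynomial.comp_aeval (R := A) (f := G)
      ((MvPolynomial.aeval x : MvPolynomial (Fin m) (MvPolynomial (Fin m) A) →ₐ[_]
        MvPolynomial (Fin m) A).restrictScalars A)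
    have h2 := congrArg (fun φ => φ f) h1
    simp only [AlgHom.comp_apply, AlgHom.restrictScalars_apply] at h2
    have hG : (fun i => MvPolynomial.aeval x (G i)) =
        fun s => MvPolynomial.X s + ∑ r : Fin m, x r * MvPolynomial.C (T r s) := by
      funext s
      simp [G]
    rw [hG] at h2
    rw [← h2]
    rfl
  -- the difference polynomial vanishes
  have hP : MvPolynomial.aeval G f - MvPolynomial.C f = 0 := by
    haveI : Infinite k := IsAlgClosed.instInfinite
    refine MvPolynomial.funext_set
      (fun _ => Set.range (fun c : k => (MvPolynomial.C (algebraMap k A c) : MvPolynomial (Fin m) A)))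
      (fun _ => Set.infinite_range_of_injective
        ((MvPolynomial.C_injective (Fin m) A).comp (algebraMap k A).injective)) ?_
    intro x hx
    have hx' : ∀ r, ∃ c : k, MvPolynomial.C (algebraMap k A c) = x r := fun r => hx r (Set.mem_univ r)
    choose h hh using hx'
    rw [map_sub, heval, MvPolynomial.eval_C, map_zero, sub_eq_zero]
    convert hf h using 3
    funext s
    congr 1
    rw [map_sum]
    refine Finset.sum_congr rfl fun r _ => ?_
    rw [← hh r, map_mul]
  -- specialise `h ↦ -y T⁻¹`
  have hspec := congrArg (MvPolynomial.eval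
    (fun r => -(∑ s' : Fin m, MvPolynomial.X s' * MvPolynomial.C (T⁻¹ s' r)) :
      Fin m → MvPolynomial (Fin m) A)) hP
  rw [map_sub, heval, MvPolynomial.eval_C, map_zero, sub_eq_zero] at hspec
  have hzero : (fun s => (MvPolynomial.X s : MvPolynomial (Fin m) A) +
      ∑ r : Fin m, (-(∑ s' : Fin m, MvPolynomial.X s' * MvPolynomial.C (T⁻¹ s' r))) *
        MvPolynomial.C (T r s)) = fun _ => 0 := by
    funext s
    have hTT : T⁻¹ * T = 1 := Matrix.nonsing_inv_mul T hT
    have : ∑ r : Fin m, (∑ s' : Fin m, (MvPolynomial.X s' : MvPolynomial (Fin m) A) *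
        MvPolynomial.C (T⁻¹ s' r)) * MvPolynomial.C (T r s) = MvPolynomial.X s := by
      simp_rw [Finset.sum_mul]
      rw [Finset.sum_comm]
      simp_rw [mul_assoc, ← Finset.mul_sum, ← map_mul, ← map_sum]
      have hent : ∀ s' : Fin m, ∑ r : Fin m, T⁻¹ s' r * T r s = (1 : Matrix (Fin m) (Fin m) A) s' s := by
        intro s'
        rw [← hTT, Matrix.mul_apply]
      simp_rw [hent, Matrix.one_apply]
      rw [Finset.sum_eq_single s]
      · simp
      · intro b _ hb
        simp [hb]
      · intro h
        exact absurd (Finset.mem_univ s) h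
    simp_rw [neg_mul, Finset.sum_neg_distrib]
    rw [this, add_neg_cancel]
  rw [hzero, MvPolynomial.aeval_zero'] at hspec
  exact ⟨MvPolynomial.constantCoeff f, hspec.symm⟩

end Groth.Agent.S11233
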