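import Groth.Statements.S11235
import Mathlib

set_option autoImplicit false
universe u
open CAlg

namespace Groth.Agent.S11235

/-- Let k be an algebraically closed field, A a commutative k-algebra, α ∈ k, and M a maximal ideal of
the polynomial ring A[x] containing x - α. Let I ⊆ M be an ideal whose zero set in Spec A[x] is
invariant under the automorphisms x ↦ c·x, c ∈ k nonzero (equivalently: the image of I under each
such A-algebra automorphism has the same radical as I). Then there is a maximal ideal of A[x]
containing I and x. -/
theorem result (k : Type u) [Field k] [IsAlgClosed k]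
    (A : Type u) [CommRing A] [Algebra k A] (α : k)
    (M : Ideal (Polynomial A)) (hM : M.IsMaximal)
    (hα : Polynomial.X - Polynomial.C (algebraMap k A α) ∈ M)
    (I : Ideal (Polynomial A)) (hIM : I ≤ M)
    (hI : ∀ c : kˣ, (I.map (Polynomial.aeval (R := A)
      (algebraMap k A (c : k) • (Polynomial.X : Polynomial A)))).radical = I.radical) :
    ∃ N : Ideal (Polynomial A), N.IsMaximal ∧ I ≤ N ∧ Polynomial.X ∈ N := by
  classical
  by_cases hα0 : α = 0
  · refine ⟨M, hM, hIM, ?_⟩
    simpa [hα0] using hα
  haveI := hM
  letI : Field (Polynomial A ⧸ M) := Ideal.Quotient.field M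
  set q : Polynomial A →+* Polynomial A ⧸ M := Ideal.Quotient.mk M with hq
  set ι : A →+* Polynomial A ⧸ M := q.comp Polynomial.C with hι
  have hqX : q Polynomial.X = ι (algebraMap k A α) := by
    have : q (Polynomial.X - Polynomial.C (algebraMap k A α)) = 0 :=
      Ideal.Quotient.eq_zero_iff_mem.mpr hα
    rw [map_sub, sub_eq_zero] at this
    exact this
  have hqp : ∀ p : Polynomial A, q p = p.eval₂ ι (q Polynomial.X) := by
    intro p
    conv_lhs => rw [← Polynomial.eval₂_C_X (p := p)]
    rw [Polynomial.hom_eval₂]
  -- every element of `I` maps to the zero polynomial over the residue field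
  have hzero : ∀ f ∈ I, f.map ι = 0 := by
    intro f hf
    apply Polynomial.eq_zero_of_infinite_isRoot
    have hroot : ∀ c : kˣ, (f.map ι).IsRoot (ι (algebraMap k A (c : k)) * ι (algebraMap k A α)) := by
      intro c
      have h1 : Polynomial.aeval (R := A) (algebraMap k A (c : k) • (Polynomial.X : Polynomial A)) f ∈
          (I.map (Polynomial.aeval (R := A)
            (algebraMap k A (c : k) • (Polynomial.X : Polynomial A)))).radical :=
        Ideal.le_radical (Ideal.mem_map_of_mem _ hf)
      rw [hI c] at h1
      have h2 : Polynomial.aeval (R := A) (algebraMap k A (c : k) • (Polynomial.X : Polynomial A)) f ∈ M :=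
        (hM.isPrime.radical_le_iff.mpr hIM) h1
      have h3 : q (Polynomial.aeval (R := A)
          (algebraMap k A (c : k) • (Polynomial.X : Polynomial A)) f) = 0 :=
        Ideal.Quotient.eq_zero_iff_mem.mpr h2
      rw [Polynomial.aeval_def, Polynomial.hom_eval₂] at h3
      have hpt : q (algebraMap k A (c : k) • (Polynomial.X : Polynomial A)) =
          ι (algebraMap k A (c : k)) * ι (algebraMap k A α) := by
        rw [Algebra.smul_def, map_mul, hqX]
        rfl
      rw [hpt] at h3
      rw [Polynomial.IsRoot, Polynomial.eval_map]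
      exact h3
    have hψ : Function.Injective (ι.comp (algebraMap k A)) := RingHom.injective _
    have hinj : Set.InjOn
        (fun c : k => ι (algebraMap k A c) * ι (algebraMap k A α)) {c : k | c ≠ 0} := by
      intro c _ c' _ hcc
      have h4 : (ι.comp (algebraMap k A)) (c * α) = (ι.comp (algebraMap k A)) (c' * α) := by
        simpa [map_mul] using hcc
      exact mul_right_cancel₀ hα0 (hψ h4)
    haveI : Infinite k := IsAlgClosed.instInfinite
    have hS : {c : k | c ≠ 0}.Infinite := (Set.finite_singleton (0 : k)).infinite_compl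
    refine (hS.image hinj).mono ?_
    rintro _ ⟨c, hc, rfl⟩
    exact hroot (Units.mk0 c hc)
  refine ⟨RingHom.ker (Polynomial.eval₂RingHom ι 0), ?_, ?_, ?_⟩
  · apply RingHom.ker_isMaximal_of_surjective
    intro l
    obtain ⟨p, rfl⟩ := Ideal.Quotient.mk_surjective l
    refine ⟨Polynomial.C (p.eval (algebraMap k A α)), ?_⟩
    show (Polynomial.C (p.eval (algebraMap k A α))).eval₂ ι 0 = q p
    rw [Polynomial.eval₂_C, hqp, hqX, Polynomial.eval₂_at_apply]
  · intro f hf
    rw [RingHom.mem_ker]
    show f.eval₂ ι 0 = 0
    rw [← Polynomial.eval_map, hzero f hf, Polynomial.eval_zero]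
  · rw [RingHom.mem_ker]
    show Polynomial.X.eval₂ ι 0 = 0
    rw [Polynomial.eval₂_X]

end Groth.Agent.S11235
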