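-- Statement S11238.
import Groth.Statements.S11238
import Mathlib

set_option autoImplicit false
universe u
open AGF
open Polynomial IntermediateField

namespace Groth.Agent.S11238

section Line

variable {k : Type u} [Field k] {n : ℕ} (a a' : Fin n → k)

/-- Restriction to the line through `a` and `a'`. -/
noncomputable def ρ : MvPolynomial (Fin n) k →ₐ[k] k[X] :=
  MvPolynomial.aeval fun i => C (a i) + C (a' i - a i) * X

lemma eval_zero_ρ (P : MvPolynomial (Fin n) k) : (ρ a a' P).eval 0 = MvPolynomial.eval a P := by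
  have h : (Polynomial.evalRingHom (0 : k)).comp ((ρ a a') : MvPolynomial (Fin n) k →+* k[X]) =
      MvPolynomial.eval a := by
    apply MvPolynomial.ringHom_ext
    · intro c
      simp [ρ]
    · intro i
      simp [ρ]
  exact RingHom.congr_fun h P

lemma eval_one_ρ (P : MvPolynomial (Fin n) k) : (ρ a a' P).eval 1 = MvPolynomial.eval a' P := by
  have h : (Polynomial.evalRingHom (1 : k)).comp ((ρ a a') : MvPolynomial (Fin n) k →+* k[X]) =
      MvPolynomial.eval a' := by
    apply MvPolynomial.ringHom_ext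
    · intro c
      simp [ρ]
    · intro i
      simp [ρ]
  exact RingHom.congr_fun h P

end Line

section Luroth

variable {k : Type u} [Field k] {K : Type u} [Field K] [Algebra k K]

lemma of_algHom (ψ : K →ₐ[k] RatFunc k) (hne : ψ.fieldRange ≠ ⊥) :
    ∃ t : K, Transcendental k t ∧ IntermediateField.adjoin k {t} = ⊤ := by
  have hmem : RatFunc.Luroth.generator ψ.fieldRange ∈ ψ.fieldRange :=
    RatFunc.Luroth.generator_mem
  obtain ⟨t, ht⟩ := hmem
  have htr := RatFunc.Luroth.transcendental_generator hne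
  have heq := RatFunc.Luroth.eq_adjoin_generator (E := ψ.fieldRange)
  refine ⟨t, ?_, ?_⟩
  · intro halg
    apply htr
    have : ψ t = RatFunc.Luroth.generator ψ.fieldRange := ht
    rw [← this]
    exact halg.algHom ψ
  · apply IntermediateField.map_injective ψ
    have : ψ t = RatFunc.Luroth.generator ψ.fieldRange := ht
    rw [IntermediateField.adjoin_map, Set.image_singleton, this, ← heq, AlgHom.fieldRange_eq_map]

end Luroth

section Loc

variable {k : Type u} [Field k] {n : ℕ} (a a' : Fin n → k)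

/-- The prime ideal of the line. -/
noncomputable def 𝔭 : Ideal (MvPolynomial (Fin n) k) := RingHom.ker (ρ a a' : MvPolynomial (Fin n) k →+* k[X])

instance : (𝔭 a a').IsPrime := RingHom.ker_isPrime _

lemma mem_𝔭 (P : MvPolynomial (Fin n) k) : P ∈ 𝔭 a a' ↔ ρ a a' P = 0 := RingHom.mem_ker

lemma ne_zero_of_not_mem {P : MvPolynomial (Fin n) k} (h : P ∉ 𝔭 a a') : P ≠ 0 := by
  rintro rfl
  exact h (zero_mem _)

/-- The embedding of the local ring of the line into the function field. -/
noncomputable def ι : Localization.AtPrime (𝔭 a a') →ₐ[k] FractionRing (MvPolynomial (Fin n) k) :=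
  IsLocalization.liftAlgHom (M := (𝔭 a a').primeCompl)
    (f := IsScalarTower.toAlgHom k (MvPolynomial (Fin n) k) (FractionRing (MvPolynomial (Fin n) k)))
    (fun y => by
      have : (y : MvPolynomial (Fin n) k) ≠ 0 := ne_zero_of_not_mem a a' y.2
      exact IsUnit.mk0 _ (by simpa using this))

/-- The restriction map on the local ring of the line. -/
noncomputable def ρ' : Localization.AtPrime (𝔭 a a') →ₐ[k] RatFunc k :=
  IsLocalization.liftAlgHom (M := (𝔭 a a').primeCompl)
    (f := (IsScalarTower.toAlgHom k k[X] (RatFunc k)).comp (ρ a a'))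
    (fun y => by
      have : ρ a a' (y : MvPolynomial (Fin n) k) ≠ 0 := fun h => y.2 ((mem_𝔭 a a' _).2 h)
      exact IsUnit.mk0 _ (by simpa using this))

lemma ι_algebraMap (P : MvPolynomial (Fin n) k) :
    ι a a' (algebraMap _ _ P) = algebraMap _ _ P := by
  simp [ι]

lemma ρ'_algebraMap (P : MvPolynomial (Fin n) k) :
    ρ' a a' (algebraMap _ _ P) = algebraMap k[X] (RatFunc k) (ρ a a' P) := by
  simp [ρ']

lemma ι_injective : Function.Injective (ι a a') := by
  rw [ι, IsLocalization.coe_liftAlgHom, IsLocalization.lift_injective_iff]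
  intro x y
  have h1 : Function.Injective (algebraMap (MvPolynomial (Fin n) k)
      (Localization.AtPrime (𝔭 a a'))) := by
    apply IsLocalization.injective (M := (𝔭 a a').primeCompl)
    intro y hy
    exact mem_nonZeroDivisors_of_ne_zero (ne_zero_of_not_mem a a' hy)
  have h2 : Function.Injective (algebraMap (MvPolynomial (Fin n) k)
      (FractionRing (MvPolynomial (Fin n) k))) := IsFractionRing.injective _ _
  constructor
  · intro h
    rw [h1 h]
  · intro h
    have : x = y := h2 h
    rw [this]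

lemma isUnit_of_ρ'_ne_zero {ℓ : Localization.AtPrime (𝔭 a a')} (h : ρ' a a' ℓ ≠ 0) : IsUnit ℓ := by
  obtain ⟨p, q, rfl⟩ := IsLocalization.exists_mk'_eq (𝔭 a a').primeCompl ℓ
  rw [IsLocalization.AtPrime.isUnit_mk'_iff (Localization.AtPrime (𝔭 a a')) (𝔭 a a')]
  intro hp
  apply h
  have h1 : IsLocalization.mk' (Localization.AtPrime (𝔭 a a')) p q * algebraMap _ _ (q : MvPolynomial (Fin n) k) =
      algebraMap _ _ p := IsLocalization.mk'_spec _ p q
  have h2 := congrArg (ρ' a a') h1
  rw [map_mul, ρ'_algebraMap, ρ'_algebraMap, (mem_𝔭 a a' p).1 hp, map_zero] at h2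
  have hq : algebraMap k[X] (RatFunc k) (ρ a a' (q : MvPolynomial (Fin n) k)) ≠ 0 := by
    have : ρ a a' (q : MvPolynomial (Fin n) k) ≠ 0 := fun h => q.2 ((mem_𝔭 a a' _).2 h)
    simpa using this
  exact (mul_eq_zero.1 h2).resolve_right hq

/-- membership criterion for the range of `ι`. -/
lemma mem_range_ι {f : FractionRing (MvPolynomial (Fin n) k)} (p q : MvPolynomial (Fin n) k)
    (hq : q ∉ 𝔭 a a') (h : f * algebraMap _ _ q = algebraMap _ _ p) : f ∈ (ι a a').range := by
  refine ⟨IsLocalization.mk' _ p (⟨q, hq⟩ : (𝔭 a a').primeCompl), ?_⟩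
  have hq0 : algebraMap (MvPolynomial (Fin n) k) (FractionRing (MvPolynomial (Fin n) k)) q ≠ 0 := by
    simpa using ne_zero_of_not_mem a a' hq
  apply mul_right_cancel₀ hq0
  rw [h]
  have h1 : IsLocalization.mk' (Localization.AtPrime (𝔭 a a')) p (⟨q, hq⟩ : (𝔭 a a').primeCompl) *
      algebraMap _ _ q = algebraMap _ _ p := IsLocalization.mk'_spec _ p _
  have h2 := congrArg (ι a a') h1
  rw [map_mul, ι_algebraMap, ι_algebraMap] at h2
  exact h2

end Loc

section Main

variable {k : Type u} [Field k] {K : Type u} [Field K] [Algebra k K] {n : ℕ}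
  (φ : K →ₐ[k] FractionRing (MvPolynomial (Fin n) k)) (a a' : Fin n → k)

/-- The subalgebra of elements of `K` regular along the line. -/
noncomputable def B' : Subalgebra k K := (ι a a').range.comap φ

lemma mem_B' (y : K) : y ∈ B' φ a a' ↔ φ y ∈ (ι a a').range := Iff.rfl

/-- the local ring of the line, as a subalgebra of the function field -/
noncomputable def e : Localization.AtPrime (𝔭 a a') ≃ₐ[k] (ι a a').range :=
  AlgEquiv.ofInjective (ι a a') (ι_injective a a')

/-- restriction to the line on `B'` -/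
noncomputable def ψ₀ : B' φ a a' →ₐ[k] RatFunc k :=
  (ρ' a a').comp ((e a a').symm.toAlgHom.comp
    ((φ.comp (B' φ a a').val).codRestrict (ι a a').range (fun y => y.2)))

lemma ι_lift (y : B' φ a a') :
    ι a a' ((e a a').symm (((φ.comp (B' φ a a').val).codRestrict (ι a a').range (fun y => y.2)) y)) =
      φ y := by
  set z := ((φ.comp (B' φ a a').val).codRestrict (ι a a').range (fun y => y.2)) y with hz
  have h1 : (e a a') ((e a a').symm z) = z := (e a a').apply_symm_apply z
  have h2 : (((e a a') ((e a a').symm z) : (ι a a').range) : FractionRing (MvPolynomial (Fin n) k)) =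
      ι a a' ((e a a').symm z) := rfl
  rw [← h2, h1]
  rfl

lemma ψ₀_apply (y : B' φ a a') (ℓ : Localization.AtPrime (𝔭 a a')) (h : ι a a' ℓ = φ y) :
    ψ₀ φ a a' y = ρ' a a' ℓ := by
  have : ℓ = (e a a').symm (((φ.comp (B' φ a a').val).codRestrict (ι a a').range (fun y => y.2)) y) := by
    apply ι_injective a a'
    rw [h, ι_lift]
  rw [this]
  rfl

end Main

section Main2

variable {k : Type u} [Field k] {K : Type u} [Field K] [Algebra k K] {n : ℕ}
  (φ : K →ₐ[k] FractionRing (MvPolynomial (Fin n) k)) (a a' : Fin n → k)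

/-- If `φ y = P/Q` with `Q` not vanishing on the line, then `y ∈ B'` and `ψ₀ y = ρ P / ρ Q`. -/
lemma ψ₀_spec (y : K) (P Q : MvPolynomial (Fin n) k) (hQ : Q ∉ 𝔭 a a')
    (h : φ y * algebraMap _ _ Q = algebraMap _ _ P) :
    ∃ hy : y ∈ B' φ a a', ψ₀ φ a a' ⟨y, hy⟩ * algebraMap k[X] (RatFunc k) (ρ a a' Q) =
      algebraMap k[X] (RatFunc k) (ρ a a' P) := by
  have hy : y ∈ B' φ a a' := mem_range_ι a a' P Q hQ h
  refine ⟨hy, ?_⟩
  set ℓ := IsLocalization.mk' (Localization.AtPrime (𝔭 a a')) P (⟨Q, hQ⟩ : (𝔭 a a').primeCompl) with hℓ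
  have h1 : ℓ * algebraMap _ _ Q = algebraMap _ _ P := IsLocalization.mk'_spec _ P _
  have hQ0 : algebraMap (MvPolynomial (Fin n) k) (FractionRing (MvPolynomial (Fin n) k)) Q ≠ 0 := by
    simpa using ne_zero_of_not_mem a a' hQ
  have h2 : ι a a' ℓ = φ y := by
    apply mul_right_cancel₀ hQ0
    rw [h]
    have := congrArg (ι a a') h1
    rwa [map_mul, ι_algebraMap, ι_algebraMap] at this
  rw [ψ₀_apply φ a a' ⟨y, hy⟩ ℓ h2]
  have := congrArg (ρ' a a') h1
  rwa [map_mul, ρ'_algebraMap, ρ'_algebraMap] at this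

end Main2

lemma mem_range_of_isAlgebraic {k : Type u} [Field k] [IsAlgClosed k] {E : Type*} [Field E] [Algebra k E]
    {z : E} (hz : IsAlgebraic k z) : z ∈ (algebraMap k E).range := by
  have hint : IsIntegral k z := hz.isIntegral
  have hirr := minpoly.irreducible hint
  have hdeg := IsAlgClosed.degree_eq_one_of_irreducible k hirr
  exact minpoly.mem_range_of_degree_eq_one k z hdeg

theorem main (k : Type u) [Field k] [IsAlgClosed k]
    (K : Type u) [Field K] [Algebra k K] (hfg : (⊤ : IntermediateField k K).FG)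
    (x : K) (hx : Transcendental k x) (halg : Algebra.IsAlgebraic ↥(IntermediateField.adjoin k {x}) K)
    (n : ℕ) (φ : K →ₐ[k] FractionRing (MvPolynomial (Fin n) k)) :
    ∃ t : K, Transcendental k t ∧ IntermediateField.adjoin k {t} = ⊤ := by
  classical
  -- numerators and denominators
  have hnd : ∀ g : K, ∃ P Q : MvPolynomial (Fin n) k, Q ≠ 0 ∧
      φ g * algebraMap _ _ Q = algebraMap _ _ P := by
    intro g
    obtain ⟨⟨P, Q⟩, h⟩ := IsLocalization.surj (nonZeroDivisors (MvPolynomial (Fin n) k)) (φ g)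
    exact ⟨P, Q, nonZeroDivisors.ne_zero Q.2, h⟩
  choose num den hden hnd using hnd
  have hinjF : Function.Injective (algebraMap (MvPolynomial (Fin n) k)
      (FractionRing (MvPolynomial (Fin n) k))) := IsFractionRing.injective _ _
  have hC : ∀ r : k, algebraMap (MvPolynomial (Fin n) k) (FractionRing (MvPolynomial (Fin n) k))
      (MvPolynomial.C r) = algebraMap k _ r := by
    intro r
    rw [← MvPolynomial.algebraMap_eq, ← IsScalarTower.algebraMap_apply]
  -- the point a'
  obtain ⟨a', ha'⟩ : ∃ a' : Fin n → k, MvPolynomial.eval a' (den x) ≠ 0 := by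
    by_contra hcon
    push Not at hcon
    exact hden x (MvPolynomial.funext (fun v => by simpa using hcon v))
  set d := MvPolynomial.eval a' (den x) with hd
  set c := MvPolynomial.eval a' (num x) with hc
  set H : MvPolynomial (Fin n) k := num x * MvPolynomial.C d - MvPolynomial.C c * den x with hH
  have hH0 : H ≠ 0 := by
    intro h0
    apply hx
    have h1 : num x * MvPolynomial.C d = MvPolynomial.C c * den x := sub_eq_zero.1 h0
    have hq0 : algebraMap (MvPolynomial (Fin n) k) (FractionRing (MvPolynomial (Fin n) k))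
        (den x) ≠ 0 := by
      simpa using hden x
    have h2 : φ x = algebraMap k _ (c / d) := by
      apply mul_right_cancel₀ hq0
      rw [hnd x]
      have h3 := congrArg (algebraMap (MvPolynomial (Fin n) k)
        (FractionRing (MvPolynomial (Fin n) k))) h1
      rw [map_mul, map_mul, hC, hC] at h3
      have hd0 : algebraMap k (FractionRing (MvPolynomial (Fin n) k)) d ≠ 0 := by
        simpa using ha'
      apply mul_right_cancel₀ hd0
      rw [h3, map_div₀]
      field_simp
    have hφinj : Function.Injective φ := φ.toRingHom.injective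
    have h3 : x = algebraMap k K (c / d) := hφinj (by rw [h2, AlgHom.commutes])
    rw [h3]
    exact isAlgebraic_algebraMap _
  -- the point a
  obtain ⟨T, hT⟩ := hfg
  have hprod : H * den x * ∏ g ∈ T, den g ≠ 0 := by
    refine mul_ne_zero (mul_ne_zero hH0 (hden x)) ?_
    rw [Finset.prod_ne_zero_iff]
    intro g _
    exact hden g
  obtain ⟨a, ha⟩ : ∃ a : Fin n → k, MvPolynomial.eval a (H * den x * ∏ g ∈ T, den g) ≠ 0 := by
    by_contra hcon
    push Not at hcon
    exact hprod (MvPolynomial.funext (fun v => by simpa using hcon v))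
  rw [map_mul, map_mul, map_prod] at ha
  have haH : MvPolynomial.eval a H ≠ 0 := fun h => ha (by rw [h]; ring)
  have hax : MvPolynomial.eval a (den x) ≠ 0 := fun h => ha (by rw [h]; ring)
  have haT : ∀ g ∈ T, MvPolynomial.eval a (den g) ≠ 0 := by
    intro g hg h
    apply ha
    rw [Finset.prod_eq_zero hg h, mul_zero]
  have hnotmem : ∀ Q : MvPolynomial (Fin n) k, MvPolynomial.eval a Q ≠ 0 → Q ∉ 𝔭 a a' := by
    intro Q hQ hmem
    apply hQ
    rw [← eval_zero_ρ a a', (mem_𝔭 a a' Q).1 hmem, eval_zero]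
  -- membership in B'
  obtain ⟨hxB, hxψ⟩ := ψ₀_spec φ a a' x (num x) (den x) (hnotmem _ hax) (hnd x)
  have hTB : ∀ g ∈ T, g ∈ B' φ a a' := by
    intro g hg
    exact (ψ₀_spec φ a a' g (num g) (den g) (hnotmem _ (haT g hg)) (hnd g)).1
  -- nonconstancy
  have hnonconst : ∀ r : k, ψ₀ φ a a' ⟨x, hxB⟩ ≠ algebraMap k (RatFunc k) r := by
    intro r hr
    rw [hr] at hxψ
    have h1 : algebraMap k (RatFunc k) r = algebraMap k[X] (RatFunc k) (C r) := by
      rw [← Polynomial.algebraMap_eq, ← IsScalarTower.algebraMap_apply]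
    rw [h1, ← map_mul] at hxψ
    have h2 : C r * ρ a a' (den x) = ρ a a' (num x) :=
      IsFractionRing.injective k[X] (RatFunc k) hxψ
    have e0 := congrArg (Polynomial.eval 0) h2
    have e1 := congrArg (Polynomial.eval 1) h2
    rw [eval_mul, eval_C, eval_zero_ρ, eval_zero_ρ] at e0
    rw [eval_mul, eval_C, eval_one_ρ, eval_one_ρ] at e1
    apply haH
    rw [hH, map_sub, map_mul, map_mul, MvPolynomial.eval_C, MvPolynomial.eval_C, ← e0, hc, hd, ← e1]
    ring
  -- injectivity of ψ₀
  have hinj : ∀ y : B' φ a a', y ≠ 0 → ψ₀ φ a a' y ≠ 0 := by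
    intro y hy hψy
    open scoped IntermediateField.algebraAdjoinAdjoin in
    have hyalg : IsAlgebraic (Algebra.adjoin k {x}) (y : K) :=
      (IsFractionRing.isAlgebraic_iff (Algebra.adjoin k {x}) (IntermediateField.adjoin k {x}) K).2
        (halg.isAlgebraic (y : K))
    have hyK : (y : K) ≠ 0 := fun h => hy (Subtype.ext h)
    obtain ⟨q, hq0, hq⟩ := hyalg.exists_nonzero_coeff_and_aeval_eq_zero
      (mem_nonZeroDivisors_of_ne_zero hyK)
    have hle : Algebra.adjoin k {x} ≤ B' φ a a' := Algebra.adjoin_le (by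
      intro z hz
      rw [Set.mem_singleton_iff.1 hz]
      exact hxB)
    let j : Algebra.adjoin k {x} →ₐ[k] B' φ a a' := Subalgebra.inclusion hle
    -- the relation in B'
    have hrel : Polynomial.eval₂ (j : Algebra.adjoin k {x} →+* B' φ a a') y q = 0 := by
      apply Subtype.ext
      have : ((Polynomial.eval₂ (j : Algebra.adjoin k {x} →+* B' φ a a') y q : B' φ a a') : K) =
          Polynomial.aeval (y : K) q := by
        rw [Polynomial.aeval_def, Polynomial.eval₂_eq_sum_range, Polynomial.eval₂_eq_sum_range]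
        push_cast
        rfl
      rw [this, hq]
      rfl
    have hrel2 := congrArg ((ψ₀ φ a a' : B' φ a a' →ₐ[k] RatFunc k) : B' φ a a' →+* RatFunc k) hrel
    have hψy' : ((ψ₀ φ a a' : B' φ a a' →ₐ[k] RatFunc k) : B' φ a a' →+* RatFunc k) y = 0 := hψy
    rw [Polynomial.hom_eval₂, hψy', map_zero, Polynomial.eval₂_at_zero] at hrel2
    -- the constant coefficient
    obtain ⟨r, hr⟩ : ∃ r : k[X], (q.coeff 0 : K) = Polynomial.aeval x r := by
      have h1 : ((q.coeff 0 : Algebra.adjoin k {x}) : K) ∈ (Polynomial.aeval x : k[X] →ₐ[k] K).range := by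
        rw [← Algebra.adjoin_singleton_eq_range_aeval]
        exact (q.coeff 0).2
      obtain ⟨r, hr⟩ := h1
      exact ⟨r, hr.symm⟩
    have hr0 : r ≠ 0 := by
      rintro rfl
      apply hq0
      apply Subtype.ext
      rw [hr, map_zero]
      rfl
    have hjq : j (q.coeff 0) = Polynomial.aeval (⟨x, hxB⟩ : B' φ a a') r := by
      apply Subtype.ext
      have : ((Polynomial.aeval (⟨x, hxB⟩ : B' φ a a') r : B' φ a a') : K) = Polynomial.aeval x r := by
        rw [← Subalgebra.coe_val, ← Polynomial.aeval_algHom_apply]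
        rfl
      rw [this, ← hr]
      rfl
    have hroot : Polynomial.aeval (ψ₀ φ a a' ⟨x, hxB⟩) r = 0 := by
      rw [Polynomial.aeval_algHom_apply, ← hjq]
      exact hrel2
    have halgx : IsAlgebraic k (ψ₀ φ a a' ⟨x, hxB⟩) := ⟨r, hr0, hroot⟩
    obtain ⟨c', hc'⟩ := mem_range_of_isAlgebraic halgx
    exact hnonconst c' hc'.symm
  -- B' is closed under inverses
  have hinv : ∀ y ∈ B' φ a a', y⁻¹ ∈ B' φ a a' := by
    intro y hy
    by_cases hy0 : y = 0
    · rw [hy0, inv_zero]
      exact zero_mem _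
    obtain ⟨ℓ, hℓ⟩ := hy
    have hℓ' : ι a a' ℓ = φ y := hℓ
    have hne : ρ' a a' ℓ ≠ 0 := by
      rw [← ψ₀_apply φ a a' ⟨y, ⟨ℓ, hℓ⟩⟩ ℓ hℓ']
      exact hinj _ (fun h => hy0 (congrArg Subtype.val h))
    obtain ⟨u, hu⟩ := isUnit_of_ρ'_ne_zero a a' hne
    refine ⟨((u⁻¹ : (Localization.AtPrime (𝔭 a a'))ˣ) : Localization.AtPrime (𝔭 a a')), ?_⟩
    have h1 : ι a a' ((u⁻¹ : (Localization.AtPrime (𝔭 a a'))ˣ) : Localization.AtPrime (𝔭 a a')) *
        φ y = 1 := by
      rw [← hℓ', ← hu, ← map_mul, Units.inv_mul, map_one]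
    show (ι a a') _ = φ y⁻¹
    rw [map_inv₀]
    exact eq_inv_of_mul_eq_one_left h1
  -- B' = ⊤
  have htop : ∀ y : K, y ∈ B' φ a a' := by
    intro y
    have h1 : IntermediateField.adjoin k (T : Set K) ≤ (B' φ a a').toIntermediateField hinv := by
      rw [IntermediateField.adjoin_le_iff]
      intro g hg
      exact hTB g hg
    rw [hT] at h1
    exact h1 (IntermediateField.mem_top)
  -- the embedding into `k(s)`
  let ψ : K →ₐ[k] RatFunc k := (ψ₀ φ a a').comp
    ((AlgHom.id k K).codRestrict (B' φ a a') htop)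
  apply of_algHom ψ
  intro hbot
  have hmem : ψ x ∈ ψ.fieldRange := ⟨x, rfl⟩
  rw [hbot, IntermediateField.mem_bot] at hmem
  obtain ⟨r, hr⟩ := hmem
  exact hnonconst r hr.symm

/-- Over an algebraically closed field k, a unirational variety of dimension one is rational. Field
form: let K be a finitely generated field extension of k of transcendence degree one (K is algebraic
over k(x) for some x ∈ K transcendental over k) admitting a k-embedding into a purely transcendental
extension k(t_1, ..., t_n). Then K = k(t) for some t ∈ K transcendental over k. -/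
theorem result (k : Type u) [Field k] [IsAlgClosed k]
    (K : Type u) [Field K] [Algebra k K] (hfg : (⊤ : IntermediateField k K).FG)
    (x : K) (hx : Transcendental k x) (halg : Algebra.IsAlgebraic ↥(IntermediateField.adjoin k {x}) K)
    (n : ℕ) (φ : K →ₐ[k] FractionRing (MvPolynomial (Fin n) k)) :
    ∃ t : K, Transcendental k t ∧ IntermediateField.adjoin k {t} = ⊤ := by
  exact main k K hfg x hx halg n φ

end Groth.Agent.S11238
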