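import Groth.Statements.S11239
import Mathlib

set_option autoImplicit false
universe u
open AGF

namespace Groth.Agent.S11239

theorem submatrix_mul_upper {R : Type*} [CommRing R] {m n p : ℕ} (hp : p ≤ n)
    (X : Matrix (Fin m) (Fin n) R) (T : Matrix (Fin n) (Fin n) R)
    (hT0 : ∀ b c : Fin n, c < b → T b c = 0) (I : Fin p → Fin m) :
    (X * T).submatrix I (Fin.castLE hp) =
      X.submatrix I (Fin.castLE hp) * T.submatrix (Fin.castLE hp) (Fin.castLE hp) := by
  classical
  ext a c
  rw [Matrix.submatrix_apply, Matrix.mul_apply, Matrix.mul_apply]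
  simp only [Matrix.submatrix_apply]
  have hinj : Function.Injective (Fin.castLE hp) := Fin.castLE_injective hp
  rw [← Finset.sum_image (f := fun b => X (I a) b * T b (Fin.castLE hp c))
    (s := Finset.univ) (g := Fin.castLE hp) (fun x _ y _ h => hinj h)]
  symm
  apply Finset.sum_subset (Finset.subset_univ _)
  intro b _ hb
  have hb' : ∀ b' : Fin p, Fin.castLE hp b' ≠ b := by
    intro b' h
    exact hb (Finset.mem_image.mpr ⟨b', Finset.mem_univ _, h⟩)
  have hpb : p ≤ b.val := by
    by_contra hlt
    push_neg at hlt
    exact hb' ⟨b.val, hlt⟩ (Fin.ext rfl)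
  have hcb : Fin.castLE hp c < b := by
    rw [Fin.lt_def]
    simp only [Fin.coe_castLE]
    exact lt_of_lt_of_le c.isLt hpb
  rw [hT0 b _ hcb, mul_zero]

/-- Let X be an m × n matrix over a commutative ring, u an upper triangular n × n matrix with ones on
the diagonal, t a diagonal n × n matrix and p ≤ n. For any choice of p rows, the minor of X·t·u
formed with these rows and the first p columns equals (t_11 ⋯ t_pp) times the corresponding minor of
X: the minors on the first p columns are semi-invariant of weight ω_p under right multiplication by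
the upper triangular group. (The published statement is for the generic matrix over an algebraically
closed field; this row states the identity over any commutative ring.) -/
theorem result (R : Type u) [CommRing R] (m n p : ℕ) (hp : p ≤ n)
    (X : Matrix (Fin m) (Fin n) R) (d : Fin n → R) (u : Matrix (Fin n) (Fin n) R)
    (hu1 : ∀ i, u i i = 1) (hu0 : ∀ i j, j < i → u i j = 0) (I : Fin p → Fin m) :
    ((X * Matrix.diagonal d * u).submatrix I (Fin.castLE hp)).det =
      (∏ i : Fin p, d (Fin.castLE hp i)) * (X.submatrix I (Fin.castLE hp)).det := by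
  classical
  -- `T = diag(d) * u` is upper triangular
  have hT0 : ∀ b c : Fin n, c < b → (Matrix.diagonal d * u) b c = 0 := by
    intro b c hcb
    rw [Matrix.diagonal_mul, hu0 b c hcb, mul_zero]
  have hTd : ∀ b : Fin n, (Matrix.diagonal d * u) b b = d b := by
    intro b
    rw [Matrix.diagonal_mul, hu1 b, mul_one]
  have hsub : (X * Matrix.diagonal d * u).submatrix I (Fin.castLE hp) =
      X.submatrix I (Fin.castLE hp) *
        (Matrix.diagonal d * u).submatrix (Fin.castLE hp) (Fin.castLE hp) := by
    rw [Matrix.mul_assoc]
    exact submatrix_mul_upper hp X _ hT0 I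
  rw [hsub, Matrix.det_mul, mul_comm]
  congr 1
  have htri : ((Matrix.diagonal d * u).submatrix (Fin.castLE hp) (Fin.castLE hp)).IsUpperTriangular := by
    intro b c hcb
    exact hT0 _ _ (by
      rw [Fin.lt_def]
      simpa using hcb)
  rw [Matrix.det_of_isUpperTriangular htri]
  refine Finset.prod_congr rfl fun b _ => ?_
  rw [Matrix.submatrix_apply, hTd]

end Groth.Agent.S11239
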