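import Groth.Statements.S11240
import Mathlib

set_option autoImplicit false
universe u
open AGF

namespace Groth.Agent.S11240

/-- A minor of the generic matrix on injective row and column maps is nonzero. -/
theorem det_generic_submatrix_ne_zero (k : Type u) [Field k] (n m p : ℕ)
    (r : Fin p → Fin n) (c : Fin p → Fin m) (hr : Function.Injective r) (hc : Function.Injective c) :
    ((Matrix.of fun a c => (MvPolynomial.X (a, c) : MvPolynomial (Fin n × Fin m) k)).submatrix r c).det
      ≠ 0 := by
  have hinj : Function.Injective (Prod.map r c) := hr.prodMap hc
  have e : (Matrix.of fun a c => (MvPolynomial.X (a, c) : MvPolynomial (Fin n × Fin m) k)).submatrix r c =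
      (MvPolynomial.rename (R := k) (Prod.map r c)).toRingHom.mapMatrix
        (Matrix.mvPolynomialX (Fin p) (Fin p) k) := by
    ext a b
    simp [Matrix.mvPolynomialX]
  rw [e, ← RingHom.map_det]
  intro h
  exact Matrix.det_mvPolynomialX_ne_zero (Fin p) k
    (MvPolynomial.rename_injective _ hinj (by simpa using h))


/-- For a single root subgroup: let k be an algebraically closed field and X = (x_ab) the generic n × m
matrix over the polynomial ring k[x_ab]. Let i ≠ j be row indices and let I (rows) and J (columns)
be strictly increasing sequences of length p. The minor of X with rows I and columns J is invariant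
under replacing X by (1 + b·E_ij)·X for every b ∈ k (the one-parameter unipotent group adding b
times row j to row i) if and only if j occurs in I whenever i does. (The published statement gives
the criterion for the group generated by several such root subgroups, which is the conjunction of
these.) -/
theorem result (k : Type u) [Field k] [IsAlgClosed k] (n m p : ℕ)
    (i j : Fin n) (hij : i ≠ j) (I : Fin p ↪o Fin n) (J : Fin p ↪o Fin m) :
    (∀ b : k, ((Matrix.transvection i j (MvPolynomial.C b) *
        (Matrix.of fun a c => (MvPolynomial.X (a, c) : MvPolynomial (Fin n × Fin m) k))).submatrix I J).det =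
        ((Matrix.of fun a c => (MvPolynomial.X (a, c) : MvPolynomial (Fin n × Fin m) k)).submatrix I J).det) ↔
      (i ∈ Set.range I → j ∈ Set.range I) := by
  classical
  set X : Matrix (Fin n) (Fin m) (MvPolynomial (Fin n × Fin m) k) :=
    Matrix.of fun a c => (MvPolynomial.X (a, c) : MvPolynomial (Fin n × Fin m) k) with hX
  have hne : ∀ (b : k) (a : Fin n) (c : Fin m), a ≠ i →
      (Matrix.transvection i j (MvPolynomial.C b) * X :
        Matrix (Fin n) (Fin m) (MvPolynomial (Fin n × Fin m) k)) a c = X a c :=
    fun b a c ha => Matrix.transvection_mul_apply_of_ne i j a c ha _ X
  have hsame : ∀ (b : k) (c : Fin m),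
      (Matrix.transvection i j (MvPolynomial.C b) * X :
        Matrix (Fin n) (Fin m) (MvPolynomial (Fin n × Fin m) k)) i c =
        X i c + MvPolynomial.C b * X j c :=
    fun b c => Matrix.transvection_mul_apply_same i j c _ X
  by_cases hi : i ∈ Set.range I
  · obtain ⟨s, rfl⟩ := hi
    have key : ∀ b : k, ((Matrix.transvection (I s) j (MvPolynomial.C b) * X).submatrix I J) =
        (X.submatrix I J).updateRow s
          ((X.submatrix I J) s + (MvPolynomial.C b : MvPolynomial (Fin n × Fin m) k) • fun c => X j (J c)) := by
      intro b
      refine Matrix.ext fun a c => ?_
      by_cases ha : a = s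
      · subst ha
        rw [Matrix.updateRow_self, Matrix.submatrix_apply]
        refine (hsame b (J c)).trans ?_
        simp
      · have : I a ≠ I s := fun h => ha (I.injective h)
        rw [Matrix.updateRow_ne ha, Matrix.submatrix_apply, Matrix.submatrix_apply]
        exact hne b _ _ this
    have key2 : ∀ b : k, ((Matrix.transvection (I s) j (MvPolynomial.C b) * X).submatrix I J).det =
        (X.submatrix I J).det +
          MvPolynomial.C b * ((X.submatrix I J).updateRow s (fun c => X j (J c))).det := by
      intro b
      rw [key b, Matrix.det_updateRow_add, Matrix.det_updateRow_smul, Matrix.updateRow_eq_self]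
    by_cases hj : j ∈ Set.range I
    · obtain ⟨s', rfl⟩ := hj
      have hss' : s ≠ s' := fun h => hij (by rw [h])
      have hz : ((X.submatrix I J).updateRow s (fun c => X (I s') (J c))).det = 0 := by
        refine Matrix.det_zero_of_row_eq hss' ?_
        rw [Matrix.updateRow_self, Matrix.updateRow_ne hss'.symm]
        rfl
      constructor
      · intro _ _; exact ⟨s', rfl⟩
      · intro _ b
        rw [key2 b, hz, mul_zero, add_zero]
    · constructor
      · intro h
        exfalso
        have h1 := h 1
        rw [key2 1, MvPolynomial.C_1, _root_.one_mul] at h1
        have h2 : ((X.submatrix I J).updateRow s (fun c => X j (J c))).det = 0 := by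
          simpa using h1
        have e : (X.submatrix I J).updateRow s (fun c => X j (J c)) =
            X.submatrix (Function.update I s j) J := by
          refine Matrix.ext fun a c => ?_
          by_cases ha : a = s
          · subst ha
            simp [Matrix.updateRow_self]
          · simp [Matrix.updateRow_ne ha, Function.update_of_ne ha]
        rw [e] at h2
        refine det_generic_submatrix_ne_zero k n m p (Function.update I s j) J ?_ J.injective h2
        intro a a' haa'
        by_cases ha : a = s
        · by_cases ha' : a' = s
          · rw [ha, ha']
          · exfalso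
            rw [ha, Function.update_self, Function.update_of_ne ha'] at haa'
            exact hj ⟨a', haa'.symm⟩
        · by_cases ha' : a' = s
          · exfalso
            rw [ha', Function.update_self, Function.update_of_ne ha] at haa'
            exact hj ⟨a, haa'⟩
          · rw [Function.update_of_ne ha, Function.update_of_ne ha'] at haa'
            exact I.injective haa'
      · intro h
        exact absurd (h ⟨s, rfl⟩) hj
  · constructor
    · intro _ h; exact absurd h hi
    · intro _ b
      congr 1
      refine Matrix.ext fun a c => ?_
      have : I a ≠ i := fun h => hi ⟨a, h⟩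
      rw [Matrix.submatrix_apply, Matrix.submatrix_apply]
      exact hne b _ _ this

end Groth.Agent.S11240
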