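import Groth.Statements.S11243
import Mathlib

set_option autoImplicit false
universe u v w
open RootD

namespace Groth.Agent.S11243

open RootPairing

theorem flip_torsion {ι : Type u} {M : Type v} {N : Type w}
    [Fintype ι] [AddCommGroup M] [AddCommGroup N]
    (P : RootPairing ι ℤ M N) : Module.IsTorsionFree ℤ M ∧ Module.IsTorsionFree ℤ N := by
  constructor
  · exact Function.Injective.moduleIsTorsionFree (P.toLinearMap : M → (N →ₗ[ℤ] ℤ))
      (LinearMap.IsPerfPair.bijective_left P.toLinearMap).injective (fun r m => map_smul _ r m)
  · exact Function.Injective.moduleIsTorsionFree (P.toLinearMap.flip : N → (M →ₗ[ℤ] ℤ))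
      (LinearMap.IsPerfPair.bijective_right P.toLinearMap).injective (fun r m => map_smul _ r m)

/-- Sum over positive coroots of the pairing with a simple root is 2. -/
theorem sum_pairing_eq_two {ι : Type u} {M : Type v} {N : Type w}
    [Fintype ι] [DecidableEq ι] [AddCommGroup M] [AddCommGroup N]
    (P : RootPairing ι ℤ M N) [P.IsReduced] [P.IsCrystallographic] (b : P.Base)
    [DecidablePred b.IsPos] (j : ι) (hj : j ∈ b.support) :
    ∑ i ∈ Finset.univ.filter (fun i => b.IsPos i), P.pairing i j = 2 := by
  have hjpos : b.IsPos j := Base.isPos_of_mem_support hj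
  have hjmem : j ∈ Finset.univ.filter (fun i => b.IsPos i) := by simp [hjpos]
  rw [← Finset.add_sum_erase _ _ hjmem, P.pairing_same]
  set T := (Finset.univ.filter (fun i => b.IsPos i)).erase j with hT
  have hnegj : ¬ b.IsPos (P.reflectionPerm j j) := by
    have h1 := b.height_reflectionPerm_self j
    have h2 : b.height j = 1 := Base.height_one_of_mem_support hj
    rw [Base.isPos_iff]
    have : b.height (P.reflectionPerm j j) = -1 := by rw [← h2]; exact h1
    omega
  have hstab : ∀ i, i ∈ T → P.reflectionPerm j i ∈ T := by
    intro i hi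
    rw [hT, Finset.mem_erase, Finset.mem_filter] at hi ⊢
    obtain ⟨hij, -, hipos⟩ := hi
    refine ⟨?_, Finset.mem_univ _, hipos.reflectionPerm hj hij⟩
    intro h
    have : i = P.reflectionPerm j j := by
      have h2 := congrArg (P.reflectionPerm j) h
      rwa [P.reflectionPerm_self] at h2
    rw [this] at hipos
    exact hnegj hipos
  have hsum : ∑ i ∈ T, P.pairing i j = ∑ i ∈ T, P.pairing (P.reflectionPerm j i) j := by
    refine (Finset.sum_equiv (P.reflectionPerm j) ?_ ?_).symm
    · intro i
      constructor
      · exact hstab i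
      · intro h
        have := hstab _ h
        rwa [P.reflectionPerm_self] at this
    · intro i _; rfl
  have hneg : ∀ i, P.pairing (P.reflectionPerm j i) j = - P.pairing i j := by
    intro i
    rw [← P.pairing_reflectionPerm, P.pairing_reflectionPerm_self_right]
  simp only [hneg, Finset.sum_neg_distrib] at hsum
  omega


/-- (b), for a connected group, as a statement about its root datum: let P be a finite reduced
crystallographic root pairing over ℤ with weight lattice M, and b a base of P (simple roots,
determining the positive roots). Then there is an additive map h : M → ℤ which is positive on every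
positive root (so that h strictly increases along the dominance order) and non-negative on every
dominant weight, i.e. on every ω ∈ M pairing non-negatively with all simple coroots. (Part (c),
invariance under the component group of a disconnected group, is not stated.) -/
theorem result {ι : Type u} {M : Type v} {N : Type w}
    [Fintype ι] [AddCommGroup M] [AddCommGroup N]
    (P : RootPairing ι ℤ M N) [P.IsReduced] [P.IsCrystallographic] (b : P.Base) :
    ∃ h : M →+ ℤ, (∀ i : ι, b.IsPos i → 0 < h (P.root i)) ∧
      ∀ ω : M, (∀ j ∈ b.support, 0 ≤ P.toLinearMap ω (P.coroot j)) → 0 ≤ h ω := by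
  classical
  obtain ⟨hM, hN⟩ := flip_torsion P
  haveI := hM
  haveI := hN
  let bf := b.flip
  let Pos : Finset ι := Finset.univ.filter (fun i => bf.IsPos i)
  obtain ⟨ρ2, hρ2⟩ : ∃ ρ2 : N, ρ2 = ∑ k ∈ Pos, P.coroot k := ⟨_, rfl⟩
  have hsimple : ∀ j ∈ b.support, P.toLinearMap (P.root j) ρ2 = 2 := by
    intro j hj
    have h1 := sum_pairing_eq_two P.flip bf j hj
    rw [hρ2, map_sum]
    simp only [P.root_coroot_eq_pairing]
    simpa using h1
  refine ⟨(P.toLinearMap.flip ρ2).toAddMonoidHom, ?_, ?_⟩
  · intro i hi
    show 0 < P.toLinearMap (P.root i) ρ2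
    obtain ⟨f, -, -, hf⟩ := b.exists_root_eq_sum_int i
    have hheight := Base.height_eq_sum hf
    rw [hf, map_sum, LinearMap.sum_apply]
    have : ∀ j ∈ b.support, (P.toLinearMap (f j • P.root j)) ρ2 = f j * 2 := by
      intro j hj
      rw [map_smul, LinearMap.smul_apply, hsimple j hj, smul_eq_mul]
    rw [Finset.sum_congr rfl this, ← Finset.sum_mul, ← hheight]
    have := (Base.isPos_iff b).mp hi
    omega
  · intro ω hω
    show 0 ≤ P.toLinearMap ω ρ2
    rw [hρ2, map_sum]
    refine Finset.sum_nonneg ?_
    intro k hk
    have hkpos : bf.IsPos k := (Finset.mem_filter.mp hk).2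
    obtain ⟨g, -, hg, hgk⟩ := bf.exists_root_eq_sum_int k
    have hheight := Base.height_eq_sum hgk
    have hg0 : 0 < g := by
      rcases hg with hg | hg
      · exact hg
      · exfalso
        have h1 : ∑ j ∈ bf.support, g j ≤ 0 :=
          Finset.sum_nonpos fun j _ => (Pi.lt_def.mp hg).1 j
        have h2 := (Base.isPos_iff bf).mp hkpos
        omega
    have hck : P.coroot k = ∑ j ∈ b.support, g j • P.coroot j := hgk
    rw [hck, map_sum]
    refine Finset.sum_nonneg ?_
    intro j hj
    rw [map_smul, smul_eq_mul]
    exact mul_nonneg ((Pi.lt_def.mp hg0).1 j) (hω j hj)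

end Groth.Agent.S11243
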