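import Groth.Statements.S11249
import Mathlib
import Groth.Agent.Lib.Helper17.Minors

set_option autoImplicit false
universe u
open W4bk4grassmannian

namespace Groth.Agent.S11249

open W4bk4grassmannian Groth.Agent.Lib.Helper17 in
/-- One inclusion. -/
theorem span_le (K : Type u) [Field K] (d n : ℕ)
    (A A' : Matrix (Fin n) (Fin d) K) (hA : LinearIndependent K A.transpose) (c : K)
    (h : ∀ θ : Idx d n, (A.submatrix θ.1 id).det = c * (A'.submatrix θ.1 id).det) :
    Submodule.span K (Set.range A.transpose) ≤ Submodule.span K (Set.range A'.transpose) := by
  classical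
  obtain ⟨θ, hθ⟩ := exists_idx_det_ne_zero A hA
  have h' := det_submatrix_eq_of_sorted A A' c h
  have key : A * (A.submatrix θ.1 id).adjugate = c • (A' * (A'.submatrix θ.1 id).adjugate) := by
    ext r t
    rw [Matrix.smul_apply, mul_adjugate_submatrix_apply, mul_adjugate_submatrix_apply, h', smul_eq_mul]
  have h2 : (A.submatrix θ.1 id).det • A =
      A' * (c • ((A'.submatrix θ.1 id).adjugate * A.submatrix θ.1 id)) := by
    have := congrArg (· * A.submatrix θ.1 id) key
    simp only [Matrix.mul_assoc, Matrix.adjugate_mul, Matrix.mul_smul, Matrix.mul_one,
      Matrix.smul_mul] at this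
    rw [this, Matrix.mul_smul]
  have h3 : A = A' * ((A.submatrix θ.1 id).det⁻¹ •
      (c • ((A'.submatrix θ.1 id).adjugate * A.submatrix θ.1 id))) := by
    rw [Matrix.mul_smul, ← h2, smul_smul, inv_mul_cancel₀ hθ, one_smul]
  exact span_cols_le_of_eq_mul A A' _ h3


open W4bk4grassmannian in
/-- Injectivity of the Plücker map, in matrix form: let K be a field, A and A' two n × d matrices over K
with linearly independent columns, and suppose there is a nonzero scalar c with det A_θ = c · det
A'_θ for every strictly increasing d-tuple θ of row indices (A_θ the d × d submatrix on the rows θ).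
Then the columns of A and of A' span the same subspace of K^n. (The published statement is over an
algebraically closed field; this row allows any field K.) -/
theorem result (K : Type u) [Field K] (d n : ℕ)
    (A A' : Matrix (Fin n) (Fin d) K) (hA : LinearIndependent K A.transpose)
    (hA' : LinearIndependent K A'.transpose) (c : K) (hc : c ≠ 0)
    (h : ∀ θ : Idx d n, (A.submatrix θ.1 id).det = c * (A'.submatrix θ.1 id).det) :
    Submodule.span K (Set.range A.transpose) = Submodule.span K (Set.range A'.transpose) := by
  apply le_antisymm
  · exact span_le K d n A A' hA c h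
  · refine span_le K d n A' A hA' c⁻¹ ?_
    intro θ
    rw [h θ, ← mul_assoc, inv_mul_cancel₀ hc, _root_.one_mul]

end Groth.Agent.S11249
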