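import Groth.Statements.S1125
import Groth.Agent.S0083
import Mathlib.AlgebraicGeometry.Morphisms.FlatDescent
import Mathlib.AlgebraicGeometry.Morphisms.Immersion
import Mathlib.AlgebraicGeometry.Morphisms.UniversallyOpen
-- import your own Groth.Agent.* helpers here

set_option autoImplicit false
open CategoryTheory CategoryTheory.Limits AlgebraicGeometry Opposite
universe u
open Desc

namespace Groth.Agent.S1125


theorem range_fst_of_isPullback {P X Y Z : Scheme.{u}} {fst : P ⟶ X} {snd : P ⟶ Y}
    {f : X ⟶ Z} {g : Y ⟶ Z} (h : IsPullback fst snd f g) :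
    Set.range fst = f ⁻¹' Set.range g := by
  ext x
  constructor
  · rintro ⟨p, rfl⟩
    refine ⟨snd p, ?_⟩
    rw [← Scheme.Hom.comp_apply, ← h.w, Scheme.Hom.comp_apply]
  · rintro ⟨y, hy⟩
    obtain ⟨p, hp, -⟩ := Scheme.exists_preimage_of_isPullback h x y hy.symm
    exact ⟨p, hp⟩

/-- If the base change of a morphism along a flat, surjective morphism locally of finite presentation is
an immersion, then the morphism is an immersion. (Single-cover form of the fppf-local statement;
Zariski-locality on the target gives the covering form.) -/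
theorem result :
    MorphismProperty.DescendsAlong (@IsImmersion : MorphismProperty Scheme.{u})
      (@Surjective ⊓ @Flat ⊓ @LocallyOfFinitePresentation : MorphismProperty Scheme.{u}) := by
  constructor
  intro A X Y Z fst snd f g hpb hf hfst
  obtain ⟨⟨hf1, hf2⟩, hf3⟩ := hf
  have hf1' : Surjective f := hf1
  have hf2' : Flat f := hf2
  have hf3' : LocallyOfFinitePresentation f := hf3
  have hfst' : IsImmersion fst := hfst
  have hopen : IsOpenMap f := f.isOpenMap
  have hrange : Set.range fst = f ⁻¹' Set.range g := range_fst_of_isPullback hpb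
  have hlc : IsLocallyClosed (Set.range g) := by
    rw [isLocallyClosed_iff_isOpen_coborder]
    have h1 : IsOpen (f ⁻¹' coborder (Set.range g)) := by
      rw [← coborder_preimage hopen f.continuous, ← hrange]
      exact fst.isLocallyClosed_range.isOpen_coborder
    have h2 : coborder (Set.range g) = f '' (f ⁻¹' coborder (Set.range g)) :=
      (Set.image_preimage_eq _ f.surjective).symm
    rw [h2]
    exact hopen _ h1
  let U : Z.Opens := ⟨coborder (Set.range g), hlc.isOpen_coborder⟩
  have hgU : Set.range g ⊆ (U : Set Z) := subset_coborder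
  let gU : Y ⟶ U := IsOpenImmersion.lift U.ι g (by simpa using hgU)
  have hgU' : gU ≫ U.ι = g := IsOpenImmersion.lift_fac _ _ _
  have hres : IsPullback (f ⁻¹ᵁ U).ι (f ∣_ U) f U.ι := (isPullback_morphismRestrict f U).flip
  have hpb' : IsPullback fst snd f (gU ≫ U.ι) := by rw [hgU']; exact hpb
  have htop := IsPullback.of_right' hpb' hres
  set fstU : A ⟶ f ⁻¹ᵁ U := hres.lift fst (snd ≫ gU) (by rw [hpb'.w, Category.assoc]) with hfstU
  have hfstU1 : fstU ≫ (f ⁻¹ᵁ U).ι = fst := hres.lift_fst _ _ _
  have himm : IsImmersion fstU := by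
    have : IsImmersion (fstU ≫ (f ⁻¹ᵁ U).ι) := by rw [hfstU1]; exact hfst'
    exact IsImmersion.of_comp fstU (f ⁻¹ᵁ U).ι
  -- closed range
  have hrgU : Set.range gU = Subtype.val ⁻¹' Set.range g := by
    ext x
    constructor
    · rintro ⟨y, rfl⟩
      refine ⟨y, ?_⟩
      rw [← hgU', Scheme.Hom.comp_apply]
      rfl
    · rintro ⟨y, hy⟩
      refine ⟨y, ?_⟩
      apply U.ι.isOpenEmbedding.injective
      rw [← Scheme.Hom.comp_apply, hgU']
      exact hy
  have hclU : IsClosed (Set.range gU) := by
    rw [hrgU]
    exact isClosed_preimage_val_coborder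
  have hcl : IsClosed (Set.range fstU) := by
    rw [range_fst_of_isPullback htop]
    exact hclU.preimage (f ∣_ U).continuous
  have hci : IsClosedImmersion fstU := IsClosedImmersion.of_isPreimmersion fstU hcl
  -- descend
  have hdesc := Groth.Agent.S0083.result.{u}
  have hQ : (@Surjective ⊓ @Flat ⊓ @LocallyOfFinitePresentation : MorphismProperty Scheme.{u})
      (f ∣_ U) := ⟨⟨MorphismProperty.of_isPullback hres hf1, MorphismProperty.of_isPullback hres hf2⟩,
        MorphismProperty.of_isPullback hres hf3⟩
  have hgUci : IsClosedImmersion gU :=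
    MorphismProperty.of_isPullback_of_descendsAlong (P := @IsClosedImmersion)
      (Q := (@Surjective ⊓ @Flat ⊓ @LocallyOfFinitePresentation : MorphismProperty Scheme.{u}))
      htop hQ hci
  show IsImmersion g
  rw [← hgU']
  infer_instance

end Groth.Agent.S1125
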