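import Groth.Statements.S11254
-- import your own Groth.Agent.* helpers here
import Mathlib
import Groth.Agent.Lib.Helper22.GrassSMT
import Groth.Agent.S11268

set_option autoImplicit false
universe u
open W4bk4grassmannian

namespace Groth.Agent.S11254

open W4bk4grassmannian in
/-- Let K be an algebraically closed field, 0 < d < n, and I(d,n) the strictly increasing maps Fin d →
Fin n ordered entrywise; S = K[X_θ : θ ∈ I(d,n)] is the Plücker polynomial ring and, for τ ∈ I(d,n),
J(τ) ⊆ S is the ideal of polynomials vanishing at the d × d row-minors of every n × d matrix over K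
whose minors on rows φ ≰ τ are zero (the homogeneous ideal of the Schubert variety X(τ) ⊆ G(d,n)).
Let τ ∈ I(d,n) admit some φ < τ (X(τ) has positive dimension). Then J(τ) + (X_τ) = ⋂_φ J(φ), the
intersection over the Schubert divisors φ of τ, i.e. the φ < τ with Σ_t (φ_t - t) + 1 = Σ_t (τ_t -
t). (For the zero-dimensional Schubert variety there is no divisor and the left side is the
irrelevant ideal, so positive dimension is required at the level of ideals.) -/
theorem result (K : Type u) [Field K] [IsAlgClosed K]
    (d n : ℕ) (hd : 0 < d) (hdn : d < n) (τ : Idx d n) (hτ : ∃ φ : Idx d n, φ < τ) :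
    schubertVanishing K d n τ ⊔ Ideal.span {MvPolynomial.X τ} =
      ⨅ φ ∈ divisors τ, schubertVanishing K d n φ := by
  classical
  open Groth.Agent.Lib.Helper22.Grass in
  obtain ⟨r, τs, -, hrange⟩ := (Set.toFinite (divisors τ)).fin_param
  have hdiv : ∀ i, τs i ∈ divisors τ := fun i => hrange ▸ Set.mem_range_self i
  have hJ : (⨅ φ ∈ divisors τ, schubertVanishing K d n φ) = ⨅ i, schubertVanishing K d n (τs i) := by
    rw [← hrange, iInf_range]
  rw [hJ]
  -- a divisor exists
  obtain ⟨φ₀, hφ₀⟩ := hτ
  obtain ⟨ψ₀, hψ₀, -⟩ := Groth.Agent.S11268.result d n φ₀ τ hφ₀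
  obtain ⟨i₀, hi₀⟩ : ∃ i, τs i = ψ₀ := by
    have : ψ₀ ∈ Set.range τs := hrange ▸ hψ₀
    exact this
  refine Groth.Agent.Lib.Helper22.Grass.ideal_eq_of_span_of_indep (K := K) _ _ ?_
    (fun c : Groth.Agent.Lib.Helper22.Grass.ChU τs => chainMon K c.2.1) ?_
    (Groth.Agent.Lib.Helper22.Grass.linearIndependent_chainMon (K := K) hd τs)
  · -- I ≤ J
    refine sup_le (le_iInf fun i => ?_) ?_
    · exact Groth.Agent.Lib.Helper22.Grass.schubertVanishing_anti (le_of_lt (hdiv i).1)
    · rw [Ideal.span_le, Set.singleton_subset_iff, SetLike.mem_coe, Ideal.mem_iInf]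
      intro i
      exact Groth.Agent.Lib.Helper22.Grass.X_mem_schubertVanishing (τs i) τ
        (fun h => lt_irrefl _ (lt_of_le_of_lt h (hdiv i).1))
  · refine Groth.Agent.Lib.Helper22.Grass.span_chainMon_eq_top τs _
      (le_trans (Groth.Agent.Lib.Helper22.Grass.plIdealTop_le_schubertVanishing τ) le_sup_left)
      (fun m c hc hex => ?_)
    by_cases hall : ∀ k, c k ≤ τ
    · by_cases hlt : ∀ k, c k < τ
      · exfalso
        apply hex
        obtain _ | m' := m
        · exact ⟨i₀, fun k => k.elim0⟩
        · obtain ⟨ψ, hψ, hle⟩ := Groth.Agent.S11268.result d n (c 0) τ (hlt 0)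
          obtain ⟨i, hi⟩ : ∃ i, τs i = ψ := by
            have : ψ ∈ Set.range τs := hrange ▸ hψ
            exact this
          exact ⟨i, fun k => hi ▸ le_trans (hc (Fin.zero_le k)) hle⟩
      · push Not at hlt
        obtain ⟨k, hk⟩ := hlt
        have hk' : c k = τ := by
          by_contra hne
          exact hk (lt_of_le_of_ne (hall k) hne)
        refine Groth.Agent.Lib.Helper22.Grass.chainMon_mem_of_X_mem _ c k ?_
        rw [hk']
        exact Ideal.mem_sup_right (Ideal.subset_span rfl)
    · push Not at hall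
      obtain ⟨k, hk⟩ := hall
      exact Groth.Agent.Lib.Helper22.Grass.chainMon_mem_of_X_mem _ c k
        (Ideal.mem_sup_left (Groth.Agent.Lib.Helper22.Grass.X_mem_schubertVanishing τ (c k) hk))

end Groth.Agent.S11254
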