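import Groth.Statements.S11257
import Mathlib
import Groth.Agent.Lib.Helper17.RegSeqSES

set_option autoImplicit false
universe u
open W4bk4grassmannian

namespace Groth.Agent.S11257

/-- Let A be a Noetherian local integral domain with maximal ideal m, I and J ideals of A, d ≥ 1, and
f_1, …, f_d ∈ m. Assume depth A/(I+J) ≥ d - 1, depth A/I ≥ d and depth A/J ≥ d (depths of the
quotients as A-modules), that f_1, …, f_d is a regular sequence on A/I and on A/J, and that f_1, …,
f_{d-1} is a regular sequence on A/(I+J). Then f_1, …, f_d is a regular sequence on A/(I ∩ J). -/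
theorem result (A : Type u) [CommRing A] [IsDomain A]
    [IsNoetherianRing A] [IsLocalRing A] (I J : Ideal A) (d : ℕ) (hd : 0 < d) (f : Fin d → A)
    (hf : ∀ k, f k ∈ IsLocalRing.maximalIdeal A)
    (hIJd : ((d - 1 : ℕ) : ℕ∞) ≤ LocCoh.depth A (A ⧸ (I ⊔ J)))
    (hId : (d : ℕ∞) ≤ LocCoh.depth A (A ⧸ I)) (hJd : (d : ℕ∞) ≤ LocCoh.depth A (A ⧸ J))
    (hI : RingTheory.Sequence.IsRegular (A ⧸ I) (List.ofFn f))
    (hJ : RingTheory.Sequence.IsRegular (A ⧸ J) (List.ofFn f))
    (hIJ : RingTheory.Sequence.IsRegular (A ⧸ (I ⊔ J)) ((List.ofFn f).take (d - 1))) :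
    RingTheory.Sequence.IsRegular (A ⧸ (I ⊓ J)) (List.ofFn f) := by
  classical
  have hIJle1 : I ⊓ J ≤ LinearMap.ker ((Submodule.mkQ I).prod (Submodule.mkQ J)) := by
    intro x hx
    rw [LinearMap.mem_ker, LinearMap.prod_apply]
    show (Submodule.mkQ I x, Submodule.mkQ J x) = 0
    rw [Prod.mk_eq_zero]
    exact ⟨(Submodule.Quotient.mk_eq_zero I).mpr hx.1, (Submodule.Quotient.mk_eq_zero J).mpr hx.2⟩
  let i : (A ⧸ (I ⊓ J)) →ₗ[A] (A ⧸ I) × (A ⧸ J) :=
    Submodule.liftQ (I ⊓ J) ((Submodule.mkQ I).prod (Submodule.mkQ J)) hIJle1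
  have hIle : I ≤ LinearMap.ker (Submodule.mkQ (I ⊔ J)) := by
    intro x hx
    rw [LinearMap.mem_ker]
    exact (Submodule.Quotient.mk_eq_zero (I ⊔ J)).mpr (le_sup_left (a := I) hx)
  have hJle : J ≤ LinearMap.ker (Submodule.mkQ (I ⊔ J)) := by
    intro x hx
    rw [LinearMap.mem_ker]
    exact (Submodule.Quotient.mk_eq_zero (I ⊔ J)).mpr (le_sup_right (b := J) hx)
  let p : (A ⧸ I) × (A ⧸ J) →ₗ[A] (A ⧸ (I ⊔ J)) :=
    (Submodule.liftQ I (Submodule.mkQ (I ⊔ J)) hIle).coprod
      (-(Submodule.liftQ J (Submodule.mkQ (I ⊔ J)) hJle))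
  have hi_apply : ∀ a : A, i (Submodule.Quotient.mk a) =
      (Submodule.Quotient.mk a, Submodule.Quotient.mk a) := fun a => rfl
  have hp_apply : ∀ a b : A, p (Submodule.Quotient.mk a, Submodule.Quotient.mk b) =
      Submodule.Quotient.mk (a - b) := by
    intro a b
    simp only [p, LinearMap.coprod_apply, LinearMap.neg_apply, Submodule.liftQ_apply,
      Submodule.mkQ_apply, Submodule.Quotient.mk_sub]
    rw [sub_eq_add_neg]
  have hi : Function.Injective i := by
    rw [← LinearMap.ker_eq_bot, eq_bot_iff]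
    intro x hx
    obtain ⟨a, rfl⟩ := Submodule.Quotient.mk_surjective _ x
    rw [LinearMap.mem_ker, hi_apply, Prod.mk_eq_zero] at hx
    rw [Submodule.mem_bot, Submodule.Quotient.mk_eq_zero]
    exact ⟨(Submodule.Quotient.mk_eq_zero I).mp hx.1, (Submodule.Quotient.mk_eq_zero J).mp hx.2⟩
  have hp : Function.Surjective p := by
    intro y
    obtain ⟨a, rfl⟩ := Submodule.Quotient.mk_surjective _ y
    refine ⟨(Submodule.Quotient.mk a, Submodule.Quotient.mk 0), ?_⟩
    rw [hp_apply, sub_zero]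
  have hip : Function.Exact i p := by
    intro y
    constructor
    · intro hy
      obtain ⟨y1, y2⟩ := y
      obtain ⟨a, rfl⟩ := Submodule.Quotient.mk_surjective _ y1
      obtain ⟨b, rfl⟩ := Submodule.Quotient.mk_surjective _ y2
      rw [hp_apply, Submodule.Quotient.mk_eq_zero, Submodule.mem_sup] at hy
      obtain ⟨u, hu, v, hv, huv⟩ := hy
      refine ⟨Submodule.Quotient.mk (a - u), ?_⟩
      rw [hi_apply, Prod.mk.injEq]
      constructor
      · rw [Submodule.Quotient.eq]
        simpa using I.neg_mem hu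
      · rw [Submodule.Quotient.eq]
        have : a - u - b = v := by
          have h2 : a = u + v + b := by rw [huv]; ring
          rw [h2]; ring
        rw [this]; exact hv
    · rintro ⟨x, rfl⟩
      obtain ⟨a, rfl⟩ := Submodule.Quotient.mk_surjective _ x
      rw [hi_apply, hp_apply, sub_self, Submodule.Quotient.mk_zero]
  have hprod : RingTheory.Sequence.IsWeaklyRegular ((A ⧸ I) × (A ⧸ J)) (List.ofFn f) :=
    Groth.Agent.Lib.Helper17.isWeaklyRegular_prod hI.toIsWeaklyRegular hJ.toIsWeaklyRegular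
  have hdrop : (List.ofFn f).dropLast = (List.ofFn f).take (d - 1) := by
    rw [List.dropLast_eq_take, List.length_ofFn]
  have hw : RingTheory.Sequence.IsWeaklyRegular (A ⧸ (I ⊓ J)) (List.ofFn f) :=
    Groth.Agent.Lib.Helper17.isWeaklyRegular_of_ses (List.ofFn f) i p hi hip hp hprod
      (hdrop ▸ hIJ.toIsWeaklyRegular)
  have hnt : Nontrivial (A ⧸ (I ⊓ J)) := by
    have h1 : Nontrivial (A ⧸ I) := hI.nontrivial
    have hne : I ≠ ⊤ := by
      intro h
      exact not_subsingleton (A ⧸ I) (Ideal.Quotient.subsingleton_iff.mpr h)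
    exact Ideal.Quotient.nontrivial_iff.mpr (fun h => hne (top_le_iff.mp (h ▸ inf_le_left)))
  refine RingTheory.Sequence.IsRegular.of_isWeaklyRegular_of_mem_maximalIdeal (A ⧸ (I ⊓ J)) ?_ hw
  intro r hr
  rw [List.mem_ofFn] at hr
  obtain ⟨k, rfl⟩ := hr
  exact hf k

end Groth.Agent.S11257
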