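import Groth.Statements.S1126
import Mathlib.AlgebraicGeometry.Morphisms.FlatDescent
-- import your own Groth.Agent.* helpers here

set_option autoImplicit false
open CategoryTheory CategoryTheory.Limits AlgebraicGeometry Opposite
universe u
open Desc

namespace Groth.Agent.S1126


theorem isUnivHomeo_iff {X Y : Scheme.{u}} (f : X ⟶ Y) :
    FlatMor.IsUnivHomeo f ↔ UniversallyClosed f ∧ UniversallyInjective f ∧ Surjective f := by
  constructor
  · intro h
    refine ⟨?_, ?_, ?_⟩
    · rw [universallyClosed_eq]
      intro X' Y' i₁ i₂ f' hpb
      exact (h i₁ i₂ f' hpb : IsHomeomorph f').isClosedMap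
    · rw [universallyInjective_eq]
      intro X' Y' i₁ i₂ f' hpb
      exact (h i₁ i₂ f' hpb : IsHomeomorph f').injective
    · have h' : IsHomeomorph f := MorphismProperty.universally_le _ _ h
      exact ⟨h'.surjective⟩
  · rintro ⟨h1, h2, h3⟩ X' Y' i₁ i₂ f' hpb
    have hc : UniversallyClosed f' := MorphismProperty.of_isPullback hpb.flip h1
    have hi : UniversallyInjective f' := MorphismProperty.of_isPullback hpb.flip h2
    have hs : Surjective f' := MorphismProperty.of_isPullback hpb.flip h3
    show IsHomeomorph f'
    rw [isHomeomorph_iff_continuous_isClosedMap_bijective]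
    exact ⟨f'.continuous, f'.isClosedMap, f'.injective, f'.surjective⟩

/-- If the base change of a morphism along a quasi-compact flat surjective morphism to its target is a
universal homeomorphism, then the morphism is a universal homeomorphism. (Stated for a single
quasi-compact flat surjective base change; combined with Zariski-locality on the target this gives
the fpqc-local form.) -/
theorem result :
    MorphismProperty.DescendsAlong (FlatMor.IsUnivHomeo.{u})
      (@Surjective ⊓ @Flat ⊓ @QuasiCompact : MorphismProperty Scheme.{u}) := by
  constructor
  intro A X Y Z fst snd f g hpb hf hfst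
  rw [isUnivHomeo_iff] at hfst ⊢
  obtain ⟨h1, h2, h3⟩ := hfst
  exact ⟨MorphismProperty.of_isPullback_of_descendsAlong hpb hf h1,
    MorphismProperty.of_isPullback_of_descendsAlong hpb hf h2,
    MorphismProperty.of_isPullback_of_descendsAlong hpb hf h3⟩

end Groth.Agent.S1126
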