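-- Statement S11262.
import Groth.Statements.S11262
import Mathlib

set_option autoImplicit false
universe u v
open W4bk4grassmannian

namespace Groth.Agent.S11262


open Finset

lemma card_support_eq {L : Type v} [DecidableEq L] (C : Finset L) (hC : C.Nonempty) (m : ℕ)
    (hm : 1 ≤ m) :
    #{d ∈ C.finsuppAntidiag m | d.support = C} = Nat.choose (m - 1) (#C - 1) := by
  have hC1 : 1 ≤ #C := Finset.card_pos.mpr hC
  have key : ∀ d : L →₀ ℕ, d.support = C → ∀ a ∈ C, 1 ≤ d a := by
    intro d hd a ha
    rw [← hd, Finsupp.mem_support_iff] at ha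
    omega
  by_cases hlt : m < #C
  · rw [Nat.choose_eq_zero_of_lt (by omega), Finset.card_eq_zero, Finset.filter_eq_empty_iff]
    intro d hd hsupp
    rw [mem_finsuppAntidiag] at hd
    have := Finset.card_nsmul_le_sum C d 1 (key d hsupp)
    simp only [smul_eq_mul, mul_one] at this
    omega
  · push_neg at hlt
    set ind : L →₀ ℕ := Finsupp.indicator C (fun _ _ => 1) with hind
    have hind_apply : ∀ a, ind a = if a ∈ C then 1 else 0 := by
      intro a
      rw [hind, Finsupp.indicator_apply]
      split_ifs <;> rfl
    have hind_sum : C.sum ind = #C := by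
      rw [Finset.sum_congr rfl (fun a ha => by rw [hind_apply, if_pos ha])]
      simp
    have hind_supp : ind.support ⊆ C := by
      intro a ha
      rw [Finsupp.mem_support_iff, hind_apply] at ha
      by_contra h
      simp [h] at ha
    have h1 : #{d ∈ C.finsuppAntidiag m | d.support = C} = #(C.finsuppAntidiag (m - #C)) := by
      symm
      refine Finset.card_nbij' (fun e => e + ind) (fun d => d - ind) ?_ ?_ ?_ ?_
      · intro e he
        simp only [Finset.mem_coe, mem_finsuppAntidiag] at he
        simp only [Finset.coe_filter, Set.mem_setOf_eq, mem_finsuppAntidiag]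
        have hsub : (e + ind).support ⊆ C :=
          (Finsupp.support_add).trans (Finset.union_subset he.2 hind_supp)
        refine ⟨⟨?_, hsub⟩, ?_⟩
        · simp only [Finsupp.coe_add, Pi.add_apply, Finset.sum_add_distrib, he.1, hind_sum]
          omega
        · apply Finset.Subset.antisymm hsub
          intro a ha
          rw [Finsupp.mem_support_iff, Finsupp.add_apply, hind_apply, if_pos ha]
          omega
      · intro d hd
        simp only [Finset.coe_filter, Set.mem_setOf_eq, mem_finsuppAntidiag] at hd
        simp only [Finset.mem_coe, mem_finsuppAntidiag]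
        refine ⟨?_, ?_⟩
        · have : ∀ a ∈ C, (d - ind) a = d a - ind a := fun a _ => Finsupp.tsub_apply _ _ _
          rw [Finset.sum_congr rfl this, Finset.sum_tsub_distrib, hd.1.1, hind_sum]
          intro a ha
          rw [hind_apply, if_pos ha]
          exact key d hd.2 a ha
        · intro a ha
          rw [Finsupp.mem_support_iff, Finsupp.tsub_apply] at ha
          apply hd.1.2
          rw [Finsupp.mem_support_iff]
          omega
      · intro e _
        exact add_tsub_cancel_right e ind
      · intro d hd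
        simp only [Finset.coe_filter, Set.mem_setOf_eq, mem_finsuppAntidiag] at hd
        apply tsub_add_cancel_of_le
        intro a
        rw [hind_apply]
        split_ifs with ha
        · exact key d hd.2 a ha
        · exact Nat.zero_le _
    rw [h1, Finset.card_finsuppAntidiag_nat_eq_choose]
    have e1 : #C + (m - #C) - 1 = m - 1 := by omega
    have e2 : m - #C = (m - 1) - (#C - 1) := by omega
    rw [e1, e2, Nat.choose_symm (by omega)]



open MvPolynomial

section alg
variable (K : Type u) [Field K] (L : Type v) [PartialOrder L]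

def gens : Set (L →₀ ℕ) :=
  {s | ∃ a b : L, ¬ a ≤ b ∧ ¬ b ≤ a ∧ s = Finsupp.single a 1 + Finsupp.single b 1}

lemma ideal_eq :
    Ideal.span {f : MvPolynomial L K | ∃ a b : L, ¬ a ≤ b ∧ ¬ b ≤ a ∧
      f = MvPolynomial.X a * MvPolynomial.X b} =
      Ideal.span ((fun s => monomial s (1 : K)) '' gens L) := by
  congr 1
  ext f
  constructor
  · rintro ⟨a, b, h1, h2, rfl⟩
    exact ⟨_, ⟨a, b, h1, h2, rfl⟩, by simp [X, monomial_mul]⟩
  · rintro ⟨s, ⟨a, b, h1, h2, rfl⟩, rfl⟩
    exact ⟨a, b, h1, h2, by simp [X, monomial_mul]⟩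

variable {L} in
lemma exists_gen_le_iff (d : L →₀ ℕ) :
    (∃ s ∈ gens L, s ≤ d) ↔ ¬ IsChain (fun a b : L => a ≤ b) (d.support : Set L) := by
  classical
  constructor
  · rintro ⟨s, ⟨a, b, h1, h2, rfl⟩, hle⟩ hch
    have hab : a ≠ b := fun h => h1 (h ▸ le_refl a)
    have ha : a ∈ d.support := by
      rw [Finsupp.mem_support_iff]
      have := hle a
      simp only [Finsupp.coe_add, Pi.add_apply, Finsupp.single_eq_same] at this
      omega
    have hb : b ∈ d.support := by
      rw [Finsupp.mem_support_iff]
      have := hle b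
      simp only [Finsupp.coe_add, Pi.add_apply, Finsupp.single_eq_same] at this
      omega
    rcases hch (Finset.mem_coe.2 ha) (Finset.mem_coe.2 hb) hab with h | h
    · exact h1 h
    · exact h2 h
  · intro h
    rw [IsChain, Set.Pairwise] at h
    push Not at h
    obtain ⟨a, ha, b, hb, hab, h1, h2⟩ := h
    refine ⟨_, ⟨a, b, h1, h2, rfl⟩, ?_⟩
    intro x
    simp only [Finsupp.coe_add, Pi.add_apply]
    rw [Finset.mem_coe, Finsupp.mem_support_iff] at ha hb
    by_cases hxa : x = a
    · subst hxa
      rw [Finsupp.single_eq_same, Finsupp.single_eq_of_ne hab]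
      omega
    · by_cases hxb : x = b
      · subst hxb
        rw [Finsupp.single_eq_same, Finsupp.single_eq_of_ne hxa]
        omega
      · rw [Finsupp.single_eq_of_ne hxa, Finsupp.single_eq_of_ne hxb]
        omega

end alg




section alg
variable (K : Type u) [Field K] (L : Type v) [PartialOrder L] [Fintype L]

open Classical in
noncomputable def SS (m : ℕ) : Finset (L →₀ ℕ) :=
  {d ∈ (Finset.univ : Finset L).finsuppAntidiag m | IsChain (fun a b : L => a ≤ b) (d.support : Set L)}

variable {L} in
lemma mem_SS (m : ℕ) (d : L →₀ ℕ) :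
    d ∈ SS L m ↔ d.degree = m ∧ IsChain (fun a b : L => a ≤ b) (d.support : Set L) := by
  classical
  rw [SS, Finset.mem_filter, mem_finsuppAntidiag, Finsupp.degree_eq_sum]
  simp

noncomputable abbrev II : Ideal (MvPolynomial L K) :=
  Ideal.span {f : MvPolynomial L K | ∃ a b : L, ¬ a ≤ b ∧ ¬ b ≤ a ∧
      f = MvPolynomial.X a * MvPolynomial.X b}

variable {L} in
lemma mem_II_iff (p : MvPolynomial L K) :
    p ∈ II K L ↔ ∀ d ∈ p.support, ¬ IsChain (fun a b : L => a ≤ b) (d.support : Set L) := by
  rw [II, ideal_eq, mem_ideal_span_monomial_image]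
  exact forall₂_congr (fun d _ => exists_gen_le_iff d)

noncomputable def bb (m : ℕ) : (SS L m) → MvPolynomial L K ⧸ II K L :=
  fun d => Ideal.Quotient.mkₐ K (II K L) (monomial d.1 1)

lemma bb_li (m : ℕ) : LinearIndependent K (bb K L m) := by
  classical
  rw [Fintype.linearIndependent_iff]
  intro g hg j
  by_contra hj
  have h1 : (∑ i, g i • bb K L m i) =
      Ideal.Quotient.mkₐ K (II K L) (∑ i : SS L m, monomial i.1 (g i)) := by
    rw [map_sum]
    refine Finset.sum_congr rfl (fun i _ => ?_)
    rw [bb, ← map_smul, smul_monomial, smul_eq_mul, mul_one]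
  rw [h1, Ideal.Quotient.mkₐ_eq_mk, Ideal.Quotient.eq_zero_iff_mem, mem_II_iff] at hg
  have hc : coeff j.1 (∑ i : SS L m, monomial i.1 (g i)) = g j := by
    rw [coeff_sum]
    simp only [coeff_monomial]
    rw [Finset.sum_eq_single j]
    · simp
    · intro i _ hij
      rw [if_neg (fun h => hij (Subtype.ext h))]
    · intro h; exact absurd (Finset.mem_univ j) h
  have := hg j.1 (by rw [mem_support_iff, hc]; exact hj)
  exact this ((mem_SS m j.1).1 j.2).2

lemma map_eq_span (m : ℕ) :
    (MvPolynomial.homogeneousSubmodule L K m).map (Ideal.Quotient.mkₐ K (II K L)).toLinearMap =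
      Submodule.span K (Set.range (bb K L m)) := by
  rw [homogeneousSubmodule_eq_finsupp_supported, AddMonoidAlgebra.supported_eq_span_single,
    Submodule.map_span]
  apply le_antisymm
  · rw [Submodule.span_le]
    rintro _ ⟨_, ⟨d, hd, rfl⟩, rfl⟩
    by_cases hch : IsChain (fun a b : L => a ≤ b) (d.support : Set L)
    · apply Submodule.subset_span
      exact ⟨⟨d, (mem_SS m d).2 ⟨hd, hch⟩⟩, rfl⟩
    · have : (Ideal.Quotient.mkₐ K (II K L)).toLinearMap (monomial d 1) = 0 := by
        rw [AlgHom.toLinearMap_apply, Ideal.Quotient.mkₐ_eq_mk, Ideal.Quotient.eq_zero_iff_mem,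
          mem_II_iff]
        intro e he
        have he' := support_monomial_subset he
        rw [Finset.mem_singleton] at he'
        rw [he']; exact hch
      change (Ideal.Quotient.mkₐ K (II K L)).toLinearMap (monomial d 1) ∈ _
      rw [this]
      exact Submodule.zero_mem _
  · rw [Submodule.span_le]
    rintro _ ⟨d, rfl⟩
    apply Submodule.subset_span
    exact ⟨monomial d.1 1, ⟨d.1, ((mem_SS m d.1).1 d.2).1, rfl⟩, rfl⟩

lemma finrank_eq (m : ℕ) :
    Module.finrank K ((MvPolynomial.homogeneousSubmodule L K m).map
      (Ideal.Quotient.mkₐ K (II K L)).toLinearMap) = #(SS L m) := by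
  rw [map_eq_span, finrank_span_eq_card (bb_li K L m)]
  simp

end alg


section count
variable (L : Type v) [PartialOrder L] [Fintype L]

lemma card_SS (m : ℕ) (hm : 1 ≤ m) :
    #(SS L m) = ∑ᶠ C : {C : Finset L // C.Nonempty ∧ IsChain (fun a b : L => a ≤ b) (↑C : Set L)},
        Nat.choose (m - 1) (C.1.card - 1) := by
  classical
  let chains : Finset (Finset L) := {C ∈ (Finset.univ : Finset (Finset L)) |
    C.Nonempty ∧ IsChain (fun a b : L => a ≤ b) (↑C : Set L)}
  have h1 : #(SS L m) = ∑ C ∈ chains, #{d ∈ SS L m | d.support = C} := by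
    apply Finset.card_eq_sum_card_fiberwise
    intro d hd
    rw [Finset.mem_coe, mem_SS] at hd
    simp only [chains, Finset.coe_filter, Finset.mem_univ, true_and, Set.mem_setOf_eq]
    refine ⟨?_, hd.2⟩
    rw [Finsupp.support_nonempty_iff]
    rintro rfl
    simp at hd
    omega
  have h2 : ∀ C ∈ chains, #{d ∈ SS L m | d.support = C} = Nat.choose (m - 1) (#C - 1) := by
    intro C hC
    simp only [chains, mem_filter, mem_univ, true_and] at hC
    rw [← card_support_eq C hC.1 m hm]
    congr 1
    ext d
    simp only [mem_filter, mem_SS, mem_finsuppAntidiag]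
    constructor
    · rintro ⟨⟨hdeg, hch⟩, hsupp⟩
      refine ⟨⟨?_, hsupp.le⟩, hsupp⟩
      rw [← hdeg, Finsupp.degree_apply, hsupp]
    · rintro ⟨⟨hsum, _⟩, hsupp⟩
      refine ⟨⟨?_, hsupp ▸ hC.2⟩, hsupp⟩
      rw [Finsupp.degree_apply, hsupp, hsum]
  rw [h1, Finset.sum_congr rfl h2, finsum_eq_sum_of_fintype]
  exact Finset.sum_subtype chains (fun C => by simp [chains]) _

end count

/-- Hilbert function of the Stanley–Reisner ring of a finite distributive lattice: let K be a field, L a
finite distributive lattice, R = K[x_α : α ∈ L], I ⊆ R the ideal generated by the products x_α x_β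
over the incomparable (skew) pairs α, β, and m ≥ 1. Then the image in R/I of the homogeneous
polynomials of degree m has K-dimension equal to the sum, over the nonempty chains C ⊆ L, of the
binomial coefficient (m - 1 choose |C| - 1). (The published statement is that the degree of R/I
equals the number of maximal chains of L; this row states the Hilbert function from which that
degree is read off.) -/
theorem result (K : Type u) [Field K] (L : Type v) [DistribLattice L]
    [Fintype L] (m : ℕ) (hm : 1 ≤ m) :
    Module.finrank K ((MvPolynomial.homogeneousSubmodule L K m).map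
        (Ideal.Quotient.mkₐ K (Ideal.span {f : MvPolynomial L K | ∃ a b : L, ¬ a ≤ b ∧ ¬ b ≤ a ∧
          f = MvPolynomial.X a * MvPolynomial.X b})).toLinearMap) =
      ∑ᶠ C : {C : Finset L // C.Nonempty ∧ IsChain (fun a b : L => a ≤ b) (↑C : Set L)},
        Nat.choose (m - 1) (C.1.card - 1) := by
  exact (finrank_eq K L m).trans (card_SS L m hm)

end Groth.Agent.S11262
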