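import Groth.Statements.S11269
import Groth.Agent.Lib.Helper4.SkRing
import Groth.Agent.Lib.Helper4.Sk

set_option autoImplicit false
universe u
open W4bk4grassmannian

namespace Groth.Agent.S11269

/-- Let R be a Noetherian integral domain. Then R satisfies Serre's condition (S_2) (depth R_P ≥ min(2,
dim R_P) for all primes P) if and only if, for every nonzero a ∈ R, every associated prime of the
R-module R/(a) has height one. -/
theorem result (R : Type u) [CommRing R] [IsDomain R]
    [IsNoetherianRing R] :
    LocCoh.HasSk 2 R R ↔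
      ∀ a : R, a ≠ 0 → ∀ P : Ideal R, P ∈ associatedPrimes R (R ⧸ Ideal.span {a}) → P.height = 1 := by
  have hequiv : ∀ a : R, Nonempty (QuotSMulTop a R ≃ₗ[R] R ⧸ Ideal.span {a}) := fun a =>
    ⟨Submodule.quotEquivOfEq _ _ (by
      rw [← Submodule.ideal_span_singleton_smul a ⊤, smul_eq_mul, Ideal.mul_top])⟩
  have hreg : ∀ a : R, a ≠ 0 → IsSMulRegular R a := fun a ha =>
    (isRegular_of_ne_zero ha).left.isSMulRegular
  have hdepth : ∀ (a : R) (_ : a ≠ 0) (P : Ideal R) [P.IsPrime] (_ : a ∈ P),
      LocCoh.depth (Localization.AtPrime P)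
        (LocalizedModule P.primeCompl (R ⧸ Ideal.span {a})) + 1 =
        LocCoh.depth (Localization.AtPrime P) (Localization.AtPrime P) := by
    intro a ha P _ haP
    obtain ⟨e⟩ := hequiv a
    have h1 := Groth.Agent.Lib.Helper28.depth_localization_quotSMulTop P haP (hreg a ha)
    rw [Groth.Agent.Lib.Helper4.depth_localizedModule_self] at h1
    rw [← h1]
    unfold LocCoh.depth
    rw [Groth.Agent.Lib.Helper28.idealDepth_congr
      (Groth.Agent.Lib.Helper28.localizedEquiv P.primeCompl e)]
  have hht : ∀ (P : Ideal R) [P.IsPrime], P ≠ ⊥ → 1 ≤ P.height := by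
    intro P _ hP
    by_contra h
    push Not at h
    have h0 : P.height = 0 := ENat.lt_one_iff_eq_zero.mp h
    rw [Ideal.height_eq_zero_iff, IsDomain.minimalPrimes_eq_singleton_bot] at h0
    exact hP h0
  have e12 : (1 : ℕ∞) + 1 = 2 := by norm_num
  have ek : ((2 : ℕ) : ℕ∞) = 2 := by norm_num
  constructor
  · intro hS a ha P hP
    haveI := hP.isPrime
    have haP : a ∈ P := by
      apply hP.annihilator_le
      rw [Submodule.annihilator_top, Ideal.annihilator_quotient]
      exact Ideal.mem_span_singleton_self a
    have hd0 := (Groth.Agent.Lib.Helper4.depth_localizedModule_eq_zero_iff P).mpr hP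
    have h1 := hdepth a ha P haP
    rw [hd0, zero_add] at h1
    have h2 := (Groth.Agent.Lib.Helper4.hasSk_self_iff' 2).mp hS P
    rw [← h1, ek] at h2
    have hPne : P ≠ ⊥ := fun e => ha (by rw [e] at haP; exact haP)
    have hlt : ¬ (2 : ℕ∞) ≤ P.height := by
      intro h3
      rw [min_eq_left h3] at h2
      exact absurd h2 (by decide)
    push Not at hlt
    have hle : P.height ≤ 1 := Order.le_of_lt_add_one (e12 ▸ hlt)
    exact le_antisymm hle (hht P hPne)
  · intro h
    rw [Groth.Agent.Lib.Helper4.hasSk_self_iff']
    intro P _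
    rw [ek]
    by_cases hP : P = ⊥
    · have h0 : P.height = 0 := by rw [hP]; exact Ideal.height_bot
      rw [h0]
      exact le_trans (min_le_right _ _) zero_le
    · obtain ⟨a, haP, ha⟩ := Submodule.exists_mem_ne_zero_of_ne_bot hP
      have h1 := hdepth a ha P haP
      by_cases h2 : (2 : ℕ∞) ≤ P.height
      · have hnot : P ∉ associatedPrimes R (R ⧸ Ideal.span {a}) := fun hmem => by
          have h3 := h a ha P hmem
          rw [h3] at h2
          exact absurd h2 (by decide)
        have hd : LocCoh.depth (Localization.AtPrime P)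
            (LocalizedModule P.primeCompl (R ⧸ Ideal.span {a})) ≠ 0 := fun h0 =>
          hnot ((Groth.Agent.Lib.Helper4.depth_localizedModule_eq_zero_iff P).mp h0)
        have h3 : (2 : ℕ∞) ≤ LocCoh.depth (Localization.AtPrime P) (Localization.AtPrime P) := by
          rw [← h1, ← e12]
          gcongr
          exact Order.one_le_iff_ne_zero.mpr hd
        exact le_trans (min_le_left _ _) h3
      · have h3 : (1 : ℕ∞) ≤ LocCoh.depth (Localization.AtPrime P) (Localization.AtPrime P) := by
          rw [← h1]
          exact le_add_self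
        push Not at h2
        have hle : P.height ≤ 1 := Order.le_of_lt_add_one (e12 ▸ h2)
        exact le_trans (min_le_right _ _) (hle.trans h3)

end Groth.Agent.S11269
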