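import Groth.Statements.S1127
import Groth.Agent.Lib.Helper16.QAffScheme
import Groth.Agent.S0079
open Groth.Agent.Lib.Helper16

set_option autoImplicit false
open CategoryTheory CategoryTheory.Limits AlgebraicGeometry Opposite
universe u
open Desc

namespace Groth.Agent.S1127

/-- If the base change of a morphism along a quasi-compact, flat, surjective morphism is quasi-affine
(quasi-compact, with quasi-affine preimages of affine opens), then the morphism is quasi-affine.
(The published statement is the fpqc-local form; stated here for a single quasi-compact flat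
surjective base change, from which that form follows by Zariski-locality on the target.) -/
theorem result :
    MorphismProperty.DescendsAlong (fun _ _ f => Mor2.IsQuasiAffine f : MorphismProperty Scheme.{u})
      (@Surjective ⊓ @Flat ⊓ @QuasiCompact : MorphismProperty Scheme.{u}) := by
  have hqc := Groth.Agent.S0079.result.{u}
  constructor
  intro A X Y Z fst snd f g hpb hf hfst
  obtain ⟨⟨hf1, hf2⟩, hf3⟩ := hf
  have hf1' : Surjective f := hf1
  have hf2' : Flat f := hf2
  have hf3' : QuasiCompact f := hf3
  obtain ⟨hfst1, hfst2⟩ := hfst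
  refine ⟨MorphismProperty.of_isPullback_of_descendsAlong (P := @QuasiCompact)
    (Q := (@Surjective ⊓ @Flat ⊓ @QuasiCompact : MorphismProperty Scheme.{u})) hpb ⟨⟨hf1, hf2⟩, hf3⟩ hfst1, ?_⟩
  intro V hV
  refine isQuasiAffine_of_fpqc_resLE f g fst snd hpb V hV (g ⁻¹ᵁ V) le_rfl (fun W hW hWV => ?_)
  have hle : fst ⁻¹ᵁ W ≤ snd ⁻¹ᵁ (g ⁻¹ᵁ V) := by
    rw [← Scheme.Hom.comp_preimage, ← hpb.w, Scheme.Hom.comp_preimage]
    exact fst.preimage_mono hWV
  rw [inf_eq_left.mpr hle]
  exact hfst2 W hW

end Groth.Agent.S1127
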