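import Groth.Statements.S11271
import Mathlib
import Groth.Agent.Lib.Helper17.Minors

set_option autoImplicit false
universe u
open W4bk4grassmannian

namespace Groth.Agent.S11271

/-- Evaluating along a line through the origin. -/
theorem eval_aeval_line {K : Type u} [Field K] {σ : Type*} (B : σ → K) (f : MvPolynomial σ K) (t : K) :
    Polynomial.eval t (MvPolynomial.aeval (fun q : σ => Polynomial.C (B q) * Polynomial.X) f) =
      MvPolynomial.eval (fun q => t * B q) f := by
  induction f using MvPolynomial.induction_on with
  | C a => simp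
  | add p q hp hq => simp [hp, hq]
  | mul_X p i hp => simp [hp, mul_comm t]

/-- If `A *ᵥ v = 0` with `v i0 ≠ 0`, then for `t ≠ 0` there is `g ∈ SL_d` with `A * g = t • B`, `B` being `A` with
column `i0` zeroed. -/
theorem exists_sl_scaling {K : Type u} [Field K] {d n : ℕ} (A : Matrix (Fin n) (Fin d) K)
    (v : Fin d → K) (hv : A.mulVec v = 0) (i0 : Fin d) (hi0 : v i0 ≠ 0) (t : K) (ht : t ≠ 0) :
    ∃ g : Matrix.SpecialLinearGroup (Fin d) K, ∀ r j,
      (A * (g : Matrix (Fin d) (Fin d) K)) r j = t * (if j = i0 then 0 else A r j) := by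
  classical
  let g0 : Matrix (Fin d) (Fin d) K := (1 : Matrix (Fin d) (Fin d) K).updateCol i0 v
  let D : Matrix (Fin d) (Fin d) K :=
    Matrix.diagonal (fun j => if j = i0 then (v i0)⁻¹ * (t ^ (d - 1))⁻¹ else t)
  have hdet0 : g0.det = v i0 := by
    have := Matrix.cramer_apply (1 : Matrix (Fin d) (Fin d) K) v i0
    rw [Matrix.cramer_one] at this
    exact this.symm
  have hdetD : D.det = (v i0)⁻¹ := by
    rw [Matrix.det_diagonal, ← Finset.mul_prod_erase Finset.univ _ (Finset.mem_univ i0), if_pos rfl]
    have : ∀ j ∈ Finset.univ.erase i0, (if j = i0 then (v i0)⁻¹ * (t ^ (d - 1))⁻¹ else t) = t := by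
      intro j hj
      rw [if_neg (Finset.mem_erase.mp hj).1]
    rw [Finset.prod_congr rfl this, Finset.prod_const, Finset.card_erase_of_mem (Finset.mem_univ i0),
      Finset.card_univ, Fintype.card_fin, mul_assoc, inv_mul_cancel₀ (pow_ne_zero _ ht), _root_.mul_one]
  have hdet : (g0 * D).det = 1 := by
    rw [Matrix.det_mul, hdet0, hdetD, mul_inv_cancel₀ hi0]
  refine ⟨⟨g0 * D, hdet⟩, ?_⟩
  intro r j
  show (A * (g0 * D)) r j = _
  rw [← Matrix.mul_assoc, Matrix.mul_diagonal]
  have hAg0 : (A * g0) r j = if j = i0 then 0 else A r j := by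
    rw [Matrix.mul_apply]
    by_cases hj : j = i0
    · subst hj
      rw [if_pos rfl]
      have := congrFun hv r
      simp only [Matrix.mulVec, dotProduct, Pi.zero_apply] at this
      rw [← this]
      exact Finset.sum_congr rfl fun s _ => by simp only [g0, Matrix.updateCol_self]
    · rw [if_neg hj]
      have : ∀ s, g0 s j = (1 : Matrix (Fin d) (Fin d) K) s j := fun s => Matrix.updateCol_ne hj
      simp only [this, Matrix.one_apply, mul_ite, _root_.mul_one, mul_zero]
      rw [Finset.sum_ite_eq' Finset.univ j, if_pos (Finset.mem_univ j)]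
  rw [hAg0]
  by_cases hj : j = i0
  · rw [if_pos hj, zero_mul, mul_zero]
  · rw [if_neg hj, if_neg hj, mul_comm]


open W4bk4grassmannian in
/-- Semistable matrices are the matrices of full rank: let K be an algebraically closed field, 0 < d <
n, and let SL_d(K) act on n × d matrices by right multiplication; a matrix A is semistable when the
zero matrix is not in the Zariski closure of its orbit, i.e. when some polynomial in the entries
vanishes at A g for every g ∈ SL_d(K) but not at 0. Then A is semistable if and only if its columns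
are linearly independent. -/
theorem result (K : Type u) [Field K]
    [IsAlgClosed K] (d n : ℕ) (hd : 0 < d) (hdn : d < n) (A : Matrix (Fin n) (Fin d) K) :
    LinearIndependent K A.transpose ↔
      ∃ f : MatRing K d n, (∀ g : Matrix.SpecialLinearGroup (Fin d) K,
        MvPolynomial.eval (fun p : Fin n × Fin d => (A * (g : Matrix (Fin d) (Fin d) K)) p.1 p.2) f = 0) ∧
        MvPolynomial.eval (fun _ : Fin n × Fin d => (0 : K)) f ≠ 0 := by
  classical
  constructor
  · intro hA
    obtain ⟨θ, hθ⟩ := Groth.Agent.Lib.Helper17.exists_idx_det_ne_zero A hA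
    refine ⟨minor K d n θ.1 - MvPolynomial.C ((A.submatrix θ.1 id).det), ?_, ?_⟩
    · intro g
      rw [map_sub, MvPolynomial.eval_C, sub_eq_zero, minor, RingHom.map_det]
      have e : (MvPolynomial.eval fun p : Fin n × Fin d =>
            (A * (g : Matrix (Fin d) (Fin d) K)) p.1 p.2).mapMatrix
          (Matrix.of fun s t : Fin d => (MvPolynomial.X (θ.1 s, t) : MatRing K d n)) =
          A.submatrix θ.1 id * (g : Matrix (Fin d) (Fin d) K) := by
        ext s t
        simp [Matrix.mul_apply]
      rw [e, Matrix.det_mul, g.det_coe, _root_.mul_one]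
    · rw [map_sub, MvPolynomial.eval_C, minor, RingHom.map_det]
      have e : (MvPolynomial.eval fun _ : Fin n × Fin d => (0 : K)).mapMatrix
          (Matrix.of fun s t : Fin d => (MvPolynomial.X (θ.1 s, t) : MatRing K d n)) = 0 := by
        ext s t
        simp
      haveI hne : Nonempty (Fin d) := ⟨⟨0, hd⟩⟩
      rw [e, Matrix.det_zero, zero_sub, neg_ne_zero]
      exact hθ
  · rintro ⟨f, hf, hf0⟩
    by_contra hA
    rw [Fintype.not_linearIndependent_iff] at hA
    obtain ⟨v, hv, i0, hi0⟩ := hA
    have hAv : A.mulVec v = 0 := by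
      funext r
      have := congrFun hv r
      simp only [Finset.sum_apply, Pi.smul_apply, Matrix.transpose_apply, smul_eq_mul,
        Pi.zero_apply] at this
      simp only [Matrix.mulVec, dotProduct, Pi.zero_apply]
      rw [← this]
      exact Finset.sum_congr rfl fun s _ => mul_comm _ _
    let B : Fin n × Fin d → K := fun q => if q.2 = i0 then 0 else A q.1 q.2
    let p : Polynomial K :=
      MvPolynomial.aeval (fun q : Fin n × Fin d => Polynomial.C (B q) * Polynomial.X) f
    have hroot : ∀ t : K, t ≠ 0 → Polynomial.IsRoot p t := by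
      intro t ht
      obtain ⟨g, hg⟩ := exists_sl_scaling A v hAv i0 hi0 t ht
      show Polynomial.eval t p = 0
      rw [eval_aeval_line]
      rw [← hf g]
      have e : (fun q : Fin n × Fin d => t * B q) =
          fun q => (A * (g : Matrix (Fin d) (Fin d) K)) q.1 q.2 := funext fun q => (hg q.1 q.2).symm
      rw [e]
    have hp : p = 0 := by
      apply Polynomial.eq_zero_of_infinite_isRoot
      refine Set.Infinite.mono (s := {t : K | t ≠ 0}) (fun t ht => hroot t ht) ?_
      exact (Set.finite_singleton (0 : K)).infinite_compl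
    apply hf0
    have := eval_aeval_line B f 0
    rw [show MvPolynomial.aeval (fun q : Fin n × Fin d => Polynomial.C (B q) * Polynomial.X) f = p from rfl,
      hp, Polynomial.eval_zero] at this
    have e : (fun q : Fin n × Fin d => (0 : K) * B q) = fun _ => (0 : K) :=
      funext fun q => zero_mul _
    rw [e] at this
    exact this.symm

end Groth.Agent.S11271
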