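import Groth.Statements.S11272
import Groth.Agent.Lib.Helper4.CMOpen
import Groth.Agent.Lib.Helper4.ConeCM
import Groth.Agent.Lib.Helper22.CMGlue

set_option autoImplicit false
universe u
open W4bk4grassmannian

namespace Groth.Agent.S11272

/-- A cone is Cohen–Macaulay iff it is so at its vertex: let K be an algebraically closed field, N a
natural number, S = K[x_1, …, x_N] graded by degree, I ⊆ S a proper ideal generated by homogeneous
polynomials, and m ⊆ S/I the image of the irrelevant ideal (x_1, …, x_N) (the vertex of the cone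
Spec S/I), assumed prime. Then S/I is a Cohen–Macaulay ring if and only if the local ring (S/I)_m is
Cohen–Macaulay. -/
theorem result (K : Type u) [Field K] [IsAlgClosed K] (N : ℕ)
    (I : Ideal (MvPolynomial (Fin N) K))
    (hI : ∃ T : Set (MvPolynomial (Fin N) K), (∀ f ∈ T, ∃ k : ℕ, f.IsHomogeneous k) ∧ I = Ideal.span T)
    (hI' : I ≠ ⊤)
    [hm : ((RingHom.ker (MvPolynomial.constantCoeff : MvPolynomial (Fin N) K →+* K)).map
      (Ideal.Quotient.mk I)).IsPrime] :
    LocCoh.IsCohenMacaulayRing (MvPolynomial (Fin N) K ⧸ I) ↔
      LocCoh.IsCohenMacaulayLocalRing (Localization.AtPrime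
        ((RingHom.ker (MvPolynomial.constantCoeff : MvPolynomial (Fin N) K →+* K)).map
          (Ideal.Quotient.mk I))) := by
  constructor
  · intro h
    exact h.isCohenMacaulayLocalRing_localization _
  · intro hvert
    have hdim : ringKrullDim (MvPolynomial (Fin N) K) ≤ (N : WithBot ℕ∞) := by
      rw [MvPolynomial.ringKrullDim_of_isNoetherianRing, ringKrullDim_eq_zero_of_field]
      simp
    have hsurj : Function.Surjective
        (algebraMap (MvPolynomial (Fin N) K) (MvPolynomial (Fin N) K ⧸ I)) := by
      intro x
      obtain ⟨p, rfl⟩ := Ideal.Quotient.mk_surjective x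
      exact ⟨p, rfl⟩
    have hopen := Groth.Agent.Lib.Helper4.CMOpen.isOpen_cmLocus (MvPolynomial (Fin N) K) N
      (MvPolynomial (Fin N) K ⧸ I) hdim hsurj
    have hclosed : IsClosed {q : PrimeSpectrum (MvPolynomial (Fin N) K ⧸ I) |
        ¬ LocCoh.IsCohenMacaulayLocalRing (Localization.AtPrime q.asIdeal)} := by
      have h1 := hopen.isClosed_compl
      exact h1
    refine { isCohenMacaulayLocalRing_localization := fun q hq => ?_ }
    by_contra hq'
    have hmem := Groth.Agent.Lib.Helper4.ConeCM.vertex_mem_of_closed_of_stable I hI _ hclosed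
      (fun e q hq hcm => by
        apply hq
        haveI := hcm
        exact Groth.Agent.Lib.Helper22.CMG.isCMLocalRing_of_ringEquiv
          (R := Localization.AtPrime (q.asIdeal.comap e))
          (IsLocalization.ringEquivOfRingEquiv (Localization.AtPrime (q.asIdeal.comap e))
            (Localization.AtPrime q.asIdeal) e (e.map_primeCompl_comap_eq q.asIdeal)))
      ⟨⟨q, hq⟩, hq'⟩
    exact hmem hvert

end Groth.Agent.S11272
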