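-- Statement S11275.
import Groth.Statements.S11275
import Mathlib
import Groth.Agent.Lib.Helper17.Minors

set_option autoImplicit false
universe u
open W4bk4grassmannian

namespace Groth.Agent.S11275

section helpers
open Matrix

lemma det_mem_minorIdeal {R : Type u} [CommRing R] {m n : Type} [Fintype m] [Fintype n]
    (A : Matrix m n R) (t : ℕ) :
    ∀ N, t ≤ N → ∀ (g : Fin N → n) (f : Fin N → m) (M : Matrix (Fin N) (Fin N) R),
      (∀ i : Fin N, N - t ≤ i.val → ∀ j, M i j = A (f i) (g j)) →
        M.det ∈ CAlgX.minorIdeal A t := by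
  intro N hN
  induction N, hN using Nat.le_induction with
  | base =>
    intro g f M hM
    have : M = A.submatrix f g := by
      ext i j
      exact hM i (by omega) j
    rw [this]
    exact Ideal.subset_span ⟨(f, g), rfl⟩
  | succ N hN ih =>
    intro g f M hM
    rw [Matrix.det_succ_row_zero]
    refine Ideal.sum_mem _ fun j _ => Ideal.mul_mem_left _ _ ?_
    refine ih (g ∘ j.succAbove) (f ∘ Fin.succ) _ fun i hi j' => ?_
    rw [Matrix.submatrix_apply]
    exact hM i.succ (by simp only [Fin.val_succ]; omega) _

variable (K : Type u) [CommRing K] (d r t : ℕ)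

lemma cellMinor_mem (hd : 0 < d) (ht : 0 < t) (htd : t ≤ d) (htr : t ≤ r) (θ : Idx d (d + r))
    (hθ : d ≤ (θ.1 ⟨d - t, Nat.sub_lt hd ht⟩).val) :
    cellMinor K d r θ ∈ CAlgX.minorIdeal (genMatrix K r d) t := by
  have hr : 0 < r := by omega
  refine det_mem_minorIdeal (genMatrix K r d) t d htd id
    (fun i => if h : d ≤ (θ.1 i).val then ⟨(θ.1 i).val - d, by have := (θ.1 i).isLt; omega⟩
      else ⟨0, hr⟩) _ ?_
  intro i hi j
  have h1 : d ≤ (θ.1 i).val :=
    le_trans hθ (θ.2.monotone (show (⟨d - t, Nat.sub_lt hd ht⟩ : Fin d) ≤ i from hi))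
  simp [cellMatrix, genMatrix, h1, not_lt.mpr h1]

lemma minor_mem (hd : 0 < d) (ht : 0 < t) (htd : t ≤ d) (f : Fin t → Fin r) (g : Fin t → Fin d) :
    ((genMatrix K r d).submatrix f g).det ∈ Ideal.span {f : CellRing K d r | ∃ θ : Idx d (d + r),
        d ≤ (θ.1 ⟨d - t, Nat.sub_lt hd ht⟩).val ∧ f = cellMinor K d r θ} := by
  classical
  by_cases hf : Function.Injective f
  swap
  · rw [Function.Injective] at hf
    push Not at hf
    obtain ⟨i, j, hij, hne⟩ := hf
    rw [Matrix.det_zero_of_row_eq hne (by ext k; simp [hij])]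
    exact Ideal.zero_mem _
  by_cases hg : Function.Injective g
  swap
  · rw [Function.Injective] at hg
    push Not at hg
    obtain ⟨i, j, hij, hne⟩ := hg
    rw [Matrix.det_zero_of_column_eq hne (by intro k; simp [hij])]
    exact Ideal.zero_mem _
  let θ' : Fin d → Fin (d + r) := fun i =>
    if h : ∃ k, g k = i then ⟨d + (f h.choose).val, by have := (f h.choose).isLt; omega⟩
    else Fin.castAdd r i
  have hθ'1 : ∀ k, (θ' (g k)).val = d + (f k).val := by
    intro k
    have h : ∃ k', g k' = g k := ⟨k, rfl⟩
    have h2 : h.choose = k := hg h.choose_spec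
    simp only [θ', dif_pos h, h2]
  have hθ'2 : ∀ i, (¬ ∃ k, g k = i) → θ' i = Fin.castAdd r i := fun i h => dif_neg h
  set N : Matrix (Fin d) (Fin d) (CellRing K d r) := (cellMatrix K d r).submatrix θ' id with hNdef
  have hN1 : ∀ k j, N (g k) j = MvPolynomial.X (f k, j) := by
    intro k j
    have h1 := hθ'1 k
    simp only [hNdef, Matrix.submatrix_apply, cellMatrix, Matrix.of_apply, id_eq]
    rw [dif_neg (by omega)]
    congr 2
    apply Fin.ext
    simp only [h1]
    omega
  have hN2 : ∀ i, (¬ ∃ k, g k = i) → ∀ j, N i j = if i = j then 1 else 0 := by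
    intro i hi j
    simp only [hNdef, Matrix.submatrix_apply, cellMatrix, Matrix.of_apply, id_eq, hθ'2 i hi,
      Fin.val_castAdd, i.isLt, dite_true, Fin.ext_iff]
  have hdet : N.det = ((genMatrix K r d).submatrix f g).det := by
    rw [Matrix.twoBlockTriangular_det N (fun i => ∃ k, g k = i)]
    · have hb2 : Matrix.toSquareBlockProp N (fun i => ¬ ∃ k, g k = i) = 1 := by
        refine Matrix.ext fun ⟨i, hi⟩ ⟨j, hj⟩ => ?_
        simp only [Matrix.toSquareBlockProp, Matrix.toBlock_apply, hN2 i hi j, Matrix.one_apply,
          Subtype.mk.injEq]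
      rw [hb2, Matrix.det_one, mul_one]
      let e' : Fin t ≃ {i // ∃ k, g k = i} :=
        Equiv.ofBijective (fun k => ⟨g k, k, rfl⟩)
          ⟨fun a b h => hg (Subtype.mk.inj h), fun ⟨i, k, hk⟩ => ⟨k, Subtype.ext hk⟩⟩
      rw [← Matrix.det_submatrix_equiv_self e' (Matrix.toSquareBlockProp N _)]
      congr 1
      refine Matrix.ext fun k l => ?_
      simp only [Matrix.submatrix_apply, Matrix.toSquareBlockProp, Matrix.toBlock_apply,
        Matrix.of_apply, genMatrix]
      exact hN1 k (g l)
    · intro i hi j hj
      rw [hN2 i hi j, if_neg]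
      rintro rfl
      exact hi hj
  have hinj : Function.Injective θ' := by
    intro i i' h
    by_cases hi : ∃ k, g k = i
    · obtain ⟨k, rfl⟩ := hi
      by_cases hi' : ∃ k, g k = i'
      · obtain ⟨k', rfl⟩ := hi'
        have h1 := hθ'1 k
        have h2 := hθ'1 k'
        rw [h] at h1
        have : f k = f k' := Fin.ext (by omega)
        rw [hf this]
      · have h1 := hθ'1 k
        rw [h, hθ'2 i' hi'] at h1
        simp only [Fin.val_castAdd] at h1
        have := i'.isLt
        omega
    · by_cases hi' : ∃ k, g k = i'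
      · obtain ⟨k', rfl⟩ := hi'
        have h1 := hθ'1 k'
        rw [← h, hθ'2 i hi] at h1
        simp only [Fin.val_castAdd] at h1
        have := i.isLt
        omega
      · rw [hθ'2 i hi, hθ'2 i' hi'] at h
        exact Fin.castAdd_injective _ _ h
  obtain ⟨θ, σ, hθσ⟩ := Groth.Agent.Lib.Helper17.exists_idx_perm θ' hinj
  have hNσ : N = ((cellMatrix K d r).submatrix θ.1 id).submatrix σ id := by
    refine Matrix.ext fun i j => ?_
    simp only [hNdef, hθσ, Matrix.submatrix_apply, Function.comp_apply, id_eq]
  have hθd : d ≤ (θ.1 ⟨d - t, Nat.sub_lt hd ht⟩).val := by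
    by_contra hlt
    push Not at hlt
    have h1 : Finset.Iic (⟨d - t, Nat.sub_lt hd ht⟩ : Fin d) ⊆
        Finset.univ.filter (fun i : Fin d => (θ.1 i).val < d) := by
      intro i hi
      rw [Finset.mem_Iic] at hi
      rw [Finset.mem_filter]
      exact ⟨Finset.mem_univ _, lt_of_le_of_lt (θ.2.monotone hi) hlt⟩
    have h2 := Finset.card_le_card h1
    rw [Fin.card_Iic] at h2
    have h3 : (Finset.univ.filter (fun i : Fin d => (θ' i).val < d)).card =
        (Finset.univ.filter (fun i : Fin d => (θ.1 i).val < d)).card := by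
      apply Finset.card_equiv σ
      intro i
      simp only [Finset.mem_filter, Finset.mem_univ, true_and, hθσ, Function.comp_apply]
    have h4 : Finset.univ.filter (fun i : Fin d => (θ' i).val < d) =
        (Finset.univ.image g)ᶜ := by
      ext i
      simp only [Finset.mem_filter, Finset.mem_univ, true_and, Finset.mem_compl,
        Finset.mem_image, not_exists]
      constructor
      · intro h k hk
        have := hθ'1 k
        rw [hk] at this
        omega
      · intro h
        rw [hθ'2 i (by simpa using h)]
        simp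
    rw [h4, Finset.card_compl, Finset.card_image_of_injective _ hg, Finset.card_univ,
      Fintype.card_fin, Fintype.card_fin] at h3
    simp only at h2
    omega
  rw [← hdet, hNσ, Matrix.det_permute]
  exact Ideal.mul_mem_left _ _ (Ideal.subset_span ⟨θ, hθd, rfl⟩)

end helpers

open W4bk4grassmannian in
/-- Ideal-theoretic form; determinantal ideals as ideals of opposite cells of Schubert varieties: let K
be a commutative ring, d, r ≥ 1, 1 ≤ t ≤ min(d, r), Z the generic r × d matrix over K[z_{ij}] and
[I_d ; Z] the (d + r) × d matrix with the identity block on top. For θ ∈ I(d, d + r) let q_θ be the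
d × d minor of [I_d ; Z] on the rows θ (the Plücker coordinate p_θ on the opposite big cell). Then
the ideal generated by the q_θ with θ_{d-t} ≥ d (0-indexed; these are the θ not below the index φ =
(t-1, …, d-1, d+r+1-t, …, d+r-1) of the Schubert variety whose opposite cell is D_t) equals the
ideal generated by the t × t minors of Z. (The published statement is over an algebraically closed
field and identifies the determinantal variety D_t with the opposite cell of the Schubert variety
X(φ); this row states the equality of ideals behind that identification, over any commutative ring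
K.) -/
theorem result (K : Type u) [CommRing K] (d r t : ℕ) (hd : 0 < d)
    (ht : 0 < t) (htd : t ≤ d) (htr : t ≤ r) :
    Ideal.span {f : CellRing K d r | ∃ θ : Idx d (d + r),
        d ≤ (θ.1 ⟨d - t, Nat.sub_lt hd ht⟩).val ∧ f = cellMinor K d r θ} =
      CAlgX.minorIdeal (genMatrix K r d) t := by
  apply le_antisymm
  · rw [Ideal.span_le]
    rintro _ ⟨θ, hθ, rfl⟩
    exact cellMinor_mem K d r t hd ht htd htr θ hθ
  · rw [CAlgX.minorIdeal, Ideal.span_le]
    rintro _ ⟨⟨f, g⟩, rfl⟩
    exact minor_mem K d r t hd ht htd f g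

end Groth.Agent.S11275
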