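import Groth.Statements.S11277
import Mathlib

set_option autoImplicit false
universe u v
open W4bk4grassmannian

namespace Groth.Agent.S11277

/-- Let K be a field, R = ⊕_{i ≥ 0} R_i an ℕ-graded commutative K-algebra which is an integral domain,
and s ∈ R_e a homogeneous element of degree e > 0. Let R_(s) ⊆ R[1/s] be the homogeneous
localization (fractions f / s^k with f homogeneous of degree k e). Then the image of s in R[1/s] is
transcendental over R_(s). -/
theorem result (K : Type u) [Field K] (R : Type v) [CommRing R]
    [IsDomain R] [Algebra K R] (𝒜 : ℕ → Submodule K R) [GradedAlgebra 𝒜] (e : ℕ) (he : 0 < e) (s : R)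
    (hs : s ∈ 𝒜 e) :
    Transcendental (HomogeneousLocalization.Away 𝒜 s) (algebraMap R (Localization.Away s) s) := by
  classical
  by_cases hs0 : s = 0
  · subst hs0
    have : Subsingleton (HomogeneousLocalization.Away 𝒜 (0 : R)) :=
      HomogeneousLocalization.subsingleton 𝒜 ⟨1, by simp⟩
    intro halg
    obtain ⟨p, hp, _⟩ := halg
    exact hp (Subsingleton.elim _ _)
  intro halg
  obtain ⟨p, hp, hpe⟩ := halg
  have hinj : Function.Injective (algebraMap R (Localization.Away s)) :=
    IsLocalization.injective _ (powers_le_nonZeroDivisors_of_noZeroDivisors hs0)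
  have hev : ∀ᶠ n in Filter.atTop, ∀ i ∈ p.support,
      s ^ n • (p.coeff i).val ∈ algebraMap R (Localization.Away s) '' (𝒜 (n • e) : Set R) := by
    rw [Filter.eventually_all_finset]
    intro i _
    exact HomogeneousLocalization.Away.eventually_smul_mem hs (p.coeff i)
  obtain ⟨N, hN⟩ := hev.exists
  choose! g hg using hN
  have hsum : ∑ i ∈ p.support, g i * s ^ i = 0 := by
    apply hinj
    rw [map_zero, map_sum]
    have h1 : (algebraMap R (Localization.Away s) (s ^ N)) *
        Polynomial.aeval (algebraMap R (Localization.Away s) s) p = 0 := by rw [hpe, mul_zero]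
    rw [Polynomial.aeval_def, Polynomial.eval₂_eq_sum, Polynomial.sum_def, Finset.mul_sum] at h1
    rw [← h1]
    apply Finset.sum_congr rfl
    intro i hi
    rw [map_mul, map_pow, (hg i hi).2, Algebra.smul_def, HomogeneousLocalization.algebraMap_apply,
      mul_assoc]
  have hne : p.support.Nonempty := Polynomial.support_nonempty.mpr hp
  obtain ⟨j, hj⟩ := hne
  have hproj := congrArg (GradedRing.proj 𝒜 (N • e + j • e)) hsum
  rw [map_sum, map_zero, Finset.sum_eq_single j] at hproj
  · rw [GradedRing.proj_apply, DirectSum.decompose_of_mem_same 𝒜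
      (SetLike.mul_mem_graded (hg j hj).1 (SetLike.pow_mem_graded j hs))] at hproj
    have hgj : g j = 0 := by
      rcases mul_eq_zero.mp hproj with h | h
      · exact h
      · exact absurd (eq_zero_of_pow_eq_zero h) hs0
    have h2 := (hg j hj).2
    rw [hgj, map_zero, Algebra.smul_def] at h2
    have hu : IsUnit (algebraMap R (Localization.Away s) (s ^ N)) :=
      IsLocalization.map_units (M := Submonoid.powers s) _ ⟨s ^ N, ⟨N, rfl⟩⟩
    have h3 : (p.coeff j).val = 0 := (hu.mul_right_eq_zero).mp h2.symm
    have h4 : p.coeff j = 0 := HomogeneousLocalization.val_injective _ (by rw [h3, HomogeneousLocalization.val_zero])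
    exact (Polynomial.mem_support_iff.mp hj) h4
  · intro i hi hij
    rw [GradedRing.proj_apply]
    refine DirectSum.decompose_of_mem_ne 𝒜
      (SetLike.mul_mem_graded (hg i hi).1 (SetLike.pow_mem_graded i hs)) ?_
    intro h
    apply hij
    have : i • e = j • e := by omega
    simpa [he.ne'] using this
  · intro h; exact absurd hj h

end Groth.Agent.S11277
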