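import Mathlib
import Groth.Statements.S11281


set_option autoImplicit false
universe u
open Deform

namespace Aux11281

open IsLocalRing

section common

variable {Λ : Type u} [CommRing Λ] {R : Type u} [CommRing R] [Algebra Λ R] [IsLocalRing R]
variable (X : Exal.Ext Λ R (ResidueField R))

theorem proj_incl (z : ResidueField R) : X.proj (X.incl z) = 0 :=
  (X.isExtension.exact _).mpr ⟨z, rfl⟩

omit [Algebra Λ R] in
theorem smul_res (r : R) (z : ResidueField R) : r • z = residue R r * z := by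
  rw [Algebra.smul_def, ResidueField.algebraMap_eq]

theorem incl_mul_incl (z z' : ResidueField R) : X.incl z * X.incl z' = 0 := by
  rw [X.isExtension.mul_incl, proj_incl, zero_smul, map_zero]

theorem incl_eq_mul (z : ResidueField R) : ∃ e₀ : X.E, X.incl z = e₀ * X.incl 1 := by
  obtain ⟨r, rfl⟩ := residue_surjective z
  obtain ⟨e₀, he₀⟩ := X.isExtension.proj_surjective r
  exact ⟨e₀, by rw [X.isExtension.mul_incl, he₀, smul_res, mul_one]⟩

theorem isUnit_of_proj (e : X.E) (h : IsUnit (X.proj e)) : IsUnit e := by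
  obtain ⟨r', hr'⟩ := h.exists_right_inv
  obtain ⟨e', rfl⟩ := X.isExtension.proj_surjective r'
  have h0 : X.proj (e * e' - 1) = 0 := by rw [map_sub, map_mul, hr', map_one, sub_self]
  obtain ⟨z, hz⟩ := (X.isExtension.exact _).mp h0
  have h2 : e * e' = 1 + X.incl z := by rw [hz]; ring
  have h1 : e * (e' * (1 - X.incl z)) = 1 := by
    calc e * (e' * (1 - X.incl z)) = (e * e') * (1 - X.incl z) := by ring
      _ = (1 + X.incl z) * (1 - X.incl z) := by rw [h2]
      _ = 1 - X.incl z * X.incl z := by ring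
      _ = 1 := by rw [incl_mul_incl, sub_zero]
  exact IsUnit.of_mul_eq_one _ h1

theorem isLocalRing_E : IsLocalRing X.E := by
  haveI : Nontrivial X.E := ⟨⟨0, 1, fun h => zero_ne_one (α := R) (by
    have := congrArg X.proj h
    rwa [map_zero, map_one] at this)⟩⟩
  refine IsLocalRing.of_nonunits_add (fun a b ha hb => ?_)
  intro hab
  have ha' : X.proj a ∈ nonunits R := fun h => ha (isUnit_of_proj X a h)
  have hb' : X.proj b ∈ nonunits R := fun h => hb (isUnit_of_proj X b h)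
  have h1 := IsLocalRing.nonunits_add ha' hb'
  exact h1 (by rw [← map_add]; exact hab.map X.proj)

theorem mem_max_iff [IsLocalRing X.E] (e : X.E) :
    e ∈ maximalIdeal X.E ↔ X.proj e ∈ maximalIdeal R := by
  rw [mem_maximalIdeal, mem_maximalIdeal, mem_nonunits_iff, mem_nonunits_iff, not_iff_not]
  exact ⟨fun h => h.map X.proj, isUnit_of_proj X e⟩

theorem ker_eq_span : RingHom.ker X.proj = Ideal.span {X.incl 1} := by
  apply le_antisymm
  · intro e he
    obtain ⟨z, rfl⟩ := (X.isExtension.exact e).mp (RingHom.mem_ker.mp he)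
    obtain ⟨e₀, h⟩ := incl_eq_mul X z
    rw [h]
    exact Ideal.mul_mem_left _ _ (Ideal.mem_span_singleton_self _)
  · rw [Ideal.span_singleton_le_iff_mem, RingHom.mem_ker]
    exact proj_incl X 1

theorem inf_ker_fg (J : Ideal X.E) : (J ⊓ RingHom.ker X.proj).FG := by
  by_cases h : J ⊓ RingHom.ker X.proj = ⊥
  · rw [h]; exact Submodule.fg_bot
  · have hex : ∃ e ∈ J ⊓ RingHom.ker X.proj, e ≠ 0 := by
      by_contra hcon
      push Not at hcon
      exact h (eq_bot_iff.mpr fun e he => (Submodule.mem_bot _).mpr (hcon e he))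
    obtain ⟨e, ⟨heJ, heK⟩, he0⟩ := hex
    obtain ⟨z, rfl⟩ := (X.isExtension.exact e).mp (RingHom.mem_ker.mp heK)
    have hz : z ≠ 0 := fun hz => he0 (by rw [hz, map_zero])
    obtain ⟨r, hr⟩ := residue_surjective z⁻¹
    obtain ⟨e', he'⟩ := X.isExtension.proj_surjective r
    have h1 : X.incl 1 = e' * X.incl z := by
      rw [X.isExtension.mul_incl, he', smul_res, hr, inv_mul_cancel₀ hz]
    have h1J : X.incl 1 ∈ J := by rw [h1]; exact Ideal.mul_mem_left _ _ heJ
    have h2 : J ⊓ RingHom.ker X.proj = Ideal.span {X.incl 1} := by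
      rw [ker_eq_span, inf_eq_right, Ideal.span_singleton_le_iff_mem]; exact h1J
    rw [h2]
    exact Submodule.fg_span_singleton _

theorem isNoetherianRing_E [IsNoetherianRing R] : IsNoetherianRing X.E := by
  rw [isNoetherianRing_iff_ideal_fg]
  intro J
  have hsurj := X.isExtension.proj_surjective
  obtain ⟨S, hS⟩ := (IsNoetherian.noetherian (Ideal.map X.proj J) : (Ideal.map X.proj J).FG)
  have hlift : ∀ r ∈ S, ∃ e ∈ J, X.proj e = r := by
    intro r hr
    have h1 : r ∈ Ideal.map X.proj J := by rw [← hS]; exact Submodule.subset_span hr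
    exact (Ideal.mem_map_iff_of_surjective X.proj hsurj).mp h1
  choose! g hgJ hg using hlift
  have hspanJ : Ideal.span (g '' (S : Set R)) ≤ J := by
    rw [Ideal.span_le]; rintro _ ⟨r, hr, rfl⟩; exact hgJ r hr
  have hle : Ideal.span (g '' (S : Set R)) ⊔ (J ⊓ RingHom.ker X.proj) = J := by
    apply le_antisymm
    · exact sup_le hspanJ inf_le_left
    · intro x hx
      have hx' : X.proj x ∈ Ideal.map X.proj J := Ideal.mem_map_of_mem _ hx
      have h3 : Ideal.map X.proj J = Ideal.map X.proj (Ideal.span (g '' (S : Set R))) := by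
        rw [Ideal.map_span, ← Set.image_comp, ← hS]
        have h4 : (⇑X.proj ∘ g) '' (S : Set R) = (S : Set R) := by
          ext r; constructor
          · rintro ⟨r', hr', rfl⟩
            rw [Function.comp_apply, hg r' hr']; exact hr'
          · intro hr; exact ⟨r, hr, hg r hr⟩
        rw [h4]
      rw [h3] at hx'
      obtain ⟨y, hy, hyx⟩ := (Ideal.mem_map_iff_of_surjective X.proj hsurj).mp hx'
      have hyJ : y ∈ J := hspanJ hy
      have e1 : x = y + (x - y) := by ring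
      rw [e1]
      refine Submodule.add_mem_sup hy ⟨J.sub_mem hx hyJ, RingHom.mem_ker.mpr ?_⟩
      rw [map_sub, hyx, sub_self]
  rw [← hle]
  exact Submodule.FG.sup (Submodule.fg_span (S.finite_toSet.image g)) (inf_ker_fg X J)

end common

section bwd

theorem bwd {k : Type u} [Field k] {Λ : Type u} [CommRing Λ] [Algebra k Λ]
    {R : Type u} [CommRing R] [Algebra Λ R] [IsLocalRing R] [IsNoetherianRing R]
    (hR : ∀ r : R, ∃ c : k, r - algebraMap Λ R (algebraMap k Λ c) ∈ maximalIdeal R)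
    (h : ∀ (B : Type u) [CommRing B] [Algebra Λ B] [IsLocalRing B] [IsArtinianRing B],
      (∀ b : B, ∃ c : k, b - algebraMap Λ B (algebraMap k Λ c) ∈ maximalIdeal B) →
      ∀ t : B, t ∈ maximalIdeal B → (∀ b ∈ maximalIdeal B, b * t = 0) →
      ∀ φ : R →ₐ[Λ] B ⧸ Ideal.span {t},
        ∃ φ' : R →ₐ[Λ] B, (Ideal.Quotient.mkₐ Λ (Ideal.span {t})).comp φ' = φ)
    (X : Exal.Ext Λ R (ResidueField R)) : X.IsTrivial := by
  haveI : IsLocalRing X.E := isLocalRing_E X
  haveI : IsNoetherianRing X.E := isNoetherianRing_E X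
  have hsurj := X.isExtension.proj_surjective
  have hmaxne : maximalIdeal X.E ≠ ⊤ := Ideal.IsMaximal.ne_top inferInstance
  have hinf := Ideal.iInf_pow_eq_bot_of_isLocalRing (maximalIdeal X.E) hmaxne
  have hi1 : X.incl 1 ≠ 0 := fun h0 =>
    one_ne_zero (X.isExtension.incl_injective (by rw [h0, map_zero]))
  obtain ⟨n, hn⟩ : ∃ n, X.incl 1 ∉ maximalIdeal X.E ^ n := by
    by_contra hcon
    push Not at hcon
    apply hi1
    have h1 : X.incl 1 ∈ ⨅ i, maximalIdeal X.E ^ i := (Ideal.mem_iInf).mpr hcon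
    rwa [hinf, Ideal.mem_bot] at h1
  have hn0 : n ≠ 0 := by
    rintro rfl
    exact hn (by rw [pow_zero, Ideal.one_eq_top]; trivial)
  have hnle : maximalIdeal X.E ^ n ≤ maximalIdeal X.E := Ideal.pow_le_self hn0
  have hker0 : ∀ z : ResidueField R, X.incl z ∈ maximalIdeal X.E ^ n → z = 0 := by
    intro z hz
    by_contra hz0
    obtain ⟨r, hr⟩ := residue_surjective z⁻¹
    obtain ⟨e', he'⟩ := hsurj r
    have h1 : X.incl 1 = e' * X.incl z := by
      rw [X.isExtension.mul_incl, he', smul_res, hr, inv_mul_cancel₀ hz0]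
    exact hn (h1 ▸ Ideal.mul_mem_left _ _ hz)
  haveI : Nontrivial (X.E ⧸ maximalIdeal X.E ^ n) :=
    Ideal.Quotient.nontrivial_iff.mpr (fun htop => hmaxne (top_le_iff.mp (htop ▸ hnle)))
  haveI : IsLocalRing (X.E ⧸ maximalIdeal X.E ^ n) :=
    IsLocalRing.of_surjective' (Ideal.Quotient.mk _) Ideal.Quotient.mk_surjective
  have hmk : ∀ e : X.E, Ideal.Quotient.mk (maximalIdeal X.E ^ n) e ∈
      maximalIdeal (X.E ⧸ maximalIdeal X.E ^ n) ↔ e ∈ maximalIdeal X.E := by
    intro e
    rw [mem_maximalIdeal, mem_maximalIdeal, mem_nonunits_iff, mem_nonunits_iff, not_iff_not]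
    constructor
    · intro hu
      by_contra he
      have he' : e ∈ maximalIdeal X.E := (mem_maximalIdeal e).mpr he
      obtain ⟨β, hβ⟩ := hu.exists_right_inv
      obtain ⟨e', rfl⟩ := Ideal.Quotient.mk_surjective β
      rw [← map_mul, ← map_one (Ideal.Quotient.mk (maximalIdeal X.E ^ n)), Ideal.Quotient.eq] at hβ
      have h1 : (1 : X.E) ∈ maximalIdeal X.E := by
        have h2 := hnle hβ
        have h3 : e * e' ∈ maximalIdeal X.E := Ideal.mul_mem_right _ _ he'
        have e1 : (1 : X.E) = e * e' - (e * e' - 1) := by ring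
        rw [e1]; exact Ideal.sub_mem _ h3 h2
      exact (Ideal.ne_top_iff_one _).mp hmaxne h1
    · intro hu; exact hu.map _
  haveI : IsArtinianRing (X.E ⧸ maximalIdeal X.E ^ n) := by
    rw [isArtinianRing_iff_isNilpotent_maximalIdeal]
    refine ⟨n, ?_⟩
    rw [Ideal.zero_eq_bot, eq_bot_iff]
    have h1 : maximalIdeal (X.E ⧸ maximalIdeal X.E ^ n) ≤
        Ideal.map (Ideal.Quotient.mk (maximalIdeal X.E ^ n)) (maximalIdeal X.E) := by
      intro β hβ
      obtain ⟨e, rfl⟩ := Ideal.Quotient.mk_surjective β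
      exact Ideal.mem_map_of_mem _ ((hmk e).mp hβ)
    calc maximalIdeal (X.E ⧸ maximalIdeal X.E ^ n) ^ n
        ≤ (Ideal.map (Ideal.Quotient.mk (maximalIdeal X.E ^ n)) (maximalIdeal X.E)) ^ n :=
          Ideal.pow_right_mono h1 n
      _ = Ideal.map (Ideal.Quotient.mk (maximalIdeal X.E ^ n)) (maximalIdeal X.E ^ n) :=
          (Ideal.map_pow _ _ _).symm
      _ = ⊥ := Ideal.map_quotient_self _
  have hB : ∀ β : X.E ⧸ maximalIdeal X.E ^ n, ∃ c : k,
      β - algebraMap Λ (X.E ⧸ maximalIdeal X.E ^ n) (algebraMap k Λ c) ∈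
        maximalIdeal (X.E ⧸ maximalIdeal X.E ^ n) := by
    intro β
    obtain ⟨e, rfl⟩ := Ideal.Quotient.mk_surjective β
    obtain ⟨c, hc⟩ := hR (X.proj e)
    refine ⟨c, ?_⟩
    have e1 : Ideal.Quotient.mk (maximalIdeal X.E ^ n) e
        - algebraMap Λ (X.E ⧸ maximalIdeal X.E ^ n) (algebraMap k Λ c)
        = Ideal.Quotient.mk (maximalIdeal X.E ^ n) (e - algebraMap Λ X.E (algebraMap k Λ c)) := by
      rw [map_sub]; rfl
    rw [e1, hmk, mem_max_iff X, map_sub, AlgHom.commutes]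
    exact hc
  have ht : Ideal.Quotient.mk (maximalIdeal X.E ^ n) (X.incl 1) ∈
      maximalIdeal (X.E ⧸ maximalIdeal X.E ^ n) := by
    rw [hmk, mem_max_iff X, proj_incl]; exact Ideal.zero_mem _
  have htm : ∀ β ∈ maximalIdeal (X.E ⧸ maximalIdeal X.E ^ n),
      β * Ideal.Quotient.mk (maximalIdeal X.E ^ n) (X.incl 1) = 0 := by
    intro β hβ
    obtain ⟨e, rfl⟩ := Ideal.Quotient.mk_surjective β
    have he : X.proj e ∈ maximalIdeal R := (mem_max_iff X e).mp ((hmk e).mp hβ)
    rw [← map_mul, X.isExtension.mul_incl, smul_res, (residue_eq_zero_iff _).mpr he, zero_mul,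
      map_zero, map_zero]
  obtain ⟨g, hg⟩ : ∃ g : X.E →ₐ[Λ] (X.E ⧸ maximalIdeal X.E ^ n) ⧸
      Ideal.span {Ideal.Quotient.mk (maximalIdeal X.E ^ n) (X.incl 1)},
      ∀ e, g e = Ideal.Quotient.mk _ (Ideal.Quotient.mk (maximalIdeal X.E ^ n) e) :=
    ⟨(Ideal.Quotient.mkₐ Λ _).comp (Ideal.Quotient.mkₐ Λ (maximalIdeal X.E ^ n)), fun e => rfl⟩
  have hH : RingHom.ker X.proj.toRingHom ≤ RingHom.ker g.toRingHom := by
    intro e he
    have he' : X.proj e = 0 := RingHom.mem_ker.mp he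
    obtain ⟨z, rfl⟩ := (X.isExtension.exact e).mp he'
    obtain ⟨e₀, h0⟩ := incl_eq_mul X z
    rw [RingHom.mem_ker]
    show g (X.incl z) = 0
    rw [hg, h0, map_mul, Ideal.Quotient.eq_zero_iff_mem]
    exact Ideal.mul_mem_left _ _ (Ideal.mem_span_singleton_self _)
  obtain ⟨φ', hφ'⟩ := h (X.E ⧸ maximalIdeal X.E ^ n) hB _ ht htm
    (AlgHom.liftOfSurjective X.proj hsurj g hH)
  have hφ'' : ∀ e : X.E, Ideal.Quotient.mk
      (Ideal.span {Ideal.Quotient.mk (maximalIdeal X.E ^ n) (X.incl 1)}) (φ' (X.proj e)) = g e := by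
    intro e
    have h1 := AlgHom.congr_fun hφ' (X.proj e)
    rw [AlgHom.liftOfSurjective_apply] at h1
    exact h1
  have hex : ∀ r : R, ∃ e : X.E, X.proj e = r ∧
      Ideal.Quotient.mk (maximalIdeal X.E ^ n) e = φ' r := by
    intro r
    obtain ⟨e₁, rfl⟩ := hsurj r
    have h1 := hφ'' e₁
    rw [hg, eq_comm, Ideal.Quotient.eq, Ideal.mem_span_singleton'] at h1
    obtain ⟨β, hβ⟩ := h1
    obtain ⟨e₂, rfl⟩ := Ideal.Quotient.mk_surjective β
    refine ⟨e₁ - e₂ * X.incl 1, ?_, ?_⟩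
    · rw [map_sub, map_mul, proj_incl, mul_zero, sub_zero]
    · rw [map_sub, map_mul, hβ]; ring
  have huniq : ∀ (r : R) (e e' : X.E),
      (X.proj e = r ∧ Ideal.Quotient.mk (maximalIdeal X.E ^ n) e = φ' r) →
      (X.proj e' = r ∧ Ideal.Quotient.mk (maximalIdeal X.E ^ n) e' = φ' r) → e = e' := by
    rintro r e e' ⟨h1, h2⟩ ⟨h1', h2'⟩
    have h3 : X.proj (e - e') = 0 := by rw [map_sub, h1, h1', sub_self]
    obtain ⟨z, hz⟩ := (X.isExtension.exact _).mp h3
    have h4 : X.incl z ∈ maximalIdeal X.E ^ n := by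
      rw [hz, ← Ideal.Quotient.eq, h2, h2']
    have h5 := hker0 z h4
    rw [h5, map_zero] at hz
    exact sub_eq_zero.mp hz.symm
  choose s hs1 hs2 using hex
  refine ⟨{ toFun := s, map_one' := ?_, map_mul' := ?_, map_zero' := ?_, map_add' := ?_,
            commutes' := ?_ }, hs1⟩
  · exact huniq 1 _ _ ⟨hs1 1, hs2 1⟩ ⟨map_one _, by rw [map_one, map_one]⟩
  · intro a b
    exact huniq (a * b) _ _ ⟨hs1 _, hs2 _⟩
      ⟨by rw [map_mul, hs1, hs1], by rw [map_mul, map_mul, hs2, hs2]⟩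
  · exact huniq 0 _ _ ⟨hs1 0, hs2 0⟩ ⟨map_zero _, by rw [map_zero, map_zero]⟩
  · intro a b
    exact huniq (a + b) _ _ ⟨hs1 _, hs2 _⟩
      ⟨by rw [map_add, hs1, hs1], by rw [map_add, map_add, hs2, hs2]⟩
  · intro l
    exact huniq _ _ _ ⟨hs1 _, hs2 _⟩ ⟨AlgHom.commutes _ _, by rw [AlgHom.commutes]; rfl⟩

end bwd

section fwd

variable {k : Type u} [Field k] {Λ : Type u} [CommRing Λ] [Algebra k Λ]
  {R : Type u} [CommRing R] [Algebra Λ R] [IsLocalRing R]
  {B : Type u} [CommRing B] [Algebra Λ B] [IsLocalRing B]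

/-- `k → Λ → R → R/m` -/
noncomputable def rho (k Λ R : Type u) [Field k] [CommRing Λ] [Algebra k Λ] [CommRing R]
    [Algebra Λ R] [IsLocalRing R] : k →+* ResidueField R :=
  (residue R).comp ((algebraMap Λ R).comp (algebraMap k Λ))

theorem rho_bij
    (hR : ∀ r : R, ∃ c : k, r - algebraMap Λ R (algebraMap k Λ c) ∈ maximalIdeal R) :
    Function.Bijective (rho k Λ R) := by
  refine ⟨(rho k Λ R).injective, fun z => ?_⟩
  obtain ⟨a, rfl⟩ := residue_surjective z
  obtain ⟨c, hc⟩ := hR a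
  refine ⟨c, ?_⟩
  have h1 : residue R (a - algebraMap Λ R (algebraMap k Λ c)) = 0 :=
    (residue_eq_zero_iff _).mpr hc
  rw [map_sub, sub_eq_zero] at h1
  exact h1.symm

/-- the identification of `k` with the residue field of `R` -/
noncomputable def eqv
    (hR : ∀ r : R, ∃ c : k, r - algebraMap Λ R (algebraMap k Λ c) ∈ maximalIdeal R) :
    k ≃+* ResidueField R := RingEquiv.ofBijective (rho k Λ R) (rho_bij hR)

theorem eqv_apply
    (hR : ∀ r : R, ∃ c : k, r - algebraMap Λ R (algebraMap k Λ c) ∈ maximalIdeal R) (c : k) :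
    eqv hR c = residue R (algebraMap Λ R (algebraMap k Λ c)) := rfl

theorem phi_local
    (hB : ∀ b : B, ∃ c : k, b - algebraMap Λ B (algebraMap k Λ c) ∈ maximalIdeal B)
    (t : B) (ht : t ∈ maximalIdeal B) (φ : R →ₐ[Λ] B ⧸ Ideal.span {t})
    (r : R) (hr : r ∈ maximalIdeal R) (x : B)
    (hx : Ideal.Quotient.mk (Ideal.span {t}) x = φ r) : x ∈ maximalIdeal B := by
  have hle : ∀ a ∈ Ideal.span {t}, residue B a = 0 := by
    intro a ha
    rw [residue_eq_zero_iff]
    exact (Ideal.span_singleton_le_iff_mem _).mpr ht ha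
  obtain ⟨χ, hχ⟩ : ∃ χ : R →+* ResidueField B, ∀ r' x',
      Ideal.Quotient.mk (Ideal.span {t}) x' = φ r' → χ r' = residue B x' := by
    refine ⟨(Ideal.Quotient.lift (Ideal.span {t}) (residue B) hle).comp φ.toRingHom, ?_⟩
    intro r' x' h'
    show (Ideal.Quotient.lift (Ideal.span {t}) (residue B) hle) (φ r') = _
    rw [← h', Ideal.Quotient.lift_mk]
  have hsurjχ : Function.Surjective χ := by
    intro β
    obtain ⟨b, rfl⟩ := residue_surjective β
    obtain ⟨c, hc⟩ := hB b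
    refine ⟨algebraMap Λ R (algebraMap k Λ c), ?_⟩
    rw [hχ _ (algebraMap Λ B (algebraMap k Λ c)) (by rw [AlgHom.commutes]; rfl)]
    have h1 := (residue_eq_zero_iff _).mpr hc
    rw [map_sub, sub_eq_zero] at h1
    exact h1.symm
  have hmax : (RingHom.ker χ).IsMaximal := RingHom.ker_isMaximal_of_surjective χ hsurjχ
  have hker : RingHom.ker χ = maximalIdeal R := IsLocalRing.eq_maximalIdeal hmax
  have h1 : χ r = 0 := by rw [← RingHom.mem_ker, hker]; exact hr
  rw [hχ r x hx, residue_eq_zero_iff] at h1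
  exact h1

/-- the fibre product -/
def Efib (t : B) (φ : R →ₐ[Λ] B ⧸ Ideal.span {t}) : Subalgebra Λ (R × B) :=
  AlgHom.equalizer (φ.comp (AlgHom.fst Λ R B))
    ((Ideal.Quotient.mkₐ Λ (Ideal.span {t})).comp (AlgHom.snd Λ R B))

theorem mem_Efib (t : B) (φ : R →ₐ[Λ] B ⧸ Ideal.span {t}) (p : R × B) :
    p ∈ Efib t φ ↔ φ p.1 = Ideal.Quotient.mk (Ideal.span {t}) p.2 := Iff.rfl

/-- the inclusion of the residue field in the fibre product -/
noncomputable def inclF
    (hR : ∀ r : R, ∃ c : k, r - algebraMap Λ R (algebraMap k Λ c) ∈ maximalIdeal R)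
    (t : B) (φ : R →ₐ[Λ] B ⧸ Ideal.span {t}) : ResidueField R →+ ↥(Efib t φ) where
  toFun z := ⟨(0, algebraMap Λ B (algebraMap k Λ ((eqv hR).symm z)) * t), by
    rw [mem_Efib, map_zero, eq_comm, Ideal.Quotient.eq_zero_iff_mem]
    exact Ideal.mul_mem_left _ _ (Ideal.mem_span_singleton_self t)⟩
  map_zero' := by
    apply Subtype.ext
    show ((0 : R), algebraMap Λ B (algebraMap k Λ ((eqv hR).symm 0)) * t) = 0
    rw [map_zero, map_zero, map_zero, zero_mul]
    rfl
  map_add' x y := by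
    apply Subtype.ext
    show ((0 : R), algebraMap Λ B (algebraMap k Λ ((eqv hR).symm (x + y))) * t)
      = ((0 : R), algebraMap Λ B (algebraMap k Λ ((eqv hR).symm x)) * t)
        + ((0 : R), algebraMap Λ B (algebraMap k Λ ((eqv hR).symm y)) * t)
    rw [map_add, map_add, map_add, add_mul, Prod.mk_add_mk, add_zero]

theorem inclF_coe
    (hR : ∀ r : R, ∃ c : k, r - algebraMap Λ R (algebraMap k Λ c) ∈ maximalIdeal R)
    (t : B) (φ : R →ₐ[Λ] B ⧸ Ideal.span {t}) (z : ResidueField R) :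
    ((inclF hR t φ z : ↥(Efib t φ)) : R × B)
      = (0, algebraMap Λ B (algebraMap k Λ ((eqv hR).symm z)) * t) := rfl

/-- the projection of the fibre product -/
noncomputable def projF (t : B) (φ : R →ₐ[Λ] B ⧸ Ideal.span {t}) : ↥(Efib t φ) →ₐ[Λ] R :=
  (AlgHom.fst Λ R B).comp (Efib t φ).val

theorem projF_apply (t : B) (φ : R →ₐ[Λ] B ⧸ Ideal.span {t}) (p : ↥(Efib t φ)) :
    projF t φ p = (p : R × B).1 := rfl

theorem isExtF
    (hR : ∀ r : R, ∃ c : k, r - algebraMap Λ R (algebraMap k Λ c) ∈ maximalIdeal R)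
    (hB : ∀ b : B, ∃ c : k, b - algebraMap Λ B (algebraMap k Λ c) ∈ maximalIdeal B)
    (t : B) (ht : t ∈ maximalIdeal B) (ht0 : t ≠ 0)
    (htm : ∀ b ∈ maximalIdeal B, b * t = 0) (φ : R →ₐ[Λ] B ⧸ Ideal.span {t}) :
    Exal.IsExtension (projF t φ) (inclF hR t φ) where
  proj_surjective := fun r => by
    obtain ⟨x, hx⟩ := Ideal.Quotient.mk_surjective (φ r)
    exact ⟨⟨(r, x), (mem_Efib t φ _).mpr hx.symm⟩, rfl⟩
  incl_injective := by
    rw [injective_iff_map_eq_zero]
    intro z hz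
    have h1 : algebraMap Λ B (algebraMap k Λ ((eqv hR).symm z)) * t = 0 :=
      congrArg (fun p : ↥(Efib t φ) => (p : R × B).2) hz
    by_contra hz0
    have hc : (eqv hR).symm z ≠ 0 := fun h => hz0 (by
      have h2 := congrArg (eqv hR) h
      rwa [RingEquiv.apply_symm_apply, map_zero] at h2)
    have hu : IsUnit (algebraMap Λ B (algebraMap k Λ ((eqv hR).symm z))) :=
      ((IsUnit.mk0 _ hc).map (algebraMap k Λ)).map (algebraMap Λ B)
    exact ht0 (by rwa [hu.mul_right_eq_zero] at h1)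
  exact := fun p => by
    obtain ⟨⟨r, x⟩, hp⟩ := p
    have hp' : φ r = Ideal.Quotient.mk (Ideal.span {t}) x := hp
    constructor
    · intro h0
      have hr0 : r = 0 := h0
      subst hr0
      rw [map_zero, eq_comm, Ideal.Quotient.eq_zero_iff_mem, Ideal.mem_span_singleton'] at hp'
      obtain ⟨y, hy⟩ := hp'
      obtain ⟨c, hc⟩ := hB y
      refine ⟨eqv hR c, Subtype.ext ?_⟩
      show ((inclF hR t φ (eqv hR c) : ↥(Efib t φ)) : R × B) = (0, x)
      rw [inclF_coe, RingEquiv.symm_apply_apply]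
      have h2 := htm _ hc
      rw [sub_mul, sub_eq_zero] at h2
      rw [← h2, hy]
    · rintro ⟨z, hz⟩
      have h2 := congrArg (fun p : ↥(Efib t φ) => (p : R × B).1) hz
      exact h2.symm
  mul_incl := fun p z => by
    obtain ⟨⟨r, x⟩, hp⟩ := p
    have hp' : φ r = Ideal.Quotient.mk (Ideal.span {t}) x := hp
    obtain ⟨c₀, hc₀⟩ := hR r
    have h1 : (projF t φ ⟨(r, x), hp⟩) • z = eqv hR c₀ * z := by
      rw [projF_apply, smul_res, eqv_apply]
      congr 1
      have h2 := (residue_eq_zero_iff _).mpr hc₀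
      rw [map_sub, sub_eq_zero] at h2
      exact h2
    rw [h1]
    apply Subtype.ext
    rw [inclF_coe, map_mul, RingEquiv.symm_apply_apply]
    show ((r, x) : R × B) * ((inclF hR t φ z : ↥(Efib t φ)) : R × B) = _
    rw [inclF_coe, Prod.mk_mul_mk, mul_zero, map_mul, map_mul]
    have hx : x - algebraMap Λ B (algebraMap k Λ c₀) ∈ maximalIdeal B := by
      apply phi_local hB t ht φ (r - algebraMap Λ R (algebraMap k Λ c₀)) hc₀
      rw [map_sub, map_sub, hp', AlgHom.commutes]
      rfl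
    have h3 := htm _ hx
    rw [sub_mul, sub_eq_zero] at h3
    congr 1
    calc x * (algebraMap Λ B (algebraMap k Λ ((eqv hR).symm z)) * t)
        = algebraMap Λ B (algebraMap k Λ ((eqv hR).symm z)) * (x * t) := by ring
      _ = algebraMap Λ B (algebraMap k Λ ((eqv hR).symm z))
            * (algebraMap Λ B (algebraMap k Λ c₀) * t) := by rw [h3]
      _ = algebraMap Λ B (algebraMap k Λ c₀)
            * algebraMap Λ B (algebraMap k Λ ((eqv hR).symm z)) * t := by ring

theorem fwd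
    (hR : ∀ r : R, ∃ c : k, r - algebraMap Λ R (algebraMap k Λ c) ∈ maximalIdeal R)
    (htriv : ∀ X : Exal.Ext Λ R (ResidueField R), X.IsTrivial)
    (hB : ∀ b : B, ∃ c : k, b - algebraMap Λ B (algebraMap k Λ c) ∈ maximalIdeal B)
    (t : B) (ht : t ∈ maximalIdeal B) (htm : ∀ b ∈ maximalIdeal B, b * t = 0)
    (φ : R →ₐ[Λ] B ⧸ Ideal.span {t}) :
    ∃ φ' : R →ₐ[Λ] B, (Ideal.Quotient.mkₐ Λ (Ideal.span {t})).comp φ' = φ := by
  by_cases ht0 : t = 0
  · subst ht0
    have hinj : Function.Injective (Ideal.Quotient.mkₐ Λ (Ideal.span {(0 : B)})) := by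
      intro a b hab
      have h1 : a - b ∈ Ideal.span {(0 : B)} := Ideal.Quotient.eq.mp hab
      obtain ⟨y, hy⟩ := Ideal.mem_span_singleton'.mp h1
      rw [mul_zero] at hy
      exact sub_eq_zero.mp hy.symm
    obtain ⟨ε, hε⟩ : ∃ ε : B ≃ₐ[Λ] B ⧸ Ideal.span {(0 : B)},
        ∀ x, ε x = Ideal.Quotient.mkₐ Λ (Ideal.span {(0 : B)}) x :=
      ⟨AlgEquiv.ofBijective _ ⟨hinj, Ideal.Quotient.mkₐ_surjective Λ _⟩, fun x => rfl⟩
    refine ⟨(ε.symm : (B ⧸ Ideal.span {(0 : B)}) →ₐ[Λ] B).comp φ, ?_⟩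
    refine AlgHom.ext fun r => ?_
    show Ideal.Quotient.mkₐ Λ (Ideal.span {(0 : B)}) (ε.symm (φ r)) = φ r
    rw [← hε, AlgEquiv.apply_symm_apply]
  · obtain ⟨s, hs⟩ := htriv
      { E := ↥(Efib t φ)
        proj := projF t φ
        incl := inclF hR t φ
        isExtension := isExtF hR hB t ht ht0 htm φ }
    refine ⟨(AlgHom.snd Λ R B).comp ((Efib t φ).val.comp s), ?_⟩
    refine AlgHom.ext fun r => ?_
    have h1 : ((s r : ↥(Efib t φ)) : R × B).1 = r := hs r
    have h2 := (mem_Efib t φ _).mp (s r).2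
    show Ideal.Quotient.mk (Ideal.span {t}) (((s r : ↥(Efib t φ)) : R × B).2) = φ r
    rw [← h2, h1]

end fwd

theorem main
    {k : Type u} [Field k]
    {Λ : Type u} [CommRing Λ] [Algebra k Λ]
    {R : Type u} [CommRing R] [Algebra Λ R] [IsLocalRing R] [IsNoetherianRing R]
    (hR : ∀ r : R, ∃ c : k, r - algebraMap Λ R (algebraMap k Λ c) ∈ IsLocalRing.maximalIdeal R) :
    (∀ X : Exal.Ext Λ R (IsLocalRing.ResidueField R), X.IsTrivial) ↔
    (∀ (B : Type u) [CommRing B] [Algebra Λ B] [IsLocalRing B] [IsArtinianRing B],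
      (∀ b : B, ∃ c : k, b - algebraMap Λ B (algebraMap k Λ c) ∈ IsLocalRing.maximalIdeal B) →
      ∀ t : B, t ∈ IsLocalRing.maximalIdeal B → (∀ b ∈ IsLocalRing.maximalIdeal B, b * t = 0) →
      ∀ φ : R →ₐ[Λ] B ⧸ Ideal.span {t},
        ∃ φ' : R →ₐ[Λ] B, (Ideal.Quotient.mkₐ Λ (Ideal.span {t})).comp φ' = φ) := by
  constructor
  · intro htriv B _ _ _ _ hB t ht htm φ
    exact fwd hR htriv hB t ht htm φ
  · intro h X
    exact bwd hR h X

end Aux11281

namespace Groth.Agent.S11281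

/-- Let k be an algebraically closed field, Λ a local Noetherian k-algebra with residue field k, and R a
local Noetherian Λ-algebra, with local structure map and residue field k. The following are
equivalent: (a) every Λ-extension of R by its residue field k is trivial, i.e. the relative
obstruction space o(R/Λ) = Ex_Λ(R, k) vanishes; (b) for every local Artinian Λ-algebra B with
residue field k and every t in the maximal ideal of B annihilated by the maximal ideal, every
Λ-algebra map R → B/tB lifts to a Λ-algebra map R → B (formal smoothness of R over Λ tested on small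
extensions of Artinian rings). The test algebras B range over the universe of R. -/
theorem result
    {k : Type u} [Field k] [IsAlgClosed k]
    {Λ : Type u} [CommRing Λ] [Algebra k Λ] [IsLocalRing Λ] [IsNoetherianRing Λ]
    (hΛ : ∀ a : Λ, ∃ c : k, a - algebraMap k Λ c ∈ IsLocalRing.maximalIdeal Λ)
    {R : Type u} [CommRing R] [Algebra Λ R] [IsLocalRing R] [IsNoetherianRing R]
    [IsLocalHom (algebraMap Λ R)]
    (hR : ∀ r : R, ∃ c : k, r - algebraMap Λ R (algebraMap k Λ c) ∈ IsLocalRing.maximalIdeal R) :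
    (∀ X : Exal.Ext Λ R (IsLocalRing.ResidueField R), X.IsTrivial) ↔
    (∀ (B : Type u) [CommRing B] [Algebra Λ B] [IsLocalRing B] [IsArtinianRing B],
      (∀ b : B, ∃ c : k, b - algebraMap Λ B (algebraMap k Λ c) ∈ IsLocalRing.maximalIdeal B) →
      ∀ t : B, t ∈ IsLocalRing.maximalIdeal B → (∀ b ∈ IsLocalRing.maximalIdeal B, b * t = 0) →
      ∀ φ : R →ₐ[Λ] B ⧸ Ideal.span {t},
        ∃ φ' : R →ₐ[Λ] B, (Ideal.Quotient.mkₐ Λ (Ideal.span {t})).comp φ' = φ) := by
  exact Aux11281.main hR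

end Groth.Agent.S11281
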