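import Mathlib
import Groth.Statements.S11282


set_option autoImplicit false
universe u
open Deform

namespace Aux11282

open IsLocalRing

section common

variable {Λ : Type u} [CommRing Λ] {R : Type u} [CommRing R] [Algebra Λ R] [IsLocalRing R]
variable (X : Exal.Ext Λ R (ResidueField R))

theorem proj_incl (z : ResidueField R) : X.proj (X.incl z) = 0 :=
  (X.isExtension.exact _).mpr ⟨z, rfl⟩

theorem exists_incl (e : X.E) (h : X.proj e = 0) : ∃ z, X.incl z = e :=
  (X.isExtension.exact e).mp h

omit [Algebra Λ R] in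
theorem smul_res (r : R) (z : ResidueField R) : r • z = residue R r * z := by
  rw [Algebra.smul_def, ResidueField.algebraMap_eq]

/-- elements lying over the maximal ideal kill the kernel -/
theorem mul_ker (a e : X.E) (ha : X.proj a ∈ maximalIdeal R) (he : X.proj e = 0) :
    a * e = 0 := by
  obtain ⟨z, rfl⟩ := exists_incl X e he
  rw [X.isExtension.mul_incl, smul_res, (residue_eq_zero_iff _).mpr ha, zero_mul, map_zero]

/-- the linear form `v ↦ ∑ v i * x i` -/
noncomputable def piMap {r : ℕ} (x : Fin r → R) : (Fin r → R) →ₗ[R] R where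
  toFun v := ∑ i, v i * x i
  map_add' v w := by
    simp only [Pi.add_apply, add_mul, Finset.sum_add_distrib]
  map_smul' c v := by
    simp only [Pi.smul_apply, smul_eq_mul, RingHom.id_apply, Finset.mul_sum, mul_assoc]

omit [IsLocalRing R] in
theorem piMap_apply {r : ℕ} (x : Fin r → R) (v : Fin r → R) :
    piMap x v = ∑ i, v i * x i := rfl

theorem ev_eq_zero {r : ℕ} (x : Fin r → R) (hx : ∀ i, x i ∈ maximalIdeal R)
    (y : Fin r → X.E) (hy : ∀ i, X.proj (y i) = x i)
    (v : Fin r → R) (hv : v ∈ maximalIdeal R • LinearMap.ker (piMap x))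
    (a : Fin r → X.E) (ha : ∀ i, X.proj (a i) = v i) : ∑ i, a i * y i = 0 := by
  refine Submodule.smul_induction_on
    (p := fun v => ∀ a : Fin r → X.E, (∀ i, X.proj (a i) = v i) → ∑ i, a i * y i = 0)
    hv ?_ ?_ a ha
  · intro t ht w hw a ha
    obtain ⟨t', ht'⟩ := X.isExtension.proj_surjective t
    choose w' hw' using fun i => X.isExtension.proj_surjective (w i)
    have he : X.proj (∑ i, w' i * y i) = 0 := by
      rw [map_sum]
      have h0 : piMap x w = 0 := LinearMap.mem_ker.mp hw
      rw [← h0, piMap_apply]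
      refine Finset.sum_congr rfl fun i _ => ?_
      rw [map_mul, hw', hy]
    have h1 : t' * ∑ i, w' i * y i = 0 := mul_ker X _ _ (by rw [ht']; exact ht) he
    have h2 : ∀ i, a i * y i = t' * (w' i * y i) := by
      intro i
      have hd : X.proj (a i - t' * w' i) = 0 := by
        rw [map_sub, map_mul, ha, ht', hw', Pi.smul_apply, smul_eq_mul, sub_self]
      have h3 : y i * (a i - t' * w' i) = 0 := mul_ker X _ _ (by rw [hy]; exact hx i) hd
      linear_combination h3
    rw [Finset.sum_congr rfl fun i _ => h2 i, ← Finset.mul_sum, h1]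
  · intro v w pv pw a ha
    choose a' ha' using fun i => X.isExtension.proj_surjective (v i)
    have h1 : ∑ i, a' i * y i = 0 := pv a' ha'
    have h2 : ∑ i, (a i - a' i) * y i = 0 := pw (fun i => a i - a' i) (fun i => by
      show X.proj (a i - a' i) = w i
      rw [map_sub, ha, ha', Pi.add_apply, add_sub_cancel_left])
    have h3 : ∑ i, a i * y i = ∑ i, a' i * y i + ∑ i, (a i - a' i) * y i := by
      rw [← Finset.sum_add_distrib]
      refine Finset.sum_congr rfl fun i _ => ?_
      ring
    rw [h3, h1, h2, add_zero]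

theorem claimA {r : ℕ} (x : Fin r → R) (hx : Ideal.span (Set.range x) = maximalIdeal R)
    (y : Fin r → X.E) (hy : ∀ i, X.proj (y i) = x i) (n : ℕ) (hn : 1 ≤ n)
    (e : X.E) (he : e ∈ (Ideal.comap X.proj (maximalIdeal R)) ^ (n + 1)) :
    ∃ a : Fin r → X.E, (∀ i, a i ∈ (Ideal.comap X.proj (maximalIdeal R)) ^ n) ∧
      e = ∑ i, a i * y i := by
  rw [pow_succ', ← Ideal.smul_eq_mul] at he
  refine Submodule.smul_induction_on he ?_ ?_
  · intro a ha b hb
    have ha' : X.proj a ∈ maximalIdeal R := ha
    rw [← hx, Ideal.mem_span_range_iff_exists_fun] at ha'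
    obtain ⟨c, hc⟩ := ha'
    choose c' hc' using fun i => X.isExtension.proj_surjective (c i)
    have hd : X.proj (a - ∑ i, c' i * y i) = 0 := by
      rw [map_sub, map_sum, ← hc, sub_eq_zero]
      refine Finset.sum_congr rfl fun i _ => ?_
      rw [map_mul, hc', hy]
    have hbM' : b ∈ Ideal.comap X.proj (maximalIdeal R) :=
      (Ideal.pow_le_self (show n ≠ 0 by omega)) hb
    have hbM : X.proj b ∈ maximalIdeal R := hbM'
    have h1 : b * (a - ∑ i, c' i * y i) = 0 := mul_ker X _ _ hbM hd
    refine ⟨fun i => c' i * b, fun i => Ideal.mul_mem_left _ _ hb, ?_⟩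
    show a * b = ∑ i, c' i * b * y i
    have h2 : ∑ i, c' i * b * y i = b * ∑ i, c' i * y i := by
      rw [Finset.mul_sum]
      refine Finset.sum_congr rfl fun i _ => ?_
      ring
    rw [h2]
    linear_combination h1
  · rintro e e' ⟨a, ha, rfl⟩ ⟨a', ha', rfl⟩
    refine ⟨fun i => a i + a' i, fun i => Ideal.add_mem _ (ha i) (ha' i), ?_⟩
    rw [← Finset.sum_add_distrib]
    refine Finset.sum_congr rfl fun i _ => ?_
    ring

theorem main [IsNoetherianRing R] : ∃ n : ℕ, ∀ X : Exal.Ext Λ R (ResidueField R),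
    ∃ I : Ideal X.E, (∀ x ∈ I, X.proj x = 0 → x = 0) ∧
      Ideal.map X.proj I = maximalIdeal R ^ (n + 1) := by
  obtain ⟨r, x, hx⟩ := Submodule.fg_iff_exists_fin_generating_family.mp
    (IsNoetherian.noetherian (maximalIdeal R))
  have hx' : Ideal.span (Set.range x) = maximalIdeal R := hx
  have hxm : ∀ i, x i ∈ maximalIdeal R := fun i => by
    rw [← hx']; exact Ideal.subset_span ⟨i, rfl⟩
  obtain ⟨c, hc⟩ := Ideal.exists_pow_inf_eq_pow_smul (maximalIdeal R) (LinearMap.ker (piMap x))
  refine ⟨c + 1, fun X => ?_⟩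
  choose y hy using fun i => X.isExtension.proj_surjective (x i)
  have hmap : ∀ j, Ideal.map X.proj (Ideal.comap X.proj (maximalIdeal R) ^ j)
      = maximalIdeal R ^ j := fun j => by
    rw [Ideal.map_pow, Ideal.map_comap_of_surjective X.proj X.isExtension.proj_surjective]
  refine ⟨Ideal.comap X.proj (maximalIdeal R) ^ (c + 1 + 1), ?_, hmap _⟩
  intro e he he0
  obtain ⟨a, ha, rfl⟩ := claimA X x hx' y hy (c + 1) (by omega) e he
  refine ev_eq_zero X x hxm y hy (fun i => X.proj (a i)) ?_ a (fun i => rfl)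
  have hvi : ∀ i, X.proj (a i) ∈ maximalIdeal R ^ (c + 1) := fun i => by
    rw [← hmap]; exact Ideal.mem_map_of_mem X.proj (ha i)
  have hv1 : (fun i => X.proj (a i)) ∈
      (maximalIdeal R ^ (c + 1) • ⊤ : Submodule R (Fin r → R)) := by
    rw [pi_eq_sum_univ (fun i => X.proj (a i))]
    refine Submodule.sum_mem _ fun i _ => ?_
    exact Submodule.smul_mem_smul (hvi i) Submodule.mem_top
  have hv2 : (fun i => X.proj (a i)) ∈ LinearMap.ker (piMap x) := by
    rw [LinearMap.mem_ker, piMap_apply]
    rw [map_sum] at he0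
    rw [← he0]
    refine Finset.sum_congr rfl fun i _ => ?_
    rw [map_mul, hy]
  have hv3 := hc (c + 1) (by omega)
  have hv4 : (fun i => X.proj (a i)) ∈ maximalIdeal R ^ (c + 1 - c) •
      (maximalIdeal R ^ c • ⊤ ⊓ LinearMap.ker (piMap x)) := by
    rw [← hv3]; exact ⟨hv1, hv2⟩
  have hv5 : c + 1 - c = 1 := by omega
  rw [hv5, pow_one] at hv4
  exact Submodule.smul_mono le_rfl inf_le_right hv4

end common

end Aux11282

namespace Groth.Agent.S11282

/-- Let k be an algebraically closed field, Λ a complete local Noetherian k-algebra with residue field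
k, and R a local Noetherian Λ-algebra with local structure map, residue field k and maximal ideal m.
Then for some n the pull-back map o((R/m^(n+1))/Λ) → o(R/Λ) on obstruction spaces is onto: every
Λ-extension 0 → k → E → R → 0 of R by its residue field is the inverse image of a Λ-extension of
R/m^(n+1) by k. Concretely, the middle ring E of every such extension contains an ideal I which
meets the kernel k only in 0 and whose image in R is exactly m^(n+1) (then E/I is an extension of
R/m^(n+1) by k whose inverse image along R → R/m^(n+1) is E). -/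
theorem result
    {k : Type u} [Field k] [IsAlgClosed k]
    {Λ : Type u} [CommRing Λ] [Algebra k Λ] [IsLocalRing Λ] [IsNoetherianRing Λ]
    [IsAdicComplete (IsLocalRing.maximalIdeal Λ) Λ]
    (hΛ : ∀ a : Λ, ∃ c : k, a - algebraMap k Λ c ∈ IsLocalRing.maximalIdeal Λ)
    {R : Type u} [CommRing R] [Algebra Λ R] [IsLocalRing R] [IsNoetherianRing R]
    [IsLocalHom (algebraMap Λ R)]
    (hR : ∀ r : R, ∃ c : k, r - algebraMap Λ R (algebraMap k Λ c) ∈ IsLocalRing.maximalIdeal R) :
    ∃ n : ℕ, ∀ X : Exal.Ext Λ R (IsLocalRing.ResidueField R),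
      ∃ I : Ideal X.E, (∀ x ∈ I, X.proj x = 0 → x = 0) ∧
        Ideal.map X.proj I = IsLocalRing.maximalIdeal R ^ (n + 1) := by
  exact Aux11282.main 

end Groth.Agent.S11282
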