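import Mathlib
import Groth.Statements.S11283
import Groth.Agent.Lib.Helper29.Baer

set_option autoImplicit false
universe u
open Deform

namespace Aux11283

open IsLocalRing Helper29.Baer

section ideal

variable {Λ : Type u} [CommRing Λ] {R : Type u} [CommRing R] [Algebra Λ R] [IsLocalRing R]
  {L : Type u} [AddCommGroup L] [Module R L]
variable (X : Exal.Ext Λ R L)

/-- elements lying over the maximal ideal kill the kernel -/
theorem mul_ker (hL : ∀ t ∈ maximalIdeal R, ∀ z : L, t • z = 0) (a e : X.E)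
    (ha : X.proj a ∈ maximalIdeal R) (he : X.proj e = 0) : a * e = 0 := by
  obtain ⟨z, rfl⟩ := exists_incl X e he
  rw [X.isExtension.mul_incl, hL _ ha, map_zero]

/-- the linear form `v ↦ ∑ v i * x i` -/
noncomputable def piMap {r : ℕ} (x : Fin r → R) : (Fin r → R) →ₗ[R] R where
  toFun v := ∑ i, v i * x i
  map_add' v w := by
    simp only [Pi.add_apply, add_mul, Finset.sum_add_distrib]
  map_smul' c v := by
    simp only [Pi.smul_apply, smul_eq_mul, RingHom.id_apply, Finset.mul_sum, mul_assoc]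

omit [IsLocalRing R] in
theorem piMap_apply {r : ℕ} (x : Fin r → R) (v : Fin r → R) :
    piMap x v = ∑ i, v i * x i := rfl

theorem ev_eq_zero (hL : ∀ t ∈ maximalIdeal R, ∀ z : L, t • z = 0)
    {r : ℕ} (x : Fin r → R) (hx : ∀ i, x i ∈ maximalIdeal R)
    (y : Fin r → X.E) (hy : ∀ i, X.proj (y i) = x i)
    (v : Fin r → R) (hv : v ∈ maximalIdeal R • LinearMap.ker (piMap x))
    (a : Fin r → X.E) (ha : ∀ i, X.proj (a i) = v i) : ∑ i, a i * y i = 0 := by
  refine Submodule.smul_induction_on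
    (p := fun v => ∀ a : Fin r → X.E, (∀ i, X.proj (a i) = v i) → ∑ i, a i * y i = 0)
    hv ?_ ?_ a ha
  · intro t ht w hw a ha
    obtain ⟨t', ht'⟩ := X.isExtension.proj_surjective t
    choose w' hw' using fun i => X.isExtension.proj_surjective (w i)
    have he : X.proj (∑ i, w' i * y i) = 0 := by
      rw [map_sum]
      have h0 : piMap x w = 0 := LinearMap.mem_ker.mp hw
      rw [← h0, piMap_apply]
      refine Finset.sum_congr rfl fun i _ => ?_
      rw [map_mul, hw', hy]
    have h1 : t' * ∑ i, w' i * y i = 0 := mul_ker X hL _ _ (by rw [ht']; exact ht) he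
    have h2 : ∀ i, a i * y i = t' * (w' i * y i) := by
      intro i
      have hd : X.proj (a i - t' * w' i) = 0 := by
        rw [map_sub, map_mul, ha, ht', hw', Pi.smul_apply, smul_eq_mul, sub_self]
      have h3 : y i * (a i - t' * w' i) = 0 := mul_ker X hL _ _ (by rw [hy]; exact hx i) hd
      linear_combination h3
    rw [Finset.sum_congr rfl fun i _ => h2 i, ← Finset.mul_sum, h1]
  · intro v w pv pw a ha
    choose a' ha' using fun i => X.isExtension.proj_surjective (v i)
    have h1 : ∑ i, a' i * y i = 0 := pv a' ha'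
    have h2 : ∑ i, (a i - a' i) * y i = 0 := pw (fun i => a i - a' i) (fun i => by
      show X.proj (a i - a' i) = w i
      rw [map_sub, ha, ha', Pi.add_apply, add_sub_cancel_left])
    have h3 : ∑ i, a i * y i = ∑ i, a' i * y i + ∑ i, (a i - a' i) * y i := by
      rw [← Finset.sum_add_distrib]
      refine Finset.sum_congr rfl fun i _ => ?_
      ring
    rw [h3, h1, h2, add_zero]

theorem claimA (hL : ∀ t ∈ maximalIdeal R, ∀ z : L, t • z = 0)
    {r : ℕ} (x : Fin r → R) (hx : Ideal.span (Set.range x) = maximalIdeal R)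
    (y : Fin r → X.E) (hy : ∀ i, X.proj (y i) = x i) (n : ℕ) (hn : 1 ≤ n)
    (e : X.E) (he : e ∈ (Ideal.comap X.proj (maximalIdeal R)) ^ (n + 1)) :
    ∃ a : Fin r → X.E, (∀ i, a i ∈ (Ideal.comap X.proj (maximalIdeal R)) ^ n) ∧
      e = ∑ i, a i * y i := by
  rw [pow_succ', ← Ideal.smul_eq_mul] at he
  refine Submodule.smul_induction_on he ?_ ?_
  · intro a ha b hb
    have ha' : X.proj a ∈ maximalIdeal R := ha
    rw [← hx, Ideal.mem_span_range_iff_exists_fun] at ha'
    obtain ⟨c, hc⟩ := ha'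
    choose c' hc' using fun i => X.isExtension.proj_surjective (c i)
    have hd : X.proj (a - ∑ i, c' i * y i) = 0 := by
      rw [map_sub, map_sum, ← hc, sub_eq_zero]
      refine Finset.sum_congr rfl fun i _ => ?_
      rw [map_mul, hc', hy]
    have hbM' : b ∈ Ideal.comap X.proj (maximalIdeal R) :=
      (Ideal.pow_le_self (show n ≠ 0 by omega)) hb
    have hbM : X.proj b ∈ maximalIdeal R := hbM'
    have h1 : b * (a - ∑ i, c' i * y i) = 0 := mul_ker X hL _ _ hbM hd
    refine ⟨fun i => c' i * b, fun i => Ideal.mul_mem_left _ _ hb, ?_⟩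
    show a * b = ∑ i, c' i * b * y i
    have h2 : ∑ i, c' i * b * y i = b * ∑ i, c' i * y i := by
      rw [Finset.mul_sum]
      refine Finset.sum_congr rfl fun i _ => ?_
      ring
    rw [h2]
    linear_combination h1
  · rintro e e' ⟨a, ha, rfl⟩ ⟨a', ha', rfl⟩
    refine ⟨fun i => a i + a' i, fun i => Ideal.add_mem _ (ha i) (ha' i), ?_⟩
    rw [← Finset.sum_add_distrib]
    refine Finset.sum_congr rfl fun i _ => ?_
    ring

theorem exists_ideal [IsNoetherianRing R] (hL : ∀ t ∈ maximalIdeal R, ∀ z : L, t • z = 0) :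
    ∃ n : ℕ, ∀ X : Exal.Ext Λ R L,
    ∃ I : Ideal X.E, (∀ x ∈ I, X.proj x = 0 → x = 0) ∧
      Ideal.map X.proj I = maximalIdeal R ^ (n + 1) := by
  obtain ⟨r, x, hx⟩ := Submodule.fg_iff_exists_fin_generating_family.mp
    (IsNoetherian.noetherian (maximalIdeal R))
  have hx' : Ideal.span (Set.range x) = maximalIdeal R := hx
  have hxm : ∀ i, x i ∈ maximalIdeal R := fun i => by
    rw [← hx']; exact Ideal.subset_span ⟨i, rfl⟩
  obtain ⟨c, hc⟩ := Ideal.exists_pow_inf_eq_pow_smul (maximalIdeal R) (LinearMap.ker (piMap x))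
  refine ⟨c + 1, fun X => ?_⟩
  choose y hy using fun i => X.isExtension.proj_surjective (x i)
  have hmap : ∀ j, Ideal.map X.proj (Ideal.comap X.proj (maximalIdeal R) ^ j)
      = maximalIdeal R ^ j := fun j => by
    rw [Ideal.map_pow, Ideal.map_comap_of_surjective X.proj X.isExtension.proj_surjective]
  refine ⟨Ideal.comap X.proj (maximalIdeal R) ^ (c + 1 + 1), ?_, hmap _⟩
  intro e he he0
  obtain ⟨a, ha, rfl⟩ := claimA X hL x hx' y hy (c + 1) (by omega) e he
  refine ev_eq_zero X hL x hxm y hy (fun i => X.proj (a i)) ?_ a (fun i => rfl)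
  have hvi : ∀ i, X.proj (a i) ∈ maximalIdeal R ^ (c + 1) := fun i => by
    rw [← hmap]; exact Ideal.mem_map_of_mem X.proj (ha i)
  have hv1 : (fun i => X.proj (a i)) ∈
      (maximalIdeal R ^ (c + 1) • ⊤ : Submodule R (Fin r → R)) := by
    rw [pi_eq_sum_univ (fun i => X.proj (a i))]
    refine Submodule.sum_mem _ fun i _ => ?_
    exact Submodule.smul_mem_smul (hvi i) Submodule.mem_top
  have hv2 : (fun i => X.proj (a i)) ∈ LinearMap.ker (piMap x) := by
    rw [LinearMap.mem_ker, piMap_apply]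
    rw [map_sum] at he0
    rw [← he0]
    refine Finset.sum_congr rfl fun i _ => ?_
    rw [map_mul, hy]
  have hv3 := hc (c + 1) (by omega)
  have hv4 : (fun i => X.proj (a i)) ∈ maximalIdeal R ^ (c + 1 - c) •
      (maximalIdeal R ^ c • ⊤ ⊓ LinearMap.ker (piMap x)) := by
    rw [← hv3]; exact ⟨hv1, hv2⟩
  have hv5 : c + 1 - c = 1 := by omega
  rw [hv5, pow_one] at hv4
  exact Submodule.smul_mono le_rfl inf_le_right hv4

end ideal

section annih

theorem simple_ann {R : Type u} [CommRing R] [IsLocalRing R] {L : Type u} [AddCommGroup L]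
    [Module R L] [IsSimpleModule R L] : ∀ t ∈ maximalIdeal R, ∀ z : L, t • z = 0 := by
  intro t ht z
  have h1 : (Module.annihilator R L).IsMaximal := IsSimpleModule.annihilator_isMaximal
  have h2 : Module.annihilator R L = maximalIdeal R := IsLocalRing.eq_maximalIdeal h1
  have h3 : t ∈ Module.annihilator R L := by rw [h2]; exact ht
  exact Module.mem_annihilator.mp h3 z

end annih

section hat

variable {R : Type u} [CommRing R] [IsLocalRing R] [IsNoetherianRing R]

set_option hygiene false in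
local notation "Rh" => AdicCompletion (IsLocalRing.maximalIdeal R) R

theorem mem_of_map_mem (t : R) (h : algebraMap R Rh t ∈ maximalIdeal Rh) :
    t ∈ maximalIdeal R := by
  by_contra hc
  have hu : IsUnit t := notMem_maximalIdeal.mp hc
  exact (notMem_maximalIdeal.mpr (hu.map (algebraMap R Rh))) h

theorem exists_approx (a : Rh) : ∃ r : R, a - algebraMap R Rh r ∈ maximalIdeal Rh := by
  obtain ⟨r, hr⟩ := Ideal.Quotient.mk_surjective (AdicCompletion.evalOneₐ (maximalIdeal R) a)
  refine ⟨r, ?_⟩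
  rw [AdicCompletion.maximalIdeal_eq_map,
    ← AdicCompletion.ker_evalOneₐ_eq_map _ (maximalIdeal R).fg_of_isNoetherianRing]
  refine RingHom.mem_ker.mpr ?_
  show AdicCompletion.evalOneₐ (maximalIdeal R) (a - algebraMap R Rh r) = 0
  rw [map_sub, AlgHom.commutes, sub_eq_zero, ← hr]
  rfl

theorem ker_eval_le (N : ℕ) (hN : 1 ≤ N) (δ : Rh)
    (hδ : AdicCompletion.evalₐ (maximalIdeal R) N δ = 0) : δ ∈ maximalIdeal Rh := by
  by_contra hcon
  have hu : IsUnit δ := notMem_maximalIdeal.mp hcon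
  have hu' := hu.map (AdicCompletion.evalₐ (maximalIdeal R) N)
  rw [hδ] at hu'
  have h1 : (0 : R ⧸ maximalIdeal R ^ N) = 1 := isUnit_zero_iff.mp hu'
  have h2 : (1 : R) ∈ maximalIdeal R ^ N := by
    rw [← Ideal.Quotient.eq_zero_iff_mem, map_one]; exact h1.symm
  have h3 : (1 : R) ∈ maximalIdeal R := Ideal.pow_le_self (show N ≠ 0 by omega) h2
  exact (Ideal.ne_top_iff_one _).mp (IsLocalRing.maximalIdeal.isMaximal R).ne_top h3

variable {L : Type u} [AddCommGroup L] [Module Rh L]

section withR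

variable [Module R L] [IsScalarTower R Rh L]

theorem hat_ann (hL : ∀ t ∈ maximalIdeal R, ∀ z : L, t • z = 0) (δ : Rh)
    (hδ : δ ∈ maximalIdeal Rh) (z : L) : δ • z = 0 := by
  rw [AdicCompletion.maximalIdeal_eq_map] at hδ
  have hδ' : δ ∈ Submodule.span Rh ((algebraMap R Rh) '' (maximalIdeal R : Set R)) := hδ
  clear hδ
  induction hδ' using Submodule.span_induction with
  | mem x h =>
    obtain ⟨t, ht, rfl⟩ := h
    rw [algebraMap_smul]; exact hL t ht z
  | zero => exact zero_smul _ z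
  | add x y _ _ hx hy => rw [add_smul, hx, hy, add_zero]
  | smul a x _ hx => rw [smul_eq_mul, mul_smul, hx, smul_zero]

end withR

section etale

variable (Z : Exal.Ext R Rh L)

/-- the ideal generated by the image of the maximal ideal -/
noncomputable def Iz : Ideal Z.E := Ideal.span ((algebraMap R Z.E) '' (maximalIdeal R : Set R))

theorem s_mul_ker (hL : ∀ t ∈ maximalIdeal R, ∀ z : L, algebraMap R Rh t • z = 0)
    (t : R) (ht : t ∈ maximalIdeal R) (e : Z.E) (he : Z.proj e = 0) :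
    algebraMap R Z.E t * e = 0 := by
  obtain ⟨z, rfl⟩ := exists_incl Z e he
  rw [Z.isExtension.mul_incl, AlgHom.commutes, hL t ht, map_zero]

theorem Iz_inter (hL : ∀ t ∈ maximalIdeal R, ∀ z : L, algebraMap R Rh t • z = 0)
    (e : Z.E) (he : e ∈ Iz Z) (h0 : Z.proj e = 0) : e = 0 := by
  classical
  have he' : e ∈ Submodule.span Z.E ((algebraMap R Z.E) '' (maximalIdeal R : Set R)) := he
  obtain ⟨T, hT, c, rfl⟩ := (Submodule.mem_span_image_iff_exists_fun Z.E).mp he'
  have hrel : ∑ i : T, (i : R) • Z.proj (c i) = 0 := by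
    rw [map_sum] at h0
    rw [← h0]
    refine Finset.sum_congr rfl fun i _ => ?_
    rw [smul_eq_mul, map_mul, AlgHom.commutes, Algebra.smul_def, mul_comm]
  obtain ⟨κ, a, y, hx, hf⟩ := Module.Flat.isTrivialRelation_of_sum_smul_eq_zero hrel
  choose v hv using fun j => Z.isExtension.proj_surjective (y j)
  have hx' : ∀ i : T, Z.proj (c i) = ∑ j, a i j • y j := hx
  have hd : ∀ i : T, Z.proj (c i - ∑ j, algebraMap R Z.E (a i j) * v j) = 0 := by
    intro i
    rw [map_sub, map_sum, hx' i, sub_eq_zero]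
    refine Finset.sum_congr rfl fun j _ => ?_
    rw [map_mul, AlgHom.commutes, hv, Algebra.smul_def]
  have h1 : ∀ i : T, c i • algebraMap R Z.E (i : R)
      = ∑ j, v j * (algebraMap R Z.E (i : R) * algebraMap R Z.E (a i j)) := by
    intro i
    have h2 := s_mul_ker Z hL (i : R) (hT i.2) _ (hd i)
    rw [smul_eq_mul]
    have h3 : ∑ j, v j * (algebraMap R Z.E (i : R) * algebraMap R Z.E (a i j))
        = algebraMap R Z.E (i : R) * ∑ j, algebraMap R Z.E (a i j) * v j := by
      rw [Finset.mul_sum]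
      refine Finset.sum_congr rfl fun j _ => ?_
      ring
    rw [h3]
    linear_combination h2
  rw [Finset.sum_congr rfl fun i _ => h1 i, Finset.sum_comm]
  refine Finset.sum_eq_zero fun j _ => ?_
  rw [← Finset.mul_sum]
  have h4 : ∑ i : T, algebraMap R Z.E (i : R) * algebraMap R Z.E (a i j) = 0 := by
    rw [← map_zero (algebraMap R Z.E), ← hf j, map_sum]
    refine Finset.sum_congr rfl fun i _ => ?_
    rw [map_mul]
  rw [h4, mul_zero]

theorem Iz_proj (δ : Rh) (hδ : δ ∈ maximalIdeal Rh) : ∃ i ∈ Iz Z, Z.proj i = δ := by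
  rw [AdicCompletion.maximalIdeal_eq_map] at hδ
  have hδ' : δ ∈ Submodule.span Rh ((algebraMap R Rh) '' (maximalIdeal R : Set R)) := hδ
  clear hδ
  induction hδ' using Submodule.span_induction with
  | mem x h =>
    obtain ⟨t, ht, rfl⟩ := h
    exact ⟨algebraMap R Z.E t, Ideal.subset_span ⟨t, ht, rfl⟩, AlgHom.commutes _ _⟩
  | zero => exact ⟨0, Ideal.zero_mem _, map_zero _⟩
  | add x y _ _ hx hy =>
    obtain ⟨i, hi, rfl⟩ := hx
    obtain ⟨j, hj, rfl⟩ := hy
    exact ⟨i + j, Ideal.add_mem _ hi hj, map_add _ _ _⟩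
  | smul a x _ hx =>
    obtain ⟨i, hi, rfl⟩ := hx
    obtain ⟨w, rfl⟩ := Z.isExtension.proj_surjective a
    exact ⟨w * i, Ideal.mul_mem_left _ _ hi, by rw [map_mul, smul_eq_mul]⟩

/-- the relation defining the section -/
def Rel (a : Rh) (z : Z.E) : Prop :=
  Z.proj z = a ∧ ∃ r : R, a - algebraMap R Rh r ∈ maximalIdeal Rh ∧
    z - algebraMap R Z.E r ∈ Iz Z

theorem Rel_unique (hL : ∀ t ∈ maximalIdeal R, ∀ z : L, algebraMap R Rh t • z = 0)
    (a : Rh) (z z' : Z.E) (h : Rel Z a z) (h' : Rel Z a z') : z = z' := by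
  obtain ⟨hz, r, hr, hzr⟩ := h
  obtain ⟨hz', r', hr', hzr'⟩ := h'
  have h1 : algebraMap R Rh (r - r') ∈ maximalIdeal Rh := by
    have e1 : algebraMap R Rh (r - r') = (a - algebraMap R Rh r') - (a - algebraMap R Rh r) := by
      rw [map_sub]; ring
    rw [e1]; exact Ideal.sub_mem _ hr' hr
  have h2 : algebraMap R Z.E (r - r') ∈ Iz Z :=
    Ideal.subset_span ⟨r - r', mem_of_map_mem _ h1, rfl⟩
  have h3 : z - z' ∈ Iz Z := by
    have e1 : z - z' = (z - algebraMap R Z.E r) - (z' - algebraMap R Z.E r')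
        + algebraMap R Z.E (r - r') := by
      rw [map_sub]; ring
    rw [e1]; exact Ideal.add_mem _ (Ideal.sub_mem _ hzr hzr') h2
  have h4 : Z.proj (z - z') = 0 := by rw [map_sub, hz, hz', sub_self]
  exact sub_eq_zero.mp (Iz_inter Z hL _ h3 h4)

theorem Rel_exists (a : Rh) : ∃ z, Rel Z a z := by
  obtain ⟨r, hr⟩ := exists_approx a
  obtain ⟨i, hi, hi'⟩ := Iz_proj Z _ hr
  refine ⟨algebraMap R Z.E r + i, ?_, r, hr, ?_⟩
  · rw [map_add, AlgHom.commutes, hi']; ring
  · rw [add_sub_cancel_left]; exact hi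

theorem Rel_add {a b : Rh} {z w : Z.E} (h : Rel Z a z) (h' : Rel Z b w) :
    Rel Z (a + b) (z + w) := by
  obtain ⟨hz, r, hr, hzr⟩ := h
  obtain ⟨hw, r', hr', hwr'⟩ := h'
  refine ⟨by rw [map_add, hz, hw], r + r', ?_, ?_⟩
  · have e1 : a + b - algebraMap R Rh (r + r')
        = (a - algebraMap R Rh r) + (b - algebraMap R Rh r') := by rw [map_add]; ring
    rw [e1]; exact Ideal.add_mem _ hr hr'
  · have e1 : z + w - algebraMap R Z.E (r + r')
        = (z - algebraMap R Z.E r) + (w - algebraMap R Z.E r') := by rw [map_add]; ring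
    rw [e1]; exact Ideal.add_mem _ hzr hwr'

theorem Rel_mul {a b : Rh} {z w : Z.E} (h : Rel Z a z) (h' : Rel Z b w) :
    Rel Z (a * b) (z * w) := by
  obtain ⟨hz, r, hr, hzr⟩ := h
  obtain ⟨hw, r', hr', hwr'⟩ := h'
  refine ⟨by rw [map_mul, hz, hw], r * r', ?_, ?_⟩
  · have e1 : a * b - algebraMap R Rh (r * r')
        = a * (b - algebraMap R Rh r') + algebraMap R Rh r' * (a - algebraMap R Rh r) := by
      rw [map_mul]; ring
    rw [e1]; exact Ideal.add_mem _ (Ideal.mul_mem_left _ _ hr') (Ideal.mul_mem_left _ _ hr)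
  · have e1 : z * w - algebraMap R Z.E (r * r')
        = z * (w - algebraMap R Z.E r') + algebraMap R Z.E r' * (z - algebraMap R Z.E r) := by
      rw [map_mul]; ring
    rw [e1]; exact Ideal.add_mem _ (Ideal.mul_mem_left _ _ hwr') (Ideal.mul_mem_left _ _ hzr)

theorem Rel_of (r : R) : Rel Z (algebraMap R Rh r) (algebraMap R Z.E r) :=
  ⟨AlgHom.commutes _ _, r, by rw [sub_self]; exact Ideal.zero_mem _,
    by rw [sub_self]; exact Ideal.zero_mem _⟩

theorem trivial_of_completion
    (hL : ∀ t ∈ maximalIdeal R, ∀ z : L, algebraMap R Rh t • z = 0) : Z.IsTrivial := by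
  choose σ hσ using Rel_exists Z
  have huniq : ∀ a z, Rel Z a z → σ a = z := fun a z h => Rel_unique Z hL a _ _ (hσ a) h
  refine ⟨{ toFun := σ, map_one' := ?_, map_mul' := ?_, map_zero' := ?_, map_add' := ?_,
            commutes' := ?_ }, fun b => (hσ b).1⟩
  · have h := Rel_of Z (1 : R)
    rw [map_one, map_one] at h
    exact huniq _ _ h
  · intro a b; exact huniq _ _ (Rel_mul Z (hσ a) (hσ b))
  · have h := Rel_of Z (0 : R)
    rw [map_zero, map_zero] at h
    exact huniq _ _ h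
  · intro a b; exact huniq _ _ (Rel_add Z (hσ a) (hσ b))
  · intro r; exact huniq _ _ (Rel_of Z r)

end etale

section part2

variable {Λ : Type u} [CommRing Λ] [Algebra Λ R] [Module R L] [IsScalarTower R Rh L]
variable (Y : Exal.Ext Λ R L) (I : Ideal Y.E) (N : ℕ)
  (hI2 : Ideal.map Y.proj I = maximalIdeal R ^ N)

/-- `E/I → R/m^N` -/
noncomputable def f1 : (Y.E ⧸ I) →ₐ[Λ] (R ⧸ maximalIdeal R ^ N) :=
  Ideal.Quotient.liftₐ I ((Ideal.Quotient.mkₐ Λ (maximalIdeal R ^ N)).comp Y.proj) (fun a ha => by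
    show Ideal.Quotient.mk (maximalIdeal R ^ N) (Y.proj a) = 0
    rw [Ideal.Quotient.eq_zero_iff_mem, ← hI2]
    exact Ideal.mem_map_of_mem Y.proj ha)

theorem f1_mk (e : Y.E) : f1 Y I N hI2 (Ideal.Quotient.mk I e)
    = Ideal.Quotient.mk (maximalIdeal R ^ N) (Y.proj e) := rfl

variable (Λ) in
/-- `R̂ → R/m^N` -/
noncomputable def f2 : Rh →ₐ[Λ] (R ⧸ maximalIdeal R ^ N) :=
  (AdicCompletion.evalₐ (maximalIdeal R) N).restrictScalars Λ

theorem f2_of (r : R) :
    f2 Λ N (algebraMap R Rh r) = Ideal.Quotient.mk (maximalIdeal R ^ N) r :=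
  AlgHom.commutes (AdicCompletion.evalₐ (maximalIdeal R) N) r

/-- the middle ring of the extension of the completion -/
noncomputable def XE : Subalgebra Λ ((Y.E ⧸ I) × Rh) :=
  AlgHom.equalizer ((f1 Y I N hI2).comp (AlgHom.fst Λ (Y.E ⧸ I) Rh))
    ((f2 Λ N).comp (AlgHom.snd Λ (Y.E ⧸ I) Rh))

theorem mem_XE (p : (Y.E ⧸ I) × Rh) :
    p ∈ XE Y I N hI2 ↔ f1 Y I N hI2 p.1 = f2 Λ N p.2 := Iff.rfl

/-- the projection to the completion -/
noncomputable def projX : ↥(XE Y I N hI2) →ₐ[Λ] Rh :=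
  (AlgHom.snd Λ (Y.E ⧸ I) Rh).comp (XE Y I N hI2).val

/-- the inclusion of the kernel -/
noncomputable def inclX : L →+ ↥(XE Y I N hI2) where
  toFun z := ⟨(Ideal.Quotient.mk I (Y.incl z), 0), by
    refine (mem_XE Y I N hI2 _).mpr ?_
    show f1 Y I N hI2 (Ideal.Quotient.mk I (Y.incl z)) = f2 Λ N 0
    rw [f1_mk, proj_incl, map_zero, map_zero]⟩
  map_zero' := by
    apply Subtype.ext
    show (Ideal.Quotient.mk I (Y.incl 0), (0 : Rh)) = 0
    rw [map_zero, map_zero]; rfl
  map_add' z z' := by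
    apply Subtype.ext
    show (Ideal.Quotient.mk I (Y.incl (z + z')), (0 : Rh))
      = (Ideal.Quotient.mk I (Y.incl z), (0 : Rh)) + (Ideal.Quotient.mk I (Y.incl z'), (0 : Rh))
    rw [map_add, map_add, Prod.mk_add_mk, add_zero]

theorem isExtX (hI1 : ∀ x ∈ I, Y.proj x = 0 → x = 0) (hN : 1 ≤ N)
    (hLh : ∀ δ ∈ maximalIdeal Rh, ∀ z : L, δ • z = 0) :
    Exal.IsExtension (projX Y I N hI2) (inclX Y I N hI2) where
  proj_surjective := fun a => by
    obtain ⟨r, hr⟩ := Ideal.Quotient.mk_surjective (f2 Λ N a)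
    obtain ⟨e, he⟩ := Y.isExtension.proj_surjective r
    refine ⟨⟨(Ideal.Quotient.mk I e, a), (mem_XE Y I N hI2 _).mpr ?_⟩, rfl⟩
    show f1 Y I N hI2 (Ideal.Quotient.mk I e) = f2 Λ N a
    rw [f1_mk, he, hr]
  incl_injective := by
    rw [injective_iff_map_eq_zero]
    intro z hz
    have h1 : Ideal.Quotient.mk I (Y.incl z) = 0 :=
      congrArg (fun p : ↥(XE Y I N hI2) => (p : (Y.E ⧸ I) × Rh).1) hz
    rw [Ideal.Quotient.eq_zero_iff_mem] at h1
    have h2 := hI1 _ h1 (proj_incl Y z)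
    exact Y.isExtension.incl_injective (by rw [h2, map_zero])
  exact := fun x => by
    obtain ⟨⟨ē, a⟩, hx⟩ := x
    have hx' : f1 Y I N hI2 ē = f2 Λ N a := hx
    constructor
    · intro h0
      have h0' : a = 0 := h0
      subst h0'
      obtain ⟨e, rfl⟩ := Ideal.Quotient.mk_surjective ē
      rw [f1_mk, map_zero, Ideal.Quotient.eq_zero_iff_mem, ← hI2] at hx'
      obtain ⟨i, hi, hi'⟩ :=
        (Ideal.mem_map_iff_of_surjective Y.proj Y.isExtension.proj_surjective).mp hx'
      obtain ⟨z, hz⟩ := exists_incl Y (e - i) (by rw [map_sub, hi', sub_self])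
      refine ⟨z, Subtype.ext (Prod.ext ?_ rfl)⟩
      show Ideal.Quotient.mk I (Y.incl z) = Ideal.Quotient.mk I e
      rw [hz, map_sub, Ideal.Quotient.eq_zero_iff_mem.mpr hi, sub_zero]
    · rintro ⟨z, hz⟩
      have h1 := congrArg (fun p : ↥(XE Y I N hI2) => (p : (Y.E ⧸ I) × Rh).2) hz
      exact h1.symm
  mul_incl := fun x z => by
    obtain ⟨⟨ē, a⟩, hx⟩ := x
    have hx' : f1 Y I N hI2 ē = f2 Λ N a := hx
    obtain ⟨e, rfl⟩ := Ideal.Quotient.mk_surjective ē
    apply Subtype.ext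
    show ((Ideal.Quotient.mk I e, a) : (Y.E ⧸ I) × Rh) * (Ideal.Quotient.mk I (Y.incl z), (0 : Rh))
      = (Ideal.Quotient.mk I (Y.incl (a • z)), (0 : Rh))
    rw [Prod.mk_mul_mk, mul_zero, ← map_mul, Y.isExtension.mul_incl]
    have h3 : Y.proj e • z = a • z := by
      have h4 : f2 Λ N (a - algebraMap R Rh (Y.proj e)) = 0 := by
        rw [map_sub, f2_of, ← hx', f1_mk, sub_self]
      have h5 := ker_eval_le N hN _ h4
      have h6 := hLh _ h5 z
      rw [sub_smul, algebraMap_smul, sub_eq_zero] at h6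
      exact h6.symm
    rw [h3]

/-- the extension of the completion -/
noncomputable def Xext (hI1 : ∀ x ∈ I, Y.proj x = 0 → x = 0) (hN : 1 ≤ N)
    (hLh : ∀ δ ∈ maximalIdeal Rh, ∀ z : L, δ • z = 0) : Exal.Ext Λ Rh L where
  E := ↥(XE Y I N hI2)
  proj := projX Y I N hI2
  incl := inclX Y I N hI2
  isExtension := isExtX Y I N hI2 hI1 hN hLh

/-- `e ↦ (e mod I, image of proj e)` -/
noncomputable def g1 : Y.E →ₐ[Λ] ↥(XE Y I N hI2) :=
  AlgHom.codRestrict
    (AlgHom.prod (Ideal.Quotient.mkₐ Λ I) ((IsScalarTower.toAlgHom Λ R Rh).comp Y.proj))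
    (XE Y I N hI2) (fun e => by
      refine (mem_XE Y I N hI2 _).mpr ?_
      show f1 Y I N hI2 (Ideal.Quotient.mk I e) = f2 Λ N (algebraMap R Rh (Y.proj e))
      rw [f1_mk, f2_of])

theorem part2_equiv (hI1 : ∀ x ∈ I, Y.proj x = 0 → x = 0) (hN : 1 ≤ N)
    (hLh : ∀ δ ∈ maximalIdeal Rh, ∀ z : L, δ • z = 0) :
    Nonempty (((Xext Y I N hI2 hI1 hN hLh).pullback R).Equiv Y) := by
  have h := equiv_of_hom Y ((Xext Y I N hI2 hI1 hN hLh).pullback R)
    (AlgHom.codRestrict (AlgHom.prod (g1 Y I N hI2) Y.proj)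
      ((Xext Y I N hI2 hI1 hN hLh).fiberProd R) (fun e => (mem_fp _ _).mpr rfl))
    (fun e => rfl) ?_
  · obtain ⟨ε⟩ := h
    exact ⟨ε.symm⟩
  · intro z
    apply Subtype.ext
    apply Prod.ext
    · apply Subtype.ext
      apply Prod.ext
      · rfl
      · show algebraMap R Rh (Y.proj (Y.incl z)) = 0
        rw [proj_incl, map_zero]
    · show Y.proj (Y.incl z) = 0
      exact proj_incl Y z

theorem main [IsSimpleModule R L] :
    (∀ X X' : Exal.Ext Λ Rh L,
        Nonempty ((X.pullback R).Equiv (X'.pullback R)) → Nonempty (X.Equiv X')) ∧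
    (∀ Y : Exal.Ext Λ R L, ∃ X : Exal.Ext Λ Rh L, Nonempty ((X.pullback R).Equiv Y)) := by
  have hL : ∀ t ∈ maximalIdeal R, ∀ z : L, t • z = 0 := simple_ann
  have hL' : ∀ t ∈ maximalIdeal R, ∀ z : L, algebraMap R Rh t • z = 0 := fun t ht z => by
    rw [algebraMap_smul]; exact hL t ht z
  have hLh : ∀ δ ∈ maximalIdeal Rh, ∀ z : L, δ • z = 0 := fun δ hδ z => hat_ann hL δ hδ z
  constructor
  · rintro X X' ⟨ψ⟩
    exact partB (stdCover R X) (stdCover R X') ψ (fun Z => trivial_of_completion Z hL')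
  · obtain ⟨n, hn⟩ := exists_ideal (Λ := Λ) hL
    intro Y
    obtain ⟨I, hI1, hI2⟩ := hn Y
    exact ⟨Xext Y I (n + 1) hI2 hI1 (by omega) hLh, part2_equiv Y I (n + 1) hI2 hI1 (by omega) hLh⟩

end part2

end hat

end Aux11283

namespace Groth.Agent.S11283

/-- Let k be an algebraically closed field, Λ a complete local Noetherian k-algebra with residue field
k, R a local Noetherian Λ-algebra with local structure map and residue field k, and R̂ the
completion of R at its maximal ideal. Let L be a simple R-module (a one-dimensional k-vector space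
on which R acts through its residue field) carrying a compatible R̂-module structure. Then inverse
image of Λ-extensions along R → R̂ induces a bijection o(R̂/Λ) → o(R/Λ) on classes of Λ-extensions
by L: two Λ-extensions of R̂ by L whose inverse images over R are equivalent are equivalent, and
every Λ-extension of R by L is equivalent to the inverse image of one of R̂. -/
theorem result
    {k : Type u} [Field k] [IsAlgClosed k]
    {Λ : Type u} [CommRing Λ] [Algebra k Λ] [IsLocalRing Λ] [IsNoetherianRing Λ]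
    [IsAdicComplete (IsLocalRing.maximalIdeal Λ) Λ]
    (hΛ : ∀ a : Λ, ∃ c : k, a - algebraMap k Λ c ∈ IsLocalRing.maximalIdeal Λ)
    {R : Type u} [CommRing R] [Algebra Λ R] [IsLocalRing R] [IsNoetherianRing R]
    [IsLocalHom (algebraMap Λ R)]
    (hR : ∀ r : R, ∃ c : k, r - algebraMap Λ R (algebraMap k Λ c) ∈ IsLocalRing.maximalIdeal R)
    (L : Type u) [AddCommGroup L] [Module (AdicCompletion (IsLocalRing.maximalIdeal R) R) L] [Module R L]
    [IsScalarTower R (AdicCompletion (IsLocalRing.maximalIdeal R) R) L] [IsSimpleModule R L] :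
    (∀ X X' : Exal.Ext Λ (AdicCompletion (IsLocalRing.maximalIdeal R) R) L,
        Nonempty ((X.pullback R).Equiv (X'.pullback R)) → Nonempty (X.Equiv X')) ∧
    (∀ Y : Exal.Ext Λ R L, ∃ X : Exal.Ext Λ (AdicCompletion (IsLocalRing.maximalIdeal R) R) L,
        Nonempty ((X.pullback R).Equiv Y)) := by
  exact Aux11283.main 

end Groth.Agent.S11283
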