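import Mathlib
import Groth.Statements.S11286
import Groth.Agent.Lib.Helper29.Conormal

set_option autoImplicit false
universe u
open Deform

namespace Aux11286

open TensorProduct KaehlerDifferential Algebra.Extension

section
variable {A B : Type u} [CommRing A] [CommRing B] [Algebra A B]
variable (P P' : Algebra.Extension.{u} A B)

theorem toK_one_tmul (e : P.Ring) :
    P.toKaehler ((1 : B) ⊗ₜ[P.Ring] D A P.Ring e) = D A B (algebraMap P.Ring B e) := by
  rw [Algebra.Extension.toKaehler, KaehlerDifferential.mapBaseChange_tmul, one_smul,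
    KaehlerDifferential.map_D]

theorem one_tmul_D_mul (a b : P.Ring) :
    (1 : B) ⊗ₜ[P.Ring] D A P.Ring (a * b) =
      algebraMap P.Ring B a • ((1 : B) ⊗ₜ[P.Ring] D A P.Ring b)
        + algebraMap P.Ring B b • ((1 : B) ⊗ₜ[P.Ring] D A P.Ring a) := by
  rw [Derivation.leibniz, tmul_add, tmul_smul, tmul_smul, algebraMap_smul B a, algebraMap_smul B b]

variable (e₂ : P.CotangentSpace →ₗ[B] P'.CotangentSpace)

def Rel (e : P.Ring) (e' : P'.Ring) : Prop :=
  algebraMap P'.Ring B e' = algebraMap P.Ring B e ∧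
    (1 : B) ⊗ₜ[P'.Ring] D A P'.Ring e' = e₂ ((1 : B) ⊗ₜ[P.Ring] D A P.Ring e)

theorem exists_rel (h₂ : ∀ y, P'.toKaehler (e₂ y) = P.toKaehler y) (e : P.Ring) :
    ∃ e' : P'.Ring, Rel P P' e₂ e e' := by
  obtain ⟨e₀, he₀⟩ := P'.algebraMap_surjective (algebraMap P.Ring B e)
  have hk : P'.toKaehler (e₂ ((1 : B) ⊗ₜ[P.Ring] D A P.Ring e)
      - (1 : B) ⊗ₜ[P'.Ring] D A P'.Ring e₀) = 0 := by
    rw [map_sub, h₂, toK_one_tmul, toK_one_tmul, he₀, sub_self]
  obtain ⟨y, hy⟩ := (P'.exact_cotangentComplex_toKaehler _).mp hk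
  obtain ⟨i, rfl⟩ := Cotangent.mk_surjective y
  refine ⟨e₀ + i, ?_, ?_⟩
  · rw [map_add, he₀, RingHom.mem_ker.mp i.2, add_zero]
  · rw [cotangentComplex_mk] at hy
    rw [map_add, tmul_add, hy]; abel

theorem rel_unique (hsq' : P'.ker ^ 2 = ⊥) (hinj' : Function.Injective P'.cotangentComplex)
    {e : P.Ring} {e' e'' : P'.Ring} (h : Rel P P' e₂ e e') (h' : Rel P P' e₂ e e'') :
    e' = e'' := by
  have hi : e' - e'' ∈ P'.ker := by
    rw [RingHom.mem_ker, map_sub, h.1, h'.1, sub_self]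
  have hc : P'.cotangentComplex (Cotangent.mk ⟨e' - e'', hi⟩) = 0 := by
    rw [cotangentComplex_mk]
    show (1 : B) ⊗ₜ[P'.Ring] D A P'.Ring (e' - e'') = 0
    rw [map_sub, tmul_sub, h.2, h'.2, sub_self]
  have hm : Cotangent.mk ⟨e' - e'', hi⟩ = 0 := hinj' (by rw [hc, map_zero])
  rw [Cotangent.mk_eq_zero_iff, hsq', Ideal.mem_bot] at hm
  exact sub_eq_zero.mp hm

theorem rel_zero : Rel P P' e₂ 0 0 :=
  ⟨by rw [map_zero, map_zero], by rw [map_zero, tmul_zero, map_zero, tmul_zero, map_zero]⟩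

theorem rel_one : Rel P P' e₂ 1 1 :=
  ⟨by rw [map_one, map_one], by
    rw [Derivation.map_one_eq_zero, Derivation.map_one_eq_zero, tmul_zero, tmul_zero, map_zero]⟩

theorem rel_add {a b : P.Ring} {a' b' : P'.Ring} (ha : Rel P P' e₂ a a') (hb : Rel P P' e₂ b b') :
    Rel P P' e₂ (a + b) (a' + b') :=
  ⟨by rw [map_add, map_add, ha.1, hb.1], by
    rw [map_add, map_add, tmul_add, tmul_add, map_add, ha.2, hb.2]⟩

theorem rel_mul {a b : P.Ring} {a' b' : P'.Ring} (ha : Rel P P' e₂ a a') (hb : Rel P P' e₂ b b') :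
    Rel P P' e₂ (a * b) (a' * b') :=
  ⟨by rw [map_mul, map_mul, ha.1, hb.1], by
    rw [one_tmul_D_mul, one_tmul_D_mul, map_add, map_smul, map_smul, ha.1, hb.1, ha.2, hb.2]⟩

theorem rel_algebraMap (r : A) : Rel P P' e₂ (algebraMap A P.Ring r) (algebraMap A P'.Ring r) :=
  ⟨by rw [← IsScalarTower.algebraMap_apply, ← IsScalarTower.algebraMap_apply], by
    rw [Derivation.map_algebraMap, Derivation.map_algebraMap, tmul_zero, tmul_zero, map_zero]⟩

noncomputable def fFun (h₂ : ∀ y, P'.toKaehler (e₂ y) = P.toKaehler y) (e : P.Ring) : P'.Ring :=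
  (exists_rel P P' e₂ h₂ e).choose

theorem fFun_spec (h₂ : ∀ y, P'.toKaehler (e₂ y) = P.toKaehler y) (e : P.Ring) :
    Rel P P' e₂ e (fFun P P' e₂ h₂ e) :=
  (exists_rel P P' e₂ h₂ e).choose_spec

theorem fFun_eq (h₂ : ∀ y, P'.toKaehler (e₂ y) = P.toKaehler y)
    (hsq' : P'.ker ^ 2 = ⊥) (hinj' : Function.Injective P'.cotangentComplex)
    {e : P.Ring} {e' : P'.Ring} (h : Rel P P' e₂ e e') : fFun P P' e₂ h₂ e = e' :=
  rel_unique P P' e₂ hsq' hinj' (fFun_spec P P' e₂ h₂ e) h

noncomputable def fRing (h₂ : ∀ y, P'.toKaehler (e₂ y) = P.toKaehler y)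
    (hsq' : P'.ker ^ 2 = ⊥) (hinj' : Function.Injective P'.cotangentComplex) :
    P.Ring →+* P'.Ring where
  toFun := fFun P P' e₂ h₂
  map_one' := fFun_eq P P' e₂ h₂ hsq' hinj' (rel_one P P' e₂)
  map_mul' a b := fFun_eq P P' e₂ h₂ hsq' hinj'
    (rel_mul P P' e₂ (fFun_spec P P' e₂ h₂ a) (fFun_spec P P' e₂ h₂ b))
  map_zero' := fFun_eq P P' e₂ h₂ hsq' hinj' (rel_zero P P' e₂)
  map_add' a b := fFun_eq P P' e₂ h₂ hsq' hinj'
    (rel_add P P' e₂ (fFun_spec P P' e₂ h₂ a) (fFun_spec P P' e₂ h₂ b))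

noncomputable def fHom (h₂ : ∀ y, P'.toKaehler (e₂ y) = P.toKaehler y)
    (hsq' : P'.ker ^ 2 = ⊥) (hinj' : Function.Injective P'.cotangentComplex) :
    P.Hom P' where
  toRingHom := fRing P P' e₂ h₂ hsq' hinj'
  toRingHom_algebraMap x := fFun_eq P P' e₂ h₂ hsq' hinj' (rel_algebraMap P P' e₂ x)
  algebraMap_toRingHom x := (fFun_spec P P' e₂ h₂ x).1

end

theorem rel_symm {A B : Type u} [CommRing A] [CommRing B] [Algebra A B]
    (P P' : Algebra.Extension.{u} A B) (e₂ : P.CotangentSpace ≃ₗ[B] P'.CotangentSpace)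
    {e : P.Ring} {e' : P'.Ring} (h : Rel P P' e₂.toLinearMap e e') :
    Rel P' P e₂.symm.toLinearMap e' e :=
  ⟨h.1.symm, by
    have := h.2
    rw [LinearEquiv.coe_coe] at this ⊢
    rw [this, LinearEquiv.symm_apply_apply]⟩

theorem main
    {A B : Type u} [CommRing A] [CommRing B] [Algebra A B] [IsReduced B]
    (hsm : ∀ p : PrimeSpectrum B, p.asIdeal ∈ minimalPrimes B → Algebra.IsSmoothAt A p.asIdeal)
    (P P' : Algebra.Extension.{u} A B) (hsq : P.ker ^ 2 = ⊥) (hsq' : P'.ker ^ 2 = ⊥)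
    [Module.Projective B P.Cotangent]
    (e₁ : P.Cotangent ≃ₗ[B] P'.Cotangent) (e₂ : P.CotangentSpace ≃ₗ[B] P'.CotangentSpace)
    (h₁ : ∀ x, e₂ (P.cotangentComplex x) = P'.cotangentComplex (e₁ x))
    (h₂ : ∀ y, P'.toKaehler (e₂ y) = P.toKaehler y) :
    ∃ f : P.Hom P', Function.Bijective f.toRingHom ∧
      Algebra.Extension.Cotangent.map f = e₁.toLinearMap := by
  have hinj : Function.Injective P.cotangentComplex := Helper29.Conormal.cc_injective hsm P hsq
  haveI : Module.Projective B P'.Cotangent := Module.Projective.of_equiv e₁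
  have hinj' : Function.Injective P'.cotangentComplex :=
    Helper29.Conormal.cc_injective hsm P' hsq'
  have h₂a : ∀ y, P'.toKaehler (e₂.toLinearMap y) = P.toKaehler y := h₂
  have h₂' : ∀ y, P.toKaehler (e₂.symm.toLinearMap y) = P'.toKaehler y := by
    intro y
    have := h₂ (e₂.symm y)
    rw [LinearEquiv.apply_symm_apply] at this
    exact this.symm
  refine ⟨fHom P P' e₂.toLinearMap h₂a hsq' hinj', ⟨?_, ?_⟩, ?_⟩
  · rw [injective_iff_map_eq_zero]
    intro e he
    have hr : Rel P P' e₂.toLinearMap e 0 := by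
      have := fFun_spec P P' e₂.toLinearMap h₂a e
      rwa [show fFun P P' e₂.toLinearMap h₂a e = 0 from he] at this
    exact rel_unique P' P e₂.symm.toLinearMap hsq hinj (rel_symm P P' e₂ hr)
      (rel_zero P' P e₂.symm.toLinearMap)
  · intro e'
    obtain ⟨e, he⟩ := exists_rel P' P e₂.symm.toLinearMap h₂' e'
    refine ⟨e, fFun_eq P P' e₂.toLinearMap h₂a hsq' hinj' ?_⟩
    have := rel_symm P' P e₂.symm he
    rwa [LinearEquiv.symm_symm] at this
  · refine LinearMap.ext fun x => ?_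
    obtain ⟨i, rfl⟩ := Cotangent.mk_surjective x
    apply hinj'
    rw [LinearEquiv.coe_coe, ← h₁, Cotangent.map_mk, cotangentComplex_mk, cotangentComplex_mk]
    exact (fFun_spec P P' e₂.toLinearMap h₂a i).2

end Aux11286

namespace Groth.Agent.S11286

/-- Let k be an algebraically closed field and A → B a map of finitely generated k-algebras with B
reduced and smooth over A at every minimal prime of B (the morphism Spec B → Spec A is smooth on a
dense open subset). Let E → B and E' → B be two A-algebra extensions with square-zero kernels I, I',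
where I is a finitely generated projective B-module, and suppose their relative conormal sequences
are isomorphic as extensions of Ω_{B/A}: there are B-linear isomorphisms I ≅ I' and B ⊗_E Ω_{E/A} ≅
B ⊗_{E'} Ω_{E'/A} commuting with the conormal maps and with the canonical maps to Ω_{B/A}. Then
there is a homomorphism of extensions E → E' (a ring map over A and over B) which is bijective and
induces the given isomorphism I ≅ I'. This is the injectivity half of the identification of Ex_A(B,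
M) with Ext^1_B(Ω_{B/A}, M); affine case of the statement for algebraic schemes. -/
theorem result
    {k : Type u} [Field k] [IsAlgClosed k]
    {A B : Type u} [CommRing A] [CommRing B] [Algebra k A] [Algebra k B] [Algebra A B]
    [IsScalarTower k A B] [Algebra.FiniteType k A] [Algebra.FiniteType k B] [IsReduced B]
    (hsm : ∀ p : PrimeSpectrum B, p.asIdeal ∈ minimalPrimes B → Algebra.IsSmoothAt A p.asIdeal)
    (P P' : Algebra.Extension.{u} A B) (hsq : P.ker ^ 2 = ⊥) (hsq' : P'.ker ^ 2 = ⊥)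
    [Module.Finite B P.Cotangent] [Module.Projective B P.Cotangent]
    (e₁ : P.Cotangent ≃ₗ[B] P'.Cotangent) (e₂ : P.CotangentSpace ≃ₗ[B] P'.CotangentSpace)
    (h₁ : ∀ x, e₂ (P.cotangentComplex x) = P'.cotangentComplex (e₁ x))
    (h₂ : ∀ y, P'.toKaehler (e₂ y) = P.toKaehler y) :
    ∃ f : P.Hom P', Function.Bijective f.toRingHom ∧
      Algebra.Extension.Cotangent.map f = e₁.toLinearMap := by
  exact Aux11286.main hsm P P' hsq hsq' e₁ e₂ h₁ h₂

end Groth.Agent.S11286
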