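import Mathlib
import Groth.Statements.S11287
import Groth.Agent.Lib.Helper29.Baer

set_option autoImplicit false
universe u
open Deform

namespace Aux11287

open IsLocalRing Helper29.Baer

attribute [local instance] Exal.opModule Exal.isCentralScalar_opModule

section flatlift

variable {A B E : Type*} [CommRing A] [CommRing B] [Algebra A B] [Module.Flat A B] [CommRing E]
  (𝔞 : Ideal A) (p : E →+* B) (s : A →+* E)

/-- the ideal generated by the image of `𝔞` -/
def Iz : Ideal E := Ideal.span (s '' (𝔞 : Set A))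

omit [Module.Flat A B] in
theorem Iz_proj (hps : ∀ a, p (s a) = algebraMap A B a) (hp : Function.Surjective p)
    (δ : B) (hδ : δ ∈ Ideal.map (algebraMap A B) 𝔞) : ∃ i ∈ Iz 𝔞 s, p i = δ := by
  have hδ' : δ ∈ Submodule.span B ((algebraMap A B) '' (𝔞 : Set A)) := hδ
  clear hδ
  induction hδ' using Submodule.span_induction with
  | mem x h =>
    obtain ⟨t, ht, rfl⟩ := h
    exact ⟨s t, Ideal.subset_span ⟨t, ht, rfl⟩, hps t⟩
  | zero => exact ⟨0, Ideal.zero_mem _, map_zero _⟩
  | add x y _ _ hx hy =>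
    obtain ⟨i, hi, rfl⟩ := hx
    obtain ⟨j, hj, rfl⟩ := hy
    exact ⟨i + j, Ideal.add_mem _ hi hj, map_add _ _ _⟩
  | smul a x _ hx =>
    obtain ⟨i, hi, rfl⟩ := hx
    obtain ⟨w, rfl⟩ := hp a
    exact ⟨w * i, Ideal.mul_mem_left _ _ hi, by rw [map_mul, smul_eq_mul]⟩

theorem Iz_inter (hps : ∀ a, p (s a) = algebraMap A B a) (hp : Function.Surjective p)
    (hker : ∀ t ∈ 𝔞, ∀ e, p e = 0 → s t * e = 0)
    (e : E) (he : e ∈ Iz 𝔞 s) (h0 : p e = 0) : e = 0 := by
  classical
  have he' : e ∈ Submodule.span E (s '' (𝔞 : Set A)) := he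
  obtain ⟨T, hT, c, rfl⟩ := (Submodule.mem_span_image_iff_exists_fun E).mp he'
  have hrel : ∑ i : T, (i : A) • p (c i) = 0 := by
    rw [map_sum] at h0
    rw [← h0]
    refine Finset.sum_congr rfl fun i _ => ?_
    rw [smul_eq_mul, map_mul, hps, Algebra.smul_def, mul_comm]
  obtain ⟨κ, a, y, hx, hf⟩ := Module.Flat.isTrivialRelation_of_sum_smul_eq_zero (R := A) (M := B)
    (f := fun i : T => (i : A)) (x := fun i => p (c i)) hrel
  have hx' : ∀ i : T, p (c i) = ∑ j, a i j • y j := hx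
  choose v hv using fun j => hp (y j)
  have hd : ∀ i : T, p (c i - ∑ j, s (a i j) * v j) = 0 := by
    intro i
    rw [map_sub, map_sum, hx' i, sub_eq_zero]
    refine Finset.sum_congr rfl fun j _ => ?_
    rw [map_mul, hps, hv, Algebra.smul_def]
  have h1 : ∀ i : T, c i • s (i : A) = ∑ j, v j * (s (i : A) * s (a i j)) := by
    intro i
    have h2 := hker (i : A) (hT i.2) _ (hd i)
    rw [smul_eq_mul]
    have h3 : ∑ j, v j * (s (i : A) * s (a i j)) = s (i : A) * ∑ j, s (a i j) * v j := by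
      rw [Finset.mul_sum]
      refine Finset.sum_congr rfl fun j _ => ?_
      ring
    rw [h3]
    linear_combination h2
  rw [Finset.sum_congr rfl fun i _ => h1 i, Finset.sum_comm]
  refine Finset.sum_eq_zero fun j _ => ?_
  rw [← Finset.mul_sum]
  have h4 : ∑ i : T, s (i : A) * s (a i j) = 0 := by
    rw [← map_zero s, ← hf j, map_sum]
    refine Finset.sum_congr rfl fun i _ => ?_
    rw [map_mul]
  rw [h4, mul_zero]

/-- the relation defining the section -/
def Rel (b : B) (z : E) : Prop :=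
  p z = b ∧ ∃ r : A, b - algebraMap A B r ∈ Ideal.map (algebraMap A B) 𝔞 ∧ z - s r ∈ Iz 𝔞 s

theorem Rel_unique (hps : ∀ a, p (s a) = algebraMap A B a) (hp : Function.Surjective p)
    (hker : ∀ t ∈ 𝔞, ∀ e, p e = 0 → s t * e = 0)
    (hinj : ∀ t : A, algebraMap A B t ∈ Ideal.map (algebraMap A B) 𝔞 → t ∈ 𝔞)
    (b : B) (z z' : E) (h : Rel 𝔞 p s b z) (h' : Rel 𝔞 p s b z') : z = z' := by
  obtain ⟨hz, r, hr, hzr⟩ := h
  obtain ⟨hz', r', hr', hzr'⟩ := h'
  have h1 : algebraMap A B (r - r') ∈ Ideal.map (algebraMap A B) 𝔞 := by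
    have e1 : algebraMap A B (r - r') = (b - algebraMap A B r') - (b - algebraMap A B r) := by
      rw [map_sub]; ring
    rw [e1]; exact Ideal.sub_mem _ hr' hr
  have h2 : s (r - r') ∈ Iz 𝔞 s := Ideal.subset_span ⟨r - r', hinj _ h1, rfl⟩
  have h3 : z - z' ∈ Iz 𝔞 s := by
    have e1 : z - z' = (z - s r) - (z' - s r') + s (r - r') := by
      rw [map_sub]; ring
    rw [e1]; exact Ideal.add_mem _ (Ideal.sub_mem _ hzr hzr') h2
  have h4 : p (z - z') = 0 := by rw [map_sub, hz, hz', sub_self]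
  exact sub_eq_zero.mp (Iz_inter 𝔞 p s hps hp hker _ h3 h4)

omit [Module.Flat A B] in
theorem Rel_exists (hps : ∀ a, p (s a) = algebraMap A B a) (hp : Function.Surjective p)
    (hsurj : ∀ b : B, ∃ r : A, b - algebraMap A B r ∈ Ideal.map (algebraMap A B) 𝔞)
    (b : B) : ∃ z, Rel 𝔞 p s b z := by
  obtain ⟨r, hr⟩ := hsurj b
  obtain ⟨i, hi, hi'⟩ := Iz_proj 𝔞 p s hps hp _ hr
  refine ⟨s r + i, ?_, r, hr, ?_⟩
  · rw [map_add, hps, hi']; ring
  · rw [add_sub_cancel_left]; exact hi

omit [Module.Flat A B] in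
theorem Rel_add {a b : B} {z w : E} (h : Rel 𝔞 p s a z) (h' : Rel 𝔞 p s b w) :
    Rel 𝔞 p s (a + b) (z + w) := by
  obtain ⟨hz, r, hr, hzr⟩ := h
  obtain ⟨hw, r', hr', hwr'⟩ := h'
  refine ⟨by rw [map_add, hz, hw], r + r', ?_, ?_⟩
  · have e1 : a + b - algebraMap A B (r + r')
        = (a - algebraMap A B r) + (b - algebraMap A B r') := by rw [map_add]; ring
    rw [e1]; exact Ideal.add_mem _ hr hr'
  · have e1 : z + w - s (r + r') = (z - s r) + (w - s r') := by rw [map_add]; ring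
    rw [e1]; exact Ideal.add_mem _ hzr hwr'

omit [Module.Flat A B] in
theorem Rel_mul {a b : B} {z w : E} (h : Rel 𝔞 p s a z) (h' : Rel 𝔞 p s b w) :
    Rel 𝔞 p s (a * b) (z * w) := by
  obtain ⟨hz, r, hr, hzr⟩ := h
  obtain ⟨hw, r', hr', hwr'⟩ := h'
  refine ⟨by rw [map_mul, hz, hw], r * r', ?_, ?_⟩
  · have e1 : a * b - algebraMap A B (r * r')
        = a * (b - algebraMap A B r') + algebraMap A B r' * (a - algebraMap A B r) := by
      rw [map_mul]; ring
    rw [e1]; exact Ideal.add_mem _ (Ideal.mul_mem_left _ _ hr') (Ideal.mul_mem_left _ _ hr)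
  · have e1 : z * w - s (r * r') = z * (w - s r') + s r' * (z - s r) := by
      rw [map_mul]; ring
    rw [e1]; exact Ideal.add_mem _ (Ideal.mul_mem_left _ _ hwr') (Ideal.mul_mem_left _ _ hzr)

omit [Module.Flat A B] in
theorem Rel_of (hps : ∀ a, p (s a) = algebraMap A B a) (r : A) :
    Rel 𝔞 p s (algebraMap A B r) (s r) :=
  ⟨hps r, r, by rw [sub_self]; exact Ideal.zero_mem _, by rw [sub_self]; exact Ideal.zero_mem _⟩

theorem exists_section (hp : Function.Surjective p) (hps : ∀ a, p (s a) = algebraMap A B a)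
    (hker : ∀ t ∈ 𝔞, ∀ e, p e = 0 → s t * e = 0)
    (hsurj : ∀ b : B, ∃ r : A, b - algebraMap A B r ∈ Ideal.map (algebraMap A B) 𝔞)
    (hinj : ∀ t : A, algebraMap A B t ∈ Ideal.map (algebraMap A B) 𝔞 → t ∈ 𝔞) :
    ∃ σ : B →+* E, (∀ b, p (σ b) = b) ∧ ∀ a, σ (algebraMap A B a) = s a := by
  choose σ hσ using Rel_exists 𝔞 p s hps hp hsurj
  have huniq : ∀ b z, Rel 𝔞 p s b z → σ b = z :=
    fun b z h => Rel_unique 𝔞 p s hps hp hker hinj b _ _ (hσ b) h
  refine ⟨{ toFun := σ, map_one' := ?_, map_mul' := ?_, map_zero' := ?_, map_add' := ?_ },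
    fun b => (hσ b).1, fun a => huniq _ _ (Rel_of 𝔞 p s hps a)⟩
  · have h := Rel_of 𝔞 p s hps (1 : A)
    rw [map_one, map_one] at h
    exact huniq _ _ h
  · intro a b; exact huniq _ _ (Rel_mul 𝔞 p s (hσ a) (hσ b))
  · have h := Rel_of 𝔞 p s hps (0 : A)
    rw [map_zero, map_zero] at h
    exact huniq _ _ h
  · intro a b; exact huniq _ _ (Rel_add 𝔞 p s (hσ a) (hσ b))

end flatlift

section ps

variable {Λ : Type u} [CommRing Λ] {d : ℕ}

set_option hygiene false in
local notation "PS" => MvPowerSeries (Fin d) Λ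
set_option hygiene false in
local notation "PP" => MvPolynomial (Fin d) Λ
set_option hygiene false in
local notation "Ah" => AdicCompletion (MvPolynomial.idealOfVars (Fin d) Λ) (MvPolynomial (Fin d) Λ)

variable (J : Ideal PS) {L : Type u} [AddCommGroup L] [Module (PS ⧸ J) L] [Module PS L]
  [IsScalarTower PS (PS ⧸ J) L]

theorem mk_smul (a : PS) (z : L) : Ideal.Quotient.mk J a • z = a • z :=
  algebraMap_smul (PS ⧸ J) a z

theorem J_smul (j : PS) (hj : j ∈ J) (w : L) : j • w = 0 := by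
  have h0 : Ideal.Quotient.mk J j = 0 := Ideal.Quotient.eq_zero_iff_mem.mpr hj
  have h1 := mk_smul J j w
  rw [h0] at h1
  rw [← h1]; exact zero_smul (MvPowerSeries (Fin d) Λ ⧸ J) w

theorem X_smul [IsLocalRing Λ] [IsSimpleModule (PS ⧸ J) L] (i : Fin d) (z : L) :
    (MvPowerSeries.X i : PS) • z = 0 := by
  have h1 : (Module.annihilator (PS ⧸ J) L).IsMaximal := IsSimpleModule.annihilator_isMaximal
  have h2 : (Ideal.comap (Ideal.Quotient.mk J) (Module.annihilator (PS ⧸ J) L)).IsMaximal :=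
    Ideal.comap_isMaximal_of_surjective _ Ideal.Quotient.mk_surjective
  have h3 := IsLocalRing.eq_maximalIdeal h2
  have h4 : (MvPowerSeries.X i : PS) ∈ maximalIdeal PS := by
    rw [IsLocalRing.mem_maximalIdeal, mem_nonunits_iff, MvPowerSeries.isUnit_iff_constantCoeff,
      MvPowerSeries.constantCoeff_X]
    exact not_isUnit_zero
  rw [← h3] at h4
  have h5 : Ideal.Quotient.mk J (MvPowerSeries.X i) ∈ Module.annihilator (PS ⧸ J) L := h4
  have h6 := Module.mem_annihilator.mp h5 z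
  rw [← mk_smul J]
  exact h6

omit [Module (PS ⧸ J) L] [IsScalarTower PS (PS ⧸ J) L] in
theorem span_smul (hX : ∀ (i : Fin d) (z : L), (MvPowerSeries.X i : PS) • z = 0) (a : PS)
    (ha : a ∈ Ideal.span (Set.range (MvPowerSeries.X : Fin d → PS))) (z : L) : a • z = 0 := by
  have ha' : a ∈ Submodule.span PS (Set.range (MvPowerSeries.X : Fin d → PS)) := ha
  clear ha
  induction ha' using Submodule.span_induction with
  | mem x h => obtain ⟨i, rfl⟩ := h; exact hX i z
  | zero => exact zero_smul _ z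
  | add x y _ _ hx hy => rw [add_smul, hx, hy, add_zero]
  | smul c x _ hx => rw [smul_eq_mul, mul_smul, hx, smul_zero]

theorem algMap_X (i : Fin d) : algebraMap PP PS (MvPolynomial.X i) = MvPowerSeries.X i := by
  rw [MvPowerSeries.algebraMap_apply', MvPolynomial.coe_X, MvPowerSeries.map_X]

theorem algMap_C (c : Λ) : algebraMap PP PS (MvPolynomial.C c) = algebraMap Λ PS c := by
  rw [MvPowerSeries.algebraMap_apply', MvPolynomial.coe_C, MvPowerSeries.map_C,
    MvPowerSeries.algebraMap_apply]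

omit [Module (PS ⧸ J) L] [IsScalarTower PS (PS ⧸ J) L] in
theorem vars_smul (hX : ∀ (i : Fin d) (z : L), (MvPowerSeries.X i : PS) • z = 0) (t : PP)
    (ht : t ∈ MvPolynomial.idealOfVars (Fin d) Λ) (z : L) : algebraMap PP PS t • z = 0 := by
  have ht' : t ∈ Submodule.span PP (Set.range (MvPolynomial.X : Fin d → PP)) := ht
  clear ht
  induction ht' using Submodule.span_induction with
  | mem x h => obtain ⟨i, rfl⟩ := h; rw [algMap_X]; exact hX i z
  | zero => rw [map_zero, zero_smul]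
  | add x y _ _ hx hy => rw [map_add, add_smul, hx, hy, add_zero]
  | smul a x _ hx => rw [smul_eq_mul, map_mul, mul_smul, hx, smul_zero]

section partA

variable (X : Exal.Ext Λ (PS ⧸ J) L)

theorem hcomp (y : Fin d → X.E)
    (hy : ∀ i, X.proj (y i) = Ideal.Quotient.mk J (MvPowerSeries.X i)) (q : PP) :
    X.proj (MvPolynomial.aeval y q) = Ideal.Quotient.mk J (algebraMap PP PS q) := by
  have h : X.proj.comp (MvPolynomial.aeval y)
      = (Ideal.Quotient.mkₐ Λ J).comp (MvPolynomial.coeToMvPowerSeries.algHom Λ) := by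
    apply MvPolynomial.algHom_ext
    intro i
    show X.proj (MvPolynomial.aeval y (MvPolynomial.X i))
      = Ideal.Quotient.mk J (algebraMap PP PS (MvPolynomial.X i))
    rw [MvPolynomial.aeval_X, hy, algMap_X]
  exact AlgHom.congr_fun h q

theorem partA [IsNoetherianRing Λ]
    (hX : ∀ (i : Fin d) (z : L), (MvPowerSeries.X i : PS) • z = 0) :
    ∃ u : PS →ₐ[Λ] X.E, ∀ f, X.proj (u f) = Ideal.Quotient.mk J f := by
  choose y hy using fun i =>
    X.isExtension.proj_surjective (Ideal.Quotient.mk J (MvPowerSeries.X i))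
  obtain ⟨e, he⟩ : ∃ e : PS ≃+* Ah, ∀ q : PP, e (algebraMap PP PS q) = algebraMap PP Ah q :=
    ⟨(MvPowerSeries.toAdicCompletionAlgEquiv (Fin d) Λ).toRingEquiv,
      fun q => AlgEquiv.commutes _ q⟩
  obtain ⟨E', hE'⟩ : ∃ E' : Subring (X.E × Ah),
      ∀ x, x ∈ E' ↔ X.proj x.1 = Ideal.Quotient.mk J (e.symm x.2) :=
    ⟨RingHom.eqLocus ((X.proj : X.E →+* PS ⧸ J).comp (RingHom.fst X.E Ah))
      (((Ideal.Quotient.mk J).comp (e.symm : Ah →+* PS)).comp (RingHom.snd X.E Ah)),
      fun x => Iff.rfl⟩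
  have hsymm : ∀ q : PP, e.symm (algebraMap PP Ah q) = algebraMap PP PS q := fun q => by
    rw [RingEquiv.symm_apply_eq]; exact (he q).symm
  have hmem : ∀ q : PP, ((MvPolynomial.aeval y q : X.E), algebraMap PP Ah q) ∈ E' := fun q => by
    rw [hE']
    show X.proj (MvPolynomial.aeval y q) = Ideal.Quotient.mk J (e.symm (algebraMap PP Ah q))
    rw [hsymm, hcomp J X y hy]
  obtain ⟨s', hs'⟩ : ∃ s' : PP →+* ↥E', ∀ q, ((s' q : ↥E') : X.E × Ah)
      = (MvPolynomial.aeval y q, algebraMap PP Ah q) :=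
    ⟨RingHom.codRestrict
      (((MvPolynomial.aeval y : PP →ₐ[Λ] X.E) : PP →+* X.E).prod (algebraMap PP Ah)) E' hmem,
      fun q => rfl⟩
  obtain ⟨p', hp'⟩ : ∃ p' : ↥E' →+* Ah, ∀ x : ↥E', p' x = (x : X.E × Ah).2 :=
    ⟨(RingHom.snd X.E Ah).comp E'.subtype, fun _ => rfl⟩
  have hp : Function.Surjective p' := by
    intro b
    obtain ⟨x, hx⟩ := X.isExtension.proj_surjective (Ideal.Quotient.mk J (e.symm b))
    exact ⟨⟨(x, b), (hE' _).mpr hx⟩, by rw [hp']⟩
  have hps : ∀ q, p' (s' q) = algebraMap PP Ah q := fun q => by rw [hp', hs']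
  have hker : ∀ t ∈ MvPolynomial.idealOfVars (Fin d) Λ, ∀ x : ↥E', p' x = 0 → s' t * x = 0 := by
    intro t ht x hx0
    rw [hp'] at hx0
    have hx1 := (hE' _).mp x.2
    rw [hx0, map_zero, map_zero] at hx1
    obtain ⟨z, hz⟩ := exists_incl X _ hx1
    apply Subtype.ext
    show ((s' t : ↥E') : X.E × Ah) * (x : X.E × Ah) = 0
    rw [hs']
    refine Prod.ext ?_ ?_
    · show MvPolynomial.aeval y t * (x : X.E × Ah).1 = 0
      rw [← hz, X.isExtension.mul_incl, hcomp J X y hy, mk_smul, vars_smul hX t ht, map_zero]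
    · show algebraMap PP Ah t * (x : X.E × Ah).2 = 0
      rw [hx0, mul_zero]
  have hfg := MvPolynomial.idealOfVars_fg (Fin d) Λ
  have hsurj : ∀ b : Ah, ∃ r : PP, b - algebraMap PP Ah r
      ∈ Ideal.map (algebraMap PP Ah) (MvPolynomial.idealOfVars (Fin d) Λ) := by
    intro b
    obtain ⟨r, hr⟩ := Ideal.Quotient.mk_surjective
      (AdicCompletion.evalOneₐ (MvPolynomial.idealOfVars (Fin d) Λ) b)
    refine ⟨r, ?_⟩
    rw [← AdicCompletion.ker_evalOneₐ_eq_map _ hfg]
    refine RingHom.mem_ker.mpr ?_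
    show AdicCompletion.evalOneₐ (MvPolynomial.idealOfVars (Fin d) Λ)
      (b - algebraMap PP Ah r) = 0
    rw [map_sub, AlgHom.commutes, sub_eq_zero, ← hr]
    rfl
  have hinj : ∀ t : PP, algebraMap PP Ah t
      ∈ Ideal.map (algebraMap PP Ah) (MvPolynomial.idealOfVars (Fin d) Λ) →
      t ∈ MvPolynomial.idealOfVars (Fin d) Λ := by
    intro t ht
    rw [← AdicCompletion.ker_evalOneₐ_eq_map _ hfg] at ht
    have h1 : AdicCompletion.evalOneₐ (MvPolynomial.idealOfVars (Fin d) Λ)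
      (algebraMap PP Ah t) = 0 := RingHom.mem_ker.mp ht
    rw [AlgHom.commutes] at h1
    exact Ideal.Quotient.eq_zero_iff_mem.mp h1
  obtain ⟨σ, hσ1, hσ2⟩ := exists_section (MvPolynomial.idealOfVars (Fin d) Λ) p' s'
    hp hps hker hsurj hinj
  refine ⟨{ toFun := fun f => ((σ (e f) : ↥E') : X.E × Ah).1
            map_one' := ?_
            map_mul' := ?_
            map_zero' := ?_
            map_add' := ?_
            commutes' := ?_ }, fun f => ?_⟩
  · show ((σ (e 1) : ↥E') : X.E × Ah).1 = 1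
    rw [map_one, map_one]; rfl
  · intro f g
    show ((σ (e (f * g)) : ↥E') : X.E × Ah).1
      = ((σ (e f) : ↥E') : X.E × Ah).1 * ((σ (e g) : ↥E') : X.E × Ah).1
    rw [map_mul, map_mul]; rfl
  · show ((σ (e 0) : ↥E') : X.E × Ah).1 = 0
    rw [map_zero, map_zero]; rfl
  · intro f g
    show ((σ (e (f + g)) : ↥E') : X.E × Ah).1
      = ((σ (e f) : ↥E') : X.E × Ah).1 + ((σ (e g) : ↥E') : X.E × Ah).1
    rw [map_add, map_add]; rfl
  · intro c
    show ((σ (e (algebraMap Λ PS c)) : ↥E') : X.E × Ah).1 = algebraMap Λ X.E c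
    rw [← algMap_C, he, hσ2, hs']
    show MvPolynomial.aeval y (MvPolynomial.C c) = _
    rw [MvPolynomial.aeval_C]
  · show X.proj ((σ (e f) : ↥E') : X.E × Ah).1 = Ideal.Quotient.mk J f
    rw [(hE' _).mp (σ (e f)).2, ← hp', hσ1, RingEquiv.symm_apply_apply]

end partA

section partB

variable (X X' : Exal.Ext Λ (PS ⧸ J) L) (u : PS →ₐ[Λ] X.E) (u' : PS →ₐ[Λ] X'.E)
  (hu : ∀ p, X.proj (u p) = Ideal.Quotient.mk J p)
  (hu' : ∀ p, X'.proj (u' p) = Ideal.Quotient.mk J p)

include hu hu' in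
theorem partB_mp (hJ : J ≤ Ideal.span (Set.range (MvPowerSeries.X : Fin d → PS)) ^ 2)
    (hX : ∀ (i : Fin d) (z : L), (MvPowerSeries.X i : PS) • z = 0)
    (ε : X.Equiv X') (j : PS) (hj : j ∈ J) :
    ∃ z : L, X.incl z = u j ∧ X'.incl z = u' j := by
  have hkey : ∀ f ∈ Ideal.span (Set.range (MvPowerSeries.X : Fin d → PS)) ^ 2,
      u' f = ε.toAlgEquiv (u f) := by
    intro f hf
    rw [pow_two, ← Ideal.smul_eq_mul] at hf
    refine Submodule.smul_induction_on hf ?_ ?_
    · intro a ha b hb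
      have hpa : X'.proj (u' a - ε.toAlgEquiv (u a)) = 0 := by
        rw [map_sub, hu', ε.proj_apply, hu, sub_self]
      have hpb : X'.proj (u' b - ε.toAlgEquiv (u b)) = 0 := by
        rw [map_sub, hu', ε.proj_apply, hu, sub_self]
      obtain ⟨za, hza⟩ := exists_incl X' _ hpa
      obtain ⟨zb, hzb⟩ := exists_incl X' _ hpb
      have h1 : ε.toAlgEquiv (u a) * X'.incl zb = 0 := by
        rw [X'.isExtension.mul_incl, ε.proj_apply, hu, mk_smul, span_smul hX a ha, map_zero]
      have h2 : ε.toAlgEquiv (u b) * X'.incl za = 0 := by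
        rw [X'.isExtension.mul_incl, ε.proj_apply, hu, mk_smul, span_smul hX b hb, map_zero]
      have h3 := incl_mul_incl X' za zb
      have ea : u' a = ε.toAlgEquiv (u a) + X'.incl za := by rw [hza]; ring
      have eb : u' b = ε.toAlgEquiv (u b) + X'.incl zb := by rw [hzb]; ring
      rw [smul_eq_mul, map_mul, map_mul, map_mul, ea, eb]
      linear_combination h1 + h2 + h3
    · intro x y hx hy
      rw [map_add, map_add, map_add, hx, hy]
  obtain ⟨z, hz⟩ := exists_incl X (u j) (by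
    rw [hu]; exact Ideal.Quotient.eq_zero_iff_mem.mpr hj)
  refine ⟨z, hz, ?_⟩
  rw [hkey j (hJ hj), ← hz, ε.apply_incl]

include hu hu' in
theorem partB_mpr (h : ∀ j ∈ J, ∃ z : L, X.incl z = u j ∧ X'.incl z = u' j) :
    Nonempty (X.Equiv X') := by
  have hex : ∀ e : X.E, ∃ (p : PS) (z : L), e = u p + X.incl z := by
    intro e
    obtain ⟨p, hp⟩ := Ideal.Quotient.mk_surjective (X.proj e)
    obtain ⟨z, hz⟩ := exists_incl X (e - u p) (by rw [map_sub, hu, hp, sub_self])
    exact ⟨p, z, by rw [hz]; ring⟩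
  have hwd : ∀ (p q : PS) (z w : L), u p + X.incl z = u q + X.incl w →
      u' p + X'.incl z = u' q + X'.incl w := by
    intro p q z w heq
    have h1 : Ideal.Quotient.mk J p = Ideal.Quotient.mk J q := by
      have h0 := congrArg X.proj heq
      rw [map_add, map_add, hu, hu, proj_incl, proj_incl, add_zero, add_zero] at h0
      exact h0
    have hj : p - q ∈ J := Ideal.Quotient.eq.mp h1
    obtain ⟨z₀, hz1, hz2⟩ := h _ hj
    have h2 : X.incl z₀ = X.incl (w - z) := by
      rw [hz1, map_sub, map_sub]; linear_combination heq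
    have h3 : z₀ = w - z := X.isExtension.incl_injective h2
    rw [h3, map_sub, map_sub] at hz2
    linear_combination (-1 : X'.E) * hz2
  choose P Zf hPZ using hex
  have hΘ : ∀ (e : X.E) (p : PS) (z : L), e = u p + X.incl z →
      u' (P e) + X'.incl (Zf e) = u' p + X'.incl z :=
    fun e p z he => hwd _ _ _ _ ((hPZ e).symm.trans he)
  refine equiv_of_hom X X'
    { toFun := fun e => u' (P e) + X'.incl (Zf e)
      map_one' := ?_
      map_mul' := ?_
      map_zero' := ?_
      map_add' := ?_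
      commutes' := ?_ } ?_ ?_
  · have h0 := hΘ 1 1 0 (by rw [map_one, map_zero, add_zero])
    rw [map_one, map_zero, add_zero] at h0
    exact h0
  · intro a b
    have ha := hPZ a
    have hb := hPZ b
    have e1 : u (P a) * X.incl (Zf b) = X.incl (Ideal.Quotient.mk J (P a) • Zf b) := by
      rw [X.isExtension.mul_incl, hu]
    have e2 : u (P b) * X.incl (Zf a) = X.incl (Ideal.Quotient.mk J (P b) • Zf a) := by
      rw [X.isExtension.mul_incl, hu]
    have e3 := incl_mul_incl X (Zf a) (Zf b)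
    have hab : a * b = u (P a * P b) + X.incl (Ideal.Quotient.mk J (P a) • Zf b
        + Ideal.Quotient.mk J (P b) • Zf a) := by
      rw [map_mul, map_add, ← e1, ← e2]
      linear_combination b * ha + (u (P a) + X.incl (Zf a)) * hb + e3
    have e1' : u' (P a) * X'.incl (Zf b) = X'.incl (Ideal.Quotient.mk J (P a) • Zf b) := by
      rw [X'.isExtension.mul_incl, hu']
    have e2' : u' (P b) * X'.incl (Zf a) = X'.incl (Ideal.Quotient.mk J (P b) • Zf a) := by
      rw [X'.isExtension.mul_incl, hu']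
    have e3' := incl_mul_incl X' (Zf a) (Zf b)
    show u' (P (a * b)) + X'.incl (Zf (a * b))
      = (u' (P a) + X'.incl (Zf a)) * (u' (P b) + X'.incl (Zf b))
    rw [hΘ _ _ _ hab, map_mul, map_add, ← e1', ← e2']
    linear_combination (-1 : X'.E) * e3'
  · have h0 := hΘ 0 0 0 (by rw [map_zero, map_zero, add_zero])
    rw [map_zero, map_zero, add_zero] at h0
    exact h0
  · intro a b
    have ha := hPZ a
    have hb := hPZ b
    have hab : a + b = u (P a + P b) + X.incl (Zf a + Zf b) := by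
      rw [map_add, map_add]; linear_combination ha + hb
    show u' (P (a + b)) + X'.incl (Zf (a + b))
      = (u' (P a) + X'.incl (Zf a)) + (u' (P b) + X'.incl (Zf b))
    rw [hΘ _ _ _ hab, map_add, map_add]
    ring
  · intro c
    have h0 := hΘ (algebraMap Λ X.E c) (algebraMap Λ PS c) 0 (by
      rw [AlgHom.commutes, map_zero, add_zero])
    rw [AlgHom.commutes, map_zero, add_zero] at h0
    exact h0
  · intro e
    show X'.proj (u' (P e) + X'.incl (Zf e)) = X.proj e
    have h0 := congrArg X.proj (hPZ e)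
    rw [map_add, hu, proj_incl, add_zero] at h0
    rw [map_add, hu', proj_incl, add_zero, h0]
  · intro z
    show u' (P (X.incl z)) + X'.incl (Zf (X.incl z)) = X'.incl z
    have h0 := hΘ (X.incl z) 0 z (by rw [map_zero, zero_add])
    rw [map_zero, zero_add] at h0
    exact h0

end partB

section partC

set_option hygiene false in
local notation "TT" => Exal.Ext.trivial Λ (MvPowerSeries (Fin d) Λ) L
set_option hygiene false in
local notation "TE" => (Exal.Ext.trivial Λ (MvPowerSeries (Fin d) Λ) L).E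

/-- first component -/
noncomputable def tfst (t : TE) : PS := TrivSqZeroExt.fst (R := PS) (M := L) t

/-- second component -/
noncomputable def tsnd (t : TE) : L := TrivSqZeroExt.snd (R := PS) (M := L) t

/-- left injection -/
noncomputable def tinl (p : PS) : TE := TrivSqZeroExt.inl (R := PS) (M := L) p

/-- right injection -/
noncomputable def tinr (z : L) : TE := TrivSqZeroExt.inr (R := PS) (M := L) z

theorem tfst_add (s t : TE) : tfst (s + t) = tfst s + tfst t := rfl
theorem tsnd_add (s t : TE) : tsnd (s + t) = tsnd s + tsnd t := rfl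
theorem tfst_sub (s t : TE) : tfst (s - t) = tfst s - tfst t := rfl
theorem tsnd_sub (s t : TE) : tsnd (s - t) = tsnd s - tsnd t := rfl
theorem tfst_zero : tfst (0 : TE) = 0 := rfl
theorem tsnd_zero : tsnd (0 : TE) = 0 := rfl
theorem tfst_mul (s t : TE) : tfst (s * t) = tfst s * tfst t := rfl
theorem tsnd_mul (s t : TE) : tsnd (s * t) = tfst s • tsnd t + tfst t • tsnd s := by
  have h := TrivSqZeroExt.snd_mul (R := PS) (M := L) s t
  rw [op_smul_eq_smul] at h
  exact h
theorem tfst_inl (p : PS) : tfst (tinl (Λ := Λ) (L := L) p) = p := rfl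
theorem tsnd_inl (p : PS) : tsnd (tinl (Λ := Λ) (L := L) p) = 0 := rfl
theorem tfst_inr (z : L) : tfst (tinr (Λ := Λ) (d := d) z) = 0 := rfl
theorem tsnd_inr (z : L) : tsnd (tinr (Λ := Λ) (d := d) z) = z := rfl
theorem t_ext (s t : TE) (h1 : tfst s = tfst t) (h2 : tsnd s = tsnd t) : s = t :=
  TrivSqZeroExt.ext h1 h2

variable (δ : J →ₗ[PS] L)

/-- the ideal `{(j, -δ j)}` of the trivial extension -/
noncomputable def Kid : Ideal TE where
  carrier := {t | ∃ j : J, tfst t = (j : PS) ∧ tsnd t = -δ j}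
  add_mem' := by
    rintro a b ⟨j, hj1, hj2⟩ ⟨j', hj1', hj2'⟩
    refine ⟨j + j', ?_, ?_⟩
    · rw [tfst_add, hj1, hj1']; rfl
    · rw [tsnd_add, hj2, hj2', map_add, neg_add]
  zero_mem' := ⟨0, by rw [tfst_zero]; rfl, by rw [tsnd_zero, map_zero, neg_zero]⟩
  smul_mem' := by
    rintro c a ⟨j, hj1, hj2⟩
    refine ⟨tfst c • j, ?_, ?_⟩
    · show tfst (c * a) = _
      rw [tfst_mul, hj1]; rfl
    · show tsnd (c * a) = _
      rw [tsnd_mul, hj1, hj2, J_smul J _ j.2, add_zero, smul_neg, map_smul]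

theorem mem_Kid (t : TE) : t ∈ Kid J δ ↔ ∃ j : J, tfst t = (j : PS) ∧ tsnd t = -δ j := Iff.rfl

/-- the projection of the quotient extension -/
noncomputable def projC : (TE ⧸ Kid J δ) →ₐ[Λ] (PS ⧸ J) :=
  Ideal.Quotient.liftₐ (Kid J δ) ((Ideal.Quotient.mkₐ Λ J).comp (TT).proj) (fun t ht => by
    obtain ⟨j, hj1, _⟩ := ht
    show Ideal.Quotient.mk J (tfst t) = 0
    rw [hj1]; exact Ideal.Quotient.eq_zero_iff_mem.mpr j.2)

theorem projC_mk (t : TE) :
    projC J δ (Ideal.Quotient.mk (Kid J δ) t) = Ideal.Quotient.mk J (tfst t) := rfl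

/-- the inclusion of the quotient extension -/
noncomputable def inclC : L →+ (TE ⧸ Kid J δ) :=
  (Ideal.Quotient.mk (Kid J δ) : TE →+* _).toAddMonoidHom.comp (TT).incl

theorem inclC_apply (z : L) : inclC J δ z = Ideal.Quotient.mk (Kid J δ) (tinr z) := rfl

theorem isExtC : Exal.IsExtension (projC J δ) (inclC J δ) where
  proj_surjective := fun r => by
    obtain ⟨p, rfl⟩ := Ideal.Quotient.mk_surjective r
    exact ⟨Ideal.Quotient.mk (Kid J δ) (tinl p), by rw [projC_mk, tfst_inl]⟩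
  incl_injective := by
    rw [injective_iff_map_eq_zero]
    intro z hz
    rw [inclC_apply, Ideal.Quotient.eq_zero_iff_mem] at hz
    obtain ⟨j, hj1, hj2⟩ := hz
    rw [tfst_inr] at hj1
    rw [tsnd_inr] at hj2
    have hj0 : j = 0 := Subtype.ext hj1.symm
    rw [hj2, hj0, map_zero, neg_zero]
  exact := fun x => by
    obtain ⟨t, rfl⟩ := Ideal.Quotient.mk_surjective x
    rw [projC_mk]
    constructor
    · intro h0
      have hj : tfst t ∈ J := Ideal.Quotient.eq_zero_iff_mem.mp h0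
      refine ⟨tsnd t + δ ⟨tfst t, hj⟩, ?_⟩
      rw [inclC_apply, Ideal.Quotient.eq]
      refine ⟨-⟨tfst t, hj⟩, ?_, ?_⟩
      · rw [tfst_sub, tfst_inr, zero_sub]; rfl
      · rw [tsnd_sub, tsnd_inr, map_neg, neg_neg, add_sub_cancel_left]
    · rintro ⟨z, hz⟩
      have h1 := congrArg (projC J δ) hz
      rw [inclC_apply, projC_mk, projC_mk, tfst_inr, map_zero] at h1
      exact h1.symm
  mul_incl := fun x z => by
    obtain ⟨t, rfl⟩ := Ideal.Quotient.mk_surjective x
    rw [projC_mk, inclC_apply, inclC_apply, ← map_mul]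
    refine congrArg _ (t_ext _ _ ?_ ?_)
    · rw [tfst_mul, tfst_inr, tfst_inr, mul_zero]
    · rw [tsnd_mul, tsnd_inr, tsnd_inr, tfst_inr, zero_smul, add_zero, mk_smul]

/-- the extension attached to `δ` -/
noncomputable def Xc : Exal.Ext Λ (PS ⧸ J) L where
  E := TE ⧸ Kid J δ
  proj := projC J δ
  incl := inclC J δ
  isExtension := isExtC J δ

/-- the left injection as an algebra map -/
noncomputable def inlAlg : PS →ₐ[Λ] TE :=
  { (TrivSqZeroExt.inlHom PS L : PS →+* TE) with commutes' := fun _ => rfl }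

theorem partC : ∃ (X : Exal.Ext Λ (PS ⧸ J) L) (u : PS →ₐ[Λ] X.E),
    (∀ p, X.proj (u p) = Ideal.Quotient.mk J p) ∧ ∀ j : J, X.incl (δ j) = u j := by
  refine ⟨Xc J δ, (Ideal.Quotient.mkₐ Λ (Kid J δ)).comp inlAlg, fun p => ?_, fun j => ?_⟩
  · show projC J δ (Ideal.Quotient.mk (Kid J δ) (tinl p)) = _
    rw [projC_mk, tfst_inl]
  · show inclC J δ (δ j) = Ideal.Quotient.mk (Kid J δ) (tinl (j : PS))
    rw [inclC_apply, Ideal.Quotient.eq]
    refine ⟨-j, ?_, ?_⟩
    · rw [tfst_sub, tfst_inr, tfst_inl, zero_sub]; rfl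
    · rw [tsnd_sub, tsnd_inr, tsnd_inl, sub_zero, map_neg, neg_neg]

end partC

theorem main [IsLocalRing Λ] [IsNoetherianRing Λ] [IsSimpleModule (PS ⧸ J) L]
    (hJ : J ≤ Ideal.span (Set.range (MvPowerSeries.X : Fin d → PS)) ^ 2) :
    (∀ X : Exal.Ext Λ (PS ⧸ J) L,
        ∃ u : PS →ₐ[Λ] X.E, ∀ p, X.proj (u p) = Ideal.Quotient.mk J p) ∧
    (∀ (X X' : Exal.Ext Λ (PS ⧸ J) L) (u : PS →ₐ[Λ] X.E) (u' : PS →ₐ[Λ] X'.E),
        (∀ p, X.proj (u p) = Ideal.Quotient.mk J p) →
        (∀ p, X'.proj (u' p) = Ideal.Quotient.mk J p) →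
        (Nonempty (X.Equiv X') ↔ ∀ j ∈ J, ∃ z : L, X.incl z = u j ∧ X'.incl z = u' j)) ∧
    (∀ δ : J →ₗ[PS] L, ∃ (X : Exal.Ext Λ (PS ⧸ J) L) (u : PS →ₐ[Λ] X.E),
        (∀ p, X.proj (u p) = Ideal.Quotient.mk J p) ∧ ∀ j : J, X.incl (δ j) = u j) := by
  have hX : ∀ (i : Fin d) (z : L), (MvPowerSeries.X i : PS) • z = 0 := fun i z => X_smul J i z
  refine ⟨fun X => partA J X hX, ?_, fun δ => partC J δ⟩
  intro X X' u u' hu hu'
  constructor
  · rintro ⟨ε⟩ j hj
    exact partB_mp J X X' u u' hu hu' hJ hX ε j hj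
  · intro h
    exact partB_mpr J X X' u u' hu hu' h

end ps

end Aux11287

namespace Groth.Agent.S11287

/-- Let k be an algebraically closed field, Λ a complete local Noetherian k-algebra with residue field
k, P = Λ[[X_1, …, X_d]] the power series ring, J an ideal of P contained in (X_1, …, X_d)^2, R =
P/J, and L a simple R-module (a copy of the residue field k). Then: (a) for every Λ-extension 0 → L
→ E → R → 0 the quotient map P → R lifts to a Λ-algebra map u : P → E; (b) for two such extensions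
E, E' with lifts u, u', the extensions are equivalent if and only if u and u' send every element of
J to the images of the same element of L (the restrictions J → L of the lifts agree); (c) every
P-linear map J → L is the restriction of a lift for some extension. Thus the classes of Λ-extensions
of R by L correspond bijectively to Hom_P(J, L), the dual of J/m_P J; this is the identification of
the obstruction space o(R/Λ) for a complete R (the general case reduces to it by passing to the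
completion). -/
theorem result
    {k : Type u} [Field k] [IsAlgClosed k]
    {Λ : Type u} [CommRing Λ] [Algebra k Λ] [IsLocalRing Λ] [IsNoetherianRing Λ]
    [IsAdicComplete (IsLocalRing.maximalIdeal Λ) Λ]
    (hΛ : ∀ a : Λ, ∃ c : k, a - algebraMap k Λ c ∈ IsLocalRing.maximalIdeal Λ)
    (d : ℕ) (J : Ideal (MvPowerSeries (Fin d) Λ))
    (hJ : J ≤ Ideal.span (Set.range (MvPowerSeries.X : Fin d → MvPowerSeries (Fin d) Λ)) ^ 2)
    (L : Type u) [AddCommGroup L] [Module (MvPowerSeries (Fin d) Λ ⧸ J) L] [Module (MvPowerSeries (Fin d) Λ) L]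
    [IsScalarTower (MvPowerSeries (Fin d) Λ) (MvPowerSeries (Fin d) Λ ⧸ J) L] [IsSimpleModule (MvPowerSeries (Fin d) Λ ⧸ J) L] :
    (∀ X : Exal.Ext Λ (MvPowerSeries (Fin d) Λ ⧸ J) L,
        ∃ u : MvPowerSeries (Fin d) Λ →ₐ[Λ] X.E, ∀ p, X.proj (u p) = Ideal.Quotient.mk J p) ∧
    (∀ (X X' : Exal.Ext Λ (MvPowerSeries (Fin d) Λ ⧸ J) L) (u : MvPowerSeries (Fin d) Λ →ₐ[Λ] X.E) (u' : MvPowerSeries (Fin d) Λ →ₐ[Λ] X'.E),
        (∀ p, X.proj (u p) = Ideal.Quotient.mk J p) → (∀ p, X'.proj (u' p) = Ideal.Quotient.mk J p) →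
        (Nonempty (X.Equiv X') ↔ ∀ j ∈ J, ∃ z : L, X.incl z = u j ∧ X'.incl z = u' j)) ∧
    (∀ δ : J →ₗ[MvPowerSeries (Fin d) Λ] L, ∃ (X : Exal.Ext Λ (MvPowerSeries (Fin d) Λ ⧸ J) L) (u : MvPowerSeries (Fin d) Λ →ₐ[Λ] X.E),
        (∀ p, X.proj (u p) = Ideal.Quotient.mk J p) ∧ ∀ j : J, X.incl (δ j) = u j) := by
  exact Aux11287.main J hJ

end Groth.Agent.S11287
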