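import Groth.Statements.S11288
import Mathlib

set_option autoImplicit false
universe u
open Deform

namespace Groth.Agent.S11288

/-- Let K be a field, R' a local Artinian K-algebra with residue field K, and t a nonzero element of the
maximal ideal m' of R' with m' t = 0, so that R' → R = R'/(t) is a small extension of R. Then the
extension is trivial, i.e. the projection admits a section which is a K-algebra map, if and only if
t is not in m'^2; equivalently, iff the surjection m'/m'^2 → m_R/m_R^2 induced on cotangent spaces,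
whose kernel is spanned by the class of t, is not bijective. For instance K[t]/(t^(n+1)) →
K[t]/(t^n) is a non-trivial small extension for n ≥ 2. (The published example allows any local
K-algebra with residue field K; the row takes R' Artinian, the case in which the subalgebra
generated by lifts of a basis of the cotangent space maps onto R.) -/
theorem result
    {K : Type u} [Field K]
    {R' : Type u} [CommRing R'] [Algebra K R'] [IsLocalRing R'] [IsArtinianRing R']
    (hres : ∀ a : R', ∃ c : K, a - algebraMap K R' c ∈ IsLocalRing.maximalIdeal R')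
    (t : R') (ht : t ∈ IsLocalRing.maximalIdeal R') (ht0 : t ≠ 0)
    (htm : ∀ a ∈ IsLocalRing.maximalIdeal R', a * t = 0) :
    (∃ s : (R' ⧸ Ideal.span {t}) →ₐ[K] R', ∀ x, Ideal.Quotient.mk (Ideal.span {t}) (s x) = x) ↔
      t ∉ IsLocalRing.maximalIdeal R' ^ 2 := by
  classical
  set 𝔪 := IsLocalRing.maximalIdeal R' with h𝔪
  have htt : t * t = 0 := htm t ht
  constructor
  · rintro ⟨s, hs⟩ htsq
    have hker : ∀ x : R', Ideal.Quotient.mk (Ideal.span {t}) x = 0 → ∃ r, x = r * t := by
      intro x hx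
      rw [Ideal.Quotient.eq_zero_iff_mem, Ideal.mem_span_singleton'] at hx
      obtain ⟨r, hr⟩ := hx
      exact ⟨r, hr.symm⟩
    have hdecomp : ∀ m ∈ 𝔪, ∃ r, m = s (Ideal.Quotient.mk _ m) + r * t ∧
        s (Ideal.Quotient.mk (Ideal.span {t}) m) ∈ 𝔪 := by
      intro m hm
      have h1 : Ideal.Quotient.mk (Ideal.span {t}) (m - s (Ideal.Quotient.mk _ m)) = 0 := by
        rw [map_sub, hs, sub_self]
      obtain ⟨r, hr⟩ := hker _ h1
      refine ⟨r, by rw [← hr]; ring, ?_⟩
      have : s (Ideal.Quotient.mk (Ideal.span {t}) m) = m - r * t := by rw [← hr]; ring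
      rw [this]
      exact 𝔪.sub_mem hm (𝔪.mul_mem_left r ht)
    have hrange : ∀ x ∈ 𝔪 ^ 2, ∃ y, s y = x := by
      intro x hx
      rw [pow_two] at hx
      refine Submodule.mul_induction_on hx ?_ ?_
      · intro m₁ hm₁ m₂ hm₂
        obtain ⟨r₁, h₁, h₁'⟩ := hdecomp m₁ hm₁
        obtain ⟨r₂, h₂, h₂'⟩ := hdecomp m₂ hm₂
        refine ⟨Ideal.Quotient.mk _ m₁ * Ideal.Quotient.mk _ m₂, ?_⟩
        have e1 := htm _ h₁'
        have e2 := htm _ h₂'
        rw [map_mul]
        conv_rhs => rw [h₁, h₂]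
        have : (s (Ideal.Quotient.mk (Ideal.span {t}) m₁) + r₁ * t) *
            (s (Ideal.Quotient.mk (Ideal.span {t}) m₂) + r₂ * t) =
            s (Ideal.Quotient.mk (Ideal.span {t}) m₁) * s (Ideal.Quotient.mk (Ideal.span {t}) m₂) +
              r₂ * (s (Ideal.Quotient.mk (Ideal.span {t}) m₁) * t) +
              r₁ * (s (Ideal.Quotient.mk (Ideal.span {t}) m₂) * t) + r₁ * r₂ * (t * t) := by ring
        rw [this, e1, e2, htt]
        ring
      · rintro x y ⟨a, rfl⟩ ⟨b, rfl⟩
        exact ⟨a + b, map_add s a b⟩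
    obtain ⟨y, hy⟩ := hrange t htsq
    have h1 : Ideal.Quotient.mk (Ideal.span {t}) t = 0 :=
      Ideal.Quotient.eq_zero_iff_mem.mpr (Ideal.subset_span rfl)
    have h2 : y = 0 := by
      have := hs y
      rw [hy, h1] at this
      exact this.symm
    rw [h2, map_zero] at hy
    exact ht0 hy.symm
  · intro htsq
    -- residue map
    haveI : Nontrivial (R' ⧸ 𝔪) := Ideal.Quotient.nontrivial_iff.mpr (IsLocalRing.maximalIdeal.isMaximal R').ne_top
    have hbij : Function.Bijective (Algebra.ofId K (R' ⧸ 𝔪)) := by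
      refine ⟨(Algebra.ofId K (R' ⧸ 𝔪)).toRingHom.injective, fun y => ?_⟩
      obtain ⟨a, rfl⟩ := Ideal.Quotient.mk_surjective y
      obtain ⟨c, hc⟩ := hres a
      exact ⟨c, (Ideal.Quotient.eq.mpr hc).symm⟩
    let e : K ≃ₐ[K] (R' ⧸ 𝔪) := AlgEquiv.ofBijective (Algebra.ofId K (R' ⧸ 𝔪)) hbij
    let ρ : R' →ₐ[K] K := (e.symm : (R' ⧸ 𝔪) →ₐ[K] K).comp (Ideal.Quotient.mkₐ K 𝔪)
    have hρ : ∀ r : R', r - algebraMap K R' (ρ r) ∈ 𝔪 := by
      intro r
      rw [← Ideal.Quotient.eq]
      have : e (ρ r) = Ideal.Quotient.mk 𝔪 r := by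
        show e (e.symm (Ideal.Quotient.mk 𝔪 r)) = _
        exact e.apply_symm_apply _
      rw [← this]
      rfl
    have hρm : ∀ m ∈ 𝔪, ρ m = 0 := by
      intro m hm
      show e.symm (Ideal.Quotient.mk 𝔪 m) = 0
      rw [Ideal.Quotient.eq_zero_iff_mem.mpr hm, map_zero]
    have hrt : ∀ r : R', r * t = algebraMap K R' (ρ r) * t := by
      intro r
      have := htm _ (hρ r)
      rw [sub_mul, sub_eq_zero] at this
      exact this
    -- functional
    obtain ⟨φ, hφt, hφ⟩ := Submodule.exists_dual_map_eq_bot_of_notMem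
      (p := (𝔪 ^ 2).restrictScalars K) (x := t) (fun h => htsq ((Submodule.restrictScalars_mem K _ _).mp h)) inferInstance
    have hφ0 : ∀ x ∈ 𝔪 ^ 2, φ x = 0 := by
      intro x hx
      have : φ x ∈ ((𝔪 ^ 2).restrictScalars K).map φ := Submodule.mem_map_of_mem hx
      rw [hφ] at this
      exact this
    let ψ : R' →ₗ[K] K := (φ t)⁻¹ • (φ.comp (LinearMap.id - (Algebra.linearMap K R').comp ρ.toLinearMap))
    have hψ : ∀ r, ψ r = (φ t)⁻¹ * φ (r - algebraMap K R' (ρ r)) := fun r => rfl
    have hψt : ψ t = 1 := by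
      rw [hψ, hρm t ht, map_zero, sub_zero, inv_mul_cancel₀ hφt]
    have hψone : ψ 1 = 0 := by
      rw [hψ, map_one, map_one, sub_self, map_zero, mul_zero]
    have hψmul : ∀ r r', ψ (r * r') = ρ r * ψ r' + ρ r' * ψ r := by
      intro r r'
      rw [hψ, hψ, hψ]
      have h1 : r * r' - algebraMap K R' (ρ (r * r')) =
          (r - algebraMap K R' (ρ r)) * (r' - algebraMap K R' (ρ r')) +
          ρ r • (r' - algebraMap K R' (ρ r')) + ρ r' • (r - algebraMap K R' (ρ r)) := by
        rw [map_mul, map_mul, Algebra.smul_def, Algebra.smul_def]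
        ring
      have h2 : (r - algebraMap K R' (ρ r)) * (r' - algebraMap K R' (ρ r')) ∈ 𝔪 ^ 2 := by
        rw [pow_two]
        exact Ideal.mul_mem_mul (hρ r) (hρ r')
      rw [h1, map_add, map_add, hφ0 _ h2, map_smul, map_smul, smul_eq_mul, smul_eq_mul]
      ring
    let σl : R' →ₗ[K] R' := LinearMap.id - ψ.smulRight t
    have hσl : ∀ r, σl r = r - ψ r • t := fun r => rfl
    let σ : R' →ₐ[K] R' := AlgHom.ofLinearMap σl
      (by rw [hσl, hψone, zero_smul, sub_zero])
      (by
        intro x y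
        rw [hσl, hσl, hσl, hψmul]
        simp only [Algebra.smul_def]
        have e1 := hrt x
        have e2 := hrt y
        have : (x - algebraMap K R' (ψ x) * t) * (y - algebraMap K R' (ψ y) * t) =
            x * y - algebraMap K R' (ψ y) * (x * t) - algebraMap K R' (ψ x) * (y * t) +
              algebraMap K R' (ψ x) * algebraMap K R' (ψ y) * (t * t) := by ring
        rw [this, e1, e2, htt, map_add, map_mul, map_mul]
        ring)
    have hσ : ∀ r, σ r = r - ψ r • t := fun r => rfl
    have hσt : ∀ a ∈ Ideal.span {t}, σ a = 0 := by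
      intro a ha
      rw [Ideal.mem_span_singleton'] at ha
      obtain ⟨r, rfl⟩ := ha
      rw [map_mul, hσ t, hψt, one_smul, sub_self, mul_zero]
    refine ⟨Ideal.Quotient.liftₐ (Ideal.span {t}) σ hσt, ?_⟩
    intro x
    obtain ⟨r, rfl⟩ := Ideal.Quotient.mk_surjective x
    rw [Ideal.Quotient.liftₐ_apply, Ideal.Quotient.lift_mk]
    show Ideal.Quotient.mk (Ideal.span {t}) (σ r) = _
    rw [hσ, map_sub, sub_eq_self, Ideal.Quotient.eq_zero_iff_mem, Algebra.smul_def]
    exact Ideal.mul_mem_left _ _ (Ideal.subset_span rfl)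

end Groth.Agent.S11288
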