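import Mathlib
import Groth.Statements.S11291


set_option autoImplicit false
universe u
open Deform

namespace Aux11291

open MvPolynomial

section pres

variable {k : Type u} [Field k] {A : Type u} [CommRing A] [Algebra k A] [IsLocalRing A]
variable {ι : Type u} (b : ι → A)

/-- the presentation map -/
noncomputable def pi : MvPolynomial ι k →ₐ[k] A := aeval b

theorem pi_X (i : ι) : pi (k := k) b (X i) = b i := by simp [pi]

theorem pi_C (c : k) : pi (k := k) b (C c) = algebraMap k A c := by simp [pi]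

theorem lcX_mem (l : ι →₀ k) :
    Finsupp.linearCombination k (X : ι → MvPolynomial ι k) l ∈ idealOfVars ι k := by
  rw [Finsupp.linearCombination_apply, Finsupp.sum]
  refine Submodule.sum_mem _ (fun i _ => ?_)
  exact Submodule.smul_of_tower_mem _ _ (Ideal.subset_span ⟨i, rfl⟩)

theorem exists_C (s : MvPolynomial ι k) : ∃ c : k, s - C c ∈ idealOfVars ι k := by
  induction s using MvPolynomial.induction_on with
  | C a => exact ⟨a, by rw [sub_self]; exact Ideal.zero_mem _⟩
  | add p q hp hq =>
    obtain ⟨c, hc⟩ := hp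
    obtain ⟨c', hc'⟩ := hq
    refine ⟨c + c', ?_⟩
    have e : p + q - C (c + c') = (p - C c) + (q - C c') := by rw [map_add]; ring
    rw [e]; exact Ideal.add_mem _ hc hc'
  | mul_X p i hp =>
    refine ⟨0, ?_⟩
    rw [map_zero, sub_zero]
    exact Ideal.mul_mem_left _ _ (Ideal.subset_span ⟨i, rfl⟩)

theorem decomp (p : MvPolynomial ι k) : ∃ (c : k) (l : ι →₀ k),
    p - C c - Finsupp.linearCombination k (X : ι → MvPolynomial ι k) l ∈ idealOfVars ι k ^ 2 := by
  induction p using MvPolynomial.induction_on with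
  | C a => exact ⟨a, 0, by rw [map_zero, sub_self, sub_zero]; exact Ideal.zero_mem _⟩
  | add p q hp hq =>
    obtain ⟨c, l, h⟩ := hp
    obtain ⟨c', l', h'⟩ := hq
    refine ⟨c + c', l + l', ?_⟩
    have e : p + q - C (c + c') - Finsupp.linearCombination k X (l + l')
        = (p - C c - Finsupp.linearCombination k X l)
          + (q - C c' - Finsupp.linearCombination k X l') := by
      rw [map_add, map_add]; ring
    rw [e]; exact Ideal.add_mem _ h h'
  | mul_X p i hp =>
    obtain ⟨c, l, h⟩ := hp
    refine ⟨0, Finsupp.single i c, ?_⟩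
    have e : p * X i - C 0 - Finsupp.linearCombination k X (Finsupp.single i c)
        = (p - C c - Finsupp.linearCombination k X l) * X i
          + Finsupp.linearCombination k X l * X i := by
      rw [map_zero, sub_zero, Finsupp.linearCombination_single, smul_eq_C_mul]; ring
    rw [e]
    refine Ideal.add_mem _ (Ideal.mul_mem_right _ _ h) ?_
    rw [pow_two]
    exact Ideal.mul_mem_mul (lcX_mem l) (Ideal.subset_span ⟨i, rfl⟩)

theorem pi_lcX (l : ι →₀ k) :
    pi (k := k) b (Finsupp.linearCombination k (X : ι → MvPolynomial ι k) l)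
      = Finsupp.linearCombination k b l := by
  rw [Finsupp.linearCombination_apply, Finsupp.linearCombination_apply, Finsupp.sum, Finsupp.sum,
    map_sum]
  refine Finset.sum_congr rfl (fun i _ => ?_)
  rw [map_smul, pi_X]

theorem Xpow_not_mem (i : ι) (N : ℕ) :
    (X i : MvPolynomial ι k) ^ N ∉ idealOfVars ι k ^ (N + 1) := by
  classical
  intro h
  rw [mem_pow_idealOfVars_iff] at h
  have h1 : Finsupp.single i N ∈ ((X i : MvPolynomial ι k) ^ N).support := by
    rw [X_pow_eq_monomial, support_monomial, if_neg one_ne_zero]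
    exact Finset.mem_singleton_self _
  have h2 := h _ h1
  rw [Finsupp.degree_single] at h2
  omega

variable (hbm : ∀ i, b i ∈ IsLocalRing.maximalIdeal A)
include hbm

theorem n_le : idealOfVars ι k ≤ (IsLocalRing.maximalIdeal A).comap (pi (k := k) b) := by
  rw [idealOfVars, Ideal.span_le]
  rintro _ ⟨i, rfl⟩
  rw [SetLike.mem_coe, Ideal.mem_comap, pi_X]
  exact hbm i

theorem pi_mem (p : MvPolynomial ι k) (hp : p ∈ idealOfVars ι k) :
    pi b p ∈ IsLocalRing.maximalIdeal A := n_le b hbm hp

theorem pi_mem_pow (j : ℕ) (p : MvPolynomial ι k) (hp : p ∈ idealOfVars ι k ^ j) :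
    pi b p ∈ IsLocalRing.maximalIdeal A ^ j := by
  have h1 : Ideal.map (pi (k := k) b) (idealOfVars ι k) ≤ IsLocalRing.maximalIdeal A :=
    Ideal.map_le_iff_le_comap.mpr (n_le b hbm)
  have h2 : Ideal.map (pi (k := k) b) (idealOfVars ι k ^ j) ≤ IsLocalRing.maximalIdeal A ^ j := by
    rw [Ideal.map_pow]; exact Ideal.pow_right_mono h1 j
  exact h2 (Ideal.mem_map_of_mem _ hp)

theorem lcb_mem (l : ι →₀ k) : Finsupp.linearCombination k b l ∈ IsLocalRing.maximalIdeal A := by
  rw [← pi_lcX]; exact pi_mem b hbm _ (lcX_mem l)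

theorem ker_le
    (hind : ∀ c : ι →₀ k, Finsupp.linearCombination k b c ∈ IsLocalRing.maximalIdeal A ^ 2 → c = 0) :
    RingHom.ker (pi (k := k) b) ≤ idealOfVars ι k ^ 2 := by
  intro p hp
  obtain ⟨c, l, h⟩ := decomp p
  have hp0 : pi b p = 0 := RingHom.mem_ker.mp hp
  have hh := pi_mem_pow b hbm 2 _ h
  rw [map_sub, map_sub, hp0, zero_sub, pi_lcX, pi_C] at hh
  have hc : c = 0 := by
    by_contra hc0
    have h1 : -algebraMap k A c - Finsupp.linearCombination k b l ∈ IsLocalRing.maximalIdeal A :=
      Ideal.pow_le_self two_ne_zero hh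
    have h2 : -((-algebraMap k A c - Finsupp.linearCombination k b l)
        + Finsupp.linearCombination k b l) ∈ IsLocalRing.maximalIdeal A :=
      Ideal.neg_mem_iff _ |>.mpr (Ideal.add_mem _ h1 (lcb_mem b hbm l))
    have h3 : -((-algebraMap k A c - Finsupp.linearCombination k b l)
        + Finsupp.linearCombination k b l) = algebraMap k A c := by ring
    rw [h3] at h2
    have hu : IsUnit (algebraMap k A c) := (IsUnit.mk0 c hc0).map (algebraMap k A)
    exact (IsLocalRing.mem_maximalIdeal _).mp h2 hu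
  subst hc
  rw [map_zero, neg_zero, zero_sub] at hh
  have hl : l = 0 := hind l (by
    have := Ideal.neg_mem_iff _ |>.mpr hh
    rwa [neg_neg] at this)
  subst hl
  rw [map_zero, map_zero, sub_zero, sub_zero] at h
  exact h

theorem approx
    (hspan : ∀ a ∈ IsLocalRing.maximalIdeal A, ∃ c : ι →₀ k,
      a - Finsupp.linearCombination k b c ∈ IsLocalRing.maximalIdeal A ^ 2) :
    ∀ j : ℕ, ∀ a ∈ IsLocalRing.maximalIdeal A ^ (j + 1),
      ∃ p ∈ idealOfVars ι k ^ (j + 1), a - pi b p ∈ IsLocalRing.maximalIdeal A ^ (j + 2) := by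
  intro j
  induction j with
  | zero =>
    intro a ha
    rw [zero_add, pow_one] at ha
    obtain ⟨c, hc⟩ := hspan a ha
    refine ⟨Finsupp.linearCombination k X c, ?_, ?_⟩
    · rw [zero_add, pow_one]; exact lcX_mem c
    · rw [pi_lcX]; exact hc
  | succ j ih =>
    intro a ha
    have ha' : a ∈ IsLocalRing.maximalIdeal A ^ (j + 1) • IsLocalRing.maximalIdeal A := by
      rwa [Ideal.smul_eq_mul, ← pow_succ]
    refine Submodule.smul_induction_on ha' ?_ ?_
    · intro y hy x hx
      obtain ⟨p, hp, hpy⟩ := ih y hy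
      obtain ⟨c, hc⟩ := hspan x hx
      refine ⟨p * Finsupp.linearCombination k X c, ?_, ?_⟩
      · rw [pow_succ]; exact Ideal.mul_mem_mul hp (lcX_mem c)
      · rw [smul_eq_mul, map_mul, pi_lcX]
        have e : y * x - pi b p * Finsupp.linearCombination k b c
            = (y - pi b p) * x + pi b p * (x - Finsupp.linearCombination k b c) := by ring
        rw [e]
        refine Ideal.add_mem _ ?_ ?_
        · have h1 := Ideal.mul_mem_mul hpy hx
          rw [← pow_succ] at h1
          exact Ideal.pow_le_pow_right (by omega) h1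
        · have h1 := Ideal.mul_mem_mul (pi_mem_pow b hbm (j + 1) p hp) hc
          rw [← pow_add] at h1
          exact Ideal.pow_le_pow_right (by omega) h1
    · rintro x y ⟨p, hp, hpx⟩ ⟨q, hq, hqy⟩
      refine ⟨p + q, Ideal.add_mem _ hp hq, ?_⟩
      have e : x + y - pi b (p + q) = (x - pi b p) + (y - pi b q) := by rw [map_add]; ring
      rw [e]; exact Ideal.add_mem _ hpx hqy

theorem surj_aux
    (hspan : ∀ a ∈ IsLocalRing.maximalIdeal A, ∃ c : ι →₀ k,
      a - Finsupp.linearCombination k b c ∈ IsLocalRing.maximalIdeal A ^ 2)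
    (N : ℕ) (hN : IsLocalRing.maximalIdeal A ^ N = ⊥) :
    ∀ d j : ℕ, N ≤ j + 1 + d → ∀ a ∈ IsLocalRing.maximalIdeal A ^ (j + 1),
      ∃ p : MvPolynomial ι k, pi b p = a := by
  intro d
  induction d with
  | zero =>
    intro j hj a ha
    have h1 : a ∈ IsLocalRing.maximalIdeal A ^ N := Ideal.pow_le_pow_right (by omega) ha
    rw [hN, Ideal.mem_bot] at h1
    exact ⟨0, by rw [map_zero, h1]⟩
  | succ d ih =>
    intro j hj a ha
    obtain ⟨p, _, hp⟩ := approx b hbm hspan j a ha
    obtain ⟨q, hq⟩ := ih (j + 1) (by omega) _ hp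
    exact ⟨p + q, by rw [map_add, hq]; ring⟩

theorem surj
    (hres : ∀ a : A, ∃ c : k, a - algebraMap k A c ∈ IsLocalRing.maximalIdeal A)
    (hspan : ∀ a ∈ IsLocalRing.maximalIdeal A, ∃ c : ι →₀ k,
      a - Finsupp.linearCombination k b c ∈ IsLocalRing.maximalIdeal A ^ 2)
    (N : ℕ) (hN : IsLocalRing.maximalIdeal A ^ N = ⊥) :
    Function.Surjective (pi (k := k) b) := by
  intro a
  obtain ⟨c, hc⟩ := hres a
  obtain ⟨p, hp⟩ := surj_aux b hbm hspan N hN N 0 (by omega) (a - algebraMap k A c)
    (by rwa [zero_add, pow_one])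
  exact ⟨C c + p, by rw [map_add, hp, pi_C]; ring⟩

theorem ne_mul (N : ℕ) (hN : IsLocalRing.maximalIdeal A ^ N = ⊥) (i : ι) :
    ¬ RingHom.ker (pi (k := k) b) ≤ idealOfVars ι k * RingHom.ker (pi (k := k) b) := by
  intro h
  have hle : ∀ j, RingHom.ker (pi (k := k) b) ≤ idealOfVars ι k ^ j := by
    intro j
    induction j with
    | zero => rw [pow_zero, Ideal.one_eq_top]; exact le_top
    | succ j ih => exact h.trans (by rw [pow_succ']; exact Ideal.mul_mono_right ih)
  have hx : (X i : MvPolynomial ι k) ^ N ∈ RingHom.ker (pi (k := k) b) := by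
    rw [RingHom.mem_ker, map_pow, pi_X]
    have h1 : b i ^ N ∈ IsLocalRing.maximalIdeal A ^ N := Ideal.pow_mem_pow (hbm i) N
    rwa [hN, Ideal.mem_bot] at h1
  exact Xpow_not_mem i N (hle (N + 1) hx)

end pres

section ext

variable {k : Type u} [Field k] {A : Type u} [CommRing A] [Algebra k A] [IsLocalRing A]
variable {ι : Type u} (b : ι → A)

/-- data for the non-split extension -/
structure Data where
  f : Module.Dual k (MvPolynomial ι k)
  g : MvPolynomial ι k
  hf0 : ∀ r ∈ idealOfVars ι k * RingHom.ker (pi (k := k) b), f r = 0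
  hg : g ∈ RingHom.ker (pi (k := k) b)
  hfg : f g = 1

variable {b}

/-- the hyperplane ideal -/
def Data.I' (D : Data (k := k) b) : Ideal (MvPolynomial ι k) where
  carrier := {r | r ∈ RingHom.ker (pi (k := k) b) ∧ D.f r = 0}
  add_mem' := fun {x y} hx hy =>
    ⟨Ideal.add_mem _ hx.1 hy.1, by rw [map_add, hx.2, hy.2, add_zero]⟩
  zero_mem' := ⟨Ideal.zero_mem _, map_zero D.f⟩
  smul_mem' := fun s r hr => by
    refine ⟨Ideal.mul_mem_left _ s hr.1, ?_⟩
    obtain ⟨c, hc⟩ := exists_C s
    have e : s • r = c • r + (s - C c) * r := by rw [smul_eq_mul, smul_eq_C_mul]; ring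
    rw [e, map_add, map_smul, hr.2, smul_zero, zero_add]
    exact D.hf0 _ (Ideal.mul_mem_mul hc hr.1)

theorem Data.mem_I' (D : Data (k := k) b) (r : MvPolynomial ι k) :
    r ∈ D.I' ↔ r ∈ RingHom.ker (pi (k := k) b) ∧ D.f r = 0 := Iff.rfl

theorem Data.nI_le (D : Data (k := k) b) :
    idealOfVars ι k * RingHom.ker (pi (k := k) b) ≤ D.I' :=
  fun r hr => ⟨Ideal.mul_le_right hr, D.hf0 r hr⟩

/-- `k → A → A/m` -/
noncomputable def rho : k →+* IsLocalRing.ResidueField A :=
  (IsLocalRing.residue A).comp (algebraMap k A)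

theorem rho_bij (hres : ∀ a : A, ∃ c : k, a - algebraMap k A c ∈ IsLocalRing.maximalIdeal A) :
    Function.Bijective (rho (k := k) (A := A)) := by
  refine ⟨(rho (k := k) (A := A)).injective, fun z => ?_⟩
  obtain ⟨a, rfl⟩ := IsLocalRing.residue_surjective z
  obtain ⟨c, hc⟩ := hres a
  refine ⟨c, ?_⟩
  have h1 : IsLocalRing.residue A (a - algebraMap k A c) = 0 :=
    (IsLocalRing.residue_eq_zero_iff _).mpr hc
  rw [map_sub, sub_eq_zero] at h1
  exact h1.symm

/-- the identification of `k` with the residue field -/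
noncomputable def eqv (hres : ∀ a : A, ∃ c : k, a - algebraMap k A c ∈ IsLocalRing.maximalIdeal A) :
    k ≃+* IsLocalRing.ResidueField A := RingEquiv.ofBijective rho (rho_bij hres)

theorem eqv_apply (hres : ∀ a : A, ∃ c : k, a - algebraMap k A c ∈ IsLocalRing.maximalIdeal A)
    (c : k) : eqv hres c = IsLocalRing.residue A (algebraMap k A c) := rfl

/-- the inclusion of the residue field -/
noncomputable def incl (D : Data (k := k) b)
    (hres : ∀ a : A, ∃ c : k, a - algebraMap k A c ∈ IsLocalRing.maximalIdeal A) :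
    IsLocalRing.ResidueField A →+ MvPolynomial ι k ⧸ D.I' where
  toFun z := Ideal.Quotient.mk D.I' (C ((eqv hres).symm z) * D.g)
  map_zero' := by rw [map_zero, map_zero, zero_mul, map_zero]
  map_add' x y := by rw [map_add, map_add, add_mul, map_add]

theorem incl_apply (D : Data (k := k) b)
    (hres : ∀ a : A, ∃ c : k, a - algebraMap k A c ∈ IsLocalRing.maximalIdeal A)
    (z : IsLocalRing.ResidueField A) :
    incl D hres z = Ideal.Quotient.mk D.I' (C ((eqv hres).symm z) * D.g) := rfl

/-- the projection -/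
noncomputable def proj (D : Data (k := k) b) : (MvPolynomial ι k ⧸ D.I') →ₐ[k] A :=
  Ideal.Quotient.liftₐ D.I' (pi b) (fun r hr => RingHom.mem_ker.mp hr.1)

theorem proj_mk (D : Data (k := k) b) (r : MvPolynomial ι k) :
    proj D (Ideal.Quotient.mk D.I' r) = pi b r := rfl

theorem f_C_mul_g (D : Data (k := k) b) (c : k) : D.f (C c * D.g) = c := by
  rw [← smul_eq_C_mul, map_smul, D.hfg, smul_eq_mul, mul_one]

theorem isExt (hbm : ∀ i, b i ∈ IsLocalRing.maximalIdeal A) (D : Data (k := k) b)
    (hres : ∀ a : A, ∃ c : k, a - algebraMap k A c ∈ IsLocalRing.maximalIdeal A)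
    (hsurj : Function.Surjective (pi (k := k) b)) :
    Exal.IsExtension (proj D) (incl D hres) where
  proj_surjective := fun a => by
    obtain ⟨r, hr⟩ := hsurj a
    exact ⟨Ideal.Quotient.mk _ r, by rw [proj_mk, hr]⟩
  incl_injective := by
    rw [injective_iff_map_eq_zero]
    intro z hz
    rw [incl_apply, Ideal.Quotient.eq_zero_iff_mem] at hz
    have h2 : D.f (C ((eqv hres).symm z) * D.g) = 0 := hz.2
    rw [f_C_mul_g] at h2
    have h3 := congrArg (eqv hres) h2
    rwa [RingEquiv.apply_symm_apply, map_zero] at h3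
  exact := fun x => by
    obtain ⟨r, rfl⟩ := Ideal.Quotient.mk_surjective x
    rw [proj_mk]
    constructor
    · intro hr
      refine ⟨eqv hres (D.f r), ?_⟩
      rw [incl_apply, RingEquiv.symm_apply_apply, Ideal.Quotient.eq]
      refine ⟨Ideal.sub_mem _ (Ideal.mul_mem_left _ _ D.hg) (RingHom.mem_ker.mpr hr), ?_⟩
      rw [map_sub, f_C_mul_g, sub_self]
    · rintro ⟨z, hz⟩
      have h1 : proj D (incl D hres z) = 0 := by
        rw [incl_apply, proj_mk, map_mul, RingHom.mem_ker.mp D.hg, mul_zero]
      rw [hz, proj_mk] at h1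
      exact h1
  mul_incl := fun x z => by
    obtain ⟨r, rfl⟩ := Ideal.Quotient.mk_surjective x
    obtain ⟨c₀, hc₀⟩ := exists_C r
    have h1 : proj D (Ideal.Quotient.mk _ r) • z = eqv hres c₀ * z := by
      rw [proj_mk, Algebra.smul_def, IsLocalRing.ResidueField.algebraMap_eq]
      congr 1
      have h2 : pi b r = algebraMap k A c₀ + pi b (r - C c₀) := by
        rw [map_sub, pi_C]; ring
      rw [h2, map_add, (IsLocalRing.residue_eq_zero_iff _).mpr (pi_mem b hbm _ hc₀), add_zero,
        eqv_apply]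
    rw [h1, incl_apply, incl_apply, map_mul (eqv hres).symm, RingEquiv.symm_apply_apply,
      ← map_mul, Ideal.Quotient.eq]
    have e1 : r * (C ((eqv hres).symm z) * D.g) - C (c₀ * (eqv hres).symm z) * D.g
        = (r - C c₀) * (C ((eqv hres).symm z) * D.g) := by rw [map_mul]; ring
    rw [e1]
    exact D.nI_le (Ideal.mul_mem_mul hc₀ (Ideal.mul_mem_left _ _ D.hg))

theorem not_trivial (hbm : ∀ i, b i ∈ IsLocalRing.maximalIdeal A) (D : Data (k := k) b)
    (hres : ∀ a : A, ∃ c : k, a - algebraMap k A c ∈ IsLocalRing.maximalIdeal A)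
    (hsurj : Function.Surjective (pi (k := k) b))
    (hker : RingHom.ker (pi (k := k) b) ≤ idealOfVars ι k ^ 2)
    (s : A →ₐ[k] MvPolynomial ι k ⧸ D.I') (hs : ∀ a, proj D (s a) = a) : False := by
  have hE := isExt hbm D hres hsurj
  have kill : ∀ x y : MvPolynomial ι k ⧸ D.I', proj D x ∈ IsLocalRing.maximalIdeal A →
      proj D y = 0 → x * y = 0 := by
    intro x y hx hy
    obtain ⟨z, rfl⟩ := (hE.exact y).mp hy
    rw [hE.mul_incl, Algebra.smul_def, IsLocalRing.ResidueField.algebraMap_eq,
      (IsLocalRing.residue_eq_zero_iff _).mpr hx, zero_mul, map_zero]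
  have key : ∀ r ∈ idealOfVars ι k ^ 2, Ideal.Quotient.mk D.I' r = s (pi b r) := by
    intro r hr
    rw [pow_two, ← Ideal.smul_eq_mul] at hr
    refine Submodule.smul_induction_on hr ?_ ?_
    · intro a ha c hc
      rw [smul_eq_mul, map_mul, map_mul, map_mul]
      have h1 : Ideal.Quotient.mk D.I' a * (Ideal.Quotient.mk D.I' c - s (pi b c)) = 0 :=
        kill _ _ (by rw [proj_mk]; exact pi_mem b hbm a ha)
          (by rw [map_sub, proj_mk, hs, sub_self])
      have h2 : s (pi b c) * (Ideal.Quotient.mk D.I' a - s (pi b a)) = 0 :=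
        kill _ _ (by rw [hs]; exact pi_mem b hbm c hc)
          (by rw [map_sub, proj_mk, hs, sub_self])
      have e : Ideal.Quotient.mk D.I' a * Ideal.Quotient.mk D.I' c - s (pi b a) * s (pi b c)
          = Ideal.Quotient.mk D.I' a * (Ideal.Quotient.mk D.I' c - s (pi b c))
            + s (pi b c) * (Ideal.Quotient.mk D.I' a - s (pi b a)) := by ring
      exact sub_eq_zero.mp (by rw [e, h1, h2, add_zero])
    · intro x y hx hy
      rw [map_add, map_add, map_add, hx, hy]
  have hg := key D.g (hker D.hg)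
  rw [RingHom.mem_ker.mp D.hg, map_zero, Ideal.Quotient.eq_zero_iff_mem] at hg
  have h3 := hg.2
  rw [D.hfg] at h3
  exact one_ne_zero h3

end ext

section gens

variable (k : Type u) [Field k] (A : Type u) [CommRing A] [Algebra k A] [IsLocalRing A]

theorem exists_gens : ∃ (ι : Type u) (b : ι → A), (∀ i, b i ∈ IsLocalRing.maximalIdeal A) ∧
    (∀ a ∈ IsLocalRing.maximalIdeal A, ∃ c : ι →₀ k,
      a - Finsupp.linearCombination k b c ∈ IsLocalRing.maximalIdeal A ^ 2) ∧
    (∀ c : ι →₀ k, Finsupp.linearCombination k b c ∈ IsLocalRing.maximalIdeal A ^ 2 → c = 0) := by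
  obtain ⟨W, hW⟩ := Submodule.exists_isCompl ((IsLocalRing.maximalIdeal A ^ 2).restrictScalars k)
  have key : ∀ c : Module.Basis.ofVectorSpaceIndex k
        ↥(W ⊓ (IsLocalRing.maximalIdeal A).restrictScalars k) →₀ k,
      Finsupp.linearCombination k (fun i =>
        ((Module.Basis.ofVectorSpace k ↥(W ⊓ (IsLocalRing.maximalIdeal A).restrictScalars k)) i : A)) c
      = ((Finsupp.linearCombination k
          (Module.Basis.ofVectorSpace k ↥(W ⊓ (IsLocalRing.maximalIdeal A).restrictScalars k)) c :
          ↥(W ⊓ (IsLocalRing.maximalIdeal A).restrictScalars k)) : A) := by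
    intro c
    exact (Finsupp.apply_linearCombination k
      (W ⊓ (IsLocalRing.maximalIdeal A).restrictScalars k).subtype _ c).symm
  refine ⟨Module.Basis.ofVectorSpaceIndex k ↥(W ⊓ (IsLocalRing.maximalIdeal A).restrictScalars k),
    fun i => ((Module.Basis.ofVectorSpace k
      ↥(W ⊓ (IsLocalRing.maximalIdeal A).restrictScalars k)) i : A), ?_, ?_, ?_⟩
  · intro i
    exact ((Module.Basis.ofVectorSpace k
      ↥(W ⊓ (IsLocalRing.maximalIdeal A).restrictScalars k)) i).2.2
  · intro a ha
    have h1 : a ∈ (IsLocalRing.maximalIdeal A ^ 2).restrictScalars k ⊔ W := by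
      rw [hW.sup_eq_top]; trivial
    obtain ⟨y, hy, z, hz, hyz⟩ := Submodule.mem_sup.mp h1
    have hy' : y ∈ IsLocalRing.maximalIdeal A ^ 2 := hy
    have hzm : z ∈ IsLocalRing.maximalIdeal A := by
      have : z = a - y := by rw [← hyz]; ring
      rw [this]
      exact Ideal.sub_mem _ ha (Ideal.pow_le_self two_ne_zero hy')
    refine ⟨(Module.Basis.ofVectorSpace k
      ↥(W ⊓ (IsLocalRing.maximalIdeal A).restrictScalars k)).repr ⟨z, hz, hzm⟩, ?_⟩
    rw [key, Module.Basis.linearCombination_repr]
    have : a - z = y := by rw [← hyz]; ring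
    show a - z ∈ _
    rw [this]; exact hy'
  · intro c hc
    rw [key] at hc
    have h1 : ((Finsupp.linearCombination k
          (Module.Basis.ofVectorSpace k ↥(W ⊓ (IsLocalRing.maximalIdeal A).restrictScalars k)) c :
          ↥(W ⊓ (IsLocalRing.maximalIdeal A).restrictScalars k)) : A) = 0 :=
      Submodule.disjoint_def.mp hW.disjoint _ hc (Finsupp.linearCombination k
          (Module.Basis.ofVectorSpace k ↥(W ⊓ (IsLocalRing.maximalIdeal A).restrictScalars k)) c).2.1
    have h2 : Finsupp.linearCombination k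
          (Module.Basis.ofVectorSpace k ↥(W ⊓ (IsLocalRing.maximalIdeal A).restrictScalars k)) c = 0 :=
      Subtype.ext h1
    exact linearIndependent_iff.mp (Module.Basis.ofVectorSpace k
      ↥(W ⊓ (IsLocalRing.maximalIdeal A).restrictScalars k)).linearIndependent c h2

end gens

theorem main
    {k : Type u} [Field k]
    {A : Type u} [CommRing A] [Algebra k A] [IsLocalRing A] [IsArtinianRing A]
    (hres : ∀ a : A, ∃ c : k, a - algebraMap k A c ∈ IsLocalRing.maximalIdeal A)
    (hA : IsLocalRing.maximalIdeal A ≠ ⊥) :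
    ∃ X : Exal.Ext k A (IsLocalRing.ResidueField A), ¬ X.IsTrivial := by
  obtain ⟨N, hN⟩ : ∃ N, IsLocalRing.maximalIdeal A ^ N = ⊥ := by
    have h := IsArtinianRing.isNilpotent_jacobson_bot (R := A)
    rw [IsLocalRing.jacobson_eq_maximalIdeal ⊥ bot_ne_top] at h
    obtain ⟨N, hN⟩ := h
    exact ⟨N, by rwa [Ideal.zero_eq_bot] at hN⟩
  obtain ⟨ι, b, hbm, hspan, hind⟩ := exists_gens k A
  -- ι is nonempty
  have hne : Nonempty ι := by
    by_contra hemp
    rw [not_nonempty_iff] at hemp
    have h1 : IsLocalRing.maximalIdeal A ≤ IsLocalRing.maximalIdeal A ^ 2 := by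
      intro a ha
      obtain ⟨c, hc⟩ := hspan a ha
      have hc0 : c = 0 := Subsingleton.elim _ _
      rwa [hc0, map_zero, sub_zero] at hc
    have h2 : ∀ j : ℕ, IsLocalRing.maximalIdeal A ≤ IsLocalRing.maximalIdeal A ^ (j + 1) := by
      intro j
      induction j with
      | zero => rw [zero_add, pow_one]
      | succ j ih =>
        refine h1.trans ?_
        rw [pow_two, pow_succ (IsLocalRing.maximalIdeal A) (j + 1)]
        exact Ideal.mul_mono_left ih
    apply hA
    rw [eq_bot_iff, ← hN]
    exact (h2 N).trans (Ideal.pow_le_pow_right (by omega))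
  obtain ⟨i⟩ := hne
  have hker := ker_le (k := k) b hbm hind
  have hsurj := surj (k := k) b hbm hres hspan N hN
  have hnm := ne_mul (k := k) b hbm N hN i
  obtain ⟨g, hg1, hg2⟩ := SetLike.not_le_iff_exists.mp hnm
  obtain ⟨f, hfg, hf'⟩ := Submodule.exists_dual_map_eq_bot_of_notMem
    (p := (idealOfVars ι k * RingHom.ker (pi (k := k) b)).restrictScalars k) (x := g) hg2
    inferInstance
  have hf0 : ∀ r ∈ idealOfVars ι k * RingHom.ker (pi (k := k) b), f r = 0 := by
    intro r hr
    have h1 : f r ∈ Submodule.map f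
        ((idealOfVars ι k * RingHom.ker (pi (k := k) b)).restrictScalars k) :=
      Submodule.mem_map_of_mem hr
    rw [hf'] at h1
    exact (Submodule.mem_bot k).mp h1
  let D : Data (k := k) b :=
    { f := f
      g := (f g)⁻¹ • g
      hf0 := hf0
      hg := Submodule.smul_of_tower_mem _ _ hg1
      hfg := by rw [map_smul, smul_eq_mul, inv_mul_cancel₀ hfg] }
  refine ⟨{ E := MvPolynomial ι k ⧸ D.I'
            proj := proj D
            incl := incl D hres
            isExtension := isExt hbm D hres hsurj }, ?_⟩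
  rintro ⟨s, hs⟩
  exact not_trivial hbm D hres hsurj hker s hs

end Aux11291

namespace Groth.Agent.S11291

/-- Let k be an algebraically closed field and A a local Artinian k-algebra with residue field k and
non-zero maximal ideal, i.e. A is not k. Then the obstruction space o(A) = Ex_k(A, k) is not zero:
there is a k-extension 0 → k → E → A → 0 of A by its residue field which is not trivial (admits no
k-algebra section). Equivalently, k is the only formally smooth object among local Artinian
k-algebras with residue field k. -/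
theorem result
    {k : Type u} [Field k] [IsAlgClosed k]
    {A : Type u} [CommRing A] [Algebra k A] [IsLocalRing A] [IsArtinianRing A]
    (hres : ∀ a : A, ∃ c : k, a - algebraMap k A c ∈ IsLocalRing.maximalIdeal A)
    (hA : IsLocalRing.maximalIdeal A ≠ ⊥) :
    ∃ X : Exal.Ext k A (IsLocalRing.ResidueField A), ¬ X.IsTrivial := by
  exact Aux11291.main hres hA

end Groth.Agent.S11291
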