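import Mathlib
import Groth.Statements.S11292


set_option autoImplicit false
universe u
open Deform

namespace Aux11292

open IsLocalRing

attribute [local instance] Exal.opModule Exal.isCentralScalar_opModule

section general

variable {A : Type u} {B L : Type u} [CommRing A] [CommRing B] [Algebra A B] [AddCommGroup L]
  [Module B L] (X : Exal.Ext A B L)

theorem proj_incl (z : L) : X.proj (X.incl z) = 0 :=
  (X.isExtension.exact _).mpr ⟨z, rfl⟩

theorem incl_mul_incl (z z' : L) : X.incl z * X.incl z' = 0 := by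
  rw [X.isExtension.mul_incl, proj_incl, zero_smul, map_zero]

theorem exists_incl (e : X.E) (h : X.proj e = 0) : ∃ z, X.incl z = e :=
  (X.isExtension.exact e).mp h

/-- a homomorphism of extensions is an equivalence -/
theorem equiv_of_hom (P P' : Exal.Ext A B L) (g : P.E →ₐ[A] P'.E)
    (h1 : ∀ x, P'.proj (g x) = P.proj x) (h2 : ∀ z, g (P.incl z) = P'.incl z) :
    Nonempty (P.Equiv P') := by
  have hinj : Function.Injective g := by
    rw [injective_iff_map_eq_zero]
    intro x hx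
    have h3 : P.proj x = 0 := by rw [← h1, hx, map_zero]
    obtain ⟨z, rfl⟩ := exists_incl P x h3
    rw [h2] at hx
    have h4 : z = 0 := P'.isExtension.incl_injective (by rw [hx, map_zero])
    rw [h4, map_zero]
  have hsurj : Function.Surjective g := by
    intro y
    obtain ⟨x, hx⟩ := P.isExtension.proj_surjective (P'.proj y)
    obtain ⟨z, hz⟩ := exists_incl P' (y - g x) (by rw [map_sub, h1, hx, sub_self])
    refine ⟨x + P.incl z, ?_⟩
    rw [map_add, h2, hz]
    ring
  exact ⟨{ toAlgEquiv := AlgEquiv.ofBijective g ⟨hinj, hsurj⟩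
           proj_apply := h1
           apply_incl := h2 }⟩

end general

section partA

variable {k : Type u} [Field k] {Λ : Type u} [CommRing Λ] [Algebra k Λ]
  {R : Type u} [CommRing R] [Algebra Λ R] [Algebra k R] [IsScalarTower k Λ R] [IsLocalRing R]

theorem tower_res : IsScalarTower k Λ (ResidueField R) := by
  refine ⟨fun c l z => ?_⟩
  rw [← algebraMap_smul R l z, ← algebraMap_smul R (c • l) z]
  have h1 : algebraMap Λ R (c • l) = c • algebraMap Λ R l := by
    rw [Algebra.smul_def, map_mul, ← IsScalarTower.algebraMap_apply, Algebra.smul_def]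
  rw [h1, smul_assoc]

theorem partA (htriv : ∀ X : Exal.Ext Λ R (ResidueField R), X.IsTrivial)
    (D : Derivation k Λ (ResidueField R)) :
    ∃ D' : Derivation k R (ResidueField R), ∀ a : Λ, D' (algebraMap Λ R a) = D a := by
  haveI : IsScalarTower k Λ (ResidueField R) := tower_res
  obtain ⟨s, hs⟩ := htriv (Exal.Ext.ofDerivation (C := R) D)
  obtain ⟨σ, hσ⟩ : ∃ σ : R → TrivSqZeroExt R (ResidueField R), ∀ r, σ r = s r :=
    ⟨fun r => s r, fun _ => rfl⟩
  have hfst : ∀ r, (σ r).fst = r := fun r => by rw [hσ]; exact hs r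
  have hadd : ∀ r r', σ (r + r') = σ r + σ r' := fun r r' => by
    rw [hσ, hσ, hσ, map_add]; rfl
  have hmul : ∀ r r', σ (r * r') = σ r * σ r' := fun r r' => by
    rw [hσ, hσ, hσ, map_mul]; rfl
  have halg : ∀ l : Λ, σ (algebraMap Λ R l)
      = TrivSqZeroExt.inl (algebraMap Λ R l) + TrivSqZeroExt.inr (D l) := fun l => by
    rw [hσ, AlgHom.commutes]; rfl
  have hsmul : ∀ (c : k) (r : R), (σ (c • r)).snd = c • (σ r).snd := by
    intro c r
    have e1 : c • r = algebraMap Λ R (algebraMap k Λ c) * r := by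
      rw [Algebra.smul_def, IsScalarTower.algebraMap_apply k Λ R]
    rw [e1, hmul, halg, Derivation.map_algebraMap, TrivSqZeroExt.inr_zero, add_zero,
      TrivSqZeroExt.snd_mul, TrivSqZeroExt.fst_inl, TrivSqZeroExt.snd_inl, smul_zero, add_zero,
      ← IsScalarTower.algebraMap_apply k Λ R, algebraMap_smul]
  refine ⟨Derivation.mk'
    { toFun := fun r => (σ r).snd
      map_add' := fun r r' => by rw [hadd, TrivSqZeroExt.snd_add]
      map_smul' := fun c r => hsmul c r } ?_, ?_⟩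
  · intro a b
    show (σ (a * b)).snd = a • (σ b).snd + b • (σ a).snd
    rw [hmul, TrivSqZeroExt.snd_mul, hfst, hfst, op_smul_eq_smul]
  · intro a
    show (σ (algebraMap Λ R a)).snd = D a
    rw [halg, TrivSqZeroExt.snd_add, TrivSqZeroExt.snd_inl, TrivSqZeroExt.snd_inr, zero_add]

end partA

section partC

variable {k : Type u} [Field k] {Λ : Type u} [CommRing Λ] [Algebra k Λ]
  {R : Type u} [CommRing R] [Algebra Λ R] [Algebra k R] [IsScalarTower k Λ R] [IsLocalRing R]
variable (X : Exal.Ext Λ R (ResidueField R))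

theorem core3
    (ha : ∀ D : Derivation k Λ (ResidueField R),
      ∃ D' : Derivation k R (ResidueField R), ∀ a : Λ, D' (algebraMap Λ R a) = D a)
    (σ₀ : R →+* X.E) (hσ₀ : ∀ r, X.proj (σ₀ r) = r)
    (hσk : ∀ c : k, σ₀ (algebraMap k R c) = algebraMap Λ X.E (algebraMap k Λ c)) :
    X.IsTrivial := by
  have hδ : ∀ l : Λ, X.proj (algebraMap Λ X.E l - σ₀ (algebraMap Λ R l)) = 0 := by
    intro l
    rw [map_sub, AlgHom.commutes, hσ₀, sub_self]
  obtain ⟨Df, hDf⟩ : ∃ Df : Λ → ResidueField R,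
      ∀ l, X.incl (Df l) = algebraMap Λ X.E l - σ₀ (algebraMap Λ R l) :=
    ⟨fun l => X.kerLift _ (hδ l), fun l => X.incl_kerLift _ (hδ l)⟩
  have hinj := X.isExtension.incl_injective
  have hmi := X.isExtension.mul_incl
  have hadd : ∀ l m, Df (l + m) = Df l + Df m := by
    intro l m
    apply hinj
    rw [map_add, hDf, hDf, hDf, map_add, map_add, map_add]
    ring
  have hsm : ∀ (c : k) (l : Λ), Df (c • l) = c • Df l := by
    intro c l
    apply hinj
    have e1 : c • l = algebraMap k Λ c * l := Algebra.smul_def c l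
    have e2 : X.incl (c • Df l) = algebraMap Λ X.E (algebraMap k Λ c) * X.incl (Df l) := by
      rw [hmi, AlgHom.commutes, ← IsScalarTower.algebraMap_apply k Λ R, algebraMap_smul]
    rw [e2, hDf, hDf, e1, map_mul, map_mul, map_mul, ← IsScalarTower.algebraMap_apply k Λ R, hσk]
    ring
  have hleib : ∀ l m, Df (l * m) = l • Df m + m • Df l := by
    intro l m
    apply hinj
    have e2 : X.incl (l • Df m + m • Df l)
        = algebraMap Λ X.E l * X.incl (Df m) + σ₀ (algebraMap Λ R m) * X.incl (Df l) := by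
      rw [hmi, hmi, AlgHom.commutes, hσ₀, algebraMap_smul, algebraMap_smul, map_add]
    rw [e2, hDf, hDf, hDf, map_mul, map_mul, map_mul]
    ring
  obtain ⟨D', hD'⟩ := ha (Derivation.mk'
    { toFun := Df
      map_add' := hadd
      map_smul' := hsm } hleib)
  have hD'' : ∀ l : Λ, D' (algebraMap Λ R l) = Df l := hD'
  refine ⟨{ toFun := fun r => σ₀ r + X.incl (D' r)
            map_one' := ?_
            map_mul' := ?_
            map_zero' := ?_
            map_add' := ?_
            commutes' := ?_ }, ?_⟩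
  · show σ₀ 1 + X.incl (D' 1) = 1
    rw [map_one, Derivation.map_one_eq_zero, map_zero, add_zero]
  · intro a b
    show σ₀ (a * b) + X.incl (D' (a * b)) = (σ₀ a + X.incl (D' a)) * (σ₀ b + X.incl (D' b))
    have e1 : (σ₀ a + X.incl (D' a)) * (σ₀ b + X.incl (D' b))
        = σ₀ a * σ₀ b + σ₀ a * X.incl (D' b) + σ₀ b * X.incl (D' a)
          + X.incl (D' a) * X.incl (D' b) := by ring
    rw [e1, incl_mul_incl, add_zero, hmi, hmi, hσ₀, hσ₀, Derivation.leibniz, map_add, map_mul]
    ring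
  · show σ₀ 0 + X.incl (D' 0) = 0
    rw [map_zero, map_zero, map_zero, add_zero]
  · intro a b
    show σ₀ (a + b) + X.incl (D' (a + b)) = (σ₀ a + X.incl (D' a)) + (σ₀ b + X.incl (D' b))
    rw [map_add, map_add, map_add]
    ring
  · intro l
    show σ₀ (algebraMap Λ R l) + X.incl (D' (algebraMap Λ R l)) = algebraMap Λ X.E l
    rw [hD'', hDf]
    ring
  · intro r
    show X.proj (σ₀ r + X.incl (D' r)) = r
    rw [map_add, hσ₀, proj_incl, add_zero]

end partC

section partB

variable {k : Type u} [Field k] {Λ : Type u} [CommRing Λ] [Algebra k Λ]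
  {R : Type u} [CommRing R] [Algebra Λ R] [Algebra k R] [IsScalarTower k Λ R] [IsLocalRing R]

theorem mem_fp (Y : Exal.Ext k R (ResidueField R)) (p : Y.E × Λ) :
    p ∈ Y.fiberProd Λ ↔ Y.proj p.1 = algebraMap Λ R p.2 := Iff.rfl

theorem std_hf (Y : Exal.Ext k R (ResidueField R)) (p : ↥(Y.fiberProd Λ)) :
    Y.proj (p : Y.E × Λ).1 = algebraMap Λ R (p : Y.E × Λ).2 := p.2

variable (Λ) in
/-- an extension of `Λ` lying over an extension `Y` of `R` (abstracting the inverse image) -/
structure Cover (Y : Exal.Ext k R (ResidueField R)) where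
  /-- the extension of `Λ` -/
  P : Exal.Ext k Λ (ResidueField R)
  /-- the map to the extension of `R` -/
  f : P.E →ₐ[k] Y.E
  hf : ∀ p, Y.proj (f p) = algebraMap Λ R (P.proj p)
  hfi : ∀ z, f (P.incl z) = Y.incl z

variable (Λ) in
/-- the inverse image as a cover -/
noncomputable def stdCover (Y : Exal.Ext k R (ResidueField R)) : Cover Λ Y where
  P := Y.pullback Λ
  f := (AlgHom.fst k Y.E Λ).comp (Y.fiberProd Λ).val
  hf := fun p => std_hf Y p
  hfi := fun _ => rfl

variable (Y Y' : Exal.Ext k R (ResidueField R))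

/-- the fibre product of the two middle rings over `R` -/
noncomputable def W : Subalgebra k (Y.E × Y'.E) :=
  AlgHom.equalizer (Y.proj.comp (AlgHom.fst k Y.E Y'.E)) (Y'.proj.comp (AlgHom.snd k Y.E Y'.E))

theorem mem_W (p : Y.E × Y'.E) : p ∈ W Y Y' ↔ Y.proj p.1 = Y'.proj p.2 := Iff.rfl

/-- the diagonal copy of the kernel -/
noncomputable def Δ : Ideal ↥(W Y Y') where
  carrier := {w | ∃ z, (w : Y.E × Y'.E) = (Y.incl z, Y'.incl z)}
  add_mem' := by
    rintro a b ⟨z, hz⟩ ⟨z', hz'⟩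
    refine ⟨z + z', ?_⟩
    have e1 : ((a + b : ↥(W Y Y')) : Y.E × Y'.E) = (a : Y.E × Y'.E) + (b : Y.E × Y'.E) := rfl
    rw [e1, hz, hz', map_add, map_add, Prod.mk_add_mk]
  zero_mem' := ⟨0, by
    have e1 : ((0 : ↥(W Y Y')) : Y.E × Y'.E) = 0 := rfl
    rw [e1, map_zero, map_zero]; rfl⟩
  smul_mem' := by
    rintro c a ⟨z, hz⟩
    have hc : Y.proj (c : Y.E × Y'.E).1 = Y'.proj (c : Y.E × Y'.E).2 := c.2
    refine ⟨Y.proj (c : Y.E × Y'.E).1 • z, ?_⟩
    have e1 : ((c • a : ↥(W Y Y')) : Y.E × Y'.E) = (c : Y.E × Y'.E) * (a : Y.E × Y'.E) := rfl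
    rw [e1, hz]
    refine Prod.ext ?_ ?_
    · exact Y.isExtension.mul_incl _ _
    · show (c : Y.E × Y'.E).2 * Y'.incl z = Y'.incl (Y.proj (c : Y.E × Y'.E).1 • z)
      rw [hc]; exact Y'.isExtension.mul_incl _ _

theorem mem_Δ (w : ↥(W Y Y')) :
    w ∈ Δ Y Y' ↔ ∃ z, (w : Y.E × Y'.E) = (Y.incl z, Y'.incl z) := Iff.rfl

variable {Y Y'}
variable (C : Cover Λ Y) (C' : Cover Λ Y') (ψ : C.P.Equiv C'.P)

/-- `p ↦ (f p, f' (ψ p))` -/
noncomputable def Phi0 : C.P.E →ₐ[k] ↥(W Y Y') :=
  AlgHom.codRestrict (AlgHom.prod C.f (C'.f.comp (ψ.toAlgEquiv : C.P.E →ₐ[k] C'.P.E)))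
    (W Y Y') (fun p => by
      refine (mem_W Y Y' _).mpr ?_
      show Y.proj (C.f p) = Y'.proj (C'.f (ψ.toAlgEquiv p))
      rw [C.hf, C'.hf, ψ.proj_apply])

theorem Phi0_coe (p : C.P.E) :
    ((Phi0 C C' ψ p : ↥(W Y Y')) : Y.E × Y'.E) = (C.f p, C'.f (ψ.toAlgEquiv p)) := rfl

/-- `Phi0` followed by the quotient map -/
noncomputable def Phi : C.P.E →+* ↥(W Y Y') ⧸ Δ Y Y' :=
  (Ideal.Quotient.mk (Δ Y Y')).comp (Phi0 C C' ψ : C.P.E →+* ↥(W Y Y'))

theorem Phi_ker : RingHom.ker (C.P.proj : C.P.E →+* Λ) ≤ RingHom.ker (Phi C C' ψ) := by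
  intro p hp
  have hp0 : C.P.proj p = 0 := RingHom.mem_ker.mp hp
  obtain ⟨z, rfl⟩ := exists_incl C.P p hp0
  refine RingHom.mem_ker.mpr ?_
  show Ideal.Quotient.mk (Δ Y Y') (Phi0 C C' ψ (C.P.incl z)) = 0
  rw [Ideal.Quotient.eq_zero_iff_mem, mem_Δ]
  refine ⟨z, ?_⟩
  rw [Phi0_coe, ψ.apply_incl, C.hfi, C'.hfi]

/-- the `Λ`-algebra structure map of the Baer difference -/
noncomputable def tau : Λ →+* ↥(W Y Y') ⧸ Δ Y Y' :=
  RingHom.liftOfSurjective (C.P.proj : C.P.E →+* Λ) C.P.isExtension.proj_surjective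
    ⟨Phi C C' ψ, Phi_ker C C' ψ⟩

theorem tau_spec (p : C.P.E) :
    tau C C' ψ (C.P.proj p) = Ideal.Quotient.mk (Δ Y Y') (Phi0 C C' ψ p) :=
  RingHom.liftOfSurjective_comp_apply (C.P.proj : C.P.E →+* Λ) C.P.isExtension.proj_surjective
    ⟨Phi C C' ψ, Phi_ker C C' ψ⟩ p

/-- the middle ring of the Baer difference, with its `Λ`-algebra structure -/
def ZC (C : Cover Λ Y) (C' : Cover Λ Y') (_ψ : C.P.Equiv C'.P) : Type u := ↥(W Y Y') ⧸ Δ Y Y'

noncomputable instance : CommRing (ZC C C' ψ) :=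
  inferInstanceAs (CommRing (↥(W Y Y') ⧸ Δ Y Y'))

noncomputable instance : Algebra Λ (ZC C C' ψ) :=
  (tau C C' ψ : Λ →+* ZC C C' ψ).toAlgebra

/-- the quotient map as a map to `ZC` -/
noncomputable def mkZ : ↥(W Y Y') →+* ZC C C' ψ := Ideal.Quotient.mk (Δ Y Y')

theorem mkZ_surj : Function.Surjective (mkZ C C' ψ) := Ideal.Quotient.mk_surjective

theorem mkZ_eq_zero (w : ↥(W Y Y')) : mkZ C C' ψ w = 0 ↔ w ∈ Δ Y Y' :=
  Ideal.Quotient.eq_zero_iff_mem

theorem mkZ_eq (w w' : ↥(W Y Y')) : mkZ C C' ψ w = mkZ C C' ψ w' ↔ w - w' ∈ Δ Y Y' :=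
  Ideal.Quotient.eq

theorem algebraMap_ZC (l : Λ) : algebraMap Λ (ZC C C' ψ) l = tau C C' ψ l := rfl

/-- the projection of the Baer difference as a ring hom -/
noncomputable def projZr : ZC C C' ψ →+* R :=
  Ideal.Quotient.lift (Δ Y Y')
    (((Y.proj : Y.E →+* R).comp (RingHom.fst Y.E Y'.E)).comp (W Y Y').val.toRingHom)
    (fun w hw => by
      obtain ⟨z, hz⟩ := hw
      show Y.proj (w : Y.E × Y'.E).1 = 0
      rw [hz]
      exact proj_incl Y z)

theorem projZr_mk (w : ↥(W Y Y')) :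
    projZr C C' ψ (mkZ C C' ψ w) = Y.proj (w : Y.E × Y'.E).1 := rfl

/-- the projection of the Baer difference -/
noncomputable def projZ : ZC C C' ψ →ₐ[Λ] R :=
  { projZr C C' ψ with
    commutes' := fun l => by
      obtain ⟨p, rfl⟩ := C.P.isExtension.proj_surjective l
      show projZr C C' ψ (tau C C' ψ (C.P.proj p)) = _
      rw [tau_spec]
      show Y.proj ((Phi0 C C' ψ p : ↥(W Y Y')) : Y.E × Y'.E).1 = _
      rw [Phi0_coe]
      exact C.hf p }

theorem projZ_mk (w : ↥(W Y Y')) :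
    projZ C C' ψ (mkZ C C' ψ w) = Y.proj (w : Y.E × Y'.E).1 := rfl

variable (Y Y') in
/-- the element `(i z, 0)` of the fibre product -/
noncomputable def wincl (z : ResidueField R) : ↥(W Y Y') :=
  ⟨(Y.incl z, 0), by
    refine (mem_W Y Y' _).mpr ?_
    show Y.proj (Y.incl z) = Y'.proj 0
    rw [map_zero, proj_incl]⟩

/-- the inclusion of the kernel of the Baer difference -/
noncomputable def inclZ : ResidueField R →+ ZC C C' ψ where
  toFun z := mkZ C C' ψ (wincl Y Y' z)
  map_zero' := by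
    have e1 : wincl Y Y' (0 : ResidueField R) = 0 := by
      apply Subtype.ext
      show (Y.incl 0, (0 : Y'.E)) = 0
      rw [map_zero]; rfl
    rw [e1, map_zero]
  map_add' z z' := by
    have e1 : wincl Y Y' (z + z') = wincl Y Y' z + wincl Y Y' z' := by
      apply Subtype.ext
      show (Y.incl (z + z'), (0 : Y'.E)) = (Y.incl z, (0 : Y'.E)) + (Y.incl z', (0 : Y'.E))
      rw [map_add, Prod.mk_add_mk, add_zero]
    rw [e1, map_add]

theorem inclZ_apply (z : ResidueField R) : inclZ C C' ψ z = mkZ C C' ψ (wincl Y Y' z) := rfl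

theorem isExtZ : Exal.IsExtension (projZ C C' ψ) (inclZ C C' ψ) where
  proj_surjective := fun r => by
    obtain ⟨y, hy⟩ := Y.isExtension.proj_surjective r
    obtain ⟨y', hy'⟩ := Y'.isExtension.proj_surjective r
    have hw : Y.proj y = Y'.proj y' := by rw [hy, hy']
    refine ⟨mkZ C C' ψ ⟨(y, y'), hw⟩, ?_⟩
    rw [projZ_mk]; exact hy
  incl_injective := by
    rw [injective_iff_map_eq_zero]
    intro z hz
    rw [inclZ_apply, mkZ_eq_zero, mem_Δ] at hz
    obtain ⟨w, hw⟩ := hz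
    have h1 : Y.incl z = Y.incl w := congrArg Prod.fst hw
    have h2 : (0 : Y'.E) = Y'.incl w := congrArg Prod.snd hw
    have h3 : w = 0 := Y'.isExtension.incl_injective (by rw [← h2, map_zero])
    rw [h3, map_zero] at h1
    exact Y.isExtension.incl_injective (by rw [h1, map_zero])
  exact := fun x => by
    obtain ⟨⟨⟨y, y'⟩, hw⟩, rfl⟩ := mkZ_surj C C' ψ x
    have hw' : Y.proj y = Y'.proj y' := hw
    rw [projZ_mk]
    constructor
    · intro h0
      have h0' : Y.proj y = 0 := h0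
      obtain ⟨z, hz⟩ := exists_incl Y y h0'
      obtain ⟨z', hz'⟩ := exists_incl Y' y' (by rw [← hw', h0'])
      refine ⟨z - z', ?_⟩
      rw [inclZ_apply, mkZ_eq, mem_Δ]
      refine ⟨-z', ?_⟩
      show ((Y.incl (z - z'), (0 : Y'.E)) - (y, y') : Y.E × Y'.E) = _
      rw [← hz, ← hz', Prod.mk_sub_mk, map_sub, map_neg, map_neg]
      refine Prod.ext ?_ ?_
      · show Y.incl z - Y.incl z' - Y.incl z = -Y.incl z'
        ring
      · show (0 : Y'.E) - Y'.incl z' = -Y'.incl z'
        ring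
    · rintro ⟨z, hz⟩
      have h1 := congrArg (projZ C C' ψ) hz
      rw [inclZ_apply, projZ_mk, projZ_mk] at h1
      have h2 : Y.proj (Y.incl z) = Y.proj y := h1
      show Y.proj y = 0
      rw [← h2]
      exact proj_incl Y z
  mul_incl := fun x z => by
    obtain ⟨⟨⟨y, y'⟩, hw⟩, rfl⟩ := mkZ_surj C C' ψ x
    rw [projZ_mk, inclZ_apply, inclZ_apply, ← map_mul]
    congr 1
    apply Subtype.ext
    show ((y, y') : Y.E × Y'.E) * (Y.incl z, (0 : Y'.E)) = (Y.incl (Y.proj y • z), (0 : Y'.E))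
    rw [Prod.mk_mul_mk, mul_zero, Y.isExtension.mul_incl]

/-- the Baer difference as a `Λ`-extension -/
noncomputable def Zext : Exal.Ext Λ R (ResidueField R) where
  E := ZC C C' ψ
  proj := projZ C C' ψ
  incl := inclZ C C' ψ
  isExtension := isExtZ C C' ψ

include C C' ψ in
theorem partB (htriv : ∀ X : Exal.Ext Λ R (ResidueField R), X.IsTrivial) :
    Nonempty (Y.Equiv Y') := by
  obtain ⟨σ, hσ⟩ := htriv (Zext C C' ψ)
  obtain ⟨s, hs⟩ : ∃ s : R →+* ZC C C' ψ, ∀ r, s r = σ r :=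
    ⟨(σ : R →+* (Zext C C' ψ).E), fun _ => rfl⟩
  have hs1 : ∀ r, projZ C C' ψ (s r) = r := fun r => by rw [hs]; exact hσ r
  have hs2 : ∀ l, s (algebraMap Λ R l) = tau C C' ψ l := fun l => by
    rw [hs]; exact AlgHom.commutes σ l
  -- the relation defining the isomorphism
  have hex : ∀ y : Y.E, ∃ y' : Y'.E, ∃ h : Y.proj y = Y'.proj y',
      mkZ C C' ψ ⟨(y, y'), h⟩ = s (Y.proj y) := by
    intro y
    obtain ⟨⟨⟨y₁, y₁'⟩, hw⟩, hw1⟩ := mkZ_surj C C' ψ (s (Y.proj y))
    have hw' : Y.proj y₁ = Y'.proj y₁' := hw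
    have h1 : Y.proj y₁ = Y.proj y := by
      have h2 := congrArg (projZ C C' ψ) hw1
      rw [projZ_mk, hs1] at h2
      exact h2
    obtain ⟨z, hz⟩ := exists_incl Y (y - y₁) (by rw [map_sub, h1, sub_self])
    have h3 : Y.proj y = Y'.proj (y₁' + Y'.incl z) := by
      rw [map_add, proj_incl, add_zero, ← hw', h1]
    refine ⟨y₁' + Y'.incl z, h3, ?_⟩
    rw [← hw1, mkZ_eq, mem_Δ]
    refine ⟨z, ?_⟩
    show ((y, y₁' + Y'.incl z) - (y₁, y₁') : Y.E × Y'.E) = _
    rw [Prod.mk_sub_mk, hz]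
    refine Prod.ext rfl ?_
    show y₁' + Y'.incl z - y₁' = Y'.incl z
    ring
  have huniq : ∀ (y : Y.E) (y' y'' : Y'.E) (h : Y.proj y = Y'.proj y')
      (h' : Y.proj y = Y'.proj y''),
      mkZ C C' ψ ⟨(y, y'), h⟩ = s (Y.proj y) → mkZ C C' ψ ⟨(y, y''), h'⟩ = s (Y.proj y) →
      y' = y'' := by
    intro y y' y'' h h' e e'
    have h1 := e.trans e'.symm
    rw [mkZ_eq, mem_Δ] at h1
    obtain ⟨w, hw⟩ := h1
    have h2 : y - y = Y.incl w := congrArg Prod.fst hw
    have h3 : y' - y'' = Y'.incl w := congrArg Prod.snd hw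
    have h4 : w = 0 := Y.isExtension.incl_injective (by rw [← h2, sub_self, map_zero])
    rw [h4, map_zero] at h3
    exact sub_eq_zero.mp h3
  choose Θ hΘ1 hΘ2 using hex
  have hΘ : ∀ (y : Y.E) (y' : Y'.E) (h : Y.proj y = Y'.proj y'),
      mkZ C C' ψ ⟨(y, y'), h⟩ = s (Y.proj y) → Θ y = y' :=
    fun y y' h e => huniq y _ _ (hΘ1 y) h (hΘ2 y) e
  -- ring homomorphism properties
  have h_one : Θ 1 = 1 := by
    have hpr : Y.proj 1 = Y'.proj 1 := by rw [map_one, map_one]
    refine hΘ 1 1 hpr ?_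
    have e1 : (⟨((1 : Y.E), (1 : Y'.E)), hpr⟩ : ↥(W Y Y')) = 1 := Subtype.ext rfl
    rw [e1, map_one, map_one, map_one]
  have h_mul : ∀ a b, Θ (a * b) = Θ a * Θ b := by
    intro a b
    have hpr : Y.proj (a * b) = Y'.proj (Θ a * Θ b) := by
      rw [map_mul, map_mul, hΘ1 a, hΘ1 b]
    refine hΘ (a * b) (Θ a * Θ b) hpr ?_
    have e1 : (⟨(a * b, Θ a * Θ b), hpr⟩ : ↥(W Y Y'))
        = ⟨(a, Θ a), hΘ1 a⟩ * ⟨(b, Θ b), hΘ1 b⟩ := Subtype.ext rfl
    rw [e1, map_mul, hΘ2, hΘ2, ← map_mul, ← map_mul]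
  have h_zero : Θ 0 = 0 := by
    have hpr : Y.proj 0 = Y'.proj 0 := by rw [map_zero, map_zero]
    refine hΘ 0 0 hpr ?_
    have e1 : (⟨((0 : Y.E), (0 : Y'.E)), hpr⟩ : ↥(W Y Y')) = 0 := Subtype.ext rfl
    rw [e1, map_zero, map_zero, map_zero]
  have h_add : ∀ a b, Θ (a + b) = Θ a + Θ b := by
    intro a b
    have hpr : Y.proj (a + b) = Y'.proj (Θ a + Θ b) := by
      rw [map_add, map_add, hΘ1 a, hΘ1 b]
    refine hΘ (a + b) (Θ a + Θ b) hpr ?_
    have e1 : (⟨(a + b, Θ a + Θ b), hpr⟩ : ↥(W Y Y'))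
        = ⟨(a, Θ a), hΘ1 a⟩ + ⟨(b, Θ b), hΘ1 b⟩ := Subtype.ext rfl
    rw [e1, map_add, hΘ2, hΘ2, ← map_add, ← map_add]
  have h_alg : ∀ c : k, Θ (algebraMap k Y.E c) = algebraMap k Y'.E c := by
    intro c
    have hpr : Y.proj (algebraMap k Y.E c) = Y'.proj (algebraMap k Y'.E c) := by
      rw [AlgHom.commutes, AlgHom.commutes]
    refine hΘ _ _ hpr ?_
    have e1 : Y.proj (algebraMap k Y.E c) = algebraMap Λ R (algebraMap k Λ c) := by
      rw [AlgHom.commutes, IsScalarTower.algebraMap_apply k Λ R]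
    rw [e1, hs2]
    have e2 := tau_spec C C' ψ (algebraMap k C.P.E c)
    rw [AlgHom.commutes C.P.proj] at e2
    rw [e2, AlgHom.commutes (Phi0 C C' ψ)]
    exact congrArg (Ideal.Quotient.mk (Δ Y Y')) (Subtype.ext rfl)
  have h_incl : ∀ z, Θ (Y.incl z) = Y'.incl z := by
    intro z
    have hpr : Y.proj (Y.incl z) = Y'.proj (Y'.incl z) := by rw [proj_incl, proj_incl]
    refine hΘ _ _ hpr ?_
    rw [proj_incl, map_zero, mkZ_eq_zero, mem_Δ]
    exact ⟨z, rfl⟩
  exact equiv_of_hom Y Y'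
    { toFun := Θ, map_one' := h_one, map_mul' := h_mul, map_zero' := h_zero,
      map_add' := h_add, commutes' := h_alg }
    (fun y => (hΘ1 y).symm) h_incl

end partB

section partD

variable {k : Type u} [Field k] {Λ : Type u} [CommRing Λ] [Algebra k Λ]
  {R : Type u} [CommRing R] [Algebra Λ R] [Algebra k R] [IsScalarTower k Λ R] [IsLocalRing R]

/-- the module component of an element of the trivial extension -/
noncomputable def tsnd (t : (Exal.Ext.trivial k R (ResidueField R)).E) : ResidueField R :=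
  TrivSqZeroExt.snd (R := R) (M := ResidueField R) t

theorem tsnd_one : tsnd (1 : (Exal.Ext.trivial k R (ResidueField R)).E) = 0 := rfl

theorem tsnd_zero : tsnd (0 : (Exal.Ext.trivial k R (ResidueField R)).E) = 0 := rfl

theorem tsnd_add (s t : (Exal.Ext.trivial k R (ResidueField R)).E) :
    tsnd (s + t) = tsnd s + tsnd t := rfl

theorem tsnd_mul (s t : (Exal.Ext.trivial k R (ResidueField R)).E) :
    tsnd (s * t) = (Exal.Ext.trivial k R (ResidueField R)).proj s • tsnd t
      + (Exal.Ext.trivial k R (ResidueField R)).proj t • tsnd s := by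
  have h := TrivSqZeroExt.snd_mul (R := R) (M := ResidueField R) s t
  rw [op_smul_eq_smul] at h
  exact h

theorem tsnd_algebraMap (c : k) :
    tsnd (algebraMap k (Exal.Ext.trivial k R (ResidueField R)).E c) = 0 := rfl

theorem tsnd_incl (z : ResidueField R) :
    tsnd ((Exal.Ext.trivial k R (ResidueField R)).incl z) = z := rfl

variable (X : Exal.Ext Λ R (ResidueField R))

/-- `x ↦ (image of proj x) + i (snd (f x))` -/
noncomputable def g1 (C' : Cover Λ (Exal.Ext.trivial k R (ResidueField R))) :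
    C'.P.E →ₐ[k] (X.restrictBase k).E where
  toFun x := (algebraMap Λ X.E (C'.P.proj x) + X.incl (tsnd (C'.f x)) : X.E)
  map_one' := by
    show algebraMap Λ X.E (C'.P.proj 1) + X.incl (tsnd (C'.f 1)) = (1 : X.E)
    rw [map_one, map_one, map_one, tsnd_one, map_zero, add_zero]
  map_mul' := by
    intro x y
    show algebraMap Λ X.E (C'.P.proj (x * y)) + X.incl (tsnd (C'.f (x * y)))
      = (algebraMap Λ X.E (C'.P.proj x) + X.incl (tsnd (C'.f x)))
        * (algebraMap Λ X.E (C'.P.proj y) + X.incl (tsnd (C'.f y)))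
    have hx := C'.hf x
    have hy := C'.hf y
    have h1 : tsnd (C'.f (x * y)) = algebraMap Λ R (C'.P.proj x) • tsnd (C'.f y)
        + algebraMap Λ R (C'.P.proj y) • tsnd (C'.f x) := by
      rw [map_mul, tsnd_mul, hx, hy]
    have h2 : ∀ (l : Λ) (w : ResidueField R),
        algebraMap Λ X.E l * X.incl w = X.incl (algebraMap Λ R l • w) := by
      intro l w
      rw [X.isExtension.mul_incl, AlgHom.commutes]
    rw [h1, map_add, ← h2, ← h2, map_mul, map_mul]
    linear_combination (-1 : X.E) * incl_mul_incl X (tsnd (C'.f x)) (tsnd (C'.f y))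
  map_zero' := by
    show algebraMap Λ X.E (C'.P.proj 0) + X.incl (tsnd (C'.f 0)) = (0 : X.E)
    rw [map_zero, map_zero, map_zero, tsnd_zero, map_zero, add_zero]
  map_add' := by
    intro x y
    show algebraMap Λ X.E (C'.P.proj (x + y)) + X.incl (tsnd (C'.f (x + y)))
      = (algebraMap Λ X.E (C'.P.proj x) + X.incl (tsnd (C'.f x)))
        + (algebraMap Λ X.E (C'.P.proj y) + X.incl (tsnd (C'.f y)))
    rw [map_add, map_add, map_add, tsnd_add, map_add]
    ring
  commutes' := by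
    intro c
    show algebraMap Λ X.E (C'.P.proj (algebraMap k C'.P.E c))
        + X.incl (tsnd (C'.f (algebraMap k C'.P.E c)))
      = algebraMap Λ X.E (algebraMap k Λ c)
    rw [AlgHom.commutes, AlgHom.commutes, tsnd_algebraMap, map_zero, add_zero]

theorem g1_apply (C' : Cover Λ (Exal.Ext.trivial k R (ResidueField R))) (x : C'.P.E) :
    (g1 X C' x : X.E) = algebraMap Λ X.E (C'.P.proj x) + X.incl (tsnd (C'.f x)) := rfl

theorem g1_incl (C' : Cover Λ (Exal.Ext.trivial k R (ResidueField R))) (z : ResidueField R) :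
    (g1 X C' (C'.P.incl z) : X.E) = X.incl z := by
  rw [g1_apply, proj_incl, map_zero, zero_add, C'.hfi, tsnd_incl]

/-- the map from a cover of the trivial extension to the inverse image of `X` -/
noncomputable def Xi (C' : Cover Λ (Exal.Ext.trivial k R (ResidueField R))) :
    C'.P.E →ₐ[k] ↥((X.restrictBase k).fiberProd Λ) :=
  AlgHom.codRestrict (AlgHom.prod (g1 X C') C'.P.proj) ((X.restrictBase k).fiberProd Λ)
    (fun x => by
      refine (mem_fp _ _).mpr ?_
      show X.proj (algebraMap Λ X.E (C'.P.proj x) + X.incl (tsnd (C'.f x)))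
        = algebraMap Λ R (C'.P.proj x)
      rw [map_add, AlgHom.commutes, proj_incl, add_zero])

theorem Xi_coe (C' : Cover Λ (Exal.Ext.trivial k R (ResidueField R))) (x : C'.P.E) :
    ((Xi X C' x : ↥((X.restrictBase k).fiberProd Λ)) : (X.restrictBase k).E × Λ)
      = (g1 X C' x, C'.P.proj x) := rfl

theorem Xi_incl (C' : Cover Λ (Exal.Ext.trivial k R (ResidueField R))) (z : ResidueField R) :
    ((Xi X C' (C'.P.incl z) : ↥((X.restrictBase k).fiberProd Λ)) : (X.restrictBase k).E × Λ)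
      = ((X.restrictBase k).incl z, 0) := by
  rw [Xi_coe]
  exact Prod.ext (g1_incl X C' z) (proj_incl C'.P z)

theorem equiv3 : Nonempty (((X.restrictBase k).pullback Λ).Equiv
    ((Exal.Ext.trivial k R (ResidueField R)).pullback Λ)) := by
  have h := equiv_of_hom ((Exal.Ext.trivial k R (ResidueField R)).pullback Λ)
    ((X.restrictBase k).pullback Λ)
    (Xi X (stdCover Λ (Exal.Ext.trivial k R (ResidueField R))))
    (fun x => rfl)
    (fun z => Subtype.ext (Xi_incl X (stdCover Λ (Exal.Ext.trivial k R (ResidueField R))) z))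
  obtain ⟨e⟩ := h
  exact ⟨e.symm⟩

theorem sec_of_equiv (ε : (X.restrictBase k).Equiv (Exal.Ext.trivial k R (ResidueField R))) :
    ∃ σ₀ : R →+* X.E, (∀ r, X.proj (σ₀ r) = r) ∧
      (∀ c : k, σ₀ (algebraMap k R c) = algebraMap Λ X.E (algebraMap k Λ c)) := by
  obtain ⟨j, hj1, hj2⟩ : ∃ j : R →+* (Exal.Ext.trivial k R (ResidueField R)).E,
      (∀ r, (Exal.Ext.trivial k R (ResidueField R)).proj (j r) = r) ∧
      (∀ c : k, j (algebraMap k R c)
        = algebraMap k (Exal.Ext.trivial k R (ResidueField R)).E c) :=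
    ⟨TrivSqZeroExt.inlHom R (ResidueField R), fun _ => rfl, fun _ => rfl⟩
  refine ⟨((Exal.Ext.Equiv.symm ε).toAlgEquiv :
    (Exal.Ext.trivial k R (ResidueField R)).E →+* (X.restrictBase k).E).comp j, ?_, ?_⟩
  · intro r
    have h := (Exal.Ext.Equiv.symm ε).proj_apply (j r)
    rw [hj1] at h
    exact h
  · intro c
    show (Exal.Ext.Equiv.symm ε).toAlgEquiv (j (algebraMap k R c)) = _
    rw [hj2, AlgEquiv.commutes]
    rfl

theorem main : (∀ X : Exal.Ext Λ R (ResidueField R), X.IsTrivial) ↔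
    ((∀ D : Derivation k Λ (ResidueField R),
        ∃ D' : Derivation k R (ResidueField R), ∀ a : Λ, D' (algebraMap Λ R a) = D a) ∧
     (∀ Y Y' : Exal.Ext k R (ResidueField R),
        Nonempty ((Y.pullback Λ).Equiv (Y'.pullback Λ)) → Nonempty (Y.Equiv Y'))) := by
  constructor
  · intro htriv
    exact ⟨partA htriv, fun Y Y' ⟨ψ⟩ => partB (stdCover Λ Y) (stdCover Λ Y') ψ htriv⟩
  · rintro ⟨ha, hb⟩ X
    obtain ⟨ε⟩ := hb (X.restrictBase k) (Exal.Ext.trivial k R (ResidueField R)) (equiv3 X)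
    obtain ⟨σ₀, h1, h2⟩ := sec_of_equiv X ε
    exact core3 X ha σ₀ h1 h2

end partD

end Aux11292

namespace Groth.Agent.S11292

/-- Let k be an algebraically closed field, Λ and R local Noetherian k-algebras with residue field k,
and Λ → R a local k-algebra homomorphism. Then the relative obstruction space vanishes — every
Λ-extension of R by its residue field k is trivial — if and only if (a) the tangent map t_R → t_Λ is
surjective: every k-derivation of Λ into k extends along Λ → R to a k-derivation of R into k, and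
(b) the obstruction map o(R) → o(Λ) given by inverse image is injective on classes: two k-extensions
of R by k whose inverse images over Λ are equivalent are equivalent (R is less obstructed than Λ).
Here k is the residue field of R, a module over R, Λ and k through the structure maps. -/
theorem result
    {k : Type u} [Field k] [IsAlgClosed k]
    {Λ : Type u} [CommRing Λ] [Algebra k Λ] [IsLocalRing Λ] [IsNoetherianRing Λ]
    (hΛ : ∀ a : Λ, ∃ c : k, a - algebraMap k Λ c ∈ IsLocalRing.maximalIdeal Λ)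
    {R : Type u} [CommRing R] [Algebra Λ R] [Algebra k R] [IsScalarTower k Λ R]
    [IsLocalRing R] [IsNoetherianRing R] [IsLocalHom (algebraMap Λ R)]
    (hR : ∀ r : R, ∃ c : k, r - algebraMap k R c ∈ IsLocalRing.maximalIdeal R) :
    (∀ X : Exal.Ext Λ R (IsLocalRing.ResidueField R), X.IsTrivial) ↔
    ((∀ D : Derivation k Λ (IsLocalRing.ResidueField R),
        ∃ D' : Derivation k R (IsLocalRing.ResidueField R), ∀ a : Λ, D' (algebraMap Λ R a) = D a) ∧
     (∀ Y Y' : Exal.Ext k R (IsLocalRing.ResidueField R),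
        Nonempty ((Y.pullback Λ).Equiv (Y'.pullback Λ)) → Nonempty (Y.Equiv Y'))) := by
  exact Aux11292.main 

end Groth.Agent.S11292
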