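import Groth.Statements.S11294
import Mathlib

set_option autoImplicit false
universe u
open Deform

namespace Groth.Agent.S11294

open TrivSqZeroExt

/-- The ideal of `P[ε]` attached to `φ : J → P/J`. -/
def idealOf {P : Type u} [CommRing P] (J : Ideal P) (φ : J →ₗ[P] (P ⧸ J)) : Ideal (DualNumber P) where
  carrier := {x | ∃ h : x.fst ∈ J, Ideal.Quotient.mk J x.snd = φ ⟨x.fst, h⟩}
  zero_mem' := by
    refine ⟨by simp, ?_⟩
    have : (⟨(0 : DualNumber P).fst, by simp⟩ : J) = 0 := by ext; simp
    rw [this, map_zero]; simp
  add_mem' := by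
    rintro x y ⟨hx, hx'⟩ ⟨hy, hy'⟩
    refine ⟨by rw [fst_add]; exact J.add_mem hx hy, ?_⟩
    have : (⟨(x + y).fst, by rw [fst_add]; exact J.add_mem hx hy⟩ : J) =
        ⟨x.fst, hx⟩ + ⟨y.fst, hy⟩ := by ext; simp
    rw [this, map_add, ← hx', ← hy', snd_add, map_add]
  smul_mem' := by
    rintro c x ⟨hx, hx'⟩
    have hmem : (c • x).fst ∈ J := by
      rw [smul_eq_mul, fst_mul]; exact J.mul_mem_left _ hx
    refine ⟨hmem, ?_⟩
    have : (⟨(c • x).fst, hmem⟩ : J) = c.fst • ⟨x.fst, hx⟩ := by ext; simp
    rw [this, map_smul, ← hx', smul_eq_mul, DualNumber.snd_mul, map_add, map_mul, map_mul,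
      Ideal.Quotient.eq_zero_iff_mem.mpr hx, mul_zero, add_zero, Algebra.smul_def]
    rfl

theorem mem_idealOf {P : Type u} [CommRing P] (J : Ideal P) (φ : J →ₗ[P] (P ⧸ J)) (a b : P) :
    (inl a + inr b : DualNumber P) ∈ idealOf J φ ↔
      ∃ h : a ∈ J, Ideal.Quotient.mk J b = φ ⟨a, h⟩ := by
  have h1 : (inl a + inr b : DualNumber P).fst = a := by simp
  have h2 : (inl a + inr b : DualNumber P).snd = b := by simp
  constructor
  · rintro ⟨h, h'⟩
    have ha : a ∈ J := h1 ▸ h
    refine ⟨ha, ?_⟩
    rw [h2] at h'
    rw [h']
    congr 1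
    ext; exact h1
  · rintro ⟨h, h'⟩
    refine ⟨h1.symm ▸ h, ?_⟩
    rw [h2, h']
    congr 1
    ext; exact h1.symm

theorem eq_inl_add_inr {P : Type u} [CommRing P] (x : DualNumber P) :
    x = inl x.fst + inr x.snd := (inl_fst_add_inr_snd_eq x).symm


open TrivSqZeroExt in
/-- Let P be a commutative ring, J an ideal, and P[ε] the ring of dual numbers over P. First-order
embedded deformations of Spec(P/J) in Spec P, namely ideals J' of P[ε] lifting J (the image of J'
under ε ↦ 0 is J) with P[ε]/J' flat over the dual numbers — flatness being replaced by the condition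
that every element of P[ε]/J' annihilated by ε is a multiple of ε (equivalent to flatness over k[ε]
when P is an algebra over a field k) — are in canonical bijection with Hom_P(J, P/J) =
Hom_{P/J}(J/J^2, P/J), the normal module: to φ corresponds the ideal of all a + εb with a in J and b
reducing to φ(a) modulo J. The first clause says this rule defines exactly one ideal for each φ; the
second says an ideal J' is a flat lift of J precisely when its membership is given by this rule for
some φ. (The published statement is the global one, identifying first-order deformations of a closed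
subscheme X of an algebraic scheme Y with H^0(X, N_{X/Y}); this row is the affine computation in its
proof, valid for every commutative ring P.) -/
theorem result (P : Type u) [CommRing P] (J : Ideal P) :
    (∀ φ : J →ₗ[P] (P ⧸ J), ∃! J' : Ideal (DualNumber P),
        ∀ a b : P, (inl a + inr b : DualNumber P) ∈ J' ↔ ∃ h : a ∈ J, Ideal.Quotient.mk J b = φ ⟨a, h⟩) ∧
    (∀ J' : Ideal (DualNumber P),
      (J'.map (TrivSqZeroExt.fstHom P P P) = J ∧
        ∀ m : DualNumber P ⧸ J', Ideal.Quotient.mk J' DualNumber.eps * m = 0 →
          ∃ m' : DualNumber P ⧸ J', m = Ideal.Quotient.mk J' DualNumber.eps * m') ↔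
      ∃ φ : J →ₗ[P] (P ⧸ J), ∀ a b : P,
        (inl a + inr b : DualNumber P) ∈ J' ↔ ∃ h : a ∈ J, Ideal.Quotient.mk J b = φ ⟨a, h⟩) := by
  constructor
  · intro φ
    refine ⟨idealOf J φ, mem_idealOf J φ, ?_⟩
    intro J' hJ'
    ext x
    rw [eq_inl_add_inr x, hJ', mem_idealOf]
  · intro J'
    have hfst : ∀ a : P, a ∈ J'.map (TrivSqZeroExt.fstHom P P P) ↔
        ∃ b : P, (inl a + inr b : DualNumber P) ∈ J' := by
      intro a
      rw [Ideal.mem_map_iff_of_surjective _ (fun a => ⟨inl a, by simp⟩)]
      constructor
      · rintro ⟨x, hx, rfl⟩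
        refine ⟨x.snd, ?_⟩
        have : (inl ((TrivSqZeroExt.fstHom P P P) x) + inr x.snd : DualNumber P) = x := by
          rw [TrivSqZeroExt.fstHom_apply]; exact inl_fst_add_inr_snd_eq x
        rw [this]; exact hx
      · rintro ⟨b, hb⟩
        exact ⟨_, hb, by simp⟩
    constructor
    · rintro ⟨hmap, hdiv⟩
      have hfst' : ∀ a : P, a ∈ J ↔ ∃ b : P, (inl a + inr b : DualNumber P) ∈ J' := by
        intro a; rw [← hmap]; exact hfst a
      -- ε j ∈ J' for j ∈ J
      have heps : ∀ j ∈ J, (inr j : DualNumber P) ∈ J' := by
        intro j hj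
        obtain ⟨d, hd⟩ := (hfst' j).mp hj
        have := J'.mul_mem_left (inr 1 : DualNumber P) hd
        have e : (inr 1 : DualNumber P) * (inl j + inr d) = inr j := by
          ext <;> simp
        rwa [e] at this
      -- ε c ∈ J' → c ∈ J
      have heps' : ∀ c : P, (inr c : DualNumber P) ∈ J' → c ∈ J := by
        intro c hc
        have h1 : Ideal.Quotient.mk J' (DualNumber.eps : DualNumber P) *
            Ideal.Quotient.mk J' (inl c) = 0 := by
          rw [← map_mul, Ideal.Quotient.eq_zero_iff_mem]
          have e : (DualNumber.eps : DualNumber P) * inl c = inr c := by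
            ext <;> simp
          rwa [e]
        obtain ⟨m', hm'⟩ := hdiv _ h1
        obtain ⟨y, rfl⟩ := Ideal.Quotient.mk_surjective m'
        rw [← map_mul, Ideal.Quotient.eq] at hm'
        rw [hfst']
        refine ⟨-(y.fst), ?_⟩
        have e : (inl c - DualNumber.eps * y : DualNumber P) = inl c + inr (-(y.fst)) := by
          ext <;> simp
        rwa [e] at hm'
      have hwd : ∀ a b b' : P, (inl a + inr b : DualNumber P) ∈ J' →
          (inl a + inr b' : DualNumber P) ∈ J' →
          Ideal.Quotient.mk J b = Ideal.Quotient.mk J b' := by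
        intro a b b' h1 h2
        rw [Ideal.Quotient.eq]
        apply heps'
        have := J'.sub_mem h1 h2
        have e : (inl a + inr b - (inl a + inr b') : DualNumber P) = inr (b - b') := by
          ext <;> simp
        rwa [e] at this
      choose! β hβ using fun a : P => (hfst' a).mp
      let φ : J →ₗ[P] (P ⧸ J) :=
        { toFun := fun a => Ideal.Quotient.mk J (β a.1)
          map_add' := by
            intro a a'
            have h1 := hβ a.1 a.2
            have h2 := hβ a'.1 a'.2
            have h3 := hβ (a + a').1 (a + a').2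
            have h4 := J'.add_mem h1 h2
            have e : (inl a.1 + inr (β a.1) + (inl a'.1 + inr (β a'.1)) : DualNumber P) =
                inl ((a + a' : J) : P) + inr (β a.1 + β a'.1) := by
              ext <;> simp
            rw [e] at h4
            rw [hwd _ _ _ h3 h4, map_add]
          map_smul' := by
            intro c a
            have h1 := hβ a.1 a.2
            have h3 := hβ (c • a).1 (c • a).2
            have h4 := J'.mul_mem_left (inl c : DualNumber P) h1
            have e : (inl c * (inl a.1 + inr (β a.1)) : DualNumber P) =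
                inl ((c • a : J) : P) + inr (c * β a.1) := by
              ext <;> simp
            rw [e] at h4
            rw [hwd _ _ _ h3 h4, map_mul, RingHom.id_apply, Algebra.smul_def]
            rfl }
      refine ⟨φ, ?_⟩
      intro a b
      constructor
      · intro hab
        have ha : a ∈ J := (hfst' a).mpr ⟨b, hab⟩
        exact ⟨ha, hwd a b (β a) hab (hβ a ha)⟩
      · rintro ⟨ha, hb⟩
        have h1 := hβ a ha
        have h2 : b - β a ∈ J := by
          rw [← Ideal.Quotient.eq]; exact hb
        have h3 := J'.add_mem h1 (heps _ h2)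
        have e : (inl a + inr (β a) + inr (b - β a) : DualNumber P) = inl a + inr b := by
          ext <;> simp
        rwa [e] at h3
    · rintro ⟨φ, hφ⟩
      constructor
      · ext a
        rw [hfst a]
        constructor
        · rintro ⟨b, hb⟩
          exact ((hφ a b).mp hb).1
        · intro ha
          obtain ⟨b, hb⟩ := Ideal.Quotient.mk_surjective (φ ⟨a, ha⟩)
          exact ⟨b, (hφ a b).mpr ⟨ha, hb⟩⟩
      · intro m hm
        obtain ⟨x, rfl⟩ := Ideal.Quotient.mk_surjective m
        rw [← map_mul, Ideal.Quotient.eq_zero_iff_mem] at hm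
        have e : (DualNumber.eps : DualNumber P) * x = inl 0 + inr x.fst := by
          ext <;> simp
        rw [e, hφ] at hm
        obtain ⟨h0, hx⟩ := hm
        have h00 : (⟨0, h0⟩ : J) = 0 := rfl
        rw [h00, map_zero, Ideal.Quotient.eq_zero_iff_mem] at hx
        obtain ⟨c, hc⟩ := Ideal.Quotient.mk_surjective (Ideal.Quotient.mk J x.snd - φ ⟨x.fst, hx⟩)
        refine ⟨Ideal.Quotient.mk J' (inl c), ?_⟩
        rw [← map_mul, Ideal.Quotient.eq]
        have e2 : (x - DualNumber.eps * inl c : DualNumber P) = inl x.fst + inr (x.snd - c) := by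
          ext <;> simp
        rw [e2, hφ]
        refine ⟨hx, ?_⟩
        rw [map_sub, hc]
        ring

end Groth.Agent.S11294
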