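import Groth.Statements.S11299
import Mathlib

set_option autoImplicit false
universe u
open CAlg

namespace Groth.Agent.S11299

section helpers

variable {P : Type u} [CommRing P] (J : Ideal P)

/-- The trivial (Koszul) relations of a presentation. -/
def tr {F : Type u} [AddCommGroup F] [Module P F] (j : F →ₗ[P] P) : Submodule P F :=
  Submodule.span P {y : F | ∃ u v : F, y = j u • v - j v • u}

/-- Restrictions to the relation module of maps `F → P/J`. -/
abbrev Res {F : Type u} [AddCommGroup F] [Module P F] (j : F →ₗ[P] P) :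
    Submodule P ((LinearMap.ker j) →ₗ[P] (P ⧸ J)) :=
  LinearMap.range (LinearMap.lcomp P (P ⧸ J) (LinearMap.ker j).subtype)

/-- Maps on the relation module killing the trivial relations. -/
abbrev Hh {F : Type u} [AddCommGroup F] [Module P F] (j : F →ₗ[P] P) :
    Submodule P ((LinearMap.ker j) →ₗ[P] (P ⧸ J)) :=
  LinearMap.ker (LinearMap.lcomp P (P ⧸ J)
    (Submodule.comap (LinearMap.ker j).subtype (tr j)).subtype)

/-- The module `T²` of a presentation. -/
abbrev T2 {F : Type u} [AddCommGroup F] [Module P F] (j : F →ₗ[P] P) :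
    Submodule P (((LinearMap.ker j) →ₗ[P] (P ⧸ J)) ⧸ Res J j) :=
  Submodule.map (Res J j).mkQ (Hh J j)

variable {J}
variable {F F' : Type u} [AddCommGroup F] [Module P F] [AddCommGroup F'] [Module P F']
  {j : F →ₗ[P] P} {j' : F' →ₗ[P] P}

theorem mem_Hh (h : (LinearMap.ker j) →ₗ[P] (P ⧸ J)) :
    h ∈ Hh J j ↔ ∀ x : LinearMap.ker j, (x : F) ∈ tr j → h x = 0 := by
  rw [LinearMap.mem_ker]
  constructor
  · intro hh x hx
    have := LinearMap.congr_fun hh ⟨x, hx⟩
    exact this
  · intro hh
    ext ⟨x, hx⟩
    exact hh x hx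

theorem map_tr_le (α : F →ₗ[P] F') (hα : ∀ x, j' (α x) = j x) : (tr j).map α ≤ tr j' := by
  rw [tr, Submodule.map_span, Submodule.span_le]
  rintro _ ⟨_, ⟨u, v, rfl⟩, rfl⟩
  apply Submodule.subset_span
  refine ⟨α u, α v, ?_⟩
  rw [map_sub, map_smul, map_smul, hα, hα]

/-- restriction of a lift to relation modules -/
def relMap (α : F →ₗ[P] F') (hα : ∀ x, j' (α x) = j x) : LinearMap.ker j →ₗ[P] LinearMap.ker j' :=
  α.restrict (p := LinearMap.ker j) (q := LinearMap.ker j') (by
    intro x hx
    rw [LinearMap.mem_ker] at hx ⊢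
    rw [hα, hx])

theorem relMap_coe (α : F →ₗ[P] F') (hα : ∀ x, j' (α x) = j x) (x : LinearMap.ker j) :
    (relMap α hα x : F') = α x := rfl

theorem res_le (α : F →ₗ[P] F') (hα : ∀ x, j' (α x) = j x) :
    Res J j' ≤ (Res J j).comap (LinearMap.lcomp P (P ⧸ J) (relMap α hα)) := by
  rintro _ ⟨ψ, rfl⟩
  refine ⟨ψ.comp α, ?_⟩
  ext x
  rfl

theorem hh_le (α : F →ₗ[P] F') (hα : ∀ x, j' (α x) = j x)
    (h : (LinearMap.ker j') →ₗ[P] (P ⧸ J)) (hh : h ∈ Hh J j') :
    LinearMap.lcomp P (P ⧸ J) (relMap α hα) h ∈ Hh J j := by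
  rw [mem_Hh] at hh ⊢
  intro x hx
  show h (relMap α hα x) = 0
  apply hh
  rw [relMap_coe]
  exact map_tr_le α hα (Submodule.mem_map_of_mem hx)

/-- The induced map on `T²`. -/
def T2map (α : F →ₗ[P] F') (hα : ∀ x, j' (α x) = j x) : T2 J j' →ₗ[P] T2 J j :=
  ((Res J j').mapQ (Res J j) (LinearMap.lcomp P (P ⧸ J) (relMap α hα)) (res_le α hα)).restrict
    (p := T2 J j') (q := T2 J j) (by
      rintro _ ⟨h, hh, rfl⟩
      exact ⟨_, hh_le α hα h hh, rfl⟩)

theorem T2map_comp (α : F →ₗ[P] F') (hα : ∀ x, j' (α x) = j x)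
    (β : F' →ₗ[P] F) (hβ : ∀ x, j (β x) = j' x) (x : T2 J j) :
    T2map α hα (T2map β hβ x) = x := by
  obtain ⟨_, h, hh, rfl⟩ := x
  apply Subtype.ext
  show (Res J j).mkQ (LinearMap.lcomp P (P ⧸ J) (relMap α hα)
    (LinearMap.lcomp P (P ⧸ J) (relMap β hβ) h)) = (Res J j).mkQ h
  rw [← sub_eq_zero, ← map_sub, Submodule.mkQ_apply, Submodule.Quotient.mk_eq_zero]
  -- the difference is the restriction of a map defined on all of `F`
  let γ : F →ₗ[P] LinearMap.ker j :=
    (β.comp α - LinearMap.id).codRestrict (LinearMap.ker j) (by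
      intro y
      rw [LinearMap.mem_ker, LinearMap.sub_apply, map_sub, LinearMap.comp_apply, hβ, hα,
        LinearMap.id_apply, sub_self])
  refine ⟨h.comp γ, ?_⟩
  ext x
  show h (γ x) = h (relMap β hβ (relMap α hα x)) - h x
  rw [← map_sub]
  congr 1

end helpers


/-- The second cotangent module does not depend on the presentation: let P be a commutative ring, J an
ideal and B = P/J. For a presentation of J, i.e. a finitely generated free P-module F with a
P-linear map j : F → P with image J, let R = ker j be the relation module and R^tr ⊆ R the span of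
the trivial relations j(u) • v - j(v) • u; the module T^2 of the presentation is the quotient of
Hom_B(R/R^tr, B), realised as the P-linear maps R → P/J vanishing on R^tr, by the restrictions to R
of the P-linear maps F → P/J (here: the image of that submodule in the quotient of Hom_P(R, P/J) by
the restrictions). Then for two presentations (F, j) and (F', j') of the same ideal J the two
modules T^2 are isomorphic as P-modules (existence of an isomorphism; the comparison maps depend on
expressing one system of generators through the other). (The published statement takes B essentially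
of finite type over a field and P smooth; this row allows any commutative ring P and ideal J.) -/
theorem result (P : Type u) [CommRing P] (J : Ideal P)
    (F : Type u) [AddCommGroup F] [Module P F] [Module.Free P F] [Module.Finite P F]
    (F' : Type u) [AddCommGroup F'] [Module P F'] [Module.Free P F'] [Module.Finite P F']
    (j : F →ₗ[P] P) (j' : F' →ₗ[P] P) (hj : LinearMap.range j = J) (hj' : LinearMap.range j' = J) :
    Nonempty (↥(Submodule.map
          (LinearMap.range (LinearMap.lcomp P (P ⧸ J) (LinearMap.ker j).subtype)).mkQ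
          (LinearMap.ker (LinearMap.lcomp P (P ⧸ J)
            (Submodule.comap (LinearMap.ker j).subtype
              (Submodule.span P {y : F | ∃ u v : F, y = j u • v - j v • u})).subtype))) ≃ₗ[P]
      ↥(Submodule.map
          (LinearMap.range (LinearMap.lcomp P (P ⧸ J) (LinearMap.ker j').subtype)).mkQ
          (LinearMap.ker (LinearMap.lcomp P (P ⧸ J)
            (Submodule.comap (LinearMap.ker j').subtype
              (Submodule.span P {y : F' | ∃ u v : F', y = j' u • v - j' v • u})).subtype)))) := by
  classical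
  -- lifts of the identity of `J`
  have hjJ : ∀ x, j x ∈ J := fun x => hj ▸ LinearMap.mem_range_self j x
  have hj'J : ∀ x, j' x ∈ J := fun x => hj' ▸ LinearMap.mem_range_self j' x
  let jJ : F →ₗ[P] J := j.codRestrict J hjJ
  let j'J : F' →ₗ[P] J := j'.codRestrict J hj'J
  have hsurj : Function.Surjective jJ := by
    rintro ⟨y, hy⟩
    rw [← hj] at hy
    obtain ⟨x, rfl⟩ := hy
    exact ⟨x, rfl⟩
  have hsurj' : Function.Surjective j'J := by
    rintro ⟨y, hy⟩
    rw [← hj'] at hy
    obtain ⟨x, rfl⟩ := hy
    exact ⟨x, rfl⟩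
  obtain ⟨α, hα⟩ := Module.projective_lifting_property j'J jJ hsurj'
  obtain ⟨β, hβ⟩ := Module.projective_lifting_property jJ j'J hsurj
  have hα' : ∀ x, j' (α x) = j x := fun x => congrArg Subtype.val (LinearMap.congr_fun hα x)
  have hβ' : ∀ x, j (β x) = j' x := fun x => congrArg Subtype.val (LinearMap.congr_fun hβ x)
  exact ⟨LinearEquiv.ofLinear (T2map β hβ') (T2map α hα')
    (LinearMap.ext fun x => T2map_comp β hβ' α hα' x)
    (LinearMap.ext fun x => T2map_comp α hα' β hβ' x)⟩

end Groth.Agent.S11299
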