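import Groth.Statements.S11302
import Mathlib
import Groth.Agent.Lib.Helper17.RegSeqRelations

set_option autoImplicit false
universe u
open Deform

namespace Groth.Agent.S11302

section helpers
open MvPolynomial
variable {k : Type u} [Field k] {d n : ℕ}

/-- A derivation of the polynomial ring is determined by partial derivatives. -/
theorem derivation_eq_sum {A : Type*} [AddCommGroup A] [Module k A]
    [Module (MvPolynomial (Fin d) k) A] [IsScalarTower k (MvPolynomial (Fin d) k) A]
    (D : Derivation k (MvPolynomial (Fin d) k) A) (p : MvPolynomial (Fin d) k) :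
    D p = ∑ j, pderiv j p • D (X j) := by
  induction p using MvPolynomial.induction_on with
  | C a =>
    have h0 : D (C a) = 0 := by
      rw [← MvPolynomial.algebraMap_eq]; exact D.map_algebraMap a
    rw [h0]
    simp
  | add p q hp hq =>
    rw [map_add, hp, hq, ← Finset.sum_add_distrib]
    refine Finset.sum_congr rfl fun j _ => ?_
    rw [map_add, add_smul]
  | mul_X p i hp =>
    rw [Derivation.leibniz, hp]
    have : ∀ j : Fin d, pderiv j (p * (X i : MvPolynomial (Fin d) k)) • D (X j) =
        (X i : MvPolynomial (Fin d) k) • (pderiv j p • D (X j)) +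
          (p * (Pi.single i 1 : Fin d → MvPolynomial (Fin d) k) j) • D (X j) := by
      intro j
      rw [Derivation.leibniz, pderiv_X, smul_eq_mul, smul_eq_mul, add_smul, smul_smul, add_comm]
      congr 2
      rw [Pi.single_comm]
    rw [Finset.sum_congr rfl fun j _ => this j, Finset.sum_add_distrib, ← Finset.smul_sum, add_comm]
    congr 1
    rw [Finset.sum_eq_single i]
    · simp
    · intro j _ hji
      simp [Pi.single_apply, hji]
    · intro h; exact absurd (Finset.mem_univ i) h


theorem smul_quot_eq {R : Type u} [CommRing R] (J : Ideal R) (p : R) (b : R ⧸ J) :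
    p • b = Ideal.Quotient.mk J p * b := by
  obtain ⟨q, rfl⟩ := Ideal.Quotient.mk_surjective b
  rfl

/-- The restriction of a derivation `P → P/J` to `J` is `P`-linear. -/
noncomputable def restrictDer (J : Ideal (MvPolynomial (Fin d) k))
    (D : Derivation k (MvPolynomial (Fin d) k) (MvPolynomial (Fin d) k ⧸ J)) :
    J →ₗ[MvPolynomial (Fin d) k] (MvPolynomial (Fin d) k ⧸ J) where
  toFun a := D (a : MvPolynomial (Fin d) k)
  map_add' a b := by simp
  map_smul' p a := by
    simp only [RingHom.id_apply]
    show D (p * (a : MvPolynomial (Fin d) k)) = _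
    rw [Derivation.leibniz, smul_quot_eq J (a : MvPolynomial (Fin d) k),
      Ideal.Quotient.eq_zero_iff_mem.mpr a.2, zero_mul, add_zero]

/-- The main statement, with abbreviations. -/
theorem main (f : Fin n → MvPolynomial (Fin d) k)
    (hreg : RingTheory.Sequence.IsWeaklyRegular (MvPolynomial (Fin d) k) (List.ofFn f))
    (J : Ideal (MvPolynomial (Fin d) k)) (hJ : Ideal.span (Set.range f) = J) (hfJ : ∀ i, f i ∈ J) :
    ∃ e : ((↥J →ₗ[MvPolynomial (Fin d) k] (MvPolynomial (Fin d) k ⧸ J)) ⧸
            Submodule.span (MvPolynomial (Fin d) k)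
              {ψ : ↥J →ₗ[MvPolynomial (Fin d) k] (MvPolynomial (Fin d) k ⧸ J) |
                ∃ D : Derivation k (MvPolynomial (Fin d) k) (MvPolynomial (Fin d) k ⧸ J), ∀ a : ↥J, ψ a = D (a : MvPolynomial (Fin d) k)}) ≃ₗ[MvPolynomial (Fin d) k]
          ((Fin n → MvPolynomial (Fin d) k ⧸ J) ⧸
            Submodule.span (MvPolynomial (Fin d) k ⧸ J)
              (Set.range fun j : Fin d => fun i : Fin n => Ideal.Quotient.mk J (pderiv j (f i)))),
      ∀ φ : ↥J →ₗ[MvPolynomial (Fin d) k] (MvPolynomial (Fin d) k ⧸ J),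
        e (Submodule.Quotient.mk φ) =
          Submodule.Quotient.mk (fun i : Fin n => φ ⟨f i, hfJ i⟩) := by
  classical
  let gen : Fin n → J := fun i => ⟨f i, hfJ i⟩
  -- evaluation at the generators
  let Φ : (J →ₗ[MvPolynomial (Fin d) k] (MvPolynomial (Fin d) k ⧸ J)) →ₗ[MvPolynomial (Fin d) k]
      (Fin n → MvPolynomial (Fin d) k ⧸ J) :=
    LinearMap.pi fun i => LinearMap.applyₗ (gen i)
  have hΦ : ∀ φ i, Φ φ i = φ (gen i) := fun φ i => rfl
  -- every element of J is a combination of generators
  have hcomb : ∀ x : J, ∃ c : Fin n → MvPolynomial (Fin d) k, x = ∑ i, c i • gen i := by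
    intro x
    have hx : (x : MvPolynomial (Fin d) k) ∈ Ideal.span (Set.range f) := hJ ▸ x.2
    obtain ⟨c, hc⟩ := (Ideal.mem_span_range_iff_exists_fun).mp hx
    refine ⟨c, Subtype.ext ?_⟩
    rw [← hc, Submodule.coe_sum]
    rfl
  have hΦinj : Function.Injective Φ := by
    rw [← LinearMap.ker_eq_bot, eq_bot_iff]
    intro φ hφ
    rw [LinearMap.mem_ker] at hφ
    rw [Submodule.mem_bot]
    ext x
    obtain ⟨c, rfl⟩ := hcomb x
    rw [map_sum, LinearMap.zero_apply]
    refine Finset.sum_eq_zero fun i _ => ?_
    rw [map_smul, ← hΦ, hφ, Pi.zero_apply, smul_zero]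
  have hΦsurj : Function.Surjective Φ := by
    intro b
    let Ψ : (Fin n → MvPolynomial (Fin d) k) →ₗ[MvPolynomial (Fin d) k] J :=
      Fintype.linearCombination (MvPolynomial (Fin d) k) gen
    have hΨ : Function.Surjective Ψ := by
      intro x
      obtain ⟨c, rfl⟩ := hcomb x
      exact ⟨c, by rw [Fintype.linearCombination_apply]⟩
    let ψ : (Fin n → MvPolynomial (Fin d) k) →ₗ[MvPolynomial (Fin d) k] (MvPolynomial (Fin d) k ⧸ J) :=
      Fintype.linearCombination (MvPolynomial (Fin d) k) b
    have hle : LinearMap.ker Ψ ≤ LinearMap.ker ψ := by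
      intro a ha
      rw [LinearMap.mem_ker, Fintype.linearCombination_apply] at ha ⊢
      have h0 : ∑ i, a i * f i = 0 := by
        have := congrArg (Subtype.val) ha
        rw [Submodule.coe_sum] at this
        exact this
      have hmem := Groth.Agent.Lib.Helper17.mem_span_of_sum_mul_eq_zero f hreg a h0
      refine Finset.sum_eq_zero fun i _ => ?_
      rw [smul_quot_eq J, Ideal.Quotient.eq_zero_iff_mem.mpr (hJ ▸ hmem i), zero_mul]
    let φ : J →ₗ[MvPolynomial (Fin d) k] (MvPolynomial (Fin d) k ⧸ J) :=
      ((LinearMap.ker Ψ).liftQ ψ hle).comp (Ψ.quotKerEquivOfSurjective hΨ).symm.toLinearMap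
    refine ⟨φ, ?_⟩
    funext i
    rw [hΦ]
    have h1 : (Ψ.quotKerEquivOfSurjective hΨ).symm (gen i) =
        Submodule.Quotient.mk (Pi.single i 1) := by
      rw [LinearEquiv.symm_apply_eq, LinearMap.quotKerEquivOfSurjective_apply_mk,
        Fintype.linearCombination_apply_single, one_smul]
    show ((LinearMap.ker Ψ).liftQ ψ hle) ((Ψ.quotKerEquivOfSurjective hΨ).symm (gen i)) = b i
    rw [h1, Submodule.liftQ_apply, Fintype.linearCombination_apply_single, one_smul]
  let Φe : (J →ₗ[MvPolynomial (Fin d) k] (MvPolynomial (Fin d) k ⧸ J)) ≃ₗ[MvPolynomial (Fin d) k]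
      (Fin n → MvPolynomial (Fin d) k ⧸ J) := LinearEquiv.ofBijective Φ ⟨hΦinj, hΦsurj⟩
  -- the two submodules
  set S : Submodule (MvPolynomial (Fin d) k) (J →ₗ[MvPolynomial (Fin d) k] (MvPolynomial (Fin d) k ⧸ J)) :=
    Submodule.span (MvPolynomial (Fin d) k)
    {ψ | ∃ D : Derivation k (MvPolynomial (Fin d) k) (MvPolynomial (Fin d) k ⧸ J),
      ∀ a : J, ψ a = D (a : MvPolynomial (Fin d) k)} with hS
  set col : Fin d → (Fin n → MvPolynomial (Fin d) k ⧸ J) :=
    fun j i => Ideal.Quotient.mk J (pderiv j (f i)) with hcol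
  set T : Submodule (MvPolynomial (Fin d) k ⧸ J) (Fin n → MvPolynomial (Fin d) k ⧸ J) :=
    Submodule.span (MvPolynomial (Fin d) k ⧸ J) (Set.range col) with hT
  have hST : S.map (Φe : (J →ₗ[MvPolynomial (Fin d) k] (MvPolynomial (Fin d) k ⧸ J)) →ₗ[MvPolynomial (Fin d) k]
      (Fin n → MvPolynomial (Fin d) k ⧸ J)) = T.restrictScalars (MvPolynomial (Fin d) k) := by
    apply le_antisymm
    · rw [Submodule.map_le_iff_le_comap, hS, Submodule.span_le]
      rintro ψ ⟨D, hD⟩
      show Φ ψ ∈ T
      have : Φ ψ = ∑ j, D (X j) • col j := by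
        funext i
        rw [hΦ, hD, Finset.sum_apply]
        show D (f i) = _
        rw [derivation_eq_sum D (f i)]
        refine Finset.sum_congr rfl fun j _ => ?_
        rw [Pi.smul_apply, hcol, smul_quot_eq J, smul_eq_mul, mul_comm]
      rw [this]
      exact Submodule.sum_mem _ fun j _ => Submodule.smul_mem _ _ (Submodule.subset_span ⟨j, rfl⟩)
    · intro t ht
      rw [Submodule.restrictScalars_mem] at ht
      refine Submodule.span_induction ?_ ?_ ?_ ?_ ht
      · rintro _ ⟨j, rfl⟩
        let D : Derivation k (MvPolynomial (Fin d) k) (MvPolynomial (Fin d) k ⧸ J) :=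
          MvPolynomial.mkDerivation k (Pi.single j (1 : MvPolynomial (Fin d) k ⧸ J))
        refine ⟨restrictDer J D, Submodule.subset_span ⟨D, fun a => rfl⟩, ?_⟩
        funext i
        show D (f i) = col j i
        rw [derivation_eq_sum D (f i), Finset.sum_eq_single j]
        · rw [MvPolynomial.mkDerivation_X, Pi.single_eq_same, smul_quot_eq J, mul_one]
        · intro j' _ hj'
          rw [MvPolynomial.mkDerivation_X, Pi.single_eq_of_ne hj', smul_zero]
        · intro h; exact absurd (Finset.mem_univ j) h
      · exact Submodule.zero_mem _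
      · intro x y _ _ hx hy; exact Submodule.add_mem _ hx hy
      · intro b x _ hx
        obtain ⟨p, rfl⟩ := Ideal.Quotient.mk_surjective b
        have : (Ideal.Quotient.mk J p) • x = p • x := by
          funext i
          rw [Pi.smul_apply, Pi.smul_apply, smul_quot_eq J, smul_eq_mul]
        rw [this]
        exact Submodule.smul_mem _ _ hx
  refine ⟨(Submodule.Quotient.equiv S (T.restrictScalars (MvPolynomial (Fin d) k)) Φe hST).trans
    (Submodule.Quotient.restrictScalarsEquiv (MvPolynomial (Fin d) k) T), ?_⟩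
  intro φ
  rfl

end helpers


open MvPolynomial in
/-- T^1 of a complete intersection; the hypersurface case P/(f, ∂f/∂X_1, ..., ∂f/∂X_d) is n = 1: let k
be an algebraically closed field, P = k[X_1, ..., X_d], f_1, ..., f_n a regular sequence in P (each
f_i a non-zero-divisor modulo the preceding ones), J the ideal they generate and B = P/J. The first
cotangent module T^1_B — the cokernel of Der_k(P, B) → Hom_P(J, B), a derivation being restricted to
J — is isomorphic, as a P-module, to B^n modulo the B-submodule generated by the d columns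
(∂f_1/∂X_j, ..., ∂f_n/∂X_j), j = 1, ..., d, of the Jacobian matrix reduced modulo J, through the map
sending the class of φ : J → B to the class of (φ(f_1), ..., φ(f_n)). (The published formula allows
P to be a localisation of the polynomial ring; this row takes the polynomial ring.) -/
theorem result (k : Type u) [Field k] [IsAlgClosed k] (d n : ℕ)
    (f : Fin n → MvPolynomial (Fin d) k) (hreg : RingTheory.Sequence.IsWeaklyRegular (MvPolynomial (Fin d) k) (List.ofFn f)) :
    ∃ e : ((↥(Ideal.span (Set.range f)) →ₗ[MvPolynomial (Fin d) k] (MvPolynomial (Fin d) k ⧸ Ideal.span (Set.range f))) ⧸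
            Submodule.span (MvPolynomial (Fin d) k)
              {ψ : ↥(Ideal.span (Set.range f)) →ₗ[MvPolynomial (Fin d) k] (MvPolynomial (Fin d) k ⧸ Ideal.span (Set.range f)) |
                ∃ D : Derivation k (MvPolynomial (Fin d) k) (MvPolynomial (Fin d) k ⧸ Ideal.span (Set.range f)), ∀ a : ↥(Ideal.span (Set.range f)), ψ a = D (a : MvPolynomial (Fin d) k)}) ≃ₗ[MvPolynomial (Fin d) k]
          ((Fin n → MvPolynomial (Fin d) k ⧸ Ideal.span (Set.range f)) ⧸
            Submodule.span (MvPolynomial (Fin d) k ⧸ Ideal.span (Set.range f))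
              (Set.range fun j : Fin d => fun i : Fin n => Ideal.Quotient.mk (Ideal.span (Set.range f)) (pderiv j (f i)))),
      ∀ φ : ↥(Ideal.span (Set.range f)) →ₗ[MvPolynomial (Fin d) k] (MvPolynomial (Fin d) k ⧸ Ideal.span (Set.range f)),
        e (Submodule.Quotient.mk φ) =
          Submodule.Quotient.mk (fun i : Fin n => φ ⟨f i, Ideal.subset_span (Set.mem_range_self i)⟩) := by
  exact main f hreg (Ideal.span (Set.range f)) rfl
    (fun i => Ideal.subset_span (Set.mem_range_self i))

end Groth.Agent.S11302
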