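import Groth.Statements.S11306
import Mathlib

set_option autoImplicit false
universe u
open TensorProduct
open CAlg

namespace Groth.Agent.S11306

/-- Take a Noetherian local domain A, with residue field k and fraction field K, and let M be a finitely
generated A-module. If k ⊗_A M and K ⊗_A M have the same dimension r (over k and over K
respectively), then M is a free A-module of rank r. -/
theorem result (A : Type u) [CommRing A] [IsDomain A]
    [IsNoetherianRing A] [IsLocalRing A] (M : Type u) [AddCommGroup M] [Module A M] [Module.Finite A M] (r : ℕ)
    (hk : Module.finrank (IsLocalRing.ResidueField A) (IsLocalRing.ResidueField A ⊗[A] M) = r)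
    (hK : Module.finrank (FractionRing A) (FractionRing A ⊗[A] M) = r) :
    Module.Free A M ∧ Module.finrank A M = r := by
  classical
  let k := IsLocalRing.ResidueField A
  let K := FractionRing A
  -- a basis of k ⊗ M consisting of pure tensors 1 ⊗ f i
  let b : Module.Basis (Fin r) k (k ⊗[A] M) := Module.finBasisOfFinrankEq k _ hk
  have hsurj : Function.Surjective (TensorProduct.mk A k M 1) :=
    TensorProduct.mk_surjective A M k IsLocalRing.residue_surjective
  choose f hf using fun i => hsurj (b i)
  have hspan : Submodule.span A (Set.range f) = ⊤ :=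
    IsLocalRing.span_eq_top_of_tmul_eq_basis f b hf
  let π : (Fin r → A) →ₗ[A] M := Fintype.linearCombination A f
  have hπsurj : Function.Surjective π := by
    rw [← LinearMap.range_eq_top, Fintype.range_linearCombination, hspan]
  -- injectivity via the fraction field
  have hφsurj : Function.Surjective (π.baseChange K) := by
    rw [← LinearMap.range_eq_top]
    exact LinearMap.range_eq_top.mpr (LinearMap.lTensor_surjective _ hπsurj)
  have hfin : Module.finrank K (K ⊗[A] (Fin r → A)) = Module.finrank K (K ⊗[A] M) := by
    rw [Module.finrank_baseChange, Module.finrank_fin_fun, hK]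
  have hφinj : Function.Injective (π.baseChange K) :=
    (LinearMap.injective_iff_surjective_of_finrank_eq_finrank hfin).mpr hφsurj
  have hmkinj : Function.Injective (TensorProduct.mk A K (Fin r → A) 1) := by
    have h1 : Function.Injective ((Algebra.linearMap A K).rTensor (Fin r → A)) :=
      Module.Flat.rTensor_preserves_injective_linearMap _ (IsFractionRing.injective A K)
    have h2 : (TensorProduct.mk A K (Fin r → A) 1 : (Fin r → A) → K ⊗[A] (Fin r → A)) =
        ((Algebra.linearMap A K).rTensor (Fin r → A)) ∘ (TensorProduct.lid A (Fin r → A)).symm := by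
      funext x
      simp
    rw [h2]
    exact h1.comp (TensorProduct.lid A (Fin r → A)).symm.injective
  have hπinj : Function.Injective π := by
    rw [← LinearMap.ker_eq_bot, eq_bot_iff]
    intro x hx
    rw [LinearMap.mem_ker] at hx
    have h1 : (π.baseChange K) ((1 : K) ⊗ₜ[A] x) = 0 := by
      rw [LinearMap.baseChange_tmul, hx, TensorProduct.tmul_zero]
    have h2 : (1 : K) ⊗ₜ[A] x = 0 := hφinj (by rw [h1, map_zero])
    have h3 : x = 0 := hmkinj (by simpa using h2)
    exact h3
  let e : (Fin r → A) ≃ₗ[A] M := LinearEquiv.ofBijective π ⟨hπinj, hπsurj⟩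
  refine ⟨Module.Free.of_equiv e, ?_⟩
  rw [← e.finrank_eq, Module.finrank_fin_fun]

end Groth.Agent.S11306
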