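import Groth.Statements.S1131
import Mathlib.AlgebraicGeometry.Sites.Fpqc
-- import your own Groth.Agent.* helpers here

set_option autoImplicit false
open CategoryTheory CategoryTheory.Limits AlgebraicGeometry Opposite
universe u
open Desc

namespace Groth.Agent.S1131

/-- If p : X ⟶ S is surjective, flat and quasi-compact, then the functor sending a scheme over S to its
canonical descent datum relative to p is full. (Faithfulness, which needs no quasi-compactness, is a
companion statement.) (Descent data are taken in functor-of-points form, equivalent by the Yoneda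
lemma to the usual form of an isomorphism over X ×_S X satisfying the cocycle condition.) -/
theorem result {X S : Scheme.{u}} (p : X ⟶ S) [Surjective p] [Flat p] [QuasiCompact p] :
    (Desc.toDD p).Full := by
  constructor
  intro U U' h
  -- notation
  let A := pullback p U.hom
  let A' := pullback p U'.hom
  let π : A ⟶ U.left := pullback.snd p U.hom
  let hl : A ⟶ A' := h.hom.left
  have hw : hl ≫ pullback.fst p U'.hom = pullback.fst p U.hom := Over.w h.hom
  let k : A ⟶ U'.left := hl ≫ pullback.snd p U'.hom
  have hk : ∀ {Z : Scheme.{u}} (g₁ g₂ : Z ⟶ A), g₁ ≫ π = g₂ ≫ π → g₁ ≫ k = g₂ ≫ k := by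
    intro Z g₁ g₂ hg
    have hx : (g₁ ≫ pullback.fst p U.hom) ≫ p = (g₂ ≫ pullback.fst p U.hom) ≫ p := by
      rw [Category.assoc, Category.assoc, pullback.condition, ← Category.assoc, ← Category.assoc]
      exact congrArg (· ≫ U.hom) hg
    have hw1 : (g₁ ≫ hl) ≫ pullback.fst p U'.hom = g₁ ≫ pullback.fst p U.hom := by
      rw [Category.assoc, hw]
    have hc := h.comm (g₁ ≫ pullback.fst p U.hom) (g₂ ≫ pullback.fst p U.hom) hx
      ⟨g₁, rfl⟩ ⟨g₁ ≫ hl, hw1⟩ rfl
    change (Desc.canMap p U' _ _ hx ⟨g₁ ≫ hl, hw1⟩).1 =
      (Desc.canMap p U _ _ hx ⟨g₁, rfl⟩).1 ≫ hl at hc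
    rw [Desc.canMap_val, Desc.canMap_val] at hc
    have e1 : pullback.lift (g₂ ≫ pullback.fst p U.hom) (g₁ ≫ pullback.snd p U.hom) (by
        rw [Category.assoc, Category.assoc, pullback.condition] at hx ⊢
        exact hx.symm) = g₂ := by
      apply pullback.hom_ext
      · rw [pullback.lift_fst]
      · rw [pullback.lift_snd]; exact hg
    have hc2 := congrArg (· ≫ pullback.snd p U'.hom) hc
    simp only [pullback.lift_snd] at hc2
    rw [e1] at hc2
    simp only [k, Category.assoc] at hc2 ⊢
    exact hc2
  have hπ : EffectiveEpi π := inferInstance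
  let u : U.left ⟶ U'.left := EffectiveEpi.desc π k (fun g₁ g₂ hg => hk g₁ g₂ hg)
  have hu : π ≫ u = k := EffectiveEpi.fac π k _
  have huS : u ≫ U'.hom = U.hom := by
    have : Epi π := inferInstance
    rw [← cancel_epi π, ← Category.assoc, hu]
    simp only [k, π, Category.assoc]
    rw [← pullback.condition, ← Category.assoc, hw, pullback.condition]
  refine ⟨Over.homMk u huS, ?_⟩
  apply Desc.SchDD.hom_ext
  ext
  show pullback.map p U.hom p U'.hom (𝟙 X) u (𝟙 S) (by simp) (by simp [huS]) = hl
  apply pullback.hom_ext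
  · rw [hw]; exact (pullback.lift_fst _ _ _).trans (Category.comp_id _)
  · exact (pullback.lift_snd _ _ _).trans hu

end Groth.Agent.S1131
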