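import Groth.Statements.S11314
import Groth.Agent.Lib.Helper7.PnDualD

set_option autoImplicit false
universe u
open CategoryTheory AlgebraicGeometry
open ProjDual

namespace Groth.Agent.S11314

/-- Let k be a field, P = P^n_k and ω = O_P(-n-1). Then there is a k-linear map t : H^n(P, ω) → k such
that for every coherent O_P-module F and every k-linear form ψ on H^n(P, F) there is exactly one
morphism φ : F → ω with ψ = t ∘ H^n(φ); in other words the natural pairing Hom(F, ω) × H^n(P, F) →
H^n(P, ω) followed by t is perfect, and ω is a dualizing sheaf for P. (The published statement fixes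
an isomorphism H^n(P, ω) ≅ k and pairs into it; here t stands for that composite, and the
finite-dimensionality of the two spaces is not restated.) -/
theorem result (k : Type u) [Field k] (n : ℕ) :
    ∃ t : Coh.HH (CohB1.ProjSpace n k) (Twist.twistProjSpace n k (-((n : ℤ) + 1))) n →ₗ[k] k,
      ∀ F : (CohB1.ProjSpace n k).Modules, Coh.IsCoh F → ∀ ψ : Coh.HH (CohB1.ProjSpace n k) F n →ₗ[k] k,
        ∃! φ : F ⟶ (Twist.twistProjSpace n k (-((n : ℤ) + 1))), ∀ x : Coh.HH (CohB1.ProjSpace n k) F n,
          ψ x = t (Sheaf.H.map ((SheafOfModules.toSheaf (CohB1.ProjSpace n k).ringCatSheaf).map φ) n x) := by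
  refine ⟨Groth.Agent.Lib.Helper7.PnDual.tr n k, fun F hF ψ => ?_⟩
  obtain ⟨h1, h2⟩ := Groth.Agent.Lib.Helper7.PnDual.isDual_of_isCoh n k F hF
  obtain ⟨φ, hφ⟩ := h1 ψ
  refine ⟨φ, hφ, fun φ' hφ' => ?_⟩
  have h3 : φ' - φ = 0 := h2 _ (fun x => by
    rw [Groth.Agent.Lib.Helper7.MulSurj.Hm_sub, map_sub]
    have e1 := hφ x
    have e2 := hφ' x
    exact sub_eq_zero.mpr (e2.symm.trans e1))
  exact sub_eq_zero.mp h3

end Groth.Agent.S11314
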