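import Groth.Statements.S11318
import Mathlib

set_option autoImplicit false
universe u
open CategoryTheory AlgebraicGeometry
open ProjDual

namespace Groth.Agent.S11318

open CategoryTheory AlgebraicGeometry in
theorem hmap_comp {X : Scheme.{u}} {F G K : X.Modules} (f : F ⟶ G) (g : G ⟶ K) (n : ℕ)
    (x : Coh.HH X F n) :
    Sheaf.H.map ((SheafOfModules.toSheaf X.ringCatSheaf).map (f ≫ g)) n x =
      Sheaf.H.map ((SheafOfModules.toSheaf X.ringCatSheaf).map g) n
        (Sheaf.H.map ((SheafOfModules.toSheaf X.ringCatSheaf).map f) n x) := by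
  rw [← Sheaf.H.map_comp_apply]
  exact congrArg (fun h => Sheaf.H.map h n x) (Functor.map_comp _ f g)

open CategoryTheory AlgebraicGeometry in
theorem hmap_id {X : Scheme.{u}} (F : X.Modules) (n : ℕ) (x : Coh.HH X F n) :
    Sheaf.H.map ((SheafOfModules.toSheaf X.ringCatSheaf).map (𝟙 F)) n x = x := by
  exact (congrArg (fun h => Sheaf.H.map h n x) (CategoryTheory.Functor.map_id _ F)).trans
    (Sheaf.H.map_id_apply (F := (SheafOfModules.toSheaf X.ringCatSheaf).obj F) (n := n) x)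


/-- Let k be a field, X a proper k-scheme of dimension n, and (ω, t), (ω', t') two dualizing sheaves for
X: each is a coherent O_X-module with a k-linear map on its n-th cohomology to k such that for every
coherent F and every k-linear form ψ on H^n(X, F) there is exactly one morphism from F into it
through which ψ factors. Then there is exactly one morphism φ : ω → ω' with t = t' ∘ H^n(φ), and
this φ is an isomorphism. -/
theorem result (k : Type u) [Field k] (X : Scheme.{u}) [X.Over (Spec (CommRingCat.of k))]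
    [IsProper (X ↘ Spec (CommRingCat.of k))] (n : ℕ) (hn : topologicalKrullDim ↥X = n)
    (ω ω' : X.Modules) (hω : Coh.IsCoh ω) (hω' : Coh.IsCoh ω')
    (t : Coh.HH X ω n →ₗ[k] k) (t' : Coh.HH X ω' n →ₗ[k] k)
    (hd : ∀ F : X.Modules, Coh.IsCoh F → ∀ ψ : Coh.HH X F n →ₗ[k] k,
        ∃! φ : F ⟶ ω, ∀ x : Coh.HH X F n,
          ψ x = t (Sheaf.H.map ((SheafOfModules.toSheaf X.ringCatSheaf).map φ) n x))
    (hd' : ∀ F : X.Modules, Coh.IsCoh F → ∀ ψ : Coh.HH X F n →ₗ[k] k,
        ∃! φ : F ⟶ ω', ∀ x : Coh.HH X F n,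
          ψ x = t' (Sheaf.H.map ((SheafOfModules.toSheaf X.ringCatSheaf).map φ) n x)) :
    ∃ φ : ω ⟶ ω', IsIso φ ∧
      (∀ x : Coh.HH X ω n, t x = t' (Sheaf.H.map ((SheafOfModules.toSheaf X.ringCatSheaf).map φ) n x)) ∧
      ∀ ψ : ω ⟶ ω', (∀ x : Coh.HH X ω n, t x = t' (Sheaf.H.map ((SheafOfModules.toSheaf X.ringCatSheaf).map ψ) n x)) → ψ = φ := by
  obtain ⟨φ, hφ, hφu⟩ := hd' ω hω t
  obtain ⟨φ', hφ', hφ'u⟩ := hd ω' hω' t'
  -- uniqueness statements for endomorphisms
  obtain ⟨a, ha, hau⟩ := hd ω hω t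
  obtain ⟨a', ha', ha'u⟩ := hd' ω' hω' t'
  have h1 : φ ≫ φ' = 𝟙 ω := by
    have e1 : φ ≫ φ' = a := by
      apply hau
      intro x
      exact (hφ x).trans ((hφ' _).trans (congrArg t (hmap_comp φ φ' n x).symm))
    have e2 : 𝟙 ω = a := by
      apply hau
      intro x
      exact congrArg t (hmap_id ω n x).symm
    rw [e1, e2]
  have h2 : φ' ≫ φ = 𝟙 ω' := by
    have e1 : φ' ≫ φ = a' := by
      apply ha'u
      intro x
      exact (hφ' x).trans ((hφ _).trans (congrArg t' (hmap_comp φ' φ n x).symm))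
    have e2 : 𝟙 ω' = a' := by
      apply ha'u
      intro x
      exact congrArg t' (hmap_id ω' n x).symm
    rw [e1, e2]
  refine ⟨φ, ⟨⟨φ', h1, h2⟩⟩, hφ, ?_⟩
  intro ψ hψ
  exact hφu ψ hψ

end Groth.Agent.S11318
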