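import Groth.Statements.S11319
import Groth.Agent.Lib.Helper2.GSS.CompExactAcyclic
import Groth.Agent.Lib.Helper2.ModAcyclicGen
import Groth.Agent.Lib.Helper13.DerivedCommute
import Groth.Agent.Lib.Helper13.LocallyZero
import Groth.Agent.Lib.Helper13.FlasqueBasic
import Groth.Agent.Lib.Helper13.ModGrothendieck
import Groth.Agent.Lib.Helper13.ModSheafBasic
-- import your own Groth.Agent.* helpers here

set_option autoImplicit false
universe u
open CategoryTheory AlgebraicGeometry
open Coherent

namespace Groth.Agent.S11319

open CategoryTheory.Limits TopologicalSpace Groth.Agent.Lib.Helper2 Groth.Agent.Lib.Helper13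

/-- the forgetful functor to abelian sheaves. -/
noncomputable abbrev TT (X : Scheme.{u}) :
    X.Modules ⥤ Sheaf (Opens.grothendieckTopology X) AddCommGrpCat.{u} :=
  SheafOfModules.toSheaf.{u} X.ringCatSheaf

instance (X : Scheme.{u}) : (TT X).Additive where

theorem toSheaf_pfc {C : Type u} [SmallCategory C] {J : GrothendieckTopology C}
    (R : Sheaf J RingCat.{u}) : PreservesFiniteColimits (SheafOfModules.toSheaf.{u} R) :=
  ⟨fun _ _ _ => ModSheafBasic.toSheaf_preservesColimitsOfShape _ _⟩

theorem toSheaf_pfl {C : Type u} [SmallCategory C] {J : GrothendieckTopology C}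
    (R : Sheaf J RingCat.{u}) : PreservesFiniteLimits (SheafOfModules.toSheaf.{u} R) :=
  inferInstance

instance (X : Scheme.{u}) : PreservesFiniteColimits (TT X) := toSheaf_pfc X.ringCatSheaf

instance (X : Scheme.{u}) : PreservesFiniteLimits (TT X) := toSheaf_pfl X.ringCatSheaf

/-- `f_*` commutes with the forgetful functors to abelian sheaves. -/
noncomputable def pushToAbIso {X Y : Scheme.{u}} (f : X ⟶ Y) :
    Scheme.Modules.pushforward f ⋙ TT Y ≅ TT X ⋙ Coh.pushAb f :=
  NatIso.ofComponents (fun _ => Iso.refl _)

theorem isBasis_univ (Y : TopCat.{u}) : Opens.IsBasis (Set.univ : Set (Opens Y)) :=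
  Opens.isBasis_iff_nbhd.2 (fun {U} {x} hx => ⟨U, trivial, hx, le_rfl⟩)


/-- Let f : X → Y be a morphism of schemes, M an O_X-module and n ≥ 0. Then the underlying abelian sheaf
of the n-th higher direct image R^n f_* M computed in the category of O-modules (the n-th right
derived functor of f_* : Mod(O_X) → Mod(O_Y), which needs the stated instance that Mod(O_X) has
injective resolutions — it does) is isomorphic to the n-th higher direct image of the underlying
abelian sheaf of M (the right derived functor of f_* on abelian sheaves). (Stated for schemes; the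
published statement is for ringed spaces. Existence of an isomorphism only.) -/
theorem result {X Y : Scheme.{u}} (f : X ⟶ Y)
    [HasInjectiveResolutions X.Modules] (M : X.Modules) (n : ℕ) :
    Nonempty (Coh.toAb ((Coh.Rpush f n).obj M) ≅ (Coh.RpushAb f n).obj (Coh.toAb M)) := by
  haveI : EnoughInjectives X.Modules := ModGrothendieck.enoughInjectives X.ringCatSheaf
  haveI : PreservesFiniteLimits (Coh.pushAb f) := by
    have : PreservesLimitsOfSize.{0, 0} (Coh.pushAb f) :=
      (TopCat.Sheaf.pullbackPushforwardAdjunction AddCommGrpCat.{u} f.base).rightAdjoint_preservesLimits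
    exact PreservesLimitsOfSize.preservesFiniteLimits _
  have hI : ∀ (I : X.Modules), Injective I → ∀ q : ℕ,
      IsZero (((Coh.pushAb f).rightDerived (q + 1)).obj
        ((SheafOfModules.toSheaf X.ringCatSheaf).obj I)) := by
    intro I hI q
    refine LocallyZero.isZero_Rpush_of_basis f.base _ (q + 1) Set.univ (isBasis_univ _) ?_
    intro V _
    exact FlasqueBasic.subsingleton_HU_of_totallyAcyclic _
      (@ModAcyclicGen.isTotallyAcyclic_of_injective _ _ _ X.ringCatSheaf I hI) _ q
  obtain ⟨e3⟩ := GSS.nonempty_rightDerived_comp_iso (TT X) (Coh.pushAb f) hI n M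
  exact ⟨(DerivedCommute.rightDerivedCompExactObjIso (Scheme.Modules.pushforward f)
      (TT Y) n M).symm ≪≫
    DerivedCommute.rightDerivedObjIsoOfNatIso (pushToAbIso f) n M ≪≫ e3⟩

end Groth.Agent.S11319
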