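import Groth.Statements.S11320
import Groth.Agent.Lib.Helper5.TopColim
import Groth.Agent.Lib.Helper5.SiteColimSections

set_option autoImplicit false
universe u
open CategoryTheory CategoryTheory.Limits
open CohTop

namespace Groth.Agent.S11320

/-- On a Noetherian topological space X, the direct limit, in the category of abelian sheaves, of a
directed system (F_i) of flasque abelian sheaves indexed by a nonempty directed preorder is flasque
(all its restriction maps are surjective). -/
theorem result {X : TopCat.{u}} [TopologicalSpace.NoetherianSpace X]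
    (ι : Type u) [Preorder ι] [IsDirected ι (· ≤ ·)] [Nonempty ι]
    (D : ι ⥤ CohTop.Ab X) (hD : ∀ i : ι, TopCat.Sheaf.IsFlasque (D.obj i)) :
    TopCat.Sheaf.IsFlasque (colimit D : CohTop.Ab X) := by
  haveI : PrespectralSpace X :=
    PrespectralSpace.of_isTopologicalBasis (B := {U : Set X | IsOpen U})
      TopologicalSpace.isTopologicalBasis_opens
      (fun U _ => TopologicalSpace.NoetherianSpace.isCompact U)
  constructor
  intro U V i
  rw [AddCommGrpCat.epi_iff_surjective]
  intro s
  have hV : V.unop ∈ Groth.Agent.Lib.Helper5.TopColim.B X :=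
    ⟨TopologicalSpace.NoetherianSpace.isCompact _,
      fun _ _ _ _ _ _ _ _ => TopologicalSpace.NoetherianSpace.isCompact _⟩
  obtain ⟨j, t, ht⟩ := Groth.Agent.Lib.Helper5.SiteColimSections.sections_surj D
    (Groth.Agent.Lib.Helper5.TopColim.B X) (Groth.Agent.Lib.Helper5.TopColim.Cov X)
    (Groth.Agent.Lib.Helper5.TopColim.h1 X)
    (fun W hW T hT => Groth.Agent.Lib.Helper5.TopColim.h2 X W hW T hT)
    (colimit.cocone D) (colimit.isColimit D) hV s
  have hfl := (hD j).epi i
  rw [AddCommGrpCat.epi_iff_surjective] at hfl
  obtain ⟨t', rfl⟩ := hfl t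
  refine ⟨((colimit.ι D j).hom.app U).hom t', ?_⟩
  rw [← ht]
  exact ConcreteCategory.congr_hom ((colimit.ι D j).hom.naturality i).symm t'

end Groth.Agent.S11320
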