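import Groth.Statements.S11330
import Groth.Agent.Lib.Helper7.PtSec
import Groth.Agent.Lib.Helper3.SubIdeal
import Groth.Agent.Lib.Helper3.FreeSec

set_option autoImplicit false
universe u
open CategoryTheory CategoryTheory.Limits AlgebraicGeometry
open Curves

namespace Groth.Agent.S11330

open Scheme.Modules
open Groth.Agent.Lib.Helper3 Groth.Agent.Lib.Helper3.QCSec Groth.Agent.Lib.Helper3.InvGen
  Groth.Agent.Lib.Helper3.IdealMod Groth.Agent.Lib.Helper3.InvMonoidal
  Groth.Agent.Lib.Helper3.InvTensor
open Groth.Agent.Lib.Helper23.T2 Groth.Agent.Lib.Helper23.Curve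
  Groth.Agent.Lib.Helper23 Groth.Agent.Lib.Helper7.PtDiv Groth.Agent.Lib.Helper7.CurvePair

/-- Let k be an algebraically closed field and X a curve over k (an integral scheme, proper over k, of
dimension one, with all local rings regular), and L an invertible O_X-module. Then L is generated by
its global sections (a quotient of a free O_X-module) if and only if for every closed point P of X,
with ideal sheaf I_P ⊆ O_X, dim_k H^0(X, L ⊗ I_P) = dim_k H^0(X, L) - 1. -/
theorem result (k : Type u) [Field k] [IsAlgClosed k] (X : Scheme.{u}) [X.Over (Spec (CommRingCat.of k))]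
    [IsIntegral X] [IsProper (X ↘ (Spec (CommRingCat.of k)))] (hdim : topologicalKrullDim X = 1)
    (hreg : ∀ x : X, IsRegularLocalRing (X.presheaf.stalk x)) (L : X.Modules) (hL : PicF.IsInvertible L) :
    Curv2.IsGloballyGenerated L ↔
      ∀ (P : X) (hP : IsClosed ({P} : Set X)),
        Module.finrank k (Coh.HH X (CohB1.tensorMod L (ClSub.idealMod (Scheme.IdealSheafData.vanishingIdeal ⟨{P}, hP⟩))) 0) + 1 = Module.finrank k (Coh.HH X L 0) := by
  haveI := isNoetherian_of_isProper k X
  constructor
  · intro hgg P hP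
    obtain ⟨s, hs⟩ := FreeSec.exists_mem_genLocus_of_isGloballyGenerated hL hgg P
    have hm : P ∈ CohB1.genLocus L (InvAmple.globalHom L (sec s ⊤)) := by
      rw [SubIdeal.globalHom_sec]
      exact hs
    have h1 := h0_ideal_tensor_add_one k hL P hP (sec s ⊤) hm
    rw [← h1, (FBC.HmapEquivK k (braid L (ClSub.idealMod
      (Scheme.IdealSheafData.vanishingIdeal ⟨{P}, hP⟩))) 0).finrank_eq]
  · intro h
    apply isGloballyGenerated_of_forall_mem_genLocus hL
    intro y
    obtain ⟨x, hx, hxc⟩ := (isClosed_closure (s := ({y} : Set X))).exists_closed_singleton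
      ⟨y, subset_closure rfl⟩
    have h1 := h x hxc
    rw [(FBC.HmapEquivK k (braid L (ClSub.idealMod
      (Scheme.IdealSheafData.vanishingIdeal ⟨{x}, hxc⟩))) 0).finrank_eq] at h1
    obtain ⟨m, hm⟩ := exists_mem_genLocus_of_h0_lt k hL x hxc (by omega)
    refine ⟨m, ?_⟩
    have hspec : y ⤳ x := specializes_iff_mem_closure.mpr hx
    exact hspec.mem_open (CohB1.genLocus L _).isOpen hm

end Groth.Agent.S11330
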