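import Groth.Statements.S11343
-- import your own Groth.Agent.* helpers here
import Groth.Agent.Lib.Helper23.AmpleNef

set_option autoImplicit false
universe u
open CategoryTheory CategoryTheory.Limits AlgebraicGeometry
open Surf

namespace Groth.Agent.S11343

/-- Let X be a surface over an algebraically closed field k (an integral scheme of dimension two with
all local rings regular, admitting a closed immersion into some P^n_k over k), and H an ample
invertible O_X-module. Some integer n₀ has the property that H^2(X, L) = 0 for every invertible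
module L with (L·H) > n₀; here (L·H) = χ(O_X) - χ(L) - χ(H) + χ(L ⊗ H) is the intersection number
(packaged as FGA.intNum). -/
theorem result (k : Type u) [Field k] [IsAlgClosed k] (X : Scheme.{u}) [X.Over (Spec (CommRingCat.of k))]
    [IsIntegral X] (hdim : topologicalKrullDim X = 2) (hreg : ∀ x : X, IsRegularLocalRing (X.presheaf.stalk x))
    (hproj : ∃ (n : ℕ) (ι : X ⟶ CohB1.ProjSpace n k), IsClosedImmersion ι ∧ ι ≫ CohB1.ProjSpace.toSpec n k = (X ↘ (Spec (CommRingCat.of k))))
    (H : X.Modules) (hH : CohB1.IsAmple H) :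
    ∃ n₀ : ℤ, ∀ L : X.Modules, PicF.IsInvertible L → n₀ < FGA.intNum k X 2 ![L, H] (Coh.structureModule X) → Subsingleton (Coh.HH X L 2) := by
  obtain ⟨N, ι, hιc, hι⟩ := hproj
  haveI := hιc
  haveI : IsProper (X ↘ Spec (CommRingCat.of k)) := by
    rw [← hι]
    infer_instance
  have hdim' : topologicalKrullDim X = ((2 : ℕ) : WithBot ℕ∞) := by
    rw [hdim]; rfl
  have hd2 : topologicalKrullDim X ≤ ((2 : ℕ) : WithBot ℕ∞) := le_of_eq hdim'
  obtain ⟨ω, hωcoh, hωinv, t, hd⟩ :=
    Groth.Agent.Lib.Helper23.RegDual.exists_invertible_dualizing k N 2 hdim' ι hι hreg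
  have hCM : ∀ x : X, LocCoh.IsCohenMacaulayLocalRing (X.presheaf.stalk x) := by
    intro x
    haveI := hreg x
    exact Groth.Agent.Lib.Helper4.RegCM.isCohenMacaulayLocalRing _
  refine ⟨Groth.Agent.Lib.Helper7.SurfIP.ip k X ω H, fun L hL hlt => ?_⟩
  by_contra hns
  rw [not_subsingleton_iff_nontrivial] at hns
  have hcohL : Coh.IsCoh L := Groth.Agent.Lib.Helper23.Curve.isCoh_of_isInvertible hL
  haveI := Groth.Agent.Lib.Helper23.T2.finite_HH k L hcohL 2
  have hpos : 0 < Module.finrank k (Coh.HH X L 2) := Module.finrank_pos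
  obtain ⟨Linv, hLinv, ⟨e0⟩⟩ := Groth.Agent.Lib.Helper23.Inverse.exists_isInverseOf hL
  have hfd := Groth.Agent.Lib.Helper23.SurfRR.finrank_duality k X hdim N ι hι hCM ω hωcoh t hd
    L Linv hL e0 2 le_rfl
  rw [← hfd] at hpos
  have hnt : Nontrivial (Coh.HH X (CohB1.tensorMod ω Linv) 0) :=
    Module.nontrivial_of_finrank_pos (R := k) hpos
  obtain ⟨s, hs⟩ := Groth.Agent.Lib.Helper7.SecDeg.exists_section_ne_zero X _ hnt
  have hE : PicF.IsInvertible (CohB1.tensorMod ω Linv) :=
    Groth.Agent.Lib.Helper3.InvTensor.isInvertible_tensorMod hωinv hLinv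
  have h0 := Groth.Agent.Lib.Helper23.AmpleNef.ip_nonneg_of_section_ample k X hdim _ hE s hs H hH
  rw [Groth.Agent.Lib.Helper7.SurfIP.ip_add_left k X hd2 hωinv hLinv hH.1,
    Groth.Agent.Lib.Helper7.SurfIP.ip_neg_left k X hd2 hL e0 hH.1] at h0
  have hlt' : Groth.Agent.Lib.Helper7.SurfIP.ip k X ω H < Groth.Agent.Lib.Helper7.SurfIP.ip k X L H := hlt
  linarith

end Groth.Agent.S11343
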