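import Groth.Statements.S11347
import Groth.Agent.Lib.Helper7.RankTwo

set_option autoImplicit false
universe u
open CategoryTheory CategoryTheory.Limits AlgebraicGeometry
open Curves

namespace Groth.Agent.S11347

open Scheme.Modules
open Groth.Agent.Lib.Helper3 Groth.Agent.Lib.Helper3.InvGen Groth.Agent.Lib.Helper3.InvTensor
  Groth.Agent.Lib.Helper3.InvMonoidal
open Groth.Agent.Lib.Helper23.T2 Groth.Agent.Lib.Helper23.Curve Groth.Agent.Lib.Helper23.Twist
  Groth.Agent.Lib.Helper23 Groth.Agent.Lib.Helper23.Inverse Groth.Agent.Lib.Helper7.PtDiv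
  Groth.Agent.Lib.Helper7.RankTwo Groth.Agent.Lib.Helper7.CurvePair

/-- Let C be a genus-g curve over an algebraically closed field k (integral, proper over k, of dimension
one, all local rings regular), and E a locally free O_C-module of rank 2 which is normalized —
H^0(C, E) ≠ 0 while H^0(C, E ⊗ M) = 0 for every invertible M with deg M < 0 — and indecomposable —
not isomorphic to a direct sum of two invertible modules. Then the invariant e = -deg E of the ruled
surface P(E) satisfies -2g ≤ e ≤ 2g - 2; here deg E = χ(E) - 2 χ(O_C). -/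
theorem result (k : Type u) [Field k] [IsAlgClosed k] (C : Scheme.{u}) [C.Over (Spec (CommRingCat.of k))]
    [IsIntegral C] [IsProper (C ↘ (Spec (CommRingCat.of k)))] (hdimC : topologicalKrullDim C = 1)
    (hregC : ∀ x : C, IsRegularLocalRing (C.presheaf.stalk x))
    (E : C.Modules) (hE : FlatMod.IsFinLocFreeOfRank 2 E)
    (hn0 : Nontrivial (Coh.HH C E 0))
    (hneg : ∀ M : C.Modules, PicF.IsInvertible M → Curv2.deg k C M 1 < 0 → Subsingleton (Coh.HH C (CohB1.tensorMod E M) 0))
    (hind : ∀ L₁ L₂ : C.Modules, PicF.IsInvertible L₁ → PicF.IsInvertible L₂ → IsEmpty (E ≅ L₁ ⊞ L₂)) :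
    2 - 2 * (Curv2.genus k C : ℤ) ≤ Curv2.deg k C E 2 ∧ Curv2.deg k C E 2 ≤ 2 * (Curv2.genus k C : ℤ) := by
  haveI := isNoetherian_of_isProper k C
  have h0 := GeomH0.finrank_H0_eq_one_of_isAlgClosed k C
  constructor
  · obtain ⟨x, hx⟩ := exists_ne (0 : Coh.HH C E 0)
    have hm0 : H0equiv E x ≠ 0 :=
      fun h => hx ((H0equiv E).injective (h.trans (map_zero _).symm))
    have hs := globalHom_ne_zero E (H0equiv E x) hm0
    obtain ⟨G', C', i', p, w, u, hS, hui, huiso, hG'inv, hC'inv, hdG', hdE⟩ :=
      exists_normalized_seq k hdimC hregC hE hneg _ hs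
    obtain ⟨N', hN', hCN⟩ := exists_isInverseOf hC'inv
    have hdN := DegTensor.deg_of_isInverseOf k hdimC.le hC'inv hN' hCN
    obtain ⟨e'⟩ := hCN
    by_contra hlt
    push Not at hlt
    have hGN := isInvertible_tensorMod hG'inv hN'
    have hdGN := DegTensor.deg_tw k hdimC.le (isFinLocFreeOfRank_one_of_isInvertible hG'inv) hN'
    have h1 : Subsingleton (Coh.HH C (CohB1.tensorMod G' N') 1) := by
      apply h1_vanish_of_deg_ge' k hdimC.le h0 hGN
      rw [hdGN, hdG', hdN]
      push_cast
      linarith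
    obtain ⟨iso⟩ := exists_iso_biprod_of_h1 i' p w hS hN' e' h1
    exact (hind _ _ (isInvertible_tensorMod (isInvertible_tensorMod hG'inv hN') hC'inv)
      (isInvertible_tensorMod (isInvertible_tensorMod hC'inv hN') hC'inv)).false iso
  · obtain ⟨M, hM, hdM⟩ := exists_invertible_deg_neg_one k hdimC hregC
    have hsub := hneg M hM (by rw [hdM]; norm_num)
    have hEM := isFinLocFreeOfRank_tensor hM hE
    have hcoh := isCoh_of_isFinLocFreeOfRank hEM
    have hχ := euler_eq_h0_sub_h1 k hdimC.le _ hcoh
    have e0 : Module.finrank k (Coh.HH C (CohB1.tensorMod E M) 0) = 0 :=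
      Module.finrank_zero_of_subsingleton
    have hd := DegTensor.deg_tw k hdimC.le hE hM
    have hO := euler_structureModule k hdimC.le h0
    have hχ2 : Curv2.euler k C (CohB1.tensorMod E M) =
        Curv2.deg k C (CohB1.tensorMod E M) 2 + 2 * Curv2.euler k C (Coh.structureModule C) := by
      unfold Curv2.deg
      push_cast
      ring
    rw [hd, hdM, hO] at hχ2
    rw [hχ2, e0] at hχ
    push_cast at hχ
    have hnn : (0 : ℤ) ≤ (Module.finrank k (Coh.HH C (CohB1.tensorMod E M) 1) : ℤ) :=
      Int.natCast_nonneg _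
    linarith

end Groth.Agent.S11347
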