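import Groth.Statements.S11348
import Groth.Agent.Lib.Helper7.RankTwoC
import Groth.Agent.S11347

set_option autoImplicit false
universe u
open CategoryTheory CategoryTheory.Limits AlgebraicGeometry
open Curves

namespace Groth.Agent.S11348

open Scheme.Modules
open Groth.Agent.Lib.Helper23.T2 Groth.Agent.Lib.Helper23.Curve Groth.Agent.Lib.Helper23
  Groth.Agent.Lib.Helper7.RankTwo Groth.Agent.Lib.Helper7.CurvePair

/-- Let C be an elliptic curve over an algebraically closed field k — integral, proper over k, of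
dimension one, all local rings regular, of genus dim_k H^1(C, O_C) = 1 — and E a locally free
O_C-module of rank 2 which is normalized (H^0(C, E) ≠ 0 while H^0(C, E ⊗ M) = 0 for every invertible
M of negative degree) and indecomposable (not isomorphic to a direct sum of two invertible modules).
Then the invariant e = -deg E is 0 or -1, i.e. deg E ∈ {0, 1}, with deg E = χ(E) - 2 χ(O_C). -/
theorem result (k : Type u) [Field k] [IsAlgClosed k] (C : Scheme.{u}) [C.Over (Spec (CommRingCat.of k))]
    [IsIntegral C] [IsProper (C ↘ (Spec (CommRingCat.of k)))] (hdimC : topologicalKrullDim C = 1)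
    (hregC : ∀ x : C, IsRegularLocalRing (C.presheaf.stalk x)) (hg : Curv2.genus k C = 1)
    (E : C.Modules) (hE : FlatMod.IsFinLocFreeOfRank 2 E)
    (hn0 : Nontrivial (Coh.HH C E 0))
    (hneg : ∀ M : C.Modules, PicF.IsInvertible M → Curv2.deg k C M 1 < 0 → Subsingleton (Coh.HH C (CohB1.tensorMod E M) 0))
    (hind : ∀ L₁ L₂ : C.Modules, PicF.IsInvertible L₁ → PicF.IsInvertible L₂ → IsEmpty (E ≅ L₁ ⊞ L₂)) :
    Curv2.deg k C E 2 = 0 ∨ Curv2.deg k C E 2 = 1 := by
  haveI := isNoetherian_of_isProper k C
  have h0 := GeomH0.finrank_H0_eq_one_of_isAlgClosed k C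
  obtain ⟨hlo, hhi⟩ := Groth.Agent.S11347.result k C hdimC hregC E hE hn0 hneg hind
  rw [hg] at hlo hhi
  push_cast at hlo hhi
  by_contra hcon
  push Not at hcon
  have hd2 : Curv2.deg k C E 2 = 2 := by omega
  have hcoh := isCoh_of_isFinLocFreeOfRank hE
  have hχ := euler_eq_h0_sub_h1 k hdimC.le _ hcoh
  have hO := euler_structureModule k hdimC.le h0
  have hχ2 : Curv2.euler k C E =
      Curv2.deg k C E 2 + 2 * Curv2.euler k C (Coh.structureModule C) := by
    unfold Curv2.deg
    push_cast
    ring
  rw [hd2, hO, hg] at hχ2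
  rw [hχ2] at hχ
  push_cast at hχ
  have hnn : (0 : ℤ) ≤ (Module.finrank k (Coh.HH C E 1) : ℤ) := Int.natCast_nonneg _
  have h2 : 2 ≤ Module.finrank k (Coh.HH C E 0) := by
    have : (2 : ℤ) ≤ (Module.finrank k (Coh.HH C E 0) : ℤ) := by linarith
    exact_mod_cast this
  have h3 := deg_eq_zero_of_two_le_h0 k hdimC hregC hE hneg h2
  omega

end Groth.Agent.S11348
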