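import Groth.Statements.S14518
import Groth.Agent.S0002
import Groth.Agent.S14510
import Groth.Agent.Lib.Helper16.TensorH0

set_option autoImplicit false
universe u
open CategoryTheory CategoryTheory.Limits AlgebraicGeometry
open Variety

namespace Groth.Agent.S14518

/-- Let k be an algebraically closed field, X an irreducible variety over k, taken here complete (X
integral and proper over k, so that spaces of global sections are finite-dimensional), and E_1, E_2
vector bundles (finite locally free O_X-modules) on X with H^0(X, E_1) ≠ 0 and H^0(X, E_2) ≠ 0. Then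
dim_k H^0(X, E_1 ⊗ E_2) ≥ dim_k H^0(X, E_1) + dim_k H^0(X, E_2) − 1. (The published statement allows
any irreducible variety; for non-complete X the spaces of sections may be infinite-dimensional and
the inequality carries no content, so X is taken complete here.) -/
theorem result (k : Type u) [Field k] [IsAlgClosed k]
    (X : Scheme.{u}) [X.Over (Spec (CommRingCat.of k))] [IsIntegral X] [IsProper (X ↘ (Spec (CommRingCat.of k)))]
    (E₁ E₂ : X.Modules) (h₁ : FlatMod.IsFinLocFree E₁) (h₂ : FlatMod.IsFinLocFree E₂)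
    [Nontrivial (Coh.HH X E₁ 0)] [Nontrivial (Coh.HH X E₂ 0)] :
    Module.finrank k (Coh.HH X E₁ 0) + Module.finrank k (Coh.HH X E₂ 0) ≤
      Module.finrank k (Coh.HH X (CohB1.tensorMod E₁ E₂) 0) + 1 := by
  haveI q1 := Groth.Agent.Lib.Helper3.LocFreeCrit.isQuasicoherent_of_isFinLocFree h₁
  haveI q2 := Groth.Agent.Lib.Helper3.LocFreeCrit.isQuasicoherent_of_isFinLocFree h₂
  have c1 : Coh.IsCoh E₁ := Groth.Agent.Lib.Helper13.StalkPd.coh_of_lf h₁
  have c2 : Coh.IsCoh E₂ := Groth.Agent.Lib.Helper13.StalkPd.coh_of_lf h₂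
  haveI t1 := c1.2
  haveI t2 := c2.2
  have c3 : Coh.IsCoh (CohB1.tensorMod E₁ E₂) :=
    ⟨Groth.Agent.Lib.Helper17.TensorSec.isQuasicoherent_tensorMod E₁ E₂,
      Groth.Agent.Lib.Helper17.TensorSec.isFiniteType_tensorMod E₁ E₂⟩
  haveI f1 := Groth.Agent.S0002.result k X E₁ c1 0
  haveI f2 := Groth.Agent.S0002.result k X E₂ c2 0
  haveI f3 := Groth.Agent.S0002.result k X _ c3 0
  exact Groth.Agent.S14510.result k (Coh.HH X E₁ 0) (Coh.HH X E₂ 0)
    (Coh.HH X (CohB1.tensorMod E₁ E₂) 0) (H16TensorH0.bil k E₁ E₂)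
    (fun a b ha hb => H16TensorH0.bil_ne_zero k E₁ E₂ h₁ h₂ a b ha hb)

end Groth.Agent.S14518
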