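import Groth.Statements.S11353
import Groth.Agent.Lib.Helper7.RankTwo
import Groth.Agent.Lib.Helper7.PnExtA

set_option autoImplicit false
universe u
open CategoryTheory CategoryTheory.Limits AlgebraicGeometry
open Curves

namespace Groth.Agent.S11353

open Scheme.Modules
open Groth.Agent.Lib.Helper3 Groth.Agent.Lib.Helper3.InvGen Groth.Agent.Lib.Helper3.InvTensor
  Groth.Agent.Lib.Helper3.InvMonoidal
open Groth.Agent.Lib.Helper23.T2 Groth.Agent.Lib.Helper23.Curve Groth.Agent.Lib.Helper23.Twist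
  Groth.Agent.Lib.Helper23 Groth.Agent.Lib.Helper23.Inverse Groth.Agent.Lib.Helper7.PtDiv
  Groth.Agent.Lib.Helper7.RankTwo Groth.Agent.Lib.Helper7.CurvePair

/-- Let C be a curve over an algebraically closed field k (integral, proper over k, of dimension one,
all local rings regular) and E a decomposable locally free sheaf of rank 2 — E ≅ L₁ ⊕ L₂ with L₁, L₂
invertible — which is normalized: H^0(C, E) ≠ 0 while H^0(C, E ⊗ M) = 0 for every invertible M of
negative degree. Then E ≅ O_C ⊕ L for an invertible L with deg L ≤ 0; in particular e = -deg E ≥ 0. -/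
theorem result (k : Type u) [Field k] [IsAlgClosed k] (C : Scheme.{u}) [C.Over (Spec (CommRingCat.of k))]
    [IsIntegral C] [IsProper (C ↘ (Spec (CommRingCat.of k)))] (hdimC : topologicalKrullDim C = 1)
    (hregC : ∀ x : C, IsRegularLocalRing (C.presheaf.stalk x))
    (E L₁ L₂ : C.Modules) (hL₁ : PicF.IsInvertible L₁) (hL₂ : PicF.IsInvertible L₂) (hE : Nonempty (E ≅ L₁ ⊞ L₂))
    (hn0 : Nontrivial (Coh.HH C E 0))
    (hneg : ∀ M : C.Modules, PicF.IsInvertible M → Curv2.deg k C M 1 < 0 → Subsingleton (Coh.HH C (CohB1.tensorMod E M) 0)) :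
    ∃ L : C.Modules, PicF.IsInvertible L ∧ Curv2.deg k C L 1 ≤ 0 ∧ Nonempty (E ≅ Coh.structureModule C ⊞ L) := by
  haveI := isNoetherian_of_isProper k C
  obtain ⟨ε⟩ := hE
  have hOinv := isInvertible_structureModule C
  have hdO := DegTensor.deg_structureModule_one k (X := C)
  haveI : Mono ((biprod.inl : L₁ ⟶ L₁ ⊞ L₂) ≫ ε.inv) := mono_comp _ _
  haveI : Mono ((biprod.inr : L₂ ⟶ L₁ ⊞ L₂) ≫ ε.inv) := mono_comp _ _
  have hd₁ := deg_le_zero_of_mono k hdimC.le hneg hL₁ ((biprod.inl : L₁ ⟶ L₁ ⊞ L₂) ≫ ε.inv)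
  have hd₂ := deg_le_zero_of_mono k hdimC.le hneg hL₂ ((biprod.inr : L₂ ⟶ L₁ ⊞ L₂) ≫ ε.inv)
  -- a section of an invertible module of degree `≤ 0` trivialises it
  have key : ∀ (L : C.Modules), PicF.IsInvertible L → Curv2.deg k C L 1 ≤ 0 →
      Nontrivial (Coh.HH C L 0) → Nonempty (L ≅ Coh.structureModule C) := by
    intro L hL hd hnt
    obtain ⟨x, hx⟩ := exists_ne (0 : Coh.HH C L 0)
    have hm0 : H0equiv L x ≠ 0 :=
      fun h => hx ((H0equiv L).injective (h.trans (map_zero _).symm))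
    have hs := globalHom_ne_zero L (H0equiv L x) hm0
    obtain ⟨hle, hiso⟩ := deg_le_of_map k hdimC.le hOinv hL _ hs
    rw [hdO] at hle hiso
    haveI := hiso (le_antisymm hle hd)
    exact ⟨(asIso (InvAmple.globalHom L (H0equiv L x))).symm⟩
  by_cases h1 : Nontrivial (Coh.HH C L₁ 0)
  · obtain ⟨φ⟩ := key L₁ hL₁ hd₁ h1
    exact ⟨L₂, hL₂, hd₂, ⟨ε ≪≫ biprod.mapIso φ (Iso.refl L₂)⟩⟩
  · by_cases h2 : Nontrivial (Coh.HH C L₂ 0)
    · obtain ⟨φ⟩ := key L₂ hL₂ hd₂ h2
      exact ⟨L₁, hL₁, hd₁, ⟨ε ≪≫ biprod.braiding L₁ L₂ ≪≫ biprod.mapIso φ (Iso.refl L₁)⟩⟩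
    · exfalso
      rw [not_nontrivial_iff_subsingleton] at h1 h2
      have h3 := Groth.Agent.Lib.Helper7.PnExt.sub_HH_biprod L₁ L₂ 0 h1 h2
      haveI : Subsingleton (Coh.HH C E 0) :=
        (FBC.HmapEquivK k ε 0).toEquiv.subsingleton
      exact not_subsingleton _ ‹Subsingleton (Coh.HH C E 0)›

end Groth.Agent.S11353
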