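import Groth.Statements.S11355
import Groth.Agent.Lib.Helper7.Pencil

set_option autoImplicit false
universe u
open CategoryTheory CategoryTheory.Limits AlgebraicGeometry
open Curves

namespace Groth.Agent.S11355

open Scheme.Modules
open Groth.Agent.Lib.Helper3 Groth.Agent.Lib.Helper3.QCSec Groth.Agent.Lib.Helper3.InvGen
  Groth.Agent.Lib.Helper3.InvTensor
open Groth.Agent.Lib.Helper23.T2 Groth.Agent.Lib.Helper23.Curve
  Groth.Agent.Lib.Helper23 Groth.Agent.Lib.Helper7.PtDiv Groth.Agent.Lib.Helper7.Pencil

set_option backward.isDefEq.respectTransparency false in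

/-- Let k be an algebraically closed field and X a curve over k (an integral scheme, proper over k, of
dimension one, with all local rings regular), of genus g ≥ 2. If X is hyperelliptic its g^1_2 is
unique: for any two linear series (M, s), (M', s') of degree 2 and dimension 1 on X (invertible
modules of degree 2, each with two k-linearly independent global sections), M ≅ M' (existence of an
isomorphism; for g ≥ 2 such a module has exactly a 2-dimensional space of sections, so the linear
series coincide). -/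
theorem result (k : Type u) [Field k] [IsAlgClosed k] (X : Scheme.{u}) [X.Over (Spec (CommRingCat.of k))]
    [IsIntegral X] [IsProper (X ↘ (Spec (CommRingCat.of k)))] (hdim : topologicalKrullDim X = 1)
    (hreg : ∀ x : X, IsRegularLocalRing (X.presheaf.stalk x)) (hg : 2 ≤ Curv2.genus k X)
    (M : X.Modules) (s : Fin 2 → LinSer.Sect X M) (hM : LinSer.IsLinSer k X M 2 1 s)
    (M' : X.Modules) (s' : Fin 2 → LinSer.Sect X M') (hM' : LinSer.IsLinSer k X M' 2 1 s') :
    Nonempty (M ≅ M') := by
  haveI := isNoetherian_of_isProper k X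
  have h0 := GeomH0.finrank_H0_eq_one_of_isAlgClosed k X
  obtain ⟨hMi, hdM, hindM⟩ := hM
  obtain ⟨hMi', hdM', hindM'⟩ := hM'
  by_contra hne
  have hp : ∀ (N : X.Modules) (t : Fin 2 → LinSer.Sect X N), LinSer.LinIndep k X N t →
      ∀ c₀ c₁ : k, Coh.toGlobal (X ↘ Spec (CommRingCat.of k)) c₀ • t 0 +
        Coh.toGlobal (X ↘ Spec (CommRingCat.of k)) c₁ • t 1 = 0 → c₀ = 0 ∧ c₁ = 0 := by
    intro N t ht c₀ c₁ hc
    have h1 := ht ![c₀, c₁] (by rw [Fin.sum_univ_two]; exact hc)
    exact ⟨by simpa using congrFun h1 0, by simpa using congrFun h1 1⟩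
  haveI : Module.Finite k (Coh.HH X M' 0) := finite_HH k _ (isCoh_of_isInvertible hMi') 0
  have h2' : 2 ≤ Module.finrank k (Coh.HH X M' 0) :=
    two_le_finrank_of_sections k M' (s' 0) (s' 1) (hp M' s' hindM')
  have hg1 : 1 ≤ Curv2.genus k X := by omega
  have hgen : ∀ x : X, x ∈ CohB1.genLocus M (InvAmple.globalHom M (s 0)) ∨
      x ∈ CohB1.genLocus M (InvAmple.globalHom M (s 1)) := by
    intro y
    obtain ⟨x, hx, hxc⟩ := (isClosed_closure (s := ({y} : Set X))).exists_closed_singleton
      ⟨y, subset_closure rfl⟩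
    have hspec : y ⤳ x := specializes_iff_mem_closure.mpr hx
    rcases mem_genLocus_of_pencil k hdim hreg hg1 hMi (by rw [hdM]; norm_num) (s 0) (s 1)
      (hp M s hindM) x hxc with h | h
    · exact Or.inl (hspec.mem_open (CohB1.genLocus M _).isOpen h)
    · exact Or.inr (hspec.mem_open (CohB1.genLocus M _).isOpen h)
  have hdeg : Curv2.deg k X M 1 = Curv2.deg k X M' 1 := by rw [hdM, hdM']
  have h4 := two_mul_h0_le k hdim.le hMi hMi' hdeg (s 0) (s 1) hgen hne
  have hLi := isInvertible_tensorMod hMi hMi'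
  have hdL := DegTensor.deg_tw k hdim.le (isFinLocFreeOfRank_one_of_isInvertible hMi) hMi'
  have hrr := riemann_roch k hdim.le h0 hLi
  haveI : Module.Finite k (Coh.HH X (CohB1.tensorMod M M') 0) :=
    finite_HH k _ (isCoh_of_isInvertible hLi) 0
  haveI : Module.Finite k (Coh.HH X (CohB1.tensorMod M M') 1) :=
    finite_HH k _ (isCoh_of_isInvertible hLi) 1
  rw [hdL, hdM, hdM'] at hrr
  push_cast at hrr
  have h4' : (4 : ℤ) ≤ (Module.finrank k (Coh.HH X (CohB1.tensorMod M M') 0) : ℤ) := by
    have : 4 ≤ Module.finrank k (Coh.HH X (CohB1.tensorMod M M') 0) := by omega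
    exact_mod_cast this
  have hgz : (2 : ℤ) ≤ (Curv2.genus k X : ℤ) := by exact_mod_cast hg
  by_cases h1 : Subsingleton (Coh.HH X (CohB1.tensorMod M M') 1)
  · have e1 : Module.finrank k (Coh.HH X (CohB1.tensorMod M M') 1) = 0 :=
      Module.finrank_zero_of_subsingleton
    rw [e1] at hrr
    push_cast at hrr
    linarith
  · rw [not_subsingleton_iff_nontrivial] at h1
    have hnt0 : Nontrivial (Coh.HH X (CohB1.tensorMod M M') 0) :=
      Module.nontrivial_of_finrank_pos (R := k) (by omega)
    have hcl := h0_add_h1_le k hdim.le hLi hnt0 h1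
    have hcl' : (Module.finrank k (Coh.HH X (CohB1.tensorMod M M') 0) : ℤ) +
        (Module.finrank k (Coh.HH X (CohB1.tensorMod M M') 1) : ℤ) ≤
        (Curv2.genus k X : ℤ) + 1 := by exact_mod_cast hcl
    linarith

end Groth.Agent.S11355
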