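import Groth.Statements.S11361
import Mathlib
import Groth.Agent.Lib.Helper18.CmfC
import Groth.Agent.Lib.Helper18.ExtBrA
import Groth.Agent.Lib.Helper18.ShrB
import Groth.Agent.Lib.Helper18.GfA
import Mathlib

set_option autoImplicit false
universe u
open CategoryTheory
open scoped TensorProduct
open Dual
attribute [local instance] HasDerivedCategory.standard
open Groth.Agent.Lib.Helper18.DR Groth.Agent.Lib.Helper18.DR.HomLoc Groth.Agent.Lib.Helper18.DR.HomBC
open CategoryTheory.Limits DerivedCategory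

namespace Groth.Agent.S11361

/-- Let A be a Noetherian ring, n ≤ N, P = A[t_1, …, t_N], I an ideal of P with B = P/I flat over A.
Then all fibre rings B ⊗_A κ(p) are Cohen–Macaulay with every irreducible component of dimension n
(every minimal prime of the fibre ring has coheight n in its spectrum) if and only if Ext^j_P(B, P)
vanishes for j ≠ N − n and Ext^{N−n}_P(B, P) is A-flat. (The published statement is for a flat
morphism of locally Noetherian schemes factoring through a closed immersion into a separated smooth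
scheme, with f^! of the structure sheaf in place of the Ext modules; this row is the affine case of
a closed subscheme of affine N-space, where the two agree up to a shift and a twist by the trivial
canonical module.) -/
theorem result (A : Type u) [CommRing A] [IsNoetherianRing A] (N n : ℕ) (hnN : n ≤ N) (I : Ideal (MvPolynomial (Fin N) A)) [Module.Flat A (MvPolynomial (Fin N) A ⧸ I)] : (∀ p : PrimeSpectrum A, LocCoh.IsCohenMacaulayRing ((MvPolynomial (Fin N) A ⧸ I) ⊗[A] p.asIdeal.ResidueField) ∧ ∀ Q : PrimeSpectrum ((MvPolynomial (Fin N) A ⧸ I) ⊗[A] p.asIdeal.ResidueField), Q.asIdeal ∈ minimalPrimes ((MvPolynomial (Fin N) A ⧸ I) ⊗[A] p.asIdeal.ResidueField) → Order.coheight Q = (n : ℕ∞)) ↔ ((∀ j : ℕ, j ≠ N - n → Subsingleton (Abelian.Ext (ModuleCat.of (MvPolynomial (Fin N) A) (MvPolynomial (Fin N) A ⧸ I)) (ModuleCat.of (MvPolynomial (Fin N) A) (MvPolynomial (Fin N) A)) j)) ∧ Module.Flat A (RestrictScalars A (MvPolynomial (Fin N) A) (Abelian.Ext (ModuleCat.of (MvPolynomial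 (Fin N) A) (MvPolynomial (Fin N) A ⧸ I)) (ModuleCat.of (MvPolynomial (Fin N) A) (MvPolynomial (Fin N) A)) (N - n)))) := by
  classical
  let ψ : MvPolynomial (Fin N) A →ₐ[A] (MvPolynomial (Fin N) A ⧸ I) := Ideal.Quotient.mkₐ A I
  have hψ : Function.Surjective ψ := Ideal.Quotient.mkₐ_surjective A I
  haveI : DRing.HasLBaseChange (algebraMap A (MvPolynomial (Fin N) A)) := Om.hasLBaseChange _
  let Rψ : Dual.D (MvPolynomial (Fin N) A) ⥤ Dual.D (MvPolynomial (Fin N) A ⧸ I) :=
    Shr.coextD ψ.toRingHom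
  let adj : DRing.restrictD ψ.toRingHom ⊣ Rψ := Shr.coextAdj ψ.toRingHom
  let adj' : DRing.restrictD (algebraMap (MvPolynomial (Fin N) A) (MvPolynomial (Fin N) A ⧸ I)) ⊣
    Rψ := adj
  let M : ModuleCat.{u} (MvPolynomial (Fin N) A) :=
    ModuleCat.of (MvPolynomial (Fin N) A) (MvPolynomial (Fin N) A ⧸ I)
  let eM : M ≅ (ModuleCat.restrictScalars.{u}
      (algebraMap (MvPolynomial (Fin N) A) (MvPolynomial (Fin N) A ⧸ I))).obj
        (ModuleCat.of (MvPolynomial (Fin N) A ⧸ I) (MvPolynomial (Fin N) A ⧸ I)) :=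
    (LinearEquiv.toModuleIso
      ((ShOm.eBA (A := MvPolynomial (Fin N) A) (B := MvPolynomial (Fin N) A ⧸ I)).trans
      ({ toFun := id
         invFun := id
         map_add' := fun _ _ => rfl
         map_smul' := fun p x => by
           rfl
         left_inv := fun _ => rfl
         right_inv := fun _ => rfl } : @LinearEquiv _ _ _ _ (RingHom.id (MvPolynomial (Fin N) A))
          (RingHom.id _) _ _ (MvPolynomial (Fin N) A ⧸ I) (MvPolynomial (Fin N) A ⧸ I) _ _
          Algebra.toModule (Submodule.Quotient.module I)))).symm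
  set Y : Dual.D (MvPolynomial (Fin N) A ⧸ I) := Rψ.obj
    ((DRing.LBaseChange (algebraMap A (MvPolynomial (Fin N) A))).obj (Dual.inD A A)) with hY
  -- the transport to `Rψ(P)`
  let σ : ∀ k : ℤ, ((H (MvPolynomial (Fin N) A ⧸ I) k).obj Y ≅
      (H (MvPolynomial (Fin N) A ⧸ I) k).obj
        (Rψ.obj (Dual.inD (MvPolynomial (Fin N) A) (MvPolynomial (Fin N) A)))) := fun k =>
    (H (MvPolynomial (Fin N) A ⧸ I) k).mapIso
      (Rψ.mapIso (Gf.lbcUnitIso (algebraMap A (MvPolynomial (Fin N) A))))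
  -- the bridge
  let γ : ∀ j : ℕ, Abelian.Ext (ModuleCat.of (MvPolynomial (Fin N) A) (MvPolynomial (Fin N) A ⧸ I))
      (ModuleCat.of (MvPolynomial (Fin N) A) (MvPolynomial (Fin N) A)) j →
      (H (MvPolynomial (Fin N) A ⧸ I) (j : ℤ)).obj Y := fun j e =>
    (σ (j : ℤ)).inv (ExtBr.bridge Rψ adj' M eM (MvPolynomial (Fin N) A) j e)
  have hγ : ∀ j : ℕ, Function.Bijective (γ j) := fun j =>
    (ConcreteCategory.bijective_of_isIso (σ (j : ℤ)).inv).comp
      (ExtBr.bridge_bijective Rψ adj' M eM (MvPolynomial (Fin N) A) j)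
  have hγadd : ∀ (j : ℕ) (x y), γ j (x + y) = γ j x + γ j y := fun j x y => by
    simp only [γ]
    rw [ExtBr.bridge_add, map_add]
  have hγsmul : ∀ (j : ℕ) (p : MvPolynomial (Fin N) A) (x), γ j (p • x) =
      algebraMap (MvPolynomial (Fin N) A) (MvPolynomial (Fin N) A ⧸ I) p • γ j x :=
    fun j p x => by
      simp only [γ]
      rw [ExtBr.bridge_smul, map_smul]
  -- the dictionary
  have hsub : ∀ j : ℕ, Subsingleton (Abelian.Ext
      (ModuleCat.of (MvPolynomial (Fin N) A) (MvPolynomial (Fin N) A ⧸ I))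
      (ModuleCat.of (MvPolynomial (Fin N) A) (MvPolynomial (Fin N) A)) j) ↔
      IsZero ((H (MvPolynomial (Fin N) A ⧸ I) (j : ℤ)).obj Y) := by
    intro j
    constructor
    · intro h
      haveI := h
      haveI : Subsingleton ((H (MvPolynomial (Fin N) A ⧸ I) (j : ℤ)).obj Y) :=
        (hγ j).surjective.subsingleton
      exact ModuleCat.isZero_of_subsingleton _
    · intro h
      haveI := ModuleCat.subsingleton_of_isZero h
      exact (hγ j).injective.subsingleton
  have hneg : ∀ k : ℤ, k < 0 → IsZero ((H (MvPolynomial (Fin N) A ⧸ I) k).obj Y) := by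
    intro k hk
    refine IsZero.of_iso ?_ (σ k)
    haveI := Shr.subsingleton_HD_rightAdjoint_of_isGE ψ.toRingHom Rψ adj
      (Dual.inD (MvPolynomial (Fin N) A) (MvPolynomial (Fin N) A)) 0 k hk
    exact ModuleCat.isZero_of_subsingleton _
  have hNn : (N : ℤ) - (n : ℤ) = ((N - n : ℕ) : ℤ) := by omega
  have hflatiff := Cmf.flat_iff_of_semilinear (A := A) (P := MvPolynomial (Fin N) A)
    (B := MvPolynomial (Fin N) A ⧸ I) _ _ (γ (N - n)) (hγ (N - n)) (hγadd (N - n))
    (hγsmul (N - n))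
  constructor
  · intro h
    have hCM : ∀ p : PrimeSpectrum A, LocCoh.IsCohenMacaulayRing
        (p.asIdeal.ResidueField ⊗[A] (MvPolynomial (Fin N) A ⧸ I)) := fun p => by
      haveI := (h p).1
      exact Groth.Agent.Lib.Helper14.CMFibres.isCohenMacaulayRing_of_ringEquiv
        (R := (MvPolynomial (Fin N) A ⧸ I) ⊗[A] p.asIdeal.ResidueField)
        (S := p.asIdeal.ResidueField ⊗[A] (MvPolynomial (Fin N) A ⧸ I))
        (Algebra.TensorProduct.comm A (MvPolynomial (Fin N) A ⧸ I)
          p.asIdeal.ResidueField).toRingEquiv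
    have hEq : ∀ (p : PrimeSpectrum A)
        (Q : PrimeSpectrum (p.asIdeal.ResidueField ⊗[A] (MvPolynomial (Fin N) A ⧸ I))),
        Q.asIdeal ∈ minimalPrimes (p.asIdeal.ResidueField ⊗[A] (MvPolynomial (Fin N) A ⧸ I)) →
        Order.coheight Q = (n : ℕ∞) := fun p =>
      Cmf.coheight_transfer
        (S₁ := p.asIdeal.ResidueField ⊗[A] (MvPolynomial (Fin N) A ⧸ I))
        (S₂ := (MvPolynomial (Fin N) A ⧸ I) ⊗[A] p.asIdeal.ResidueField)
        (Algebra.TensorProduct.comm A p.asIdeal.ResidueField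
        (MvPolynomial (Fin N) A ⧸ I)).toRingEquiv n (h p).2
    obtain ⟨h1, h2⟩ := Cmf.vanishing_flat_of_cm_fibres A (MvPolynomial (Fin N) A ⧸ I) N ψ hψ Rψ
      adj n hCM hEq
    refine ⟨fun j hj => (hsub j).2 (h1 (j : ℤ) (by omega)), ?_⟩
    rw [hNn] at h2
    exact hflatiff.2 h2
  · rintro ⟨h1, h2⟩ p
    have hvan : ∀ j : ℤ, j ≠ (N : ℤ) - n →
        IsZero ((H (MvPolynomial (Fin N) A ⧸ I) j).obj Y) := by
      intro j hj
      by_cases hk : j < 0
      · exact hneg j hk
      · obtain ⟨j', rfl⟩ := Int.eq_ofNat_of_zero_le (not_lt.1 hk)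
        exact (hsub j').1 (h1 j' (by omega))
    have hflat := hflatiff.1 h2
    rw [← hNn] at hflat
    obtain ⟨h3, h4⟩ := Cmf.cm_fibres_of_vanishing_flat A (MvPolynomial (Fin N) A ⧸ I) N ψ hψ Rψ
      adj n hvan hflat p
    refine ⟨?_, ?_⟩
    · haveI := h3
      exact Groth.Agent.Lib.Helper14.CMFibres.isCohenMacaulayRing_of_ringEquiv
        (R := p.asIdeal.ResidueField ⊗[A] (MvPolynomial (Fin N) A ⧸ I))
        (S := (MvPolynomial (Fin N) A ⧸ I) ⊗[A] p.asIdeal.ResidueField)
        (Algebra.TensorProduct.comm A p.asIdeal.ResidueField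
          (MvPolynomial (Fin N) A ⧸ I)).toRingEquiv
    · exact Cmf.coheight_transfer
        (S₁ := (MvPolynomial (Fin N) A ⧸ I) ⊗[A] p.asIdeal.ResidueField)
        (S₂ := p.asIdeal.ResidueField ⊗[A] (MvPolynomial (Fin N) A ⧸ I))
        (Algebra.TensorProduct.comm A (MvPolynomial (Fin N) A ⧸ I)
        p.asIdeal.ResidueField).toRingEquiv n h4

end Groth.Agent.S11361
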