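import Groth.Statements.S11364
import Mathlib
import Groth.Agent.Lib.Helper18.PwE

set_option autoImplicit false
set_option linter.style.haveILetI false
universe u
open CategoryTheory
attribute [local instance] HasDerivedCategory.standard
open Dual
open Groth.Agent.Lib.Helper18.DR Groth.Agent.Lib.Helper18.DR.Pw Groth.Agent.Lib.Helper18.DR.HomLoc
open CategoryTheory.Limits CategoryTheory.Pretriangulated DerivedCategory

namespace Groth.Agent.S11364

/-- Let A be a Noetherian ring and R an object of D(A) with finite cohomology modules vanishing outside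
a bounded range, such that for every prime p of A the derived base change of R to A_p (total left
derived functor of extension of scalars, assumed to exist) has finite injective dimension over A_p.
Then for every finite A-module M, the groups Hom_{D(A)}(M, R[i]) vanish for all sufficiently large
i. (The published statement is for a locally Noetherian scheme, complexes with coherent locally
bounded cohomology, and local boundedness of the internal RHom; this row is the affine case with the
first argument a single finite module, to which the published proof reduces.) -/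
theorem result (A : Type u) [CommRing A] [IsNoetherianRing A] (R : Dual.D A) (hfin : ∀ i : ℤ, Module.Finite A (Dual.HD A R i)) (hbdd : ∃ a b : ℤ, ∀ i : ℤ, (i < a ∨ b < i) → Subsingleton (Dual.HD A R i)) [∀ p : PrimeSpectrum A, DRing.HasLBaseChange (algebraMap A (Localization.AtPrime p.asIdeal))] (hpw : ∀ p : PrimeSpectrum A, DRing.HasFiniteInjDim (Localization.AtPrime p.asIdeal) ((DRing.LBaseChange (algebraMap A (Localization.AtPrime p.asIdeal))).obj R)) (M : Type u) [AddCommGroup M] [Module A M] [Module.Finite A M] : ∃ N : ℤ, ∀ i : ℤ, N < i → Subsingleton (Dual.inD A M ⟶ R⟦i⟧) := by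
  obtain ⟨a, b, hab⟩ := hbdd
  haveI : R.IsGE a := by
    rw [DerivedCategory.isGE_iff]
    intro i hi
    exact isZero_H_of_subsingleton R i (hab i (Or.inl hi))
  haveI : R.IsLE b := by
    rw [DerivedCategory.isLE_iff]
    intro i hi
    exact isZero_H_of_subsingleton R i (hab i (Or.inr hi))
  -- all primes are good
  have hprime : ∀ q : Ideal A, q.IsPrime → Good R (ModuleCat.of A (A ⧸ q)) := by
    intro q
    induction q using WellFoundedGT.induction with
    | ind q ih =>
      intro hq
      haveI := hq
      refine good_prime R a b hfin q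
        (fun q' hq' hle hne => ih q' (lt_of_le_of_ne hle (Ne.symm hne)) hq') ?_
      obtain ⟨a', b', E, hE, hinj, ⟨e⟩⟩ := hpw ⟨q, hq⟩
      haveI : DRing.HasLBaseChange (algebraMap A (Localization.AtPrime q)) :=
        inferInstanceAs (DRing.HasLBaseChange
          (algebraMap A (Localization.AtPrime (⟨q, hq⟩ : PrimeSpectrum A).asIdeal)))
      refine ⟨b', fun i hi φ => ?_⟩
      obtain ⟨F, hF, hFinj⟩ := exists_conv (ModuleCat.of A (A ⧸ q)) R i
      obtain ⟨s, hs, hs0⟩ := exists_smul_homSg_eq_zero q.primeCompl
        (B := Localization.AtPrime q)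
        (isLocOf_LBC q.primeCompl (Localization.AtPrime q) R) a (ModuleCat.of A (A ⧸ q)) i
        (fun x => hom_Sg_eq_zero_of_injAmp _ a' b' E hE hinj e _ i (Or.inr hi) x) (F φ)
      refine ⟨s, hs, hFinj ?_⟩
      rw [hF, hs0]
      have h0 := hF 0 φ
      rw [zero_smul, zero_smul] at h0
      exact h0.symm
  -- general modules
  obtain ⟨N, hN⟩ := tors_of_filtration R ⊥ (fun q hq _ _ => hprime q hq) M (fun y hy => ⟨1, fun m => by
    rw [(Submodule.mem_bot A).1 hy, pow_one, zero_smul]⟩)
  refine ⟨max N b, fun i hi => ?_⟩
  have h1 : Tors (1 : A) (Sg 0 (ModuleCat.of A (A ⧸ (⊥ : Ideal A)))) (R⟦i⟧) := by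
    have e : Sg 0 (ModuleCat.of A A) ≅ Sg 0 (ModuleCat.of A (A ⧸ (⊥ : Ideal A))) :=
      (singleFunctor (ModuleCat.{u} A) 0).mapIso
        (Submodule.quotEquivOfEqBot (⊥ : Submodule A A) rfl).symm.toModuleIso
    refine Tors.of_iso_left e (Tors.of_forall_eq_zero (fun φ => ?_))
    haveI : (R⟦i⟧).IsLE (b - i) := TStructure.t.isLE_shift R b i (b - i) (by omega)
    haveI : (R⟦i⟧).IsLE (0 - 1) := TStructure.t.isLE_of_le _ (b - i) (0 - 1) (by omega)
    haveI : Projective (ModuleCat.of A A) :=
      (IsProjective.iff_projective (R := A) (P := ModuleCat.of A A)).mp inferInstance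
    exact hom_Sg_eq_zero_of_isLE 0 (ModuleCat.of A A) _ φ
  have h2 := tors_one_iff.1 (hN i (by omega) 1 (Or.inl h1))
  exact ⟨fun x y => by rw [h2 x, h2 y]⟩

end Groth.Agent.S11364
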