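import Groth.Statements.S11365
import Mathlib
import Groth.Agent.Lib.Helper18.ExtBrA
import Groth.Agent.Lib.Helper18.ExtBrB
import Groth.Agent.Lib.Helper18.ShrB
import Groth.Agent.Lib.Helper18.GfA
import Mathlib

set_option autoImplicit false
universe u
open CategoryTheory
open scoped TensorProduct
open Dual
attribute [local instance] HasDerivedCategory.standard
open Groth.Agent.Lib.Helper18.DR Groth.Agent.Lib.Helper18.DR.HomLoc Groth.Agent.Lib.Helper18.DR.HomBC
open CategoryTheory.Limits DerivedCategory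

namespace Groth.Agent.S11365

/-- Let A be a Noetherian ring, n ≤ N, P = A[t_1, …, t_N], I an ideal of P with B = P/I flat over A, and
suppose Ext^j_P(B, P) vanishes for j ≠ N − n while Ext^{N−n}_P(B, P) is A-flat. Then Ext^{N−n}_P(B,
P) is P-isomorphic to an invertible B-module if and only if all fibre rings B ⊗_A κ(p) are
Gorenstein. (The published statement is for the degree −n cohomology of f^! of the structure sheaf
of a CM morphism of locally Noetherian schemes with pure relative dimension n; this row is the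
affine case of a closed subscheme of affine N-space.) -/
theorem result (A : Type u) [CommRing A] [IsNoetherianRing A] (N n : ℕ) (hnN : n ≤ N) (I : Ideal (MvPolynomial (Fin N) A)) [Module.Flat A (MvPolynomial (Fin N) A ⧸ I)] (hvan : ∀ j : ℕ, j ≠ N - n → Subsingleton (Abelian.Ext (ModuleCat.of (MvPolynomial (Fin N) A) (MvPolynomial (Fin N) A ⧸ I)) (ModuleCat.of (MvPolynomial (Fin N) A) (MvPolynomial (Fin N) A)) j)) (hflat : Module.Flat A (RestrictScalars A (MvPolynomial (Fin N) A) (Abelian.Ext (ModuleCat.of (MvPolynomial (Fin N) A) (MvPolynomial (Fin N) A ⧸ I)) (ModuleCat.of (MvPolynomial (Fin N) A) (MvPolynomial (Fin N) A)) (N - n)))) : (∃ (L : Type u) (_ : AddCommGroup L) (_ : Module (MvPolynomial (Fin N) A ⧸ I) L), Module.Invertible (MvPolynomial (Fin N) A ⧸ I) L ∧ Nonempty (RestrictScalars (MvPolynomial (Fin N) A) (MvPolynomial (Fin N) A ⧸ I) L ≃ₗ[(MvPolynomial (Fin N) A)] Abelian.Ext (ModuleCat.of (MvPolynomial (Fin N) A) (MvPolynomial (Fin N) A ⧸ I)) (ModuleCat.of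 (MvPolynomial (Fin N) A) (MvPolynomial (Fin N) A)) (N - n))) ↔ ∀ p : PrimeSpectrum A, LocCoh.IsGorensteinRing ((MvPolynomial (Fin N) A ⧸ I) ⊗[A] p.asIdeal.ResidueField) := by
  classical
  let ψ : MvPolynomial (Fin N) A →ₐ[A] (MvPolynomial (Fin N) A ⧸ I) := Ideal.Quotient.mkₐ A I
  have hψ : Function.Surjective ψ := Ideal.Quotient.mkₐ_surjective A I
  haveI : DRing.HasLBaseChange (algebraMap A (MvPolynomial (Fin N) A)) := Om.hasLBaseChange _
  let Rψ : Dual.D (MvPolynomial (Fin N) A) ⥤ Dual.D (MvPolynomial (Fin N) A ⧸ I) :=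
    Shr.coextD ψ.toRingHom
  let adj : DRing.restrictD ψ.toRingHom ⊣ Rψ := Shr.coextAdj ψ.toRingHom
  let adj' : DRing.restrictD (algebraMap (MvPolynomial (Fin N) A) (MvPolynomial (Fin N) A ⧸ I)) ⊣
    Rψ := adj
  let M : ModuleCat.{u} (MvPolynomial (Fin N) A) :=
    ModuleCat.of (MvPolynomial (Fin N) A) (MvPolynomial (Fin N) A ⧸ I)
  let eM : M ≅ (ModuleCat.restrictScalars.{u}
      (algebraMap (MvPolynomial (Fin N) A) (MvPolynomial (Fin N) A ⧸ I))).obj
        (ModuleCat.of (MvPolynomial (Fin N) A ⧸ I) (MvPolynomial (Fin N) A ⧸ I)) :=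
    (LinearEquiv.toModuleIso
      ((ShOm.eBA (A := MvPolynomial (Fin N) A) (B := MvPolynomial (Fin N) A ⧸ I)).trans
      ({ toFun := id
         invFun := id
         map_add' := fun _ _ => rfl
         map_smul' := fun p x => by
           rfl
         left_inv := fun _ => rfl
         right_inv := fun _ => rfl } : @LinearEquiv _ _ _ _ (RingHom.id (MvPolynomial (Fin N) A))
          (RingHom.id _) _ _ (MvPolynomial (Fin N) A ⧸ I) (MvPolynomial (Fin N) A ⧸ I) _ _
          Algebra.toModule (Submodule.Quotient.module I)))).symm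
  set ω : Dual.D (MvPolynomial (Fin N) A ⧸ I) := Dual2.shriekVia N Rψ (Dual.inD A A) with hω
  -- the transport to `ω`
  let σ : ∀ i k : ℤ, (N : ℤ) + i = k → ((H (MvPolynomial (Fin N) A ⧸ I) i).obj ω ≅
      (H (MvPolynomial (Fin N) A ⧸ I) k).obj
        (Rψ.obj (Dual.inD (MvPolynomial (Fin N) A) (MvPolynomial (Fin N) A)))) := fun i k h =>
    (HShiftIso (MvPolynomial (Fin N) A ⧸ I) (N : ℤ) i k h).app _ ≪≫
      (H (MvPolynomial (Fin N) A ⧸ I) k).mapIso
        (Rψ.mapIso (Gf.lbcUnitIso (algebraMap A (MvPolynomial (Fin N) A))))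
  -- vanishing
  have hvanω : ∀ i : ℤ, i ≠ -(n : ℤ) → IsZero ((H (MvPolynomial (Fin N) A ⧸ I) i).obj ω) := by
    intro i hi
    refine IsZero.of_iso ?_ (σ i ((N : ℤ) + i) rfl)
    by_cases hk : (N : ℤ) + i < 0
    · haveI := Shr.subsingleton_HD_rightAdjoint_of_isGE ψ.toRingHom Rψ adj
        (Dual.inD (MvPolynomial (Fin N) A) (MvPolynomial (Fin N) A)) 0 ((N : ℤ) + i) hk
      exact ModuleCat.isZero_of_subsingleton _
    · obtain ⟨j, hj⟩ := Int.eq_ofNat_of_zero_le (not_lt.1 hk)
      rw [hj]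
      have hjne : j ≠ N - n := by omega
      haveI := hvan j hjne
      haveI : Subsingleton ((H (MvPolynomial (Fin N) A ⧸ I) (j : ℤ)).obj
          (Rψ.obj (Dual.inD (MvPolynomial (Fin N) A) (MvPolynomial (Fin N) A)))) :=
        (ExtBr.bridge_bijective Rψ adj' M eM (MvPolynomial (Fin N) A) j).surjective.subsingleton
      exact ModuleCat.isZero_of_subsingleton _
  -- the comparison in degree `N - n`
  have hNn : (N : ℤ) + -(n : ℤ) = ((N - n : ℕ) : ℤ) := by omega
  let τ := σ (-(n : ℤ)) ((N - n : ℕ) : ℤ) hNn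
  let γ : Abelian.Ext (ModuleCat.of (MvPolynomial (Fin N) A) (MvPolynomial (Fin N) A ⧸ I))
      (ModuleCat.of (MvPolynomial (Fin N) A) (MvPolynomial (Fin N) A)) (N - n) →
      (H (MvPolynomial (Fin N) A ⧸ I) (-(n : ℤ))).obj ω := fun e =>
    τ.inv (ExtBr.bridge Rψ adj' M eM (MvPolynomial (Fin N) A) (N - n) e)
  have hγ : Function.Bijective γ :=
    (ConcreteCategory.bijective_of_isIso τ.inv).comp
      (ExtBr.bridge_bijective Rψ adj' M eM (MvPolynomial (Fin N) A) (N - n))
  have hγadd : ∀ x y, γ (x + y) = γ x + γ y := fun x y => by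
    simp only [γ]
    rw [ExtBr.bridge_add, map_add]
  have hγsmul : ∀ (p : MvPolynomial (Fin N) A) (x), γ (p • x) =
      algebraMap (MvPolynomial (Fin N) A) (MvPolynomial (Fin N) A ⧸ I) p • γ x := fun p x => by
    simp only [γ]
    rw [ExtBr.bridge_smul, map_smul]
  rw [ExtBr.exists_invertible_iff Ideal.Quotient.mk_surjective _ _ γ hγ hγadd hγsmul]
  exact ⟨fun h => ExtBr.gorenstein_of_invertible A (MvPolynomial (Fin N) A ⧸ I) N ψ hψ Rψ adj n
      hvanω h,
    fun h => ExtBr.invertible_of_gorenstein A (MvPolynomial (Fin N) A ⧸ I) N ψ hψ Rψ adj n hvanω h⟩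

end Groth.Agent.S11365
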