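-- Statement S11369.
import Groth.Statements.S11369
import Groth.Agent.Lib.Helper1.NoCurveAff

set_option autoImplicit false
universe u
open CategoryTheory CategoryTheory.Limits AlgebraicGeometry TopologicalSpace
open Variety

namespace Groth.Agent.S11369

/-- Let X be proper over an algebraically closed field k and L an invertible O_X-module generated by its
global sections. If for every integral closed subscheme C of X of dimension one the pullback of L to
C is ample, then L is ample. -/
theorem result (k : Type u) [Field k] [IsAlgClosed k] (X : Scheme.{u})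
    [X.Over (Spec (CommRingCat.of k))] [IsProper (X ↘ (Spec (CommRingCat.of k)))]
    (L : X.Modules) (hL : PicF.IsInvertible L) (hgen : Curv2.IsGloballyGenerated L)
    (hcurves : ∀ C : X.IdealSheafData, IsIntegral C.subscheme →
      topologicalKrullDim (C.support : Set X) = 1 →
        CohB1.IsAmple ((Scheme.Modules.pullback C.subschemeι).obj L)) :
    CohB1.IsAmple L := by
  classical
  haveI : CompactSpace X :=
    QuasiCompact.compactSpace_of_compactSpace (X ↘ Spec (CommRingCat.of k))
  apply Groth.Agent.Lib.Helper3.InvAmple.isAmple_of_secLocus hL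
  intro x
  obtain ⟨t, hxt⟩ :=
    Groth.Agent.Lib.Helper3.FreeSec.exists_mem_genLocus_of_isGloballyGenerated hL hgen x
  refine ⟨CohB1.genLocus L t, ⟨0, t ≫ (Groth.Agent.Lib.Helper3.InvMonoidal.powOne L).hom,
    (Groth.Agent.Lib.Helper3.InvGen.genLocus_comp_iso t
      (Groth.Agent.Lib.Helper3.InvMonoidal.powOne L).hom).symm⟩, hxt, ?_⟩
  apply Groth.Agent.Lib.Helper1.NoCurveAff.isAffineOpen_genLocus_of_no_curves k X L hL hgen t
  intro C hint hdim hsub
  exact Groth.Agent.Lib.Helper1.NoCurveAff.false_of_isAmple_of_subset k X L t C hint hdim hsub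
    (hcurves C hint hdim)

end Groth.Agent.S11369
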