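import Groth.Statements.S11395
import Groth.Agent.Lib.Helper11.AA6

set_option autoImplicit false
universe u
open CategoryTheory MonoidalCategory CartesianMonoidalCategory MonObj GrpObj AlgebraicGeometry CategoryTheory.Limits
open AlgGrp

namespace Groth.Agent.S11395

open Groth.Agent.Lib.Helper11 in
theorem main (k : Type u) [Field k] [IsAlgClosed k]
    (X Y Z : Over (Spec (CommRingCat.of k))) [LocallyOfFiniteType X.hom] [QuasiCompact X.hom]
    [LocallyOfFiniteType Y.hom]
    (hX : Function.Bijective ((Scheme.ΓSpecIso (CommRingCat.of k)).inv ≫ X.hom.appTop).hom)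
    [ConnectedSpace ↥Y.left] [IsSeparated Z.hom]
    (f : X ⊗ Y ⟶ Z) (y₀ : 𝟙_ (Over (Spec (CommRingCat.of k))) ⟶ Y) (z₀ : 𝟙_ (Over (Spec (CommRingCat.of k))) ⟶ Z)
    (hf : (X ◁ y₀) ≫ f = toUnit _ ≫ z₀) :
    ∃! g : Y ⟶ Z, f = snd X Y ≫ g := by
  haveI : ConnectedSpace X.left := AA1.connectedSpace_of_bijective X.hom hX
  haveI : IsLocallyNoetherian X.left := LocallyOfFiniteType.isLocallyNoetherian X.hom
  haveI : JacobsonSpace X.left := LocallyOfFiniteType.jacobsonSpace X.hom
  haveI : QuasiSeparated X.hom := inferInstance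
  -- a rational point of X
  obtain ⟨x, hx⟩ : (closedPoints X.left).Nonempty := by
    by_contra hemp
    rw [Set.not_nonempty_iff_eq_empty] at hemp
    have h2 := closure_closedPoints (X := X.left)
    rw [hemp, closure_empty] at h2
    exact Set.empty_ne_univ h2
  obtain ⟨p, hp1, -⟩ := KPts.exists_point_of_isClosed k k X.hom x hx
  have hp1' : p ≫ X.hom = 𝟙 _ := by
    rw [hp1]
    have : algebraMap k k = RingHom.id k := rfl
    rw [this]
    exact Spec.map_id _
  let x₀ : 𝟙_ (Over (Spec (CommRingCat.of k))) ⟶ X := Over.homMk p hp1'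
  let s : Y ⟶ X ⊗ Y := lift (toUnit Y ≫ x₀) (𝟙 Y)
  have hs : s ≫ snd X Y = 𝟙 Y := lift_snd _ _
  let g : Y ⟶ Z := s ≫ f
  have hx₀ : (x₀ ▷ Y) ≫ f = (x₀ ▷ Y) ≫ snd X Y ≫ g := by
    rw [← Category.assoc (x₀ ▷ Y), whiskerRight_snd, ← Category.assoc]
    congr 1
    apply CartesianMonoidalCategory.hom_ext
    · rw [whiskerRight_fst, Category.assoc, lift_fst, ← Category.assoc]
      congr 1
      exact toUnit_unique _ _
    · rw [whiskerRight_snd, Category.assoc, lift_snd, Category.comp_id]
  have hz₀ : y₀ ≫ g = z₀ := by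
    have h1 : y₀ ≫ s = lift x₀ (𝟙 _) ≫ (X ◁ y₀) := by
      rw [lift_whiskerLeft, Category.id_comp, comp_lift, Category.comp_id, ← Category.assoc]
      congr 1
      have : y₀ ≫ toUnit Y = 𝟙 _ := toUnit_unique _ _
      rw [this, Category.id_comp]
    rw [← Category.assoc, h1, Category.assoc, hf, ← Category.assoc]
    have h2 : lift x₀ (𝟙 (𝟙_ (Over (Spec (CommRingCat.of k))))) ≫ toUnit _ = 𝟙 _ := toUnit_unique _ _
    rw [h2, Category.id_comp]
  have hy₀ : (X ◁ y₀) ≫ f = toUnit _ ≫ y₀ ≫ g := by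
    rw [hz₀]; exact hf
  have hmain : f = snd X Y ≫ g := AA6.rigidity_connected X Y Z hX x₀ y₀ f g hx₀ hy₀
  refine ⟨g, hmain, ?_⟩
  intro g' hg'
  have : g = s ≫ snd X Y ≫ g' := by rw [← hg']
  rw [this, ← Category.assoc, hs, Category.id_comp]

/-- Over an algebraically closed field k, let X, Y and Z be k-schemes of finite type such that the only
global functions on X are the constants, Y is connected and Z is separated over k. Let f : X × Y → Z
be a k-morphism and y₀, z₀ rational points of Y, Z such that the restriction of f to X × y₀ is the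
constant morphism with value z₀ (as a morphism of schemes; for reduced X this is the condition on
closed points). Then there is a unique morphism g : Y → Z with f = g ∘ pr₂. -/
theorem result (k : Type u) [Field k] [IsAlgClosed k]
    (X Y Z : Over (Spec (CommRingCat.of k))) [LocallyOfFiniteType X.hom] [QuasiCompact X.hom]
    [LocallyOfFiniteType Y.hom] [QuasiCompact Y.hom] [LocallyOfFiniteType Z.hom] [QuasiCompact Z.hom]
    (hX : Function.Bijective ((Scheme.ΓSpecIso (CommRingCat.of k)).inv ≫ X.hom.appTop).hom)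
    [ConnectedSpace ↥Y.left] [IsSeparated Z.hom]
    (f : X ⊗ Y ⟶ Z) (y₀ : 𝟙_ (Over (Spec (CommRingCat.of k))) ⟶ Y) (z₀ : 𝟙_ (Over (Spec (CommRingCat.of k))) ⟶ Z)
    (hf : (X ◁ y₀) ≫ f = toUnit _ ≫ z₀) :
    ∃! g : Y ⟶ Z, f = snd X Y ≫ g := by
  exact main k X Y Z hX f y₀ z₀ hf

end Groth.Agent.S11395
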