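import Groth.Statements.S11421
import Groth.Agent.Lib.Helper11.AA6
import Groth.Agent.Lib.Helper11.GrpD
import Groth.Agent.S14578

set_option autoImplicit false
universe u
open CategoryTheory MonoidalCategory CartesianMonoidalCategory MonObj GrpObj AlgebraicGeometry CategoryTheory.Limits
open AlgGrp

namespace Groth.Agent.S11421

open Groth.Agent.Lib.Helper11 in
theorem main (k : Type u) [Field k] [IsAlgClosed k]
    (G H S : Over (Spec (CommRingCat.of k))) [GrpObj G] [Smooth G.hom] [QuasiCompact G.hom]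
    (hG : Function.Bijective ((Scheme.ΓSpecIso (CommRingCat.of k)).inv ≫ G.hom.appTop).hom)
    [GrpObj H] [Smooth H.hom] [QuasiCompact H.hom]
    [LocallyOfFiniteType S.hom] [ConnectedSpace ↥S.left]
    (f : G ⊗ S ⟶ H) :
    ∃ (φ : S ⟶ H) (ψ : G ⟶ H), IsMonHom ψ ∧ f = (snd G S ≫ φ) * (fst G S ≫ ψ) ∧
      ∀ (φ' : S ⟶ H) (ψ' : G ⟶ H), IsMonHom ψ' → f = (snd G S ≫ φ') * (fst G S ≫ ψ') → φ' = φ ∧ ψ' = ψ := by
  haveI : IsSeparated G.hom := GrpD.isSeparated_hom G
  haveI : IsSeparated H.hom := GrpD.isSeparated_hom H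
  haveI : JacobsonSpace S.left := LocallyOfFiniteType.jacobsonSpace S.hom
  -- a rational point of S
  obtain ⟨x, hx⟩ : (closedPoints S.left).Nonempty := by
    by_contra hemp
    rw [Set.not_nonempty_iff_eq_empty] at hemp
    have h2 := closure_closedPoints (X := S.left)
    rw [hemp, closure_empty] at h2
    exact Set.empty_ne_univ h2
  obtain ⟨p, hp1, -⟩ := KPts.exists_point_of_isClosed k k S.hom x hx
  have hp1' : p ≫ S.hom = 𝟙 _ := by
    rw [hp1]
    have : algebraMap k k = RingHom.id k := rfl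
    rw [this]
    exact Spec.map_id _
  let s₀ : 𝟙_ (Over (Spec (CommRingCat.of k))) ⟶ S := Over.homMk p hp1'
  let eS : S ⟶ G ⊗ S := lift (toUnit S ≫ η[G]) (𝟙 S)
  let i₀ : G ⟶ G ⊗ S := lift (𝟙 G) (toUnit G ≫ s₀)
  let φ : S ⟶ H := eS ≫ f
  let A : G ⊗ S ⟶ H := snd G S ≫ φ
  let ψ : G ⟶ H := i₀ ≫ (A⁻¹ * f)
  let B : G ⊗ S ⟶ H := fst G S ≫ ψ
  have hs₀ : s₀ ≫ toUnit S = 𝟙 _ := toUnit_unique _ _
  have h_eta_i₀ : η[G] ≫ i₀ = s₀ ≫ eS := by
    apply CartesianMonoidalCategory.hom_ext
    · rw [Category.assoc, lift_fst, Category.comp_id, Category.assoc, lift_fst, ← Category.assoc,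
        hs₀, Category.id_comp]
    · rw [Category.assoc, lift_snd, Category.assoc, lift_snd, Category.comp_id, ← Category.assoc]
      have : η[G] ≫ toUnit G = 𝟙 _ := toUnit_unique _ _
      rw [this, Category.id_comp]
  have hψe : η[G] ≫ ψ = η[H] := by
    simp only [ψ]
    rw [← Category.assoc, MonObj.comp_mul, GrpObj.comp_inv]
    have e1 : (η[G] ≫ i₀) ≫ A = s₀ ≫ φ := by
      rw [h_eta_i₀]
      simp only [A]
      rw [Category.assoc, ← Category.assoc eS, lift_snd, Category.id_comp]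
    have e2 : (η[G] ≫ i₀) ≫ f = s₀ ≫ φ := by
      rw [h_eta_i₀, Category.assoc]
    rw [e1, e2, inv_mul_cancel, Hom.one_def]
    have : toUnit (𝟙_ (Over (Spec (CommRingCat.of k)))) = 𝟙 _ := toUnit_unique _ _
    rw [this, Category.id_comp]
  haveI hψ : IsMonHom ψ := Groth.Agent.S14578.result k G H hG ψ hψe
  let Φ : G ⊗ S ⟶ H := A⁻¹ * f * B⁻¹
  have c1 : (η[G] ▷ S) ≫ Φ = (η[G] ▷ S) ≫ snd G S ≫ (1 : S ⟶ H) := by
    rw [MonObj.comp_one, MonObj.comp_one]
    simp only [Φ]
    rw [MonObj.comp_mul, MonObj.comp_mul, GrpObj.comp_inv, GrpObj.comp_inv]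
    have e0 : (η[G] ▷ S) = snd (𝟙_ (Over (Spec (CommRingCat.of k)))) S ≫ eS := by
      apply CartesianMonoidalCategory.hom_ext
      · rw [whiskerRight_fst, Category.assoc, lift_fst, ← Category.assoc]
        congr 1
        exact toUnit_unique _ _
      · rw [whiskerRight_snd, Category.assoc, lift_snd, Category.comp_id]
    have e1 : (η[G] ▷ S) ≫ A = snd (𝟙_ (Over (Spec (CommRingCat.of k)))) S ≫ φ := by
      simp only [A]
      rw [← Category.assoc, whiskerRight_snd]
    have e2 : (η[G] ▷ S) ≫ f = snd (𝟙_ (Over (Spec (CommRingCat.of k)))) S ≫ φ := by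
      rw [e0, Category.assoc]
    have e3 : (η[G] ▷ S) ≫ B = 1 := by
      simp only [B]
      rw [← Category.assoc, whiskerRight_fst, Category.assoc, hψe, Hom.one_def]
      congr 1
    rw [e1, e2, e3]
    group
  have c2 : (G ◁ s₀) ≫ Φ = toUnit _ ≫ s₀ ≫ (1 : S ⟶ H) := by
    rw [MonObj.comp_one, MonObj.comp_one]
    simp only [Φ]
    rw [MonObj.comp_mul, MonObj.comp_mul, GrpObj.comp_inv, GrpObj.comp_inv]
    have e0 : fst G (𝟙_ (Over (Spec (CommRingCat.of k)))) ≫ i₀ = G ◁ s₀ := by
      apply CartesianMonoidalCategory.hom_ext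
      · rw [Category.assoc, lift_fst, Category.comp_id, whiskerLeft_fst]
      · rw [Category.assoc, lift_snd, whiskerLeft_snd, ← Category.assoc]
        congr 1
        exact toUnit_unique _ _
    have e3 : (G ◁ s₀) ≫ B = ((G ◁ s₀) ≫ A)⁻¹ * ((G ◁ s₀) ≫ f) := by
      simp only [B, ψ]
      rw [← Category.assoc, whiskerLeft_fst, ← Category.assoc, e0, MonObj.comp_mul,
        GrpObj.comp_inv]
    rw [e3]
    group
  have hΦ : Φ = snd G S ≫ (1 : S ⟶ H) :=
    AA6.rigidity_connected G S H hG η[G] s₀ Φ 1 c1 c2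
  rw [MonObj.comp_one] at hΦ
  have hfAB : f = A * B := by
    have : A⁻¹ * f * B⁻¹ = 1 := hΦ
    calc f = A * (A⁻¹ * f * B⁻¹) * B := by group
      _ = A * B := by rw [this, _root_.mul_one]
  refine ⟨φ, ψ, hψ, hfAB, ?_⟩
  intro φ' ψ' hψ' hf'
  have hφ' : φ' = φ := by
    have h1 : φ = eS ≫ ((snd G S ≫ φ') * (fst G S ≫ ψ')) := by rw [← hf']
    rw [MonObj.comp_mul, ← Category.assoc, lift_snd, Category.id_comp, ← Category.assoc, lift_fst,
      Category.assoc, IsMonHom.one_hom, ← Hom.one_def, _root_.mul_one] at h1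
    exact h1.symm
  refine ⟨hφ', ?_⟩
  subst hφ'
  have h2 : fst G S ≫ ψ' = fst G S ≫ ψ := by
    have h3 : A * (fst G S ≫ ψ') = A * B := by rw [← hfAB]; exact hf'.symm
    exact mul_left_cancel h3
  have h4 := congrArg (fun m => i₀ ≫ m) h2
  simp only [← Category.assoc, i₀, lift_fst, Category.id_comp] at h4
  exact h4

/-- Over an algebraically closed field k, let G be an algebraic group (smooth k-group scheme of finite
type) whose only global functions are the constants, H a connected algebraic group, S a connected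
k-scheme of finite type and f : G × S → H a morphism of k-schemes. Then there are a unique
k-morphism φ : S → H and a unique homomorphism ψ : G → H with f(g, s) = φ(s) · ψ(g) on points. (This
is the decomposition, over a connected base, behind the identification of the functor of morphisms
from G to H with H × Hom_gp(G, H); the published statement is the equivalence of representability of
that functor with anti-affineness of G, whose converse direction is not stated here.) -/
theorem result (k : Type u) [Field k] [IsAlgClosed k]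
    (G H S : Over (Spec (CommRingCat.of k))) [GrpObj G] [Smooth G.hom] [QuasiCompact G.hom]
    (hG : Function.Bijective ((Scheme.ΓSpecIso (CommRingCat.of k)).inv ≫ G.hom.appTop).hom)
    [GrpObj H] [Smooth H.hom] [QuasiCompact H.hom] [ConnectedSpace ↥H.left]
    [LocallyOfFiniteType S.hom] [QuasiCompact S.hom] [ConnectedSpace ↥S.left]
    (f : G ⊗ S ⟶ H) :
    ∃ (φ : S ⟶ H) (ψ : G ⟶ H), IsMonHom ψ ∧ f = (snd G S ≫ φ) * (fst G S ≫ ψ) ∧
      ∀ (φ' : S ⟶ H) (ψ' : G ⟶ H), IsMonHom ψ' → f = (snd G S ≫ φ') * (fst G S ≫ ψ') → φ' = φ ∧ ψ' = ψ := by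
  exact main k G H S hG f

end Groth.Agent.S11421
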