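import Groth.Statements.S11404
import Groth.Agent.S11421
import Groth.Agent.Lib.Helper22.SmoothRed
import Groth.Agent.Lib.Helper11.PC1

set_option autoImplicit false
universe u
open CategoryTheory MonoidalCategory CartesianMonoidalCategory MonObj GrpObj AlgebraicGeometry CategoryTheory.Limits
open AlgGrp

namespace Groth.Agent.S11404

/-- Over an algebraically closed field k, let A be an abelian variety (a proper, smooth, connected
k-group scheme) and S a connected k-scheme of finite type. For every automorphism f of A × S over S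
there are a unique k-morphism g : S → A and a unique group automorphism h of A with f(a, s) = (g(s)
· h(a), s) on points. (This is the functor-of-points form, over a connected base, of the
identification of the automorphism group scheme of A with the semidirect product of A, acting by
translations, and the constant group of group automorphisms; in particular the neutral component is
A.) -/
theorem result (k : Type u) [Field k] [IsAlgClosed k]
    (A S : Over (Spec (CommRingCat.of k))) [GrpObj A] [IsProper A.hom] [Smooth A.hom] [ConnectedSpace ↥A.left]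
    [LocallyOfFiniteType S.hom] [QuasiCompact S.hom] [ConnectedSpace ↥S.left]
    (f : A ⊗ S ≅ A ⊗ S) (hf : f.hom ≫ snd A S = snd A S) :
    ∃ (g : S ⟶ A) (h : A ⟶ A), IsMonHom h ∧ IsIso h ∧
      f.hom ≫ fst A S = (snd A S ≫ g) * (fst A S ≫ h) ∧
      ∀ (g' : S ⟶ A) (h' : A ⟶ A), IsMonHom h' →
        f.hom ≫ fst A S = (snd A S ≫ g') * (fst A S ≫ h') → g' = g ∧ h' = h := by
  have hσ : (η[A]).left ≫ A.hom = 𝟙 _ := Over.w η[A]
  haveI : IsReduced A.left := Groth.Agent.Lib.Helper22.SmoothRed.isReduced_of_smooth A.hom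
  have hA := Groth.Agent.Lib.Helper11.PC1.bijective_of_proper_connected A.hom (η[A]).left hσ
  obtain ⟨φ, ψ, hψ, hF, huniq⟩ := Groth.Agent.S11421.main k A A S hA (f.hom ≫ fst A S)
  obtain ⟨φ', ψ', hψ', hF', -⟩ := Groth.Agent.S11421.main k A A S hA (f.inv ≫ fst A S)
  obtain ⟨φ₀, ψ₀, hψ₀, hF₀, huniq₀⟩ := Groth.Agent.S11421.main k A A S hA (fst A S)
  have hf' : f.inv ≫ snd A S = snd A S := by
    calc f.inv ≫ snd A S = f.inv ≫ f.hom ≫ snd A S := by rw [hf]
      _ = snd A S := by rw [Iso.inv_hom_id_assoc]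
  -- composition formula
  have comp_formula : ∀ (u v : A ⊗ S ⟶ A ⊗ S) (φ₁ φ₂ : S ⟶ A) (ψ₁ ψ₂ : A ⟶ A) [IsMonHom ψ₂],
      u ≫ snd A S = snd A S →
      u ≫ fst A S = (snd A S ≫ φ₁) * (fst A S ≫ ψ₁) →
      v ≫ fst A S = (snd A S ≫ φ₂) * (fst A S ≫ ψ₂) →
      (u ≫ v) ≫ fst A S = (snd A S ≫ (φ₂ * (φ₁ ≫ ψ₂))) * (fst A S ≫ (ψ₁ ≫ ψ₂)) := by
    intro u v φ₁ φ₂ ψ₁ ψ₂ _ hu hu1 hv1
    rw [Category.assoc, hv1, MonObj.comp_mul, ← Category.assoc, hu, ← Category.assoc u, hu1,
      MonObj.mul_comp, MonObj.comp_mul, _root_.mul_assoc]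
    simp only [Category.assoc]
  have id_formula : fst A S = (snd A S ≫ (1 : S ⟶ A)) * (fst A S ≫ 𝟙 A) := by
    rw [MonObj.comp_one, _root_.one_mul, Category.comp_id]
  have h1 := comp_formula f.hom f.inv φ φ' ψ ψ' hf hF hF'
  rw [Iso.hom_inv_id, Category.id_comp] at h1
  have h2 := comp_formula f.inv f.hom φ' φ ψ' ψ hf' hF' hF
  rw [Iso.inv_hom_id, Category.id_comp] at h2
  have e1 := (huniq₀ _ _ inferInstance h1).2
  have e2 := (huniq₀ _ _ inferInstance h2).2
  have e0 := (huniq₀ _ _ inferInstance id_formula).2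
  have hiso : IsIso ψ := ⟨ψ', by rw [e1, ← e0], by rw [e2, ← e0]⟩
  exact ⟨φ, ψ, hψ, hiso, hF, huniq⟩

end Groth.Agent.S11404
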