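import Groth.Statements.S11418
import Mathlib
import Groth.Agent.Lib.Helper22.ActionPts

set_option autoImplicit false
universe u
open CategoryTheory MonoidalCategory CartesianMonoidalCategory MonObj GrpObj AlgebraicGeometry CategoryTheory.Limits
open AlgGrp

namespace Groth.Agent.S11418

/-- Over an algebraically closed field k, let G be an affine algebraic group (smooth affine k-group
scheme of finite type) and π : X → Y a principal G-bundle of k-schemes of finite type: G acts on X,
π is G-invariant, faithfully flat, and the square formed by the action, the second projection G × X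
→ X and π is cartesian. Then the map θ sending a G-equivariant morphism f : X → G (for the
conjugation action on G, i.e. f(g·x) = g f(x) g⁻¹ on points) to the automorphism x ↦ f(x)·x is a
bijection onto the bundle automorphisms: every G-equivariant automorphism φ of X with π ∘ φ = π
equals θ(f) for exactly one such f. -/
theorem result (k : Type u) [Field k] [IsAlgClosed k]
    (G X Y : Over (Spec (CommRingCat.of k))) [GrpObj G] [Smooth G.hom] [QuasiCompact G.hom] [IsAffine G.left]
    [LocallyOfFiniteType X.hom] [QuasiCompact X.hom] [LocallyOfFiniteType Y.hom] [QuasiCompact Y.hom]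
    (a : AlgGrp.Action G X) (π : X ⟶ Y) (hinv : a.act ≫ π = snd G X ≫ π) [Flat π.left] [Surjective π.left]
    (hcart : IsPullback (snd G X) a.act π π)
    (φ : X ≅ X) (hφ : φ.hom ≫ π = π) (hφeq : (G ◁ φ.hom) ≫ a.act = a.act ≫ φ.hom) :
    ∃! f : X ⟶ G, (∀ (S : Over (Spec (CommRingCat.of k))) (g : S ⟶ G) (x : S ⟶ X),
        lift g x ≫ a.act ≫ f = g * (x ≫ f) * g⁻¹) ∧ φ.hom = lift f (𝟙 X) ≫ a.act := by
  classical
  have free : ∀ {T : Over (Spec (CommRingCat.of k))} (g h : T ⟶ G) (x : T ⟶ X),
      Groth.Agent.Lib.Helper22.smul a g x = Groth.Agent.Lib.Helper22.smul a h x → g = h := by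
    intro T g h x hgh
    have e : lift g x = lift h x := by
      apply hcart.hom_ext
      · simp
      · exact hgh
    have := congrArg (· ≫ fst G X) e
    simpa using this
  have hw : (𝟙 X) ≫ π = φ.hom ≫ π := by rw [hφ, Category.id_comp]
  set L : X ⟶ G ⊗ X := hcart.lift (𝟙 X) φ.hom hw with hL
  have hL1 : L ≫ snd G X = 𝟙 X := hcart.lift_fst _ _ _
  have hL2 : L ≫ a.act = φ.hom := hcart.lift_snd _ _ _
  have hLf : lift (L ≫ fst G X) (𝟙 X) = L := by
    apply CartesianMonoidalCategory.hom_ext
    · simp
    · simp [hL1]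
  have hθ : Groth.Agent.Lib.Helper22.smul a (L ≫ fst G X) (𝟙 X) = φ.hom := by
    rw [Groth.Agent.Lib.Helper22.smul_def, hLf, hL2]
  have hφsmul : ∀ {T : Over (Spec (CommRingCat.of k))} (g : T ⟶ G) (x : T ⟶ X),
      Groth.Agent.Lib.Helper22.smul a g (x ≫ φ.hom) = Groth.Agent.Lib.Helper22.smul a g x ≫ φ.hom := by
    intro T g x
    rw [Groth.Agent.Lib.Helper22.smul_def, Groth.Agent.Lib.Helper22.smul_def, Category.assoc, ← hφeq, ← Category.assoc, lift_whiskerLeft]
  refine ⟨L ≫ fst G X, ⟨?_, ?_⟩, ?_⟩
  · intro T g x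
    set f := L ≫ fst G X with hf
    have key : ((lift g x ≫ a.act) ≫ f) * g = g * (x ≫ f) := by
      apply free _ _ x
      rw [Groth.Agent.Lib.Helper22.pt_mul_smul, Groth.Agent.Lib.Helper22.pt_mul_smul]
      have h1 : Groth.Agent.Lib.Helper22.smul a ((lift g x ≫ a.act) ≫ f) (Groth.Agent.Lib.Helper22.smul a g x) = Groth.Agent.Lib.Helper22.smul a g x ≫ φ.hom := by
        rw [← hθ, Groth.Agent.Lib.Helper22.comp_smul, Category.comp_id]
        rfl
      have h2 : Groth.Agent.Lib.Helper22.smul a (x ≫ f) x = x ≫ φ.hom := by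
        rw [← hθ, Groth.Agent.Lib.Helper22.comp_smul, Category.comp_id]
      rw [h1, h2, hφsmul]
    rw [← Category.assoc]
    exact eq_mul_inv_of_mul_eq key
  · rw [hLf, hL2]
  · rintro f' ⟨-, hf'⟩
    have e : lift f' (𝟙 X) = L := by
      apply hcart.hom_ext
      · simp [hL1]
      · rw [hL2, ← hf']
    have := congrArg (· ≫ fst G X) e
    simpa using this

end Groth.Agent.S11418
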