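import Groth.Statements.S11420
import Groth.Agent.Lib.Helper11.PA1

set_option autoImplicit false
universe u
open CategoryTheory MonoidalCategory CartesianMonoidalCategory MonObj GrpObj AlgebraicGeometry CategoryTheory.Limits
open AlgGrp

namespace Groth.Agent.S11420

theorem exists_pt {k : Type u} [Field k] [IsAlgClosed k] (X : Over (Spec (CommRingCat.of k)))
    [LocallyOfFiniteType X.hom] [Nonempty ↥X.left] :
    Nonempty (𝟙_ (Over (Spec (CommRingCat.of k))) ⟶ X) := by
  haveI : JacobsonSpace X.left := LocallyOfFiniteType.jacobsonSpace X.hom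
  obtain ⟨x, hx⟩ : (closedPoints X.left).Nonempty := by
    by_contra hemp
    rw [Set.not_nonempty_iff_eq_empty] at hemp
    have h2 := closure_closedPoints (X := X.left)
    rw [hemp, closure_empty] at h2
    exact Set.empty_ne_univ h2
  obtain ⟨p, hp1, -⟩ := Groth.Agent.Lib.Helper11.KPts.exists_point_of_isClosed k k X.hom x hx
  have hp1' : p ≫ X.hom = 𝟙 _ := by
    rw [hp1]
    have : algebraMap k k = RingHom.id k := rfl
    rw [this]
    exact Spec.map_id _
  exact ⟨Over.homMk p hp1'⟩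

theorem action_ext {S : Scheme.{u}} {G X : Over S} [GrpObj G] (b b' : AlgGrp.Action G X)
    (h : b.act = b'.act) : b = b' := by
  cases b; cases b'; simp only at h; subst h; rfl

/-- Over an algebraically closed field k, let X and Y be complete varieties (proper, integral, separated
k-schemes of finite type) and let a connected k-group scheme of finite type G act on X × Y. Then
there are unique actions of G on X and on Y such that the given action is the product action g·(x,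
y) = (g·x, g·y). (This is the form, for actions of connected group schemes, of the identification of
the neutral component of the automorphism group scheme of X × Y with the product of those of X and
Y; the representability of these group schemes is not asserted here.) -/
theorem result (k : Type u) [Field k] [IsAlgClosed k]
    (G X Y : Over (Spec (CommRingCat.of k))) [GrpObj G] [LocallyOfFiniteType G.hom] [QuasiCompact G.hom] [ConnectedSpace ↥G.left]
    [IsProper X.hom] [IsIntegral X.left]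
    [IsProper Y.hom] [IsIntegral Y.left]
    (a : AlgGrp.Action G (X ⊗ Y)) :
    ∃ (b : AlgGrp.Action G X) (c : AlgGrp.Action G Y),
      a.act = lift ((G ◁ fst X Y) ≫ b.act) ((G ◁ snd X Y) ≫ c.act) ∧
      ∀ (b' : AlgGrp.Action G X) (c' : AlgGrp.Action G Y),
        a.act = lift ((G ◁ fst X Y) ≫ b'.act) ((G ◁ snd X Y) ≫ c'.act) → b' = b ∧ c' = c := by
  haveI : Nonempty ↥X.left := inferInstance
  haveI : Nonempty ↥Y.left := inferInstance
  obtain ⟨x₀⟩ := exists_pt X
  obtain ⟨y₀⟩ := exists_pt Y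
  haveI : GeometricallyConnected G.hom :=
    Groth.Agent.Lib.Helper11.FBaseLib.geometricallyConnected_of_connectedSpace G.hom
  haveI : ConnectedSpace ↥X.left := inferInstance
  haveI : ConnectedSpace ↥Y.left := inferInstance
  haveI hGX : ConnectedSpace ↥(G ⊗ X).left := by
    show ConnectedSpace ↥(Limits.pullback G.hom X.hom); infer_instance
  haveI hGY : ConnectedSpace ↥(G ⊗ Y).left := by
    show ConnectedSpace ↥(Limits.pullback G.hom Y.hom); infer_instance
  haveI : LocallyOfFiniteType (G ⊗ X).hom := by rw [Over.tensorObj_hom]; infer_instance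
  haveI : LocallyOfFiniteType (G ⊗ Y).hom := by rw [Over.tensorObj_hom]; infer_instance
  -- the unit acts trivially, on points
  have one_pt : ∀ (T : Over (Spec (CommRingCat.of k))) (w : T ⟶ X ⊗ Y),
      lift (toUnit T ≫ η[G]) w ≫ a.act = w := by
    intro T w
    have e1 : lift (toUnit T ≫ η[G]) w = lift (toUnit T) w ≫ (η[G] ▷ (X ⊗ Y)) := by
      apply CartesianMonoidalCategory.hom_ext
      · rw [Category.assoc, whiskerRight_fst, lift_fst, lift_fst_assoc]
      · rw [Category.assoc, whiskerRight_snd, lift_snd, lift_snd]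
    rw [e1, Category.assoc, a.one_act, leftUnitor_hom, lift_snd]
  -- X-part
  let FX : (G ⊗ X) ⊗ Y ⟶ X := (α_ G X Y).hom ≫ a.act ≫ fst X Y
  let pX : 𝟙_ (Over (Spec (CommRingCat.of k))) ⟶ G ⊗ X := lift η[G] x₀
  have hFX : lift (toUnit Y ≫ pX) (𝟙 Y) ≫ FX = toUnit Y ≫ lift pX y₀ ≫ FX := by
    have e1 : lift (toUnit Y ≫ pX) (𝟙 Y) ≫ (α_ G X Y).hom =
        lift (toUnit Y ≫ η[G]) (lift (toUnit Y ≫ x₀) (𝟙 Y)) := by
      apply CartesianMonoidalCategory.hom_ext
      · simp [pX]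
      · apply CartesianMonoidalCategory.hom_ext <;> simp [pX]
    have e2 : lift pX y₀ ≫ (α_ G X Y).hom =
        lift (toUnit _ ≫ η[G]) (lift x₀ y₀) := by
      apply CartesianMonoidalCategory.hom_ext
      · simp only [Category.assoc, associator_hom_fst, lift_fst, lift_fst_assoc, pX]
        have : toUnit (𝟙_ (Over (Spec (CommRingCat.of k)))) = 𝟙 _ := toUnit_unique _ _
        rw [this, Category.id_comp]
      · apply CartesianMonoidalCategory.hom_ext <;> simp [pX]
    show lift (toUnit Y ≫ pX) (𝟙 Y) ≫ (α_ G X Y).hom ≫ a.act ≫ fst X Y =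
      toUnit Y ≫ lift pX y₀ ≫ (α_ G X Y).hom ≫ a.act ≫ fst X Y
    rw [← Category.assoc, e1, ← Category.assoc, one_pt, lift_fst,
      ← Category.assoc (lift pX y₀), e2, ← Category.assoc _ a.act, one_pt, lift_fst]
  have KX := Groth.Agent.Lib.Helper11.PA1.indep (G ⊗ X) Y X pX y₀ FX hFX
  let bact : G ⊗ X ⟶ X := lift (𝟙 (G ⊗ X)) (toUnit (G ⊗ X) ≫ y₀) ≫ FX
  have hb : (G ◁ fst X Y) ≫ bact = a.act ≫ fst X Y := by
    have e1 : (α_ G X Y).inv ≫ fst (G ⊗ X) Y = G ◁ fst X Y := by
      apply CartesianMonoidalCategory.hom_ext <;> simp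
    calc (G ◁ fst X Y) ≫ bact = ((α_ G X Y).inv ≫ fst (G ⊗ X) Y) ≫ bact := by rw [e1]
      _ = (α_ G X Y).inv ≫ (fst (G ⊗ X) Y ≫ bact) := Category.assoc _ _ _
      _ = (α_ G X Y).inv ≫ FX := congrArg ((α_ G X Y).inv ≫ ·) KX.symm
      _ = a.act ≫ fst X Y := by
          show (α_ G X Y).inv ≫ (α_ G X Y).hom ≫ a.act ≫ fst X Y = _
          rw [Iso.inv_hom_id_assoc]
  -- Y-part
  let ρ : (G ⊗ Y) ⊗ X ⟶ G ⊗ (X ⊗ Y) :=
    lift (fst (G ⊗ Y) X ≫ fst G Y) (lift (snd (G ⊗ Y) X) (fst (G ⊗ Y) X ≫ snd G Y))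
  let ρ' : G ⊗ (X ⊗ Y) ⟶ (G ⊗ Y) ⊗ X :=
    lift (lift (fst G (X ⊗ Y)) (snd G (X ⊗ Y) ≫ snd X Y)) (snd G (X ⊗ Y) ≫ fst X Y)
  have hρ : ρ' ≫ ρ = 𝟙 _ := by
    apply CartesianMonoidalCategory.hom_ext
    · simp [ρ, ρ']
    · apply CartesianMonoidalCategory.hom_ext <;> simp [ρ, ρ']
  let FY : (G ⊗ Y) ⊗ X ⟶ Y := ρ ≫ a.act ≫ snd X Y
  let pY : 𝟙_ (Over (Spec (CommRingCat.of k))) ⟶ G ⊗ Y := lift η[G] y₀
  have hFY : lift (toUnit X ≫ pY) (𝟙 X) ≫ FY = toUnit X ≫ lift pY x₀ ≫ FY := by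
    have e1 : lift (toUnit X ≫ pY) (𝟙 X) ≫ ρ =
        lift (toUnit X ≫ η[G]) (lift (𝟙 X) (toUnit X ≫ y₀)) := by
      apply CartesianMonoidalCategory.hom_ext
      · simp [pY, ρ]
      · apply CartesianMonoidalCategory.hom_ext <;> simp [pY, ρ]
    have e2 : lift pY x₀ ≫ ρ = lift (toUnit _ ≫ η[G]) (lift x₀ y₀) := by
      apply CartesianMonoidalCategory.hom_ext
      · simp only [Category.assoc, lift_fst, lift_fst_assoc, pY, ρ]
        have : toUnit (𝟙_ (Over (Spec (CommRingCat.of k)))) = 𝟙 _ := toUnit_unique _ _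
        rw [this, Category.id_comp]
      · apply CartesianMonoidalCategory.hom_ext <;> simp [pY, ρ]
    show lift (toUnit X ≫ pY) (𝟙 X) ≫ ρ ≫ a.act ≫ snd X Y =
      toUnit X ≫ lift pY x₀ ≫ ρ ≫ a.act ≫ snd X Y
    rw [← Category.assoc, e1, ← Category.assoc, one_pt, lift_snd,
      ← Category.assoc (lift pY x₀), e2, ← Category.assoc _ a.act, one_pt, lift_snd]
  have KY := Groth.Agent.Lib.Helper11.PA1.indep (G ⊗ Y) X Y pY x₀ FY hFY
  let cact : G ⊗ Y ⟶ Y := lift (𝟙 (G ⊗ Y)) (toUnit (G ⊗ Y) ≫ x₀) ≫ FY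
  have hc : (G ◁ snd X Y) ≫ cact = a.act ≫ snd X Y := by
    have e1 : ρ' ≫ fst (G ⊗ Y) X = G ◁ snd X Y := by
      apply CartesianMonoidalCategory.hom_ext <;> simp [ρ']
    calc (G ◁ snd X Y) ≫ cact = (ρ' ≫ fst (G ⊗ Y) X) ≫ cact := by rw [e1]
      _ = ρ' ≫ (fst (G ⊗ Y) X ≫ cact) := Category.assoc _ _ _
      _ = ρ' ≫ FY := congrArg (ρ' ≫ ·) KY.symm
      _ = a.act ≫ snd X Y := by
          show ρ' ≫ ρ ≫ a.act ≫ snd X Y = _
          rw [← Category.assoc, hρ, Category.id_comp]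
  -- the actions
  let σX : X ⟶ X ⊗ Y := lift (𝟙 X) (toUnit X ≫ y₀)
  let σY : Y ⟶ X ⊗ Y := lift (toUnit Y ≫ x₀) (𝟙 Y)
  have hσX : σX ≫ fst X Y = 𝟙 X := lift_fst _ _
  have hσY : σY ≫ snd X Y = 𝟙 Y := lift_snd _ _
  have axb := Groth.Agent.Lib.Helper11.PA1.action_descends a.act a.one_act a.mul_act
    (fst X Y) σX hσX bact hb
  have axc := Groth.Agent.Lib.Helper11.PA1.action_descends a.act a.one_act a.mul_act
    (snd X Y) σY hσY cact hc
  let b : AlgGrp.Action G X := ⟨bact, axb.1, axb.2⟩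
  let c : AlgGrp.Action G Y := ⟨cact, axc.1, axc.2⟩
  refine ⟨b, c, ?_, ?_⟩
  · apply CartesianMonoidalCategory.hom_ext
    · rw [lift_fst]; exact hb.symm
    · rw [lift_snd]; exact hc.symm
  · intro b' c' h
    haveI : IsSplitEpi (G ◁ fst X Y) := IsSplitEpi.mk' ⟨G ◁ σX, by
      rw [← MonoidalCategory.whiskerLeft_comp, hσX, MonoidalCategory.whiskerLeft_id]⟩
    haveI : IsSplitEpi (G ◁ snd X Y) := IsSplitEpi.mk' ⟨G ◁ σY, by
      rw [← MonoidalCategory.whiskerLeft_comp, hσY, MonoidalCategory.whiskerLeft_id]⟩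
    constructor
    · apply action_ext
      show b'.act = bact
      rw [← cancel_epi (G ◁ fst X Y), hb, h, lift_fst]
    · apply action_ext
      show c'.act = cact
      rw [← cancel_epi (G ◁ snd X Y), hc, h, lift_snd]

end Groth.Agent.S11420
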