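import Groth.Statements.S11428


set_option autoImplicit false
universe u
open CategoryTheory MonoidalCategory CartesianMonoidalCategory MonObj GrpObj AlgebraicGeometry Topology
open GIT

namespace Groth.Agent.S11428

open CategoryTheory.Limits in
theorem apply_congr' {X Y : Scheme.{u}} {f g : X ⟶ Y} (h : f = g) (z : X) : f z = g z := by rw [h]

open CategoryTheory.Limits in
theorem isPullback_whiskerRight {S : Scheme.{u}} {A B : Over S} (f : A ⟶ B) (Y : Over S) :
    IsPullback (f ▷ Y).left (pullback.fst A.hom Y.hom) (pullback.fst B.hom Y.hom) f.left := by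
  have hr : IsPullback (pullback.snd B.hom Y.hom) (pullback.fst B.hom Y.hom) Y.hom B.hom :=
    (IsPullback.of_hasPullback B.hom Y.hom).flip
  have ho : IsPullback ((f ▷ Y).left ≫ pullback.snd B.hom Y.hom) (pullback.fst A.hom Y.hom)
      Y.hom (f.left ≫ B.hom) := by
    rw [Over.whiskerRight_left_snd, Over.w f]
    exact (IsPullback.of_hasPullback A.hom Y.hom).flip
  exact IsPullback.of_right ho (Over.whiskerRight_left_fst f) hr

open CategoryTheory.Limits in
theorem isPullback_whiskerLeft {S : Scheme.{u}} {A B : Over S} (f : A ⟶ B) (Y : Over S) :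
    IsPullback (Y ◁ f).left (pullback.snd Y.hom A.hom) (pullback.snd Y.hom B.hom) f.left := by
  have hr : IsPullback (pullback.fst Y.hom B.hom) (pullback.snd Y.hom B.hom) Y.hom B.hom :=
    IsPullback.of_hasPullback Y.hom B.hom
  have ho : IsPullback ((Y ◁ f).left ≫ pullback.fst Y.hom B.hom) (pullback.snd Y.hom A.hom)
      Y.hom (f.left ≫ B.hom) := by
    rw [Over.whiskerLeft_left_fst, Over.w f]
    exact IsPullback.of_hasPullback Y.hom A.hom
  exact IsPullback.of_right ho (Over.whiskerLeft_left_snd f) hr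

theorem isQuotientMap_tensor {S : Scheme.{u}} {X Y : Over S} (φ : X ⟶ Y)
    (hsub : GIT.IsUnivSubmersive φ.left) : IsQuotientMap ⇑(φ ⊗ₘ φ).left := by
  have h1 : IsQuotientMap ⇑(φ ▷ X).left := hsub _ _ _ (isPullback_whiskerRight φ X)
  have h2 : IsQuotientMap ⇑(Y ◁ φ).left := hsub _ _ _ (isPullback_whiskerLeft φ Y)
  have e : φ ⊗ₘ φ = (φ ▷ X) ≫ (Y ◁ φ) := tensorHom_def φ φ
  rw [e, Over.comp_left]
  exact h2.comp h1

/-- If (Y, φ) is a geometric quotient of X by G over S, then Y is separated over S exactly when the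
action is separated, i.e. the image of (σ, p₂) : G ×_S X → X ×_S X is closed. -/
theorem result (S : Scheme.{u}) (G X Y : Over S) [GrpObj G]
    (a : AlgGrp.Action G X) (φ : X ⟶ Y) (h : GIT.IsGeomQuot a φ) :
    IsSeparated Y.hom ↔ IsClosed (Set.range (GIT.psi a (𝟙 X)).left.base) := by
  obtain ⟨hinv, hsurj, horbit, hsubm, -⟩ := h
  have hq := isQuotientMap_tensor φ hsubm
  -- the two composites
  have hΦ : GIT.psi a (𝟙 X) = lift a.act (snd G X) := by
    unfold GIT.psi
    rw [MonoidalCategory.whiskerLeft_id, Category.id_comp]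
  have hcomp : lift a.act (snd G X) ≫ (φ ⊗ₘ φ) = (snd G X ≫ φ) ≫ lift (𝟙 Y) (𝟙 Y) := by
    apply CartesianMonoidalCategory.hom_ext
    · rw [Category.assoc, tensorHom_fst, lift_fst_assoc, Category.assoc, lift_fst, Category.comp_id]
      exact hinv
    · rw [Category.assoc, tensorHom_snd, lift_snd_assoc, Category.assoc, lift_snd, Category.comp_id]
  have hrange : Set.range ⇑(GIT.psi a (𝟙 X)).left.base =
      ⇑(φ ⊗ₘ φ).left ⁻¹' Set.range ⇑(lift (𝟙 Y) (𝟙 Y)).left := by
    rw [hΦ]
    apply Set.Subset.antisymm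
    · rintro _ ⟨ξ, rfl⟩
      have := apply_congr' (congrArg Over.Hom.left hcomp) ξ
      simp only [Over.comp_left, Scheme.Hom.comp_apply] at this
      exact ⟨_, this.symm⟩
    · rintro z ⟨y, hy⟩
      obtain ⟨p, hp1, hp2⟩ := Scheme.Pullback.exists_preimage_pullback
        (f := (φ ⊗ₘ φ).left) (g := (lift (𝟙 Y) (𝟙 Y)).left) z y hy.symm
      have hcond := Limits.pullback.condition (f := (φ ⊗ₘ φ).left)
        (g := (lift (𝟙 Y) (𝟙 Y)).left)
      have hd1 : (lift (𝟙 Y) (𝟙 Y)).left ≫ (fst Y Y).left = 𝟙 _ := by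
        rw [← Over.comp_left, lift_fst]; rfl
      have hd2 : (lift (𝟙 Y) (𝟙 Y)).left ≫ (snd Y Y).left = 𝟙 _ := by
        rw [← Over.comp_left, lift_snd]; rfl
      have ht1 : (φ ⊗ₘ φ).left ≫ (fst Y Y).left = (fst X X).left ≫ φ.left := by
        rw [← Over.comp_left, tensorHom_fst, Over.comp_left]
      have ht2 : (φ ⊗ₘ φ).left ≫ (snd Y Y).left = (snd X X).left ≫ φ.left := by
        rw [← Over.comp_left, tensorHom_snd, Over.comp_left]
      have hw1 : Limits.pullback.fst (φ ⊗ₘ φ).left (lift (𝟙 Y) (𝟙 Y)).left ≫ (fst X X).left ≫ φ.left =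
          Limits.pullback.snd (φ ⊗ₘ φ).left (lift (𝟙 Y) (𝟙 Y)).left := by
        rw [← ht1, ← Category.assoc, hcond, Category.assoc, hd1, Category.comp_id]
      have hw2 : Limits.pullback.fst (φ ⊗ₘ φ).left (lift (𝟙 Y) (𝟙 Y)).left ≫ (snd X X).left ≫ φ.left =
          Limits.pullback.snd (φ ⊗ₘ φ).left (lift (𝟙 Y) (𝟙 Y)).left := by
        rw [← ht2, ← Category.assoc, hcond, Category.assoc, hd2, Category.comp_id]
      let r : Limits.pullback (φ ⊗ₘ φ).left (lift (𝟙 Y) (𝟙 Y)).left ⟶ Limits.pullback φ.left φ.left :=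
        Limits.pullback.lift (Limits.pullback.fst _ _ ≫ (fst X X).left)
          (Limits.pullback.fst _ _ ≫ (snd X X).left)
          (by rw [Category.assoc, Category.assoc, hw1, hw2])
      obtain ⟨ξ, hξ⟩ := horbit (r p)
      refine ⟨ξ, ?_⟩
      -- Φ = PsiY ≫ j
      have hfac1 : (lift a.act (snd G X)).left ≫ (fst X X).left =
          GIT.PsiY a φ hinv ≫ Limits.pullback.fst φ.left φ.left := by
        rw [← Over.comp_left, lift_fst]
        exact (Limits.pullback.lift_fst _ _ _).symm
      have hfac2 : (lift a.act (snd G X)).left ≫ (snd X X).left =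
          GIT.PsiY a φ hinv ≫ Limits.pullback.snd φ.left φ.left := by
        rw [← Over.comp_left, lift_snd]
        exact (Limits.pullback.lift_snd _ _ _).symm
      -- compare via a morphism out of the pullback of `PsiY` and `r`
      obtain ⟨w, hw1', hw2'⟩ := Scheme.Pullback.exists_preimage_pullback
        (f := GIT.PsiY a φ hinv) (g := r) ξ p hξ
      have hc2 := Limits.pullback.condition (f := GIT.PsiY a φ hinv) (g := r)
      have key : Limits.pullback.fst (GIT.PsiY a φ hinv) r ≫ (lift a.act (snd G X)).left =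
          Limits.pullback.snd (GIT.PsiY a φ hinv) r ≫
            Limits.pullback.fst (φ ⊗ₘ φ).left (lift (𝟙 Y) (𝟙 Y)).left := by
        refine Limits.pullback.hom_ext (f := X.hom) (g := X.hom) ?_ ?_
        · have e1 : (lift a.act (snd G X)).left ≫ Limits.pullback.fst X.hom X.hom =
              GIT.PsiY a φ hinv ≫ Limits.pullback.fst φ.left φ.left := hfac1
          have e2 : r ≫ Limits.pullback.fst φ.left φ.left =
              Limits.pullback.fst _ _ ≫ (fst X X).left := Limits.pullback.lift_fst _ _ _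
          rw [Category.assoc, e1, ← Category.assoc, hc2, Category.assoc, e2, Category.assoc]
          rfl
        · have e1 : (lift a.act (snd G X)).left ≫ Limits.pullback.snd X.hom X.hom =
              GIT.PsiY a φ hinv ≫ Limits.pullback.snd φ.left φ.left := hfac2
          have e2 : r ≫ Limits.pullback.snd φ.left φ.left =
              Limits.pullback.fst _ _ ≫ (snd X X).left := Limits.pullback.lift_snd _ _ _
          rw [Category.assoc, e1, ← Category.assoc, hc2, Category.assoc, e2, Category.assoc]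
          rfl
      have := apply_congr' key w
      simp only [Scheme.Hom.comp_apply] at this
      rw [hw1', hw2', hp1] at this
      exact this
  have hdiag : Set.range ⇑(lift (𝟙 Y) (𝟙 Y)).left =
      Set.range ⇑(Limits.pullback.diagonal Y.hom) := rfl
  rw [hrange]
  constructor
  · intro hsep
    have hcl : IsClosed (Set.range ⇑(Limits.pullback.diagonal Y.hom)) :=
      (Limits.pullback.diagonal Y.hom).isClosedEmbedding.isClosed_range
    rw [hdiag]
    exact hcl.preimage (φ ⊗ₘ φ).left.continuous
  · intro hcl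
    rw [hq.isClosed_preimage, hdiag] at hcl
    exact ⟨IsClosedImmersion.of_isPreimmersion _ hcl⟩

end Groth.Agent.S11428
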