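import Groth.Statements.S11441


set_option autoImplicit false
universe u
open CategoryTheory MonoidalCategory CartesianMonoidalCategory MonObj GrpObj AlgebraicGeometry Topology
open GIT

namespace Groth.Agent.S11441

theorem apply_congr' {X Y : Scheme.{u}} {f g : X ⟶ Y} (h : f = g) (z : X) : f z = g z := by rw [h]

/-- a section over the spectrum of a field has closed range -/
theorem isClosed_range_section {W T' : Scheme.{u}} (q : W ⟶ T') (s : T' ⟶ W) (hs : s ≫ q = 𝟙 T')
    (Ω : Type u) [Field Ω] (e : T' ≅ Spec (CommRingCat.of Ω)) : IsClosed (Set.range ⇑s) := by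
  haveI hsub : Subsingleton ↥T' := by
    haveI : Subsingleton ↥(Spec (CommRingCat.of Ω)) :=
      inferInstanceAs (Subsingleton (PrimeSpectrum Ω))
    exact e.hom.homeomorph.injective.subsingleton
  let t₀ : ↥T' := e.inv (IsLocalRing.closedPoint Ω)
  have hrange : Set.range ⇑s = {s t₀} := by
    ext w; constructor
    · rintro ⟨t, rfl⟩
      rw [Subsingleton.elim t t₀]; rfl
    · rintro rfl
      exact ⟨t₀, rfl⟩
  rw [hrange, ← closure_subset_iff_isClosed]
  intro y' hy'
  have hspec : s t₀ ⤳ y' := specializes_iff_mem_closure.mpr hy'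
  obtain ⟨V, hV, hyV, -⟩ := exists_isAffineOpen_mem_and_subset (x := y') (U := ⊤) trivial
  have h0V : s t₀ ∈ V := hspec.mem_open V.isOpen hyV
  have hsub' : Set.range ⇑s ⊆ Set.range ⇑V.ι := by
    rw [hrange, Scheme.Opens.range_ι]
    exact Set.singleton_subset_iff.mpr h0V
  let s' : T' ⟶ V.toScheme := IsOpenImmersion.lift V.ι s hsub'
  have hs' : s' ≫ V.ι = s := IsOpenImmersion.lift_fac _ _ _
  let g : Spec (CommRingCat.of Ω) ⟶ Spec Γ(W, V) := e.inv ≫ s' ≫ hV.isoSpec.hom
  let q' : Spec Γ(W, V) ⟶ Spec (CommRingCat.of Ω) := hV.isoSpec.inv ≫ V.ι ≫ q ≫ e.hom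
  have hgq : g ≫ q' = 𝟙 _ := by
    show (e.inv ≫ s' ≫ hV.isoSpec.hom) ≫ hV.isoSpec.inv ≫ V.ι ≫ q ≫ e.hom = 𝟙 _
    simp only [Category.assoc, Iso.hom_inv_id_assoc]
    rw [← Category.assoc s', hs', ← Category.assoc s, hs, Category.id_comp, Iso.inv_hom_id]
  obtain ⟨β, hβ⟩ := Spec.map_surjective g
  obtain ⟨α, hα⟩ := Spec.map_surjective q'
  have hαβ : α ≫ β = 𝟙 _ := by
    apply Spec.map_injective
    rw [Spec.map_comp, hβ, hα, hgq, Spec.map_id]
  have hβs : Function.Surjective β := by
    intro x
    refine ⟨α x, ?_⟩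
    have := congrArg (fun h : CommRingCat.of Ω ⟶ CommRingCat.of Ω => h x) hαβ
    simpa using this
  haveI : IsClosedImmersion g := by
    rw [← hβ]; exact IsClosedImmersion.spec_of_surjective β hβs
  have hgcl : IsClosed (Set.range ⇑g) := g.isClosedEmbedding.isClosed_range
  -- transfer to `V`
  obtain ⟨v', hv'⟩ : y' ∈ Set.range ⇑V.ι := by rw [Scheme.Opens.range_ι]; exact hyV
  have hv₀ : V.ι (s' t₀) = s t₀ := by
    have := apply_congr' hs' t₀
    simpa only [Scheme.Hom.comp_apply] using this
  have hcl2 : IsClosed ({s' t₀} : Set ↥V.toScheme) := by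
    have hh : ({s' t₀} : Set ↥V.toScheme) = ⇑hV.isoSpec.hom ⁻¹' Set.range ⇑g := by
      ext v; constructor
      · rintro rfl
        refine ⟨e.hom t₀, ?_⟩
        show hV.isoSpec.hom (s' (e.inv (e.hom t₀))) = _
        rw [Subsingleton.elim (e.inv (e.hom t₀)) t₀]
      · rintro ⟨r, hr⟩
        have h1 : hV.isoSpec.hom (s' (e.inv r)) = hV.isoSpec.hom v := hr
        have h2 := hV.isoSpec.hom.homeomorph.injective h1
        rw [Subsingleton.elim (e.inv r) t₀] at h2
        exact h2.symm
    rw [hh]
    exact hgcl.preimage hV.isoSpec.hom.continuous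
  have hv'cl : v' ∈ closure ({s' t₀} : Set ↥V.toScheme) := by
    rw [V.ι.isOpenEmbedding.isEmbedding.isInducing.closure_eq_preimage_closure_image,
      Set.image_singleton]
    show V.ι v' ∈ closure {V.ι (s' t₀)}
    rw [hv', hv₀]
    exact hy'
  rw [hcl2.closure_eq] at hv'cl
  rw [← hv', Set.mem_singleton_iff.mp hv'cl, hv₀]
  exact Set.mem_singleton _

/-- If a geometric quotient of X by G over S exists, then the action of G on X is closed (orbits of
geometric points are closed in the geometric fibres). -/
theorem result (S : Scheme.{u}) (G X Y : Over S) [GrpObj G]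
    (a : AlgGrp.Action G X) (φ : X ⟶ Y) (h : GIT.IsGeomQuot a φ) : GIT.IsClosedAction a := by
  obtain ⟨hinv, hsurj, horbit, hsubm, -⟩ := h
  intro Ω _ _ T e f
  let yT : T ⟶ Y ⊗ T := lift (f ≫ φ) (𝟙 T)
  have hycl : IsClosed (Set.range ⇑yT.left) := by
    refine isClosed_range_section (snd Y T).left yT.left ?_ Ω e
    rw [← Over.comp_left, lift_snd]; rfl
  have hcomp : GIT.psi a f ≫ (φ ▷ T) = snd G T ≫ yT := by
    unfold GIT.psi
    apply CartesianMonoidalCategory.hom_ext
    · rw [Category.assoc, whiskerRight_fst, lift_fst_assoc, Category.assoc, hinv,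
        whiskerLeft_snd_assoc, Category.assoc, lift_fst]
    · rw [Category.assoc, whiskerRight_snd, lift_snd, Category.assoc, lift_snd, Category.comp_id]
  have hrange : Set.range ⇑(GIT.psi a f).left.base = ⇑(φ ▷ T).left ⁻¹' Set.range ⇑yT.left := by
    apply Set.Subset.antisymm
    · rintro _ ⟨ξ, rfl⟩
      have := apply_congr' (congrArg Over.Hom.left hcomp) ξ
      simp only [Over.comp_left, Scheme.Hom.comp_apply] at this
      exact ⟨_, this.symm⟩
    · rintro z ⟨t, ht⟩
      obtain ⟨p, hp1, hp2⟩ := Scheme.Pullback.exists_preimage_pullback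
        (f := (φ ▷ T).left) (g := yT.left) z t ht.symm
      have hcond := Limits.pullback.condition (f := (φ ▷ T).left) (g := yT.left)
      have hy1 : yT.left ≫ (fst Y T).left = f.left ≫ φ.left := by
        rw [← Over.comp_left, lift_fst, Over.comp_left]
      have hy2 : yT.left ≫ (snd Y T).left = 𝟙 _ := by
        rw [← Over.comp_left, lift_snd]; rfl
      have ht1 : (φ ▷ T).left ≫ (fst Y T).left = (fst X T).left ≫ φ.left := by
        rw [← Over.comp_left, whiskerRight_fst, Over.comp_left]
      have ht2 : (φ ▷ T).left ≫ (snd Y T).left = (snd X T).left := by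
        rw [← Over.comp_left, whiskerRight_snd]
      have hw1 : Limits.pullback.fst (φ ▷ T).left yT.left ≫ (fst X T).left ≫ φ.left =
          Limits.pullback.snd (φ ▷ T).left yT.left ≫ f.left ≫ φ.left := by
        rw [← ht1, ← Category.assoc, hcond, Category.assoc, hy1]
      have hw2 : Limits.pullback.fst (φ ▷ T).left yT.left ≫ (snd X T).left =
          Limits.pullback.snd (φ ▷ T).left yT.left := by
        rw [← ht2, ← Category.assoc, hcond, Category.assoc, hy2, Category.comp_id]
      let r : Limits.pullback (φ ▷ T).left yT.left ⟶ Limits.pullback φ.left φ.left :=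
        Limits.pullback.lift (Limits.pullback.fst _ _ ≫ (fst X T).left)
          (Limits.pullback.snd _ _ ≫ f.left)
          (by rw [Category.assoc, Category.assoc, hw1])
      have hr1 : r ≫ Limits.pullback.fst φ.left φ.left =
          Limits.pullback.fst _ _ ≫ (fst X T).left := Limits.pullback.lift_fst _ _ _
      have hr2 : r ≫ Limits.pullback.snd φ.left φ.left =
          Limits.pullback.snd _ _ ≫ f.left := Limits.pullback.lift_snd _ _ _
      obtain ⟨ξ, hξ⟩ := horbit (r p)
      obtain ⟨w, hw1', hw2'⟩ := Scheme.Pullback.exists_preimage_pullback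
        (f := GIT.PsiY a φ hinv) (g := r) ξ p hξ
      have hc2 := Limits.pullback.condition (f := GIT.PsiY a φ hinv) (g := r)
      have hP1 : GIT.PsiY a φ hinv ≫ Limits.pullback.fst φ.left φ.left = a.act.left :=
        Limits.pullback.lift_fst _ _ _
      have hP2 : GIT.PsiY a φ hinv ≫ Limits.pullback.snd φ.left φ.left = (snd G X).left :=
        Limits.pullback.lift_snd _ _ _
      -- q1 ≫ snd = q2 ≫ psnd ≫ f
      have hq1snd : Limits.pullback.fst (GIT.PsiY a φ hinv) r ≫ (snd G X).left =
          Limits.pullback.snd (GIT.PsiY a φ hinv) r ≫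
            Limits.pullback.snd (φ ▷ T).left yT.left ≫ f.left := by
        rw [← hP2, ← Category.assoc, hc2, Category.assoc, hr2]
      have hq1act : Limits.pullback.fst (GIT.PsiY a φ hinv) r ≫ a.act.left =
          Limits.pullback.snd (GIT.PsiY a φ hinv) r ≫
            Limits.pullback.fst (φ ▷ T).left yT.left ≫ (fst X T).left := by
        rw [← hP1, ← Category.assoc, hc2, Category.assoc, hr1]
      have hmw : (Limits.pullback.fst (GIT.PsiY a φ hinv) r ≫ (fst G X).left) ≫ G.hom =
          (Limits.pullback.snd (GIT.PsiY a φ hinv) r ≫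
            Limits.pullback.snd (φ ▷ T).left yT.left) ≫ T.hom := by
        rw [Category.assoc, Over.w (fst G X), ← Over.w (snd G X), ← Category.assoc, hq1snd,
          Category.assoc, Category.assoc, Category.assoc, Over.w f]
      let m : Limits.pullback (GIT.PsiY a φ hinv) r ⟶ (G ⊗ T).left :=
        Limits.pullback.lift (Limits.pullback.fst _ _ ≫ (fst G X).left)
          (Limits.pullback.snd _ _ ≫ Limits.pullback.snd _ _) hmw
      have hm1 : m ≫ (fst G T).left = Limits.pullback.fst _ _ ≫ (fst G X).left :=
        Limits.pullback.lift_fst _ _ _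
      have hm2 : m ≫ (snd G T).left =
          Limits.pullback.snd _ _ ≫ Limits.pullback.snd (φ ▷ T).left yT.left :=
        Limits.pullback.lift_snd _ _ _
      have hmG : m ≫ (G ◁ f).left = Limits.pullback.fst (GIT.PsiY a φ hinv) r := by
        refine Limits.pullback.hom_ext (f := G.hom) (g := X.hom) ?_ ?_
        · have e1 : (G ◁ f).left ≫ Limits.pullback.fst G.hom X.hom = (fst G T).left :=
            Over.whiskerLeft_left_fst f
          rw [Category.assoc, e1, hm1]
          rfl
        · have e1 : (G ◁ f).left ≫ Limits.pullback.snd G.hom X.hom = (snd G T).left ≫ f.left :=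
            Over.whiskerLeft_left_snd f
          rw [Category.assoc, e1, ← Category.assoc, hm2, Category.assoc]
          exact hq1snd.symm
      have hpsi1 : (GIT.psi a f).left ≫ (fst X T).left = (G ◁ f).left ≫ a.act.left := by
        unfold GIT.psi
        rw [← Over.comp_left, lift_fst, Over.comp_left]
      have hpsi2 : (GIT.psi a f).left ≫ (snd X T).left = (snd G T).left := by
        unfold GIT.psi
        rw [← Over.comp_left, lift_snd]
      have key : m ≫ (GIT.psi a f).left =
          Limits.pullback.snd (GIT.PsiY a φ hinv) r ≫ Limits.pullback.fst (φ ▷ T).left yT.left := by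
        refine Limits.pullback.hom_ext (f := X.hom) (g := T.hom) ?_ ?_
        · have e1 : (GIT.psi a f).left ≫ Limits.pullback.fst X.hom T.hom =
              (G ◁ f).left ≫ a.act.left := hpsi1
          rw [Category.assoc, e1, ← Category.assoc, hmG, hq1act, Category.assoc]
          rfl
        · have e1 : (GIT.psi a f).left ≫ Limits.pullback.snd X.hom T.hom = (snd G T).left := hpsi2
          have e2 : Limits.pullback.fst (φ ▷ T).left yT.left ≫ Limits.pullback.snd X.hom T.hom =
              Limits.pullback.snd (φ ▷ T).left yT.left := hw2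
          rw [Category.assoc, e1, hm2, Category.assoc, e2]
      refine ⟨m w, ?_⟩
      have := apply_congr' key w
      simp only [Scheme.Hom.comp_apply] at this
      rw [hw2', hp1] at this
      exact this
  rw [hrange]
  exact hycl.preimage (φ ▷ T).left.continuous

end Groth.Agent.S11441
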