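import Groth.Statements.S11451
import Mathlib
import Groth.Agent.Lib.Helper7.LiftReg
import Groth.Agent.Lib.Helper21.KaehlerRank
import Groth.Agent.Lib.Helper21.CohenStructF

set_option autoImplicit false
universe u
open DefT

namespace Groth.Agent.S11451

/-- Let k be an algebraically closed field and A a local k-algebra essentially of finite type over k
with residue field k. Then regularity of A as a local ring is equivalent to the following: for every
local k-algebra B' of finite dimension over k, every ideal J of B' of square zero and every
k-algebra homomorphism f : A → B'/J, there is a k-algebra homomorphism g : A → B' lifting f. (Local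
k-algebras of finite k-dimension are exactly the local Artin rings finite over k; lifting against
square-zero kernels is equivalent to lifting against nilpotent ones by induction.) -/
theorem result (k : Type u) [Field k] [IsAlgClosed k]
    (A : Type u) [CommRing A] [IsLocalRing A] [Algebra k A] [Algebra.EssFiniteType k A]
    (hres : Function.Surjective (algebraMap k (IsLocalRing.ResidueField A))) :
    IsRegularLocalRing A ↔
      ∀ (B' : Type u) [CommRing B'] [IsLocalRing B'] [Algebra k B'] [Module.Finite k B']
        (J : Ideal B'), J ^ 2 = ⊥ → ∀ f : A →ₐ[k] B' ⧸ J,
          ∃ g : A →ₐ[k] B', (Ideal.Quotient.mkₐ k J).comp g = f := by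
  haveI : IsNoetherianRing A := Algebra.EssFiniteType.isNoetherianRing k A
  constructor
  · intro hreg B' _ _ _ _ J hJ f
    haveI : Algebra.FormallySmooth k A :=
      Groth.Agent.Lib.Helper21.KaehlerRank.formallySmooth_of_isRegularLocalRing k A
        ⟨(algebraMap k (IsLocalRing.ResidueField A)).injective, hres⟩ hreg
    exact Algebra.FormallySmooth.comp_surjective k A J hJ f
  · intro h
    exact (Groth.Agent.Lib.Helper21.CohenStruct.regular_of_isAdicFormallySmooth k A
      (Groth.Agent.Lib.Helper7.LiftReg.isAdicFormallySmooth_of_lifting hres h)).1

end Groth.Agent.S11451
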