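import Groth.Statements.S13133
import Groth.Agent.Lib.Helper9.NilpFlat

set_option autoImplicit false
universe u v
open CAlg

namespace Groth.Agent.S13133


open Groth.Agent.Lib.Helper9 RingTheory.Sequence

/-- Let A' be an Artinian local ring, I a proper ideal of A', S' a flat A'-algebra and f'_1, …, f'_n
elements of S' with n ≥ 1. A family f'_1, …, f'_n in S' is a regular sequence exactly when its
reduction modulo I·S' is a regular sequence of S'/IS'. (Regular sequences are defined in the
published text over Noetherian rings; this row does not assume S' Noetherian, which the argument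
does not use. The published statement is for a surjection of local Artinian algebras with a fixed
residue field over a ring of Witt vectors; only the Artinian local base and the proper ideal are
used, which is the form taken here.) -/
theorem result
    {A' : Type u} [CommRing A'] [IsArtinianRing A'] [IsLocalRing A'] (I : Ideal A') (hI : I ≠ ⊤)
    {S' : Type v} [CommRing S'] [Algebra A' S'] [Module.Flat A' S'] {n : ℕ} (hn : 1 ≤ n)
    (f' : Fin n → S') :
    RingTheory.Sequence.IsRegular S' (List.ofFn f') ↔
      RingTheory.Sequence.IsRegular (S' ⧸ I.map (algebraMap A' S'))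
        (List.ofFn fun i => Ideal.Quotient.mk (I.map (algebraMap A' S')) (f' i)) := by
  have hnil : IsNilpotent (IsLocalRing.maximalIdeal A') := by
    rw [← IsLocalRing.jacobson_eq_maximalIdeal ⊥ bot_ne_top]
    exact IsArtinianRing.isNilpotent_jacobson_bot
  have hle : I ≤ IsLocalRing.maximalIdeal A' := IsLocalRing.le_maximalIdeal hI
  have hInil : IsNilpotent I := by
    obtain ⟨k, hk⟩ := hnil
    refine ⟨k, ?_⟩
    have h1 := Ideal.pow_right_mono hle k
    rw [hk] at h1
    exact le_bot_iff.mp h1
  have hlist : (List.ofFn fun i => Ideal.Quotient.mk (I.map (algebraMap A' S')) (f' i)) =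
      (List.ofFn f').map (algebraMap S' (S' ⧸ I.map (algebraMap A' S'))) := by
    rw [List.map_ofFn]
    rfl
  rw [hlist]
  obtain ⟨hR1, -⟩ := NilpFlat.weaklyRegular_iff_and_flat hnil I hI (List.ofFn f') S'
  have hIStop : (I.map (algebraMap A' S')) • (⊤ : Submodule S' S') = I.map (algebraMap A' S') := by
    rw [Ideal.smul_eq_mul, Ideal.mul_top]
  have hW : IsWeaklyRegular S' (List.ofFn f') ↔
      IsWeaklyRegular (S' ⧸ I.map (algebraMap A' S'))
        ((List.ofFn f').map (algebraMap S' (S' ⧸ I.map (algebraMap A' S')))) := by
    rw [hR1, isWeaklyRegular_map_algebraMap_iff]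
    exact (Submodule.quotEquivOfEq _ _ hIStop).isWeaklyRegular_congr (List.ofFn f')
  have hNT : ∀ J : Ideal S', J.map (algebraMap S' (S' ⧸ I.map (algebraMap A' S'))) = ⊤ → J = ⊤ := by
    intro J hJ
    rw [Ideal.Quotient.algebraMap_eq] at hJ
    have hsup : J ⊔ I.map (algebraMap A' S') = ⊤ := by
      have h := Ideal.comap_map_of_surjective (Ideal.Quotient.mk (I.map (algebraMap A' S')))
        Ideal.Quotient.mk_surjective J
      rw [hJ, Ideal.comap_top, ← RingHom.ker_eq_comap_bot, Ideal.mk_ker] at h
      exact h.symm
    have hall : ∀ c : S' ⧸ J, c ∈ I • (⊤ : Submodule A' (S' ⧸ J)) := by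
      intro c
      obtain ⟨s, rfl⟩ := Ideal.Quotient.mk_surjective c
      have h1 : (1 : S') ∈ J ⊔ I.map (algebraMap A' S') := by rw [hsup]; trivial
      obtain ⟨a, ha, b, hb, hab⟩ := Submodule.mem_sup.mp h1
      have h2 : Ideal.Quotient.mk J s = Ideal.Quotient.mk J (s * b) := by
        rw [Ideal.Quotient.eq]
        have h3 : s - s * b = s * a := by
          calc s - s * b = s * (a + b) - s * b := by rw [hab, mul_one]
            _ = s * a := by ring
        rw [h3]
        exact J.mul_mem_left s ha
      rw [h2]
      have hb' : s * b ∈ I • (⊤ : Submodule A' S') := by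
        rw [Ideal.smul_top_eq_map, Submodule.restrictScalars_mem]
        exact (I.map (algebraMap A' S')).mul_mem_left s hb
      have h3 := Submodule.mem_map_of_mem (f := (Ideal.Quotient.mkₐ A' J).toLinearMap) hb'
      rw [Submodule.map_smul''] at h3
      exact Submodule.smul_mono le_rfl le_top h3
    have := NilpFlat.eq_zero_of_forall_mem_smul I hInil (S' ⧸ J) hall (Ideal.Quotient.mk J 1)
    rw [Ideal.Quotient.eq_zero_iff_mem] at this
    exact (Ideal.eq_top_iff_one J).mpr this
  rw [isRegular_iff, isRegular_iff, hW]
  apply and_congr_right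
  intro _
  rw [Ideal.smul_eq_mul, Ideal.mul_top, Ideal.smul_eq_mul, Ideal.mul_top, ← Ideal.map_ofList]
  constructor
  · intro h h'
    exact h (hNT _ h'.symm).symm
  · intro h h'
    apply h
    rw [← h', Ideal.map_top]

end Groth.Agent.S13133
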