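import Groth.Statements.S11456
import Mathlib
import Groth.Agent.Lib.Helper7.FlatLift
import Groth.Agent.S13133

set_option autoImplicit false
universe u
open DefT

namespace Groth.Agent.S11456

/-- Let C be a local Artin ring with maximal ideal m, A a flat C-algebra such that A₀ = A/mA is a
Cohen–Macaulay local ring, and I ⊆ A an ideal with A/I flat over C whose image in A₀ is generated by
a regular sequence b_1, …, b_r on A₀. Then I is generated by r elements a_1, …, a_r forming a
regular sequence on A (so the Koszul complex on the a_i resolves A/I). -/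
theorem result (C : Type u) [CommRing C]
    [IsLocalRing C] [IsArtinianRing C] (A : Type u) [CommRing A] [Algebra C A] [Module.Flat C A]
    [LocCoh.IsCohenMacaulayLocalRing (A ⧸ (IsLocalRing.maximalIdeal C).map (algebraMap C A))]
    (I : Ideal A) [Module.Flat C (A ⧸ I)] (r : ℕ)
    (b : Fin r → A ⧸ (IsLocalRing.maximalIdeal C).map (algebraMap C A))
    (hb : RingTheory.Sequence.IsRegular (A ⧸ (IsLocalRing.maximalIdeal C).map (algebraMap C A)) (List.ofFn b))
    (hI : I.map (Ideal.Quotient.mk ((IsLocalRing.maximalIdeal C).map (algebraMap C A))) = Ideal.span (Set.range b)) :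
    ∃ a : Fin r → A, RingTheory.Sequence.IsRegular A (List.ofFn a) ∧ I = Ideal.span (Set.range a) := by
  classical
  have hnil : IsNilpotent (IsLocalRing.maximalIdeal C) := by
    rw [← IsLocalRing.jacobson_eq_maximalIdeal ⊥ bot_ne_top]
    exact IsArtinianRing.isNilpotent_jacobson_bot
  have hmem : ∀ i, ∃ x ∈ I,
      Ideal.Quotient.mk ((IsLocalRing.maximalIdeal C).map (algebraMap C A)) x = b i := by
    intro i
    have h1 : b i ∈ I.map (Ideal.Quotient.mk ((IsLocalRing.maximalIdeal C).map (algebraMap C A))) := by
      rw [hI]
      exact Ideal.subset_span ⟨i, rfl⟩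
    exact (Ideal.mem_map_iff_of_surjective _ Ideal.Quotient.mk_surjective).mp h1
  choose a haI ha using hmem
  have hfun : (fun i => Ideal.Quotient.mk ((IsLocalRing.maximalIdeal C).map (algebraMap C A)) (a i)) = b :=
    funext ha
  refine ⟨a, ?_, ?_⟩
  · rcases Nat.eq_zero_or_pos r with hr | hr
    · subst hr
      haveI : Nontrivial A := by
        by_contra hne
        rw [not_nontrivial_iff_subsingleton] at hne
        exact hb.top_ne_smul (Subsingleton.elim _ _)
      rw [List.ofFn_zero]
      exact RingTheory.Sequence.IsRegular.nil A A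
    · rw [Groth.Agent.S13133.result (IsLocalRing.maximalIdeal C)
        (Ideal.IsMaximal.ne_top inferInstance) hr a, hfun]
      exact hb
  · have hKI : Ideal.span (Set.range a) ≤ I := by
      rw [Ideal.span_le]
      rintro _ ⟨i, rfl⟩
      exact haI i
    apply le_antisymm _ hKI
    apply Groth.Agent.Lib.Helper7.FlatLift.le_of_nilpotent (IsLocalRing.maximalIdeal C) hnil I _ hKI
    rw [hI, Ideal.map_span, ← Set.range_comp]
    have hfun' : (⇑(Ideal.Quotient.mk ((IsLocalRing.maximalIdeal C).map (algebraMap C A))) ∘ a) = b :=
      funext ha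
    rw [hfun']

end Groth.Agent.S11456
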