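import Groth.Statements.S11461
import Mathlib

set_option autoImplicit false
universe u
open CategoryTheory
open DefT

namespace Groth.Agent.S11461

variable {B : Type u} [CommRing B]

/-- semi-exactness: if the outer terms are killed, so is the middle one -/
lemma isZero_mid (F : ModuleCat.{u} B ⥤ ModuleCat.{u} B) [F.Additive]
    (hex : ∀ S : ShortComplex (ModuleCat.{u} B), S.ShortExact → Module.Finite B S.X₂ → (S.map F).Exact)
    (N₁ N₂ N₃ : Type u) [AddCommGroup N₁] [Module B N₁] [AddCommGroup N₂] [Module B N₂]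
    [Module.Finite B N₂] [AddCommGroup N₃] [Module B N₃] (f : N₁ →ₗ[B] N₂) (g : N₂ →ₗ[B] N₃)
    (hf : Function.Injective f) (hg : Function.Surjective g) (hfg : Function.Exact f g)
    (h1 : Limits.IsZero (F.obj (ModuleCat.of B N₁))) (h3 : Limits.IsZero (F.obj (ModuleCat.of B N₃))) :
    Limits.IsZero (F.obj (ModuleCat.of B N₂)) := by
  let S : ShortComplex (ModuleCat.{u} B) :=
    ShortComplex.mk (ModuleCat.ofHom f) (ModuleCat.ofHom g)
      (by ext x; exact hfg.apply_apply_eq_zero x)
  have hS : S.ShortExact := by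
    have : Mono S.f := (ModuleCat.mono_iff_injective _).2 hf
    have : Epi S.g := (ModuleCat.epi_iff_surjective _).2 hg
    exact ShortComplex.ShortExact.mk'
      ((ShortComplex.ShortExact.moduleCat_exact_iff_function_exact S).2 hfg) ‹_› ‹_›
  have hF := hex S hS ‹_›
  exact hF.isZero_of_both_zeros (h1.eq_of_src _ _) (h3.eq_of_tgt _ _)

lemma isZero_of_le_annihilator [IsNoetherianRing B] (F : ModuleCat.{u} B ⥤ ModuleCat.{u} B)
    [F.Additive]
    (hex : ∀ S : ShortComplex (ModuleCat.{u} B), S.ShortExact → Module.Finite B S.X₂ → (S.map F).Exact)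
    (I : Ideal B)
    (hI : ∀ q : Ideal B, q.IsPrime → I ≤ q → Limits.IsZero (F.obj (ModuleCat.of B (B ⧸ q))))
    (N : Type u) [AddCommGroup N] [Module B N] (hN : Module.Finite B N)
    (hann : I ≤ Module.annihilator B N) :
    Limits.IsZero (F.obj (ModuleCat.of B N)) := by
  revert hann
  refine IsNoetherianRing.induction_on_isQuotientEquivQuotientPrime B hN
    (motive := fun N _ _ _ => I ≤ Module.annihilator B N →
      Limits.IsZero (F.obj (ModuleCat.of B N))) ?_ ?_ ?_
  · intro N _ _ _ _ _
    exact F.map_isZero (ModuleCat.isZero_of_subsingleton _)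
  · intro N _ _ _ q e hle
    have h1 : Module.annihilator B N = q.asIdeal := by
      rw [e.annihilator_eq, Ideal.annihilator_quotient]
    rw [h1] at hle
    exact (hI q.asIdeal q.isPrime hle).of_iso (F.mapIso e.toModuleIso)
  · intro N₁ _ _ _ N₂ _ _ _ N₃ _ _ _ f g hf hg hfg h1 h3 hle
    exact isZero_mid F hex N₁ N₂ N₃ f g hf hg hfg
      (h1 (hle.trans (LinearMap.annihilator_le_of_injective f hf)))
      (h3 (hle.trans (LinearMap.annihilator_le_of_surjective g hg)))

lemma isZero_quotient_prime [IsNoetherianRing B] (F : ModuleCat.{u} B ⥤ ModuleCat.{u} B)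
    [F.Additive] [F.Linear B]
    (hfg : ∀ M : ModuleCat.{u} B, Module.Finite B M → Module.Finite B (F.obj M))
    (hex : ∀ S : ShortComplex (ModuleCat.{u} B), S.ShortExact → Module.Finite B S.X₂ → (S.map F).Exact)
    (h0 : ∀ m : Ideal B, m.IsMaximal → Limits.IsZero (F.obj (ModuleCat.of B (B ⧸ m))))
    (p : Ideal B) (hp : p.IsPrime) : Limits.IsZero (F.obj (ModuleCat.of B (B ⧸ p))) := by
  induction p using WellFoundedGT.induction with
  | ind p ih =>
  by_cases hmax : p.IsMaximal
  · exact h0 p hmax
  have hfin : Module.Finite B (F.obj (ModuleCat.of B (B ⧸ p))) :=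
    hfg _ (inferInstanceAs (Module.Finite B (B ⧸ p)))
  -- `p` kills `F (B/p)`
  have hsmul : ∀ (t : B) (x : F.obj (ModuleCat.of B (B ⧸ p))),
      (F.map (t • 𝟙 (ModuleCat.of B (B ⧸ p)))).hom x = t • x := by
    intro t x
    rw [F.map_smul, F.map_id]
    rfl
  have hple : p ≤ Module.annihilator B (F.obj (ModuleCat.of B (B ⧸ p))) := by
    intro s hs
    rw [Module.mem_annihilator]
    intro x
    rw [← hsmul]
    have : s • 𝟙 (ModuleCat.of B (B ⧸ p)) = 0 := by
      apply ModuleCat.hom_ext
      apply LinearMap.ext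
      intro y
      obtain ⟨b, rfl⟩ := Ideal.Quotient.mk_surjective y
      show s • (Ideal.Quotient.mk p b) = 0
      rw [← Ideal.Quotient.mk_eq_mk, ← Submodule.Quotient.mk_smul, Submodule.Quotient.mk_eq_zero]
      exact p.mul_mem_right _ hs
    rw [this, F.map_zero]
    rfl
  suffices htop : Module.annihilator B (F.obj (ModuleCat.of B (B ⧸ p))) = ⊤ by
    have := Module.annihilator_eq_top_iff.1 htop
    exact ModuleCat.isZero_of_subsingleton _
  by_contra hne
  obtain ⟨m, hm, hle⟩ := Ideal.exists_le_maximal _ hne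
  have hpm : p ≠ m := fun h => hmax (h ▸ hm)
  have hlt : p < m := lt_of_le_of_ne (hple.trans hle) hpm
  obtain ⟨t, htm, htp⟩ := Set.exists_of_ssubset hlt
  -- the short exact sequence `0 → B/p → B/p → B/(p + t) → 0`
  let I : Ideal B := p ⊔ Ideal.span {t}
  have hpI : p ≤ I := le_sup_left
  let f : (B ⧸ p) →ₗ[B] (B ⧸ p) := t • LinearMap.id
  let g : (B ⧸ p) →ₗ[B] (B ⧸ I) := Submodule.factor hpI
  have hf : Function.Injective f := by
    rw [injective_iff_map_eq_zero]
    intro y hy
    obtain ⟨b, rfl⟩ := Ideal.Quotient.mk_surjective y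
    have h1 : Ideal.Quotient.mk p (t * b) = 0 := hy
    rw [Ideal.Quotient.eq_zero_iff_mem] at h1 ⊢
    exact (hp.mem_or_mem h1).resolve_left htp
  have hg : Function.Surjective g := Submodule.factor_surjective hpI
  have hfg' : Function.Exact f g := by
    intro y
    obtain ⟨b, rfl⟩ := Ideal.Quotient.mk_surjective y
    constructor
    · intro hy
      have h1 : Ideal.Quotient.mk I b = 0 := hy
      rw [Ideal.Quotient.eq_zero_iff_mem] at h1
      obtain ⟨u, hu, v, hv, rfl⟩ := Submodule.mem_sup.1 h1
      obtain ⟨c, rfl⟩ := Ideal.mem_span_singleton'.1 hv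
      refine ⟨Ideal.Quotient.mk p c, ?_⟩
      show t • (Ideal.Quotient.mk p c) = Ideal.Quotient.mk p (u + c * t)
      rw [map_add, Ideal.Quotient.eq_zero_iff_mem.2 hu, zero_add, mul_comm, map_mul]
      rfl
    · rintro ⟨z, hz⟩
      obtain ⟨c, rfl⟩ := Ideal.Quotient.mk_surjective z
      have h1 : Ideal.Quotient.mk p (t * c) = Ideal.Quotient.mk p b := hz
      show Ideal.Quotient.mk I b = 0
      rw [Ideal.Quotient.eq_zero_iff_mem]
      have h2 : t * c - b ∈ p := by
        rw [← Ideal.Quotient.eq_zero_iff_mem, map_sub, h1, sub_self]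
      have h3 : b = t * c - (t * c - b) := by ring
      rw [h3]
      exact I.sub_mem (Ideal.mul_mem_right _ _ (Ideal.mem_sup_right (Ideal.mem_span_singleton_self t)))
        (hpI h2)
  have h3 : Limits.IsZero (F.obj (ModuleCat.of B (B ⧸ I))) := by
    apply isZero_of_le_annihilator F hex I _ (B ⧸ I) inferInstance
    · rw [Ideal.annihilator_quotient]
    · intro q hq hIq
      apply ih q _ hq
      refine lt_of_le_of_ne (hpI.trans hIq) ?_
      rintro rfl
      exact htp (hIq (Ideal.mem_sup_right (Ideal.mem_span_singleton_self t)))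
  -- hence multiplication by `t` is surjective on `F (B/p)`
  let S : ShortComplex (ModuleCat.{u} B) :=
    ShortComplex.mk (ModuleCat.ofHom f) (ModuleCat.ofHom g)
      (ModuleCat.hom_ext (LinearMap.ext fun x => hfg'.apply_apply_eq_zero x))
  have hS : S.ShortExact := by
    have : Mono S.f := (ModuleCat.mono_iff_injective _).2 hf
    have : Epi S.g := (ModuleCat.epi_iff_surjective _).2 hg
    exact ShortComplex.ShortExact.mk'
      ((ShortComplex.ShortExact.moduleCat_exact_iff_function_exact S).2 hfg') ‹_› ‹_›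
  have hF := hex S hS (inferInstanceAs (Module.Finite B (B ⧸ p)))
  have hepi : Epi (F.map (ModuleCat.ofHom f)) :=
    hF.epi_f (h3.eq_of_tgt _ _)
  have hsurj : Function.Surjective (F.map (ModuleCat.ofHom f)).hom :=
    (ModuleCat.epi_iff_surjective _).1 hepi
  have hft : ModuleCat.ofHom f = t • 𝟙 (ModuleCat.of B (B ⧸ p)) := rfl
  have hle2 : (⊤ : Submodule B (F.obj (ModuleCat.of B (B ⧸ p)))) ≤
      Ideal.span {t} • (⊤ : Submodule B (F.obj (ModuleCat.of B (B ⧸ p)))) := by
    intro x _
    obtain ⟨y, rfl⟩ := hsurj x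
    rw [hft, hsmul]
    exact Submodule.smul_mem_smul (Ideal.mem_span_singleton_self t) Submodule.mem_top
  obtain ⟨r, hr1, hr2⟩ := Submodule.exists_sub_one_mem_and_smul_eq_zero_of_fg_of_le_smul
    (Ideal.span {t}) ⊤ (Module.finite_def.1 hfin) hle2
  have hrm : r ∈ m := hle (by
    rw [Module.mem_annihilator]
    intro x
    exact hr2 x Submodule.mem_top)
  have h1m : r - 1 ∈ m := ((Ideal.span_singleton_le_iff_mem m).2 htm) hr1
  have : (1 : B) ∈ m := by
    have := m.sub_mem hrm h1m
    simpa using this
  exact hm.ne_top ((Ideal.eq_top_iff_one _).2 this)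


/-- Let B be a Noetherian ring and F an additive, B-linear endofunctor of B-modules which preserves
finite generation and is semi-exact on short exact sequences of finitely generated modules (the
image sequence is exact in the middle). If F kills B/m for every maximal ideal m, then F kills every
finitely generated B-module. (The published statement assumes F only additive; this row assumes F
B-linear, and takes the functor on all B-modules with the hypotheses and the conclusion on the
finitely generated ones.) -/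
theorem result (B : Type u) [CommRing B]
    [IsNoetherianRing B] (F : ModuleCat.{u} B ⥤ ModuleCat.{u} B) [F.Additive] [F.Linear B]
    (hfg : ∀ M : ModuleCat.{u} B, Module.Finite B M → Module.Finite B (F.obj M))
    (hex : ∀ S : ShortComplex (ModuleCat.{u} B), S.ShortExact → Module.Finite B S.X₂ → (S.map F).Exact)
    (h0 : ∀ m : Ideal B, m.IsMaximal → Limits.IsZero (F.obj (ModuleCat.of B (B ⧸ m))))
    (M : ModuleCat.{u} B) (hM : Module.Finite B M) : Limits.IsZero (F.obj M) := by
  apply isZero_of_le_annihilator F hex ⊥ _ M hM bot_le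
  intro q hq _
  exact isZero_quotient_prime F hfg hex h0 q hq

end Groth.Agent.S11461
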