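import Groth.Statements.S11469
import Mathlib

set_option autoImplicit false
universe u
open scoped TensorProduct
open DefT

namespace Groth.Agent.S11469


section
open TensorProduct

variable {C' : Type u} [CommRing C'] (J : Ideal C') {A' : Type u} [CommRing A'] [Algebra C' A']
  {M' : Type u} [AddCommGroup M'] [Module A' M'] [Module C' M'] [IsScalarTower C' A' M']

/-- multiplication map `M' ⊗ J → M'` as an `A'`-linear map -/
noncomputable def muA : M' ⊗[C'] ↥J →ₗ[A'] M' :=
  (TensorProduct.AlgebraTensorModule.rid C' A' M').toLinearMap ∘ₗ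
    TensorProduct.AlgebraTensorModule.map (LinearMap.id : M' →ₗ[A'] M') J.subtype

lemma muA_tmul (x : M') (j : J) : muA (A' := A') J (x ⊗ₜ[C'] j) = (j : C') • x := by
  simp [muA]

lemma muA_apply (z : M' ⊗[C'] ↥J) : muA (A' := A') J z =
    TensorProduct.rid C' M' (LinearMap.lTensor M' (Submodule.subtype J) z) := by
  induction z using TensorProduct.induction_on with
  | zero => simp
  | tmul x j => simp [muA]
  | add a b ha hb => rw [map_add, ha, hb, map_add, map_add]

lemma muA_injective [Module.Flat C' M'] :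
    Function.Injective (muA (A' := A') (M' := M') J) := by
  intro a b h
  rw [muA_apply, muA_apply] at h
  exact Module.Flat.lTensor_preserves_injective_linearMap (M := M') J.subtype
    (Submodule.subtype_injective J) ((TensorProduct.rid C' M').injective h)

lemma range_muA : LinearMap.range (muA (A' := A') (M' := M') J) =
    (J.map (algebraMap C' A')) • (⊤ : Submodule A' M') := by
  apply le_antisymm
  · rintro _ ⟨z, rfl⟩
    induction z using TensorProduct.induction_on with
    | zero => simp
    | tmul x j =>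
      rw [muA_tmul, ← algebraMap_smul A' (j : C') x]
      exact Submodule.smul_mem_smul (Ideal.mem_map_of_mem _ j.2) Submodule.mem_top
    | add a b ha hb => rw [map_add]; exact Submodule.add_mem _ ha hb
  · rw [Submodule.smul_le]
    intro a ha x _
    have ha' : a ∈ Ideal.span (algebraMap C' A' '' (J : Set C')) := ha
    clear ha
    induction ha' using Submodule.span_induction generalizing x with
    | mem a h =>
      obtain ⟨j, hj, rfl⟩ := h
      exact ⟨x ⊗ₜ ⟨j, hj⟩, by rw [muA_tmul, algebraMap_smul]⟩
    | zero => rw [zero_smul]; exact Submodule.zero_mem _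
    | add a b _ _ ha hb => rw [add_smul]; exact Submodule.add_mem _ (ha x Submodule.mem_top) (hb x Submodule.mem_top)
    | smul b a _ ha => rw [smul_eq_mul, mul_smul]; exact Submodule.smul_mem _ b (ha x Submodule.mem_top)

/-- the quotient map tensored with `J`, as an `A'`-linear map -/
noncomputable def qA (N : Submodule A' M') : M' ⊗[C'] ↥J →ₗ[A'] (M' ⧸ N) ⊗[C'] ↥J :=
  TensorProduct.AlgebraTensorModule.map N.mkQ (LinearMap.id : ↥J →ₗ[C'] ↥J)

lemma qA_apply (N : Submodule A' M') (z : M' ⊗[C'] ↥J) :
    qA J N z = LinearMap.rTensor ↥J (N.mkQ.restrictScalars C') z := by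
  induction z using TensorProduct.induction_on with
  | zero => simp
  | tmul x j => simp [qA]
  | add a b ha hb => rw [map_add, ha, hb, map_add]

lemma tmul_eq_zero_of_mem (m : Ideal C') (hJ : m * J = ⊥) (n : M')
    (hn : n ∈ (m.map (algebraMap C' A')) • (⊤ : Submodule A' M')) (j : J) :
    (n ⊗ₜ[C'] j : M' ⊗[C'] ↥J) = 0 := by
  refine Submodule.smul_induction_on hn ?_ ?_
  · intro a ha x _
    have ha' : a ∈ Ideal.span (algebraMap C' A' '' (m : Set C')) := ha
    clear ha
    induction ha' using Submodule.span_induction generalizing x with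
    | mem a h =>
      obtain ⟨c, hc, rfl⟩ := h
      rw [algebraMap_smul, TensorProduct.smul_tmul]
      have : c • j = 0 := by
        apply Subtype.ext
        have h1 : c * (j : C') ∈ m * J := Ideal.mul_mem_mul hc j.2
        rw [hJ] at h1
        simpa using h1
      rw [this, TensorProduct.tmul_zero]
    | zero => rw [zero_smul, TensorProduct.zero_tmul]
    | add a b _ _ ha hb => rw [add_smul, TensorProduct.add_tmul, ha x Submodule.mem_top, hb x Submodule.mem_top, add_zero]
    | smul b a _ ha => rw [smul_eq_mul, mul_comm, mul_smul]; exact ha (b • x) Submodule.mem_top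
  · intro y z hy hz
    rw [TensorProduct.add_tmul, hy, hz, add_zero]

lemma qA_injective (m : Ideal C') (hJ : m * J = ⊥) :
    Function.Injective (qA (A' := A') (M' := M') J
      ((m.map (algebraMap C' A')) • (⊤ : Submodule A' M'))) := by
  set N := (m.map (algebraMap C' A')) • (⊤ : Submodule A' M') with hN
  rw [← LinearMap.ker_eq_bot, LinearMap.ker_eq_bot']
  intro z hz
  rw [qA_apply] at hz
  have hex : Function.Exact ((N.restrictScalars C').subtype) (N.mkQ.restrictScalars C') := by
    intro y
    constructor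
    · intro hy
      exact ⟨⟨y, (Submodule.Quotient.mk_eq_zero N).mp hy⟩, rfl⟩
    · rintro ⟨n, rfl⟩
      exact (Submodule.Quotient.mk_eq_zero N).mpr n.2
  have hsurj : Function.Surjective (N.mkQ.restrictScalars C') := N.mkQ_surjective
  have hex' := rTensor_exact ↥J hex hsurj
  obtain ⟨w, rfl⟩ := (hex' z).mp hz
  clear hz
  induction w using TensorProduct.induction_on with
  | zero => simp
  | tmul n j =>
    rw [LinearMap.rTensor_tmul]
    exact tmul_eq_zero_of_mem J m hJ n.1 n.2 j
  | add a b ha hb => rw [map_add, ha, hb, add_zero]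

lemma qA_surjective (N : Submodule A' M') : Function.Surjective (qA (A' := A') (M' := M') J N) := by
  intro y
  have hsurj : Function.Surjective (N.mkQ.restrictScalars C') := N.mkQ_surjective
  obtain ⟨z, hz⟩ := LinearMap.rTensor_surjective ↥J hsurj y
  exact ⟨z, by rw [qA_apply]; exact hz⟩

end

/-- Let C' be a local Artin ring with maximal ideal m, J ⊊ C' a proper ideal with mJ = 0, A' a
C'-algebra, M' an A'-module flat over C', and M₀ = M'/mM'. Then (1) every A'-linear endomorphism σ
of M' that is the identity modulo JM' is bijective, and there is exactly one A'-linear τ : M₀ → M₀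
⊗_{C'} J such that, for all x ∈ M' and all z ∈ M' ⊗_{C'} J mapping to σ(x) − x in M', the image of z
in M₀ ⊗_{C'} J is τ applied to the class of x; and (2) every A'-linear τ : M₀ → M₀ ⊗_{C'} J comes in
this way from some such σ. Thus the automorphisms of the extension M' inducing the identity on
M'/JM' correspond to Hom(M₀, M₀ ⊗ J). -/
theorem result (C' : Type u) [CommRing C'] [IsLocalRing C']
    [IsArtinianRing C'] (J : Ideal C') (hJ : IsLocalRing.maximalIdeal C' * J = ⊥) (hJne : J ≠ ⊤)
    (A' : Type u) [CommRing A'] [Algebra C' A'] (M' : Type u) [AddCommGroup M'] [Module A' M'] [Module C' M']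
    [IsScalarTower C' A' M'] [Module.Flat C' M'] :
    (∀ σ : M' →ₗ[A'] M', (∀ x : M', σ x - x ∈ (J.map (algebraMap C' A')) • (⊤ : Submodule A' M')) →
      Function.Bijective σ ∧
        ∃! τ : (M' ⧸ ((IsLocalRing.maximalIdeal C').map (algebraMap C' A')) • (⊤ : Submodule A' M')) →ₗ[A'] ((M' ⧸ ((IsLocalRing.maximalIdeal C').map (algebraMap C' A')) • (⊤ : Submodule A' M')) ⊗[C'] ↥J),
          (∀ (x : M') (z : M' ⊗[C'] ↥J), TensorProduct.rid C' M' (LinearMap.lTensor M' (Submodule.subtype J) z) = σ x - x →
            LinearMap.rTensor ↥J ((Submodule.mkQ (((IsLocalRing.maximalIdeal C').map (algebraMap C' A')) • (⊤ : Submodule A' M'))).restrictScalars C') z =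
              τ (Submodule.mkQ _ x))) ∧
    (∀ τ : (M' ⧸ ((IsLocalRing.maximalIdeal C').map (algebraMap C' A')) • (⊤ : Submodule A' M')) →ₗ[A'] ((M' ⧸ ((IsLocalRing.maximalIdeal C').map (algebraMap C' A')) • (⊤ : Submodule A' M')) ⊗[C'] ↥J),
      ∃ σ : M' →ₗ[A'] M', (∀ x : M', σ x - x ∈ (J.map (algebraMap C' A')) • (⊤ : Submodule A' M')) ∧
          (∀ (x : M') (z : M' ⊗[C'] ↥J), TensorProduct.rid C' M' (LinearMap.lTensor M' (Submodule.subtype J) z) = σ x - x →
            LinearMap.rTensor ↥J ((Submodule.mkQ (((IsLocalRing.maximalIdeal C').map (algebraMap C' A')) • (⊤ : Submodule A' M'))).restrictScalars C') z =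
              τ (Submodule.mkQ _ x))) := by
  classical
  have hJle : J ≤ IsLocalRing.maximalIdeal C' := IsLocalRing.le_maximalIdeal hJne
  have hJJ : J * J = ⊥ := by
    rw [eq_bot_iff, ← hJ]; exact Ideal.mul_mono_left hJle
  have hmJ' : (IsLocalRing.maximalIdeal C').map (algebraMap C' A') * J.map (algebraMap C' A') = ⊥ := by
    rw [← Ideal.map_mul, hJ, Ideal.map_bot]
  have hJJ' : J.map (algebraMap C' A') * J.map (algebraMap C' A') = ⊥ := by
    rw [← Ideal.map_mul, hJJ, Ideal.map_bot]
  have hμinj := muA_injective (A' := A') (M' := M') J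
  have hrange := range_muA (A' := A') (M' := M') J
  have hqinj := qA_injective (A' := A') (M' := M') J (IsLocalRing.maximalIdeal C') hJ
  set N : Submodule A' M' :=
    ((IsLocalRing.maximalIdeal C').map (algebraMap C' A')) • (⊤ : Submodule A' M') with hN
  set JM : Submodule A' M' := (J.map (algebraMap C' A')) • (⊤ : Submodule A' M') with hJM
  have hqsurj := qA_surjective (A' := A') (M' := M') J N
  have hkill : ∀ (I : Ideal A') (_ : I * J.map (algebraMap C' A') = ⊥) (D : M' →ₗ[A'] M')
      (_ : ∀ x, D x ∈ JM) (y : M'), y ∈ I • (⊤ : Submodule A' M') → D y = 0 := by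
    intro I hI D hD y hy
    refine Submodule.smul_induction_on hy ?_ ?_
    · intro a ha x _
      rw [map_smul]
      have h1 : a • D x ∈ I • JM := Submodule.smul_mem_smul ha (hD x)
      rw [hJM, ← Submodule.mul_smul, hI, Submodule.bot_smul] at h1
      exact (Submodule.mem_bot _).mp h1
    · intro y z hy hz; rw [map_add, hy, hz, add_zero]
  constructor
  · intro σ hσ
    set D : M' →ₗ[A'] M' := σ - LinearMap.id with hDdef
    have hDx : ∀ x, D x = σ x - x := fun x => by simp [hDdef]
    have hD : ∀ x, D x ∈ JM := fun x => by rw [hDx]; exact hσ x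
    have hσD : ∀ x, σ x = x + D x := fun x => by rw [hDx]; abel
    have hDJ : ∀ y ∈ JM, D y = 0 := fun y hy => hkill _ hJJ' D hD y hy
    have hDN : ∀ y ∈ N, D y = 0 := fun y hy => hkill _ hmJ' D hD y hy
    refine ⟨⟨?_, ?_⟩, ?_⟩
    · rw [← LinearMap.ker_eq_bot, LinearMap.ker_eq_bot']
      intro x hx
      rw [hσD] at hx
      have hx' : x = -D x := eq_neg_of_add_eq_zero_left hx
      have : D x = 0 := hDJ x (by rw [hx']; exact Submodule.neg_mem _ (hD x))
      rw [hx', this, neg_zero]
    · intro y
      refine ⟨y - D y, ?_⟩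
      rw [hσD, map_sub, hDJ (D y) (hD y)]; abel
    · have hD' : ∀ x, D x ∈ LinearMap.range (muA (A' := A') (M' := M') J) := fun x => by
        rw [hrange]; exact hD x
      let μE : (M' ⊗[C'] ↥J) ≃ₗ[A'] LinearMap.range (muA (A' := A') (M' := M') J) :=
        LinearEquiv.ofInjective _ hμinj
      let D' : M' →ₗ[A'] LinearMap.range (muA (A' := A') (M' := M') J) := D.codRestrict _ hD'
      let τ₀ : M' →ₗ[A'] (M' ⧸ N) ⊗[C'] ↥J := (qA J N) ∘ₗ μE.symm.toLinearMap ∘ₗ D'
      have hτ₀ : N ≤ LinearMap.ker τ₀ := by
        intro y hy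
        rw [LinearMap.mem_ker]
        have : D' y = 0 := Subtype.ext (hDN y hy)
        simp only [τ₀, LinearMap.comp_apply, this, map_zero]
      have hτ₀x : ∀ x, τ₀ x = qA J N (μE.symm (D' x)) := fun x => rfl
      have key : ∀ (x : M') (z : M' ⊗[C'] ↥J),
          TensorProduct.rid C' M' (LinearMap.lTensor M' (Submodule.subtype J) z) = σ x - x →
          μE.symm (D' x) = z := by
        intro x z hz
        rw [LinearEquiv.symm_apply_eq]
        apply Subtype.ext
        show D x = muA (A' := A') J z
        rw [muA_apply, hz, hDx]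
      refine ⟨N.liftQ τ₀ hτ₀, ?_, ?_⟩
      · intro x z hz
        rw [← qA_apply (A' := A'), Submodule.mkQ_apply, Submodule.liftQ_apply, hτ₀x, key x z hz]
      · intro τ' hτ'
        apply LinearMap.ext
        intro y
        obtain ⟨x, rfl⟩ := N.mkQ_surjective y
        have hz : TensorProduct.rid C' M' (LinearMap.lTensor M' (Submodule.subtype J)
            (μE.symm (D' x))) = σ x - x := by
          rw [← muA_apply (A' := A')]
          have h1 : muA (A' := A') J (μE.symm (D' x)) =
              ((μE (μE.symm (D' x)) : LinearMap.range (muA (A' := A') (M' := M') J)) : M') := rfl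
          rw [h1, LinearEquiv.apply_symm_apply]
          show D x = _
          rw [hDx]
        rw [← hτ' x _ hz, ← qA_apply (A' := A'), Submodule.mkQ_apply, Submodule.liftQ_apply, hτ₀x]
  · intro τ
    let qE : (M' ⊗[C'] ↥J) ≃ₗ[A'] (M' ⧸ N) ⊗[C'] ↥J :=
      LinearEquiv.ofBijective (qA J N) ⟨hqinj, hqsurj⟩
    let D : M' →ₗ[A'] M' := (muA (A' := A') J) ∘ₗ qE.symm.toLinearMap ∘ₗ τ ∘ₗ N.mkQ
    have hDx : ∀ x, D x = muA (A' := A') J (qE.symm (τ (N.mkQ x))) := fun x => rfl
    have h1 : ∀ x, ((LinearMap.id : M' →ₗ[A'] M') + D) x - x = D x := fun x => by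
      rw [LinearMap.add_apply, LinearMap.id_apply]; abel
    refine ⟨(LinearMap.id : M' →ₗ[A'] M') + D, ?_, ?_⟩
    · intro x
      rw [h1, ← hrange, hDx]
      exact ⟨_, rfl⟩
    · intro x z hz
      rw [h1, ← muA_apply (A' := A'), hDx] at hz
      have h2 : z = qE.symm (τ (N.mkQ x)) := hμinj hz
      rw [← qA_apply (A' := A'), h2]
      exact qE.apply_symm_apply _

end Groth.Agent.S11469
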