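import Mathlib
import Groth.Agent.Lib.Helper14.QFRefine
import Groth.Statements.S1147

set_option autoImplicit false
set_option linter.style.haveILetI false
universe u v
open Desc

namespace Groth.Agent.S1147

open AlgebraicGeometry CategoryTheory

/-- Goldman-type element for a maximal ideal of a flat, finitely presented, quasi-finite algebra. -/
theorem exists_goldman {A C : Type u} [CommRing A] [CommRing C] [Algebra A C]
    [Module.Flat A C] [Algebra.FinitePresentation A C] [Algebra.QuasiFinite A C]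
    (n : Ideal C) [hn : n.IsMaximal] :
    ∃ c : A, c ∉ n.under A ∧
      ∀ P : Ideal A, P.IsPrime → n.under A ≤ P → c ∉ P → P = n.under A := by
  classical
  haveI hnp : n.IsPrime := hn.isPrime
  haveI hp₁ : (n.under A).IsPrime := Ideal.IsPrime.under A n
  have hfin : ((n.under A).primesOver C).Finite := Algebra.QuasiFinite.finite_primesOver _
  let S : Finset (Ideal C) := hfin.toFinset.erase n
  have hS : ¬ (S.inf id ≤ n) := by
    rw [Ideal.IsPrime.inf_le' hnp]
    rintro ⟨q, hqS, hqn⟩
    rw [Finset.mem_erase, Set.Finite.mem_toFinset] at hqS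
    obtain ⟨hne, hqprime, hqover⟩ := hqS
    haveI := hqprime
    apply hne
    exact Algebra.QuasiFinite.eq_of_le_of_under_eq (R := A) q n hqn (by rw [← hqover.over])
  obtain ⟨e, heS, hen⟩ := SetLike.not_le_iff_exists.mp hS
  have hopen : IsOpen (PrimeSpectrum.comap (algebraMap A C) ''
      (PrimeSpectrum.basicOpen e : Set (PrimeSpectrum C))) :=
    PrimeSpectrum.isOpenMap_comap_of_hasGoingDown_of_finitePresentation _
      (PrimeSpectrum.basicOpen e).2
  have hmem : (⟨n.under A, hp₁⟩ : PrimeSpectrum A) ∈ PrimeSpectrum.comap (algebraMap A C) ''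
      (PrimeSpectrum.basicOpen e : Set (PrimeSpectrum C)) :=
    ⟨⟨n, hnp⟩, hen, rfl⟩
  obtain ⟨_, ⟨c, rfl⟩, hc1, hc2⟩ :=
    PrimeSpectrum.isTopologicalBasis_basic_opens.exists_subset_of_mem_open hmem hopen
  refine ⟨c, hc1, ?_⟩
  intro P hP hle hcP
  obtain ⟨Q, hQe, hQP⟩ := hc2 (show (⟨P, hP⟩ : PrimeSpectrum A) ∈
    (PrimeSpectrum.basicOpen c : Set (PrimeSpectrum A)) from hcP)
  have hQP' : Q.asIdeal.under A = P := congrArg PrimeSpectrum.asIdeal hQP
  haveI : Q.asIdeal.LiesOver P := ⟨hQP'.symm⟩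
  haveI := Q.2
  obtain ⟨Q', hQ'Q, hQ'prime, hQ'over⟩ :=
    Ideal.exists_ideal_le_liesOver_of_le (p := n.under A) (q := P) Q.asIdeal hle
  have heQ' : e ∉ Q' := fun h => hQe (hQ'Q h)
  have hQ'n : Q' = n := by
    by_contra hne
    apply heQ'
    have : Q' ∈ S := by
      rw [Finset.mem_erase, Set.Finite.mem_toFinset]
      exact ⟨hne, hQ'prime, hQ'over⟩
    exact (Finset.inf_le this : S.inf id ≤ id Q') heS
  have hQn : Q.asIdeal = n := by
    symm
    apply hn.eq_of_le Q.2.ne_top
    rw [← hQ'n]; exact hQ'Q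
  rw [← hQP', hQn]

/-- A ring covered (on spectra) by flat, finitely presented, quasi-finite Jacobson algebras is
Jacobson. -/
theorem jacobson_of_family {A : Type u} [CommRing A] {J : Type v} (C : J → Type u)
    [∀ j, CommRing (C j)] [∀ j, Algebra A (C j)]
    (hflat : ∀ j, Module.Flat A (C j)) (hfp : ∀ j, Algebra.FinitePresentation A (C j))
    (hqf : ∀ j, Algebra.QuasiFinite A (C j)) (hjac : ∀ j, IsJacobsonRing (C j))
    (hsurj : ∀ p : Ideal A, p.IsPrime →
      ∃ (j : J) (q : Ideal (C j)), q.IsPrime ∧ q.under A = p) :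
    IsJacobsonRing A := by
  rw [isJacobsonRing_iff_prime_eq]
  intro p hp
  refine le_antisymm ?_ Ideal.le_jacobson
  intro a ha
  by_contra hap
  obtain ⟨j₀, q₀, hq₀, hq₀p⟩ := hsurj p hp
  haveI := hflat j₀; haveI := hfp j₀; haveI := hqf j₀; haveI := hjac j₀
  have h1 : algebraMap A (C j₀) a ∉ q₀.jacobson := by
    rw [IsJacobsonRing.out inferInstance hq₀.isRadical]
    intro h; apply hap; rw [← hq₀p]; exact h
  obtain ⟨n, ⟨hq₀n, hnmax⟩, han⟩ : ∃ n : Ideal (C j₀), (q₀ ≤ n ∧ n.IsMaximal) ∧
      algebraMap A (C j₀) a ∉ n := by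
    by_contra hcon
    push_neg at hcon
    apply h1
    rw [Ideal.jacobson, Ideal.mem_sInf]
    intro I hI
    exact hcon I hI
  haveI := hnmax
  obtain ⟨c, hc, hgold⟩ := exists_goldman (A := A) n
  haveI hp₁ : (n.under A).IsPrime := Ideal.IsPrime.under A n
  have hpp₁ : p ≤ n.under A := by rw [← hq₀p]; exact Ideal.comap_mono hq₀n
  have hap₁ : a ∉ n.under A := han
  have ha' : ∀ I : Ideal A, p ≤ I → I.IsMaximal → a ∈ I := fun I h1 h2 =>
    (Ideal.mem_sInf.mp ha) (And.intro h1 h2)
  obtain ⟨m, hm, hp₁m⟩ := Ideal.exists_le_maximal (n.under A) hp₁.ne_top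
  have hmne : m ≠ n.under A := by
    intro h
    apply hap₁
    exact ha' _ hpp₁ (h ▸ hm)
  obtain ⟨k, q, hq, hqm⟩ := hsurj m hm.isPrime
  haveI := hflat k; haveI := hfp k; haveI := hqf k; haveI := hjac k
  haveI : q.LiesOver m := ⟨hqm.symm⟩
  haveI := hm.isPrime
  obtain ⟨q', hq'q, hq'prime, hq'over⟩ :=
    Ideal.exists_ideal_le_liesOver_of_le (p := n.under A) (q := m) q hp₁m
  have hq'under : q'.under A = n.under A := hq'over.over.symm
  have hcq' : algebraMap A (C k) c ∉ q'.jacobson := by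
    rw [IsJacobsonRing.out inferInstance hq'prime.isRadical]
    intro h
    apply hc
    rw [← hq'under]; exact h
  obtain ⟨n', ⟨hq'n', hn'max⟩, hcn'⟩ : ∃ n' : Ideal (C k), (q' ≤ n' ∧ n'.IsMaximal) ∧
      algebraMap A (C k) c ∉ n' := by
    by_contra hcon
    push_neg at hcon
    apply hcq'
    rw [Ideal.jacobson, Ideal.mem_sInf]
    intro I hI
    exact hcon I hI
  haveI := hn'max.isPrime
  have hn'p₁ : n'.under A = n.under A := by
    apply hgold _ (Ideal.IsPrime.under A n')
    · rw [← hq'under]; exact Ideal.comap_mono hq'n'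
    · exact hcn'
  have hq'n'eq : q' = n' :=
    Algebra.QuasiFinite.eq_of_le_of_under_eq (R := A) q' n' hq'n' (by rw [hn'p₁, hq'under])
  have hq'max : q'.IsMaximal := hq'n'eq ▸ hn'max
  have hq'qeq : q' = q := hq'max.eq_of_le hq.ne_top hq'q
  apply hmne
  rw [← hqm, ← hq'qeq, hq'under]

/-- Let A → B be a faithfully flat ring map of finite presentation. If B is a Jacobson ring then so is
A. (This is the affine descent direction of the statement that the Jacobson property is fppf local.) -/
theorem result (A B : Type u) [CommRing A] [CommRing B] [Algebra A B]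
    [Module.FaithfullyFlat A B] [Algebra.FinitePresentation A B] [IsJacobsonRing B] : IsJacobsonRing A := by
  let g : Spec (CommRingCat.of B) ⟶ Spec (CommRingCat.of A) :=
    Spec.map (CommRingCat.ofHom (algebraMap A B))
  haveI : Flat g := by
    rw [HasRingHomProperty.Spec_iff (P := @Flat)]
    exact RingHom.flat_algebraMap_iff.mpr inferInstance
  haveI : LocallyOfFinitePresentation g := by
    rw [HasRingHomProperty.Spec_iff (P := @LocallyOfFinitePresentation)]
    exact RingHom.finitePresentation_algebraMap.mpr inferInstance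
  haveI : Surjective g := ⟨PrimeSpectrum.comap_surjective_of_faithfullyFlat⟩
  obtain ⟨T, h, hfl, hfp, hqf, hsurj, hloc⟩ :=
    Groth.Agent.Lib.Helper14.QFRefine.exists_quasiFinite_refinement g
  haveI : JacobsonSpace T := by
    choose V r hV hr using hloc
    have hcov : TopologicalSpace.IsOpenCover V := by
      rw [TopologicalSpace.IsOpenCover, eq_top_iff]
      intro t _
      exact TopologicalSpace.Opens.mem_iSup.mpr ⟨t, hV t⟩
    rw [hcov.jacobsonSpace_iff]
    intro t
    haveI : LocallyOfFiniteType (r t ≫ g) := by rw [hr t]; infer_instance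
    haveI : LocallyOfFiniteType (r t) := locallyOfFiniteType_of_comp (r t) g
    exact LocallyOfFiniteType.jacobsonSpace (r t)
  have htop : IsAffineOpen (⊤ : (Spec (CommRingCat.of A)).Opens) := isAffineOpen_top _
  have key : IsJacobsonRing Γ(Spec (CommRingCat.of A), ⊤) := by
    letI : ∀ W : T.affineOpens, Algebra Γ(Spec (CommRingCat.of A), ⊤) Γ(T, W.1) :=
      fun W => (h.appLE ⊤ W.1 le_top).hom.toAlgebra
    refine jacobson_of_family (A := Γ(Spec (CommRingCat.of A), ⊤)) (J := T.affineOpens)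
      (fun W => Γ(T, W.1)) ?_ ?_ ?_ ?_ ?_
    · intro W
      exact HasRingHomProperty.appLE (P := @Flat) h hfl ⟨⊤, htop⟩ W le_top
    · intro W
      exact HasRingHomProperty.appLE (P := @LocallyOfFinitePresentation) h hfp ⟨⊤, htop⟩ W le_top
    · intro W
      exact HasRingHomProperty.appLE (P := @LocallyQuasiFinite) h hqf ⟨⊤, htop⟩ W le_top
    · intro W
      haveI : JacobsonSpace (Spec Γ(T, W.1)) :=
        JacobsonSpace.of_isOpenEmbedding W.2.fromSpec.isOpenEmbedding
      exact PrimeSpectrum.isJacobsonRing_iff_jacobsonSpace.mpr this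
    · intro p hp
      obtain ⟨t, ht⟩ := h.surjective (htop.fromSpec ⟨p, hp⟩)
      obtain ⟨W, hW, htW, -⟩ := exists_isAffineOpen_mem_and_subset (x := t) (U := ⊤) trivial
      refine ⟨⟨W, hW⟩, (hW.primeIdealOf ⟨t, htW⟩).asIdeal, (hW.primeIdealOf ⟨t, htW⟩).2, ?_⟩
      have h0 := IsAffineOpen.SpecMap_appLE_fromSpec h htop hW le_top
      have h1 : (Spec.map (h.appLE ⊤ W le_top) ≫ htop.fromSpec) (hW.primeIdealOf ⟨t, htW⟩) =
          (hW.fromSpec ≫ h) (hW.primeIdealOf ⟨t, htW⟩) := by rw [h0]
      rw [Scheme.Hom.comp_apply, Scheme.Hom.comp_apply, hW.fromSpec_primeIdealOf, ht] at h1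
      have h2 := htop.fromSpec.isOpenEmbedding.injective h1
      exact congrArg PrimeSpectrum.asIdeal h2
  exact (isJacobsonRing_iso (Scheme.ΓSpecIso (CommRingCat.of A)).commRingCatIsoToRingEquiv).mp key

end Groth.Agent.S1147
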