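import Mathlib
import Groth.Statements.S11470


set_option autoImplicit false
universe u
open Curves

namespace Aux11470

open Polynomial

variable {k : Type u} [Field k]

/-- `x(x-1)` in `k(x)`. -/
noncomputable def d : RatFunc k := RatFunc.X * (RatFunc.X - 1)

/-- `X(X-1)` in `k[X]`. -/
noncomputable def D : k[X] := X * (X - 1)

/-- the polynomial `X^2-X+1`. -/
noncomputable def T : k[X] := X ^ 2 - X + 1

/-- reduced `j`: `(x^2-x+1)^3/(x(x-1))^2`. -/
noncomputable def jr : RatFunc k := (RatFunc.X ^ 2 - RatFunc.X + 1) ^ 3 / (d (k := k)) ^ 2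

lemma X_ne : (RatFunc.X : RatFunc k) ≠ 0 := RatFunc.X_ne_zero

lemma X1_ne : (RatFunc.X : RatFunc k) - 1 ≠ 0 := by
  have h : (algebraMap k[X] (RatFunc k)) (X - C 1) ≠ 0 :=
    (map_ne_zero_iff _ (RatFunc.algebraMap_injective k)).2 (Polynomial.X_sub_C_ne_zero 1)
  simpa [RatFunc.algebraMap_X] using h

lemma d_ne : (d : RatFunc k) ≠ 0 := mul_ne_zero X_ne X1_ne

lemma algebraMap_D : algebraMap k[X] (RatFunc k) D = d := by
  simp [D, d, RatFunc.algebraMap_X]

lemma algebraMap_T : algebraMap k[X] (RatFunc k) T = RatFunc.X ^ 2 - RatFunc.X + 1 := by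
  simp [T, RatFunc.algebraMap_X]

lemma algebraMap_CC (a : k) :
    algebraMap k[X] (RatFunc k) (C a) = algebraMap k (RatFunc k) a := rfl

lemma phi_C (φ : RatFunc k ≃ₐ[k] RatFunc k) (P : k[X]) :
    φ (algebraMap k[X] (RatFunc k) P) = Polynomial.aeval (φ RatFunc.X) P := by
  rw [← RatFunc.aeval_X_left_eq_algebraMap]
  exact (Polynomial.aeval_algHom_apply φ (RatFunc.X : RatFunc k) P).symm

lemma tau_C (τ : RatFunc k ≃ₐ[k] RatFunc k) (hτ : τ RatFunc.X = 1 - (RatFunc.X : RatFunc k))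
    (P : k[X]) :
    τ (algebraMap k[X] (RatFunc k) P) = algebraMap k[X] (RatFunc k) (P.comp (1 - X)) := by
  rw [phi_C, hτ]
  have h : (1 - RatFunc.X : RatFunc k) = algebraMap k[X] (RatFunc k) (1 - X) := by
    simp [RatFunc.algebraMap_X]
  rw [h, Polynomial.aeval_algebraMap_apply, Polynomial.comp_eq_aeval]

lemma tau_eval (τ : RatFunc k ≃ₐ[k] RatFunc k) (hτ : τ RatFunc.X = 1 - (RatFunc.X : RatFunc k))
    (P : k[X]) (N : ℕ)
    (h : τ (algebraMap k[X] (RatFunc k) P / d ^ N) = algebraMap k[X] (RatFunc k) P / d ^ N) :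
    P.eval 1 = P.eval 0 := by
  have hd : τ (d : RatFunc k) = d := by
    simp only [d, map_mul, map_sub, map_one, hτ]; ring
  rw [map_div₀, map_pow, hd, tau_C τ hτ, div_left_inj' (pow_ne_zero N d_ne)] at h
  have h2 := RatFunc.algebraMap_injective k h
  have h3 := congrArg (Polynomial.eval 0) h2
  rw [Polynomial.eval_comp] at h3
  simpa using h3

lemma reflect_key (P : k[X]) (m : ℕ) (hm : P.natDegree ≤ m) :
    algebraMap k[X] (RatFunc k) (reflect m P) =
      aeval ((RatFunc.X : RatFunc k)⁻¹) P * RatFunc.X ^ m := by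
  haveI : Invertible ((RatFunc.X : RatFunc k)⁻¹) := invertibleOfNonzero (inv_ne_zero X_ne)
  have h := Polynomial.eval₂_reflect_mul_pow (algebraMap k (RatFunc k))
    ((RatFunc.X : RatFunc k)⁻¹) m P hm
  rw [invOf_eq_inv, inv_inv] at h
  rw [← Polynomial.aeval_def, ← Polynomial.aeval_def, RatFunc.aeval_X_left_eq_algebraMap] at h
  rw [← h, mul_assoc, ← mul_pow, inv_mul_cancel₀ X_ne, one_pow, mul_one]

lemma reflect_eval_one (P : k[X]) (m : ℕ) (hm : P.natDegree ≤ m) :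
    (reflect m P).eval 1 = P.eval 1 := by
  haveI : Invertible (1 : k) := invertibleOne
  have h := Polynomial.eval₂_reflect_mul_pow (RingHom.id k) (1 : k) m P hm
  rw [invOf_one, one_pow, mul_one] at h
  exact h

lemma sigma_id (σ : RatFunc k ≃ₐ[k] RatFunc k) (hσ : σ RatFunc.X = (RatFunc.X : RatFunc k)⁻¹)
    (P : k[X]) (N : ℕ)
    (h : σ (algebraMap k[X] (RatFunc k) P / d ^ N) = algebraMap k[X] (RatFunc k) P / d ^ N) :
    reflect P.natDegree P * X ^ (3 * N) = (-1) ^ N * (P * X ^ P.natDegree) := by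
  have hx0 := X_ne (k := k)
  have hx1 := X1_ne (k := k)
  have hd : σ (d : RatFunc k) = (-1) * d / RatFunc.X ^ 3 := by
    simp only [d, map_mul, map_sub, map_one, hσ]
    field_simp
    try ring
  have hne : ((-1) * d / RatFunc.X ^ 3 : RatFunc k) ≠ 0 :=
    div_ne_zero (mul_ne_zero (neg_ne_zero.2 one_ne_zero) d_ne) (pow_ne_zero 3 hx0)
  rw [map_div₀, map_pow, hd, phi_C, hσ, div_eq_iff (pow_ne_zero N hne)] at h
  have key : aeval ((RatFunc.X : RatFunc k)⁻¹) P * RatFunc.X ^ (3 * N) =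
      (-1) ^ N * algebraMap k[X] (RatFunc k) P := by
    rw [h, div_pow, mul_pow, pow_mul]
    have h1 : (d : RatFunc k) ^ N ≠ 0 := pow_ne_zero N d_ne
    have h2 : ((RatFunc.X : RatFunc k) ^ 3) ^ N ≠ 0 := pow_ne_zero N (pow_ne_zero 3 hx0)
    field_simp
    try ring
  apply RatFunc.algebraMap_injective k
  simp only [map_mul, map_pow, map_neg, map_one, RatFunc.algebraMap_X]
  rw [reflect_key P _ le_rfl]
  have e : aeval ((RatFunc.X : RatFunc k)⁻¹) P * RatFunc.X ^ P.natDegree * RatFunc.X ^ (3 * N)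
      = (aeval ((RatFunc.X : RatFunc k)⁻¹) P * RatFunc.X ^ (3 * N)) * RatFunc.X ^ P.natDegree := by
    ring
  rw [e, key]
  ring

lemma parity (P : k[X]) (N : ℕ)
    (h : reflect P.natDegree P * X ^ (3 * N) = (-1) ^ N * (P * X ^ P.natDegree)) :
    P.eval 1 = (-1) ^ N * P.eval 1 := by
  have h1 := congrArg (Polynomial.eval 1) h
  simp only [eval_mul, eval_pow, eval_X, one_pow, mul_one, eval_neg, eval_one] at h1
  rw [reflect_eval_one P _ le_rfl] at h1
  exact h1

lemma natDegree_zero_of (P : k[X])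
    (h : reflect P.natDegree P * X ^ (3 * 0) = (-1) ^ 0 * (P * X ^ P.natDegree)) :
    P.natDegree = 0 := by
  by_contra hm
  have hm' : 0 < P.natDegree := Nat.pos_of_ne_zero hm
  have hle : ¬ P.natDegree ≤ 0 := by omega
  simp only [mul_zero, pow_zero, mul_one, one_mul] at h
  have h1 := congrArg (fun q => Polynomial.coeff q 0) h
  simp only [coeff_reflect, revAt_zero, coeff_mul_X_pow'] at h1
  rw [if_neg hle, coeff_natDegree, leadingCoeff_eq_zero] at h1
  rw [h1, natDegree_zero] at hm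
  exact hm rfl

lemma even_of (h2 : (2 : k) ≠ 0) (N : ℕ) (a : k) (ha : a ≠ 0) (h : a = (-1) ^ N * a) :
    Even N := by
  by_contra hodd
  rw [Nat.not_even_iff_odd] at hodd
  rw [hodd.neg_one_pow] at h
  have h' : (2 : k) * a = 0 := by linear_combination h
  rcases mul_eq_zero.1 h' with h'' | h''
  · exact h2 h''
  · exact ha h''

lemma factor_D (P : k[X]) (h0 : P.eval 0 = 0) (h1 : P.eval 1 = 0) : ∃ Q, P = D * Q := by
  have hx : (X - C 0) ∣ P := Polynomial.dvd_iff_isRoot.2 h0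
  obtain ⟨P₁, hP₁⟩ := hx
  have h1' : P₁.eval 1 = 0 := by
    rw [hP₁] at h1
    simpa using h1
  obtain ⟨P₂, hP₂⟩ := Polynomial.dvd_iff_isRoot.2 (show P₁.IsRoot 1 from h1')
  refine ⟨P₂, ?_⟩
  rw [hP₁, hP₂, D]
  simp only [C_0, C_1, sub_zero]
  ring

lemma normal_form (b : RatFunc k)
    (hb : b ∈ Algebra.adjoin k ({RatFunc.X, (RatFunc.X : RatFunc k)⁻¹,
      ((RatFunc.X : RatFunc k) - 1)⁻¹} : Set (RatFunc k))) :
    ∃ (N : ℕ) (P : k[X]), b = algebraMap k[X] (RatFunc k) P / d ^ N := by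
  have hx0 := X_ne (k := k)
  have hx1 := X1_ne (k := k)
  have hd0 := d_ne (k := k)
  induction hb using Algebra.adjoin_induction with
  | mem y hy =>
    simp only [Set.mem_insert_iff, Set.mem_singleton_iff] at hy
    rcases hy with rfl | rfl | rfl
    · exact ⟨0, X, by simp [RatFunc.algebraMap_X]⟩
    · refine ⟨1, X - 1, ?_⟩
      simp only [map_sub, map_one, RatFunc.algebraMap_X, pow_one, d]
      field_simp
    · refine ⟨1, X, ?_⟩
      simp only [RatFunc.algebraMap_X, pow_one, d]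
      field_simp
  | algebraMap r => exact ⟨0, C r, by rw [pow_zero, div_one]; rfl⟩
  | add y z _ _ hy hz =>
    obtain ⟨N₁, P₁, rfl⟩ := hy
    obtain ⟨N₂, P₂, rfl⟩ := hz
    refine ⟨N₁ + N₂, P₁ * D ^ N₂ + P₂ * D ^ N₁, ?_⟩
    simp only [map_add, map_mul, map_pow, algebraMap_D, pow_add]
    have h1 : (d : RatFunc k) ^ N₁ ≠ 0 := pow_ne_zero _ hd0
    have h2 : (d : RatFunc k) ^ N₂ ≠ 0 := pow_ne_zero _ hd0
    field_simp
  | mul y z _ _ hy hz =>
    obtain ⟨N₁, P₁, rfl⟩ := hy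
    obtain ⟨N₂, P₂, rfl⟩ := hz
    refine ⟨N₁ + N₂, P₁ * P₂, ?_⟩
    rw [map_mul, pow_add, div_mul_div_comm]

lemma sigma_jr (σ : RatFunc k ≃ₐ[k] RatFunc k) (hσ : σ RatFunc.X = (RatFunc.X : RatFunc k)⁻¹) :
    σ (jr : RatFunc k) = jr := by
  have hx0 := X_ne (k := k)
  have hx1 := X1_ne (k := k)
  have e1 : (RatFunc.X : RatFunc k)⁻¹ * ((RatFunc.X : RatFunc k)⁻¹ - 1) =
      -(RatFunc.X * (RatFunc.X - 1)) / RatFunc.X ^ 3 := by
    field_simp
    try ring
  have e2 : ((RatFunc.X : RatFunc k)⁻¹) ^ 2 - (RatFunc.X : RatFunc k)⁻¹ + 1 =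
      (RatFunc.X ^ 2 - RatFunc.X + 1) / RatFunc.X ^ 2 := by
    field_simp
    try ring
  simp only [jr, d, map_div₀, map_pow, map_mul, map_sub, map_add, map_one, hσ]
  rw [e1, e2]
  field_simp
  try ring

lemma tau_jr (τ : RatFunc k ≃ₐ[k] RatFunc k) (hτ : τ RatFunc.X = 1 - (RatFunc.X : RatFunc k)) :
    τ (jr : RatFunc k) = jr := by
  have n1 : (1 - (RatFunc.X : RatFunc k)) ^ 2 - (1 - RatFunc.X) + 1 =
      RatFunc.X ^ 2 - RatFunc.X + 1 := by ring
  have n2 : (1 - (RatFunc.X : RatFunc k)) * (1 - RatFunc.X - 1) =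
      RatFunc.X * (RatFunc.X - 1) := by ring
  simp only [jr, d, map_div₀, map_pow, map_mul, map_sub, map_add, map_one, hτ]
  rw [n1, n2]

lemma jr_mem_B : (jr : RatFunc k) ∈ Algebra.adjoin k ({RatFunc.X, (RatFunc.X : RatFunc k)⁻¹,
      ((RatFunc.X : RatFunc k) - 1)⁻¹} : Set (RatFunc k)) := by
  have hx0 := X_ne (k := k)
  have hx1 := X1_ne (k := k)
  have e : (jr : RatFunc k) = (RatFunc.X ^ 2 - RatFunc.X + 1) ^ 3 *
      (((RatFunc.X : RatFunc k)⁻¹) ^ 2 * (((RatFunc.X : RatFunc k) - 1)⁻¹) ^ 2) := by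
    rw [jr, d]
    field_simp
  rw [e]
  have h1 : (RatFunc.X : RatFunc k) ∈ Algebra.adjoin k ({RatFunc.X, (RatFunc.X : RatFunc k)⁻¹,
      ((RatFunc.X : RatFunc k) - 1)⁻¹} : Set (RatFunc k)) := Algebra.subset_adjoin (by simp)
  have h2 : (RatFunc.X : RatFunc k)⁻¹ ∈ Algebra.adjoin k ({RatFunc.X, (RatFunc.X : RatFunc k)⁻¹,
      ((RatFunc.X : RatFunc k) - 1)⁻¹} : Set (RatFunc k)) := Algebra.subset_adjoin (by simp)
  have h3 : ((RatFunc.X : RatFunc k) - 1)⁻¹ ∈ Algebra.adjoin k ({RatFunc.X,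
      (RatFunc.X : RatFunc k)⁻¹, ((RatFunc.X : RatFunc k) - 1)⁻¹} : Set (RatFunc k)) :=
    Algebra.subset_adjoin (by simp)
  exact Subalgebra.mul_mem _ (Subalgebra.pow_mem _ (Subalgebra.add_mem _
    (Subalgebra.sub_mem _ (Subalgebra.pow_mem _ h1 2) h1) (Subalgebra.one_mem _)) 3)
    (Subalgebra.mul_mem _ (Subalgebra.pow_mem _ h2 2) (Subalgebra.pow_mem _ h3 2))

lemma j_eq : (256 : RatFunc k) * ((RatFunc.X : RatFunc k) ^ 2 - RatFunc.X + 1) ^ 3 /
        ((RatFunc.X : RatFunc k) ^ 2 * ((RatFunc.X : RatFunc k) - 1) ^ 2) =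
      algebraMap k (RatFunc k) 256 * jr := by
  rw [map_ofNat, jr, d, mul_pow, mul_div_assoc]

theorem main_aux (h2 : (2 : k) ≠ 0) (σ τ : RatFunc k ≃ₐ[k] RatFunc k)
    (hσ : σ RatFunc.X = (RatFunc.X : RatFunc k)⁻¹)
    (hτ : τ RatFunc.X = 1 - (RatFunc.X : RatFunc k))
    (S : Subalgebra k (RatFunc k)) (hS : (jr : RatFunc k) ∈ S) :
    ∀ (N : ℕ) (b : RatFunc k) (P : k[X]), σ b = b → τ b = b →
      b = algebraMap k[X] (RatFunc k) P / d ^ N → b ∈ S := by
  have caseA : ∀ (N : ℕ), (∀ (b : RatFunc k) (P : k[X]), σ b = b → τ b = b →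
      b = algebraMap k[X] (RatFunc k) P / d ^ N → b ∈ S) →
      ∀ (b : RatFunc k) (P : k[X]), σ b = b → τ b = b →
      b = algebraMap k[X] (RatFunc k) P / d ^ (N + 1) → P.eval 0 = 0 → b ∈ S := by
    intro N IH b P hsb htb hb h0
    have h1 : P.eval 1 = 0 := by
      rw [tau_eval τ hτ P (N + 1) (by rw [← hb]; exact htb)]; exact h0
    obtain ⟨Q, hQ⟩ := factor_D P h0 h1
    apply IH b Q hsb htb
    rw [hb, hQ, map_mul, algebraMap_D, pow_succ]
    have hd0 := d_ne (k := k)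
    have hdN : (d : RatFunc k) ^ N ≠ 0 := pow_ne_zero _ hd0
    field_simp
  intro N
  induction N with
  | zero =>
    intro b P hsb htb hb
    have hs := sigma_id σ hσ P 0 (by rw [← hb]; exact hsb)
    have hdeg := natDegree_zero_of P hs
    rw [Polynomial.eq_C_of_natDegree_eq_zero hdeg, pow_zero, div_one, algebraMap_CC] at hb
    rw [hb]
    exact S.algebraMap_mem _
  | succ N IH =>
    intro b P hsb htb hb
    by_cases h0 : P.eval 0 = 0
    · exact caseA N IH b P hsb htb hb h0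
    · have hs := sigma_id σ hσ P (N + 1) (by rw [← hb]; exact hsb)
      have ht := tau_eval τ hτ P (N + 1) (by rw [← hb]; exact htb)
      have hpar := parity P (N + 1) hs
      have heven : Even (N + 1) :=
        even_of h2 (N + 1) (P.eval 1) (by rw [ht]; exact h0) hpar
      obtain ⟨M, hM⟩ := heven
      have hb'S : b - algebraMap k (RatFunc k) (P.eval 0) * jr ^ M ∈ S := by
        apply caseA N IH _ (P - C (P.eval 0) * T ^ (3 * M))
        · rw [map_sub, map_mul, map_pow, AlgEquiv.commutes, hsb, sigma_jr σ hσ]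
        · rw [map_sub, map_mul, map_pow, AlgEquiv.commutes, htb, tau_jr τ hτ]
        · rw [hb, map_sub, map_mul, map_pow, algebraMap_T, algebraMap_CC, jr, hM, div_pow,
            ← pow_mul, ← pow_mul, ← two_mul]
          ring
        · simp [T]
      have e : b = (b - algebraMap k (RatFunc k) (P.eval 0) * jr ^ M) +
          algebraMap k (RatFunc k) (P.eval 0) * jr ^ M := by ring
      rw [e]
      exact S.add_mem hb'S (S.mul_mem (S.algebraMap_mem _) (S.pow_mem hS _))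

theorem main (k : Type u) [Field k] (h2 : (2 : k) ≠ 0)
    (σ τ : RatFunc k ≃ₐ[k] RatFunc k) (hσ : σ RatFunc.X = (RatFunc.X : RatFunc k)⁻¹)
    (hτ : τ RatFunc.X = 1 - (RatFunc.X : RatFunc k)) (b : RatFunc k) :
    (b ∈ Algebra.adjoin k ({RatFunc.X, (RatFunc.X : RatFunc k)⁻¹, ((RatFunc.X : RatFunc k) - 1)⁻¹} : Set (RatFunc k)) ∧
        σ b = b ∧ τ b = b) ↔
      b ∈ Algebra.adjoin k ({(256 : RatFunc k) * ((RatFunc.X : RatFunc k) ^ 2 - RatFunc.X + 1) ^ 3 /
        ((RatFunc.X : RatFunc k) ^ 2 * ((RatFunc.X : RatFunc k) - 1) ^ 2)} : Set (RatFunc k)) := by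
  rw [j_eq]
  have h256 : (256 : k) ≠ 0 := by
    have e : (256 : k) = 2 ^ 8 := by norm_num
    rw [e]; exact pow_ne_zero 8 h2
  constructor
  · rintro ⟨hB, hs, ht⟩
    obtain ⟨N, P, hP⟩ := normal_form b hB
    refine main_aux h2 σ τ hσ hτ _ ?_ N b P hs ht hP
    have hmem : algebraMap k (RatFunc k) (256⁻¹) * (algebraMap k (RatFunc k) 256 * jr) ∈
        Algebra.adjoin k ({algebraMap k (RatFunc k) 256 * jr} : Set (RatFunc k)) :=
      Subalgebra.mul_mem _ (Subalgebra.algebraMap_mem _ _)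
        (Algebra.subset_adjoin (Set.mem_singleton _))
    have e : algebraMap k (RatFunc k) (256⁻¹) * (algebraMap k (RatFunc k) 256 * jr) = jr := by
      rw [← mul_assoc, ← map_mul, inv_mul_cancel₀ h256, map_one, one_mul]
    rwa [e] at hmem
  · intro hb
    induction hb using Algebra.adjoin_induction with
    | mem y hy =>
      rw [Set.mem_singleton_iff] at hy
      subst hy
      refine ⟨Subalgebra.mul_mem _ (Subalgebra.algebraMap_mem _ _) jr_mem_B, ?_, ?_⟩
      · rw [map_mul, AlgEquiv.commutes, sigma_jr σ hσ]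
      · rw [map_mul, AlgEquiv.commutes, tau_jr τ hτ]
    | algebraMap r => exact ⟨Subalgebra.algebraMap_mem _ r, σ.commutes r, τ.commutes r⟩
    | add y z _ _ hy hz =>
      exact ⟨Subalgebra.add_mem _ hy.1 hz.1, by rw [map_add, hy.2.1, hz.2.1],
        by rw [map_add, hy.2.2, hz.2.2]⟩
    | mul y z _ _ hy hz =>
      exact ⟨Subalgebra.mul_mem _ hy.1 hz.1, by rw [map_mul, hy.2.1, hz.2.1],
        by rw [map_mul, hy.2.2, hz.2.2]⟩

end Aux11470
namespace Groth.Agent.S11470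

/-- The algebraic step of its proof: Fix an algebraically closed field k whose characteristic is neither
2 nor 3, let B ⊆ k(λ) be the k-subalgebra generated by λ, λ⁻¹ and (λ - 1)⁻¹ (the coordinate ring of
the λ-line with 0 and 1 removed), and let σ and τ be the k-algebra automorphisms of k(λ) determined
by σ(λ) = λ⁻¹ and τ(λ) = 1 - λ (they generate the group of order six permuting λ, 1/λ, 1-λ, 1/(1-λ),
λ/(λ-1), (λ-1)/λ). Then the elements of B fixed by σ and τ are exactly the elements of the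
k-subalgebra generated by j = 256 (λ² - λ + 1)³ / (λ² (λ - 1)²); in other words the ring of
invariants of B is the polynomial ring k[j]. -/
theorem result (k : Type u) [Field k] [IsAlgClosed k]
    (h2 : (2 : k) ≠ 0) (h3 : (3 : k) ≠ 0)
    (σ τ : RatFunc k ≃ₐ[k] RatFunc k) (hσ : σ RatFunc.X = (RatFunc.X : RatFunc k)⁻¹)
    (hτ : τ RatFunc.X = 1 - (RatFunc.X : RatFunc k)) (b : RatFunc k) :
    (b ∈ Algebra.adjoin k ({RatFunc.X, (RatFunc.X : RatFunc k)⁻¹, ((RatFunc.X : RatFunc k) - 1)⁻¹} : Set (RatFunc k)) ∧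
        σ b = b ∧ τ b = b) ↔
      b ∈ Algebra.adjoin k ({(256 : RatFunc k) * ((RatFunc.X : RatFunc k) ^ 2 - RatFunc.X + 1) ^ 3 /
        ((RatFunc.X : RatFunc k) ^ 2 * ((RatFunc.X : RatFunc k) - 1) ^ 2)} : Set (RatFunc k)) := by
  exact Aux11470.main k h2 σ τ hσ hτ b

end Groth.Agent.S11470
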