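import Groth.Statements.S1148
import Groth.Agent.Lib.Helper12.GenericPts
import Mathlib
-- import your own Groth.Agent.* helpers here

set_option autoImplicit false
universe u
open Desc

namespace Groth.Agent.S1148


/-- the image of a generic point of an irreducible component under a generalizing map is again
such a generic point -/
theorem generic_of_generalizing {A B : Type*} [TopologicalSpace A] [TopologicalSpace B]
    [T0Space A] [QuasiSober B] {p : A → B} (hp : GeneralizingMap p) {ζ : A}
    (hζ : closure ({ζ} : Set A) ∈ irreducibleComponents A) :
    closure ({p ζ} : Set B) ∈ irreducibleComponents B := by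
  apply Groth.Agent.Lib.Helper12.mem_irreducibleComponents_of_forall_specializes
  intro x' hx'
  obtain ⟨ζ', hζ', rfl⟩ := hp hx'
  rw [Groth.Agent.Lib.Helper12.eq_of_specializes_of_mem_irreducibleComponents hζ hζ']

open PrimeSpectrum in
theorem finite_generic_fiber (A B : Type u) [CommRing A] [CommRing B] [Algebra A B]
    [Algebra.FiniteType A B] (p : PrimeSpectrum A) :
    (genericPoints (PrimeSpectrum B) ∩ comap (algebraMap A B) ⁻¹' {p}).Finite := by
  classical
  let e := PrimeSpectrum.preimageOrderIsoFiber A B p
  have hNoeth : IsNoetherianRing (p.asIdeal.Fiber B) :=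
    Algebra.FiniteType.isNoetherianRing p.asIdeal.ResidueField _
  have hfin : (minimalPrimes (p.asIdeal.Fiber B)).Finite :=
    minimalPrimes.finite_of_isNoetherianRing _
  let S : Set (comap (algebraMap A B) ⁻¹' {p}) := {q | q.1 ∈ genericPoints (PrimeSpectrum B)}
  have hS : S.Finite := by
    refine Set.Finite.of_injOn (f := fun q => (e q).asIdeal) ?_ ?_ hfin
    · intro q hq
      refine ⟨⟨(e q).2, bot_le⟩, ?_⟩
      rintro r ⟨hr, -⟩ hle
      let r' : PrimeSpectrum (p.asIdeal.Fiber B) := ⟨r, hr⟩
      have h1 : r' ≤ e q := hle
      have h2 : e.symm r' ≤ q := by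
        rw [← e.symm_apply_apply q]
        exact e.symm.monotone h1
      have h3 : (e.symm r').1 ⤳ q.1 := (PrimeSpectrum.le_iff_specializes _ _).1 h2
      have h4 : (e.symm r').1 = q.1 :=
        Groth.Agent.Lib.Helper12.eq_of_specializes_of_mem_irreducibleComponents hq h3
      have h5 : e.symm r' = q := Subtype.ext h4
      have h6 : r' = e q := by rw [← h5, e.apply_symm_apply]
      show (e q).asIdeal ≤ r
      rw [← h6]
    · intro q₁ _ q₂ _ h
      exact e.injective (PrimeSpectrum.ext h)
  have : genericPoints (PrimeSpectrum B) ∩ comap (algebraMap A B) ⁻¹' {p} = Subtype.val '' S := by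
    ext q
    constructor
    · rintro ⟨hq1, hq2⟩
      exact ⟨⟨q, hq2⟩, hq1, rfl⟩
    · rintro ⟨q', hq', rfl⟩
      exact ⟨hq', q'.2⟩
  rw [this]
  exact hS.image _

/-- Affine form (finiteness of irreducible components of quasi-compact opens is fppf local; this is the
ascent direction for a morphism of affine schemes). Let A → B be a flat ring map of finite
presentation. If Spec A has finitely many irreducible components, then so does Spec B. -/
theorem result (A B : Type u) [CommRing A] [CommRing B] [Algebra A B]
    [Module.Flat A B] [Algebra.FinitePresentation A B] (h : (irreducibleComponents (PrimeSpectrum A)).Finite) :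
    (irreducibleComponents (PrimeSpectrum B)).Finite := by
  classical
  have hA : (genericPoints (PrimeSpectrum A)).Finite := genericPoints.finite h
  have hflat : (algebraMap A B).Flat := RingHom.flat_algebraMap_iff.2 inferInstance
  have hgen : GeneralizingMap (PrimeSpectrum.comap (algebraMap A B)) :=
    RingHom.Flat.generalizingMap_comap hflat
  have hB : (genericPoints (PrimeSpectrum B)).Finite := by
    have hcover : genericPoints (PrimeSpectrum B) ⊆
        ⋃ p ∈ genericPoints (PrimeSpectrum A),
          (genericPoints (PrimeSpectrum B) ∩ PrimeSpectrum.comap (algebraMap A B) ⁻¹' {p}) := by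
      intro q hq
      simp only [Set.mem_iUnion]
      exact ⟨PrimeSpectrum.comap (algebraMap A B) q, generic_of_generalizing hgen hq, hq, rfl⟩
    exact (hA.biUnion fun p _ => finite_generic_fiber A B p).subset hcover
  have : Finite (genericPoints (PrimeSpectrum B)) := hB.to_subtype
  have : Finite (irreducibleComponents (PrimeSpectrum B)) := Finite.of_equiv _ genericPoints.equiv
  exact Set.toFinite _

end Groth.Agent.S1148
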