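import Groth.Statements.S11485
import Groth.Agent.Lib.Helper7.PicPn
import Groth.Agent.Lib.Helper7.Gaeta2
import Groth.Agent.Lib.Helper7.Mumford
import Groth.Agent.S0844

set_option autoImplicit false
universe u
open VBPn

namespace Groth.Agent.S11485

open CategoryTheory CategoryTheory.Limits AlgebraicGeometry in
lemma isInvertible_of_rank_one {X : Scheme.{u}} {M : X.Modules}
    (h : FlatMod.IsFinLocFreeOfRank 1 M) : PicF.IsInvertible M := by
  intro x
  obtain ⟨U, hxU, ⟨e⟩⟩ := h x
  exact ⟨U, hxU, ⟨e ≪≫ coproductUniqueIso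
    (fun _ : Fin 1 => Coh.structureModule (U : Scheme.{u}))⟩⟩

open CategoryTheory CategoryTheory.Limits AlgebraicGeometry Groth.Agent.Lib.Helper7
  Groth.Agent.Lib.Helper7.TwFun Groth.Agent.Lib.Helper7.RegRes in
lemma splits (k : Type u) [Field k] (n : ℕ) (hn : 2 ≤ n)
    (S : ShortComplex (CohB1.ProjSpace n k).Modules) (hS : S.ShortExact) (a b : ℤ)
    (ea : S.X₁ ≅ Twist.twistProjSpace n k a) (eb : S.X₃ ≅ Twist.twistProjSpace n k b) :
    Nonempty (S.X₂ ≅ Twist.twistProjSpace n k a ⊞ Twist.twistProjSpace n k b) := by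
  have hU := Mumford.hU n k
  haveI := isEquivalence_twR (Twist.twistProjSpace n k (-b))
    (Twist.twistProjSpace n k (-(-b))) (TwProj.pairIso hU (-b))
  have hS' : (S.map (twR (Twist.twistProjSpace n k (-b)))).ShortExact :=
    Mumford.shortExact_tw n k (-b) S hS
  have e1 : (twR (Twist.twistProjSpace n k (-b))).obj S.X₁ ≅
      Twist.twistProjSpace n k (a - b) :=
    (twR (Twist.twistProjSpace n k (-b))).mapIso ea ≪≫ mulIso' hU a (-b) (a - b) (by ring)
  have e3 : (twR (Twist.twistProjSpace n k (-b))).obj S.X₃ ≅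
      Coh.structureModule (CohB1.ProjSpace n k) :=
    (twR (Twist.twistProjSpace n k (-b))).mapIso eb ≪≫ pairIso' hU b (-b) (by ring)
  have hv : Subsingleton (Coh.HH (CohB1.ProjSpace n k)
      ((twR (Twist.twistProjSpace n k (-b))).obj S.X₁) 1) :=
    subsingleton_HH_of_iso e1 1 (Groth.Agent.S0844.result k n (a - b) 1
      (by rintro ⟨h, -⟩; omega) (by rintro ⟨h, -⟩; omega))
  have hsurj := Gaeta.surj_H0_of_sub_H1 k (S.map (twR (Twist.twistProjSpace n k (-b)))) hS' hv
  obtain ⟨σ, hσ⟩ : ∃ σ : Coh.structureModule (CohB1.ProjSpace n k) ⟶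
      (twR (Twist.twistProjSpace n k (-b))).obj S.X₂,
      σ ≫ (twR (Twist.twistProjSpace n k (-b))).map S.g = e3.inv :=
    Gaeta.surj_hom_of_surj_H0 k
      (S.map (twR (Twist.twistProjSpace n k (-b)))).g hsurj e3.inv
  obtain ⟨s, hs⟩ : ∃ s : S.X₃ ⟶ S.X₂,
      (twR (Twist.twistProjSpace n k (-b))).map s = e3.hom ≫ σ :=
    ⟨(twR (Twist.twistProjSpace n k (-b))).preimage (e3.hom ≫ σ),
      (twR (Twist.twistProjSpace n k (-b))).map_preimage _⟩
  have hsg : s ≫ S.g = 𝟙 S.X₃ := by
    apply (twR (Twist.twistProjSpace n k (-b))).map_injective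
    rw [CategoryTheory.Functor.map_comp, hs, CategoryTheory.Functor.map_id, Category.assoc,
      hσ, Iso.hom_inv_id]
  let spl := ShortComplex.Splitting.ofExactOfSection S hS.exact s hsg hS.mono_f
  exact ⟨spl.isoBinaryBiproduct ≪≫ biprod.mapIso ea eb⟩

open CategoryTheory CategoryTheory.Limits AlgebraicGeometry in
/-- Let k be an algebraically closed field of characteristic zero and n ≥ 2. If 0 → L → E → M → 0 is a
short exact sequence of O-modules on P^n_k with L and M finite locally free of rank 1 (so E is a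
rank-2 vector bundle with the proper subbundle L), then E ≅ O(a) ⊕ O(b) for some integers a, b: a
rank-2 vector bundle on P^n_k, n ≥ 2, which does not split has no proper subbundle. -/
theorem result (k : Type u) [Field k] [IsAlgClosed k]
    [CharZero k] (n : ℕ) (hn : 2 ≤ n) (S : ShortComplex (CohB1.ProjSpace n k).Modules) (hS : S.ShortExact)
    (h₁ : FlatMod.IsFinLocFreeOfRank 1 S.X₁) (h₃ : FlatMod.IsFinLocFreeOfRank 1 S.X₃) :
    ∃ a b : ℤ, Nonempty (S.X₂ ≅ Twist.twistProjSpace n k a ⊞ Twist.twistProjSpace n k b) := by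
  obtain ⟨a, ⟨ea⟩⟩ := Groth.Agent.Lib.Helper7.PicPn.exists_iso_twist n k S.X₁
    (isInvertible_of_rank_one h₁)
  obtain ⟨b, ⟨eb⟩⟩ := Groth.Agent.Lib.Helper7.PicPn.exists_iso_twist n k S.X₃
    (isInvertible_of_rank_one h₃)
  exact ⟨a, b, splits k n hn S hS a b ea eb⟩

end Groth.Agent.S11485
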