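import Groth.Statements.S11486
import Groth.Agent.Lib.Helper7.LocFreePn

set_option autoImplicit false
universe u
open VBPn

namespace Groth.Agent.S11486

open CategoryTheory CategoryTheory.Limits AlgebraicGeometry in
/-- Let k be a characteristic-zero algebraically closed field and E a finite locally free O-module of
rank r on P^n_k. Then E splits as a direct sum of twisting sheaves O(a_1) ⊕ ⋯ ⊕ O(a_r) if and only
if H^i(P^n_k, E ⊗ O(d)) = 0 for every 0 < i < n and every integer d. -/
theorem result (k : Type u) [Field k] [IsAlgClosed k] [CharZero k]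
    (n r : ℕ) (E : (CohB1.ProjSpace n k).Modules) (hE : FlatMod.IsFinLocFreeOfRank r E) :
    (∃ a : Fin r → ℤ, Nonempty (E ≅ ∐ fun j : Fin r => Twist.twistProjSpace n k (a j))) ↔
      ∀ (i : ℕ) (d : ℤ), 0 < i → i < n →
        Subsingleton (Coh.HH (CohB1.ProjSpace n k) (CohB1.tensorMod E (Twist.twistProjSpace n k d)) i) := by
  rcases Nat.eq_zero_or_pos n with hn | hn
  · subst hn
    constructor
    · intro _ i d hi hin
      exact absurd hin (Nat.not_lt_zero _)
    · intro _
      exact Groth.Agent.Lib.Helper7.LocFreePn.isSplit_rank_zero k E r hE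
  · constructor
    · rintro ⟨a, ⟨e⟩⟩ i d hi hin
      exact (Groth.Agent.Lib.Helper7.Horrocks.cond_of_isSplit n k hn E ⟨r, a, ⟨e⟩⟩).2 d i hi hin
    · intro h
      exact Groth.Agent.Lib.Helper7.LocFreePn.isSplit_rank n k hn E r hE
        (fun m i hi hin => h i m hi hin)

end Groth.Agent.S11486
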