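import Groth.Statements.S11493
import Mathlib

set_option autoImplicit false
universe u
open CategoryTheory

namespace Groth.Agent.S11493

/-- A module `M` over a local ring admitting a surjection `p : F → M` from a finite free module
with free kernel, such that every linear form on `ker p` extends to `F`, is free. -/
theorem free_of_extend {A : Type u} [CommRing A] [IsNoetherianRing A] [IsLocalRing A]
    {F M : Type u} [AddCommGroup F] [Module A F] [Module.Finite A F] [Module.Free A F]
    [AddCommGroup M] [Module A M] (p : F →ₗ[A] M) (hp : Function.Surjective p)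
    [Module.Free A (LinearMap.ker p)]
    (hext : ∀ c : LinearMap.ker p →ₗ[A] A,
      ∃ g : F →ₗ[A] A, g ∘ₗ (LinearMap.ker p).subtype = c) :
    Module.Free A M := by
  classical
  haveI : Module.Finite A (LinearMap.ker p) := inferInstance
  let b := Module.Free.chooseBasis A (LinearMap.ker p)
  choose g hg using fun i => hext (b.coord i)
  let r : F →ₗ[A] LinearMap.ker p := ∑ i, (g i).smulRight (b i)
  have hr : r ∘ₗ (LinearMap.ker p).subtype = LinearMap.id := by
    apply LinearMap.ext
    intro k
    have h1 : ∀ i, g i ((LinearMap.ker p).subtype k) = b.repr k i := fun i => by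
      have := LinearMap.congr_fun (hg i) k
      simpa using this
    simp only [LinearMap.comp_apply, LinearMap.id_apply, r, LinearMap.sum_apply,
      LinearMap.smulRight_apply, h1]
    exact b.sum_repr k
  have hsplit : (∃ l, p ∘ₗ l = LinearMap.id) ↔
      (∃ l, l ∘ₗ (LinearMap.ker p).subtype = LinearMap.id) :=
    (Function.Exact.split_tfae (LinearMap.exact_subtype_ker_map p)
      (Submodule.injective_subtype _) hp).out 0 1
  obtain ⟨l, hl⟩ := hsplit.mpr ⟨r, hr⟩
  haveI : Module.Projective A M := Module.Projective.of_split l p hl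
  haveI : Module.Finite A M := Module.Finite.of_surjective p hp
  exact Module.free_of_flat_of_isLocalRing

open Abelian in
/-- Let A be a Noetherian local ring and I an ideal with a free resolution of length 1, 0 → A^p → A^q →
I → 0 (equivalently: a surjection A^q → I with free kernel). Let 0 → A → M → I → 0 be an extension
with class e ∈ Ext^1(I, A). Then M is free if and only if e generates the A-module Ext^1(I, A); the
A-module structure being through End(A) = A, this says every element of Ext^1(I, A) is the composite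
of e with an endomorphism of A. -/
theorem result (A : Type u) [CommRing A] [IsNoetherianRing A] [IsLocalRing A]
    (I : Ideal A)
    (hres : ∃ (q : ℕ) (φ : (Fin q → A) →ₗ[A] ↥I), Function.Surjective φ ∧ Module.Free A ↥(LinearMap.ker φ))
    (S : ShortComplex (ModuleCat.{u} A)) (hS : S.ShortExact)
    (h₁ : Nonempty (S.X₁ ≅ ModuleCat.of A A)) (h₃ : Nonempty (S.X₃ ≅ ModuleCat.of A ↥I)) :
    Module.Free A S.X₂ ↔
      ∀ x : Abelian.Ext S.X₃ S.X₁ 1, ∃ f : S.X₁ ⟶ S.X₁, hS.extClass.comp (Abelian.Ext.mk₀ f) (add_zero 1) = x := by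
  obtain ⟨q, φ, hφ, hK⟩ := hres
  obtain ⟨i₁⟩ := h₁
  obtain ⟨i₃⟩ := h₃
  haveI hPA : Projective (ModuleCat.of A A) := (IsProjective.iff_projective (R := A) A).mp inferInstance
  haveI : Projective S.X₁ := Projective.of_iso i₁.symm hPA
  constructor
  · intro hfree x
    haveI : Module.Projective A S.X₂ := inferInstance
    have hx₃ : (Ext.mk₀ S.g).comp x (zero_add 1) = 0 := Ext.eq_zero_of_projective _
    obtain ⟨x₁, hx₁⟩ := Ext.contravariant_sequence_exact₃ hS S.X₁ x hx₃ (add_zero 1)
    obtain ⟨f, rfl⟩ := (Ext.mk₀_bijective S.X₁ S.X₁).2 x₁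
    exact ⟨f, hx₁⟩
  · intro hgen
    have hvan : ∀ y : Ext S.X₂ S.X₁ 1, y = 0 := by
      intro y
      have hy : (Ext.mk₀ S.f).comp y (zero_add 1) = 0 := Ext.eq_zero_of_projective _
      obtain ⟨x₃, hx₃⟩ := Ext.contravariant_sequence_exact₂ hS S.X₁ y hy
      obtain ⟨f, hf⟩ := hgen x₃
      rw [← hx₃, ← hf]
      exact hS.comp_extClass_assoc (Ext.mk₀ f) (add_zero 1)
    let e₁ : S.X₁ ≃ₗ[A] A := i₁.toLinearEquiv
    let e₃ : S.X₃ ≃ₗ[A] I := i₃.toLinearEquiv
    have hι : Function.Injective S.f.hom := hS.moduleCat_injective_f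
    have hπ : Function.Surjective S.g.hom := hS.moduleCat_surjective_g
    have hex : Function.Exact S.f.hom S.g.hom :=
      (ShortComplex.ShortExact.moduleCat_exact_iff_function_exact S).mp hS.exact
    obtain ⟨ψ, hψ⟩ := Module.projective_lifting_property S.g.hom
      (e₃.symm.toLinearMap ∘ₗ φ) hπ
    have hψ' : ∀ v, S.g.hom (ψ v) = e₃.symm (φ v) := fun v => LinearMap.congr_fun hψ v
    obtain ⟨p, hpdef⟩ : ∃ p : (A × (Fin q → A)) →ₗ[A] S.X₂,
        ∀ a v, p (a, v) = S.f.hom (e₁.symm a) + ψ v :=
      ⟨(S.f.hom ∘ₗ e₁.symm.toLinearMap).coprod ψ, fun a v => by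
        simp [LinearMap.coprod_apply]⟩
    have hgf : ∀ x, S.g.hom (S.f.hom x) = 0 := fun x => (hex _).mpr ⟨x, rfl⟩
    have hp : Function.Surjective p := by
      intro m
      obtain ⟨v, hv⟩ := hφ (e₃ (S.g.hom m))
      have h0 : S.g.hom (m - ψ v) = 0 := by
        rw [map_sub, hψ' v, hv, e₃.symm_apply_apply, sub_self]
      obtain ⟨x, hx⟩ := (hex (m - ψ v)).mp h0
      refine ⟨(e₁ x, v), ?_⟩
      rw [hpdef, e₁.symm_apply_apply, hx]
      abel
    have hsnd : ∀ x ∈ LinearMap.ker p,
        (LinearMap.snd A A (Fin q → A)) x ∈ LinearMap.ker φ := by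
      rintro ⟨a, v⟩ hx
      rw [LinearMap.mem_ker] at hx ⊢
      rw [hpdef] at hx
      have h2 : ψ v = - S.f.hom (e₁.symm a) := eq_neg_of_add_eq_zero_right hx
      have h4 : e₃.symm (φ v) = 0 := by rw [← hψ' v, h2, map_neg, hgf, neg_zero]
      have h5 : φ v = 0 := by
        have := congrArg e₃ h4
        rwa [e₃.apply_symm_apply, map_zero] at this
      exact h5
    let σ : LinearMap.ker p →ₗ[A] LinearMap.ker φ :=
      (LinearMap.snd A A (Fin q → A)).restrict hsnd
    have hσ : Function.Bijective σ := by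
      constructor
      · rw [injective_iff_map_eq_zero]
        rintro ⟨⟨a, v⟩, hx⟩ h0
        have hv : v = 0 := congrArg Subtype.val h0
        subst hv
        have hx' := hx
        rw [LinearMap.mem_ker, hpdef, map_zero, add_zero] at hx'
        have ha : e₁.symm a = 0 := hι (hx'.trans (map_zero _).symm)
        have ha' : a = 0 := by
          have := congrArg e₁ ha
          rwa [e₁.apply_symm_apply, map_zero] at this
        subst ha'
        rfl
      · rintro ⟨v, hv⟩
        have h1 : S.g.hom (ψ v) = 0 := by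
          rw [hψ' v, LinearMap.mem_ker.mp hv, map_zero]
        obtain ⟨x, hx⟩ := (hex (ψ v)).mp h1
        refine ⟨⟨(- e₁ x, v), ?_⟩, ?_⟩
        · rw [LinearMap.mem_ker, hpdef, map_neg, e₁.symm_apply_apply, map_neg, hx,
            neg_add_cancel]
        · exact Subtype.ext rfl
    haveI : Module.Free A (LinearMap.ker p) :=
      Module.Free.of_equiv (LinearEquiv.ofBijective σ hσ).symm
    have hext : ∀ c : LinearMap.ker p →ₗ[A] A,
        ∃ g : (A × (Fin q → A)) →ₗ[A] A, g ∘ₗ (LinearMap.ker p).subtype = c := by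
      intro c
      have hS' := LinearMap.shortExact_shortComplexKer hp
      let c' : p.shortComplexKer.X₁ ⟶ S.X₁ := ModuleCat.ofHom (e₁.symm.toLinearMap ∘ₗ c)
      have h0 : hS'.extClass.comp (Ext.mk₀ c') (add_zero 1) = 0 := hvan _
      obtain ⟨x₂, hx₂⟩ := Ext.contravariant_sequence_exact₁ hS' S.X₁ (Ext.mk₀ c') (add_zero 1) h0
      obtain ⟨g', rfl⟩ := (Ext.mk₀_bijective _ _).2 x₂
      rw [Ext.mk₀_comp_mk₀] at hx₂
      have hg' : p.shortComplexKer.f ≫ g' = c' := (Ext.mk₀_bijective _ _).1 hx₂
      refine ⟨e₁.toLinearMap ∘ₗ g'.hom, ?_⟩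
      apply LinearMap.ext
      intro k
      have h5 : (p.shortComplexKer.f ≫ g').hom k = c'.hom k := by rw [hg']
      have h6 : g'.hom ((LinearMap.ker p).subtype k) = e₁.symm (c k) := h5
      show e₁ (g'.hom ((LinearMap.ker p).subtype k)) = c k
      rw [h6, e₁.apply_symm_apply]
    exact free_of_extend p hp hext

end Groth.Agent.S11493
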