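import Groth.Statements.S11496
import Groth.Agent.Lib.Helper26.RegularExt
import Groth.Agent.Lib.Helper9.SemiLocal

set_option autoImplicit false
universe u
open CategoryTheory
open VBPn

namespace Groth.Agent.S11496

/-- Let A be a regular local ring, M a finitely generated A-module and i ≥ 0. The support of Ext^i_A(M,
A) has dimension at most dim A − i: for every prime ideal p of A such that Ext^i over the
localization A_p of M_p into A_p is nonzero (this Ext group is the localization at p of Ext^i_A(M,
A)), one has dim(A/p) + i ≤ dim A. The published statement is for coherent analytic sheaves on an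
n-dimensional complex manifold; this row is stated for any regular local ring. -/
theorem result (A : Type u) [CommRing A] [IsRegularLocalRing A]
    (M : Type u) [AddCommGroup M] [Module A M] [Module.Finite A M] (i : ℕ) (p : Ideal A) [p.IsPrime]
    (h : Nontrivial (Abelian.Ext
      (ModuleCat.of (Localization.AtPrime p) (LocalizedModule p.primeCompl M))
      (ModuleCat.of (Localization.AtPrime p) (Localization.AtPrime p)) i)) :
    ringKrullDim (A ⧸ p) + (i : WithBot ℕ∞) ≤ ringKrullDim A := by
  haveI : IsRegularLocalRing (Localization.AtPrime p) :=
    Groth.Agent.Lib.Helper26.RegularRing.isRegularLocalRing_localization_atPrime A p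
  obtain ⟨h', hh⟩ := Groth.Agent.Lib.Helper26.SerreReg.exists_nat_ringKrullDim
    (Localization.AtPrime p)
  have hpd := Groth.Agent.S0563.result (Localization.AtPrime p) h' hh
    (LocalizedModule p.primeCompl M)
  have hi : i ≤ h' := by
    by_contra hlt
    exact not_subsingleton _ (HasProjectiveDimensionLT.subsingleton
      (ModuleCat.of (Localization.AtPrime p) (LocalizedModule p.primeCompl M)) (h' + 1) i (by omega)
      (ModuleCat.of (Localization.AtPrime p) (Localization.AtPrime p)))
  have hht := IsLocalization.AtPrime.ringKrullDim_eq_height p (Localization.AtPrime p)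
  rw [hh] at hht
  have hp : p.height = (h' : ℕ∞) := by exact_mod_cast hht.symm
  let P : PrimeSpectrum A := ⟨p, inferInstance⟩
  have h1 := Groth.Agent.Lib.Helper9.ringKrullDim_quotient_eq_coheight P
  have h2 : ((Order.height P + Order.coheight P : ℕ∞) : WithBot ℕ∞) ≤ ringKrullDim A := by
    rw [ringKrullDim, Order.krullDim_eq_iSup_height_add_coheight_of_nonempty]
    exact WithBot.coe_le_coe.mpr (le_iSup (fun a => Order.height a + Order.coheight a) P)
  have h3 : Order.height P = p.height := (PrimeSpectrum.height_eq_orderHeight P).symm
  change ringKrullDim (A ⧸ P.asIdeal) + _ ≤ _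
  rw [h1]
  refine le_trans ?_ h2
  rw [h3, hp, add_comm]
  have : ((i : ℕ∞) : WithBot ℕ∞) ≤ ((h' : ℕ∞) : WithBot ℕ∞) := by exact_mod_cast hi
  push_cast
  exact add_le_add this le_rfl

end Groth.Agent.S11496
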