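import Groth.Statements.S11497
import Mathlib

set_option autoImplicit false
universe w v u
open CategoryTheory
open VBPn

namespace Groth.Agent.S11497

open CategoryTheory.Limits Abelian in
lemma exists_lift_of_ext_one {C : Type u} [Category.{v} C] [Abelian C] [HasExt.{w} C]
    {S : ShortComplex C} (hS : S.ShortExact) {X : C} (x₃ : X ⟶ S.X₃)
    (h : Subsingleton (Abelian.Ext X S.X₁ 1)) : ∃ x₂ : X ⟶ S.X₂, x₂ ≫ S.g = x₃ := by
  obtain ⟨x₂', hx₂'⟩ := Ext.covariant_sequence_exact₃ X hS (Ext.mk₀ x₃) (n₁ := 1) rfl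
    (Subsingleton.elim _ _)
  obtain ⟨x₂, rfl⟩ := (Ext.mk₀_bijective _ _).2 x₂'
  refine ⟨x₂, ?_⟩
  rw [Ext.mk₀_comp_mk₀] at hx₂'
  exact (Ext.mk₀_bijective _ _).1 hx₂'

open CategoryTheory.Limits Abelian in
lemma exists_extend_of_ext_one {C : Type u} [Category.{v} C] [Abelian C] [HasExt.{w} C]
    {S : ShortComplex C} (hS : S.ShortExact) {Y : C} (y₁ : S.X₁ ⟶ Y)
    (h : Subsingleton (Abelian.Ext S.X₃ Y 1)) : ∃ y₂ : S.X₂ ⟶ Y, S.f ≫ y₂ = y₁ := by
  obtain ⟨y₂', hy₂'⟩ := Ext.contravariant_sequence_exact₁ hS Y (Ext.mk₀ y₁) (n₁ := 1) rfl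
    (Subsingleton.elim _ _)
  obtain ⟨y₂, rfl⟩ := (Ext.mk₀_bijective _ _).2 y₂'
  refine ⟨y₂, ?_⟩
  rw [Ext.mk₀_comp_mk₀] at hy₂'
  exact (Ext.mk₀_bijective _ _).1 hy₂'

open CategoryTheory.Limits Abelian in
lemma subsingleton_ext_one_left {C : Type u} [Category.{v} C] [Abelian C] [HasExt.{w} C]
    {S : ShortComplex C} (hS : S.ShortExact) (Y : C)
    (h2 : Subsingleton (Abelian.Ext S.X₂ Y 1)) (h3 : Subsingleton (Abelian.Ext S.X₃ Y 2)) :
    Subsingleton (Abelian.Ext S.X₁ Y 1) := by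
  refine ⟨fun a b => ?_⟩
  have key : ∀ x₁ : Abelian.Ext S.X₁ Y 1, x₁ = 0 := by
    intro x₁
    obtain ⟨x₂, hx₂⟩ := Ext.contravariant_sequence_exact₁ hS Y x₁ (n₁ := 2) rfl
      (Subsingleton.elim _ _)
    rw [← hx₂, Subsingleton.elim x₂ 0, Ext.comp_zero]
  rw [key a, key b]


/-- In an abelian category, let M : A → B → C and M' : A' → B' → C' be monads, i.e. short complexes
whose first map is a monomorphism and whose second map is an epimorphism, with cohomology (homology)
objects E and E'. Suppose Hom(B, A') = 0, Hom(C, B') = 0 and Ext^1(C, A') = Ext^1(B, A') = Ext^1(C,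
B') = Ext^2(C, A') = 0. Then the map sending a morphism of monads M → M' to the induced morphism E →
E' is bijective. The published statement is for monads of vector bundles on a complex manifold X,
with Ext^i(C, A') written H^i(X, C^* ⊗ A'); this row is stated in any abelian category. -/
theorem result {C : Type u} [Category.{v} C] [Abelian C] [HasExt.{w} C]
    (M M' : ShortComplex C) [Mono M.f] [Epi M.g] [Mono M'.f] [Epi M'.g]
    (hBA : ∀ f : M.X₂ ⟶ M'.X₁, f = 0) (hCB : ∀ f : M.X₃ ⟶ M'.X₂, f = 0)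
    (hCA₁ : Subsingleton (Abelian.Ext M.X₃ M'.X₁ 1)) (hBA₁ : Subsingleton (Abelian.Ext M.X₂ M'.X₁ 1))
    (hCB₁ : Subsingleton (Abelian.Ext M.X₃ M'.X₂ 1)) (hCA₂ : Subsingleton (Abelian.Ext M.X₃ M'.X₁ 2)) :
    Function.Bijective (fun φ : M ⟶ M' => ShortComplex.homologyMap φ) := by
  classical
  -- the two short exact sequences attached to a monad
  have hS₁ : (ShortComplex.mk M.iCycles M.g M.iCycles_g).ShortExact := by
    have : Mono (ShortComplex.mk M.iCycles M.g M.iCycles_g).f := by dsimp; infer_instance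
    have : Epi (ShortComplex.mk M.iCycles M.g M.iCycles_g).g := by dsimp; infer_instance
    exact ShortComplex.ShortExact.mk' (ShortComplex.exact_of_f_is_kernel _ M.cyclesIsKernel) ‹_› ‹_›
  have hS₂' : (ShortComplex.mk M'.toCycles M'.homologyπ M'.toCycles_comp_homologyπ).ShortExact := by
    have h1 : Mono M'.toCycles := by
      have : Mono (M'.toCycles ≫ M'.iCycles) := by rw [M'.toCycles_i]; infer_instance
      exact mono_of_mono M'.toCycles M'.iCycles
    have : Mono (ShortComplex.mk M'.toCycles M'.homologyπ M'.toCycles_comp_homologyπ).f := h1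
    have : Epi (ShortComplex.mk M'.toCycles M'.homologyπ M'.toCycles_comp_homologyπ).g := by
      dsimp; infer_instance
    exact ShortComplex.ShortExact.mk'
      (ShortComplex.exact_of_g_is_cokernel _ M'.homologyIsCokernel) ‹_› ‹_›
  haveI : Mono (ShortComplex.mk M.iCycles M.g M.iCycles_g).f := hS₁.mono_f
  haveI : Epi (ShortComplex.mk M.iCycles M.g M.iCycles_g).g := hS₁.epi_g
  haveI : Mono (ShortComplex.mk M'.toCycles M'.homologyπ M'.toCycles_comp_homologyπ).f := hS₂'.mono_f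
  haveI : Epi (ShortComplex.mk M'.toCycles M'.homologyπ M'.toCycles_comp_homologyπ).g := hS₂'.epi_g
  -- `Hom(K, A') = 0`
  have hKA : ∀ x : M.cycles ⟶ M'.X₁, x = 0 := by
    intro x
    obtain ⟨y, hy⟩ := exists_extend_of_ext_one hS₁ (Y := M'.X₁) x hCA₁
    rw [← hy, hBA y, Limits.comp_zero]
  -- `Ext¹(K, A') = 0`
  have hKA₁ : Subsingleton (Abelian.Ext M.cycles M'.X₁ 1) :=
    subsingleton_ext_one_left hS₁ M'.X₁ hBA₁ hCA₂
  constructor
  · -- injectivity
    intro φ ψ hφψ
    have h0 : ShortComplex.homologyMap (φ - ψ) = 0 := by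
      rw [ShortComplex.homologyMap_sub]
      exact sub_eq_zero.2 hφψ
    suffices hδ : φ - ψ = 0 from sub_eq_zero.1 hδ
    generalize φ - ψ = δ at h0
    have h1 : ShortComplex.cyclesMap δ ≫ M'.homologyπ = 0 := by
      rw [← ShortComplex.homologyπ_naturality, h0, Limits.comp_zero]
    have h2 : ShortComplex.cyclesMap δ = 0 := by
      have := hS₂'.exact.lift_f (ShortComplex.cyclesMap δ) h1
      rw [← this, hKA (hS₂'.exact.lift (ShortComplex.cyclesMap δ) h1), Limits.zero_comp]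
    have h3 : M.iCycles ≫ δ.τ₂ = 0 := by
      rw [← ShortComplex.cyclesMap_i, h2, Limits.zero_comp]
    have h4 : δ.τ₂ = 0 := by
      have := hS₁.exact.g_desc δ.τ₂ h3
      rw [← this, hCB (hS₁.exact.desc δ.τ₂ h3), Limits.comp_zero]
    have h5 : δ.τ₁ = 0 := by
      rw [← cancel_mono M'.f, Limits.zero_comp, δ.comm₁₂, h4, Limits.comp_zero]
    have h6 : δ.τ₃ = 0 := by
      rw [← cancel_epi M.g, Limits.comp_zero, ← δ.comm₂₃, h4, Limits.zero_comp]
    ext
    · exact h5
    · exact h4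
    · exact h6
  · -- surjectivity
    intro ε
    obtain ⟨κ, hκ⟩ := exists_lift_of_ext_one hS₂' (X := M.cycles) (M.homologyπ ≫ ε) hKA₁
    obtain ⟨b, hb⟩ := exists_extend_of_ext_one hS₁ (Y := M'.X₂) (κ ≫ M'.iCycles) hCB₁
    dsimp only at hκ hb
    have hc0 : M.iCycles ≫ b ≫ M'.g = 0 := by
      rw [← Category.assoc, hb, Category.assoc, M'.iCycles_g, Limits.comp_zero]
    have hc := hS₁.exact.g_desc (b ≫ M'.g) hc0
    have ha0 : (M.toCycles ≫ κ) ≫ M'.homologyπ = 0 := by
      rw [Category.assoc, hκ, ← Category.assoc, M.toCycles_comp_homologyπ, Limits.zero_comp]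
    have ha := hS₂'.exact.lift_f (M.toCycles ≫ κ) ha0
    dsimp only at hc ha
    let φ : M ⟶ M' :=
      { τ₁ := hS₂'.exact.lift (M.toCycles ≫ κ) ha0
        τ₂ := b
        τ₃ := hS₁.exact.desc (b ≫ M'.g) hc0
        comm₁₂ := by
          rw [← M'.toCycles_i, ← Category.assoc, ha, Category.assoc, ← hb, ← Category.assoc,
            M.toCycles_i]
        comm₂₃ := hc.symm }
    refine ⟨φ, ?_⟩
    show ShortComplex.homologyMap φ = ε
    have hcyc : ShortComplex.cyclesMap φ = κ := by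
      rw [← cancel_mono M'.iCycles, ShortComplex.cyclesMap_i]
      exact hb
    rw [← cancel_epi M.homologyπ, ShortComplex.homologyπ_naturality, hcyc, hκ]

end Groth.Agent.S11497
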