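import Groth.Statements.S11499
import Mathlib

set_option autoImplicit false
universe u
open TensorProduct
open VBPn

namespace Groth.Agent.S11499

/-- Let A be an integral domain with fraction field K and M a finitely generated torsion-free A-module
of rank r (K ⊗_A M is r-dimensional over K). Then there is an injective A-linear map M → A^r. The
published statement is for torsion-free coherent sheaves on a complex manifold, locally near a
point; this row is its statement for one stalk, over any domain. -/
theorem result (A : Type u) [CommRing A] [IsDomain A]
    (M : Type u) [AddCommGroup M] [Module A M] [Module.Finite A M] [NoZeroSMulDivisors A M] (r : ℕ)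
    (hr : Module.finrank (FractionRing A) (FractionRing A ⊗[A] M) = r) :
    ∃ f : M →ₗ[A] (Fin r → A), Function.Injective f := by
  classical
  set K := FractionRing A with hK
  have hfin : Module.Finite K (K ⊗[A] M) := inferInstance
  let b : Module.Basis (Fin r) K (K ⊗[A] M) := Module.finBasisOfFinrankEq K (K ⊗[A] M) hr
  let φ : M →ₗ[A] (Fin r → K) :=
    (b.equivFun.restrictScalars A).toLinearMap ∘ₗ (TensorProduct.mk A K M 1)
  have hmk : Function.Injective (TensorProduct.mk A K M 1) := by
    rw [injective_iff_map_eq_zero]
    intro m hm
    obtain ⟨c, hc⟩ := (IsLocalizedModule.eq_zero_iff (nonZeroDivisors A)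
      (TensorProduct.mk A K M 1)).1 hm
    have hc0 : (c : A) ≠ 0 := nonZeroDivisors.coe_ne_zero c
    rcases smul_eq_zero.1 hc with h | h
    · exact absurd h hc0
    · exact h
  have hφ : Function.Injective φ := by
    intro x y hxy
    apply hmk
    exact (b.equivFun.restrictScalars A).injective hxy
  obtain ⟨n, s, hs⟩ := Module.Finite.exists_fin (R := A) (M := M)
  obtain ⟨d, hd⟩ := IsLocalization.exist_integer_multiples_of_finite (nonZeroDivisors A)
    (fun ij : Fin n × Fin r => φ (s ij.1) ij.2)
  have hd0 : (d : A) ≠ 0 := nonZeroDivisors.coe_ne_zero d
  let ψ : M →ₗ[A] (Fin r → K) := (d : A) • φ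
  have hψ : Function.Injective ψ := by
    rw [injective_iff_map_eq_zero]
    intro m hm
    have h1 : (d : A) • φ m = 0 := hm
    have h2 : φ m = 0 := by
      funext j
      have h3 := congrFun h1 j
      simp only [Pi.smul_apply, Pi.zero_apply, Algebra.smul_def] at h3
      rcases mul_eq_zero.1 h3 with h | h
      · exact absurd ((map_eq_zero_iff _ (IsFractionRing.injective A K)).1 h) hd0
      · exact h
    exact (injective_iff_map_eq_zero φ).1 hφ m h2
  let incl : (Fin r → A) →ₗ[A] (Fin r → K) := (Algebra.linearMap A K).compLeft (Fin r)
  have hincl : Function.Injective incl := by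
    intro x y hxy
    funext j
    exact IsFractionRing.injective A K (congrFun hxy j)
  have hrange : ∀ m, ψ m ∈ LinearMap.range incl := by
    intro m
    have hm : m ∈ Submodule.span A (Set.range s) := by rw [hs]; trivial
    induction hm using Submodule.span_induction with
    | mem x hx =>
      obtain ⟨i, rfl⟩ := hx
      choose a ha using fun j => hd (i, j)
      refine ⟨a, ?_⟩
      funext j
      exact ha j
    | zero => simp
    | add x y _ _ hx hy => rw [map_add]; exact Submodule.add_mem _ hx hy
    | smul c x _ hx => rw [map_smul]; exact Submodule.smul_mem _ c hx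
  refine ⟨(LinearEquiv.ofInjective incl hincl).symm.toLinearMap ∘ₗ
    ψ.codRestrict (LinearMap.range incl) hrange, ?_⟩
  intro x y hxy
  have h1 := (LinearEquiv.ofInjective incl hincl).symm.injective hxy
  exact hψ (congrArg Subtype.val h1)

end Groth.Agent.S11499
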