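import Groth.Statements.S11503
import Groth.Agent.Lib.Helper7.LocFreePn

set_option autoImplicit false
universe u
open VBPn

namespace Groth.Agent.S11503

open CategoryTheory CategoryTheory.Limits AlgebraicGeometry in
/-- Let k be a characteristic-zero algebraically closed field and E a finite locally free O-module of
rank r > 1 on P^n_k. If E has a nonzero section (a nonzero morphism O → E) and its dual has a
nonzero section (a nonzero morphism E → O), then E is not simple: there is an endomorphism of E
which is not a homothety, i.e. whose underlying map of abelian sheaves is not multiplication by any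
scalar c ∈ k. -/
theorem result (k : Type u) [Field k] [IsAlgClosed k] [CharZero k]
    (n r : ℕ) (hr : 1 < r) (E : (CohB1.ProjSpace n k).Modules) (hE : FlatMod.IsFinLocFreeOfRank r E)
    (s : Coh.structureModule (CohB1.ProjSpace n k) ⟶ E) (hs : s ≠ 0)
    (t : E ⟶ Coh.structureModule (CohB1.ProjSpace n k)) (ht : t ≠ 0) :
    ∃ φ : E ⟶ E, ∀ c : k, (SheafOfModules.toSheaf (CohB1.ProjSpace n k).ringCatSheaf).map φ ≠
      Coh.smulAb E (Coh.toGlobal (CohB1.ProjSpace.toSpec n k) c) := by
  haveI : IsIntegral (CohB1.ProjSpace n k) :=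
    Groth.Agent.Lib.Helper7.LocFreePn.isIntegral_projSpace n k
  have hO1 : FlatMod.IsFinLocFreeOfRank 1 (Coh.structureModule (CohB1.ProjSpace n k)) :=
    Groth.Agent.Lib.Helper7.TorsFree.isFinLocFreeOfRank_one_of_isInvertible'
      (Groth.Agent.Lib.Helper3.InvGen.isInvertible_structureModule _)
  haveI hs_mono : Mono s := Groth.Agent.Lib.Helper7.TorsFree.mono_of_ne_zero hO1 hE s hs
  refine ⟨t ≫ s, fun c hc => ?_⟩
  by_cases hc0 : c = 0
  · apply ht
    have h0 : Coh.smulAb E (Coh.toGlobal (CohB1.ProjSpace.toSpec n k) c) = 0 := by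
      have h00 : Coh.toGlobal (CohB1.ProjSpace.toSpec n k) c = 0 := by
        rw [hc0]
        exact map_zero _
      rw [h00]
      exact Coh.smulAb_zero E
    have h1 : (SheafOfModules.toSheaf (CohB1.ProjSpace n k).ringCatSheaf).map (t ≫ s) =
        (SheafOfModules.toSheaf (CohB1.ProjSpace n k).ringCatSheaf).map 0 :=
      hc.trans (h0.trans
        ((SheafOfModules.toSheaf (CohB1.ProjSpace n k).ringCatSheaf).map_zero _ _).symm)
    have h2 : t ≫ s = 0 :=
      (SheafOfModules.toSheaf (CohB1.ProjSpace n k).ringCatSheaf).map_injective h1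
    exact (cancel_mono s).mp (h2.trans zero_comp.symm)
  · have hmul : Coh.toGlobal (CohB1.ProjSpace.toSpec n k) c⁻¹ *
        Coh.toGlobal (CohB1.ProjSpace.toSpec n k) c = 1 := by
      rw [← map_mul, inv_mul_cancel₀ hc0, map_one]
    have h1 : (SheafOfModules.toSheaf (CohB1.ProjSpace n k).ringCatSheaf).map t ≫
        ((SheafOfModules.toSheaf (CohB1.ProjSpace n k).ringCatSheaf).map s ≫
          Coh.smulAb E (Coh.toGlobal (CohB1.ProjSpace.toSpec n k) c⁻¹)) = 𝟙 _ :=
      (Category.assoc _ _ _).symm.trans
        ((congrArg (fun f => f ≫ Coh.smulAb E (Coh.toGlobal (CohB1.ProjSpace.toSpec n k) c⁻¹))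
          (((SheafOfModules.toSheaf (CohB1.ProjSpace n k).ringCatSheaf).map_comp t s).symm.trans
            hc)).trans
          ((Coh.smulAb_mul E (Coh.toGlobal (CohB1.ProjSpace.toSpec n k) c⁻¹)
            (Coh.toGlobal (CohB1.ProjSpace.toSpec n k) c)).symm.trans
            ((congrArg (Coh.smulAb E) hmul).trans (Coh.smulAb_one E))))
    haveI hm1 : Mono ((SheafOfModules.toSheaf (CohB1.ProjSpace n k).ringCatSheaf).map t) :=
      mono_of_mono_fac h1
    haveI : Mono t :=
      (SheafOfModules.toSheaf (CohB1.ProjSpace n k).ringCatSheaf).mono_of_mono_map hm1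
    have h3 := Groth.Agent.Lib.Helper7.TorsFree.rank_le_of_mono' hE hO1 t
    omega

end Groth.Agent.S11503
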