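import Groth.Statements.S11515
import Groth.Agent.Lib.Helper7.TwistH0

set_option autoImplicit false
universe u
open VBPn

namespace Groth.Agent.S11515

open CategoryTheory CategoryTheory.Limits AlgebraicGeometry in
/-- Let k be an algebraically closed field of characteristic zero, n ≥ 2, i : Y → P^n_k a closed
immersion which is a local complete intersection of codimension 2 with ideal sheaf J_Y, and E a
finite locally free O-module of rank 2 with a short exact sequence 0 → O → E → J_Y ⊗ O(2m) → 0 (the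
case of an even twist c = 2m). Then H^0(P^n_k, E ⊗ O(−m − 1)) = 0 if and only if m ≥ 0 and
H^0(P^n_k, J_Y ⊗ O(d)) = 0 for all integers d ≤ m − 1, i.e. Y lies on no hypersurface of degree at
most m − 1. The published statement speaks of semistability of E; for rank 2 this is the vanishing
of H^0 stated here. -/
theorem result (k : Type u) [Field k] [IsAlgClosed k] [CharZero k]
    (n : ℕ) (hn : 2 ≤ n) {Y : Scheme.{u}} (i : Y ⟶ CohB1.ProjSpace n k) [IsClosedImmersion i]
    (hlci : RegImm.IsRegularImmersionOfCodim RegImm.Kind.regular 2 i) (m : ℤ)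
    (S : ShortComplex (CohB1.ProjSpace n k).Modules) (hS : S.ShortExact) (hE : FlatMod.IsFinLocFreeOfRank 2 S.X₂)
    (h₁ : Nonempty (S.X₁ ≅ Coh.structureModule (CohB1.ProjSpace n k)))
    (h₃ : Nonempty (S.X₃ ≅ CohB1.tensorMod (ClSub.idealMod i.ker) (Twist.twistProjSpace n k (2 * m)))) :
    Subsingleton (Coh.HH (CohB1.ProjSpace n k) (CohB1.tensorMod S.X₂ (Twist.twistProjSpace n k (-m - 1))) 0) ↔
      (0 ≤ m ∧ ∀ d : ℤ, d ≤ m - 1 →
        Subsingleton (Coh.HH (CohB1.ProjSpace n k)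
          (CohB1.tensorMod (ClSub.idealMod i.ker) (Twist.twistProjSpace n k d)) 0)) := by
  obtain ⟨e₁⟩ := h₁
  obtain ⟨e₃⟩ := h₃
  have hT := Groth.Agent.Lib.Helper7.Mumford.shortExact_tw n k (-m - 1) S hS
  have hX1 : ∀ j : ℕ, Subsingleton (Coh.HH (CohB1.ProjSpace n k)
      (CohB1.tensorMod S.X₁ (Twist.twistProjSpace n k (-m - 1))) j) ↔
      Subsingleton (Coh.HH (CohB1.ProjSpace n k) (Twist.twistProjSpace n k (-m - 1)) j) := by
    intro j
    have a₁ : CohB1.tensorMod S.X₁ (Twist.twistProjSpace n k (-m - 1)) ≅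
        Twist.twistProjSpace n k (-m - 1) :=
      Groth.Agent.Lib.Helper3.InvMonoidal.tensorMapIso e₁ (Iso.refl _) ≪≫
        Groth.Agent.Lib.Helper3.InvMonoidal.unitorL _
    exact ⟨Groth.Agent.Lib.Helper7.TwFun.subsingleton_HH_of_iso a₁.symm j,
      Groth.Agent.Lib.Helper7.TwFun.subsingleton_HH_of_iso a₁ j⟩
  have hX3 : Subsingleton (Coh.HH (CohB1.ProjSpace n k)
      (CohB1.tensorMod S.X₃ (Twist.twistProjSpace n k (-m - 1))) 0) ↔
      Subsingleton (Coh.HH (CohB1.ProjSpace n k)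
        (CohB1.tensorMod (ClSub.idealMod i.ker) (Twist.twistProjSpace n k (m - 1))) 0) := by
    have a₃ : CohB1.tensorMod S.X₃ (Twist.twistProjSpace n k (-m - 1)) ≅
        CohB1.tensorMod (CohB1.tensorMod (ClSub.idealMod i.ker) (Twist.twistProjSpace n k (2 * m)))
          (Twist.twistProjSpace n k (-m - 1)) :=
      Groth.Agent.Lib.Helper3.InvMonoidal.tensorMapIso e₃ (Iso.refl _)
    have h1 : Subsingleton (Coh.HH (CohB1.ProjSpace n k)
        (CohB1.tensorMod S.X₃ (Twist.twistProjSpace n k (-m - 1))) 0) ↔ _ :=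
      ⟨Groth.Agent.Lib.Helper7.TwFun.subsingleton_HH_of_iso a₃.symm 0,
        Groth.Agent.Lib.Helper7.TwFun.subsingleton_HH_of_iso a₃ 0⟩
    exact h1.trans (Groth.Agent.Lib.Helper7.Mumford.sub_shift n k (ClSub.idealMod i.ker)
      (2 * m) (-m - 1) (m - 1) (by ring) 0)
  have h1 : Subsingleton (Coh.HH (CohB1.ProjSpace n k)
      (CohB1.tensorMod S.X₁ (Twist.twistProjSpace n k (-m - 1))) 1) :=
    (hX1 1).mpr (Groth.Agent.S0844.result k n (-m - 1) 1 (fun h => by omega) (fun h => by omega))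
  have key := Groth.Agent.Lib.Helper7.TwistH0.sub_H0_iff _ hT h1
  refine key.trans ?_
  constructor
  · rintro ⟨ha, hb⟩
    have ha' := (Groth.Agent.Lib.Helper7.TwistH0.sub_H0_twist_iff n k (by omega) (-m - 1)).mp
      ((hX1 0).mp ha)
    have hb' := hX3.mp hb
    exact ⟨by omega, fun d hd => Groth.Agent.Lib.Helper7.TwistH0.sub_H0_twist_le n k
      (ClSub.idealMod i.ker) (ClSub.idealModι i.ker) d (m - 1) hd hb'⟩
  · rintro ⟨ha, hb⟩
    exact ⟨(hX1 0).mpr ((Groth.Agent.Lib.Helper7.TwistH0.sub_H0_twist_iff n k (by omega)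
      (-m - 1)).mpr (by omega)), hX3.mpr (hb (m - 1) le_rfl)⟩

end Groth.Agent.S11515
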