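import Groth.Statements.S11524
import Groth.Agent.Lib.Helper27.AdicBase
open Groth.Agent.Lib.Helper27

set_option autoImplicit false
universe u
open AdicRing

namespace Groth.Agent.S11524

/-- Let R be a base ring of class (N) or (V) for the ideal I, A an R-algebra topologically of finite
type and M a finite A-module which is flat over R. Then M is of finite presentation over A. (Class
(V) is taken here to consist of complete valuation rings of height one.) -/
theorem result
    (R : Type u) [CommRing R] (I : Ideal R) (hR : AdicRing.IsBase R I)
    (A : Type u) [CommRing A] [Algebra R A] (hA : AdicRing.TopFiniteType R I A)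
    (M : Type u) [AddCommGroup M] [Module A M] [Module R M] [IsScalarTower R A M]
    [Module.Finite A M] [Module.Flat R M] :
    Module.FinitePresentation A M := by
  obtain ⟨hc, h | h⟩ := hR
  · obtain ⟨hN, _⟩ := h
    haveI := hN
    haveI : IsNoetherianRing A := AdicBase.isNoetherianRing_of_tft R I A hA
    exact Module.finitePresentation_of_finite A M
  · obtain ⟨hD, hV, hK, t, ht, rfl⟩ := h
    haveI := hD
    haveI := hV
    haveI : ValuationRing R := {}
    haveI := hK
    haveI := hc
    obtain ⟨r, π, hπ⟩ := Module.Finite.exists_fin' A M
    refine Module.finitePresentation_of_free_of_surjective π hπ ?_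
    apply RPowKey.fg_of_saturated_tft R t ht A hA (Fin r → A) (LinearMap.ker π)
    intro x hx
    rw [LinearMap.mem_ker] at hx ⊢
    rw [LinearMap.map_smul_of_tower] at hx
    have hreg : IsSMulRegular M t :=
      Module.Flat.isSMulRegular_of_nonZeroDivisors (mem_nonZeroDivisors_of_ne_zero ht)
    exact hreg (by show t • π x = t • 0; rw [hx, smul_zero])

end Groth.Agent.S11524
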