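import Groth.Statements.S11546
import Mathlib

set_option autoImplicit false
universe u
open AdicRing

namespace Groth.Agent.S11546

/-- Let R be a base ring of class (N) or (V) for the ideal I. Then the restricted power series ring
R⟨ζ_1, ..., ζ_n⟩ is flat over R. -/
theorem result
    (R : Type u) [CommRing R] (I : Ideal R) (hR : AdicRing.IsBase R I) (n : ℕ) :
    Module.Flat R (AdicRing.RPow R I n) := by
  obtain ⟨hc, h | h⟩ := hR
  · obtain ⟨hN, _⟩ := h
    haveI := hN
    haveI : IsScalarTower R (MvPolynomial (Fin n) R) (RPow R I n) :=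
      IsScalarTower.of_algebraMap_eq (fun r => rfl)
    haveI : Module.Flat (MvPolynomial (Fin n) R) (RPow R I n) :=
      AdicCompletion.flat_of_isNoetherian _
    exact Module.Flat.trans R (MvPolynomial (Fin n) R) (RPow R I n)
  · obtain ⟨hD, hV, hK, t, ht, rfl⟩ := h
    haveI := hD
    haveI := hV
    haveI : ValuationRing R := {}
    rw [Module.Flat.flat_iff_torsion_eq_bot_of_isBezout, eq_bot_iff]
    intro x hx
    rw [Submodule.mem_torsion_iff] at hx
    obtain ⟨⟨a, ha⟩, hax⟩ := hx
    have ha0 : a ≠ 0 := nonZeroDivisors.ne_zero ha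
    have hH : IsHausdorff (Ideal.span {t}) R := inferInstance
    have hdiv : ∃ m, a ∣ t ^ m := by
      by_contra hcon
      push_neg at hcon
      apply ha0
      apply hH.haus
      intro m
      rw [SModEq.zero, smul_eq_mul, Ideal.mul_top, Ideal.span_singleton_pow,
        Ideal.mem_span_singleton]
      exact (ValuationRing.dvd_total (t ^ m) a).resolve_right (hcon m)
    obtain ⟨m, b, hb⟩ := hdiv
    have hax' : a • x = 0 := hax
    have htx : (t ^ m) • x = 0 := by
      rw [hb, mul_comm, mul_smul, hax', smul_zero]
    set P := MvPolynomial (Fin n) R with hP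
    set J : Ideal P := (Ideal.span {t}).map (MvPolynomial.C : R →+* P) with hJ
    have hJ' : J = Ideal.span {MvPolynomial.C t} := by
      rw [hJ, Ideal.map_span, Set.image_singleton]
    have hCt : (MvPolynomial.C t : P) ≠ 0 := by
      intro h0
      exact ht (MvPolynomial.C_injective (Fin n) R (by simpa using h0))
    obtain ⟨f, rfl⟩ := AdicCompletion.mk_surjective J P x
    rw [Submodule.mem_bot]
    apply AdicCompletion.ext
    intro l
    have h1 := congrArg (fun y => y.val (l + m)) htx
    simp only [AdicCompletion.val_smul_apply, AdicCompletion.mk_apply_coe, Submodule.mkQ_apply,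
      AdicCompletion.val_zero, Pi.zero_apply] at h1
    rw [← Submodule.Quotient.mk_smul, Submodule.Quotient.mk_eq_zero] at h1
    have key : ∀ k, (J ^ k • ⊤ : Submodule P P) = Ideal.span {(MvPolynomial.C t : P) ^ k} := by
      intro k
      rw [hJ', Ideal.span_singleton_pow]; simp
    rw [key, MvPolynomial.smul_eq_C_mul] at h1
    obtain ⟨g, hg⟩ := Ideal.mem_span_singleton.mp h1
    have h3 : f (l + m) = MvPolynomial.C t ^ l * g := by
      have : MvPolynomial.C (t ^ m) * f (l + m) = MvPolynomial.C (t ^ m) * (MvPolynomial.C t ^ l * g) := by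
        rw [hg, map_pow]; ring
      exact mul_left_cancel₀ (by rw [map_pow]; exact pow_ne_zero _ hCt) this
    rw [AdicCompletion.mk_apply_coe, Submodule.mkQ_apply, AdicCompletion.val_zero, Pi.zero_apply,
      ← AdicCompletion.AdicCauchySequence.mk_eq_mk (Nat.le_add_right l m), Submodule.Quotient.mk_eq_zero]
    rw [key, h3]
    exact Ideal.mem_span_singleton.mpr ⟨g, rfl⟩


end Groth.Agent.S11546
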