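import Groth.Statements.S11526
import Groth.Agent.Lib.Helper27.AdicCoherent
import Groth.Agent.S11546
open Groth.Agent.Lib.Helper27

set_option autoImplicit false
universe u
open AdicRing

namespace Groth.Agent.S11526

/-- Let R be a base ring of class (N) or (V) for the ideal I and A an R-algebra topologically of finite
presentation. Then A is a coherent ring: every finitely generated ideal of A is finitely presented
as an A-module. -/
theorem result
    (R : Type u) [CommRing R] (I : Ideal R) (hR : AdicRing.IsBase R I)
    (A : Type u) [CommRing A] [Algebra R A] (hA : AdicRing.TopFinitePresentation R I A)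
    (J : Ideal A) (hJ : J.FG) :
    Module.FinitePresentation A J := by
  have hR' := hR
  obtain ⟨hc, h | h⟩ := hR
  · obtain ⟨hN, _⟩ := h
    haveI := hN
    haveI : IsNoetherianRing A := AdicBase.isNoetherianRing_of_tft R I A (AdicBase.tft_of_tfp hA)
    haveI : Module.Finite A J := Module.Finite.iff_fg.mpr hJ
    exact Module.finitePresentation_of_finite A J
  · obtain ⟨hD, hV, hK, t, ht, rfl⟩ := h
    haveI := hD
    haveI := hV
    haveI : ValuationRing R := {}
    haveI := hK
    haveI := hc
    exact AdicCoherent.finitePresentation_ideal_classV R t ht
      (fun n => Groth.Agent.S11546.result R _ hR' n) A hA J hJ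

end Groth.Agent.S11526
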