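import Groth.Statements.S11528
import Groth.Agent.Lib.Helper27.AdicBase
open Groth.Agent.Lib.Helper27

set_option autoImplicit false
universe u
open AdicRing

namespace Groth.Agent.S11528

/-- Let R be a base ring of class (N) or (V) for the ideal I, A an R-algebra topologically of finite
type, M a finite A-module and N a submodule of M. Then for some n₀ and all m, the intersection of
I^(m+n₀) M with N lies in I^m N. (The published statement asserts only that the I-adic topology of M
induces that of N; this row states the uniform form: for some n₀ and all m, I^(m+n₀) M ∩ N lies in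
I^m N.) -/
theorem result
    (R : Type u) [CommRing R] (I : Ideal R) (hR : AdicRing.IsBase R I)
    (A : Type u) [CommRing A] [Algebra R A] (hA : AdicRing.TopFiniteType R I A)
    (M : Type u) [AddCommGroup M] [Module A M] [Module R M] [IsScalarTower R A M]
    [Module.Finite A M] (N : Submodule A M) :
    ∃ n₀ : ℕ, ∀ m : ℕ,
      (I ^ (m + n₀) • (⊤ : Submodule R M)) ⊓ N.restrictScalars R ≤ I ^ m • N.restrictScalars R := by
  obtain ⟨hc, h | h⟩ := hR
  · obtain ⟨hN, _⟩ := h
    haveI := hN
    haveI : IsNoetherianRing A := AdicBase.isNoetherianRing_of_tft R I A hA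
    obtain ⟨k, hk⟩ := Ideal.exists_pow_inf_eq_pow_smul (I.map (algebraMap R A)) N
    refine ⟨k, fun m => ?_⟩
    have key : ∀ (j : ℕ) (N' : Submodule A M), I ^ j • N'.restrictScalars R =
        ((I.map (algebraMap R A)) ^ j • N').restrictScalars R := by
      intro j N'
      rw [← Ideal.map_pow, Submodule.restrictScalars_map_smul_eq]
    have h1 := hk (m + k) (Nat.le_add_left k m)
    rw [Nat.add_sub_cancel] at h1
    intro x hx
    have hx1 : x ∈ (I.map (algebraMap R A)) ^ (m + k) • (⊤ : Submodule A M) ⊓ N := by
      refine ⟨?_, hx.2⟩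
      have h2 := hx.1
      rw [← Submodule.restrictScalars_top R A M, key] at h2
      exact h2
    rw [h1] at hx1
    have h3 : (I.map (algebraMap R A)) ^ m • ((I.map (algebraMap R A)) ^ k • (⊤ : Submodule A M) ⊓ N) ≤
        (I.map (algebraMap R A)) ^ m • N := Submodule.smul_mono (le_refl _) inf_le_right
    rw [key, Submodule.restrictScalars_mem]
    exact h3 hx1
  · obtain ⟨hD, hV, hK, t, ht, rfl⟩ := h
    haveI := hD
    haveI := hV
    haveI : ValuationRing R := {}
    haveI := hK
    haveI := hc
    obtain ⟨-, e, he⟩ := AdicBase.exists_sat_bound R t ht A hA M N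
    refine ⟨e, fun m => ?_⟩
    rintro x ⟨hx1, hx2⟩
    rw [SetLike.mem_coe, AdicUtil.mem_pow_smul_top_iff] at hx1
    obtain ⟨y, rfl⟩ := hx1
    have hy : y ∈ AdicBase.satSubmodule t N := ⟨m + e, hx2⟩
    rw [pow_add, mul_smul]
    exact Submodule.smul_mem_smul (Ideal.pow_mem_pow (Ideal.mem_span_singleton_self t) m)
      (he y hy)

end Groth.Agent.S11528
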