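import Groth.Statements.S1153
import Groth.Agent.S0086
import Groth.Agent.Lib.Helper2.ProperOver
-- import your own Groth.Agent.* helpers here

set_option autoImplicit false
open CategoryTheory CategoryTheory.Limits AlgebraicGeometry Opposite
universe u
open Desc

namespace Groth.Agent.S1153

/-- Let f : X ⟶ Y be locally of finite type, Z a closed subset of X and g : Y' ⟶ Y quasi-compact, flat
and surjective. If the preimage of Z in X ×_Y Y' is proper over Y', then Z is proper over Y. -/
theorem result {X Y Y' : Scheme.{u}} (f : X ⟶ Y) [LocallyOfFiniteType f] (Z : Set X) (hZ : IsClosed Z)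
    (g : Y' ⟶ Y) [QuasiCompact g] [Flat g] [Surjective g]
    (h : ClSub.IsProperOver (pullback.snd f g) ((pullback.fst f g).base ⁻¹' Z)) :
    ClSub.IsProperOver f Z := by
  classical
  refine ⟨hZ, ?_⟩
  set J := Scheme.IdealSheafData.vanishingIdeal (⟨Z, hZ⟩ : TopologicalSpace.Closeds X) with hJ
  have hJr : Set.range J.subschemeι = Z :=
    Groth.Agent.Lib.Helper2.range_vanishingIdeal_subschemeι (⟨Z, hZ⟩ : TopologicalSpace.Closeds X)
  let i := J.subschemeι
  let pr₁ := pullback.fst f g
  -- base change of the closed immersion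
  have hrange : Set.range (pullback.snd i pr₁) = pr₁.base ⁻¹' Z := by
    rw [Scheme.Pullback.range_snd, hJr]
  have hprop : IsProper (pullback.snd i pr₁ ≫ pullback.snd f g) :=
    Groth.Agent.Lib.Helper2.isProper_comp_of_isProperOver (pullback.snd f g) (pullback.snd i pr₁)
      (pr₁.base ⁻¹' Z) hrange h
  have hpb : IsPullback (pullback.snd i pr₁ ≫ pullback.snd f g) (pullback.fst i pr₁) g (i ≫ f) :=
    IsPullback.paste_horiz (IsPullback.of_hasPullback i pr₁).flip
      (IsPullback.of_hasPullback f g).flip
  have hdesc := Groth.Agent.S0086.result.{u}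
  exact MorphismProperty.of_isPullback_of_descendsAlong
    (P := @IsProper) (Q := (@Surjective ⊓ @Flat ⊓ @QuasiCompact : MorphismProperty Scheme.{u}))
    hpb ⟨⟨inferInstance, inferInstance⟩, inferInstance⟩ hprop

end Groth.Agent.S1153
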