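import Groth.Statements.S11530
import Groth.Agent.Lib.Helper27.AdicTrunc
import Groth.Agent.Lib.Helper27.AdicBase
open Groth.Agent.Lib.Helper27

set_option autoImplicit false
universe u
open AdicRing

namespace Groth.Agent.S11530

/-- Let R be a base ring of class (N) or (V) for the ideal I and A an R-algebra which is complete and
separated for the I-adic topology. Then A is topologically of finite presentation over R if and only
if, for every n, the truncation A/I^(n+1)A is an algebra of finite presentation over R/I^(n+1). -/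
theorem result
    (R : Type u) [CommRing R] (I : Ideal R) (hR : AdicRing.IsBase R I)
    (A : Type u) [CommRing A] [Algebra R A] [IsAdicComplete (I.map (algebraMap R A)) A] :
    AdicRing.TopFinitePresentation R I A ↔
      ∀ n : ℕ, (Ideal.quotientMap ((I ^ (n + 1)).map (algebraMap R A)) (algebraMap R A)
        Ideal.le_comap_map).FinitePresentation := by
  have hI : I.FG := by
    obtain ⟨_, h | h⟩ := hR
    · haveI := h.1; exact IsNoetherian.noetherian I
    · obtain ⟨_, _, _, t, _, rfl⟩ := h; exact ⟨{t}, by simp⟩
  constructor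
  · rintro ⟨m, φ, hφ, hker⟩ n
    have h1 : Ideal.quotientMap ((I ^ (n + 1)).map (algebraMap R A)) (algebraMap R A)
        Ideal.le_comap_map = (AdicTrunc.theta φ (I ^ (n + 1))).comp MvPolynomial.C :=
      (AdicTrunc.theta_comp_C φ _).symm
    rw [h1]
    have hC : (MvPolynomial.C : R ⧸ I ^ (n + 1) →+* MvPolynomial (Fin m) (R ⧸ I ^ (n + 1))).FinitePresentation := by
      rw [← MvPolynomial.algebraMap_eq, RingHom.finitePresentation_algebraMap]
      infer_instance
    exact RingHom.FinitePresentation.comp_surjective hC
      (AdicTrunc.theta_surjective φ hφ hI (n + 1)) (AdicTrunc.ker_theta_fg φ hφ hI (n + 1) hker)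
  · intro h
    -- generators modulo `I`
    have ft := RingHom.FiniteType.of_finitePresentation (h 0)
    letI alg0 : Algebra (R ⧸ I ^ (0 + 1)) (A ⧸ (I ^ (0 + 1)).map (algebraMap R A)) :=
      (Ideal.quotientMap ((I ^ (0 + 1)).map (algebraMap R A)) (algebraMap R A)
        Ideal.le_comap_map).toAlgebra
    have ft' : Algebra.FiniteType (R ⧸ I ^ (0 + 1)) (A ⧸ (I ^ (0 + 1)).map (algebraMap R A)) := ft
    obtain ⟨m, f, hf⟩ := Algebra.FiniteType.iff_quotient_mvPolynomial''.mp ft'
    choose x hx using fun i => Ideal.Quotient.mk_surjective (f (MvPolynomial.X i))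
    have hfmap : ∀ p : MvPolynomial (Fin m) R,
        f (MvPolynomial.map (Ideal.Quotient.mk (I ^ (0 + 1))) p) =
          Ideal.Quotient.mk _ (MvPolynomial.aeval x p) := by
      intro p
      have h2 : f.toRingHom.comp (MvPolynomial.map (Ideal.Quotient.mk (I ^ (0 + 1)))) =
          (Ideal.Quotient.mk ((I ^ (0 + 1)).map (algebraMap R A))).comp
            (MvPolynomial.aeval x : MvPolynomial (Fin m) R →ₐ[R] A).toRingHom := by
        apply MvPolynomial.ringHom_ext
        · intro r
          simp only [RingHom.comp_apply, MvPolynomial.map_C]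
          have h3 : f.toRingHom (MvPolynomial.C (Ideal.Quotient.mk (I ^ (0 + 1)) r)) =
              algebraMap (R ⧸ I ^ (0 + 1)) _ (Ideal.Quotient.mk (I ^ (0 + 1)) r) :=
            f.commutes _
          rw [h3, RingHom.algebraMap_toAlgebra, Ideal.quotientMap_mk]
          simp
        · intro i
          simp only [RingHom.comp_apply, MvPolynomial.map_X]
          show f (MvPolynomial.X i) = _
          rw [← hx i]
          simp
      exact RingHom.congr_fun h2 p
    have hgen : ∀ b : A, ∃ p : MvPolynomial (Fin m) R,
        b - MvPolynomial.aeval x p ∈ I.map (algebraMap R A) := by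
      intro b
      obtain ⟨pb, hpb⟩ := hf (Ideal.Quotient.mk _ b)
      obtain ⟨p, rfl⟩ := MvPolynomial.map_surjective (Ideal.Quotient.mk (I ^ (0 + 1)))
        Ideal.Quotient.mk_surjective pb
      refine ⟨p, ?_⟩
      rw [hfmap, Ideal.Quotient.eq, zero_add, pow_one] at hpb
      rw [← neg_sub]
      exact (Ideal.neg_mem_iff _).mpr hpb
    have hφ := RPowLift.liftX_surjective R I A x hI hgen
    refine ⟨m, RPowLift.liftX R I A x, hφ, ?_⟩
    set φ := RPowLift.liftX R I A x with hφdef
    obtain ⟨hc, hcl | hcl⟩ := hR
    · obtain ⟨hN, _⟩ := hcl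
      haveI := hN
      haveI := AdicBase.isNoetherianRing_rpow R I m
      exact IsNoetherian.noetherian _
    · obtain ⟨hD, hV, hK, t, ht, rfl⟩ := hcl
      haveI := hD
      haveI := hV
      haveI : ValuationRing R := {}
      haveI := hK
      haveI := hc
      obtain ⟨-, e, he⟩ := AdicBase.exists_sat_bound R t ht (RPow R (Ideal.span {t}) m)
        (AdicBase.tft_rpow R _ m) (RPow R (Ideal.span {t}) m) (RingHom.ker φ.toRingHom)
      -- kernel of θ at level e+1
      letI alge : Algebra (R ⧸ (Ideal.span {t}) ^ (e + 1))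
          (A ⧸ ((Ideal.span {t}) ^ (e + 1)).map (algebraMap R A)) :=
        (Ideal.quotientMap (((Ideal.span {t}) ^ (e + 1)).map (algebraMap R A)) (algebraMap R A)
          Ideal.le_comap_map).toAlgebra
      haveI fpe : Algebra.FinitePresentation (R ⧸ (Ideal.span {t}) ^ (e + 1))
          (A ⧸ ((Ideal.span {t}) ^ (e + 1)).map (algebraMap R A)) := h e
      let θa : MvPolynomial (Fin m) (R ⧸ (Ideal.span {t}) ^ (e + 1)) →ₐ[R ⧸ (Ideal.span {t}) ^ (e + 1)]
          (A ⧸ ((Ideal.span {t}) ^ (e + 1)).map (algebraMap R A)) :=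
        { AdicTrunc.theta φ ((Ideal.span {t}) ^ (e + 1)) with
          commutes' := fun r => AdicTrunc.theta_C φ _ r }
      have hkfg : (RingHom.ker (AdicTrunc.theta φ ((Ideal.span {t}) ^ (e + 1)))).FG :=
        Algebra.FinitePresentation.ker_fG_of_surjective θa
          (AdicTrunc.theta_surjective φ hφ hI (e + 1))
      obtain ⟨l, qbar, hqbar⟩ := Submodule.fg_iff_exists_fin_generating_family.mp hkfg
      choose qq hqq using fun i => MvPolynomial.map_surjective
        (Ideal.Quotient.mk ((Ideal.span {t}) ^ (e + 1))) Ideal.Quotient.mk_surjective (qbar i)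
      have hqq' : RingHom.ker (AdicTrunc.theta φ ((Ideal.span {t}) ^ (e + 1))) =
          Ideal.span (Set.range fun i =>
            MvPolynomial.map (Ideal.Quotient.mk ((Ideal.span {t}) ^ (e + 1))) (qq i)) := by
        rw [← hqbar]
        congr 2
        funext i
        exact (hqq i).symm
      obtain ⟨a, ha, happ⟩ := AdicTrunc.exists_approx_generators φ hφ hI (e + 1) qq hqq'
      haveI hcP : IsAdicComplete (Ideal.span {t}) (RPow R (Ideal.span {t}) m) :=
        RPowKey.isAdicComplete_rpow R m _ hI
      have claim : ∀ x ∈ RingHom.ker φ.toRingHom,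
          ∃ y ∈ Submodule.span (RPow R (Ideal.span {t}) m) (Set.range a),
          ∃ z ∈ RingHom.ker φ.toRingHom, x = y + t • z := by
        intro x hx
        obtain ⟨c, hc⟩ := happ x hx
        have hy : ∑ i, c i * a i ∈ Submodule.span (RPow R (Ideal.span {t}) m) (Set.range a) :=
          Submodule.sum_mem _ fun i _ => Submodule.smul_mem _ _ (Submodule.subset_span ⟨i, rfl⟩)
        rw [Ideal.span_singleton_pow,
          Ideal.map_span (algebraMap R (RPow R (Ideal.span {t}) m)) {t ^ (e + 1)},
          Set.image_singleton, Ideal.mem_span_singleton] at hc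
        obtain ⟨w, hw⟩ := hc
        have hw' : x - ∑ i, c i * a i = t ^ (e + 1) • w := by
          rw [hw, Algebra.smul_def]
        have hker : t ^ (e + 1) • w ∈ RingHom.ker φ.toRingHom := by
          rw [← hw']
          exact Ideal.sub_mem _ hx (Ideal.sum_mem _ fun i _ => Ideal.mul_mem_left _ _ (ha i))
        have hz : t ^ e • w ∈ RingHom.ker φ.toRingHom := he w ⟨e + 1, hker⟩
        refine ⟨_, hy, _, hz, ?_⟩
        rw [smul_smul, ← pow_succ', ← hw']
        ring
      have hle := KeyCompl.le_span_of_complete t (RingHom.ker φ.toRingHom) a ha claim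
      have heq : RingHom.ker φ.toRingHom =
          Submodule.span (RPow R (Ideal.span {t}) m) (Set.range a) :=
        le_antisymm hle (Submodule.span_le.mpr (by rintro _ ⟨i, rfl⟩; exact ha i))
      rw [heq]
      exact Submodule.fg_span (Set.finite_range a)

end Groth.Agent.S11530
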