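import Groth.Statements.S11531
import Groth.Agent.Lib.Helper27.AdicFlat
import Groth.Agent.S11528
import Groth.Agent.S11529
open Groth.Agent.Lib.Helper27

set_option autoImplicit false
universe u
open scoped TensorProduct
open AdicRing

namespace Groth.Agent.S11531

/-- Let R be a base ring of class (N) or (V) for the ideal I, A → B a morphism of R-algebras
topologically of finite type and M a finite B-module. Then M is flat over A if and only if, for
every n, writing A_n = A/I^(n+1)A, the module A_n ⊗_A M is flat over A_n. -/
theorem result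
    (R : Type u) [CommRing R] (I : Ideal R) (hR : AdicRing.IsBase R I)
    (A : Type u) [CommRing A] [Algebra R A] (hA : AdicRing.TopFiniteType R I A)
    (B : Type u) [CommRing B] [Algebra R B] [Algebra A B] [IsScalarTower R A B]
    (hB : AdicRing.TopFiniteType R I B)
    (M : Type u) [AddCommGroup M] [Module B M] [Module A M] [IsScalarTower A B M]
    [Module.Finite B M] :
    Module.Flat A M ↔
      ∀ n : ℕ, Module.Flat (AdicRing.trunc A I n) ((AdicRing.trunc A I n) ⊗[A] M) := by
  constructor
  · intro h n
    infer_instance
  · intro h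
    apply AdicFlat.flat_of_flat_quotients M (fun n => (I ^ (n + 1)).map (algebraMap R A)) h
    · intro 𝔞 h𝔞 m
      obtain ⟨n₀, hn₀⟩ := Groth.Agent.S11528.result R I hR A hA A 𝔞
      refine ⟨m + n₀, ?_⟩
      intro y hy
      have h1 := hn₀ (m + 1)
      have hy1 : y ∈ (I ^ (m + 1 + n₀) • (⊤ : Submodule R A)) ⊓ (𝔞.restrictScalars R) := by
        refine ⟨?_, hy.2⟩
        rw [Ideal.smul_top_eq_map]
        have h2 : m + n₀ + 1 = m + 1 + n₀ := by ring
        rw [← h2]
        exact hy.1
      have h3 := h1 hy1
      rw [← Submodule.restrictScalars_map_smul_eq] at h3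
      exact h3
    · intro 𝔞 h𝔞
      rw [eq_bot_iff]
      intro x hx
      rw [Submodule.mem_iInf] at hx
      rw [Submodule.mem_bot]
      haveI : Module.Finite A 𝔞 := Module.Finite.iff_fg.mpr h𝔞
      haveI : Module.Finite B (M ⊗[A] 𝔞) := Groth.Agent.Lib.Helper8.finite_tensor M 𝔞
      letI : Module R (M ⊗[A] 𝔞) := Module.compHom _ (algebraMap R B)
      haveI : IsScalarTower R B (M ⊗[A] 𝔞) := ⟨fun r b y => by
        rw [Algebra.smul_def, mul_smul]; rfl⟩
      have hcomp := Groth.Agent.S11529.result R I hR B hB (M ⊗[A] 𝔞)
      have hH : IsHausdorff (I.map (algebraMap R B)) (M ⊗[A] 𝔞) :=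
        (IsHausdorff.map_algebraMap_iff (S := B)).mpr hcomp.toIsHausdorff
      have hkrull := hH.iInf_pow_smul
      have hmem : TensorProduct.comm A 𝔞 M x ∈
          ⨅ n : ℕ, (I.map (algebraMap R B)) ^ n • (⊤ : Submodule B (M ⊗[A] 𝔞)) := by
        rw [Submodule.mem_iInf]
        intro n
        refine Submodule.smul_induction_on (hx n) ?_ ?_
        · intro j hj t _
          rw [map_smul, ← algebraMap_smul B j ((TensorProduct.comm A 𝔞 M) t)]
          refine Submodule.smul_mem_smul ?_ Submodule.mem_top
          have h3 : (I ^ (n + 1)).map (algebraMap R A) ≤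
              ((I.map (algebraMap R B)) ^ n).comap (algebraMap A B) := by
            rw [Ideal.map_le_iff_le_comap]
            intro r hr
            rw [Ideal.mem_comap, Ideal.mem_comap, ← IsScalarTower.algebraMap_apply,
              ← Ideal.map_pow]
            exact Ideal.mem_map_of_mem _ (Ideal.pow_le_pow_right (Nat.le_succ n) hr)
          exact h3 hj
        · intro t1 t2 h1 h2
          rw [map_add]
          exact add_mem h1 h2
      rw [hkrull, Submodule.mem_bot] at hmem
      exact (TensorProduct.comm A 𝔞 M).injective (by rw [hmem, map_zero])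

end Groth.Agent.S11531
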