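import Groth.Statements.S11532
import Groth.Agent.S11531
import Groth.Agent.S11529

set_option autoImplicit false
universe u
open scoped TensorProduct
open AdicRing

namespace Groth.Agent.S11532

/-- Let R be a base ring of class (N) or (V) for the ideal I, A → B a morphism of R-algebras
topologically of finite type and M a finite B-module. Then M is a faithfully flat A-module exactly
when, for every n, writing A_n = A/I^(n+1)A, the module A_n ⊗_A M is faithfully flat over A_n. -/
theorem result
    (R : Type u) [CommRing R] (I : Ideal R) (hR : AdicRing.IsBase R I)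
    (A : Type u) [CommRing A] [Algebra R A] (hA : AdicRing.TopFiniteType R I A)
    (B : Type u) [CommRing B] [Algebra R B] [Algebra A B] [IsScalarTower R A B]
    (hB : AdicRing.TopFiniteType R I B)
    (M : Type u) [AddCommGroup M] [Module B M] [Module A M] [IsScalarTower A B M]
    [Module.Finite B M] :
    Module.FaithfullyFlat A M ↔
      ∀ n : ℕ, Module.FaithfullyFlat (AdicRing.trunc A I n) ((AdicRing.trunc A I n) ⊗[A] M) := by
  constructor
  · intro h n
    infer_instance
  · intro h
    haveI hflat : Module.Flat A M :=
      (Groth.Agent.S11531.result R I hR A hA B hB M).mpr (fun n => (h n).toFlat)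
    refine ⟨fun 𝔪 h𝔪 htop => ?_⟩
    have hAc : IsAdicComplete I A := Groth.Agent.S11529.result R I hR A hA A
    haveI hAc' : IsAdicComplete (I.map (algebraMap R A)) A :=
      (IsAdicComplete.map_algebraMap_iff (S := A) I A).mpr hAc
    have hjac : I.map (algebraMap R A) ≤ Ideal.jacobson ⊥ := IsAdicComplete.le_jacobson_bot _
    have hle : (I ^ (0 + 1)).map (algebraMap R A) ≤ 𝔪 := by
      rw [zero_add, pow_one]
      exact hjac.trans (sInf_le ⟨bot_le, h𝔪⟩)
    have hmax : (𝔪.map (Ideal.Quotient.mk ((I ^ (0 + 1)).map (algebraMap R A)))).IsMaximal :=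
      Ideal.IsMaximal.map_of_surjective_of_ker_le Ideal.Quotient.mk_surjective
        (by rw [Ideal.mk_ker]; exact hle)
    apply (h 0).submodule_ne_top hmax
    rw [eq_top_iff]
    intro z hz
    clear hz
    induction z using TensorProduct.induction_on with
    | zero => exact Submodule.zero_mem _
    | add x y hx hy => exact Submodule.add_mem _ hx hy
    | tmul a₀ m =>
      have hm : m ∈ 𝔪 • (⊤ : Submodule A M) := by rw [htop]; exact Submodule.mem_top
      refine Submodule.smul_induction_on hm ?_ ?_
      · intro a ha m' _
        have h1 : a₀ ⊗ₜ[A] (a • m') =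
            (Ideal.Quotient.mk ((I ^ (0 + 1)).map (algebraMap R A)) a) • (a₀ ⊗ₜ[A] m') := by
          rw [TensorProduct.smul_tmul', ← TensorProduct.smul_tmul, smul_eq_mul, Algebra.smul_def]
          rfl
        rw [h1]
        exact Submodule.smul_mem_smul (Ideal.mem_map_of_mem _ ha) Submodule.mem_top
      · intro m1 m2 h1 h2
        rw [TensorProduct.tmul_add]
        exact Submodule.add_mem _ h1 h2

end Groth.Agent.S11532
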