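import Groth.Statements.S11533
import Groth.Agent.Lib.Helper27.CLocFlat
import Groth.Agent.Lib.Helper27.CLocTft
import Groth.Agent.S11531
import Groth.Agent.S11529
open Groth.Agent.Lib.Helper27

set_option autoImplicit false
universe u
open AdicRing

namespace Groth.Agent.S11533

/-- Let R be a base ring of class (N) or (V) for the ideal I, A an R-algebra topologically of finite
type and f_1, ..., f_r elements of A generating the unit ideal. Then every complete localization
A⟨f_i⁻¹⟩ is flat over A, and the product of the A⟨f_i⁻¹⟩ is faithfully flat over A. -/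
theorem result
    (R : Type u) [CommRing R] (I : Ideal R) (hR : AdicRing.IsBase R I)
    (A : Type u) [CommRing A] [Algebra R A] (hA : AdicRing.TopFiniteType R I A)
    (r : ℕ) (f : Fin r → A) (hf : Ideal.span (Set.range f) = ⊤) :
    (∀ i, Module.Flat A (AdicRing.CLoc I (f i))) ∧
      Module.FaithfullyFlat A (∀ i, AdicRing.CLoc I (f i)) := by
  classical
  have hI : I.FG := by
    obtain ⟨_, h | h⟩ := hR
    · haveI := h.1; exact IsNoetherian.noetherian I
    · obtain ⟨_, _, _, t, _, rfl⟩ := h; exact ⟨{t}, by simp⟩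
  have hflat : ∀ i, Module.Flat A (AdicRing.CLoc I (f i)) := by
    intro i
    rw [Groth.Agent.S11531.result R I hR A hA (AdicRing.CLoc I (f i))
      (CLocTft.tft_cLoc I hI (f i) hA) (AdicRing.CLoc I (f i))]
    intro n
    exact CLocFlat.flat_trunc_tensor I hI (f i) (n + 1)
  refine ⟨hflat, ?_⟩
  haveI := hflat
  haveI hflatpi : Module.Flat A (∀ i, AdicRing.CLoc I (f i)) :=
    Module.Flat.of_linearEquiv
      (DirectSum.linearEquivFunOnFintype A (Fin r) (fun i => AdicRing.CLoc I (f i))).symm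
  refine ⟨?_⟩
  intro 𝔫 h𝔫 htop
  -- `A` is complete, so `I A ⊆ 𝔫`
  haveI hc0 : IsAdicComplete I A := Groth.Agent.S11529.result R I hR A hA A
  haveI hc : IsAdicComplete (I.map (algebraMap R A)) A :=
    (IsAdicComplete.map_algebraMap_iff I A).mpr hc0
  have hI𝔫 : I.map (algebraMap R A) ≤ 𝔫 :=
    (IsAdicComplete.le_jacobson_bot _).trans (sInf_le ⟨bot_le, h𝔫⟩)
  -- some `f i ∉ 𝔫`
  obtain ⟨i, hi⟩ : ∃ i, f i ∉ 𝔫 := by
    by_contra hcon
    push Not at hcon
    have : Ideal.span (Set.range f) ≤ 𝔫 := Ideal.span_le.mpr (by rintro _ ⟨i, rfl⟩; exact hcon i)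
    rw [hf] at this
    exact h𝔫.ne_top (top_le_iff.mp this)
  -- project to the `i`-th factor
  have h1 : (1 : AdicRing.CLoc I (f i)) ∈ 𝔫.map (algebraMap A (AdicRing.CLoc I (f i))) := by
    have h2 : (fun j => (1 : AdicRing.CLoc I (f j))) ∈
        (𝔫 • ⊤ : Submodule A (∀ j, AdicRing.CLoc I (f j))) := by rw [htop]; trivial
    have h3 := Submodule.mem_map_of_mem
      (f := (LinearMap.proj i : (∀ j, AdicRing.CLoc I (f j)) →ₗ[A] AdicRing.CLoc I (f i))) h2
    rw [Submodule.map_smul'', Submodule.map_top, LinearMap.range_eq_top.mpr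
      (LinearMap.proj_surjective i), Ideal.smul_top_eq_map] at h3
    exact h3
  -- reduce modulo `I`
  letI alg := (CLocBasic.truncMap I (f i) 1).toAlgebra
  haveI hloc : IsLocalization.Away (Ideal.Quotient.mk ((I ^ 1).map (algebraMap R A)) (f i))
      (AdicRing.CLoc I (f i) ⧸ (I ^ 1).map (algebraMap R (AdicRing.CLoc I (f i)))) :=
    CLocBasic.isLocalization_truncMap I hI (f i) 1
  have hker : RingHom.ker (Ideal.Quotient.mk ((I ^ 1).map (algebraMap R A))) ≤ 𝔫 := by
    rw [Ideal.mk_ker, pow_one]; exact hI𝔫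
  have hprime : (𝔫.map (Ideal.Quotient.mk ((I ^ 1).map (algebraMap R A)))).IsPrime :=
    Ideal.map_isPrime_of_surjective Ideal.Quotient.mk_surjective hker
  have hfi : Ideal.Quotient.mk ((I ^ 1).map (algebraMap R A)) (f i) ∉
      𝔫.map (Ideal.Quotient.mk ((I ^ 1).map (algebraMap R A))) := by
    intro hmem
    have h2 : f i ∈ (𝔫.map (Ideal.Quotient.mk ((I ^ 1).map (algebraMap R A)))).comap
        (Ideal.Quotient.mk ((I ^ 1).map (algebraMap R A))) := hmem
    rw [Ideal.comap_map_of_surjective _ Ideal.Quotient.mk_surjective,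
      ← RingHom.ker_eq_comap_bot, sup_eq_left.mpr hker] at h2
    exact hi h2
  have hdisj : Disjoint
      (Submonoid.powers (Ideal.Quotient.mk ((I ^ 1).map (algebraMap R A)) (f i)) :
        Set (A ⧸ (I ^ 1).map (algebraMap R A)))
      (𝔫.map (Ideal.Quotient.mk ((I ^ 1).map (algebraMap R A)))) := by
    rw [Set.disjoint_left]
    rintro _ ⟨m, rfl⟩ hm
    exact hfi (hprime.mem_of_pow_mem m hm)
  have hne := (IsLocalization.map_algebraMap_ne_top_iff_disjoint
    (Submonoid.powers (Ideal.Quotient.mk ((I ^ 1).map (algebraMap R A)) (f i)))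
    (AdicRing.CLoc I (f i) ⧸ (I ^ 1).map (algebraMap R (AdicRing.CLoc I (f i))))
    (𝔫.map (Ideal.Quotient.mk ((I ^ 1).map (algebraMap R A))))).mpr hdisj
  apply hne
  rw [Ideal.eq_top_iff_one, Ideal.map_map]
  have hcomp : (algebraMap (A ⧸ (I ^ 1).map (algebraMap R A))
      (AdicRing.CLoc I (f i) ⧸ (I ^ 1).map (algebraMap R (AdicRing.CLoc I (f i))))).comp
      (Ideal.Quotient.mk ((I ^ 1).map (algebraMap R A))) =
      (Ideal.Quotient.mk ((I ^ 1).map (algebraMap R (AdicRing.CLoc I (f i))))).comp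
        (algebraMap A (AdicRing.CLoc I (f i))) := rfl
  rw [hcomp, ← Ideal.map_map, ← map_one (Ideal.Quotient.mk _)]
  exact Ideal.mem_map_of_mem _ h1

end Groth.Agent.S11533
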