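import Groth.Statements.S11536
import Groth.Agent.Lib.Helper27.CLocTors
import Groth.Agent.Lib.Helper27.AdicBase
import Groth.Agent.S11533
import Groth.Agent.S11535
open Groth.Agent.Lib.Helper27

set_option autoImplicit false
universe u
open AdicRing

namespace Groth.Agent.S11536

/-- Let R be a base ring of class (N) or (V) for the ideal I, A an R-algebra which is complete and
separated for the I-adic topology, and f_1, ..., f_r elements generating the unit ideal of A. Then A
is admissible over R if and only if each complete localization A⟨f_i⁻¹⟩ is. -/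
theorem result
    (R : Type u) [CommRing R] (I : Ideal R) (hR : AdicRing.IsBase R I)
    (A : Type u) [CommRing A] [Algebra R A] [IsAdicComplete (I.map (algebraMap R A)) A]
    (r : ℕ) (f : Fin r → A) (hf : Ideal.span (Set.range f) = ⊤) :
    AdicRing.Admissible R I A ↔ ∀ i, AdicRing.Admissible R I (AdicRing.CLoc I (f i)) := by
  classical
  have hI : I.FG := by
    obtain ⟨_, h | h⟩ := hR
    · haveI := h.1; exact IsNoetherian.noetherian I
    · obtain ⟨_, _, _, t, _, rfl⟩ := h; exact ⟨{t}, by simp⟩
  constructor
  · rintro ⟨hA, hT⟩ i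
    refine ⟨(Groth.Agent.S11535.result R I hR A r f hf).mp hA i, ?_⟩
    haveI : Module.Flat A (AdicRing.CLoc I (f i)) :=
      (Groth.Agent.S11533.result R I hR A (AdicBase.tft_of_tfp hA) r f hf).1 i
    intro x n hx
    exact CLocTors.noTorsion_of_flat (I ^ n) (Ideal.FG.pow hI) A (AdicRing.CLoc I (f i))
      (fun a ha => hT a n ha) x hx
  · intro h
    refine ⟨(Groth.Agent.S11535.result R I hR A r f hf).mpr (fun i => (h i).1), ?_⟩
    exact CLocTors.noPowTorsion_of_span I f hf (fun i => (h i).2)

end Groth.Agent.S11536
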