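import Groth.Statements.S11537
import Groth.Agent.Lib.Helper27.CplAlg
import Groth.Agent.Lib.Helper27.CplTensorInj
import Groth.Agent.Lib.Helper27.AdicComplete
import Groth.Agent.Lib.Helper27.AdicBase
open Groth.Agent.Lib.Helper27 TensorProduct

set_option autoImplicit false
universe u
open AdicRing

namespace Groth.Agent.S11537

/-- Let R be a base ring of class (N) or (V) for the ideal I, A an R-algebra topologically of finite
type, B a finitely generated A-algebra and M a finite B-module. The canonical map from B̂ ⊗_B M to
M̂, the hats denoting IB-adic completions, is bijective. -/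
theorem result
    (R : Type u) [CommRing R] (I : Ideal R) (hR : AdicRing.IsBase R I)
    (A : Type u) [CommRing A] [Algebra R A] (hA : AdicRing.TopFiniteType R I A)
    (B : Type u) [CommRing B] [Algebra R B] [Algebra A B] [IsScalarTower R A B]
    [Algebra.FiniteType A B]
    (M : Type u) [AddCommGroup M] [Module B M] [Module.Finite B M] :
    Function.Bijective
      (AdicCompletion.ofTensorProduct (I.map (algebraMap R B)) M) := by
  classical
  obtain ⟨hc, h | h⟩ := hR
  · obtain ⟨hN, _⟩ := h
    haveI := hN
    haveI : IsNoetherianRing A := AdicBase.isNoetherianRing_of_tft R I A hA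
    haveI : IsNoetherianRing B := Algebra.FiniteType.isNoetherianRing A B
    exact AdicCompletion.ofTensorProduct_bijective_of_finite_of_isNoetherian _ M
  · obtain ⟨hD, hV, hK, t, ht, rfl⟩ := h
    haveI := hD
    haveI := hV
    haveI : ValuationRing R := {}
    haveI := hK
    haveI := hc
    have hI : (Ideal.span {t}).FG := ⟨{t}, by simp⟩
    refine ⟨?_, AdicCompletion.ofTensorProduct_surjective_of_finite _ M⟩
    have htft : TopFiniteType R (Ideal.span {t}) (CplAlg.Cpl (Ideal.span {t}) B) :=
      CplAlg.tft_cpl _ hI B hA
    have h1 : IsAdicComplete (Ideal.span {t}) (CplAlg.Cpl (Ideal.span {t}) B ⊗[B] M) :=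
      AdicComplete.isAdicComplete_classV R t ht _ htft _
    haveI : IsHausdorff (((Ideal.span {t}).map (algebraMap R B)).map
        (algebraMap B (AdicCompletion ((Ideal.span {t}).map (algebraMap R B)) B)))
        (AdicCompletion ((Ideal.span {t}).map (algebraMap R B)) B ⊗[B] M) := by
      rw [CplAlg.map_map_cpl]
      exact IsHausdorff.map_algebraMap_iff.mpr h1.toIsHausdorff
    exact CplTensorInj.ofTensorProduct_injective_of_isHausdorff _ (hI.map _) M

end Groth.Agent.S11537
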