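import Groth.Statements.S11540
import Groth.Agent.Lib.Helper27.ChartTors
import Groth.Agent.Lib.Helper27.FlatTors
import Groth.Agent.Lib.Helper27.AdicBase
import Groth.Agent.S11539
open Groth.Agent.Lib.Helper27

set_option autoImplicit false
universe u
open AdicRing

namespace Groth.Agent.S11540

/-- Let R be a base ring of class (N) or (V) for the ideal I, A an admissible R-algebra and f_0, ...,
f_r elements of A generating an open ideal, i.e. one containing I^k A for some k. Fix i and let C_i
be the I-adic completion of the chart algebra A[ζ_j ; j ≠ i]/(f_i ζ_j − f_j ; j ≠ i). Then the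
I-power torsion of C_i coincides with its f_i-power torsion. (That f_i-power torsion is I-power
torsion is elementary; the content is the converse.) -/
theorem result
    (R : Type u) [CommRing R] (I : Ideal R) (hR : AdicRing.IsBase R I)
    (A : Type u) [CommRing A] [Algebra R A] (hA : AdicRing.Admissible R I A)
    (r : ℕ) (f : Fin (r + 1) → A) (k : ℕ)
    (hopen : (I ^ k).map (algebraMap R A) ≤ Ideal.span (Set.range f)) (i : Fin (r + 1))
    (x : AdicRing.chartCompl I f i) :
    (∃ n : ℕ, ∀ a ∈ I ^ n, a • x = 0) ↔
      ∃ n : ℕ, algebraMap A (AdicRing.chartCompl I f i) (f i) ^ n * x = 0 := by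
  classical
  have hI : I.FG := by
    obtain ⟨_, h | h⟩ := hR
    · haveI := h.1; exact IsNoetherian.noetherian I
    · obtain ⟨_, _, _, t, _, rfl⟩ := h; exact ⟨{t}, by simp⟩
  obtain ⟨hA1, hT⟩ := hA
  have hAtft : AdicRing.TopFiniteType R I A := AdicBase.tft_of_tfp hA1
  haveI hflat : Module.Flat (AdicRing.chartAlg f i) (AdicRing.chartCompl I f i) :=
    Groth.Agent.S11539.result R I hR A hAtft (AdicRing.chartAlg f i)
  have hgx : algebraMap A (AdicRing.chartCompl I f i) (f i) =
      algebraMap (AdicRing.chartAlg f i) (AdicRing.chartCompl I f i)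
        (algebraMap A (AdicRing.chartAlg f i) (f i)) := rfl
  have hRx : ∀ a : R, algebraMap R (AdicRing.chartCompl I f i) a =
      algebraMap (AdicRing.chartAlg f i) (AdicRing.chartCompl I f i)
        (algebraMap R (AdicRing.chartAlg f i) a) := fun _ => rfl
  constructor
  · rintro ⟨n, hn⟩
    obtain ⟨S, hS⟩ := Ideal.FG.pow (n := n) hI
    rw [hgx]
    apply FlatTors.exists_pow_mul_eq_zero_of_flat (AdicRing.chartCompl I f i)
      (algebraMap A (AdicRing.chartAlg f i) (f i)) (S.image (algebraMap R (AdicRing.chartAlg f i)))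
    · intro τ hτ
      apply ChartTors.exists_pow_mul_eq_zero_of_torsion f i I hT n S hS τ
      intro a ha
      exact hτ _ (Finset.mem_image_of_mem _ ha)
    · intro s hs
      obtain ⟨a, ha, rfl⟩ := Finset.mem_image.mp hs
      have h := hn a (hS ▸ Ideal.subset_span ha)
      rw [Algebra.smul_def, hRx] at h
      exact h
  · rintro ⟨N, hN⟩
    refine ⟨k * N, ?_⟩
    intro a ha
    have h1 : (I ^ k).map (algebraMap R (AdicRing.chartAlg f i)) ≤
        Ideal.span {algebraMap A (AdicRing.chartAlg f i) (f i)} := by
      have e : (I ^ k).map (algebraMap R (AdicRing.chartAlg f i)) =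
          ((I ^ k).map (algebraMap R A)).map (algebraMap A (AdicRing.chartAlg f i)) := by
        rw [Ideal.map_map, ← IsScalarTower.algebraMap_eq]
      rw [e]
      refine (Ideal.map_mono hopen).trans ?_
      rw [Ideal.map_span, Ideal.span_le]
      rintro _ ⟨_, ⟨j, rfl⟩, rfl⟩
      exact ChartTors.algebraMap_mem_span f i j
    have h2 : algebraMap R (AdicRing.chartAlg f i) a ∈
        Ideal.span {algebraMap A (AdicRing.chartAlg f i) (f i) ^ N} := by
      rw [← Ideal.span_singleton_pow]
      refine Ideal.pow_right_mono h1 N ?_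
      rw [← Ideal.map_pow, ← pow_mul]
      exact Ideal.mem_map_of_mem _ ha
    obtain ⟨d', hd'⟩ := Ideal.mem_span_singleton'.mp h2
    rw [Algebra.smul_def, hRx, ← hd', map_mul, map_pow, ← hgx, mul_assoc, hN, mul_zero]

end Groth.Agent.S11540
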