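import Groth.Statements.S11541
import Groth.Agent.Lib.Helper27.AdicHensel
import Groth.Agent.Lib.Helper27.AdicNormal
open Groth.Agent.Lib.Helper27

set_option autoImplicit false
universe u
open AdicRing

namespace Groth.Agent.S11541

/-- Let R be a complete valuation ring of height one with t a nonzero element generating an ideal of
definition, and B an admissible R-algebra which is a local integral domain of Krull dimension one.
Then B is a finite R-module whose integral closure inside its fraction field is a valuation ring. -/
theorem result
    (R : Type u) [CommRing R] [IsDomain R] [ValuationRing R] [Ring.KrullDimLE 1 R]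
    (t : R) (ht : t ≠ 0) [IsAdicComplete (Ideal.span {t}) R]
    (B : Type u) [CommRing B] [Algebra R B] [IsDomain B] [IsLocalRing B]
    (hB : AdicRing.Admissible R (Ideal.span {t}) B) (hdim : ringKrullDim B = 1) :
    Module.Finite R B ∧ ValuationRing (integralClosure B (FractionRing B)) := by
  classical
  haveI hfin : Module.Finite R B :=
    AdicFin.finite_of_local_dim_one R t ht B (AdicBase.tft_of_tfp hB.1) hB.2 hdim
  refine ⟨hfin, ?_⟩
  haveI : Algebra.IsIntegral R B := inferInstance
  -- `R → B → L` is injective
  have htB0 : algebraMap R B t ≠ 0 := by
    intro h0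
    have : (1 : B) = 0 := hB.2 1 1 (by
      intro a ha
      rw [pow_one, Ideal.mem_span_singleton] at ha
      obtain ⟨b, rfl⟩ := ha
      rw [mul_comm, mul_smul, Algebra.smul_def t, mul_one, h0, smul_zero])
    exact one_ne_zero this
  have hRB : Function.Injective (algebraMap R B) := by
    rw [injective_iff_map_eq_zero]
    intro c hc
    by_contra hc0
    obtain ⟨j, e, hj⟩ := RPowKey.exists_dvd_pow t c hc0
    apply htB0
    have : algebraMap R B t ^ j = 0 := by rw [← map_pow, hj, map_mul, hc, zero_mul]
    exact IsReduced.eq_zero _ ⟨j, this⟩
  have hRL : Function.Injective (algebraMap R (FractionRing B)) := by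
    rw [IsScalarTower.algebraMap_eq R B (FractionRing B)]
    exact (IsFractionRing.injective B (FractionRing B)).comp hRB
  haveI : FaithfulSMul R (FractionRing B) := (faithfulSMul_iff_algebraMap_injective R _).mpr hRL
  haveI : Algebra.IsAlgebraic R B := inferInstance
  haveI hRLalg : Algebra.IsAlgebraic R (FractionRing B) :=
    (IsFractionRing.isAlgebraic_iff' R B (FractionRing B)).mp inferInstance
  -- elements of the integral closure are integral over `R`, and conversely
  have hDR : ∀ z : FractionRing B, z ∈ integralClosure B (FractionRing B) ↔ IsIntegral R z := by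
    intro z
    constructor
    · intro hz
      exact isIntegral_trans (R := R) (A := B) z hz
    · intro hz
      exact hz.tower_top
  -- the integral closure is integrally closed in `L`
  have hcl : ∀ z : FractionRing B, IsIntegral (integralClosure B (FractionRing B)) z →
      ∃ d : integralClosure B (FractionRing B), algebraMap _ (FractionRing B) d = z := by
    intro z hz
    have hz' : IsIntegral B z := isIntegral_trans (R := B)
      (A := integralClosure B (FractionRing B)) z hz
    exact ⟨⟨z, hz'⟩, rfl⟩
  -- the integral closure is local
  haveI hDloc : IsLocalRing (integralClosure B (FractionRing B)) := by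
    apply IsLocalRing.of_nonunits_add
    intro a b ha hb hab
    obtain ⟨u, hu⟩ := hab.exists_right_inv
    -- the finite subalgebra generated by `a`, `b`, `u`
    have hint : ∀ z ∈ ({(a : FractionRing B), (b : FractionRing B), (u : FractionRing B)} :
        Set (FractionRing B)), IsIntegral R z := by
      intro z hz
      rcases hz with rfl | rfl | rfl
      · exact (hDR _).mp a.2
      · exact (hDR _).mp b.2
      · exact (hDR _).mp u.2
    have hfg := fg_adjoin_of_finite (R := R) (Set.toFinite
      ({(a : FractionRing B), (b : FractionRing B), (u : FractionRing B)} :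
        Set (FractionRing B))) hint
    haveI hCfin : Module.Finite R (Algebra.adjoin R
        ({(a : FractionRing B), (b : FractionRing B), (u : FractionRing B)} :
          Set (FractionRing B))) := Module.Finite.iff_fg.mpr hfg
    haveI hCloc : IsLocalRing (Algebra.adjoin R
        ({(a : FractionRing B), (b : FractionRing B), (u : FractionRing B)} :
          Set (FractionRing B))) :=
      AdicHensel.isLocalRing_of_finite_isDomain R t ht _
    -- elements of `C` lie in the integral closure
    have hCD : ∀ z : Algebra.adjoin R
        ({(a : FractionRing B), (b : FractionRing B), (u : FractionRing B)} :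
          Set (FractionRing B)), (z : FractionRing B) ∈ integralClosure B (FractionRing B) := by
      intro z
      rw [hDR]
      have h1 : IsIntegral R z := Algebra.IsIntegral.isIntegral z
      exact h1.map (Subalgebra.val _)
    have hnu : ∀ (d : integralClosure B (FractionRing B))
        (hd : (d : FractionRing B) ∈ Algebra.adjoin R
          ({(a : FractionRing B), (b : FractionRing B), (u : FractionRing B)} :
            Set (FractionRing B))), d ∈ nonunits (integralClosure B (FractionRing B)) →
        (⟨(d : FractionRing B), hd⟩ : Algebra.adjoin R
          ({(a : FractionRing B), (b : FractionRing B), (u : FractionRing B)} :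
            Set (FractionRing B))) ∈ nonunits _ := by
      intro d hd hdn hdu
      apply hdn
      obtain ⟨w, hw⟩ := hdu.exists_right_inv
      refine IsUnit.of_mul_eq_one ⟨(w : FractionRing B), hCD w⟩ ?_
      apply Subtype.ext
      have := congrArg Subtype.val hw
      simpa using this
    have ha' := hnu a (Algebra.subset_adjoin (by simp)) ha
    have hb' := hnu b (Algebra.subset_adjoin (by simp)) hb
    have hab' := IsLocalRing.nonunits_add ha' hb'
    apply hab'
    refine IsUnit.of_mul_eq_one ⟨(u : FractionRing B), Algebra.subset_adjoin (by simp)⟩ ?_
    apply Subtype.ext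
    have := congrArg Subtype.val hu
    simpa using this
  -- valuation ring
  have pvr : ∀ a b : integralClosure B (FractionRing B), ∃ c, a * c = b ∨ b * c = a := by
    intro a b
    by_cases hb0 : b = 0
    · exact ⟨0, Or.inl (by rw [hb0, mul_zero])⟩
    by_cases ha0 : a = 0
    · exact ⟨0, Or.inr (by rw [ha0, mul_zero])⟩
    have hb0' : (b : FractionRing B) ≠ 0 := fun h => hb0 (Subtype.ext h)
    have ha0' : (a : FractionRing B) ≠ 0 := fun h => ha0 (Subtype.ext h)
    obtain ⟨q, ⟨i, hqi⟩, hq0⟩ := AdicNormal.exists_primitive_of_isAlgebraic hRL
      ((b : FractionRing B) / (a : FractionRing B)) (Algebra.IsAlgebraic.isAlgebraic _)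
    have hq0' : Polynomial.aeval ((b : FractionRing B) / (a : FractionRing B))
        (q.map (algebraMap R (integralClosure B (FractionRing B)))) = 0 := by
      rw [Polynomial.aeval_map_algebraMap]; exact hq0
    rcases AdicNormal.mem_or_inv_mem_of_unit_coeff hcl _ _ _ le_rfl
      ⟨i, by rw [Polynomial.coeff_map, hqi, map_one]; exact isUnit_one⟩ hq0' with ⟨d, hd⟩ | ⟨d, hd⟩
    · refine ⟨d, Or.inl ?_⟩
      apply Subtype.ext
      have h1 : (d : FractionRing B) = (b : FractionRing B) / (a : FractionRing B) := hd
      show (a : FractionRing B) * (d : FractionRing B) = b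
      rw [h1]; field_simp
    · refine ⟨d, Or.inr ?_⟩
      apply Subtype.ext
      have h1 : (d : FractionRing B) = ((b : FractionRing B) / (a : FractionRing B))⁻¹ := hd
      show (b : FractionRing B) * (d : FractionRing B) = a
      rw [h1]; field_simp

  haveI : PreValuationRing (integralClosure B (FractionRing B)) := ⟨pvr⟩
  exact {}

end Groth.Agent.S11541
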