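import Groth.Statements.S11542
import Groth.Agent.Lib.Helper27.AdicFin
import Groth.Agent.Lib.Helper27.CplTensorC
open Groth.Agent.Lib.Helper27

set_option autoImplicit false
universe u
open AdicRing

namespace Groth.Agent.S11542

/-- Let R be a complete valuation ring of height one with t a nonzero element generating an ideal of
definition, A and B admissible R-algebras with B a local integral domain of Krull dimension one, f
an element of A and u a surjective R-algebra homomorphism from the complete localization A⟨f⁻¹⟩ onto
B. Then the composite of u with the canonical map A → A⟨f⁻¹⟩ is surjective. -/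
theorem result
    (R : Type u) [CommRing R] [IsDomain R] [ValuationRing R] [Ring.KrullDimLE 1 R]
    (t : R) (ht : t ≠ 0) [IsAdicComplete (Ideal.span {t}) R]
    (A : Type u) [CommRing A] [Algebra R A] (hA : AdicRing.Admissible R (Ideal.span {t}) A) (f : A)
    (B : Type u) [CommRing B] [Algebra R B] [IsDomain B] [IsLocalRing B]
    (hB : AdicRing.Admissible R (Ideal.span {t}) B) (hdim : ringKrullDim B = 1)
    (u : AdicRing.CLoc (Ideal.span {t}) f →ₐ[R] B) (hu : Function.Surjective u) :
    Function.Surjective
      (u.toRingHom.comp (algebraMap A (AdicRing.CLoc (Ideal.span {t}) f))) := by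
  classical
  haveI hfin : Module.Finite R B :=
    AdicFin.finite_of_local_dim_one R t ht B (AdicBase.tft_of_tfp hB.1) hB.2 hdim
  have ht_mem : t ∈ IsLocalRing.maximalIdeal R := RPowKey.mem_maximalIdeal_of_isHausdorff t
  -- the composite as an `R`-algebra homomorphism
  let ψ : A →ₐ[R] B :=
    { toRingHom := u.toRingHom.comp (algebraMap A (AdicRing.CLoc (Ideal.span {t}) f))
      commutes' := by
        intro r
        show u (algebraMap A (AdicRing.CLoc (Ideal.span {t}) f) (algebraMap R A r)) = _
        rw [← u.commutes r]
        congr 1 }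
  have hψ : ∀ a, ψ a = u (algebraMap A (AdicRing.CLoc (Ideal.span {t}) f) a) := fun _ => rfl
  show Function.Surjective ψ
  let B' : Subalgebra R B := ψ.range
  haveI : Algebra.IsIntegral R B := inferInstance
  haveI : Algebra.IsIntegral B' B := Algebra.IsIntegral.tower_top (R := R)
  haveI hloc : IsLocalHom (algebraMap B' B) :=
    RingHom.IsIntegral.isLocalHom (algebraMap_isIntegral_iff.mpr inferInstance)
      Subtype.val_injective
  -- `ψ f` is a unit of `B'`
  have hfu : IsUnit (ψ f) := by
    rw [hψ]
    apply IsUnit.map
    have : algebraMap A (AdicRing.CLoc (Ideal.span {t}) f) f =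
        algebraMap (Localization.Away f) (AdicRing.CLoc (Ideal.span {t}) f)
          (algebraMap A (Localization.Away f) f) := rfl
    rw [this]
    apply IsUnit.map
    exact IsLocalization.Away.algebraMap_isUnit f
  have hfu' : IsUnit (⟨ψ f, f, rfl⟩ : B') := by
    apply isUnit_of_map_unit (algebraMap B' B)
    exact hfu
  -- elements of the localization land in `B'`
  have hloc_mem : ∀ p : Localization.Away f,
      u (algebraMap (Localization.Away f) (AdicRing.CLoc (Ideal.span {t}) f) p) ∈ B' := by
    intro p
    obtain ⟨a, y, rfl⟩ := IsLocalization.exists_mk'_eq (Submonoid.powers f) p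
    obtain ⟨m, hm⟩ := y.2
    have h1 : IsLocalization.mk' (Localization.Away f) a y *
        algebraMap A (Localization.Away f) (f ^ m) =
        algebraMap A (Localization.Away f) a := by
      have hm' : f ^ m = (y : A) := hm
      rw [hm']
      exact IsLocalization.mk'_spec _ _ _
    have h2 : u (algebraMap (Localization.Away f) (AdicRing.CLoc (Ideal.span {t}) f)
        (IsLocalization.mk' (Localization.Away f) a y)) *
        ψ f ^ m = ψ a := by
      have e1 : ψ f ^ m = u (algebraMap (Localization.Away f) (AdicRing.CLoc (Ideal.span {t}) f)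
          (algebraMap A (Localization.Away f) (f ^ m))) := by
        rw [← map_pow]; rfl
      have e2 : ψ a = u (algebraMap (Localization.Away f) (AdicRing.CLoc (Ideal.span {t}) f)
          (algebraMap A (Localization.Away f) a)) := rfl
      rw [e1, e2, ← map_mul, ← map_mul, h1]
    obtain ⟨w, hw⟩ := hfu'
    have hw' : ((w⁻¹ : B'ˣ) : B') * ⟨ψ f, f, rfl⟩ = 1 := by rw [← hw]; exact w.inv_mul
    have hw'' : ((((w⁻¹ : B'ˣ) : B') : B)) * ψ f = 1 := by
      have := congrArg (Subtype.val) hw'
      simpa using this
    have h3 : u (algebraMap (Localization.Away f) (AdicRing.CLoc (Ideal.span {t}) f)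
        (IsLocalization.mk' (Localization.Away f) a y)) =
        ψ a * ((((w⁻¹ : B'ˣ) : B') : B)) ^ m := by
      rw [← h2, mul_assoc, ← mul_pow, mul_comm (ψ f), hw'', one_pow, mul_one]
    rw [h3]
    exact B'.mul_mem ⟨a, rfl⟩ (B'.pow_mem (SetLike.coe_mem _) m)
  -- Nakayama
  have hJfg : ((Ideal.span {t}).map (algebraMap R (Localization.Away f))).FG :=
    Ideal.FG.map ⟨{t}, by simp⟩ _
  have hle : (⊤ : Submodule R B) ≤ Subalgebra.toSubmodule B' := by
    apply Submodule.le_of_le_smul_of_le_jacobson_bot (I := Ideal.span {t}) Module.Finite.fg_top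
    · rw [IsLocalRing.jacobson_eq_maximalIdeal ⊥ bot_ne_top, Ideal.span_singleton_le_iff_mem]
      exact ht_mem
    · intro b _
      obtain ⟨c, rfl⟩ := hu b
      obtain ⟨p, hp⟩ := CplTensorC.exists_sub_mem_pow
        ((Ideal.span {t}).map (algebraMap R (Localization.Away f))) hJfg 1 c
      have hJ : (((Ideal.span {t}).map (algebraMap R (Localization.Away f))) ^ 1).map
          (algebraMap (Localization.Away f) (AdicRing.CLoc (Ideal.span {t}) f)) =
          Ideal.span {((algebraMap (Localization.Away f)
            (AdicRing.CLoc (Ideal.span {t}) f)).comp (algebraMap R (Localization.Away f))) t} := by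
        rw [pow_one, Ideal.map_map, Ideal.map_span ((algebraMap (Localization.Away f)
            (AdicRing.CLoc (Ideal.span {t}) f)).comp (algebraMap R (Localization.Away f))) {t},
          Set.image_singleton]
      rw [hJ] at hp
      obtain ⟨x', hx'⟩ := Ideal.mem_span_singleton'.mp hp
      have hc : c = algebraMap (Localization.Away f) (AdicRing.CLoc (Ideal.span {t}) f) p +
          t • x' := by
        rw [Algebra.smul_def, mul_comm]
        have : algebraMap R (AdicRing.CLoc (Ideal.span {t}) f) t =
          ((algebraMap (Localization.Away f) (AdicRing.CLoc (Ideal.span {t}) f)).comp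
            (algebraMap R (Localization.Away f))) t := rfl
        rw [this, hx']
        ring
      rw [hc, map_add, map_smul]
      exact Submodule.add_mem_sup (hloc_mem p)
        (Submodule.smul_mem_smul (Ideal.mem_span_singleton_self t) Submodule.mem_top)
  intro b
  have hb : b ∈ Subalgebra.toSubmodule B' := hle Submodule.mem_top
  obtain ⟨a, ha⟩ := hb
  exact ⟨a, ha⟩

end Groth.Agent.S11542
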