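import Groth.Statements.S11543
import Groth.Agent.Lib.Helper27.AdicDim
open Groth.Agent.Lib.Helper27

set_option autoImplicit false
universe u
open scoped TensorProduct
open AdicRing

namespace Groth.Agent.S11543

/-- Let R be a complete valuation ring of height one with t a nonzero element generating an ideal of
definition and K its field of fractions, and let A be an admissible R-algebra. Then the non-open
prime ideals p of A (those not containing t) with A/p of Krull dimension one correspond bijectively
to the maximal ideals of A ⊗_R K: the extension of such a p along A → A ⊗_R K is maximal and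
contracts back to p, and every maximal ideal of A ⊗_R K contracts to such a prime and is the
extension of its contraction. -/
theorem result
    (R : Type u) [CommRing R] [IsDomain R] [ValuationRing R] [Ring.KrullDimLE 1 R]
    (t : R) (ht : t ≠ 0) [IsAdicComplete (Ideal.span {t}) R]
    (A : Type u) [CommRing A] [Algebra R A] (hA : AdicRing.Admissible R (Ideal.span {t}) A) :
    (∀ p : Ideal A, p.IsPrime → algebraMap R A t ∉ p → ringKrullDim (A ⧸ p) = 1 →
        (p.map (Algebra.TensorProduct.includeLeftRingHom :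
          A →+* A ⊗[R] FractionRing R)).IsMaximal ∧
        (p.map (Algebra.TensorProduct.includeLeftRingHom :
          A →+* A ⊗[R] FractionRing R)).comap (Algebra.TensorProduct.includeLeftRingHom :
          A →+* A ⊗[R] FractionRing R) = p) ∧
      (∀ m : Ideal (A ⊗[R] FractionRing R), m.IsMaximal →
        algebraMap R A t ∉ m.comap (Algebra.TensorProduct.includeLeftRingHom :
            A →+* A ⊗[R] FractionRing R) ∧
          ringKrullDim (A ⧸ m.comap (Algebra.TensorProduct.includeLeftRingHom :
            A →+* A ⊗[R] FractionRing R)) = 1 ∧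
          (m.comap (Algebra.TensorProduct.includeLeftRingHom :
            A →+* A ⊗[R] FractionRing R)).map (Algebra.TensorProduct.includeLeftRingHom :
            A →+* A ⊗[R] FractionRing R) = m) := by
  classical
  have ht_mem : t ∈ IsLocalRing.maximalIdeal R := RPowKey.mem_maximalIdeal_of_isHausdorff t
  haveI hloc : IsLocalization (Algebra.algebraMapSubmonoid A (nonZeroDivisors R))
      (A ⊗[R] FractionRing R) := IsLocalization.tensor _ (nonZeroDivisors R)
  have hι : (Algebra.TensorProduct.includeLeftRingHom : A →+* A ⊗[R] FractionRing R) =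
      algebraMap A (A ⊗[R] FractionRing R) := rfl
  have hS₀mem : ∀ r : R, r ≠ 0 →
      algebraMap R A r ∈ Algebra.algebraMapSubmonoid A (nonZeroDivisors R) := fun r hr =>
    Algebra.mem_algebraMapSubmonoid_of_mem ⟨r, mem_nonZeroDivisors_of_ne_zero hr⟩
  have hdisj : ∀ q : Ideal A, q.IsPrime → algebraMap R A t ∉ q →
      Disjoint (Algebra.algebraMapSubmonoid A (nonZeroDivisors R) : Set A) q := by
    intro q hq htq
    rw [Set.disjoint_left]
    rintro _ ⟨r, hr, rfl⟩ hrq
    have hr0 : r ≠ 0 := nonZeroDivisors.ne_zero hr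
    obtain ⟨j, e, hj⟩ := RPowKey.exists_dvd_pow t r hr0
    apply htq
    apply hq.mem_of_pow_mem j
    rw [← map_pow, hj, map_mul]
    exact q.mul_mem_right _ hrq
  have hnt : ∀ 𝔫 : Ideal (A ⊗[R] FractionRing R), 𝔫 ≠ ⊤ →
      algebraMap R A t ∉ 𝔫.comap (algebraMap A (A ⊗[R] FractionRing R)) := by
    intro 𝔫 h𝔫 hmem
    apply h𝔫
    rw [Ideal.mem_comap] at hmem
    exact Ideal.eq_top_of_isUnit_mem _ hmem (IsLocalization.map_units _
      (⟨_, hS₀mem t ht⟩ : Algebra.algebraMapSubmonoid A (nonZeroDivisors R)))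
  rw [hι]
  refine ⟨?_, ?_⟩
  · intro p hp htp hdimp
    have hd := hdisj p hp htp
    have hcm : (p.map (algebraMap A (A ⊗[R] FractionRing R))).comap
        (algebraMap A (A ⊗[R] FractionRing R)) = p :=
      IsLocalization.under_map_of_isPrime_disjoint
        (Algebra.algebraMapSubmonoid A (nonZeroDivisors R)) _ hp hd
    refine ⟨?_, hcm⟩
    have hP' : (p.map (algebraMap A (A ⊗[R] FractionRing R))).IsPrime :=
      IsLocalization.isPrime_of_isPrime_disjoint
        (Algebra.algebraMapSubmonoid A (nonZeroDivisors R)) _ p hp hd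
    obtain ⟨𝔫, h𝔫max, h𝔫le⟩ := Ideal.exists_le_maximal _ hP'.ne_top
    haveI := h𝔫max
    have hqp : (𝔫.comap (algebraMap A (A ⊗[R] FractionRing R))).IsPrime :=
      Ideal.comap_isPrime _ _
    have hpq : p ≤ 𝔫.comap (algebraMap A (A ⊗[R] FractionRing R)) := by
      rw [← hcm]; exact Ideal.comap_mono h𝔫le
    have htq : algebraMap R A t ∉ 𝔫.comap (algebraMap A (A ⊗[R] FractionRing R)) :=
      hnt 𝔫 h𝔫max.ne_top
    have hqeq : 𝔫.comap (algebraMap A (A ⊗[R] FractionRing R)) = p := by
      by_contra hne
      haveI := hp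
      haveI hK1 : Ring.KrullDimLE 1 (A ⧸ p) := Ring.krullDimLE_iff.mpr (by rw [hdimp]; rfl)
      have hker : RingHom.ker (Ideal.Quotient.mk p) ≤
          𝔫.comap (algebraMap A (A ⊗[R] FractionRing R)) := by rw [Ideal.mk_ker]; exact hpq
      have hq'p : ((𝔫.comap (algebraMap A (A ⊗[R] FractionRing R))).map
          (Ideal.Quotient.mk p)).IsPrime :=
        Ideal.map_isPrime_of_surjective Ideal.Quotient.mk_surjective hker
      have hq'ne : (𝔫.comap (algebraMap A (A ⊗[R] FractionRing R))).map
          (Ideal.Quotient.mk p) ≠ ⊥ := by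
        intro h
        apply hne
        refine le_antisymm ?_ hpq
        intro a ha
        have : Ideal.Quotient.mk p a ∈ (𝔫.comap (algebraMap A (A ⊗[R] FractionRing R))).map
            (Ideal.Quotient.mk p) := Ideal.mem_map_of_mem _ ha
        rw [h, Ideal.mem_bot] at this
        exact Ideal.Quotient.eq_zero_iff_mem.mp this
      have hq'max := hq'p.isMaximal_of_ne_bot hq'ne
      haveI hc0 : IsAdicComplete (Ideal.span {t}) (A ⧸ p) :=
        AdicComplete.isAdicComplete_classV R t ht A (AdicBase.tft_of_tfp hA.1) (A ⧸ p)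
      haveI hc : IsAdicComplete ((Ideal.span {t}).map (algebraMap R (A ⧸ p))) (A ⧸ p) :=
        (IsAdicComplete.map_algebraMap_iff (Ideal.span {t}) (A ⧸ p)).mpr hc0
      have hjac : algebraMap R (A ⧸ p) t ∈ (⊥ : Ideal (A ⧸ p)).jacobson :=
        IsAdicComplete.le_jacobson_bot _
          (Ideal.mem_map_of_mem _ (Ideal.mem_span_singleton_self t))
      have hmem : algebraMap R (A ⧸ p) t ∈ (𝔫.comap (algebraMap A (A ⊗[R] FractionRing R))).map
          (Ideal.Quotient.mk p) := by
        have : (⊥ : Ideal (A ⧸ p)).jacobson ≤ (𝔫.comap (algebraMap A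
            (A ⊗[R] FractionRing R))).map (Ideal.Quotient.mk p) := sInf_le ⟨bot_le, hq'max⟩
        exact this hjac
      have h2 : algebraMap R A t ∈ ((𝔫.comap (algebraMap A (A ⊗[R] FractionRing R))).map
          (Ideal.Quotient.mk p)).comap (Ideal.Quotient.mk p) := hmem
      rw [Ideal.comap_map_of_surjective _ Ideal.Quotient.mk_surjective,
        ← RingHom.ker_eq_comap_bot, sup_eq_left.mpr hker] at h2
      exact htq h2
    have h𝔫eq : 𝔫 = p.map (algebraMap A (A ⊗[R] FractionRing R)) := by
      rw [← hqeq]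
      exact (IsLocalization.map_under (Algebra.algebraMapSubmonoid A (nonZeroDivisors R)) _ 𝔫).symm
    rw [← h𝔫eq]; exact h𝔫max
  · intro m hm
    haveI := hm
    haveI hqp : (m.comap (algebraMap A (A ⊗[R] FractionRing R))).IsPrime :=
      Ideal.comap_isPrime _ _
    have htq : algebraMap R A t ∉ m.comap (algebraMap A (A ⊗[R] FractionRing R)) :=
      hnt m hm.ne_top
    refine ⟨htq, ?_,
      IsLocalization.map_under (Algebra.algebraMapSubmonoid A (nonZeroDivisors R)) _ m⟩
    apply AdicDim.ringKrullDim_eq_one_of_div R t ht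
      (A ⧸ m.comap (algebraMap A (A ⊗[R] FractionRing R)))
    · obtain ⟨n, π, hπ, _⟩ := hA.1
      exact ⟨n, (Ideal.Quotient.mkₐ R _).comp π, (Ideal.Quotient.mkₐ_surjective R _).comp hπ⟩
    · intro h
      exact htq (Ideal.Quotient.eq_zero_iff_mem.mp h)
    · intro y hy
      obtain ⟨a, rfl⟩ := Ideal.Quotient.mk_surjective y
      have ha : a ∉ m.comap (algebraMap A (A ⊗[R] FractionRing R)) :=
        fun h => hy (Ideal.Quotient.eq_zero_iff_mem.mpr h)
      have ha' : algebraMap A (A ⊗[R] FractionRing R) a ∉ m := ha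
      obtain ⟨w, μ, hμ, hw⟩ := hm.exists_inv ha'
      obtain ⟨a₁, s₁, rfl⟩ := IsLocalization.exists_mk'_eq
        (Algebra.algebraMapSubmonoid A (nonZeroDivisors R)) w
      have h1 : algebraMap A (A ⊗[R] FractionRing R) ((s₁ : A) - a₁ * a) ∈ m := by
        have e : algebraMap A (A ⊗[R] FractionRing R) ((s₁ : A) - a₁ * a) =
            algebraMap A (A ⊗[R] FractionRing R) (s₁ : A) * μ := by
          have hw' : μ = 1 - IsLocalization.mk' (A ⊗[R] FractionRing R) a₁ s₁ *
              algebraMap A (A ⊗[R] FractionRing R) a := by rw [← hw]; ring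
          rw [hw', mul_sub, mul_one, ← mul_assoc, IsLocalization.mk'_spec', map_sub, map_mul]
        rw [e]; exact m.mul_mem_left _ hμ
      have h2 : (s₁ : A) - a₁ * a ∈ m.comap (algebraMap A (A ⊗[R] FractionRing R)) := h1
      obtain ⟨r, hr, hrs⟩ := s₁.2
      have hr0 : r ≠ 0 := nonZeroDivisors.ne_zero hr
      obtain ⟨N, e, hN⟩ := RPowKey.exists_dvd_pow t r hr0
      refine ⟨Ideal.Quotient.mk _ a₁ * algebraMap R _ e, N, ?_⟩
      have h3 : Ideal.Quotient.mk (m.comap (algebraMap A (A ⊗[R] FractionRing R))) (s₁ : A) =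
          Ideal.Quotient.mk _ a₁ * Ideal.Quotient.mk _ a := by
        rw [← map_mul, ← sub_eq_zero, ← map_sub]
        exact Ideal.Quotient.eq_zero_iff_mem.mpr h2
      have h4 : algebraMap R (A ⧸ m.comap (algebraMap A (A ⊗[R] FractionRing R))) r =
          Ideal.Quotient.mk _ (s₁ : A) := by rw [← hrs]; rfl
      rw [hN, map_mul, h4, h3]; ring

end Groth.Agent.S11543
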