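import Groth.Statements.S11544
import Groth.Agent.Lib.Helper8.HenselFactor2
import Groth.Agent.Lib.Helper3.HenselPair

set_option autoImplicit false
universe u
open AdicRing
open Polynomial IsLocalRing

namespace Groth.Agent.S11544

section ring
variable (R : Type u) [CommRing R] [IsDomain R] [ValuationRing R] [Ring.KrullDimLE 1 R]
  (t : R) (ht : t ≠ 0) [IsAdicComplete (Ideal.span {t}) R]

include ht in
theorem radical_eq : (Ideal.span {t}).radical = maximalIdeal R := by
  have hH : HenselianRing R (Ideal.span {t}) := inferInstance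
  have htm : t ∈ maximalIdeal R := by
    have := hH.jac (Ideal.subset_span (Set.mem_singleton t))
    rwa [IsLocalRing.jacobson_eq_maximalIdeal ⊥ bot_ne_top] at this
  apply le_antisymm
  · rw [(IsLocalRing.maximalIdeal.isMaximal R).isPrime.radical_le_iff,
      Ideal.span_singleton_le_iff_mem]
    exact htm
  · rw [Ideal.radical_eq_sInf]
    refine le_sInf ?_
    rintro J ⟨hJ1, hJ2⟩
    have hJne : J ≠ ⊥ := by
      rintro rfl
      exact ht (by simpa using hJ1 (Ideal.subset_span (Set.mem_singleton t)))
    have := hJ2.isMaximal_of_ne_bot hJne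
    rw [IsLocalRing.eq_maximalIdeal this]

include ht in
theorem henselian : HenselianLocalRing R := by
  have hH : HenselianRing R (Ideal.span {t}) := inferInstance
  have hH2 := Groth.Agent.Lib.Helper3.henselianRing_radical hH
  rw [radical_eq R t ht] at hH2
  exact
    { toIsLocalRing := inferInstance
      is_henselian := fun f hf a₀ h₁ h₂ =>
        hH2.is_henselian f hf a₀ h₁ (h₂.map (Ideal.Quotient.mk _)) }

omit [Ring.KrullDimLE 1 R] in
theorem exists_dvd_all (s : Finset R) (hs : s.Nonempty) : ∃ a ∈ s, ∀ b ∈ s, a ∣ b := by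
  classical
  induction s using Finset.induction_on with
  | empty => exact absurd hs (by simp)
  | insert x s hx ih =>
    by_cases hs' : s.Nonempty
    · obtain ⟨a, ha, hab⟩ := ih hs'
      rcases ValuationRing.dvd_total a x with h | h
      · exact ⟨a, Finset.mem_insert_of_mem ha, fun b hb => by
          rcases Finset.mem_insert.mp hb with rfl | hb
          · exact h
          · exact hab b hb⟩
      · exact ⟨x, Finset.mem_insert_self _ _, fun b hb => by
          rcases Finset.mem_insert.mp hb with rfl | hb
          · exact dvd_rfl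
          · exact h.trans (hab b hb)⟩
    · rw [Finset.not_nonempty_iff_eq_empty] at hs'
      subst hs'
      exact ⟨x, by simp, fun b hb => by simp at hb; rw [hb]⟩

omit [Ring.KrullDimLE 1 R] in
theorem exists_primitive (K : Type u) [Field K] [Algebra R K] [IsFractionRing R K] (f : K[X])
    (hf : f ≠ 0) :
    ∃ (g : R[X]) (c : K), c ≠ 0 ∧ g.map (algebraMap R K) = C c * f ∧ ∃ j, g.coeff j = 1 := by
  classical
  obtain ⟨b, hb, hbf⟩ := IsLocalization.integerNormalization_spec (nonZeroDivisors R) f
  set g₁ := IsLocalization.integerNormalization (nonZeroDivisors R) f with hg₁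
  have hb0 : algebraMap R K b ≠ 0 := IsFractionRing.to_map_ne_zero_of_mem_nonZeroDivisors hb
  have hbf' : g₁.map (algebraMap R K) = C (algebraMap R K b) * f := by
    rw [hbf, Algebra.smul_def, Polynomial.algebraMap_apply]
  have hg₁0 : g₁ ≠ 0 := by
    intro h
    rw [h, Polynomial.map_zero] at hbf'
    exact (mul_ne_zero (C_ne_zero.mpr hb0) hf) hbf'.symm
  have hsupp : g₁.support.Nonempty := by
    rw [Finset.nonempty_iff_ne_empty, ne_eq, Polynomial.support_eq_empty]
    exact hg₁0
  obtain ⟨r, hr, hdiv⟩ := exists_dvd_all R (g₁.support.image g₁.coeff) (hsupp.image _)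
  obtain ⟨j, hj, rfl⟩ := Finset.mem_image.mp hr
  have hr0 : g₁.coeff j ≠ 0 := Polynomial.mem_support_iff.mp hj
  have hall : ∀ i, g₁.coeff j ∣ g₁.coeff i := by
    intro i
    by_cases hi : i ∈ g₁.support
    · exact hdiv _ (Finset.mem_image_of_mem _ hi)
    · rw [Polynomial.notMem_support_iff.mp hi]; exact dvd_zero _
  obtain ⟨g, hg⟩ := (Polynomial.C_dvd_iff_dvd_coeff _ _).mpr hall
  have hgj : g.coeff j = 1 := by
    have h1 : g₁.coeff j = g₁.coeff j * g.coeff j := by
      conv_lhs => rw [hg, Polynomial.coeff_C_mul]
    exact (mul_eq_left₀ hr0).mp h1.symm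
  have hr0' : algebraMap R K (g₁.coeff j) ≠ 0 := by
    intro h
    exact hr0 ((IsFractionRing.injective R K) (by rw [h, map_zero]))
  refine ⟨g, algebraMap R K b / algebraMap R K (g₁.coeff j), div_ne_zero hb0 hr0', ?_, j, hgj⟩
  have h2 : C (algebraMap R K (g₁.coeff j)) * g.map (algebraMap R K) =
      g₁.map (algebraMap R K) := by
    conv_rhs => rw [hg, Polynomial.map_mul, Polynomial.map_C]
  apply mul_left_cancel₀ (C_ne_zero.mpr hr0')
  rw [h2, hbf', ← mul_assoc, ← C_mul, mul_div_cancel₀ _ hr0']

end ring

/-- Let R be a complete valuation ring of height one with t a nonzero element generating an ideal of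
definition, K its field of fractions, L an algebraic extension field of K and α an element of L.
Then α is integral over R if and only if the norm of α from K(α) down to K lies in R. -/
theorem result
    (R : Type u) [CommRing R] [IsDomain R] [ValuationRing R] [Ring.KrullDimLE 1 R]
    (t : R) (ht : t ≠ 0) [IsAdicComplete (Ideal.span {t}) R]
    (L : Type u) [Field L] [Algebra R L] [Algebra (FractionRing R) L]
    [IsScalarTower R (FractionRing R) L] [Algebra.IsAlgebraic (FractionRing R) L] (α : L) :
    IsIntegral R α ↔
      Algebra.norm (FractionRing R) (IntermediateField.AdjoinSimple.gen (FractionRing R) α) ∈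
        (algebraMap R (FractionRing R)).range := by
  classical
  set K := FractionRing R with hK
  have hα : IsIntegral K α := (Algebra.IsAlgebraic.isAlgebraic α).isIntegral
  set f := minpoly K α with hfdef
  have hmonic : f.Monic := minpoly.monic hα
  have hirr : Irreducible f := minpoly.irreducible hα
  set n := f.natDegree with hn
  have hN : Algebra.norm K (IntermediateField.AdjoinSimple.gen K α) =
      (-1) ^ n * f.coeff 0 := by
    have := Algebra.PowerBasis.norm_gen_eq_coeff_zero_minpoly
      (IntermediateField.adjoin.powerBasis hα)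
    rw [IntermediateField.adjoin.powerBasis_gen, IntermediateField.adjoin.powerBasis_dim,
      IntermediateField.minpoly_gen] at this
    exact this
  have hsq : ((-1 : K) ^ n) * ((-1) ^ n) = 1 := by
    rw [← mul_pow, neg_mul_neg, one_mul, one_pow]
  have hiff : Algebra.norm K (IntermediateField.AdjoinSimple.gen K α) ∈
      (algebraMap R K).range ↔ f.coeff 0 ∈ (algebraMap R K).range := by
    constructor
    · rintro ⟨a, ha⟩
      refine ⟨(-1) ^ n * a, ?_⟩
      rw [map_mul, map_pow, map_neg, map_one, ha, hN, ← mul_assoc, hsq, one_mul]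
    · rintro ⟨a, ha⟩
      refine ⟨(-1) ^ n * a, ?_⟩
      rw [map_mul, map_pow, map_neg, map_one, ha, hN]
  rw [hiff]
  constructor
  · intro hint
    have := minpoly.isIntegrallyClosed_eq_field_fractions' K hint
    refine ⟨(minpoly R α).coeff 0, ?_⟩
    rw [hfdef, this, Polynomial.coeff_map]
  · rintro ⟨a0, ha0⟩
    obtain ⟨g, c, hc0, hgmap, j, hj⟩ := exists_primitive R K f (minpoly.ne_zero hα)
    have hinj : Function.Injective (algebraMap R K) := IsFractionRing.injective R K
    have hgdeg : g.natDegree = n := by
      rw [← Polynomial.natDegree_map_eq_of_injective hinj g, hgmap, Polynomial.natDegree_C_mul hc0]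
    have hcn : algebraMap R K (g.coeff n) = c := by
      rw [← Polynomial.coeff_map, hgmap, Polynomial.coeff_C_mul, hn, hmonic.coeff_natDegree,
        mul_one]
    have hg0 : g.coeff 0 = g.coeff n * a0 := by
      apply hinj
      rw [← Polynomial.coeff_map, hgmap, Polynomial.coeff_C_mul, map_mul, hcn, ha0]
    by_cases hunit : IsUnit (g.coeff n)
    · obtain ⟨u, hu⟩ := hunit
      refine ⟨C (↑u⁻¹ : R) * g, ?_, ?_⟩
      · apply Polynomial.monic_of_natDegree_le_of_coeff_eq_one n
        · exact (Polynomial.natDegree_C_mul_le _ _).trans hgdeg.le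
        · rw [Polynomial.coeff_C_mul, ← hu, Units.inv_mul]
      · have hmap : (C (↑u⁻¹ : R) * g).map (algebraMap R K) = f := by
          rw [Polynomial.map_mul, Polynomial.map_C, hgmap, ← mul_assoc, ← C_mul, ← hcn, ← hu,
            ← map_mul, Units.inv_mul, map_one, C_1, one_mul]
        rw [IsScalarTower.algebraMap_eq R K L, ← Polynomial.eval₂_map, hmap]
        exact minpoly.aeval K α
    · exfalso
      have hcm : g.coeff n ∈ maximalIdeal R := (IsLocalRing.mem_maximalIdeal _).mpr hunit
      haveI : HenselianLocalRing R := henselian R t ht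
      set gb := g.map (residue R) with hgb
      have hgb0 : gb ≠ 0 := by
        intro h
        have : gb.coeff j = 0 := by rw [h, Polynomial.coeff_zero]
        rw [hgb, Polynomial.coeff_map, hj, map_one] at this
        exact one_ne_zero this
      have hgbc0 : gb.coeff 0 = 0 := by
        rw [hgb, Polynomial.coeff_map, hg0]
        exact (IsLocalRing.residue_eq_zero_iff _).mpr (Ideal.mul_mem_right _ _ hcm)
      have hgbcn : gb.coeff n = 0 := by
        rw [hgb, Polynomial.coeff_map]
        exact (IsLocalRing.residue_eq_zero_iff _).mpr hcm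
      have hdlt : gb.natDegree < n := by
        have hle : gb.natDegree ≤ n := (Polynomial.natDegree_map_le).trans hgdeg.le
        rcases lt_or_eq_of_le hle with h | h
        · exact h
        · exfalso
          apply hgb0
          rw [← Polynomial.leadingCoeff_eq_zero, Polynomial.leadingCoeff, h]
          exact hgbcn
      have hdpos : 1 ≤ gb.natDegree := by
        by_contra h
        have h0 : gb.natDegree = 0 := by omega
        apply hgb0
        rw [Polynomial.eq_C_of_natDegree_eq_zero h0, hgbc0, C_0]
      set u := gb.leadingCoeff with hu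
      have hu0 : u ≠ 0 := Polynomial.leadingCoeff_ne_zero.mpr hgb0
      have hmon0 : (C u⁻¹ * gb).Monic :=
        Polynomial.monic_C_mul_of_mul_leadingCoeff_eq_one (inv_mul_cancel₀ hu0)
      have hcop : IsCoprime (C u⁻¹ * gb) (C u) :=
        ⟨0, C u⁻¹, by rw [zero_mul, zero_add, ← C_mul, inv_mul_cancel₀ hu0, C_1]⟩
      have hfac : g.map (residue R) = (C u⁻¹ * gb) * C u := by
        rw [mul_comm, ← mul_assoc, ← C_mul, mul_inv_cancel₀ hu0, C_1, one_mul]
      obtain ⟨G, H, hGH, hGm, hG0, hH0⟩ :=
        Groth.Agent.Lib.Helper8.factor_lift_of_henselian R g _ _ hmon0 hcop hfac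
      have hGdeg : G.natDegree = gb.natDegree := by
        rw [← hGm.natDegree_map (residue R), hG0, Polynomial.natDegree_C_mul (inv_ne_zero hu0)]
      set Gk := G.map (algebraMap R K) with hGk
      set Hk := H.map (algebraMap R K) with hHk
      have hGkm : Gk.Monic := hGm.map _
      have hGkdeg : Gk.natDegree = gb.natDegree := by
        rw [hGk, hGm.natDegree_map, hGdeg]
      have h1 : C c * f = Gk * Hk := by rw [← hgmap, hGH, Polynomial.map_mul]
      have hfeq : f = Gk * (C c⁻¹ * Hk) := by
        calc f = C c⁻¹ * (C c * f) := by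
              rw [← mul_assoc, ← C_mul, inv_mul_cancel₀ hc0, C_1, one_mul]
          _ = Gk * (C c⁻¹ * Hk) := by rw [h1]; ring
      rcases hirr.isUnit_or_isUnit hfeq with hu1 | hu2
      · have := Polynomial.natDegree_eq_zero_of_isUnit hu1
        omega
      · have hd0 := Polynomial.natDegree_eq_zero_of_isUnit hu2
        have hq0 : (C c⁻¹ * Hk) ≠ 0 := hu2.ne_zero
        have hdeg : f.natDegree = Gk.natDegree + (C c⁻¹ * Hk).natDegree := by
          conv_lhs => rw [hfeq]
          exact hGkm.natDegree_mul' hq0
        omega

end Groth.Agent.S11544
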