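import Groth.Statements.S11545
import Groth.Agent.Lib.Helper14.AdicLift

set_option autoImplicit false
universe u
open AdicRing

namespace Groth.Agent.S11545

/-- Let R be a base ring of class (N) or (V) for the ideal I, A an admissible R-algebra, f_0, ..., f_r
elements generating an open ideal 𝔞 of A, and A_i = C_i/(f_i-power torsion) the i-th chart algebra
of the formal blowing-up of 𝔞. Let B be an R-algebra complete and separated for the I-adic topology
and φ : A → B an R-algebra homomorphism such that the ideal 𝔞B is generated by φ(f_i), a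
non-zero-divisor of B. Then there is exactly one R-algebra homomorphism A_i → B whose composite with
A → A_i is φ. -/
theorem result
    (R : Type u) [CommRing R] (I : Ideal R) (hR : AdicRing.IsBase R I)
    (A : Type u) [CommRing A] [Algebra R A] (hA : AdicRing.Admissible R I A)
    (r : ℕ) (f : Fin (r + 1) → A) (k : ℕ)
    (hopen : (I ^ k).map (algebraMap R A) ≤ Ideal.span (Set.range f)) (i : Fin (r + 1))
    (B : Type u) [CommRing B] [Algebra R B] [IsAdicComplete (I.map (algebraMap R B)) B]
    (φ : A →ₐ[R] B) (hnzd : φ (f i) ∈ nonZeroDivisors B)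
    (hgen : (Ideal.span (Set.range f)).map φ = Ideal.span {φ (f i)}) :
    ∃! ψ : AdicRing.chartAdm I f i →ₐ[R] B,
      ψ.comp (IsScalarTower.toAlgHom R A (AdicRing.chartAdm I f i)) = φ := by
  classical
  -- abbreviations
  have hIfg : I.FG := by
    rcases hR.2 with h | h
    · haveI := h.1; exact IsNoetherian.noetherian I
    · obtain ⟨t, _, rfl⟩ := h.2.2.2
      exact ⟨{t}, by simp⟩
  letI algAB : Algebra A B := φ.toRingHom.toAlgebra
  haveI : IsScalarTower R A B := IsScalarTower.of_algebraMap_eq (fun r => (φ.commutes r).symm)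
  have hφ : ∀ a : A, algebraMap A B a = φ a := fun a => rfl
  -- the quotients b_j
  have hb : ∀ j : {j : Fin (r + 1) // j ≠ i}, ∃ b : B, φ (f j.1) = φ (f i) * b := by
    intro j
    have : φ (f j.1) ∈ (Ideal.span (Set.range f)).map φ :=
      Ideal.mem_map_of_mem _ (Ideal.subset_span ⟨j.1, rfl⟩)
    rw [hgen, Ideal.mem_span_singleton'] at this
    obtain ⟨b, hb⟩ := this
    exact ⟨b, by rw [← hb, mul_comm]⟩
  choose b hb using hb
  -- the map on the chart algebra
  let g₀ : MvPolynomial {j : Fin (r + 1) // j ≠ i} A →ₐ[A] B := MvPolynomial.aeval b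
  have hg₀ : ∀ x ∈ Ideal.span (Set.range fun j : {j : Fin (r + 1) // j ≠ i} =>
      (MvPolynomial.C (f i) * MvPolynomial.X j - MvPolynomial.C (f j.1) :
        MvPolynomial {j : Fin (r + 1) // j ≠ i} A)), g₀ x = 0 := by
    intro x hx
    have : Ideal.span (Set.range fun j : {j : Fin (r + 1) // j ≠ i} =>
      (MvPolynomial.C (f i) * MvPolynomial.X j - MvPolynomial.C (f j.1) :
        MvPolynomial {j : Fin (r + 1) // j ≠ i} A)) ≤ RingHom.ker g₀.toRingHom := by
      rw [Ideal.span_le]
      rintro _ ⟨j, rfl⟩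
      show g₀ _ = 0
      simp only [g₀, map_sub, map_mul, MvPolynomial.aeval_C, MvPolynomial.aeval_X, hφ]
      rw [hb j, sub_self]
    exact this hx
  let g₁ : AdicRing.chartAlg f i →ₐ[A] B := Ideal.Quotient.liftₐ _ g₀ hg₀
  let g : AdicRing.chartAlg f i →ₐ[R] B := g₁.restrictScalars R
  let J : Ideal (AdicRing.chartAlg f i) := I.map (algebraMap R (AdicRing.chartAlg f i))
  let K : Ideal B := I.map (algebraMap R B)
  have hgJ : J ≤ K.comap g := by
    rw [Ideal.map_le_iff_le_comap]
    intro x hx
    rw [Ideal.mem_comap, Ideal.mem_comap, AlgHom.commutes]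
    exact Ideal.mem_map_of_mem _ hx
  have hJfg : J.FG := hIfg.map _
  let ψ₀ : AdicRing.chartCompl I f i →ₐ[R] B := Groth.Agent.Lib.Helper14.AdicLift.lift J K g hgJ
  have hψ₀ : ∀ c, ψ₀ (AdicCompletion.of J _ c) = g c :=
    Groth.Agent.Lib.Helper14.AdicLift.lift_of J K g hgJ
  have hψ₀A : ∀ a : A, ψ₀ (algebraMap A (AdicRing.chartCompl I f i) a) = φ a := by
    intro a
    rw [AdicCompletion.algebraMap_apply, hψ₀]
    show g₁ (algebraMap A _ a) = φ a
    rw [AlgHom.commutes, hφ]
  -- kills the torsion
  have hkill : ∀ x ∈ (⨆ n : ℕ, Submodule.torsionBy (AdicRing.chartCompl I f i)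
      (AdicRing.chartCompl I f i)
      (algebraMap A (AdicRing.chartCompl I f i) (f i) ^ n) : Ideal (AdicRing.chartCompl I f i)),
      ψ₀ x = 0 := by
    intro x hx
    have : (⨆ n : ℕ, Submodule.torsionBy (AdicRing.chartCompl I f i)
      (AdicRing.chartCompl I f i)
      (algebraMap A (AdicRing.chartCompl I f i) (f i) ^ n) : Ideal (AdicRing.chartCompl I f i)) ≤
        RingHom.ker ψ₀.toRingHom := by
      apply iSup_le
      intro n y hy
      rw [Submodule.mem_torsionBy_iff, smul_eq_mul] at hy
      have h2 : ψ₀ (algebraMap A (AdicRing.chartCompl I f i) (f i) ^ n * y) = 0 := by rw [hy, map_zero]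
      rw [map_mul, map_pow, hψ₀A, mul_comm] at h2
      exact (pow_mem hnzd n).2 _ h2
    exact this hx
  let ψ : AdicRing.chartAdm I f i →ₐ[R] B := Ideal.Quotient.liftₐ _ ψ₀ hkill
  refine ⟨ψ, ?_, ?_⟩
  · ext a
    show ψ (algebraMap A (AdicRing.chartAdm I f i) a) = φ a
    rw [IsScalarTower.algebraMap_apply A (AdicRing.chartCompl I f i) (AdicRing.chartAdm I f i)]
    show ψ (Ideal.Quotient.mk _ _) = _
    rw [Ideal.Quotient.liftₐ_apply, Ideal.Quotient.lift_mk]
    exact hψ₀A a
  · intro ψ' hψ'
    -- reduce to the completion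
    let ψ₁ : AdicRing.chartCompl I f i →ₐ[R] B := ψ'.comp (Ideal.Quotient.mkₐ R _)
    have hψ₁A : ∀ a : A, ψ₁ (algebraMap A (AdicRing.chartCompl I f i) a) = φ a := by
      intro a
      have := congrArg (fun h => h a) hψ'
      simp only [AlgHom.comp_apply] at this
      rw [← this]
      show ψ' (Ideal.Quotient.mk _ _) = ψ' (algebraMap A (AdicRing.chartAdm I f i) a)
      rw [IsScalarTower.algebraMap_apply A (AdicRing.chartCompl I f i) (AdicRing.chartAdm I f i)]
      rfl
    have hof : ∀ c, ψ₁ (AdicCompletion.of J _ c) = ψ₀ (AdicCompletion.of J _ c) := by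
      -- compare the two ring homs on the chart algebra
      have hrh : (ψ₁.toRingHom.comp (algebraMap (AdicRing.chartAlg f i) (AdicRing.chartCompl I f i))) =
          (ψ₀.toRingHom.comp (algebraMap (AdicRing.chartAlg f i) (AdicRing.chartCompl I f i))) := by
        apply Ideal.Quotient.ringHom_ext
        apply MvPolynomial.ringHom_ext
        · intro a
          show ψ₁ (algebraMap A (AdicRing.chartCompl I f i) a) = ψ₀ (algebraMap A (AdicRing.chartCompl I f i) a)
          rw [hψ₁A, hψ₀A]
        · intro j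
          -- cancel φ (f i)
          set X₁ := (algebraMap (AdicRing.chartAlg f i) (AdicRing.chartCompl I f i))
            (Ideal.Quotient.mk _ (MvPolynomial.X j)) with hX₁
          have hrel : algebraMap A (AdicRing.chartCompl I f i) (f i) * X₁ =
              algebraMap A (AdicRing.chartCompl I f i) (f j.1) := by
            rw [hX₁, IsScalarTower.algebraMap_apply A (AdicRing.chartAlg f i) (AdicRing.chartCompl I f i),
              IsScalarTower.algebraMap_apply A (AdicRing.chartAlg f i) (AdicRing.chartCompl I f i) (f j.1),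
              ← map_mul]
            congr 1
            rw [IsScalarTower.algebraMap_apply A (MvPolynomial {j : Fin (r + 1) // j ≠ i} A) (AdicRing.chartAlg f i),
              IsScalarTower.algebraMap_apply A (MvPolynomial {j : Fin (r + 1) // j ≠ i} A) (AdicRing.chartAlg f i) (f j.1)]
            show Ideal.Quotient.mk _ _ * Ideal.Quotient.mk _ _ = Ideal.Quotient.mk _ _
            rw [← map_mul, ← sub_eq_zero, ← map_sub, Ideal.Quotient.eq_zero_iff_mem]
            exact Ideal.subset_span ⟨j, rfl⟩
          have e1 : φ (f i) * ψ₁ X₁ = φ (f j.1) := by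
            rw [← hψ₁A, ← map_mul, hrel, hψ₁A]
          have e0 : φ (f i) * ψ₀ X₁ = φ (f j.1) := by
            rw [← hψ₀A, ← map_mul, hrel, hψ₀A]
          show ψ₁ X₁ = ψ₀ X₁
          have : (ψ₁ X₁ - ψ₀ X₁) * φ (f i) = 0 := by
            rw [sub_mul, mul_comm, e1, mul_comm, e0, sub_self]
          exact sub_eq_zero.mp (hnzd.2 _ this)
      intro c
      exact congrArg (fun h => h c) hrh
    have h10 : ψ₁ = ψ₀ := by
      apply Groth.Agent.Lib.Helper14.AdicLift.algHom_ext_of J K hJfg
      · intro c hc
        rw [hof, hψ₀]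
        exact hgJ hc
      · exact hof
    ext x
    obtain ⟨y, rfl⟩ := Ideal.Quotient.mk_surjective x
    show ψ₁ y = ψ (Ideal.Quotient.mk _ y)
    rw [h10]
    rfl


end Groth.Agent.S11545
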