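import Groth.Statements.S11547
import Groth.Agent.Lib.Helper27.AdicFin
import Groth.Agent.Lib.Helper12.IntegralDim
import Groth.Agent.S11525
open Groth.Agent.Lib.Helper27

set_option autoImplicit false
universe u
open AdicRing

namespace Groth.Agent.S11547

/-- Let R be a complete valuation ring of height one with t a nonzero element generating an ideal of
definition, φ : A → A' a homomorphism of admissible R-algebras, and u' : A' → B' a surjective
R-algebra homomorphism onto an admissible R-algebra B' which is a local integral domain of Krull
dimension one. Then the image of A in B' is an admissible R-algebra and a local integral domain of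
Krull dimension one. -/
theorem result
    (R : Type u) [CommRing R] [IsDomain R] [ValuationRing R] [Ring.KrullDimLE 1 R]
    (t : R) (ht : t ≠ 0) [IsAdicComplete (Ideal.span {t}) R]
    (A : Type u) [CommRing A] [Algebra R A] (hA : AdicRing.Admissible R (Ideal.span {t}) A)
    (A' : Type u) [CommRing A'] [Algebra R A'] (hA' : AdicRing.Admissible R (Ideal.span {t}) A')
    (φ : A →ₐ[R] A')
    (B' : Type u) [CommRing B'] [Algebra R B'] [IsDomain B'] [IsLocalRing B']
    (hB' : AdicRing.Admissible R (Ideal.span {t}) B') (hdim : ringKrullDim B' = 1)
    (u' : A' →ₐ[R] B') (hu' : Function.Surjective u') :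
    AdicRing.Admissible R (Ideal.span {t}) ((u'.comp φ).range) ∧
      IsLocalRing ((u'.comp φ).range) ∧ ringKrullDim ((u'.comp φ).range) = 1 := by
  classical
  haveI hfin : Module.Finite R B' :=
    AdicFin.finite_of_local_dim_one R t ht B' (AdicBase.tft_of_tfp hB'.1) hB'.2 hdim
  haveI : Algebra.IsIntegral R B' := inferInstance
  haveI hint : Algebra.IsIntegral (u'.comp φ).range B' := Algebra.IsIntegral.tower_top (R := R)
  have hinj : Function.Injective (algebraMap (u'.comp φ).range B') := Subtype.val_injective
  haveI hloc : IsLocalHom (algebraMap (u'.comp φ).range B') :=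
    RingHom.IsIntegral.isLocalHom (algebraMap_isIntegral_iff.mpr inferInstance) hinj
  have hR : AdicRing.IsBase R (Ideal.span {t}) :=
    ⟨inferInstance, Or.inr ⟨inferInstance, inferInstance, inferInstance, t, ht, rfl⟩⟩
  have hT : AdicRing.NoPowTorsion (Ideal.span {t}) (u'.comp φ).range := by
    intro x n h
    apply Subtype.ext
    apply hB'.2 (x : B') n
    intro a ha
    have := congrArg Subtype.val (h a ha)
    simpa using this
  have htft : AdicRing.TopFiniteType R (Ideal.span {t}) (u'.comp φ).range := by
    obtain ⟨n, π, hπ, _⟩ := hA.1
    exact ⟨n, ((u'.comp φ).rangeRestrict).comp π,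
      (AlgHom.rangeRestrict_surjective _).comp hπ⟩
  refine ⟨⟨Groth.Agent.S11525.result R _ hR _ htft hT, hT⟩, ?_, ?_⟩
  · exact (algebraMap (u'.comp φ).range B').domain_isLocalRing
  · rw [← hdim]
    exact le_antisymm (Groth.Agent.Lib.Helper12.ringKrullDim_le_of_isIntegral_of_injective hinj)
      Groth.Agent.Lib.Helper12.ringKrullDim_le_of_isIntegral

end Groth.Agent.S11547
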