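import Groth.Statements.S11548
import Groth.Agent.Lib.Helper27.AdicPoint
import Groth.Agent.Lib.Helper12.IntegralDim
open Groth.Agent.Lib.Helper27

set_option autoImplicit false
universe u
open AdicRing

namespace Groth.Agent.S11548

/-- Let R be a complete valuation ring of height one with t a nonzero element generating an ideal of
definition, and m a maximal ideal of R⟨ζ_1, ..., ζ_n⟩ containing t (a closed point of the special
fibre). Then there is a prime ideal p contained in m and not containing t such that R⟨ζ_1, ...,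
ζ_n⟩/p has Krull dimension one. (This is the affine content of the surjectivity of the
specialization map onto closed points, for the formal affine space.) -/
theorem result
    (R : Type u) [CommRing R] [IsDomain R] [ValuationRing R] [Ring.KrullDimLE 1 R]
    (t : R) (ht : t ≠ 0) [IsAdicComplete (Ideal.span {t}) R]
    (n : ℕ) (m : Ideal (AdicRing.RPow R (Ideal.span {t}) n)) [m.IsMaximal]
    (hm : algebraMap R (AdicRing.RPow R (Ideal.span {t}) n) t ∈ m) :
    ∃ p : Ideal (AdicRing.RPow R (Ideal.span {t}) n), p.IsPrime ∧ p ≤ m ∧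
      algebraMap R (AdicRing.RPow R (Ideal.span {t}) n) t ∉ p ∧
      ringKrullDim (AdicRing.RPow R (Ideal.span {t}) n ⧸ p) = 1 := by
  classical
  have ht_mem : t ∈ IsLocalRing.maximalIdeal R := RPowKey.mem_maximalIdeal_of_isHausdorff t
  -- 1. the residue field of `m` is integral over `R`
  have h𝔪 : IsLocalRing.maximalIdeal R ≤
      m.comap (algebraMap R (AdicRing.RPow R (Ideal.span {t}) n)) := by
    intro c hc
    obtain ⟨i, e, hi⟩ := RPowKey.exists_dvd_pow_of_mem t ht c hc
    rw [Ideal.mem_comap]
    apply (inferInstance : m.IsPrime).mem_of_pow_mem i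
    rw [← map_pow, hi, map_mul]
    exact m.mul_mem_right _ hm
  haveI : Algebra.FiniteType R (AdicRing.RPow R (Ideal.span {t}) n ⧸ m) :=
    Algebra.FiniteType.of_surjective _
      (AdicFin.aeval_mk_surjective R t (AlgHom.id R _) Function.surjective_id m hm)
  haveI : Ring.KrullDimLE 0 (AdicRing.RPow R (Ideal.span {t}) n ⧸ m) := by
    letI : Field (AdicRing.RPow R (Ideal.span {t}) n ⧸ m) := Ideal.Quotient.field m
    infer_instance
  haveI hint : Algebra.IsIntegral R (AdicRing.RPow R (Ideal.span {t}) n ⧸ m) :=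
    AdicPoint.isIntegral_quotient R _ m h𝔪
  -- 2. a finite free lift
  obtain ⟨E, hE1, hE2, hE3, hE4, x, ε, hx⟩ :=
    AdicPoint.exists_free_lift R (AdicRing.RPow R (Ideal.span {t}) n ⧸ m) n
      (fun i => Ideal.Quotient.mk m (algebraMap (MvPolynomial (Fin n) R) _ (MvPolynomial.X i)))
      (fun i => Algebra.IsIntegral.isIntegral _)
  haveI hcE : IsAdicComplete (Ideal.span {t}) E := AdicPoint.isAdicComplete_of_finite_free R t E
  haveI : IsAdicComplete ((Ideal.span {t}).map (algebraMap R E)) E :=
    (IsAdicComplete.map_algebraMap_iff (Ideal.span {t}) E).mpr hcE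
  let χ := RPowLift.liftX R (Ideal.span {t}) E x
  -- 3. `ε ∘ χ` is the quotient map
  have hεχ : ∀ y, ε (χ y) = Ideal.Quotient.mk m y := by
    intro y
    obtain ⟨p, y', rfl⟩ := RPowKey.dense_rpow R t n y
    have ht0 : ∀ w : AdicRing.RPow R (Ideal.span {t}) n ⧸ m, t • w = 0 := by
      intro w
      rw [Algebra.smul_def]
      have : algebraMap R (AdicRing.RPow R (Ideal.span {t}) n ⧸ m) t = 0 :=
        Ideal.Quotient.eq_zero_iff_mem.mpr hm
      rw [this, zero_mul]
    have h1 : Ideal.Quotient.mk m (t • y') = t • Ideal.Quotient.mk m y' := rfl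
    rw [map_add, map_add, map_smul, map_smul, RPowLift.liftX_of, map_add, h1, ht0, ht0, add_zero,
      add_zero]
    have h2 := AlgHom.congr_fun (MvPolynomial.comp_aeval x ε) p
    have h3 := AlgHom.congr_fun (MvPolynomial.aeval_unique ((Ideal.Quotient.mkₐ R m).comp
      (IsScalarTower.toAlgHom R (MvPolynomial (Fin n) R) (AdicRing.RPow R (Ideal.span {t}) n)))) p
    refine (h2.trans ?_).trans h3.symm
    congr 2
    funext i
    exact hx i
  -- 4. a prime of `E` inside the kernel of `ε`, not containing `t`
  let M : Ideal E := RingHom.ker ε.toRingHom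
  haveI hMp : M.IsPrime := RingHom.ker_isPrime _
  let S : Submonoid E := M.primeCompl ⊔ Submonoid.powers (algebraMap R E t)
  have hS0 : Disjoint ((⊥ : Ideal E) : Set E) S := by
    rw [Set.disjoint_left]
    intro a ha haS
    rw [SetLike.mem_coe, Ideal.mem_bot] at ha
    subst ha
    obtain ⟨y, hy, z, ⟨j, rfl⟩, hyz⟩ := Submonoid.mem_sup.mp haS
    have : y = 0 := by
      have h1 : (t ^ j) • y = 0 := by rw [Algebra.smul_def, map_pow, mul_comm]; exact hyz
      exact (smul_eq_zero.mp h1).resolve_left (pow_ne_zero j ht)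
    exact hy (this ▸ M.zero_mem)
  obtain ⟨p', hp'p, -, hp'S⟩ := Ideal.exists_le_prime_disjoint ⊥ S hS0
  have hp'M : p' ≤ M := by
    intro a ha
    by_contra hna
    exact Set.disjoint_left.mp hp'S ha (Submonoid.mem_sup_left hna)
  have htp' : algebraMap R E t ∉ p' := fun h =>
    Set.disjoint_left.mp hp'S h (Submonoid.mem_sup_right (Submonoid.mem_powers _))
  refine ⟨p'.comap χ.toRingHom, Ideal.comap_isPrime _ _, ?_, ?_, ?_⟩
  · intro y hy
    have h1 : χ y ∈ M := hp'M hy
    have h2 : ε (χ y) = 0 := h1
    rw [hεχ] at h2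
    exact Ideal.Quotient.eq_zero_iff_mem.mp h2
  · intro h
    apply htp'
    have h1 : χ (algebraMap R _ t) = algebraMap R E t := χ.commutes t
    rw [← h1]; exact h
  · -- dimension
    haveI : Algebra.IsIntegral R (E ⧸ p') := inferInstance
    let ι : (AdicRing.RPow R (Ideal.span {t}) n ⧸ p'.comap χ.toRingHom) →ₐ[R] E ⧸ p' :=
      Ideal.quotientMapₐ p' χ le_rfl
    have hι : Function.Injective ι := Ideal.quotientMap_injective
    haveI : Algebra.IsIntegral R (AdicRing.RPow R (Ideal.span {t}) n ⧸ p'.comap χ.toRingHom) :=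
      Algebra.IsIntegral.of_injective ι hι
    have hinj : Function.Injective
        (algebraMap R (AdicRing.RPow R (Ideal.span {t}) n ⧸ p'.comap χ.toRingHom)) := by
      rw [injective_iff_map_eq_zero]
      intro r hr
      by_contra hr0
      have h1 : algebraMap R (AdicRing.RPow R (Ideal.span {t}) n) r ∈ p'.comap χ.toRingHom :=
        Ideal.Quotient.eq_zero_iff_mem.mp hr
      have h2 : algebraMap R E r ∈ p' := by
        have : χ (algebraMap R _ r) = algebraMap R E r := χ.commutes r
        rw [← this]; exact h1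
      obtain ⟨j, e, hj⟩ := RPowKey.exists_dvd_pow t r hr0
      apply htp'
      apply hp'p.mem_of_pow_mem j
      rw [← map_pow, hj, map_mul]
      exact p'.mul_mem_right _ h2
    rw [← AdicPoint.ringKrullDim_eq_one R t ht ht_mem]
    exact le_antisymm Groth.Agent.Lib.Helper12.ringKrullDim_le_of_isIntegral
      (Groth.Agent.Lib.Helper12.ringKrullDim_le_of_isIntegral_of_injective hinj)

end Groth.Agent.S11548
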