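import Groth.Statements.S1156
-- import your own Groth.Agent.* helpers here

set_option autoImplicit false
universe u
open scoped TensorProduct
open Desc

namespace Groth.Agent.S1156

/-- Exactness of the extended Amitsur complex in degree 0 (injectivity in degree −1 being standard). Let
R → A be faithfully flat and M an R-module. An element x of A ⊗_R M with 1 ⊗ x = (a ⊗ m ↦ a ⊗ 1 ⊗
m)(x) in A ⊗_R A ⊗_R M lies in the image of m ↦ 1 ⊗ m. -/
theorem result (R A : Type u) [CommRing R] [CommRing A] [Algebra R A] [Module.FaithfullyFlat R A]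
    (M : Type u) [AddCommGroup M] [Module R M] (x : A ⊗[R] M)
    (hx : TensorProduct.mk R A (A ⊗[R] M) 1 x = LinearMap.lTensor A (TensorProduct.mk R A M 1) x) :
    x ∈ LinearMap.range (TensorProduct.mk R A M 1) := by
  classical
  let l12 : M →ₗ[R] A ⊗[R] M := TensorProduct.mk R A M 1
  let d0 : A ⊗[R] M →ₗ[R] A ⊗[R] (A ⊗[R] M) := TensorProduct.mk R A (A ⊗[R] M) 1
  let d1 : A ⊗[R] M →ₗ[R] A ⊗[R] (A ⊗[R] M) := LinearMap.lTensor A (TensorProduct.mk R A M 1)
  -- contracting maps
  let t : ∀ (Z : Type u) [AddCommGroup Z] [Module R Z], A ⊗[R] (A ⊗[R] Z) →ₗ[R] A ⊗[R] Z :=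
    fun Z _ _ => (LinearMap.mul' R A).rTensor Z ∘ₗ (TensorProduct.assoc R A A Z).symm.toLinearMap
  have ht : ∀ (Z : Type u) [AddCommGroup Z] [Module R Z] (a b : A) (z : Z),
      t Z (a ⊗ₜ (b ⊗ₜ z)) = (a * b) ⊗ₜ z := by
    intro Z _ _ a b z
    simp [t]
  have h0 : (t (A ⊗[R] M)) ∘ₗ (d0.lTensor A) = LinearMap.id := by
    apply TensorProduct.ext'
    intro a y
    simp [d0, ht]
  have h1 : (t (A ⊗[R] M)) ∘ₗ (d1.lTensor A) = (l12.lTensor A) ∘ₗ (t M) := by
    apply TensorProduct.ext'
    intro a y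
    induction y using TensorProduct.induction_on with
    | zero => simp
    | tmul b m => simp [d1, l12, ht]
    | add y₁ y₂ h₁ h₂ => simp only [TensorProduct.tmul_add, map_add, h₁, h₂]
  have hcomp : (d0 - d1) ∘ₗ l12 = 0 := by
    ext m
    simp [d0, d1, l12]
  have hex : Function.Exact l12 (d0 - d1) := by
    apply Module.FaithfullyFlat.lTensor_reflects_exact R A
    intro y
    constructor
    · intro hy
      have hy' : d0.lTensor A y = d1.lTensor A y := by
        rw [LinearMap.lTensor_sub, LinearMap.sub_apply, sub_eq_zero] at hy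
        exact hy
      refine ⟨t M y, ?_⟩
      have e1 : l12.lTensor A (t M y) = t (A ⊗[R] M) (d1.lTensor A y) := by
        rw [← LinearMap.comp_apply, ← LinearMap.comp_apply, h1]
      have e2 : t (A ⊗[R] M) (d0.lTensor A y) = y := by
        rw [← LinearMap.comp_apply, h0]; rfl
      rw [e1, ← hy', e2]
    · rintro ⟨z, rfl⟩
      rw [← LinearMap.comp_apply, ← LinearMap.lTensor_comp, hcomp]
      simp
  have hx0 : (d0 - d1) x = 0 := by
    rw [LinearMap.sub_apply, sub_eq_zero]
    exact hx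
  obtain ⟨m, hm⟩ := (hex x).1 hx0
  exact ⟨m, hm⟩

end Groth.Agent.S1156
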