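import Groth.Statements.S1162
import Groth.Agent.Lib.Helper12.GenericPts
import Mathlib.AlgebraicGeometry.Morphisms.UniversallyInjective
import Mathlib.AlgebraicGeometry.Morphisms.UniversallyOpen
-- import your own Groth.Agent.* helpers here

set_option autoImplicit false
open CategoryTheory CategoryTheory.Limits AlgebraicGeometry Opposite
universe u
open Desc

namespace Groth.Agent.S1162


set_option backward.isDefEq.respectTransparency.types false in
set_option backward.defeqAttrib.useBackward true in
theorem eq_of_comp_eq {X Y : Scheme.{u}} (f : X ⟶ Y) {K : Type u} [Field K]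
    (g₁ g₂ : Spec (.of K) ⟶ X)
    (hg : g₁ ≫ f = g₂ ≫ f)
    (hpt : g₁ (IsLocalRing.closedPoint K) = g₂ (IsLocalRing.closedPoint K))
    (hsurj : Function.Surjective (f.residueFieldMap (g₁ (IsLocalRing.closedPoint K))).hom) :
    g₁ = g₂ := by
  obtain ⟨e, h⟩ := Scheme.SpecToEquivOfField_eq_iff.mp congr((Y.SpecToEquivOfField K) $(hg))
  apply (X.SpecToEquivOfField K).injective
  dsimp at e h
  simp only [Scheme.descResidueField_stalkClosedPointTo_comp] at e h
  rw [← f.residueFieldMap_congr'_assoc hpt, CommRingCat.hom_ext_iff] at h
  rw [Scheme.SpecToEquivOfField_eq_iff]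
  refine ⟨hpt, CommRingCat.hom_ext ?_⟩
  ext y
  obtain ⟨z, rfl⟩ := hsurj y
  exact congr($h z)

/-- the image of a generic point of an irreducible component under a generalizing map is again
such a generic point -/
theorem generic_of_generalizing {A B : Type*} [TopologicalSpace A] [TopologicalSpace B]
    [T0Space A] [QuasiSober B] {p : A → B} (hp : GeneralizingMap p) {ζ : A}
    (hζ : closure ({ζ} : Set A) ∈ irreducibleComponents A) :
    closure ({p ζ} : Set B) ∈ irreducibleComponents B := by
  apply Groth.Agent.Lib.Helper12.mem_irreducibleComponents_of_forall_specializes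
  intro x' hx'
  obtain ⟨ζ', hζ', rfl⟩ := hp hx'
  rw [Groth.Agent.Lib.Helper12.eq_of_specializes_of_mem_irreducibleComponents hζ hζ']

/-- Let f : X ⟶ Y be flat and separated. Write X⁰ for the generic points of the irreducible components
of X. If for every ξ in X⁰ the residue field extension κ(f ξ) ⊆ κ(ξ) is trivial and f is injective
on X⁰, then f is universally injective. -/
theorem result {X Y : Scheme.{u}} (f : X ⟶ Y) [Flat f] [IsSeparated f]
    (h2 : ∀ ξ : X, closure ({ξ} : Set X) ∈ irreducibleComponents (X : Type u) →
      Function.Surjective (f.residueFieldMap ξ).hom)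
    (h3 : Set.InjOn f.base {ξ : X | closure ({ξ} : Set X) ∈ irreducibleComponents (X : Type u)}) :
    UniversallyInjective f := by
  rw [UniversallyInjective.iff_diagonal, surjective_iff]
  intro z
  obtain ⟨ζ, hζ, hζz⟩ := Groth.Agent.Lib.Helper12.exists_generic_specializes z
  have hclosed : IsClosed (Set.range (pullback.diagonal f)) :=
    (pullback.diagonal f).isClosedEmbedding.isClosed_range
  refine hζz.mem_closed hclosed ?_
  -- the projections of ζ
  have h1 : closure ({pullback.fst f f ζ} : Set X) ∈ irreducibleComponents (X : Type u) :=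
    generic_of_generalizing (Flat.generalizingMap (pullback.fst f f)) hζ
  have h2' : closure ({pullback.snd f f ζ} : Set X) ∈ irreducibleComponents (X : Type u) :=
    generic_of_generalizing (Flat.generalizingMap (pullback.snd f f)) hζ
  have hcond : f (pullback.fst f f ζ) = f (pullback.snd f f ζ) := by
    rw [← Scheme.Hom.comp_apply, ← Scheme.Hom.comp_apply, pullback.condition]
  have heq : pullback.fst f f ζ = pullback.snd f f ζ := h3 h1 h2' hcond
  let φ := (pullback f f).fromSpecResidueField ζ
  have hpt1 : (φ ≫ pullback.fst f f) (IsLocalRing.closedPoint _) = pullback.fst f f ζ := by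
    rw [Scheme.Hom.comp_apply, Scheme.fromSpecResidueField_apply]
  have hpt2 : (φ ≫ pullback.snd f f) (IsLocalRing.closedPoint _) = pullback.snd f f ζ := by
    rw [Scheme.Hom.comp_apply, Scheme.fromSpecResidueField_apply]
  have hsurj : ∀ x : X, x = pullback.fst f f ζ →
      Function.Surjective (f.residueFieldMap x).hom := by
    rintro x rfl
    exact h2 _ h1
  have hφ₁ : φ ≫ pullback.fst f f = φ ≫ pullback.snd f f :=
    eq_of_comp_eq f (K := (pullback f f).residueField ζ) (φ ≫ pullback.fst f f)
      (φ ≫ pullback.snd f f)
      (by rw [Category.assoc, Category.assoc, pullback.condition])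
      ((hpt1.trans heq).trans hpt2.symm) (hsurj _ hpt1)
  have hφ₂ : φ = (φ ≫ pullback.fst f f) ≫ pullback.diagonal f := by cat_disch
  refine ⟨(φ ≫ pullback.fst f f) (IsLocalRing.closedPoint _), ?_⟩
  rw [← Scheme.Hom.comp_apply, ← hφ₂, Scheme.fromSpecResidueField_apply]

end Groth.Agent.S1162
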