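import Groth.Statements.S1163
import Groth.Agent.Lib.Helper2.FlatCancel
-- import your own Groth.Agent.* helpers here

set_option autoImplicit false
open CategoryTheory CategoryTheory.Limits AlgebraicGeometry Opposite
universe u
open Desc

namespace Groth.Agent.S1163

/-- The case P = flat, single fppf cover: Let f : X ⟶ Y and q : Y ⟶ Z be morphisms of schemes, and
suppose there is a flat, surjective morphism g : Y' ⟶ Y locally of finite presentation which factors
through f. If f ≫ q is flat, then q is flat. -/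
theorem result {X Y Z Y' : Scheme.{u}} (f : X ⟶ Y) (q : Y ⟶ Z) (g : Y' ⟶ Y) [Flat g] [Surjective g]
    [LocallyOfFinitePresentation g] (l : Y' ⟶ X) (hl : l ≫ f = g) [Flat (f ≫ q)] : Flat q := by
  subst hl
  rw [Flat.iff_flat_stalkMap]
  intro y
  obtain ⟨y', rfl⟩ := (inferInstance : Surjective (l ≫ f)).surj y
  have h1 : ((f ≫ q).stalkMap (l y')).hom.Flat := Flat.stalkMap (f ≫ q) (l y')
  have h2 : ((l ≫ f).stalkMap y').hom.FaithfullyFlat := by
    have hfl : ((l ≫ f).stalkMap y').hom.Flat := Flat.stalkMap (l ≫ f) y'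
    algebraize [((l ≫ f).stalkMap y').hom]
    have : Module.FaithfullyFlat (Y.presheaf.stalk ((l ≫ f) y')) (Y'.presheaf.stalk y') :=
      @Module.FaithfullyFlat.of_flat_of_isLocalHom _ _ _ _ _ _ _
        (Flat.stalkMap (l ≫ f) y') ((l ≫ f).toLRSHom.prop y')
    exact ‹RingHom.FaithfullyFlat _›
  rw [Scheme.Hom.stalkMap_comp] at h1 h2
  exact RingHom.Flat.of_comp_of_comp_faithfullyFlat _ _ _ h1 h2

end Groth.Agent.S1163
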