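import Groth.Statements.S12555
import Groth.Agent.Lib.Helper19.Reynolds
-- import your own Groth.Agent.* helpers here

set_option autoImplicit false
universe u
open TensorProduct
open GIT

namespace Groth.Agent.S12555

/-- Let k be a field, G = Spec A a linearly reductive affine group (A a commutative Hopf algebra whose
finite-dimensional comodules are all semisimple) and V a representation of G of any dimension (an
A-comodule). Then there is exactly one linear map E : V → V commuting with the coaction, with E ∘ E
= E, and with E x = x exactly for the invariant vectors x. -/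
theorem result (k : Type u) [Field k] (A : Type u) [CommRing A] [HopfAlgebra k A]
    (hG : HopfRep.IsLinearlyReductive k A) (V : Type u) [AddCommGroup V] [Module k V] [HopfRep.Comod k A V] :
    ∃! E : V →ₗ[k] V, Hoch.IsComodHom A E ∧ E ∘ₗ E = E ∧ ∀ x : V, E x = x ↔ x ∈ HopfRep.fixedPts k A V := by
  open Groth.Agent.Lib.Helper19.Reynolds in
  have hss : IsSemisimpleModule (opAlg k A V) V := isSemisimpleModule_opAlg hG
  open Groth.Agent.Lib.Helper19.Reynolds in
  obtain ⟨W, hc⟩ := hss.toComplementedLattice.exists_isCompl (fixedOp k A V)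
  open Groth.Agent.Lib.Helper19.Reynolds in
  let P : V →ₗ[opAlg k A V] V :=
    (fixedOp k A V).subtype ∘ₗ Submodule.linearProjOfIsCompl (fixedOp k A V) W hc
  open Groth.Agent.Lib.Helper19.Reynolds in
  have hP_fix : ∀ x ∈ fixedOp k A V, P x = x := by
    intro x hx
    show ((Submodule.linearProjOfIsCompl (fixedOp k A V) W hc x : fixedOp k A V) : V) = x
    have := Submodule.linearProjOfIsCompl_apply_left hc ⟨x, hx⟩
    exact congrArg Subtype.val this
  open Groth.Agent.Lib.Helper19.Reynolds in
  have hP_mem : ∀ x, P x ∈ fixedOp k A V := fun x =>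
    (Submodule.linearProjOfIsCompl (fixedOp k A V) W hc x).2
  refine ⟨P.restrictScalars k, ⟨?_, ?_, ?_⟩, ?_⟩
  · rw [Groth.Agent.Lib.Helper19.Reynolds.isComodHom_iff_commute]
    intro f v
    exact P.map_smul (Groth.Agent.Lib.Helper19.Reynolds.opEl f) v
  · apply LinearMap.ext
    intro x
    exact hP_fix _ (hP_mem x)
  · intro x
    constructor
    · intro hx
      have := hP_mem x
      rw [show P x = x from hx] at this
      exact this
    · intro hx
      exact hP_fix x hx
  · rintro E' ⟨h1, h2, h3⟩
    apply LinearMap.ext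
    intro x
    show E' x = P x
    let E'op := Groth.Agent.Lib.Helper19.Reynolds.toOpLin E'
      ((Groth.Agent.Lib.Helper19.Reynolds.isComodHom_iff_commute E').mp h1)
    have hE'op : ∀ y, E'op y = E' y := fun y => rfl
    have hW' : LinearMap.ker E'op ⊓ Groth.Agent.Lib.Helper19.Reynolds.fixedOp k A V = ⊥ := by
      rw [eq_bot_iff]
      rintro y ⟨hy1, hy2⟩
      have e1 : E' y = 0 := hy1
      have e2 : E' y = y := (h3 y).mpr hy2
      rw [Submodule.mem_bot, ← e2, e1]
    have hψ := Groth.Agent.Lib.Helper19.Reynolds.key (LinearMap.ker E'op) hW'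
      (P ∘ₗ (LinearMap.ker E'op).subtype) (fun u => hP_mem _)
    have hmem : x - E' x ∈ LinearMap.ker E'op := by
      rw [LinearMap.mem_ker, hE'op, map_sub]
      have : E' (E' x) = E' x := LinearMap.congr_fun h2 x
      rw [this, sub_self]
    have h0 : P (x - E' x) = 0 := LinearMap.congr_fun hψ ⟨x - E' x, hmem⟩
    have hfix : E' x ∈ Groth.Agent.Lib.Helper19.Reynolds.fixedOp k A V :=
      (h3 (E' x)).mp (LinearMap.congr_fun h2 x)
    rw [map_sub, hP_fix _ hfix] at h0
    exact (sub_eq_zero.mp h0).symm

end Groth.Agent.S12555
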