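import Groth.Statements.S1183
import Mathlib
import Groth.Agent.Lib.Helper4.FlatRing
import Groth.Agent.Lib.Helper21.RegLocD
import Groth.Agent.Lib.Helper26.RegularRing

set_option autoImplicit false
universe u
open Desc

namespace Groth.Agent.S1183

/-- Let A → B be a smooth ring map of Noetherian rings and k a natural number. If A satisfies (R_k) then
so does B; and if moreover A → B is faithfully flat and B satisfies (R_k), then A does. -/
theorem result (A B : Type u) [CommRing A] [CommRing B] [IsNoetherianRing A] [IsNoetherianRing B]
    [Algebra A B] [Algebra.Smooth A B] (k : ℕ) :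
    (LocCoh.HasRk k A → LocCoh.HasRk k B) ∧
    (Module.FaithfullyFlat A B → LocCoh.HasRk k B → LocCoh.HasRk k A) := by
  refine ⟨fun hA q _ hq => ?_, fun hff hB p _ hp => ?_⟩
  · have hle : (q.comap (algebraMap A B)).height ≤ q.height := by
      have h := (Groth.Agent.Lib.Helper4.FlatRing.exists_local_data A B q).1
      rw [h]; exact le_self_add
    exact Groth.Agent.Lib.Helper21.RegLoc.isRegularLocalRing_atPrime_of_smooth A B q
      (hA (q.comap (algebraMap A B)) (le_trans hle hq))
  · haveI := hff
    obtain ⟨Q, hQ, hQp⟩ := Ideal.exists_isPrime_liesOver_of_faithfullyFlat (B := B) p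
    have hpQ : p.map (algebraMap A B) ≤ Q := by
      rw [Ideal.map_le_iff_le_comap]; exact (hQp.over).le
    obtain ⟨P, hPmin, hPQ⟩ := Ideal.exists_minimalPrimes_le hpQ
    haveI hPprime : P.IsPrime := hPmin.1.1
    have hPover : P.comap (algebraMap A B) = p := by
      apply le_antisymm
      · calc P.comap (algebraMap A B) ≤ Q.comap (algebraMap A B) := Ideal.comap_mono hPQ
          _ = p := (hQp.over).symm
      · rw [← Ideal.map_le_iff_le_comap]; exact hPmin.1.2
    haveI : P.LiesOver p := ⟨hPover.symm⟩
    have hht : P.height ≤ p.height := by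
      have h1 := Ideal.height_le_height_add_of_liesOver p P
      have h0 : (P.map (Ideal.Quotient.mk (p.map (algebraMap A B)))).height = 0 := by
        rw [Ideal.minimalPrimes_eq_comap] at hPmin
        obtain ⟨P', hP', rfl⟩ := hPmin
        rw [Ideal.map_comap_of_surjective _ Ideal.Quotient.mk_surjective]
        haveI := hP'.1.1
        exact Ideal.height_eq_zero_iff.mpr hP'
      rwa [h0, add_zero] at h1
    haveI : IsRegularLocalRing (Localization.AtPrime P) := hB P (le_trans hht hp)
    exact Groth.Agent.Lib.Helper26.RegularRing.isRegularLocalRing_atPrime_of_flat A B p P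

end Groth.Agent.S1183
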