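import Groth.Statements.S1186
import Groth.Agent.Lib.Helper28.Pinch.MorphEt

set_option autoImplicit false
universe u
open Pi1

namespace Groth.Agent.S1186

open AlgebraicGeometry CategoryTheory CategoryTheory.Limits in
/-- Let i : Z ⟶ X be a closed immersion and j : Z ⟶ Y an integral morphism such that every fibre of j
lies in the preimage under i of some affine open of X, and let a : X ⟶ W, b : Y ⟶ W exhibit W as the
pushout of i and j in the category of schemes. If U is finite étale over X and V is finite étale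
over Y with U ×_X Z ≅ V ×_Y Z over Z, then there is a finite étale cover T of W whose restrictions
to X and to Y are isomorphic to U and to V respectively. (This is the essential-surjectivity part of
an equivalence between finite étale covers of W and the 2-fibre product of the categories of finite
étale covers of X and of Y over that of Z; only the gluing of objects is asserted, and the
compatibility of the two identifications over Z is not asserted.) -/
theorem result {Z X Y W : Scheme.{u}} (i : Z ⟶ X) [IsClosedImmersion i] (j : Z ⟶ Y) [IsIntegralHom j]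
    (h3 : ∀ y : Y, ∃ U : X.Opens, IsAffineOpen U ∧ ∀ z : Z, j.base z = y → i.base z ∈ U)
    (a : X ⟶ W) (b : Y ⟶ W) (hpo : IsPushout i j a b)
    (U : FEt.Cat X) (V : FEt.Cat Y) (e : (FEt.restrict i).obj U ≅ (FEt.restrict j).obj V) :
    ∃ T : FEt.Cat W, Nonempty ((FEt.restrict a).obj T ≅ U) ∧ Nonempty ((FEt.restrict b).obj T ≅ V) := by
  classical
  have hY : ∀ y : Y, ∃ β : Groth.Agent.Lib.Helper28.Pinch.APair i j, y ∈ β.V :=
    Groth.Agent.Lib.Helper28.Pinch.hY_of_fibre i j (fun y => by
      obtain ⟨U₀, hU₀, hz⟩ := h3 y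
      exact ⟨U₀, hU₀, fun z hz' => hz z hz'⟩)
  haveI hfU : IsFinite U.hom := U.prop.1
  haveI heU : Etale U.hom := U.prop.2
  haveI hfV : IsFinite V.hom := V.prop.1
  haveI heV : Etale V.hom := V.prop.2
  -- the gluing locus upstairs
  have hiso : IsIso e.hom.left :=
    ⟨e.inv.left, by rw [← MorphismProperty.Comma.comp_left, e.hom_inv_id]; rfl, by
      rw [← MorphismProperty.Comma.comp_left, e.inv_hom_id]; rfl⟩
  have hw0 : e.hom.left ≫ pullback.snd V.hom j = pullback.snd U.hom i :=
    MorphismProperty.Over.w e.hom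
  obtain ⟨ε, hε⟩ : ∃ ε : pullback U.hom i ⟶ pullback V.hom j, ε = e.hom.left := ⟨_, rfl⟩
  have hεsnd : ε ≫ pullback.snd V.hom j = pullback.snd U.hom i := by
    subst hε
    exact hw0
  haveI : IsIso ε := by
    subst hε
    exact hiso
  have hX : IsPullback (pullback.fst U.hom i) (pullback.snd U.hom i) U.hom i :=
    IsPullback.of_hasPullback U.hom i
  have hYp : IsPullback (ε ≫ pullback.fst V.hom j) (pullback.snd U.hom i) V.hom j :=
    IsPullback.of_iso_pullback
      ⟨by rw [Category.assoc, pullback.condition, ← Category.assoc, hεsnd]⟩ (asIso ε) rfl hεsnd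
  haveI : IsClosedImmersion (pullback.fst U.hom i) :=
    MorphismProperty.pullback_fst (P := @IsClosedImmersion) _ _ inferInstance
  have hY' := Groth.Agent.Lib.Helper28.Pinch.hY_pullback U.hom V.hom (pullback.snd U.hom i)
    hX.w hYp.w hY
  have hP' := Groth.Agent.Lib.Helper28.Pinch.Glue.isPushout hY'
  have hcomm : pullback.fst U.hom i ≫ U.hom ≫ a = (ε ≫ pullback.fst V.hom j) ≫ V.hom ≫ b := by
    rw [← Category.assoc, hX.w, ← Category.assoc (ε ≫ pullback.fst V.hom j), hYp.w,
      Category.assoc, Category.assoc, hpo.w]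
  obtain ⟨h, hh⟩ : ∃ h, h = Groth.Agent.Lib.Helper28.Pinch.Glue.desc hY' (U.hom ≫ a) (V.hom ≫ b)
    hcomm := ⟨_, rfl⟩
  have ha : Groth.Agent.Lib.Helper28.Pinch.Glue.a hY' ≫ h = U.hom ≫ a := by
    rw [hh]; exact Groth.Agent.Lib.Helper28.Pinch.Glue.a_desc hY' _ _ hcomm
  have hb : Groth.Agent.Lib.Helper28.Pinch.Glue.b hY' ≫ h = V.hom ≫ b := by
    rw [hh]; exact Groth.Agent.Lib.Helper28.Pinch.Glue.b_desc hY' _ _ hcomm
  obtain ⟨hfin, het, hpa, hpb⟩ := Groth.Agent.Lib.Helper28.Pinch.finite_etale_of_morph
    U.hom V.hom (pullback.snd U.hom i) h hX hYp hpo hY' hP' ha hb hY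
  refine ⟨MorphismProperty.Over.mk ⊤ h ⟨hfin, het⟩, ⟨?_⟩, ⟨?_⟩⟩
  · exact MorphismProperty.Over.isoMk hpa.isoPullback.symm (by
      change hpa.isoPullback.inv ≫ U.hom = pullback.snd h a
      exact hpa.isoPullback_inv_snd)
  · exact MorphismProperty.Over.isoMk hpb.isoPullback.symm (by
      change hpb.isoPullback.inv ≫ V.hom = pullback.snd h b
      exact hpb.isoPullback_inv_snd)

end Groth.Agent.S1186
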