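import Groth.Statements.S1188
import Groth.Agent.Lib.Helper2.GaloisHom2
-- import your own Groth.Agent.* helpers here

set_option autoImplicit false
universe u v w
open CategoryTheory PreGaloisCategory
open Pi1

namespace Groth.Agent.S1188

/-- Let H : C ⥤ C' be an exact functor between Galois categories and F' a fibre functor on C' such that
F' ∘ H is a fibre functor on C; write h : π_1(C', F') → π_1(C, F' ∘ H) for the induced homomorphism
of fundamental groups. Then h is injective if and only if for every connected object X' of C' there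
are an object X of C, an object Y' of C', an epimorphism Y' ⟶ X' and a monomorphism Y' ⟶ H(X). -/
theorem result {C C' : Type u} [Category.{v} C] [Category.{v} C'] [GaloisCategory C] [GaloisCategory C']
    (H : C ⥤ C') [Limits.PreservesFiniteLimits H] [Limits.PreservesFiniteColimits H]
    (F' : C' ⥤ FintypeCat.{w}) [FiberFunctor F'] [FiberFunctor (H ⋙ F')] :
    Function.Injective (Pi1X.autWhisker H F') ↔
      ∀ X' : C', IsConnected X' → ∃ (X : C) (Y' : C') (p : Y' ⟶ X') (q : Y' ⟶ H.obj X), Epi p ∧ Mono q := by
  constructor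
  · intro hinj X' hX'
    obtain ⟨a'⟩ := nonempty_fiber_of_isConnected F' X'
    have hker : (Pi1X.autWhisker H F').ker ≤ MulAction.stabilizer (Aut F') a' := by
      rw [(MonoidHom.ker_eq_bot_iff _).mpr hinj]
      exact bot_le
    obtain ⟨X, Y', i, q, hi, hY, -⟩ :=
      Groth.Agent.Lib.Helper2.GaloisHom.exists_mono_of_ker_autWhisker_le_stabilizer H F' a' hker
    exact ⟨X, Y', q, i, epi_of_nonempty_of_isConnected F' q, hi⟩
  · intro hR
    rw [injective_iff_map_eq_one]
    intro σ hσ
    have hσk : σ ∈ (Pi1X.autWhisker H F').ker := hσ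
    ext X' x
    obtain ⟨Z', j, z, hz, hZ', hj⟩ := fiber_in_connected_component F' X' x
    obtain ⟨X, Y', p, q, hp, hq⟩ := hR Z' hZ'
    obtain ⟨y, hy⟩ := surjective_on_fiber_of_epi F' p z
    have hne : Nonempty (F'.obj Y') := ⟨y⟩
    have hle := Groth.Agent.Lib.Helper2.GaloisHom.ker_autWhisker_le_stabilizer_of_mono H F' q p z
    have h1 : σ • z = z := hle hσk
    change σ • x = x
    rw [← hz, mulAction_naturality, h1]

end Groth.Agent.S1188
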