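import Groth.Statements.S1190
import Groth.Agent.Lib.Helper2.GaloisHom2
import Groth.Agent.S1187
import Groth.Agent.S1189
-- import your own Groth.Agent.* helpers here

set_option autoImplicit false
universe u v w
open CategoryTheory PreGaloisCategory
open Pi1

namespace Groth.Agent.S1190

/-- Let H : C ⥤ C' and H' : C' ⥤ C'' be exact functors between Galois categories, F'' a fibre functor on
C'' with F'' ∘ H' and F'' ∘ H' ∘ H fibre functors, and h', h the induced homomorphisms of
fundamental groups. Then: h is surjective, h ∘ h' is trivial and the kernel of h is the closed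
normal subgroup generated by the image of h', if and only if H is fully faithful and its essential
image consists exactly of those X' in C' for which H'(X') is a finite coproduct of copies of the
final object. -/
theorem result {C C' C'' : Type u} [Category.{v} C] [Category.{v} C'] [Category.{v} C'']
    [GaloisCategory C] [GaloisCategory C'] [GaloisCategory C'']
    (H : C ⥤ C') [Limits.PreservesFiniteLimits H] [Limits.PreservesFiniteColimits H]
    (H' : C' ⥤ C'') [Limits.PreservesFiniteLimits H'] [Limits.PreservesFiniteColimits H']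
    (F'' : C'' ⥤ FintypeCat.{w}) [FiberFunctor F''] [FiberFunctor (H' ⋙ F'')] [FiberFunctor (H ⋙ (H' ⋙ F''))] :
    (Function.Surjective (Pi1X.autWhisker H (H' ⋙ F'')) ∧
      (∀ σ : Aut F'', Pi1X.autWhisker H (H' ⋙ F'') (Pi1X.autWhisker H' F'' σ) = 1) ∧
      (Pi1X.autWhisker H (H' ⋙ F'')).ker = (Subgroup.normalClosure (Set.range (Pi1X.autWhisker H' F''))).topologicalClosure) ↔
    ((H.Full ∧ H.Faithful) ∧
      ∀ X' : C', (∃ X : C, Nonempty (H.obj X ≅ X')) ↔ ∃ n : ℕ, Nonempty (H'.obj X' ≅ ∐ fun _ : Fin n => ⊤_ C'')) := by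
  have hS1187 := Groth.Agent.S1187.result H (H' ⋙ F'')
  have hS1189 := Groth.Agent.S1189.result H H' F''
  have hcoe : (Set.range (Pi1X.autWhisker H' F'') : Set (Aut (H' ⋙ F''))) =
      ((Pi1X.autWhisker H' F'').range : Set (Aut (H' ⋙ F''))) := (MonoidHom.coe_range _).symm
  constructor
  · rintro ⟨hsurj, htriv, hker⟩
    refine ⟨hS1187.mp hsurj, fun X' => ⟨?_, ?_⟩⟩
    · rintro ⟨X, ⟨e⟩⟩
      obtain ⟨n, ⟨e'⟩⟩ := hS1189.mp htriv X
      exact ⟨n, ⟨H'.mapIso e.symm ≪≫ e'⟩⟩
    · rintro ⟨n, ⟨e⟩⟩
      apply Groth.Agent.Lib.Helper2.GaloisHom.exists_iso_of_ker_trivial_of_surjective H (H' ⋙ F'') hsurj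
      -- the kernel of the action on the fibre of `X'`
      let N : Subgroup (Aut (H' ⋙ F'')) := (MulAction.toPermHom (Aut (H' ⋙ F'')) ((H' ⋙ F'').obj X')).ker
      have hN : ∀ σ : Aut (H' ⋙ F''), σ ∈ N ↔ ∀ x : (H' ⋙ F'').obj X', σ • x = x := by
        intro σ
        rw [MonoidHom.mem_ker, Equiv.ext_iff]
        exact Iff.rfl
      have hNclosed : IsClosed (N : Set (Aut (H' ⋙ F''))) := by
        have : (N : Set (Aut (H' ⋙ F''))) =
            ⋂ x : (H' ⋙ F'').obj X', (MulAction.stabilizer (Aut (H' ⋙ F'')) x : Set (Aut (H' ⋙ F''))) := by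
          ext σ
          simp only [SetLike.mem_coe, Set.mem_iInter, MulAction.mem_stabilizer_iff]
          exact hN σ
        rw [this]
        refine isClosed_iInter fun x => ?_
        exact Subgroup.isClosed_of_isOpen _ (stabilizer_isOpen (Aut (H' ⋙ F'')) x)
      have hrange : Set.range (Pi1X.autWhisker H' F'') ⊆ (N : Set (Aut (H' ⋙ F''))) := by
        rintro _ ⟨σ, rfl⟩
        rw [SetLike.mem_coe, hN]
        intro x
        exact Groth.Agent.Lib.Helper2.GaloisHom.smul_eq_of_iso_sigma_terminal F'' e σ x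
      have hle : (Pi1X.autWhisker H (H' ⋙ F'')).ker ≤ N := by
        rw [hker]
        exact Subgroup.topologicalClosure_minimal _ (Subgroup.normalClosure_le_normal hrange) hNclosed
      intro σ hσ x
      exact (hN σ).mp (hle hσ) x
  · rintro ⟨hFF, hess⟩
    have hsurj := hS1187.mpr hFF
    have htriv : ∀ σ : Aut F'', Pi1X.autWhisker H (H' ⋙ F'') (Pi1X.autWhisker H' F'' σ) = 1 :=
      hS1189.mpr fun X => (hess (H.obj X)).mp ⟨X, ⟨Iso.refl _⟩⟩
    refine ⟨hsurj, htriv, le_antisymm ?_ ?_⟩
    · intro g hg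
      by_contra hgN
      obtain ⟨U', hUo, hNU, hgU⟩ := Groth.Agent.Lib.Helper2.GaloisHom.exists_open_subgroup_not_mem
        (Subgroup.normalClosure (Set.range (Pi1X.autWhisker H' F''))).topologicalClosure
        (Subgroup.isClosed_topologicalClosure _) hgN
      obtain ⟨X', hX', a', ha'⟩ :=
        Groth.Agent.Lib.Helper2.GaloisHom.exists_isConnected_stabilizer_eq (H' ⋙ F'') U' hUo
      have h1 : Subgroup.normalClosure ((Pi1X.autWhisker H' F'').range : Set (Aut (H' ⋙ F''))) ≤
          MulAction.stabilizer (Aut (H' ⋙ F'')) a' := by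
        rw [ha', ← hcoe]
        exact (Subgroup.le_topologicalClosure _).trans hNU
      have h2 := (Groth.Agent.Lib.Helper2.GaloisHom.normalClosure_range_autWhisker_le_stabilizer_iff
        H' F'' a').mp h1
      obtain ⟨n, ⟨e⟩⟩ :=
        (Groth.Agent.Lib.Helper2.GaloisHom.trivial_iff_iso_sigma_terminal F'' (H'.obj X')).mp h2
      obtain ⟨X, ⟨ψ⟩⟩ := (hess X').mpr ⟨n, ⟨e⟩⟩
      have h3 := (Groth.Agent.Lib.Helper2.GaloisHom.mem_ker_autWhisker_iff H (H' ⋙ F'') g).mp hg X
      have h4 : g • a' = a' := by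
        have h5 : (H' ⋙ F'').map ψ.hom ((H' ⋙ F'').map ψ.inv a') = a' := by
          rw [← FintypeCat.comp_apply, ← CategoryTheory.Functor.map_comp, Iso.inv_hom_id, CategoryTheory.Functor.map_id]
          rfl
        rw [← h5, mulAction_naturality]
        congr 1
        exact h3 _
      exact hgU (ha' ▸ (show g ∈ MulAction.stabilizer (Aut (H' ⋙ F'')) a' from h4))
    · refine Subgroup.topologicalClosure_minimal _ ?_
        (Groth.Agent.Lib.Helper2.GaloisHom.isClosed_ker_autWhisker H (H' ⋙ F''))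
      refine Subgroup.normalClosure_le_normal ?_
      rintro _ ⟨σ, rfl⟩
      exact htriv σ

end Groth.Agent.S1190
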