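import Groth.Statements.S1191
import Mathlib
import Groth.Prelude.Def_FlatCA
import Groth.Agent.Lib.Helper9.FiberAss

set_option autoImplicit false
universe u
open FlatMor

namespace Groth.Agent.S1191


open TensorProduct
open Groth.Agent.Lib.Helper9.FiberAss

attribute [local instance] Algebra.TensorProduct.rightAlgebra

section
variable {R S : Type u} [CommRing R] [CommRing S] [Algebra R S]
    (p : Ideal R) [p.IsPrime] (q : Ideal S) [q.IsPrime]

lemma exists_not_mem_iota_mem (r : Ideal (p.Fiber S)) (hr : ¬ r ≤ q.map (iota p S)) :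
    ∃ s : S, s ∉ q ∧ iota p S s ∈ r := by
  obtain ⟨x, hxr, hxq⟩ := SetLike.not_le_iff_exists.mp hr
  obtain ⟨a, ha, s, hs⟩ := Ideal.Fiber.exists_smul_eq_one_tmul p x
  have hne : algebraMap R p.ResidueField a ≠ 0 := fun h0 =>
    ha ((Ideal.algebraMap_residueField_eq_zero).mp h0)
  have h1 : (((algebraMap R p.ResidueField a)⁻¹ ⊗ₜ[R] (1 : S) : p.Fiber S)) *
      ((algebraMap R p.ResidueField a) ⊗ₜ[R] (1 : S)) = 1 := by
    rw [Algebra.TensorProduct.tmul_mul_tmul, inv_mul_cancel₀ hne, mul_one]
    rfl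
  have h2 : a • x = ((algebraMap R p.ResidueField a) ⊗ₜ[R] (1 : S) : p.Fiber S) * x := by
    rw [Algebra.smul_def, Algebra.TensorProduct.algebraMap_apply]
  have h3 : iota p S s = a • x := by
    rw [hs]
    rfl
  refine ⟨s, ?_, ?_⟩
  · intro hsq
    apply hxq
    have h4 : a • x ∈ q.map (iota p S) := by
      rw [← h3]
      exact Ideal.mem_map_of_mem _ hsq
    have h5 : x = (((algebraMap R p.ResidueField a)⁻¹ ⊗ₜ[R] (1 : S) : p.Fiber S)) * (a • x) := by
      rw [h2, ← mul_assoc, h1, one_mul]
    rw [h5]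
    exact Ideal.mul_mem_left _ _ h4
  · rw [h3]
    exact Submodule.smul_of_tower_mem r a hxr

theorem aux [Algebra.FiniteType R S]
    (N : Type u) [AddCommGroup N] [Module S N] [Module.Finite S N] :
    ∃ g : S, g ∉ q ∧ ∀ r ∈ associatedPrimes (p.Fiber S) ((p.Fiber S) ⊗[S] N),
      ¬ r ≤ q.map (iota p S) → (1 : p.ResidueField) ⊗ₜ[R] g ∈ r := by
  classical
  haveI : Algebra.FiniteType p.ResidueField (p.Fiber S) := inferInstance
  haveI : IsNoetherianRing (p.Fiber S) :=
    Algebra.FiniteType.isNoetherianRing p.ResidueField (p.Fiber S)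
  haveI : Module.Finite (p.Fiber S) ((p.Fiber S) ⊗[S] N) :=
    Module.Finite.base_change S (p.Fiber S) N
  have hfin : (associatedPrimes (p.Fiber S) ((p.Fiber S) ⊗[S] N)).Finite :=
    associatedPrimes.finite _ _
  let f : Ideal (p.Fiber S) → S := fun r =>
    if h : ¬ r ≤ q.map (iota p S) then (exists_not_mem_iota_mem p q r h).choose else 1
  have hone : (1 : S) ∉ q := fun h => (inferInstance : q.IsPrime).ne_top
    ((Ideal.eq_top_iff_one q).mpr h)
  have hf1 : ∀ r, f r ∉ q := by
    intro r
    by_cases h : ¬ r ≤ q.map (iota p S)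
    · simp only [f, dif_pos h]
      exact (exists_not_mem_iota_mem p q r h).choose_spec.1
    · simp only [f, dif_neg h]
      exact hone
  have hf2 : ∀ r, ¬ r ≤ q.map (iota p S) → iota p S (f r) ∈ r := by
    intro r h
    simp only [f, dif_pos h]
    exact (exists_not_mem_iota_mem p q r h).choose_spec.2
  refine ⟨∏ r ∈ hfin.toFinset, f r, ?_, ?_⟩
  · intro h
    obtain ⟨r, _, hr⟩ := Ideal.IsPrime.prod_mem_iff.mp h
    exact hf1 r hr
  · intro r hr hrq
    have hd : f r ∣ ∏ r ∈ hfin.toFinset, f r :=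
      Finset.dvd_prod_of_mem f (hfin.mem_toFinset.mpr hr)
    obtain ⟨c, hc⟩ := hd
    have h1 : ((1 : p.ResidueField) ⊗ₜ[R] (∏ r ∈ hfin.toFinset, f r) : p.Fiber S) =
        iota p S (f r) * iota p S c := by
      rw [hc, ← map_mul]
      rfl
    rw [h1]
    exact Ideal.mul_mem_right _ _ (hf2 r hrq)
end

open TensorProduct in
/-- For a finitely presented algebra S over R, a finitely presented S-module N and a prime q of S over
p, some element of S outside q maps into every associated prime of the fibre module of N over p that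
is not contained in the extension of q to the fibre ring. -/
theorem result {R S : Type u} [CommRing R] [CommRing S] [Algebra R S] [Algebra.FinitePresentation R S]
    (N : Type u) [AddCommGroup N] [Module S N] [Module R N] [IsScalarTower R S N] [Module.FinitePresentation S N]
    (p : Ideal R) [p.IsPrime] (q : Ideal S) [q.IsPrime] [q.LiesOver p] :
    ∃ g : S, g ∉ q ∧ ∀ r ∈ associatedPrimes (p.Fiber S) (FlatCA.fiberMod p S N),
      ¬ r ≤ FlatCA.fiberIdeal p q → (1 : p.ResidueField) ⊗ₜ[R] g ∈ r := by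
  exact aux p q N

end Groth.Agent.S1191
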