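import Groth.Statements.S1193
import Mathlib
import Groth.Agent.Lib.Helper9.FiberAss

set_option autoImplicit false
universe u
open FlatMor

namespace Groth.Agent.S1193

open TensorProduct IsLocalRing Groth.Agent.Lib.Helper9.FiberAss

attribute [local instance] Algebra.TensorProduct.rightAlgebra

lemma mem_ass_def {A : Type*} [CommRing A] {M : Type*} [AddCommGroup M] [Module A M] (I : Ideal A) :
    I ∈ associatedPrimes A M ↔
      I.IsPrime ∧ ∃ x : M, I = ((⊥ : Submodule A M).colon {x}).radical :=
  Submodule.isAssociatedPrime_def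

section
variable {R S : Type u} [CommRing R] [IsLocalRing R] [CommRing S] [Algebra R S]
  (N : Type u) [AddCommGroup N] [Module S N]

lemma iota_surjective : Function.Surjective (iota (maximalIdeal R) S) := by
  intro x
  obtain ⟨r, hr, s, hs⟩ := Ideal.Fiber.exists_smul_eq_one_tmul (maximalIdeal R) x
  have hu : IsUnit r := by
    by_contra h
    exact hr ((IsLocalRing.mem_maximalIdeal r).mpr h)
  obtain ⟨u, hu'⟩ := hu.exists_left_inv
  refine ⟨u • s, ?_⟩
  show (1 : (maximalIdeal R).ResidueField) ⊗ₜ[R] (u • s) = x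
  rw [TensorProduct.tmul_smul, ← hs, ← mul_smul, hu', one_smul]

lemma colon_comap (x : (maximalIdeal R).Fiber S ⊗[S] N) :
    ((⊥ : Submodule ((maximalIdeal R).Fiber S) ((maximalIdeal R).Fiber S ⊗[S] N)).colon {x}).comap
      (iota (maximalIdeal R) S) =
      (⊥ : Submodule S ((maximalIdeal R).Fiber S ⊗[S] N)).colon {x} := by
  ext s
  rw [Ideal.mem_comap, Submodule.mem_colon_singleton, Submodule.mem_colon_singleton,
    Submodule.mem_bot, Submodule.mem_bot, smul_eq (maximalIdeal R) S N s x]

theorem mem_ass_iff (q : Ideal S) :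
    q ∈ associatedPrimes S ((maximalIdeal R).Fiber S ⊗[S] N) ↔
      ∃ Q ∈ associatedPrimes ((maximalIdeal R).Fiber S) ((maximalIdeal R).Fiber S ⊗[S] N),
        Q.comap (iota (maximalIdeal R) S) = q := by
  constructor
  · intro h
    obtain ⟨hq, x, hx⟩ := (mem_ass_def q).mp h
    have hcomap : (((⊥ : Submodule ((maximalIdeal R).Fiber S)
        ((maximalIdeal R).Fiber S ⊗[S] N)).colon {x}).radical).comap (iota (maximalIdeal R) S) = q := by
      rw [Ideal.comap_radical, colon_comap, ← hx]
    refine ⟨_, (mem_ass_def _).mpr ⟨?_, x, rfl⟩, hcomap⟩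
    have h1 : ((⊥ : Submodule ((maximalIdeal R).Fiber S)
        ((maximalIdeal R).Fiber S ⊗[S] N)).colon {x}).radical =
        q.map (iota (maximalIdeal R) S) := by
      rw [← hcomap, Ideal.map_comap_of_surjective _ iota_surjective]
    rw [h1]
    haveI := hq
    apply Ideal.map_isPrime_of_surjective iota_surjective
    intro s hs
    rw [← hcomap, Ideal.mem_comap, RingHom.mem_ker.mp hs]
    exact zero_mem _
  · rintro ⟨Q, hQ, rfl⟩
    obtain ⟨hQp, x, hx⟩ := (mem_ass_def Q).mp hQ
    haveI := hQp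
    refine (mem_ass_def _).mpr ⟨Ideal.comap_isPrime _ _, x, ?_⟩
    rw [hx, Ideal.comap_radical, colon_comap]

theorem not_mem_nzd_iff [IsNoetherianRing ((maximalIdeal R).Fiber S)] (s : S) :
    s ∉ nonZeroSMulDivisors S ((maximalIdeal R).Fiber S ⊗[S] N) ↔
      ∃ q ∈ associatedPrimes S ((maximalIdeal R).Fiber S ⊗[S] N), s ∈ q := by
  rw [mem_nonZeroSMulDivisors_iff]
  push Not
  have key := biUnion_associatedPrimes_eq_zero_divisors ((maximalIdeal R).Fiber S)
    ((maximalIdeal R).Fiber S ⊗[S] N)
  constructor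
  · rintro ⟨x, hx, hne⟩
    have h1 : iota (maximalIdeal R) S s ∈
        {r : (maximalIdeal R).Fiber S | ∃ x : (maximalIdeal R).Fiber S ⊗[S] N, x ≠ 0 ∧ r • x = 0} :=
      ⟨x, hne, by rw [← smul_eq (maximalIdeal R) S N s x]; exact hx⟩
    rw [← key] at h1
    obtain ⟨Q, hQ, hmem⟩ := Set.mem_iUnion₂.mp h1
    exact ⟨Q.comap _, (mem_ass_iff N _).mpr ⟨Q, hQ, rfl⟩, hmem⟩
  · rintro ⟨q, hq, hs⟩
    obtain ⟨Q, hQ, rfl⟩ := (mem_ass_iff N q).mp hq
    have h1 : iota (maximalIdeal R) S s ∈ ⋃ p ∈ associatedPrimes ((maximalIdeal R).Fiber S)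
        ((maximalIdeal R).Fiber S ⊗[S] N), (p : Set ((maximalIdeal R).Fiber S)) :=
      Set.mem_iUnion₂.mpr ⟨Q, hQ, hs⟩
    rw [key] at h1
    obtain ⟨x, hne, hx⟩ := h1
    exact ⟨x, by rw [smul_eq (maximalIdeal R) S N s x]; exact hx, hne⟩

theorem main [IsNoetherianRing ((maximalIdeal R).Fiber S)]
    [Module.Finite ((maximalIdeal R).Fiber S) ((maximalIdeal R).Fiber S ⊗[S] N)] :
    (∀ (q : Ideal S) [q.IsPrime],
      Disjoint (q : Set S) (nonZeroSMulDivisors S ((maximalIdeal R).Fiber S ⊗[S] N)) ↔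
        ∃ q' ∈ associatedPrimes S ((maximalIdeal R).Fiber S ⊗[S] N), q ≤ q') ∧
    {Q : Ideal (Localization (nonZeroSMulDivisors S ((maximalIdeal R).Fiber S ⊗[S] N))) |
      Q.IsMaximal}.Finite ∧
    (∀ Q : Ideal (Localization (nonZeroSMulDivisors S ((maximalIdeal R).Fiber S ⊗[S] N))),
      Q.IsMaximal ↔ (Q.IsPrime ∧
        Maximal (fun r => r ∈ associatedPrimes S ((maximalIdeal R).Fiber S ⊗[S] N))
          (Q.comap (algebraMap S
            (Localization (nonZeroSMulDivisors S ((maximalIdeal R).Fiber S ⊗[S] N))))))) := by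
  classical
  set A := associatedPrimes S ((maximalIdeal R).Fiber S ⊗[S] N) with hA
  set Sg := nonZeroSMulDivisors S ((maximalIdeal R).Fiber S ⊗[S] N) with hSg
  have hAfin : A.Finite := by
    have h0 : A = (Ideal.comap (iota (maximalIdeal R) S)) ''
        (associatedPrimes ((maximalIdeal R).Fiber S) ((maximalIdeal R).Fiber S ⊗[S] N)) := by
      ext q
      rw [hA, mem_ass_iff, Set.mem_image]
    rw [h0]
    exact (associatedPrimes.finite _ _).image _
  have hAprime : ∀ q ∈ A, q.IsPrime := fun q hq => ((mem_ass_def q).mp hq).1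
  have h1 : ∀ (q : Ideal S) [q.IsPrime], Disjoint (q : Set S) (Sg : Set S) ↔
      ∃ q' ∈ A, q ≤ q' := by
    intro q _
    have hunion : ((q : Set S) ⊆ ⋃ i ∈ (↑hAfin.toFinset : Set (Ideal S)), (i : Set S)) ↔
        ∃ i ∈ hAfin.toFinset, q ≤ i :=
      Ideal.subset_union_prime (f := id) ⊥ ⊥
        (fun i hi _ _ => hAprime i (hAfin.mem_toFinset.mp hi))
    rw [Set.disjoint_left]
    constructor
    · intro h
      have h2 : (q : Set S) ⊆ ⋃ i ∈ (↑hAfin.toFinset : Set (Ideal S)), (i : Set S) := by
        intro s hs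
        obtain ⟨q', hq', hsq'⟩ := (not_mem_nzd_iff N s).mp (h hs)
        exact Set.mem_iUnion₂.mpr ⟨q', by simpa using hq', hsq'⟩
      obtain ⟨i, hi, hle⟩ := hunion.mp h2
      exact ⟨i, hAfin.mem_toFinset.mp hi, hle⟩
    · rintro ⟨q', hq', hle⟩ s hs
      exact (not_mem_nzd_iff N s).mpr ⟨q', hq', hle hs⟩
  set T := Localization Sg with hT
  have hdisj : ∀ q' ∈ A, Disjoint (Sg : Set S) (q' : Set S) := by
    intro q' hq'
    haveI := hAprime q' hq'
    exact ((h1 q').mpr ⟨q', hq', le_rfl⟩).symm
  have hM2 : ∀ Q : Ideal T, Q.IsMaximal →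
      Maximal (fun r => r ∈ A) (Q.comap (algebraMap S T)) := by
    intro Q hQ
    have hQp : Q.IsPrime := hQ.isPrime
    obtain ⟨hqp, hqd⟩ := (IsLocalization.isPrime_iff_isPrime_disjoint Sg T Q).mp hQp
    haveI : (Q.comap (algebraMap S T)).IsPrime := hqp
    obtain ⟨q', hq', hle⟩ := (h1 (Q.comap (algebraMap S T))).mp hqd.symm
    have key : ∀ q'' ∈ A, Q.comap (algebraMap S T) ≤ q'' → Q.comap (algebraMap S T) = q'' := by
      intro q'' hq'' hle''
      have hp'' := IsLocalization.isPrime_of_isPrime_disjoint Sg T q'' (hAprime q'' hq'')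
        (hdisj q'' hq'')
      have hQle : Q ≤ q''.map (algebraMap S T) :=
        calc Q = (Q.comap (algebraMap S T)).map (algebraMap S T) :=
              (IsLocalization.map_under Sg T Q).symm
          _ ≤ q''.map (algebraMap S T) := Ideal.map_mono hle''
      have h3 := hQ.eq_of_le hp''.ne_top hQle
      have e1 : (q''.map (algebraMap S T)).comap (algebraMap S T) = q'' :=
        IsLocalization.under_map_of_isPrime_disjoint Sg T (hAprime q'' hq'') (hdisj q'' hq'')
      rw [h3, e1]
    refine ⟨?_, ?_⟩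
    · show Q.comap (algebraMap S T) ∈ A
      rw [key q' hq' hle]; exact hq'
    · intro q'' hq'' hle''
      exact (key q'' hq'' hle'').ge
  refine ⟨h1, ?_, ?_⟩
  · apply Set.Finite.of_finite_image (f := Ideal.comap (algebraMap S T))
    · apply hAfin.subset
      rintro _ ⟨Q, hQ, rfl⟩
      exact (hM2 Q hQ).prop
    · intro Q₁ _ Q₂ _ h
      have h' : Q₁.comap (algebraMap S T) = Q₂.comap (algebraMap S T) := h
      calc Q₁ = (Q₁.comap (algebraMap S T)).map (algebraMap S T) :=
            (IsLocalization.map_under Sg T Q₁).symm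
        _ = (Q₂.comap (algebraMap S T)).map (algebraMap S T) := by rw [h']
        _ = Q₂ := IsLocalization.map_under Sg T Q₂
  · intro Q
    constructor
    · intro hQ; exact ⟨hQ.isPrime, hM2 Q hQ⟩
    · rintro ⟨hQp, hmax⟩
      obtain ⟨Q', hQ', hle⟩ := Ideal.exists_le_maximal Q hQp.ne_top
      have h2 := hM2 Q' hQ'
      have h3 : Q'.comap (algebraMap S T) ≤ Q.comap (algebraMap S T) :=
        hmax.2 h2.prop (Ideal.comap_mono hle)
      have h4 : Q' ≤ Q :=
        calc Q' = (Q'.comap (algebraMap S T)).map (algebraMap S T) :=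
              (IsLocalization.map_under Sg T Q').symm
          _ ≤ (Q.comap (algebraMap S T)).map (algebraMap S T) := Ideal.map_mono h3
          _ = Q := IsLocalization.map_under Sg T Q
      rw [le_antisymm hle h4]; exact hQ'

end

open IsLocalRing in
/-- Let R be a local ring, S an R-algebra whose closed fibre ring is Noetherian and N an S-module whose
closed fibre module N/𝔪N is finite. Let Σ be the set of elements of S acting injectively on N/𝔪N.
Then a prime of S is disjoint from Σ exactly when it lies inside an associated prime of N/𝔪N (the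
primes of the localization at Σ), the localization of S at Σ has finitely many maximal ideals, and
an ideal of that localization is maximal exactly when it is prime and contracts to a maximal member
of the set of associated primes of N/𝔪N. -/
theorem result {R S : Type u} [CommRing R] [IsLocalRing R] [CommRing S] [Algebra R S]
    (N : Type u) [AddCommGroup N] [Module S N] [Module R N] [IsScalarTower R S N]
    [IsNoetherianRing ((maximalIdeal R).Fiber S)]
    [Module.Finite ((maximalIdeal R).Fiber S) (FlatCA.fiberMod (maximalIdeal R) S N)] :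
    (∀ (q : Ideal S) [q.IsPrime], Disjoint (q : Set S) (FlatCA.nzdFiber R S N) ↔
        ∃ q' ∈ associatedPrimes S (FlatCA.fiberMod (maximalIdeal R) S N), q ≤ q') ∧
    {Q : Ideal (Localization (FlatCA.nzdFiber R S N)) | Q.IsMaximal}.Finite ∧
    (∀ Q : Ideal (Localization (FlatCA.nzdFiber R S N)), Q.IsMaximal ↔ (Q.IsPrime ∧
        Maximal (fun r => r ∈ associatedPrimes S (FlatCA.fiberMod (maximalIdeal R) S N))
          (Q.comap (algebraMap S (Localization (FlatCA.nzdFiber R S N)))))) := by
  haveI : Module.Finite ((maximalIdeal R).Fiber S) ((maximalIdeal R).Fiber S ⊗[S] N) :=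
    ‹Module.Finite ((maximalIdeal R).Fiber S) (FlatCA.fiberMod (maximalIdeal R) S N)›
  exact main N

end Groth.Agent.S1193
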