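import Groth.Statements.S17543
import Groth.Agent.Lib.Helper26.DecTensor

set_option autoImplicit false
universe u v w
open W4c5adicflatcompl
open CAlg

namespace Groth.Agent.S17543

/-- Over a Noetherian ring A which is I-adically complete, for a finitely generated A-module M and a set
Z, the canonical map from M ⊗ (decaying functions Z → A) to functions Z → M is injective and its
image is the module of decaying functions Z → M. -/
theorem result {A : Type u} [CommRing A] [IsNoetherianRing A] (I : Ideal A)
    [IsAdicComplete I A] (Z : Type v) (M : Type w) [AddCommGroup M] [Module A M]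
    [Module.Finite A M] :
    Function.Injective
        ((TensorProduct.piScalarRightHom A A M Z) ∘ₗ ((decaying I Z A).subtype.lTensor M)) ∧
      LinearMap.range
        ((TensorProduct.piScalarRightHom A A M Z) ∘ₗ ((decaying I Z A).subtype.lTensor M)) =
        decaying I Z M := by
  refine ⟨Lib.Helper26.DecTensor.Psi_injective I Z M, ?_⟩
  apply le_antisymm
  · rintro _ ⟨ξ, rfl⟩
    exact Lib.Helper26.DecTensor.Psi_mem_decaying I Z M ξ
  · intro h hh
    obtain ⟨ξ, hξ⟩ := Lib.Helper26.DecTensor.exists_Psi_eq I Z M h hh
    exact ⟨ξ, hξ⟩

end Groth.Agent.S17543
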