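import Groth.Statements.S2124
import Groth.Agent.S17539
import Groth.Agent.S17543
import Groth.Agent.S0545

set_option autoImplicit false
universe u
open CAlg

namespace Groth.Agent.S2124


open TensorProduct W4c5adicflatcompl

section helpers

theorem lTensor_rTensor_comm {R : Type*} [CommRing R] {C P Q₁ Q₂ : Type*} [AddCommGroup C] [Module R C]
    [AddCommGroup P] [Module R P] [AddCommGroup Q₁] [Module R Q₁] [AddCommGroup Q₂] [Module R Q₂]
    (f : C →ₗ[R] P) (ι : Q₁ →ₗ[R] Q₂) (s : Q₁ ⊗[R] C) :
    f.lTensor Q₂ (ι.rTensor C s) = ι.rTensor P (f.lTensor Q₁ s) := by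
  rw [← LinearMap.comp_apply, ← LinearMap.comp_apply, LinearMap.lTensor_comp_rTensor,
    LinearMap.rTensor_comp_lTensor]

theorem lTensor_injective_of_finite {R : Type u} [CommRing R] {C P : Type u} [AddCommGroup C] [Module R C]
    [AddCommGroup P] [Module R P] (f : C →ₗ[R] P)
    (hfin : ∀ (Q : Type u) [AddCommGroup Q] [Module R Q] [Module.Finite R Q],
      Function.Injective (f.lTensor Q))
    (Q : Type u) [AddCommGroup Q] [Module R Q] : Function.Injective (f.lTensor Q) := by
  rw [injective_iff_map_eq_zero]
  intro t ht
  obtain ⟨Q', hQ', t', rfl⟩ := Submodule.exists_fg_le_eq_rTensor_subtype (R := R) (M := C) (N := Q) t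
  rw [lTensor_rTensor_comm] at ht
  have ht' : Q'.subtype.rTensor P (f.lTensor Q' t') = Q'.subtype.rTensor P 0 := by
    rw [ht, map_zero]
  obtain ⟨Q'', hQ'', hle, heq⟩ := hQ'.exists_rTensor_fg_inclusion_eq ht'
  rw [map_zero, ← lTensor_rTensor_comm] at heq
  haveI : Module.Finite R Q'' := Module.Finite.iff_fg.2 hQ''
  have h0 : (Q'.inclusion hle).rTensor C t' = 0 := by
    apply hfin Q''
    rw [heq, map_zero]
  have hsub : Q'.subtype = Q''.subtype ∘ₗ Q'.inclusion hle := rfl
  rw [hsub, LinearMap.rTensor_comp, LinearMap.comp_apply, h0, map_zero]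

theorem univInj_of_range_decaying {R : Type u} [CommRing R] [IsNoetherianRing R] (I : Ideal R)
    [IsAdicComplete I R] (α : Type u) {C : Type u} [AddCommGroup C] [Module R C]
    (f : C →ₗ[R] (α → AdicCompletion I R)) (hinj : Function.Injective f)
    (hrange : LinearMap.range f = decaying I α (AdicCompletion I R)) :
    CAlgX.UniversallyInjective R f := by
  classical
  have hfin : ∀ (Q : Type u) [AddCommGroup Q] [Module R Q] [Module.Finite R Q],
      Function.Injective (f.lTensor Q) := by
    intro Q _ _ _
    obtain ⟨hinj43, -⟩ := Groth.Agent.S17543.result I α Q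
    have hdec : Function.Injective ((decaying I α R).subtype.lTensor Q) := by
      rw [LinearMap.coe_comp] at hinj43
      exact Function.Injective.of_comp hinj43
    let eR : AdicCompletion I R ≃ₗ[R] R :=
      (LinearEquiv.ofBijective (AdicCompletion.of I R)
        (AdicCompletion.of_bijective_iff.2 inferInstance)).symm
    let ρ : (α → AdicCompletion I R) ≃ₗ[R] (α → R) := LinearEquiv.piCongrRight (fun _ => eR)
    let F : C →ₗ[R] (α → R) := ρ.toLinearMap ∘ₗ f
    have hF : Function.Injective F := ρ.injective.comp hinj
    have hmem : ∀ (n : ℕ) (x : AdicCompletion I R),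
        x ∈ (I ^ n • ⊤ : Submodule R (AdicCompletion I R)) ↔ eR x ∈ (I ^ n • ⊤ : Submodule R R) := by
      intro n x
      constructor
      · intro hx
        exact Groth.Agent.S0545.map_mem_smul_top (I ^ n) eR.toLinearMap hx
      · intro hx
        have := Groth.Agent.S0545.map_mem_smul_top (I ^ n) eR.symm.toLinearMap hx
        simpa using this
    have hrangeF : LinearMap.range F = decaying I α R := by
      ext h
      constructor
      · rintro ⟨c, rfl⟩
        have hc : f c ∈ decaying I α (AdicCompletion I R) := by rw [← hrange]; exact ⟨c, rfl⟩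
        have : ∀ n : ℕ, {z | F c z ∉ (I ^ n • ⊤ : Submodule R R)}.Finite := by
          intro n
          refine (hc n).subset ?_
          intro z hz
          simp only [Set.mem_setOf_eq] at hz ⊢
          intro hz'
          exact hz ((hmem n _).1 hz')
        exact this
      · intro hh
        have : ρ.symm h ∈ decaying I α (AdicCompletion I R) := by
          have : ∀ n : ℕ, {z | (ρ.symm h) z ∉ (I ^ n • ⊤ : Submodule R (AdicCompletion I R))}.Finite := by
            intro n
            refine (hh n).subset ?_
            intro z hz
            simp only [Set.mem_setOf_eq] at hz ⊢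
            intro hz'
            apply hz
            refine (hmem n _).2 ?_
            have e1 : eR ((ρ.symm h) z) = h z := eR.apply_symm_apply (h z)
            rw [e1]
            exact hz'
          exact this
        rw [← hrange] at this
        obtain ⟨c, hc⟩ := this
        refine ⟨c, ?_⟩
        show ρ (f c) = h
        rw [hc, LinearEquiv.apply_symm_apply]
    let e : C ≃ₗ[R] decaying I α R :=
      (LinearEquiv.ofInjective F hF).trans (LinearEquiv.ofEq _ _ hrangeF)
    have hFe : F = (decaying I α R).subtype ∘ₗ e.toLinearMap := LinearMap.ext fun c => rfl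
    have hfF : f = ρ.symm.toLinearMap ∘ₗ F := by
      apply LinearMap.ext
      intro c
      show f c = ρ.symm (ρ (f c))
      rw [LinearEquiv.symm_apply_apply]
    rw [hfF, hFe, LinearMap.lTensor_comp, LinearMap.lTensor_comp, LinearMap.coe_comp,
      LinearMap.coe_comp]
    refine Function.Injective.comp ?_ (Function.Injective.comp hdec ?_)
    · exact (LinearEquiv.lTensor Q ρ.symm).injective
    · exact (LinearEquiv.lTensor Q e).injective
  intro Q _ _
  rw [← LinearMap.lTensor_inj_iff_rTensor_inj]
  exact lTensor_injective_of_finite f hfin Q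

end helpers

/-- Let `R` be Noetherian and `I`-adically complete and `α` any index set. The map from the `I`-adic
completion of the direct sum `⊕_α R` to the product `∏_α R^∧ = ∏_α R`, induced by the coordinate
projections, is universally injective. -/
theorem result {R : Type u} [CommRing R] [IsNoetherianRing R] (I : Ideal R)
    [IsAdicComplete I R] (α : Type u) :
    CAlgX.UniversallyInjective R
      (LinearMap.pi fun a : α => AdicCompletion.map I (Finsupp.lapply a : (α →₀ R) →ₗ[R] R) :
        AdicCompletion I (α →₀ R) →ₗ[R] (α → AdicCompletion I R)) := by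
  haveI hc0 : IsAdicComplete I (AdicCompletion I R) :=
    AdicCompletion.isAdicComplete (I := I) (M := R) (IsNoetherian.noetherian I)
  exact univInj_of_range_decaying I α _ (Groth.Agent.S17539.result I α R).1
    (Groth.Agent.S17539.result I α R).2

end Groth.Agent.S2124
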