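import Groth.Statements.S1197
import Groth.Agent.S0550
import Groth.Agent.S2124
import Groth.Agent.S0588

set_option autoImplicit false
universe u
open FlatMor

namespace Groth.Agent.S1197


open TensorProduct

section helpers
variable {R : Type u} [CommRing R]

theorem piScalarRightHom_naturality {N N' : Type u} [AddCommGroup N] [Module R N] [AddCommGroup N']
    [Module R N'] (α : Type u) (ι : N' →ₗ[R] N) (t : N' ⊗[R] (α → R)) (a : α) :
    TensorProduct.piScalarRightHom R R N α (ι.rTensor (α → R) t) a =
      ι (TensorProduct.piScalarRightHom R R N' α t a) := by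
  induction t using TensorProduct.induction_on with
  | zero => simp
  | tmul x f => simp [TensorProduct.piScalarRightHom_tmul]
  | add x y hx hy =>
    simp only [map_add, Pi.add_apply]
    rw [hx, hy]

theorem piScalarRightHom_bijective_of_fp (N : Type u) [AddCommGroup N] [Module R N]
    [Module.FinitePresentation R N] (α : Type u) :
    Function.Bijective (TensorProduct.piScalarRightHom R R N α) := by
  have h := (Groth.Agent.S0588.result R N).1 inferInstance α (fun _ => R)
  have heq : (TensorProduct.piScalarRightHom R R N α : N ⊗[R] (α → R) →ₗ[R] (α → N)) =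
      (LinearEquiv.piCongrRight (fun _ : α => TensorProduct.rid R N)).toLinearMap ∘ₗ
        (TensorProduct.piRightHom R R N (fun _ : α => R)) := by
    apply TensorProduct.ext'
    intro x f
    ext a
    simp [TensorProduct.piScalarRightHom_tmul, TensorProduct.piRightHom_tmul]
  rw [heq, LinearMap.coe_comp]
  exact (LinearEquiv.bijective _).comp h

theorem piScalarRightHom_injective [IsNoetherianRing R] (N : Type u) [AddCommGroup N] [Module R N]
    (α : Type u) : Function.Injective (TensorProduct.piScalarRightHom R R N α) := by
  rw [injective_iff_map_eq_zero]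
  intro t ht
  obtain ⟨N', hN', t', rfl⟩ :=
    Submodule.exists_fg_le_eq_rTensor_subtype (R := R) (M := (α → R)) (N := N) t
  haveI : Module.Finite R N' := Module.Finite.iff_fg.2 hN'
  haveI : Module.FinitePresentation R N' := Module.finitePresentation_of_finite R N'
  have h0 : TensorProduct.piScalarRightHom R R N' α t' = 0 := by
    funext a
    apply N'.injective_subtype
    rw [← piScalarRightHom_naturality α N'.subtype t' a, ht]
    simp
  rw [(piScalarRightHom_bijective_of_fp N' α).1 (h0.trans (map_zero _).symm), map_zero]

theorem isMittagLeffler_of_univInj [IsNoetherianRing R] {C : Type u} [AddCommGroup C] [Module R C]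
    (α : Type u) (j : C →ₗ[R] (α → R))
    (hj : ∀ (Q : Type u) [AddCommGroup Q] [Module R Q], Function.Injective (j.rTensor Q)) :
    CAlg.IsMittagLeffler R C := by
  intro ι Q _ _
  rw [injective_iff_map_eq_zero]
  intro t ht
  apply hj (∀ i, Q i)
  rw [map_zero]
  apply (TensorProduct.comm R (α → R) (∀ i, Q i)).injective
  rw [map_zero]
  apply piScalarRightHom_injective (∀ i, Q i) α
  rw [map_zero]
  funext a i
  have key : ∀ t : C ⊗[R] (∀ i, Q i),
      TensorProduct.piScalarRightHom R R (∀ i, Q i) α
        (TensorProduct.comm R (α → R) (∀ i, Q i) (j.rTensor (∀ i, Q i) t)) a i =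
      TensorProduct.piScalarRightHom R R (Q i) α
        (TensorProduct.comm R (α → R) (Q i)
          (j.rTensor (Q i) (TensorProduct.piRightHom R R C Q t i))) a := by
    intro t
    induction t using TensorProduct.induction_on with
    | zero => simp
    | tmul c q => simp [TensorProduct.piScalarRightHom_tmul, TensorProduct.piRightHom_tmul]
    | add x y hx hy =>
      simp only [map_add, Pi.add_apply]
      rw [hx, hy]
  rw [key t, ht]
  simp

end helpers

/-- Over a Noetherian ring R which is I-adically complete, the I-adic completion of a free module on an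
arbitrary index set is a flat and Mittag-Leffler R-module. (Flatness alone, without completeness of
R, is stated separately.) -/
theorem result (R : Type u) [CommRing R] [IsNoetherianRing R] (I : Ideal R) [IsAdicComplete I R] (α : Type u) :
    Module.Flat R (AdicCompletion I (α →₀ R)) ∧ CAlg.IsMittagLeffler R (AdicCompletion I (α →₀ R)) := by
  refine ⟨Groth.Agent.S0550.result R I α, ?_⟩
  obtain ⟨f, hf⟩ : ∃ f : AdicCompletion I (α →₀ R) →ₗ[R] (α → AdicCompletion I R),
      CAlgX.UniversallyInjective R f := ⟨_, Groth.Agent.S2124.result I α⟩
  let eR : AdicCompletion I R ≃ₗ[R] R :=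
    (LinearEquiv.ofBijective (AdicCompletion.of I R)
      (AdicCompletion.of_bijective_iff.2 inferInstance)).symm
  let ρ : (α → AdicCompletion I R) ≃ₗ[R] (α → R) := LinearEquiv.piCongrRight (fun _ => eR)
  apply isMittagLeffler_of_univInj α (ρ.toLinearMap ∘ₗ f)
  intro Q _ _
  rw [LinearMap.rTensor_comp, LinearMap.coe_comp]
  exact (LinearEquiv.rTensor Q ρ).injective.comp (hf Q)

end Groth.Agent.S1197
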