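import Groth.Statements.S9131
import Mathlib

set_option autoImplicit false
universe u
open CAlg

namespace Groth.Agent.S9131

theorem flat_mem_smul_ker {R : Type u} [CommRing R] {P M : Type u} [AddCommGroup P] [Module R P]
    [AddCommGroup M] [Module R M] [Module.Flat R M] (g : P →ₗ[R] M) (hg : Function.Surjective g)
    (J : Ideal R) (k : P) (hk : g k = 0) (hkJ : k ∈ J • (⊤ : Submodule R P)) :
    k ∈ J • LinearMap.ker g := by
  classical
  have hspan : (⊤ : Submodule R P) = Submodule.span R (Set.range (id : P → P)) := by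
    rw [Set.range_id, Submodule.span_univ]
  rw [hspan, Submodule.mem_ideal_smul_span_iff_exists_sum] at hkJ
  obtain ⟨a, ha, hsum⟩ := hkJ
  have hsum' : ∑ i : a.support, a i.1 • (i.1 : P) = k := by
    rw [← hsum]
    exact Finset.sum_coe_sort a.support (fun i => a i • i)
  have hrel : ∑ i : a.support, a i.1 • g i.1 = 0 := by
    calc ∑ i : a.support, a i.1 • g i.1 = g (∑ i : a.support, a i.1 • (i.1 : P)) := by
          rw [map_sum]; simp only [map_smul]
      _ = 0 := by rw [hsum', hk]
  obtain ⟨κ, c, y, hy, hc⟩ := Module.Flat.isTrivialRelation_of_sum_smul_eq_zero hrel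
  choose z hz using fun j => hg (y j)
  have hmem : ∀ i : a.support, (i.1 : P) - ∑ j, c i j • z j ∈ LinearMap.ker g := by
    intro i
    rw [LinearMap.mem_ker, map_sub, map_sum]
    simp only [map_smul, hz]
    rw [← hy i, sub_self]
  have h3 : ∑ i : a.support, ∑ j, (a i.1 * c i j) • z j = 0 := by
    rw [Finset.sum_comm]
    apply Finset.sum_eq_zero
    intro j _
    rw [← Finset.sum_smul, hc j, zero_smul]
  have hk2 : k = ∑ i : a.support, a i.1 • ((i.1 : P) - ∑ j, c i j • z j) := by
    simp only [smul_sub, Finset.smul_sum, smul_smul, Finset.sum_sub_distrib, hsum', h3, sub_zero]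
  rw [hk2]
  exact Submodule.sum_mem _ fun i _ => Submodule.smul_mem_smul (ha i.1) (hmem i)

theorem exists_ker_sub_mem {R : Type u} [CommRing R] {P M : Type u} [AddCommGroup P] [Module R P]
    [AddCommGroup M] [Module R M] (g : P →ₗ[R] M) (hg : Function.Surjective g)
    (J : Ideal R) (p : P) (hp : g p ∈ J • (⊤ : Submodule R M)) :
    ∃ k, g k = 0 ∧ p - k ∈ J • (⊤ : Submodule R P) := by
  have h1 : (J • ⊤ : Submodule R M) = Submodule.map g (J • ⊤) := by
    rw [Submodule.map_smul'', Submodule.map_top, LinearMap.range_eq_top.mpr hg]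
  rw [h1] at hp
  obtain ⟨p', hp', hgp'⟩ := hp
  exact ⟨p - p', by rw [map_sub, hgp', sub_self], by rwa [sub_sub_cancel]⟩

theorem split_lemma {R : Type u} [CommRing R] (I : Ideal R) {E M : Type u}
    [AddCommGroup E] [Module R E]
    [AddCommGroup M] [Module R M] [Module.Flat R M]
    [Module.Projective (R ⧸ I) (M ⧸ (I • ⊤ : Submodule R M))]
    (q : E →ₗ[R] M) (hq : Function.Surjective q)
    (hker : ∀ e, q e = 0 → ∀ r ∈ I, r • e = 0) :
    ∃ τ : M →ₗ[R] E, ∀ m, q (τ m) = m := by
  let qbar : (E ⧸ (I • ⊤ : Submodule R E)) →ₗ[R ⧸ I] (M ⧸ (I • ⊤ : Submodule R M)) :=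
    q.reduceModIdeal I
  have hqbar : Function.Surjective qbar := by
    intro y
    obtain ⟨m, rfl⟩ := Submodule.Quotient.mk_surjective _ y
    obtain ⟨e, rfl⟩ := hq m
    exact ⟨Submodule.Quotient.mk e, rfl⟩
  obtain ⟨σ, hσ⟩ := Module.projective_lifting_property qbar LinearMap.id hqbar
  have hσ' : ∀ y, qbar (σ y) = y := fun y => LinearMap.congr_fun hσ y
  have hσsmul : ∀ (r : R) y, σ (r • y) = r • σ y :=
    fun r y => σ.map_smul (Ideal.Quotient.mk I r) y
  have huniq : ∀ e : E, q e = 0 →
      (Submodule.Quotient.mk e : E ⧸ (I • ⊤ : Submodule R E)) = 0 → e = 0 := by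
    intro e he1 he2
    have h1 : e ∈ I • LinearMap.ker q :=
      flat_mem_smul_ker q hq I e he1 ((Submodule.Quotient.mk_eq_zero _).mp he2)
    have h2 : I • LinearMap.ker q ≤ ⊥ := by
      rw [Submodule.smul_le]
      intro r hr k hk
      rw [Submodule.mem_bot]
      exact hker k hk r hr
    exact (Submodule.mem_bot R).mp (h2 h1)
  have hex : ∀ m : M, ∃ e : E, q e = m ∧
      (Submodule.Quotient.mk e : E ⧸ (I • ⊤ : Submodule R E)) = σ (Submodule.Quotient.mk m) := by
    intro m
    obtain ⟨e₀, he₀⟩ := hq m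
    obtain ⟨e₁, he₁⟩ := Submodule.Quotient.mk_surjective _
      ((Submodule.Quotient.mk e₀ : E ⧸ (I • ⊤ : Submodule R E)) - σ (Submodule.Quotient.mk m))
    have h1 : q e₁ ∈ (I • ⊤ : Submodule R M) := by
      rw [← Submodule.Quotient.mk_eq_zero]
      have : qbar (Submodule.Quotient.mk e₁) = 0 := by
        rw [he₁, map_sub, hσ']
        show (Submodule.Quotient.mk (q e₀) : M ⧸ (I • ⊤ : Submodule R M)) - _ = 0
        rw [he₀, sub_self]
      exact this
    obtain ⟨k, hk, hk'⟩ := exists_ker_sub_mem q hq I e₁ h1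
    refine ⟨e₀ - k, by rw [map_sub, he₀, hk, sub_zero], ?_⟩
    have h2 : (Submodule.Quotient.mk k : E ⧸ (I • ⊤ : Submodule R E)) =
        Submodule.Quotient.mk e₁ := by
      rw [Submodule.Quotient.eq, ← neg_sub]
      exact neg_mem hk'
    rw [Submodule.Quotient.mk_sub, h2, he₁, sub_sub_cancel]
  choose τ hτ1 hτ2 using hex
  refine ⟨{ toFun := τ, map_add' := ?_, map_smul' := ?_ }, hτ1⟩
  · intro a b
    rw [← sub_eq_zero]
    apply huniq
    · rw [map_sub, map_add, hτ1, hτ1, hτ1, sub_self]
    · rw [Submodule.Quotient.mk_sub, Submodule.Quotient.mk_add, hτ2, hτ2, hτ2,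
        Submodule.Quotient.mk_add, map_add, sub_self]
  · intro r a
    rw [← sub_eq_zero]
    apply huniq
    · rw [map_sub, map_smul, hτ1, hτ1, RingHom.id_apply, sub_self]
    · rw [Submodule.Quotient.mk_sub, RingHom.id_apply, Submodule.Quotient.mk_smul, hτ2, hτ2,
        Submodule.Quotient.mk_smul, hσsmul, sub_self]

noncomputable def gQ {R : Type u} [CommRing R] (I : Ideal R) {P M : Type u}
    [AddCommGroup P] [Module R P] [AddCommGroup M] [Module R M] (g : P →ₗ[R] M) (n : ℕ) :
    (P ⧸ (I ^ n • ⊤ : Submodule R P)) →ₗ[R] (M ⧸ (I ^ n • ⊤ : Submodule R M)) :=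
  (g.reduceModIdeal (I ^ n)).restrictScalars R

theorem step_lemma {R : Type u} [CommRing R] (I : Ideal R) {P M : Type u}
    [AddCommGroup P] [Module R P] [AddCommGroup M] [Module R M] [Module.Flat R M]
    [Module.Projective (R ⧸ I) (M ⧸ (I • ⊤ : Submodule R M))]
    (g : P →ₗ[R] M) (hg : Function.Surjective g) (n : ℕ)
    (σ : M →ₗ[R] P ⧸ (I ^ n • ⊤ : Submodule R P))
    (hσ : ∀ m, gQ I g n (σ m) = Submodule.Quotient.mk m) :
    ∃ σ' : M →ₗ[R] P ⧸ (I ^ (n+1) • ⊤ : Submodule R P),
      (∀ m, gQ I g (n+1) (σ' m) = Submodule.Quotient.mk m) ∧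
      (∀ m, Submodule.factorPow I P (Nat.le_succ n) (σ' m) = σ m) := by
  classical
  let tr : (P ⧸ (I ^ (n+1) • ⊤ : Submodule R P)) →ₗ[R] (P ⧸ (I ^ n • ⊤ : Submodule R P)) :=
    Submodule.factorPow I P (Nat.le_succ n)
  let gq := gQ I g (n+1)
  let E : Submodule R (M × (P ⧸ (I ^ (n+1) • ⊤ : Submodule R P))) :=
    { carrier := {e | tr e.2 = σ e.1 ∧ gq e.2 = Submodule.Quotient.mk e.1}
      add_mem' := by
        rintro a b ⟨ha1, ha2⟩ ⟨hb1, hb2⟩
        exact ⟨by simp only [Prod.snd_add, Prod.fst_add, map_add, ha1, hb1],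
          by simp only [Prod.snd_add, Prod.fst_add, map_add, ha2, hb2, Submodule.Quotient.mk_add]⟩
      zero_mem' := ⟨by simp, by simp⟩
      smul_mem' := by
        rintro c a ⟨ha1, ha2⟩
        exact ⟨by simp only [Prod.smul_snd, Prod.smul_fst, map_smul, ha1],
          by simp only [Prod.smul_snd, Prod.smul_fst, map_smul, ha2, Submodule.Quotient.mk_smul]⟩ }
  let q : E →ₗ[R] M := LinearMap.fst R _ _ ∘ₗ E.subtype
  have hq : Function.Surjective q := by
    intro m
    obtain ⟨p, hp⟩ := Submodule.Quotient.mk_surjective _ (σ m)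
    have h1 : g p - m ∈ (I ^ n • ⊤ : Submodule R M) := by
      have h := hσ m
      rw [← hp] at h
      exact (Submodule.Quotient.eq _).mp h
    have h2 : (I ^ n • ⊤ : Submodule R M) = Submodule.map g (I ^ n • ⊤) := by
      rw [Submodule.map_smul'', Submodule.map_top, LinearMap.range_eq_top.mpr hg]
    rw [h2] at h1
    obtain ⟨p', hp', hgp'⟩ := h1
    refine ⟨⟨(m, Submodule.Quotient.mk (p - p')), ?_, ?_⟩, rfl⟩
    · show (Submodule.Quotient.mk (p - p') : P ⧸ (I ^ n • ⊤ : Submodule R P)) = σ m
      rw [← hp, Submodule.Quotient.eq, sub_sub_cancel_left]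
      exact neg_mem hp'
    · show (Submodule.Quotient.mk (g (p - p')) : M ⧸ (I ^ (n+1) • ⊤ : Submodule R M)) =
        Submodule.Quotient.mk m
      rw [map_sub, hgp', sub_sub_cancel]
  have hker : ∀ e : E, q e = 0 → ∀ r ∈ I, r • e = 0 := by
    rintro ⟨⟨m, x⟩, hx1, hx2⟩ hm r hr
    change m = 0 at hm
    subst hm
    apply Subtype.ext
    show (r • (0 : M), r • x) = (0, 0)
    rw [smul_zero]
    congr 1
    obtain ⟨p, rfl⟩ := Submodule.Quotient.mk_surjective _ x
    have hp : p ∈ (I ^ n • ⊤ : Submodule R P) := by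
      have h : (Submodule.Quotient.mk p : P ⧸ (I ^ n • ⊤ : Submodule R P)) = 0 := by
        have := hx1
        simp only [map_zero] at this
        exact this
      exact (Submodule.Quotient.mk_eq_zero _).mp h
    rw [← Submodule.Quotient.mk_smul, Submodule.Quotient.mk_eq_zero, pow_succ',
      Submodule.mul_smul]
    exact Submodule.smul_mem_smul hr hp
  obtain ⟨τ, hτ⟩ := split_lemma I q hq hker
  refine ⟨(LinearMap.snd R _ _) ∘ₗ E.subtype ∘ₗ τ, ?_, ?_⟩
  · intro m
    have h1 : (τ m).1.1 = m := hτ m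
    have h2 : gq (τ m).1.2 = Submodule.Quotient.mk (τ m).1.1 := (τ m).2.2
    show gq (τ m).1.2 = _
    rw [h2, h1]
  · intro m
    have h1 : (τ m).1.1 = m := hτ m
    have h2 : tr (τ m).1.2 = σ (τ m).1.1 := (τ m).2.1
    show tr (τ m).1.2 = _
    rw [h2, h1]


/-- Let R be a ring, I an ideal, and 0 → K → P → M → 0 a short exact sequence of R-modules with M flat
over R and M/IM projective over R/I. Then the induced sequence of I-adic completions is split short
exact: the map on completions of K → P is injective, the sequence is exact in the middle, and the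
map on completions of P → M has a section linear over the completion of R (so it is surjective). -/
theorem result (R : Type u) [CommRing R] (I : Ideal R)
    (K P M : Type u) [AddCommGroup K] [Module R K] [AddCommGroup P] [Module R P]
    [AddCommGroup M] [Module R M] (f : K →ₗ[R] P) (g : P →ₗ[R] M)
    (hf : Function.Injective f) (hg : Function.Surjective g) (hfg : Function.Exact f g)
    [Module.Flat R M] [Module.Projective (R ⧸ I) (M ⧸ (I • ⊤ : Submodule R M))] :
    Function.Injective (AdicCompletion.map I f) ∧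
      Function.Exact (AdicCompletion.map I f) (AdicCompletion.map I g) ∧
      ∃ s : AdicCompletion I M →ₗ[AdicCompletion I R] AdicCompletion I P,
        AdicCompletion.map I g ∘ₗ s = LinearMap.id := by
  classical
  have hfg' : LinearMap.ker g = LinearMap.range f := LinearMap.exact_iff.mp hfg
  have key1 : ∀ (J : Ideal R) (k : K), f k ∈ J • (⊤ : Submodule R P) →
      k ∈ J • (⊤ : Submodule R K) := by
    intro J k hk
    have h1 : f k ∈ J • LinearMap.ker g :=
      flat_mem_smul_ker g hg J (f k) (hfg.apply_apply_eq_zero k) hk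
    rw [hfg', LinearMap.range_eq_map, ← Submodule.map_smul''] at h1
    obtain ⟨k', hk', hfk'⟩ := h1
    rwa [← hf hfk']
  have inj : Function.Injective (AdicCompletion.map I f) := by
    rw [injective_iff_map_eq_zero]
    intro x hx
    apply AdicCompletion.ext
    intro n
    obtain ⟨k, hk⟩ := Submodule.Quotient.mk_surjective _ (x.val n)
    have h1 : (AdicCompletion.map I f x).val n = 0 := by rw [hx]; rfl
    rw [AdicCompletion.map_val_apply, ← hk] at h1
    have h2 : f k ∈ (I ^ n • ⊤ : Submodule R P) := (Submodule.Quotient.mk_eq_zero _).mp h1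
    rw [← hk]
    exact (Submodule.Quotient.mk_eq_zero _).mpr (key1 _ k h2)
  have exact : Function.Exact (AdicCompletion.map I f) (AdicCompletion.map I g) := by
    intro y
    constructor
    · intro hy
      have hyn : ∀ n, ∃ k : K,
          (Submodule.Quotient.mk (f k) : P ⧸ (I ^ n • ⊤ : Submodule R P)) = y.val n := by
        intro n
        obtain ⟨p, hp⟩ := Submodule.Quotient.mk_surjective _ (y.val n)
        have h1 : (AdicCompletion.map I g y).val n = 0 := by rw [hy]; rfl
        rw [AdicCompletion.map_val_apply, ← hp] at h1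
        have h2 : g p ∈ (I ^ n • ⊤ : Submodule R M) := (Submodule.Quotient.mk_eq_zero _).mp h1
        obtain ⟨k', hk', hk''⟩ := exists_ker_sub_mem g hg _ p h2
        have hk3 : k' ∈ LinearMap.range f := by
          rw [← hfg']; exact hk'
        obtain ⟨k, rfl⟩ := hk3
        refine ⟨k, ?_⟩
        rw [← hp, Submodule.Quotient.eq, ← neg_sub]
        exact neg_mem hk''
      choose k hk using hyn
      have compat : ∀ {m n : ℕ} (hmn : m ≤ n),
          AdicCompletion.transitionMap I K hmn (Submodule.Quotient.mk (k n)) =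
            Submodule.Quotient.mk (k m) := by
        intro m n hmn
        show (Submodule.Quotient.mk (k n) : K ⧸ (I ^ m • ⊤ : Submodule R K)) =
          Submodule.Quotient.mk (k m)
        rw [Submodule.Quotient.eq]
        apply key1
        rw [map_sub, ← Submodule.Quotient.eq]
        have h1 := y.property hmn
        rw [← hk n, ← hk m] at h1
        exact h1
      refine ⟨⟨fun n => Submodule.Quotient.mk (k n), compat⟩, ?_⟩
      apply AdicCompletion.ext
      intro n
      rw [AdicCompletion.map_val_apply]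
      exact hk n
    · rintro ⟨x, rfl⟩
      rw [AdicCompletion.map_comp_apply, hfg.linearMap_comp_eq_zero, AdicCompletion.map_zero]
      rfl
  refine ⟨inj, exact, ?_⟩
  have base : ∀ m : M, gQ I g 0 ((0 : M →ₗ[R] P ⧸ (I ^ 0 • ⊤ : Submodule R P)) m) =
      Submodule.Quotient.mk m := by
    intro m
    have h : (Submodule.Quotient.mk m : M ⧸ (I ^ 0 • ⊤ : Submodule R M)) = 0 := by
      rw [Submodule.Quotient.mk_eq_zero, pow_zero, Ideal.one_eq_top, Submodule.top_smul]
      trivial
    rw [h]
    simp
  let sg : ∀ n, {σ : M →ₗ[R] P ⧸ (I ^ n • ⊤ : Submodule R P) //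
      ∀ m, gQ I g n (σ m) = Submodule.Quotient.mk m} := fun n =>
    Nat.rec (motive := fun n => {σ : M →ₗ[R] P ⧸ (I ^ n • ⊤ : Submodule R P) //
        ∀ m, gQ I g n (σ m) = Submodule.Quotient.mk m})
      ⟨0, base⟩
      (fun n σ => ⟨(step_lemma I g hg n σ.1 σ.2).choose,
        (step_lemma I g hg n σ.1 σ.2).choose_spec.1⟩) n
  have hsg : ∀ n m, Submodule.factorPow I P (Nat.le_succ n) ((sg (n+1)).1 m) = (sg n).1 m :=
    fun n => (step_lemma I g hg n (sg n).1 (sg n).2).choose_spec.2
  have hcompat : ∀ (m n : ℕ) (hmn : m ≤ n) (x : M),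
      Submodule.factorPow I P hmn ((sg n).1 x) = (sg m).1 x := by
    intro m n hmn x
    induction n, hmn using Nat.le_induction with
    | base =>
      obtain ⟨p, hp⟩ := Submodule.Quotient.mk_surjective _ ((sg m).1 x)
      rw [← hp]; rfl
    | succ n hmn ih =>
      rw [← ih, ← hsg n x]
      obtain ⟨p, hp⟩ := Submodule.Quotient.mk_surjective _ ((sg (n+1)).1 x)
      rw [← hp]; rfl
  have hkill : ∀ n, (I ^ n • ⊤ : Submodule R M) ≤ LinearMap.ker (sg n).1 := by
    intro n
    rw [Submodule.smul_le]
    intro r hr x _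
    rw [LinearMap.mem_ker, map_smul]
    obtain ⟨p, hp⟩ := Submodule.Quotient.mk_surjective _ ((sg n).1 x)
    rw [← hp, ← Submodule.Quotient.mk_smul, Submodule.Quotient.mk_eq_zero]
    exact Submodule.smul_mem_smul hr Submodule.mem_top
  let sbar : ∀ n, (M ⧸ (I ^ n • ⊤ : Submodule R M)) →ₗ[R] (P ⧸ (I ^ n • ⊤ : Submodule R P)) :=
    fun n => Submodule.liftQ _ (sg n).1 (hkill n)
  have sbar_compat : ∀ {m n : ℕ} (hmn : m ≤ n) (y : M ⧸ (I ^ n • ⊤ : Submodule R M)),
      AdicCompletion.transitionMap I P hmn (sbar n y) =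
        sbar m (AdicCompletion.transitionMap I M hmn y) := by
    intro m n hmn y
    obtain ⟨x, rfl⟩ := Submodule.Quotient.mk_surjective _ y
    exact hcompat m n hmn x
  let shat0 : AdicCompletion I M → AdicCompletion I P := fun x =>
    ⟨fun n => sbar n (x.val n), fun {m n} hmn => by rw [sbar_compat hmn, x.property hmn]⟩
  have shat0_val : ∀ x n, (shat0 x).val n = sbar n (x.val n) := fun x n => rfl
  let shat : AdicCompletion I M →ₗ[AdicCompletion I R] AdicCompletion I P :=
    { toFun := shat0
      map_add' := by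
        intro x y
        apply AdicCompletion.ext
        intro n
        rw [AdicCompletion.val_add_apply, shat0_val, shat0_val, shat0_val,
          AdicCompletion.val_add_apply, map_add]
      map_smul' := by
        intro r x
        apply AdicCompletion.ext
        intro n
        rw [RingHom.id_apply, AdicCompletion.smul_eval, shat0_val, shat0_val,
          AdicCompletion.smul_eval, AdicCompletion.val_smul_eq_evalₐ_smul,
          AdicCompletion.val_smul_eq_evalₐ_smul]
        obtain ⟨r', hr'⟩ := Ideal.Quotient.mk_surjective (AdicCompletion.evalₐ I n r)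
        rw [← hr']
        exact (sbar n).map_smul r' (x.val n) }
  refine ⟨shat, ?_⟩
  apply LinearMap.ext
  intro x
  apply AdicCompletion.ext
  intro n
  show (AdicCompletion.map I g (shat0 x)).val n = x.val n
  rw [AdicCompletion.map_val_apply, shat0_val]
  obtain ⟨m, hm⟩ := Submodule.Quotient.mk_surjective _ (x.val n)
  rw [← hm]
  exact (sg n).2 m

end Groth.Agent.S9131
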