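import Groth.Statements.S1198
import Mathlib
import Groth.Agent.S1197
import Groth.Agent.S9131

set_option autoImplicit false
universe u
open FlatMor

namespace Groth.Agent.S1198

open TensorProduct

theorem pi_nat {R : Type u} [CommRing R] {A A' : Type u} [AddCommGroup A] [Module R A]
    [AddCommGroup A'] [Module R A'] (φ : A →ₗ[R] A') {ι : Type u} (Q : ι → Type u)
    [∀ i, AddCommGroup (Q i)] [∀ i, Module R (Q i)] (z : A ⊗[R] (∀ i, Q i)) :
    TensorProduct.piRightHom R R A' Q ((φ.rTensor (∀ i, Q i)) z) =
      fun i => (φ.rTensor (Q i)) (TensorProduct.piRightHom R R A Q z i) := by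
  induction z using TensorProduct.induction_on with
  | zero => funext i; simp
  | tmul a q => funext i; simp [TensorProduct.piRightHom_tmul]
  | add x y hx hy =>
    funext i
    simp only [map_add, Pi.add_apply, hx, hy]


/-- Let R be a Noetherian ring complete with respect to an ideal I and M a flat R-module whose reduction
M/IM is projective over R/I. Then M's I-adic completion is a flat and Mittag-Leffler R-module. -/
theorem result (R : Type u) [CommRing R] [IsNoetherianRing R] (I : Ideal R) [IsAdicComplete I R]
    (M : Type u) [AddCommGroup M] [Module R M] [Module.Flat R M]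
    [Module.Projective (R ⧸ I) (M ⧸ (I • ⊤ : Submodule R M))] :
    Module.Flat R (AdicCompletion I M) ∧ CAlg.IsMittagLeffler R (AdicCompletion I M) := by
  classical
  let g : (M →₀ R) →ₗ[R] M := Finsupp.linearCombination R (id : M → M)
  have hg : Function.Surjective g := Finsupp.linearCombination_id_surjective R M
  let f : (LinearMap.ker g) →ₗ[R] (M →₀ R) := (LinearMap.ker g).subtype
  have hf : Function.Injective f := Submodule.subtype_injective _
  have hfg : Function.Exact f g := LinearMap.exact_subtype_ker_map g
  obtain ⟨-, -, s, hs⟩ := Groth.Agent.S9131.result R I (LinearMap.ker g) (M →₀ R) M f g hf hg hfg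
  obtain ⟨hflatF, hMLF⟩ := Groth.Agent.S1197.result R I M
  let s' : AdicCompletion I M →ₗ[R] AdicCompletion I (M →₀ R) := s.restrictScalars R
  let g' : AdicCompletion I (M →₀ R) →ₗ[R] AdicCompletion I M :=
    (AdicCompletion.map I g).restrictScalars R
  have hgs : g' ∘ₗ s' = LinearMap.id := by
    apply LinearMap.ext
    intro x
    exact congrArg (fun φ => φ x) hs
  refine ⟨Module.Flat.of_retract s' g' hgs, ?_⟩
  intro ι Q _ _
  rw [injective_iff_map_eq_zero]
  intro z hz
  have hnat := pi_nat s' Q z
  rw [hz] at hnat
  have h1 : (s'.rTensor (∀ i, Q i)) z = 0 := by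
    apply hMLF ι Q
    rw [hnat, map_zero]
    funext i
    simp
  have h2 : (g'.rTensor (∀ i, Q i)) ((s'.rTensor (∀ i, Q i)) z) = z := by
    rw [← LinearMap.comp_apply, ← LinearMap.rTensor_comp, hgs, LinearMap.rTensor_id,
      LinearMap.id_apply]
  rw [← h2, h1, map_zero]

end Groth.Agent.S1198
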