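import Groth.Statements.S1199
import Mathlib

set_option autoImplicit false
universe u
open FlatMor

namespace Groth.Agent.S1199

open TensorProduct

theorem sep_inj {R : Type u} [CommRing R] (I : Ideal R) (Q N : Type u) [AddCommGroup Q]
    [Module R Q] [AddCommGroup N] [Module R N]
    (hsep : ⨅ n : ℕ, I ^ n • (⊤ : Submodule R (Q ⊗[R] N)) = ⊥) :
    Function.Injective ((AdicCompletion.of I N).lTensor Q) := by
  rw [injective_iff_map_eq_zero]
  intro z hz
  have key : ∀ n : ℕ, z ∈ I ^ n • (⊤ : Submodule R (Q ⊗[R] N)) := by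
    intro n
    have hcomp : (AdicCompletion.eval I N n) ∘ₗ (AdicCompletion.of I N) =
        (I ^ n • (⊤ : Submodule R N)).mkQ := by
      apply LinearMap.ext; intro x; rfl
    have h0 : ((I ^ n • (⊤ : Submodule R N)).mkQ.lTensor Q) z = 0 := by
      rw [← hcomp, LinearMap.lTensor_comp, LinearMap.comp_apply, hz, map_zero]
    have hex := lTensor_exact Q (LinearMap.exact_subtype_mkQ (I ^ n • (⊤ : Submodule R N)))
      (Submodule.mkQ_surjective _)
    obtain ⟨y, hy⟩ := (hex z).mp h0
    have hgen : ∀ y : Q ⊗[R] ↥(I ^ n • (⊤ : Submodule R N)),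
        ((I ^ n • (⊤ : Submodule R N)).subtype.lTensor Q) y ∈
          I ^ n • (⊤ : Submodule R (Q ⊗[R] N)) := by
      intro y
      induction y using TensorProduct.induction_on with
      | zero => rw [map_zero]; exact zero_mem _
      | add a b ha hb => rw [map_add]; exact add_mem ha hb
      | tmul q m =>
        rw [LinearMap.lTensor_tmul]
        obtain ⟨m, hm⟩ := m
        show q ⊗ₜ[R] m ∈ I ^ n • (⊤ : Submodule R (Q ⊗[R] N))
        refine Submodule.smul_induction_on hm ?_ ?_
        · intro a ha m' _
          rw [TensorProduct.tmul_smul]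
          exact Submodule.smul_mem_smul ha Submodule.mem_top
        · intro m1 m2 h1 h2
          rw [TensorProduct.tmul_add]
          exact add_mem h1 h2
    rw [← hy]
    exact hgen y
  have hmem : z ∈ ⨅ n : ℕ, I ^ n • (⊤ : Submodule R (Q ⊗[R] N)) :=
    (Submodule.mem_iInf _).mpr key
  rw [hsep] at hmem
  exact (Submodule.mem_bot R).1 hmem

theorem krull_sep {R S : Type u} [CommRing R] [CommRing S] [Algebra R S] [IsNoetherianRing S]
    (I : Ideal R) (N : Type u) [AddCommGroup N] [Module S N] [Module R N] [IsScalarTower R S N]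
    [Module.Finite S N] (Q : Type u) [AddCommGroup Q] [Module R Q] [Module.Finite R Q]
    (h : ∀ q ∈ associatedPrimes S (N ⊗[R] Q), I.map (algebraMap R S) ⊔ q ≠ ⊤) :
    ⨅ n : ℕ, I ^ n • (⊤ : Submodule R (Q ⊗[R] N)) = ⊥ := by
  haveI : Module.Finite S (N ⊗[R] Q) :=
    Module.Finite.equiv (TensorProduct.AlgebraTensorModule.cancelBaseChange R S S N Q)
  have hgen : ∀ (n : ℕ) (x : Q ⊗[R] N), x ∈ I ^ n • (⊤ : Submodule R (Q ⊗[R] N)) →
      (TensorProduct.comm R Q N) x ∈
        ((I.map (algebraMap R S)) ^ n • ⊤ : Submodule S (N ⊗[R] Q)) := by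
    intro n x hx
    refine Submodule.smul_induction_on hx ?_ ?_
    · intro a ha y _
      rw [map_smul, ← algebraMap_smul S a]
      refine Submodule.smul_mem_smul ?_ Submodule.mem_top
      rw [← Ideal.map_pow]
      exact Ideal.mem_map_of_mem _ ha
    · intro y1 y2 h1 h2
      rw [map_add]; exact add_mem h1 h2
  rw [eq_bot_iff]
  intro t ht
  rw [Submodule.mem_bot]
  have hmem : (TensorProduct.comm R Q N) t ∈
      (⨅ n : ℕ, (I.map (algebraMap R S)) ^ n • ⊤ : Submodule S (N ⊗[R] Q)) := by
    rw [Submodule.mem_iInf]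
    intro n
    exact hgen n t ((Submodule.mem_iInf _).mp ht n)
  obtain ⟨r, hr⟩ := (Ideal.mem_iInf_smul_pow_eq_bot_iff (I.map (algebraMap R S))
    ((TensorProduct.comm R Q N) t)).mp hmem
  by_contra hne
  have ht'ne : (TensorProduct.comm R Q N) t ≠ 0 := by
    intro h0
    apply hne
    apply (TensorProduct.comm R Q N).injective
    rw [h0, map_zero]
  obtain ⟨q, hq, hle⟩ := exists_le_isAssociatedPrime_of_isNoetherianRing (R := S)
    ((TensorProduct.comm R Q N) t) ht'ne
  have h1 : (1 - (r : S)) ∈ q := by
    apply hle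
    rw [Submodule.mem_colon_singleton, sub_smul, one_smul, hr, sub_self]
    exact Submodule.zero_mem _
  apply h q hq
  rw [Ideal.eq_top_iff_one]
  have h2 : (1 : S) = (r : S) + (1 - (r : S)) := by ring
  rw [h2]
  exact Submodule.add_mem_sup r.2 h1


open TensorProduct in
/-- Let R → S be a map of Noetherian rings, I an ideal of R and N a finite S-module. Assume that for
every finite R-module Q and every associated prime q of the S-module N ⊗_R Q the ideal IS + q is
proper. Then the canonical map from N to its I-adic completion is universally injective as a map of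
R-modules. -/
theorem result {R S : Type u} [CommRing R] [CommRing S] [Algebra R S] [IsNoetherianRing R] [IsNoetherianRing S] (I : Ideal R)
    (N : Type u) [AddCommGroup N] [Module S N] [Module R N] [IsScalarTower R S N] [Module.Finite S N]
    (h : ∀ (Q : Type u) [AddCommGroup Q] [Module R Q], Module.Finite R Q →
      ∀ q ∈ associatedPrimes S (N ⊗[R] Q), I.map (algebraMap R S) ⊔ q ≠ ⊤) :
    FlatCA.UnivInj R (AdicCompletion.of I N) := by
  intro Q _ _
  rw [injective_iff_map_eq_zero]
  intro z hz
  obtain ⟨P, hP, z₀, hz₀⟩ := TensorProduct.exists_of_fg z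
  have h1 : (P.subtype.rTensor (AdicCompletion I N))
      (((AdicCompletion.of I N).lTensor P) z₀) = 0 := by
    rw [← LinearMap.comp_apply, LinearMap.rTensor_comp_lTensor, ← LinearMap.lTensor_comp_rTensor,
      LinearMap.comp_apply, hz₀, hz]
  obtain ⟨P', hPP', hP', h2⟩ := TensorProduct.eq_zero_of_fg_of_subtype_eq_zero hP h1
  haveI : Module.Finite R P' := Module.Finite.iff_fg.2 hP'
  have hinj := sep_inj I P' N (krull_sep I N P' (h P' inferInstance))
  have h3 : ((Submodule.inclusion hPP').rTensor N) z₀ = 0 := by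
    apply hinj
    rw [map_zero, ← LinearMap.comp_apply, LinearMap.lTensor_comp_rTensor,
      ← LinearMap.rTensor_comp_lTensor, LinearMap.comp_apply, h2]
  rw [← hz₀, ← Submodule.subtype_comp_inclusion P P' hPP', LinearMap.rTensor_comp,
    LinearMap.comp_apply, h3, map_zero]

end Groth.Agent.S1199
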