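import Groth.Statements.S1200
import Mathlib
import Groth.Agent.S1199

set_option autoImplicit false
universe u
open FlatMor

namespace Groth.Agent.S1200


open TensorProduct

attribute [local instance] Algebra.TensorProduct.rightAlgebra

section Step3

variable {R S : Type u} [CommRing R] [CommRing S] [Algebra R S]
  (N : Type u) [AddCommGroup N] [Module S N] [Module R N] [IsScalarTower R S N]
  (p : Ideal R) [p.IsPrime]

/-- the comparison map `N ⊗ R/p → (κ(p) ⊗ S) ⊗_S N`. -/
noncomputable def Phi : N ⊗[R] (R ⧸ p) →ₗ[S] (p.Fiber S) ⊗[S] N :=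
  ((AlgebraTensorModule.cancelBaseChange R S S N p.ResidueField).symm ≪≫ₗ
    (LinearEquiv.lTensor N
      (Algebra.TensorProduct.commRight R S p.ResidueField).toLinearEquiv) ≪≫ₗ
    (TensorProduct.comm S N (p.Fiber S))).toLinearMap ∘ₗ
  (AlgebraTensorModule.lTensor S N
    ((IsScalarTower.toAlgHom R (R ⧸ p) p.ResidueField).toLinearMap))

theorem Phi_injective [Module.Flat R N] : Function.Injective (Phi (S := S) N p) := by
  unfold Phi
  rw [LinearMap.coe_comp, LinearEquiv.coe_coe]
  refine (LinearEquiv.injective _).comp ?_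
  rw [AlgebraTensorModule.coe_lTensor]
  apply Module.Flat.lTensor_preserves_injective_linearMap
  exact Ideal.injective_algebraMap_quotient_residueField p

theorem fiber_ass [Module.Flat R N] (q : Ideal S) [hqp : q.IsPrime]
    (t : N ⊗[R] (R ⧸ p)) (htne : t ≠ 0) (ht : ∀ s : S, s • t = 0 ↔ s ∈ q) :
    FlatCA.fiberIdeal p q ∈ associatedPrimes (p.Fiber S) (FlatCA.fiberMod p S N) := by
  show FlatCA.fiberIdeal p q ∈ associatedPrimes (p.Fiber S) ((p.Fiber S) ⊗[S] N)
  set ξ : (p.Fiber S) ⊗[S] N := Phi (S := S) N p t with hξ
  have hξne : ξ ≠ 0 := fun h0 => htne (Phi_injective (S := S) N p (by rw [← hξ, h0, map_zero]))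
  have key1 : ∀ s : S, ((1 : p.ResidueField) ⊗ₜ[R] s : p.Fiber S) • ξ = 0 ↔ s ∈ q := by
    intro s
    have h1 : ((1 : p.ResidueField) ⊗ₜ[R] s : p.Fiber S) • ξ = s • ξ := by
      show (algebraMap S (p.Fiber S) s) • ξ = s • ξ
      exact algebraMap_smul (p.Fiber S) s ξ
    rw [h1, hξ, ← map_smul, ← ht s]
    constructor
    · intro h; exact Phi_injective (S := S) N p (by rw [h, map_zero])
    · intro h; rw [h, map_zero]
  have key2 : ∀ r : R, r ∉ p → IsUnit (algebraMap R (p.Fiber S) r) := by
    intro r hr
    have h1 : IsUnit (algebraMap R p.ResidueField r) := by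
      rw [isUnit_iff_ne_zero, Ne, Ideal.algebraMap_residueField_eq_zero]
      exact hr
    have h2 : algebraMap R (p.Fiber S) r =
        (Algebra.TensorProduct.includeLeft : p.ResidueField →ₐ[R] p.Fiber S)
          (algebraMap R p.ResidueField r) := by
      rw [AlgHom.commutes]
    rw [h2]
    exact h1.map _
  have hAnn : FlatCA.fiberIdeal p q =
      (⊥ : Submodule (p.Fiber S) ((p.Fiber S) ⊗[S] N)).colon {ξ} := by
    apply le_antisymm
    · unfold FlatCA.fiberIdeal
      rw [Ideal.map_le_iff_le_comap]
      intro s hs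
      rw [Ideal.mem_comap, Submodule.mem_colon_singleton, Submodule.mem_bot]
      exact (key1 s).mpr hs
    · intro x hx
      rw [Submodule.mem_colon_singleton, Submodule.mem_bot] at hx
      obtain ⟨r, hr, s, e⟩ := Ideal.Fiber.exists_smul_eq_one_tmul p x
      have hu := key2 r hr
      have e' : algebraMap R (p.Fiber S) r * x = (1 : p.ResidueField) ⊗ₜ[R] s := by
        rw [← Algebra.smul_def]; exact e
      have h1 : ((1 : p.ResidueField) ⊗ₜ[R] s : p.Fiber S) • ξ = 0 := by
        rw [← e', mul_smul, hx, smul_zero]
      have hs : s ∈ q := (key1 s).mp h1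
      have h2 : algebraMap R (p.Fiber S) r * x ∈ FlatCA.fiberIdeal p q := by
        rw [e']; exact Ideal.mem_map_of_mem _ hs
      exact (Ideal.unit_mul_mem_iff_mem _ hu).mp h2
  have hprime : (FlatCA.fiberIdeal p q).IsPrime := by
    rw [hAnn]
    refine ⟨?_, ?_⟩
    · intro htop
      have h1 : (1 : p.Fiber S) ∈
          (⊥ : Submodule (p.Fiber S) ((p.Fiber S) ⊗[S] N)).colon {ξ} := by
        rw [htop]; trivial
      rw [Submodule.mem_colon_singleton, Submodule.mem_bot, one_smul] at h1
      exact hξne h1
    · intro x y hxy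
      have hxy' : (x * y) • ξ = 0 := by
        have h0 := hxy
        rwa [Submodule.mem_colon_singleton, Submodule.mem_bot] at h0
      obtain ⟨r, hr, s, e⟩ := Ideal.Fiber.exists_smul_eq_one_tmul p x
      obtain ⟨r', hr', s', e2⟩ := Ideal.Fiber.exists_smul_eq_one_tmul p y
      have hu := key2 r hr
      have hu' := key2 r' hr'
      have e' : algebraMap R (p.Fiber S) r * x = (1 : p.ResidueField) ⊗ₜ[R] s := by
        rw [← Algebra.smul_def]; exact e
      have e2' : algebraMap R (p.Fiber S) r' * y = (1 : p.ResidueField) ⊗ₜ[R] s' := by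
        rw [← Algebra.smul_def]; exact e2
      have h3 : ((1 : p.ResidueField) ⊗ₜ[R] (s * s') : p.Fiber S) • ξ = 0 := by
        have h4 : ((1 : p.ResidueField) ⊗ₜ[R] (s * s') : p.Fiber S) =
            (algebraMap R (p.Fiber S) r * algebraMap R (p.Fiber S) r') * (x * y) := by
          have h5 : ((1 : p.ResidueField) ⊗ₜ[R] (s * s') : p.Fiber S) =
              ((1 : p.ResidueField) ⊗ₜ[R] s) * ((1 : p.ResidueField) ⊗ₜ[R] s') := by
            rw [Algebra.TensorProduct.tmul_mul_tmul, one_mul]
          rw [h5, ← e', ← e2']; ring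
        rw [h4, mul_smul, hxy', smul_zero]
      have hss : s * s' ∈ q := (key1 _).mp h3
      rcases hqp.mem_or_mem hss with hs | hs
      · left
        rw [Submodule.mem_colon_singleton, Submodule.mem_bot]
        have h5 : (algebraMap R (p.Fiber S) r * x) • ξ = 0 := by
          rw [e']; exact (key1 s).mpr hs
        rwa [mul_smul, hu.smul_eq_zero] at h5
      · right
        rw [Submodule.mem_colon_singleton, Submodule.mem_bot]
        have h5 : (algebraMap R (p.Fiber S) r' * y) • ξ = 0 := by
          rw [e2']; exact (key1 s').mpr hs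
        rwa [mul_smul, hu'.smul_eq_zero] at h5
  refine ⟨hprime, ξ, ?_⟩
  rw [← hAnn, hprime.radical]

theorem comap_eq [Module.Flat R N] (q : Ideal S) (t : N ⊗[R] (R ⧸ p)) (htne : t ≠ 0)
    (ht : ∀ s : S, s • t = 0 ↔ s ∈ q) : q.comap (algebraMap R S) = p := by
  have hsm : ∀ r : R, (algebraMap R S r) • t = r • t := fun r => algebraMap_smul S r t
  ext r
  rw [Ideal.mem_comap, ← ht, hsm]
  constructor
  · intro h
    by_contra hr
    have hmk : Ideal.Quotient.mk p r ≠ 0 := by
      rw [Ne, Ideal.Quotient.eq_zero_iff_mem]; exact hr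
    have hinj : Function.Injective (LinearMap.lsmul R (R ⧸ p) r) := by
      intro a b hab
      simp only [LinearMap.lsmul_apply] at hab
      have h1 : (Ideal.Quotient.mk p r) * a = (Ideal.Quotient.mk p r) * b := by
        have e1 : ∀ c : R ⧸ p, r • c = (Ideal.Quotient.mk p r) * c := fun c => by
          rw [Algebra.smul_def]; rfl
        rw [← e1, ← e1]; exact hab
      exact mul_left_cancel₀ hmk h1
    have h2 := Module.Flat.lTensor_preserves_injective_linearMap (M := N) _ hinj
    have h3 : ∀ t' : N ⊗[R] (R ⧸ p),
        ((LinearMap.lsmul R (R ⧸ p) r).lTensor N) t' = r • t' := by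
      intro t'
      induction t' using TensorProduct.induction_on with
      | zero => simp
      | tmul n x => rw [LinearMap.lTensor_tmul, LinearMap.lsmul_apply, TensorProduct.tmul_smul]
      | add a b ha hb => rw [map_add, ha, hb, smul_add]
    exact htne (h2 (by rw [h3, h, map_zero]))
  · intro hr
    have h0 : ∀ t' : N ⊗[R] (R ⧸ p), r • t' = 0 := by
      intro t'
      induction t' using TensorProduct.induction_on with
      | zero => simp
      | tmul n x =>
        have hx : r • x = 0 := by
          rw [Algebra.smul_def]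
          have : algebraMap R (R ⧸ p) r = 0 := Ideal.Quotient.eq_zero_iff_mem.mpr hr
          rw [this, zero_mul]
        rw [← TensorProduct.tmul_smul, hx, TensorProduct.tmul_zero]
      | add a b ha hb => rw [smul_add, ha, hb, add_zero]
    exact h0 t

end Step3

section Step1

variable {R S : Type u} [CommRing R] [CommRing S] [Algebra R S] [IsNoetherianRing R]
  (N : Type u) [AddCommGroup N] [Module S N] [Module R N] [IsScalarTower R S N] [Module.Flat R N]

theorem step1 (Q : Type u) [AddCommGroup Q] [Module R Q] (hQ : Module.Finite R Q) :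
    ∀ q ∈ associatedPrimes S (N ⊗[R] Q), ∃ p' : Ideal R, p'.IsPrime ∧
      q ∈ associatedPrimes S (N ⊗[R] (R ⧸ p')) := by
  induction hQ using IsNoetherianRing.induction_on_isQuotientEquivQuotientPrime R with
  | subsingleton Q =>
    intro q hq
    haveI : Subsingleton (N ⊗[R] Q) := by
      refine ⟨fun a b => ?_⟩
      have h0 : ∀ z : N ⊗[R] Q, z = 0 := by
        intro z
        induction z using TensorProduct.induction_on with
        | zero => rfl
        | tmul n x => rw [Subsingleton.elim x 0, TensorProduct.tmul_zero]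
        | add a b ha hb => rw [ha, hb, add_zero]
      rw [h0 a, h0 b]
    rw [associatedPrimes.eq_empty_of_subsingleton] at hq
    exact hq.elim
  | quotient Q p e =>
    intro q hq
    refine ⟨p.1, p.2, ?_⟩
    rw [← LinearEquiv.AssociatedPrimes.eq (AlgebraTensorModule.congr (LinearEquiv.refl S N) e)]
    exact hq
  | exact Q₁ Q₂ Q₃ f g hf hg hfg h₁ h₃ =>
    intro q hq
    have hinj : Function.Injective (AlgebraTensorModule.lTensor S N f) := by
      rw [AlgebraTensorModule.coe_lTensor]
      exact Module.Flat.lTensor_preserves_injective_linearMap f hf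
    have hex : Function.Exact (AlgebraTensorModule.lTensor S N f)
        (AlgebraTensorModule.lTensor S N g) := by
      rw [AlgebraTensorModule.coe_lTensor, AlgebraTensorModule.coe_lTensor]
      exact lTensor_exact N hfg hg
    rcases associatedPrimes.subset_union_of_exact hinj hex hq with h | h
    · exact h₁ q h
    · exact h₃ q h

end Step1



/-- Let R → S be a map of Noetherian rings, I an ideal of R and N a finite S-module which is flat over
R. Assume that for every prime q of S, over p in R, whose extension to the fibre ring over p is an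
associated prime of the fibre module of N, the ideal IS + q is proper. Then the canonical map from N
to its I-adic completion is universally injective as a map of R-modules. -/
theorem result {R S : Type u} [CommRing R] [CommRing S] [Algebra R S] [IsNoetherianRing R] [IsNoetherianRing S] (I : Ideal R)
    (N : Type u) [AddCommGroup N] [Module S N] [Module R N] [IsScalarTower R S N] [Module.Finite S N] [Module.Flat R N]
    (h : ∀ (p : Ideal R) (q : Ideal S) [p.IsPrime] [q.IsPrime] [q.LiesOver p],
      FlatCA.fiberIdeal p q ∈ associatedPrimes (p.Fiber S) (FlatCA.fiberMod p S N) → I.map (algebraMap R S) ⊔ q ≠ ⊤) :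
    FlatCA.UnivInj R (AdicCompletion.of I N) := by
  apply Groth.Agent.S1199.result (S := S) I N
  intro Q _ _ hQ q hq
  obtain ⟨p', hp', hq'⟩ := step1 N Q hQ q hq
  haveI := hp'
  have hqprime : q.IsPrime := hq.isPrime
  haveI := hqprime
  obtain ⟨_, t, ht⟩ := (isAssociatedPrime_iff).mp hq'
  have hts : ∀ s : S, s • t = 0 ↔ s ∈ q := by
    intro s
    rw [ht, Submodule.mem_colon_singleton, Submodule.mem_bot]
  have htne : t ≠ 0 := by
    intro h0
    apply hqprime.ne_top
    rw [Ideal.eq_top_iff_one, ← hts, h0, smul_zero]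
  have hcomap := comap_eq N p' q t htne hts
  haveI : q.LiesOver p' := ⟨hcomap.symm⟩
  exact h p' q (fiber_ass N p' q t htne hts)

end Groth.Agent.S1200
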