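import Groth.Statements.S1203
import Mathlib
import Groth.Agent.S1200
import Groth.Agent.S1198
import Groth.Agent.S6338
import Groth.Agent.Lib.Helper25.FlatMLProj

set_option autoImplicit false
universe u
open FlatMor

namespace Groth.Agent.S1203


open TensorProduct

theorem countablyGenerated {R S : Type u} [CommRing R] [CommRing S] [Algebra R S]
    [Algebra.FiniteType R S]
    (N : Type u) [AddCommGroup N] [Module S N] [Module R N] [IsScalarTower R S N]
    [Module.Finite S N] : CAlg.IsCountablyGenerated R N := by
  obtain ⟨n, f, hf⟩ := Algebra.FiniteType.iff_quotient_mvPolynomial''.mp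
    (inferInstance : Algebra.FiniteType R S)
  obtain ⟨k, g, hg⟩ := Module.Finite.exists_fin (R := S) (M := N)
  let T : Set N := Set.range
    (fun x : (Fin n →₀ ℕ) × Fin k => f (MvPolynomial.monomial x.1 1) • g x.2)
  have key : ∀ (P : MvPolynomial (Fin n) R) (i : Fin k), f P • g i ∈ Submodule.span R T := by
    intro P i
    induction P using MvPolynomial.induction_on' with
    | monomial u a =>
      have h1 : MvPolynomial.monomial u a = a • MvPolynomial.monomial u (1 : R) := by
        rw [MvPolynomial.smul_monomial, smul_eq_mul, mul_one]
      rw [h1, map_smul, smul_assoc]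
      exact Submodule.smul_mem _ _ (Submodule.subset_span ⟨(u, i), rfl⟩)
    | add p q hp hq =>
      rw [map_add, add_smul]
      exact add_mem hp hq
  refine ⟨T, Set.countable_range _, ?_⟩
  rw [eq_top_iff]
  intro x _
  have hx : x ∈ Submodule.span S (Set.range g) := by rw [hg]; trivial
  obtain ⟨c, rfl⟩ := (Submodule.mem_span_range_iff_exists_fun S).mp hx
  refine Submodule.sum_mem _ fun i _ => ?_
  obtain ⟨P, hP⟩ := hf (c i)
  rw [← hP]
  exact key P i



/-- Let R be a Noetherian ring complete with respect to an ideal I, S a finite type R-algebra and N a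
finite S-module which is flat over R, such that N/IN is a projective R/I-module and such that for
every prime q of S, over p in R, whose extension to the fibre ring over p is an associated prime of
the fibre module of N, the ideal IS + q is proper. Then N is a projective R-module. -/
theorem result {R S : Type u} [CommRing R] [CommRing S] [Algebra R S] [IsNoetherianRing R] (I : Ideal R) [IsAdicComplete I R]
    [Algebra.FiniteType R S]
    (N : Type u) [AddCommGroup N] [Module S N] [Module R N] [IsScalarTower R S N] [Module.Finite S N] [Module.Flat R N]
    [Module.Projective (R ⧸ I) (N ⧸ (I • ⊤ : Submodule R N))]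
    (h : ∀ (p : Ideal R) (q : Ideal S) [p.IsPrime] [q.IsPrime] [q.LiesOver p],
      FlatCA.fiberIdeal p q ∈ associatedPrimes (p.Fiber S) (FlatCA.fiberMod p S N) → I.map (algebraMap R S) ⊔ q ≠ ⊤) :
    Module.Projective R N := by
  haveI : IsNoetherianRing S := Algebra.FiniteType.isNoetherianRing R S
  have hUI := Groth.Agent.S1200.result (S := S) I N h
  obtain ⟨hflat, hML⟩ := Groth.Agent.S1198.result R I N
  have hUI' : CAlgX.UniversallyInjective R (AdicCompletion.of I N) := by
    intro Q _ _
    have h1 := hUI Q
    have hcomm : (AdicCompletion.of I N).rTensor Q =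
        (TensorProduct.comm R Q (AdicCompletion I N)).toLinearMap ∘ₗ
          ((AdicCompletion.of I N).lTensor Q) ∘ₗ (TensorProduct.comm R N Q).toLinearMap := by
      apply TensorProduct.ext'
      intro x y
      simp
    rw [hcomm]
    exact (TensorProduct.comm R Q _).injective.comp
      (h1.comp (TensorProduct.comm R N Q).injective)
  have hMLN : CAlg.IsMittagLeffler R N :=
    Groth.Agent.S6338.result R (AdicCompletion.of I N) hUI' hML
  exact Groth.Agent.Lib.Helper25.FlatMLProj.projective_of_flat_ml_countable R hMLN
    (countablyGenerated (S := S) N)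

end Groth.Agent.S1203
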