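import Groth.Statements.S1205
import Groth.Agent.Lib.Helper24.FibBasisC
import Groth.Agent.Lib.Helper14.FlatOpen.Open

set_option autoImplicit false
universe u
open FlatMor

namespace Groth.Agent.S1205

set_option linter.style.haveILetI false

open Groth.Agent.Lib.Helper24.FibBasisA Groth.Agent.Lib.Helper24.FibBasisB
  Groth.Agent.Lib.Helper24.FibBasisC Groth.Agent.Lib.Helper14.FlatOpen

open TensorProduct in
set_option maxHeartbeats 1600000 in
theorem exists_alpha {S : Type u} [CommRing S] (P : Ideal S) [P.IsPrime] (N : Type u)
    [AddCommGroup N] [Module S N] [Module.Finite S N] :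
    ∃ (r : ℕ) (α : (Fin r → S) →ₗ[S] N), Function.Bijective (α.baseChange P.ResidueField) := by
  classical
  obtain ⟨b, hbs, hspan, hli⟩ := exists_linearIndependent P.ResidueField
    (Set.range (fun n : N => (1 : P.ResidueField) ⊗ₜ[S] n))
  have htop : Submodule.span P.ResidueField
      (Set.range (fun n : N => (1 : P.ResidueField) ⊗ₜ[S] n)) = ⊤ := by
    rw [eq_top_iff]
    rintro z -
    induction z using TensorProduct.induction_on with
    | zero => exact Submodule.zero_mem _
    | tmul a n =>
      have h1 : a ⊗ₜ[S] n = a • ((1 : P.ResidueField) ⊗ₜ[S] n) := by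
        rw [TensorProduct.smul_tmul', smul_eq_mul, mul_one]
      rw [h1]
      exact Submodule.smul_mem _ _ (Submodule.subset_span ⟨n, rfl⟩)
    | add x y hx hy => exact Submodule.add_mem _ hx hy
  rw [htop] at hspan
  have hfin : b.Finite := hli.setFinite
  haveI : Fintype b := hfin.fintype
  let e : Fin (Fintype.card b) ≃ b := (Fintype.equivFin b).symm
  have hx : ∀ i : Fin (Fintype.card b), ∃ n : N,
      (1 : P.ResidueField) ⊗ₜ[S] n = ((e i : b) : P.ResidueField ⊗[S] N) := fun i => hbs (e i).2
  choose x hx using hx
  refine ⟨Fintype.card b, Fintype.linearCombination S x, ?_⟩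
  have hw_li : LinearIndependent P.ResidueField
      (fun i => (1 : P.ResidueField) ⊗ₜ[S] x i) := by
    have h1 := hli.comp e e.injective
    have h2 : (fun i => (1 : P.ResidueField) ⊗ₜ[S] x i) = (Subtype.val ∘ e) := by
      funext i
      exact hx i
    rw [h2]
    exact h1
  have hw_span : Submodule.span P.ResidueField
      (Set.range (fun i => (1 : P.ResidueField) ⊗ₜ[S] x i)) = ⊤ := by
    have h1 : Set.range (fun i => (1 : P.ResidueField) ⊗ₜ[S] x i) = b := by
      ext v
      constructor
      · rintro ⟨i, rfl⟩
        show (1 : P.ResidueField) ⊗ₜ[S] x i ∈ b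
        rw [hx i]
        exact (e i).2
      · intro hv
        refine ⟨e.symm ⟨v, hv⟩, ?_⟩
        show (1 : P.ResidueField) ⊗ₜ[S] x (e.symm ⟨v, hv⟩) = v
        rw [hx, Equiv.apply_symm_apply]
    rw [h1, hspan]
  have hΨ : Function.Bijective (Fintype.linearCombination P.ResidueField
      (fun i => (1 : P.ResidueField) ⊗ₜ[S] x i)) :=
    ⟨linearIndependent_iff_injective_fintypeLinearCombination.1 hw_li, by
      rw [← LinearMap.range_eq_top, Fintype.range_linearCombination, hw_span]⟩
  have hΦΨ : ((Fintype.linearCombination S x).baseChange P.ResidueField) ∘ₗ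
      (TensorProduct.piScalarRight S P.ResidueField P.ResidueField
        (Fin (Fintype.card b))).symm.toLinearMap =
      Fintype.linearCombination P.ResidueField (fun i => (1 : P.ResidueField) ⊗ₜ[S] x i) := by
    ext i
    simp [Fintype.linearCombination_apply_single]
  have hfun : ⇑((Fintype.linearCombination S x).baseChange P.ResidueField) =
      ⇑(Fintype.linearCombination P.ResidueField (fun i => (1 : P.ResidueField) ⊗ₜ[S] x i)) ∘
      ⇑(TensorProduct.piScalarRight S P.ResidueField P.ResidueField (Fin (Fintype.card b))) := by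
    funext z
    rw [Function.comp_apply, ← hΦΨ, LinearMap.comp_apply, LinearEquiv.coe_coe,
      LinearEquiv.symm_apply_apply]
  rw [hfun]
  exact hΨ.comp (LinearEquiv.bijective _)


open TensorProduct in
/-- Let S be a finitely presented flat R-algebra with geometrically integral fibres, q a prime of S over
the prime 𝔯 of R, so that 𝔭 = 𝔯S is a prime of S, and N a finitely presented S-module. Then there is
an S-linear map α from a finite free module S^r to N inducing a bijection after base change to κ(𝔭);
and for any such α the following are equivalent: N_q is flat over R; for some f ∈ R outside 𝔯 the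
localization α_f is universally injective over R and for some g ∈ S outside q the localization of
the cokernel at g is flat over R; α localized at (the image of) 𝔯 is universally injective over R
and the cokernel is flat over R at q; α localized at 𝔯 is injective and the cokernel is flat at q; α
localized at 𝔭 is bijective and the cokernel is flat at q; α localized at q is injective and the
cokernel is flat at q. (Universal injectivity over R_f or R_𝔯 of a map of modules over these
localizations is the same as over R, which is how it is written.) -/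
theorem result {R S : Type u} [CommRing R] [CommRing S] [Algebra R S] [Algebra.FinitePresentation R S] [Module.Flat R S]
    (hgi : FlatCA.GeomIntegralFibres R S) (rr : Ideal R) [rr.IsPrime] [(rr.map (algebraMap R S)).IsPrime]
    (q : Ideal S) [q.IsPrime] [q.LiesOver rr]
    (N : Type u) [AddCommGroup N] [Module S N] [Module R N] [IsScalarTower R S N] [Module.FinitePresentation S N] :
    (∃ (r : ℕ) (α : (Fin r → S) →ₗ[S] N), Function.Bijective (α.baseChange (rr.map (algebraMap R S)).ResidueField)) ∧
    ∀ (r : ℕ) (α : (Fin r → S) →ₗ[S] N), Function.Bijective (α.baseChange (rr.map (algebraMap R S)).ResidueField) →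
      [FlatCA.FlatAt R q N,
       (∃ f : R, f ∉ rr ∧ FlatCA.UnivInj R ((LocalizedModule.map (Submonoid.powers (algebraMap R S f)) α).restrictScalars R)) ∧
         (∃ g : S, g ∉ q ∧ Module.Flat R (LocalizedModule (Submonoid.powers g) (N ⧸ LinearMap.range α))),
       FlatCA.UnivInj R ((LocalizedModule.map (Algebra.algebraMapSubmonoid S rr.primeCompl) α).restrictScalars R) ∧ FlatCA.FlatAt R q (N ⧸ LinearMap.range α),
       Function.Injective (LocalizedModule.map (Algebra.algebraMapSubmonoid S rr.primeCompl) α) ∧ FlatCA.FlatAt R q (N ⧸ LinearMap.range α),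
       Function.Bijective (LocalizedModule.map (rr.map (algebraMap R S)).primeCompl α) ∧ FlatCA.FlatAt R q (N ⧸ LinearMap.range α),
       Function.Injective (LocalizedModule.map q.primeCompl α) ∧ FlatCA.FlatAt R q (N ⧸ LinearMap.range α)].TFAE := by
  classical
  refine ⟨exists_alpha (rr.map (algebraMap R S)) N, ?_⟩
  intro r α hα
  have hq : q.comap (algebraMap R S) = rr := (Ideal.LiesOver.over (p := rr) (P := q)).symm
  have hPq : rr.map (algebraMap R S) ≤ q := Ideal.map_le_iff_le_comap.2 hq.ge
  have hP : (rr.map (algebraMap R S)).comap (algebraMap R S) = rr :=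
    le_antisymm (fun x hx => hq ▸ (Ideal.comap_mono hPq hx)) Ideal.le_comap_map
  have hTrq : Algebra.algebraMapSubmonoid S rr.primeCompl ≤ q.primeCompl := by
    rintro _ ⟨x, hx, rfl⟩ hmem
    apply hx
    rw [← hq]
    exact hmem
  have hleqP : q.primeCompl ≤ (rr.map (algebraMap R S)).primeCompl := fun s hs hmem =>
    hs (hPq hmem)
  haveI : Module.Flat R (Fin r → S) := Module.Flat.trans R S _
  have hcore : FlatCA.FlatAt R q N →
      Function.Bijective (LocalizedModule.map (rr.map (algebraMap R S)).primeCompl α) ∧
      Function.Injective (LocalizedModule.map q.primeCompl α) ∧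
      Module.Flat R (LocalizedModule q.primeCompl (N ⧸ LinearMap.range α)) := by
    intro h0
    have h0' : Module.Flat R (LocalizedModule q.primeCompl N) := h0
    have h0P : Module.Flat R (LocalizedModule (rr.map (algebraMap R S)).primeCompl N) :=
      flat_of_isLocalizedModule_of_isLocalizedModule (A := R) q.primeCompl
        (rr.map (algebraMap R S)).primeCompl hleqP
        (LocalizedModule.mkLinearMap q.primeCompl N)
        (LocalizedModule.mkLinearMap (rr.map (algebraMap R S)).primeCompl N) h0'
    obtain ⟨hinjP, -⟩ := injective_and_flat_coker_at rr (rr.map (algebraMap R S)) hP α hα.1 h0P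
    have hsurjP := surjective_map_of_surjective_baseChange (rr.map (algebraMap R S)) α hα.2
    obtain ⟨hinjq, hCq⟩ := injective_and_flat_coker_at rr q hq α hα.1 h0'
    exact ⟨⟨hinjP, hsurjP⟩, hinjq, hCq⟩
  tfae_have 1 → 2 := by
    intro h0
    obtain ⟨hbijP, -, hCq⟩ := hcore h0
    obtain ⟨h, hhP, hbijh⟩ := Module.FinitePresentation.exists_notMem_bijective α
      (rr.map (algebraMap R S))
      (LocalizedModule.mkLinearMap (rr.map (algebraMap R S)).primeCompl (Fin r → S))
      (LocalizedModule.mkLinearMap (rr.map (algebraMap R S)).primeCompl N) hbijP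
    obtain ⟨f, hf, hfp⟩ := exists_notMem_forall_exists_prime rr (rr.map (algebraMap R S)) hP h hhP
    refine ⟨⟨f, hf, ?_⟩, ?_⟩
    · refine univInj_map_of_bijective_away hgi α (Submonoid.powers (algebraMap R S f)) h hbijh ?_
      intro q₀ _ hdisj
      have hfq₀ : f ∉ q₀.comap (algebraMap R S) := by
        intro hmem
        exact Set.disjoint_left.1 hdisj hmem (Submonoid.mem_powers _)
      obtain ⟨q', hq', hq'c, hhq'⟩ := hfp (q₀.comap (algebraMap R S)) hfq₀
      intro hmem
      apply hhq'
      have hle' : (q₀.comap (algebraMap R S)).map (algebraMap R S) ≤ q' :=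
        Ideal.map_le_iff_le_comap.2 hq'c.ge
      exact hle' hmem
    · haveI : Module.FinitePresentation S (N ⧸ LinearMap.range α) :=
        Module.finitePresentation_of_surjective (LinearMap.range α).mkQ
          (Submodule.mkQ_surjective (LinearMap.range α)) (by
            rw [Submodule.ker_mkQ, LinearMap.range_eq_map]
            exact (Module.Finite.fg_top (R := S) (M := Fin r → S)).map α)
      obtain ⟨g, hg, hgflat⟩ := exists_flatOnD (A := R) q hCq
      exact ⟨g, hg, (flatOnD_iff g).1 hgflat⟩
  tfae_have 2 → 3 := by
    rintro ⟨⟨f, hf, huf⟩, ⟨g, hg, hgflat⟩⟩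
    have hle : Submonoid.powers (algebraMap R S f) ≤
        Algebra.algebraMapSubmonoid S rr.primeCompl :=
      (Submonoid.powers_le).2 ⟨f, hf, rfl⟩
    exact ⟨univInj_map_of_le hle α huf, (flatOnD_iff g).2 hgflat q hg⟩
  tfae_have 3 → 4 := fun ⟨h1, h2⟩ => ⟨injective_of_univInj
    ((LocalizedModule.map (Algebra.algebraMapSubmonoid S rr.primeCompl) α).restrictScalars R) h1,
    h2⟩
  tfae_have 4 → 6 := fun ⟨h1, h2⟩ => ⟨injective_map_of_le hTrq α h1, h2⟩
  tfae_have 6 → 1 := fun ⟨h1, h2⟩ =>
    flat_localized_of_injective_of_flat_coker q.primeCompl α h1 h2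
  tfae_have 1 → 5 := by
    intro h0
    obtain ⟨hbijP, -, hCq⟩ := hcore h0
    exact ⟨hbijP, hCq⟩
  tfae_have 5 → 6 := fun ⟨h1, h2⟩ =>
    ⟨injective_map_of_injective_map rr hgi q hq α h1.1, h2⟩
  tfae_finish

end Groth.Agent.S1205
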