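import Groth.Statements.S15512
import Mathlib
import Groth.Agent.S0563
import Groth.Agent.Lib.Helper26.SerreReg
import Groth.Agent.Lib.Helper9.ProjDim

set_option autoImplicit false
universe u
open CategoryTheory
open CAlg

namespace Groth.Agent.S15512

/-- Let A be a Noetherian ring which is regular (its localization at every maximal ideal is a regular
local ring) and of finite Krull dimension, M a finitely generated A-module and d a natural number.
If Ext^i_A(M, A) vanishes for every i > d, then the projective dimension of M is at most d. -/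
theorem result (A : Type u) [CommRing A]
    [IsNoetherianRing A] (hreg : ∀ m : MaximalSpectrum A, IsRegularLocalRing (Localization.AtPrime m.asIdeal))
    (hdim : ringKrullDim A < ⊤) (M : Type u) [AddCommGroup M] [Module A M] [Module.Finite A M] (d : ℕ)
    (h : ∀ i : ℕ, d < i → Subsingleton (Abelian.Ext (ModuleCat.of A M) (ModuleCat.of A A) i)) :
    HasProjectiveDimensionLT (ModuleCat.of A M) (d + 1) := by
  classical
  obtain ⟨D, hD⟩ : ∃ D : ℕ, ringKrullDim A ≤ (D : WithBot ℕ∞) := by
    generalize ringKrullDim A = x at hdim
    induction x with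
    | bot => exact ⟨0, bot_le⟩
    | coe y =>
      induction y with
      | top => exact absurd hdim (lt_irrefl _)
      | coe n => exact ⟨n, le_rfl⟩
  have hpdD : HasProjectiveDimensionLE (ModuleCat.of A M) D := by
    haveI : Module.Finite A (ModuleCat.of A M) := ‹Module.Finite A M›
    rw [ModuleCat.hasProjectiveDimensionLE_iff_forall_maximalSpectrum D (ModuleCat.of A M)]
    intro m
    haveI : m.1.IsPrime := m.2.isPrime
    haveI hr : IsRegularLocalRing (Localization.AtPrime m.1) := hreg m
    obtain ⟨dm, hdm⟩ := Groth.Agent.Lib.Helper26.SerreReg.exists_nat_ringKrullDim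
      (Localization.AtPrime m.1)
    have hle : dm ≤ D := by
      have h1 := IsLocalization.AtPrime.ringKrullDim_eq_height m.1 (Localization.AtPrime m.1)
      have h2 : (m.1.height : WithBot ℕ∞) ≤ ringKrullDim A :=
        Ideal.height_le_ringKrullDim_of_isPrime
      have h3 : ((dm : ℕ) : WithBot ℕ∞) ≤ (D : WithBot ℕ∞) := by
        rw [← hdm, h1]
        exact h2.trans hD
      exact_mod_cast h3
    haveI := Groth.Agent.S0563.result (Localization.AtPrime m.1) dm hdm
      ((ModuleCat.of A M).localizedModule m.1.primeCompl)
    exact hasProjectiveDimensionLT_of_ge _ (dm + 1) (D + 1) (by omega)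
  have step : ∀ e : ℕ, d ≤ e → HasProjectiveDimensionLT (ModuleCat.of A M) (e + 2) →
      HasProjectiveDimensionLT (ModuleCat.of A M) (e + 1) := by
    intro e hde hlt
    apply Groth.Agent.Lib.Helper9.hasProjectiveDimensionLT_of_cyclic e M
    intro I
    suffices hx : ∀ x : Abelian.Ext (ModuleCat.of A M) (ModuleCat.of A (A ⧸ I)) (e + 1), x = 0 from
      ⟨fun x y => by rw [hx x, hx y]⟩
    intro x
    let S : ShortComplex (ModuleCat.{u} A) :=
      ModuleCat.shortComplexOfCompEqZero (Submodule.subtype I) (Submodule.mkQ I)
        (LinearMap.exact_subtype_mkQ I).linearMap_comp_eq_zero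
    have hS : S.ShortExact := ModuleCat.shortComplex_shortExact S
      (LinearMap.exact_subtype_mkQ I) (Submodule.injective_subtype I) (Submodule.mkQ_surjective I)
    have h0 : Abelian.Ext.comp (X := ModuleCat.of A M) (Y := S.X₃) x hS.extClass
        (rfl : e + 1 + 1 = e + 2) = 0 :=
      Abelian.Ext.eq_zero_of_hasProjectiveDimensionLT _ (e + 2) le_rfl
    obtain ⟨y, hy⟩ := Abelian.Ext.covariant_sequence_exact₃ (ModuleCat.of A M) hS x rfl h0
    haveI : Subsingleton (Abelian.Ext (ModuleCat.of A M) (ModuleCat.of A A) (e + 1)) :=
      h (e + 1) (by omega)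
    have hy0 : y = 0 := Subsingleton.elim (α := Abelian.Ext (ModuleCat.of A M) (ModuleCat.of A A)
      (e + 1)) y 0
    rw [← hy, hy0, Abelian.Ext.zero_comp]
  have main : ∀ j : ℕ, HasProjectiveDimensionLT (ModuleCat.of A M) (d + 1 + j) →
      HasProjectiveDimensionLT (ModuleCat.of A M) (d + 1) := by
    intro j
    induction j with
    | zero => exact id
    | succ j ih =>
      intro hj
      have h1 : HasProjectiveDimensionLT (ModuleCat.of A M) (d + j + 2) := by
        convert hj using 1
        omega
      have h2 := step (d + j) (by omega) h1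
      exact ih (by convert h2 using 1; omega)
  exact main D (hasProjectiveDimensionLT_of_ge _ (D + 1) (d + 1 + D) (by omega))

end Groth.Agent.S15512
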