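import Groth.Statements.S12056
import Mathlib

set_option autoImplicit false
open Red

namespace Groth.Agent.S12056

open MvPowerSeries Finsupp in
/-- coefficient of `Xᵢ^m Xⱼ` in `(Xᵢ + Xⱼ W)^d`. -/
private lemma coeff_pow_aux {R : Type} [CommRing R] (i j : Fin 2) (hij : i ≠ j)
    (W : MvPowerSeries (Fin 2) R) (m d : ℕ) :
    MvPowerSeries.coeff (Finsupp.single i m + Finsupp.single j 1)
      ((MvPowerSeries.X i + MvPowerSeries.X j * W) ^ d) =
    if d ≤ m + 1 then (d : R) * MvPowerSeries.coeff (Finsupp.single i (m + 1 - d)) W else 0 := by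
  classical
  have hej : (Finsupp.single i m + Finsupp.single j 1 : Fin 2 →₀ ℕ) j = 1 := by
    simp [hij]
  cases d with
  | zero =>
    rw [pow_zero, MvPowerSeries.coeff_one, if_neg, if_pos (Nat.zero_le _), Nat.cast_zero, zero_mul]
    intro h
    rw [h] at hej
    simp at hej
  | succ d =>
    obtain ⟨k, hk⟩ := Polynomial.powAddExpansion (MvPowerSeries.X i : MvPowerSeries (Fin 2) R)
      (MvPowerSeries.X j * W) (d + 1)
    rw [hk, Nat.add_sub_cancel]
    have t1 : MvPowerSeries.coeff (Finsupp.single i m + Finsupp.single j 1)
        ((MvPowerSeries.X i : MvPowerSeries (Fin 2) R) ^ (d + 1)) = 0 := by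
      rw [MvPowerSeries.coeff_X_pow, if_neg]
      intro h
      rw [h] at hej
      simp [hij] at hej
    have t3 : MvPowerSeries.coeff (Finsupp.single i m + Finsupp.single j 1)
        (k * (MvPowerSeries.X j * W) ^ 2) = 0 := by
      have e : k * (MvPowerSeries.X j * W) ^ 2 =
          MvPowerSeries.monomial (Finsupp.single j 2) (1 : R) * (k * W ^ 2) := by
        rw [← MvPowerSeries.X_pow_eq]; ring
      rw [e, MvPowerSeries.coeff_monomial_mul, if_neg]
      intro h
      have := h j
      rw [hej] at this
      simp at this
    have t2 : MvPowerSeries.coeff (Finsupp.single i m + Finsupp.single j 1)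
        (((d + 1 : ℕ) : MvPowerSeries (Fin 2) R) * MvPowerSeries.X i ^ d *
          (MvPowerSeries.X j * W)) =
        if d + 1 ≤ m + 1 then ((d + 1 : ℕ) : R) *
          MvPowerSeries.coeff (Finsupp.single i (m + 1 - (d + 1))) W else 0 := by
      have e : ((d + 1 : ℕ) : MvPowerSeries (Fin 2) R) * MvPowerSeries.X i ^ d *
          (MvPowerSeries.X j * W) =
          (d + 1) • (MvPowerSeries.monomial (Finsupp.single i d + Finsupp.single j 1) (1 : R) * W) := by
        rw [nsmul_eq_mul, ← one_mul (1 : R), ← MvPowerSeries.monomial_mul_monomial,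
          ← MvPowerSeries.X_pow_eq, ← MvPowerSeries.X_def]
        ring
      rw [e, map_nsmul, MvPowerSeries.coeff_monomial_mul, nsmul_eq_mul]
      by_cases hd : d ≤ m
      · have hle : (Finsupp.single i d + Finsupp.single j 1 : Fin 2 →₀ ℕ) ≤
            Finsupp.single i m + Finsupp.single j 1 := by
          apply add_le_add_left
          exact Finsupp.single_mono hd
        have hsub : (Finsupp.single i m + Finsupp.single j 1 : Fin 2 →₀ ℕ) -
            (Finsupp.single i d + Finsupp.single j 1) = Finsupp.single i (m + 1 - (d + 1)) := by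
          ext t
          simp only [Finsupp.coe_tsub, Finsupp.coe_add, Pi.sub_apply, Pi.add_apply,
            Finsupp.single_apply]
          split_ifs <;> omega
        rw [if_pos hle, if_pos (Nat.succ_le_succ hd), one_mul, hsub]
      · have hnle : ¬ (Finsupp.single i d + Finsupp.single j 1 : Fin 2 →₀ ℕ) ≤
            Finsupp.single i m + Finsupp.single j 1 := by
          intro h
          have := h i
          simp [hij.symm] at this
          exact hd this
        rw [if_neg hnle, if_neg (by omega), mul_zero]
    rw [map_add, map_add, t1, t2, t3, zero_add, add_zero]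

/-- coefficient of `Xᵢ^m Xⱼ` in `F(Xᵢ + Xⱼ W)`. -/
private lemma coeff_subst_aux {R : Type} [CommRing R] (i j : Fin 2) (hij : i ≠ j)
    (W : MvPowerSeries (Fin 2) R) (F : PowerSeries R) (m : ℕ) :
    MvPowerSeries.coeff (Finsupp.single i m + Finsupp.single j 1)
      (PowerSeries.subst (MvPowerSeries.X i + MvPowerSeries.X j * W) F) =
    ∑ d ∈ Finset.range (m + 2), PowerSeries.coeff d F *
      ((d : R) * MvPowerSeries.coeff (Finsupp.single i (m + 1 - d)) W) := by
  classical
  have hz : PowerSeries.HasSubst (MvPowerSeries.X i + MvPowerSeries.X j * W) := by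
    apply PowerSeries.HasSubst.of_constantCoeff_zero
    simp
  rw [PowerSeries.coeff_subst hz, finsum_eq_sum_of_support_subset (s := Finset.range (m + 2))]
  · apply Finset.sum_congr rfl
    intro d hd
    have hd' : d ≤ m + 1 := by have := Finset.mem_range.1 hd; omega
    rw [coeff_pow_aux i j hij, if_pos hd', smul_eq_mul]
  · intro d hd
    rw [Function.mem_support] at hd
    by_contra hlt
    apply hd
    have hd' : ¬ d ≤ m + 1 := by
      intro h
      apply hlt
      simp only [Finset.coe_range, Set.mem_Iio]
      omega
    rw [coeff_pow_aux i j hij, if_neg hd', smul_zero]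

/-- coefficients of `F(X₀) G(X₁)`. -/
private lemma coeff_mul_subst {R : Type} [CommRing R] (F G : PowerSeries R) (e : Fin 2 →₀ ℕ) :
    MvPowerSeries.coeff e (PowerSeries.subst (MvPowerSeries.X (0 : Fin 2)) F *
      PowerSeries.subst (MvPowerSeries.X (1 : Fin 2)) G : MvPowerSeries (Fin 2) R) =
    PowerSeries.coeff (e 0) F * PowerSeries.coeff (e 1) G := by
  classical
  rw [MvPowerSeries.coeff_mul]
  have hmem : (Finsupp.single (0 : Fin 2) (e 0), Finsupp.single (1 : Fin 2) (e 1)) ∈
      Finset.HasAntidiagonal.antidiagonal e := by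
    rw [Finset.HasAntidiagonal.mem_antidiagonal]
    ext t
    fin_cases t <;> simp
  rw [Finset.sum_eq_single_of_mem _ hmem]
  · rw [PowerSeries.coeff_subst_single, PowerSeries.coeff_subst_single]
    simp
  · rintro ⟨p, q⟩ hpq hne
    rw [Finset.HasAntidiagonal.mem_antidiagonal] at hpq
    simp only
    rw [PowerSeries.coeff_subst_single, PowerSeries.coeff_subst_single]
    by_cases hp : p = Finsupp.single 0 (p 0)
    · by_cases hq : q = Finsupp.single 1 (q 1)
      · exfalso
        apply hne
        have h0 : e 0 = p 0 := by
          rw [← hpq, Finsupp.add_apply, hq]; simp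
        have h1 : e 1 = q 1 := by
          rw [← hpq, Finsupp.add_apply, hp]; simp
        rw [h0, h1, ← hp, ← hq]
      · rw [if_neg hq, mul_zero]
    · rw [if_neg hp, zero_mul]

/-- `F(X₀) = X₀ F₁(X₀) + 1` when `F` has constant term one. -/
private lemma subst_decomp {R : Type} [CommRing R] (F : PowerSeries R)
    (h0 : PowerSeries.constantCoeff F = 1) :
    (PowerSeries.subst (MvPowerSeries.X (0 : Fin 2)) F : MvPowerSeries (Fin 2) R) =
      MvPowerSeries.X 0 * PowerSeries.subst (MvPowerSeries.X (0 : Fin 2))
        (PowerSeries.mk fun n => PowerSeries.coeff (n + 1) F) + 1 := by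
  have hx : PowerSeries.HasSubst (MvPowerSeries.X (0 : Fin 2) : MvPowerSeries (Fin 2) R) :=
    PowerSeries.HasSubst.X 0
  conv_lhs => rw [PowerSeries.eq_X_mul_shift_add_const F]
  rw [PowerSeries.subst_add hx, PowerSeries.subst_mul hx, PowerSeries.subst_X hx, h0,
    PowerSeries.subst_C, map_one]

/-- In formal-power-series form, let R be a commutative ring and F ∈ R⟦X⟧ with constant term 1 whose
linear coefficient a is a unit of R. Suppose that in R⟦X₀, X₁⟧ one has F(X₀ + X₁ · F(X₀)) = F(X₀) ·
F(X₁) (the functional equation F(x + y F(x)) = F(x) F(y)). Then F = 1 + a X. (The published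
statement concerns a morphism to the multiplicative group from an open neighbourhood of the zero
section in the additive group over a base scheme, the identity holding on an open neighbourhood of
the origin of the plane on which all terms are defined, with a the derivative at 0; this row states
it for formal power series over a ring.) -/
theorem result (R : Type) [CommRing R] (F : PowerSeries R)
    (h0 : PowerSeries.constantCoeff F = 1) (ha : IsUnit (PowerSeries.coeff 1 F))
    (hFE : PowerSeries.subst
        (MvPowerSeries.X (0 : Fin 2) + MvPowerSeries.X 1 * PowerSeries.subst (MvPowerSeries.X (0 : Fin 2)) F :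
          MvPowerSeries (Fin 2) R) F =
      PowerSeries.subst (MvPowerSeries.X (0 : Fin 2)) F * PowerSeries.subst (MvPowerSeries.X (1 : Fin 2)) F) :
    F = 1 + PowerSeries.C (PowerSeries.coeff 1 F) * PowerSeries.X := by
  classical
  have c0 : PowerSeries.coeff 0 F = 1 := by
    rw [PowerSeries.coeff_zero_eq_constantCoeff_apply]; exact h0
  -- first family of identities: coefficient of `X₀^m X₁`
  have id1 : ∀ m : ℕ, ∑ d ∈ Finset.range (m + 2), PowerSeries.coeff d F *
      ((d : R) * PowerSeries.coeff (m + 1 - d) F) =
      PowerSeries.coeff m F * PowerSeries.coeff 1 F := by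
    intro m
    have h := congrArg (MvPowerSeries.coeff
      (Finsupp.single (0 : Fin 2) m + Finsupp.single (1 : Fin 2) 1)) hFE
    rw [coeff_subst_aux 0 1 (by decide), coeff_mul_subst] at h
    have hW : ∀ n, MvPowerSeries.coeff (Finsupp.single (0 : Fin 2) n)
        (PowerSeries.subst (MvPowerSeries.X (0 : Fin 2)) F : MvPowerSeries (Fin 2) R) =
        PowerSeries.coeff n F := by
      intro n
      rw [PowerSeries.coeff_subst_single]
      simp
    simp only [hW] at h
    simpa using h
  -- second family of identities: coefficient of `X₀ X₁^m`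
  have id2 : ∀ m : ℕ, 1 ≤ m → PowerSeries.coeff m F * ((m : R) * PowerSeries.coeff 1 F) +
      PowerSeries.coeff (m + 1) F * ((m + 1 : ℕ) : R) =
      PowerSeries.coeff 1 F * PowerSeries.coeff m F := by
    intro m hm
    have h := congrArg (MvPowerSeries.coeff
      (Finsupp.single (1 : Fin 2) m + Finsupp.single (0 : Fin 2) 1)) hFE
    have hz : (MvPowerSeries.X (0 : Fin 2) + MvPowerSeries.X 1 *
        PowerSeries.subst (MvPowerSeries.X (0 : Fin 2)) F : MvPowerSeries (Fin 2) R) =
        MvPowerSeries.X 1 + MvPowerSeries.X 0 * (1 + MvPowerSeries.X 1 *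
          PowerSeries.subst (MvPowerSeries.X (0 : Fin 2))
            (PowerSeries.mk fun n => PowerSeries.coeff (n + 1) F)) := by
      rw [subst_decomp F h0]; ring
    rw [hz, coeff_subst_aux 1 0 (by decide), coeff_mul_subst] at h
    have hW : ∀ n, MvPowerSeries.coeff (Finsupp.single (1 : Fin 2) n)
        (1 + MvPowerSeries.X 1 * PowerSeries.subst (MvPowerSeries.X (0 : Fin 2))
            (PowerSeries.mk fun n => PowerSeries.coeff (n + 1) F) : MvPowerSeries (Fin 2) R) =
        if n = 0 then 1 else if n = 1 then PowerSeries.coeff 1 F else 0 := by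
      intro n
      rw [map_add, MvPowerSeries.coeff_one, MvPowerSeries.X_def, MvPowerSeries.coeff_monomial_mul,
        PowerSeries.coeff_subst_single]
      rcases n with _ | _ | n
      · simp
      · simp
      · have h1 : ¬ (Finsupp.single (1 : Fin 2) (n + 1 + 1) : Fin 2 →₀ ℕ) = 0 := by simp
        have h2 : (Finsupp.single (1 : Fin 2) 1 : Fin 2 →₀ ℕ) ≤
            Finsupp.single (1 : Fin 2) (n + 1 + 1) := Finsupp.single_mono (by omega)
        have h3 : ¬ ((Finsupp.single (1 : Fin 2) (n + 1 + 1) - Finsupp.single (1 : Fin 2) 1 :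
            Fin 2 →₀ ℕ) = Finsupp.single (0 : Fin 2)
              ((Finsupp.single (1 : Fin 2) (n + 1 + 1) - Finsupp.single (1 : Fin 2) 1 :
                Fin 2 →₀ ℕ) 0)) := by
          intro h3
          have := DFunLike.congr_fun h3 1
          simp at this
        rw [if_neg h1, if_pos h2, if_neg h3]
        simp
    simp only [hW] at h
    rw [Finset.sum_range_succ, Finset.sum_range_succ, Finset.sum_eq_zero] at h
    · simpa using h
    · intro d hd
      have hd' := Finset.mem_range.1 hd
      rw [if_neg (by omega), if_neg (by omega), mul_zero, mul_zero]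
  -- `n c_n = 0` for `n ≥ 2`
  have hn : ∀ n : ℕ, 2 ≤ n → (n : R) * PowerSeries.coeff n F = 0 := by
    intro n
    induction n using Nat.strong_induction_on with
    | _ n ih =>
      intro h2
      obtain ⟨m, rfl⟩ : ∃ m, n = m + 1 := ⟨n - 1, by omega⟩
      have h := id1 m
      rw [Finset.sum_range_succ, Finset.sum_eq_single_of_mem 1 (Finset.mem_range.2 (by omega))]
        at h
      · simp only [Nat.add_sub_cancel, Nat.sub_self, c0, mul_one, Nat.cast_one, one_mul] at h
        have : PowerSeries.coeff (m + 1) F * ((m + 1 : ℕ) : R) = 0 := by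
          have h' : PowerSeries.coeff 1 F * PowerSeries.coeff m F +
              PowerSeries.coeff (m + 1) F * ((m + 1 : ℕ) : R) =
              PowerSeries.coeff m F * PowerSeries.coeff 1 F := h
          linear_combination h'
        rw [mul_comm]; exact this
      · intro d hd hd1
        have hd' := Finset.mem_range.1 hd
        rcases Nat.lt_or_ge d 2 with hlt | hge
        · have : d = 0 := by omega
          subst this
          simp
        · have := ih d (by omega) hge
          rw [← mul_assoc, mul_comm (PowerSeries.coeff d F), this, zero_mul]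
  -- `c_n = 0` for `n ≥ 2`
  have hzero : ∀ n : ℕ, 2 ≤ n → PowerSeries.coeff n F = 0 := by
    intro n h2
    have h := id2 n (by omega)
    have e1 : PowerSeries.coeff (n + 1) F * ((n + 1 : ℕ) : R) = 0 := by
      rw [mul_comm]; exact hn (n + 1) (by omega)
    have e2 : PowerSeries.coeff n F * ((n : R) * PowerSeries.coeff 1 F) = 0 := by
      rw [← mul_assoc, mul_comm (PowerSeries.coeff n F), hn n h2, zero_mul]
    rw [e1, e2, add_zero] at h
    exact (ha.mul_right_eq_zero).1 h.symm
  ext n
  rcases n with _ | _ | n
  · simp [c0]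
  · simp
  · rw [hzero (n + 1 + 1) (by omega)]
    simp [PowerSeries.coeff_one, PowerSeries.coeff_X]

end Groth.Agent.S12056
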