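import Groth.Statements.S12057
import Groth.Agent.Lib.Helper16.PicFF.PushInv

set_option autoImplicit false
universe u
open CategoryTheory CategoryTheory.Limits AlgebraicGeometry
open FGA

namespace Groth.Agent.S12057

open Groth.Agent.Lib.Helper3 Groth.Agent.Lib.Helper3.QCSec Groth.Agent.Lib.Helper3.PbBasic
  Groth.Agent.Lib.Helper3.InvGen

/-- Let f : X ⟶ S be a morphism of schemes such that for every open U of S the induced map from sections
of the structure sheaf of S over U to sections of the structure sheaf of X over the inverse image of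
U is bijective. Let L be an invertible module on X which is trivial locally over S: every point of S
has an open neighbourhood U such that the restriction of L to the inverse image of U is isomorphic
to the structure sheaf. Then L is isomorphic to the pullback along f of an invertible module on S.
(The relative Picard group here is the group of global sections of the first higher direct image of
the sheaf of units, so its elements vanishing are exactly the classes trivial locally over the
base.) -/
theorem result {X S : Scheme.{u}} (f : X ⟶ S)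
    (hf : ∀ U : S.Opens, Function.Bijective (f.app U)) (L : X.Modules) (hL : PicF.IsInvertible L)
    (hloc : ∀ s : S, ∃ U : S.Opens, s ∈ U ∧
      Nonempty ((Scheme.Modules.pullback (f ⁻¹ᵁ U).ι).obj L ≅ Coh.structureModule (f ⁻¹ᵁ U))) :
    ∃ N : S.Modules, PicF.IsInvertible N ∧ Nonempty (L ≅ (Scheme.Modules.pullback f).obj N) := by
  have hgen : ∀ s : S, ∃ U : S.Opens, s ∈ U ∧ ∃ t : Γ(L, f ⁻¹ᵁ U), IsGen L (f ⁻¹ᵁ U) t := by
    intro s
    obtain ⟨U, hsU, ⟨θ⟩⟩ := hloc s
    obtain ⟨t, ht⟩ := exists_isGen_of_iso
      ((Scheme.Modules.restrictFunctorIsoPullback (f ⁻¹ᵁ U).ι).app L ≪≫ θ)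
    exact ⟨U, hsU, t, ht⟩
  have hNgen : ∀ (U : S.Opens) (t : Γ(L, f ⁻¹ᵁ U)), IsGen L (f ⁻¹ᵁ U) t →
      IsGen ((Scheme.Modules.pushforward f).obj L) U
        (show Γ((Scheme.Modules.pushforward f).obj L, U) from t) := by
    intro U t ht V hV
    have hV' : f ⁻¹ᵁ V ≤ f ⁻¹ᵁ U := fun _ hx => hV hx
    exact (H16PicFF.bijective_smul_push_iff f L V (hf V) (res L hV' t)).mpr (ht (f ⁻¹ᵁ V) hV')
  have hM : PicF.IsInvertible ((Scheme.Modules.pushforward f).obj L) :=
    isInvertible_of_isGen (fun s => by
      obtain ⟨U, hsU, t, ht⟩ := hgen s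
      exact ⟨U, _, hsU, hNgen U t ht⟩)
  haveI : IsIso ((Scheme.Modules.pullbackPushforwardAdjunction f).counit.app L) := by
    apply Groth.Agent.Lib.Helper3.PbTensor.isIso_of_isGen_cover
    intro x
    obtain ⟨U, hsU, t, ht⟩ := hgen (f x)
    refine ⟨f ⁻¹ᵁ U, pull f _ U t, hsU, isGen_pull f (hNgen U t ht), ?_⟩
    have h1 := Groth.Agent.Lib.Helper3.CounitGG.counit_pull f L U t
    rw [h1]
    exact ht
  exact ⟨_, hM, ⟨(asIso ((Scheme.Modules.pullbackPushforwardAdjunction f).counit.app L)).symm⟩⟩

end Groth.Agent.S12057
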