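import Groth.Statements.S12058
import Mathlib

set_option autoImplicit false
universe w v u
open CategoryTheory CategoryTheory.Limits CategoryTheory.Abelian
open SGA3

namespace Groth.Agent.S12058

/-- In an abelian category, let 0 → A' → A → A'' → 0 be a short exact sequence, φ : A' ⟶ Q a morphism
and π : A'' ⟶ P an epimorphism with kernel C. Consider the quadruples (B, f, g, h) with 0 → Q → B →
P → 0 short exact (maps f, g) and h : A ⟶ B such that the squares commute: (A' → A → B) = (A' → Q →
B) and (A → B → P) = (A → A'' → P). Such a quadruple exists if and only if the image in Ext¹(C, Q)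
of the class of the given extension in Ext¹(A'', A') (push forward along φ, pull back along the
inclusion C → A'') is zero. -/
theorem result {C : Type u} [Category.{v} C] [Abelian C]
    [HasExt.{w} C] {S : ShortComplex C} (hS : S.ShortExact) {Q P : C} (φ : S.X₁ ⟶ Q) (π : S.X₃ ⟶ P) [Epi π] :
    (∃ (B : C) (f : Q ⟶ B) (g : B ⟶ P) (h : S.X₂ ⟶ B) (w : f ≫ g = 0),
        (ShortComplex.mk f g w).ShortExact ∧ S.f ≫ h = φ ≫ f ∧ h ≫ g = S.g ≫ π) ↔
      (Ext.mk₀ (kernel.ι π)).comp (hS.extClass.comp (Ext.mk₀ φ) (add_zero 1)) (zero_add 1) = 0 := by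
  haveI := hS.mono_f
  haveI := hS.epi_g
  constructor
  · rintro ⟨B, f, g, h, w, hT, h1, h2⟩
    let α : S ⟶ ShortComplex.mk f g w :=
      { τ₁ := φ, τ₂ := h, τ₃ := π, comm₁₂ := h1.symm, comm₂₃ := h2 }
    have nat := ShortComplex.ShortExact.extClass_naturality hS hT α
    dsimp [α] at nat
    rw [nat, Ext.mk₀_comp_mk₀_assoc, kernel.condition, Ext.mk₀_zero, Ext.zero_comp]
  · intro h0
    obtain ⟨ι, hι⟩ : ∃ ι : kernel π ⟶ S.X₃, ι = kernel.ι π := ⟨_, rfl⟩
    haveI : Mono ι := by rw [hι]; infer_instance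
    have hιπ : ι ≫ π = 0 := by rw [hι]; exact kernel.condition π
    rw [← hι] at h0
    have hjq : pullback.fst S.g ι ≫ S.g = pullback.snd S.g ι ≫ ι := pullback.condition
    obtain ⟨f', hf'j, hf'q⟩ : ∃ f' : S.X₁ ⟶ pullback S.g ι,
        f' ≫ pullback.fst S.g ι = S.f ∧ f' ≫ pullback.snd S.g ι = 0 :=
      ⟨pullback.lift S.f 0 (by simp), pullback.lift_fst _ _ _, pullback.lift_snd _ _ _⟩
    haveI : Mono f' := mono_of_mono_fac hf'j
    haveI : Mono (pullback.fst S.g ι) := inferInstance
    haveI : Epi (pullback.snd S.g ι) := inferInstance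
    have hSC : (ShortComplex.mk f' (pullback.snd S.g ι) hf'q).ShortExact := by
      refine ShortComplex.ShortExact.mk' (ShortComplex.exact_of_f_is_kernel _ ?_)
        (by dsimp; infer_instance) (by dsimp; infer_instance)
      refine KernelFork.IsLimit.ofι' _ _
        (fun {W} t ht => ⟨hS.exact.lift (t ≫ pullback.fst S.g ι) ?_, ?_⟩)
      · dsimp at ht
        rw [Category.assoc, hjq, ← Category.assoc, ht, zero_comp]
      · dsimp at ht ⊢
        apply pullback.hom_ext
        · rw [Category.assoc, hf'j, ShortComplex.Exact.lift_f]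
        · rw [Category.assoc, hf'q, comp_zero, ht]
    let β : ShortComplex.mk f' (pullback.snd S.g ι) hf'q ⟶ S :=
      { τ₁ := 𝟙 _, τ₂ := pullback.fst S.g ι, τ₃ := ι,
        comm₁₂ := by dsimp; rw [Category.id_comp, hf'j], comm₂₃ := hjq }
    have nat := ShortComplex.ShortExact.extClass_naturality hSC hS β
    dsimp [β] at nat
    rw [Ext.comp_mk₀_id] at nat
    have h1 : hSC.extClass.comp (Ext.mk₀ φ) (add_zero 1) = 0 := by
      rw [nat, Ext.comp_assoc_of_third_deg_zero]; exact h0
    obtain ⟨x₂, hx₂⟩ := Ext.contravariant_sequence_exact₁ hSC Q (Ext.mk₀ φ) (add_zero 1) h1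
    obtain ⟨ψ, rfl⟩ := (Ext.mk₀_bijective _ _).2 x₂
    dsimp at ψ hx₂
    rw [Ext.mk₀_comp_mk₀] at hx₂
    have hψ : f' ≫ ψ = φ := (Ext.mk₀_bijective _ _).1 hx₂
    have hg0 : pullback.fst S.g ι ≫ (S.g ≫ π) = ψ ≫ (0 : Q ⟶ P) := by
      rw [← Category.assoc, hjq, Category.assoc, hιπ, comp_zero, comp_zero]
    refine ⟨pushout (pullback.fst S.g ι) ψ, pushout.inr _ ψ, pushout.desc (S.g ≫ π) 0 hg0,
      pushout.inl _ ψ, pushout.inr_desc _ _ _, ?_, ?_, ?_⟩
    · haveI : Epi (pushout.desc (S.g ≫ π) 0 hg0) := by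
        have hfac : pushout.inl (pullback.fst S.g ι) ψ ≫ pushout.desc (S.g ≫ π) 0 hg0 = S.g ≫ π :=
          pushout.inl_desc _ _ _
        haveI : Epi (S.g ≫ π) := epi_comp _ _
        exact epi_of_epi_fac hfac
      refine ShortComplex.ShortExact.mk' (ShortComplex.exact_of_g_is_cokernel _ ?_)
        (by dsimp; infer_instance) (by dsimp; infer_instance)
      refine CokernelCofork.IsColimit.ofπ' _ _ (fun {Z} t ht => ?_)
      dsimp at t ht
      have e1 : S.f ≫ (pushout.inl (pullback.fst S.g ι) ψ ≫ t) = 0 := by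
        rw [← hf'j, Category.assoc, ← Category.assoc (pullback.fst S.g ι), pushout.condition,
          Category.assoc, ht, comp_zero, comp_zero]
      have e2 : kernel.ι π ≫ hS.exact.desc (pushout.inl (pullback.fst S.g ι) ψ ≫ t) e1 = 0 := by
        rw [← hι, ← cancel_epi (pullback.snd S.g ι), ← Category.assoc, ← hjq, Category.assoc,
          ShortComplex.Exact.g_desc, comp_zero, ← Category.assoc, pushout.condition,
          Category.assoc, ht, comp_zero]
      refine ⟨Abelian.epiDesc π (hS.exact.desc (pushout.inl (pullback.fst S.g ι) ψ ≫ t) e1) e2, ?_⟩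
      dsimp
      apply pushout.hom_ext
      · rw [← Category.assoc, pushout.inl_desc, Category.assoc, Abelian.comp_epiDesc,
          ShortComplex.Exact.g_desc]
      · rw [← Category.assoc, pushout.inr_desc, zero_comp, ht]
    · rw [← hψ, Category.assoc, ← pushout.condition, ← Category.assoc, hf'j]
    · exact pushout.inl_desc _ _ _

end Groth.Agent.S12058
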