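import Groth.Statements.S12059
import Groth.Agent.Lib.Helper11.IQ1
import Groth.Agent.Lib.Helper11.IQ2

set_option autoImplicit false
universe u
open CategoryTheory CategoryTheory.Limits AlgebraicGeometry
open SGA1

namespace Groth.Agent.S12059

open Groth.Agent.Lib.Helper11.IQ1 Groth.Agent.Lib.Helper11.IQ2

theorem appLE_top_SpecMap {R S : CommRingCat.{u}} (φ : R ⟶ S)
    (e : (⊤ : (Spec S).Opens) ≤ (Spec.map φ) ⁻¹ᵁ ⊤) (s : Γ(Spec R, ⊤)) :
    (Scheme.ΓSpecIso S).hom.hom (((Spec.map φ).appLE ⊤ ⊤ e).hom s) =
      φ.hom ((Scheme.ΓSpecIso R).hom.hom s) := by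
  have h1 : (Spec.map φ).appLE ⊤ ⊤ e = (Spec.map φ).appTop := by
    rw [Scheme.Hom.appTop, Scheme.Hom.app_eq_appLE]
    rfl
  rw [h1]
  have h2 := congrArg (fun f => f.hom s) (Scheme.ΓSpecIso_naturality φ)
  exact h2

theorem app_top_SpecMap {R S : CommRingCat.{u}} (φ : R ⟶ S) (s : Γ(Spec R, ⊤)) :
    (Scheme.ΓSpecIso S).hom.hom (((Spec.map φ).app ⊤).hom s) =
      φ.hom ((Scheme.ΓSpecIso R).hom.hom s) := by
  have h2 := congrArg (fun f => f.hom s) (Scheme.ΓSpecIso_naturality φ)
  exact h2

theorem ΓSpecIso_hom_injective (R : CommRingCat.{u}) :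
    Function.Injective (Scheme.ΓSpecIso R).hom.hom := by
  intro a b hab
  have := congrArg (Scheme.ΓSpecIso R).inv.hom hab
  simpa using this

theorem ΓSpecIso_hom_surjective (R : CommRingCat.{u}) :
    Function.Surjective (Scheme.ΓSpecIso R).hom.hom := by
  intro a
  exact ⟨(Scheme.ΓSpecIso R).inv.hom a, by simp⟩

/-- Let a finite group G act on a commutative ring A by ring automorphisms σ_g, and let B → A be
injective, G-equivariant for the trivial action on B, with image containing all G-invariants (so B
is the ring of invariants A^G). Let ρ be an action of G on Spec A by scheme automorphisms whose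
automorphisms are exactly the maps Spec(σ_g). Then Spec A ⟶ Spec B is a quotient of Spec A by G, and
the structure sheaf of Spec B is the sheaf of G-invariants of the direct image of the structure
sheaf of Spec A: the map is affine and G-invariant, and for every open U of Spec B the sections of
the structure sheaf of Spec B over U map injectively onto the G-invariant sections of the structure
sheaf of Spec A over the inverse image of U. -/
theorem result (G : Type u) [Group G] [Finite G] (A B : Type u) [CommRing A] [CommRing B]
    [Algebra B A] [MulSemiringAction G A] [SMulCommClass G B A] [Algebra.IsInvariant B A G] [FaithfulSMul B A]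
    (ρ : G →* Aut (Spec (CommRingCat.of A)))
    (hρ : Set.range (fun g : G => (ρ g).hom) =
      Set.range (fun g : G => Spec.map (CommRingCat.ofHom (MulSemiringAction.toRingHom G A g)))) :
    SGA1.IsQuot ρ (Spec.map (CommRingCat.ofHom (algebraMap B A))) := by
  have hinv : ∀ g : G, (ρ g).hom ≫ Spec.map (CommRingCat.ofHom (algebraMap B A)) =
      Spec.map (CommRingCat.ofHom (algebraMap B A)) := by
    intro g
    obtain ⟨g', hg'⟩ : (ρ g).hom ∈ Set.range (fun g : G =>
        Spec.map (CommRingCat.ofHom (MulSemiringAction.toRingHom G A g))) := by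
      rw [← hρ]; exact ⟨g, rfl⟩
    have hg'' : Spec.map (CommRingCat.ofHom (MulSemiringAction.toRingHom G A g')) = (ρ g).hom := hg'
    rw [← hg'', ← Spec.map_comp]
    congr 1
    ext b
    show g' • algebraMap B A b = algebraMap B A b
    exact smul_algebraMap g' b
  apply isQuot_of_affine_cover ρ _ hinv {⊤}
  · rintro V rfl
    exact isAffineOpen_top _
  · intro y
    exact ⟨⊤, rfl, trivial⟩
  · rintro V rfl
    constructor
    · intro a b hab
      apply ΓSpecIso_hom_injective
      apply FaithfulSMul.algebraMap_injective B A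
      have h1 := app_top_SpecMap (CommRingCat.ofHom (algebraMap B A)) a
      have h2 := app_top_SpecMap (CommRingCat.ofHom (algebraMap B A)) b
      rw [hab] at h1
      exact h1.symm.trans h2
    · intro s hs
      have hfix : ∀ g' : G, g' • (Scheme.ΓSpecIso (CommRingCat.of A)).hom.hom s =
          (Scheme.ΓSpecIso (CommRingCat.of A)).hom.hom s := by
        intro g'
        obtain ⟨g, hg⟩ : Spec.map (CommRingCat.ofHom (MulSemiringAction.toRingHom G A g')) ∈
            Set.range (fun g : G => (ρ g).hom) := by
          rw [hρ]; exact ⟨g', rfl⟩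
        have hg2 : (ρ g).hom = Spec.map (CommRingCat.ofHom (MulSemiringAction.toRingHom G A g')) := hg
        have h1 := hs g
        have h3 : ∀ (f : Spec (CommRingCat.of A) ⟶ Spec (CommRingCat.of A))
            (hf : f = Spec.map (CommRingCat.ofHom (MulSemiringAction.toRingHom G A g')))
            (e : (⊤ : (Spec (CommRingCat.of A)).Opens) ≤ f ⁻¹ᵁ ⊤), (f.appLE ⊤ ⊤ e).hom s = s →
            g' • (Scheme.ΓSpecIso (CommRingCat.of A)).hom.hom s =
              (Scheme.ΓSpecIso (CommRingCat.of A)).hom.hom s := by
          intro f hf e h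
          subst hf
          have h4 := appLE_top_SpecMap (CommRingCat.ofHom (MulSemiringAction.toRingHom G A g')) e s
          rw [h] at h4
          exact h4.symm
        exact h3 _ hg2 _ h1
      obtain ⟨b, hb⟩ := Algebra.IsInvariant.isInvariant (A := B) (G := G) _ hfix
      obtain ⟨b', rfl⟩ := ΓSpecIso_hom_surjective (CommRingCat.of B) b
      refine ⟨b', ?_⟩
      apply ΓSpecIso_hom_injective
      rw [app_top_SpecMap]
      exact hb

end Groth.Agent.S12059
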