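import Groth.Statements.S1206
import Mathlib.RingTheory.Nakayama
import Mathlib.RingTheory.LocalRing.MaximalIdeal.Basic
import Mathlib.RingTheory.Finiteness.Ideal
import Mathlib.RingTheory.Finiteness.Basic
import Mathlib.Order.Zorn
import Mathlib.Order.CompactlyGenerated.Basic
-- import your own Groth.Agent.* helpers here

set_option autoImplicit false
universe u
open FlatMor

namespace Groth.Agent.S1206

/-- Let A be a local domain which is not a field and 𝒮 a set of finitely generated ideals of A, closed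
under products, such that the union of the closed sets V(I), I ∈ 𝒮, is exactly the set of nonzero
primes (every nonzero prime contains a member of 𝒮 and no member is zero). Then the intersection of
all members of 𝒮 is zero. -/
theorem result (A : Type u) [CommRing A] [IsDomain A] [IsLocalRing A] (hA : ¬ IsField A)
    (𝒮 : Set (Ideal A)) (hfg : ∀ I ∈ 𝒮, I.FG) (hmul : ∀ I ∈ 𝒮, ∀ J ∈ 𝒮, I * J ∈ 𝒮)
    (hne : ∀ I ∈ 𝒮, I ≠ ⊥) (hcov : ∀ (p : Ideal A), p.IsPrime → p ≠ ⊥ → ∃ I ∈ 𝒮, I ≤ p) :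
    sInf 𝒮 = ⊥ := by
  rw [eq_bot_iff]
  intro x hx
  rw [Ideal.mem_bot]
  by_contra hx0
  have hxmem : ∀ I ∈ 𝒮, x ∈ I := fun I hI => (Submodule.mem_sInf.mp hx) I hI
  have hm0 : IsLocalRing.maximalIdeal A ≠ ⊥ := fun h =>
    hA (IsLocalRing.isField_iff_maximalIdeal_eq.mpr h)
  obtain ⟨I₀, hI₀, hI₀m⟩ := hcov _ (IsLocalRing.maximalIdeal.isMaximal A).isPrime hm0
  have key : ∃ J ∈ 𝒮, J ≤ Ideal.span {x} := by
    by_contra hno
    push Not at hno
    obtain ⟨P, hxP, hPmem, hPmax⟩ := zorn_le_nonempty₀ {𝔟 : Ideal A | ∀ J ∈ 𝒮, ¬ J ≤ 𝔟} (by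
      intro c hc hchain y hy
      refine ⟨sSup c, ?_, fun z hz => le_sSup hz⟩
      intro J hJ hle
      have hcomp : IsCompactElement J := (Submodule.fg_iff_compact J).mp (hfg J hJ)
      rw [CompleteLattice.isCompactElement_iff_le_of_directed_sSup_le] at hcomp
      obtain ⟨b, hb, hJb⟩ := hcomp c ⟨y, hy⟩ hchain.directedOn hle
      exact hc hb J hJ hJb) (Ideal.span {x}) hno
    have hPtop : P ≠ ⊤ := fun h => hPmem I₀ hI₀ (h ▸ le_top)
    have hPprime : P.IsPrime := by
      refine ⟨hPtop, ?_⟩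
      intro a b hab
      by_contra hcon
      push Not at hcon
      obtain ⟨ha, hb⟩ := hcon
      have h1 : ∃ J ∈ 𝒮, J ≤ P ⊔ Ideal.span {a} := by
        by_contra h
        push Not at h
        have := hPmax h le_sup_left
        exact ha (this (Ideal.mem_sup_right (Ideal.mem_span_singleton_self a)))
      have h2 : ∃ J ∈ 𝒮, J ≤ P ⊔ Ideal.span {b} := by
        by_contra h
        push Not at h
        have := hPmax h le_sup_left
        exact hb (this (Ideal.mem_sup_right (Ideal.mem_span_singleton_self b)))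
      obtain ⟨J₁, hJ₁, hJ₁le⟩ := h1
      obtain ⟨J₂, hJ₂, hJ₂le⟩ := h2
      refine hPmem (J₁ * J₂) (hmul J₁ hJ₁ J₂ hJ₂) ?_
      refine (Ideal.mul_mono hJ₁le hJ₂le).trans ?_
      rw [Ideal.sup_mul, Ideal.mul_sup, Ideal.mul_sup, Ideal.span_singleton_mul_span_singleton]
      refine sup_le (sup_le Ideal.mul_le_left Ideal.mul_le_left) (sup_le Ideal.mul_le_right ?_)
      rw [Ideal.span_singleton_le_iff_mem]
      exact hab
    have hP0 : P ≠ ⊥ := by
      intro h
      apply hx0
      have : x ∈ P := hxP (Ideal.mem_span_singleton_self x)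
      rwa [h, Ideal.mem_bot] at this
    obtain ⟨I, hI, hIP⟩ := hcov P hPprime hP0
    exact hPmem I hI hIP
  obtain ⟨J, hJ, hJx⟩ := key
  have hJJ : Ideal.span {x} ≤ J * J := by
    rw [Ideal.span_singleton_le_iff_mem]
    exact hxmem _ (hmul J hJ J hJ)
  have hJtop : J ≠ ⊤ := by
    intro h
    have h1 : Ideal.span {x} = ⊤ := top_le_iff.mp (h ▸ hJx)
    have h2 : x ∈ IsLocalRing.maximalIdeal A := hI₀m (hxmem I₀ hI₀)
    have h3 : IsUnit x := Ideal.span_singleton_eq_top.mp h1
    exact (IsLocalRing.mem_maximalIdeal x).mp h2 h3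
  have hJjac : J ≤ Ideal.jacobson ⊥ := by
    rw [IsLocalRing.jacobson_eq_maximalIdeal ⊥ bot_ne_top]
    exact IsLocalRing.le_maximalIdeal hJtop
  have : J = ⊥ := Submodule.eq_bot_of_le_smul_of_le_jacobson_bot J J (hfg J hJ)
    (by rw [smul_eq_mul]; exact hJx.trans hJJ) hJjac
  exact hne J hJ this

end Groth.Agent.S1206
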