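import Groth.Statements.S12067
import Groth.Agent.Lib.Helper19.Unip1

set_option autoImplicit false
universe u
open TensorProduct
open SGA3t2b

namespace Groth.Agent.S12067

open Groth.Agent.Lib.Helper19.Unip Groth.Agent.Lib.Helper19.LinearGrp
  Groth.Agent.Lib.Helper19.Reynolds Groth.Agent.Lib.Helper19.Coalg

section Flag

variable {k : Type u} [Field k] {A : Type u} [CommRing A] [Bialgebra k A]
  {V : Type u} [AddCommGroup V] [Module k V] [HopfRep.Comod k A V]

/-- the flag attached to a basis -/
noncomputable def flagF {n : ℕ} (b : Module.Basis (Fin n) k V) (i : Fin (n + 1)) :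
    Submodule k V :=
  Submodule.span k (Set.range fun l : Fin (i : ℕ) => b (Fin.castLE (Nat.lt_succ_iff.1 i.2) l))

omit [HopfRep.Comod k A V] in
lemma mem_flagF {n : ℕ} (b : Module.Basis (Fin n) k V) (i : Fin (n + 1)) (l : Fin n)
    (h : (l : ℕ) < i) : b l ∈ flagF b i :=
  Submodule.subset_span ⟨⟨l, h⟩, rfl⟩

omit [HopfRep.Comod k A V] in
lemma flagF_zero {n : ℕ} (b : Module.Basis (Fin n) k V) : flagF b 0 = ⊥ := by
  unfold flagF
  rw [Submodule.span_eq_bot]
  rintro _ ⟨l, rfl⟩
  exact absurd l.2 (by simp)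

omit [HopfRep.Comod k A V] in
lemma flagF_last {n : ℕ} (b : Module.Basis (Fin n) k V) : flagF b (Fin.last n) = ⊤ := by
  rw [eq_top_iff, ← b.span_eq]
  apply Submodule.span_le.2
  rintro _ ⟨l, rfl⟩
  exact mem_flagF b _ l (by rw [Fin.val_last]; exact l.2)

omit [HopfRep.Comod k A V] in
lemma finrank_flagF {n : ℕ} (b : Module.Basis (Fin n) k V) (i : Fin (n + 1)) :
    Module.finrank k (flagF b i) = i := by
  unfold flagF
  rw [finrank_span_eq_card, Fintype.card_fin]
  exact b.linearIndependent.comp _ (Fin.castLE_injective _)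

omit [HopfRep.Comod k A V] in
lemma flagF_le {n : ℕ} (b : Module.Basis (Fin n) k V) (i : Fin n) :
    flagF b i.castSucc ≤ flagF b i.succ := by
  apply Submodule.span_le.2
  rintro _ ⟨l, rfl⟩
  apply mem_flagF
  have := l.2
  simp only [Fin.coe_castLE, Fin.val_succ, Fin.val_castSucc] at this ⊢
  omega

lemma isSubcomod_flagF {n : ℕ} (b : Module.Basis (Fin n) k V)
    (hl : ∀ i j, j < i → mc (C := A) b i j = 0) (i : Fin (n + 1)) :
    HopfRep.IsSubcomod (k := k) (A := A) (flagF b i) := by
  have hle : flagF b i ≤ Submodule.comap (HopfRep.Comod.coact (k := k) (A := A))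
      (LinearMap.range ((flagF b i).subtype.rTensor A)) := by
    apply Submodule.span_le.2
    rintro _ ⟨l, rfl⟩
    rw [SetLike.mem_coe, Submodule.mem_comap, coact_basis b]
    apply Submodule.sum_mem
    intro m _
    by_cases hm : Fin.castLE (Nat.lt_succ_iff.1 i.2) l < m
    · rw [hl m _ hm, TensorProduct.tmul_zero]
      exact zero_mem _
    · have hm' : (m : ℕ) < i := by
        have h1 := Fin.le_def.1 (not_lt.1 hm)
        have h2 := l.2
        simp only [Fin.coe_castLE] at h1
        omega
      exact ⟨(⟨b m, mem_flagF b i m hm'⟩ : flagF b i) ⊗ₜ[k] mc (C := A) b m _, rfl⟩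
  exact fun w hw => hle hw

lemma coact_sub_mem_flagF {n : ℕ} (b : Module.Basis (Fin n) k V)
    (hl : ∀ i j, j < i → mc (C := A) b i j = 0) (hd : ∀ i, mc (C := A) b i i = 1)
    (i : Fin n) (v : V) (hv : v ∈ flagF b i.succ) :
    HopfRep.Comod.coact (k := k) (A := A) v - v ⊗ₜ[k] (1 : A) ∈
      LinearMap.range ((flagF b i.castSucc).subtype.rTensor A) := by
  classical
  have hle : flagF b i.succ ≤ Submodule.comap
      (HopfRep.Comod.coact (k := k) (A := A) - (TensorProduct.mk k V A).flip 1)
      (LinearMap.range ((flagF b i.castSucc).subtype.rTensor A)) := by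
    apply Submodule.span_le.2
    rintro _ ⟨l, rfl⟩
    beta_reduce
    rw [SetLike.mem_coe, Submodule.mem_comap, LinearMap.sub_apply, LinearMap.flip_apply,
      TensorProduct.mk_apply, coact_basis b]
    have hlv : ((Fin.castLE (Nat.lt_succ_iff.1 i.succ.2) l : Fin n) : ℕ) = l := Fin.coe_castLE _ _
    generalize Fin.castLE (Nat.lt_succ_iff.1 i.succ.2) l = l' at hlv ⊢
    rw [← Finset.add_sum_erase Finset.univ _ (Finset.mem_univ l'), hd l', add_sub_cancel_left]
    apply Submodule.sum_mem
    intro m hm
    have hne : m ≠ l' := (Finset.mem_erase.1 hm).1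
    by_cases hm' : l' < m
    · rw [hl m l' hm', TensorProduct.tmul_zero]
      exact zero_mem _
    · have hlt : m < l' := lt_of_le_of_ne (not_lt.1 hm') hne
      have hmi : (m : ℕ) < i.castSucc := by
        have h1 := Fin.lt_def.1 hlt
        have h2 := l.2
        simp only [Fin.val_succ] at h2
        simp only [Fin.val_castSucc]
        omega
      exact ⟨(⟨b m, mem_flagF b _ m hmi⟩ : flagF b i.castSucc) ⊗ₜ[k] mc (C := A) b m l', rfl⟩
  have := hle hv
  rwa [Submodule.mem_comap, LinearMap.sub_apply, LinearMap.flip_apply,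
    TensorProduct.mk_apply] at this

end Flag


/-- In Hopf-algebra form, let k be a field and A a finitely generated commutative Hopf algebra over k
(an affine algebraic group G) which is unipotent: every nonzero finite-dimensional comodule has a
nonzero fixed vector. Then every finite-dimensional comodule V (a finite-dimensional representation
of G), of dimension n, has a flag of subcomodules 0 = V_0 ⊂ V_1 ⊂ ⋯ ⊂ V_n = V with one-dimensional
successive quotients on which G acts trivially: for v ∈ V_(i+1) the coaction of v is congruent to v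
⊗ 1 modulo V_i ⊗ A. -/
theorem result (k : Type u) [Field k] (A : Type u) [CommRing A]
    [HopfAlgebra k A] [Algebra.FiniteType k A] (hU : HopfRep.IsUnipotent k A)
    (V : Type u) [AddCommGroup V] [Module k V] [HopfRep.Comod k A V] [Module.Finite k V] :
    ∃ F : Fin (Module.finrank k V + 1) → Submodule k V,
      F 0 = ⊥ ∧ F (Fin.last _) = ⊤ ∧
      (∀ i : Fin (Module.finrank k V + 1), HopfRep.IsSubcomod (k := k) (A := A) (F i)) ∧
      ∀ i : Fin (Module.finrank k V), F i.castSucc ≤ F i.succ ∧
        Module.finrank k ↥(F i.succ) = Module.finrank k ↥(F i.castSucc) + 1 ∧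
        ∀ v ∈ F i.succ, HopfRep.Comod.coact (k := k) (A := A) v - v ⊗ₜ[k] (1 : A) ∈
          LinearMap.range ((F i.castSucc).subtype.rTensor A) := by
  obtain ⟨b, hl, hd⟩ := exists_ut_basis hU (Module.finrank k V) V rfl
  refine ⟨flagF b, flagF_zero b, flagF_last b, isSubcomod_flagF b hl, fun i => ⟨flagF_le b i, ?_,
    coact_sub_mem_flagF b hl hd i⟩⟩
  rw [finrank_flagF, finrank_flagF, Fin.val_succ, Fin.val_castSucc]

end Groth.Agent.S12067
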