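import Groth.Statements.S1207
import Mathlib.RingTheory.Nakayama
import Mathlib.RingTheory.LocalRing.MaximalIdeal.Basic
import Mathlib.RingTheory.Finiteness.Ideal
-- import your own Groth.Agent.* helpers here

set_option autoImplicit false
universe u
open FlatMor

namespace Groth.Agent.S1207

/-- Let A be a local ring and I, J ideals of A with J finitely generated, J ≠ A, and I ⊆ J^n for all n ≥
1. Then every prime p not containing J which is maximal among the primes not containing J (a closed
point of Spec A ∖ V(J)) contains I. (The published statement leaves the hypothesis J ≠ A implicit;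
for J = A the assertion fails.) -/
theorem result (A : Type u) [CommRing A] [IsLocalRing A] (I J : Ideal A) (hJ : J.FG) (hJ1 : J ≠ ⊤)
    (hI : ∀ n : ℕ, 1 ≤ n → I ≤ J ^ n) (p : Ideal A) [p.IsPrime] (hp : ¬ J ≤ p)
    (hmax : ∀ (p' : Ideal A), p'.IsPrime → p ≤ p' → ¬ J ≤ p' → p' = p) : I ≤ p := by
  intro x hxI
  by_contra hxp
  have hrad : J ≤ (p ⊔ Ideal.span {x}).radical := by
    rw [Ideal.radical_eq_sInf]
    refine le_sInf ?_
    rintro p' ⟨hle, hp'⟩
    by_contra hJp'
    have := hmax p' hp' (le_sup_left.trans hle) hJp'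
    apply hxp
    rw [← this]
    exact hle (Ideal.mem_sup_right (Ideal.mem_span_singleton_self x))
  obtain ⟨m, hm⟩ := Ideal.exists_pow_le_of_le_radical_of_fg hrad hJ
  have hxm : Ideal.span {x} ≤ J ^ (m + 1) := by
    rw [Ideal.span_singleton_le_iff_mem]
    exact hI (m + 1) (by omega) hxI
  have hJjac : J ≤ Ideal.jacobson ⊥ := by
    rw [IsLocalRing.jacobson_eq_maximalIdeal ⊥ bot_ne_top]
    exact IsLocalRing.le_maximalIdeal hJ1
  have h3 : J ^ m ≤ p ⊔ J • (J ^ m) := by
    refine hm.trans (sup_le_sup_left ?_ _)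
    rw [smul_eq_mul, ← pow_succ']
    exact hxm
  have h4 : J ^ m ≤ p := Submodule.le_of_le_smul_of_le_jacobson_bot (Ideal.FG.pow hJ) hJjac h3
  exact hp (Ideal.IsPrime.le_of_pow_le h4)

end Groth.Agent.S1207
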