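import Groth.Statements.S12071
import Mathlib

set_option autoImplicit false
open RootD

namespace Groth.Agent.S12071

/-- Let G be the group generated by two elements x, y subject to x² = y² = 1 (the infinite dihedral
group; here Mathlib's DihedralGroup 0 with x = sr 0 and y = sr 1, so that x y = r 1). Then every
normal subgroup of G containing neither x nor y is generated by an element (x y)^n with n > 0; such
a subgroup is cyclic, generated by r n. (The published statement does not exclude the trivial
subgroup, for which no n > 0 works; this row assumes the subgroup nontrivial.) -/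
theorem result (N : Subgroup (DihedralGroup 0)) [N.Normal]
    (hN : N ≠ ⊥) (hx : DihedralGroup.sr (0 : ZMod 0) ∉ N) (hy : DihedralGroup.sr (1 : ZMod 0) ∉ N) :
    ∃ n : ℕ, 0 < n ∧ N = Subgroup.zpowers (DihedralGroup.r (n : ZMod 0)) := by
  classical
  have mem_of_eq : ∀ {g1 g2 : DihedralGroup 0}, g1 = g2 → g1 ∈ N → g2 ∈ N :=
    fun e h => e ▸ h
  -- no reflections in N
  have hsr : ∀ i : ℤ, DihedralGroup.sr (i : ZMod 0) ∉ N := by
    intro i hi
    have hconj : ∀ k : ℤ, DihedralGroup.sr ((i - k - k : ℤ) : ZMod 0) ∈ N := by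
      intro k
      have h := (inferInstance : N.Normal).conj_mem _ hi (DihedralGroup.r (k : ZMod 0))
      rw [DihedralGroup.r_mul_sr, DihedralGroup.inv_r, DihedralGroup.sr_mul_r] at h
      refine mem_of_eq (congrArg DihedralGroup.sr ?_) h
      show (i - k + -k : ℤ) = i - k - k
      ring
    rcases Int.even_or_odd' i with ⟨k, hk | hk⟩
    · apply hx
      refine mem_of_eq (congrArg DihedralGroup.sr ?_) (hconj k)
      show (i - k - k : ℤ) = 0
      omega
    · apply hy
      refine mem_of_eq (congrArg DihedralGroup.sr ?_) (hconj k)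
      show (i - k - k : ℤ) = 1
      omega
  -- the subgroup of rotation indices
  let H : AddSubgroup ℤ :=
    { carrier := {i | DihedralGroup.r (i : ZMod 0) ∈ N}
      zero_mem' := by
        show DihedralGroup.r ((0 : ℤ) : ZMod 0) ∈ N
        have : DihedralGroup.r ((0 : ℤ) : ZMod 0) = (1 : DihedralGroup 0) := rfl
        rw [this]; exact N.one_mem
      add_mem' := by
        intro a b ha hb
        have h := N.mul_mem ha hb
        rw [DihedralGroup.r_mul_r] at h
        exact h
      neg_mem' := by
        intro a ha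
        have h := N.inv_mem ha
        rw [DihedralGroup.inv_r] at h
        exact h }
  have hH : ∀ i : ℤ, i ∈ H ↔ DihedralGroup.r (i : ZMod 0) ∈ N := fun i => Iff.rfl
  obtain ⟨a, ha⟩ := Int.subgroup_cyclic H
  have ha' : ∀ i : ℤ, i ∈ H ↔ ∃ k : ℤ, i = k * a := by
    intro i
    rw [ha, AddSubgroup.mem_closure_singleton]
    constructor
    · rintro ⟨k, rfl⟩; exact ⟨k, by simp⟩
    · rintro ⟨k, rfl⟩; exact ⟨k, by simp⟩
  have ha0 : a ≠ 0 := by
    rintro rfl
    apply hN
    rw [eq_bot_iff]
    intro g hg
    rw [Subgroup.mem_bot]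
    cases g with
    | r i =>
      obtain ⟨k, hk⟩ := (ha' i).1 ((hH i).2 hg)
      have : i = (0 : ℤ) := by rw [hk, mul_zero]
      subst this
      rfl
    | sr i => exact absurd hg (hsr i)
  refine ⟨a.natAbs, Int.natAbs_pos.2 ha0, ?_⟩
  have hna : DihedralGroup.r ((a.natAbs : ℕ) : ZMod 0) ∈ N := by
    have : (a.natAbs : ℤ) ∈ H := by
      rw [ha']
      rcases Int.natAbs_eq a with h | h
      · exact ⟨1, by omega⟩
      · exact ⟨-1, by omega⟩
    exact this
  apply le_antisymm
  · intro g hg
    cases g with
    | r i =>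
      obtain ⟨k, hk⟩ := (ha' i).1 ((hH i).2 hg)
      rw [Subgroup.mem_zpowers_iff]
      rcases Int.natAbs_eq a with h | h
      · refine ⟨k, ?_⟩
        rw [DihedralGroup.r_zpow]
        congr 1
        show ((a.natAbs : ℕ) : ℤ) * k = i
        rw [hk]; rw [← h]; ring
      · refine ⟨-k, ?_⟩
        rw [DihedralGroup.r_zpow]
        congr 1
        show ((a.natAbs : ℕ) : ℤ) * ((-k : ℤ)) = i
        rw [hk]
        have : ((a.natAbs : ℕ) : ℤ) = -a := by omega
        rw [this]; ring
    | sr i => exact absurd hg (hsr i)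
  · rw [Subgroup.zpowers_le]
    exact hna

end Groth.Agent.S12071
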