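import Groth.Statements.S12076
import Mathlib

set_option autoImplicit false
open RootD

namespace Groth.Agent.S12076

/-- a total positive cone on `ℤⁿ` (lexicographic order). -/
private lemma exists_cone (n : ℕ) : ∃ P : Set (Fin n → ℤ), (0 : Fin n → ℤ) ∉ P ∧
    (∀ x ∈ P, ∀ y ∈ P, x + y ∈ P) ∧ (∀ x, x ≠ 0 → x ∈ P ∨ -x ∈ P) ∧ (∀ x ∈ P, -x ∉ P) := by
  refine ⟨{x | 0 < toLex x}, ?_, ?_, ?_, ?_⟩
  · intro h
    have h' : (0 : Lex (Fin n → ℤ)) < toLex (0 : Fin n → ℤ) := h
    rw [toLex_zero] at h'
    exact lt_irrefl _ h'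
  · intro x hx y hy
    show 0 < toLex (x + y)
    rw [toLex_add]
    exact add_pos hx hy
  · intro x hx
    rcases lt_trichotomy (toLex x) 0 with h | h | h
    · right
      show 0 < toLex (-x)
      rw [toLex_neg]
      exact neg_pos.2 h
    · exact absurd (toLex_eq_zero.1 h) hx
    · left; exact h
  · intro x hx hx'
    have h : 0 < toLex (-x) := hx'
    rw [toLex_neg, neg_pos] at h
    exact lt_asymm hx h

/-- Let Δ be a system of simple roots (a base b of a root pairing P over ℤ) and Γ₀ the subgroup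
generated by the roots. Then Γ₀ has a structure of totally ordered group for which the roots > 0 are
exactly the positive roots defined by Δ and for which the height (the additive function with value 1
on each simple root) is monotone. The order is given here by its positive cone C ⊆ Γ₀: 0 ∉ C, C + C
⊆ C, and for every x ≠ 0 exactly one of x, −x lies in C (x < y meaning y − x ∈ C). -/
theorem result {ι M N : Type*} [AddCommGroup M] [AddCommGroup N]
    (P : RootPairing ι ℤ M N) [Finite ι] (b : P.Base) :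
    ∃ C : Set ↥(Submodule.span ℤ (Set.range P.root)),
      0 ∉ C ∧ (∀ x ∈ C, ∀ y ∈ C, x + y ∈ C) ∧ (∀ x, x ≠ 0 → (x ∈ C ∨ -x ∈ C)) ∧ (∀ x ∈ C, -x ∉ C) ∧
      (∀ i : ι, (⟨P.root i, Submodule.subset_span (Set.mem_range_self i)⟩ : ↥(Submodule.span ℤ (Set.range P.root))) ∈ C ↔
        b.IsPos i) ∧
      ∀ φ : ↥(Submodule.span ℤ (Set.range P.root)) →+ ℤ,
        (∀ j ∈ b.support, φ ⟨P.root j, Submodule.subset_span (Set.mem_range_self j)⟩ = 1) →
        ∀ x y : ↥(Submodule.span ℤ (Set.range P.root)), y - x ∈ C → φ x ≤ φ y := by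
  classical
  let B := b.toWeightBasisInt
  let n := Fintype.card b.support
  let E : P.rootSpan ℤ ≃ₗ[ℤ] (Fin n → ℤ) := (B.reindex (Fintype.equivFin b.support)).equivFun
  obtain ⟨P₀, hP0, hPadd, hPtot, hPneg⟩ := exists_cone n
  let ht : P.rootSpan ℤ →ₗ[ℤ] ℤ := B.constr ℤ (fun _ => (1 : ℤ))
  have ht_basis : ∀ j : b.support, ht (B j) = 1 := fun j => by simp [ht]
  have hBj : ∀ j : b.support, B j = P.rootSpanMem ℤ j := fun j =>
    Subtype.ext (b.coe_toWeightBasisInt_apply j)
  have ht_root : ∀ i, ht (P.rootSpanMem ℤ i) = b.height i := by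
    intro i
    have hx : P.rootSpanMem ℤ i = ∑ j : b.support, (B.repr (P.rootSpanMem ℤ i)) j • B j :=
      (B.sum_repr _).symm
    have hroot : P.root i = ∑ j ∈ b.support,
        (fun j => if h : j ∈ b.support then (B.repr (P.rootSpanMem ℤ i)) ⟨j, h⟩ else 0) j •
          P.root j := by
      have h1 := congrArg (Submodule.subtype (P.rootSpan ℤ)) hx
      rw [map_sum] at h1
      simp only [Submodule.subtype_apply, map_smul, hBj] at h1
      rw [h1, ← Finset.sum_coe_sort b.support]
      apply Finset.sum_congr rfl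
      intro j _
      simp [j.2]
    rw [RootPairing.Base.height_eq_sum hroot]
    conv_lhs => rw [hx]
    rw [map_sum, ← Finset.sum_coe_sort b.support]
    apply Finset.sum_congr rfl
    intro j _
    simp [ht_basis, j.2]
  refine ⟨{x | 0 < ht x ∨ (ht x = 0 ∧ E x ∈ P₀)}, ?_, ?_, ?_, ?_, ?_, ?_⟩
  · rintro (h | ⟨_, h⟩)
    · rw [map_zero] at h; exact lt_irrefl _ h
    · rw [map_zero] at h; exact hP0 h
  · rintro x (hx | ⟨hx, hx'⟩) y (hy | ⟨hy, hy'⟩)
    · left; rw [map_add]; omega
    · left; rw [map_add]; omega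
    · left; rw [map_add]; omega
    · right
      refine ⟨by rw [map_add]; omega, ?_⟩
      rw [map_add]
      exact hPadd _ hx' _ hy'
  · intro x hx
    rcases lt_trichotomy (ht x) 0 with h | h | h
    · right; left; rw [map_neg]; omega
    · have hE : E x ≠ 0 := fun h0 => hx (E.map_eq_zero_iff.1 h0)
      rcases hPtot _ hE with h' | h'
      · left; right; exact ⟨h, h'⟩
      · right; right
        refine ⟨by rw [map_neg]; omega, ?_⟩
        rw [map_neg]; exact h'
    · left; left; exact h
  · rintro x (hx | ⟨hx, hx'⟩) (hnx | ⟨hnx, hnx'⟩)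
    · rw [map_neg] at hnx; omega
    · rw [map_neg] at hnx; omega
    · rw [map_neg] at hnx; omega
    · rw [map_neg] at hnx'
      exact hPneg _ hx' hnx'
  · intro i
    show (0 < ht (P.rootSpanMem ℤ i) ∨ (ht (P.rootSpanMem ℤ i) = 0 ∧ E (P.rootSpanMem ℤ i) ∈ P₀)) ↔
      b.IsPos i
    rw [ht_root, RootPairing.Base.isPos_iff]
    constructor
    · rintro (h | ⟨h, _⟩)
      · exact h
      · exact absurd h (b.height_ne_zero i)
    · intro h; left; exact h
  · intro φ hφ x y hxy
    have hφeq : φ.toIntLinearMap = ht := by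
      apply B.ext
      intro j
      rw [AddMonoidHom.coe_toIntLinearMap, ht_basis, hBj]
      exact hφ j.1 j.2
    have h1 : ∀ z, φ z = ht z := fun z => LinearMap.congr_fun hφeq z
    have h2 : 0 ≤ ht (y - x) := by
      rcases hxy with h | ⟨h, _⟩
      · exact h.le
      · exact h.ge
    rw [map_sub] at h2
    rw [h1, h1]
    omega

end Groth.Agent.S12076
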