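import Groth.Statements.S12078
import Mathlib

set_option autoImplicit false
universe u
open CAlg

namespace Groth.Agent.S12078

/-- An elementary divisor domain is Bézout. Here `R` is a domain such that for all `n, m ≥ 1` and every
`n × m` matrix `A` there are invertible matrices `U` (`n × n`) and `V` (`m × m`) with `U * A * V`
zero off the diagonal and with diagonal entries `f 0 ∣ f 1 ∣ f 2 ∣ …`; the conclusion is that every
finitely generated ideal of `R` is principal. -/
theorem result (R : Type u) [CommRing R] [IsDomain R]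
    (hR : ∀ n m : ℕ, 1 ≤ n → 1 ≤ m → ∀ A : Matrix (Fin n) (Fin m) R,
      ∃ (U : (Matrix (Fin n) (Fin n) R)ˣ) (V : (Matrix (Fin m) (Fin m) R)ˣ) (f : ℕ → R),
        (∀ k : ℕ, f k ∣ f (k + 1)) ∧
        ∀ (i : Fin n) (j : Fin m), ((U : Matrix (Fin n) (Fin n) R) * A * (V : Matrix (Fin m) (Fin m) R)) i j =
          if (i : ℕ) = (j : ℕ) then f i else 0) :
    IsBezout R := by
  rw [IsBezout.iff_span_pair_isPrincipal]
  intro x y
  let A : Matrix (Fin 1) (Fin 2) R := Matrix.of ![![x, y]]
  obtain ⟨U, V, f, -, hUV⟩ := hR 1 2 le_rfl (by norm_num) A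
  set W : Matrix (Fin 1) (Fin 2) R :=
    (U : Matrix (Fin 1) (Fin 1) R) * A * (V : Matrix (Fin 2) (Fin 2) R) with hW
  have hW00 : W 0 0 = f 0 := by
    have := hUV 0 0
    simpa using this
  have hW01 : W 0 1 = 0 := by
    have := hUV 0 1
    simpa using this
  have hA : A = ((U⁻¹ : (Matrix (Fin 1) (Fin 1) R)ˣ) : Matrix (Fin 1) (Fin 1) R) * W *
      ((V⁻¹ : (Matrix (Fin 2) (Fin 2) R)ˣ) : Matrix (Fin 2) (Fin 2) R) := by
    rw [hW]
    simp only [Matrix.mul_assoc]
    rw [Units.mul_inv, Matrix.mul_one, ← Matrix.mul_assoc, Units.inv_mul, Matrix.one_mul]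
  refine ⟨⟨f 0, ?_⟩⟩
  apply le_antisymm
  · rw [Ideal.span_le]
    intro z hz
    rcases hz with rfl | hz
    · -- x
      have hx : z = A 0 0 := rfl
      rw [hx, hA]
      simp only [Matrix.mul_apply, Fin.sum_univ_succ, Fin.sum_univ_zero, add_zero, Finset.univ_unique,
        Fin.default_eq_zero, Finset.sum_singleton, Fin.isValue, Fin.succ_zero_eq_one, hW00, hW01,
        zero_mul, mul_zero]
      apply Ideal.mul_mem_right
      apply Ideal.mul_mem_left
      exact Ideal.mem_span_singleton_self _
    · have hz' : z = y := hz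
      have hy : z = A 0 1 := by rw [hz']; rfl
      rw [hy, hA]
      simp only [Matrix.mul_apply, Fin.sum_univ_succ, Fin.sum_univ_zero, add_zero, Finset.univ_unique,
        Fin.default_eq_zero, Finset.sum_singleton, Fin.isValue, Fin.succ_zero_eq_one, hW00, hW01,
        zero_mul, mul_zero]
      apply Ideal.mul_mem_right
      apply Ideal.mul_mem_left
      exact Ideal.mem_span_singleton_self _
  · change Submodule.span R {f 0} ≤ _
    rw [Submodule.span_le, Set.singleton_subset_iff, ← hW00, hW]
    simp only [Matrix.mul_apply, Fin.sum_univ_succ, Fin.sum_univ_zero, add_zero, Finset.univ_unique,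
      Fin.default_eq_zero, Finset.sum_singleton, Fin.isValue, Fin.succ_zero_eq_one]
    have hx : A 0 0 = x := rfl
    have hy : A 0 1 = y := rfl
    rw [hx, hy]
    apply Ideal.add_mem
    · apply Ideal.mul_mem_right
      apply Ideal.mul_mem_left
      exact Ideal.subset_span (by simp)
    · apply Ideal.mul_mem_right
      apply Ideal.mul_mem_left
      exact Ideal.subset_span (by simp)

end Groth.Agent.S12078
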