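import Groth.Statements.S12079
import Mathlib

set_option autoImplicit false
universe u
open TensorProduct
open CAlg

namespace Groth.Agent.S12079

/-- naturality of `rTensorHomToHomRTensor` in the source module. -/
private lemma nat {R : Type u} [CommRing R] {M M' N L : Type u}
    [AddCommGroup M] [Module R M] [AddCommGroup M'] [Module R M']
    [AddCommGroup N] [Module R N] [AddCommGroup L] [Module R L]
    (u : M' →ₗ[R] M) (x : (M →ₗ[R] N) ⊗[R] L) :
    TensorProduct.rTensorHomToHomRTensor (RingHom.id R) M' N L
        ((LinearMap.lcomp R N u).rTensor L x) =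
      (TensorProduct.rTensorHomToHomRTensor (RingHom.id R) M N L x).comp u := by
  induction x using TensorProduct.induction_on with
  | zero => simp
  | tmul f l =>
    ext m
    simp
  | add x y hx hy =>
    rw [map_add, map_add, hx, hy, map_add, LinearMap.add_comp]

/-- For a finitely presented `R`-module `M`, any `R`-module `N` and a flat `R`-module `L`, the canonical
map `Hom_R(M, N) ⊗_R L → Hom_R(M, N ⊗_R L)` sending `f ⊗ l` to `m ↦ f m ⊗ l` is bijective. -/
theorem result (R : Type u) [CommRing R]
    (M N L : Type u) [AddCommGroup M] [Module R M] [AddCommGroup N] [Module R N] [AddCommGroup L] [Module R L]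
    [Module.FinitePresentation R M] [Module.Flat R L] :
    Function.Bijective (TensorProduct.rTensorHomToHomRTensor (RingHom.id R) M N L) := by
  classical
  obtain ⟨n, m, p, q, hp, hqp⟩ := Module.FinitePresentation.exists_fin' R M
  -- the comparison maps for the finite free modules are bijective
  have b0 : Function.Bijective
      (TensorProduct.rTensorHomToHomRTensor (RingHom.id R) (Fin n → R) N L) := by
    rw [← rTensorHomEquivHomRTensor_toLinearMap]
    exact (rTensorHomEquivHomRTensor R (Fin n → R) N L).bijective
  have b1 : Function.Bijective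
      (TensorProduct.rTensorHomToHomRTensor (RingHom.id R) (Fin m → R) N L) := by
    rw [← rTensorHomEquivHomRTensor_toLinearMap]
    exact (rTensorHomEquivHomRTensor R (Fin m → R) N L).bijective
  have hpinj : Function.Injective ((LinearMap.lcomp R N p).rTensor L) :=
    Module.Flat.rTensor_preserves_injective_linearMap _
      (LinearMap.lcomp_injective_of_surjective p hp)
  have hex : Function.Exact ((LinearMap.lcomp R N p).rTensor L)
      ((LinearMap.lcomp R N q).rTensor L) :=
    Module.Flat.rTensor_exact L (LinearMap.exact_lcomp_of_exact_of_surjective N hqp hp)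
  constructor
  · rw [injective_iff_map_eq_zero]
    intro x hx
    apply hpinj
    apply b0.1
    rw [nat, hx, map_zero, map_zero, LinearMap.zero_comp]
  · intro g
    obtain ⟨y, hy⟩ := b0.2 (g.comp p)
    have hy0 : (LinearMap.lcomp R N q).rTensor L y = 0 := by
      apply b1.1
      rw [nat, hy, map_zero, LinearMap.comp_assoc, hqp.linearMap_comp_eq_zero, LinearMap.comp_zero]
    obtain ⟨x, rfl⟩ := (hex y).1 hy0
    refine ⟨x, ?_⟩
    rw [nat] at hy
    exact LinearMap.ext fun z => by
      obtain ⟨w, rfl⟩ := hp z
      exact LinearMap.congr_fun hy w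

end Groth.Agent.S12079
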