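import Groth.Statements.S12080
import Mathlib

set_option autoImplicit false
universe u
open TensorProduct
open CAlg

namespace Groth.Agent.S12080

/-- Local computation: for a localization `A` of `R` and an `A`-module `M'` free of rank one,
the `R`-linear evaluation `Hom_R(M', A) ⊗_R M' → A` is bijective. -/
private lemma local_bij {R : Type u} [CommRing R] (S : Submonoid R) (A : Type u) [CommRing A]
    [Algebra R A] [IsLocalization S A]
    (M' : Type u) [AddCommGroup M'] [Module R M'] [Module A M'] [IsScalarTower R A M']
    (e : M' ≃ₗ[A] A) :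
    Function.Bijective
      (TensorProduct.lift (LinearMap.id : (M' →ₗ[R] A) →ₗ[R] M' →ₗ[R] A)) := by
  classical
  haveI : TensorProduct.CompatibleSMul R A (M' →ₗ[R] A) M' :=
    IsLocalization.tensorProduct_compatibleSMul S A (M' →ₗ[R] A) M'
  set m0 : M' := e.symm 1 with hm0
  set l0 : M' →ₗ[R] A := e.toLinearMap.restrictScalars R with hl0
  have hl0m : ∀ x, l0 x = e x := fun x => rfl
  -- every R-linear functional is A-linear
  have hlin : ∀ (l : M' →ₗ[R] A) (a : A) (x : M'), l (a • x) = a • l x := by
    intro l a x
    exact (LinearMap.extendScalarsOfIsLocalization S A l).map_smul a x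
  have hl : ∀ l : M' →ₗ[R] A, l = (l m0) • l0 := by
    intro l
    ext x
    have hx : x = (e x) • m0 := by
      apply e.injective
      rw [map_smul, hm0, e.apply_symm_apply, smul_eq_mul, mul_one]
    conv_lhs => rw [hx, hlin]
    rw [LinearMap.smul_apply, hl0m, smul_eq_mul, smul_eq_mul, mul_comm]
  have hform : ∀ z : (M' →ₗ[R] A) ⊗[R] M', ∃ m : M', z = l0 ⊗ₜ[R] m := by
    intro z
    induction z using TensorProduct.induction_on with
    | zero => exact ⟨0, by simp⟩
    | tmul l m =>
      refine ⟨(l m0) • m, ?_⟩
      conv_lhs => rw [hl l]
      rw [TensorProduct.smul_tmul]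
    | add x y hx hy =>
      obtain ⟨m1, rfl⟩ := hx
      obtain ⟨m2, rfl⟩ := hy
      exact ⟨m1 + m2, by rw [TensorProduct.tmul_add]⟩
  constructor
  · rw [injective_iff_map_eq_zero]
    intro z hz
    obtain ⟨m, rfl⟩ := hform z
    rw [TensorProduct.lift.tmul, LinearMap.id_apply, hl0m] at hz
    rw [e.map_eq_zero_iff.1 hz, TensorProduct.tmul_zero]
  · intro a
    refine ⟨l0 ⊗ₜ[R] (a • m0), ?_⟩
    rw [TensorProduct.lift.tmul, LinearMap.id_apply, hl0m, map_smul, hm0, e.apply_symm_apply,
      smul_eq_mul, mul_one]

/-- (1) ⇒ (2): let `M` be a finite locally free `R`-module of rank `1`, i.e. there is a set `s ⊆ R`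
generating the unit ideal with `M_f ≅ R_f` as `R_f`-modules for every `f ∈ s`. Then the evaluation
map `Hom_R(M, R) ⊗_R M → R` is bijective, so `M` is invertible with inverse its dual. -/
theorem result (R : Type u) [CommRing R] (M : Type u) [AddCommGroup M]
    [Module R M] (s : Set R) (hs : Ideal.span s = ⊤)
    (hfree : ∀ f ∈ s, Nonempty (LocalizedModule.Away f M ≃ₗ[Localization.Away f] Localization.Away f)) :
    Module.Invertible R M := by
  classical
  haveI : Module.FinitePresentation R M := by
    refine Module.FinitePresentation.of_localizationSpan s hs fun g => ?_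
    obtain ⟨e⟩ := hfree g.1 g.2
    exact Module.FinitePresentation.of_equiv e.symm
  constructor
  refine bijective_of_isLocalized_span s hs
    (fun r => (LocalizedModule.Away r.1 M →ₗ[R] Localization.Away r.1) ⊗[R]
      LocalizedModule.Away r.1 M)
    (fun r => TensorProduct.map
      (IsLocalizedModule.map (.powers r.1) (LocalizedModule.mkLinearMap (.powers r.1) M)
        (Algebra.linearMap R (Localization.Away r.1)))
      (LocalizedModule.mkLinearMap (.powers r.1) M))
    (fun r => Localization.Away r.1)
    (fun r => Algebra.linearMap R (Localization.Away r.1))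
    (contractLeft R M) ?_
  intro r
  have key : IsLocalizedModule.map (.powers r.1)
      (TensorProduct.map
        (IsLocalizedModule.map (.powers r.1) (LocalizedModule.mkLinearMap (.powers r.1) M)
          (Algebra.linearMap R (Localization.Away r.1)))
        (LocalizedModule.mkLinearMap (.powers r.1) M))
      (Algebra.linearMap R (Localization.Away r.1)) (contractLeft R M) =
      TensorProduct.lift (LinearMap.id :
        (LocalizedModule.Away r.1 M →ₗ[R] Localization.Away r.1) →ₗ[R] _) := by
    apply IsLocalizedModule.ext (.powers r.1) (TensorProduct.map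
        (IsLocalizedModule.map (.powers r.1) (LocalizedModule.mkLinearMap (.powers r.1) M)
          (Algebra.linearMap R (Localization.Away r.1)))
        (LocalizedModule.mkLinearMap (.powers r.1) M))
      (IsLocalizedModule.map_units (Algebra.linearMap R (Localization.Away r.1)))
    rw [IsLocalizedModule.map_comp]
    ext l m
    have := IsLocalizedModule.map_apply (.powers r.1)
      (LocalizedModule.mkLinearMap (.powers r.1) M)
      (Algebra.linearMap R (Localization.Away r.1)) l m
    simpa using this.symm
  rw [key]
  obtain ⟨e⟩ := hfree r.1 r.2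
  exact local_bij (.powers r.1) (Localization.Away r.1) (LocalizedModule.Away r.1 M) e

end Groth.Agent.S12080
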