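import Groth.Statements.S12081
import Mathlib

set_option autoImplicit false
universe u
open TensorProduct
open EtAlg

namespace Groth.Agent.S12081

/-- Let `B' = B ×_A A'` be a fibre square of rings with `A' → A` surjective with kernel `I`, let `J =
Ker(B' → B)`, let `D'` be a `B'`-algebra and `C' = D' ⊗_{B'} A'`. Then the ideal `I C'` is, as a
subset of `C'`, the image of the ideal `J D'` under `D' → C'`; that is, the map `J D' → I C'` is
surjective. -/
theorem result (B' B A' A : Type u) [CommRing B'] [CommRing B] [CommRing A'] [CommRing A]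
    [Algebra B' B] [Algebra B' A'] [Algebra B A] [Algebra A' A] [Algebra B' A] [IsScalarTower B' B A] [IsScalarTower B' A' A]
    (hsq : EtMil.IsFibreSquare B' B A' A)
    (D' C' : Type u) [CommRing D'] [CommRing C'] [Algebra B' D'] [Algebra A' C']
    [Algebra D' C'] [Algebra B' C'] [IsScalarTower B' A' C'] [IsScalarTower B' D' C'] [Algebra.IsPushout B' A' D' C'] :
    (algebraMap D' C') '' ((RingHom.ker (algebraMap B' B)).map (algebraMap B' D') : Set D') =
      ((RingHom.ker (algebraMap A' A)).map (algebraMap A' C') : Set C') := by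
  classical
  have hbc : IsBaseChange A' (IsScalarTower.toAlgHom B' D' C').toLinearMap :=
    (Algebra.IsPushout.out : IsBaseChange A' (IsScalarTower.toAlgHom B' D' C').toLinearMap)
  set I : Ideal A' := RingHom.ker (algebraMap A' A) with hI
  set J : Ideal B' := RingHom.ker (algebraMap B' B) with hJ
  -- lifting elements of I to J
  have lift : ∀ r ∈ I, ∃ j ∈ J, algebraMap B' A' j = r := by
    intro r hr
    have h0 : algebraMap B A 0 = algebraMap A' A r := by
      rw [map_zero]; exact ((RingHom.mem_ker).1 hr).symm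
    obtain ⟨j, ⟨hj1, hj2⟩, -⟩ := hsq.2 0 r h0
    exact ⟨j, (RingHom.mem_ker).2 hj1, hj2⟩
  have hJI : J.map (algebraMap B' A') ≤ I := by
    rw [Ideal.map_le_iff_le_comap]
    intro j hj
    rw [Ideal.mem_comap, hI, RingHom.mem_ker, ← IsScalarTower.algebraMap_apply,
      IsScalarTower.algebraMap_apply B' B A, (RingHom.mem_ker).1 hj, map_zero]
  ext x
  constructor
  · rintro ⟨y, hy, rfl⟩
    have h1 : algebraMap D' C' y ∈ (J.map (algebraMap B' D')).map (algebraMap D' C') :=
      Ideal.mem_map_of_mem _ hy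
    rw [Ideal.map_map, ← IsScalarTower.algebraMap_eq, IsScalarTower.algebraMap_eq B' A' C',
      ← Ideal.map_map] at h1
    exact Ideal.map_mono hJI h1
  · intro hx
    have hx' : x ∈ I • (⊤ : Submodule A' C') := by
      rw [Ideal.smul_top_eq_map]; exact hx
    refine Submodule.smul_induction_on hx' ?_ ?_
    · intro r hr n _
      revert r
      refine hbc.inductionOn n (fun n => ∀ r ∈ I, r • n ∈
        (algebraMap D' C') '' ((J.map (algebraMap B' D') : Ideal D') : Set D')) ?_ ?_ ?_ ?_
      · intro r _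
        exact ⟨0, Ideal.zero_mem _, by simp⟩
      · intro d r hr
        obtain ⟨j, hj, rfl⟩ := lift r hr
        refine ⟨algebraMap B' D' j * d, Ideal.mul_mem_right _ _ (Ideal.mem_map_of_mem _ hj), ?_⟩
        rw [map_mul, ← IsScalarTower.algebraMap_apply, IsScalarTower.algebraMap_apply B' A' C',
          Algebra.smul_def]
        rfl
      · intro s n ih r hr
        rw [← mul_smul]
        exact ih _ (Ideal.mul_mem_right _ _ hr)
      · intro n₁ n₂ ih₁ ih₂ r hr
        obtain ⟨y₁, hy₁, e₁⟩ := ih₁ r hr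
        obtain ⟨y₂, hy₂, e₂⟩ := ih₂ r hr
        exact ⟨y₁ + y₂, Ideal.add_mem _ hy₁ hy₂, by rw [map_add, e₁, e₂, smul_add]⟩
    · rintro a b ⟨y₁, hy₁, rfl⟩ ⟨y₂, hy₂, rfl⟩
      exact ⟨y₁ + y₂, Ideal.add_mem _ hy₁ hy₂, map_add _ _ _⟩

end Groth.Agent.S12081
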