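import Groth.Statements.S12082
import Mathlib
import Groth.Agent.Lib.Helper14.CMUnivCat
import Groth.Agent.Lib.Helper22.CMGlue
import Groth.Agent.Lib.Helper4.CM

set_option autoImplicit false
universe u
open Synt

namespace Groth.Agent.S12082


namespace H12082

theorem aux (k : Type u) [Field k] (n : ℕ)
    (I : Ideal (MvPolynomial (Fin n) k)) (q : Ideal (MvPolynomial (Fin n) k ⧸ I)) [q.IsPrime] (c : ℕ)
    (P : Ideal (MvPolynomial (Fin n) k)) [P.IsPrime] (hP : P = q.comap (Ideal.Quotient.mk I))
    (hc : (c : ℕ∞) + q.height = P.height)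
    (f : Fin c → Localization.AtPrime P)
    (hf : ∀ i, f i ∈ I.map (algebraMap _ (Localization.AtPrime P)))
    (hgen : Ideal.span (Set.range f) ⊔ IsLocalRing.maximalIdeal (Localization.AtPrime P) *
      I.map (algebraMap _ (Localization.AtPrime P)) = I.map (algebraMap _ (Localization.AtPrime P))) :
    RingTheory.Sequence.IsRegular (Localization.AtPrime P) (List.ofFn f) := by
  haveI : LocCoh.IsCohenMacaulayRing (MvPolynomial (Fin n) k) :=
    Groth.Agent.Lib.Helper14.CMFlat.cm_of_isRegularRing _
  haveI hCM : LocCoh.IsCohenMacaulayLocalRing (Localization.AtPrime P) :=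
    LocCoh.IsCohenMacaulayRing.isCohenMacaulayLocalRing_localization P
  have hIP : I ≤ P := by
    intro a ha
    rw [hP, Ideal.mem_comap, Ideal.Quotient.eq_zero_iff_mem.mpr ha]
    exact zero_mem _
  obtain ⟨J, hJ⟩ : ∃ J : Ideal (Localization.AtPrime P),
      J = I.map (algebraMap _ (Localization.AtPrime P)) := ⟨_, rfl⟩
  rw [← hJ] at hf hgen
  have hJtop : J ≠ ⊤ := by
    rw [hJ]; exact Groth.Agent.Lib.Helper22.CMG.map_ne_top_of_le I P hIP
  have hJm : J ≤ IsLocalRing.maximalIdeal (Localization.AtPrime P) :=
    IsLocalRing.le_maximalIdeal hJtop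
  have hspan_le : Ideal.span (Set.range f) ≤ J :=
    Ideal.span_le.mpr (by rintro _ ⟨i, rfl⟩; exact hf i)
  have hJspan : J = Ideal.span (Set.range f) := by
    refine le_antisymm ?_ hspan_le
    refine Submodule.le_of_le_smul_of_le_jacobson_bot (IsNoetherian.noetherian J)
      (IsLocalRing.maximalIdeal_le_jacobson ⊥) ?_
    rw [smul_eq_mul, hgen]
  have hofList : Ideal.ofList (List.ofFn f) = J := by
    rw [hJspan]
    unfold Ideal.ofList
    congr 1
    ext x
    simp [List.mem_ofFn]
  have hxs : ∀ x ∈ List.ofFn f, x ∈ IsLocalRing.maximalIdeal (Localization.AtPrime P) := by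
    intro x hx
    rw [List.mem_ofFn] at hx
    obtain ⟨i, rfl⟩ := hx
    exact hJm (hf i)
  have hM : LocCoh.IsCohenMacaulayModule (Localization.AtPrime P) (Localization.AtPrime P) :=
    hCM.supportDim_eq_depth
  have hdim : Module.supportDim (Localization.AtPrime P) (Localization.AtPrime P ⧸
      Ideal.ofList (List.ofFn f) • (⊤ : Submodule (Localization.AtPrime P) (Localization.AtPrime P)))
      + ((List.ofFn f).length : ℕ) =
      Module.supportDim (Localization.AtPrime P) (Localization.AtPrime P) := by
    have e1 : Ideal.ofList (List.ofFn f) •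
        (⊤ : Submodule (Localization.AtPrime P) (Localization.AtPrime P)) =
        I.map (algebraMap _ (Localization.AtPrime P)) := by
      rw [hofList, hJ, smul_eq_mul, Ideal.mul_top]
    rw [e1, Module.supportDim_quotient_eq_ringKrullDim, Module.supportDim_self_eq_ringKrullDim,
      ringKrullDim_eq_of_ringEquiv (Groth.Agent.Lib.Helper22.CMG.locQuotEquiv I q P hP),
      IsLocalization.AtPrime.ringKrullDim_eq_height q (Localization.AtPrime q),
      IsLocalization.AtPrime.ringKrullDim_eq_height P (Localization.AtPrime P), List.length_ofFn, ← hc]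
    push_cast
    rw [add_comm]
  have hw := Groth.Agent.Lib.Helper4.cm_isWeaklyRegular_of_supportDim hM _ hxs hdim
  exact RingTheory.Sequence.IsRegular.of_isWeaklyRegular_of_mem_maximalIdeal _ hxs hw

end H12082

/-- Let `S = k[x_1, …, x_n]/I` over a field `k`, `q` a prime of `S` with preimage `q'` in the polynomial
ring, `c` the natural number with `c + ht(q) = ht(q')`, and `J` the extension of `I` to the local
ring `R = k[x_1, …, x_n]_{q'}`. Any `c` elements of `J` whose images generate `J / q' J` form a
regular sequence in `R`. -/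
theorem result (k : Type u) [Field k] (n : ℕ)
    (I : Ideal (MvPolynomial (Fin n) k)) (q : Ideal (MvPolynomial (Fin n) k ⧸ I)) [q.IsPrime] (c : ℕ)
    (hc : (c : ℕ∞) + q.height = (q.comap (Ideal.Quotient.mk I)).height)
    (f : Fin c → Localization.AtPrime (q.comap (Ideal.Quotient.mk I)))
    (hf : ∀ i, f i ∈ I.map (algebraMap _ (Localization.AtPrime (q.comap (Ideal.Quotient.mk I)))))
    (hgen : Ideal.span (Set.range f) ⊔
        IsLocalRing.maximalIdeal (Localization.AtPrime (q.comap (Ideal.Quotient.mk I))) *
          I.map (algebraMap _ (Localization.AtPrime (q.comap (Ideal.Quotient.mk I)))) =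
      I.map (algebraMap _ (Localization.AtPrime (q.comap (Ideal.Quotient.mk I))))) :
    RingTheory.Sequence.IsRegular (Localization.AtPrime (q.comap (Ideal.Quotient.mk I))) (List.ofFn f) := by
  exact H12082.aux k n I q c _ rfl hc f hf hgen

end Groth.Agent.S12082
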