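import Groth.Statements.S12085
import Mathlib


set_option autoImplicit false
universe u
open TensorProduct
open CAlg

namespace Groth.Agent.S12085

open MvPolynomial KaehlerDifferential

universe v w

set_option backward.defeqAttrib.useBackward true in
set_option backward.isDefEq.respectTransparency false in
/-- A certificate for the vanishing of the module of differentials. -/
theorem subsingleton_kaehler_of_cert_q {R : Type u} {S : Type v} {ι : Type w} [DecidableEq ι]
    [CommRing R] [CommRing S] [Algebra R S] (P : Algebra.Generators R S ι) (g : ι → P.Ring)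
    (hg : ∀ i, g i ∈ P.ker)
    (hd : ∀ i j, aeval P.val (pderiv j (g i)) = if i = j then 1 else 0) :
    Subsingleton Ω[S⁄R] := by
  have key : ∀ i, P.toExtension.cotangentComplex (Algebra.Extension.Cotangent.mk ⟨g i, hg i⟩) =
      P.cotangentSpaceBasis i := by
    intro i
    have h1 : P.cotangentSpaceBasis.repr
        (P.toExtension.cotangentComplex (Algebra.Extension.Cotangent.mk ⟨g i, hg i⟩)) =
        P.cotangentSpaceBasis.repr (P.cotangentSpaceBasis i) := by
      ext j
      rw [Algebra.Extension.cotangentComplex_mk, Module.Basis.repr_self,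
        Finsupp.single_apply]
      erw [Algebra.Generators.cotangentSpaceBasis_repr_one_tmul]
      rw [hd]
    exact P.cotangentSpaceBasis.repr.injective h1
  have h0 : P.toExtension.toKaehler = 0 := by
    refine P.cotangentSpaceBasis.ext fun i => ?_
    rw [← key i, LinearMap.zero_apply]
    exact P.toExtension.exact_cotangentComplex_toKaehler.apply_apply_eq_zero _
  refine ⟨fun x y => ?_⟩
  obtain ⟨x', rfl⟩ := P.toExtension.toKaehler_surjective x
  obtain ⟨y', rfl⟩ := P.toExtension.toKaehler_surjective y
  rw [h0, LinearMap.zero_apply, LinearMap.zero_apply]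

set_option backward.defeqAttrib.useBackward true in
set_option backward.isDefEq.respectTransparency false in
/-- Extraction of a certificate from the vanishing of the module of differentials. -/
theorem exists_cert_q {R : Type u} {S : Type v} {ι : Type w} {σ : Type*} [DecidableEq ι]
    [Fintype σ] [CommRing R] [CommRing S] [Algebra R S] (P : Algebra.Presentation R S ι σ)
    [hS : Subsingleton Ω[S⁄R]] :
    ∃ (h : ι → σ → MvPolynomial ι R) (k : ι → ι → σ → MvPolynomial ι R), ∀ i j,
      pderiv j (∑ s, h i s * P.relation s) - C (if i = j then (1 : R) else 0) =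
        ∑ s, k i j s * P.relation s := by
  have step1 : ∀ i, ∃ x : MvPolynomial ι R, x ∈ P.ker ∧
      ∀ j, aeval P.val (pderiv j x) = if i = j then 1 else 0 := by
    intro i
    have h1 : P.toExtension.toKaehler (P.cotangentSpaceBasis i) = 0 := Subsingleton.elim _ _
    obtain ⟨c, hc⟩ := (P.toExtension.exact_cotangentComplex_toKaehler _).1 h1
    obtain ⟨x, rfl⟩ := Algebra.Extension.Cotangent.mk_surjective c
    refine ⟨x.1, x.2, fun j => ?_⟩
    have h2 : P.cotangentSpaceBasis.repr
        (P.toExtension.cotangentComplex (Algebra.Extension.Cotangent.mk x)) j =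
        P.cotangentSpaceBasis.repr (P.cotangentSpaceBasis i) j := by rw [hc]
    rw [Algebra.Extension.cotangentComplex_mk, Module.Basis.repr_self,
      Finsupp.single_apply] at h2
    erw [Algebra.Generators.cotangentSpaceBasis_repr_one_tmul] at h2
    exact h2
  have step2 : ∀ x : MvPolynomial ι R, x ∈ P.ker →
      ∃ c : σ → MvPolynomial ι R, ∑ s, c s * P.relation s = x := by
    intro x hx
    rw [← P.span_range_relation_eq_ker] at hx
    exact Ideal.mem_span_range_iff_exists_fun.1 hx
  choose x hxk hxd using step1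
  choose h hh using fun i => step2 (x i) (hxk i)
  have step3 : ∀ i j, pderiv j (x i) - C (if i = j then (1 : R) else 0) ∈ P.ker := by
    intro i j
    rw [Algebra.Generators.ker_eq_ker_aeval_val, RingHom.mem_ker, map_sub, hxd, aeval_C]
    split_ifs <;> simp
  choose k hk using fun i j => step2 _ (step3 i j)
  refine ⟨h, k, fun i j => ?_⟩
  rw [hh i, hk i j]

/-- The model over a ring containing the coefficients of a certificate is unramified. -/
theorem model_unramified_q {R S : Type u} {ι σ : Type} [DecidableEq ι] [Fintype σ]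
    [CommRing R] [CommRing S] [Algebra R S] (P : Algebra.Presentation R S ι σ)
    (R₀ : Type u) [CommRing R₀] [Algebra R₀ R] [Algebra R₀ S] [IsScalarTower R₀ R S]
    [P.HasCoeffs R₀] (hinj : Function.Injective (algebraMap R₀ R))
    (h : ι → σ → MvPolynomial ι R) (k : ι → ι → σ → MvPolynomial ι R)
    (hcert : ∀ i j, pderiv j (∑ s, h i s * P.relation s) - C (if i = j then (1 : R) else 0) =
        ∑ s, k i j s * P.relation s)
    (hh : ∀ i s, ((h i s).coeffs : Set R) ⊆ Set.range (algebraMap R₀ R))
    (hk : ∀ i j s, ((k i j s).coeffs : Set R) ⊆ Set.range (algebraMap R₀ R)) :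
    Algebra.FormallyUnramified R₀ (P.ModelOfHasCoeffs R₀) := by
  have hφinj : Function.Injective (MvPolynomial.map (σ := ι) (algebraMap R₀ R)) :=
    MvPolynomial.map_injective _ hinj
  choose h₀ hh₀ using fun i s => MvPolynomial.mem_range_map_iff_coeffs_subset.2 (hh i s)
  choose k₀ hk₀ using fun i j s => MvPolynomial.mem_range_map_iff_coeffs_subset.2 (hk i j s)
  have hv : ∀ s, MvPolynomial.map (algebraMap R₀ R) (P.relationOfHasCoeffs R₀ s) = P.relation s :=
    fun s => P.map_relationOfHasCoeffs R₀ s
  have hcert₀ : ∀ i j, pderiv j (∑ s, h₀ i s * P.relationOfHasCoeffs R₀ s) =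
      C (if i = j then (1 : R₀) else 0) + ∑ s, k₀ i j s * P.relationOfHasCoeffs R₀ s := by
    intro i j
    apply hφinj
    have e1 : MvPolynomial.map (algebraMap R₀ R) (∑ s, h₀ i s * P.relationOfHasCoeffs R₀ s) =
        ∑ s, h i s * P.relation s := by
      rw [map_sum]
      exact Finset.sum_congr rfl fun s _ => by rw [map_mul, hh₀, hv]
    have e2 : MvPolynomial.map (algebraMap R₀ R) (∑ s, k₀ i j s * P.relationOfHasCoeffs R₀ s) =
        ∑ s, k i j s * P.relation s := by
      rw [map_sum]
      exact Finset.sum_congr rfl fun s _ => by rw [map_mul, hk₀, hv]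
    have h3 : algebraMap R₀ R (if i = j then (1 : R₀) else 0) = if i = j then (1 : R) else 0 := by
      split_ifs <;> simp
    rw [← MvPolynomial.pderiv_map, e1, map_add, e2, MvPolynomial.map_C, h3, ← hcert i j]
    ring
  obtain ⟨G, hGker⟩ : ∃ G : Algebra.Generators R₀
      (MvPolynomial ι R₀ ⧸ Ideal.span (Set.range (P.relationOfHasCoeffs R₀))) ι,
      G.ker = Ideal.span (Set.range (P.relationOfHasCoeffs R₀)) :=
    ⟨Algebra.Generators.naive (Function.surjInv Ideal.Quotient.mk_surjective)
      (Function.surjInv_eq _), Algebra.Generators.ker_naive _ _⟩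
  have hker : ∀ q ∈ Ideal.span (Set.range (P.relationOfHasCoeffs R₀)), aeval G.val q = 0 := by
    intro q hq
    rw [← hGker, Algebra.Generators.ker_eq_ker_aeval_val] at hq
    exact RingHom.mem_ker.1 hq
  have hmem : ∀ c : σ → MvPolynomial ι R₀, ∑ s, c s * P.relationOfHasCoeffs R₀ s ∈
      Ideal.span (Set.range (P.relationOfHasCoeffs R₀)) :=
    fun c => Ideal.sum_mem _ fun s _ => Ideal.mul_mem_left _ _ (Ideal.subset_span ⟨s, rfl⟩)
  refine ⟨subsingleton_kaehler_of_cert_q G
    (fun i => ∑ s, h₀ i s * P.relationOfHasCoeffs R₀ s) ?_ ?_⟩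
  · intro i
    rw [hGker]
    exact hmem _
  · intro i j
    rw [hcert₀ i j, map_add, hker _ (hmem _), add_zero, aeval_C]
    split_ifs <;> simp

theorem main_q {R S : Type u} {ι σ : Type} [DecidableEq ι] [Finite ι] [Fintype σ]
    [CommRing R] [CommRing S] [Algebra R S] (P : Algebra.Presentation R S ι σ)
    [Algebra.FormallyUnramified R S] :
    ∃ (R₀ : Subalgebra ℤ R), Algebra.FiniteType ℤ R₀ ∧ ∃ (S₀ : Type u) (_ : CommRing S₀)
      (_ : Algebra R₀ S₀), Algebra.FinitePresentation R₀ S₀ ∧ Algebra.FormallyUnramified R₀ S₀ ∧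
        Nonempty (R ⊗[R₀] S₀ ≃ₐ[R] S) := by
  obtain ⟨h, k, hcert⟩ := exists_cert_q P
  obtain ⟨t, htfin, htP, hth, htk⟩ : ∃ t : Set R, t.Finite ∧ P.coeffs ⊆ t ∧
      (∀ i s, ((h i s).coeffs : Set R) ⊆ t) ∧ (∀ i j s, ((k i j s).coeffs : Set R) ⊆ t) := by
    refine ⟨P.coeffs ∪ ((⋃ i, ⋃ s, ((h i s).coeffs : Set R)) ∪
      (⋃ i, ⋃ j, ⋃ s, ((k i j s).coeffs : Set R))), ?_, Set.subset_union_left, ?_, ?_⟩
    · exact (P.finite_coeffs).union ((Set.finite_iUnion fun i => Set.finite_iUnion fun s =>
        Finset.finite_toSet _).union (Set.finite_iUnion fun i => Set.finite_iUnion fun j =>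
        Set.finite_iUnion fun s => Finset.finite_toSet _))
    · intro i s
      exact (Set.subset_iUnion (fun s => ((h i s).coeffs : Set R)) s).trans
        ((Set.subset_iUnion (fun i => ⋃ s, ((h i s).coeffs : Set R)) i).trans
          (Set.subset_union_left.trans Set.subset_union_right))
    · intro i j s
      exact (Set.subset_iUnion (fun s => ((k i j s).coeffs : Set R)) s).trans
        ((Set.subset_iUnion (fun j => ⋃ s, ((k i j s).coeffs : Set R)) j).trans
          ((Set.subset_iUnion (fun i => ⋃ j, ⋃ s, ((k i j s).coeffs : Set R)) i).trans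
            (Set.subset_union_right.trans Set.subset_union_right)))
  have hrange : t ⊆ Set.range (algebraMap (Algebra.adjoin ℤ t) R) := by
    rw [Subalgebra.setRange_algebraMap]; exact Algebra.subset_adjoin
  haveI : P.HasCoeffs (Algebra.adjoin ℤ t) := ⟨htP.trans hrange⟩
  refine ⟨Algebra.adjoin ℤ t, Algebra.FiniteType.adjoin_of_finite htfin,
    P.ModelOfHasCoeffs (Algebra.adjoin ℤ t), inferInstance, inferInstance, inferInstance, ?_,
    ⟨P.tensorModelOfHasCoeffsEquiv (Algebra.adjoin ℤ t)⟩⟩
  exact model_unramified_q P (Algebra.adjoin ℤ t) (FaithfulSMul.algebraMap_injective _ _) h k hcert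
    (fun i s => (hth i s).trans hrange) (fun i j s => (htk i j s).trans hrange)

/-- If `R → S` is G-unramified (of finite presentation and formally unramified), then there are a finite
type `ℤ`-algebra `R₀`, a ring map `R₀ → R` and a G-unramified ring map `R₀ → S₀` such that `S ≅ R
⊗_{R₀} S₀` as `R`-algebras (existence of an isomorphism). -/
theorem result (R : Type u) [CommRing R] (S : Type u) [CommRing S]
    [Algebra R S] [Algebra.FinitePresentation R S] [Algebra.FormallyUnramified R S] :
    ∃ (R₀ : Type u) (_ : CommRing R₀) (_ : Algebra.FiniteType ℤ R₀) (S₀ : Type u) (_ : CommRing S₀)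
      (_ : Algebra R₀ S₀) (_ : Algebra.FinitePresentation R₀ S₀) (_ : Algebra.FormallyUnramified R₀ S₀)
      (_ : Algebra R₀ R), Nonempty (R ⊗[R₀] S₀ ≃ₐ[R] S) := by
  classical
  obtain ⟨R₀, hft, S₀, i1, i2, hfp, hun, he⟩ :=
    main_q (Algebra.Presentation.ofFinitePresentation R S)
  exact ⟨R₀, inferInstance, hft, S₀, i1, i2, hfp, hun, inferInstance, he⟩

end Groth.Agent.S12085
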