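import Groth.Statements.S12096
import Mathlib

set_option autoImplicit false
universe u
open BlowUp

namespace Groth.Agent.S12096

/-- Néron's blowup is compatible with localization. For a ring `A`, an ideal `I`, elements `π, a ∈ A`,
`A' = A[I/π] ⊆ A_π` the affine blowup algebra and `(A_a)' = A_a[I A_a/π]` that of the localization,
the canonical map `A' → (A_a)'` (the restriction of `A_π → (A_a)_π`, given here as a datum with that
compatibility) identifies `(A_a)'` with the localization `A'_a`. In Néron's situation (`I` the
inverse image of the maximal ideal of `Λ`, `π` a uniformizer, `a ∉ I`) this reads: the Néron blowup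
of `A_a` is `A'_a`; the identity holds for arbitrary `A, I, π, a`. -/
theorem result (A : Type u) [CommRing A] (I : Ideal A) (π a : A) (hπ : π ∈ I)
    (ψ : BlowUp.affineAlgebra A I π →+*
      BlowUp.affineAlgebra (Localization.Away a) (I.map (algebraMap A (Localization.Away a))) (algebraMap A (Localization.Away a) π))
    (hψ : ∀ x : BlowUp.affineAlgebra A I π,
      ((ψ x : BlowUp.affineAlgebra (Localization.Away a) (I.map (algebraMap A (Localization.Away a))) (algebraMap A (Localization.Away a) π)) :
          Localization.Away (algebraMap A (Localization.Away a) π)) =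
        Localization.awayMap (algebraMap A (Localization.Away a)) π (x : Localization.Away π)) :
    letI := ψ.toAlgebra
    IsLocalization.Away (algebraMap A (BlowUp.affineAlgebra A I π) a)
      (BlowUp.affineAlgebra (Localization.Away a) (I.map (algebraMap A (Localization.Away a))) (algebraMap A (Localization.Away a) π)) := by
  classical
  letI := ψ.toAlgebra
  have hunitA : IsUnit (algebraMap A (Localization.Away a) a) :=
    IsLocalization.Away.algebraMap_isUnit a
  -- basic computations
  have F1 : ∀ b : A, Localization.awayMap (algebraMap A (Localization.Away a)) π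
      (algebraMap A (Localization.Away π) b) =
      algebraMap (Localization.Away a) (Localization.Away (algebraMap A (Localization.Away a) π))
        (algebraMap A (Localization.Away a) b) := by
    intro b
    simp [Localization.awayMap, IsLocalization.Away.map, IsLocalization.map_eq]
  have F2 : ∀ i : A, Localization.awayMap (algebraMap A (Localization.Away a)) π
      (IsLocalization.mk' (Localization.Away π) i ⟨π, Submonoid.mem_powers π⟩) =
      IsLocalization.mk' (Localization.Away (algebraMap A (Localization.Away a) π))
        (algebraMap A (Localization.Away a) i)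
        ⟨algebraMap A (Localization.Away a) π, Submonoid.mem_powers _⟩ := by
    intro i
    simp [Localization.awayMap, IsLocalization.Away.map, IsLocalization.map_mk']
  have hψalg : ∀ b : A, ψ (algebraMap A (BlowUp.affineAlgebra A I π) b) =
      algebraMap (Localization.Away a)
        (BlowUp.affineAlgebra (Localization.Away a) (I.map (algebraMap A (Localization.Away a)))
          (algebraMap A (Localization.Away a) π))
        (algebraMap A (Localization.Away a) b) := by
    intro b
    apply Subtype.ext
    rw [hψ]
    exact F1 b
  -- kernel of the map on localizations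
  have hker : ∀ w : Localization.Away π,
      Localization.awayMap (algebraMap A (Localization.Away a)) π w = 0 →
      ∃ n : ℕ, algebraMap A (Localization.Away π) a ^ n * w = 0 := by
    intro w hw
    obtain ⟨r, ⟨_, k, rfl⟩, rfl⟩ := IsLocalization.exists_mk'_eq (Submonoid.powers π) w
    have h1 : Localization.awayMap (algebraMap A (Localization.Away a)) π
        (IsLocalization.mk' (Localization.Away π) r (⟨π ^ k, ⟨k, rfl⟩⟩ : Submonoid.powers π)) =
        IsLocalization.mk' (Localization.Away (algebraMap A (Localization.Away a) π))
          (algebraMap A (Localization.Away a) r)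
          (⟨algebraMap A (Localization.Away a) (π ^ k), ⟨k, by rw [map_pow]⟩⟩ :
            Submonoid.powers (algebraMap A (Localization.Away a) π)) := by
      simp [Localization.awayMap, IsLocalization.Away.map, IsLocalization.map_mk']
    rw [h1, IsLocalization.mk'_eq_zero_iff] at hw
    obtain ⟨⟨_, m, rfl⟩, hm⟩ := hw
    have h2 : algebraMap A (Localization.Away a) (π ^ m * r) = 0 := by
      rw [map_mul, map_pow]; exact hm
    obtain ⟨⟨_, n, rfl⟩, hn⟩ := (IsLocalization.map_eq_zero_iff (Submonoid.powers a) _ _).1 h2
    refine ⟨n, ?_⟩
    rw [← map_pow, IsLocalization.mul_mk'_eq_mk'_of_mul, IsLocalization.mk'_eq_zero_iff]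
    refine ⟨(⟨π ^ m, ⟨m, rfl⟩⟩ : Submonoid.powers π), ?_⟩
    show π ^ m * (a ^ n * r) = 0
    rw [← hn]
    ring
  show IsLocalization (Submonoid.powers _) _
  rw [isLocalization_iff]
  have hunitC : IsUnit (ψ (algebraMap A (BlowUp.affineAlgebra A I π) a)) := by
    rw [hψalg]; exact hunitA.map _
  have hcoe : ((ψ (algebraMap A (BlowUp.affineAlgebra A I π) a) :
      BlowUp.affineAlgebra (Localization.Away a) (I.map (algebraMap A (Localization.Away a)))
          (algebraMap A (Localization.Away a) π)) :
      Localization.Away (algebraMap A (Localization.Away a) π)) =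
      algebraMap (Localization.Away a) _ (algebraMap A (Localization.Away a) a) := by
    rw [hψalg]; rfl
  refine ⟨?_, ?_, ?_⟩
  · rintro ⟨_, n, rfl⟩
    show IsUnit (ψ (algebraMap A (BlowUp.affineAlgebra A I π) a ^ n))
    rw [map_pow]; exact hunitC.pow n
  · have key : ∀ z : Localization.Away (algebraMap A (Localization.Away a) π),
        z ∈ Algebra.adjoin (Localization.Away a)
          {q : Localization.Away (algebraMap A (Localization.Away a) π) |
            ∃ x ∈ I.map (algebraMap A (Localization.Away a)), q = IsLocalization.mk' _ x
              ⟨algebraMap A (Localization.Away a) π, Submonoid.mem_powers _⟩} →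
        ∃ (x : BlowUp.affineAlgebra A I π) (n : ℕ),
          z * algebraMap (Localization.Away a) _ (algebraMap A (Localization.Away a) a) ^ n =
          ((ψ x : BlowUp.affineAlgebra (Localization.Away a)
            (I.map (algebraMap A (Localization.Away a))) (algebraMap A (Localization.Away a) π)) :
            Localization.Away (algebraMap A (Localization.Away a) π)) := by
      intro z hz'
      induction hz' using Algebra.adjoin_induction with
      | mem z hzs =>
        obtain ⟨y, hy, rfl⟩ := hzs
        obtain ⟨⟨⟨i, hi⟩, ⟨_, n, rfl⟩⟩, e⟩ :=
          (IsLocalization.mem_map_algebraMap_iff (Submonoid.powers a) (Localization.Away a)).1 hy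
        refine ⟨⟨IsLocalization.mk' (Localization.Away π) i ⟨π, Submonoid.mem_powers π⟩,
          Algebra.subset_adjoin ⟨i, hi, rfl⟩⟩, n, ?_⟩
        rw [hψ]
        show _ = Localization.awayMap (algebraMap A (Localization.Away a)) π
          (IsLocalization.mk' (Localization.Away π) i ⟨π, Submonoid.mem_powers π⟩)
        rw [F2, mul_comm, ← map_pow, IsLocalization.mul_mk'_eq_mk'_of_mul]
        congr 1
        have e' : y * algebraMap A (Localization.Away a) (a ^ n) =
            algebraMap A (Localization.Away a) i := e
        rw [← e', map_pow, mul_comm]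
      | algebraMap r =>
        obtain ⟨⟨r₀, ⟨_, k, rfl⟩⟩, e⟩ := IsLocalization.surj (Submonoid.powers a) r
        refine ⟨algebraMap A _ r₀, k, ?_⟩
        rw [hψalg]
        show _ = algebraMap (Localization.Away a) _ (algebraMap A (Localization.Away a) r₀)
        have e' : r * algebraMap A (Localization.Away a) (a ^ k) =
            algebraMap A (Localization.Away a) r₀ := e
        rw [← e', map_mul, map_pow, map_pow]
      | add z₁ z₂ _ _ h₁ h₂ =>
        obtain ⟨x₁, n₁, e₁⟩ := h₁
        obtain ⟨x₂, n₂, e₂⟩ := h₂
        refine ⟨x₁ * algebraMap A _ a ^ n₂ + x₂ * algebraMap A _ a ^ n₁, n₁ + n₂, ?_⟩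
        rw [map_add, map_mul, map_mul, map_pow, map_pow]
        show _ = ((ψ x₁ : BlowUp.affineAlgebra (Localization.Away a) _ _) :
            Localization.Away (algebraMap A (Localization.Away a) π)) *
            ((ψ (algebraMap A (BlowUp.affineAlgebra A I π) a) :
              BlowUp.affineAlgebra (Localization.Away a) _ _) :
              Localization.Away (algebraMap A (Localization.Away a) π)) ^ n₂ +
          ((ψ x₂ : BlowUp.affineAlgebra (Localization.Away a) _ _) :
            Localization.Away (algebraMap A (Localization.Away a) π)) *
            ((ψ (algebraMap A (BlowUp.affineAlgebra A I π) a) :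
              BlowUp.affineAlgebra (Localization.Away a) _ _) :
              Localization.Away (algebraMap A (Localization.Away a) π)) ^ n₁
        rw [hcoe, ← e₁, ← e₂]
        ring
      | mul z₁ z₂ _ _ h₁ h₂ =>
        obtain ⟨x₁, n₁, e₁⟩ := h₁
        obtain ⟨x₂, n₂, e₂⟩ := h₂
        refine ⟨x₁ * x₂, n₁ + n₂, ?_⟩
        rw [map_mul]
        show _ = ((ψ x₁ : BlowUp.affineAlgebra (Localization.Away a) _ _) :
            Localization.Away (algebraMap A (Localization.Away a) π)) *
          ((ψ x₂ : BlowUp.affineAlgebra (Localization.Away a) _ _) :
            Localization.Away (algebraMap A (Localization.Away a) π))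
        rw [← e₁, ← e₂]
        ring
    intro z
    obtain ⟨x, n, h⟩ := key z.1 z.2
    refine ⟨(x, ⟨algebraMap A (BlowUp.affineAlgebra A I π) a ^ n, n, rfl⟩), ?_⟩
    apply Subtype.ext
    show (z : Localization.Away (algebraMap A (Localization.Away a) π)) *
      ((ψ (algebraMap A (BlowUp.affineAlgebra A I π) a ^ n) :
        BlowUp.affineAlgebra (Localization.Away a) _ _) :
        Localization.Away (algebraMap A (Localization.Away a) π)) = _
    rw [map_pow]
    show (z : Localization.Away (algebraMap A (Localization.Away a) π)) *
      ((ψ (algebraMap A (BlowUp.affineAlgebra A I π) a) :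
        BlowUp.affineAlgebra (Localization.Away a) _ _) :
        Localization.Away (algebraMap A (Localization.Away a) π)) ^ n = _
    rw [hcoe]
    exact h
  · intro x y hxy
    have hxy' : ψ x = ψ y := hxy
    have h0 : Localization.awayMap (algebraMap A (Localization.Away a)) π
        ((x : Localization.Away π) - (y : Localization.Away π)) = 0 := by
      rw [map_sub, ← hψ, ← hψ, hxy', sub_self]
    obtain ⟨n, hn⟩ := hker _ h0
    refine ⟨⟨algebraMap A (BlowUp.affineAlgebra A I π) a ^ n, n, rfl⟩, ?_⟩
    apply Subtype.ext
    show algebraMap A (Localization.Away π) a ^ n * (x : Localization.Away π) =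
      algebraMap A (Localization.Away π) a ^ n * (y : Localization.Away π)
    rw [mul_sub, sub_eq_zero] at hn
    exact hn

end Groth.Agent.S12096
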