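import Groth.Statements.S12097
import Mathlib

set_option autoImplicit false
universe u
open BlowUp

namespace Groth.Agent.S12097

/-- Néron's blowup is compatible with closed immersions. For a surjective ring map `B → A` with kernel
`J`, an ideal `I ⊆ B` containing `π`, and the affine blowup algebras `B' = B[I/π] ⊆ B_π`, `A' =
A[IA/π] ⊆ A_π`, the canonical map `B' → A'` (the restriction of `B_π → A_π`, given as a datum with
that compatibility) is surjective with kernel the elements `x` such that `π^n x ∈ J B'` for some
`n`: `A'` is the quotient of `B'/JB'` by its `π`-power torsion. In Néron's situation (`I` the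
inverse image of the maximal ideal of `Λ`, `π` a uniformizer) this is the printed functoriality; the
identity holds for any surjection. -/
theorem result (B A : Type u) [CommRing B] [CommRing A] [Algebra B A]
    (hq : Function.Surjective (algebraMap B A)) (I : Ideal B) (π : B) (hπ : π ∈ I)
    (ψ : BlowUp.affineAlgebra B I π →+* BlowUp.affineAlgebra A (I.map (algebraMap B A)) (algebraMap B A π))
    (hψ : ∀ x : BlowUp.affineAlgebra B I π,
      ((ψ x : BlowUp.affineAlgebra A (I.map (algebraMap B A)) (algebraMap B A π)) : Localization.Away (algebraMap B A π)) =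
        Localization.awayMap (algebraMap B A) π (x : Localization.Away π)) :
    Function.Surjective ψ ∧
      ∀ x : BlowUp.affineAlgebra B I π, x ∈ RingHom.ker ψ ↔
        ∃ n : ℕ, algebraMap B (BlowUp.affineAlgebra B I π) π ^ n * x ∈
          (RingHom.ker (algebraMap B A)).map (algebraMap B (BlowUp.affineAlgebra B I π)) := by
  classical
  -- the two basic computations for the localization map
  have F1 : ∀ b : B, Localization.awayMap (algebraMap B A) π (algebraMap B (Localization.Away π) b) =
      algebraMap A (Localization.Away (algebraMap B A π)) (algebraMap B A b) := by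
    intro b
    simp [Localization.awayMap, IsLocalization.Away.map, IsLocalization.map_eq]
  have F2 : ∀ i : B, Localization.awayMap (algebraMap B A) π
      (IsLocalization.mk' (Localization.Away π) i ⟨π, Submonoid.mem_powers π⟩) =
      IsLocalization.mk' (Localization.Away (algebraMap B A π)) (algebraMap B A i)
        ⟨algebraMap B A π, Submonoid.mem_powers _⟩ := by
    intro i
    simp [Localization.awayMap, IsLocalization.Away.map, IsLocalization.map_mk']
  have hψalg : ∀ b : B, ψ (algebraMap B (BlowUp.affineAlgebra B I π) b) =
      algebraMap A (BlowUp.affineAlgebra A (I.map (algebraMap B A)) (algebraMap B A π))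
        (algebraMap B A b) := by
    intro b
    apply Subtype.ext
    rw [hψ]
    exact F1 b
  constructor
  · -- surjectivity
    have key : ∀ z : Localization.Away (algebraMap B A π),
        z ∈ Algebra.adjoin A {q : Localization.Away (algebraMap B A π) |
          ∃ x ∈ I.map (algebraMap B A), q = IsLocalization.mk' _ x
            ⟨algebraMap B A π, Submonoid.mem_powers _⟩} →
        ∃ x : BlowUp.affineAlgebra B I π,
        ((ψ x : BlowUp.affineAlgebra A (I.map (algebraMap B A)) (algebraMap B A π)) :
          Localization.Away (algebraMap B A π)) = z := by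
      intro z hz'
      induction hz' using Algebra.adjoin_induction with
      | mem z hzs =>
        obtain ⟨y, hy, rfl⟩ := hzs
        obtain ⟨i, hi, rfl⟩ := (Ideal.mem_map_iff_of_surjective _ hq).1 hy
        refine ⟨⟨IsLocalization.mk' (Localization.Away π) i ⟨π, Submonoid.mem_powers π⟩,
          Algebra.subset_adjoin ⟨i, hi, rfl⟩⟩, ?_⟩
        rw [hψ]
        exact F2 i
      | algebraMap r =>
        obtain ⟨b, rfl⟩ := hq r
        refine ⟨algebraMap B _ b, ?_⟩
        rw [hψalg]
        rfl
      | add z₁ z₂ _ _ h₁ h₂ =>
        obtain ⟨x₁, rfl⟩ := h₁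
        obtain ⟨x₂, rfl⟩ := h₂
        exact ⟨x₁ + x₂, by rw [map_add]; rfl⟩
      | mul z₁ z₂ _ _ h₁ h₂ =>
        obtain ⟨x₁, rfl⟩ := h₁
        obtain ⟨x₂, rfl⟩ := h₂
        exact ⟨x₁ * x₂, by rw [map_mul]; rfl⟩
    rintro ⟨z, hz⟩
    obtain ⟨x, hx⟩ := key z hz
    exact ⟨x, Subtype.ext hx⟩
  · intro x
    have hunit : IsUnit (algebraMap A (Localization.Away (algebraMap B A π)) (algebraMap B A π)) :=
      IsLocalization.Away.algebraMap_isUnit _
    constructor
    · -- kernel elements are π-power torsion modulo J B'
      intro hx
      rw [RingHom.mem_ker] at hx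
      -- clear denominators
      have hden : ∀ y : Localization.Away π, y ∈ BlowUp.affineAlgebra B I π →
          ∃ (N : ℕ) (b : B), algebraMap B (Localization.Away π) π ^ N * y =
            algebraMap B (Localization.Away π) b := by
        intro y hy
        have hy' : y ∈ Algebra.adjoin B {q : Localization.Away π |
          ∃ x ∈ I, q = IsLocalization.mk' _ x ⟨π, Submonoid.mem_powers π⟩} := hy
        clear hy
        induction hy' using Algebra.adjoin_induction with
        | mem y hys =>
          obtain ⟨i, -, rfl⟩ := hys
          refine ⟨1, i, ?_⟩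
          rw [pow_one]
          exact IsLocalization.mk'_spec' (Localization.Away π) i ⟨π, Submonoid.mem_powers π⟩
        | algebraMap r => exact ⟨0, r, by rw [pow_zero, one_mul]⟩
        | add y₁ y₂ _ _ h₁ h₂ =>
          obtain ⟨N₁, b₁, e₁⟩ := h₁
          obtain ⟨N₂, b₂, e₂⟩ := h₂
          refine ⟨N₁ + N₂, π ^ N₂ * b₁ + π ^ N₁ * b₂, ?_⟩
          rw [map_add, map_mul, map_mul, map_pow, map_pow, ← e₁, ← e₂]
          ring
        | mul y₁ y₂ _ _ h₁ h₂ =>
          obtain ⟨N₁, b₁, e₁⟩ := h₁
          obtain ⟨N₂, b₂, e₂⟩ := h₂
          refine ⟨N₁ + N₂, b₁ * b₂, ?_⟩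
          rw [map_mul, ← e₁, ← e₂]
          ring
      obtain ⟨N, b, e⟩ := hden x x.2
      have h0 : algebraMap A (Localization.Away (algebraMap B A π)) (algebraMap B A b) = 0 := by
        rw [← F1, ← e, map_mul, ← hψ, hx]
        simp
      obtain ⟨⟨_, m, rfl⟩, hm⟩ := (IsLocalization.map_eq_zero_iff
        (Submonoid.powers (algebraMap B A π)) _ _).1 h0
      have hJ : π ^ m * b ∈ RingHom.ker (algebraMap B A) := by
        rw [RingHom.mem_ker, map_mul, map_pow]
        exact hm
      refine ⟨m + N, ?_⟩
      have e2 : algebraMap B (BlowUp.affineAlgebra B I π) π ^ (m + N) * x =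
          algebraMap B (BlowUp.affineAlgebra B I π) (π ^ m * b) := by
        apply Subtype.ext
        show algebraMap B (Localization.Away π) π ^ (m + N) * (x : Localization.Away π) =
          algebraMap B (Localization.Away π) (π ^ m * b)
        rw [map_mul, map_pow, ← e, pow_add]
        ring
      rw [e2]
      exact Ideal.mem_map_of_mem _ hJ
    · rintro ⟨n, hn⟩
      rw [RingHom.mem_ker]
      have hJ0 : (RingHom.ker (algebraMap B A)).map (algebraMap B (BlowUp.affineAlgebra B I π)) ≤
          RingHom.ker ψ := by
        rw [Ideal.map_le_iff_le_comap]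
        intro j hj
        rw [Ideal.mem_comap, RingHom.mem_ker, hψalg, (RingHom.mem_ker).1 hj, map_zero]
      have h1 := hJ0 hn
      rw [RingHom.mem_ker, map_mul, map_pow, hψalg] at h1
      apply Subtype.ext
      have h2 := congrArg (Subtype.val) h1
      have h3 : algebraMap A (Localization.Away (algebraMap B A π)) (algebraMap B A π) ^ n *
          ((ψ x : BlowUp.affineAlgebra A (I.map (algebraMap B A)) (algebraMap B A π)) :
            Localization.Away (algebraMap B A π)) = 0 := h2
      exact ((hunit.pow n).mul_right_eq_zero).1 h3

end Groth.Agent.S12097
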