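import Groth.Statements.S12099
import Mathlib

set_option autoImplicit false
universe v u
open CategoryTheory CategoryTheory.Limits
open PCoh

namespace Groth.Agent.S12099

/-- Punctual site: let C be an abelian category and C₀ a strictly full additive subcategory,
quasi-liftable in C. For an exact sequence F → G → H → 0 with F of C₀-finite type and G precoherent
relative to C₀ (every morphism from a C₀-object into G has kernel of C₀-finite type), H is
precoherent relative to C₀. -/
theorem result {C : Type u} [Category.{v} C] [Abelian C]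
    (P : ObjectProperty C) [P.IsClosedUnderIsomorphisms] [P.ContainsZero] (hsum : ∀ X Y : C, P X → P Y → P (X ⨯ Y))
    (hql : PCoh.IsQuasiLiftable P)
    (S : ShortComplex C) (hS : S.Exact) (hg : Epi S.g)
    (hF : PCoh.IsOfFiniteType P S.X₁) (hG : ∀ (E : C) (u : E ⟶ S.X₂), P E → PCoh.IsOfFiniteType P (kernel u)) :
    ∀ (E : C) (u : E ⟶ S.X₃), P E → PCoh.IsOfFiniteType P (kernel u) := by
  classical
  intro E u hE
  obtain ⟨EF, πF, hEF, hπF⟩ := hF
  haveI := hπF
  haveI := hg
  -- lift E to G up to an epimorphism from an object of `P`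
  obtain ⟨E₁, v, hE₁, hv⟩ := hql (pullback u S.g) E (pullback.fst u S.g) inferInstance hE
  haveI := hv
  set e : E₁ ⟶ E := v ≫ pullback.fst u S.g with he
  set w : E₁ ⟶ S.X₂ := v ≫ pullback.snd u S.g with hw
  have hew : e ≫ u = w ≫ S.g := by
    rw [he, hw, Category.assoc, Category.assoc, pullback.condition]
  -- the auxiliary morphism `t : E₁ ⨯ EF ⟶ G`
  set t : E₁ ⨯ EF ⟶ S.X₂ := prod.fst ≫ w - prod.snd ≫ πF ≫ S.f with ht
  obtain ⟨E₀, ρ, hE₀, hρ⟩ := hG (E₁ ⨯ EF) t (hsum _ _ hE₁ hEF)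
  haveI := hρ
  have hιt : kernel.ι t ≫ prod.fst ≫ w = kernel.ι t ≫ prod.snd ≫ πF ≫ S.f := by
    have h := kernel.condition t
    rw [ht, Preadditive.comp_sub, sub_eq_zero] at h
    exact h
  have hφ0 : (kernel.ι t ≫ prod.fst ≫ e) ≫ u = 0 := by
    have h1 : (kernel.ι t ≫ prod.fst ≫ e) ≫ u = (kernel.ι t ≫ prod.fst ≫ w) ≫ S.g := by
      simp only [Category.assoc, hew]
    rw [h1, hιt]
    simp only [Category.assoc, S.zero, comp_zero]
  set φ : kernel t ⟶ kernel u := kernel.lift u (kernel.ι t ≫ prod.fst ≫ e) hφ0 with hφ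
  have hφepi : Epi φ := by
    rw [epi_iff_surjective_up_to_refinements]
    intro A a
    obtain ⟨A₁, π₁, hπ₁, b, hb⟩ := surjective_up_to_refinements_of_epi e (a ≫ kernel.ι u)
    have hb0 : (b ≫ w) ≫ S.g = 0 := by
      rw [Category.assoc, ← hew, ← Category.assoc, ← hb, Category.assoc, Category.assoc,
        kernel.condition, comp_zero, comp_zero]
    obtain ⟨A₂, π₂, hπ₂, x₁, hx₁⟩ := hS.exact_up_to_refinements (b ≫ w) hb0
    obtain ⟨A₃, π₃, hπ₃, y, hy⟩ := surjective_up_to_refinements_of_epi πF x₁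
    have hc : prod.lift (π₃ ≫ π₂ ≫ b) y ≫ t = 0 := by
      rw [ht, Preadditive.comp_sub, sub_eq_zero, prod.lift_fst_assoc, prod.lift_snd_assoc,
        Category.assoc, Category.assoc, hx₁, ← Category.assoc y, ← hy, Category.assoc]
    refine ⟨A₃, π₃ ≫ π₂ ≫ π₁, inferInstance, kernel.lift t _ hc, ?_⟩
    rw [← cancel_mono (kernel.ι u)]
    simp only [Category.assoc, hφ, kernel.lift_ι, kernel.lift_ι_assoc, prod.lift_fst_assoc]
    rw [hb]
  exact ⟨E₀, ρ ≫ φ, hE₀, epi_comp ρ φ⟩

end Groth.Agent.S12099
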