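-- Statement S12100.
import Groth.Statements.S12100
import Mathlib
import Groth.Agent.Lib.Helper1.PCohStep

set_option autoImplicit false
universe w v u
open CategoryTheory CategoryTheory.Limits
open PCoh

namespace Groth.Agent.S12100

open Groth.Agent.Lib.Helper1.PCohFT Groth.Agent.Lib.Helper1.PCohCone Groth.Agent.Lib.Helper1.PCohTri
  Groth.Agent.Lib.Helper1.PCohMore Groth.Agent.Lib.Helper1.PCohStep

/-- Let C be an abelian category and C₀ a strictly full additive subcategory, quasi-stable under kernels
of epimorphisms and quasi-liftable; let n, i be integers, E a strictly n-pseudo-coherent cochain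
complex, F an n-pseudo-coherent cochain complex (isomorphic in D(C) to a strictly n-pseudo-coherent
one) and u : E ⟶ F an i-quasi-isomorphism (an isomorphism on H^j for j > i, an epimorphism on H^i).
Then u = v ≫ u' with u' : E' ⟶ F a quasi-isomorphism, E' strictly n-pseudo-coherent, and v : E ⟶ E'
a monomorphism in each degree which is an isomorphism in every degree ≥ i. (The source obtains v
equal to the identity in degrees ≥ i; stated here up to isomorphism in those degrees.) -/
theorem result {C : Type u} [Category.{v} C] [Abelian C] [HasDerivedCategory.{w} C]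
    (P : ObjectProperty C) [P.IsClosedUnderIsomorphisms] [P.ContainsZero] (hsum : ∀ X Y : C, P X → P Y → P (X ⨯ Y))
    (hqs : PCoh.IsQuasiStableUnderKernels P) (hql : PCoh.IsQuasiLiftable P)
    (n i : ℤ) (E F : CochainComplex C ℤ) (hE : PCoh.IsStrictPC P n E)
    (hF : ∃ F₀ : CochainComplex C ℤ, PCoh.IsStrictPC P n F₀ ∧ Nonempty (DerivedCategory.Q.obj F₀ ≅ DerivedCategory.Q.obj F))
    (u : E ⟶ F) (hiso : ∀ j : ℤ, i < j → IsIso (HomologicalComplex.homologyMap u j))
    (hepi : Epi (HomologicalComplex.homologyMap u i)) :
    ∃ (E' : CochainComplex C ℤ) (v : E ⟶ E') (u' : E' ⟶ F), v ≫ u' = u ∧ PCoh.IsStrictPC P n E' ∧ QuasiIso u' ∧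
      (∀ j : ℤ, Mono (v.f j)) ∧ (∀ j : ℤ, i ≤ j → IsIso (v.f j)) := by
  have hex : ∀ j, i < j → (CochainComplex.mappingCocone u).ExactAt j := fun j hj =>
    cocone_exactAt u (i + 1) (fun l hl => hiso l (by omega)) i rfl hepi j (by omega)
  have hT : NPC P n (DerivedCategory.Q.obj F) := hF
  -- attach cells in degrees `i - 1, …, n`
  obtain ⟨G', w', ι, h1, hG', h3, h4, h5⟩ := iterNPC hsum hqs hql n hT (i - min i n).toNat E u (i - 1)
    (by
      rcases le_total i n with h | h
      · left
        rw [min_eq_left h]
        simp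
      · right
        rw [min_eq_right h]
        have : ((i - n).toNat : ℤ) = i - n := Int.toNat_of_nonneg (by omega)
        omega) hE
    (fun j hj => hex j (by omega))
  have hk : ((i - min i n).toNat : ℤ) = i - min i n :=
    Int.toNat_of_nonneg (by have := min_le_left i n; omega)
  obtain ⟨E', v, u', hvu, hqi, hmono, hiso'⟩ := factor_of_cocone_exact w' (min i n)
    (fun j hj => h5 j (by omega))
  refine ⟨E', ι ≫ v, u', by rw [Category.assoc, hvu, h1], ?_, hqi, fun j => ?_, fun j hj => ?_⟩
  · obtain ⟨⟨b, hb⟩, hP⟩ := hG'
    refine ⟨⟨max b n, fun j hj => ?_⟩, fun j hj => ?_⟩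
    · have := hiso' j (by have := min_le_right i n; omega)
      exact IsZero.of_iso (hb j (by omega)) (asIso (v.f j)).symm
    · have := hiso' j (by have := min_le_right i n; omega)
      exact P.prop_of_iso (asIso (v.f j)) (hP j hj)
  · have := h3 j
    have := hmono j
    rw [HomologicalComplex.comp_f]
    exact mono_comp _ _
  · have := h4 j (by omega)
    have := hiso' j (by have := min_le_left i n; omega)
    rw [HomologicalComplex.comp_f]
    infer_instance

end Groth.Agent.S12100
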