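-- Statement S12102.
import Groth.Statements.S12102
import Mathlib
import Groth.Agent.Lib.Helper1.PCohFP

set_option autoImplicit false
universe w v u
open CategoryTheory CategoryTheory.Limits
open PCoh

namespace Groth.Agent.S12102

open Groth.Agent.Lib.Helper1.PCohFT Groth.Agent.Lib.Helper1.PCohCone Groth.Agent.Lib.Helper1.PCohTri
  Groth.Agent.Lib.Helper1.PCohMore Groth.Agent.Lib.Helper1.PCohFP

/-- Let C be an abelian category and C₀ a strictly full additive subcategory, quasi-stable under kernels
of epimorphisms and quasi-liftable; let F be an object of C and n a natural number. Then F is of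
n-C₀-finite presentation (there is an exact sequence E_{n+1} → ⋯ → E_1 → F → 0 with all E_j in C₀;
encoded as an ℕ-indexed chain complex K with K_0 ≅ F, exact at the indices 0, …, n, zero beyond
index n + 1, and K_1, …, K_{n+1} in C₀) if and only if F placed in degree 0 is (−n)-pseudo-coherent
(isomorphic in D(C) to a strictly (−n)-pseudo-coherent complex). -/
theorem result {C : Type u} [Category.{v} C] [Abelian C] [HasDerivedCategory.{w} C]
    (P : ObjectProperty C) [P.IsClosedUnderIsomorphisms] [P.ContainsZero] (hsum : ∀ X Y : C, P X → P Y → P (X ⨯ Y))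
    (hqs : PCoh.IsQuasiStableUnderKernels P) (hql : PCoh.IsQuasiLiftable P)
    (F : C) (n : ℕ) :
    (∃ K : ChainComplex C ℕ, Nonempty (K.X 0 ≅ F) ∧ (∀ j : ℕ, j ≤ n → K.ExactAt j) ∧
        (∀ j : ℕ, n + 1 < j → IsZero (K.X j)) ∧ (∀ j : ℕ, 1 ≤ j → j ≤ n + 1 → P (K.X j))) ↔
      (∃ E : CochainComplex C ℤ, PCoh.IsStrictPC P (-(n : ℤ)) E ∧
        Nonempty (DerivedCategory.Q.obj E ≅ (DerivedCategory.singleFunctor C 0).obj F)) := by
  constructor
  · rintro ⟨K, ⟨e⟩, hex, _, hP⟩
    exact (NPC_of_presentation hsum hqs hql K n hex hP).of_iso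
      ((DerivedCategory.singleFunctor C 0).mapIso e)
  · intro hF
    obtain ⟨K, ε, w, hε, hex1, hex, hz, hP⟩ := exists_presentation hsum hqs hql n F hF
    refine ⟨ChainComplex.augment K ε w, ⟨Iso.refl _⟩, fun j hj => ?_, fun j hj => ?_,
      fun j h1 h2 => ?_⟩
    · rcases j with _ | _ | j
      · exact augment_exactAt_zero K ε w
      · exact augment_exactAt_one K ε w (hex1 (by omega))
      · exact augment_exactAt_succ_succ K ε w j (hex (j + 1) (by omega) (by omega))
    · obtain ⟨j, rfl⟩ : ∃ j', j = j' + 1 := ⟨j - 1, by omega⟩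
      exact hz j (by omega)
    · obtain ⟨j, rfl⟩ : ∃ j', j = j' + 1 := ⟨j - 1, by omega⟩
      exact hP j (by omega)

end Groth.Agent.S12102
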