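import Groth.Statements.S12105
import Groth.Agent.Lib.Helper2.GSS.Main
import Groth.Agent.Lib.Helper2.GSS.HomFunctor
import Groth.Agent.Lib.Helper13.DerivedPush
-- import your own Groth.Agent.* helpers here

set_option autoImplicit false
universe u
open CategoryTheory
open CohSite

namespace Groth.Agent.S12105

open CategoryTheory.Limits Opposite CategoryTheory.Abelian
open Groth.Agent.Lib.Helper2.GSS Groth.Agent.Lib.Helper13.DerivedPush
  Groth.Agent.Lib.Helper13.DerivedCommute

section

variable {C : Type u} [SmallCategory C] (J : GrothendieckTopology C)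

/-- presheaves as sheaves for the trivial topology -/
noncomputable abbrev Einv : (Cᵒᵖ ⥤ AddCommGrpCat.{u}) ⥤ Sheaf (⊥ : GrothendieckTopology C) AddCommGrpCat.{u} :=
  (sheafBotEquivalence AddCommGrpCat.{u}).inverse

/-- the inclusion of `J`-sheaves into `⊥`-sheaves -/
noncomputable abbrev TT : Sheaf J AddCommGrpCat.{u} ⥤ Sheaf (⊥ : GrothendieckTopology C) AddCommGrpCat.{u} :=
  sheafToPresheaf J AddCommGrpCat.{u} ⋙ Einv

/-- its left adjoint -/
noncomputable abbrev LT : Sheaf (⊥ : GrothendieckTopology C) AddCommGrpCat.{u} ⥤ Sheaf J AddCommGrpCat.{u} :=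
  sheafToPresheaf (⊥ : GrothendieckTopology C) AddCommGrpCat.{u} ⋙ presheafToSheaf J AddCommGrpCat.{u}

noncomputable def adjT : LT J ⊣ TT J :=
  (sheafBotEquivalence AddCommGrpCat.{u}).toAdjunction.comp (sheafificationAdjunction J AddCommGrpCat.{u})

instance : (Einv (C := C)).Additive := by
  haveI : (sheafBotEquivalence (C := C) AddCommGrpCat.{u}).functor.Additive :=
    inferInstanceAs (sheafToPresheaf _ _).Additive
  exact (sheafBotEquivalence AddCommGrpCat.{u}).inverse_additive

instance : (TT J).Additive := by dsimp only [TT]; infer_instance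
instance : (LT J).Additive := by dsimp only [LT]; infer_instance
instance : PreservesFiniteLimits (LT J) := by dsimp only [LT]; infer_instance

lemma injective_TT (Q : Sheaf J AddCommGrpCat.{u}) [Injective Q] : Injective ((TT J).obj Q) :=
  Injective.injective_of_adjoint (adjT J) Q

end


theorem aux {C : Type u} [SmallCategory C]
    (J : GrothendieckTopology C) (R : Cᵒᵖ ⥤ Type u) (M : Sheaf J AddCommGrpCat.{u}) :
    ∃ (E : E₂CohomologicalSpectralSequence AddCommGrpCat.{u})
      (a : SpSeq.Abutment E (fun n : ℤ =>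
        if 0 ≤ n then AddCommGrpCat.of (CohCx.HK ((presheafToSheaf J (Type u)).obj R) M n.toNat)
        else AddCommGrpCat.of PUnit.{u + 1})),
      (∀ n, a.IsFinite n) ∧ SpSeq.IsBounded E ∧
      ∀ p q : ℤ, Nonempty ((E.page 2 le_rfl).X (p, q) ≅
        (if 0 ≤ p ∧ 0 ≤ q then
          AddCommGrpCat.of (CohCx.HK (J := (⊥ : GrothendieckTopology C)) ⟨R, Presheaf.isSheaf_bot _⟩
            ⟨M.cohomologyPresheaf q.toNat, Presheaf.isSheaf_bot _⟩ p.toNat)
         else AddCommGrpCat.of PUnit.{u + 1})) := by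
  let P_R : Sheaf (⊥ : GrothendieckTopology C) AddCommGrpCat.{u} :=
    (presheafToSheaf (⊥ : GrothendieckTopology C) AddCommGrpCat.{u}).obj (R ⋙ AddCommGrpCat.free.{u})
  refine grothendieck_ss_ite (TT J) (homF P_R) ?_ M
    (fun n => AddCommGrpCat.of (CohCx.HK ((presheafToSheaf J (Type u)).obj R) M n)) ?_
    (fun p q => AddCommGrpCat.of (CohCx.HK (J := (⊥ : GrothendieckTopology C))
      ⟨R, Presheaf.isSheaf_bot _⟩ ⟨M.cohomologyPresheaf q, Presheaf.isSheaf_bot _⟩ p)) ?_
    (AddCommGrpCat.of PUnit.{u + 1}) (AddCommGrpCat.of PUnit.{u + 1})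
    (AddCommGrpCat.isZero_of_subsingleton _) (AddCommGrpCat.isZero_of_subsingleton _)
  · intro Q hQ q hq
    obtain ⟨q', rfl⟩ : ∃ q', q = q' + 1 := ⟨q - 1, by omega⟩
    haveI := injective_TT J Q
    exact Functor.isZero_rightDerived_obj_injective_succ _ _ _
  · intro n
    -- the composite is `Hom(X₁, -)` with `X₁ = a_J(ι a_⊥ ℤ[R])`
    let e₁ : TT J ⋙ homF P_R ≅ homF ((LT J).obj P_R) := homFAdjIso (adjT J) P_R
    -- `ι a_⊥ P ≅ P`
    haveI : IsIso ((sheafificationAdjunction (⊥ : GrothendieckTopology C) AddCommGrpCat.{u}).unit.app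
        (R ⋙ AddCommGrpCat.free.{u})) := by
      have := isIso_toSheafify (⊥ : GrothendieckTopology C) (Presheaf.isSheaf_bot (R ⋙ AddCommGrpCat.free.{u}))
      exact this
    let e₂ : (LT J).obj P_R ≅ (presheafToSheaf J AddCommGrpCat.{u}).obj (R ⋙ AddCommGrpCat.free.{u}) :=
      (presheafToSheaf J AddCommGrpCat.{u}).mapIso
        (asIso ((sheafificationAdjunction (⊥ : GrothendieckTopology C) AddCommGrpCat.{u}).unit.app
          (R ⋙ AddCommGrpCat.free.{u}))).symm
    let e₃ : (presheafToSheaf J AddCommGrpCat.{u}).obj (R ⋙ AddCommGrpCat.free.{u}) ≅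
        (presheafToSheaf J AddCommGrpCat.{u}).obj
          (((presheafToSheaf J (Type u)).obj R).obj ⋙ AddCommGrpCat.free.{u}) :=
      ((presheafToSheafCompComposeAndSheafifyIso J AddCommGrpCat.free.{u}).app R).symm
    let e : TT J ⋙ homF P_R ≅ homF ((presheafToSheaf J AddCommGrpCat.{u}).obj
          (((presheafToSheaf J (Type u)).obj R).obj ⋙ AddCommGrpCat.free.{u})) :=
      e₁ ≪≫ homFIsoOfIso (e₂ ≪≫ e₃)
    exact ⟨(rightDerivedHomFIso _ M n).symm ≪≫ (rightDerivedObjIsoOfNatIso e n M).symm⟩
  · intro p q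
    let eq : ((TT J).rightDerived q).obj M ≅
        (⟨M.cohomologyPresheaf q, Presheaf.isSheaf_bot _⟩ :
          Sheaf (⊥ : GrothendieckTopology C) AddCommGrpCat.{u}) :=
      rightDerivedCompExactObjIso (sheafToPresheaf J AddCommGrpCat.{u}) Einv q M ≪≫
        Einv.mapIso (rightDerivedSheafToPresheafIso J M q)
    exact ⟨(rightDerivedHomFIso P_R _ p).symm ≪≫ ((homF P_R).rightDerived p).mapIso eq.symm⟩

open CategoryTheory.Limits in
/-- On a small site (C, J), for a presheaf of sets R on C and an abelian sheaf M there is a bounded E_2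
spectral sequence of abelian groups with E_2^{p,q} isomorphic to H^p(R, H^q(M)) — the cohomology, in
the topos of presheaves (sheaves for the trivial topology), of the presheaf V ↦ H^q(V, M) with
respect to R, i.e. the p-th Ext out of the free abelian presheaf on R — for p, q ≥ 0 and zero
otherwise, with abutment data whose filtrations are finite on H^n(aR, M), the cohomology of M with
respect to the sheaf of sets associated to R (n ≥ 0; zero for n < 0). The E_2 identifications and
abutment isomorphisms are asserted to exist only, not pinned to the canonical maps, so edge maps and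
functoriality in R and M are not part of this statement. -/
theorem result {C : Type u} [SmallCategory C]
    (J : GrothendieckTopology C) (R : Cᵒᵖ ⥤ Type u) (M : Sheaf J AddCommGrpCat.{u}) :
    ∃ (E : E₂CohomologicalSpectralSequence AddCommGrpCat.{u})
      (a : SpSeq.Abutment E (fun n : ℤ =>
        if 0 ≤ n then AddCommGrpCat.of (CohCx.HK ((presheafToSheaf J (Type u)).obj R) M n.toNat)
        else AddCommGrpCat.of PUnit.{u + 1})),
      (∀ n, a.IsFinite n) ∧ SpSeq.IsBounded E ∧
      ∀ p q : ℤ, Nonempty ((E.page 2 le_rfl).X (p, q) ≅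
        (if 0 ≤ p ∧ 0 ≤ q then
          AddCommGrpCat.of (CohCx.HK (J := (⊥ : GrothendieckTopology C)) ⟨R, Presheaf.isSheaf_bot _⟩
            ⟨M.cohomologyPresheaf q.toNat, Presheaf.isSheaf_bot _⟩ p.toNat)
         else AddCommGrpCat.of PUnit.{u + 1})) := aux J R M

end Groth.Agent.S12105
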