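import Groth.Statements.S12107
import Groth.Agent.Lib.Helper5.ClosedComplBasic
import Mathlib.CategoryTheory.Adhesive.Basic

set_option autoImplicit false
universe u
open CategoryTheory
open SGA4

namespace Groth.Agent.S12107


open CategoryTheory.Limits in
lemma isPullback_prod_snd {E : Type*} [Category E] [HasBinaryProducts E] (U : E) {X X' : E}
    (m : X ⟶ X') :
    IsPullback (prod.snd : U ⨯ X ⟶ X) (prod.map (𝟙 U) m) m (prod.snd : U ⨯ X' ⟶ X') := by
  refine ⟨⟨(prod.map_snd _ _).symm⟩, ⟨PullbackCone.IsLimit.mk _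
    (fun s => prod.lift (s.snd ≫ prod.fst) s.fst) ?_ ?_ ?_⟩⟩
  · intro s
    exact prod.lift_snd _ _
  · intro s
    apply Limits.prod.hom_ext
    · rw [Category.assoc, prod.map_fst, Category.comp_id, prod.lift_fst]
    · rw [Category.assoc, prod.map_snd, prod.lift_snd_assoc, s.condition]
  · intro s l h1 h2
    apply Limits.prod.hom_ext
    · rw [prod.lift_fst, ← h2, Category.assoc, prod.map_fst, Category.comp_id]
    · rw [prod.lift_snd, ← h1]

open CategoryTheory.Limits in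
theorem aux {E : Type*} [Category E] [HasBinaryProducts E] [Adhesive E] (U : E)
    (hU : ∀ (W : E) (a b : W ⟶ U), a = b) {X X' P P' : E} (m : X ⟶ X')
    {inl : U ⟶ P} {inr : X ⟶ P} {inl' : U ⟶ P'} {inr' : X' ⟶ P'}
    (H : IsPushout (prod.fst : U ⨯ X ⟶ U) (prod.snd : U ⨯ X ⟶ X) inl inr)
    (H' : IsPushout (prod.fst : U ⨯ X' ⟶ U) (prod.snd : U ⨯ X' ⟶ X') inl' inr')
    (k : P ⟶ P') (hk₁ : inl ≫ k = inl') (hk₂ : inr ≫ k = m ≫ inr') :
    IsPullback m inr inr' k ↔ IsIso (prod.map (𝟙 U) m) := by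
  haveI hmono : ∀ Y : E, Mono (prod.snd : U ⨯ Y ⟶ Y) := fun Y =>
    ⟨fun f g h => Limits.prod.hom_ext (hU _ _ _) h⟩
  constructor
  · intro hpb
    have Hpb : IsPullback (prod.fst : U ⨯ X ⟶ U) (prod.snd : U ⨯ X ⟶ X) inl inr :=
      Adhesive.isPullback_of_isPushout_of_mono_right H
    have Hpb' : IsPullback (prod.fst : U ⨯ X' ⟶ U) (prod.snd : U ⨯ X' ⟶ X') inl' inr' :=
      Adhesive.isPullback_of_isPushout_of_mono_right H'
    have hp := (Hpb.flip.paste_horiz hpb).flip
    rw [hk₁] at hp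
    let e := hp.isoIsPullback _ _ Hpb'
    have he : e.hom = prod.map (𝟙 U) m := by
      apply Limits.prod.hom_ext
      · rw [prod.map_fst, Category.comp_id]
        exact hp.isoIsPullback_hom_fst _ _ Hpb'
      · rw [prod.map_snd]
        exact hp.isoIsPullback_hom_snd _ _ Hpb'
    rw [← he]
    infer_instance
  · intro hiso
    have hVK := Adhesive.van_kampen' H'
    have h1 : IsPullback (prod.fst : U ⨯ X ⟶ U) (prod.map (𝟙 U) m) (𝟙 U)
        (prod.fst : U ⨯ X' ⟶ U) :=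
      IsPullback.of_vert_isIso ⟨by rw [prod.map_fst]⟩
    have h2 : IsPullback (prod.snd : U ⨯ X ⟶ X) (prod.map (𝟙 U) m) m
        (prod.snd : U ⨯ X' ⟶ X') := isPullback_prod_snd U m
    have := (hVK (prod.fst : U ⨯ X ⟶ U) (prod.snd : U ⨯ X ⟶ X) inl inr (prod.map (𝟙 U) m)
      (𝟙 U) m k h1 h2 ⟨by rw [hk₁, Category.id_comp]⟩ ⟨hk₂⟩ H.toCommSq).1 H
    exact this.2.flip

open CategoryTheory.Limits in
/-- In the topos of sheaves of sets on a small site, let U be an open (a subobject of the final object)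
and, for an object X, let X_CU be the pushout of U ← U × X → X along the two projections. For a
morphism m : X ⟶ X' let k : X_CU ⟶ X'_CU be the induced morphism (compatible with the maps from U
and with m). Then the square with sides m, k and the canonical maps X ⟶ X_CU, X' ⟶ X'_CU is
cartesian if and only if id_U × m : U × X ⟶ U × X' is an isomorphism (that is, m restricts to an
isomorphism over U). -/
theorem result {C : Type u} [SmallCategory C] (J : GrothendieckTopology C)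
    (U : Sheaf J (Type u)) (hU : SGA4.IsOpen U) {X X' : Sheaf J (Type u)} (m : X ⟶ X')
    (k : pushout (prod.fst : U ⨯ X ⟶ U) (prod.snd : U ⨯ X ⟶ X) ⟶
      pushout (prod.fst : U ⨯ X' ⟶ U) (prod.snd : U ⨯ X' ⟶ X'))
    (hk₁ : pushout.inl (prod.fst : U ⨯ X ⟶ U) (prod.snd : U ⨯ X ⟶ X) ≫ k =
      pushout.inl (prod.fst : U ⨯ X' ⟶ U) (prod.snd : U ⨯ X' ⟶ X'))
    (hk₂ : pushout.inr (prod.fst : U ⨯ X ⟶ U) (prod.snd : U ⨯ X ⟶ X) ≫ k =
      m ≫ pushout.inr (prod.fst : U ⨯ X' ⟶ U) (prod.snd : U ⨯ X' ⟶ X')) :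
    IsPullback m (pushout.inr (prod.fst : U ⨯ X ⟶ U) (prod.snd : U ⨯ X ⟶ X))
        (pushout.inr (prod.fst : U ⨯ X' ⟶ U) (prod.snd : U ⨯ X' ⟶ X')) k ↔
      IsIso (prod.map (𝟙 U) m) := by
  exact aux U (fun W a b => Groth.Agent.Lib.Helper5.ClosedCompl.isOpen_hom_ext hU a b) m
    (IsPushout.of_hasPushout _ _) (IsPushout.of_hasPushout _ _) k hk₁ hk₂

end Groth.Agent.S12107
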