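import Groth.Statements.S12108
import Groth.Agent.Lib.Helper5.SheafifyCoprod

set_option autoImplicit false
open CategoryTheory CategoryTheory.Limits
universe u
open SGA4

namespace Groth.Agent.S12108


open Groth.Agent.Lib.Helper5.SheafifyCoprod

/-- Let `(C, J)` be a small site, `X` an object and `s i : Y i ⟶ X` a family of morphisms indexed by a
small type. The following are equivalent: (i) the family is covering, for every `i` the diagonal of
presheaves `h_{Y i} ⟶ h_{Y i} ×_{h_X} h_{Y i}` becomes an isomorphism under the associated-sheaf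
functor, and for all `i ≠ j` the sheaf associated to the presheaf `h_{Y i} ×_{h_X} h_{Y j}` is an
initial object; (ii) the associated sheaf of `X`, with the maps induced by the `s i`, is a coproduct
of the associated sheaves of the `Y i` in sheaves of sets. -/
theorem result
    {C : Type u} [SmallCategory C] (J : GrothendieckTopology C) {X : C} {ι : Type u}
    (Y : ι → C) (s : ∀ i, Y i ⟶ X) :
    (Sieve.ofArrows Y s ∈ J X ∧
      (∀ i, IsIso ((presheafToSheaf J (Type u)).map (pullback.diagonal (yoneda.map (s i))))) ∧
      (∀ i j, i ≠ j → Nonempty (IsInitial ((presheafToSheaf J (Type u)).obj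
        (pullback (yoneda.map (s i)) (yoneda.map (s j))))))) ↔
    Nonempty (IsColimit (Cofan.mk ((presheafToSheaf J (Type u)).obj (yoneda.obj X))
      (fun i => (presheafToSheaf J (Type u)).map (yoneda.map (s i))))) := by
  rw [← isIso_sheafify_phi_iff Y s J, ← J.W_iff, J.W_iff_isLocallyBijective,
    locallySurjective_phi_iff Y s J, locallyInjective_phi_iff Y s J]
  constructor
  · rintro ⟨hcov, hdiag, hinit⟩
    refine ⟨⟨fun T i a b hab => ?_, fun T i j hij a b hab => ?_⟩, hcov⟩
    · exact (isIso_sheafify_diagonal_iff J (yoneda.map (s i))).1 (hdiag i) T a b hab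
    · obtain ⟨z, -, -⟩ := psh_pullback_exists (yoneda.map (s i)) (yoneda.map (s j))
        (T := Opposite.op T) a b hab
      exact (isInitial_sheafify_iff J _).1 (hinit i j hij) T z
  · rintro ⟨⟨h1, h2⟩, hcov⟩
    refine ⟨hcov, fun i => ?_, fun i j hij => ?_⟩
    · exact (isIso_sheafify_diagonal_iff J (yoneda.map (s i))).2
        (fun T x y hxy => h1 T i x y hxy)
    · refine (isInitial_sheafify_iff J _).2 (fun T z => ?_)
      exact h2 T i j hij _ _ (psh_pullback_condition (yoneda.map (s i)) (yoneda.map (s j)) z)

end Groth.Agent.S12108
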