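import Groth.Statements.S12112
import Groth.Agent.Lib.Helper7.ClTransfer
import Groth.Agent.Lib.Helper7.MumLem

set_option autoImplicit false
universe u
open CategoryTheory CategoryTheory.Limits AlgebraicGeometry
open Pic13

namespace Groth.Agent.S12112

/-- Let k be an algebraically closed field, i : X ⟶ P^n_k a closed k-immersion, O_X(1) = i^*O(1), and F,
G coherent O_X-modules with a short exact sequence 0 → F(-1) → F → G → 0 and G m-regular. Then (i)
H^q(X, F(n')) = 0 for q ≥ 2 and n' ≥ m - q; (ii) h^1(F(n' - 1)) ≥ h^1(F(n')) for n' ≥ m - 1, h^1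
being the dimension over k; (iii) H^1(X, F(n')) = 0 for n' ≥ (m - 1) + h^1(F(m - 1)); in particular
F is (m + h^1(F(m - 1)))-regular. (The published statement takes F(-1) → F given by a section of
O_X(1); the printed argument uses only the short exact sequence and its twists, so any short exact
sequence of this shape is allowed here.) -/
theorem result (k : Type u) [Field k] [IsAlgClosed k] (n : ℕ) (X : Scheme.{u})
    [X.Over (Spec (CommRingCat.of k))] (i : X ⟶ CohB1.ProjSpace n k) [IsClosedImmersion i]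
    (hi : i ≫ CohB1.ProjSpace.toSpec n k = X ↘ Spec (CommRingCat.of k))
    (F G : X.Modules) (hF : Coh.IsCoh F) (hG : Coh.IsCoh G)
    (f : Pic13.twistOn k i F (-1) ⟶ F) (g : F ⟶ G) (hfg : f ≫ g = 0) (hS : (ShortComplex.mk f g hfg).ShortExact)
    (m : ℤ) (hGm : Pic13.IsMRegular k i G m) :
    (∀ (q : ℕ) (n' : ℤ), 2 ≤ q → m - q ≤ n' → Subsingleton (Coh.HH X (Pic13.twistOn k i F n') q)) ∧
    (∀ n' : ℤ, m - 1 ≤ n' →
      Module.finrank k (Coh.HH X (Pic13.twistOn k i F n') 1) ≤ Module.finrank k (Coh.HH X (Pic13.twistOn k i F (n' - 1)) 1)) ∧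
    (∀ n' : ℤ, (m - 1) + (Module.finrank k (Coh.HH X (Pic13.twistOn k i F (m - 1)) 1) : ℤ) ≤ n' →
      Subsingleton (Coh.HH X (Pic13.twistOn k i F n') 1)) ∧
    Pic13.IsMRegular k i F (m + Module.finrank k (Coh.HH X (Pic13.twistOn k i F (m - 1)) 1)) := by
  have hF' := Groth.Agent.Lib.Helper7.ClTransfer.isCoh_push k i F hF
  obtain ⟨ι', hmono, ⟨eG⟩⟩ := Groth.Agent.Lib.Helper7.ClTransfer.exists_push_ses k i f g hfg hS
  haveI := hmono
  have hG' : ∀ q : ℕ, 1 ≤ q → Subsingleton (Coh.HH (CohB1.ProjSpace n k)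
      (CohB1.tensorMod (cokernel ι') (Twist.twistProjSpace n k (m - q))) q) := by
    intro q hq
    have h0 := (Groth.Agent.Lib.Helper7.ClTransfer.sub_iff k i G (m - q) q).mp (hGm q hq)
    exact Groth.Agent.Lib.Helper7.TwFun.subsingleton_HH_of_iso
      (Groth.Agent.Lib.Helper3.InvMonoidal.tensorMapIso eG (Iso.refl _)) q h0
  obtain ⟨h1, h2, h3⟩ := Groth.Agent.Lib.Helper7.MumLem.mumford_lemma n k
    ((Scheme.Modules.pushforward i).obj F) ι' hF' m hG'
  have hfr := Groth.Agent.Lib.Helper7.ClTransfer.finrank_eq k i hi F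
  refine ⟨?_, ?_, ?_, ?_⟩
  · intro q n' hq hn
    exact (Groth.Agent.Lib.Helper7.ClTransfer.sub_iff k i F n' q).mpr (h1 q n' hq hn)
  · intro n' hn
    rw [hfr n' 1, hfr (n' - 1) 1]
    exact h2 n' hn
  · intro n' hn
    rw [hfr (m - 1) 1] at hn
    exact (Groth.Agent.Lib.Helper7.ClTransfer.sub_iff k i F n' 1).mpr (h3 n' hn)
  · intro q hq
    rw [hfr (m - 1) 1]
    rcases Nat.lt_or_ge 1 q with hq2 | hq1
    · exact (Groth.Agent.Lib.Helper7.ClTransfer.sub_iff k i F _ q).mpr
        (h1 q _ hq2 (by omega))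
    · obtain rfl : q = 1 := by omega
      exact (Groth.Agent.Lib.Helper7.ClTransfer.sub_iff k i F _ 1).mpr
        (h3 _ (by push_cast; omega))

end Groth.Agent.S12112
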