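import Groth.Statements.S1212
import Mathlib

set_option autoImplicit false
universe u
open FlatMor

namespace Groth.Agent.S1212

open TensorProduct IsLocalRing

theorem aux_fin {R : Type u} [CommRing R] [IsLocalRing R] {F : Type u} [AddCommGroup F]
    [Module R F] (Φ : F →ₗ[R] F)
    (hΦ : ∀ x, x - Φ x ∈ (maximalIdeal R) • (⊤ : Submodule R F))
    (P : Submodule R F) [Module.Finite R P] (π : F →ₗ[R] P)
    (hπ : π ∘ₗ P.subtype = LinearMap.id)
    (Q : Type u) [AddCommGroup Q] [Module R Q] (y₀ : P ⊗[R] Q)
    (hy : (Φ.rTensor Q) ((P.subtype.rTensor Q) y₀) = 0) : y₀ = 0 := by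
  let Ψ : P →ₗ[R] P := π ∘ₗ Φ ∘ₗ P.subtype
  have hΨ : ∀ x : P, x - Ψ x ∈ (maximalIdeal R) • (⊤ : Submodule R P) := by
    intro x
    have h1 : x - Ψ x = π ((x : F) - Φ (x : F)) := by
      rw [map_sub]
      congr 1
      have := LinearMap.congr_fun hπ x
      simpa using this.symm
    rw [h1]
    have h2 : π ((x : F) - Φ (x : F)) ∈
        ((maximalIdeal R) • (⊤ : Submodule R F)).map π :=
      Submodule.mem_map_of_mem (hΦ _)
    rw [Submodule.map_smul''] at h2
    exact Submodule.smul_mono le_rfl le_top h2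
  have hle : (⊤ : Submodule R P) ≤ LinearMap.range Ψ := by
    refine Submodule.le_of_le_smul_of_le_jacobson_bot (I := maximalIdeal R)
      (Module.finite_def.mp inferInstance) (IsLocalRing.maximalIdeal_le_jacobson ⊥) ?_
    intro x _
    have : x = Ψ x + (x - Ψ x) := by abel
    rw [this]
    exact Submodule.add_mem_sup (LinearMap.mem_range_self Ψ x) (hΨ x)
  have hsurj : Function.Surjective Ψ := LinearMap.range_eq_top.mp (top_le_iff.mp hle)
  have hinj : Function.Injective Ψ := OrzechProperty.injective_of_surjective_endomorphism Ψ hsurj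
  let e : P ≃ₗ[R] P := LinearEquiv.ofBijective Ψ ⟨hinj, hsurj⟩
  have hΨQ : Function.Injective (Ψ.rTensor Q) := by
    have : Ψ.rTensor Q = (e.rTensor Q : P ⊗[R] Q →ₗ[R] P ⊗[R] Q) := by
      rw [LinearEquiv.coe_rTensor]
      rfl
    rw [this]
    exact (e.rTensor Q).injective
  have h3 : (Ψ.rTensor Q) y₀ = 0 := by
    have : Ψ.rTensor Q = (π.rTensor Q) ∘ₗ (Φ.rTensor Q) ∘ₗ (P.subtype.rTensor Q) := by
      rw [← LinearMap.rTensor_comp, ← LinearMap.rTensor_comp]
    rw [this, LinearMap.comp_apply, LinearMap.comp_apply, hy, map_zero]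
  exact hΨQ (h3.trans (map_zero _).symm)

/-- free case -/
theorem lemmaK_free {R : Type u} [CommRing R] [IsLocalRing R] {I : Type u}
    (Φ : (I →₀ R) →ₗ[R] (I →₀ R))
    (hΦ : ∀ x, x - Φ x ∈ (maximalIdeal R) • (⊤ : Submodule R (I →₀ R)))
    (Q : Type u) [AddCommGroup Q] [Module R Q] : Function.Injective (Φ.rTensor Q) := by
  classical
  -- every element of the tensor product comes from a finitely supported part
  have hfin : ∀ y : (I →₀ R) ⊗[R] Q, ∃ I₀ : Finset I,
      y ∈ LinearMap.range ((Finsupp.supported R R (I₀ : Set I)).subtype.rTensor Q) := by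
    have hmono : ∀ (I₁ I₂ : Finset I), I₁ ⊆ I₂ →
        LinearMap.range ((Finsupp.supported R R (I₁ : Set I)).subtype.rTensor Q) ≤
        LinearMap.range ((Finsupp.supported R R (I₂ : Set I)).subtype.rTensor Q) := by
      intro I₁ I₂ h12
      have hle : Finsupp.supported R R (I₁ : Set I) ≤ Finsupp.supported R R (I₂ : Set I) :=
        Finsupp.supported_mono (by exact_mod_cast h12)
      rintro _ ⟨z, rfl⟩
      refine ⟨(Submodule.inclusion hle).rTensor Q z, ?_⟩
      rw [← LinearMap.comp_apply, ← LinearMap.rTensor_comp, Submodule.subtype_comp_inclusion]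
    intro y
    induction y using TensorProduct.induction_on with
    | zero => exact ⟨∅, Submodule.zero_mem _⟩
    | tmul x q =>
      refine ⟨x.support, ⟨(⟨x, ?_⟩ : Finsupp.supported R R (x.support : Set I)) ⊗ₜ[R] q, ?_⟩⟩
      · rw [Finsupp.mem_supported]
      · rw [LinearMap.rTensor_tmul]
        rfl
    | add a b ha hb =>
      obtain ⟨I₁, h1⟩ := ha
      obtain ⟨I₂, h2⟩ := hb
      exact ⟨I₁ ∪ I₂, Submodule.add_mem _ (hmono _ _ Finset.subset_union_left h1)
        (hmono _ _ Finset.subset_union_right h2)⟩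
  rw [injective_iff_map_eq_zero]
  intro y hy
  obtain ⟨I₀, y₀, rfl⟩ := hfin y
  haveI : Module.Finite R (Finsupp.supported R R (I₀ : Set I)) :=
    Module.Finite.equiv (Finsupp.supportedEquivFinsupp (R := R) (M := R) (I₀ : Set I)).symm
  have h4 := aux_fin Φ hΦ (Finsupp.supported R R (I₀ : Set I))
    (Finsupp.restrictDom R R (I₀ : Set I)) (Finsupp.restrictDom_comp_subtype _) Q y₀ hy
  rw [h4, map_zero]

theorem lemmaK {R : Type u} [CommRing R] [IsLocalRing R] {N : Type u} [AddCommGroup N]
    [Module R N] [Module.Projective R N] (φ : N →ₗ[R] N)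
    (hφ : ∀ n, n - φ n ∈ (maximalIdeal R) • (⊤ : Submodule R N))
    (Q : Type u) [AddCommGroup Q] [Module R Q] : Function.Injective (φ.rTensor Q) := by
  obtain ⟨s, hs⟩ := (Module.projective_def' (R := R) (P := N)).mp inferInstance
  set r : (N →₀ R) →ₗ[R] N := Finsupp.linearCombination R id with hr
  let Φ : (N →₀ R) →ₗ[R] (N →₀ R) := LinearMap.id - s ∘ₗ (LinearMap.id - φ) ∘ₗ r
  have hΦ : ∀ x, x - Φ x ∈ (maximalIdeal R) • (⊤ : Submodule R (N →₀ R)) := by
    intro x
    have h1 : x - Φ x = s (r x - φ (r x)) := by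
      simp only [Φ, LinearMap.sub_apply, LinearMap.id_apply, LinearMap.comp_apply]
      abel
    rw [h1]
    have h2 : s (r x - φ (r x)) ∈ ((maximalIdeal R) • (⊤ : Submodule R N)).map s :=
      Submodule.mem_map_of_mem (hφ _)
    rw [Submodule.map_smul''] at h2
    exact Submodule.smul_mono le_rfl le_top h2
  have hΦs : Φ ∘ₗ s = s ∘ₗ φ := by
    ext n : 1
    have h5 : r (s n) = n := LinearMap.congr_fun hs n
    simp only [Φ, LinearMap.comp_apply, LinearMap.sub_apply, LinearMap.id_apply, h5, map_sub]
    abel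
  have hsinj : Function.Injective (s.rTensor Q) := by
    have : (r.rTensor Q) ∘ₗ (s.rTensor Q) = LinearMap.id := by
      rw [← LinearMap.rTensor_comp, hs, LinearMap.rTensor_id]
    exact Function.LeftInverse.injective (g := r.rTensor Q) (fun z => LinearMap.congr_fun this z)
  have hcomm : (Φ.rTensor Q) ∘ₗ (s.rTensor Q) = (s.rTensor Q) ∘ₗ (φ.rTensor Q) := by
    rw [← LinearMap.rTensor_comp, ← LinearMap.rTensor_comp, hΦs]
  have hΦQ := lemmaK_free Φ hΦ Q
  intro a b hab
  apply hsinj
  apply hΦQ
  have ha := LinearMap.congr_fun hcomm a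
  have hb := LinearMap.congr_fun hcomm b
  simp only [LinearMap.comp_apply] at ha hb
  rw [ha, hb, hab]


open TensorProduct IsLocalRing in
/-- Let R be a local ring, S an R-algebra and N an S-module which is projective as an R-module, such
that the closed fibre ring of S is Noetherian and the closed fibre module of N is finite over it.
Then every prime q of S, over p in R, which is an associated prime (the annihilator of an element)
of the S-module N ⊗_R κ(p) satisfies q + 𝔪_R S ≠ S. -/
theorem result {R S : Type u} [CommRing R] [IsLocalRing R] [CommRing S] [Algebra R S]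
    (N : Type u) [AddCommGroup N] [Module S N] [Module R N] [IsScalarTower R S N] [Module.Projective R N]
    [IsNoetherianRing ((maximalIdeal R).Fiber S)]
    [Module.Finite ((maximalIdeal R).Fiber S) (FlatCA.fiberMod (maximalIdeal R) S N)]
    (p : Ideal R) [p.IsPrime] (q : Ideal S) [q.IsPrime] [q.LiesOver p]
    (hq : q ∈ FlatCA.ass S (N ⊗[R] p.ResidueField)) :
    q ⊔ (maximalIdeal R).map (algebraMap R S) ≠ ⊤ := by
  intro htop
  obtain ⟨hqp, m, hm⟩ := hq
  have h1 : (1 : S) ∈ q ⊔ (maximalIdeal R).map (algebraMap R S) := by rw [htop]; trivial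
  have hgN : ∀ g' : S, g' ∈ Submodule.span S (algebraMap R S '' (maximalIdeal R : Set R)) →
      ∀ n : N, g' • n ∈ (maximalIdeal R) • (⊤ : Submodule R N) := by
    intro g' hg'
    induction hg' using Submodule.span_induction with
    | mem x hx =>
      obtain ⟨a, ha, rfl⟩ := hx
      intro n
      rw [algebraMap_smul]
      exact Submodule.smul_mem_smul ha Submodule.mem_top
    | zero => intro n; rw [zero_smul]; exact Submodule.zero_mem _
    | add x y _ _ hx hy => intro n; rw [add_smul]; exact Submodule.add_mem _ (hx n) (hy n)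
    | smul c x _ hx =>
      intro n
      rw [smul_eq_mul, mul_comm, mul_smul]
      exact hx (c • n)
  obtain ⟨f, hf, g, hg, hfg⟩ := Submodule.mem_sup.mp h1
  have hfm : f • m = 0 := by
    have : f ∈ (Submodule.span S {m}).annihilator := hm ▸ hf
    exact (Submodule.mem_annihilator_span_singleton m f).mp this
  have hm0 : m ≠ 0 := by
    rintro rfl
    apply hqp.ne_top
    rw [hm, Submodule.span_zero_singleton, Submodule.annihilator_bot]
  let φ : N →ₗ[R] N := (LinearMap.lsmul S N f).restrictScalars R
  have hφ : ∀ n, n - φ n ∈ (maximalIdeal R) • (⊤ : Submodule R N) := by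
    intro n
    have h2 : n - φ n = g • n := by
      show n - f • n = g • n
      have : n = (f + g) • n := by rw [hfg, one_smul]
      rw [add_smul] at this
      nth_rewrite 1 [this]
      abel
    rw [h2]
    exact hgN g hg n
  have hinj := lemmaK φ hφ p.ResidueField
  have hφm : ∀ z : N ⊗[R] p.ResidueField, φ.rTensor p.ResidueField z = f • z := by
    intro z
    induction z using TensorProduct.induction_on with
    | zero => rw [map_zero, smul_zero]
    | tmul n k => rw [LinearMap.rTensor_tmul, TensorProduct.smul_tmul']; rfl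
    | add a b ha hb => rw [map_add, ha, hb, smul_add]
  apply hm0
  apply hinj
  rw [hφm, hfm, map_zero]

end Groth.Agent.S1212
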