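import Groth.Statements.S12121
import Groth.Agent.Lib.Helper4.LocTrans
import Groth.Agent.Lib.Helper4.Sk
import Groth.Agent.Lib.Helper4.SkQuot
import Groth.Agent.Lib.Helper4.DepthOpen

set_option autoImplicit false
universe u
open EGA4

namespace Groth.Agent.S12121

/-- Let A be a Noetherian ring, M a finite A-module (a coherent sheaf on X = Spec A) and k ≥ 1. Then M
has property (S_k) — depth M_p ≥ min(k, dim M_p) at every prime p — if and only if, for every basic
open set D(g) of X, every integer r < k and every M_g-regular sequence f_1, …, f_r in A_g, the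
module M_g/(f_1, …, f_r)M_g has no embedded associated primes, i.e. no associated prime of it
strictly contains another one. (The published statement quantifies over all open subsets of a
locally Noetherian scheme; both sides being local, over an affine scheme the basic open sets
suffice.) -/
theorem result (k : ℕ) (hk : 1 ≤ k) (A : Type u) [CommRing A] [IsNoetherianRing A]
    (M : Type u) [AddCommGroup M] [Module A M] [Module.Finite A M] :
    LocCoh.HasSk k A M ↔
      ∀ (g : A) (rs : List (Localization.Away g)), rs.length < k →
        RingTheory.Sequence.IsWeaklyRegular (LocalizedModule (Submonoid.powers g) M) rs →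
        ∀ p ∈ associatedPrimes (Localization.Away g)
            (LocalizedModule (Submonoid.powers g) M ⧸
              (Ideal.ofList rs • (⊤ : Submodule (Localization.Away g) (LocalizedModule (Submonoid.powers g) M)))),
          ∀ q ∈ associatedPrimes (Localization.Away g)
            (LocalizedModule (Submonoid.powers g) M ⧸
              (Ideal.ofList rs • (⊤ : Submodule (Localization.Away g) (LocalizedModule (Submonoid.powers g) M)))),
            p ≤ q → p = q := by
  constructor
  · intro hSk g rs hlen hreg
    have hSk' : LocCoh.HasSk k (Localization.Away g)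
        (LocalizedModule (Submonoid.powers g) M) := by
      intro Q hQ
      obtain ⟨h1, h2⟩ :=
        Groth.Agent.Lib.Helper4.LocTrans.depth_supportDim_locLoc (Submonoid.powers g) M Q
      rw [h1, h2]
      exact hSk (Q.comap (algebraMap A (Localization (Submonoid.powers g))))
    have hfin : Module.Finite (Localization.Away g) (LocalizedModule (Submonoid.powers g) M) :=
      Module.Finite.of_isLocalizedModule (Submonoid.powers g)
        (LocalizedModule.mkLinearMap (Submonoid.powers g) M)
    have hSk2 := Groth.Agent.Lib.Helper4.hasSk_quot_ofList_aux hreg k hfin hSk' hlen.le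
    have hSk1 : LocCoh.HasSk 1 (Localization.Away g)
        (LocalizedModule (Submonoid.powers g) M ⧸
          (Ideal.ofList rs • (⊤ : Submodule (Localization.Away g)
            (LocalizedModule (Submonoid.powers g) M)))) := by
      intro Q hQ
      refine le_trans ?_ (hSk2 Q)
      refine min_le_min ?_ le_rfl
      have h1 : 1 ≤ k - rs.length := by omega
      exact_mod_cast h1
    have hmin := (Groth.Agent.Lib.Helper4.noEmbedded_iff_hasS1).mpr hSk1
    intro p hp q hq hpq
    exact le_antisymm hpq ((hmin q hq).2 (hmin p hp).1 hpq)
  · intro H p hp
    by_contra hcon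
    rw [not_le] at hcon
    rcases eq_or_ne (LocCoh.depth (Localization.AtPrime p) (LocalizedModule p.primeCompl M)) ⊤
      with htop | hne
    · rw [htop, WithBot.coe_top] at hcon
      exact not_top_lt hcon
    obtain ⟨e, he⟩ : ∃ e : ℕ, LocCoh.depth (Localization.AtPrime p)
        (LocalizedModule p.primeCompl M) = (e : ℕ∞) := ⟨_, (ENat.natCast_toNat hne).symm⟩
    rw [he] at hcon
    obtain ⟨hek, hed⟩ := lt_min_iff.mp hcon
    have hek' : e < k := by exact_mod_cast hek
    have hed' : ((e : ℕ) : WithBot ℕ∞) < Module.supportDim (Localization.AtPrime p)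
        (LocalizedModule p.primeCompl M) := by exact_mod_cast hed
    obtain ⟨f, hfp, hf, -⟩ := Groth.Agent.Lib.Helper4.exists_notMem_depth p e M he
    have hdisj : Disjoint (Submonoid.powers f : Set A) (p : Set A) := by
      rw [Set.disjoint_left]
      rintro x ⟨n, rfl⟩ hxp
      exact hfp (hp.mem_of_pow_mem n hxp)
    obtain ⟨Q, hQdef⟩ : ∃ Q : Ideal (Localization.Away f),
        Q = p.map (algebraMap A (Localization.Away f)) := ⟨_, rfl⟩
    haveI hQprime : Q.IsPrime := by
      rw [hQdef]
      exact IsLocalization.isPrime_of_isPrime_disjoint (Submonoid.powers f)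
        (Localization.Away f) p hp hdisj
    have hcomap : Q.comap (algebraMap A (Localization (Submonoid.powers f))) = p := by
      rw [hQdef]
      exact IsLocalization.under_map_of_isPrime_disjoint (Submonoid.powers f)
        (Localization.Away f) hp hdisj
    obtain ⟨hdQ, hsQ⟩ := Groth.Agent.Lib.Helper4.LocTrans.depth_supportDim_locLoc'
      (Submonoid.powers f) M Q p hcomap
    have hge : ∀ (Q' : Ideal (Localization.Away f)) [Q'.IsPrime], Q ≤ Q' →
        (e : ℕ∞) ≤ LocCoh.depth (Localization.AtPrime Q')
          (LocalizedModule Q'.primeCompl (LocalizedModule (Submonoid.powers f) M)) := by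
      intro Q' hQ' hle
      rw [(Groth.Agent.Lib.Helper4.LocTrans.depth_supportDim_locLoc
        (Submonoid.powers f) M Q').1]
      refine hf (Q'.comap (algebraMap A (Localization (Submonoid.powers f)))) ?_ ?_
      · rw [← Ideal.map_le_iff_le_comap]
        rw [hQdef] at hle
        exact hle
      · intro hfmem
        have hu : IsUnit (algebraMap A (Localization.Away f) f) :=
          IsLocalization.map_units (Localization.Away f)
            (⟨f, Submonoid.mem_powers f⟩ : Submonoid.powers f)
        exact hQ'.ne_top (Ideal.eq_top_of_isUnit_mem _ hfmem hu)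
    obtain ⟨rs, hlen, hreg, P₀, hP₀, hQass, hle, hne'⟩ :=
      Groth.Agent.Lib.Helper4.LocTrans.exists_embedded_prime_of_depth_lt Q e (hdQ.trans he)
        (by rw [hsQ]; exact hed') hge
    exact hne' (H f rs (by omega) hreg P₀ hP₀ Q hQass hle)

end Groth.Agent.S12121
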