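import Groth.Statements.S12122
import Mathlib
import Groth.Agent.Lib.Helper18.ConsTop

set_option autoImplicit false
universe u
open EGA41

namespace Groth.Agent.S12122

open AlgebraicGeometry Topology in
/-- Let X be a quasi-separated scheme. A subset E of X is locally constructible if and only if it is
both open and closed for the constructible topology of X. Here the constructible topology is the one
generated by the quasi-compact open subsets of X and their complements; when X is quasi-separated
its open sets are exactly the ind-constructible subsets, i.e. it is the constructible topology of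
the source (for a scheme that is not quasi-separated the two topologies differ, and this row does
not cover that case). -/
theorem result (X : Scheme.{u}) [QuasiSeparatedSpace X] (E : Set X) :
    Topology.IsLocallyConstructible E ↔
      (IsOpen[constructibleTopology X] E ∧ IsClosed[constructibleTopology X] E) := by
  have hcov : ∀ x : X, ∃ V : Set X, IsOpen V ∧ IsCompact V ∧ x ∈ V := by
    intro x
    obtain ⟨V, ⟨hVo, hVc⟩, hxV, -⟩ :=
      PrespectralSpace.isTopologicalBasis.exists_subset_of_mem_open (Set.mem_univ x) isOpen_univ
    exact ⟨V, hVo, hVc, hxV⟩
  constructor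
  · intro hE
    have claim : ∀ F : Set X, Topology.IsLocallyConstructible F →
        IsOpen (WithTopology.ofTopology ⁻¹' F : Set (WithConstructibleTopology X)) := by
      intro F hF
      rw [isOpen_iff_forall_mem_open]
      intro x hx
      obtain ⟨V, hVo, hVc, hxV⟩ := hcov x.ofTopology
      exact ⟨WithTopology.ofTopology ⁻¹' (F ∩ V), fun y hy => hy.1,
        (Groth.Agent.Lib.Helper18.isClopen_pre_of_isConstructible
          (hF.inter_of_isOpen_isCompact hVo hVc)).isOpen, hx, hxV⟩
    refine ⟨(WithConstructibleTopology.isOpen_iff).1 (claim E hE), ?_⟩
    have h2 : IsClosed (WithTopology.ofTopology ⁻¹' E : Set (WithConstructibleTopology X)) := by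
      rw [← isOpen_compl_iff]
      exact claim Eᶜ (Groth.Agent.Lib.Helper18.IsLocallyConstructible.compl' hE)
    exact (WithConstructibleTopology.isClosed_iff).1 h2
  · rintro ⟨ho, hc⟩
    have hclopen : IsClopen (WithTopology.ofTopology ⁻¹' E : Set (WithConstructibleTopology X)) :=
      ⟨(WithConstructibleTopology.isClosed_iff).2 hc, (WithConstructibleTopology.isOpen_iff).2 ho⟩
    intro x
    obtain ⟨V, hVo, hVc, hxV⟩ := hcov x
    have h1 : IsConstructible (E ∩ V) :=
      Groth.Agent.Lib.Helper18.isConstructible_of_isClopen_pre_subset hVo hVc Set.inter_subset_right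
        (hclopen.inter (Groth.Agent.Lib.Helper18.isClopen_cons_of_isCompact_isOpen V hVo hVc))
    refine ⟨V, hVo.mem_nhds hxV, hVo, ?_⟩
    have h2 := h1.preimage_of_isOpenEmbedding hVo.isOpenEmbedding_subtypeVal
    have e : (Subtype.val ⁻¹' (E ∩ V) : Set V) = (Subtype.val ⁻¹' E : Set V) := by
      ext y
      simp [y.2]
    rw [e] at h2
    exact h2

end Groth.Agent.S12122
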