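import Groth.Statements.S12125
-- import your own Groth.Agent.* helpers here
import Mathlib
import Groth.Agent.Lib.Helper12.NagataCrit2
import Groth.Agent.S4710

set_option autoImplicit false
universe u
open EGA4

namespace Groth.Agent.S12125

private theorem isN1_of_N2' (R : Type u) [CommRing R] [IsDomain R]
    (h : Groth.Agent.Lib.Helper12.N2.N2' R) : CAlg.IsN1 R :=
  Groth.Agent.Lib.Helper12.N2.isN2_of_N2' R h (FractionRing R)


/-- Let A be a Noetherian ring. Then every quotient of A by a prime ideal is N-2 (i.e. A is a Nagata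
ring) if and only if (1) for every maximal ideal m of A every quotient of A_m by a prime ideal is
N-2, and (2) for every prime p of A, writing B = A/p with fraction field K, for every finite purely
inseparable field extension K' of K and every sub-B-algebra B' of K' which is a finite B-module and
has K' as its fraction field, there is a nonzero element f of B' such that B'_f is an integrally
closed domain. -/
theorem result (A : Type u) [CommRing A] [IsNoetherianRing A] :
    CAlg.IsNagata A ↔
      ((∀ (m : Ideal A) [m.IsMaximal] (P : Ideal (Localization.AtPrime m)) [P.IsPrime],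
          CAlg.IsN2 (Localization.AtPrime m ⧸ P)) ∧
        ∀ (p : Ideal A) [p.IsPrime] (K' : Type u) [Field K'] [Algebra (A ⧸ p) K']
          [Algebra (FractionRing (A ⧸ p)) K'] [IsScalarTower (A ⧸ p) (FractionRing (A ⧸ p)) K']
          [FiniteDimensional (FractionRing (A ⧸ p)) K'] [IsPurelyInseparable (FractionRing (A ⧸ p)) K']
          (B' : Subalgebra (A ⧸ p) K'), Module.Finite (A ⧸ p) B' → IsFractionRing B' K' →
            ∃ f : B', f ≠ 0 ∧ IsIntegrallyClosed (Localization.Away f)) := by
  classical
  constructor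
  · intro hN
    haveI := hN.1
    refine ⟨fun m _ P _ => (Groth.Agent.S4710.result A hN m.primeCompl).2 P, ?_⟩
    intro p _ K' _ _ _ _ _ _ B' hfin hfr
    haveI := hfin
    haveI := hfr
    have h1 : Module.Finite (A ⧸ p) (integralClosure (A ⧸ p) K') := hN.2 p K' inferInstance
    have h2 : Module.Finite B' (integralClosure B' K') :=
      Groth.Agent.Lib.Helper12.NagataCrit.finite_integralClosure_of_finite_base (A ⧸ p) B' K' h1
    exact Groth.Agent.Lib.Helper12.N1Crit.exists_away_of_isN1 B' K' h2
  · rintro ⟨h1, h2⟩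
    refine ⟨inferInstance, fun p _ => (Groth.Agent.Lib.Helper12.NagataLoc.isN2_iff_N2' _).2
      (Groth.Agent.Lib.Helper12.N2Insep.N2'_of_purelyInseparable (A ⧸ p) ?_)⟩
    intro K' _ _ _ _ _ _
    obtain ⟨B', hfg, hle, hfrac⟩ :=
      Groth.Agent.Lib.Helper12.NagataCrit.exists_finite_subalgebra (A ⧸ p)
        (FractionRing (A ⧸ p)) K'
    haveI hfin : Module.Finite (A ⧸ p) B' := Module.Finite.iff_fg.2 hfg
    have hinjK' : Function.Injective (algebraMap (A ⧸ p) K') := by
      rw [IsScalarTower.algebraMap_eq (A ⧸ p) (FractionRing (A ⧸ p)) K']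
      exact (algebraMap (FractionRing (A ⧸ p)) K').injective.comp
        (IsFractionRing.injective (A ⧸ p) (FractionRing (A ⧸ p)))
    haveI hfr : IsFractionRing B' K' := by
      refine IsFractionRing.of_field B' K' ?_
      intro z
      obtain ⟨d, hd0, hd⟩ := hfrac z
      refine ⟨⟨d • z, hd⟩, algebraMap (A ⧸ p) B' d, ?_⟩
      have hdK : algebraMap (A ⧸ p) K' d ≠ 0 := by
        rwa [Ne, map_eq_zero_iff _ hinjK']
      have e1 : algebraMap B' K' (algebraMap (A ⧸ p) B' d) = algebraMap (A ⧸ p) K' d := rfl
      have e2 : algebraMap B' K' ⟨d • z, hd⟩ = d • z := rfl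
      rw [e1, e2, Algebra.smul_def, mul_div_cancel_left₀ _ hdK]
    obtain ⟨f, hf, hn⟩ := h2 p K' B' hfin hfr
    haveI : IsNoetherianRing B' := IsNoetherianRing.of_finite (A ⧸ p) B'
    letI algAB : Algebra A B' := ((algebraMap (A ⧸ p) B').comp (Ideal.Quotient.mk p)).toAlgebra
    haveI : IsScalarTower A (A ⧸ p) B' := IsScalarTower.of_algebraMap_eq (fun _ => rfl)
    haveI : Module.Finite A B' := Module.Finite.trans (A ⧸ p) B'
    have hlocN1 : ∀ (m' : Ideal B') [m'.IsMaximal], CAlg.IsN1 (Localization.AtPrime m') := by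
      intro m' _
      exact isN1_of_N2' _
        (Groth.Agent.Lib.Helper12.NagataCrit.N2'_atPrime_of_local_nagata A h1 B' m')
    have h3 : Module.Finite B' (integralClosure B' K') :=
      Groth.Agent.Lib.Helper12.N1Crit.finite_integralClosure_of_local B' K' f hf hn hlocN1
    exact Groth.Agent.Lib.Helper12.N2Insep.finite_integralClosure_trans (A ⧸ p) B' K' h3

end Groth.Agent.S12125
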