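import Groth.Statements.S12127
import Mathlib

set_option autoImplicit false
universe u
open EGA43

namespace Groth.Agent.S12127

/-- quasi-constructible: a finite union of locally closed subsets. -/
private def QC {α : Type u} [TopologicalSpace α] (Z : Set α) : Prop :=
  ∃ T : Set (Set α), T.Finite ∧ (∀ t ∈ T, IsLocallyClosed t) ∧ Z = ⋃₀ T

/-- locally quasi-constructible. -/
private def LQC {α : Type u} [TopologicalSpace α] (Z : Set α) : Prop :=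
  ∀ a : α, ∃ V : Set α, IsOpen V ∧ a ∈ V ∧
    ∃ T : Set (Set V), T.Finite ∧ (∀ t ∈ T, IsLocallyClosed t) ∧ (Subtype.val ⁻¹' Z : Set V) = ⋃₀ T

section
variable {α β : Type u} [TopologicalSpace α] [TopologicalSpace β]

private lemma QC.preimage {g : α → β} (hg : Continuous g) {Z : Set β} (hZ : QC Z) :
    QC (g ⁻¹' Z) := by
  obtain ⟨T, hT, hlc, rfl⟩ := hZ
  refine ⟨(fun t => g ⁻¹' t) '' T, hT.image _, ?_, ?_⟩
  · rintro _ ⟨t, ht, rfl⟩
    exact (hlc t ht).preimage hg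
  · rw [Set.preimage_sUnion, Set.sUnion_image]

private lemma QC.image_val {V : Set α} (hV : IsOpen V) {W : Set V} (hW : QC W) :
    QC (Subtype.val '' W : Set α) := by
  obtain ⟨T, hT, hlc, rfl⟩ := hW
  refine ⟨(fun t => Subtype.val '' t) '' T, hT.image _, ?_, ?_⟩
  · rintro _ ⟨t, ht, rfl⟩
    exact (hlc t ht).image Topology.IsInducing.subtypeVal
      (by rw [Subtype.range_coe]; exact hV.isLocallyClosed)
  · rw [Set.image_sUnion, Set.sUnion_image]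

private lemma QC.inter_open {Z V : Set α} (hZ : QC Z) (hV : IsOpen V) : QC (Z ∩ V) := by
  obtain ⟨T, hT, hlc, rfl⟩ := hZ
  refine ⟨(fun t => t ∩ V) '' T, hT.image _, ?_, ?_⟩
  · rintro _ ⟨t, ht, rfl⟩
    exact (hlc t ht).inter hV.isLocallyClosed
  · ext z
    simp only [Set.mem_inter_iff, Set.mem_sUnion, Set.mem_image, exists_exists_and_eq_and]
    constructor
    · rintro ⟨⟨t, ht, hzt⟩, hzV⟩
      exact ⟨t, ht, hzt, hzV⟩
    · rintro ⟨t, ht, hzt, hzV⟩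
      exact ⟨⟨t, ht, hzt⟩, hzV⟩

private lemma QC.lqc {Z : Set α} (hZ : QC Z) : LQC Z := by
  intro a
  exact ⟨Set.univ, isOpen_univ, Set.mem_univ a, hZ.preimage continuous_subtype_val⟩

/-- separating a point of `A₁ \ A₂` by a locally closed set. -/
private lemma QC.exhaust {A₁ A₂ : Set α} (h₁ : QC A₁) (h₂ : QC A₂) {y : α} (hy₁ : y ∈ A₁)
    (hy₂ : y ∉ A₂) : ∃ t : Set α, IsLocallyClosed t ∧ y ∈ t ∧ t ⊆ A₁ ∧ Disjoint t A₂ := by
  classical
  obtain ⟨S₁, -, hlc₁, rfl⟩ := h₁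
  obtain ⟨S₂, hS₂, hlc₂, rfl⟩ := h₂
  obtain ⟨t₁, ht₁, hyt₁⟩ := hy₁
  choose! U C hU hC hUC using hlc₂
  set O : Set α := ⋂ s ∈ {s ∈ S₂ | y ∈ U s}, (C s)ᶜ with hO
  have hOo : IsOpen O :=
    (hS₂.subset (Set.sep_subset _ _)).isOpen_biInter fun s hs => (hC s hs.1).isOpen_compl
  have hyO : y ∈ O := by
    rw [hO, Set.mem_iInter₂]
    rintro s ⟨hs, hyU⟩ hyC
    apply hy₂
    refine ⟨s, hs, ?_⟩
    rw [hUC s hs]
    exact ⟨hyU, hyC⟩
  refine ⟨t₁ ∩ (closure {y} ∩ O),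
    (hlc₁ t₁ ht₁).inter (isClosed_closure.isLocallyClosed.inter hOo.isLocallyClosed),
    ⟨hyt₁, subset_closure rfl, hyO⟩, fun z hz => ⟨t₁, ht₁, hz.1⟩, ?_⟩
  rw [Set.disjoint_left]
  rintro z ⟨-, hzcl, hzO⟩ ⟨s, hs, hzs⟩
  rw [hUC s hs] at hzs
  by_cases hyU : y ∈ U s
  · have := Set.mem_iInter₂.1 hzO s ⟨hs, hyU⟩
    exact this hzs.2
  · obtain ⟨w, hwU, hw⟩ := mem_closure_iff.1 hzcl (U s) (hU s hs) hzs.1
    rw [Set.mem_singleton_iff] at hw
    exact hyU (hw ▸ hwU)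

private lemma LQC.qc_inter {Z : Set α} (hZ : LQC Z) (a : α) :
    ∃ V : Set α, IsOpen V ∧ a ∈ V ∧ QC (Z ∩ V) := by
  obtain ⟨V, hV, haV, hT⟩ := hZ a
  refine ⟨V, hV, haV, ?_⟩
  have := QC.image_val hV (W := (Subtype.val ⁻¹' Z : Set V)) hT
  rwa [Subtype.image_preimage_coe, Set.inter_comm] at this

private lemma LQC.exhaust {Z₁ Z₂ : Set α} (h₁ : LQC Z₁) (h₂ : LQC Z₂) {y : α} (hy₁ : y ∈ Z₁)
    (hy₂ : y ∉ Z₂) : ∃ t : Set α, IsLocallyClosed t ∧ y ∈ t ∧ t ⊆ Z₁ ∧ Disjoint t Z₂ := by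
  obtain ⟨V₁, hV₁, hyV₁, hq₁⟩ := h₁.qc_inter y
  obtain ⟨V₂, hV₂, hyV₂, hq₂⟩ := h₂.qc_inter y
  obtain ⟨t, htlc, hyt, ht₁, ht₂⟩ := QC.exhaust hq₁ hq₂ ⟨hy₁, hyV₁⟩ (fun h => hy₂ h.1)
  refine ⟨t ∩ V₂, htlc.inter hV₂.isLocallyClosed, ⟨hyt, hyV₂⟩,
    fun z hz => (ht₁ hz.1).1, ?_⟩
  rw [Set.disjoint_left] at ht₂ ⊢
  rintro z ⟨hzt, hzV⟩ hzZ
  exact ht₂ hzt ⟨hzZ, hzV⟩

private lemma LQC.preimage {g : α → β} (hg : Continuous g) {Z : Set β} (hZ : LQC Z) :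
    LQC (g ⁻¹' Z) := by
  intro a
  obtain ⟨V, hV, haV, hT⟩ := hZ (g a)
  refine ⟨g ⁻¹' V, hV.preimage hg, haV, ?_⟩
  have hres : Continuous (Set.MapsTo.restrict g (g ⁻¹' V) V (Set.mapsTo_preimage g V)) :=
    hg.restrict _
  exact QC.preimage hres (Z := (Subtype.val ⁻¹' Z : Set V)) hT

end

/-- Let f : X → Y be a quasi-homeomorphism, i.e. a continuous map such that U ↦ f⁻¹(U) is a bijection
from the open subsets of Y onto the open subsets of X. Call a subset quasi-constructible when it is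
a finite union of locally closed subsets, and locally quasi-constructible when every point of the
space has an open neighbourhood V whose intersection with it is quasi-constructible in V. Then Z ↦
f⁻¹(Z) induces a bijection from the quasi-constructible subsets of Y onto those of X, and from the
locally quasi-constructible subsets of Y onto those of X. -/
theorem result {X Y : Type u}
    [TopologicalSpace X] [TopologicalSpace Y] (f : X → Y) (hf : Continuous f)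
    (hq : Function.Bijective (fun U : TopologicalSpace.Opens Y =>
      (⟨f ⁻¹' (U : Set Y), U.isOpen.preimage hf⟩ : TopologicalSpace.Opens X))) :
    Set.BijOn (fun Z : Set Y => f ⁻¹' Z)
        {Z : Set Y | ∃ T : Set (Set Y), T.Finite ∧ (∀ t ∈ T, IsLocallyClosed t) ∧ Z = ⋃₀ T}
        {Z : Set X | ∃ T : Set (Set X), T.Finite ∧ (∀ t ∈ T, IsLocallyClosed t) ∧ Z = ⋃₀ T} ∧
      Set.BijOn (fun Z : Set Y => f ⁻¹' Z)
        {Z : Set Y | ∀ y : Y, ∃ V : Set Y, IsOpen V ∧ y ∈ V ∧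
          ∃ T : Set (Set V), T.Finite ∧ (∀ t ∈ T, IsLocallyClosed t) ∧ (Subtype.val ⁻¹' Z : Set V) = ⋃₀ T}
        {Z : Set X | ∀ x : X, ∃ V : Set X, IsOpen V ∧ x ∈ V ∧
          ∃ T : Set (Set V), T.Finite ∧ (∀ t ∈ T, IsLocallyClosed t) ∧ (Subtype.val ⁻¹' Z : Set V) = ⋃₀ T} := by
  classical
  -- injectivity and surjectivity on opens
  have hinj : ∀ U U' : Set Y, IsOpen U → IsOpen U' → f ⁻¹' U = f ⁻¹' U' → U = U' := by
    intro U U' hU hU' h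
    have := hq.1 (a₁ := ⟨U, hU⟩) (a₂ := ⟨U', hU'⟩) (TopologicalSpace.Opens.ext h)
    exact congrArg (fun W : TopologicalSpace.Opens Y => (W : Set Y)) this
  have hsurj : ∀ U' : Set X, IsOpen U' → ∃ U : Set Y, IsOpen U ∧ f ⁻¹' U = U' := by
    intro U' hU'
    obtain ⟨U, hU⟩ := hq.2 ⟨U', hU'⟩
    exact ⟨U, U.isOpen, congrArg (fun W : TopologicalSpace.Opens X => (W : Set X)) hU⟩
  -- nonempty locally closed sets meet the image of `f`
  have hdense : ∀ t : Set Y, IsLocallyClosed t → t.Nonempty → (f ⁻¹' t).Nonempty := by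
    rintro _ ⟨U, C, hU, hC, rfl⟩ hne
    by_contra hemp
    rw [Set.not_nonempty_iff_eq_empty] at hemp
    have h1 : f ⁻¹' U = f ⁻¹' (U ∩ Cᶜ) := by
      ext x
      constructor
      · intro hx
        refine ⟨hx, fun hxC => ?_⟩
        have h2 : x ∈ f ⁻¹' (U ∩ C) := ⟨hx, hxC⟩
        rw [hemp] at h2
        exact h2
      · exact fun hx => hx.1
    have hUeq := hinj U (U ∩ Cᶜ) hU (hU.inter hC.isOpen_compl) h1
    obtain ⟨z, hzU, hzC⟩ := hne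
    rw [hUeq] at hzU
    exact hzU.2 hzC
  -- injectivity on locally quasi-constructible sets
  have half : ∀ Z₁ Z₂ : Set Y, LQC Z₁ → LQC Z₂ → f ⁻¹' Z₁ = f ⁻¹' Z₂ → Z₁ ⊆ Z₂ := by
    intro Z₁ Z₂ h₁ h₂ h y hy₁
    by_contra hy₂
    obtain ⟨t, htlc, hyt, ht₁, ht₂⟩ := LQC.exhaust h₁ h₂ hy₁ hy₂
    obtain ⟨x, hx⟩ := hdense t htlc ⟨y, hyt⟩
    have hx1 : x ∈ f ⁻¹' Z₁ := ht₁ hx
    rw [h] at hx1
    exact Set.disjoint_left.1 ht₂ hx hx1
  have hInj : ∀ Z₁ Z₂ : Set Y, LQC Z₁ → LQC Z₂ → f ⁻¹' Z₁ = f ⁻¹' Z₂ → Z₁ = Z₂ :=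
    fun Z₁ Z₂ h₁ h₂ h => subset_antisymm (half Z₁ Z₂ h₁ h₂ h) (half Z₂ Z₁ h₂ h₁ h.symm)
  -- lifting locally closed sets
  have hlift : ∀ t' : Set X, IsLocallyClosed t' →
      ∃ t : Set Y, IsLocallyClosed t ∧ f ⁻¹' t = t' := by
    rintro _ ⟨U', C', hU', hC', rfl⟩
    obtain ⟨U, hU, rfl⟩ := hsurj U' hU'
    obtain ⟨W, hW, hWC⟩ := hsurj C'ᶜ hC'.isOpen_compl
    refine ⟨U ∩ Wᶜ, ⟨U, Wᶜ, hU, hW.isClosed_compl, rfl⟩, ?_⟩
    rw [Set.preimage_inter, Set.preimage_compl, hWC, compl_compl]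
  -- surjectivity on quasi-constructible sets
  have hSurjQC : ∀ Z' : Set X, QC Z' → ∃ Z : Set Y, QC Z ∧ f ⁻¹' Z = Z' := by
    rintro _ ⟨T', hT', hlc', rfl⟩
    choose! s hs hss using fun t' (ht' : t' ∈ T') => hlift t' (hlc' t' ht')
    refine ⟨⋃₀ (s '' T'), ⟨s '' T', hT'.image _, ?_, rfl⟩, ?_⟩
    · rintro _ ⟨t', ht', rfl⟩
      exact hs t' ht'
    · ext x
      simp only [Set.mem_preimage, Set.mem_sUnion, Set.mem_image]
      constructor
      · rintro ⟨_, ⟨t', ht', rfl⟩, hx⟩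
        refine ⟨t', ht', ?_⟩
        rw [← hss t' ht']
        exact hx
      · rintro ⟨t', ht', hx⟩
        refine ⟨s t', ⟨t', ht', rfl⟩, ?_⟩
        rw [← hss t' ht'] at hx
        exact hx
  refine ⟨⟨fun Z hZ => QC.preimage hf hZ, fun Z₁ h₁ Z₂ h₂ h => hInj Z₁ Z₂ (QC.lqc h₁) (QC.lqc h₂) h,
    fun Z' hZ' => ?_⟩, ⟨fun Z hZ => LQC.preimage hf hZ, fun Z₁ h₁ Z₂ h₂ h => hInj Z₁ Z₂ h₁ h₂ h,
    fun Z' hZ' => ?_⟩⟩
  · obtain ⟨Z, hZ, e⟩ := hSurjQC Z' hZ'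
    exact ⟨Z, hZ, e⟩
  · have hZ'' : LQC Z' := hZ'
    choose V' hV'o hxV' hQ' using fun x => LQC.qc_inter hZ'' x
    choose V hVo hVV' using fun x => hsurj (V' x) (hV'o x)
    choose W hWq hWZ using fun x => hSurjQC (Z' ∩ V' x) (hQ' x)
    have hcover : ⋃ x, V x = Set.univ := by
      apply hinj _ _ (isOpen_iUnion hVo) isOpen_univ
      rw [Set.preimage_iUnion, Set.preimage_univ, Set.eq_univ_iff_forall]
      intro x
      exact Set.mem_iUnion.2 ⟨x, by rw [hVV']; exact hxV' x⟩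
    have hcompat : ∀ x x₀ : X, W x ∩ V x ∩ V x₀ = W x₀ ∩ V x₀ ∩ V x := by
      intro x x₀
      apply hInj _ _ (QC.lqc (((hWq x).inter_open (hVo x)).inter_open (hVo x₀)))
        (QC.lqc (((hWq x₀).inter_open (hVo x₀)).inter_open (hVo x)))
      simp only [Set.preimage_inter, hWZ, hVV']
      ext z
      simp only [Set.mem_inter_iff]
      tauto
    refine ⟨⋃ x, (W x ∩ V x), ?_, ?_⟩
    · show LQC (⋃ x, (W x ∩ V x))
      intro y
      have hy : y ∈ ⋃ x, V x := by rw [hcover]; exact Set.mem_univ y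
      obtain ⟨x₀, hyx₀⟩ := Set.mem_iUnion.1 hy
      refine ⟨V x₀, hVo x₀, hyx₀, ?_⟩
      have e : (Subtype.val ⁻¹' (⋃ x, (W x ∩ V x)) : Set (V x₀)) =
          (Subtype.val ⁻¹' (W x₀) : Set (V x₀)) := by
        ext ⟨z, hz⟩
        simp only [Set.mem_preimage, Set.mem_iUnion, Set.mem_inter_iff]
        constructor
        · rintro ⟨x, hzW, hzV⟩
          have : z ∈ W x ∩ V x ∩ V x₀ := ⟨⟨hzW, hzV⟩, hz⟩
          rw [hcompat x x₀] at this
          exact this.1.1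
        · intro hzW
          exact ⟨x₀, hzW, hz⟩
      have h3 : QC (Subtype.val ⁻¹' (W x₀) : Set (V x₀)) :=
        QC.preimage continuous_subtype_val (hWq x₀)
      rw [← e] at h3
      exact h3
    · show f ⁻¹' (⋃ x, (W x ∩ V x)) = Z'
      ext z
      simp only [Set.preimage_iUnion, Set.preimage_inter, hWZ, hVV', Set.mem_iUnion,
        Set.mem_inter_iff]
      constructor
      · rintro ⟨x, ⟨hz, -⟩, -⟩
        exact hz
      · intro hz
        exact ⟨z, ⟨hz, hxV' z⟩, hxV' z⟩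

end Groth.Agent.S12127
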