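import Groth.Statements.S12129
-- import your own Groth.Agent.* helpers here
import Mathlib
import Groth.Agent.Lib.Helper12.SchemeDimFT4

set_option autoImplicit false
universe u
open EGA2

namespace Groth.Agent.S12129

open Groth.Agent.Lib.Helper12 Groth.Agent.Lib.Helper12.SchemeDimFT

open AlgebraicGeometry CategoryTheory in
/-- Let X be a scheme of finite type over a field k. Then the local ring of X at every closed point has
dimension one if and only if the irreducible closed subsets of X other than its irreducible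
components are exactly the (singletons of) closed points of X — that is, every irreducible closed
subset which is not an irreducible component is a closed point, and no closed point is by itself an
irreducible component. -/
theorem result (k : Type u) [Field k] (X : Scheme.{u})
    [X.Over (Spec (CommRingCat.of k))] [LocallyOfFiniteType (X ↘ (Spec (CommRingCat.of k)))]
    [QuasiCompact (X ↘ (Spec (CommRingCat.of k)))] :
    (∀ x : X, IsClosed ({x} : Set X) → ringKrullDim (X.presheaf.stalk x) = 1) ↔
      ((∀ F : Set X, IsClosed F → IsIrreducible F → F ∉ irreducibleComponents (X : Type u) →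
          ∃ x : X, IsClosed ({x} : Set X) ∧ F = {x}) ∧
        ∀ x : X, IsClosed ({x} : Set X) → ({x} : Set X) ∉ irreducibleComponents (X : Type u)) := by
  have hchart : ∀ x : X, ∃ (U : X.Opens) (hU : IsAffineOpen U) (hx : x ∈ U),
      ringKrullDim (X.presheaf.stalk x) =
        ((Order.height (hU.primeIdealOf ⟨x, hx⟩) : ℕ∞) : WithBot ℕ∞) := by
    intro x
    obtain ⟨U, hU, hx⟩ := exists_affineOpen_mem X x
    exact ⟨U, hU, hx, ringKrullDim_stalk_eq_height' U hU ⟨x, hx⟩⟩
  constructor
  · intro H
    refine ⟨?_, ?_⟩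
    · intro F hFc hFi hFn
      obtain ⟨η, hη⟩ := QuasiSober.sober hFi hFc
      have hFη : F = closure {η} := hη.def.symm
      have hnmax : ¬ IsMaxPt η := by
        intro hmax
        apply hFn
        rw [hFη]
        exact (closure_singleton_mem_irreducibleComponents_iff η).mpr hmax
      obtain ⟨x, hxF, hxc⟩ := exists_isClosed_mem_of_isLocallyClosed k X F hFc.isLocallyClosed
        hFi.nonempty
      have hsp : η ⤳ x := hη.specializes hxF
      have heq : η = x := by
        by_contra hne
        obtain ⟨U, hU, hx, hdim⟩ := hchart x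
        have hηU : η ∈ U := hsp.mem_open U.2 hx
        have hlt : hU.primeIdealOf ⟨η, hηU⟩ < hU.primeIdealOf ⟨x, hx⟩ :=
          (primeIdealOf_lt_iff hU _ _).mpr ⟨hsp, hne⟩
        have h0 : Order.height (hU.primeIdealOf ⟨η, hηU⟩) ≠ 0 := by
          intro h0
          exact hnmax ((isMaxPt_iff_height_eq_zero hU ⟨η, hηU⟩).mpr h0)
        have h1 : 1 ≤ Order.height (hU.primeIdealOf ⟨η, hηU⟩) := ENat.one_le_iff_ne_zero.mpr h0
        have h2 := Order.height_add_one_le hlt
        have h3 : (2 : ℕ∞) ≤ Order.height (hU.primeIdealOf ⟨x, hx⟩) := by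
          calc (2 : ℕ∞) = 1 + 1 := by norm_num
            _ ≤ Order.height (hU.primeIdealOf ⟨η, hηU⟩) + 1 := by gcongr
            _ ≤ _ := h2
        have h4 := H x hxc
        rw [hdim] at h4
        have h5 : (Order.height (hU.primeIdealOf ⟨x, hx⟩) : ℕ∞) = 1 := by exact_mod_cast h4
        rw [h5] at h3
        norm_num at h3
      refine ⟨x, hxc, ?_⟩
      rw [hFη, heq, hxc.closure_eq]
    · intro x hxc hcomp
      have h1 : closure ({x} : Set X) ∈ irreducibleComponents (X : Type u) := by
        rw [hxc.closure_eq]; exact hcomp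
      have hmax : IsMaxPt x := (closure_singleton_mem_irreducibleComponents_iff x).mp h1
      obtain ⟨U, hU, hx, hdim⟩ := hchart x
      have h0 := (isMaxPt_iff_height_eq_zero hU ⟨x, hx⟩).mp hmax
      have h4 := H x hxc
      rw [hdim, h0] at h4
      norm_num at h4
  · rintro ⟨HA, HB⟩ x hxc
    obtain ⟨U, hU, hx, hdim⟩ := hchart x
    rw [hdim]
    have hne0 : Order.height (hU.primeIdealOf ⟨x, hx⟩) ≠ 0 := by
      intro h0
      have hmax : IsMaxPt x := (isMaxPt_iff_height_eq_zero hU ⟨x, hx⟩).mpr h0
      have h1 : closure ({x} : Set X) ∈ irreducibleComponents (X : Type u) :=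
        (closure_singleton_mem_irreducibleComponents_iff x).mpr hmax
      rw [hxc.closure_eq] at h1
      exact HB x hxc h1
    have hlt2 : ¬ (2 : ℕ∞) ≤ Order.height (hU.primeIdealOf ⟨x, hx⟩) := by
      intro h2
      obtain ⟨p, hplast, hplen⟩ := Order.exists_series_of_le_height (hU.primeIdealOf ⟨x, hx⟩)
        (n := 2) (by exact_mod_cast h2)
      have hp01 : p ⟨0, by omega⟩ < p ⟨1, by omega⟩ := p.strictMono (by simp [Fin.lt_def])
      have hp12 : p ⟨1, by omega⟩ < p.last := p.strictMono (by simp [Fin.lt_def, Fin.last, hplen])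
      rw [hplast] at hp12
      obtain ⟨y0, hy0⟩ := exists_primeIdealOf_eq hU (p ⟨0, by omega⟩)
      obtain ⟨y, hy⟩ := exists_primeIdealOf_eq hU (p ⟨1, by omega⟩)
      rw [← hy0, ← hy] at hp01
      rw [← hy] at hp12
      obtain ⟨hsp01, hne01⟩ := (primeIdealOf_lt_iff hU y0 y).mp hp01
      obtain ⟨hsp12, hne12⟩ := (primeIdealOf_lt_iff hU y ⟨x, hx⟩).mp hp12
      have hnmax : ¬ IsMaxPt (y : X) := fun hmax => hne01 (hmax _ hsp01)
      have hFn : closure ({(y : X)} : Set X) ∉ irreducibleComponents (X : Type u) := fun h =>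
        hnmax ((closure_singleton_mem_irreducibleComponents_iff (y : X)).mp h)
      obtain ⟨x', -, hx'⟩ := HA _ isClosed_closure isIrreducible_singleton.closure hFn
      have h1 : (y : X) ∈ ({x'} : Set X) := by rw [← hx']; exact subset_closure rfl
      have h2 : x ∈ ({x'} : Set X) := by
        rw [← hx']; exact specializes_iff_mem_closure.mp hsp12
      exact hne12 ((Set.mem_singleton_iff.mp h1).trans (Set.mem_singleton_iff.mp h2).symm)
    have hle1 : Order.height (hU.primeIdealOf ⟨x, hx⟩) ≤ 1 := by
      have h3 : Order.height (hU.primeIdealOf ⟨x, hx⟩) < 2 := not_le.mp hlt2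
      have : (2 : ℕ∞) = 1 + 1 := by norm_num
      rw [this] at h3
      exact Order.le_of_lt_add_one h3
    have h1 : Order.height (hU.primeIdealOf ⟨x, hx⟩) = 1 :=
      le_antisymm hle1 (ENat.one_le_iff_ne_zero.mpr hne0)
    rw [h1]
    rfl

end Groth.Agent.S12129
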