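import Groth.Statements.S12130
-- import your own Groth.Agent.* helpers here
import Mathlib
import Groth.Agent.Lib.Helper12.CurveInsepNorm

set_option autoImplicit false
universe u
open Unram17

namespace Groth.Agent.S12130

open CategoryTheory AlgebraicGeometry in
/-- Let k be a field and X an integral k-scheme of finite type of dimension ≤ 1. Then there is a finite
purely inseparable field extension k' of k such that the reduced closed subscheme Z = (X_{k'})_red
of the base change X_{k'} is integral and the normalization of Z is smooth over k'. (The published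
statement is for an arbitrary k-scheme of finite type of dimension ≤ 1, with the normalization of a
reduced scheme with finitely many irreducible components; this row states the case X integral, where
Z is integral because X_{k'} → X is a homeomorphism. The instance hypotheses on the morphism from
the generic point inside the existential always hold and only serve to form the normalization.) -/
theorem result (k : Type u) [Field k]
    (X : Scheme.{u}) [X.Over (Spec (CommRingCat.of k))] [IsIntegral X]
    [LocallyOfFiniteType (X ↘ Spec (CommRingCat.of k))] [QuasiCompact (X ↘ Spec (CommRingCat.of k))]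
    (hdim : topologicalKrullDim X ≤ 1) :
    ∃ (k' : Type u) (_ : Field k') (_ : Algebra k k'), FiniteDimensional k k' ∧ IsPurelyInseparable k k' ∧
      ∃ (_ : IsIntegral (Curv2.bc k X k').nilradical.subscheme)
        (_ : QuasiCompact ((Curv2.bc k X k').nilradical.subscheme.fromSpecStalk
              (genericPoint (Curv2.bc k X k').nilradical.subscheme)))
        (_ : QuasiSeparated ((Curv2.bc k X k').nilradical.subscheme.fromSpecStalk
              (genericPoint (Curv2.bc k X k').nilradical.subscheme))),
        Smooth (Curv2.normalizationι (Curv2.bc k X k').nilradical.subscheme ≫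
          (Curv2.bc k X k').nilradical.subschemeι ≫ Curv2.bcSnd k X k') := by
  classical
  let f := X ↘ Spec (CommRingCat.of k)
  let Ω : Type u := ↥(perfectClosure k (AlgebraicClosure k))
  haveI : IsLocallyNoetherian X := LocallyOfFiniteType.isLocallyNoetherian f
  haveI : QuasiSeparated f := inferInstance
  obtain ⟨W, n, U, hfin, hsurj, hirr, hsm, hUne, hmono⟩ :=
    Groth.Agent.Lib.Helper12.CurveInsepNorm.exists_normalization_perfect k Ω f hdim
  haveI := hfin
  haveI : IsLocallyNoetherian
      (Limits.pullback f (Spec.map (CommRingCat.ofHom (algebraMap k Ω)))) :=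
    LocallyOfFiniteType.isLocallyNoetherian
      (Limits.pullback.snd f (Spec.map (CommRingCat.ofHom (algebraMap k Ω))))
  haveI : LocallyOfFinitePresentation n :=
    Groth.Agent.Lib.Helper12.SecCompBC.locallyOfFinitePresentation_of_isLocallyNoetherian n
  haveI : Algebra.IsIntegral k Ω := inferInstance
  obtain ⟨K', hfd, W', n', q, r, hlfp, hqc, hqs, hr1, hr2, sq⟩ :=
    Groth.Agent.Lib.Helper12.FieldStageObj.exists_finite_stage_obj k Ω f n
  haveI : IsPurelyInseparable k K' := IsPurelyInseparable.tower_bot k K' Ω
  refine ⟨K', inferInstance, inferInstance, hfd, inferInstance, ?_⟩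
  have hρ := Groth.Agent.Lib.Helper12.CurveInsepNorm.fpqc_specMap_field (K := K') (L := Ω)
  have hρp : Spec.map (CommRingCat.ofHom (algebraMap K' Ω)) ≫
      Spec.map (CommRingCat.ofHom (algebraMap k K')) =
      Spec.map (CommRingCat.ofHom (algebraMap k Ω)) := by
    rw [← Spec.map_comp, ← CommRingCat.ofHom_comp, ← IsScalarTower.algebraMap_eq]
  have sqr : IsPullback r (Limits.pullback.snd f (Spec.map (CommRingCat.ofHom (algebraMap k Ω))))
      (Limits.pullback.snd f (Spec.map (CommRingCat.ofHom (algebraMap k K'))))
      (Spec.map (CommRingCat.ofHom (algebraMap K' Ω))) := by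
    refine IsPullback.of_right ?_ hr2 (IsPullback.of_hasPullback f _)
    rw [hr1, hρp]
    exact IsPullback.of_hasPullback f _
  have hr : (@Surjective ⊓ @Flat ⊓ @QuasiCompact : MorphismProperty Scheme.{u}) r :=
    MorphismProperty.of_isPullback sqr.flip hρ
  haveI : IsFinite n' := MorphismProperty.of_isPullback_of_descendsAlong (P := @IsFinite)
    (Q := (@Surjective ⊓ @Flat ⊓ @QuasiCompact : MorphismProperty Scheme.{u})) sq.flip hr hfin
  haveI : Surjective n' := MorphismProperty.of_isPullback_of_descendsAlong (P := @Surjective)
    (Q := (@Surjective ⊓ @Flat ⊓ @QuasiCompact : MorphismProperty Scheme.{u})) sq.flip hr hsurj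
  haveI : Smooth (n' ≫ Limits.pullback.snd f (Spec.map (CommRingCat.ofHom (algebraMap k K')))) :=
    MorphismProperty.of_isPullback_of_descendsAlong (P := @Smooth)
      (Q := (@Surjective ⊓ @Flat ⊓ @QuasiCompact : MorphismProperty Scheme.{u}))
      (sq.paste_vert sqr).flip hρ hsm
  have hqs' : Surjective q := MorphismProperty.of_isPullback (P := @Surjective) sq.flip hr.1.1
  haveI : IrreducibleSpace W' := by
    rw [irreducibleSpace_def]
    have h1 := (IrreducibleSpace.isIrreducible_univ W).image q q.continuous.continuousOn
    rwa [Set.image_univ, hqs'.1.range_eq] at h1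
  have e : r ⁻¹ᵁ ((Limits.pullback.fst f (Spec.map (CommRingCat.ofHom (algebraMap k K')))) ⁻¹ᵁ U) =
      (Limits.pullback.fst f (Spec.map (CommRingCat.ofHom (algebraMap k Ω)))) ⁻¹ᵁ U := by
    rw [← Scheme.Hom.comp_preimage, hr1]
  haveI : Mono (n' ∣_ ((Limits.pullback.fst f (Spec.map (CommRingCat.ofHom (algebraMap k K')))) ⁻¹ᵁ U)) :=
    Groth.Agent.Lib.Helper12.CurveInsepNorm.mono_restrict_of_isPullback sq hr _
      (by rw [e]; exact hmono)
  haveI : Surjective (Spec.map (CommRingCat.ofHom (algebraMap k K'))) :=
    Groth.Agent.Lib.Helper12.StratTowerField.surjective_specMap_field _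
  haveI : Surjective (Limits.pullback.fst f (Spec.map (CommRingCat.ofHom (algebraMap k K')))) :=
    MorphismProperty.pullback_fst (P := @Surjective) f _ inferInstance
  have hU' : (↑((Limits.pullback.fst f (Spec.map (CommRingCat.ofHom (algebraMap k K')))) ⁻¹ᵁ U) :
      Set ↥(Limits.pullback f (Spec.map (CommRingCat.ofHom (algebraMap k K'))))).Nonempty := by
    obtain ⟨x, hx⟩ := hUne
    obtain ⟨y, hy⟩ := Surjective.surj
      (f := Limits.pullback.fst f (Spec.map (CommRingCat.ofHom (algebraMap k K')))) x
    exact ⟨y, by show (Limits.pullback.fst f _) y ∈ U; rw [hy]; exact hx⟩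
  exact Groth.Agent.Lib.Helper12.CurveInsepNorm.smooth_normalization_of_finite K'
    (Limits.pullback.snd f (Spec.map (CommRingCat.ofHom (algebraMap k K')))) n' _ hU'

end Groth.Agent.S12130
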