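import Groth.Statements.S12135
import Mathlib
import Groth.Agent.Lib.Helper18.ConsTop

set_option autoImplicit false
universe u
open EGA41

namespace Groth.Agent.S12135

open Topology in
/-- transfer of properness to the `WithTopology` synonyms. -/
private lemma isProperMap_withTopology_iff {A B : Type*} (tA : TopologicalSpace A) (tB : TopologicalSpace B)
    (f : A → B) :
    @IsProperMap A B tA tB f ↔
      IsProperMap (fun a : WithTopology A tA => WithTopology.toTopology tB (f a.ofTopology)) := by
  letI := tA
  letI := tB
  let hA : WithTopology A tA ≃ₜ A :=
    { toEquiv := WithTopology.equiv A tA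
      continuous_toFun := WithTopology.continuous_ofTopology tA
      continuous_invFun := WithTopology.continuous_toTopology tA }
  let hB : WithTopology B tB ≃ₜ B :=
    { toEquiv := WithTopology.equiv B tB
      continuous_toFun := WithTopology.continuous_ofTopology tB
      continuous_invFun := WithTopology.continuous_toTopology tB }
  constructor
  · intro hf
    exact hB.symm.isProperMap.comp (hf.comp hA.isProperMap)
  · intro hg
    have := hB.isProperMap.comp (hg.comp hA.symm.isProperMap)
    exact this

private lemma continuous_ofTopology_cons {X : Type*} [TopologicalSpace X] [PrespectralSpace X] :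
    Continuous (WithTopology.ofTopology : WithConstructibleTopology X → X) := by
  rw [continuous_def]
  intro U hU
  rw [isOpen_iff_forall_mem_open]
  intro x hx
  obtain ⟨V, ⟨hVo, hVc⟩, hxV, hVU⟩ :=
    PrespectralSpace.isTopologicalBasis.exists_subset_of_mem_open (show x.ofTopology ∈ U from hx) hU
  exact ⟨WithTopology.ofTopology ⁻¹' V, Set.preimage_mono hVU,
    (Groth.Agent.Lib.Helper18.isClopen_cons_of_isCompact_isOpen V hVo hVc).isOpen, hxV⟩

open AlgebraicGeometry Topology in
/-- Let f : X → Y be a morphism of schemes with X and Y quasi-separated, and let X^cons, Y^cons denote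
the underlying sets with the constructible topology (generated by the quasi-compact open subsets and
their complements; for quasi-separated schemes the open sets are exactly the ind-constructible
subsets). Then f is quasi-compact if and only if the map X^cons → Y^cons underlying f is proper
(continuous and universally closed). (The published statement is for arbitrary schemes with the
ind-constructible topology; this row covers the quasi-separated case, where that topology is the one
used here.) -/
theorem result {X Y : Scheme.{u}} [QuasiSeparatedSpace X]
    [QuasiSeparatedSpace Y] (f : X ⟶ Y) :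
    QuasiCompact f ↔ @IsProperMap X Y (constructibleTopology X) (constructibleTopology Y) f := by
  rw [isProperMap_withTopology_iff]
  haveI : TotallySeparatedSpace (WithConstructibleTopology Y) :=
    Groth.Agent.Lib.Helper18.totallySeparatedSpace_cons
  haveI : WeaklyLocallyCompactSpace (WithConstructibleTopology Y) :=
    Groth.Agent.Lib.Helper18.weaklyLocallyCompactSpace_cons
  haveI : T2Space (WithConstructibleTopology Y) := inferInstance
  set g : WithConstructibleTopology X → WithConstructibleTopology Y :=
    fun a => WithTopology.toTopology (constructibleTopology Y) (f a.ofTopology) with hg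
  have hpre : ∀ s : Set Y, g ⁻¹' (WithTopology.ofTopology ⁻¹' s) = WithTopology.ofTopology ⁻¹' (f ⁻¹' s) := by
    intro s; rfl
  constructor
  · intro hf
    have hcont : Continuous g := by
      rw [continuous_def]
      intro s hs
      rw [WithConstructibleTopology.isOpen_iff] at hs
      have hs' : s = WithTopology.ofTopology ⁻¹' (WithTopology.toTopology _ ⁻¹' s) := by
        ext a; rfl
      rw [hs', hpre]
      have key : ∀ t : Set Y, IsOpen[constructibleTopology Y] t →
          IsOpen (WithTopology.ofTopology ⁻¹' (f ⁻¹' t) : Set (WithConstructibleTopology X)) := by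
        intro t ht
        induction ht with
        | basic t ht =>
          rcases ht with ⟨hto, htc⟩ | ⟨htcl, htc⟩
          · exact (Groth.Agent.Lib.Helper18.isClopen_cons_of_isCompact_isOpen _
              (hto.preimage f.continuous) (hf.isCompact_preimage _ hto htc)).isOpen
          · have := (Groth.Agent.Lib.Helper18.isClopen_cons_of_isCompact_isOpen _
              (htcl.isOpen_compl.preimage f.continuous)
              (hf.isCompact_preimage _ htcl.isOpen_compl htc)).compl.isOpen
            simpa [Set.preimage_compl] using this
        | univ => simp
        | inter t₁ t₂ _ _ h₁ h₂ => exact h₁.inter h₂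
        | sUnion T _ hT =>
          rw [Set.preimage_sUnion, Set.preimage_iUnion₂]
          exact isOpen_biUnion hT
      exact key _ hs
    rw [isProperMap_iff_isCompact_preimage]
    refine ⟨hcont, fun K hK => ?_⟩
    have hKcl : IsClosed K := hK.isClosed
    have hcov : ∀ y : WithConstructibleTopology Y, ∃ V : Set Y, IsOpen V ∧ IsCompact V ∧ y.ofTopology ∈ V := by
      intro y
      obtain ⟨V, ⟨hVo, hVc⟩, hyV, -⟩ :=
        PrespectralSpace.isTopologicalBasis.exists_subset_of_mem_open (Set.mem_univ y.ofTopology) isOpen_univ
      exact ⟨V, hVo, hVc, hyV⟩
    choose V hVo hVc hyV using hcov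
    obtain ⟨t, ht⟩ := hK.elim_finite_subcover (fun y => (WithTopology.ofTopology ⁻¹' V y : Set (WithConstructibleTopology Y)))
      (fun y => (Groth.Agent.Lib.Helper18.isClopen_cons_of_isCompact_isOpen _ (hVo y) (hVc y)).isOpen)
      (fun y _ => Set.mem_iUnion.mpr ⟨y, hyV y⟩)
    have hbig : IsCompact (⋃ y ∈ t, (WithTopology.ofTopology ⁻¹' (f ⁻¹' V y) : Set (WithConstructibleTopology X))) :=
      t.isCompact_biUnion fun y _ =>
        Groth.Agent.Lib.Helper18.isCompact_pre_of_isCompact_isOpen _ ((hVo y).preimage f.continuous)
          (hf.isCompact_preimage _ (hVo y) (hVc y))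
    refine hbig.of_isClosed_subset (hKcl.preimage hcont) ?_
    intro a ha
    have := ht ha
    simp only [Set.mem_iUnion, Set.mem_preimage] at this ⊢
    exact this
  · intro hg
    rw [quasiCompact_iff]
    intro U hUo hUc
    have h1 := Groth.Agent.Lib.Helper18.isCompact_pre_of_isCompact_isOpen U hUo hUc
    have h2 := hg.isCompact_preimage h1
    rw [hpre] at h2
    have h3 := h2.image continuous_ofTopology_cons
    rwa [Set.image_preimage_eq _ (WithTopology.ofTopology_surjective _)] at h3

end Groth.Agent.S12135
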