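import Groth.Statements.S12138
import Groth.Agent.Lib.Helper13.CBCBC
import Groth.Agent.Lib.Helper13.CBCCover

set_option autoImplicit false
universe u
attribute [local instance] HasDerivedCategory.standard
open Coherent

namespace Groth.Agent.S12138

open AlgebraicGeometry CategoryTheory in
/-- For a complex reduced to one sheaf and affine bases. Let A be a Noetherian ring, X a proper A-scheme
with structure morphism f, F a coherent O_X-module flat over Spec A, and T^p(M) = H^p(X, f^*(M~) ⊗
F) for A-modules M. Let A' be any commutative A-algebra, X' an A'-scheme with a morphism g' : X' → X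
making X' the fibre product X ×_{Spec A} Spec A', F' = g'^* F, and T'^p(M') = H^p(X', f'^*(M'~) ⊗
F') for A'-modules M'. If T^p takes surjections to surjections (resp. injections to injections),
then T'^p does the same. (The converse when Spec A' → Spec A is faithfully flat is a separate
statement; the published statement is for an arbitrary base change of schemes and reduces to this
affine case.) -/
theorem result (A A' : Type u) [CommRing A] [IsNoetherianRing A]
    [CommRing A'] [Algebra A A'] (X X' : Scheme.{u}) [X.Over (Spec (CommRingCat.of A))]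
    [X'.Over (Spec (CommRingCat.of A'))] [IsProper (X ↘ Spec (CommRingCat.of A))] (g' : X' ⟶ X)
    (hsq : IsPullback g' (X' ↘ Spec (CommRingCat.of A')) (X ↘ Spec (CommRingCat.of A))
      (Spec.map (CommRingCat.ofHom (algebraMap A A'))))
    (F : X.Modules) (hF : Coh.IsCoh F) (hfl : FlatMod.IsFlatOver (X ↘ Spec (CommRingCat.of A)) F) (p : ℕ) :
    ((CohIII.tensorAFunctor A F ⋙ CohIII.HAb X p).PreservesEpimorphisms →
        (CohIII.tensorAFunctor A' ((Scheme.Modules.pullback g').obj F) ⋙ CohIII.HAb X' p).PreservesEpimorphisms) ∧
      ((CohIII.tensorAFunctor A F ⋙ CohIII.HAb X p).PreservesMonomorphisms →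
        (CohIII.tensorAFunctor A' ((Scheme.Modules.pullback g').obj F) ⋙ CohIII.HAb X' p).PreservesMonomorphisms) := by
  haveI : F.IsQuasicoherent := hF.1
  obtain ⟨ι, hfin, U, hcov, -, hU⟩ := Groth.Agent.Lib.Helper13.CBCCover.exists_cover A X
  obtain ⟨ν⟩ := Groth.Agent.Lib.Helper13.CBCBC.bc_natIso A A'
    (Spec.map (CommRingCat.ofHom (algebraMap A A'))) g' hsq F U p hcov hU
  have hRe : (ModuleCat.restrictScalars (Groth.Agent.Lib.Helper13.CBCBase.φg A A'
      (Spec.map (CommRingCat.ofHom (algebraMap A A'))))).PreservesEpimorphisms :=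
    ⟨fun {M N} f hf => (ModuleCat.epi_iff_surjective _).2 ((ModuleCat.epi_iff_surjective f).1 hf)⟩
  have hRm : (ModuleCat.restrictScalars (Groth.Agent.Lib.Helper13.CBCBase.φg A A'
      (Spec.map (CommRingCat.ofHom (algebraMap A A'))))).PreservesMonomorphisms :=
    ⟨fun {M N} f hf => (ModuleCat.mono_iff_injective _).2 ((ModuleCat.mono_iff_injective f).1 hf)⟩
  constructor
  · intro h
    haveI := h
    haveI := hRe
    exact Functor.PreservesEpimorphisms.of_iso ν.symm
  · intro h
    haveI := h
    haveI := hRm
    exact Functor.PreservesMonomorphisms.of_iso ν.symm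

end Groth.Agent.S12138
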