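import Groth.Statements.S12146
import Groth.Agent.Lib.Helper3.RLPsi

set_option autoImplicit false
universe u
open CategoryTheory CategoryTheory.Limits AlgebraicGeometry TopologicalSpace Opposite
open scoped HomogeneousIdeal
noncomputable section
open EGA2

namespace Groth.Agent.S12146

/-- Let q : X → Y be a morphism with Y affine, L an invertible O_X-module, 𝒮L = ⊕_{n≥0} L^{⊗n} its
graded symmetric algebra (whose Proj, presented with its charts, is identified with X by its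
structure morphism pL), 𝒮 a quasi-coherent positively graded O_Y-algebra with S = Γ(Y, 𝒮), ψ : q^*𝒮
→ 𝒮L a graded homomorphism given as a graded q-morphism u = ψ♭ : 𝒮 → q_*𝒮L, P = Proj(𝒮), and r =
r_{L,ψ} : G(ψ) → P the associated morphism on its open of definition G(ψ) ⊆ Proj(𝒮L). Then r is
dominant if and only if for every n > 0, every s ∈ S_n such that ψ♭(s) ∈ Γ(X, L^{⊗n}) is locally
nilpotent (as a section of the algebra 𝒮L: each point of X has an affine neighbourhood V with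
ψ♭(s)|V nilpotent in 𝒮L(V)) is nilpotent. -/
theorem result {Y X P PL : Scheme.{u}} (q : X ⟶ Y)
    (L : X.Modules) (hL : PicF.IsInvertible L) (hLq : Coh.IsQCoh L)
    (𝒮 : RelProj.QCGrAlg Y) (𝒮L : RelProj.QCGrAlg X) (j : L ⟶ 𝒮L.toModule) (hj : RelProj.IsGrSymAlg L 𝒮L j)
    (u : RelProj.QGrHom q 𝒮 𝒮L)
    (p : P ⟶ Y) (chart : ∀ (U : Y.Opens) (hU : IsAffineOpen U), (((p ⁻¹ᵁ U : P.Opens) : Scheme.{u}) ≅ Proj (𝒮.deg U hU)))
    (hP : RelProj.IsRelProj 𝒮 p chart)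
    (pL : PL ⟶ X) (chartL : ∀ (U : X.Opens) (hU : IsAffineOpen U), (((pL ⁻¹ᵁ U : PL.Opens) : Scheme.{u}) ≅ Proj (𝒮L.deg U hU)))
    (hPL : RelProj.IsRelProj 𝒮L pL chartL)
    (r : ((RelProj.domQ u pL chartL : PL.Opens) : Scheme.{u}) ⟶ P)
    (hr : RelProj.IsProjQMapOn u p chart pL chartL (RelProj.domQ u pL chartL) r)
    (hY : IsAffineOpen (⊤ : Y.Opens)) :
    IsDominant r ↔
      ∀ (n : ℕ), 0 < n → ∀ s ∈ 𝒮.deg ⊤ hY n,
        (∀ x : X, ∃ (V : X.Opens) (_ : IsAffineOpen V), x ∈ V ∧ IsNilpotent ((u.appLE ⊤ V (le_top.trans (Scheme.Hom.preimage_top q).ge)).hom s)) →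
          IsNilpotent s := by
  have hle : ∀ V : X.Opens, V ≤ q ⁻¹ᵁ (⊤ : Y.Opens) := fun V =>
    le_top.trans (Scheme.Hom.preimage_top q).ge
  constructor
  · intro hdom n hn s hs hloc
    refine Groth.Agent.Lib.Helper3.RLPsi.nilpotent_of_isDominant (p := p) (chart := chart) r hdom
      ⊤ hY hn hs ?_
    intro z hz
    obtain ⟨V, hV, hxV, hnil⟩ := hloc (pL ((RelProj.domQ u pL chartL).ι z))
    obtain ⟨y, hy⟩ := Groth.Agent.Lib.Helper3.ProjQMap.exists_emb_eq pL chartL V hV _ hxV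
    have hsy := (Groth.Agent.Lib.Helper3.RLPsi.r_mem_iff u r hr hPL z ⊤ hY V hV (hle V) y hy
      hn s hs).mp hz
    exact hsy (Groth.Agent.Lib.Helper3.RLPsi.mem_of_isNilpotent hnil y)
  · intro H
    refine Groth.Agent.Lib.Helper3.RLPsi.isDominant_of_forall r hP
      (fun y₀ => ⟨⊤, hY, trivial, ?_⟩)
    intro n hn s hs hz
    refine H n hn s hs (fun x => ?_)
    obtain ⟨V, hV, hxV⟩ := Groth.Agent.Lib.Helper3.ProjQMap.exists_affine_mem x
    refine ⟨V, hV, hxV, ?_⟩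
    have ha : (u.appLE ⊤ V (hle V)).hom s ∈ 𝒮L.deg V hV n :=
      (u.gradedAt ⊤ hY V hV (hle V)).map_mem hs
    refine Groth.Agent.Lib.Helper3.RLPsi.isNilpotent_of_forall_mem hn ha (fun y => ?_)
    by_contra hsy
    have hdomx : RelProj.emb pL chartL V hV y ∈ RelProj.domQ u pL chartL :=
      Groth.Agent.Lib.Helper3.RLPsi.mem_domQ_of_loc u _ ⊤ hY V hV (hle V)
        ⟨y, rfl, n, hn, s, hs, hsy⟩
    exact hz ⟨_, hdomx⟩ ((Groth.Agent.Lib.Helper3.RLPsi.r_mem_iff u r hr hPL ⟨_, hdomx⟩ ⊤ hY V hV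
      (hle V) y rfl hn s hs).mpr hsy)

end Groth.Agent.S12146
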