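import Groth.Statements.S12152
import Groth.Agent.Lib.Helper3.RLPsiImm

set_option autoImplicit false
universe u
open CategoryTheory CategoryTheory.Limits AlgebraicGeometry TopologicalSpace Opposite
open scoped HomogeneousIdeal
noncomputable section
open EGA2

namespace Groth.Agent.S12152

/-- Let q : X → Y be a morphism with Y affine, L an invertible O_X-module with 𝒮L = ⊕ L^{⊗n} (whose Proj
is X), 𝒮 a quasi-coherent positively graded O_Y-algebra with S = Γ(Y, 𝒮), ψ♭ = u : 𝒮 → q_*𝒮L a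
graded q-morphism and r = r_{L,ψ} : G(ψ) → P = Proj(𝒮). For a family s_a ∈ S_{n_a} (n_a > 0) put f_a
= ψ♭(s_a) ∈ Γ(X, L^{⊗n_a}) and let X_{f_a} be the open where f_a does not vanish; conditions: (i)
the X_{f_a} cover X; (ii) the X_{f_a} are affine; (iii) every function t on X_{f_a} is of the form
ψ♭(s') f_a^{-m} with m > 0 and s' ∈ S_{m n_a} (that is, t f_a^m = ψ♭(s') in 𝒮L(X_{f_a})); (v) the
opens D_+(s_a) cover Proj S. Then r is everywhere defined and a closed immersion if and only if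
there is a family (s_a) satisfying (i), (ii), (iii) and (v). -/
theorem result {Y X P PL : Scheme.{u}} (q : X ⟶ Y)
    (L : X.Modules) (hL : PicF.IsInvertible L) (hLq : Coh.IsQCoh L)
    (𝒮 : RelProj.QCGrAlg Y) (𝒮L : RelProj.QCGrAlg X) (j : L ⟶ 𝒮L.toModule) (hj : RelProj.IsGrSymAlg L 𝒮L j)
    (u : RelProj.QGrHom q 𝒮 𝒮L)
    (p : P ⟶ Y) (chart : ∀ (U : Y.Opens) (hU : IsAffineOpen U), (((p ⁻¹ᵁ U : P.Opens) : Scheme.{u}) ≅ Proj (𝒮.deg U hU)))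
    (hP : RelProj.IsRelProj 𝒮 p chart)
    (pL : PL ⟶ X) (chartL : ∀ (U : X.Opens) (hU : IsAffineOpen U), (((pL ⁻¹ᵁ U : PL.Opens) : Scheme.{u}) ≅ Proj (𝒮L.deg U hU)))
    (hPL : RelProj.IsRelProj 𝒮L pL chartL)
    (r : ((RelProj.domQ u pL chartL : PL.Opens) : Scheme.{u}) ⟶ P)
    (hr : RelProj.IsProjQMapOn u p chart pL chartL (RelProj.domQ u pL chartL) r)
    (hY : IsAffineOpen (⊤ : Y.Opens)) :
    (RelProj.domQ u pL chartL = ⊤ ∧ IsClosedImmersion r) ↔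
      ∃ (ι : Type u) (n : ι → ℕ) (s : ι → 𝒮.presheaf.obj (op ⊤)) (XT : ι → X.Opens),
        (∀ a, 0 < n a ∧ s a ∈ 𝒮.deg ⊤ hY (n a)) ∧
        (∀ a, XT a = (⨆ V : {V : X.affineOpens //
          ((𝒮L.deg V.1 V.2 (n a) : AddSubgroup (𝒮L.presheaf.obj (op (V.1 : X.Opens)))) : Set (𝒮L.presheaf.obj (op (V.1 : X.Opens)))) ⊆
            (Ideal.span {(u.appLE ⊤ (V.1 : X.Opens) (le_top.trans (Scheme.Hom.preimage_top q).ge)).hom (s a)} : Set (𝒮L.presheaf.obj (op (V.1 : X.Opens))))},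
          (V.1.1 : X.Opens))) ∧
        (⨆ a, XT a) = ⊤ ∧ (∀ a, IsAffineOpen (XT a)) ∧
        (∀ (a : ι) (t : X.presheaf.obj (op (XT a))), ∃ (m : ℕ) (_ : 0 < m) (s' : 𝒮.presheaf.obj (op ⊤)) (_ : s' ∈ 𝒮.deg ⊤ hY (m * n a)),
            (𝒮L.str.app (op (XT a))).hom t * ((u.appLE ⊤ (XT a) (le_top.trans (Scheme.Hom.preimage_top q).ge)).hom (s a)) ^ m =
              (u.appLE ⊤ (XT a) (le_top.trans (Scheme.Hom.preimage_top q).ge)).hom s') ∧
        (⨆ a, Proj.basicOpen (𝒮.deg ⊤ hY) (s a)) = ⊤ := by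
  constructor
  · rintro ⟨hW, hcl⟩
    haveI := hcl
    have hlc : (r ≫ (Scheme.topIso P).inv) ≫ (⊤ : P.Opens).ι = r := by
      rw [Category.assoc, Scheme.toIso_inv_ι, Category.comp_id]
    refine ⟨{a : Σ n : PNat, 𝒮.deg ⊤ hY n //
        (RelProj.emb p chart ⊤ hY) ''ᵁ Proj.basicOpen (𝒮.deg ⊤ hY)
          (a.2 : 𝒮.presheaf.obj (op ⊤)) ≤ (⊤ : P.Opens)},
      fun a => (a.1.1 : ℕ), fun a => (a.1.2 : 𝒮.presheaf.obj (op ⊤)),
      fun a => Groth.Agent.Lib.Helper3.RLPsiImm.XF u (a.1.1 : ℕ) (a.1.2 : 𝒮.presheaf.obj (op ⊤)),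
      fun a => ⟨a.1.1.2, a.1.2.2⟩, fun a => rfl, ?_, ?_, ?_, ?_⟩
    · rw [eq_top_iff]
      intro x _
      obtain ⟨n, s, hn, hs, hD, hx⟩ :=
        Groth.Agent.Lib.Helper3.RLPsiImm.exists_XF_mem u r hL hLq hj hP hPL hr hY (⊤ : P.Opens) (r ≫ (Scheme.topIso P).inv) hlc hW x
      exact Opens.mem_iSup.mpr ⟨⟨⟨⟨n, hn⟩, ⟨s, hs⟩⟩, hD⟩, hx⟩
    · intro a
      exact Groth.Agent.Lib.Helper3.RLPsiImm.isAffineOpen_XF_of_le u r hL hLq hj hP hPL hr hY a.1.1.2 a.1.2.1 a.1.2.2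
        (⊤ : P.Opens) (r ≫ (Scheme.topIso P).inv) hlc a.2
    · intro a t
      have hXT := Groth.Agent.Lib.Helper3.RLPsiImm.isAffineOpen_XF_of_le u r hL hLq hj hP hPL hr hY a.1.1.2 a.1.2.1 a.1.2.2
        (⊤ : P.Opens) (r ≫ (Scheme.topIso P).inv) hlc a.2
      obtain ⟨c', sq⟩ := Groth.Agent.Lib.Helper3.RLPsiImm.isPullback_chart u r hL hLq hj hP hPL hr hY a.1.1.2 a.1.2.1 a.1.2.2
        (⊤ : P.Opens) (r ≫ (Scheme.topIso P).inv) hlc a.2 hXT
      haveI : IsClosedImmersion (Spec.map (CommRingCat.ofHom (HomogeneousLocalization.Away.map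
          (u.gradedAt ⊤ hY _ hXT (Groth.Agent.Lib.Helper3.RLPsiImm.le_top' _)) a.1.2.1))) :=
        MorphismProperty.of_isPullback (P := @IsClosedImmersion) sq inferInstance
      have hsurj := Groth.Agent.Lib.Helper3.RLPsiImm.surjective_of_isClosedImmersion_SpecMap
        (CommRingCat.ofHom (HomogeneousLocalization.Away.map
          (u.gradedAt ⊤ hY _ hXT (Groth.Agent.Lib.Helper3.RLPsiImm.le_top' _)) a.1.2.1))
      exact Groth.Agent.Lib.Helper3.RLPsiImm.iii_of_surjective (u.gradedAt ⊤ hY _ hXT (Groth.Agent.Lib.Helper3.RLPsiImm.le_top' _)) a.1.2.2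
        (𝒮L.str.app (op _)).hom (𝒮L.str_mem _ hXT) hsurj t
    · rw [eq_top_iff]
      intro y _
      obtain ⟨d, hd, b, hb, hby⟩ := Groth.Agent.Lib.Helper3.ProjQMap.exists_pos_notMem y
      exact Opens.mem_iSup.mpr ⟨⟨⟨⟨d, hd⟩, ⟨b, hb⟩⟩, le_top⟩, hby⟩
  · rintro ⟨ι, n, s, XT, h1, h2, h3, h4, h5, h6⟩
    obtain rfl : XT = fun a => Groth.Agent.Lib.Helper3.RLPsiImm.XF u (n a) (s a) := funext h2
    have hW := Groth.Agent.Lib.Helper3.RLPsiImm.domQ_eq_top_of_family u hL hLq hj hP hPL hY n s h1 h3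
    refine ⟨hW, ?_⟩
    have hQ : ∀ a, IsClosedImmersion (Spec.map (CommRingCat.ofHom
        (HomogeneousLocalization.Away.map
          (u.gradedAt ⊤ hY (Groth.Agent.Lib.Helper3.RLPsiImm.XF u (n a) (s a)) (h4 a) (Groth.Agent.Lib.Helper3.RLPsiImm.le_top' _)) (s a)))) := fun a =>
      IsClosedImmersion.spec_of_surjective _
        (Groth.Agent.Lib.Helper3.RLPsiImm.awayMap_surjective_of (u.gradedAt ⊤ hY _ (h4 a) (Groth.Agent.Lib.Helper3.RLPsiImm.le_top' _)) (h1 a).2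
          (𝒮L.str.app (op _)).hom (𝒮L.str_mem _ (h4 a))
          (Groth.Agent.Lib.Helper3.RLPsiImm.theta_bijective u r hL hLq hj hPL hr hY (h1 a).1 (s a) (h1 a).2 (h4 a)).2 (h5 a))
    obtain ⟨fO, hfO, hcl⟩ := Groth.Agent.Lib.Helper3.RLPsiImm.exists_fO u r hL hLq hj hP hPL hr hY n s h1 h3 h4
      @IsClosedImmersion hQ
    haveI := hcl
    have htop : (⨆ a, (RelProj.emb p chart ⊤ hY) ''ᵁ Proj.basicOpen (𝒮.deg ⊤ hY) (s a) :
        P.Opens) = ⊤ := by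
      rw [eq_top_iff]
      intro x _
      obtain ⟨y, hy⟩ := Groth.Agent.Lib.Helper3.ProjQMap.exists_emb_eq p chart ⊤ hY x trivial
      have hy' : y ∈ (⨆ a, Proj.basicOpen (𝒮.deg ⊤ hY) (s a)) := by
        rw [h6]
        trivial
      obtain ⟨a, ha⟩ := Opens.mem_iSup.mp hy'
      exact Opens.mem_iSup.mpr ⟨a, ⟨y, ha, hy⟩⟩
    haveI := Groth.Agent.Lib.Helper3.RLPsiImm.isIso_ι_of_eq_top _ htop
    rw [← hfO]
    infer_instance

end Groth.Agent.S12152
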