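import Groth.Statements.S12154
import Groth.Agent.Lib.Helper3.RLPsiComp

set_option autoImplicit false
universe u
open CategoryTheory CategoryTheory.Limits AlgebraicGeometry TopologicalSpace Opposite
open scoped HomogeneousIdeal
noncomputable section
open EGA2

namespace Groth.Agent.S12154

/-- Let q : X → Y be a morphism, L an invertible O_X-module with 𝒮L = ⊕ L^{⊗n} (whose Proj, with its
charts, is X), v : 𝒯 → 𝒮 a graded homomorphism of quasi-coherent positively graded O_Y-algebras, ψ♭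
= u : 𝒮 → q_*𝒮L a graded q-morphism and ψ'♭ = u' its composite with v; let r = r_{L,ψ} : G(ψ) →
Proj(𝒮) and r' = r_{L,ψ'} : G(ψ') → Proj(𝒯), with r' everywhere defined and v (TN)-surjective (v :
𝒯_k → 𝒮_k surjective for all large k, on sections over affine opens). If r' is an open immersion, so
is r; if r' is a closed immersion, so is r. -/
theorem result {Y X P PL P' : Scheme.{u}} (q : X ⟶ Y)
    (L : X.Modules) (hL : PicF.IsInvertible L) (hLq : Coh.IsQCoh L)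
    (𝒮 : RelProj.QCGrAlg Y) (𝒮L : RelProj.QCGrAlg X) (j : L ⟶ 𝒮L.toModule) (hj : RelProj.IsGrSymAlg L 𝒮L j)
    (u : RelProj.QGrHom q 𝒮 𝒮L)
    (p : P ⟶ Y) (chart : ∀ (U : Y.Opens) (hU : IsAffineOpen U), (((p ⁻¹ᵁ U : P.Opens) : Scheme.{u}) ≅ Proj (𝒮.deg U hU)))
    (hP : RelProj.IsRelProj 𝒮 p chart)
    (pL : PL ⟶ X) (chartL : ∀ (U : X.Opens) (hU : IsAffineOpen U), (((pL ⁻¹ᵁ U : PL.Opens) : Scheme.{u}) ≅ Proj (𝒮L.deg U hU)))
    (hPL : RelProj.IsRelProj 𝒮L pL chartL)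
    (r : ((RelProj.domQ u pL chartL : PL.Opens) : Scheme.{u}) ⟶ P)
    (hr : RelProj.IsProjQMapOn u p chart pL chartL (RelProj.domQ u pL chartL) r)
    (𝒯 : RelProj.QCGrAlg Y) (v : 𝒯.toQCAlg ⟶ 𝒮.toQCAlg) (hv : RelProj.IsGradedHom v)
    (u' : RelProj.QGrHom q 𝒯 𝒮L) (hu' : ∀ U : Y.Opens, u'.app U = v.hom.app (op U) ≫ u.app U)
    (p' : P' ⟶ Y) (chart' : ∀ (U : Y.Opens) (hU : IsAffineOpen U), (((p' ⁻¹ᵁ U : P'.Opens) : Scheme.{u}) ≅ Proj (𝒯.deg U hU)))
    (hP' : RelProj.IsRelProj 𝒯 p' chart')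
    (r' : ((RelProj.domQ u' pL chartL : PL.Opens) : Scheme.{u}) ⟶ P')
    (hr' : RelProj.IsProjQMapOn u' p' chart' pL chartL (RelProj.domQ u' pL chartL) r')
    (hTN : ∃ n : ℕ, ∀ k, n ≤ k → ∀ (U : Y.Opens) (hU : IsAffineOpen U), ∀ y ∈ 𝒮.deg U hU k,
      ∃ x ∈ 𝒯.deg U hU k, (v.hom.app (op U)).hom x = y)
    (hdef : RelProj.domQ u' pL chartL = ⊤) :
    (IsOpenImmersion r' → IsOpenImmersion r) ∧ (IsClosedImmersion r' → IsClosedImmersion r) := by
  obtain ⟨N, hN⟩ := hTN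
  have hle1 : RelProj.domQ u' pL chartL ≤ RelProj.domQ u pL chartL :=
    Groth.Agent.Lib.Helper3.RLPsi.domQ_le_of_comp u u' v hv hu'
  have hW : RelProj.domQ u pL chartL = ⊤ := by
    have h := hle1
    rw [hdef] at h
    exact top_le_iff.mp h
  have hle2 : RelProj.domQ u pL chartL ≤ RelProj.domQ u' pL chartL := by
    rw [hdef]
    exact le_top
  haveI : IsIso (PL.homOfLE hle1) :=
    ⟨⟨PL.homOfLE hle2, by rw [Scheme.homOfLE_homOfLE]; exact Scheme.homOfLE_rfl _ _,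
      by rw [Scheme.homOfLE_homOfLE]; exact Scheme.homOfLE_rfl _ _⟩⟩
  obtain ⟨ϖ, hϖ⟩ := Groth.Agent.Lib.Helper3.ProjQGlue.exists_isProjQMapOn
    (u := RelProj.QGrHom.ofHom v hv) p' chart' p chart hP' hP
  obtain ⟨ρ, hρ⟩ := Groth.Agent.Lib.Helper3.RLPsiComp.exists_rho u u' v hv hu' r hr hPL hle1
  have hcomp : ρ ≫ ϖ = r' :=
    Groth.Agent.Lib.Helper3.RLPsiComp.comp_eq u u' v hv hu' r hr r' hr' ϖ hϖ hle1 ρ hρ
  have hG : RelProj.domQ (RelProj.QGrHom.ofHom v hv) p chart = ⊤ :=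
    Groth.Agent.Lib.Helper3.ProjQMap.domQ_eq_top v hv
      (Groth.Agent.Lib.Helper3.ProjQMap.cov_of_tn v hv N hN)
  haveI : IsIso (RelProj.domQ (RelProj.QGrHom.ofHom v hv) p chart).ι := by
    rw [hG]
    exact (inferInstance : IsIso (Scheme.topIso P).hom)
  have hh : RelProj.IsProjQMap (RelProj.QGrHom.ofHom v hv) p' chart' p chart
      (inv (RelProj.domQ (RelProj.QGrHom.ofHom v hv) p chart).ι ≫ ϖ) := by
    refine ⟨hG, ?_⟩
    intro U hU U₁ hU₁ hle d hd f hf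
    rw [← hϖ U hU U₁ hU₁ hle d hd f hf
      (RelProj.range_awayEmb_subset_domQ (RelProj.QGrHom.ofHom v hv) p chart U hU U₁ hU₁ hle hd f hf),
      ← Category.assoc]
    congr 1
    rw [IsIso.comp_inv_eq, IsOpenImmersion.lift_fac]
  haveI : IsClosedImmersion (inv (RelProj.domQ (RelProj.QGrHom.ofHom v hv) p chart).ι ≫ ϖ) :=
    Groth.Agent.Lib.Helper3.ProjQMap.isClosedImmersion_of_tn v hv hP' hP N hN _ hh
  haveI : IsClosedImmersion ϖ :=
    (MorphismProperty.cancel_left_of_respectsIso @IsClosedImmersion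
      (inv (RelProj.domQ (RelProj.QGrHom.ofHom v hv) p chart).ι) ϖ).mp inferInstance
  constructor
  · intro hopen
    haveI : IsOpenImmersion (ρ ≫ ϖ) := hcomp ▸ hopen
    haveI : IsOpenImmersion ρ :=
      MorphismProperty.HasOfPostcompProperty.of_postcomp (W := @IsOpenImmersion)
        (W' := MorphismProperty.monomorphisms Scheme.{u}) ρ ϖ
        (MorphismProperty.monomorphisms.infer_property ϖ) ‹_›
    haveI : IsOpenImmersion (PL.homOfLE hle1 ≫ r) := by
      rw [← hρ]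
      infer_instance
    exact (MorphismProperty.cancel_left_of_respectsIso @IsOpenImmersion (PL.homOfLE hle1) r).mp
      inferInstance
  · intro hclosed
    haveI : IsClosedImmersion (ρ ≫ ϖ) := hcomp ▸ hclosed
    haveI : IsClosedImmersion ρ := IsClosedImmersion.of_comp ρ ϖ
    haveI : IsClosedImmersion (PL.homOfLE hle1 ≫ r) := by
      rw [← hρ]
      infer_instance
    exact (MorphismProperty.cancel_left_of_respectsIso @IsClosedImmersion (PL.homOfLE hle1)
      r).mp inferInstance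

end Groth.Agent.S12154
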