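import Groth.Statements.S12159
import Groth.Agent.Lib.Helper3.RLPsiInv
import Groth.Agent.Lib.Helper3.InvCoh

set_option autoImplicit false
universe u
open CategoryTheory CategoryTheory.Limits AlgebraicGeometry TopologicalSpace Opposite
open scoped HomogeneousIdeal
noncomputable section
open EGA2

namespace Groth.Agent.S12159

/-- Let Y be a quasi-compact scheme, q : X → Y a quasi-compact morphism, L an invertible O_X-module with
𝒮L = ⊕ L^{⊗n} (whose Proj is X), 𝒮 = colim 𝒮^i a filtered colimit of quasi-coherent positively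
graded O_Y-algebras along graded homomorphisms φ_i : 𝒮^i → 𝒮 (colimit taken on sections over affine
opens), ψ♭ = u : 𝒮 → q_*𝒮L a graded q-morphism and ψ_i♭ = u ∘ φ_i. Then r_{L,ψ} is everywhere
defined if and only if some r_{L,ψ_i} is everywhere defined, and in that case r_{L,ψ_j} is
everywhere defined for all j ≥ i. -/
theorem result {Y X P PL : Scheme.{u}} (q : X ⟶ Y)
    (L : X.Modules) (hL : PicF.IsInvertible L) (hLq : Coh.IsQCoh L)
    (𝒮 : RelProj.QCGrAlg Y) (𝒮L : RelProj.QCGrAlg X) (j : L ⟶ 𝒮L.toModule) (hj : RelProj.IsGrSymAlg L 𝒮L j)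
    (u : RelProj.QGrHom q 𝒮 𝒮L)
    (p : P ⟶ Y) (chart : ∀ (U : Y.Opens) (hU : IsAffineOpen U), (((p ⁻¹ᵁ U : P.Opens) : Scheme.{u}) ≅ Proj (𝒮.deg U hU)))
    (hP : RelProj.IsRelProj 𝒮 p chart)
    (pL : PL ⟶ X) (chartL : ∀ (U : X.Opens) (hU : IsAffineOpen U), (((pL ⁻¹ᵁ U : PL.Opens) : Scheme.{u}) ≅ Proj (𝒮L.deg U hU)))
    (hPL : RelProj.IsRelProj 𝒮L pL chartL)
    [CompactSpace Y] [QuasiCompact q]
    (Λ : Type u) [Preorder Λ] [IsDirected Λ (· ≤ ·)] [Nonempty Λ]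
    (𝒮i : Λ → RelProj.QCGrAlg Y) (φ : ∀ i, (𝒮i i).toQCAlg ⟶ 𝒮.toQCAlg) (hφ : ∀ i, RelProj.IsGradedHom (φ i))
    (t : ∀ i j, i ≤ j → ((𝒮i i).toQCAlg ⟶ (𝒮i j).toQCAlg)) (ht : ∀ i j (h : i ≤ j), RelProj.IsGradedHom (t i j h))
    (hφt : ∀ i j (h : i ≤ j), t i j h ≫ φ j = φ i)
    (hsurj : ∀ (U : Y.Opens), IsAffineOpen U → ∀ x : 𝒮.presheaf.obj (op U),
      ∃ (i : Λ) (y : (𝒮i i).presheaf.obj (op U)), ((φ i).hom.app (op U)).hom y = x)
    (hker : ∀ (U : Y.Opens), IsAffineOpen U → ∀ (i : Λ) (y : (𝒮i i).presheaf.obj (op U)),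
      ((φ i).hom.app (op U)).hom y = 0 → ∃ (j : Λ) (h : i ≤ j), ((t i j h).hom.app (op U)).hom y = 0)
    (ui : ∀ i, RelProj.QGrHom q (𝒮i i) 𝒮L) (hui : ∀ i (U : Y.Opens), (ui i).app U = (φ i).hom.app (op U) ≫ u.app U) :
    (RelProj.domQ u pL chartL = ⊤ ↔ ∃ i, RelProj.domQ (ui i) pL chartL = ⊤) ∧
      ∀ i, RelProj.domQ (ui i) pL chartL = ⊤ → ∀ j, i ≤ j → RelProj.domQ (ui j) pL chartL = ⊤ := by
  haveI : L.IsQuasicoherent := Groth.Agent.Lib.Helper3.InvCoh.isQuasicoherent_of_isInvertible hL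
  haveI := Groth.Agent.Lib.Helper3.SymInvProj.isIso_p hL hj pL chartL hPL
  have hmono : ∀ i, RelProj.domQ (ui i) pL chartL ≤ RelProj.domQ u pL chartL := fun i =>
    Groth.Agent.Lib.Helper3.RLPsi.domQ_le_of_comp u (ui i) (φ i) (hφ i) (hui i)
  have hmono2 : ∀ i j (h : i ≤ j),
      RelProj.domQ (ui i) pL chartL ≤ RelProj.domQ (ui j) pL chartL := by
    intro i j h
    refine Groth.Agent.Lib.Helper3.RLPsi.domQ_le_of_comp (ui j) (ui i) (t i j h) (ht i j h)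
      (fun U => ?_)
    rw [hui i U, hui j U, ← hφt i j h]
    rfl
  haveI : CompactSpace X := QuasiCompact.compactSpace_of_compactSpace q
  haveI : CompactSpace PL := QuasiCompact.compactSpace_of_compactSpace pL
  refine ⟨⟨fun htop => ?_, fun ⟨i, hi⟩ => top_le_iff.mp (hi ▸ hmono i)⟩,
    fun i hi j hij => top_le_iff.mp (hi ▸ hmono2 i j hij)⟩
  have hcov : ∀ x' : PL, ∃ i, x' ∈ RelProj.domQ (ui i) pL chartL := by
    intro x'
    have hx' : x' ∈ RelProj.domQ u pL chartL := by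
      rw [htop]
      trivial
    obtain ⟨U, hU, hxU⟩ := Groth.Agent.Lib.Helper3.ProjQMap.exists_affine_mem (q (pL x'))
    obtain ⟨U', hU', hxU', hle⟩ := Groth.Agent.Lib.Helper3.RLPsi.exists_affine_pair q _ U hxU
    obtain ⟨y, hy, d, hd, g, hg, hgy⟩ :=
      Groth.Agent.Lib.Helper3.RLPsi.loc_of_mem_domQ u hPL x' hx' U hU U' hU' hle hxU'
    obtain ⟨i, y₁, hy₁⟩ := hsurj U hU g
    have hτ : ((DirectSum.decompose ((𝒮i i).deg U hU) y₁ d : (𝒮i i).deg U hU d) :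
        (𝒮i i).presheaf.obj (op U)) ∈ (𝒮i i).deg U hU d := SetLike.coe_mem _
    have hφτ : ((φ i).hom.app (op U)).hom
        ((DirectSum.decompose ((𝒮i i).deg U hU) y₁ d : (𝒮i i).deg U hU d) :
          (𝒮i i).presheaf.obj (op U)) = g := by
      have h1 := GradedRingHom.map_directSumDecompose _ _
        (RelProj.gradedHomAt (φ i) (hφ i) U hU) (x := y₁) (i := d)
      have h2 : (RelProj.gradedHomAt (φ i) (hφ i) U hU) y₁ = g := hy₁
      rw [h2, DirectSum.decompose_of_mem_same (𝒮.deg U hU) hg] at h1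
      exact h1
    refine ⟨i, Groth.Agent.Lib.Helper3.RLPsi.mem_domQ_of_loc (ui i) x' U hU U' hU' hle
      ⟨y, hy, d, hd, _, hτ, ?_⟩⟩
    rw [Groth.Agent.Lib.Helper3.RLPsi.appLE_of_comp u (ui i) (φ i) (hui i) U U' hle _, hφτ]
    exact hgy
  choose i hi using hcov
  obtain ⟨T, hT⟩ := (isCompact_univ : IsCompact (Set.univ : Set PL)).elim_finite_subcover
    (fun x' => ((RelProj.domQ (ui (i x')) pL chartL : PL.Opens) : Set PL))
    (fun x' => (RelProj.domQ (ui (i x')) pL chartL).isOpen)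
    (fun x' _ => Set.mem_iUnion.mpr ⟨x', hi x'⟩)
  classical
  obtain ⟨i₀, hi₀⟩ := Finset.exists_le (T.image i)
  refine ⟨i₀, top_le_iff.mp (fun x' _ => ?_)⟩
  obtain ⟨x₁, hx₁T, hx₁⟩ := Set.mem_iUnion₂.mp (hT (Set.mem_univ x'))
  exact hmono2 (i x₁) i₀ (hi₀ _ (Finset.mem_image_of_mem i hx₁T)) hx₁

end Groth.Agent.S12159
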