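import Groth.Statements.S12163
import Mathlib

set_option autoImplicit false
universe u
open CategoryTheory CategoryTheory.Limits AlgebraicGeometry TopologicalSpace Opposite
open scoped HomogeneousIdeal
noncomputable section
open EGA2

namespace Groth.Agent.S12163

/-- Let φ : 𝒜 → ℬ be a graded homomorphism of quasi-coherent positively graded O_Y-algebras and PB =
Proj(ℬ) with its charts. If every point of Y has an affine neighbourhood U over which the irrelevant
ideal of ℬ(U) is contained in the ideal generated by φ(𝒜(U)_+), then the open of definition G(φ) of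
Proj(φ) is all of PB. (The published condition asks 𝒮_+ to be generated by the image as a module
over the functions on U; generation as an ideal, used here, is implied by it.) -/
theorem result {Y PB : Scheme.{u}} (𝒜 ℬ : RelProj.QCGrAlg Y)
    (φ : 𝒜.toQCAlg ⟶ ℬ.toQCAlg) (hφ : RelProj.IsGradedHom φ)
    (pB : PB ⟶ Y) (chartB : ∀ (U : Y.Opens) (hU : IsAffineOpen U), (((pB ⁻¹ᵁ U : PB.Opens) : Scheme.{u}) ≅ Proj (ℬ.deg U hU)))
    (hB : RelProj.IsRelProj ℬ pB chartB)
    (hcov : ∀ y : Y, ∃ (U : Y.Opens) (hU : IsAffineOpen U), y ∈ U ∧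
      (ℬ.deg U hU)₊ ≤ ((𝒜.deg U hU)₊).map (RelProj.gradedHomAt φ hφ U hU)) :
    RelProj.domQ (RelProj.QGrHom.ofHom φ hφ) pB chartB = ⊤ := by
  rw [eq_top_iff]
  intro x _
  obtain ⟨U, hU, hyU, hirr⟩ := hcov (pB.base x)
  have hle : U ≤ (𝟙 Y : Y ⟶ Y) ⁻¹ᵁ U := le_refl _
  have hx : x ∈ pB ⁻¹ᵁ U := hyU
  set z : Proj (ℬ.deg U hU) := (chartB U hU).hom.base ⟨x, hx⟩ with hz
  have hzx : (RelProj.emb pB chartB U hU).base z = x := by
    rw [hz]
    change (pB ⁻¹ᵁ U).ι ((chartB U hU).inv ((chartB U hU).hom (⟨x, hx⟩ : ((pB ⁻¹ᵁ U : PB.Opens) : Scheme.{u})))) = x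
    rw [Scheme.hom_inv_apply]
    rfl
  have hzdom : z ∈ RelCone.domOpen ((RelProj.QGrHom.ofHom φ hφ).gradedAt U hU U hU hle) := by
    rw [RelCone.mem_domOpen]
    by_contra hcon
    push Not at hcon
    apply z.not_irrelevant_le
    refine le_trans hirr ?_
    change Ideal.map _ _ ≤ _
    rw [Ideal.map_le_iff_le_comap]
    intro f hf
    have := hcon f hf
    rw [RelProj.QGrHom.gradedAt_apply] at this
    have e : ((RelProj.QGrHom.ofHom φ hφ).appLE U U hle).hom f = (φ.hom.app (op U)).hom f := by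
      change (ℬ.presheaf.map (𝟙 (op U))).hom ((φ.hom.app (op U)).hom f) = _
      rw [ℬ.presheaf.map_id]
      rfl
    rw [e] at this
    exact this
  refine TopologicalSpace.Opens.mem_iSup.mpr ⟨⟨(⟨U, hU⟩, ⟨U, hU⟩), hle⟩, ?_⟩
  exact ⟨z, hzdom, hzx⟩

end Groth.Agent.S12163
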