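import Groth.Statements.S12187
import Groth.Agent.Lib.Helper14.GluePair

set_option autoImplicit false
universe u
open TensorProduct
open EtAlg

namespace Groth.Agent.S12187

/-- Glueing along a glueing pair detects finite morphisms of affine schemes, stated for coordinate
rings. Let (R → R', f) be a glueing pair and φ : A → B a homomorphism of R-algebras with A and B
glueable as R-modules. Then φ is finite exactly when both induced maps A_f → B_f and R' ⊗_R A → R'
⊗_R B are finite. -/
theorem result (R : Type u) [CommRing R] (R' : Type u) [CommRing R'] [Algebra R R'] (f : R)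
    (hRR' : EtGlue.IsGlueingPair R R' f) (A B : Type u) [CommRing A] [Algebra R A] [CommRing B] [Algebra R B]
    (hA : EtGlue.IsGlueable R R' f A) (hB : EtGlue.IsGlueable R R' f B) (φ : A →ₐ[R] B) :
    φ.toRingHom.Finite ↔ (Localization.awayMap φ.toRingHom (algebraMap R A f)).Finite ∧
      (Algebra.TensorProduct.map (AlgHom.id R R') φ).toRingHom.Finite := by
  letI := φ.toRingHom.toAlgebra
  haveI : IsScalarTower R A B := IsScalarTower.of_algebraMap_eq' φ.comp_algebraMap.symm
  have hφ : IsScalarTower.toAlgHom R A B = φ := AlgHom.ext fun _ => rfl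
  constructor
  · intro h
    exact ⟨Groth.Agent.Lib.Helper14.GluePair.awayMap_of_isStableUnderBaseChange
        RingHom.finite_isStableUnderBaseChange _ _ h,
      Groth.Agent.Lib.Helper14.GluePair.tensorMap_of_isStableUnderBaseChange
        RingHom.finite_isStableUnderBaseChange RingHom.finite_respectsIso φ h⟩
  · rintro ⟨h1, h2⟩
    rw [← hφ] at h2
    exact Groth.Agent.Lib.Helper14.GluePair.ringHom_finite_of_local hRR'.1 h1 h2

end Groth.Agent.S12187
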