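import Groth.Statements.S12199
import Groth.Agent.Lib.Helper6.GrpLocus

set_option autoImplicit false
universe u
open CategoryTheory CategoryTheory.Limits AlgebraicGeometry MonoidalCategory MonObj
open AlgSp

namespace Groth.Agent.S12199

/-- Let B be an algebraic space over S and G a group algebraic space over B with unit section e : B → G,
and suppose G is locally of finite type over B. Under this assumption, G → B is unramified exactly
when it is unramified at e(b) for every point b of |B|, and G → B is locally quasi-finite exactly
when it is quasi-finite at e(b) for every point b of |B|. Here 'unramified (resp. quasi-finite) at a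
point' is the some-chart-diagram form: there are etale charts of G and B and a compatible morphism
of schemes which is unramified (resp. locally quasi-finite of finite type) on an open neighbourhood
of a point over e(b). -/
theorem result (S : Scheme.{u}) (B : AlgSp.Sp S) (hB : AlgSp.IsAlgSpace B)
    (G : Over B) [GrpObj G] (hG : AlgSp.IsAlgSpace G.left) (hlft : AlgSp.LocP @LocallyOfFiniteType G.hom) :
    (AlgSp.LocP (@LocallyOfFiniteType ⊓ @FormallyUnramified) G.hom ↔
        ∀ b : AlgSp.Points B, AlgSp.HasAtMor
          (fun U _ h u => ∃ W : U.Opens, u ∈ W ∧ LocallyOfFiniteType (W.ι ≫ h) ∧ FormallyUnramified (W.ι ≫ h))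
          G.hom (AlgSp.Points.map (η[G]).left b)) ∧
    (AlgSp.LocP (@LocallyQuasiFinite ⊓ @LocallyOfFiniteType) G.hom ↔
        ∀ b : AlgSp.Points B, AlgSp.HasAtMor
          (fun U _ h u => ∃ W : U.Opens, u ∈ W ∧ LocallyQuasiFinite (W.ι ≫ h) ∧ LocallyOfFiniteType (W.ι ≫ h))
          G.hom (AlgSp.Points.map (η[G]).left b)) := by
  have hU := Groth.Agent.Lib.Helper6.GrpLocus.locusData_urLocus (S := S)
  have hQ := Groth.Agent.Lib.Helper6.GrpLocus.locusData_qfLocus (S := S)
  constructor
  · rw [hU.locP_iff hG hB G.hom hlft]
    constructor
    · intro H b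
      exact H _
    · intro H x
      exact Groth.Agent.Lib.Helper6.GrpLocus.mem_of_unit G hU hB hG hlft x (H (AlgSp.Points.map G.hom x))
  · rw [hQ.locP_iff hG hB G.hom hlft]
    constructor
    · intro H b
      exact (Groth.Agent.Lib.Helper16.QfAt.mem_qfLocus_iff_hasAtMor_open G.hom hlft _).1 (H _)
    · intro H x
      exact Groth.Agent.Lib.Helper6.GrpLocus.mem_of_unit G hQ hB hG hlft x
        ((Groth.Agent.Lib.Helper16.QfAt.mem_qfLocus_iff_hasAtMor_open G.hom hlft _).2
          (H (AlgSp.Points.map G.hom x)))

end Groth.Agent.S12199
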