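import Groth.Statements.S12206
import Mathlib

set_option autoImplicit false
universe u
open CAlg

namespace Groth.Agent.S12206

theorem sub_coh {R : Type u} [CommRing R] {M : Type u} [AddCommGroup M] [Module R M]
    (hM : Module.Finite R M ∧ ∀ P : Submodule R M, P.FG → Module.FinitePresentation R P)
    (Q : Submodule R M) (hQ : Q.FG) :
    Module.Finite R Q ∧ ∀ P : Submodule R Q, P.FG → Module.FinitePresentation R P := by
  refine ⟨Module.Finite.iff_fg.mpr hQ, fun P hP => ?_⟩
  haveI : Module.FinitePresentation R (P.map Q.subtype) := hM.2 _ (hP.map _)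
  exact Module.FinitePresentation.of_equiv
    (Submodule.equivMapOfInjective Q.subtype Q.injective_subtype P).symm

theorem quot_coh {R : Type u} [CommRing R] {M : Type u} [AddCommGroup M] [Module R M]
    (hM : Module.Finite R M ∧ ∀ P : Submodule R M, P.FG → Module.FinitePresentation R P)
    (K : Submodule R M) (hK : K.FG) :
    Module.Finite R (M ⧸ K) ∧ ∀ P : Submodule R (M ⧸ K), P.FG → Module.FinitePresentation R P := by
  haveI := hM.1
  refine ⟨inferInstance, fun P hP => ?_⟩
  set P' : Submodule R M := P.comap K.mkQ with hP'
  have hKP' : K ≤ P' := by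
    intro x hx
    change K.mkQ x ∈ P
    have h0 : K.mkQ x = 0 := (Submodule.Quotient.mk_eq_zero K).mpr hx
    rw [h0]
    exact P.zero_mem
  have hP'fg : P'.FG := by
    apply Submodule.fg_of_fg_map_of_fg_inf_ker K.mkQ
    · rw [hP', Submodule.map_comap_eq_of_surjective (Submodule.mkQ_surjective K)]
      exact hP
    · rw [Submodule.ker_mkQ, inf_eq_right.mpr hKP']
      exact hK
  haveI : Module.FinitePresentation R P' := hM.2 _ hP'fg
  let l : P' →ₗ[R] P := (K.mkQ.domRestrict P').codRestrict P (fun x => x.2)
  have hl : Function.Surjective l := by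
    rintro ⟨y, hy⟩
    obtain ⟨x, rfl⟩ := Submodule.mkQ_surjective K y
    exact ⟨⟨x, hy⟩, rfl⟩
  have hker : (LinearMap.ker l).FG := by
    apply Submodule.fg_of_fg_map_injective P'.subtype P'.injective_subtype
    have : (LinearMap.ker l).map P'.subtype = K := by
      ext x
      constructor
      · rintro ⟨⟨y, hy⟩, hyk, rfl⟩
        have : K.mkQ y = 0 := congrArg Subtype.val (LinearMap.mem_ker.mp hyk)
        exact (Submodule.Quotient.mk_eq_zero K).mp this
      · intro hx
        refine ⟨⟨x, hKP' hx⟩, ?_, rfl⟩
        change l ⟨x, hKP' hx⟩ = 0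
        apply Subtype.ext
        exact (Submodule.Quotient.mk_eq_zero K).mpr hx
    rw [this]
    exact hK
  exact Module.finitePresentation_of_surjective l hl hker

/-- Let φ : N → M be a linear map from a finite R-module N to a coherent R-module M, where coherent
means finitely generated with every finitely generated submodule finitely presented. Then the kernel
of φ is finitely generated, and the image of φ and the cokernel M/φ(N) are coherent. -/
theorem result (R : Type u) [CommRing R] {N M : Type u}
    [AddCommGroup N] [Module R N] [AddCommGroup M] [Module R M] [Module.Finite R N]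
    (hM : Module.Finite R M ∧ ∀ P : Submodule R M, P.FG → Module.FinitePresentation R P)
    (φ : N →ₗ[R] M) :
    (LinearMap.ker φ).FG ∧
    (Module.Finite R (LinearMap.range φ) ∧
      ∀ P : Submodule R (LinearMap.range φ), P.FG → Module.FinitePresentation R P) ∧
    (Module.Finite R (M ⧸ LinearMap.range φ) ∧
      ∀ P : Submodule R (M ⧸ LinearMap.range φ), P.FG → Module.FinitePresentation R P) := by
  haveI := hM.1
  have hfg : (LinearMap.range φ).FG := by
    rw [← Submodule.map_top]
    exact Module.Finite.fg_top.map φ
  refine ⟨?_, sub_coh hM _ hfg, quot_coh hM _ hfg⟩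
  haveI : Module.FinitePresentation R (LinearMap.range φ) := hM.2 _ hfg
  have := Module.FinitePresentation.fg_ker φ.rangeRestrict φ.surjective_rangeRestrict
  rwa [LinearMap.ker_rangeRestrict] at this

end Groth.Agent.S12206
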