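import Groth.Statements.S12208
import Mathlib.RingTheory.NoetherNormalization
import Batteries.Tactic.OpenPrivate
import Groth.Agent.Lib.Helper12.IntegralDim

set_option autoImplicit false
universe u

open private NoetherNormalization.hom2 NoetherNormalization.hom2_isIntegral NoetherNormalization.eqv1 NoetherNormalization.eqv2 NoetherNormalization.hom1 NoetherNormalization.T from Mathlib.RingTheory.NoetherNormalization

namespace Groth.Agent.S12208

open MvPolynomial NoetherNormalization

lemma fse_rename {k : Type*} [CommRing k] {n : ℕ} (p : MvPolynomial (Fin n) k) :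
    (MvPolynomial.finSuccEquiv k n).symm (Polynomial.C p) = (rename Fin.succ) p := by
  rw [AlgEquiv.symm_apply_eq]
  induction p using MvPolynomial.induction_on with
  | C a => simp [finSuccEquiv_apply]
  | add p q hp hq => rw [map_add, map_add, map_add, hp, hq]
  | mul_X p i hp => rw [map_mul, map_mul, map_mul, hp, rename_X, finSuccEquiv_X_succ]

lemma hom2_apply {k : Type*} [Field k] {n : ℕ} (f : MvPolynomial (Fin (n + 1)) k)
    (I : Ideal (MvPolynomial (Fin (n + 1)) k)) (p : MvPolynomial (Fin n) k) :
    NoetherNormalization.hom2 f I p = Ideal.Quotient.mk I (T1 f (-1) (rename Fin.succ p)) := by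
  unfold NoetherNormalization.hom2
  simp only [AlgHom.comp_apply, AlgHom.restrictScalars_apply, AlgEquiv.coe_toAlgHom,
    Ideal.Quotient.mkₐ_eq_mk, Algebra.ofId_apply, Polynomial.algebraMap_apply,
    Algebra.algebraMap_self, RingHom.id_apply]
  unfold NoetherNormalization.eqv1 NoetherNormalization.eqv2
  rw [Ideal.quotientEquivAlg_mk, Ideal.quotientEquivAlg_mk, fse_rename]
  rfl

/-- the subring of polynomials with integer coefficients -/
noncomputable abbrev ZZ (k : Type u) [Field k] (n : ℕ) : Subring (MvPolynomial (Fin n) k) :=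
  (MvPolynomial.map (Int.castRingHom k) : MvPolynomial (Fin n) ℤ →+* MvPolynomial (Fin n) k).range

lemma X_mem_ZZ (k : Type u) [Field k] (n : ℕ) (i : Fin n) : (X i : MvPolynomial (Fin n) k) ∈ ZZ k n :=
  ⟨X i, by simp⟩

lemma psi_mem {k : Type u} [Field k] {n : ℕ} (f : MvPolynomial (Fin (n + 1)) k)
    (p : MvPolynomial (Fin n) k) (hp : p ∈ ZZ k n) :
    T1 f (-1) (rename Fin.succ p) ∈ ZZ k (n + 1) := by
  obtain ⟨p0, rfl⟩ := hp
  induction p0 using MvPolynomial.induction_on with
  | C a =>
    refine ⟨C a, ?_⟩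
    simp
  | add p q hp hq =>
    rw [map_add, map_add, map_add]
    exact add_mem hp hq
  | mul_X p i hp =>
    rw [map_mul, map_mul, map_mul]
    refine mul_mem hp ?_
    rw [map_X, rename_X, aeval_X, if_neg (Fin.succ_ne_zero i), neg_smul, one_smul]
    exact add_mem (X_mem_ZZ k _ _) (neg_mem (pow_mem (X_mem_ZZ k _ _) _))

theorem main (k : Type u) [Field k] : ∀ (n : ℕ) (I : Ideal (MvPolynomial (Fin n) k)), I ≠ ⊤ →
    ∃ (s : ℕ) (y : Fin s → MvPolynomial (Fin n) k), (∀ i, y i ∈ ZZ k n) ∧
      Function.Injective ((Ideal.Quotient.mkₐ k I).comp (aeval y)) ∧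
      ((Ideal.Quotient.mkₐ k I).comp (aeval y)).IsIntegral := by
  intro n
  induction n with
  | zero =>
    intro I hI
    obtain ⟨s, hs, g, hg, hg'⟩ := exists_integral_inj_algHom_of_quotient I hI
    obtain rfl : s = 0 := by omega
    refine ⟨0, Fin.elim0, fun i => i.elim0, ?_⟩
    have : g = (Ideal.Quotient.mkₐ k I).comp (aeval Fin.elim0) :=
      MvPolynomial.algHom_ext fun i => i.elim0
    rw [← this]
    exact ⟨hg, hg'⟩
  | succ d hd =>
    intro I hI
    by_cases eqi : I = ⊥
    · refine ⟨d + 1, X, X_mem_ZZ k _, ?_⟩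
      have h1 : (aeval X : MvPolynomial (Fin (d + 1)) k →ₐ[k] _) = AlgHom.id _ _ :=
        MvPolynomial.algHom_ext fun i => by simp
      rw [h1, AlgHom.comp_id]
      have bij : Function.Bijective (Ideal.Quotient.mkₐ k I) :=
        (Ideal.Quotient.mk_bijective_iff_eq_bot I).mpr eqi
      exact ⟨bij.1, RingHom.isIntegral_of_surjective _ bij.2⟩
    · obtain ⟨f, fi, fne⟩ := Submodule.exists_mem_ne_zero_of_ne_bot eqi
      have := Ideal.Quotient.nontrivial_iff.mpr hI
      obtain ⟨s, y', hy'Z, injg, intg⟩ := hd (RingHom.ker <| NoetherNormalization.hom2 f I)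
        (RingHom.ker_ne_top <| NoetherNormalization.hom2 f I)
      refine ⟨s, fun i => T1 f (-1) (rename Fin.succ (y' i)), fun i => psi_mem f _ (hy'Z i), ?_⟩
      have comp : (Ideal.kerLiftAlg (NoetherNormalization.hom2 f I)).comp
          (Ideal.Quotient.mkₐ k <| RingHom.ker <| NoetherNormalization.hom2 f I) =
          (NoetherNormalization.hom2 f I) :=
        AlgHom.ext fun a ↦ by
          simp only [AlgHom.coe_comp, Ideal.Quotient.mkₐ_eq_mk, Function.comp_apply,
            Ideal.kerLiftAlg_mk]
      have key : (Ideal.Quotient.mkₐ k I).comp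
          (aeval fun i => T1 f (-1) (rename Fin.succ (y' i))) =
          (Ideal.kerLiftAlg (NoetherNormalization.hom2 f I)).comp
            ((Ideal.Quotient.mkₐ k (RingHom.ker <| NoetherNormalization.hom2 f I)).comp
              (aeval y')) := by
        refine MvPolynomial.algHom_ext fun i => ?_
        simp only [AlgHom.comp_apply, aeval_X, Ideal.Quotient.mkₐ_eq_mk, Ideal.kerLiftAlg_mk]
        rw [hom2_apply]
      rw [key]
      refine ⟨?_, ?_⟩
      · rw [AlgHom.coe_comp]
        exact (Ideal.kerLiftAlg_injective _).comp injg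
      · exact RingHom.IsIntegral.trans _ _ intg
          ((comp ▸ NoetherNormalization.hom2_isIntegral f I fne fi).tower_top _ _)

/-- Let k be a field and S = k[x_1, …, x_n]/I with I a proper ideal. Then there exist r ≥ 0 and elements
y_1, …, y_r of k[x_1, …, x_n] lying in the subring generated by x_1, …, x_n (polynomials with
integer coefficients) such that the k-algebra map from the polynomial ring k[t_1, …, t_r] to S
sending t_i to the class of y_i is injective and finite; and for any r ≥ 0 and any y_1, …, y_r in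
k[x_1, …, x_n] (with or without the integer-coefficient condition) for which that map is injective
and finite, r is the Krull dimension of S. -/
theorem result (k : Type u) [Field k] (n : ℕ) (I : Ideal (MvPolynomial (Fin n) k))
    (hI : I ≠ ⊤) :
    (∃ (r : ℕ) (y : Fin r → MvPolynomial (Fin n) k),
      (∀ i, y i ∈ Set.range (MvPolynomial.map (Int.castRingHom k) : MvPolynomial (Fin n) ℤ → MvPolynomial (Fin n) k)) ∧
      Function.Injective ((Ideal.Quotient.mkₐ k I).comp (MvPolynomial.aeval y)) ∧
      ((Ideal.Quotient.mkₐ k I).comp (MvPolynomial.aeval y)).toRingHom.Finite) ∧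
    ∀ (r : ℕ) (y : Fin r → MvPolynomial (Fin n) k),
      Function.Injective ((Ideal.Quotient.mkₐ k I).comp (MvPolynomial.aeval y)) →
      ((Ideal.Quotient.mkₐ k I).comp (MvPolynomial.aeval y)).toRingHom.Finite →
      ringKrullDim (MvPolynomial (Fin n) k ⧸ I) = r := by
  refine ⟨?_, ?_⟩
  · obtain ⟨s, y, hyZ, hinj, hint⟩ := main k n I hI
    refine ⟨s, y, fun i => hyZ i, hinj, ?_⟩
    set g := (Ideal.Quotient.mkₐ k I).comp (MvPolynomial.aeval y) with hg
    have h : algebraMap k (MvPolynomial (Fin n) k ⧸ I) =
        g.toRingHom.comp (algebraMap k (MvPolynomial (Fin s) k)) := by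
      ext a
      simp
    have fin : Algebra.FiniteType k (MvPolynomial (Fin n) k ⧸ I) := inferInstance
    exact hint.to_finite
      (h ▸ RingHom.finiteType_algebraMap.mpr fin).of_comp_finiteType
  · intro r y hinj hfin
    set g := (Ideal.Quotient.mkₐ k I).comp (MvPolynomial.aeval y) with hg
    letI : Algebra (MvPolynomial (Fin r) k) (MvPolynomial (Fin n) k ⧸ I) := g.toRingHom.toAlgebra
    haveI : Algebra.IsIntegral (MvPolynomial (Fin r) k) (MvPolynomial (Fin n) k ⧸ I) :=
      ⟨hfin.to_isIntegral⟩
    have h1 := Groth.Agent.Lib.Helper12.ringKrullDim_le_of_isIntegral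
      (R := MvPolynomial (Fin r) k) (S := MvPolynomial (Fin n) k ⧸ I)
    have h2 := Groth.Agent.Lib.Helper12.ringKrullDim_le_of_isIntegral_of_injective
      (R := MvPolynomial (Fin r) k) (S := MvPolynomial (Fin n) k ⧸ I) hinj
    rw [← Groth.Agent.Lib.Helper12.ringKrullDim_mvPolynomial_field k r]
    exact le_antisymm h1 h2

end Groth.Agent.S12208
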