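import Groth.Statements.S12209
import Mathlib

set_option autoImplicit false
universe u
open CAlg

namespace Groth.Agent.S12209

/-- Let (R_i) be a system of commutative rings over a nonempty directed preorder, with colimit R, and
let M be an R-module which is flat as an R_i-module for every i (the R_i-module structure being
restriction of scalars along R_i → R). Then M is flat as an R-module. -/
theorem result {ι : Type u} [Preorder ι] [Nonempty ι] [IsDirectedOrder ι]
    (G : ι → Type u) [∀ i, CommRing (G i)] (f : ∀ i j, i ≤ j → G i →+* G j)
    [DirectedSystem G fun i j h => f i j h]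
    (M : Type u) [AddCommGroup M] [Module (Ring.DirectLimit G fun i j h => f i j h) M]
    (hflat : ∀ i, letI : Module (G i) M := Module.compHom M (Ring.DirectLimit.of G (fun i j h => f i j h) i);
      Module.Flat (G i) M) :
    Module.Flat (Ring.DirectLimit G fun i j h => f i j h) M := by
  classical
  apply Module.Flat.of_forall_isTrivialRelation
  intro l r x hrx
  have hex : ∀ i : Fin l, ∃ (k : ι) (g : G k), Ring.DirectLimit.of G (fun i j h => f i j h) k g = r i :=
    fun i => Ring.DirectLimit.exists_of (r i)
  choose k g hg using hex
  obtain ⟨j, hj⟩ := Finset.exists_le (Finset.univ.image k)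
  have hkj : ∀ i, k i ≤ j := fun i => hj _ (Finset.mem_image_of_mem k (Finset.mem_univ i))
  set g' : Fin l → G j := fun i => f (k i) j (hkj i) (g i) with hg'
  have hg'r : ∀ i, Ring.DirectLimit.of G (fun i j h => f i j h) j (g' i) = r i := by
    intro i
    rw [hg', Ring.DirectLimit.of_f, hg]
  letI : Module (G j) M := Module.compHom M (Ring.DirectLimit.of G (fun i j h => f i j h) j)
  have hfl : Module.Flat (G j) M := hflat j
  have hsmul : ∀ (c : G j) (m : M), c • m = Ring.DirectLimit.of G (fun i j h => f i j h) j c • m :=
    fun c m => rfl
  have h0 : ∑ i, g' i • x i = 0 := by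
    simp only [hsmul, hg'r]
    exact hrx
  obtain ⟨n, a, y, hxy, hay⟩ := hfl.isTrivialRelation_of_sum_smul_eq_zero h0
  refine ⟨n, fun i t => Ring.DirectLimit.of G (fun i j h => f i j h) j (a i t), y, ?_, ?_⟩
  · intro i
    rw [hxy i]
    rfl
  · intro t
    have := congrArg (Ring.DirectLimit.of G (fun i j h => f i j h) j) (hay t)
    rw [map_sum, map_zero] at this
    simp only [map_mul, hg'r] at this
    exact this

end Groth.Agent.S12209
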