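import Groth.Statements.S12211
-- import your own Groth.Agent.* helpers here
import Mathlib
import Groth.Agent.Lib.Helper22.Samuel9

set_option autoImplicit false
universe u
open IntMult

namespace Groth.Agent.S12211

/-- Suppose A is a local Noetherian ring and I ⊆ A is an ideal of definition. Given a short exact
sequence 0 → M' → M → M'' → 0 of finite A-modules and a number d with dim Supp(M) ≤ d, we have
e_I(M, d) = e_I(M', d) + e_I(M'', d), where e_I(N, d) denotes the limit as t → ∞ of d! ·
length_A(N/I^t N)/t^d. Concretely: whenever these limits for M' and M'' exist and equal e' and e'',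
the corresponding limit for M exists and equals e' + e''. -/
theorem result (A : Type u) [CommRing A] [IsNoetherianRing A] [IsLocalRing A]
    (I : Ideal A) (hI : I ≤ IsLocalRing.maximalIdeal A ∧ ∃ n : ℕ, IsLocalRing.maximalIdeal A ^ n ≤ I)
    {M' M M'' : Type u} [AddCommGroup M'] [Module A M'] [AddCommGroup M] [Module A M]
    [AddCommGroup M''] [Module A M''] [Module.Finite A M'] [Module.Finite A M] [Module.Finite A M'']
    (f : M' →ₗ[A] M) (g : M →ₗ[A] M'') (hf : Function.Injective f) (hg : Function.Surjective g)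
    (hfg : LinearMap.range f = LinearMap.ker g)
    (d : ℕ) (hd : Module.supportDim A M ≤ d) (e' e'' : ℝ)
    (h' : Filter.Tendsto (fun t : ℕ => (d.factorial : ℝ) * ((Module.length A (M' ⧸ (I ^ t • (⊤ : Submodule A M')))).toNat : ℝ) / (t : ℝ) ^ d) Filter.atTop (nhds e'))
    (h'' : Filter.Tendsto (fun t : ℕ => (d.factorial : ℝ) * ((Module.length A (M'' ⧸ (I ^ t • (⊤ : Submodule A M'')))).toNat : ℝ) / (t : ℝ) ^ d) Filter.atTop (nhds e'')) :
    Filter.Tendsto (fun t : ℕ => (d.factorial : ℝ) * ((Module.length A (M ⧸ (I ^ t • (⊤ : Submodule A M)))).toNat : ℝ) / (t : ℝ) ^ d) Filter.atTop (nhds (e' + e'')) := by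
  haveI := Groth.Agent.Lib.Helper22.Samuel.isArtinianRing_quotient_of_local I hI
  obtain ⟨k, hk⟩ := Groth.Agent.Lib.Helper22.Samuel.exists_chi_defect I f g hf hg hfg
  have hd' : Module.supportDim A M' ≤ (d : WithBot ℕ∞) :=
    (Module.supportDim_le_of_injective f hf).trans hd
  have hev := Groth.Agent.Lib.Helper22.Samuel.evPoly_chi_of_le I M' hd'
  have hgz := Groth.Agent.Lib.Helper22.Samuel.tendsto_div_pow_of_evPoly (hev.sub_shift k)
  have hδ : Filter.Tendsto (fun n : ℕ =>
      ((Groth.Agent.Lib.Helper22.Samuel.chi I M' n + Groth.Agent.Lib.Helper22.Samuel.chi I M'' n -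
        Groth.Agent.Lib.Helper22.Samuel.chi I M n : ℤ) : ℝ) / (n : ℝ) ^ d) Filter.atTop (nhds 0) := by
    refine tendsto_of_tendsto_of_tendsto_of_le_of_le' tendsto_const_nhds hgz ?_ ?_
    · filter_upwards [Filter.eventually_ge_atTop k] with n hn
      have h0 := (hk n hn).1
      have : (0 : ℝ) ≤ ((Groth.Agent.Lib.Helper22.Samuel.chi I M' n +
          Groth.Agent.Lib.Helper22.Samuel.chi I M'' n -
          Groth.Agent.Lib.Helper22.Samuel.chi I M n : ℤ) : ℝ) := by exact_mod_cast h0
      positivity
    · filter_upwards [Filter.eventually_ge_atTop k] with n hn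
      have h1 := (hk n hn).2
      have : ((Groth.Agent.Lib.Helper22.Samuel.chi I M' n +
          Groth.Agent.Lib.Helper22.Samuel.chi I M'' n -
          Groth.Agent.Lib.Helper22.Samuel.chi I M n : ℤ) : ℝ) ≤
          ((Groth.Agent.Lib.Helper22.Samuel.chi I M' n -
            Groth.Agent.Lib.Helper22.Samuel.chi I M' (n - k) : ℤ) : ℝ) := by exact_mod_cast h1
      exact div_le_div_of_nonneg_right this (by positivity)
  have hcomb := (h'.add h'').sub (hδ.const_mul (d.factorial : ℝ))
  rw [mul_zero, sub_zero] at hcomb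
  refine hcomb.congr (fun n => ?_)
  simp only [Groth.Agent.Lib.Helper22.Samuel.chi]
  push_cast
  ring

end Groth.Agent.S12211
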