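-- S12216 (lead)
import Groth.Statements.S12216
import Groth.Agent.S0199
import Groth.Agent.Lib.Lead.Split
import Mathlib.FieldTheory.IsAlgClosed.AlgebraicClosure

set_option autoImplicit false
set_option linter.style.haveILetI false
universe u v w
open scoped TensorProduct
open Curves

namespace Groth.Agent.S12216

/-- (1) ⇔ (3): a K-algebra A is finite central simple over the field K (finite-dimensional, with centre
K and no non-trivial two-sided ideals) if and only if, for an algebraic closure K̄ of K, the
K̄-algebra K̄ ⊗_K A is isomorphic to a matrix algebra Mat(d × d, K̄) for some d ≥ 1. -/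
theorem result (K : Type u) [Field K] (A : Type v) [Ring A] [Algebra K A] :
    (Algebra.IsCentral K A ∧ IsSimpleRing A ∧ FiniteDimensional K A) ↔
      Curves.Splits K A (AlgebraicClosure K) := by
  constructor
  · rintro ⟨hc, hs, hf⟩
    obtain ⟨k', _, _, hfin, hsep, hsplit⟩ := Groth.Agent.S0199.result K A
    haveI := hfin
    let f : k' →ₐ[K] AlgebraicClosure K := IsAlgClosed.lift
    letI : Algebra k' (AlgebraicClosure K) := f.toRingHom.toAlgebra
    haveI : IsScalarTower K k' (AlgebraicClosure K) :=
      IsScalarTower.of_algebraMap_eq (fun x => (f.commutes x).symm)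
    exact Groth.Agent.Lib.Lead.Split.splits_of_tower hsplit
  · exact Groth.Agent.Lib.Lead.Split.csa_of_splits

end Groth.Agent.S12216
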