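import Groth.Statements.S12223
import Mathlib
import Groth.Agent.Lib.Helper13.ExtAdj
import Groth.Agent.Lib.Helper13.FlatPullback

set_option autoImplicit false
open CategoryTheory CategoryTheory.Limits AlgebraicGeometry Opposite
universe u
open BigSite

namespace Groth.Agent.S12223


open Groth.Agent.Lib.Helper13

set_option backward.isDefEq.respectTransparency.types false

section helpers
variable (X : Scheme.{u})

lemma zarIncl_obj_hom (U : X.Opens) : ((BigSite.zarIncl X).obj U).hom = U.ι := rfl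

lemma zarIncl_map_left {U V : X.Opens} (h : U ⟶ V) :
    ((BigSite.zarIncl X).map h).left = X.homOfLE h.le := rfl

lemma zarIncl_obj (U : X.Opens) : (BigSite.zarIncl X).obj U = Over.mk U.ι := rfl

/-- the unique map from an `X`-scheme whose image lies in `U` -/
noncomputable def toOpen' (d : Over X) (U : X.Opens) (h : Set.range d.hom ⊆ (U : Set X)) :
    d ⟶ Over.mk U.ι :=
  Over.homMk (IsOpenImmersion.lift U.ι d.hom (by rw [Scheme.Opens.range_ι]; exact h))
    (IsOpenImmersion.lift_fac _ _ _)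

noncomputable def toOpen (d : Over X) (U : X.Opens) (h : Set.range d.hom ⊆ (U : Set X)) :
    d ⟶ (BigSite.zarIncl X).obj U := toOpen' X d U h

lemma hom_ext' (d : Over X) (U : X.Opens) (a b : d ⟶ Over.mk U.ι) : a = b := by
  ext
  have ha : a.left ≫ U.ι = d.hom := Over.w a
  have hb : b.left ≫ U.ι = d.hom := Over.w b
  exact (cancel_mono U.ι).mp (ha.trans hb.symm)

lemma hom_zarIncl_ext (d : Over X) (U : X.Opens) (a b : d ⟶ (BigSite.zarIncl X).obj U) : a = b :=
  hom_ext' X d U a b

lemma range_subset_of_hom' (d : Over X) (U : X.Opens) (a : d ⟶ Over.mk U.ι) :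
    Set.range d.hom ⊆ (U : Set X) := by
  have hw : a.left ≫ U.ι = d.hom := Over.w a
  rw [← hw]
  rintro _ ⟨y, rfl⟩
  have h1 : (a.left ≫ U.ι) y = U.ι (a.left y) := by simp
  rw [h1]
  exact (a.left y).2

lemma range_subset_of_hom (d : Over X) (U : X.Opens) (a : d ⟶ (BigSite.zarIncl X).obj U) :
    Set.range d.hom ⊆ (U : Set X) := range_subset_of_hom' X d U a

instance flat_zarIncl : RepresentablyFlat (BigSite.zarIncl X) := by
  refine ⟨fun d => ?_⟩
  have hthin : ∀ (A B : StructuredArrow d (BigSite.zarIncl X)) (f g : A ⟶ B), f = g := by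
    intro A B f g
    apply StructuredArrow.hom_ext
    exact Subsingleton.elim _ _
  haveI : Nonempty (StructuredArrow d (BigSite.zarIncl X)) :=
    ⟨StructuredArrow.mk (toOpen X d ⊤ (by simp))⟩
  haveI : IsCofilteredOrEmpty (StructuredArrow d (BigSite.zarIncl X)) := by
    refine ⟨fun A B => ?_, fun A B f g => ⟨A, 𝟙 A, by rw [hthin A B f g]⟩⟩
    have hA := range_subset_of_hom X d A.right A.hom
    have hB := range_subset_of_hom X d B.right B.hom
    exact ⟨StructuredArrow.mk (toOpen X d (A.right ⊓ B.right) (fun x hx => ⟨hA hx, hB hx⟩)),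
      StructuredArrow.homMk (homOfLE inf_le_left) (hom_zarIncl_ext X d _ _ _),
      StructuredArrow.homMk (homOfLE inf_le_right) (hom_zarIncl_ext X d _ _ _), trivial⟩
  exact {}

lemma cocont_core (U : X.Opens) (S : Sieve (Over.mk U.ι))
    (hS : Sieve.overEquiv (Over.mk U.ι) S ∈ Scheme.zariskiTopology (U : Scheme.{u}))
    (x : X) (hx : x ∈ U) :
    ∃ (V : X.Opens) (hVU : V ≤ U),
      S.arrows (Over.homMk (X.homOfLE hVU) (X.homOfLE_ι hVU) : Over.mk V.ι ⟶ Over.mk U.ι) ∧
        x ∈ V := by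
  obtain ⟨𝒰, h𝒰⟩ := (Scheme.mem_grothendieckTopology_iff (P := @IsOpenImmersion)).mp hS
  obtain ⟨i, y, hy⟩ := 𝒰.exists_eq (⟨x, hx⟩ : (U : Scheme.{u}))
  haveI : IsOpenImmersion (𝒰.f i) := 𝒰.map_prop i
  have hVU : (𝒰.f i ≫ U.ι).opensRange ≤ U := by
    rintro _ ⟨z, rfl⟩
    have h1 : (𝒰.f i ≫ U.ι) z = U.ι ((𝒰.f i) z) := by simp
    rw [h1]
    exact ((𝒰.f i) z).2
  have hxV : x ∈ (𝒰.f i ≫ U.ι).opensRange := by
    refine ⟨y, ?_⟩
    have h1 : (𝒰.f i ≫ U.ι) y = U.ι ((𝒰.f i) y) := by simp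
    rw [h1, hy]
    rfl
  refine ⟨(𝒰.f i ≫ U.ι).opensRange, hVU, ?_, hxV⟩
  have hr : Set.range (𝒰.f i ≫ U.ι).opensRange.ι ⊆ Set.range (𝒰.f i ≫ U.ι) := by
    rw [Scheme.Opens.range_ι]
    rfl
  have hmem : S.arrows (Over.homMk (𝒰.f i) : Over.mk (𝒰.f i ≫ (Over.mk U.ι).hom) ⟶
      Over.mk U.ι) :=
    (Sieve.overEquiv_iff _ _).mp (h𝒰 _ _ (Presieve.ofArrows.mk i))
  have hfac : IsOpenImmersion.lift (𝒰.f i ≫ U.ι) (𝒰.f i ≫ U.ι).opensRange.ι hr ≫ 𝒰.f i ≫ U.ι =
      (𝒰.f i ≫ U.ι).opensRange.ι := IsOpenImmersion.lift_fac _ _ _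
  have heq : (Over.homMk (X.homOfLE hVU) (X.homOfLE_ι hVU) :
      Over.mk (𝒰.f i ≫ U.ι).opensRange.ι ⟶ Over.mk U.ι) =
      (Over.homMk (IsOpenImmersion.lift (𝒰.f i ≫ U.ι) (𝒰.f i ≫ U.ι).opensRange.ι hr) hfac :
        Over.mk (𝒰.f i ≫ U.ι).opensRange.ι ⟶
          Over.mk (𝒰.f i ≫ (Over.mk U.ι).hom)) ≫
        (Over.homMk (𝒰.f i) : Over.mk (𝒰.f i ≫ (Over.mk U.ι).hom) ⟶ Over.mk U.ι) := by
    ext
    refine (cancel_mono U.ι).mp ?_
    show X.homOfLE hVU ≫ U.ι = (IsOpenImmersion.lift (𝒰.f i ≫ U.ι)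
      (𝒰.f i ≫ U.ι).opensRange.ι hr ≫ 𝒰.f i) ≫ U.ι
    rw [Scheme.homOfLE_ι, Category.assoc]
    exact hfac.symm
  rw [heq]
  exact S.downward_closed hmem _

instance cocont_zarIncl : (BigSite.zarIncl X).IsCocontinuous (Opens.grothendieckTopology X)
    (QuotSh.J Scheme.zariskiPrecoverage X) := by
  refine ⟨fun {U S} hS => ?_⟩
  intro x hx
  obtain ⟨V, hVU, hSV, hxV⟩ := cocont_core X U S hS x hx
  exact ⟨V, homOfLE hVU, hSV, hxV⟩

instance piZarPull_pfl [BigSite.ZarCont Scheme.zariskiPrecoverage X] :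
    PreservesFiniteLimits (BigSite.piZarPull Scheme.zariskiPrecoverage X) := by
  have h2 : PreservesFiniteLimits ((BigSite.zarIncl X).op.lan :
      (X.Opensᵒᵖ ⥤ AddCommGrpCat.{u + 1}) ⥤ (Over X)ᵒᵖ ⥤ AddCommGrpCat.{u + 1}) :=
    FlatPullback.lan_preservesFiniteLimits_of_flat' AddCommGrpCat.{u + 1} (BigSite.zarIncl X)
      (fun _ _ => by
        have : PreservesFilteredColimitsOfSize.{u, u} (forget AddCommGrpCat.{u + 1}) :=
          preservesFilteredColimitsOfSize_of_univLE.{u + 1, u + 1, u, u} _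
        infer_instance)
  exact Functor.sheafPullbackConstruction.preservesFiniteLimits (BigSite.zarIncl X)
    AddCommGrpCat.{u + 1} (Opens.grothendieckTopology X) (QuotSh.J Scheme.zariskiPrecoverage X)

instance resZar_pfc [BigSite.ZarCont Scheme.zariskiPrecoverage X] :
    PreservesFiniteColimits (BigSite.resZar Scheme.zariskiPrecoverage X) := by
  have : PreservesColimits (BigSite.resZar Scheme.zariskiPrecoverage X) :=
    ((BigSite.zarIncl X).sheafAdjunctionCocontinuous AddCommGrpCat.{u + 1}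
      (Opens.grothendieckTopology X)
      (QuotSh.J Scheme.zariskiPrecoverage X)).leftAdjoint_preservesColimits
  infer_instance

instance resZar_pfl [BigSite.ZarCont Scheme.zariskiPrecoverage X] :
    PreservesFiniteLimits (BigSite.resZar Scheme.zariskiPrecoverage X) := by
  have : PreservesLimits (BigSite.resZar Scheme.zariskiPrecoverage X) :=
    (BigSite.piZarAdj Scheme.zariskiPrecoverage X).rightAdjoint_preservesLimits
  infer_instance

lemma isTerminal_zarIncl_top : Nonempty (IsTerminal ((BigSite.zarIncl X).obj ⊤)) := by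
  have e : Over.mk (⊤ : X.Opens).ι ≅ Over.mk (𝟙 X) :=
    Over.isoMk X.topIso (Category.comp_id _)
  exact ⟨IsTerminal.ofIso Over.mkIdTerminal e.symm⟩

lemma nonempty_constIso [BigSite.ZarCont Scheme.zariskiPrecoverage X] :
    Nonempty ((BigSite.piZarPull Scheme.zariskiPrecoverage X).obj
      ((constantSheaf (Opens.grothendieckTopology X) AddCommGrpCat.{u + 1}).obj
        (AddCommGrpCat.of (ULift ℤ))) ≅
      (constantSheaf (QuotSh.J Scheme.zariskiPrecoverage X) AddCommGrpCat.{u + 1}).obj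
        (AddCommGrpCat.of (ULift ℤ))) := by
  obtain ⟨hTb⟩ := isTerminal_zarIncl_top X
  have hTs : IsTerminal (⊤ : X.Opens) := isTerminalTop
  let adj1 := (constantSheafAdj (Opens.grothendieckTopology X) AddCommGrpCat.{u + 1} hTs).comp
    (BigSite.piZarAdj Scheme.zariskiPrecoverage X)
  let adj2 := constantSheafAdj (QuotSh.J Scheme.zariskiPrecoverage X) AddCommGrpCat.{u + 1} hTb
  let e : BigSite.resZar Scheme.zariskiPrecoverage X ⋙
      (sheafSections (Opens.grothendieckTopology X) AddCommGrpCat.{u + 1}).obj (op ⊤) ≅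
      (sheafSections (QuotSh.J Scheme.zariskiPrecoverage X) AddCommGrpCat.{u + 1}).obj
        (op ((BigSite.zarIncl X).obj ⊤)) :=
    NatIso.ofComponents (fun F => Iso.refl _) (by
      intro F G φ
      simp only [Iso.refl_hom, Category.comp_id, Category.id_comp]
      rfl)
  exact ⟨((adj1.ofNatIsoRight e).leftAdjointUniq adj2).app _⟩

end helpers

/-- For a scheme X and an abelian sheaf F on the big Zariski site of X, the cohomology groups of the
restriction of F to the small Zariski site X_Zar agree with the cohomology groups of F on the big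
site, in every degree p. Existence of an additive isomorphism only (the canonical comparison map is
not named here). The continuity of the inclusion of the small Zariski site into the big site is
carried as an instance hypothesis; it always holds. -/
theorem result (X : Scheme.{u}) [BigSite.ZarCont Scheme.zariskiPrecoverage X]
    (F : BigSite.Ab Scheme.zariskiPrecoverage X) (p : ℕ) :
    Nonempty (EtZar.H ((BigSite.resZar Scheme.zariskiPrecoverage X).obj F) p ≃+
      BigSite.H Scheme.zariskiPrecoverage X F p) := by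
  obtain ⟨e0⟩ := nonempty_constIso X
  have e1 := ExtAdj.extAdjEquiv (BigSite.piZarAdj Scheme.zariskiPrecoverage X)
    (fun I hI => Injective.injective_of_adjoint (BigSite.piZarAdj Scheme.zariskiPrecoverage X) I)
    ((constantSheaf (Opens.grothendieckTopology X) AddCommGrpCat.{u + 1}).obj
        (AddCommGrpCat.of (ULift ℤ))) F p
  have e2 := ExtAdj.extIsoLeft e0 F p
  exact ⟨e1.symm.trans e2.symm⟩

end Groth.Agent.S12223
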