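import Groth.Statements.S12226
import Mathlib
import Groth.Agent.Lib.Helper17.HartogsConv

set_option autoImplicit false
universe u
open CategoryTheory CategoryTheory.Limits AlgebraicGeometry TopologicalSpace
open LocCoh

namespace Groth.Agent.S12226

/-- Let j : U → X be the inclusion of an open subscheme of a Noetherian scheme X and F a coherent
O_X-module such that F' = j_*(F|_U) is coherent. Then (a) for every point x of X outside U the stalk
F'_x has depth at least 2 over O_{X,x}, and (b) F → F' is the unique map with these properties: for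
every coherent O_X-module G and every map φ : F → G whose restriction to U is an isomorphism and
such that depth(G_x) ≥ 2 for all x outside U, there is exactly one map ψ : G → F' whose composite
with φ is the canonical map F → j_*(F|_U), and this ψ is an isomorphism. (The compatibility of this
construction with flat base change is not part of this statement.) -/
theorem result (X : Scheme.{u}) [IsNoetherian X] (U : X.Opens)
    (F : X.Modules) (hF : Coh.IsCoh F) (hF' : Coh.IsCoh ((Coh.push U.ι).obj (F.restrict U.ι))) :
    (∀ x : ↥X, x ∉ U → (2 : ℕ∞) ≤ LocCoh.depth (X.presheaf.stalk x)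
        (((Coh.push U.ι).obj (F.restrict U.ι)).presheaf.stalk x)) ∧
    ∀ (G : X.Modules) (hG : Coh.IsCoh G) (φ : F ⟶ G),
      IsIso ((Scheme.Modules.restrictFunctor U.ι).map φ) →
      (∀ x : ↥X, x ∉ U → (2 : ℕ∞) ≤ LocCoh.depth (X.presheaf.stalk x) (G.presheaf.stalk x)) →
        (∃! ψ : G ⟶ (Coh.push U.ι).obj (F.restrict U.ι),
            φ ≫ ψ = (Scheme.Modules.restrictAdjunction U.ι).unit.app F) ∧
          ∀ ψ : G ⟶ (Coh.push U.ι).obj (F.restrict U.ι),
            φ ≫ ψ = (Scheme.Modules.restrictAdjunction U.ι).unit.app F → IsIso ψ := by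
  constructor
  · intro x hx
    haveI : ((Coh.push U.ι).obj (F.restrict U.ι)).IsQuasicoherent := hF'.1
    haveI : ((Coh.push U.ι).obj (F.restrict U.ι)).IsFiniteType := hF'.2
    exact Groth.Agent.Lib.Helper17.HartogsConv.two_le_depth_of_bijective
      ((Coh.push U.ι).obj (F.restrict U.ι)) U
      (fun V => Groth.Agent.Lib.Helper17.Hartogs.pushRestrict_res_bijective F U V) x hx
  · intro G hG φ hφ hdepth
    haveI : G.IsQuasicoherent := hG.1
    haveI : G.IsFiniteType := hG.2
    haveI hiso : IsIso ((Scheme.Modules.restrictAdjunction U.ι).unit.app G) :=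
      Groth.Agent.Lib.Helper17.Hartogs.isIso_unit_of_depth_two G U hdepth
    haveI hjφ : IsIso ((Scheme.Modules.pushforward U.ι).map
        ((Scheme.Modules.restrictFunctor U.ι).map φ)) := Functor.map_isIso _ _
    have hnat : φ ≫ (Scheme.Modules.restrictAdjunction U.ι).unit.app G =
        (Scheme.Modules.restrictAdjunction U.ι).unit.app F ≫
          (Scheme.Modules.pushforward U.ι).map ((Scheme.Modules.restrictFunctor U.ι).map φ) :=
      (Scheme.Modules.restrictAdjunction U.ι).unit.naturality φ
    have huniq : ∀ ψ : G ⟶ (Coh.push U.ι).obj (F.restrict U.ι),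
        φ ≫ ψ = (Scheme.Modules.restrictAdjunction U.ι).unit.app F →
        ψ = (Scheme.Modules.restrictAdjunction U.ι).unit.app G ≫
          inv ((Scheme.Modules.pushforward U.ι).map
            ((Scheme.Modules.restrictFunctor U.ι).map φ)) := by
      intro ψ hψ
      have h1 : (Scheme.Modules.restrictFunctor U.ι).map φ ≫
          ((Scheme.Modules.restrictAdjunction U.ι).homEquiv G
            ((Scheme.Modules.restrictFunctor U.ι).obj F)).symm ψ = 𝟙 _ := by
        rw [Adjunction.homEquiv_counit, ← Category.assoc, ← Functor.map_comp, hψ]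
        exact (Scheme.Modules.restrictAdjunction U.ι).left_triangle_components F
      have h2 : ((Scheme.Modules.restrictAdjunction U.ι).homEquiv G
            ((Scheme.Modules.restrictFunctor U.ι).obj F)).symm ψ =
          inv ((Scheme.Modules.restrictFunctor U.ι).map φ) := by
        rw [← cancel_epi ((Scheme.Modules.restrictFunctor U.ι).map φ), h1, IsIso.hom_inv_id]
      have h3 : ψ = (Scheme.Modules.restrictAdjunction U.ι).homEquiv G
            ((Scheme.Modules.restrictFunctor U.ι).obj F)
            (((Scheme.Modules.restrictAdjunction U.ι).homEquiv G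
            ((Scheme.Modules.restrictFunctor U.ι).obj F)).symm ψ) :=
        (Equiv.apply_symm_apply _ _).symm
      rw [h3, h2, Adjunction.homEquiv_unit, Functor.map_inv]
    have hex : φ ≫ ((Scheme.Modules.restrictAdjunction U.ι).unit.app G ≫
          inv ((Scheme.Modules.pushforward U.ι).map
            ((Scheme.Modules.restrictFunctor U.ι).map φ))) =
        (Scheme.Modules.restrictAdjunction U.ι).unit.app F := by
      rw [← Category.assoc, hnat, Category.assoc, IsIso.hom_inv_id, Category.comp_id]
    refine ⟨⟨_, hex, fun ψ hψ => huniq ψ hψ⟩, fun ψ hψ => ?_⟩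
    rw [huniq ψ hψ]
    infer_instance

end Groth.Agent.S12226
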