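import Groth.Statements.S12227
import Mathlib

set_option autoImplicit false
universe w v u
open CategoryTheory CategoryTheory.Limits
open CohDer

namespace Groth.Agent.S12227

private lemma aux {A : Type u} [Category.{v} A] [Abelian A] [HasDerivedCategory.{w} A]
    (X Y : CochainComplex A ℤ) (a : ℤ) [X.IsStrictlyLE a] :
    (∀ φ : DerivedCategory.Qh.obj ((HomotopyCategory.quotient _ _).obj X) ⟶
        DerivedCategory.Qh.obj ((HomotopyCategory.quotient _ _).obj Y),
      ∃ (K' : HomotopyCategory A (ComplexShape.up ℤ)) (n : ℤ) (_ : CochainComplex.IsStrictlyLE K'.as n)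
        (s : K' ⟶ (HomotopyCategory.quotient _ _).obj X) (f : K' ⟶ (HomotopyCategory.quotient _ _).obj Y),
        HomotopyCategory.quasiIso A (ComplexShape.up ℤ) s ∧
          DerivedCategory.Qh.map s ≫ φ = DerivedCategory.Qh.map f) ∧
    (∀ f₁ f₂ : (HomotopyCategory.quotient _ _).obj X ⟶ (HomotopyCategory.quotient _ _).obj Y,
      DerivedCategory.Qh.map f₁ = DerivedCategory.Qh.map f₂ →
      ∃ (K' : HomotopyCategory A (ComplexShape.up ℤ)) (n : ℤ) (_ : CochainComplex.IsStrictlyLE K'.as n)
        (s : K' ⟶ (HomotopyCategory.quotient _ _).obj X),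
        HomotopyCategory.quasiIso A (ComplexShape.up ℤ) s ∧ s ≫ f₁ = s ≫ f₂) := by
  constructor
  · intro φ
    let e := DerivedCategory.quotientCompQhIso A
    let φ' : DerivedCategory.Q.obj X ⟶ DerivedCategory.Q.obj Y := e.inv.app X ≫ φ ≫ e.hom.app Y
    obtain ⟨X', hX', s, hs, g, hfac⟩ := DerivedCategory.right_fac_of_isStrictlyLE φ' a
    refine ⟨(HomotopyCategory.quotient _ _).obj X', a, hX', (HomotopyCategory.quotient _ _).map s,
      (HomotopyCategory.quotient _ _).map g, ?_, ?_⟩
    · rw [HomotopyCategory.quotient_map_mem_quasiIso_iff, HomologicalComplex.mem_quasiIso_iff,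
        ← DerivedCategory.isIso_Q_map_iff_quasiIso]
      exact hs
    · have h1 : φ = e.hom.app X ≫ φ' ≫ e.inv.app Y := by
        simp [φ']
      rw [h1, hfac]
      have n1 := DerivedCategory.quotientCompQhIso_hom_naturality s
      have n2 := DerivedCategory.quotientCompQhIso_inv_naturality g
      change _ ≫ e.hom.app X = e.hom.app X' ≫ _ at n1
      change _ ≫ e.inv.app Y = e.inv.app X' ≫ _ at n2
      rw [reassoc_of% n1, Category.assoc, IsIso.hom_inv_id_assoc, n2, Iso.hom_inv_id_app_assoc]
  · intro f₁ f₂ h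
    obtain ⟨Z, s, hs, hfac⟩ := (MorphismProperty.map_eq_iff_precomp DerivedCategory.Qh
      (HomotopyCategory.quasiIso A (ComplexShape.up ℤ)) f₁ f₂).mp h
    obtain ⟨Z, rfl⟩ := HomotopyCategory.quotient_obj_surjective Z
    obtain ⟨s, rfl⟩ := (HomotopyCategory.quotient _ _).map_surjective s
    refine ⟨(HomotopyCategory.quotient _ _).obj (CochainComplex.truncLE Z a), a,
      (inferInstance : (CochainComplex.truncLE Z a).IsStrictlyLE a),
      (HomotopyCategory.quotient _ _).map (CochainComplex.ιTruncLE Z a ≫ s), ?_, ?_⟩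
    · rw [HomotopyCategory.quotient_map_mem_quasiIso_iff, HomologicalComplex.mem_quasiIso_iff] at hs ⊢
      rw [← CochainComplex.ιTruncLE_naturality s a]
      haveI : QuasiIso (CochainComplex.truncLEMap s a) := by
        rw [CochainComplex.quasiIso_truncLEMap_iff]
        infer_instance
      infer_instance
    · rw [Functor.map_comp, Category.assoc, Category.assoc, hfac]

/-- Full faithfulness of K⁻(A)[Qis⁻¹] → D⁻(A), written in terms of roofs. Let A be an abelian category
and K, L complexes which are zero above some degree, viewed in the homotopy category. Then every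
morphism Qh(K) → Qh(L) in the derived category is Qh(s)⁻¹ ≫ Qh(f) for some quasi-isomorphism s : K'
→ K and map f : K' → L of K(A) with K' again zero above some degree; and two maps f₁, f₂ : K → L of
K(A) become equal in D(A) only if s ≫ f₁ = s ≫ f₂ for some quasi-isomorphism s : K' → K with K' zero
above some degree. (That the kernel of K⁻(A) → D(A) consists of the acyclic complexes and that the
essential image is D⁻(A) are separate statements.) -/
theorem result {A : Type u} [Category.{v} A] [Abelian A] [HasDerivedCategory.{w} A]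
    (K L : HomotopyCategory A (ComplexShape.up ℤ)) (a b : ℤ) [CochainComplex.IsStrictlyLE K.as a] [CochainComplex.IsStrictlyLE L.as b] :
    (∀ φ : DerivedCategory.Qh.obj K ⟶ DerivedCategory.Qh.obj L,
      ∃ (K' : HomotopyCategory A (ComplexShape.up ℤ)) (n : ℤ) (_ : CochainComplex.IsStrictlyLE K'.as n) (s : K' ⟶ K) (f : K' ⟶ L),
        HomotopyCategory.quasiIso A (ComplexShape.up ℤ) s ∧ DerivedCategory.Qh.map s ≫ φ = DerivedCategory.Qh.map f) ∧
    (∀ f₁ f₂ : K ⟶ L, DerivedCategory.Qh.map f₁ = DerivedCategory.Qh.map f₂ →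
      ∃ (K' : HomotopyCategory A (ComplexShape.up ℤ)) (n : ℤ) (_ : CochainComplex.IsStrictlyLE K'.as n) (s : K' ⟶ K),
        HomotopyCategory.quasiIso A (ComplexShape.up ℤ) s ∧ s ≫ f₁ = s ≫ f₂) := by
  obtain ⟨X, rfl⟩ := HomotopyCategory.quotient_obj_surjective K
  obtain ⟨Y, rfl⟩ := HomotopyCategory.quotient_obj_surjective L
  have hXa : CochainComplex.IsStrictlyLE X a :=
    ‹CochainComplex.IsStrictlyLE ((HomotopyCategory.quotient A (ComplexShape.up ℤ)).obj X).as a›
  exact aux X Y a

end Groth.Agent.S12227
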