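import Groth.Statements.S12228
import Mathlib

set_option autoImplicit false
universe w v u
open CategoryTheory CategoryTheory.Limits
open CohDer

namespace Groth.Agent.S12228

open CategoryTheory.Pretriangulated in
private lemma aux {A : Type u} [Category.{v} A] [Abelian A] [HasDerivedCategory.{w} A]
    (X Y : CochainComplex A ℤ) (a b a' b' : ℤ) [X.IsStrictlyGE a] [X.IsStrictlyLE b]
    [Y.IsStrictlyGE a'] [Y.IsStrictlyLE b'] :
    (∀ φ : DerivedCategory.Qh.obj ((HomotopyCategory.quotient _ _).obj X) ⟶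
        DerivedCategory.Qh.obj ((HomotopyCategory.quotient _ _).obj Y),
      ∃ (L' : HomotopyCategory A (ComplexShape.up ℤ)) (m n : ℤ) (_ : CochainComplex.IsStrictlyGE L'.as m)
        (_ : CochainComplex.IsStrictlyLE L'.as n)
        (f : (HomotopyCategory.quotient _ _).obj X ⟶ L') (t : (HomotopyCategory.quotient _ _).obj Y ⟶ L'),
        HomotopyCategory.quasiIso A (ComplexShape.up ℤ) t ∧
          φ ≫ DerivedCategory.Qh.map t = DerivedCategory.Qh.map f) ∧
    (∀ f₁ f₂ : (HomotopyCategory.quotient _ _).obj X ⟶ (HomotopyCategory.quotient _ _).obj Y,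
      DerivedCategory.Qh.map f₁ = DerivedCategory.Qh.map f₂ →
      ∃ (L' : HomotopyCategory A (ComplexShape.up ℤ)) (m n : ℤ) (_ : CochainComplex.IsStrictlyGE L'.as m)
        (_ : CochainComplex.IsStrictlyLE L'.as n) (t : (HomotopyCategory.quotient _ _).obj Y ⟶ L'),
        HomotopyCategory.quasiIso A (ComplexShape.up ℤ) t ∧ f₁ ≫ t = f₂ ≫ t) := by
  set B := max b b' with hB
  haveI : X.IsStrictlyLE B := X.isStrictlyLE_of_le b B (le_max_left _ _)
  haveI : Y.IsStrictlyLE B := Y.isStrictlyLE_of_le b' B (le_max_right _ _)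
  constructor
  · intro φ
    let e := DerivedCategory.quotientCompQhIso A
    let φ' : DerivedCategory.Q.obj X ⟶ DerivedCategory.Q.obj Y := e.inv.app X ≫ φ ≫ e.hom.app Y
    obtain ⟨Y', hY'1, hY'2, g, s, hs, hfac⟩ :=
      DerivedCategory.left_fac_of_isStrictlyLE_of_isStrictlyGE a' B φ'
    refine ⟨(HomotopyCategory.quotient _ _).obj Y', a', B, hY'1, hY'2,
      (HomotopyCategory.quotient _ _).map g, (HomotopyCategory.quotient _ _).map s, ?_, ?_⟩
    · rw [HomotopyCategory.quotient_map_mem_quasiIso_iff, HomologicalComplex.mem_quasiIso_iff,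
        ← DerivedCategory.isIso_Q_map_iff_quasiIso]
      exact hs
    · have h1 : φ = e.hom.app X ≫ φ' ≫ e.inv.app Y := by
        simp [φ']
      rw [h1, hfac]
      have n1 := DerivedCategory.quotientCompQhIso_inv_naturality s
      have n2 := DerivedCategory.quotientCompQhIso_inv_naturality g
      change _ ≫ e.inv.app Y' = e.inv.app Y ≫ _ at n1
      change _ ≫ e.inv.app Y' = e.inv.app X ≫ _ at n2
      simp only [Category.assoc]
      rw [← n1, IsIso.inv_hom_id_assoc, n2, Iso.hom_inv_id_app_assoc]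
  · intro f₁ f₂ h
    obtain ⟨Z, t, ht, hfac⟩ := (MorphismProperty.map_eq_iff_postcomp DerivedCategory.Qh
      (HomotopyCategory.quasiIso A (ComplexShape.up ℤ)) f₁ f₂).mp h
    have hδ : (f₁ - f₂) ≫ t = 0 := by rw [Preadditive.sub_comp, hfac, sub_self]
    rw [HomotopyCategory.quasiIso_eq_trW_subcategoryAcyclic, ObjectProperty.trW_iff'] at ht
    obtain ⟨C, c, hh, hT, hC⟩ := ht
    obtain ⟨γ, hγ⟩ := Triangle.coyoneda_exact₂ _ hT (f₁ - f₂) hδ
    obtain ⟨C₀, rfl⟩ := HomotopyCategory.quotient_obj_surjective C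
    obtain ⟨γ₀, rfl⟩ := (HomotopyCategory.quotient _ _).map_surjective γ
    obtain ⟨c₀, rfl⟩ := (HomotopyCategory.quotient _ _).map_surjective c
    let C₁ := CochainComplex.truncLE C₀ B
    let γ₁ : X ⟶ C₁ := inv (CochainComplex.ιTruncLE X B) ≫ CochainComplex.truncLEMap γ₀ B
    have hγ₁ : γ₁ ≫ CochainComplex.ιTruncLE C₀ B = γ₀ := by
      simp only [γ₁, Category.assoc, CochainComplex.ιTruncLE_naturality, IsIso.inv_hom_id_assoc]
    let c₁ : C₁ ⟶ Y := CochainComplex.ιTruncLE C₀ B ≫ c₀
    let M := CochainComplex.mappingCone c₁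
    have hM_le : M.IsStrictlyLE B := by
      rw [CochainComplex.isStrictlyLE_iff]
      intro i hi
      rw [CochainComplex.mappingCone.isZero_X_iff]
      exact ⟨CochainComplex.isZero_of_isStrictlyLE C₁ B _ (by omega),
        CochainComplex.isZero_of_isStrictlyLE Y B _ hi⟩
    have hC₀ : C₀.Acyclic := (HomotopyCategory.quotient_obj_mem_subcategoryAcyclic_iff_acyclic C₀).mp hC
    have hC₁ : HomotopyCategory.subcategoryAcyclic A ((HomotopyCategory.quotient _ _).obj C₁) := by
      rw [HomotopyCategory.quotient_obj_mem_subcategoryAcyclic_iff_acyclic]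
      exact hC₀.truncLE _
    have hinr : HomotopyCategory.quasiIso A (ComplexShape.up ℤ)
        ((HomotopyCategory.quotient _ _).map (CochainComplex.mappingCone.inr c₁)) := by
      rw [HomotopyCategory.quasiIso_eq_trW_subcategoryAcyclic]
      exact ObjectProperty.trW.mk' _ (HomotopyCategory.mappingCone_triangleh_distinguished c₁) hC₁
    have hzero : (f₁ - f₂) ≫ (HomotopyCategory.quotient _ _).map (CochainComplex.mappingCone.inr c₁) = 0 := by
      have hz := comp_distTriang_mor_zero₁₂ _ (HomotopyCategory.mappingCone_triangleh_distinguished c₁)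
      change (HomotopyCategory.quotient _ _).map c₁ ≫
        (HomotopyCategory.quotient _ _).map (CochainComplex.mappingCone.inr c₁) = 0 at hz
      change f₁ - f₂ = (HomotopyCategory.quotient _ _).map γ₀ ≫ (HomotopyCategory.quotient _ _).map c₀ at hγ
      rw [hγ, ← hγ₁]
      simp only [Functor.map_comp, Category.assoc, c₁] at hz ⊢
      rw [hz, comp_zero]
    have hqinr : QuasiIso (CochainComplex.mappingCone.inr c₁) := by
      rw [HomotopyCategory.quotient_map_mem_quasiIso_iff, HomologicalComplex.mem_quasiIso_iff] at hinr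
      exact hinr
    haveI : M.IsGE a' := by
      have hY : Y.IsGE a' := inferInstance
      exact (HomologicalComplex.isSupported_iff_of_quasiIso (CochainComplex.mappingCone.inr c₁)
        (ComplexShape.embeddingUpIntGE a')).mp hY
    refine ⟨(HomotopyCategory.quotient _ _).obj (CochainComplex.truncGE M a'), a', B,
      (inferInstance : (CochainComplex.truncGE M a').IsStrictlyGE a'),
      (inferInstance : (CochainComplex.truncGE M a').IsStrictlyLE B),
      (HomotopyCategory.quotient _ _).map (CochainComplex.mappingCone.inr c₁ ≫ CochainComplex.πTruncGE M a'),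
      ?_, ?_⟩
    · rw [HomotopyCategory.quotient_map_mem_quasiIso_iff, HomologicalComplex.mem_quasiIso_iff]
      infer_instance
    · rw [← sub_eq_zero, ← Preadditive.sub_comp, Functor.map_comp, reassoc_of% hzero, zero_comp]

/-- Full faithfulness of Kᵇ(A)[Qis⁻¹] → Dᵇ(A), written in terms of roofs. Let A be an abelian category
and K, L bounded complexes (zero outside a finite range of degrees), viewed in the homotopy
category. Then every morphism Qh(K) → Qh(L) in the derived category is Qh(f) ≫ Qh(t)⁻¹ for some map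
f : K → L' and quasi-isomorphism t : L → L' of K(A) with L' again bounded; and two maps f₁, f₂ : K →
L of K(A) become equal in D(A) only if f₁ ≫ t = f₂ ≫ t for some quasi-isomorphism t : L → L' with L'
bounded. -/
theorem result {A : Type u} [Category.{v} A] [Abelian A] [HasDerivedCategory.{w} A]
    (K L : HomotopyCategory A (ComplexShape.up ℤ)) (a b a' b' : ℤ) [CochainComplex.IsStrictlyGE K.as a] [CochainComplex.IsStrictlyLE K.as b]
    [CochainComplex.IsStrictlyGE L.as a'] [CochainComplex.IsStrictlyLE L.as b'] :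
    (∀ φ : DerivedCategory.Qh.obj K ⟶ DerivedCategory.Qh.obj L,
      ∃ (L' : HomotopyCategory A (ComplexShape.up ℤ)) (m n : ℤ) (_ : CochainComplex.IsStrictlyGE L'.as m) (_ : CochainComplex.IsStrictlyLE L'.as n) (f : K ⟶ L') (t : L ⟶ L'),
        HomotopyCategory.quasiIso A (ComplexShape.up ℤ) t ∧ φ ≫ DerivedCategory.Qh.map t = DerivedCategory.Qh.map f) ∧
    (∀ f₁ f₂ : K ⟶ L, DerivedCategory.Qh.map f₁ = DerivedCategory.Qh.map f₂ →
      ∃ (L' : HomotopyCategory A (ComplexShape.up ℤ)) (m n : ℤ) (_ : CochainComplex.IsStrictlyGE L'.as m) (_ : CochainComplex.IsStrictlyLE L'.as n) (t : L ⟶ L'),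
        HomotopyCategory.quasiIso A (ComplexShape.up ℤ) t ∧ f₁ ≫ t = f₂ ≫ t) := by
  obtain ⟨X, rfl⟩ := HomotopyCategory.quotient_obj_surjective K
  obtain ⟨Y, rfl⟩ := HomotopyCategory.quotient_obj_surjective L
  have h1 : CochainComplex.IsStrictlyGE X a :=
    ‹CochainComplex.IsStrictlyGE ((HomotopyCategory.quotient A (ComplexShape.up ℤ)).obj X).as a›
  have h2 : CochainComplex.IsStrictlyLE X b :=
    ‹CochainComplex.IsStrictlyLE ((HomotopyCategory.quotient A (ComplexShape.up ℤ)).obj X).as b›
  have h3 : CochainComplex.IsStrictlyGE Y a' :=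
    ‹CochainComplex.IsStrictlyGE ((HomotopyCategory.quotient A (ComplexShape.up ℤ)).obj Y).as a'›
  have h4 : CochainComplex.IsStrictlyLE Y b' :=
    ‹CochainComplex.IsStrictlyLE ((HomotopyCategory.quotient A (ComplexShape.up ℤ)).obj Y).as b'›
  exact aux X Y a b a' b'

end Groth.Agent.S12228
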