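import Groth.Statements.S12235
-- import your own Groth.Agent.* helpers here
import Mathlib
import Groth.Agent.Lib.Helper12.CurveInsepNorm3
import Groth.Agent.Lib.Helper23.GeomCurve

set_option autoImplicit false
universe u
open CategoryTheory CategoryTheory.Limits AlgebraicGeometry
open Curves

namespace Groth.Agent.S12235

/-- Let k be a field, X a proper geometrically irreducible curve over k (proper over k, integral, of
dimension one), K/k a field extension and Y_K the normalization of the reduction of X_K (that
reduction is integral). If Y_K is smooth over K then H^0(Y_K, O) = K: the global functions of Y_K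
form a one-dimensional K-vector space. (Stated for proper X; the instance hypotheses on (X_K)_red
always hold.) -/
theorem result (k : Type u) [Field k] (X : Scheme.{u})
    [X.Over (Spec (CommRingCat.of k))] [IsIntegral X] [IsProper (X ↘ (Spec (CommRingCat.of k)))]
    [GeometricallyIrreducible (X ↘ (Spec (CommRingCat.of k)))] (hdim : topologicalKrullDim X = 1)
    (K : Type u) [Field K] [Algebra k K] [IsIntegral ((Curv2.bc k X K).nilradical).subscheme]
    [QuasiCompact ((((Curv2.bc k X K).nilradical).subscheme).fromSpecStalk (genericPoint ((Curv2.bc k X K).nilradical).subscheme))]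
    [QuasiSeparated ((((Curv2.bc k X K).nilradical).subscheme).fromSpecStalk (genericPoint ((Curv2.bc k X K).nilradical).subscheme))]
    (hsm : Smooth (Curv2.normalizationι ((Curv2.bc k X K).nilradical).subscheme ≫ ((Curv2.bc k X K).nilradical).subschemeι ≫ Curv2.bcSnd k X K)) :
    letI : (Curv2.normalization ((Curv2.bc k X K).nilradical).subscheme).Over (Spec (CommRingCat.of K)) := ⟨(Curv2.normalizationι ((Curv2.bc k X K).nilradical).subscheme ≫ ((Curv2.bc k X K).nilradical).subschemeι ≫ Curv2.bcSnd k X K)⟩
    Module.finrank K (Coh.HH (Curv2.normalization ((Curv2.bc k X K).nilradical).subscheme) (Coh.structureModule (Curv2.normalization ((Curv2.bc k X K).nilradical).subscheme)) 0) = 1 := by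
  classical
  let f := X ↘ Spec (CommRingCat.of k)
  let p : Spec (CommRingCat.of K) ⟶ Spec (CommRingCat.of k) :=
    Spec.map (CommRingCat.ofHom (algebraMap k K))
  let gK : pullback f p ⟶ Spec (CommRingCat.of K) := pullback.snd f p
  let ι := (pullback f p).nilradical.subschemeι
  have hιs : Function.Surjective ι :=
    Groth.Agent.Lib.Helper7.subschemeι_nilradical_surjective _
  haveI : Surjective ι := ⟨hιs⟩
  letI : (pullback f p).nilradical.subscheme.Over (Spec (CommRingCat.of K)) := ⟨ι ≫ gK⟩
  haveI : LocallyOfFiniteType
      ((pullback f p).nilradical.subscheme ↘ Spec (CommRingCat.of K)) :=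
    (inferInstance : LocallyOfFiniteType (ι ≫ gK))
  obtain ⟨hfin, -, ⟨V, hVne, hViso⟩, hint, hnorm⟩ :=
    Groth.Agent.S1585.result K (pullback f p).nilradical.subscheme
  set ν := Curv2.normalizationι (pullback f p).nilradical.subscheme with hν
  haveI := hfin
  haveI := hint
  haveI := hsm
  haveI := hViso
  -- `(X_K)_red` is geometrically irreducible over `K`
  haveI hgi : GeometricallyIrreducible (ι ≫ gK) := by
    refine ⟨geometrically_iff_of_isClosedUnderIsomorphisms.mpr fun L _ y => ?_⟩
    rw [← (pullbackRightPullbackFstIso gK y ι).hom.homeomorph.irreducibleSpace_iff]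
    haveI : IrreducibleSpace ↥(pullback gK y) := inferInstance
    have hs : Function.Surjective (pullback.snd ι (pullback.fst gK y)) :=
      (MorphismProperty.pullback_snd (P := @Surjective) ι (pullback.fst gK y)
        inferInstance).1
    have hh : IsHomeomorph (pullback.snd ι (pullback.fst gK y)).base :=
      isHomeomorph_iff_isEmbedding_surjective.mpr
        ⟨(pullback.snd ι (pullback.fst gK y)).isClosedEmbedding.isEmbedding, hs⟩
    exact Groth.Agent.Lib.Helper12.CurveInsepNorm.irreducibleSpace_of_isHomeomorph _ hh
  have hgenV : ν (genericPoint ↥(Curv2.normalization (pullback f p).nilradical.subscheme)) ∈ V := by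
    have h2 : ν (genericPoint ↥(Curv2.normalization (pullback f p).nilradical.subscheme)) =
        genericPoint ↥(pullback f p).nilradical.subscheme :=
      Groth.Agent.Lib.Helper12.NormAff.map_genericPoint _
    rw [h2]
    exact Groth.Agent.Lib.Helper12.NormAff.genericPoint_mem _ hVne
  letI : (Curv2.normalization (pullback f p).nilradical.subscheme).Over
      (Spec (CommRingCat.of K)) := ⟨ν ≫ ι ≫ gK⟩
  haveI : IsProper ((Curv2.normalization (pullback f p).nilradical.subscheme) ↘
      Spec (CommRingCat.of K)) := (inferInstance : IsProper (ν ≫ ι ≫ gK))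
  haveI : GeometricallyIntegral ((Curv2.normalization (pullback f p).nilradical.subscheme) ↘
      Spec (CommRingCat.of K)) := by
    haveI : GeometricallyReduced ((Curv2.normalization (pullback f p).nilradical.subscheme) ↘
        Spec (CommRingCat.of K)) := by
      refine ⟨geometrically_iff_of_isClosedUnderIsomorphisms.mpr fun L _ y => ?_⟩
      show IsReduced (pullback (ν ≫ ι ≫ gK) y)
      haveI : Smooth (pullback.snd (ν ≫ ι ≫ gK) y) := inferInstance
      exact Groth.Agent.Lib.Helper22.SmoothRed.isReduced_of_smooth (pullback.snd (ν ≫ ι ≫ gK) y)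
    haveI : GeometricallyIrreducible
        ((Curv2.normalization (pullback f p).nilradical.subscheme) ↘
        Spec (CommRingCat.of K)) := by
      refine ⟨geometrically_iff_of_isClosedUnderIsomorphisms.mpr fun L _ y => ?_⟩
      exact Groth.Agent.Lib.Helper12.CurveInsepNorm.irreducibleSpace_pullback_of_birational
        (ι ≫ gK) ν V hgenV y
    exact GeometricallyIntegral.of_geometricallyReduced_of_geometricallyIrreducible _
  exact Groth.Agent.Lib.Helper23.GeomCurve.finrank_h0_eq_one K
    (Curv2.normalization (pullback f p).nilradical.subscheme)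

end Groth.Agent.S12235
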