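import Groth.Statements.S1224
import Mathlib

set_option autoImplicit false
universe u
open FlatMor TensorProduct
attribute [local instance] Algebra.TensorProduct.rightAlgebra

namespace Groth.Agent.S1224

/-- Ring form, X = Spec B affine, where proper support means finite support: let B be a finite type
A-algebra and N a finite B-module such that B modulo the annihilator of N is finite over A. Then N
is universally pure relative to Spec A. -/
theorem result {A B : Type u} [CommRing A] [CommRing B] [Algebra A B] [Algebra.FiniteType A B]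
    (N : Type u) [AddCommGroup N] [Module B N] [Module A N] [IsScalarTower A B N] [Module.Finite B N]
    [Module.Finite A (B ⧸ Module.annihilator B N)] : FlatCA.IsUnivPure A B N := by
  classical
  intro p _ A' B' N' _ _ _ _ _ _ _ _ _ _ _ _ _ _ f t' t _ _ P _ himp
  obtain ⟨hpush, hbc, hle, htp, hPt', hass, hno⟩ := himp
  have hQprime : (FlatCA.fiberIdeal t' P).IsPrime := hass.isPrime
  let P₁e := (PrimeSpectrum.primesOverOrderIsoFiber A' B' t').symm ⟨FlatCA.fiberIdeal t' P, hQprime⟩
  let P₁ : Ideal B' := (FlatCA.fiberIdeal t' P).comap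
    (Algebra.TensorProduct.includeRight : B' →ₐ[A'] t'.Fiber B')
  have hP₁prime : P₁.IsPrime := P₁e.2.1
  have hP₁over : P₁.LiesOver t' := P₁e.2.2
  have hPP₁ : P ≤ P₁ := Ideal.le_comap_map
  -- the annihilator kills `N'`
  have hann : ∀ b ∈ Module.annihilator B N, ∀ n' : N', algebraMap B B' b • n' = 0 := by
    intro b hb n'
    induction n' using hbc.inductionOn with
    | zero => simp
    | tmul n => rw [algebraMap_smul, ← map_smul, Module.mem_annihilator.mp hb n, map_zero]
    | smul c n' h => rw [smul_comm, h, smul_zero]
    | add x y hx hy => rw [smul_add, hx, hy, add_zero]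
  have hKQ : ∀ b ∈ Module.annihilator B N, algebraMap B B' b ∈ P₁ := by
    intro b hb
    change (Algebra.TensorProduct.includeRight : B' →ₐ[A'] t'.Fiber B') (algebraMap B B' b) ∈
      FlatCA.fiberIdeal t' P
    apply hass.annihilator_le
    rw [Submodule.mem_annihilator]
    intro y _
    have key : ∀ y : (t'.Fiber B') ⊗[B'] N',
        ((Algebra.TensorProduct.includeRight : B' →ₐ[A'] t'.Fiber B') (algebraMap B B' b)) • y
          = 0 := by
      intro y
      induction y using TensorProduct.induction_on with
      | zero => simp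
      | tmul φ n' =>
        rw [TensorProduct.smul_tmul', smul_eq_mul]
        have : (Algebra.TensorProduct.includeRight : B' →ₐ[A'] t'.Fiber B') (algebraMap B B' b) * φ
            = (algebraMap B B' b) • φ := (Algebra.smul_def _ _).symm
        rw [this, TensorProduct.smul_tmul, hann b hb, TensorProduct.tmul_zero]
      | add x y hx hy => rw [smul_add, hx, hy, add_zero]
    exact key y
  let K : Ideal B' := (Module.annihilator B N).map (algebraMap B B')
  have hK : K ≤ P₁ := Ideal.map_le_iff_le_comap.mpr (fun b hb => hKQ b hb)
  -- integrality of `B' ⧸ K` over `A'`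
  have hint : Algebra.IsIntegral A' (B' ⧸ K) := by
    constructor
    intro y
    obtain ⟨y, rfl⟩ := Ideal.Quotient.mk_surjective y
    have hbc' : IsBaseChange A' (IsScalarTower.toAlgHom A B B').toLinearMap := hpush.symm.out
    induction y using hbc'.inductionOn with
    | zero => rw [map_zero]; exact isIntegral_zero
    | tmul b =>
      have h1 : IsIntegral A (Ideal.Quotient.mk (Module.annihilator B N) b) :=
        Algebra.IsIntegral.isIntegral _
      let ψ : (B ⧸ Module.annihilator B N) →ₐ[A] (B' ⧸ K) :=
        Ideal.quotientMapₐ K (IsScalarTower.toAlgHom A B B') Ideal.le_comap_map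
      have h2 : IsIntegral A (ψ (Ideal.Quotient.mk (Module.annihilator B N) b)) := h1.map ψ
      exact h2.tower_top
    | smul a y h =>
      have : Ideal.Quotient.mk K (a • y) = a • Ideal.Quotient.mk K y := rfl
      rw [this]
      exact h.smul a
    | add x y hx hy => rw [map_add]; exact hx.add hy
  let I : Ideal (B' ⧸ K) := P₁.map (Ideal.Quotient.mk K)
  have hIprime : I.IsPrime :=
    Ideal.map_isPrime_of_surjective Ideal.Quotient.mk_surjective (by rwa [Ideal.mk_ker])
  have hIcomap : I.comap (Ideal.Quotient.mk K) = P₁ := Ideal.comap_map_mk hK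
  have hIt : I.comap (algebraMap A' (B' ⧸ K)) ≤ t := by
    intro a ha
    have h2 : algebraMap A' B' a ∈ I.comap (Ideal.Quotient.mk K) := ha
    rw [hIcomap] at h2
    have h3 : a ∈ P₁.under A' := h2
    rw [← hP₁over.over] at h3
    exact hle h3
  obtain ⟨Q', hQ'I, hQ'prime, hQ't⟩ :=
    Ideal.exists_ideal_over_prime_of_isIntegral_of_isPrime t I hIt
  let P' : Ideal B' := Q'.comap (Ideal.Quotient.mk K)
  have hP'prime : P'.IsPrime := Ideal.comap_isPrime _ _
  have hPP' : P ≤ P' := by
    refine hPP₁.trans ?_
    rw [← hIcomap]
    exact Ideal.comap_mono hQ'I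
  refine hno P' hPP' ⟨?_⟩
  rw [← hQ't]
  rfl

end Groth.Agent.S1224
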