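import Groth.Statements.S12240
-- import your own Groth.Agent.* helpers here
import Mathlib
import Groth.Agent.Lib.Helper12.CurveInsepNorm2

set_option autoImplicit false
universe u
open CategoryTheory CategoryTheory.Limits AlgebraicGeometry
open Curves

namespace Groth.Agent.S12240

/-- Stated over the field where the nonsingular projective model is already smooth. Let K be a field and
X a proper geometrically irreducible curve over K (proper over K, integral, of dimension one) whose
normalization Y = X^ν is smooth over K. Then for every field extension Ω of K the base change Y_Ω,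
together with its map to X_Ω, is the normalization of the reduction (X_Ω)_red: there is an
isomorphism from Y_Ω to the normalization of (X_Ω)_red whose composite with the normalization map
and the closed immersion (X_Ω)_red → X_Ω is the base change Y_Ω → X_Ω of Y → X. (Applied to the
reduction of the base change of a geometrically irreducible proper curve to a field over which its
nonsingular projective model becomes smooth, this says that the smooth model is compatible with all
further field extensions; the instance hypotheses on (X_Ω)_red — integrality and the two conditions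
needed to form the normalization — always hold.) -/
theorem result (K : Type u) [Field K] (X : Scheme.{u})
    [X.Over (Spec (CommRingCat.of K))] [IsIntegral X] [IsProper (X ↘ (Spec (CommRingCat.of K)))]
    [GeometricallyIrreducible (X ↘ (Spec (CommRingCat.of K)))] (hdim : topologicalKrullDim X = 1)
    [QuasiCompact (X.fromSpecStalk (genericPoint X))] [QuasiSeparated (X.fromSpecStalk (genericPoint X))]
    (hsm : Smooth (Curv2.normalizationι X ≫ (X ↘ (Spec (CommRingCat.of K)))))
    (Ω : Type u) [Field Ω] [Algebra K Ω]
    [IsIntegral ((Curv2.bc K X Ω).nilradical).subscheme]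
    [QuasiCompact ((((Curv2.bc K X Ω).nilradical).subscheme).fromSpecStalk (genericPoint ((Curv2.bc K X Ω).nilradical).subscheme))]
    [QuasiSeparated ((((Curv2.bc K X Ω).nilradical).subscheme).fromSpecStalk (genericPoint ((Curv2.bc K X Ω).nilradical).subscheme))] :
    ∃ e : Limits.pullback (Curv2.normalizationι X ≫ (X ↘ (Spec (CommRingCat.of K))))
          (Spec.map (CommRingCat.ofHom (algebraMap K Ω))) ≅
        Curv2.normalization ((Curv2.bc K X Ω).nilradical).subscheme,
      e.hom ≫ Curv2.normalizationι ((Curv2.bc K X Ω).nilradical).subscheme ≫ ((Curv2.bc K X Ω).nilradical).subschemeι =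
        Limits.pullback.map (Curv2.normalizationι X ≫ (X ↘ (Spec (CommRingCat.of K))))
          (Spec.map (CommRingCat.ofHom (algebraMap K Ω))) (X ↘ (Spec (CommRingCat.of K)))
          (Spec.map (CommRingCat.ofHom (algebraMap K Ω))) (Curv2.normalizationι X) (𝟙 _) (𝟙 _)
          (Category.comp_id _) ((Category.comp_id _).trans (Category.id_comp _).symm) := by
  classical
  let f := X ↘ Spec (CommRingCat.of K)
  let p : Spec (CommRingCat.of Ω) ⟶ Spec (CommRingCat.of K) :=
    Spec.map (CommRingCat.ofHom (algebraMap K Ω))
  obtain ⟨hfin, -, ⟨V, hVne, hViso⟩, hint, hnorm⟩ := Groth.Agent.S1585.result K X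
  set ν := Curv2.normalizationι X with hν
  haveI := hfin
  haveI := hint
  haveI := hsm
  haveI := hViso
  have hνs : Function.Surjective ν :=
    Groth.Agent.Lib.Helper12.NormAff.surjective_fromNormalization X
  haveI : Surjective ν := ⟨hνs⟩
  let n' : pullback (ν ≫ f) p ⟶ pullback f p :=
    pullback.map (ν ≫ f) p f p ν (𝟙 _) (𝟙 _) (Category.comp_id _)
      ((Category.comp_id _).trans (Category.id_comp _).symm)
  have hn1 : n' ≫ pullback.fst f p = pullback.fst (ν ≫ f) p ≫ ν := pullback.lift_fst _ _ _
  have hn2 : n' ≫ pullback.snd f p = pullback.snd (ν ≫ f) p := by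
    have : n' ≫ pullback.snd f p = pullback.snd (ν ≫ f) p ≫ 𝟙 _ := pullback.lift_snd _ _ _
    rwa [Category.comp_id] at this
  have sq : IsPullback (pullback.fst (ν ≫ f) p) n' ν (pullback.fst f p) :=
    IsPullback.of_bot (by rw [hn2]; exact IsPullback.of_hasPullback (ν ≫ f) p) hn1.symm
      (IsPullback.of_hasPullback f p)
  haveI : IsFinite n' := MorphismProperty.of_isPullback (P := @IsFinite) sq hfin
  haveI : Surjective n' := MorphismProperty.of_isPullback (P := @Surjective) sq inferInstance
  haveI : Smooth (n' ≫ pullback.snd f p) := by rw [hn2]; infer_instance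
  obtain ⟨l, hl⟩ := Groth.Agent.Lib.Helper12.CurveInsepNorm.exists_isPullback_restrict sq V
  haveI : IsIso (n' ∣_ ((pullback.fst f p) ⁻¹ᵁ V)) :=
    MorphismProperty.of_isPullback (P := MorphismProperty.isomorphisms Scheme.{u}) hl hViso
  haveI : Surjective p := Groth.Agent.Lib.Helper12.StratTowerField.surjective_specMap_field _
  haveI : Surjective (pullback.fst f p) :=
    MorphismProperty.pullback_fst (P := @Surjective) f p inferInstance
  have hU' : (↑((pullback.fst f p) ⁻¹ᵁ V) : Set ↥(pullback f p)).Nonempty := by
    obtain ⟨x, hx⟩ := hVne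
    obtain ⟨y, hy⟩ := Surjective.surj (f := pullback.fst f p) x
    exact ⟨y, by show (pullback.fst f p) y ∈ V; rw [hy]; exact hx⟩
  haveI : IrreducibleSpace ↥(pullback f p) := inferInstance
  haveI : IrreducibleSpace ↥(pullback (ν ≫ f) p) := by
    have hirrU : IsIrreducible (↑((pullback.fst f p) ⁻¹ᵁ V) : Set ↥(pullback f p)) :=
      ⟨hU', (IrreducibleSpace.isIrreducible_univ _).isPreirreducible.open_subset
        ((pullback.fst f p) ⁻¹ᵁ V).2 (Set.subset_univ _)⟩
    haveI : IrreducibleSpace ((pullback.fst f p) ⁻¹ᵁ V).toScheme := Subtype.irreducibleSpace hirrU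
    have hsurj : Function.Surjective (inv (n' ∣_ ((pullback.fst f p) ⁻¹ᵁ V))) := fun y =>
      ⟨(n' ∣_ ((pullback.fst f p) ⁻¹ᵁ V)) y, by
        rw [← Scheme.Hom.comp_apply, IsIso.hom_inv_id]; rfl⟩
    haveI : IrreducibleSpace (n' ⁻¹ᵁ ((pullback.fst f p) ⁻¹ᵁ V)).toScheme := by
      rw [irreducibleSpace_def]
      have h1 := (IrreducibleSpace.isIrreducible_univ ((pullback.fst f p) ⁻¹ᵁ V).toScheme).image
        (inv (n' ∣_ ((pullback.fst f p) ⁻¹ᵁ V)))
        (inv (n' ∣_ ((pullback.fst f p) ⁻¹ᵁ V))).continuous.continuousOn
      rwa [Set.image_univ, hsurj.range_eq] at h1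
    have hP : IsIrreducible (↑(n' ⁻¹ᵁ ((pullback.fst f p) ⁻¹ᵁ V)) :
        Set ↥(pullback (ν ≫ f) p)) := by
      have := (IrreducibleSpace.isIrreducible_univ (n' ⁻¹ᵁ ((pullback.fst f p) ⁻¹ᵁ V)).toScheme).image
        (n' ⁻¹ᵁ ((pullback.fst f p) ⁻¹ᵁ V)).ι
        (n' ⁻¹ᵁ ((pullback.fst f p) ⁻¹ᵁ V)).ι.continuous.continuousOn
      rwa [Set.image_univ, Scheme.Opens.range_ι] at this
    haveI : Flat p := Groth.Agent.Lib.Helper12.StratTowerField.flat_specMap
    have hgen : GeneralizingMap (pullback.fst (ν ≫ f) p) := Flat.generalizingMap _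
    have hdense : Dense (↑(n' ⁻¹ᵁ ((pullback.fst f p) ⁻¹ᵁ V)) :
        Set ↥(pullback (ν ≫ f) p)) := by
      intro w
      obtain ⟨w', hw'w, hw'⟩ := hgen (genericPoint_specializes ((pullback.fst (ν ≫ f) p) w))
      have hmem : w' ∈ n' ⁻¹ᵁ ((pullback.fst f p) ⁻¹ᵁ V) := by
        show (pullback.fst f p) (n' w') ∈ V
        rw [← Scheme.Hom.comp_apply, hn1, Scheme.Hom.comp_apply, hw']
        have h2 : ν (genericPoint ↥(Curv2.normalization X)) = genericPoint X :=
          Groth.Agent.Lib.Helper12.NormAff.map_genericPoint X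
        rw [h2]
        exact Groth.Agent.Lib.Helper12.NormAff.genericPoint_mem X hVne
      exact hw'w.mem_closed isClosed_closure (subset_closure hmem)
    rw [irreducibleSpace_def]
    have := hP.closure
    rwa [hdense.closure_eq] at this
  exact Groth.Agent.Lib.Helper12.CurveInsepNorm.exists_iso_normalization_of_finite Ω
    (pullback.snd f p) n' _ hU'

end Groth.Agent.S12240
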