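import Groth.Statements.S12715
import Mathlib

set_option autoImplicit false
universe u v
open CategoryTheory
open ArtFun

namespace Groth.Agent.S12715

/-- For Λ Noetherian with a finite map to the field k and S a complete local Noetherian Λ-algebra with
residue field k (through a surjective map S → k over Λ), the space of Λ-derivations S → k is
finite-dimensional over k. -/
theorem result {Λ : Type u} {k : Type u} [CommRing Λ] [Field k] [Algebra Λ k]
    [IsNoetherianRing Λ] [Module.Finite Λ k]
    (S : Type u) [CommRing S] [Algebra Λ S] [IsLocalRing S] [IsNoetherianRing S]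
    [IsAdicComplete (IsLocalRing.maximalIdeal S) S] [Algebra S k] [IsScalarTower Λ S k]
    (hres : Function.Surjective (algebraMap S k)) :
    Module.Finite k (Derivation Λ S k) := by
  classical
  have hker : RingHom.ker (algebraMap S k) = IsLocalRing.maximalIdeal S :=
    IsLocalRing.eq_maximalIdeal (RingHom.ker_isMaximal_of_surjective _ hres)
  have hm : ∀ x ∈ IsLocalRing.maximalIdeal S, algebraMap S k x = 0 := by
    intro x hx
    rw [← hker] at hx
    exact hx
  obtain ⟨T, hT⟩ := (IsNoetherian.noetherian (IsLocalRing.maximalIdeal S) :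
    (IsLocalRing.maximalIdeal S).FG)
  obtain ⟨U, hU⟩ := (Module.Finite.fg_top : (⊤ : Submodule Λ k).FG)
  let lift : k → S := fun c => (hres c).choose
  have hlift : ∀ c, algebraMap S k (lift c) = c := fun c => (hres c).choose_spec
  let φ : Derivation Λ S k →ₗ[k] ((T → k) × (U → k)) :=
    { toFun := fun D => (fun t => D t, fun u => D (lift u))
      map_add' := fun D E => rfl
      map_smul' := fun c D => rfl }
  have hφ : Function.Injective φ := by
    rw [← LinearMap.ker_eq_bot, LinearMap.ker_eq_bot']
    intro D hD
    have hD1 : ∀ t ∈ T, D t = 0 := fun t ht => congrFun (congrArg Prod.fst hD) ⟨t, ht⟩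
    have hD2 : ∀ u ∈ U, D (lift u) = 0 := fun u hu => congrFun (congrArg Prod.snd hD) ⟨u, hu⟩
    have hDm : ∀ y ∈ IsLocalRing.maximalIdeal S, D y = 0 := by
      intro y hy
      rw [← hT] at hy
      induction hy using Submodule.span_induction with
      | mem x hx => exact hD1 x hx
      | zero => exact map_zero D
      | add x y _ _ hx hy => rw [map_add, hx, hy, add_zero]
      | smul a x hx ih =>
        rw [smul_eq_mul, Derivation.leibniz, ih, smul_zero, zero_add]
        rw [hT] at hx
        rw [Algebra.smul_def, hm x hx, zero_mul]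
    let N : Submodule Λ S := LinearMap.ker (D : S →ₗ[Λ] k)
    have hNm : ∀ y ∈ IsLocalRing.maximalIdeal S, y ∈ N := fun y hy => hDm y hy
    let g : S →ₗ[Λ] k := (IsScalarTower.toAlgHom Λ S k).toLinearMap
    have hg : ∀ x, g x = algebraMap S k x := fun x => rfl
    have hmap : Submodule.map g N = ⊤ := by
      rw [eq_top_iff, ← hU, Submodule.span_le]
      intro u hu
      exact ⟨lift u, hD2 u hu, hlift u⟩
    ext x
    have hx : g x ∈ Submodule.map g N := by rw [hmap]; trivial
    obtain ⟨n, hn, hnx⟩ := hx
    have h1 : x - n ∈ IsLocalRing.maximalIdeal S := by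
      rw [← hker, RingHom.mem_ker, map_sub, ← hg, ← hg, hnx, sub_self]
    have h2 : D (x - n) = 0 := hDm _ h1
    have h3 : D n = 0 := hn
    rw [map_sub, h3, sub_zero] at h2
    rw [h2]
    rfl
  exact Module.Finite.of_injective φ hφ

end Groth.Agent.S12715
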