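import Groth.Statements.S12727
import Mathlib
import Groth.Agent.Lib.Helper19.ArtFunBasic
-- import your own Groth.Agent.* helpers here

set_option autoImplicit false
universe u v
open CategoryTheory
open ArtFun

namespace Groth.Agent.S12727

/-- For functors, a functor on Artinian local Λ-algebras with residue field k with F(k) a point which
admits a versal family (over a complete local Noetherian ring with residue field k) satisfies
condition (S1). -/
theorem result {Λ : Type u} {k : Type u} [CommRing Λ] [Field k] [Algebra Λ k]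
    [IsNoetherianRing Λ] [Module.Finite Λ k]
    (F : ArtFun.Art Λ k ⥤ Type v) (h0 : ArtFun.H0 F) (hv : ArtFun.HasVersal F) :
    ArtFun.S1 F := by
  obtain ⟨⟨R, ξ, hξ⟩⟩ := hv
  intro B A A' A'' p' p'' f' f'' h hf''
  rintro ⟨⟨x', x''⟩, hx⟩
  have hx' : F.map f' x' = F.map f'' x'' := hx
  obtain ⟨ψ', hψ'⟩ :=
    Groth.Agent.Lib.Helper19.ArtFunBasic.surjective_app_of_isVersal h0 ξ hξ A' x'
  have h1 : F.map f'' x'' = ξ.app A (ArtFun.HomSet.map f' ψ') := by
    rw [ξ.natural, hψ', hx']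
  obtain ⟨ψ'', hψ''1, hψ''2⟩ := hξ f'' hf'' (ArtFun.HomSet.map f' ψ') x'' h1
  have hcomp : f'.toAlgHom.comp ψ'.1 = f''.toAlgHom.comp ψ''.1 :=
    (congrArg Subtype.val hψ''1).symm
  obtain ⟨ψ, hψ1, hψ2⟩ :=
    Groth.Agent.Lib.Helper19.ArtFunBasic.exists_lift_of_isFibreProd h ψ'.1 ψ''.1 hcomp
  have hres : B.res.comp ψ = R.res := by
    rw [← p'.res_comp, AlgHom.comp_assoc, hψ1, ψ'.2]
  let ψB : ArtFun.HomSet R.carrier R.res B := ⟨ψ, hres⟩
  have e1 : ArtFun.HomSet.map p' ψB = ψ' := Subtype.ext hψ1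
  have e2 : ArtFun.HomSet.map p'' ψB = ψ'' := Subtype.ext hψ2
  refine ⟨ξ.app B ψB, ?_⟩
  apply Subtype.ext
  apply Prod.ext
  · show F.map p' (ξ.app B ψB) = x'
    rw [← ξ.natural, e1, hψ']
  · show F.map p'' (ξ.app B ψB) = x''
    rw [← ξ.natural, e2, hψ''2]

end Groth.Agent.S12727
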