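import Groth.Statements.S12731
import Mathlib
import Groth.Agent.Lib.Helper19.ArtFunHR
import Groth.Agent.S12727
import Groth.Agent.S12715

set_option autoImplicit false
universe u v
open CategoryTheory
open ArtFun

namespace Groth.Agent.S12731

/-- For functors, if a functor F on Artinian local Λ-algebras with residue field k with F(k) a point has
a versal family over a complete local Noetherian ring with residue field k which is bijective on
tangent spaces (a hull), then F satisfies (S1) and (S2) and has finite-dimensional tangent space. -/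
theorem result {Λ : Type u} {k : Type u} [CommRing Λ] [Field k] [Algebra Λ k]
    [IsNoetherianRing Λ] [Module.Finite Λ k]
    (F : ArtFun.Art Λ k ⥤ Type v) [ArtFun.TangentStr F] (h0 : ArtFun.H0 F) (h : ArtFun.HasHull F) :
    ArtFun.S1 F ∧ ArtFun.Heps F ∧ ArtFun.Hfin F := by
  obtain ⟨⟨R, ξ, hvers, hbij⟩⟩ := h
  have h1 : ArtFun.S1 F := Groth.Agent.S12727.result F h0 ⟨⟨R, ξ, hvers⟩⟩
  refine ⟨h1, ?_, ?_⟩
  · intro B A' p' p'' hsq
    have hsurjD : Function.Surjective (ArtFun.Art.toBase (ArtFun.Art.dual Λ k)) :=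
      (ArtFun.Art.dual Λ k).res_surjective
    refine ⟨?_, h1 p' p'' _ _ hsq hsurjD⟩
    intro z₁ z₂ hz
    have hz1 : F.map p' z₁ = F.map p' z₂ := congrArg (fun t => t.1.1) hz
    have hz2 : F.map p'' z₁ = F.map p'' z₂ := congrArg (fun t => t.1.2) hz
    have hp' : Function.Surjective p' := by
      intro a'
      obtain ⟨d, hd⟩ := hsurjD (ArtFun.Art.toBase A' a')
      obtain ⟨b, hb, -⟩ := hsq.surj a' d hd.symm
      exact ⟨b, hb⟩
    obtain ⟨u', hu'⟩ := Groth.Agent.Lib.Helper19.ArtFunBasic.surjective_app_of_isVersal h0 ξ hvers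
      A' (F.map p' z₁)
    obtain ⟨v₁, hv₁, hv₁'⟩ := hvers p' hp' u' z₁ hu'.symm
    obtain ⟨v₂, hv₂, hv₂'⟩ := hvers p' hp' u' z₂ (hz1.symm.trans hu'.symm)
    have hw : ArtFun.HomSet.map p'' v₁ = ArtFun.HomSet.map p'' v₂ := by
      apply hbij.1
      rw [ξ.natural, ξ.natural, hv₁', hv₂', hz2]
    have hv : v₁ = v₂ :=
      Groth.Agent.Lib.Helper19.ArtFunHR.hR_lift_unique hsq v₁ v₂ (hv₁.trans hv₂.symm) hw
    rw [← hv₁', ← hv₂', hv]
  · letI := Groth.Agent.Lib.Helper19.ArtFunHR.algK R
    haveI := Groth.Agent.Lib.Helper19.ArtFunHR.isScalarTower_algK R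
    haveI := R.isAdicComplete
    haveI : Module.Finite k (Derivation Λ R.carrier k) :=
      Groth.Agent.S12715.result R.carrier R.res_surjective
    exact Module.Finite.of_surjective (Groth.Agent.Lib.Helper19.ArtFunHR.tangentLin R ξ)
      (Groth.Agent.Lib.Helper19.ArtFunHR.tangentLin_surjective R ξ hbij.2)

end Groth.Agent.S12731
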