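import Groth.Statements.S12252
import Mathlib
import Groth.Agent.Lib.Helper18.ProYoneda2

set_option autoImplicit false
universe u v
open CategoryTheory
open Deform

namespace Groth.Agent.S12252

/-- Let k be an algebraically closed field, Λ a complete local Noetherian k-algebra with residue field k
and F a set-valued functor on local Artinian Λ-algebras with residue field k. If (R, u) and (S, v)
both prorepresent F (complete local Noetherian Λ-algebras with residue field k carrying universal
families), then there is a unique isomorphism of Λ-algebras R ≅ S, compatible with the augmentations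
to k, along which the universal family of R is transported to that of S. -/
theorem result
    {k Λ : Type u} [Field k] [IsAlgClosed k] [CommRing Λ] [IsLocalRing Λ] [IsNoetherianRing Λ]
    [IsAdicComplete (IsLocalRing.maximalIdeal Λ) Λ] [Algebra k Λ] [Algebra Λ k] [IsScalarTower k Λ k]
    {F : ArtFun.Art Λ k ⥤ Type v} (P Q : ArtFun.ProRep F) :
    ∃! e : P.ring.carrier ≃ₐ[Λ] Q.ring.carrier,
      ∃ he : Q.ring.res.comp e.toAlgHom = P.ring.res, P.family.along e.toAlgHom he = Q.family := by
  classical
  obtain ⟨ψ, hψ, hPψ⟩ := Groth.Agent.Lib.Helper18.ProYoneda.exists_along_of_universal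
    P.family P.universal Q.ring Q.family
  obtain ⟨χ, hχ, hQχ⟩ := Groth.Agent.Lib.Helper18.ProYoneda.exists_along_of_universal
    Q.family Q.universal P.ring P.family
  -- χ ∘ ψ = id
  have h1 : χ.comp ψ = AlgHom.id Λ P.ring.carrier := by
    have hres1 : P.ring.res.comp (χ.comp ψ) = P.ring.res := by
      rw [← AlgHom.comp_assoc, hχ, hψ]
    have hres2 : P.ring.res.comp (AlgHom.id Λ P.ring.carrier) = P.ring.res := AlgHom.comp_id _
    apply Groth.Agent.Lib.Helper18.ProYoneda.along_injective P.family
      (fun A => (P.universal A).1) P.ring _ _ hres1 hres2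
    congr 1
    have e1 : P.family.along (χ.comp ψ) hres1 = (P.family.along ψ hψ).along χ hχ := by
      apply Groth.Agent.Lib.Helper18.ProYoneda.family_ext
      intro A φ
      rfl
    have e2 : P.family.along (AlgHom.id Λ P.ring.carrier) hres2 = P.family := by
      apply Groth.Agent.Lib.Helper18.ProYoneda.family_ext
      intro A φ
      rfl
    rw [e1, e2, hPψ, hQχ]
  have h2 : ψ.comp χ = AlgHom.id Λ Q.ring.carrier := by
    have hres1 : Q.ring.res.comp (ψ.comp χ) = Q.ring.res := by
      rw [← AlgHom.comp_assoc, hψ, hχ]
    have hres2 : Q.ring.res.comp (AlgHom.id Λ Q.ring.carrier) = Q.ring.res := AlgHom.comp_id _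
    apply Groth.Agent.Lib.Helper18.ProYoneda.along_injective Q.family
      (fun A => (Q.universal A).1) Q.ring _ _ hres1 hres2
    congr 1
    have e1 : Q.family.along (ψ.comp χ) hres1 = (Q.family.along χ hχ).along ψ hψ := by
      apply Groth.Agent.Lib.Helper18.ProYoneda.family_ext
      intro A φ
      rfl
    have e2 : Q.family.along (AlgHom.id Λ Q.ring.carrier) hres2 = Q.family := by
      apply Groth.Agent.Lib.Helper18.ProYoneda.family_ext
      intro A φ
      rfl
    rw [e1, e2, hQχ, hPψ]
  let e : P.ring.carrier ≃ₐ[Λ] Q.ring.carrier := AlgEquiv.ofAlgHom ψ χ h2 h1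
  have he : e.toAlgHom = ψ := AlgHom.ext fun _ => rfl
  refine ⟨e, ⟨by rw [he]; exact hψ, ?_⟩, ?_⟩
  · have : ∀ (g : P.ring.carrier →ₐ[Λ] Q.ring.carrier) (hgψ : g = ψ)
        (hg : Q.ring.res.comp g = P.ring.res), P.family.along g hg = Q.family := by
      intro g hgψ hg
      subst hgψ
      exact hPψ
    exact this _ he _
  · rintro e' ⟨he', hfam⟩
    have : e'.toAlgHom = ψ := by
      apply Groth.Agent.Lib.Helper18.ProYoneda.along_injective P.family
        (fun A => (P.universal A).1) Q.ring _ _ he' hψ
      rw [hfam, hPψ]
    apply AlgEquiv.ext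
    intro r
    have h3 : e'.toAlgHom r = ψ r := by rw [this]
    exact h3

end Groth.Agent.S12252
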