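import Groth.Statements.S12257
import Mathlib
import Groth.Agent.Lib.Helper18.FunctorTypeLimits

set_option autoImplicit false
universe u v
open CategoryTheory CategoryTheory.Limits
open Deform

namespace Groth.Agent.S12257

/-- Let k be an algebraically closed field, Λ a complete local Noetherian k-algebra with residue field
k, and F, G, H set-valued functors on local Artinian Λ-algebras with residue field k, each with
one-point value at k. If F → G is a smooth morphism of functors and H → G is any morphism, then the
second projection F ×_G H → H of the fibre product of functors is smooth. -/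
theorem result
    {k Λ : Type u} [Field k] [IsAlgClosed k] [CommRing Λ] [IsLocalRing Λ] [IsNoetherianRing Λ]
    [IsAdicComplete (IsLocalRing.maximalIdeal Λ) Λ] [Algebra k Λ] [Algebra Λ k] [IsScalarTower k Λ k]
    {F G H : ArtFun.Art Λ k ⥤ Type v} (η : F ⟶ G) (θ : H ⟶ G)
    (hF : ArtFun.H0 F) (hG : ArtFun.H0 G) (hH : ArtFun.H0 H) (hη : ArtFun.IsSmooth η) :
    ArtFun.IsSmooth (pullback.snd η θ) := by
  intro B A μ hμ y
  obtain ⟨⟨w, h⟩, hwh⟩ := y
  change (pullback.snd η θ).app A w = H.map μ h at hwh
  have hc : η.app A ((pullback.fst η θ).app A w) = θ.app A ((pullback.snd η θ).app A w) :=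
    congrArg (fun t => (ConcreteCategory.hom (t.app A)) w) (pullback.condition (f := η) (g := θ))
  have hrel : η.app A ((pullback.fst η θ).app A w) = G.map μ (θ.app B h) := by
    rw [hc, hwh]
    exact NatTrans.naturality_apply θ μ h
  obtain ⟨a', ha'⟩ := hη μ hμ ⟨((pullback.fst η θ).app A w, θ.app B h), hrel⟩
  have ha1 : F.map μ a' = (pullback.fst η θ).app A w := congrArg (fun t => t.1.1) ha'
  have ha2 : η.app B a' = θ.app B h := congrArg (fun t => t.1.2) ha'
  obtain ⟨z', hz1, hz2⟩ := Groth.Agent.Lib.Helper18.pullback_app_exists η θ B a' h ha2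
  refine ⟨z', Subtype.ext (Prod.ext ?_ ?_)⟩
  · change (pullback η θ).map μ z' = w
    apply Groth.Agent.Lib.Helper18.pullback_app_ext η θ A
    · rw [NatTrans.naturality_apply, hz1, ha1]
    · rw [NatTrans.naturality_apply, hz2, hwh]
  · exact hz2

end Groth.Agent.S12257
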