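import Groth.Statements.S1227
import Mathlib
-- import your own Groth.Agent.* helpers here

set_option autoImplicit false
universe u
open FlatMor

namespace Groth.Agent.S1227

open TensorProduct in
/-- Let u be a surjective linear map from a projective A-module M to an A-module N. Then there is an
ideal I of A such that for every A-algebra B, the base change u ⊗ 1 from B ⊗ M to B ⊗ N is bijective
if and only if the image of I in B is zero. -/
theorem result {A : Type u} [CommRing A] {M N : Type u} [AddCommGroup M] [Module A M] [Module.Projective A M]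
    [AddCommGroup N] [Module A N] (u : M →ₗ[A] N) (hu : Function.Surjective u) :
    ∃ I : Ideal A, ∀ (B : Type u) [CommRing B] [Algebra A B],
      Function.Bijective (u.baseChange B) ↔ I.map (algebraMap A B) = ⊥ := by
  classical
  let T : Set A := {a | ∃ (φ : M →ₗ[A] A) (k : M), u k = 0 ∧ φ k = a}
  refine ⟨Ideal.span T, fun B _ _ => ?_⟩
  obtain ⟨s, hs⟩ := (Module.projective_def' (R := A) (P := M)).mp inferInstance
  have hsurj : Function.Surjective (u.baseChange B) := by
    rw [LinearMap.baseChange_eq_ltensor]
    exact LinearMap.lTensor_surjective B hu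
  have hexact : Function.Exact ((LinearMap.ker u).subtype.lTensor B) (u.lTensor B) :=
    lTensor_exact B (LinearMap.exact_subtype_ker_map u) hu
  -- key equivalence
  have hinj : Function.Injective (u.baseChange B) ↔ ∀ k : M, u k = 0 → (1 : B) ⊗ₜ[A] k = 0 := by
    constructor
    · intro h k hk
      apply h
      rw [LinearMap.baseChange_tmul, hk, tmul_zero, map_zero]
    · intro h
      rw [← LinearMap.ker_eq_bot, eq_bot_iff]
      intro z hz
      have hz' : (u.lTensor B) z = 0 := hz
      obtain ⟨w, rfl⟩ := (hexact z).mp hz'
      rw [Submodule.mem_bot]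
      clear hz hz'
      induction w using TensorProduct.induction_on with
      | zero => simp
      | tmul b k =>
        rw [LinearMap.lTensor_tmul]
        have : b ⊗ₜ[A] (k : M) = b • ((1 : B) ⊗ₜ[A] (k : M)) := by
          rw [smul_tmul', smul_eq_mul, mul_one]
        rw [Submodule.subtype_apply, this, h k k.2, smul_zero]
      | add x y hx hy => rw [map_add, hx, hy, add_zero]
  have hmap : Ideal.map (algebraMap A B) (Ideal.span T) = ⊥ ↔ ∀ a ∈ T, algebraMap A B a = 0 := by
    rw [Ideal.map_span, Ideal.span_eq_bot]
    constructor
    · intro h a ha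
      exact h _ ⟨a, ha, rfl⟩
    · rintro h _ ⟨a, ha, rfl⟩
      exact h a ha
  rw [hmap]
  constructor
  · intro hbij a ha
    obtain ⟨φ, k, hk, rfl⟩ := ha
    have h1 := (hinj.mp hbij.1) k hk
    have h2 := congrArg (φ.baseChange B) h1
    rw [LinearMap.baseChange_tmul, map_zero] at h2
    have h3 := congrArg (Algebra.TensorProduct.rid A B B) h2
    simpa [Algebra.smul_def] using h3
  · intro h
    refine ⟨hinj.mpr ?_, hsurj⟩
    intro k hk
    have hk1 : k = Finsupp.linearCombination A id (s k) := by
      have := congrArg (fun f => f k) hs
      simpa using this.symm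
    have hcoef : ∀ m : M, algebraMap A B ((s k) m) = 0 := by
      intro m
      apply h
      exact ⟨(Finsupp.lapply m).comp s, k, hk, rfl⟩
    rw [hk1, Finsupp.linearCombination_apply, Finsupp.sum, tmul_sum]
    refine Finset.sum_eq_zero fun m _ => ?_
    rw [id, tmul_smul, smul_tmul', Algebra.smul_def, mul_one, hcoef m, zero_tmul]

end Groth.Agent.S1227
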