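import Groth.Statements.S12291
import Mathlib
import Groth.Agent.Lib.Helper18.CotTCI
import Groth.Agent.Lib.Helper18.CotTCI2
import Groth.Agent.Lib.Helper18.CotTReg
import Groth.Agent.Lib.Helper18.CotTEmpty
import Groth.Agent.Lib.Helper4.RegCM

set_option autoImplicit false
universe u w m
open scoped TensorProduct
open DefT

namespace Groth.Agent.S12291

/-- Let k be an algebraically closed field and A a regular local k-algebra with residue field k such
that T^1(A/k, N) = 0 and T^2(A/k, N) = 0 for all A-modules N; let I be a proper ideal of A and B =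
A/I. Then B is cut out of A as a local complete intersection — meaning I is generated by some list
of r elements with r + dim B = dim A, i.e. by dim A − dim B elements — exactly when T^2(B/k, M)
vanishes for each B-module M. The T^i are computed from the choice-free presentations. (The
published statement assumes only that A is a regular local k-algebra with residue field k; its proof
uses the vanishing of T^1(A/k, −) and T^2(A/k, −), which holds when A is essentially of finite type
over k and which this row carries as a hypothesis.) -/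
theorem result
    (k A : Type u) [Field k] [IsAlgClosed k] [CommRing A] [IsRegularLocalRing A] [Algebra k A]
    (hres : Function.Surjective (algebraMap k (IsLocalRing.ResidueField A)))
    (hT : ∀ (N : Type u) [AddCommGroup N] [Module A N],
      Subsingleton (CotT.T1 (CotT.canon k A) N) ∧ Subsingleton (CotT.T2 (CotT.canon k A) N))
    (I : Ideal A) (hI : I ≠ ⊤) :
    (∃ rs : List A, Ideal.ofList rs = I ∧ (rs.length : WithBot ℕ∞) + ringKrullDim (A ⧸ I) = ringKrullDim A) ↔
      ∀ (M : Type u) [AddCommGroup M] [Module (A ⧸ I) M], Subsingleton (CotT.T2 (CotT.canon k (A ⧸ I)) M) := by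
  have hs : Function.Surjective (algebraMap A (A ⧸ I)) := Ideal.Quotient.mk_surjective
  have hkerI : RingHom.ker (algebraMap A (A ⧸ I)) = I := Ideal.mk_ker
  have hImax : I ≤ IsLocalRing.maximalIdeal A := IsLocalRing.le_maximalIdeal hI
  -- transfer between `T²((A/I)/A)` and `T²((A/I)/k)`
  have transfer : ∀ {ι' σ' : Type} (Q : Algebra.Presentation A (A ⧸ I) ι' σ') (M : Type u)
      [AddCommGroup M] [Module (A ⧸ I) M],
      Subsingleton (CotT.T2 Q M) ↔ Subsingleton (CotT.T2 (CotT.canon k (A ⧸ I)) M) := by
    intro ι' σ' Q M _ _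
    letI : Module A M := Module.compHom M (algebraMap A (A ⧸ I))
    haveI : IsScalarTower A (A ⧸ I) M := IsScalarTower.of_compHom A (A ⧸ I) M
    exact Groth.Agent.Lib.Helper18.CotTCI.subsingleton_T2_iff_of_base (k := k) Q M
      (hT M).1 (hT M).2
  constructor
  · rintro ⟨rs, hrs, hdim⟩ M _ _
    have hker : RingHom.ker (algebraMap A (A ⧸ I)) = Ideal.ofList rs := by rw [hkerI, hrs]
    have hxs : ∀ x ∈ rs, x ∈ IsLocalRing.maximalIdeal A := by
      intro x hx
      apply hImax
      rw [← hrs]
      exact Ideal.subset_span hx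
    have eq : Ideal.ofList rs = Ideal.ofList rs • (⊤ : Ideal A) := by simp
    have hdim' : Module.supportDim A (A ⧸ Ideal.ofList rs • (⊤ : Submodule A A)) + rs.length =
        Module.supportDim A A := by
      have h1 : ringKrullDim (A ⧸ I) =
          Module.supportDim A (A ⧸ Ideal.ofList rs • (⊤ : Ideal A)) := by
        rw [Module.supportDim_quotient_eq_ringKrullDim]
        exact ringKrullDim_eq_of_ringEquiv
          (Ideal.quotientEquivAlgOfEq A (hrs.symm.trans eq)).toRingEquiv
      rw [Module.supportDim_self_eq_ringKrullDim, ← hdim, h1, add_comm]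
    have hreg : RingTheory.Sequence.IsWeaklyRegular A rs :=
      Groth.Agent.Lib.Helper4.cm_isWeaklyRegular_of_supportDim
        (Groth.Agent.Lib.Helper4.RegCM.isCohenMacaulayModule_self A) rs hxs hdim'
    exact (transfer (Groth.Agent.Lib.Helper18.CotTReg.quotPres hs rs hker) M).1
      (Groth.Agent.Lib.Helper18.CotTEmpty.subsingleton_T2_of_relKer_le _ M
        (Groth.Agent.Lib.Helper18.CotTReg.relKer_le_trivRel_quotPres hs rs hker hreg))
  · intro hall
    obtain ⟨n, r, hr, hmin⟩ := Groth.Agent.Lib.Helper18.CotTCI.exists_minimal_family I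
    have hker : RingHom.ker (algebraMap A (A ⧸ I)) = Ideal.span (Set.range r) := by
      rw [hkerI, hr]
    have : Nontrivial (A ⧸ I) := Ideal.Quotient.nontrivial_iff.2 hI
    have : IsLocalRing (A ⧸ I) :=
      IsLocalRing.of_surjective' (Ideal.Quotient.mk I) Ideal.Quotient.mk_surjective
    have hT2Q : Subsingleton (CotT.T2 (Groth.Agent.Lib.Helper18.CotTCI.quotPresFn hs r hker)
        (CotT.L2 (Groth.Agent.Lib.Helper18.CotTCI.quotPresFn hs r hker))) :=
      (transfer _ _).2 (hall _)
    have hL2 : Subsingleton (CotT.L2 (Groth.Agent.Lib.Helper18.CotTCI.quotPresFn hs r hker)) :=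
      Groth.Agent.Lib.Helper18.CotTCI.subsingleton_L2 _ hT2Q
        (Groth.Agent.Lib.Helper18.CotTCI.algebraMap_mem_maximalIdeal hs r hker hmin)
    have htriv : Groth.Agent.Lib.Helper18.CotTKoszul.Triv r :=
      Groth.Agent.Lib.Helper18.CotTCI.triv_of_relKer_le hs r hker
        (Groth.Agent.Lib.Helper18.CotTCI.relKer_le_trivRel_of_subsingleton _)
    have hmem : ∀ i, r i ∈ IsLocalRing.maximalIdeal A := fun i =>
      hImax (hr ▸ Ideal.subset_span ⟨i, rfl⟩)
    have hwreg := Groth.Agent.Lib.Helper18.CotTKoszul.isWeaklyRegular_of_triv n r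
      (fun i => by rw [IsLocalRing.jacobson_eq_maximalIdeal ⊥ bot_ne_top]; exact hmem i) htriv
    have hreg : RingTheory.Sequence.IsRegular A (List.ofFn r) :=
      RingTheory.Sequence.IsRegular.of_isWeaklyRegular_of_mem_maximalIdeal A
        (fun x hx => by
          rw [List.mem_ofFn] at hx
          obtain ⟨i, rfl⟩ := hx
          exact hmem i) hwreg
    have hof : Ideal.ofList (List.ofFn r) = I := by
      rw [Groth.Agent.Lib.Helper18.CotTKoszul.ofList_ofFn, hr]
    refine ⟨List.ofFn r, hof, ?_⟩
    have h1 := ringKrullDim_add_length_eq_ringKrullDim_of_isRegular (List.ofFn r) hreg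
    rw [add_comm, ← h1]
    congr 1
    exact ringKrullDim_eq_of_ringEquiv (Ideal.quotientEquivAlgOfEq A hof.symm).toRingEquiv

end Groth.Agent.S12291
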