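import Groth.Statements.S12295
import Mathlib
import Groth.Agent.Lib.Helper18.CotTNine4
import Groth.Agent.Lib.Helper18.CotTEmpty

set_option autoImplicit false
universe u w m
open scoped TensorProduct
open DefT

namespace Groth.Agent.S12295

/-- Let k be a commutative ring, B a k-algebra and P a presentation of B over k with polynomial ring R =
k[x_i] (any set of variables), so that B = R/I; let P' be a presentation of B over R with no
polynomial variables (R itself mapping onto B, with chosen generators of I), and M a B-module. Then
T^2(B/R, M), computed from P', and T^2(B/k, M), computed from P, are isomorphic B-modules.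
(Existence of a B-linear isomorphism only; the published statement has finitely many variables over
a field and notes that any base ring works.) -/
theorem result
    (k B : Type u) [CommRing k] [CommRing B] [Algebra k B] (ι σ ι' σ' : Type w)
    (P : Algebra.Presentation k B ι σ) [IsEmpty ι']
    (P' : Algebra.Presentation P.toExtension.Ring B ι' σ')
    (M : Type m) [AddCommGroup M] [Module B M] :
    Nonempty (CotT.T2 P' M ≃ₗ[B] CotT.T2 P M) := by
  letI : Module P.toExtension.Ring M := Module.compHom M (algebraMap P.toExtension.Ring B)
  haveI : IsScalarTower P.toExtension.Ring B M := IsScalarTower.of_compHom P.toExtension.Ring B M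
  let PR : Algebra.Presentation k P.toExtension.Ring ι PEmpty.{1} :=
    Groth.Agent.Lib.Helper18.CotTEmpty.polyPres
      (AlgEquiv.refl : MvPolynomial ι k ≃ₐ[k] MvPolynomial ι k)
  obtain ⟨-, -, -, e2, δ₀, δ₁, -, -, d11, d12⟩ :=
    Groth.Agent.Lib.Helper18.CotTNine.nine_comp PR P' M
  haveI := Groth.Agent.Lib.Helper18.CotTEmpty.subsingleton_T1_of_isEmpty PR M
  haveI := Groth.Agent.Lib.Helper18.CotTEmpty.subsingleton_T2_of_isEmpty PR M
  have hinj : Function.Injective ((Groth.Agent.Lib.Helper18.CotTNine.fHom PR P').T2pull M) := by
    rw [injective_iff_map_eq_zero]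
    intro x hx
    obtain ⟨y, rfl⟩ := (d12 x).1 hx
    rw [Subsingleton.elim y 0, map_zero]
  have hsurj : Function.Surjective ((Groth.Agent.Lib.Helper18.CotTNine.fHom PR P').T2pull M) := by
    intro y
    exact (e2 y).1 (Subsingleton.elim _ _)
  exact ⟨(LinearEquiv.ofBijective ((Groth.Agent.Lib.Helper18.CotTNine.fHom PR P').T2pull M)
    ⟨hinj, hsurj⟩).trans (Groth.Agent.Lib.Helper18.CotTInv.T2equiv P (P'.comp PR) M)⟩

end Groth.Agent.S12295
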