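import Groth.Statements.S12299
import Mathlib
import Groth.Agent.Lib.Helper18.ProYoneda2
import Groth.Agent.Lib.Helper18.ArtTangent

set_option autoImplicit false
universe u v
open CategoryTheory
open ArtFun

namespace Groth.Agent.S12299

/-- Let k be an algebraically closed field, F a set-valued functor on local Artinian k-algebras with
residue field k, and (R, ξ) a miniversal family for F, with R a complete local Noetherian k-algebra
with residue field k: the morphism h_R → F has the lifting property along surjections and is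
bijective on the dual numbers. Let S be a complete local Noetherian k-algebra with residue field k
and g₁, g₂ : R → S two k-algebra maps compatible with the augmentations along which ξ induces the
same formal family over S (the same compatible sequence in the F(S/m^(n+1))). Then g₁ and g₂ induce
the same map R → S/m_S², so the map R/m_R² → S/m_S² attached to a formal family over S is well
defined. (Coefficient rings are taken Noetherian here.) -/
theorem result
    {k : Type u} [Field k] [IsAlgClosed k] {F : ArtFun.Art k k ⥤ Type v}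
    (R : ArtFun.CRing k k) (ξ : ArtFun.Family R.carrier R.res F) (hξ : ArtFun.IsMiniversal ξ)
    (S : ArtFun.CRing k k) (g₁ g₂ : R.carrier →ₐ[k] S.carrier)
    (hg₁ : S.res.comp g₁ = R.res) (hg₂ : S.res.comp g₂ = R.res)
    (h : (ξ.along g₁ hg₁).toFormalElt = (ξ.along g₂ hg₂).toFormalElt) :
    (S.truncHom 1).1.comp g₁ = (S.truncHom 1).1.comp g₂ := by
  classical
  have hsq : ∀ a b : (S.trunc 1 : ArtFun.Art k k), (S.trunc 1).res a = 0 → (S.trunc 1).res b = 0 →
      a * b = 0 := by
    intro a b ha hb
    obtain ⟨a', rfl⟩ := Ideal.Quotient.mk_surjective a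
    obtain ⟨b', rfl⟩ := Ideal.Quotient.mk_surjective b
    have ha' : a' ∈ IsLocalRing.maximalIdeal S.carrier := (ArtFun.CRing.mem_maximalIdeal_iff S a').2 ha
    have hb' : b' ∈ IsLocalRing.maximalIdeal S.carrier := (ArtFun.CRing.mem_maximalIdeal_iff S b').2 hb
    change (Ideal.Quotient.mk (S.mpow 1) a' * Ideal.Quotient.mk (S.mpow 1) b' :
      S.carrier ⧸ S.mpow 1) = 0
    rw [← map_mul]
    apply Ideal.Quotient.eq_zero_iff_mem.2
    change a' * b' ∈ IsLocalRing.maximalIdeal S.carrier ^ (1 + 1)
    rw [pow_succ, pow_one]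
    exact Ideal.mul_mem_mul ha' hb'
  let ψ₁ := Groth.Agent.Lib.Helper18.ProYoneda.truncComp S g₁ hg₁ 1
  let ψ₂ := Groth.Agent.Lib.Helper18.ProYoneda.truncComp S g₂ hg₂ 1
  have hξ12 : ξ.app _ ψ₁ = ξ.app _ ψ₂ := congrArg (fun u => u.elt 1) h
  have hp : ∀ p : S.trunc 1 ⟶ ArtFun.Art.dual k k, ArtFun.HomSet.map p ψ₁ = ArtFun.HomSet.map p ψ₂ := by
    intro p
    apply hξ.2.1
    rw [ξ.natural, ξ.natural, hξ12]
  apply AlgHom.ext
  intro r
  by_contra hne
  have hd : ψ₁.1 r - ψ₂.1 r ≠ 0 := sub_ne_zero.2 hne
  obtain ⟨p, hpd⟩ := Groth.Agent.Lib.Helper18.ArtTangent.exists_hom_dual_ne (S.trunc 1) hsq _ hd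
  apply hpd
  have := DFunLike.congr_fun (congrArg Subtype.val (hp p)) r
  change p.toAlgHom (ψ₁.1 r) = p.toAlgHom (ψ₂.1 r) at this
  change p.toAlgHom (ψ₁.1 r - ψ₂.1 r) = 0
  rw [map_sub, this, sub_self]

end Groth.Agent.S12299
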