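import Groth.Statements.S12304
import Mathlib
import Groth.Agent.Lib.Helper19.ArtFunNoeth

set_option autoImplicit false
universe u
open CategoryTheory CategoryTheory.Limits AlgebraicGeometry
open ArtFun

namespace Groth.Agent.S12304

open Groth.Agent.Lib.Helper19.ArtFunNoeth

theorem exists_local_of_point_eq (M : Scheme.{u}) (R : CommRingCat.{u}) [IsLocalRing R]
    (g : Spec R ⟶ M) (x : M) (hx : g (IsLocalRing.closedPoint R) = x) :
    ∃ φ : M.presheaf.stalk x ⟶ R, IsLocalHom φ.hom ∧ Spec.map φ ≫ M.fromSpecStalk x = g := by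
  subst hx
  exact ⟨Scheme.stalkClosedPointTo g, inferInstance,
    Scheme.Spec_stalkClosedPointTo_fromSpecStalk g⟩

theorem hom_eq_of_spec_eq (M : Scheme.{u}) (R : CommRingCat.{u}) [IsLocalRing R] (x : M)
    (φ₁ φ₂ : M.presheaf.stalk x ⟶ R) (h₁ : IsLocalHom φ₁.hom) (h₂ : IsLocalHom φ₂.hom)
    (h : Spec.map φ₁ ≫ M.fromSpecStalk x = Spec.map φ₂ ≫ M.fromSpecStalk x) : φ₁ = φ₂ := by
  have e : (⟨x, ⟨φ₁, h₁⟩⟩ : Σ x, { f : M.presheaf.stalk x ⟶ R // IsLocalHom f.hom }) =
      ⟨x, ⟨φ₂, h₂⟩⟩ := (SpecToEquivOfLocalRing M R).symm.injective h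
  have e2 := sigma_mk_injective e
  exact congrArg Subtype.val e2

theorem closedPoint_eq (M : Scheme.{u}) (R : CommRingCat.{u}) [IsLocalRing R] (x : M)
    (φ : M.presheaf.stalk x ⟶ R) (hφ : IsLocalHom φ.hom) :
    (Spec.map φ ≫ M.fromSpecStalk x) (IsLocalRing.closedPoint R) = x := by
  rw [Scheme.Hom.comp_apply, Spec.map_apply]
  haveI := hφ
  rw [IsLocalRing.comap_closedPoint φ.hom]
  exact Scheme.fromSpecStalk_closedPoint

theorem main {k : Type u} [Field k] (M : Scheme.{u}) (m : M ⟶ Spec (CommRingCat.of k))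
    (x₀ : Spec (CommRingCat.of k) ⟶ M) (hx₀ : x₀ ≫ m = 𝟙 _)
    (O : CommRingCat.{u}) [IsLocalRing O] [IsNoetherianRing O] (j : Spec O ⟶ M)
    (π₀ : O ⟶ CommRingCat.of k) (hloc : IsLocalHom π₀.hom)
    (hπ₀ : Spec.map π₀ ≫ j = x₀)
    (hI : ∀ (R : CommRingCat.{u}) [IsLocalRing R] (φ₁ φ₂ : O ⟶ R), IsLocalHom φ₁.hom →
      IsLocalHom φ₂.hom → Spec.map φ₁ ≫ j = Spec.map φ₂ ≫ j → φ₁ = φ₂)
    (hS : ∀ (R : CommRingCat.{u}) [IsLocalRing R] (g : Spec R ⟶ M),
      g (IsLocalRing.closedPoint R) = j (IsLocalRing.closedPoint O) →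
      ∃ φ : O ⟶ R, IsLocalHom φ.hom ∧ Spec.map φ ≫ j = g) :
    ∃ (R : ArtFun.CRing k k)
      (e : ∀ A : ArtFun.Art k k, ArtFun.HomSet R.carrier R.res A ≃
        {g : ArtFun.Art.spec A ⟶ M // g ≫ m = ArtFun.Art.specMap (ArtFun.Art.ofBase A) ∧
          ArtFun.Art.specRes A ≫ g = x₀}),
      ∀ (A B : ArtFun.Art k k) (h : A ⟶ B) (φ : ArtFun.HomSet R.carrier R.res A),
        ((e B) (ArtFun.HomSet.map h φ)).1 = ArtFun.Art.specMap h ≫ ((e A) φ).1 := by
  classical
  let a₀ : CommRingCat.of k ⟶ O := Spec.preimage (j ≫ m)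
  have ha₀ : Spec.map a₀ = j ≫ m := Spec.map_preimage _
  have hcomp : a₀ ≫ π₀ = 𝟙 _ := by
    apply Spec.map_injective
    rw [Spec.map_comp, ha₀, ← Category.assoc, hπ₀, hx₀, Spec.map_id]
  letI alg : Algebra k O := a₀.hom.toAlgebra
  have hπa : ∀ c : k, π₀.hom (a₀.hom c) = c := fun c => by
    have := congrArg (fun f => f.hom c) hcomp
    exact this
  let π : O →ₐ[k] k :=
    { toRingHom := π₀.hom
      commutes' := fun c => hπa c }
  have hπsurj : Function.Surjective π := fun c => ⟨a₀.hom c, hπa c⟩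
  obtain ⟨P, ι, h1, h2, h3, -⟩ :=
    exists_cring_of_noetherian (Λ := k) (k := k) O π hπsurj
  have key1 : ∀ (B : Art k k) (φ : O →ₐ[k] B),
      (Spec.map (CommRingCat.ofHom φ.toRingHom : O ⟶ CommRingCat.of B) ≫ j) ≫ m =
        Art.specMap (Art.ofBase B) := by
    intro B φ
    have e : a₀ ≫ (CommRingCat.ofHom φ.toRingHom : O ⟶ CommRingCat.of B) =
        CommRingCat.ofHom (Algebra.ofId k B).toRingHom := by
      ext c
      exact φ.commutes c
    rw [Category.assoc, ← ha₀, ← Spec.map_comp, e]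
    rfl
  have key2 : ∀ (B : Art k k) (φ : O →ₐ[k] B), B.res.comp φ = π →
      Art.specRes B ≫ (Spec.map (CommRingCat.ofHom φ.toRingHom :
        O ⟶ CommRingCat.of B) ≫ j) = x₀ := by
    intro B φ hφ
    have e : (CommRingCat.ofHom φ.toRingHom : O ⟶ CommRingCat.of B) ≫
        CommRingCat.ofHom B.res.toRingHom = π₀ := by
      ext a
      exact AlgHom.congr_fun hφ a
    rw [← Category.assoc, ← Spec.map_comp, e, hπ₀]
  have hres : ∀ (B : Art k k) (ψ : HomSet P.carrier P.res B), B.res.comp (ψ.1.comp ι) = π := by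
    intro B ψ
    rw [← AlgHom.comp_assoc, ψ.2, h1]
  obtain ⟨F, hF⟩ : ∃ F : ∀ B : Art k k, HomSet P.carrier P.res B →
      {g : Art.spec B ⟶ M // g ≫ m = Art.specMap (Art.ofBase B) ∧ Art.specRes B ≫ g = x₀},
      ∀ B ψ, (F B ψ).1 = Spec.map (CommRingCat.ofHom (ψ.1.comp ι).toRingHom :
        O ⟶ CommRingCat.of B) ≫ j :=
    ⟨fun B ψ => ⟨_, key1 B (ψ.1.comp ι), key2 B (ψ.1.comp ι) (hres B ψ)⟩, fun _ _ => rfl⟩
  have hlocal : ∀ (B : Art k k) (φ : O →ₐ[k] B), B.res.comp φ = π →
      IsLocalHom (CommRingCat.ofHom φ.toRingHom : O ⟶ CommRingCat.of B).hom := by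
    intro B φ hφ
    refine ⟨fun a ha => ?_⟩
    apply hloc.map_nonunit a
    have e : π₀.hom a = B.res (φ a) := (AlgHom.congr_fun hφ a).symm
    rw [e]
    exact ha.map B.res
  have hinj : ∀ B, Function.Injective (F B) := by
    intro B ψ₁ ψ₂ h
    have h' := congrArg Subtype.val h
    rw [hF, hF] at h'
    have e := hI (CommRingCat.of B) _ _ (hlocal B _ (hres B ψ₁))
      (hlocal B _ (hres B ψ₂)) h'
    apply h3 B ψ₁ ψ₂
    apply AlgHom.ext
    intro a
    exact congrArg (fun f => f.hom a) e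
  have hx₀pt : x₀ (IsLocalRing.closedPoint (CommRingCat.of k)) =
      j (IsLocalRing.closedPoint O) := by
    rw [← hπ₀, Scheme.Hom.comp_apply, Spec.map_apply]
    have := hloc
    rw [IsLocalRing.comap_closedPoint π₀.hom]
  have hsurj : ∀ B, Function.Surjective (F B) := by
    intro B ⟨g, hg1, hg2⟩
    have hresloc : IsLocalHom (CommRingCat.ofHom B.res.toRingHom :
        CommRingCat.of B ⟶ CommRingCat.of k).hom := by
      refine ⟨fun a ha => ?_⟩
      by_contra hna
      have hmem : a ∈ IsLocalRing.maximalIdeal B := hna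
      rw [Art.mem_maximalIdeal_iff] at hmem
      have ha' : IsUnit (B.res a) := ha
      rw [hmem] at ha'
      exact not_isUnit_zero ha'
    have e1 : (Art.specRes B) (IsLocalRing.closedPoint (CommRingCat.of k)) =
        IsLocalRing.closedPoint (CommRingCat.of B) := by
      rw [Spec.map_apply]
      have := hresloc
      exact IsLocalRing.comap_closedPoint _
    have hpt : g (IsLocalRing.closedPoint (CommRingCat.of B)) =
        j (IsLocalRing.closedPoint O) := by
      have e2 : (Art.specRes B ≫ g) (IsLocalRing.closedPoint (CommRingCat.of k)) =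
          g (IsLocalRing.closedPoint (CommRingCat.of B)) := by
        rw [Scheme.Hom.comp_apply, e1]
      rw [← e2, hg2]
      exact hx₀pt
    obtain ⟨φ, hφloc, hφ⟩ := hS (CommRingCat.of B) g hpt
    have hφa : a₀ ≫ φ = CommRingCat.ofHom (Algebra.ofId k B).toRingHom := by
      apply Spec.map_injective
      rw [Spec.map_comp, ha₀, ← Category.assoc, hφ, hg1]
      rfl
    let φa : O →ₐ[k] B :=
      { toRingHom := φ.hom
        commutes' := fun c => congrArg (fun f => f.hom c) hφa }
    have hφres : B.res.comp φa = π := by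
      have e : φ ≫ CommRingCat.ofHom B.res.toRingHom = π₀ := by
        refine hI (CommRingCat.of k) _ _ ?_ hloc ?_
        · have := hφloc
          have := hresloc
          exact RingHom.isLocalHom_comp (CommRingCat.ofHom B.res.toRingHom :
            CommRingCat.of B ⟶ CommRingCat.of k).hom φ.hom
        · rw [Spec.map_comp, Category.assoc, hφ, hπ₀]
          exact hg2
      apply AlgHom.ext
      intro a
      exact congrArg (fun f => f.hom a) e
    obtain ⟨ψ, hψ⟩ := h2 B φa hφres
    refine ⟨ψ, Subtype.ext ?_⟩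
    rw [hF, hψ]
    exact hφ
  refine ⟨P, fun B => Equiv.ofBijective (F B) ⟨hinj B, hsurj B⟩, ?_⟩
  intro A B h φ
  show (F B (HomSet.map h φ)).1 = Art.specMap h ≫ (F A φ).1
  rw [hF, hF, ← Category.assoc, ← Spec.map_comp]
  rfl

/-- Let k be an algebraically closed field, M a locally Noetherian k-scheme and x₀ : Spec k → M a
k-rational point. For a local Artinian k-algebra A with residue field k consider the k-morphisms
Spec A → M whose restriction along the closed point Spec k → Spec A is x₀ (the local functor of M at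
x₀, a morphism A → B acting by composition with Spec B → Spec A). This functor is pro-representable:
there are a complete local Noetherian k-algebra R with residue field k and bijections, natural in A,
between the augmentation-compatible k-algebra maps R → A and these morphisms. (The published
statement is phrased for the fine moduli scheme M of a moduli problem, whose local functor at the
point of a given object is this one; M is taken locally Noetherian here so that the coefficient ring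
is Noetherian.) -/
theorem result
    {k : Type u} [Field k] [IsAlgClosed k] (M : Scheme.{u}) (m : M ⟶ Spec (CommRingCat.of k))
    [IsLocallyNoetherian M] (x₀ : Spec (CommRingCat.of k) ⟶ M) (hx₀ : x₀ ≫ m = 𝟙 _) :
    ∃ (R : ArtFun.CRing k k)
      (e : ∀ A : ArtFun.Art k k, ArtFun.HomSet R.carrier R.res A ≃
        {g : ArtFun.Art.spec A ⟶ M // g ≫ m = ArtFun.Art.specMap (ArtFun.Art.ofBase A) ∧ ArtFun.Art.specRes A ≫ g = x₀}),
      ∀ (A B : ArtFun.Art k k) (h : A ⟶ B) (φ : ArtFun.HomSet R.carrier R.res A),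
        ((e B) (ArtFun.HomSet.map h φ)).1 = ArtFun.Art.specMap h ≫ ((e A) φ).1 := by
  exact main M m x₀ hx₀ (M.presheaf.stalk _) (M.fromSpecStalk _)
    (Scheme.stalkClosedPointTo x₀) inferInstance
    (Scheme.Spec_stalkClosedPointTo_fromSpecStalk x₀)
    (fun R _ φ₁ φ₂ h₁ h₂ h => hom_eq_of_spec_eq M R _ φ₁ φ₂ h₁ h₂ h)
    (fun R _ g hg => exists_local_of_point_eq M R g _
      (hg.trans Scheme.fromSpecStalk_closedPoint))

end Groth.Agent.S12304
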