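import Groth.Statements.S12306
import Groth.Agent.Lib.Helper19.RigSmE

set_option autoImplicit false
universe u
open CotT

namespace Groth.Agent.S12306

/-- Let k be an algebraically closed field and B₀ a finitely generated k-algebra which is not smooth
over k and is rigid, in the sense that the cotangent module T¹(B₀/k, B₀) (from the choice-free
presentation) vanishes. Let A be a finitely generated k-algebra which is a domain, smooth over k of
Krull dimension one, t ∈ A an element generating a maximal ideal, and B a finitely generated flat
A-algebra, a k-algebra compatibly with A, whose fibre B/tB is k-isomorphic to B₀. Then this family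
does not smooth Spec B₀: there is a prime of B not containing t at which B is not smooth over A.
(The published statement asserts that a singular rigid scheme admits no smoothing by any flat
family; this row states it for flat families with affine total space over an affine nonsingular
curve whose point is cut out by one equation.) -/
theorem result
    {k : Type u} [Field k] [IsAlgClosed k] (B₀ : Type u) [CommRing B₀] [Algebra k B₀] [Algebra.FiniteType k B₀]
    (hsing : ¬ Algebra.Smooth k B₀) (hrigid : Subsingleton (CotT.T1 (CotT.canon k B₀) B₀))
    (A B : Type u) [CommRing A] [CommRing B] [IsDomain A] [Algebra k A] [Algebra.FiniteType k A]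
    [Algebra.Smooth k A] (hdim : ringKrullDim A = 1) (t : A) (ht : (Ideal.span {t}).IsMaximal)
    [Algebra A B] [Algebra.FiniteType A B] [Module.Flat A B] [Algebra k B] [IsScalarTower k A B]
    (e : (B ⧸ Ideal.span {algebraMap A B t}) ≃ₐ[k] B₀) :
    ∃ q : PrimeSpectrum B, algebraMap A B t ∉ q.asIdeal ∧ q ∉ Algebra.smoothLocus A B := by
  by_contra hcon
  push Not at hcon
  have ht0 : t ≠ 0 := by
    intro h0
    subst h0
    have hbot : (⊥ : Ideal A).IsMaximal := by
      have h1 : Ideal.span {(0 : A)} = ⊥ := Ideal.span_singleton_eq_bot.mpr rfl
      rw [← h1]
      exact ht
    have hF : IsField A := Ring.isField_iff_maximal_bot.mpr hbot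
    rw [ringKrullDim_eq_zero_of_isField hF] at hdim
    exact zero_ne_one hdim
  have hT := Groth.Agent.Lib.Helper19.RigSm.ext_trivial_of_subsingleton_T1 k B₀ hrigid
  have hfs : Algebra.FormallySmooth k B₀ :=
    Groth.Agent.Lib.Helper19.RigSm.formallySmooth_fibre_of_rigid B₀ hT A B t ht ht0 e
      (fun q hq => hcon q hq)
  haveI : Algebra.FinitePresentation k B₀ :=
    Algebra.FinitePresentation.of_finiteType.mp inferInstance
  exact hsing ⟨hfs, inferInstance⟩

end Groth.Agent.S12306
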