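import Groth.Statements.S12309
import Mathlib
import Groth.Agent.Lib.Helper18.HullV
import Groth.Agent.Lib.Helper19.ArtFunHull

set_option autoImplicit false
universe u
open CategoryTheory AlgebraicGeometry
open SGA7

namespace Groth.Agent.S12309

/-- Suppose Λ is a Noetherian local ring, complete for its maximal ideal, whose residue field is k (so
that Λ → k is surjective), and work with functors defined on local Artinian Λ-algebras having
residue field k. Take a k-scheme X₀ and assume its deformation functor (sending A to isomorphism
classes of schemes flat over Spec A whose closed fibre is X₀) admits a hull. The deformation functor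
is then pro-representable exactly when the following holds: given any surjective morphism p : A' → A
and any deformation X' of X₀ over A', every automorphism of the base change of X' along p arises by
restricting some automorphism of X' (automorphisms being taken over Spec A' and inducing the
identity on X₀), i.e. the restriction map is surjective. (In the published version the assertion is
stated for X₀ proper over k, or affine of finite type with only finitely many non-smooth points,
cases in which a hull exists; here the existence of a hull is assumed outright, as that is all the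
printed proof relies on.) -/
theorem result (Λ k : Type u) [CommRing Λ] [IsLocalRing Λ] [IsNoetherianRing Λ]
    [IsAdicComplete (IsLocalRing.maximalIdeal Λ) Λ] [Field k] [Algebra Λ k]
    (hk : Function.Surjective (algebraMap Λ k))
    (X : Scheme.{u}) (x : X ⟶ Spec (CommRingCat.of k))
    (hX : ArtFun.HasHull (ArtFun.defFunctor (Λ := Λ) X x)) :
    ArtFun.IsProrepresentable (ArtFun.defFunctor (Λ := Λ) X x) ↔
      ∀ (A' A : ArtFun.Art Λ k) (p : A' ⟶ A), Function.Surjective p →
        ∀ ξ' : ArtFun.DefSch (Λ := Λ) X x A',
          Function.Surjective (fun e : ξ'.Iso ξ' => e.baseChange p) := by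
  haveI : Module.Finite Λ k := Module.Finite.of_surjective (Algebra.linearMap Λ k) hk
  constructor
  · rintro ⟨⟨R, ξ, huniv⟩⟩ A' A p hp ξ'
    obtain ⟨B, π₁, π₂, hB⟩ := Groth.Agent.Lib.Helper19.ArtFunLength.exists_isFibreProd p p hp
    refine Groth.Agent.Lib.Helper18.HullU.autLift_of_inj hB hp ?_ ξ'
    intro z₁ z₂ hz
    obtain ⟨ψ₁, rfl⟩ := (huniv B).2 z₁
    obtain ⟨ψ₂, rfl⟩ := (huniv B).2 z₂
    have h1 : (ArtFun.defFunctor (Λ := Λ) X x).map π₁ (ξ.app B ψ₁) =
        (ArtFun.defFunctor (Λ := Λ) X x).map π₁ (ξ.app B ψ₂) := congrArg (fun z => z.1.1) hz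
    have h2 : (ArtFun.defFunctor (Λ := Λ) X x).map π₂ (ξ.app B ψ₁) =
        (ArtFun.defFunctor (Λ := Λ) X x).map π₂ (ξ.app B ψ₂) := congrArg (fun z => z.1.2) hz
    rw [← ξ.natural, ← ξ.natural] at h1 h2
    have e1 := (huniv A').1 h1
    have e2 := (huniv A').1 h2
    have : ψ₁ = ψ₂ := by
      apply Subtype.ext
      apply AlgHom.ext
      intro r
      apply hB.inj
      · exact congrArg (fun φ : ArtFun.HomSet R.carrier R.res A' => φ.1 r) e1
      · exact congrArg (fun φ : ArtFun.HomSet R.carrier R.res A' => φ.1 r) e2
    rw [this]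
  · intro H
    obtain ⟨⟨R, ξ, hξ⟩⟩ := hX
    have h0 := Groth.Agent.Lib.Helper17.DefH0A.h0_defFunctor (Λ := Λ) X x
    have h4 : ArtFun.HSq (ArtFun.defFunctor (Λ := Λ) X x) := by
      intro B A A' p₁ p₂ f h hf
      exact ⟨Groth.Agent.Lib.Helper18.HullV.inj_of_autLift h hf.1 (H A' A f hf.1),
        Groth.Agent.Lib.Helper18.HullT.s1_defFunctor X x p₁ p₂ f f h hf.1⟩
    exact ⟨⟨R, ξ, Groth.Agent.Lib.Helper19.ArtFunHull.isUniversal_of_isMiniversal h0 h4 ξ hξ⟩⟩

end Groth.Agent.S12309
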