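import Groth.Statements.S12310
import Mathlib
import Groth.Agent.Lib.Helper18.LciLiftC
import Groth.Agent.Lib.Helper18.DefLam
import Groth.Agent.Lib.Helper19.ArtFunSmooth

set_option autoImplicit false
universe u
open CategoryTheory AlgebraicGeometry
open SGA7

namespace Groth.Agent.S12310

/-- Suppose Λ is a Noetherian local ring, complete for its maximal-ideal-adic topology, whose residue
field is k (so Λ → k is surjective), and work with functors defined on local Artinian Λ-algebras
having residue field k. Take a finite-type k-algebra A₀ that is a local complete intersection over k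
(meaning it admits a presentation as a quotient of a polynomial algebra in finitely many variables
whose kernel is Koszul-regular), and put X₀ = Spec A₀. Then X₀ has a smooth deformation functor (the
functor of isomorphism classes of schemes flat over Spec A whose closed fibre is X₀): given any
surjection A' → A, each deformation over A can be lifted to one over A'. -/
theorem result (Λ k : Type u) [CommRing Λ] [IsLocalRing Λ] [IsNoetherianRing Λ]
    [IsAdicComplete (IsLocalRing.maximalIdeal Λ) Λ] [Field k] [Algebra Λ k]
    (hk : Function.Surjective (algebraMap Λ k))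
    (A₀ : Type u) [CommRing A₀] [Algebra k A₀] (hA : LCI.IsLCI k A₀) :
    ArtFun.IsSmoothFunctor (ArtFun.defFunctor (Λ := Λ) (Spec (CommRingCat.of A₀))
      (Spec.map (CommRingCat.ofHom (algebraMap k A₀)))) := by
  classical
  haveI : Module.Finite Λ k := Module.Finite.of_surjective (Algebra.linearMap Λ k) hk
  apply Groth.Agent.Lib.Helper19.ArtFunSmooth.isSmoothFunctor_of_smallExt
  intro B A μ hμ ξ
  obtain ⟨ξ', rfl⟩ := Quotient.exists_rep ξ
  obtain ⟨D, ⟨eD⟩⟩ := Groth.Agent.Lib.Helper18.DefLam.exists_adata ξ'
  obtain ⟨-, n, f, hf, hreg⟩ := hA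
  obtain ⟨hμsurj, -, -, hμK⟩ := hμ
  letI : Algebra B A := μ.toAlgHom.toRingHom.toAlgebra
  letI : Algebra B D.R := ((algebraMap A D.R).comp μ.toAlgHom.toRingHom).toAlgebra
  haveI : IsScalarTower B A D.R := IsScalarTower.of_algebraMap_eq (fun b => rfl)
  have hkereq : RingHom.ker (algebraMap B A) = RingHom.ker μ.toAlgHom := by
    ext x
    exact Iff.rfl
  have hmaxA : IsLocalRing.maximalIdeal A = (IsLocalRing.maximalIdeal B).map (algebraMap B A) := by
    apply le_antisymm
    · intro a ha
      obtain ⟨b, rfl⟩ := hμsurj a
      have hb : b ∈ IsLocalRing.maximalIdeal B := by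
        rw [ArtFun.Art.mem_maximalIdeal_iff] at ha ⊢
        rw [← ArtFun.Art.res_app μ b]
        exact ha
      exact Ideal.mem_map_of_mem (algebraMap B A) hb
    · rw [Ideal.map_le_iff_le_comap]
      intro b hb
      rw [Ideal.mem_comap]
      rw [ArtFun.Art.mem_maximalIdeal_iff] at hb ⊢
      change A.res (μ b) = 0
      rw [ArtFun.Art.res_app μ b]
      exact hb
  have hπker : RingHom.ker D.π = (IsLocalRing.maximalIdeal B).map (algebraMap B D.R) := by
    rw [D.h3, hmaxA, Ideal.map_map]
    rfl
  have hcomp : ∀ b : B, D.π (algebraMap B D.R b) = algebraMap k A₀ (B.res.toRingHom b) := by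
    intro b
    change D.π (algebraMap A D.R (μ b)) = algebraMap k A₀ (B.res b)
    rw [D.h1, ArtFun.Art.res_app μ b]
  have hKle : RingHom.ker (algebraMap B A) ≤ IsLocalRing.maximalIdeal B := by
    rw [hkereq]
    exact Groth.Agent.Lib.Helper19.ArtFunBasic.ker_le_maximalIdeal μ
  obtain ⟨R', _, _, _, q, hq1, hq2, hq3⟩ :=
    Groth.Agent.Lib.Helper18.LciLift.exists_lift (B := B) (A := A) (R := D.R) (A₀ := A₀) (k := k)
      (Groth.Agent.Lib.Helper18.DefLam.isNilpotent_max B) hμsurj (by rw [hkereq]; exact hμK) hKle
      B.res.toRingHom B.res_surjective D.π D.h2 hπker hcomp n f hf hreg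
  have hπq : ∀ b : B, D.π (q (algebraMap B R' b)) = algebraMap k A₀ (B.res b) := by
    intro b
    rw [hq1]
    exact hcomp b
  have hmapq : (IsLocalRing.maximalIdeal B).map (algebraMap B D.R) =
      ((IsLocalRing.maximalIdeal B).map (algebraMap B R')).map q := by
    rw [Ideal.map_map]
    refine congrArg (fun g => Ideal.map g (IsLocalRing.maximalIdeal B)) (RingHom.ext fun b => ?_)
    exact (hq1 b).symm
  let D' : Groth.Agent.Lib.Helper18.DefLam.AData B A₀ :=
    { R := R'
      π := D.π.comp q
      h1 := hπq
      h2 := D.h2.comp hq2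
      h3 := by
        apply le_antisymm
        · intro x hx
          have h1 : q x ∈ RingHom.ker D.π := hx
          rw [hπker, hmapq] at h1
          obtain ⟨x', hx', hxx⟩ := (Ideal.mem_map_iff_of_surjective q hq2).1 h1
          have h2 : x - x' ∈ RingHom.ker q := by
            rw [RingHom.mem_ker, map_sub, hxx, sub_self]
          rw [hq3] at h2
          have h3 : x - x' ∈ (IsLocalRing.maximalIdeal B).map (algebraMap B R') :=
            Ideal.map_mono hKle h2
          have : x = x' + (x - x') := by ring
          rw [this]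
          exact Ideal.add_mem _ hx' h3
        · rw [Ideal.map_le_iff_le_comap]
          intro b hb
          rw [Ideal.mem_comap, RingHom.mem_ker]
          change D.π (q (algebraMap B R' b)) = 0
          rw [hπq, (ArtFun.Art.mem_maximalIdeal_iff B b).1 hb, map_zero] }
  refine ⟨D'.toDefSch.cl, ?_⟩
  change (D'.toDefSch.baseChange μ).cl = _
  have hP : IsPushout (CommRingCat.ofHom (algebraMap B D'.R))
      (CommRingCat.ofHom μ.toAlgHom.toRingHom)
      (CommRingCat.ofHom q) (CommRingCat.ofHom (algebraMap A D.R)) := by
    refine Groth.Agent.Lib.Helper19.SmObs.isPushout_of_surjective μ.toAlgHom.toRingHom hμsurj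
      (algebraMap B R') (algebraMap A D.R) q hq2 hq1 (fun r hr => ?_)
    have h1 : r ∈ RingHom.ker q := hr
    rw [hq3, hkereq] at h1
    exact h1
  obtain ⟨e'⟩ := Groth.Agent.Lib.Helper18.DefLam.bc_iso_of_isPushout μ D' D q hP rfl
  exact Quotient.sound ⟨e'.trans eD⟩

end Groth.Agent.S12310
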