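import Groth.Statements.S12315
import Groth.Agent.Lib.Helper19.ArtFunComplete
import Groth.Agent.Lib.Helper19.ArtFunSqZero
import Groth.Agent.Lib.Helper19.ArtFunObs

set_option autoImplicit false
universe u v
open CategoryTheory
open SGA7

namespace Groth.Agent.S12315

/-- Let Λ be a complete Noetherian local ring with residue field k (the map Λ → k surjective), and
consider functors on the category of local Artinian Λ-algebras with residue field k. Let F be such a
functor, R a complete local Noetherian Λ-algebra with residue field k, and ξ a family of F over R (a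
morphism h_R → F) which is injective on k[ε]: distinct augmented Λ-algebra maps R → k[ε] give
distinct elements of F(k[ε]). Then every endomorphism of the pair (R, ξ), that is every Λ-algebra
map α : R → R compatible with the augmentation such that transporting ξ along α gives back ξ, is an
automorphism of R. (The published statement is for formal objects of a cofibred groupoid; this row
is the case of a set-valued functor.) -/
theorem result (Λ k : Type u) [CommRing Λ] [IsLocalRing Λ] [IsNoetherianRing Λ]
    [IsAdicComplete (IsLocalRing.maximalIdeal Λ) Λ] [Field k] [Algebra Λ k]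
    (hk : Function.Surjective (algebraMap Λ k))
    (F : ArtFun.Art Λ k ⥤ Type v) (R : ArtFun.CRing Λ k) (ξ : ArtFun.Family R.carrier R.res F)
    (hinj : Function.Injective (ξ.app (ArtFun.Art.dual Λ k)))
    (α : R.carrier →ₐ[Λ] R.carrier) (hα : R.res.comp α = R.res) (hξ : ξ.along α hα = ξ) :
    Function.Bijective α := by
  classical
  -- Step 1: every tangent vector is fixed by `α`
  have h1 : ∀ τ : ArtFun.HomSet R.carrier R.res (ArtFun.Art.dual Λ k), τ.1.comp α = τ.1 := by
    intro τ
    have e : (ξ.along α hα).app (ArtFun.Art.dual Λ k) τ = ξ.app (ArtFun.Art.dual Λ k) τ := by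
      rw [hξ]
    have e' : ξ.app (ArtFun.Art.dual Λ k)
        ⟨τ.1.comp α, by rw [← AlgHom.comp_assoc, τ.2, hα]⟩ = ξ.app (ArtFun.Art.dual Λ k) τ := e
    exact congrArg Subtype.val (hinj e')
  have hΛ : ∀ l : Λ, l ∈ IsLocalRing.maximalIdeal Λ ↔ algebraMap Λ k l = 0 := by
    intro l
    have hmax : (RingHom.ker (algebraMap Λ k)).IsMaximal :=
      RingHom.ker_isMaximal_of_surjective _ hk
    rw [← IsLocalRing.eq_maximalIdeal hmax, RingHom.mem_ker]
  have hresα : ∀ x : R.carrier, R.res (α x) = R.res x := fun x => AlgHom.congr_fun hα x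
  -- the ideal `J`
  have hΛm : ∀ l ∈ IsLocalRing.maximalIdeal Λ,
      algebraMap Λ R.carrier l ∈ IsLocalRing.maximalIdeal R.carrier := by
    intro l hl
    rw [ArtFun.CRing.mem_maximalIdeal_iff, AlgHom.commutes]
    exact (hΛ l).mp hl
  have hmapΛ : (IsLocalRing.maximalIdeal Λ).map (algebraMap Λ R.carrier) ≤
      IsLocalRing.maximalIdeal R.carrier := by
    rw [Ideal.map_le_iff_le_comap]
    intro l hl
    exact hΛm l hl
  have hJm : IsLocalRing.maximalIdeal R.carrier ^ 2 ⊔
      (IsLocalRing.maximalIdeal Λ).map (algebraMap Λ R.carrier) ≤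
      IsLocalRing.maximalIdeal R.carrier :=
    sup_le (Ideal.pow_le_self two_ne_zero) hmapΛ
  obtain ⟨B, π, hπs, hπk⟩ := Groth.Agent.Lib.Helper19.ArtFunComplete.exists_art_quot R _ hJm 2
    le_sup_left
  have hresπ : ∀ a : R.carrier, B.res (π.1 a) = R.res a := fun a => AlgHom.congr_fun π.2 a
  have hπzero : ∀ a : R.carrier, a ∈ IsLocalRing.maximalIdeal R.carrier ^ 2 ⊔
      (IsLocalRing.maximalIdeal Λ).map (algebraMap Λ R.carrier) → π.1 a = 0 := by
    intro a ha
    rw [← hπk] at ha
    exact ha
  have hB2 : IsLocalRing.maximalIdeal B ^ 2 = ⊥ := by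
    rw [eq_bot_iff, pow_two, Ideal.mul_le]
    intro x hx y hy
    obtain ⟨a, rfl⟩ := hπs x
    obtain ⟨b, rfl⟩ := hπs y
    have ha : a ∈ IsLocalRing.maximalIdeal R.carrier := by
      rw [ArtFun.CRing.mem_maximalIdeal_iff, ← hresπ]
      exact (ArtFun.Art.mem_maximalIdeal_iff B _).mp hx
    have hb : b ∈ IsLocalRing.maximalIdeal R.carrier := by
      rw [ArtFun.CRing.mem_maximalIdeal_iff, ← hresπ]
      exact (ArtFun.Art.mem_maximalIdeal_iff B _).mp hy
    rw [Ideal.mem_bot, ← map_mul]
    apply hπzero
    apply Ideal.mem_sup_left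
    rw [pow_two]
    exact Ideal.mul_mem_mul ha hb
  -- the section `k → B`
  have hker : RingHom.ker (algebraMap Λ k) ≤ RingHom.ker (algebraMap Λ B) := by
    intro l hl
    rw [RingHom.mem_ker] at hl ⊢
    have h2 : algebraMap Λ B l = π.1 (algebraMap Λ R.carrier l) := (π.1.commutes l).symm
    rw [h2]
    apply hπzero
    apply Ideal.mem_sup_right
    exact Ideal.mem_map_of_mem _ ((hΛ l).mpr hl)
  let σr : k →+* B := RingHom.liftOfSurjective (algebraMap Λ k) hk ⟨algebraMap Λ B, hker⟩
  have hσalg : ∀ l : Λ, σr (algebraMap Λ k l) = algebraMap Λ B l := fun l =>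
    RingHom.liftOfSurjective_comp_apply (algebraMap Λ k) hk ⟨algebraMap Λ B, hker⟩ l
  have hσres : ∀ c : k, B.res (σr c) = c := by
    intro c
    obtain ⟨l, rfl⟩ := hk c
    rw [hσalg]
    exact B.res.commutes l
  -- Step 3: `α x - x ∈ J`
  have h3 : ∀ x : R.carrier, π.1 (α x - x) = 0 := by
    intro x
    by_contra ht0
    have ht : π.1 (α x - x) ∈ IsLocalRing.maximalIdeal B := by
      rw [ArtFun.Art.mem_maximalIdeal_iff, hresπ, map_sub, hresα, sub_self]
    obtain ⟨r, hr⟩ := Groth.Agent.Lib.Helper19.ArtFunSqZero.exists_dualHom' σr hσres hσalg hB2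
      (π.1 (α x - x)) ht ht0
    have hK : Ideal.span {π.1 (α x - x)} ≤ IsLocalRing.maximalIdeal B :=
      (Ideal.span_singleton_le_iff_mem _).mpr ht
    have hfp := hr hK
    let τ : ArtFun.HomSet R.carrier R.res (ArtFun.Art.dual Λ k) := ArtFun.HomSet.map r π
    have hτ : τ.1 (α x) = τ.1 x := AlgHom.congr_fun (h1 τ) x
    have hτ' : r.toAlgHom (π.1 (α x)) = r.toAlgHom (π.1 x) := hτ
    apply ht0
    apply hfp.inj (π.1 (α x - x)) 0
    · show Ideal.Quotient.mk _ (π.1 (α x - x)) = Ideal.Quotient.mk _ 0
      rw [map_zero]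
      exact Ideal.Quotient.eq_zero_iff_mem.mpr (Ideal.mem_span_singleton_self _)
    · show r.toAlgHom (π.1 (α x - x)) = r.toAlgHom 0
      rw [map_zero, map_sub, map_sub, hτ', sub_self]
  -- Step 4: surjectivity
  have hαΛ : (IsLocalRing.maximalIdeal Λ).map (algebraMap Λ R.carrier) ≤
      (IsLocalRing.maximalIdeal R.carrier).map (α : R.carrier →+* R.carrier) := by
    rw [Ideal.map_le_iff_le_comap]
    intro l hl
    show algebraMap Λ R.carrier l ∈ (IsLocalRing.maximalIdeal R.carrier).map (α : R.carrier →+* R.carrier)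
    have h2 : algebraMap Λ R.carrier l = (α : R.carrier →+* R.carrier) (algebraMap Λ R.carrier l) :=
      (α.commutes l).symm
    rw [h2]
    exact Ideal.mem_map_of_mem _ (hΛm l hl)
  have hle1 : (IsLocalRing.maximalIdeal R.carrier).map (α : R.carrier →+* R.carrier) ≤
      IsLocalRing.maximalIdeal R.carrier := by
    rw [Ideal.map_le_iff_le_comap]
    intro x hx
    show α x ∈ IsLocalRing.maximalIdeal R.carrier
    rw [ArtFun.CRing.mem_maximalIdeal_iff] at hx ⊢
    rw [hresα, hx]
  have hle2 : IsLocalRing.maximalIdeal R.carrier ≤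
      (IsLocalRing.maximalIdeal R.carrier).map (α : R.carrier →+* R.carrier) := by
    refine Submodule.le_of_le_smul_of_le_jacobson_bot (IsNoetherian.noetherian _)
      (I := IsLocalRing.maximalIdeal R.carrier) ?_ ?_
    · rw [IsLocalRing.jacobson_eq_maximalIdeal ⊥ bot_ne_top]
    · rw [smul_eq_mul, ← pow_two]
      intro x hx
      have hx3 : α x - x ∈ IsLocalRing.maximalIdeal R.carrier ^ 2 ⊔
          (IsLocalRing.maximalIdeal Λ).map (algebraMap Λ R.carrier) := by
        rw [← hπk]
        exact h3 x
      have hx4 : α x - x ∈ (IsLocalRing.maximalIdeal R.carrier).map (α : R.carrier →+* R.carrier) ⊔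
          IsLocalRing.maximalIdeal R.carrier ^ 2 :=
        (sup_le le_sup_right (hαΛ.trans le_sup_left)) hx3
      have hx5 : (α : R.carrier →+* R.carrier) x ∈
          (IsLocalRing.maximalIdeal R.carrier).map (α : R.carrier →+* R.carrier) ⊔
          IsLocalRing.maximalIdeal R.carrier ^ 2 :=
        Ideal.mem_sup_left (Ideal.mem_map_of_mem _ hx)
      have hx6 : x = (α : R.carrier →+* R.carrier) x - (α x - x) := by
        show x = α x - (α x - x)
        ring
      rw [hx6]
      exact Ideal.sub_mem _ hx5 hx4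
  have hsurj : Function.Surjective α :=
    Groth.Agent.Lib.Helper19.ArtFunObs.surjective_of_map_maximalIdeal_eq (P := R) (R := R) α hα
      (le_antisymm hle1 hle2)
  -- Step 5: injectivity
  refine ⟨?_, hsurj⟩
  let a : R.carrier →+* R.carrier := α
  have hsa : Function.Surjective a := hsurj
  let K : ℕ →o Ideal R.carrier :=
    ⟨fun n => RingHom.ker (a ^ n), monotone_nat_of_le_succ (fun n x hx => by
      rw [RingHom.mem_ker] at hx ⊢
      rw [pow_succ', RingHom.coe_mul, Function.comp_apply, hx, map_zero])⟩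
  obtain ⟨n, hn⟩ := monotone_stabilizes_iff_noetherian.mpr
    (inferInstance : IsNoetherian R.carrier R.carrier) K
  rw [injective_iff_map_eq_zero]
  intro x hx
  have hsn : Function.Surjective (a ^ n) := by
    rw [RingHom.coe_pow]
    exact hsa.iterate n
  obtain ⟨y, rfl⟩ := hsn x
  have hy : y ∈ K (n + 1) := by
    show y ∈ RingHom.ker (a ^ (n + 1))
    rw [RingHom.mem_ker, pow_succ', RingHom.coe_mul, Function.comp_apply]
    exact hx
  rw [← hn (n + 1) (Nat.le_succ n)] at hy
  exact hy

end Groth.Agent.S12315
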