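import Groth.Statements.S12316
import Groth.Agent.Lib.Helper19.ArtFunDouble

set_option autoImplicit false
universe u v
open CategoryTheory
open SGA7

namespace Groth.Agent.S12316

open ArtFun ArtFun.Art Groth.Agent.Lib.Helper19.ArtFunBasic Groth.Agent.Lib.Helper19.ArtFunDouble

section Aux

variable {Λ k : Type u} [CommRing Λ] [Field k] [Algebra Λ k]

/-- smoothness of a morphism of functors may be tested on small extensions -/
theorem isSmooth_of_smallExt {F G : Art Λ k ⥤ Type v} (η : F ⟶ G)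
    (h : ∀ ⦃B A : Art Λ k⦄ (μ : B ⟶ A), IsSmallExt μ → Function.Surjective (relCmp η μ)) :
    IsSmooth η := by
  intro B A μ hμ
  refine surjective_induction (fun A B μ => Function.Surjective (relCmp η μ)) ?_ ?_ ?_ μ hμ
  · intro A B e he
    haveI := he
    rintro ⟨⟨x, y⟩, hxy⟩
    have hxy' : η.app A x = G.map e y := hxy
    refine ⟨F.map (inv e) x, ?_⟩
    apply Subtype.ext
    refine Prod.ext ?_ ?_
    · change F.map e (F.map (inv e) x) = x
      rw [← FunctorToTypes.map_comp_apply, IsIso.inv_hom_id, FunctorToTypes.map_id_apply]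
    · change η.app B (F.map (inv e) x) = y
      rw [NatTrans.naturality_apply η (inv e) x, hxy', ← FunctorToTypes.map_comp_apply,
        IsIso.hom_inv_id, FunctorToTypes.map_id_apply]
  · intro A B p hp
    exact h p hp
  · intro A B C p q hp hq
    rintro ⟨⟨x, y⟩, hxy⟩
    have hxy' : η.app A x = G.map (p ≫ q) y := hxy
    obtain ⟨w, hw⟩ := hq ⟨(x, G.map p y), by
      change η.app A x = G.map q (G.map p y)
      rw [hxy', FunctorToTypes.map_comp_apply]⟩
    have hw1 : F.map q w = x := congrArg (fun t => t.1.1) hw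
    have hw2 : η.app B w = G.map p y := congrArg (fun t => t.1.2) hw
    obtain ⟨v, hv⟩ := hp ⟨(w, y), hw2⟩
    have hv1 : F.map p v = w := congrArg (fun t => t.1.1) hv
    have hv2 : η.app C v = y := congrArg (fun t => t.1.2) hv
    refine ⟨v, ?_⟩
    apply Subtype.ext
    refine Prod.ext ?_ hv2
    change F.map (p ≫ q) v = x
    rw [FunctorToTypes.map_comp_apply, hv1, hw1]

variable [IsNoetherianRing Λ] [Module.Finite Λ k]

/-- two elements of a fibre of `G(B) → G(A)` (small extension) with the same image under a morphism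
to a homogeneous functor, injective on tangent spaces, coincide -/
theorem eq_of_fibre {G H : Art Λ k ⥤ Type v} (ψ : G ⟶ H) (hG1 : S1 G) (hG2 : Heps G)
    (hH : ∀ ⦃B A A' A'' : Art Λ k⦄ (p' : B ⟶ A') (p'' : B ⟶ A'') (f' : A' ⟶ A) (f'' : A'' ⟶ A)
      (h : IsFibreProd p' p'' f' f''), Function.Surjective f'' → Function.Bijective (cmp H h))
    (hψ : Function.Injective (TangentSpace.map ψ)) {B A : Art Λ k} (μ : B ⟶ A)
    (hμ : IsSmallExt μ) (y y' : G.obj B) (h1 : G.map μ y = G.map μ y')
    (h2 : ψ.app B y = ψ.app B y') : y = y' := by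
  obtain ⟨D, π₁, π₂, δ, hD, hδ⟩ := exists_double μ hμ
  obtain ⟨z, hz⟩ := hG1 π₁ π₂ μ μ hD hμ.1 ⟨(y, y'), h1⟩
  have hz1 : G.map π₁ z = y := congrArg (fun t => t.1.1) hz
  have hz2 : G.map π₂ z = y' := congrArg (fun t => t.1.2) hz
  obtain ⟨Δ₀, hΔ1, hΔ2⟩ := exists_lift_of_isFibreProd hD (AlgHom.id Λ B) (AlgHom.id Λ B) rfl
  have hΔres : D.res.comp Δ₀ = B.res := by
    rw [← π₁.res_comp, AlgHom.comp_assoc, hΔ1, AlgHom.comp_id]
  let Δ : B ⟶ D := Art.homMk Δ₀ hΔres
  have hΔπ₁ : Δ ≫ π₁ = 𝟙 B := by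
    apply Art.hom_ext
    apply AlgHom.ext
    intro b
    exact AlgHom.congr_fun hΔ1 b
  have hΔπ₂ : Δ ≫ π₂ = 𝟙 B := by
    apply Art.hom_ext
    apply AlgHom.ext
    intro b
    exact AlgHom.congr_fun hΔ2 b
  have hz₀1 : G.map π₁ (G.map Δ y) = y := by
    rw [← FunctorToTypes.map_comp_apply, hΔπ₁, FunctorToTypes.map_id_apply]
  have hz₀2 : G.map π₂ (G.map Δ y) = y := by
    rw [← FunctorToTypes.map_comp_apply, hΔπ₂, FunctorToTypes.map_id_apply]
  have hψz : ψ.app D z = ψ.app D (G.map Δ y) := by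
    apply (hH π₁ π₂ μ μ hD hμ.1).1
    apply Subtype.ext
    refine Prod.ext ?_ ?_
    · change H.map π₁ (ψ.app D z) = H.map π₁ (ψ.app D (G.map Δ y))
      rw [← NatTrans.naturality_apply, ← NatTrans.naturality_apply, hz1, hz₀1]
    · change H.map π₂ (ψ.app D z) = H.map π₂ (ψ.app D (G.map Δ y))
      rw [← NatTrans.naturality_apply, ← NatTrans.naturality_apply, hz2, hz₀2, h2]
  have hδz : G.map δ z = G.map δ (G.map Δ y) := by
    have e : TangentSpace.map ψ (G.map δ z) = TangentSpace.map ψ (G.map δ (G.map Δ y)) := by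
      change ψ.app (dual Λ k) (G.map δ z) = ψ.app (dual Λ k) (G.map δ (G.map Δ y))
      rw [NatTrans.naturality_apply, NatTrans.naturality_apply, hψz]
    exact hψ e
  have hzz : z = G.map Δ y := by
    apply (hG2 π₁ δ hδ).1
    apply Subtype.ext
    refine Prod.ext ?_ hδz
    change G.map π₁ z = G.map π₁ (G.map Δ y)
    rw [hz1, hz₀1]
  rw [← hz2, hzz, hz₀2]

end Aux

/-- Suppose Λ is a Noetherian local ring, complete for its maximal ideal, whose residue field is k (so Λ
→ k is surjective), and work with functors defined on the category of local Artinian Λ-algebras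
having residue field k. Take morphisms φ : F → G and ψ : G → H of such functors. Assume that each of
F(k), G(k), H(k) consists of a single point; that for G the comparison map on fibre products A₁ ×_A
A₂ is surjective as soon as A₂ → A is surjective, and is bijective for products of the form A' ×_k
k[ε]; that for H the comparison map is bijective on every fibre product A₁ ×_A A₂ with A₂ → A
surjective; and that the induced map on tangent spaces G(k[ε]) → H(k[ε]) coming from ψ is injective.
Under these assumptions, φ ≫ ψ is smooth if and only if both φ and ψ are smooth. (The published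
statement is for functors of cofibred groupoids with G semi-homogeneous and H homogeneous; this row
is the case of set-valued functors.) -/
theorem result (Λ k : Type u) [CommRing Λ] [IsLocalRing Λ] [IsNoetherianRing Λ]
    [IsAdicComplete (IsLocalRing.maximalIdeal Λ) Λ] [Field k] [Algebra Λ k]
    (hk : Function.Surjective (algebraMap Λ k))
    {F G H : ArtFun.Art Λ k ⥤ Type v} (φ : F ⟶ G) (ψ : G ⟶ H)
    (hF : ArtFun.H0 F) (hG : ArtFun.H0 G ∧ ArtFun.S1 G ∧ ArtFun.Heps G) (hH0 : ArtFun.H0 H)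
    (hH : ∀ ⦃B A A' A'' : ArtFun.Art Λ k⦄ (p' : B ⟶ A') (p'' : B ⟶ A'') (f' : A' ⟶ A) (f'' : A'' ⟶ A)
      (h : ArtFun.Art.IsFibreProd p' p'' f' f''), Function.Surjective f'' → Function.Bijective (ArtFun.cmp H h))
    (hψ : Function.Injective (ArtFun.TangentSpace.map ψ)) :
    ArtFun.IsSmooth (φ ≫ ψ) ↔ (ArtFun.IsSmooth φ ∧ ArtFun.IsSmooth ψ) := by
  haveI : Module.Finite Λ k := Module.Finite.of_surjective (Algebra.linearMap Λ k) hk
  constructor
  · intro hsm
    have hφ : IsSmooth φ := by
      apply isSmooth_of_smallExt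
      intro B A μ hμ
      rintro ⟨⟨x, y⟩, hxy⟩
      have hxy' : φ.app A x = G.map μ y := hxy
      obtain ⟨w, hw⟩ := hsm μ hμ.1 ⟨(x, ψ.app B y), by
        change (φ ≫ ψ).app A x = H.map μ (ψ.app B y)
        rw [FunctorToTypes.comp, hxy', NatTrans.naturality_apply]⟩
      have hw1 : F.map μ w = x := congrArg (fun t => t.1.1) hw
      have hw2 : (φ ≫ ψ).app B w = ψ.app B y := congrArg (fun t => t.1.2) hw
      rw [FunctorToTypes.comp] at hw2
      have hfib : G.map μ (φ.app B w) = G.map μ y := by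
        have e := NatTrans.naturality_apply φ μ w
        rw [hw1, hxy'] at e
        exact e.symm
      have hyy : φ.app B w = y :=
        eq_of_fibre ψ hG.2.1 hG.2.2 hH hψ μ hμ (φ.app B w) y hfib hw2
      refine ⟨w, ?_⟩
      apply Subtype.ext
      exact Prod.ext hw1 hyy
    have hφs : ∀ A, Function.Surjective (φ.app A) := by
      intro A y
      obtain ⟨x₀⟩ := hF.1
      haveI := hG.1.2
      obtain ⟨w, hw⟩ := hφ (toBase A) A.res_surjective ⟨(x₀, y), Subsingleton.elim _ _⟩
      exact ⟨w, congrArg (fun t => t.1.2) hw⟩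
    have hψs : IsSmooth ψ := by
      intro B A μ hμ
      rintro ⟨⟨x, z⟩, hxz⟩
      have hxz' : ψ.app A x = H.map μ z := hxz
      obtain ⟨xF, hxF⟩ := hφs A x
      obtain ⟨w, hw⟩ := hsm μ hμ ⟨(xF, z), by
        change (φ ≫ ψ).app A xF = H.map μ z
        rw [FunctorToTypes.comp, hxF, hxz']⟩
      have hw1 : F.map μ w = xF := congrArg (fun t => t.1.1) hw
      have hw2 : (φ ≫ ψ).app B w = z := congrArg (fun t => t.1.2) hw
      rw [FunctorToTypes.comp] at hw2
      refine ⟨φ.app B w, ?_⟩
      apply Subtype.ext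
      refine Prod.ext ?_ hw2
      change G.map μ (φ.app B w) = x
      rw [← NatTrans.naturality_apply, hw1, hxF]
    exact ⟨hφ, hψs⟩
  · rintro ⟨hφ, hψs⟩
    intro B A μ hμ
    rintro ⟨⟨x, z⟩, hxz⟩
    have hxz' : (φ ≫ ψ).app A x = H.map μ z := hxz
    rw [FunctorToTypes.comp] at hxz'
    obtain ⟨y, hy⟩ := hψs μ hμ ⟨(φ.app A x, z), hxz'⟩
    have hy1 : G.map μ y = φ.app A x := congrArg (fun t => t.1.1) hy
    have hy2 : ψ.app B y = z := congrArg (fun t => t.1.2) hy
    obtain ⟨w, hw⟩ := hφ μ hμ ⟨(x, y), hy1.symm⟩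
    have hw1 : F.map μ w = x := congrArg (fun t => t.1.1) hw
    have hw2 : φ.app B w = y := congrArg (fun t => t.1.2) hw
    refine ⟨w, ?_⟩
    apply Subtype.ext
    refine Prod.ext hw1 ?_
    change (φ ≫ ψ).app B w = z
    rw [FunctorToTypes.comp, hw2, hy2]

end Groth.Agent.S12316
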