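import Groth.Statements.S12321
import Groth.Agent.Lib.Helper19.ArtFunSchlessinger
import Groth.Agent.Lib.Helper19.ArtFunMinPres
import Groth.Agent.S12320

set_option autoImplicit false
universe u v
open CategoryTheory
open SGA7

namespace Groth.Agent.S12321

/-- Suppose Λ is a Noetherian local ring that is complete, and k is its residue field, so the map Λ → k
is surjective. We look at functors on the category of local Artinian Λ-algebras whose residue field
is k. Take such a functor F for which F(k) is a single point, the comparison map F(A₁ ×_A A₂) →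
F(A₁) ×_{F(A)} F(A₂) is surjective whenever A₂ → A is surjective, and this map is bijective for A'
×_k k[ε]. Call an element a ∈ F(R) versal for small prolongations of the base point when, for each
object R₀ whose augmentation R₀ → k is a small extension and each b ∈ F(R₀), some morphism R → R₀
sends a to b. Assume a ∈ F(R) has this property. Then one can find an object R', a morphism q : R' →
R and an element a' ∈ F(R') whose image is a, satisfying the following. First, q is surjective and
the maximal ideal annihilates its kernel. Second, q induces an isomorphism m_{R'}/(m_{R'}² + m_Λ R')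
→ m_R/(m_R² + m_Λ R) between relative cotangent spaces (only injectivity is stated; surjectivity
comes for free). Third, a' is versal for small prolongations of a: given any small extension π₁ : R₁
→ R and any a₁ ∈ F(R₁) with image a, there is f : R' → R₁ satisfying f ≫ π₁ = q and sending a' to
a₁. (The published statement concerns semi-homogeneous cofibred groupoids; this row treats the case
of set-valued functors.) -/
theorem result (Λ k : Type u) [CommRing Λ] [IsLocalRing Λ] [IsNoetherianRing Λ]
    [IsAdicComplete (IsLocalRing.maximalIdeal Λ) Λ] [Field k] [Algebra Λ k]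
    (hk : Function.Surjective (algebraMap Λ k))
    (F : ArtFun.Art Λ k ⥤ Type v) (hF : ArtFun.H0 F ∧ ArtFun.S1 F ∧ ArtFun.Heps F)
    (R : ArtFun.Art Λ k) (a : F.obj R)
    (hvers : ∀ (R₀ : ArtFun.Art Λ k), ArtFun.Art.IsSmallExt (ArtFun.Art.toBase R₀) →
      ∀ b : F.obj R₀, ∃ φ : R ⟶ R₀, F.map φ a = b) :
    ∃ (R' : ArtFun.Art Λ k) (q : R' ⟶ R) (a' : F.obj R'), F.map q a' = a ∧
      ArtFun.Art.IsSemismallExt q ∧
      (∀ x' : R', x' ∈ IsLocalRing.maximalIdeal (R' : Type u) →
        q x' ∈ (IsLocalRing.maximalIdeal (R : Type u)) ^ 2 ⊔ (IsLocalRing.maximalIdeal Λ).map (algebraMap Λ R) →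
        x' ∈ (IsLocalRing.maximalIdeal (R' : Type u)) ^ 2 ⊔ (IsLocalRing.maximalIdeal Λ).map (algebraMap Λ R')) ∧
      ∀ (R₁ : ArtFun.Art Λ k) (π₁ : R₁ ⟶ R), ArtFun.Art.IsSmallExt π₁ →
        ∀ a₁ : F.obj R₁, F.map π₁ a₁ = a → ∃ f : R' ⟶ R₁, f ≫ π₁ = q ∧ F.map f a' = a₁ := by
  classical
  haveI : Module.Finite Λ k := Module.Finite.of_surjective (Algebra.linearMap Λ k) hk
  have hmΛ : IsLocalRing.maximalIdeal Λ = RingHom.ker (algebraMap Λ k) :=
    (IsLocalRing.eq_maximalIdeal (RingHom.ker_isMaximal_of_surjective _ hk)).symm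
  obtain ⟨P, π, hπs, hsmooth, hπker⟩ :=
    Groth.Agent.Lib.Helper19.ArtFunMinPres.exists_minimal_presentation_art hk R
  rw [← hmΛ] at hπker
  have hresπ : ∀ p, R.res (π.1 p) = P.res p := fun p => AlgHom.congr_fun π.2 p
  let s : Groth.Agent.Lib.Helper19.ArtFunSchlessinger.Stage P F := ⟨R, π, hπs, a⟩
  obtain ⟨s', hs'⟩ := Groth.Agent.Lib.Helper19.ArtFunSchlessinger.exists_next P hF.2.1 s
  obtain ⟨q, hq⟩ := Groth.Agent.Lib.Helper19.ArtFunComplete.exists_factor s'.π s'.surj π hs'.le
  have hqπ : ∀ p, q (s'.π.1 p) = π.1 p := fun p => AlgHom.congr_fun (congrArg Subtype.val hq) p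
  have ha' : F.map q s'.η = a := hs'.compat q hq
  have hmem' : ∀ p, s'.π.1 p ∈ IsLocalRing.maximalIdeal (s'.A : Type u) →
      p ∈ IsLocalRing.maximalIdeal P.carrier := by
    intro p hp
    rw [ArtFun.CRing.mem_maximalIdeal_iff]
    have e : s'.A.res (s'.π.1 p) = P.res p := AlgHom.congr_fun s'.π.2 p
    rw [← e, ← ArtFun.Art.mem_maximalIdeal_iff]
    exact hp
  refine ⟨s'.A, q, s'.η, ha', ?_, ?_, ?_⟩
  · refine ⟨?_, ?_⟩
    · intro r
      obtain ⟨p, rfl⟩ := hπs r
      exact ⟨s'.π.1 p, hqπ p⟩
    · rw [← le_bot_iff, Ideal.mul_le]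
      intro x hx y hy
      obtain ⟨px, rfl⟩ := s'.surj x
      obtain ⟨py, rfl⟩ := s'.surj y
      have hpx : px ∈ IsLocalRing.maximalIdeal P.carrier := hmem' px hx
      have hpy : py ∈ RingHom.ker π.1 := by
        rw [RingHom.mem_ker, ← hqπ]
        exact RingHom.mem_ker.mp hy
      have hmem : px * py ∈ RingHom.ker s'.π.1 := hs'.semismall (Ideal.mul_mem_mul hpx hpy)
      rw [Ideal.mem_bot, ← map_mul]
      exact RingHom.mem_ker.mp hmem
  · intro x' hx' hqx'
    obtain ⟨p, rfl⟩ := s'.surj x'
    rw [hqπ] at hqx'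
    have hmR : IsLocalRing.maximalIdeal (R : Type u) ≤
        (IsLocalRing.maximalIdeal P.carrier).map (π.1 : P.carrier →+* R) := by
      intro r hr
      obtain ⟨p', rfl⟩ := hπs r
      apply Ideal.mem_map_of_mem
      rw [ArtFun.CRing.mem_maximalIdeal_iff, ← hresπ]
      exact (ArtFun.Art.mem_maximalIdeal_iff R _).1 hr
    have hIR : IsLocalRing.maximalIdeal (R : Type u) ^ 2 ⊔
        (IsLocalRing.maximalIdeal Λ).map (algebraMap Λ R) ≤
        (IsLocalRing.maximalIdeal P.carrier ^ 2 ⊔
          (IsLocalRing.maximalIdeal Λ).map (algebraMap Λ P.carrier)).map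
            (π.1 : P.carrier →+* R) := by
      rw [Ideal.map_sup, Ideal.map_pow, Ideal.map_map]
      refine sup_le_sup (Ideal.pow_right_mono hmR 2) (le_of_eq ?_)
      congr 1
      exact π.1.comp_algebraMap.symm
    obtain ⟨p₀, hp₀, hp₀e⟩ :=
      (Ideal.mem_map_iff_of_surjective (π.1 : P.carrier →+* R) hπs).mp (hIR hqx')
    have hpI : p ∈ IsLocalRing.maximalIdeal P.carrier ^ 2 ⊔
        (IsLocalRing.maximalIdeal Λ).map (algebraMap Λ P.carrier) := by
      have h1 : p - p₀ ∈ RingHom.ker π.1 := by
        rw [RingHom.mem_ker, map_sub, sub_eq_zero]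
        exact hp₀e.symm
      have h2 := hπker h1
      have h3 : p = p₀ + (p - p₀) := by ring
      rw [h3]
      exact Ideal.add_mem _ hp₀ h2
    have hmap : (IsLocalRing.maximalIdeal P.carrier ^ 2 ⊔
        (IsLocalRing.maximalIdeal Λ).map (algebraMap Λ P.carrier)).map
          (s'.π.1 : P.carrier →+* s'.A) ≤
        IsLocalRing.maximalIdeal (s'.A : Type u) ^ 2 ⊔
          (IsLocalRing.maximalIdeal Λ).map (algebraMap Λ s'.A) := by
      rw [Ideal.map_sup, Ideal.map_pow, Ideal.map_map]
      refine sup_le_sup (Ideal.pow_right_mono ?_ 2) (le_of_eq ?_)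
      · rw [Ideal.map_le_iff_le_comap]
        intro x hx
        exact Groth.Agent.Lib.Helper19.ArtFunComplete.homSet_mem_maximalIdeal P s'.π hx
      · congr 1
        exact s'.π.1.comp_algebraMap
    exact hmap (Ideal.mem_map_of_mem _ hpI)
  · intro R₁ π₁ hπ₁ a₁ ha₁
    have hex : ∃ f : s'.A ⟶ R₁, f ≫ π₁ = q := by
      obtain ⟨w, hw⟩ := hsmooth π₁ hπ₁.1 π
      have hw0 : ArtFun.HomSet.map π₁ w = π := hw
      have hw' : ∀ p, π₁ (w.1 p) = π.1 p := fun p =>
        AlgHom.congr_fun (congrArg Subtype.val hw0) p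
      have hle : RingHom.ker s'.π.1 ≤ RingHom.ker w.1 := by
        obtain ⟨hsurj, hne, ⟨t, ht⟩, hkill⟩ := hπ₁
        have ht' : RingHom.ker π₁.toAlgHom = Ideal.span {t} := ht
        have htker : t ∈ RingHom.ker π₁.toAlgHom := by rw [ht']; exact Ideal.subset_span rfl
        have htm : t ∈ IsLocalRing.maximalIdeal (R₁ : Type u) :=
          Groth.Agent.Lib.Helper19.ArtFunBasic.ker_le_maximalIdeal π₁ htker
        have hkill' : ∀ c ∈ IsLocalRing.maximalIdeal (R₁ : Type u), ∀ z ∈ RingHom.ker π₁.toAlgHom,
            c * z = 0 := by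
          intro c hc z hz
          have h1 : c * z ∈ IsLocalRing.maximalIdeal (R₁ : Type u) * RingHom.ker π₁.toAlgHom :=
            Ideal.mul_mem_mul hc hz
          rw [hkill] at h1
          exact h1
        have hdich := Groth.Agent.Lib.Helper19.ArtFunSchlessinger.dichotomy (w := w.1)
          (by
            intro r hr
            by_contra hnu
            have hrm : r ∈ IsLocalRing.maximalIdeal P.carrier :=
              (IsLocalRing.mem_maximalIdeal _).mpr hnu
            have := Groth.Agent.Lib.Helper19.ArtFunComplete.homSet_mem_maximalIdeal P w hrm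
            exact (IsLocalRing.mem_maximalIdeal _).mp this hr)
          (pr := π₁.toAlgHom) t htm
          (by
            intro c hc
            have hc' : c ∈ RingHom.ker π₁.toAlgHom := RingHom.mem_ker.mpr hc
            rw [ht'] at hc'
            obtain ⟨d, hd⟩ := Ideal.mem_span_singleton'.mp hc'
            exact ⟨d, hd.symm⟩)
          (fun c hc => hkill' c hc t htker)
          (by
            intro c
            obtain ⟨r, hr⟩ := hπs (π₁ c)
            exact ⟨r, (hw' r).trans hr⟩)
        rcases hdich with hws | hwz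
        · refine hs'.minimal R₁ w π₁ hws hw0 ?_ ⟨a₁, ha₁⟩
          rw [Ideal.mul_le]
          intro x hx y hy
          rw [RingHom.mem_ker, map_mul]
          refine hkill' _ (Groth.Agent.Lib.Helper19.ArtFunComplete.homSet_mem_maximalIdeal P w hx)
            _ ?_
          rw [RingHom.mem_ker]
          exact (hw' y).trans (RingHom.mem_ker.mp hy)
        · intro r hr
          have h1 : r ∈ RingHom.ker π.1 := hs'.le hr
          rw [RingHom.mem_ker]
          exact hwz r ((hw' r).trans (RingHom.mem_ker.mp h1))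
      obtain ⟨f, hf⟩ := Groth.Agent.Lib.Helper19.ArtFunComplete.exists_factor s'.π s'.surj w hle
      refine ⟨f, ?_⟩
      apply Groth.Agent.Lib.Helper19.ArtFunComplete.hom_eq_of_map_eq s'.π s'.surj
      rw [hq]
      change ArtFun.HomSet.map π₁ (ArtFun.HomSet.map f s'.π) = π
      rw [hf, hw0]
    exact (Groth.Agent.S12320.result Λ k hk F hF π₁ hπ₁ q a a₁ s'.η ha₁ ha' hvers).mpr hex

end Groth.Agent.S12321
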