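import Groth.Statements.S1233
import Groth.Agent.S1232
import Mathlib


set_option autoImplicit false
universe u
open FlatMor

namespace Groth.Agent.S1233

open TensorProduct

/-- every element of `D ⊗[B] N` is, up to a unit coming from `S`, of the form `1 ⊗ x` -/
theorem exists_smul_eq_one_tmul_q {B D : Type u} [CommRing B] [CommRing D] [Algebra B D]
    (S : Submonoid B) [IsLocalization S D] (N : Type u) [AddCommGroup N] [Module B N]
    (y : D ⊗[B] N) :
    ∃ (s : S) (x : N), (algebraMap B D s) • y = (1 : D) ⊗ₜ[B] x := by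
  induction y using TensorProduct.induction_on with
  | zero => exact ⟨1, 0, by rw [smul_zero, TensorProduct.tmul_zero]⟩
  | tmul d x =>
    obtain ⟨⟨b, s⟩, hbs⟩ := IsLocalization.surj S d
    have hbs' : d * algebraMap B D s = algebraMap B D b := hbs
    refine ⟨s, b • x, ?_⟩
    rw [TensorProduct.smul_tmul', smul_eq_mul, mul_comm (algebraMap B D (s : B)) d, hbs',
      Algebra.algebraMap_eq_smul_one, TensorProduct.smul_tmul]
  | add y1 y2 h1 h2 =>
    obtain ⟨s1, x1, h1⟩ := h1
    obtain ⟨s2, x2, h2⟩ := h2
    refine ⟨s1 * s2, (s2 : B) • x1 + (s1 : B) • x2, ?_⟩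
    rw [Submonoid.coe_mul, map_mul, smul_add, TensorProduct.tmul_add]
    congr 1
    · rw [mul_comm (algebraMap B D (s1 : B)), mul_smul, h1, TensorProduct.smul_tmul', smul_eq_mul,
        mul_one, Algebra.algebraMap_eq_smul_one, TensorProduct.smul_tmul]
    · rw [mul_smul, h2, TensorProduct.smul_tmul', smul_eq_mul, mul_one,
        Algebra.algebraMap_eq_smul_one, TensorProduct.smul_tmul]

/-- weakly associated primes and localization, in base-change form -/
theorem weakAss_isLocalization_tensor_q {B D : Type u} [CommRing B] [CommRing D] [Algebra B D]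
    (S : Submonoid B) [IsLocalization S D] (N : Type u) [AddCommGroup N] [Module B N]
    (q : Ideal D) [q.IsPrime] :
    q ∈ FlatCA.weakAss D (D ⊗[B] N) ↔ q.comap (algebraMap B D) ∈ FlatCA.weakAss B N := by
  haveI : Module.Flat B D := IsLocalization.flat D S
  have hann : ∀ x : N, (Submodule.span D {(1 : D) ⊗ₜ[B] x}).annihilator =
      Ideal.map (algebraMap B D) (Submodule.span B {x}).annihilator := by
    intro x
    apply le_antisymm
    · intro d hd
      rw [Submodule.mem_annihilator_span_singleton, TensorProduct.smul_tmul', smul_eq_mul,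
        mul_one] at hd
      exact Groth.Agent.S1232.ann_one_tmul_le_q x d hd
    · rw [Ideal.map_le_iff_le_comap]
      intro b hb
      rw [Ideal.mem_comap, Submodule.mem_annihilator_span_singleton]
      rw [Submodule.mem_annihilator_span_singleton] at hb
      rw [TensorProduct.smul_tmul', smul_eq_mul, mul_one, Algebra.algebraMap_eq_smul_one,
        TensorProduct.smul_tmul, hb, TensorProduct.tmul_zero]
  constructor
  · rintro ⟨y, hy⟩
    obtain ⟨s, x, hsx⟩ := exists_smul_eq_one_tmul_q S N y
    have hunit : IsUnit (algebraMap B D s) := IsLocalization.map_units D s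
    have hy' : (Submodule.span D {y}).annihilator =
        (Submodule.span D {(1 : D) ⊗ₜ[B] x}).annihilator := by
      ext d
      rw [Submodule.mem_annihilator_span_singleton, Submodule.mem_annihilator_span_singleton,
        ← hsx, smul_comm]
      exact hunit.smul_eq_zero.symm
    rw [hy', hann, IsLocalization.minimalPrimes_map S D] at hy
    exact ⟨x, hy⟩
  · rintro ⟨x, hx⟩
    refine ⟨(1 : D) ⊗ₜ[B] x, ?_⟩
    rw [hann, IsLocalization.minimalPrimes_map S D]
    exact hx

theorem weakAss_isLocalization_baseChange_q {A B D : Type u} [CommRing A] [CommRing B]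
    [CommRing D] [Algebra A B] [Algebra A D] [Algebra B D] [IsScalarTower A B D]
    (S : Submonoid B) [IsLocalization S D] (M : Type u) [AddCommGroup M] [Module A M]
    (q : Ideal D) [q.IsPrime] :
    q ∈ FlatCA.weakAss D (D ⊗[A] M) ↔
      q.comap (algebraMap B D) ∈ FlatCA.weakAss B (B ⊗[A] M) := by
  rw [← weakAss_isLocalization_tensor_q S (B ⊗[A] M) q]
  exact ⟨Groth.Agent.S1232.weakAss_of_equiv_q
      (TensorProduct.AlgebraTensorModule.cancelBaseChange A B D D M).symm,
    Groth.Agent.S1232.weakAss_of_equiv_q
      (TensorProduct.AlgebraTensorModule.cancelBaseChange A B D D M)⟩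

/-- localization of a finite flat algebra -/
theorem weakAss_locFiniteFlat_q {A C D : Type u} [CommRing A] [CommRing C] [CommRing D]
    [Algebra A C] [Algebra A D] [Algebra C D] [IsScalarTower A C D] [Module.Finite A C]
    [Module.Flat A C] (S : Submonoid C) [IsLocalization S D] (M : Type u) [AddCommGroup M]
    [Module A M] (p : Ideal A) [p.IsPrime] (q : Ideal D) [q.IsPrime]
    (hq : q.comap (algebraMap A D) = p) :
    q ∈ FlatCA.weakAss D (D ⊗[A] M) ↔ p ∈ FlatCA.weakAss A M := by
  rw [weakAss_isLocalization_baseChange_q (A := A) S M q]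
  haveI : (q.comap (algebraMap C D)).LiesOver p :=
    ⟨by rw [← hq, Ideal.under_def, Ideal.comap_comap, ← IsScalarTower.algebraMap_eq]⟩
  exact Groth.Agent.S1232.result M p (q.comap (algebraMap C D))

theorem aux_q {A B : Type u} [CommRing A] [CommRing B] [Algebra A B]
    (M : Type u) [AddCommGroup M] [Module A M] (p : Ideal A) [p.IsPrime] (u : Ideal B)
    [u.IsPrime] [u.LiesOver p] (g : B) (hgu : g ∉ u)
    (Pres : StandardEtalePresentation A (Localization.Away g)) :
    u ∈ FlatCA.weakAss B (B ⊗[A] M) ↔ p ∈ FlatCA.weakAss A M := by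
  have hdisj : Disjoint (Submonoid.powers g : Set B) (u : Set B) :=
    (Ideal.disjoint_powers_iff_notMem_of_isPrime g).mpr hgu
  haveI hqprime : (Ideal.map (algebraMap B (Localization.Away g)) u).IsPrime :=
    IsLocalization.isPrime_of_isPrime_disjoint (Submonoid.powers g) _ u inferInstance hdisj
  have hqu : Ideal.comap (algebraMap B (Localization.Away g))
      (Ideal.map (algebraMap B (Localization.Away g)) u) = u :=
    IsLocalization.under_map_of_isPrime_disjoint (Submonoid.powers g) _ inferInstance hdisj
  have key := weakAss_isLocalization_baseChange_q (A := A) (Submonoid.powers g) M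
    (Ideal.map (algebraMap B (Localization.Away g)) u)
  rw [hqu] at key
  rw [← key]
  have hq : (Ideal.map (algebraMap B (Localization.Away g)) u).comap
      (algebraMap A (Localization.Away g)) = p := by
    rw [IsScalarTower.algebraMap_eq A B (Localization.Away g), ← Ideal.comap_comap, hqu]
    exact (Ideal.LiesOver.over (p := p) (P := u)).symm
  haveI : Module.Finite A (AdjoinRoot Pres.P.f) := Pres.P.monic_f.finite_adjoinRoot
  haveI : Module.Free A (AdjoinRoot Pres.P.f) := Pres.P.monic_f.free_adjoinRoot
  let E : Localization.Away (AdjoinRoot.mk Pres.P.f Pres.P.g) ≃ₐ[A] Localization.Away g :=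
    (Pres.equivRing.trans Pres.P.equivAwayAdjoinRoot).symm
  letI algCD : Algebra (AdjoinRoot Pres.P.f) (Localization.Away g) :=
    (E.toRingEquiv.toRingHom.comp (algebraMap (AdjoinRoot Pres.P.f)
      (Localization.Away (AdjoinRoot.mk Pres.P.f Pres.P.g)))).toAlgebra
  haveI : IsScalarTower A (AdjoinRoot Pres.P.f) (Localization.Away g) :=
    IsScalarTower.of_algebraMap_eq (fun a => by
      rw [RingHom.algebraMap_toAlgebra]
      show algebraMap A (Localization.Away g) a =
        E (algebraMap (AdjoinRoot Pres.P.f) (Localization.Away (AdjoinRoot.mk Pres.P.f Pres.P.g))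
          (algebraMap A (AdjoinRoot Pres.P.f) a))
      rw [← IsScalarTower.algebraMap_apply A (AdjoinRoot Pres.P.f)
        (Localization.Away (AdjoinRoot.mk Pres.P.f Pres.P.g)), E.commutes])
  haveI : IsLocalization (Submonoid.powers (AdjoinRoot.mk Pres.P.f Pres.P.g))
      (Localization.Away g) :=
    IsLocalization.isLocalization_of_algEquiv (Submonoid.powers (AdjoinRoot.mk Pres.P.f Pres.P.g))
      (AlgEquiv.ofRingEquiv (f := E.toRingEquiv) (fun x => by
        rw [RingHom.algebraMap_toAlgebra]; rfl) :
        Localization.Away (AdjoinRoot.mk Pres.P.f Pres.P.g) ≃ₐ[AdjoinRoot Pres.P.f]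
          Localization.Away g)
  exact weakAss_locFiniteFlat_q (A := A) (C := AdjoinRoot Pres.P.f)
    (Submonoid.powers (AdjoinRoot.mk Pres.P.f Pres.P.g)) M p _ hq

open TensorProduct in
/-- Let A → B be an étale ring map, M an A-module and u a prime of B lying over the prime p of A. Then u
is a weakly associated prime of the B-module B ⊗_A M if and only if p is a weakly associated prime
of M. -/
theorem result {A B : Type u} [CommRing A] [CommRing B] [Algebra A B] [Algebra.Etale A B]
    (M : Type u) [AddCommGroup M] [Module A M] (p : Ideal A) [p.IsPrime] (u : Ideal B) [u.IsPrime] [u.LiesOver p] :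
    u ∈ FlatCA.weakAss B (B ⊗[A] M) ↔ p ∈ FlatCA.weakAss A M := by
  obtain ⟨g, hgu, hstd⟩ := Algebra.IsEtaleAt.exists_isStandardEtale (R := A) u
  exact aux_q M p u g hgu (Nonempty.some hstd.nonempty_standardEtalePresentation)

end Groth.Agent.S1233
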