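import Groth.Statements.S1234
import Mathlib
import Groth.Agent.S1233
import Groth.Agent.S9589
import Groth.Agent.Lib.Helper8.Hzl.IndEtaleFlat
import Groth.Agent.Lib.Helper8.EtaleToFlat

set_option autoImplicit false
universe u
open FlatMor

namespace Groth.Agent.S1234

open TensorProduct IsLocalRing

theorem exists_fin_sum {R S : Type u} [CommRing R] [CommRing S] [Algebra R S]
    {N : Type u} [AddCommGroup N] [Module R N] (y : S ⊗[R] N) :
    ∃ (l : ℕ) (b : Fin l → S) (x : Fin l → N), y = ∑ k, b k ⊗ₜ[R] x k := by
  induction y using TensorProduct.induction_on with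
  | zero => exact ⟨0, Fin.elim0, Fin.elim0, by simp⟩
  | tmul b x => exact ⟨1, fun _ => b, fun _ => x, by simp⟩
  | add y1 y2 h1 h2 =>
    obtain ⟨l1, b1, x1, rfl⟩ := h1
    obtain ⟨l2, b2, x2, rfl⟩ := h2
    refine ⟨l1 + l2, Fin.append b1 b2, Fin.append x1 x2, ?_⟩
    rw [Fin.sum_univ_add]
    simp only [Fin.append_left, Fin.append_right]

theorem semilin_rTensor {R E S : Type u} [CommRing R] [CommRing E] [CommRing S] [Algebra R E]
    [Algebra R S] (ι : E →ₐ[R] S) (N : Type u) [AddCommGroup N] [Module R N] (a : E)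
    (z : E ⊗[R] N) :
    (ι.toLinearMap.rTensor N) (a • z) = ι a • (ι.toLinearMap.rTensor N) z := by
  induction z using TensorProduct.induction_on with
  | zero => simp
  | add x y hx hy => rw [smul_add, map_add, hx, hy, map_add, smul_add]
  | tmul e n =>
    rw [TensorProduct.smul_tmul', LinearMap.rTensor_tmul, LinearMap.rTensor_tmul,
      TensorProduct.smul_tmul', smul_eq_mul, smul_eq_mul, AlgHom.toLinearMap_apply,
      AlgHom.toLinearMap_apply, map_mul]

section Lemmas

variable {R S : Type u} [CommRing R] [CommRing S] [IsLocalRing R] [IsLocalRing S] [Algebra R S]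
  [IsLocalHom (algebraMap R S)] [Module.Flat R S]

theorem up (hmax : (maximalIdeal R).map (algebraMap R S) = maximalIdeal S)
    (N : Type u) [AddCommGroup N] [Module R N]
    (h : maximalIdeal R ∈ FlatCA.weakAss R N) :
    maximalIdeal S ∈ FlatCA.weakAss S (S ⊗[R] N) := by
  obtain ⟨m, hm⟩ := h
  refine ⟨(1 : S) ⊗ₜ[R] m, ⟨inferInstance, ?_⟩, ?_⟩
  · intro b hb
    rw [Submodule.mem_annihilator_span_singleton, TensorProduct.smul_tmul', smul_eq_mul,
      mul_one] at hb
    have h1 := Groth.Agent.S1232.ann_one_tmul_le_q m b hb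
    rw [← hmax]
    exact Ideal.map_mono hm.1.2 h1
  · rintro Q ⟨hQ, hJQ⟩ hQm
    haveI := hQ
    have hIq : (Submodule.span R {m}).annihilator ≤ Ideal.comap (algebraMap R S) Q := by
      intro a ha
      rw [Ideal.mem_comap]
      apply hJQ
      rw [Submodule.mem_annihilator_span_singleton] at ha ⊢
      rw [algebraMap_smul, ← TensorProduct.tmul_smul, ha, TensorProduct.tmul_zero]
    have hle : Ideal.comap (algebraMap R S) Q ≤ maximalIdeal R :=
      IsLocalRing.le_maximalIdeal (Ideal.comap_ne_top _ hQ.ne_top)
    have hge : maximalIdeal R ≤ Ideal.comap (algebraMap R S) Q :=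
      hm.2 ⟨Ideal.comap_isPrime _ Q, hIq⟩ hle
    rw [← hmax, Ideal.map_le_iff_le_comap]
    exact hge

theorem down (hind : Groth.Agent.Lib.Helper8.Hzl.IndEtaleLike R S)
    (N : Type u) [AddCommGroup N] [Module R N]
    (h : maximalIdeal S ∈ FlatCA.weakAss S (S ⊗[R] N)) :
    maximalIdeal R ∈ FlatCA.weakAss R N := by
  obtain ⟨y, hy⟩ := h
  obtain ⟨l, b, x, hyy⟩ := exists_fin_sum y
  obtain ⟨E, _, _, _, ι, e, t, ht, he⟩ := hind.exists_finite b
  letI algES : Algebra E S := ι.toRingHom.toAlgebra
  haveI tower : IsScalarTower R E S :=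
    IsScalarTower.of_algebraMap_eq (fun a => (ι.commutes a).symm)
  haveI flatES : Module.Flat E S :=
    Groth.Agent.Lib.Helper8.EtaleToFlat.flat_of_etale_of_flat R E S
  obtain ⟨w, hw⟩ : ∃ w : E ⊗[R] N, w = ∑ k, e k ⊗ₜ[R] x k := ⟨_, rfl⟩
  have hψw : (ι.toLinearMap.rTensor N) w = ι t • y := by
    rw [hw, hyy, map_sum, Finset.smul_sum]
    refine Finset.sum_congr rfl fun k _ => ?_
    rw [LinearMap.rTensor_tmul, AlgHom.toLinearMap_apply, ← he k, TensorProduct.smul_tmul',
      smul_eq_mul, mul_comm]
  haveI hu : ((maximalIdeal S).comap ι.toRingHom).IsPrime := Ideal.comap_isPrime _ _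
  haveI hlo : ((maximalIdeal S).comap ι.toRingHom).LiesOver (maximalIdeal R) := ⟨by
    show maximalIdeal R =
      Ideal.comap (algebraMap R E) (Ideal.comap ι.toRingHom (maximalIdeal S))
    rw [Ideal.comap_comap, ← IsLocalRing.maximalIdeal_comap (algebraMap R S)]
    congr 1
    ext r
    exact (ι.commutes r).symm⟩
  haveI hlo2 : (maximalIdeal S).LiesOver ((maximalIdeal S).comap ι.toRingHom) := ⟨rfl⟩
  have hannw : ∀ a : E, a • w = 0 → a ∈ (maximalIdeal S).comap ι.toRingHom := by
    intro a ha
    have h1 : ι a • (ι t • y) = 0 := by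
      rw [← hψw, ← semilin_rTensor, ha, map_zero]
    have h2 : ι a * ι t ∈ (Submodule.span S {y}).annihilator := by
      rw [Submodule.mem_annihilator_span_singleton, mul_smul]
      exact h1
    have h3 : ι a * ι t ∈ maximalIdeal S := hy.1.2 h2
    exact (Ideal.mul_unit_mem_iff_mem _ ht).mp h3
  have hmem : (maximalIdeal S).comap ι.toRingHom ∈ FlatCA.weakAss E (E ⊗[R] N) := by
    refine ⟨w, ⟨hu, ?_⟩, ?_⟩
    · intro a ha
      rw [Submodule.mem_annihilator_span_singleton] at ha
      exact hannw a ha
    · rintro q' ⟨hq', hJq'⟩ hq'u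
      haveI := hq'
      obtain ⟨Q, hQle, hQprime, hQover⟩ :=
        Ideal.exists_ideal_le_liesOver_of_le (S := S) (p := q')
          (q := (maximalIdeal S).comap ι.toRingHom) (maximalIdeal S) hq'u
      haveI := hQprime
      have hJQ : (Submodule.span S {y}).annihilator ≤ Q := by
        intro s hs
        rw [Submodule.mem_annihilator_span_singleton] at hs
        have hz : s ⊗ₜ[E] w = 0 := by
          apply (TensorProduct.AlgebraTensorModule.cancelBaseChange R E S S N).injective
          rw [map_zero, hw, TensorProduct.tmul_sum, map_sum]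
          simp only [TensorProduct.AlgebraTensorModule.cancelBaseChange_tmul]
          have hterm : ∀ k, (e k • s) ⊗ₜ[R] x k = (s * ι t) • (b k ⊗ₜ[R] x k) := by
            intro k
            rw [TensorProduct.smul_tmul', smul_eq_mul]
            congr 1
            rw [Algebra.smul_def, RingHom.algebraMap_toAlgebra]
            show ι (e k) * s = s * ι t * b k
            rw [← he k]
            ring
          rw [Finset.sum_congr rfl (fun k _ => hterm k), ← Finset.smul_sum, ← hyy, mul_smul,
            smul_comm, hs, smul_zero]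
        have h1 := Groth.Agent.S1232.ann_one_tmul_le_q (A := E) (B := S) w s hz
        have h2 : Ideal.map (algebraMap E S) (Submodule.span E {w}).annihilator ≤ Q := by
          rw [Ideal.map_le_iff_le_comap]
          refine hJq'.trans ?_
          rw [hQover.over]
        exact h2 h1
      have hmQ : maximalIdeal S ≤ Q := hy.2 ⟨hQprime, hJQ⟩ hQle
      intro a ha
      have h5 : ι a ∈ Q := hmQ ha
      rw [hQover.over]
      exact h5
  exact (Groth.Agent.S1233.result N (maximalIdeal R) ((maximalIdeal S).comap ι.toRingHom)).mp hmem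

end Lemmas


open TensorProduct IsLocalRing in
/-- Ring form, S = Spec A: let M be an A-module and p a prime of A; let Ah be a henselization and Ash a
strict henselization of the local ring A_p. The following are equivalent: p is a weakly associated
prime of M; the maximal ideal of A_p is a weakly associated prime of M_p; the maximal ideal of Ah is
a weakly associated prime of Ah ⊗ M_p; the maximal ideal of Ash is a weakly associated prime of Ash
⊗ M_p. -/
theorem result {A : Type u} [CommRing A] (M : Type u) [AddCommGroup M] [Module A M] (p : Ideal A) [p.IsPrime]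
    (Ah Ash : Type u) [CommRing Ah] [IsLocalRing Ah] [CommRing Ash] [IsLocalRing Ash]
    [Algebra (Localization.AtPrime p) Ah] [IsLocalHom (algebraMap (Localization.AtPrime p) Ah)] [Hensel.IsHenselization (Localization.AtPrime p) Ah]
    [Algebra (Localization.AtPrime p) Ash] [IsLocalHom (algebraMap (Localization.AtPrime p) Ash)] [Hensel.IsStrictHenselization (Localization.AtPrime p) Ash] :
    [p ∈ FlatCA.weakAss A M,
     maximalIdeal (Localization.AtPrime p) ∈ FlatCA.weakAss (Localization.AtPrime p) (LocalizedModule p.primeCompl M),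
     maximalIdeal Ah ∈ FlatCA.weakAss Ah (Ah ⊗[Localization.AtPrime p] LocalizedModule p.primeCompl M),
     maximalIdeal Ash ∈ FlatCA.weakAss Ash (Ash ⊗[Localization.AtPrime p] LocalizedModule p.primeCompl M)].TFAE := by
  classical
  have hdisj : Disjoint (p.primeCompl : Set A) (p : Set A) :=
    Set.disjoint_left.mpr (fun a ha hap => ha hap)
  have hmax : Ideal.map (algebraMap A (Localization p.primeCompl)) p =
      IsLocalRing.maximalIdeal (Localization p.primeCompl) :=
    Localization.AtPrime.map_eq_maximalIdeal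
  have h12 : p ∈ FlatCA.weakAss A M ↔ IsLocalRing.maximalIdeal (Localization.AtPrime p) ∈
      FlatCA.weakAss (Localization.AtPrime p) (LocalizedModule p.primeCompl M) := by
    have h := Groth.Agent.S9589.result p.primeCompl M p hdisj
    rw [hmax] at h
    exact h
  have fl1 : Module.Flat (Localization.AtPrime p) Ah :=
    Groth.Agent.Lib.Helper8.Hzl.henselization_flat _ _
  have fl2 : Module.Flat (Localization.AtPrime p) Ash :=
    Groth.Agent.Lib.Helper8.Hzl.strictHenselization_flat _ _
  have h23 : IsLocalRing.maximalIdeal (Localization.AtPrime p) ∈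
      FlatCA.weakAss (Localization.AtPrime p) (LocalizedModule p.primeCompl M) ↔
      IsLocalRing.maximalIdeal Ah ∈ FlatCA.weakAss Ah
        (Ah ⊗[Localization.AtPrime p] LocalizedModule p.primeCompl M) :=
    ⟨up (Groth.Agent.Lib.Helper8.Hzl.henselization_map_maximalIdeal _ _) _,
      down (Groth.Agent.Lib.Helper8.Hzl.henselization_indEtaleLike _ _) _⟩
  have h24 : IsLocalRing.maximalIdeal (Localization.AtPrime p) ∈
      FlatCA.weakAss (Localization.AtPrime p) (LocalizedModule p.primeCompl M) ↔
      IsLocalRing.maximalIdeal Ash ∈ FlatCA.weakAss Ash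
        (Ash ⊗[Localization.AtPrime p] LocalizedModule p.primeCompl M) :=
    ⟨up (Groth.Agent.Lib.Helper8.Hzl.strictHenselization_map_maximalIdeal _ _) _,
      down (Groth.Agent.Lib.Helper8.Hzl.strictHenselization_indEtaleLike _ _) _⟩
  tfae_have 1 ↔ 2 := h12
  tfae_have 2 ↔ 3 := h23
  tfae_have 2 ↔ 4 := h24
  tfae_finish

end Groth.Agent.S1234
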