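import Groth.Statements.S12478
import Groth.Agent.Lib.Helper3.VABridge
import Groth.Agent.Lib.Helper3.VALocal
import Groth.Agent.Lib.Helper3.VAMain
import Groth.Agent.Lib.Helper3.InvRestrict

set_option autoImplicit false
universe u
open CategoryTheory CategoryTheory.Limits AlgebraicGeometry TopologicalSpace Opposite
open scoped HomogeneousIdeal
open EGA2

namespace Groth.Agent.S12478

/-- Let Y be a quasi-compact scheme, f : X → Y a morphism of finite type and L an invertible O_X-module
which is ample relative to f. Then there is an integer n₀ > 0 such that for every n ≥ n₀ the tensor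
power L^{⊗n} is very ample relative to f (isomorphic to the inverse image of O(1) along a
Y-immersion of X into the projective bundle P(E) of a quasi-coherent O_Y-module E). (The converse
direction, from very-ampleness of one positive tensor power to f-ampleness, is the other half of the
published equivalence and is stated separately.) -/
theorem result {X Y : Scheme.{u}} [CompactSpace Y] (f : X ⟶ Y)
    [QuasiCompact f] [LocallyOfFiniteType f] (L : X.Modules) (hL : PicF.IsInvertible L)
    (h : RelAmple.IsRelAmple f L) :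
    ∃ n₀ : ℕ, 0 < n₀ ∧ ∀ n : ℕ, n₀ ≤ n → RelProj.IsRelVeryAmple f (CohB1.tensorPow L n) := by
  classical
  obtain ⟨ι, hι, U, hU, -, hcov⟩ :=
    Groth.Agent.Lib.Helper3.QCSec.exists_finite_affine_cover (⊤ : Y.Opens) isCompact_univ
  have key : ∀ i : ι, ∃ n₀ : ℕ, ∀ n, n₀ ≤ n →
      RelAmple.IsRelVeryAmplePn (f ∣_ U i) (CohB1.tensorPow (L.restrict (f ⁻¹ᵁ U i).ι) n) :=
    fun i => Groth.Agent.Lib.Helper3.VAMain.eventually_isRelVeryAmplePn_pow (f ∣_ U i)
      (h.2 ⟨U i, hU i⟩)
  choose N hN using key
  haveI := Fintype.ofFinite ι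
  refine ⟨(Finset.univ.sup N) + 1, Nat.succ_pos _, fun n hn => ?_⟩
  apply Groth.Agent.Lib.Helper3.VALocal.isRelVeryAmple_of_local f _
    (Groth.Agent.Lib.Helper3.InvTensor.isInvertible_tensorPow hL n)
  intro y
  obtain ⟨i, hi⟩ := Opens.mem_iSup.mp (hcov (show y ∈ (⊤ : Y.Opens) from trivial))
  refine ⟨U i, hi, ?_⟩
  apply Groth.Agent.Lib.Helper3.VABridge.isRelVeryAmple_of_isRelVeryAmplePn _ _
    (Groth.Agent.Lib.Helper3.InvRestrict.isInvertible_restrict _
      (Groth.Agent.Lib.Helper3.InvTensor.isInvertible_tensorPow hL n))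
  refine Groth.Agent.Lib.Helper3.VAMain.isRelVeryAmplePn_of_iso _
    (Groth.Agent.Lib.Helper3.InvRestrict.restrictPowIso (f ⁻¹ᵁ U i).ι L n) (hN i n ?_)
  have h1 : N i ≤ Finset.univ.sup N := Finset.le_sup (Finset.mem_univ i)
  omega

end Groth.Agent.S12478
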