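import Groth.Statements.S12416
import Groth.Agent.Lib.Helper3.VAFin
import Groth.Agent.Lib.Helper3.AmpleMisc
import Groth.Agent.Lib.Helper3.CPb
import Groth.Agent.Lib.Helper3.SymFT
import Groth.Agent.Lib.Helper3.ProjProper
import Groth.Agent.S12478

set_option autoImplicit false
universe u
open CategoryTheory CategoryTheory.Limits AlgebraicGeometry
open RelProj

namespace Groth.Agent.S12416

/-- Over a quasi-compact and quasi-separated base scheme S, a morphism f : X → S which is proper and
quasi-projective (of finite type with an f-ample invertible module) is projective, i.e. X is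
isomorphic over S to the relative homogeneous spectrum of a quasi-coherent graded algebra generated
by its degree-one part, with degree-one part of finite type. -/
theorem result {X S : Scheme.{u}} (f : X ⟶ S)
    [CompactSpace S] [QuasiSeparatedSpace S] [IsProper f] (hq : RelProj.IsQuasiProjective f) :
    RelProj.IsProjective f := by
  obtain ⟨hft, hqc, L, hL⟩ := hq
  haveI := hft
  haveI := hqc
  have hLinv : PicF.IsInvertible L :=
    Groth.Agent.Lib.Helper3.AmpleMisc.isInvertible_of_isRelAmple f hL
  obtain ⟨n₀, -, hn₀⟩ := Groth.Agent.S12478.result f L hLinv hL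
  obtain ⟨E, 𝒯, j, P, p, chart, O1, lam, i, hEq, hEft, hj, hP, -, hi, hip, -⟩ :=
    Groth.Agent.Lib.Helper3.VAFin.exists_finiteType_immersion f (CohB1.tensorPow L n₀)
      (Groth.Agent.Lib.Helper3.InvTensor.isInvertible_tensorPow hLinv n₀) (hn₀ n₀ le_rfl)
  haveI := hEq
  haveI := hEft
  haveI := hi
  have hgen := Groth.Agent.Lib.Helper3.SymGenProj.isGenDegOne hj
  have hftd := Groth.Agent.Lib.Helper3.SymFT.isFTDeg_one hj
  haveI : IsProper p := Groth.Agent.Lib.Helper3.ProjProper.isProper_of_isGenDegOne hP hgen hftd
  haveI : IsProper (i ≫ p) := by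
    rw [hip]
    infer_instance
  haveI : IsProper i := IsProper.of_comp i p
  haveI : IsClosedImmersion i :=
    IsClosedImmersion.of_isPreimmersion i i.isClosedMap.isClosed_range
  have h := Groth.Agent.Lib.Helper3.CPb.isProjective 𝒯 p chart i hP hgen hftd
  rwa [hip] at h

end Groth.Agent.S12416
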