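import Groth.Statements.S12417
import Mathlib

set_option autoImplicit false
universe u
open CategoryTheory AlgebraicGeometry
open Props

namespace Groth.Agent.S12417

/-- Let X be a quasi-compact quasi-separated scheme and P a property of opens of X such that (a) P holds
for every affine open, and (b) whenever a quasi-compact open U has a finite affine open covering U =
V_1 ∪ … ∪ V_n with P holding for every intersection V_i ∩ V_j, P holds for U. Then P holds for every
quasi-compact open of X. -/
theorem result (X : Scheme.{u}) [CompactSpace X] [QuasiSeparatedSpace X]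
    (P : X.Opens → Prop) (ha : ∀ U : X.Opens, IsAffineOpen U → P U)
    (hb : ∀ (U : X.Opens) (n : ℕ) (V : Fin n → X.Opens), IsCompact (U : Set X) →
      (∀ i, IsAffineOpen (V i)) → ⨆ i, V i = U → (∀ i j, P (V i ⊓ V j)) → P U)
    (U : X.Opens) (hU : IsCompact (U : Set X)) : P U := by
  classical
  -- Step 1: compact opens inside an affine open
  have step1 : ∀ (V W : X.Opens), IsAffineOpen V → W ≤ V → IsCompact (W : Set X) → P W := by
    intro V W hV hWV hW
    have hex : ∀ x : W, ∃ f : Γ(X, V), X.basicOpen f ≤ W ∧ (x : X) ∈ X.basicOpen f := fun x =>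
      hV.exists_basicOpen_le x (hWV x.2)
    choose f hfW hxf using hex
    obtain ⟨t, ht⟩ := hW.elim_finite_subcover (fun x : W => ((X.basicOpen (f x) : X.Opens) : Set X))
      (fun x => (X.basicOpen (f x)).isOpen) (fun x hx => Set.mem_iUnion.2 ⟨⟨x, hx⟩, hxf ⟨x, hx⟩⟩)
    let e := t.equivFin
    let V' : Fin t.card → X.Opens := fun i => X.basicOpen (f (e.symm i : W))
    refine hb W t.card V' hW (fun i => hV.basicOpen _) ?_ (fun i j => ?_)
    · apply le_antisymm
      · exact iSup_le fun i => hfW _
      · intro x hx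
        obtain ⟨y, hy⟩ := Set.mem_iUnion.1 (ht hx)
        obtain ⟨hyt, hxy⟩ := Set.mem_iUnion.1 hy
        refine TopologicalSpace.Opens.mem_iSup.2 ⟨e ⟨y, hyt⟩, ?_⟩
        show x ∈ X.basicOpen (f (e.symm (e ⟨y, hyt⟩) : W))
        rw [Equiv.symm_apply_apply]
        exact hxy
    · apply ha
      show IsAffineOpen (X.basicOpen (f (e.symm i : W)) ⊓ X.basicOpen (f (e.symm j : W)))
      rw [← Scheme.basicOpen_mul]
      exact hV.basicOpen _
  -- Step 2
  obtain ⟨Us, hUs, hfin, hUeq⟩ := X.isBasis_affineOpens.exists_finite_of_isCompact hU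
  let e := hfin.toFinset.equivFin
  let V : Fin hfin.toFinset.card → X.Opens := fun i => ((e.symm i : hfin.toFinset) : X.Opens)
  have hVmem : ∀ i, V i ∈ Us := fun i => hfin.mem_toFinset.1 (e.symm i).2
  have hVaff : ∀ i, IsAffineOpen (V i) := fun i => hUs (hVmem i)
  refine hb U _ V hU hVaff ?_ (fun i j => ?_)
  · rw [hUeq]
    apply le_antisymm
    · exact iSup_le fun i => le_sSup (hVmem i)
    · refine sSup_le fun W hW => ?_
      refine le_iSup_of_le (e ⟨W, hfin.mem_toFinset.2 hW⟩) ?_
      show W ≤ ((e.symm (e ⟨W, hfin.mem_toFinset.2 hW⟩) : hfin.toFinset) : X.Opens)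
      rw [Equiv.symm_apply_apply]
  · refine step1 (V i) (V i ⊓ V j) (hVaff i) inf_le_left ?_
    exact QuasiSeparatedSpace.inter_isCompact _ _ (V i).isOpen (hVaff i).isCompact (V j).isOpen
      (hVaff j).isCompact

end Groth.Agent.S12417
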