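import Groth.Statements.S12418
import Mathlib

set_option autoImplicit false
universe u
open CAlg

namespace Groth.Agent.S12418

/-- Let R be a Noetherian ring and b ∈ R; for x outside the ideal (b) put I_x = ((b) : x), the ideal of
r with r x ∈ (b). If s ∉ (b) and I_s is maximal among the I_x (x ∉ (b)), then I_s is prime. -/
theorem result {R : Type u} [CommRing R] [IsNoetherianRing R]
    (b s : R) (hs : s ∉ Ideal.span {b})
    (hmax : ∀ x : R, x ∉ Ideal.span {b} →
      Submodule.colon (Ideal.span {b}) (Ideal.span {s}) ≤ Submodule.colon (Ideal.span {b}) (Ideal.span {x}) →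
      Submodule.colon (Ideal.span {b}) (Ideal.span {x}) = Submodule.colon (Ideal.span {b}) (Ideal.span {s})) :
    (Submodule.colon (Ideal.span {b}) (Ideal.span ({s} : Set R))).IsPrime := by
  have hmem : ∀ x r : R, r ∈ Submodule.colon (Ideal.span {b}) ((Ideal.span ({x} : Set R) : Ideal R) : Set R) ↔
      r * x ∈ Ideal.span {b} := by
    intro x r
    exact Ideal.mem_colon_span_singleton
  refine ⟨?_, ?_⟩
  · intro htop
    have h1 : (1 : R) ∈ Submodule.colon (Ideal.span {b}) ((Ideal.span ({s} : Set R) : Ideal R) : Set R) := by
      rw [htop]; exact Submodule.mem_top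
    rw [hmem, one_mul] at h1
    exact hs h1
  · intro u v huv
    by_contra hcon
    push_neg at hcon
    obtain ⟨hu, hv⟩ := hcon
    rw [hmem] at huv hu hv
    have hus : u * s ∉ Ideal.span {b} := hu
    have hle : Submodule.colon (Ideal.span {b}) ((Ideal.span ({s} : Set R) : Ideal R) : Set R) ≤
        Submodule.colon (Ideal.span {b}) ((Ideal.span ({u * s} : Set R) : Ideal R) : Set R) := by
      intro r hr
      rw [hmem] at hr ⊢
      have : r * (u * s) = u * (r * s) := by ring
      rw [this]
      exact Ideal.mul_mem_left _ _ hr
    have heq := hmax (u * s) hus hle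
    have hvmem : v ∈ Submodule.colon (Ideal.span {b}) ((Ideal.span ({u * s} : Set R) : Ideal R) : Set R) := by
      rw [hmem]
      have : v * (u * s) = u * v * s := by ring
      rw [this]; exact huv
    rw [heq, hmem] at hvmem
    exact hv hvmem

end Groth.Agent.S12418
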