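import Groth.Statements.S12421
import Mathlib

set_option autoImplicit false
universe u
open TensorProduct
open Desc

namespace Groth.Agent.S12421

/-- Let R → R' be faithfully flat and M an R-module. With δ¹ : M ⊗ R' → M ⊗ (R' ⊗ R'), m ⊗ r ↦ m ⊗ (1 ⊗
r) − m ⊗ (r ⊗ 1), and δ² : M ⊗ (R' ⊗ R') → M ⊗ (R' ⊗ (R' ⊗ R')), m ⊗ x ↦ m ⊗ (1 ⊗ x) − m ⊗ (ins₁ x)
+ m ⊗ (ins₂ x), where ins₁ (r₁ ⊗ r₂) = r₁ ⊗ (1 ⊗ r₂) and ins₂ (r₁ ⊗ r₂) = r₁ ⊗ (r₂ ⊗ 1), the
sequence M ⊗ R' → M ⊗ R'^{⊗2} → M ⊗ R'^{⊗3} is exact: the kernel of δ² is the image of δ¹. (The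
published statement asserts exactness of the whole complex; this row states exactness at M ⊗ R′ ⊗ R′
only.) -/
theorem result (R R' : Type u) [CommRing R] [CommRing R'] [Algebra R R']
    [Module.FaithfullyFlat R R'] (M : Type u) [AddCommGroup M] [Module R M] :
    Function.Exact
      (LinearMap.lTensor M (Algebra.TensorProduct.includeRight : R' →ₐ[R] R' ⊗[R] R').toLinearMap -
        LinearMap.lTensor M
          (Algebra.TensorProduct.includeLeft : R' →ₐ[R] R' ⊗[R] R').toLinearMap)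
      (LinearMap.lTensor M
          (Algebra.TensorProduct.includeRight : R' ⊗[R] R' →ₐ[R] R' ⊗[R] (R' ⊗[R] R')).toLinearMap -
        LinearMap.lTensor M
          (Algebra.TensorProduct.map (AlgHom.id R R')
            (Algebra.TensorProduct.includeRight : R' →ₐ[R] R' ⊗[R] R')).toLinearMap +
        LinearMap.lTensor M
          (Algebra.TensorProduct.map (AlgHom.id R R')
            (Algebra.TensorProduct.includeLeft : R' →ₐ[R] R' ⊗[R] R')).toLinearMap) := by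
  classical
  set δ1 : M ⊗[R] R' →ₗ[R] M ⊗[R] (R' ⊗[R] R') :=
    LinearMap.lTensor M (Algebra.TensorProduct.includeRight : R' →ₐ[R] R' ⊗[R] R').toLinearMap -
      LinearMap.lTensor M (Algebra.TensorProduct.includeLeft : R' →ₐ[R] R' ⊗[R] R').toLinearMap
    with hδ1
  set δ2 : M ⊗[R] (R' ⊗[R] R') →ₗ[R] M ⊗[R] (R' ⊗[R] (R' ⊗[R] R')) :=
    LinearMap.lTensor M
        (Algebra.TensorProduct.includeRight : R' ⊗[R] R' →ₐ[R] R' ⊗[R] (R' ⊗[R] R')).toLinearMap -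
      LinearMap.lTensor M
        (Algebra.TensorProduct.map (AlgHom.id R R')
          (Algebra.TensorProduct.includeRight : R' →ₐ[R] R' ⊗[R] R')).toLinearMap +
      LinearMap.lTensor M
        (Algebra.TensorProduct.map (AlgHom.id R R')
          (Algebra.TensorProduct.includeLeft : R' →ₐ[R] R' ⊗[R] R')).toLinearMap
    with hδ2
  have hδ1t : ∀ (m : M) (r : R'), δ1 (m ⊗ₜ r) = m ⊗ₜ ((1 : R') ⊗ₜ r) - m ⊗ₜ (r ⊗ₜ (1 : R')) := by
    intro m r
    simp [hδ1]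
  have hδ2t : ∀ (m : M) (r₁ r₂ : R'), δ2 (m ⊗ₜ (r₁ ⊗ₜ r₂)) =
      m ⊗ₜ ((1 : R') ⊗ₜ (r₁ ⊗ₜ r₂)) - m ⊗ₜ (r₁ ⊗ₜ ((1 : R') ⊗ₜ r₂)) + m ⊗ₜ (r₁ ⊗ₜ (r₂ ⊗ₜ (1 : R'))) := by
    intro m r₁ r₂
    simp [hδ2]
  -- contracting maps
  let t : ∀ (Z : Type u) [AddCommGroup Z] [Module R Z],
      R' ⊗[R] (M ⊗[R] (R' ⊗[R] Z)) →ₗ[R] R' ⊗[R] (M ⊗[R] Z) :=
    fun Z _ _ => (LinearMap.mul' R R').rTensor (M ⊗[R] Z) ∘ₗ
      (TensorProduct.assoc R R' R' (M ⊗[R] Z)).symm.toLinearMap ∘ₗ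
      (TensorProduct.leftComm R M R' Z).toLinearMap.lTensor R'
  have ht : ∀ (Z : Type u) [AddCommGroup Z] [Module R Z] (a : R') (m : M) (r : R') (z : Z),
      t Z (a ⊗ₜ (m ⊗ₜ (r ⊗ₜ z))) = (a * r) ⊗ₜ (m ⊗ₜ z) := by
    intro Z _ _ a m r z
    simp [t]
  have hcomp : δ2 ∘ₗ δ1 = 0 := by
    apply TensorProduct.ext'
    intro m r
    rw [LinearMap.comp_apply, hδ1t, map_sub, hδ2t, hδ2t, LinearMap.zero_apply]
    abel
  have hhom : (t (R' ⊗[R] R')) ∘ₗ (δ2.lTensor R') + (δ1.lTensor R') ∘ₗ (t R') = LinearMap.id := by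
    apply TensorProduct.ext'
    intro a y
    induction y using TensorProduct.induction_on with
    | zero => simp
    | add y₁ y₂ h₁ h₂ =>
      rw [TensorProduct.tmul_add, map_add, h₁, h₂, map_add]
    | tmul m w =>
      induction w using TensorProduct.induction_on with
      | zero => simp
      | add w₁ w₂ h₁ h₂ =>
        rw [TensorProduct.tmul_add, TensorProduct.tmul_add, map_add, h₁, h₂, map_add]
      | tmul r₁ r₂ =>
        simp only [LinearMap.add_apply, LinearMap.comp_apply, LinearMap.lTensor_tmul, hδ2t, ht,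
          hδ1t, LinearMap.id_apply, TensorProduct.tmul_sub, TensorProduct.tmul_add, map_sub, map_add,
          mul_one]
        abel
  apply Module.FaithfullyFlat.lTensor_reflects_exact R R'
  intro y
  constructor
  · intro hy
    refine ⟨t R' y, ?_⟩
    have h1 := LinearMap.congr_fun hhom y
    simp only [LinearMap.add_apply, LinearMap.comp_apply, LinearMap.id_apply] at h1
    rw [hy, map_zero, zero_add] at h1
    exact h1
  · rintro ⟨z, rfl⟩
    rw [← LinearMap.comp_apply, ← LinearMap.lTensor_comp, hcomp]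
    simp

end Groth.Agent.S12421
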