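import Groth.Statements.S12422
-- import your own Groth.Agent.* helpers here
import Mathlib
import Groth.Agent.S5019
import Groth.Agent.Lib.Helper22.RegPerfSm
import Groth.Agent.Lib.Helper22.SmoothRank3
import Groth.Agent.Lib.Helper22.SmoothJZ2
import Groth.Agent.Lib.Helper17.LocFreeRank
import Groth.Agent.Lib.Helper14.GeomRegSmooth

set_option autoImplicit false
universe u
open CategoryTheory CategoryTheory.Limits AlgebraicGeometry
open NonsingVar

namespace Groth.Agent.S12422

/-- Let k be an algebraically closed field, X an irreducible scheme which is separated and of finite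
type over k, n = dim X, and (Ω, d) a sheaf of relative differentials of X over k, i.e. d : O_X → Ω a
universal k-derivation. Then Ω is locally free of rank n if and only if every local ring of X is
regular (X is a nonsingular variety over k). -/
theorem result (k : Type u) [Field k] [IsAlgClosed k] (n : ℕ)
    (X : Scheme.{u}) [X.Over (Spec (CommRingCat.of k))] [IrreducibleSpace ↥X]
    [IsSeparated (X ↘ (Spec (CommRingCat.of k)))] [LocallyOfFiniteType (X ↘ (Spec (CommRingCat.of k)))]
    [QuasiCompact (X ↘ (Spec (CommRingCat.of k)))]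
    (hn : topologicalKrullDim ↥X = (n : WithBot ℕ∞))
    (Ω : X.Modules) (d : OmegaSh.Der (X ↘ (Spec (CommRingCat.of k))) Ω) (hd : OmegaSh.IsUniversal d) :
    FlatMod.IsFinLocFreeOfRank n Ω ↔ ∀ x : ↥X, IsRegularLocalRing ↑(X.presheaf.stalk x) := by
  have hdim : ∀ x : X, FlatMor.fibreDimAt (X ↘ Spec (CommRingCat.of k)) x = (n : WithBot ℕ∞) :=
    fun x => Groth.Agent.Lib.Helper22.SmoothJZ.fibreDimAt_eq_of_irreducible_field k _ n hn x
  haveI : LocallyOfFinitePresentation (X ↘ Spec (CommRingCat.of k)) := inferInstance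
  haveI : Flat (X ↘ Spec (CommRingCat.of k)) := inferInstance
  constructor
  · intro hΩ x
    have hd₀ := Groth.Agent.S5005.result (X ↘ Spec (CommRingCat.of k))
    obtain ⟨α, hα, -⟩ := hd (Omega.sheaf (X ↘ Spec (CommRingCat.of k)))
      (OmegaSh.dOmega (X ↘ Spec (CommRingCat.of k)))
    haveI : IsIso α := Groth.Agent.Lib.Helper1.DerStruct.isIso_of_isUniversal _ _ hd hd₀ α hα
    have hΩ₀ : FlatMod.IsFinLocFreeOfRank n (Omega.sheaf (X ↘ Spec (CommRingCat.of k))) :=
      Groth.Agent.Lib.Helper17.LocFreeRank.isFinLocFreeOfRank_of_iso (asIso α) n hΩ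
    haveI : (Omega.sheaf (X ↘ Spec (CommRingCat.of k))).IsQuasicoherent :=
      Groth.Agent.Lib.Helper1.DerSmooth.isQuasicoherent _ _ hd₀
    haveI : (Omega.sheaf (X ↘ Spec (CommRingCat.of k))).IsFiniteType :=
      Groth.Agent.Lib.Helper1.DerFin.isFT _ _ hd₀
    have htop := ((Groth.Agent.Lib.Helper17.FittSheaf.isFinLocFreeOfRank_iff _ n).mp hΩ₀).2 n le_rfl
    have hx : x ∈ (X ↘ Spec (CommRingCat.of k)).smoothLocus := by
      by_contra hcon
      have h1 := (Groth.Agent.Lib.Helper22.SmoothRank.mem_support_fitt_iff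
        (X ↘ Spec (CommRingCat.of k)) n x (hdim x)).mpr hcon
      rw [htop] at h1
      exact h1
    exact Groth.Agent.Lib.Helper14.GeomRegSmooth.isRegularLocalRing_stalk_of_mem_smoothLocus k _ x hx
  · intro hreg x
    haveI : Smooth (X ↘ Spec (CommRingCat.of k)) :=
      Groth.Agent.Lib.Helper22.RegPerfSm.smooth_of_forall_isRegularLocalRing k _ hreg
    obtain ⟨U, n', hxU, hiso, hn'⟩ := Groth.Agent.S5019.main (X ↘ Spec (CommRingCat.of k)) Ω d hd x
    have hnn : n' = n := by
      rw [hdim x] at hn'
      exact_mod_cast hn'.symm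
    subst hnn
    exact ⟨U, hxU, hiso⟩

end Groth.Agent.S12422
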