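import Groth.Statements.S12423
-- import your own Groth.Agent.* helpers here
import Mathlib
import Groth.Agent.Lib.Helper22.ConormRank
import Groth.Agent.Lib.Helper22.RegPerfSm
import Groth.Agent.Lib.Helper22.SmoothJZ2
import Groth.Agent.Lib.Helper14.GeomRegSmooth
import Groth.Agent.S5019
import Groth.Agent.S5020
import Groth.Agent.S1488

set_option autoImplicit false
universe u
open CategoryTheory CategoryTheory.Limits AlgebraicGeometry
open NonsingVar

namespace Groth.Agent.S12423

/-- Let k be an algebraically closed field, X a nonsingular variety over k (integral, separated and of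
finite type over k, all local rings regular) of dimension n, i : Y → X an irreducible closed
subscheme of dimension q with ideal sheaf I, (Ω_X, d_X) and (Ω_Y, d_Y) sheaves of differentials of X
and Y over k (universal derivations), and φ : I/I² → i^*Ω_X the canonical map from the conormal
sheaf (class of a local section s of I ↦ pullback of d_X s). Then Y is nonsingular if and only if
(1) Ω_Y is locally free and (2) φ is a monomorphism (the conormal sequence 0 → I/I² → i^*Ω_X → Ω_Y →
0 is exact on the left too). Moreover in that case I/I² is locally free of rank n − q, the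
codimension of Y. (The clause that I is then locally generated by n − q sections is not restated.) -/
theorem result (k : Type u) [Field k]
    [IsAlgClosed k] (n q : ℕ)
    (X : Scheme.{u}) [X.Over (Spec (CommRingCat.of k))] [IsIntegral X] [IsSeparated (X ↘ (Spec (CommRingCat.of k)))]
    [LocallyOfFiniteType (X ↘ (Spec (CommRingCat.of k)))] [QuasiCompact (X ↘ (Spec (CommRingCat.of k)))]
    (hreg : ∀ x : ↥X, IsRegularLocalRing ↑(X.presheaf.stalk x))
    (hn : topologicalKrullDim ↥X = (n : WithBot ℕ∞))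
    (Y : Scheme.{u}) (i : Y ⟶ X) [IsClosedImmersion i] [IrreducibleSpace ↥Y]
    (hq : topologicalKrullDim ↥Y = (q : WithBot ℕ∞))
    (ΩX : X.Modules) (dX : OmegaSh.Der (X ↘ (Spec (CommRingCat.of k))) ΩX) (hX : OmegaSh.IsUniversal dX)
    (ΩY : Y.Modules) (dY : OmegaSh.Der (i ≫ (X ↘ (Spec (CommRingCat.of k)))) ΩY) (hY : OmegaSh.IsUniversal dY)
    (φ : Omega.conormal i ⟶ (Scheme.Modules.pullback i).obj ΩX) (hφ : OmegaSh.IsConormalDiff i dX φ) :
    ((∀ y : ↥Y, IsRegularLocalRing ↑(Y.presheaf.stalk y)) ↔ (FlatMod.IsFinLocFree ΩY ∧ Mono φ)) ∧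
      ((∀ y : ↥Y, IsRegularLocalRing ↑(Y.presheaf.stalk y)) →
        FlatMod.IsFinLocFreeOfRank (n - q) (Omega.conormal i)) := by
  haveI : LocallyOfFinitePresentation (X ↘ Spec (CommRingCat.of k)) := inferInstance
  haveI smX : Smooth (X ↘ Spec (CommRingCat.of k)) :=
    Groth.Agent.Lib.Helper22.RegPerfSm.smooth_of_forall_isRegularLocalRing k _ hreg
  haveI : LocallyOfFiniteType (i ≫ (X ↘ Spec (CommRingCat.of k))) := inferInstance
  haveI : LocallyOfFinitePresentation (i ≫ (X ↘ Spec (CommRingCat.of k))) := inferInstance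
  haveI : QuasiCompact i := inferInstance
  haveI : IsImmersion i := inferInstance
  have smooth_of_reg : (∀ y : Y, IsRegularLocalRing (Y.presheaf.stalk y)) →
      Smooth (i ≫ (X ↘ Spec (CommRingCat.of k))) := fun h =>
    Groth.Agent.Lib.Helper22.RegPerfSm.smooth_of_forall_isRegularLocalRing k _ h
  refine ⟨⟨fun hregY => ?_, fun ⟨hΩY, hmono⟩ y => ?_⟩, fun hregY => ?_⟩
  · haveI := smooth_of_reg hregY
    refine ⟨fun y => ?_, ?_⟩
    · obtain ⟨U, m, hyU, hiso, -⟩ :=
        Groth.Agent.S5019.main (i ≫ (X ↘ Spec (CommRingCat.of k))) ΩY dY hY y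
      exact ⟨U, m, hyU, hiso⟩
    · exact Groth.Agent.S5020.result i (X ↘ Spec (CommRingCat.of k))
        (((Groth.Agent.S1488.result _).mp inferInstance).2) ΩX dX hX φ hφ
  · haveI := hmono
    have hy := Groth.Agent.Lib.Helper22.ConormRank.mem_smoothLocus_of_mono
      (X ↘ Spec (CommRingCat.of k)) i dX hX dY hY φ hφ hΩY y
    exact Groth.Agent.Lib.Helper14.GeomRegSmooth.isRegularLocalRing_stalk_of_mem_smoothLocus k _ y hy
  · haveI := smooth_of_reg hregY
    intro y
    obtain ⟨UX, a, hUX, ⟨eX⟩, ha⟩ :=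
      Groth.Agent.S5019.main (X ↘ Spec (CommRingCat.of k)) ΩX dX hX (i y)
    obtain ⟨UZ, b, hUZ, ⟨eZ⟩, hb⟩ :=
      Groth.Agent.S5019.main (i ≫ (X ↘ Spec (CommRingCat.of k))) ΩY dY hY y
    have ha' : a = n := by
      rw [Groth.Agent.Lib.Helper22.SmoothJZ.fibreDimAt_eq_of_irreducible_field k _ n hn (i y)] at ha
      exact_mod_cast ha.symm
    have hb' : b = q := by
      rw [Groth.Agent.Lib.Helper22.SmoothJZ.fibreDimAt_eq_of_irreducible_field k _ q hq y] at hb
      exact_mod_cast hb.symm
    obtain ⟨W, r, hyW, hiso, hr⟩ := Groth.Agent.Lib.Helper22.ConormRank.conormal_free_rank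
      (X ↘ Spec (CommRingCat.of k)) i dX hX dY hY φ hφ y a b UX hUX eX UZ hUZ eZ
    have hrr : r = n - q := by omega
    subst hrr
    exact ⟨W, hyW, hiso⟩

end Groth.Agent.S12423
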