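import Groth.Statements.S12424
import Groth.Agent.Lib.Lead.LineP

set_option autoImplicit false
universe u
open Cubic

namespace Groth.Agent.S12424

open Module Groth.Agent.Lib.Lead.LineP

section lib
variable {k : Type u} [Field k]

/-- the linear substitution `X_i ↦ Σ_j A_{ij} Y_j`. -/
noncomputable def sub (A : Matrix (Fin 4) (Fin 3) k) :
    MvPolynomial (Fin 4) k →ₐ[k] MvPolynomial (Fin 3) k :=
  MvPolynomial.aeval (fun i : Fin 4 => ∑ j : Fin 3, MvPolynomial.C (A i j) * MvPolynomial.X j)

theorem eval_sub (A : Matrix (Fin 4) (Fin 3) k) (q : MvPolynomial (Fin 4) k) (y : Fin 3 → k) :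
    MvPolynomial.eval y (sub A q) = MvPolynomial.eval (A.mulVec y) q := by
  induction q using MvPolynomial.induction_on with
  | C a => simp [sub]
  | add a b ha hb => simp only [map_add, ha, hb]
  | mul_X q i ih =>
    simp only [map_mul, ih, MvPolynomial.eval_X]
    congr 1
    simp [sub, Matrix.mulVec, dotProduct]

theorem lineP_sub [Infinite k] (A : Matrix (Fin 4) (Fin 3) k) (q : MvPolynomial (Fin 4) k)
    (y z : Fin 3 → k) :
    lineP (sub A q) y z = lineP q (A.mulVec y) (A.mulVec z) := by
  apply Polynomial.funext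
  intro x
  rw [eval_lineP, eval_lineP, eval_sub, Matrix.mulVec_add, Matrix.mulVec_smul]

theorem sub_isHomogeneous (A : Matrix (Fin 4) (Fin 3) k) {q : MvPolynomial (Fin 4) k} {n : ℕ}
    (hq : q.IsHomogeneous n) : (sub A q).IsHomogeneous n := by
  have h := MvPolynomial.IsHomogeneous.aeval (n := 1) hq
    (fun i : Fin 4 => ∑ j : Fin 3, MvPolynomial.C (A i j) * MvPolynomial.X j)
    (fun i => MvPolynomial.IsHomogeneous.sum _ _ _
      (fun j _ => MvPolynomial.isHomogeneous_C_mul_X (A i j) j))
  rw [one_mul] at h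
  exact h

end lib

/-- Let k be an algebraically closed field of characteristic zero and S = V_+(f) ⊂ P^3_k a smooth cubic
surface, f a nonzero homogeneous cubic in four variables with the Jacobian condition at every
nonzero zero. For every hyperplane H of P^3_k the scheme-theoretic intersection S ∩ H is reduced;
concretely, for every 4 × 3 matrix A of rank 3 over k (a linear parametrisation of H), the ternary
cubic obtained from f by substituting X_i ↦ Σ_j A_{ij} Y_j is squarefree. -/
theorem result (k : Type u) [Field k] [IsAlgClosed k] [CharZero k]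
    (f : MvPolynomial (Fin 4) k) (hf : f.IsHomogeneous 3) (hf0 : f ≠ 0)
    (hsm : ∀ v : Fin 4 → k, v ≠ 0 → MvPolynomial.eval v f = 0 →
      ∃ i : Fin 4, MvPolynomial.eval v (MvPolynomial.pderiv i f) ≠ 0)
    (A : Matrix (Fin 4) (Fin 3) k) (hA : A.rank = 3) :
    Squarefree (MvPolynomial.aeval (fun i : Fin 4 => ∑ j : Fin 3, MvPolynomial.C (A i j) * MvPolynomial.X j) f) := by
  classical
  show Squarefree (sub A f)
  have hH3 : finrank k ↥(LinearMap.range A.mulVecLin) = 3 := hA
  have hHc : finrank k ↥(LinearMap.range A.mulVecLin) + 1 = Fintype.card (Fin 4) := by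
    rw [hH3, Fintype.card_fin]
  have hinj : Function.Injective A.mulVecLin := by
    rw [← LinearMap.ker_eq_bot]
    have h1 := LinearMap.finrank_range_add_finrank_ker A.mulVecLin
    rw [hH3, Module.finrank_fintype_fun_eq_card, Fintype.card_fin] at h1
    have h2 : finrank k ↥(LinearMap.ker A.mulVecLin) = 0 := by omega
    exact Submodule.finrank_eq_zero.mp h2
  have hgh : (sub A f).IsHomogeneous 3 := sub_isHomogeneous A hf
  -- the restriction is nonzero
  have hg0 : sub A f ≠ 0 := by
    intro hg
    have hvan : ∀ w ∈ LinearMap.range A.mulVecLin, MvPolynomial.eval w f = 0 := by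
      rintro w ⟨y, rfl⟩
      rw [Matrix.mulVecLin_apply, ← eval_sub, hg, map_zero]
    have hHbot : LinearMap.range A.mulVecLin ≠ ⊥ := by
      intro h
      rw [h, finrank_bot] at hH3
      omega
    obtain ⟨v, hvH, hv⟩ := Submodule.exists_mem_ne_zero_of_ne_bot hHbot
    obtain ⟨i0, hi0⟩ := hsm v hv (hvan v hvH)
    have hP : (MvPolynomial.pderiv i0 f).IsHomogeneous 2 := by
      have h := MvPolynomial.IsHomogeneous.pderiv (i := i0) hf
      simpa using h
    obtain ⟨h0, hh0H, hh0, hP0⟩ :=
      exists_ne_zero_eval_eq_zero hP (LinearMap.range A.mulVecLin) (by omega)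
    have hL : ∀ w ∈ LinearMap.range A.mulVecLin, ∀ z ∈ LinearMap.range A.mulVecLin,
        Lfun f w z = 0 := fun w hw z hz =>
      T1 f w z (fun t => hvan _
        ((LinearMap.range A.mulVecLin).add_mem hw ((LinearMap.range A.mulVecLin).smul_mem t hz)))
    exact tangent_contra hsm (LinearMap.range A.mulVecLin) hHc v (hL v hvH) i0 hi0 h0 hh0
      (hvan h0 hh0H) (hL h0 hh0H) hP0
  -- squarefree
  intro h hdvd
  by_contra hunit
  obtain ⟨m, hm⟩ := hdvd
  have hh0 : h ≠ 0 := by
    rintro rfl
    apply hg0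
    rw [hm]
    simp
  have hm0 : m ≠ 0 := by
    rintro rfl
    apply hg0
    rw [hm]
    simp
  have htd : (sub A f).totalDegree = 3 := MvPolynomial.IsHomogeneous.totalDegree hgh hg0
  have htd2 : (sub A f).totalDegree = h.totalDegree + h.totalDegree + m.totalDegree := by
    rw [hm, MvPolynomial.totalDegree_mul_of_isDomain (mul_ne_zero hh0 hh0) hm0,
      MvPolynomial.totalDegree_mul_of_isDomain hh0 hh0]
  have htdh : h.totalDegree = 1 := by
    have h0' : h.totalDegree ≠ 0 := by
      intro h0
      rw [MvPolynomial.totalDegree_eq_zero_iff_eq_C] at h0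
      have hc' : MvPolynomial.coeff 0 h ≠ 0 := by
        intro hc
        apply hh0
        rw [h0, hc, map_zero]
      apply hunit
      rw [h0]
      exact (isUnit_iff_ne_zero.mpr hc').map MvPolynomial.C
    omega
  have hdec : h = MvPolynomial.C (MvPolynomial.coeff 0 h) + MvPolynomial.homogeneousComponent 1 h := by
    have h5 := MvPolynomial.sum_homogeneousComponent h
    rw [htdh, Finset.sum_range_succ, Finset.sum_range_one,
      MvPolynomial.homogeneousComponent_zero] at h5
    exact h5.symm
  obtain ⟨c, h1, hh1hom, rfl⟩ : ∃ (c : k) (h1 : MvPolynomial (Fin 3) k),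
      h1.IsHomogeneous 1 ∧ h = MvPolynomial.C c + h1 :=
    ⟨_, _, MvPolynomial.homogeneousComponent_isHomogeneous 1 h, hdec⟩
  -- the constant term vanishes
  have hc0 : c = 0 := by
    by_contra hc
    have hzero : sub A f * h1 = 0 := by
      apply MvPolynomial.funext
      intro y
      rw [map_mul, map_zero]
      by_cases hy : MvPolynomial.eval y h1 = 0
      · rw [hy, mul_zero]
      · have hs0 : -c / MvPolynomial.eval y h1 ≠ 0 := div_ne_zero (neg_ne_zero.mpr hc) hy
        have hy' : MvPolynomial.eval ((-c / MvPolynomial.eval y h1) • y) (MvPolynomial.C c + h1) = 0 := by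
          rw [map_add, MvPolynomial.eval_C, eval_smul_hom hh1hom, pow_one,
            div_mul_cancel₀ _ hy, add_neg_cancel]
        have hg' : MvPolynomial.eval ((-c / MvPolynomial.eval y h1) • y) (sub A f) = 0 := by
          rw [hm, map_mul, map_mul, hy', zero_mul, zero_mul]
        have hyy : y = (-c / MvPolynomial.eval y h1)⁻¹ • ((-c / MvPolynomial.eval y h1) • y) := by
          rw [smul_smul, inv_mul_cancel₀ hs0, one_smul]
        rw [hyy, eval_smul_hom hgh, hg', mul_zero, zero_mul]
    rcases mul_eq_zero.mp hzero with h' | h'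
    · exact hg0 h'
    · rw [h', add_zero, MvPolynomial.totalDegree_C] at htdh
      omega
  rw [hc0, map_zero, zero_add] at hm htdh hunit hh0
  -- `h1` is a linear form
  have hlin : ∀ y : Fin 3 → k, MvPolynomial.eval y h1 = Lfun h1 0 y := by
    intro y
    have he := MvPolynomial.IsHomogeneous.sum_X_mul_pderiv hh1hom
    rw [one_nsmul] at he
    have he2 := congrArg (MvPolynomial.eval y) he
    rw [map_sum] at he2
    rw [← he2, Lfun_apply]
    refine Finset.sum_congr rfl (fun j _ => ?_)
    have hj : (MvPolynomial.pderiv j h1).IsHomogeneous 0 := by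
      have h := MvPolynomial.IsHomogeneous.pderiv (i := j) hh1hom
      simpa using h
    have hj2 : (MvPolynomial.pderiv j h1).totalDegree = 0 :=
      Nat.le_zero.mp (MvPolynomial.IsHomogeneous.totalDegree_le hj)
    rw [MvPolynomial.totalDegree_eq_zero_iff_eq_C] at hj2
    rw [map_mul, MvPolynomial.eval_X, hj2, MvPolynomial.eval_C, MvPolynomial.eval_C, mul_comm]
  have hφ : Lfun h1 0 ≠ 0 := by
    intro hφ0
    apply hh0
    apply MvPolynomial.funext
    intro y
    rw [hlin y, hφ0, LinearMap.zero_apply, map_zero]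
  have hW2 := finrank_ker_of_ne_zero (Lfun h1 0) hφ
  rw [Fintype.card_fin] at hW2
  have hvanW : ∀ y ∈ LinearMap.ker (Lfun h1 0), MvPolynomial.eval (A.mulVec y) f = 0 := by
    intro y hy
    rw [← eval_sub, hm, map_mul, map_mul, hlin y, LinearMap.mem_ker.mp hy, zero_mul, zero_mul]
  have hLW : ∀ y ∈ LinearMap.ker (Lfun h1 0), ∀ z ∈ LinearMap.range A.mulVecLin,
      Lfun f (A.mulVec y) z = 0 := by
    rintro y hy z ⟨z', rfl⟩
    rw [Matrix.mulVecLin_apply]
    apply Lfun_eq_zero_of_sq_dvd
    rw [← lineP_sub, hm, lineP_mul, lineP_mul]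
    have hX : Polynomial.X ∣ lineP h1 y z' := by
      rw [Polynomial.X_dvd_iff, Polynomial.coeff_zero_eq_eval_zero, eval_lineP, zero_smul,
        add_zero, hlin y, LinearMap.mem_ker.mp hy]
    rw [pow_two]
    exact Dvd.dvd.mul_right (mul_dvd_mul hX hX) _
  have hWbot : LinearMap.ker (Lfun h1 0) ≠ ⊥ := by
    intro h
    rw [h, finrank_bot] at hW2
    omega
  obtain ⟨y1, hy1W, hy1⟩ := Submodule.exists_mem_ne_zero_of_ne_bot hWbot
  have hne_of : ∀ y : Fin 3 → k, y ≠ 0 → A.mulVec y ≠ 0 := by
    intro y hy h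
    apply hy
    apply hinj
    rw [Matrix.mulVecLin_apply, map_zero]
    exact h
  obtain ⟨i0, hi0⟩ := hsm (A.mulVec y1) (hne_of y1 hy1) (hvanW y1 hy1W)
  have hQ : (sub A (MvPolynomial.pderiv i0 f)).IsHomogeneous 2 := by
    apply sub_isHomogeneous
    have h := MvPolynomial.IsHomogeneous.pderiv (i := i0) hf
    simpa using h
  obtain ⟨y2, hy2W, hy2, hQ0⟩ :=
    exists_ne_zero_eval_eq_zero hQ (LinearMap.ker (Lfun h1 0)) (by omega)
  rw [eval_sub] at hQ0
  exact tangent_contra hsm (LinearMap.range A.mulVecLin) hHc (A.mulVec y1) (hLW y1 hy1W) i0 hi0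
    (A.mulVec y2) (hne_of y2 hy2) (hvanW y2 hy2W) (hLW y2 hy2W) hQ0

end Groth.Agent.S12424
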