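import Groth.Statements.S1243
import Mathlib
-- import your own Groth.Agent.* helpers here

set_option autoImplicit false
universe u
open FlatMor

namespace Groth.Agent.S1243

open AlgebraicGeometry CategoryTheory in
/-- Let S be a quasi-compact and quasi-separated scheme, Y → S separated and of finite type, and X → Y a
morphism such that X has a compactification over S (a quasi-compact open immersion into a scheme
proper over S, compatible with the structure maps). Then X has a compactification over Y: the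
morphism X → Y factors as a quasi-compact open immersion followed by a proper morphism. -/
theorem result {S X Y Xb : Scheme.{u}} [CompactSpace S] [QuasiSeparatedSpace S]
    (g : Y ⟶ S) [IsSeparated g] [LocallyOfFiniteType g] [QuasiCompact g]
    (f : X ⟶ Y) (j : X ⟶ Xb) [IsOpenImmersion j] [QuasiCompact j] (b : Xb ⟶ S) [IsProper b] (hj : j ≫ b = f ≫ g) :
    ∃ (Xb' : Scheme.{u}) (j' : X ⟶ Xb') (b' : Xb' ⟶ Y), IsOpenImmersion j' ∧ QuasiCompact j' ∧ IsProper b' ∧ j' ≫ b' = f := by
  -- the graph `X ⟶ Xb ×_S Y` is a quasi-compact immersion; take its scheme-theoretic image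
  let P : Scheme.{u} := Limits.pullback b g
  let pr1 : P ⟶ Xb := Limits.pullback.fst b g
  let pr2 : P ⟶ Y := Limits.pullback.snd b g
  let γ : X ⟶ P := Limits.pullback.lift j f hj
  have hγ1 : γ ≫ pr1 = j := Limits.pullback.lift_fst _ _ _
  have hγ2 : γ ≫ pr2 = f := Limits.pullback.lift_snd _ _ _
  -- immersion
  let P₀ : P.Opens := pr1 ⁻¹ᵁ j.opensRange
  have hγP₀ : Set.range γ.base ⊆ Set.range P₀.ι.base := by
    rw [Scheme.Opens.range_ι]
    rintro _ ⟨x, rfl⟩
    show pr1.base (γ.base x) ∈ j.opensRange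
    have : pr1.base (γ.base x) = j.base x :=
      congrArg (fun m : X ⟶ Xb => m.base x) hγ1
    rw [this]
    exact ⟨x, rfl⟩
  let γ₀ : X ⟶ (P₀ : Scheme.{u}) := IsOpenImmersion.lift P₀.ι γ hγP₀
  have hγ₀ : γ₀ ≫ P₀.ι = γ := IsOpenImmersion.lift_fac _ _ _
  have hγ₀r : γ₀ ≫ (pr1 ∣_ j.opensRange) = j.isoOpensRange.hom := by
    rw [← cancel_mono j.opensRange.ι, Category.assoc, morphismRestrict_ι, reassoc_of% hγ₀, hγ1,
      Scheme.Hom.isoOpensRange_hom_ι]
  have hci : IsClosedImmersion (γ₀ ≫ (pr1 ∣_ j.opensRange)) := by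
    rw [hγ₀r]; infer_instance
  have hγ₀c : IsClosedImmersion γ₀ := IsClosedImmersion.of_comp γ₀ (pr1 ∣_ j.opensRange)
  have hγi : IsImmersion γ := by
    rw [← hγ₀]; infer_instance
  -- quasi-compact
  have hγq : QuasiCompact γ := by
    have : QuasiCompact (γ ≫ pr1) := by rw [hγ1]; infer_instance
    exact QuasiCompact.of_comp γ pr1
  refine ⟨γ.image, γ.toImage, γ.imageι ≫ pr2, inferInstance, inferInstance, inferInstance, ?_⟩
  rw [γ.toImage_imageι_assoc, hγ2]

end Groth.Agent.S1243
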