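import Groth.Statements.S12439
import Groth.Agent.Lib.Helper19.ChainNN

set_option autoImplicit false
universe u
open Variety

namespace Groth.Agent.S12439

/-- Let k be a field, A an integral domain which is a finitely generated k-algebra of Krull dimension d,
and q_{h(1)} ⊊ … ⊊ q_{h(r)} a chain of prime ideals with dim A/q_{h(i)} = d − h(i), where 0 ≤ h(i) ≤
d. Then (1) there is a finite injective k-algebra homomorphism φ : k[T_1, …, T_d] → A with
φ⁻¹(q_{h(i)}) = (T_1, …, T_{h(i)}) for every i (variables indexed from 0 below: the ideal generated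
by the T_l with l < h(i)); and (2) for every such φ the given chain extends to a chain of primes q_0
⊊ … ⊊ q_d of A with φ⁻¹(q_j) = (T_1, …, T_j) for all j ≤ d. -/
theorem result (k A : Type u) [Field k]
    [CommRing A] [IsDomain A] [Algebra k A] [Algebra.FiniteType k A] (d : ℕ) (hd : ringKrullDim A = (d : WithBot ℕ∞))
    (r : ℕ) (q : Fin r → PrimeSpectrum A) (hq : StrictMono q) (h : Fin r → ℕ) (hh : ∀ i, h i ≤ d)
    (hdim : ∀ i, ringKrullDim (A ⧸ (q i).asIdeal) = ((d - h i : ℕ) : WithBot ℕ∞)) :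
    (∃ φ : MvPolynomial (Fin d) k →ₐ[k] A, φ.toRingHom.Finite ∧ Function.Injective φ ∧
      ∀ i, (q i).asIdeal.comap φ = Ideal.span (MvPolynomial.X '' {l : Fin d | (l : ℕ) < h i})) ∧
    (∀ φ : MvPolynomial (Fin d) k →ₐ[k] A, φ.toRingHom.Finite → Function.Injective φ →
      (∀ i, (q i).asIdeal.comap φ = Ideal.span (MvPolynomial.X '' {l : Fin d | (l : ℕ) < h i})) →
      ∃ Q : ℕ → PrimeSpectrum A,
        (∀ j, j ≤ d → (Q j).asIdeal.comap φ = Ideal.span (MvPolynomial.X '' {l : Fin d | (l : ℕ) < j})) ∧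
        (∀ j, j < d → Q j < Q (j + 1)) ∧ (∀ i, Q (h i) = q i)) := by
  classical
  have hPjdef : ∀ j : ℕ, Ideal.span (MvPolynomial.X '' {l : Fin d | (l : ℕ) < j}) =
      Groth.Agent.Lib.Helper19.ChainNN.Pj k d j := fun j => rfl
  constructor
  · -- (1)
    obtain ⟨s, g, hginj, hgfin⟩ := exists_finite_inj_algHom_of_fg k A
    have hs : s = d := by
      have h1 := Groth.Agent.Lib.Helper19.ChainNN.ringKrullDim_of_finite_injective g hginj hgfin
      rw [hd] at h1
      have h2 : (d : ℕ∞) = (s : ℕ∞) := by exact_mod_cast h1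
      have h3 : d = s := by exact_mod_cast h2
      exact h3.symm
    subst hs
    obtain ⟨m, θ, hθ, hcomap⟩ := Groth.Agent.Lib.Helper19.ChainNN.exists_finite_comap_family s r
      (fun i => (q i).asIdeal.comap g) (fun i => Ideal.comap_ne_top _ (q i).isPrime.ne_top)
    have hθinj := Groth.Agent.Lib.Helper19.ChainNN.injective_of_finite_endo θ hθ
    have hfin : (g.comp θ).toRingHom.Finite := RingHom.Finite.comp hgfin hθ
    refine ⟨g.comp θ, hfin, hginj.comp hθinj, fun i => ?_⟩
    have h1 : (q i).asIdeal.comap (g.comp θ) = Groth.Agent.Lib.Helper19.ChainNN.Pj k s (m i) :=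
      hcomap i
    have h2 := Groth.Agent.Lib.Helper19.ChainNN.ringKrullDim_quotient_of_comap (g.comp θ) hfin
      (q i).asIdeal (m i) h1
    rw [hdim i] at h2
    have h3 : ((s - h i : ℕ) : ℕ∞) = ((s - m i : ℕ) : ℕ∞) := by exact_mod_cast h2
    have h4 : s - h i = s - m i := by exact_mod_cast h3
    rw [h1]
    show Ideal.span (MvPolynomial.X '' {l : Fin s | (l : ℕ) < m i}) =
      Ideal.span (MvPolynomial.X '' {l : Fin s | (l : ℕ) < h i})
    have hset : {l : Fin s | (l : ℕ) < m i} = {l : Fin s | (l : ℕ) < h i} := by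
      ext l
      have hl := l.isLt
      have hhi := hh i
      simp only [Set.mem_setOf_eq]
      omega
    rw [hset]
  · -- (2)
    intro φ hφfin hφinj hφcomap
    letI : Algebra (MvPolynomial (Fin d) k) A := φ.toRingHom.toAlgebra
    haveI : Algebra.IsIntegral (MvPolynomial (Fin d) k) A := ⟨hφfin.to_isIntegral⟩
    have hinj : Function.Injective (algebraMap (MvPolynomial (Fin d) k) A) := hφinj
    have hcomapq : ∀ i, (q i).asIdeal.comap (algebraMap (MvPolynomial (Fin d) k) A) =
        Groth.Agent.Lib.Helper19.ChainNN.Pj k d (h i) := fun i => hφcomap i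
    -- `h` is strictly monotone
    have hhmono : StrictMono h := by
      intro i i' hii'
      by_contra hcon
      push Not at hcon
      have h1 : (q i).asIdeal < (q i').asIdeal := hq hii'
      haveI : (q i).asIdeal.IsPrime := (q i).isPrime
      have h2 := Ideal.IsIntegral.comap_lt_comap (R := MvPolynomial (Fin d) k) h1
      rw [hcomapq i, hcomapq i'] at h2
      exact absurd (Groth.Agent.Lib.Helper19.ChainNN.Pj_mono (k := k) (n := d) hcon) (not_le_of_gt h2)
    -- marked levels
    let M : Finset ℕ := Finset.univ.image h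
    let Q₀ : ℕ → PrimeSpectrum A := fun j =>
      if hj : ∃ i, h i = j then q hj.choose else ⟨⊥, Ideal.isPrime_bot⟩
    have hQ₀ : ∀ i, Q₀ (h i) = q i := by
      intro i
      have hex : ∃ i', h i' = h i := ⟨i, rfl⟩
      show (if hj : ∃ i', h i' = h i then q hj.choose else ⟨⊥, Ideal.isPrime_bot⟩) = q i
      rw [dif_pos hex]
      exact congrArg q (hhmono.injective hex.choose_spec)
    have hcomapM : ∀ j ∈ M, (Q₀ j).asIdeal.comap (algebraMap (MvPolynomial (Fin d) k) A) =
        Groth.Agent.Lib.Helper19.ChainNN.Pj k d j := by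
      intro j hj
      obtain ⟨i, -, rfl⟩ := Finset.mem_image.1 hj
      rw [hQ₀ i]
      exact hcomapq i
    have hmonoM : ∀ j ∈ M, ∀ j' ∈ M, j ≤ j' → Q₀ j ≤ Q₀ j' := by
      intro j hj j' hj' hle
      obtain ⟨i, -, rfl⟩ := Finset.mem_image.1 hj
      obtain ⟨i', -, rfl⟩ := Finset.mem_image.1 hj'
      rw [hQ₀ i, hQ₀ i']
      exact hq.monotone (hhmono.le_iff_le.1 hle)
    have hcard : (Finset.range (d + 1) \ M).card ≤ d + 1 := by
      have := Finset.card_le_card (Finset.sdiff_subset (s := Finset.range (d + 1)) (t := M))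
      rwa [Finset.card_range] at this
    obtain ⟨Q, hQ1, hQ2, hQ3⟩ := Groth.Agent.Lib.Helper19.ChainNN.fill hinj d
      (fun j => Groth.Agent.Lib.Helper19.ChainNN.Pj k d j)
      (fun j => inferInstance) Groth.Agent.Lib.Helper19.ChainNN.Pj_zero
      (fun a b hab => Groth.Agent.Lib.Helper19.ChainNN.Pj_mono hab)
      (fun j hj => Groth.Agent.Lib.Helper19.ChainNN.Pj_ne hj)
      (fun j => inferInstance) (d + 1) M Q₀ hcard hcomapM hmonoM
    refine ⟨Q, fun j hj => hQ1 j hj, hQ2, fun i => ?_⟩
    rw [hQ3 (h i) (Finset.mem_image.2 ⟨i, Finset.mem_univ i, rfl⟩)]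
    exact hQ₀ i

end Groth.Agent.S12439
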