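import Groth.Statements.S12443
-- import your own Groth.Agent.* helpers here

set_option autoImplicit false
universe u
open CategoryTheory TopologicalSpace
open ShSp

namespace Groth.Agent.S12443

section aux
open Opposite

variable {C : Type*} [Category C]

/-- The presheaf pushforward along an open embedding is full. -/
theorem presheaf_full {U X : TopCat.{u}} (j : U ⟶ X) (hj : Topology.IsOpenEmbedding j)
    (P Q : TopCat.Presheaf C U)
    (γ : (TopCat.Presheaf.pushforward C j).obj P ⟶ (TopCat.Presheaf.pushforward C j).obj Q) :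
    ∃ β : P ⟶ Q, (TopCat.Presheaf.pushforward C j).map β = γ := by
  have e := Opens.map_functor_eq' j hj
  refine ⟨{ 
    app := fun W => P.map (eqToHom (by rw [e])).op ≫
              γ.app (op (hj.functor.obj W.unop)) ≫ Q.map (eqToHom (by rw [e])).op
    naturality := ?_ }, ?_⟩
  · intro W W' f
    have nat := γ.naturality (hj.functor.map f.unop).op
    dsimp at nat ⊢
    simp only [Category.assoc]
    rw [← Q.map_comp]
    have hP : ∀ {A B : (Opens U)ᵒᵖ} (a b : A ⟶ B), P.map a = P.map b := fun a b => by
      rw [Subsingleton.elim a b]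
    have hQ : ∀ {A B : (Opens U)ᵒᵖ} (a b : A ⟶ B), Q.map a = Q.map b := fun a b => by
      rw [Subsingleton.elim a b]
    rw [← Category.assoc, ← P.map_comp, hP _ ((eqToHom (by rw [e]) : 
        (Opens.map j).obj (hj.functor.obj W.unop) ⟶ W.unop).op ≫ 
        ((Opens.map j).map (hj.functor.map f.unop)).op), P.map_comp, Category.assoc,
      ← Category.assoc (P.map ((Opens.map j).map (hj.functor.map f.unop)).op), nat, Category.assoc,
      ← Q.map_comp]
    congr 2
  · ext V
    have hle : hj.functor.obj ((Opens.map j).obj V) ≤ V := by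
      rintro _ ⟨y, hy, rfl⟩; exact hy
    have nat : P.map ((Opens.map j).map (homOfLE hle)).op ≫ γ.app (op (hj.functor.obj ((Opens.map j).obj V))) =
        γ.app (op V) ≫ Q.map ((Opens.map j).map (homOfLE hle)).op := γ.naturality (homOfLE hle).op
    dsimp only [TopCat.Presheaf.pushforward_map_app']
    have hP : ∀ {A B : (Opens U)ᵒᵖ} (a b : A ⟶ B), P.map a = P.map b := fun a b => by
      rw [Subsingleton.elim a b]
    rw [hP _ ((Opens.map j).map (homOfLE hle)).op, ← Category.assoc, nat, Category.assoc,
      ← Q.map_comp]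
    have hQ : Q.map (((Opens.map j).map (homOfLE hle)).op ≫ (eqToHom (by rw [e]) : 
        (Opens.map j).obj V ⟶ (Opens.map j).obj (hj.functor.obj ((Opens.map j).obj V))).op) =
        𝟙 (Q.obj (op ((Opens.map j).obj V))) := by
      rw [← Q.map_id]
      congr 1
    exact (congrArg (fun t => γ.app (op V) ≫ t) hQ).trans (Category.comp_id _)

/-- The presheaf pushforward along an open embedding is faithful. -/
theorem presheaf_faithful {U X : TopCat.{u}} (j : U ⟶ X) (hj : Topology.IsOpenEmbedding j)
    (P Q : TopCat.Presheaf C U) (α β : P ⟶ Q)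
    (h : (TopCat.Presheaf.pushforward C j).map α = (TopCat.Presheaf.pushforward C j).map β) :
    α = β := by
  ext W
  have h1 : α.app (op ((Opens.map j).obj (hj.functor.obj W))) =
      β.app (op ((Opens.map j).obj (hj.functor.obj W))) :=
    congr_arg (fun t => t.app (op (hj.functor.obj W))) h
  rw [Opens.map_functor_eq' j hj W] at h1
  exact h1

theorem sheaf_faithful {U X : TopCat.{u}} (j : U ⟶ X) (hj : Topology.IsOpenEmbedding j) :
    (TopCat.Sheaf.pushforward C j).Faithful := by
  constructor
  intro F G α β h
  apply Sheaf.hom_ext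
  apply presheaf_faithful j hj
  rw [← TopCat.Sheaf.pushforward_map, ← TopCat.Sheaf.pushforward_map, h]

theorem sheaf_full {U X : TopCat.{u}} (j : U ⟶ X) (hj : Topology.IsOpenEmbedding j) :
    (TopCat.Sheaf.pushforward C j).Full := by
  constructor
  intro F G γ
  obtain ⟨β, hβ⟩ := presheaf_full j hj F.1 G.1 γ.1
  refine ⟨⟨β⟩, ?_⟩
  apply Sheaf.hom_ext
  rw [TopCat.Sheaf.pushforward_map]
  exact hβ

end aux

/-- Let j : U → X be the inclusion of an open subset (an open embedding) and F a sheaf of sets on U.
Then the counit j⁻¹ j_* F → F is an isomorphism, i.e. j⁻¹ j_* is the identity on sheaves on U. -/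
theorem result {U X : TopCat.{u}} (j : U ⟶ X) (hj : Topology.IsOpenEmbedding j)
    (F : U.Sheaf (Type u)) :
    IsIso ((TopCat.Sheaf.pullbackPushforwardAdjunction (Type u) j).counit.app F) := by
  have := sheaf_faithful (C := Type u) j hj
  have := sheaf_full (C := Type u) j hj
  infer_instance

end Groth.Agent.S12443
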