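import Groth.Statements.S12444
import Groth.Agent.Lib.Helper19.Caten

set_option autoImplicit false
universe u
open PtTop

namespace Groth.Agent.S12444

/-- A topological space X is catenary if and only if it has an open covering by catenary subspaces
(here: every point has a catenary open neighbourhood); and if X is catenary then so is every locally
closed subspace of X. -/
theorem result (X : Type u) [TopologicalSpace X] :
    (PtTop.IsCatenarySpace X ↔
      ∀ x : X, ∃ U : TopologicalSpace.Opens X, x ∈ U ∧ PtTop.IsCatenarySpace U) ∧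
    (PtTop.IsCatenarySpace X → ∀ S : Set X, IsLocallyClosed S → PtTop.IsCatenarySpace S) := by
  have hlc : PtTop.IsCatenarySpace X → ∀ S : Set X, IsLocallyClosed S →
      PtTop.IsCatenarySpace S := fun hX S hS =>
    Groth.Agent.Lib.Helper19.Caten.isCatenarySpace_of_isLocallyClosed hX hS
  refine ⟨⟨fun hX x => ⟨⊤, trivial, ?_⟩, fun H => ?_⟩, hlc⟩
  · exact hlc hX ((⊤ : TopologicalSpace.Opens X) : Set X)
      (⊤ : TopologicalSpace.Opens X).isOpen.isLocallyClosed
  · apply Groth.Agent.Lib.Helper19.Caten.isCatenarySpace_of_open_cover
    intro x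
    obtain ⟨U, hxU, hU⟩ := H x
    exact ⟨(U : Set X), U.isOpen, hxU, hU⟩

end Groth.Agent.S12444
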