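import Groth.Statements.S12445
import Groth.Agent.Lib.Helper19.Caten2

set_option autoImplicit false
universe u
open CategoryTheory AlgebraicGeometry
open Props

namespace Groth.Agent.S12445

/-- (1) ⇔ (3) ⇔ (4): for a scheme S, the underlying topological space of S is catenary if and only if
the coordinate ring of every affine open of S is a catenary ring, if and only if S is covered by
affine opens with catenary coordinate rings. (Clause (2), openness of catenarity, and the final
assertion on locally closed subschemes are the topological statement for open coverings and locally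
closed subspaces.) -/
theorem result (S : Scheme.{u}) :
    (PtTop.IsCatenarySpace S ↔ ∀ U : S.affineOpens, CAlg.IsCatenary Γ(S, U)) ∧
    (PtTop.IsCatenarySpace S ↔
      ∀ s : S, ∃ U : S.affineOpens, s ∈ (U : S.Opens) ∧ CAlg.IsCatenary Γ(S, U)) := by
  have key : ∀ U : S.affineOpens, CAlg.IsCatenary Γ(S, U) ↔
      ∀ T T' : TopologicalSpace.IrreducibleCloseds S, T ≤ T' →
        ((T : Set S) ∩ ((U : S.Opens) : Set S)).Nonempty →
        Groth.Agent.Lib.Helper19.Caten.CatAt T T' := by
    intro U
    have hU : IsAffineOpen (U : S.Opens) := U.2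
    have hr : Set.range (fun p : PrimeSpectrum Γ(S, U) => hU.fromSpec p) =
        ((U : S.Opens) : Set S) := hU.range_fromSpec
    have hgen : StableUnderGeneralization
        (Set.range (fun p : PrimeSpectrum Γ(S, U) => hU.fromSpec p)) := by
      rw [hr]; exact (U : S.Opens).isOpen.stableUnderGeneralization
    have h := Groth.Agent.Lib.Helper19.Caten.isCatenary_iff_of_isInducing
      (R := Γ(S, U)) (X := S) (fun p => hU.fromSpec p)
      hU.fromSpec.isEmbedding.isInducing hgen
    rw [hr] at h
    exact h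
  have hS : PtTop.IsCatenarySpace S ↔ ∀ T T' : TopologicalSpace.IrreducibleCloseds S, T ≤ T' →
      Groth.Agent.Lib.Helper19.Caten.CatAt T T' :=
    Groth.Agent.Lib.Helper19.Caten.isCatenarySpace_iff S
  have hcov : ∀ x : S, ∃ U : S.affineOpens, x ∈ (U : S.Opens) := by
    intro x
    obtain ⟨W, hW, hxW, -⟩ := exists_isAffineOpen_mem_and_subset (x := x) (U := ⊤) trivial
    exact ⟨⟨W, hW⟩, hxW⟩
  have h1 : PtTop.IsCatenarySpace S → ∀ U : S.affineOpens, CAlg.IsCatenary Γ(S, U) := by
    intro h U
    rw [key U]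
    intro T T' hTT' _
    exact hS.1 h T T' hTT'
  have h2 : (∀ s : S, ∃ U : S.affineOpens, s ∈ (U : S.Opens) ∧ CAlg.IsCatenary Γ(S, U)) →
      PtTop.IsCatenarySpace S := by
    intro H
    rw [hS]
    intro T T' hTT'
    obtain ⟨x, hx⟩ := T.isIrreducible.nonempty
    obtain ⟨U, hxU, hU⟩ := H x
    exact (key U).1 hU T T' hTT' ⟨x, hx, hxU⟩
  have h3 : (∀ U : S.affineOpens, CAlg.IsCatenary Γ(S, U)) →
      ∀ s : S, ∃ U : S.affineOpens, s ∈ (U : S.Opens) ∧ CAlg.IsCatenary Γ(S, U) := by
    intro H s
    obtain ⟨U, hU⟩ := hcov s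
    exact ⟨U, hU, H U⟩
  exact ⟨⟨h1, fun H => h2 (h3 H)⟩, ⟨fun h => h3 (h1 h), h2⟩⟩

end Groth.Agent.S12445
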