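import Groth.Statements.S12446
import Groth.Agent.Lib.Helper19.Caten2

set_option autoImplicit false
universe u
open CategoryTheory AlgebraicGeometry
open Props

namespace Groth.Agent.S12446

/-- For a scheme X, the underlying topological space of X is catenary if and only if for every point x
the local ring O_{X,x} is a catenary ring. -/
theorem result (X : Scheme.{u}) :
    PtTop.IsCatenarySpace X ↔ ∀ x : X, CAlg.IsCatenary (X.presheaf.stalk x) := by
  have key : ∀ x : X, CAlg.IsCatenary (X.presheaf.stalk x) ↔
      ∀ T T' : TopologicalSpace.IrreducibleCloseds X, T ≤ T' →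
        ((T : Set X) ∩ {y : X | y ⤳ x}).Nonempty →
        Groth.Agent.Lib.Helper19.Caten.CatAt T T' := by
    intro x
    have hr : Set.range (fun p : PrimeSpectrum (X.presheaf.stalk x) => X.fromSpecStalk x p) =
        {y : X | y ⤳ x} := Scheme.range_fromSpecStalk
    have hgen : StableUnderGeneralization
        (Set.range (fun p : PrimeSpectrum (X.presheaf.stalk x) => X.fromSpecStalk x p)) := by
      rw [hr]
      intro y z hzy hy
      exact hzy.trans hy
    have h := Groth.Agent.Lib.Helper19.Caten.isCatenary_iff_of_isInducing
      (R := X.presheaf.stalk x) (X := X) (fun p => X.fromSpecStalk x p)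
      (X.fromSpecStalk x).isEmbedding.isInducing hgen
    rw [hr] at h
    exact h
  have hS : PtTop.IsCatenarySpace X ↔ ∀ T T' : TopologicalSpace.IrreducibleCloseds X, T ≤ T' →
      Groth.Agent.Lib.Helper19.Caten.CatAt T T' :=
    Groth.Agent.Lib.Helper19.Caten.isCatenarySpace_iff X
  constructor
  · intro h x
    rw [key x]
    intro T T' hTT' _
    exact hS.1 h T T' hTT'
  · intro H
    rw [hS]
    intro T T' hTT'
    obtain ⟨x, hx⟩ := T.isIrreducible.nonempty
    exact (key x).1 (H x) T T' hTT' ⟨x, hx, specializes_rfl⟩

end Groth.Agent.S12446
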