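import Groth.Statements.S12447
import Groth.Agent.Lib.Helper19.Caten3
import Groth.Agent.S12445

set_option autoImplicit false
universe u
open CategoryTheory AlgebraicGeometry
open Props

namespace Groth.Agent.S12447

/-- Let S be a locally Noetherian scheme. Then the underlying topological space of S is catenary if and
only if locally in the Zariski topology there is a dimension function, i.e. every point has an open
neighbourhood U carrying a function δ : U → ℤ which strictly decreases along nontrivial
specializations and drops by exactly one along immediate specializations. -/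
theorem result (S : Scheme.{u}) [IsLocallyNoetherian S] :
    PtTop.IsCatenarySpace S ↔
      ∀ s : S, ∃ U : S.Opens, s ∈ U ∧ ∃ δ : U → ℤ, PtTop.IsDimensionFunction δ := by
  constructor
  · intro hS s
    obtain ⟨W, hW, hsW, -⟩ := exists_isAffineOpen_mem_and_subset (x := s) (U := ⊤) trivial
    haveI : IsNoetherianRing Γ(S, W) := IsLocallyNoetherian.component_noetherian ⟨W, hW⟩
    have hcat : CAlg.IsCatenary Γ(S, W) := (Groth.Agent.S12445.result S).1.1 hS ⟨W, hW⟩
    have hr : Set.range (fun p : PrimeSpectrum Γ(S, W) => hW.fromSpec p) = (W : Set S) :=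
      hW.range_fromSpec
    have hind : Topology.IsInducing (fun p : PrimeSpectrum Γ(S, W) => hW.fromSpec p) :=
      hW.fromSpec.isEmbedding.isInducing
    have hinj : Function.Injective (fun p : PrimeSpectrum Γ(S, W) => hW.fromSpec p) :=
      hW.fromSpec.isEmbedding.injective
    obtain ⟨p, hp⟩ : ∃ p : PrimeSpectrum Γ(S, W), hW.fromSpec p = s := by
      have h0 : s ∈ Set.range (fun p : PrimeSpectrum Γ(S, W) => hW.fromSpec p) := by
        rw [hr]; exact hsW
      exact h0
    obtain ⟨f, hfp, δ₀, hδ1, hδ2⟩ :=
      Groth.Agent.Lib.Helper19.Caten.exists_dimFun_of_isCatenary Γ(S, W) hcat p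
    have hmem : ∀ q : PrimeSpectrum Γ(S, W), hW.fromSpec q ∈ S.basicOpen f ↔ f ∉ q.asIdeal := by
      intro q
      rw [← PrimeSpectrum.mem_basicOpen, ← hW.fromSpec_preimage_basicOpen f]
      rfl
    have hex : ∀ x : S.basicOpen f, ∃ q : PrimeSpectrum Γ(S, W), hW.fromSpec q = (x : S) := by
      intro x
      have h0 : (x : S) ∈ Set.range (fun p : PrimeSpectrum Γ(S, W) => hW.fromSpec p) := by
        rw [hr]; exact S.basicOpen_le f x.2
      exact h0
    choose e he using hex
    have hfe : ∀ x, f ∉ (e x).asIdeal := fun x => (hmem (e x)).1 (by rw [he x]; exact x.2)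
    have hspec : ∀ x y : S.basicOpen f, x ⤳ y ↔ e x ≤ e y := by
      intro x y
      rw [subtype_specializes_iff, ← he x, ← he y, PrimeSpectrum.le_iff_specializes]
      exact hind.specializes_iff
    have hne : ∀ x y : S.basicOpen f, x ≠ y → e x ≠ e y := by
      intro x y hxy h
      apply hxy
      apply Subtype.ext
      rw [← he x, ← he y, h]
    refine ⟨S.basicOpen f, (by rw [← hp]; exact (hmem p).2 hfp), fun x => δ₀ (e x), ?_, ?_⟩
    · intro x y hxy hne'
      exact hδ1 (e x) (e y) (hfe y) (lt_of_le_of_ne ((hspec x y).1 hxy) (hne x y hne'))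
    · rintro x y ⟨hxy, hne', himm⟩
      refine hδ2 (e x) (e y) (hfe y)
        ⟨lt_of_le_of_ne ((hspec x y).1 hxy) (hne x y hne'), fun z hxz hzy => ?_⟩
      have hzf : f ∉ z.asIdeal := fun h => hfe y (hzy.le h)
      obtain ⟨z', hz'⟩ : ∃ z' : S.basicOpen f, (z' : S) = hW.fromSpec z :=
        ⟨⟨_, (hmem z).2 hzf⟩, rfl⟩
      have hez : e z' = z := hinj ((he z').trans hz')
      rcases himm z' ((hspec x z').2 (by rw [hez]; exact hxz.le))
        ((hspec z' y).2 (by rw [hez]; exact hzy.le)) with h | h
      · exact hxz.ne (by rw [← hez, h])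
      · exact hzy.ne (by rw [← hez, h])
  · intro H
    apply Groth.Agent.Lib.Helper19.Caten.isCatenarySpace_of_open_cover
    intro x
    obtain ⟨U, hxU, δ, hδ⟩ := H x
    haveI : QuasiSober ((U : Set S) : Type u) := U.isOpen.isOpenEmbedding_subtypeVal.quasiSober
    exact ⟨(U : Set S), U.isOpen, hxU,
      Groth.Agent.Lib.Helper19.Caten.isCatenarySpace_of_dimFun δ hδ⟩

end Groth.Agent.S12447
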