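import Groth.Statements.S12451
import Groth.Agent.Lib.Helper3.LocFreeCrit
import Groth.Agent.Lib.Helper3.QCProps

set_option autoImplicit false
universe u
open CategoryTheory AlgebraicGeometry
open Props

namespace Groth.Agent.S12451

open Opposite in
theorem bijective_algebraMap_top12451 (R : CommRingCat.{u}) :
    Function.Bijective (algebraMap R Γ(Spec R, ⊤)) := by
  rw [IsAffineOpen.algebraMap_Spec_obj]
  have : IsIso ((Scheme.ΓSpecIso R).inv ≫ (Spec R).presheaf.map
      (homOfLE (le_top : (⊤ : (Spec R).Opens) ≤ ⊤)).op) := by
    have : (homOfLE (le_top : (⊤ : (Spec R).Opens) ≤ ⊤)).op = 𝟙 _ := rfl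
    rw [this, CategoryTheory.Functor.map_id]
    infer_instance
  exact (ConcreteCategory.isIso_iff_bijective _).mp this

attribute [local instance] RingHomInvPair.of_ringEquiv in
theorem projective_iff_of_bijective12451 {A B N : Type*} [CommRing A] [CommRing B] [Algebra A B]
    [AddCommGroup N] [Module A N] [Module B N] [IsScalarTower A B N]
    (h : Function.Bijective (algebraMap A B)) :
    Module.Projective A N ↔ Module.Projective B N := by
  let σ : A ≃+* B := RingEquiv.ofBijective (algebraMap A B) h
  let e : N ≃ₛₗ[(σ : A →+* B)] N :=
    { toFun := id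
      map_add' := fun _ _ => rfl
      map_smul' := fun r m => (algebraMap_smul B r m).symm
      invFun := id
      left_inv := fun _ => rfl
      right_inv := fun _ => rfl }
  exact ⟨fun _ => Module.Projective.of_equiv e, fun _ => Module.Projective.of_equiv e.symm⟩

open Groth.Agent.Lib.Helper3 in

/-- For a commutative ring R and an R-module M, the associated quasi-coherent module M~ on Spec R is a
finite locally free O-module exactly when M is finitely generated and projective over R
(equivalently, a finite locally free R-module). -/
theorem result {R : CommRingCat.{u}} (M : ModuleCat.{u} R) :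
    FlatMod.IsFinLocFree (tilde M) ↔ Module.Finite R M ∧ Module.Projective R M := by
  have hproj := projective_iff_of_bijective12451 (N := Γ(tilde M, ⊤))
    (bijective_algebraMap_top12451 R)
  let e : M ≃ₗ[R] Γ(tilde M, ⊤) := (tilde.isoTop M).toLinearEquiv
  have hfinR : Module.Finite R Γ(Spec R, ⊤) :=
    Module.Finite.of_surjective (Algebra.linearMap R Γ(Spec R, ⊤))
      (bijective_algebraMap_top12451 R).2
  constructor
  · intro h
    obtain ⟨h1, h2⟩ := LocFreeCrit.finite_projective_sections h (isAffineOpen_top (Spec R))
    constructor
    · have : Module.Finite R Γ(tilde M, ⊤) := Module.Finite.trans Γ(Spec R, ⊤) _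
      exact Module.Finite.equiv e.symm
    · have := hproj.mpr h2
      exact Module.Projective.of_equiv' e.symm
  · rintro ⟨h1, h2⟩
    have h3 : Module.Projective Γ(Spec R, ⊤) Γ(tilde M, ⊤) :=
      hproj.mp (Module.Projective.of_equiv' e)
    have h4 : Module.Finite R Γ(tilde M, ⊤) := Module.Finite.equiv e
    have h5 : Module.Finite Γ(Spec R, ⊤) Γ(tilde M, ⊤) :=
      Module.Finite.of_restrictScalars_finite R _ _
    apply LocFreeCrit.isFinLocFree_of_forall_mem_freeLocus
    intro x
    refine ⟨⊤, isAffineOpen_top (Spec R), trivial, Module.finitePresentation_of_projective _ _, ?_⟩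
    have h6 : Module.freeLocus Γ(Spec R, ⊤) Γ(tilde M, ⊤) = Set.univ := Module.freeLocus_eq_univ
    rw [h6]
    exact Set.mem_univ _

end Groth.Agent.S12451
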