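import Groth.Statements.S12452
import Mathlib

set_option autoImplicit false
universe u
open CategoryTheory TopologicalSpace Opposite
open ShSp

namespace Groth.Agent.S12452

section helpers

lemma sec_ext {X : TopCat.{u}} (F : X.Sheaf (Type u)) {BX : Set (Opens X)}
    (hBX : Opens.IsBasis BX) (W : Opens X) (a b : F.obj.obj (op W))
    (h : ∀ (U : BX) (hU : (U : Opens X) ≤ W),
      F.obj.map (homOfLE hU).op a = F.obj.map (homOfLE hU).op b) :
    a = b := by
  refine F.eq_of_locally_eq' (fun i : {U : BX // (U : Opens X) ≤ W} => (i.1 : Opens X)) W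
    (fun i => homOfLE i.2) ?_ a b (fun i => h i.1 i.2)
  intro x hx
  obtain ⟨U', hU', hxU', hU'W⟩ := Opens.isBasis_iff_nbhd.mp hBX hx
  exact Opens.mem_iSup.mpr ⟨⟨⟨U', hU'⟩, hU'W⟩, hxU'⟩

lemma glue_exists {X Y : TopCat.{u}} (f : X ⟶ Y) (F : X.Sheaf (Type u)) (G : Y.Sheaf (Type u))
    {BX : Set (Opens X)} (hBX : Opens.IsBasis BX) {BY : Set (Opens Y)}
    (φ : ∀ (V : BY) (U : BX), (U : Opens X) ≤ (Opens.map f).obj V →
      (G.presheaf.obj (op (V : Opens Y)) → F.presheaf.obj (op (U : Opens X))))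
    (hφ : ∀ (V V' : BY) (U U' : BX) (hUV : (U : Opens X) ≤ (Opens.map f).obj V)
      (hU'V' : (U' : Opens X) ≤ (Opens.map f).obj V') (hV : (V' : Opens Y) ≤ V)
      (hU : (U' : Opens X) ≤ U) (s : G.presheaf.obj (op (V : Opens Y))),
      F.presheaf.map (homOfLE hU).op (φ V U hUV s) =
        φ V' U' hU'V' (G.presheaf.map (homOfLE hV).op s))
    (V : BY) (s : G.presheaf.obj (op (V : Opens Y))) :
    ∃ a : F.obj.obj (op ((Opens.map f).obj V)),
      ∀ (U : BX) (hU : (U : Opens X) ≤ (Opens.map f).obj V),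
        F.obj.map (homOfLE hU).op a = φ V U hU s := by
  have hsame : ∀ (U U' : BX) (hUV : (U : Opens X) ≤ (Opens.map f).obj V)
      (hU'V : (U' : Opens X) ≤ (Opens.map f).obj V) (hU : (U' : Opens X) ≤ U),
      F.obj.map (homOfLE hU).op (φ V U hUV s) = φ V U' hU'V s := by
    intro U U' hUV hU'V hU
    have h1 := hφ V V U U' hUV hU'V le_rfl hU s
    have h2 : G.presheaf.map (homOfLE (le_refl (V : Opens Y))).op s = s := by
      have : (homOfLE (le_refl (V : Opens Y))).op = 𝟙 (op (V : Opens Y)) := rfl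
      rw [this, G.presheaf.map_id]; rfl
    rw [h2] at h1
    exact h1
  let ι := {U : BX // (U : Opens X) ≤ (Opens.map f).obj V}
  let Uf : ι → Opens X := fun i => (i.1 : Opens X)
  let sf : ∀ i : ι, F.obj.obj (op (Uf i)) := fun i => φ V i.1 i.2 s
  have hcompat : TopCat.Presheaf.IsCompatible F.obj Uf sf := by
    intro i j
    refine sec_ext F hBX _ _ _ (fun U hU => ?_)
    rw [← ConcreteCategory.comp_apply, ← ConcreteCategory.comp_apply, ← Functor.map_comp,
      ← Functor.map_comp]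
    have h1 : (U : Opens X) ≤ Uf i := hU.trans inf_le_left
    have h2 : (U : Opens X) ≤ Uf j := hU.trans inf_le_right
    have e1 := hsame i.1 U i.2 (h1.trans i.2) h1
    have e2 := hsame j.1 U j.2 (h2.trans j.2) h2
    exact e1.trans e2.symm
  have hcover : (Opens.map f).obj V ≤ iSup Uf := by
    intro x hx
    obtain ⟨U', hU', hxU', hU'W⟩ := Opens.isBasis_iff_nbhd.mp hBX hx
    exact Opens.mem_iSup.mpr ⟨⟨⟨U', hU'⟩, hU'W⟩, hxU'⟩
  obtain ⟨a, ha, -⟩ := F.existsUnique_gluing' Uf ((Opens.map f).obj V)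
    (fun i => homOfLE i.2) hcover sf hcompat
  exact ⟨a, fun U hU => ha ⟨U, hU⟩⟩

end helpers


/-- For sheaves of sets, let f : X → Y be a continuous map, F a sheaf of sets on X, G a sheaf of sets on
Y, and B_X, B_Y bases for the topologies of X and Y. Suppose given, for every V in B_Y and U in B_X
with U ⊆ f⁻¹V, a map φ_V^U : G(V) → F(U), compatibly with restrictions. Then there is exactly one
morphism of sheaves ψ : G → f_*F (an f-map G → F) such that G(V) → F(f⁻¹V) → F(U) equals φ_V^U for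
every such pair. -/
theorem result {X Y : TopCat.{u}} (f : X ⟶ Y) (F : X.Sheaf (Type u)) (G : Y.Sheaf (Type u))
    {BX : Set (Opens X)} (hBX : Opens.IsBasis BX) {BY : Set (Opens Y)} (hBY : Opens.IsBasis BY)
    (φ : ∀ (V : BY) (U : BX), (U : Opens X) ≤ (Opens.map f).obj V →
      (G.presheaf.obj (op (V : Opens Y)) → F.presheaf.obj (op (U : Opens X))))
    (hφ : ∀ (V V' : BY) (U U' : BX) (hUV : (U : Opens X) ≤ (Opens.map f).obj V)
      (hU'V' : (U' : Opens X) ≤ (Opens.map f).obj V') (hV : (V' : Opens Y) ≤ V) (hU : (U' : Opens X) ≤ U)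
      (s : G.presheaf.obj (op (V : Opens Y))),
      F.presheaf.map (homOfLE hU).op (φ V U hUV s) = φ V' U' hU'V' (G.presheaf.map (homOfLE hV).op s)) :
    ∃! ψ : G ⟶ (TopCat.Sheaf.pushforward (Type u) f).obj F,
      ∀ (V : BY) (U : BX) (hUV : (U : Opens X) ≤ (Opens.map f).obj V) (s : G.presheaf.obj (op (V : Opens Y))),
        F.presheaf.map (homOfLE hUV).op (ψ.1.app (op (V : Opens Y)) s) = φ V U hUV s := by
  classical
  choose ψ₀ hψ₀ using fun (V : BY) (s : G.presheaf.obj (op (V : Opens Y))) =>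
    glue_exists f F G hBX φ hφ V s
  have hnat : ∀ (V V' : BY) (hV : (V' : Opens Y) ≤ V) (s : G.presheaf.obj (op (V : Opens Y))),
      F.obj.map ((Opens.map f).map (homOfLE hV)).op (ψ₀ V s) =
        ψ₀ V' (G.presheaf.map (homOfLE hV).op s) := by
    intro V V' hV s
    refine sec_ext F hBX _ _ _ (fun U hU => ?_)
    rw [hψ₀ V' _ U hU, ← ConcreteCategory.comp_apply, ← Functor.map_comp]
    have hUV : (U : Opens X) ≤ (Opens.map f).obj V :=
      hU.trans ((Opens.map f).map (homOfLE hV)).le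
    have e1 : F.obj.map (homOfLE hUV).op (ψ₀ V s) = φ V U hUV s := hψ₀ V s U hUV
    have e2 := hφ V V' U U hUV hU hV le_rfl s
    rw [← e2]
    have hid : F.presheaf.map (homOfLE (le_refl (U : Opens X))).op (φ V U hUV s) =
        φ V U hUV s := by
      have : (homOfLE (le_refl (U : Opens X))).op = 𝟙 (op (U : Opens X)) := rfl
      rw [this, F.presheaf.map_id]; rfl
    rw [hid]
    exact e1
  let B : BY → Opens Y := Subtype.val
  have hB : Opens.IsBasis (Set.range B) := by rw [Subtype.range_coe]; exact hBY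
  let FF := (TopCat.Sheaf.pushforward (Type u) f).obj F
  let α : (inducedFunctor B).op ⋙ G.obj ⟶ (inducedFunctor B).op ⋙ FF.obj :=
    { app := fun V => TypeCat.ofHom (ψ₀ V.unop)
      naturality := by
        intro V V' g
        refine ConcreteCategory.hom_ext _ _ (fun s => ?_)
        exact (hnat V.unop V'.unop g.unop.hom.le s).symm }
  let ψp : G.obj ⟶ FF.obj := TopCat.Sheaf.restrictHomEquivHom G.obj FF hB α
  have hψp : ∀ V : BY, ψp.app (op (V : Opens Y)) = TypeCat.ofHom (ψ₀ V) :=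
    fun V => TopCat.Sheaf.extend_hom_app G.obj FF hB α V
  refine ⟨⟨ψp⟩, ?_, ?_⟩
  · intro V U hUV s
    show F.presheaf.map (homOfLE hUV).op (ψp.app (op (V : Opens Y)) s) = φ V U hUV s
    rw [hψp V]
    exact hψ₀ V s U hUV
  · intro ψ' hψ'
    apply Sheaf.hom_ext
    refine TopCat.Sheaf.hom_ext G.obj FF hB (fun V => ?_)
    show ψ'.hom.app (op (V : Opens Y)) = ψp.app (op (V : Opens Y))
    rw [hψp V]
    refine ConcreteCategory.hom_ext _ _ (fun s => ?_)
    refine sec_ext F hBX _ _ _ (fun U hU => ?_)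
    have := hψ' V U hU s
    exact this.trans (hψ₀ V s U hU).symm

end Groth.Agent.S12452
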