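-- Statement S12456.
import Groth.Statements.S12456
import Mathlib
import Groth.Agent.Lib.Helper1.FirstNbhd

set_option autoImplicit false
universe u
open CategoryTheory AlgebraicGeometry
open OmegaSh

namespace Groth.Agent.S12456

/-- Let i : Z → X be an immersion, written as the closed subscheme of an open U ⊆ X cut out by an ideal
sheaf I followed by the inclusion of U. Then the first order infinitesimal neighbourhood of Z in X —
the closed subscheme of U cut out by I² — together with Z ⊂ V(I²) and V(I²) → U → X is a universal
first order thickening of Z over X. (The inequality I² ≤ I is carried as an argument h; it always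
holds.) -/
theorem result {X : Scheme.{u}} (U : X.Opens) (I : (U : Scheme.{u}).IdealSheafData)
    (h : I ^ 2 ≤ I) :
    OmegaSh.IsUnivThickening (I.subschemeι ≫ U.ι) (Scheme.IdealSheafData.inclusion h)
      ((I ^ 2).subschemeι ≫ U.ι) := by
  refine ⟨Groth.Agent.Lib.Helper1.FirstNbhd.isFirstOrderThickening_inclusion I h, ?_, ?_⟩
  · rw [← Category.assoc, Scheme.IdealSheafData.inclusion_subschemeι]
  · intro T T' j b a hj hba
    -- `b` factors through `U`
    have hrange : Set.range b.base ⊆ Set.range U.ι.base := by
      rintro _ ⟨t', rfl⟩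
      obtain ⟨t, rfl⟩ := hj.1.2.surj t'
      have e1 : b.base (j.base t) = U.ι.base (I.subschemeι.base (a.base t)) := by
        have := congrArg (fun g => g.base t) hba
        simpa using this
      rw [e1]
      exact ⟨_, rfl⟩
    let b₀ : T' ⟶ U := IsOpenImmersion.lift U.ι b hrange
    have hb₀ : b₀ ≫ U.ι = b := IsOpenImmersion.lift_fac _ _ _
    have hw : j ≫ b₀ = a ≫ I.subschemeι := by
      rw [← cancel_mono U.ι, Category.assoc, hb₀, hba, Category.assoc]
    have hle : (I ^ 2).subschemeι.ker ≤ b₀.ker := by
      rw [Scheme.IdealSheafData.ker_subschemeι]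
      exact Groth.Agent.Lib.Helper1.FirstNbhd.sq_le_ker I j hj b₀ a hw
    refine ⟨IsClosedImmersion.lift (I ^ 2).subschemeι b₀ hle, ⟨?_, ?_⟩, ?_⟩
    · rw [← cancel_mono (I ^ 2).subschemeι, Category.assoc, IsClosedImmersion.lift_fac, hw,
        Category.assoc, Scheme.IdealSheafData.inclusion_subschemeι]
    · rw [← Category.assoc, IsClosedImmersion.lift_fac, hb₀]
    · rintro a'' ⟨-, h2⟩
      rw [← cancel_mono (I ^ 2).subschemeι, IsClosedImmersion.lift_fac, ← cancel_mono U.ι,
        Category.assoc, h2, hb₀]

end Groth.Agent.S12456
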