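import Groth.Statements.S12459
import Groth.Agent.S12446
import Groth.Agent.Lib.Helper19.UCaten

set_option autoImplicit false
universe u
open CategoryTheory AlgebraicGeometry
open Props

namespace Groth.Agent.S12459

/-- For a locally Noetherian scheme S, the scheme S is universally catenary — every scheme X locally of
finite type over S has catenary underlying topological space — if and only if all local rings
O_{S,s} are universally catenary rings. (Schemes X over S are taken in the universe of S.) -/
theorem result (S : Scheme.{u}) [IsLocallyNoetherian S] :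
    (∀ (X : Scheme.{u}) (f : X ⟶ S), LocallyOfFiniteType f → PtTop.IsCatenarySpace X) ↔
      ∀ s : S, CAlg.IsUniversallyCatenary (S.presheaf.stalk s) := by
  constructor
  · intro H s
    refine ⟨inferInstance, ?_⟩
    intro C _ _ hC
    obtain ⟨U, hU, hsU, -⟩ := TopologicalSpace.Opens.isBasis_iff_nbhd.mp S.isBasis_affineOpens
      (U := ⊤) (x := s) trivial
    have hU' : IsAffineOpen U := hU
    letI := S.presheaf.algebra_section_stalk ⟨s, hsU⟩
    haveI := hU'.isLocalization_stalk ⟨s, hsU⟩
    refine Groth.Agent.Lib.Helper19.Caten.isCatenary_of_finiteType_over_localization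
      (A := Γ(S, U)) (R := S.presheaf.stalk s) (hU'.primeIdealOf ⟨s, hsU⟩).asIdeal hC ?_
    intro B' _ _ hB'
    haveI : LocallyOfFiniteType (Spec.map (CommRingCat.ofHom (algebraMap Γ(S, U) B'))) := by
      rw [HasRingHomProperty.Spec_iff (P := @LocallyOfFiniteType)]
      exact RingHom.finiteType_algebraMap.mpr hB'
    have hlft : LocallyOfFiniteType
        (Spec.map (CommRingCat.ofHom (algebraMap Γ(S, U) B')) ≫ hU'.fromSpec) := inferInstance
    have hcat := H (Spec (CommRingCat.of B')) _ hlft
    exact (Groth.Agent.Lib.Helper19.Caten.isCatenarySpace_primeSpectrum_iff B').mp hcat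
  · intro hst X f hf
    haveI := hf
    rw [Groth.Agent.S12446.result X]
    intro x
    obtain ⟨U, hU, hsU, -⟩ := TopologicalSpace.Opens.isBasis_iff_nbhd.mp S.isBasis_affineOpens
      (U := ⊤) (x := f x) trivial
    have hU' : IsAffineOpen U := hU
    obtain ⟨V, hV, hxV, hVU⟩ := TopologicalSpace.Opens.isBasis_iff_nbhd.mp X.isBasis_affineOpens
      (U := f ⁻¹ᵁ U) (x := x) hsU
    have hV' : IsAffineOpen V := hV
    letI := S.presheaf.algebra_section_stalk ⟨f x, hsU⟩
    haveI := hU'.isLocalization_stalk ⟨f x, hsU⟩
    letI := X.presheaf.algebra_section_stalk ⟨x, hxV⟩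
    haveI := hV'.isLocalization_stalk ⟨x, hxV⟩
    have hp := congrArg PrimeSpectrum.asIdeal
      (IsAffineOpen.comap_primeIdealOf_appLE U hU' V hV' hVU hxV)
    exact Groth.Agent.Lib.Helper19.Caten.isCatenary_of_essFiniteType
      (A := Γ(S, U)) (B := Γ(X, V)) (R := S.presheaf.stalk (f x)) (T := X.presheaf.stalk x)
      (f.appLE U V hVU).hom (f.finiteType_appLE hU' hV' hVU)
      (hV'.primeIdealOf ⟨x, hxV⟩).asIdeal (hU'.primeIdealOf ⟨f x, hsU⟩).asIdeal hp (hst (f x))

end Groth.Agent.S12459
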