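import Groth.Statements.S12463
import Groth.Agent.Lib.Helper27.Wedge
import Groth.Agent.S7652
import Groth.Agent.Lib.Helper12.IntegralDim
import Groth.Agent.Lib.Helper1.RedFib
open Groth.Agent.Lib.Helper27

set_option autoImplicit false
universe u
open Variety

namespace Groth.Agent.S12463

/-- Let (A, m) be a strictly henselian reduced Nagata local ring of dimension one with δ-invariant equal
to the number of geometric branches minus one, and A' the integral closure of A in its total ring of
fractions. Then A is a wedge of discrete valuation rings: for every maximal ideal m' of A' the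
localization A'_{m'} is a discrete valuation ring whose residue field is the image of A, and A
consists exactly of the elements of A' congruent to an element of A modulo every maximal ideal of A'
(the displayed inclusion; the reverse inclusion is trivial). (The inequality δ ≥ branches − 1 of the
published statement holds for every reduced Nagata local ring of dimension one and is not restated.) -/
theorem result (A : Type u) [CommRing A] [HenselianLocalRing A]
    [IsSepClosed (IsLocalRing.ResidueField A)] [IsReduced A] (hN : CAlg.IsNagata A) (hdim : ringKrullDim A = 1)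
    (heq : Curv2.deltaInv A + 1 = Brnch.numGeomBranches A) :
    (∀ m' : MaximalSpectrum ↥(integralClosure A (FractionRing A)),
        (∃ _ : IsDomain (Localization.AtPrime m'.asIdeal), IsDiscreteValuationRing (Localization.AtPrime m'.asIdeal)) ∧
        Function.Surjective (⇑(IsLocalRing.residue (Localization.AtPrime m'.asIdeal)) ∘
          ⇑(algebraMap ↥(integralClosure A (FractionRing A)) (Localization.AtPrime m'.asIdeal)) ∘
          ⇑(algebraMap A ↥(integralClosure A (FractionRing A))))) ∧
    ∀ a' : ↥(integralClosure A (FractionRing A)),
      (∃ a : A, ∀ m' : MaximalSpectrum ↥(integralClosure A (FractionRing A)),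
          a' - algebraMap A _ a ∈ m'.asIdeal) →
      a' ∈ (algebraMap A ↥(integralClosure A (FractionRing A))).range := by
  classical
  haveI : IsNoetherianRing A := hN.1
  have hmin : (minimalPrimes A).Finite := minimalPrimes.finite_of_isNoetherianRing A
  obtain ⟨hfinC, hnorm, hδlt⟩ := Groth.Agent.S7652.result A hN hdim
  haveI := hfinC
  have hcard : Module.length A (↥(integralClosure A (FractionRing A)) ⧸
      LinearMap.range (Algebra.linearMap A ↥(integralClosure A (FractionRing A)))) + 1 ≤
      ENat.card (MaximalSpectrum ↥(integralClosure A (FractionRing A))) := by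
    have h1 := Wedge.numGeomBranches_le_card A hmin
    rw [← heq] at h1
    exact h1
  obtain ⟨hsurj, hmem⟩ := Wedge.wedge_generic A ↥(integralClosure A (FractionRing A))
    (hδlt.ne) hcard
  haveI : IsNoetherianRing ↥(integralClosure A (FractionRing A)) :=
    IsNoetherianRing.of_finite A _
  haveI : Algebra.IsIntegral A ↥(integralClosure A (FractionRing A)) :=
    Algebra.IsIntegral.of_finite A _
  refine ⟨fun m' => ⟨?_, ?_⟩, fun a' ⟨a, ha⟩ => hmem a' a ha⟩
  · -- DVR
    haveI : m'.asIdeal.IsMaximal := m'.isMaximal
    obtain ⟨hdom, hic⟩ := hnorm ⟨m'.asIdeal, inferInstance⟩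
    change IsDomain (Localization.AtPrime m'.asIdeal) at hdom
    change IsIntegrallyClosed (Localization.AtPrime m'.asIdeal) at hic
    haveI := hdom
    haveI := hic
    refine ⟨hdom, ?_⟩
    -- dimension at most one
    have hdimL : ringKrullDim (Localization.AtPrime m'.asIdeal) ≤ 1 := by
      rw [IsLocalization.AtPrime.ringKrullDim_eq_height m'.asIdeal (Localization.AtPrime m'.asIdeal)]
      refine le_trans Ideal.height_le_ringKrullDim_of_isPrime ?_
      rw [← hdim]
      exact Groth.Agent.Lib.Helper12.ringKrullDim_le_of_isIntegral
    haveI : Ring.KrullDimLE 1 (Localization.AtPrime m'.asIdeal) := Ring.krullDimLE_iff.mpr hdimL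
    -- not a field
    have hmne : IsLocalRing.maximalIdeal A ≠ ⊥ := by
      intro h0
      have hf : IsField A := IsLocalRing.isField_iff_maximalIdeal_eq.mpr h0
      rw [ringKrullDim_eq_zero_of_isField hf] at hdim
      exact zero_ne_one hdim
    obtain ⟨t, htm, htnz⟩ :=
      Groth.Agent.Lib.Helper1.RedFib.exists_nonZeroDivisor_mem_maximalIdeal A hmne
    have hlies : m'.asIdeal.comap (algebraMap A ↥(integralClosure A (FractionRing A))) =
        IsLocalRing.maximalIdeal A :=
      IsLocalRing.eq_maximalIdeal (Ideal.isMaximal_comap_of_isIntegral_of_isMaximal m'.asIdeal)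
    have htm' : algebraMap A ↥(integralClosure A (FractionRing A)) t ∈ m'.asIdeal := by
      have : t ∈ m'.asIdeal.comap (algebraMap A ↥(integralClosure A (FractionRing A))) := by
        rw [hlies]; exact htm
      exact this
    have htne : algebraMap ↥(integralClosure A (FractionRing A)) (Localization.AtPrime m'.asIdeal)
        (algebraMap A ↥(integralClosure A (FractionRing A)) t) ≠ 0 := by
      intro h0
      obtain ⟨s, hs⟩ := (IsLocalization.map_eq_zero_iff m'.asIdeal.primeCompl _ _).mp h0
      have hunit : IsUnit (algebraMap A (FractionRing A) t) :=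
        IsLocalization.map_units (FractionRing A) ⟨t, htnz⟩
      have h1 : ((s : ↥(integralClosure A (FractionRing A))) : FractionRing A) *
          algebraMap A (FractionRing A) t = 0 := by
        have := congrArg (Subtype.val) hs
        simpa using this
      have h2 : ((s : ↥(integralClosure A (FractionRing A))) : FractionRing A) = 0 :=
        hunit.mul_left_eq_zero.mp h1
      have h3 : (s : ↥(integralClosure A (FractionRing A))) = 0 := Subtype.ext h2
      exact s.2 (h3 ▸ m'.asIdeal.zero_mem)
    have hnf : IsLocalRing.maximalIdeal (Localization.AtPrime m'.asIdeal) ≠ ⊥ := by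
      intro h0
      apply htne
      have : algebraMap ↥(integralClosure A (FractionRing A)) (Localization.AtPrime m'.asIdeal)
          (algebraMap A ↥(integralClosure A (FractionRing A)) t) ∈
          IsLocalRing.maximalIdeal (Localization.AtPrime m'.asIdeal) :=
        (IsLocalization.AtPrime.to_map_mem_maximal_iff _ m'.asIdeal _).mpr htm'
      rw [h0] at this
      exact this
    have h4 : IsIntegrallyClosed (Localization.AtPrime m'.asIdeal) ∧
        ∀ P : Ideal (Localization.AtPrime m'.asIdeal), P ≠ ⊥ → P.IsPrime →
          P = IsLocalRing.maximalIdeal (Localization.AtPrime m'.asIdeal) :=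
      ⟨hic, fun P hP hPp => IsLocalRing.eq_maximalIdeal
        (Ring.krullDimLE_one_iff_of_noZeroDivisors.mp inferInstance P hP hPp)⟩
    have hpid : IsPrincipalIdealRing (Localization.AtPrime m'.asIdeal) :=
      ((tfae_of_isNoetherianRing_of_isLocalRing_of_isDomain
        (Localization.AtPrime m'.asIdeal)).out 3 0).mp h4
    exact { toIsPrincipalIdealRing := hpid, toIsLocalRing := inferInstance, not_a_field' := hnf }
  · -- residue field
    haveI : m'.asIdeal.IsMaximal := m'.isMaximal
    intro y
    obtain ⟨xbar, hx⟩ := (Ideal.bijective_algebraMap_quotient_residueField m'.asIdeal).2 y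
    obtain ⟨x, rfl⟩ := Ideal.Quotient.mk_surjective xbar
    obtain ⟨a, ha⟩ := hsurj m' (Ideal.Quotient.mk m'.asIdeal x)
    refine ⟨a, ?_⟩
    rw [← hx]
    simp only [Function.comp_apply]
    simp only [RingHom.comp_apply] at ha
    rw [← ha]
    rfl

end Groth.Agent.S12463
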