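import Groth.Statements.S12465
import Groth.Agent.Lib.Helper19.OverBC

set_option autoImplicit false
universe u
open CategoryTheory AlgebraicGeometry
open BigSite

namespace Groth.Agent.S12465

/-- On the big étale sites, for a cartesian square g' : T' → T, f' : T' → S', f : T → S, g : S' → S of
schemes, i_g⁻¹ ∘ f_big,* ≅ f'_small,* ∘ i_{g'}⁻¹ as functors from abelian sheaves on (Sch/T)_ét to
abelian sheaves on the small étale site of S'. (Existence of a natural isomorphism; both sides send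
F to U' ↦ F(U' ×_{S'} T'). The binder BCCont f' holds for every morphism.) -/
theorem result {S T S' T' : Scheme.{u}} (f : T ⟶ S) (g : S' ⟶ S) (g' : T' ⟶ T)
    (f' : T' ⟶ S') (hsq : IsPullback g' f' f g) [EtCoh.BCCont f'] :
    Nonempty (BigSite.pushBig Scheme.etalePrecoverage f AddCommGrpCat.{u + 1} ⋙
        BigSite.resEtAlong Scheme.etalePrecoverage g ≅
      BigSite.resEtAlong Scheme.etalePrecoverage g' ⋙ EtCoh.push f') := by
  let K : Precoverage Scheme.{u} := Scheme.etalePrecoverage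
  let F1 : S'.Etale ⥤ Over S' := EtFppf.a S'
  let F2 : Over S' ⥤ Over S := Over.map g
  let F3 : Over S ⥤ Over T := Over.pullback f
  let G1 : S'.Etale ⥤ T'.Etale := EtCoh.bc f'
  let G2 : T'.Etale ⥤ Over T' := EtFppf.a T'
  let G3 : Over T' ⥤ Over T := Over.map g'
  haveI c1 : (F1 ⋙ F2).IsContinuous S'.smallEtaleTopology (QuotSh.J K S) :=
    Functor.isContinuous_comp _ _ _ (QuotSh.J K S') _
  haveI c2 : ((F1 ⋙ F2) ⋙ F3).IsContinuous S'.smallEtaleTopology (QuotSh.J K T) :=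
    Functor.isContinuous_comp _ _ _ (QuotSh.J K S) _
  haveI c3 : (G2 ⋙ G3).IsContinuous T'.smallEtaleTopology (QuotSh.J K T) :=
    Functor.isContinuous_comp _ _ _ (QuotSh.J K T') _
  haveI c4 : (G1 ⋙ (G2 ⋙ G3)).IsContinuous S'.smallEtaleTopology (QuotSh.J K T) :=
    Functor.isContinuous_comp _ _ _ T'.smallEtaleTopology _
  let e0 : G1 ⋙ G2 ≅ F1 ⋙ Over.pullback f' :=
    MorphismProperty.Over.pullbackCompForgetIso (P := EtCoh.etaleMP) (Q := ⊤) f'
  let e : (F1 ⋙ F2) ⋙ F3 ≅ G1 ⋙ (G2 ⋙ G3) :=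
    Functor.associator F1 F2 F3 ≪≫
      Functor.isoWhiskerLeft F1 (Groth.Agent.Lib.Helper19.OverBC.pullbackMapIso hsq).symm ≪≫
      (Functor.associator F1 (Over.pullback f') G3).symm ≪≫
      Functor.isoWhiskerRight e0.symm G3 ≪≫ Functor.associator G1 G2 G3
  let iso1 := Functor.sheafPushforwardContinuousComp F1 F2 AddCommGrpCat.{u + 1}
    S'.smallEtaleTopology (QuotSh.J K S') (QuotSh.J K S)
  let iso2 := Functor.sheafPushforwardContinuousComp (F1 ⋙ F2) F3 AddCommGrpCat.{u + 1}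
    S'.smallEtaleTopology (QuotSh.J K S) (QuotSh.J K T)
  let iso3 := Functor.sheafPushforwardContinuousComp G2 G3 AddCommGrpCat.{u + 1}
    T'.smallEtaleTopology (QuotSh.J K T') (QuotSh.J K T)
  let iso4 := Functor.sheafPushforwardContinuousComp G1 (G2 ⋙ G3) AddCommGrpCat.{u + 1}
    S'.smallEtaleTopology T'.smallEtaleTopology (QuotSh.J K T)
  exact ⟨Functor.isoWhiskerLeft _ iso1 ≪≫ iso2 ≪≫
    Functor.sheafPushforwardContinuousIso e AddCommGrpCat.{u + 1} _ _ ≪≫ iso4.symm ≪≫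
    (Functor.isoWhiskerRight iso3 _).symm⟩

end Groth.Agent.S12465
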