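import Groth.Statements.S12474
import Groth.Agent.Lib.Helper3.RelTwistQ
import Groth.Agent.Lib.Helper3.SymQHom
import Groth.Agent.Lib.Helper3.SymGenProj
import Groth.Agent.Lib.Helper3.SymGr
import Groth.Agent.Lib.Helper3.RelProjExist
import Groth.Agent.Lib.Helper3.RelTwistExist
import Groth.Agent.Lib.Helper3.ProjBC

set_option autoImplicit false
universe u
open CategoryTheory CategoryTheory.Limits AlgebraicGeometry TopologicalSpace Opposite
open scoped HomogeneousIdeal
open EGA2

namespace Groth.Agent.S12474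

/-- Let f : X → Y and g : Y' → Y be morphisms of schemes and let X', with g' : X' → X and f' : X' → Y',
be a fibre product of X and Y' over Y (the square is cartesian). If L is an invertible O_X-module
which is very ample relative to f (isomorphic to the inverse image of O(1) along a Y-immersion of X
into the projective bundle P(E) of a quasi-coherent O_Y-module E), then the inverse image g'^*L is
very ample relative to f'. -/
theorem result {X Y X' Y' : Scheme.{u}} (f : X ⟶ Y) (g : Y' ⟶ Y) (g' : X' ⟶ X) (f' : X' ⟶ Y')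
    (hsq : IsPullback g' f' f g) (L : X.Modules) (hL : PicF.IsInvertible L) (hva : RelProj.IsRelVeryAmple f L) :
    RelProj.IsRelVeryAmple f' ((Scheme.Modules.pullback g').obj L) := by
  classical
  obtain ⟨E, hE, 𝒮, j, hj, P, p, chart, hP, O1, lam, hO1, i, himm, hip, ⟨eL⟩⟩ := hva
  haveI : E.IsQuasicoherent := hE
  haveI hE' : ((Scheme.Modules.pullback g).obj E).IsQuasicoherent :=
    Groth.Agent.Lib.Helper17.PbStalk.isQuasicoherent_pullback g E
  obtain ⟨𝒮', j', hj'⟩ :=
    Groth.Agent.Lib.Helper3.SymGr.exists_isGrSymAlg ((Scheme.Modules.pullback g).obj E)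
  obtain ⟨P', p', chart', hP'⟩ := Groth.Agent.Lib.Helper3.RelProjExist.exists_isRelProj 𝒮'
  obtain ⟨O1', lam', hO1'⟩ := Groth.Agent.Lib.Helper3.RelTwistExist.exists_isRelTwist hP' 1
  obtain ⟨u, hu⟩ := Groth.Agent.Lib.Helper3.SymQHom.exists_symQGrHom g hj hj'
  have hbc : RelSpec.IsQBaseChange u.toQHom :=
    Groth.Agent.Lib.Helper3.SymBC.isQBaseChange g hj.1 hj'.1 u.toQHom hu
  obtain ⟨h, hh⟩ := Groth.Agent.Lib.Helper3.ProjBC.exists_isProjQMap g u hbc hP hP'
  have hpb : IsPullback h p' p g :=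
    Groth.Agent.Lib.Helper3.ProjBC.isPullback_of_isProjQMap g u hbc hP hP' h hh
  have hgen : 𝒮.IsGenDegOne := Groth.Agent.Lib.Helper3.SymGenProj.isGenDegOne hj
  obtain ⟨τ⟩ := Groth.Agent.Lib.Helper3.RelTwistQ.nonempty_iso_of_isProjQMap hP hP' hO1 hO1' h hh
    hgen
  have hcomm : (g' ≫ i) ≫ p = f' ≫ g := by rw [Category.assoc, hip, hsq.w]
  have hi'1 : hpb.lift (g' ≫ i) f' hcomm ≫ h = g' ≫ i := hpb.lift_fst _ _ _
  have hi'2 : hpb.lift (g' ≫ i) f' hcomm ≫ p' = f' := hpb.lift_snd _ _ _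
  have hpb2 : IsPullback (hpb.lift (g' ≫ i) f' hcomm) g' h i :=
    IsPullback.of_right (by rw [hi'2, hip]; exact hsq.flip) hi'1 hpb.flip
  have himm' : IsImmersion (hpb.lift (g' ≫ i) f' hcomm) :=
    MorphismProperty.of_isPullback (P := @IsImmersion) hpb2.flip himm
  refine ⟨_, hE', 𝒮', j', hj', P', p', chart', hP', O1', lam', hO1',
    hpb.lift (g' ≫ i) f' hcomm, himm', hi'2, ⟨?_⟩⟩
  exact (Scheme.Modules.pullback g').mapIso eL ≪≫ (Scheme.Modules.pullbackComp g' i).app O1 ≪≫
    (Scheme.Modules.pullbackCongr hi'1.symm).app O1 ≪≫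
    (Scheme.Modules.pullbackComp _ h).symm.app O1 ≪≫
    (Scheme.Modules.pullback _).mapIso τ

end Groth.Agent.S12474
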