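import Groth.Statements.S12472
import Groth.Agent.Lib.Helper3.SymInvTwist
import Groth.Agent.Lib.Helper3.SymGr
import Groth.Agent.Lib.Helper3.RelProjExist

set_option autoImplicit false
universe u
open CategoryTheory CategoryTheory.Limits AlgebraicGeometry TopologicalSpace Opposite
open scoped HomogeneousIdeal
open EGA2

namespace Groth.Agent.S12472

/-- Let Y be a scheme and L an invertible O_Y-module. Then L is very ample relative to the identity
morphism of Y: there are a quasi-coherent O_Y-module E and a Y-immersion i of Y into the projective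
bundle P(E) with L isomorphic to i^*O_{P(E)}(1). -/
theorem result (Y : Scheme.{u}) (L : Y.Modules) (hL : PicF.IsInvertible L) :
    RelProj.IsRelVeryAmple (𝟙 Y) L := by
  haveI : L.IsQuasicoherent :=
    Groth.Agent.Lib.Helper3.InvCoh.isQuasicoherent_of_isInvertible hL
  obtain ⟨𝒮, j, hj⟩ := Groth.Agent.Lib.Helper3.SymGr.exists_isGrSymAlg L
  obtain ⟨P, p, chart, hP⟩ := Groth.Agent.Lib.Helper3.RelProjExist.exists_isRelProj 𝒮
  obtain ⟨O1, lam, hO1⟩ := Groth.Agent.Lib.Helper3.RelTwistExist.exists_isRelTwist hP 1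
  haveI : IsIso p := Groth.Agent.Lib.Helper3.SymInvProj.isIso_p hL hj p chart hP
  obtain ⟨φ, hφ⟩ := Groth.Agent.Lib.Helper3.CanonPhi.exists_phi hj.2 hP hO1
  haveI hψ := Groth.Agent.Lib.Helper3.SymInvTwist.isIso_adjoint hL hj hO1 φ hφ
  refine ⟨L, ‹L.IsQuasicoherent›, 𝒮, j, hj, P, p, chart, hP, O1, lam, hO1, inv p, inferInstance,
    IsIso.inv_hom_id p, ⟨?_⟩⟩
  exact (Scheme.Modules.pullbackId Y).symm.app L ≪≫
    (Scheme.Modules.pullbackCongr (IsIso.inv_hom_id p).symm).app L ≪≫
    (Scheme.Modules.pullbackComp (inv p) p).symm.app L ≪≫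
    (Scheme.Modules.pullback (inv p)).mapIso
      (asIso ((Scheme.Modules.pullback p).map φ ≫
        (Scheme.Modules.pullbackPushforwardAdjunction p).counit.app O1))

end Groth.Agent.S12472
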