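import Groth.Statements.S12475
import Groth.Agent.S12474
import Groth.Agent.Lib.Helper3.Segre

set_option autoImplicit false
universe u
open CategoryTheory CategoryTheory.Limits AlgebraicGeometry TopologicalSpace Opposite
open scoped HomogeneousIdeal
open EGA2

namespace Groth.Agent.S12475

/-- Let Y₁ → S and Y₂ → S be schemes over S, f₁ : X₁ → Y₁ and f₂ : X₂ → Y₂ morphisms (so that X₁, X₂ are
S-schemes through them), P with projections p₁, p₂ a fibre product X₁ ×_S X₂, Q with projections q₁,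
q₂ a fibre product Y₁ ×_S Y₂, and h : P → Q the morphism f₁ ×_S f₂, that is, the one with h ≫ q₁ =
p₁ ≫ f₁ and h ≫ q₂ = p₂ ≫ f₂. If L₁ is an invertible O_{X₁}-module very ample relative to f₁ and L₂
an invertible O_{X₂}-module very ample relative to f₂ (each isomorphic to the inverse image of O(1)
along an immersion over the base into the projective bundle of a quasi-coherent module on the base),
then the external tensor product p₁^*L₁ ⊗ p₂^*L₂ is very ample relative to h. -/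
theorem result {S X₁ X₂ Y₁ Y₂ P Q : Scheme.{u}} (y₁ : Y₁ ⟶ S) (y₂ : Y₂ ⟶ S)
    (f₁ : X₁ ⟶ Y₁) (f₂ : X₂ ⟶ Y₂) (p₁ : P ⟶ X₁) (p₂ : P ⟶ X₂) (hP : IsPullback p₁ p₂ (f₁ ≫ y₁) (f₂ ≫ y₂))
    (q₁ : Q ⟶ Y₁) (q₂ : Q ⟶ Y₂) (hQ : IsPullback q₁ q₂ y₁ y₂) (h : P ⟶ Q)
    (hh₁ : h ≫ q₁ = p₁ ≫ f₁) (hh₂ : h ≫ q₂ = p₂ ≫ f₂)
    (L₁ : X₁.Modules) (hL₁ : PicF.IsInvertible L₁) (hva₁ : RelProj.IsRelVeryAmple f₁ L₁)
    (L₂ : X₂.Modules) (hL₂ : PicF.IsInvertible L₂) (hva₂ : RelProj.IsRelVeryAmple f₂ L₂) :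
    RelProj.IsRelVeryAmple h
      (CohB1.tensorMod ((Scheme.Modules.pullback p₁).obj L₁) ((Scheme.Modules.pullback p₂).obj L₂)) := by
  classical
  obtain ⟨Z₁, α₁, u₁, S1⟩ : ∃ (Z₁ : Scheme.{u}) (α₁ : Z₁ ⟶ X₁) (u₁ : Z₁ ⟶ Q),
      IsPullback α₁ u₁ f₁ q₁ := ⟨_, _, _, IsPullback.of_hasPullback f₁ q₁⟩
  obtain ⟨Z₂, α₂, u₂, S2⟩ : ∃ (Z₂ : Scheme.{u}) (α₂ : Z₂ ⟶ X₂) (u₂ : Z₂ ⟶ Q),
      IsPullback α₂ u₂ f₂ q₂ := ⟨_, _, _, IsPullback.of_hasPullback f₂ q₂⟩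
  have S3 : IsPullback (pullback.fst u₁ u₂) (pullback.snd u₁ u₂) u₁ u₂ :=
    IsPullback.of_hasPullback _ _
  have T1 := S1.flip.paste_horiz hQ.flip
  have T2 := S3.flip.paste_horiz S2
  have T := (T2.paste_vert T1).flip
  have hva₁' := Groth.Agent.S12474.result f₁ q₁ α₁ u₁ S1 L₁ hL₁ hva₁
  have hva₂' := Groth.Agent.S12474.result f₂ q₂ α₂ u₂ S2 L₂ hL₂ hva₂
  obtain ⟨E₁, hE₁, 𝒮₁, j₁, hj₁, P₁, pp₁, chart₁, hP₁, O1₁, lam₁, hO1₁, i₁, hi₁, hip₁, ⟨eL₁⟩⟩ :=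
    hva₁'
  obtain ⟨E₂, hE₂, 𝒮₂, j₂, hj₂, P₂, pp₂, chart₂, hP₂, O1₂, lam₂, hO1₂, i₂, hi₂, hip₂, ⟨eL₂⟩⟩ :=
    hva₂'
  haveI : E₁.IsQuasicoherent := hE₁
  haveI : E₂.IsQuasicoherent := hE₂
  haveI := hi₁
  haveI := hi₂
  haveI hF : (CohB1.tensorMod E₁ E₂).IsQuasicoherent :=
    Groth.Agent.Lib.Helper17.TensorSec.isQuasicoherent_tensorMod E₁ E₂
  obtain ⟨𝒯, k, hk⟩ := Groth.Agent.Lib.Helper3.SymGr.exists_isGrSymAlg (CohB1.tensorMod E₁ E₂)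
  obtain ⟨PQ, q, chartQ, hPQ⟩ := Groth.Agent.Lib.Helper3.RelProjExist.exists_isRelProj 𝒯
  obtain ⟨O1Q, lamQ, hO1Q⟩ := Groth.Agent.Lib.Helper3.RelTwistExist.exists_isRelTwist hPQ 1
  have hr₁ : (pullback.fst u₁ u₂ ≫ i₁) ≫ pp₁ = pullback.fst u₁ u₂ ≫ u₁ := by
    rw [Category.assoc, hip₁]
  have hr₂ : (pullback.snd u₁ u₂ ≫ i₂) ≫ pp₂ = pullback.fst u₁ u₂ ≫ u₁ := by
    rw [Category.assoc, hip₂, pullback.condition]
  haveI : IsImmersion (pullback.lift (pullback.fst u₁ u₂ ≫ i₁) (pullback.snd u₁ u₂ ≫ i₂)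
      (hr₁.trans hr₂.symm)) := by
    have h0 := MorphismProperty.pullbackMap (P := @IsImmersion) hi₁ hi₂ hip₁.symm hip₂.symm
    exact h0
  obtain ⟨ς', hς'i, hς', ⟨τ⟩⟩ := Groth.Agent.Lib.Helper3.Segre.exists_segre hj₁ hP₁ hO1₁ hj₂ hP₂
    hO1₂ hk hPQ hO1Q (pullback.fst u₁ u₂ ≫ u₁) (pullback.fst u₁ u₂ ≫ i₁)
    (pullback.snd u₁ u₂ ≫ i₂) hr₁ hr₂
  haveI := hς'i
  have hε1 : (hP.isoIsPullback _ _ T).hom ≫ (pullback.fst u₁ u₂ ≫ α₁) = p₁ :=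
    hP.isoIsPullback_hom_fst _ _ T
  have hε2 : (hP.isoIsPullback _ _ T).hom ≫ (pullback.snd u₁ u₂ ≫ α₂) = p₂ :=
    hP.isoIsPullback_hom_snd _ _ T
  generalize hP.isoIsPullback _ _ T = ε at hε1 hε2
  have hεh : ε.hom ≫ pullback.fst u₁ u₂ ≫ u₁ = h := by
    apply hQ.hom_ext
    · calc (ε.hom ≫ pullback.fst u₁ u₂ ≫ u₁) ≫ q₁
          = ε.hom ≫ pullback.fst u₁ u₂ ≫ (u₁ ≫ q₁) := by simp only [Category.assoc]
        _ = ε.hom ≫ pullback.fst u₁ u₂ ≫ (α₁ ≫ f₁) := by rw [S1.w]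
        _ = (ε.hom ≫ (pullback.fst u₁ u₂ ≫ α₁)) ≫ f₁ := by simp only [Category.assoc]
        _ = p₁ ≫ f₁ := by rw [hε1]
        _ = h ≫ q₁ := hh₁.symm
    · calc (ε.hom ≫ pullback.fst u₁ u₂ ≫ u₁) ≫ q₂
          = ε.hom ≫ (pullback.fst u₁ u₂ ≫ u₁) ≫ q₂ := by simp only [Category.assoc]
        _ = ε.hom ≫ (pullback.snd u₁ u₂ ≫ u₂) ≫ q₂ := by rw [S3.w]
        _ = ε.hom ≫ pullback.snd u₁ u₂ ≫ (u₂ ≫ q₂) := by simp only [Category.assoc]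
        _ = ε.hom ≫ pullback.snd u₁ u₂ ≫ (α₂ ≫ f₂) := by rw [S2.w]
        _ = (ε.hom ≫ (pullback.snd u₁ u₂ ≫ α₂)) ≫ f₂ := by simp only [Category.assoc]
        _ = p₂ ≫ f₂ := by rw [hε2]
        _ = h ≫ q₂ := hh₂.symm
  have hO1i₁ : PicF.IsInvertible O1₁ :=
    Groth.Agent.Lib.Helper3.GrTwistGen.isInvertible_of_isRelTwist 𝒮₁ pp₁ chart₁
      (Groth.Agent.Lib.Helper3.SymGenProj.isGenDegOne hj₁) _ O1₁ lam₁ hO1₁.bijective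
  have hO1i₂ : PicF.IsInvertible O1₂ :=
    Groth.Agent.Lib.Helper3.GrTwistGen.isInvertible_of_isRelTwist 𝒮₂ pp₂ chart₂
      (Groth.Agent.Lib.Helper3.SymGenProj.isGenDegOne hj₂) _ O1₂ lam₂ hO1₂.bijective
  have hinv₁ : PicF.IsInvertible ((Scheme.Modules.pullback (pullback.fst u₁ u₂ ≫ i₁)).obj O1₁) :=
    Groth.Agent.Lib.Helper3.PbBasic.isInvertible_pullback _ hO1i₁
  have hinv₂ : PicF.IsInvertible ((Scheme.Modules.pullback (pullback.snd u₁ u₂ ≫ i₂)).obj O1₂) :=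
    Groth.Agent.Lib.Helper3.PbBasic.isInvertible_pullback _ hO1i₂
  let c₁ : (Scheme.Modules.pullback p₁).obj L₁ ≅
      (Scheme.Modules.pullback ε.hom).obj
        ((Scheme.Modules.pullback (pullback.fst u₁ u₂ ≫ i₁)).obj O1₁) :=
    (Scheme.Modules.pullbackCongr (show p₁ = (ε.hom ≫ pullback.fst u₁ u₂) ≫ α₁ by
      rw [Category.assoc, hε1])).app L₁ ≪≫
    (Scheme.Modules.pullbackComp (ε.hom ≫ pullback.fst u₁ u₂) α₁).symm.app L₁ ≪≫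
    (Scheme.Modules.pullback (ε.hom ≫ pullback.fst u₁ u₂)).mapIso eL₁ ≪≫
    (Scheme.Modules.pullbackComp (ε.hom ≫ pullback.fst u₁ u₂) i₁).app O1₁ ≪≫
    (Scheme.Modules.pullbackCongr (Category.assoc ε.hom (pullback.fst u₁ u₂) i₁)).app O1₁ ≪≫
    (Scheme.Modules.pullbackComp ε.hom (pullback.fst u₁ u₂ ≫ i₁)).symm.app O1₁
  let c₂ : (Scheme.Modules.pullback p₂).obj L₂ ≅
      (Scheme.Modules.pullback ε.hom).obj
        ((Scheme.Modules.pullback (pullback.snd u₁ u₂ ≫ i₂)).obj O1₂) :=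
    (Scheme.Modules.pullbackCongr (show p₂ = (ε.hom ≫ pullback.snd u₁ u₂) ≫ α₂ by
      rw [Category.assoc, hε2])).app L₂ ≪≫
    (Scheme.Modules.pullbackComp (ε.hom ≫ pullback.snd u₁ u₂) α₂).symm.app L₂ ≪≫
    (Scheme.Modules.pullback (ε.hom ≫ pullback.snd u₁ u₂)).mapIso eL₂ ≪≫
    (Scheme.Modules.pullbackComp (ε.hom ≫ pullback.snd u₁ u₂) i₂).app O1₂ ≪≫
    (Scheme.Modules.pullbackCongr (Category.assoc ε.hom (pullback.snd u₁ u₂) i₂)).app O1₂ ≪≫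
    (Scheme.Modules.pullbackComp ε.hom (pullback.snd u₁ u₂ ≫ i₂)).symm.app O1₂
  refine ⟨_, hF, 𝒯, k, hk, PQ, q, chartQ, hPQ, O1Q, lamQ, hO1Q, ε.hom ≫ ς', inferInstance, ?_, ⟨?_⟩⟩
  · rw [Category.assoc, hς', hεh]
  · exact Groth.Agent.Lib.Helper3.InvMonoidal.tensorMapIso c₁ c₂ ≪≫
      (Groth.Agent.Lib.Helper3.PbTensor.pbTensorIso ε.hom _ _ hinv₁ hinv₂).symm ≪≫
      (Scheme.Modules.pullback ε.hom).mapIso τ.symm ≪≫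
      (Scheme.Modules.pullbackComp ε.hom ς').app O1Q

end Groth.Agent.S12475
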