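import Groth.Statements.S12476
import Groth.Agent.Lib.Helper3.RelTwistQ
import Groth.Agent.Lib.Helper3.SymQHom
import Groth.Agent.Lib.Helper3.SymGenProj
import Groth.Agent.Lib.Helper3.SymGr
import Groth.Agent.Lib.Helper3.RelProjExist
import Groth.Agent.Lib.Helper3.RelTwistExist
import Groth.Agent.Lib.Helper3.ProjBC

set_option autoImplicit false
universe u
open CategoryTheory CategoryTheory.Limits AlgebraicGeometry TopologicalSpace Opposite
open scoped HomogeneousIdeal
open EGA2

namespace Groth.Agent.S12476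

/-- Let f : X → Y and g : Y → Z be morphisms of schemes and L an invertible O_X-module which is very
ample relative to the composite X → Y → Z (isomorphic to the inverse image of O(1) along a
Z-immersion of X into the projective bundle of a quasi-coherent O_Z-module). Then L is very ample
relative to f. -/
theorem result {X Y Z : Scheme.{u}} (f : X ⟶ Y) (g : Y ⟶ Z) (L : X.Modules)
    (hL : PicF.IsInvertible L) (hva : RelProj.IsRelVeryAmple (f ≫ g) L) : RelProj.IsRelVeryAmple f L := by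
  classical
  obtain ⟨E, hE, 𝒮, j, hj, P, p, chart, hP, O1, lam, hO1, i, himm, hip, ⟨eL⟩⟩ := hva
  haveI : E.IsQuasicoherent := hE
  haveI hE' : ((Scheme.Modules.pullback g).obj E).IsQuasicoherent :=
    Groth.Agent.Lib.Helper17.PbStalk.isQuasicoherent_pullback g E
  obtain ⟨𝒮', j', hj'⟩ :=
    Groth.Agent.Lib.Helper3.SymGr.exists_isGrSymAlg ((Scheme.Modules.pullback g).obj E)
  obtain ⟨P', p', chart', hP'⟩ := Groth.Agent.Lib.Helper3.RelProjExist.exists_isRelProj 𝒮'
  obtain ⟨O1', lam', hO1'⟩ := Groth.Agent.Lib.Helper3.RelTwistExist.exists_isRelTwist hP' 1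
  obtain ⟨u, hu⟩ := Groth.Agent.Lib.Helper3.SymQHom.exists_symQGrHom g hj hj'
  have hbc : RelSpec.IsQBaseChange u.toQHom :=
    Groth.Agent.Lib.Helper3.SymBC.isQBaseChange g hj.1 hj'.1 u.toQHom hu
  obtain ⟨h, hh⟩ := Groth.Agent.Lib.Helper3.ProjBC.exists_isProjQMap g u hbc hP hP'
  have hpb : IsPullback h p' p g :=
    Groth.Agent.Lib.Helper3.ProjBC.isPullback_of_isProjQMap g u hbc hP hP' h hh
  have hgen : 𝒮.IsGenDegOne := Groth.Agent.Lib.Helper3.SymGenProj.isGenDegOne hj
  obtain ⟨τ⟩ := Groth.Agent.Lib.Helper3.RelTwistQ.nonempty_iso_of_isProjQMap hP hP' hO1 hO1' h hh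
    hgen
  have hi'1 : hpb.lift i f hip ≫ h = i := hpb.lift_fst _ _ _
  have hi'2 : hpb.lift i f hip ≫ p' = f := hpb.lift_snd _ _ _
  haveI : IsImmersion (hpb.lift i f hip ≫ h) := by rw [hi'1]; exact himm
  have himm' : IsImmersion (hpb.lift i f hip) := IsImmersion.of_comp (hpb.lift i f hip) h
  refine ⟨_, hE', 𝒮', j', hj', P', p', chart', hP', O1', lam', hO1',
    hpb.lift i f hip, himm', hi'2, ⟨?_⟩⟩
  exact eL ≪≫ (Scheme.Modules.pullbackCongr hi'1.symm).app O1 ≪≫
    (Scheme.Modules.pullbackComp _ h).symm.app O1 ≪≫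
    (Scheme.Modules.pullback _).mapIso τ

end Groth.Agent.S12476
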