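import Groth.Statements.S12479
import Groth.Agent.Lib.Helper3.VABridge
import Groth.Agent.Lib.Helper3.VALocal
import Groth.Agent.Lib.Helper3.VAMain
import Groth.Agent.Lib.Helper3.InvRestrict

set_option autoImplicit false
universe u
open CategoryTheory CategoryTheory.Limits AlgebraicGeometry TopologicalSpace Opposite
open scoped HomogeneousIdeal
open EGA2

namespace Groth.Agent.S12479

/-- Let Y be a quasi-compact scheme, f : X → Y a morphism of finite type, L an invertible O_X-module
which is ample relative to f and L' an invertible O_X-module. Then there is an integer n₀ such that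
for every n ≥ n₀ the module L^{⊗n} ⊗ L' is very ample relative to f (isomorphic to the inverse image
of O(1) along a Y-immersion of X into the projective bundle P(E) of a quasi-coherent O_Y-module E). -/
theorem result {X Y : Scheme.{u}} [CompactSpace Y] (f : X ⟶ Y)
    [QuasiCompact f] [LocallyOfFiniteType f] (L L' : X.Modules) (hL : PicF.IsInvertible L) (hL' : PicF.IsInvertible L')
    (h : RelAmple.IsRelAmple f L) :
    ∃ n₀ : ℕ, ∀ n : ℕ, n₀ ≤ n → RelProj.IsRelVeryAmple f (CohB1.tensorMod (CohB1.tensorPow L n) L') := by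
  classical
  obtain ⟨ι, hι, U, hU, -, hcov⟩ :=
    Groth.Agent.Lib.Helper3.QCSec.exists_finite_affine_cover (⊤ : Y.Opens) isCompact_univ
  have key : ∀ i : ι, ∃ n₀ : ℕ, ∀ n, n₀ ≤ n →
      RelAmple.IsRelVeryAmplePn (f ∣_ U i)
        (CohB1.tensorMod (CohB1.tensorPow (L.restrict (f ⁻¹ᵁ U i).ι) n)
          (L'.restrict (f ⁻¹ᵁ U i).ι)) :=
    fun i => Groth.Agent.Lib.Helper3.VAMain.eventually_isRelVeryAmplePn (f ∣_ U i)
      (h.2 ⟨U i, hU i⟩) (Groth.Agent.Lib.Helper3.InvRestrict.isInvertible_restrict _ hL')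
  choose N hN using key
  haveI := Fintype.ofFinite ι
  refine ⟨Finset.univ.sup N, fun n hn => ?_⟩
  have hinv : PicF.IsInvertible (CohB1.tensorMod (CohB1.tensorPow L n) L') :=
    Groth.Agent.Lib.Helper3.InvTensor.isInvertible_tensorMod
      (Groth.Agent.Lib.Helper3.InvTensor.isInvertible_tensorPow hL n) hL'
  apply Groth.Agent.Lib.Helper3.VALocal.isRelVeryAmple_of_local f _ hinv
  intro y
  obtain ⟨i, hi⟩ := Opens.mem_iSup.mp (hcov (show y ∈ (⊤ : Y.Opens) from trivial))
  refine ⟨U i, hi, ?_⟩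
  apply Groth.Agent.Lib.Helper3.VABridge.isRelVeryAmple_of_isRelVeryAmplePn _ _
    (Groth.Agent.Lib.Helper3.InvRestrict.isInvertible_restrict _ hinv)
  refine Groth.Agent.Lib.Helper3.VAMain.isRelVeryAmplePn_of_iso _
    (Groth.Agent.Lib.Helper3.InvMonoidal.tensorMapIso
        (Groth.Agent.Lib.Helper3.InvRestrict.restrictPowIso (f ⁻¹ᵁ U i).ι L n) (Iso.refl _) ≪≫
      Groth.Agent.Lib.Helper3.InvRestrict.restrictTensorIso (f ⁻¹ᵁ U i).ι
        (CohB1.tensorPow L n) L') (hN i n ?_)
  have h1 : N i ≤ Finset.univ.sup N := Finset.le_sup (Finset.mem_univ i)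
  omega

end Groth.Agent.S12479
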