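import Groth.Statements.S12480
import Groth.Agent.Lib.Helper3.ProjBundleUP
import Groth.Agent.Lib.Helper3.QCPush

set_option autoImplicit false
universe u
open CategoryTheory CategoryTheory.Limits AlgebraicGeometry TopologicalSpace Opposite
open scoped HomogeneousIdeal
open EGA2

namespace Groth.Agent.S12480

/-- Let X be a quasi-affine scheme and L an invertible O_X-module. Then L is very ample relative to the
canonical morphism u : X → Spec Γ(X, O_X): there are a quasi-coherent module E on that spectrum and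
an immersion i of X into the projective bundle P(E), compatible with u, with L isomorphic to
i^*O_{P(E)}(1). (The published statement adds that L is then ample; that assertion is stated
separately.) -/
theorem result (X : Scheme.{u}) [X.IsQuasiAffine] (L : X.Modules)
    (hL : PicF.IsInvertible L) : RelProj.IsRelVeryAmple X.toSpecΓ L := by
  classical
  haveI : L.IsQuasicoherent := Groth.Agent.Lib.Helper3.InvCoh.isQuasicoherent_of_isInvertible hL
  haveI hE : ((Scheme.Modules.pushforward X.toSpecΓ).obj L).IsQuasicoherent :=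
    Groth.Agent.Lib.Helper3.QCSec.isQuasicoherent_pushforward X.toSpecΓ L
  obtain ⟨𝒮, j, hj⟩ :=
    Groth.Agent.Lib.Helper3.SymGr.exists_isGrSymAlg ((Scheme.Modules.pushforward X.toSpecΓ).obj L)
  obtain ⟨P, p, chart, hP⟩ := Groth.Agent.Lib.Helper3.RelProjExist.exists_isRelProj 𝒮
  obtain ⟨O1, lam, hO1⟩ := Groth.Agent.Lib.Helper3.RelTwistExist.exists_isRelTwist hP 1
  obtain ⟨φ, hφ⟩ := Groth.Agent.Lib.Helper3.CanonPhi.exists_phi hj.2 hP hO1
  have hφR : ∀ (U : (Spec Γ(X, ⊤)).Opens) (hU : IsAffineOpen U)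
      (e : Γ((Scheme.Modules.pushforward X.toSpecΓ).obj L, U)),
      Groth.Agent.Lib.Helper3.RelChart.Reads lam U hU (p ⁻¹ᵁ U)
        (Groth.Agent.Lib.Helper3.PullLemmas.up p O1 U (φ.app U e))
        (Groth.Agent.Lib.Helper3.SymGen.jj 𝒮.toQCAlg j U e) 1 :=
    fun U hU e => Groth.Agent.Lib.Helper3.ProjBundleUP.reads_of_fr (d := 1) U hU _ (hj.2 U hU e) _
      (hφ U hU e)
  let s : (Scheme.Modules.pullback X.toSpecΓ).obj ((Scheme.Modules.pushforward X.toSpecΓ).obj L) ≅
      L :=
    (Scheme.Modules.restrictFunctorIsoPullback X.toSpecΓ).symm.app _ ≪≫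
      (Scheme.Modules.restrictFunctorAdjCounitIso X.toSpecΓ).app L
  obtain ⟨r, hr, τ, -⟩ := Groth.Agent.Lib.Helper3.ProjBundleUP.exists_hom _ 𝒮 j hj p chart hP O1
    lam hO1 φ hφR X.toSpecΓ L hL s.hom
  haveI : IsImmersion (r ≫ p) := by
    rw [hr]
    infer_instance
  haveI : IsImmersion r := IsImmersion.of_comp r p
  exact ⟨_, hE, 𝒮, j, hj, P, p, chart, hP, O1, lam, hO1, r, inferInstance, hr, ⟨τ.symm⟩⟩

end Groth.Agent.S12480
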