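import Groth.Statements.S12481
import Groth.Agent.Lib.Helper3.VABridge
import Groth.Agent.Lib.Helper3.VALocal
import Groth.Agent.Lib.Helper3.VAMain
import Groth.Agent.Lib.Helper3.InvRestrict

set_option autoImplicit false
universe u
open CategoryTheory CategoryTheory.Limits AlgebraicGeometry TopologicalSpace Opposite
open scoped HomogeneousIdeal
open Mor

namespace Groth.Agent.S12481

/-- (2) ⇒ (1): let f : X ⟶ S be of finite type, L an invertible O_X-module and (V_j) an open covering of
S such that for each j the restriction of L to f⁻¹(V_j) is isomorphic to the inverse image of O(1)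
along some immersion of f⁻¹(V_j) into a projective space P^{n_j}_{V_j} over V_j. Then L is very
ample relative to f: there are a quasi-coherent O_S-module E and an S-immersion i of X into the
projective bundle P(E) with L isomorphic to i^*O_{P(E)}(1). (The converse implication of the
published statement is stated separately.) -/
theorem result {X S : Scheme.{u}} (f : X ⟶ S)
    [LocallyOfFiniteType f] [QuasiCompact f] (L : X.Modules) (hLinv : PicF.IsInvertible L)
    {ι : Type u} (V : ι → S.Opens) (hV : (⨆ j, V j) = ⊤)
    (h : ∀ j, RelAmple.IsRelVeryAmplePn (f ∣_ V j) (L.restrict (f ⁻¹ᵁ V j).ι)) :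
    RelProj.IsRelVeryAmple f L := by
  apply Groth.Agent.Lib.Helper3.VALocal.isRelVeryAmple_of_local f L hLinv
  intro y
  obtain ⟨j, hj⟩ := Opens.mem_iSup.mp (show y ∈ ⨆ j, V j from hV ▸ trivial)
  exact ⟨V j, hj, Groth.Agent.Lib.Helper3.VABridge.isRelVeryAmple_of_isRelVeryAmplePn _ _
    (Groth.Agent.Lib.Helper3.InvRestrict.isInvertible_restrict _ hLinv) (h j)⟩

end Groth.Agent.S12481
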