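import Groth.Statements.S12482
import Mathlib.Tactic.LinearCombination
import Mathlib.Tactic.Ring

set_option autoImplicit false
universe u
open Dual

namespace Groth.Agent.S12482

theorem ofList_ofFn (A : Type u) [CommRing A] (p : ℕ) (x : Fin p → A) :
    Ideal.ofList (List.ofFn x) = Ideal.span (Set.range x) := by
  unfold Ideal.ofList
  congr 1
  ext a
  simp [List.mem_ofFn']

/-- Relations among the members of a weakly regular sequence have coefficients in the ideal
generated by the sequence. -/
theorem key (A : Type u) [CommRing A] : ∀ (p : ℕ) (x : Fin p → A),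
    RingTheory.Sequence.IsWeaklyRegular A (List.ofFn x) →
    ∀ c : Fin p → A, ∑ i, c i * x i = 0 → ∀ i, c i ∈ Ideal.span (Set.range x) := by
  intro p
  induction p with
  | zero => intro x _ c _ i; exact i.elim0
  | succ p ih =>
    intro x hreg c hc
    set x' : Fin p → A := fun i => x (Fin.castSucc i) with hx'
    set r := x (Fin.last p) with hr
    rw [List.ofFn_succ', List.concat_eq_append,
      RingTheory.Sequence.isWeaklyRegular_append_iff,
      RingTheory.Sequence.isWeaklyRegular_singleton_iff] at hreg
    obtain ⟨hreg', hlast⟩ := hreg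
    have hJ' : (Ideal.ofList (List.ofFn x') • ⊤ : Submodule A A) = Ideal.span (Set.range x') := by
      rw [ofList_ofFn]; simp
    rw [Fin.sum_univ_castSucc] at hc
    have hle : Ideal.span (Set.range x') ≤ Ideal.span (Set.range x) := by
      apply Ideal.span_mono
      rintro _ ⟨i, rfl⟩
      exact ⟨Fin.castSucc i, rfl⟩
    have hrJ : r ∈ Ideal.span (Set.range x) := Ideal.subset_span ⟨Fin.last p, rfl⟩
    -- the last coefficient lies in J'
    have hlast_mem : c (Fin.last p) ∈ Ideal.span (Set.range x') := by
      have h1 : r • (Submodule.Quotient.mk (c (Fin.last p)) :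
          A ⧸ (Ideal.ofList (List.ofFn x') • ⊤ : Submodule A A)) = r • 0 := by
        rw [smul_zero, ← Submodule.Quotient.mk_smul, Submodule.Quotient.mk_eq_zero, hJ']
        have : r • c (Fin.last p) = - ∑ i : Fin p, c (Fin.castSucc i) * x' i := by
          rw [smul_eq_mul, mul_comm]
          linear_combination hc
        rw [this]
        apply neg_mem
        apply Ideal.sum_mem
        intro i _
        exact Ideal.mul_mem_left _ _ (Ideal.subset_span ⟨i, rfl⟩)
      have h2 := hlast h1
      rwa [Submodule.Quotient.mk_eq_zero, hJ'] at h2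
    obtain ⟨d, hd⟩ := (Ideal.mem_span_range_iff_exists_fun).1 hlast_mem
    have hrel : ∑ i : Fin p, (c (Fin.castSucc i) + d i * r) * x' i = 0 := by
      have : ∑ i : Fin p, (c (Fin.castSucc i) + d i * r) * x' i =
          ∑ i : Fin p, c (Fin.castSucc i) * x' i + r * ∑ i : Fin p, d i * x' i := by
        rw [Finset.mul_sum, ← Finset.sum_add_distrib]
        apply Finset.sum_congr rfl
        intro i _
        ring
      rw [this, hd, mul_comm r]
      exact hc
    have hih := ih x' hreg' _ hrel
    intro i
    refine Fin.lastCases ?_ (fun i => ?_) i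
    · exact hle hlast_mem
    · have h3 := hle (hih i)
      have h4 : d i * r ∈ Ideal.span (Set.range x) := Ideal.mul_mem_left _ _ hrJ
      have := Ideal.sub_mem _ h3 h4
      simpa using this

/-- Let `A` be a commutative ring, `x_1, …, x_p` a sequence of elements of `A` such that each `x_i` is a
non-zero-divisor on `A/(x_1, …, x_{i-1})`, and `J` the ideal generated by the `x_i`. Then `J/J²` is
a free `(A/J)`-module with basis the classes of the `x_i`: there is a basis of `J/J²` over `A/J`,
indexed by `1, …, p`, whose `i`-th vector is the class of `x_i`. (The other assertions of the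
published statement, on the Koszul complex and on Ext and Tor against `A/J`, are stated separately.) -/
theorem result (A : Type u) [CommRing A] (p : ℕ) (x : Fin p → A)
    (hreg : RingTheory.Sequence.IsWeaklyRegular A (List.ofFn x)) :
    ∃ b : Module.Basis (Fin p) (A ⧸ Ideal.span (Set.range x)) (Ideal.span (Set.range x)).Cotangent,
      ∀ i, b i = (Ideal.span (Set.range x)).toCotangent ⟨x i, Ideal.subset_span (Set.mem_range_self i)⟩ := by
  set J := Ideal.span (Set.range x) with hJ
  let xJ : Fin p → J := fun i => ⟨x i, Ideal.subset_span (Set.mem_range_self i)⟩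
  let v : Fin p → J.Cotangent := fun i => J.toCotangent (xJ i)
  have hsmul : ∀ (a : A) (m : J.Cotangent), (Ideal.Quotient.mk J a) • m = a • m := fun a m => rfl
  have hsum : ∀ a : Fin p → A, ∑ i, (Ideal.Quotient.mk J (a i)) • v i =
      J.toCotangent (∑ i, a i • xJ i) := by
    intro a
    rw [map_sum]
    apply Finset.sum_congr rfl
    intro i _
    rw [hsmul, map_smul]
  have hli : LinearIndependent (A ⧸ J) v := by
    rw [Fintype.linearIndependent_iff]
    intro g hg
    obtain ⟨a, rfl⟩ : ∃ a : Fin p → A, g = fun i => Ideal.Quotient.mk J (a i) := by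
      refine ⟨fun i => (Ideal.Quotient.mk_surjective (g i)).choose, ?_⟩
      funext i
      exact (Ideal.Quotient.mk_surjective (g i)).choose_spec.symm
    rw [hsum, Ideal.toCotangent_eq_zero] at hg
    have hcoe : ((∑ i, a i • xJ i : J) : A) = ∑ i, a i * x i := by
      rw [Submodule.coe_sum]
      rfl
    rw [hcoe, pow_two] at hg
    have hg' : ∑ i, a i * x i ∈ J • (Submodule.span A (Set.range x) : Submodule A A) := hg
    rw [Submodule.mem_ideal_smul_span_iff_exists_sum] at hg'
    obtain ⟨b, hb, hbsum⟩ := hg'
    rw [Finsupp.sum_fintype _ _ (by intro i; simp)] at hbsum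
    have hrel : ∑ i, (a i - b i) * x i = 0 := by
      simp only [sub_mul, Finset.sum_sub_distrib]
      rw [sub_eq_zero]
      exact hbsum.symm
    have := key A p x hreg _ hrel
    intro i
    have h5 : a i ∈ J := by
      have := Ideal.add_mem _ (this i) (hb i)
      simpa using this
    exact Ideal.Quotient.eq_zero_iff_mem.2 h5
  have hsp : ⊤ ≤ Submodule.span (A ⧸ J) (Set.range v) := by
    rintro m -
    obtain ⟨y, rfl⟩ := J.toCotangent_surjective m
    obtain ⟨y, hy⟩ := y
    obtain ⟨a, ha⟩ := (Ideal.mem_span_range_iff_exists_fun).1 hy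
    have : (⟨y, hy⟩ : J) = ∑ i, a i • xJ i := by
      apply Subtype.ext
      rw [Submodule.coe_sum]
      exact ha.symm
    rw [this, ← hsum]
    apply Submodule.sum_mem
    intro i _
    exact Submodule.smul_mem _ _ (Submodule.subset_span ⟨i, rfl⟩)
  refine ⟨Module.Basis.mk hli hsp, fun i => ?_⟩
  rw [Module.Basis.mk_apply]

end Groth.Agent.S12482
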