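import Groth.Statements.S12483
import Groth.Agent.Lib.Helper7.FreeHomExact
import Groth.Agent.Lib.Helper7.SheafHomExt

set_option autoImplicit false
universe u
open CategoryTheory CategoryTheory.Limits AlgebraicGeometry
open Coherent

namespace Groth.Agent.S12483

theorem toAdd {R M N : Type*} {_ : Semiring R} {_ : AddCommMonoid M} {_ : AddCommMonoid N}
    {_ : Module R M} {_ : Module R N} (h : Nonempty (M ≃ₗ[R] N)) : Nonempty (M ≃+ N) :=
  h.map LinearEquiv.toAddEquiv

/-- Let `X` be a scheme, `A` an `O_X`-module which is finite locally free (every point has an open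
neighbourhood over which `A` is isomorphic to some `O^n`) and for which the internal Hom functor
`Hom_{O_X}(A, -)` exists (right adjoint of `A ⊗ -`), `B` any `O_X`-module and `p ≥ 0`. Then
`Ext^p_{O_X}(X; A, B)`, the Ext group computed in the category of `O_X`-modules, is isomorphic to
`H^p(X, Hom_{O_X}(A, B))`. (Existence of an isomorphism of abelian groups only; the published
isomorphisms are canonical, the edge maps of the local-to-global spectral sequence for Ext. The
published statement is for an arbitrary ringed space; this row is the case of a scheme.) -/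
theorem result (X : Scheme.{u}) [HasExt.{u} X.Modules]
    (A B : X.Modules) (hA : FlatMod.IsFinLocFree A) [DCoh.HasSheafHom A] (p : ℕ) :
    Nonempty (Abelian.Ext A B p ≃+ Coh.HH X ((DCoh.sheafHom A).obj B) p) := by
  have := Groth.Agent.Lib.Helper7.FreeHomExact.preservesFiniteColimits_sheafHom A hA
  let _ : X.Over (Spec (CommRingCat.of (ULift.{u} ℤ))) := ⟨specULiftZIsTerminal.from X⟩
  exact toAdd
    (Groth.Agent.Lib.Helper7.SheafHomExt.nonempty_ext_linearEquiv (ULift.{u} ℤ) A hA B p)

end Groth.Agent.S12483
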