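import Groth.Statements.S12491
import Mathlib
import Groth.Agent.Lib.Helper7.SyzFree
import Groth.Agent.Lib.Helper26.RegularRing
import Groth.Agent.Lib.Helper26.SerreReg

set_option autoImplicit false
universe u
open VBPn

namespace Groth.Agent.S12491

/-- Let A be a regular local ring, k ≥ 0, and N_0, N_1, … A-modules with N_0 finitely generated and N_1,
…, N_k finitely generated and free, with linear maps d_i : N_i → N_{i+1} such that d_0 is injective
and the sequence 0 → N_0 → N_1 → ⋯ → N_k is exact. Then for every prime ideal p of A of height at
most k the localization of N_0 at p is a free module over A_p. The published statement is for a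
coherent analytic sheaf on a complex manifold that is locally a k-th syzygy sheaf and says its set
of non-free stalks has codimension greater than k; this row is the statement at one stalk, over any
regular local ring. -/
theorem result (A : Type u) [CommRing A] [IsRegularLocalRing A]
    (k : ℕ) (N : ℕ → Type u) [∀ i, AddCommGroup (N i)] [∀ i, Module A (N i)] [Module.Finite A (N 0)]
    (hfree : ∀ i, 1 ≤ i → i ≤ k → Module.Free A (N i) ∧ Module.Finite A (N i))
    (d : ∀ i, N i →ₗ[A] N (i + 1)) (hinj : Function.Injective (d 0))
    (hex : ∀ i, i + 1 < k → LinearMap.range (d i) = LinearMap.ker (d (i + 1)))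
    (p : Ideal A) [p.IsPrime] (hp : p.height ≤ k) :
    Module.Free (Localization.AtPrime p) (LocalizedModule p.primeCompl (N 0)) := by
  classical
  haveI : IsNoetherianRing A := inferInstance
  haveI hB : IsRegularLocalRing (Localization.AtPrime p) :=
    Groth.Agent.Lib.Helper26.RegularRing.isRegularLocalRing_localization_atPrime A p
  obtain ⟨h, hh⟩ := Groth.Agent.Lib.Helper26.SerreReg.exists_nat_ringKrullDim
    (Localization.AtPrime p)
  have hhk : h ≤ k := by
    have h1 := IsLocalization.AtPrime.ringKrullDim_eq_height p (Localization.AtPrime p)
    have h3 : ((h : ℕ) : WithBot ℕ∞) ≤ ((k : ℕ) : WithBot ℕ∞) := by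
      rw [← hh, h1]
      exact_mod_cast hp
    exact_mod_cast h3
  let S := p.primeCompl
  haveI : ∀ i, 1 ≤ i → i ≤ k → Module.Free (Localization.AtPrime p) (LocalizedModule S (N i)) := by
    intro i h1 h2
    haveI := (hfree i h1 h2).1
    exact Module.free_of_isLocalizedModule S (LocalizedModule.mkLinearMap S (N i))
  refine Groth.Agent.Lib.Helper7.SyzFree.free_of_syzygy (Localization.AtPrime p) h hh k hhk
    (fun i => LocalizedModule S (N i)) this (fun i => LocalizedModule.map S (d i)) ?_ ?_
  · show Function.Injective (IsLocalizedModule.map S (LocalizedModule.mkLinearMap S (N 0))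
      (LocalizedModule.mkLinearMap S (N 1)) (d 0))
    exact IsLocalizedModule.map_injective S _ _ (d 0) hinj
  · intro i hi
    have hex1 : Function.Exact (d i) (d (i + 1)) := LinearMap.exact_iff.2 (hex i hi).symm
    have hex2 := LocalizedModule.map_exact S (d i) (d (i + 1)) hex1
    have hex3 : Function.Exact (LocalizedModule.map S (d i)) (LocalizedModule.map S (d (i + 1))) :=
      hex2
    exact (LinearMap.exact_iff.1 hex3).symm

end Groth.Agent.S12491
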