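import Groth.Statements.S12498
import Mathlib
import Groth.Agent.Lib.Helper9.FlatCoker

set_option autoImplicit false
universe u
open Deform

namespace Groth.Agent.S12498

open TensorProduct

lemma mem_ker_smul_top_of_smul_eq_zero {A : Type u} [CommRing A] {M : Type u} [AddCommGroup M]
    [Module A M] [Module.Flat A M] (t : A) (x : M) (h : t • x = 0) :
    x ∈ (LinearMap.ker (LinearMap.lsmul A A t)) • (⊤ : Submodule A M) := by
  have hex : Function.Exact (LinearMap.ker (LinearMap.lsmul A A t)).subtype
      (LinearMap.lsmul A A t) := LinearMap.exact_subtype_ker_map _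
  have hex' := Module.Flat.rTensor_exact M hex
  have h1 : (LinearMap.lsmul A A t).rTensor M ((1 : A) ⊗ₜ[A] x) = 0 := by
    rw [LinearMap.rTensor_tmul, LinearMap.lsmul_apply, smul_eq_mul, mul_one]
    have : t ⊗ₜ[A] x = (1 : A) ⊗ₜ[A] (t • x) := by
      rw [← TensorProduct.smul_tmul, smul_eq_mul, mul_one]
    rw [this, h, TensorProduct.tmul_zero]
  obtain ⟨y, hy⟩ := (hex' _).mp h1
  have h2 := congrArg (TensorProduct.lid A M) hy
  rw [TensorProduct.lid_tmul, one_smul] at h2
  rw [← h2]
  exact Groth.Agent.Lib.Helper9.FlatCoker.mu_mem _ M y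

/-- Let k be an algebraically closed field, A a local Artinian k-algebra with residue field k, and t a
nonzero element of the maximal ideal m_A annihilated by m_A, so that A → A/tA is a small extension.
Let B be a flat A-algebra (a deformation over A of its closed fibre B_0 = B/m_A B), and σ an
A-algebra automorphism of B/tB inducing the identity on B_0. Fix an A-algebra automorphism τ of B
inducing σ (so τ induces the identity on B_0). Then the A-algebra automorphisms η of B inducing σ
correspond bijectively to the k-derivations d of B_0 through the rule η = τ + t·d, meaning η(b) =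
τ(b) + t b′ for all b ∈ B and all b′ ∈ B lifting d applied to the image of b in B_0: every such η
determines a unique d, and every d comes from some such η. (The published statement phrases the
conclusion as a free and transitive action of Der_k(B_0, B_0) on the nonempty set of lifts of σ; the
condition that σ induces the identity on B_0 is expressed here through the chosen lift τ.) -/
theorem result
    {k : Type u} [Field k] [IsAlgClosed k]
    {A : Type u} [CommRing A] [Algebra k A] [IsLocalRing A] [IsArtinianRing A]
    (hres : ∀ a : A, ∃ c : k, a - algebraMap k A c ∈ IsLocalRing.maximalIdeal A)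
    (t : A) (ht : t ∈ IsLocalRing.maximalIdeal A) (ht0 : t ≠ 0)
    (htm : ∀ a ∈ IsLocalRing.maximalIdeal A, a * t = 0)
    {B : Type u} [CommRing B] [Algebra A B] [Module.Flat A B] [Algebra k B] [IsScalarTower k A B]
    (σ : (B ⧸ Ideal.span {algebraMap A B t}) ≃ₐ[A] (B ⧸ Ideal.span {algebraMap A B t}))
    (τ : B ≃ₐ[A] B)
    (hτ : ∀ b : B, Ideal.Quotient.mk (Ideal.span {algebraMap A B t}) (τ b) =
      σ (Ideal.Quotient.mk (Ideal.span {algebraMap A B t}) b))
    (hτ0 : ∀ b : B, τ b - b ∈ (IsLocalRing.maximalIdeal A).map (algebraMap A B)) :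
    (∀ η : B ≃ₐ[A] B, (∀ b : B, Ideal.Quotient.mk (Ideal.span {algebraMap A B t}) (η b) =
        σ (Ideal.Quotient.mk (Ideal.span {algebraMap A B t}) b)) →
      ∃! d : Derivation k (B ⧸ (IsLocalRing.maximalIdeal A).map (algebraMap A B))
          (B ⧸ (IsLocalRing.maximalIdeal A).map (algebraMap A B)),
        ∀ b b' : B, Ideal.Quotient.mk ((IsLocalRing.maximalIdeal A).map (algebraMap A B)) b' =
            d (Ideal.Quotient.mk ((IsLocalRing.maximalIdeal A).map (algebraMap A B)) b) →
          η b = τ b + algebraMap A B t * b') ∧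
    (∀ d : Derivation k (B ⧸ (IsLocalRing.maximalIdeal A).map (algebraMap A B))
        (B ⧸ (IsLocalRing.maximalIdeal A).map (algebraMap A B)),
      ∃ η : B ≃ₐ[A] B, (∀ b : B, Ideal.Quotient.mk (Ideal.span {algebraMap A B t}) (η b) =
          σ (Ideal.Quotient.mk (Ideal.span {algebraMap A B t}) b)) ∧
        ∀ b b' : B, Ideal.Quotient.mk ((IsLocalRing.maximalIdeal A).map (algebraMap A B)) b' =
            d (Ideal.Quotient.mk ((IsLocalRing.maximalIdeal A).map (algebraMap A B)) b) →
          η b = τ b + algebraMap A B t * b') := by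
  classical
  set T : B := algebraMap A B t with hT
  set 𝔫 : Ideal B := (IsLocalRing.maximalIdeal A).map (algebraMap A B) with h𝔫
  have hTn : ∀ x ∈ 𝔫, T * x = 0 := by
    intro x hx
    have hle : 𝔫 ≤ (Ideal.span {T}).annihilator := by
      rw [h𝔫, Ideal.map_le_iff_le_comap]
      intro a ha
      rw [Ideal.mem_comap, Submodule.mem_annihilator_span_singleton, smul_eq_mul, hT, ← map_mul,
        htm a ha, map_zero]
    have := hle hx
    rw [Submodule.mem_annihilator_span_singleton, smul_eq_mul] at this
    rw [mul_comm]; exact this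
  have hnT : ∀ b : B, T * b = 0 → b ∈ 𝔫 := by
    intro b hb
    have h1 : t • b = 0 := by rw [Algebra.smul_def]; exact hb
    have h2 := mem_ker_smul_top_of_smul_eq_zero t b h1
    have hK : LinearMap.ker (LinearMap.lsmul A A t) ≤ IsLocalRing.maximalIdeal A := by
      apply IsLocalRing.le_maximalIdeal
      intro htop
      have : (1 : A) ∈ LinearMap.ker (LinearMap.lsmul A A t) := by rw [htop]; trivial
      rw [LinearMap.mem_ker, LinearMap.lsmul_apply, smul_eq_mul, mul_one] at this
      exact ht0 this
    have h3 : b ∈ (IsLocalRing.maximalIdeal A) • (⊤ : Submodule A B) :=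
      Submodule.smul_mono_left hK h2
    rw [Ideal.smul_top_eq_map] at h3
    exact h3
  have hmk : ∀ x y : B, Ideal.Quotient.mk 𝔫 x = Ideal.Quotient.mk 𝔫 y → T * x = T * y := by
    intro x y h
    have := hTn _ (Ideal.Quotient.eq.mp h)
    rw [mul_sub, sub_eq_zero] at this; exact this
  have hmk' : ∀ x y : B, T * x = T * y → Ideal.Quotient.mk 𝔫 x = Ideal.Quotient.mk 𝔫 y := by
    intro x y h
    apply Ideal.Quotient.eq.mpr
    apply hnT
    rw [mul_sub, h, sub_self]
  have hT𝔫 : T ∈ 𝔫 := Ideal.mem_map_of_mem _ ht
  have hTT : T * T = 0 := hTn T hT𝔫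
  have hsurj : Function.Surjective (Ideal.Quotient.mk 𝔫) := Ideal.Quotient.mk_surjective
  have hτn : ∀ b, T * τ b = T * b := by
    intro b
    have := hTn _ (hτ0 b)
    rw [mul_sub, sub_eq_zero] at this; exact this
  have hres' : ∀ a : A, ∃ c : k,
      Ideal.Quotient.mk 𝔫 (algebraMap A B a) = algebraMap k (B ⧸ 𝔫) c := by
    intro a
    obtain ⟨c, hc⟩ := hres a
    refine ⟨c, ?_⟩
    have h1 : algebraMap A B a - algebraMap A B (algebraMap k A c) ∈ 𝔫 := by
      rw [← map_sub]; exact Ideal.mem_map_of_mem _ hc
    rw [← IsScalarTower.algebraMap_apply k A B] at h1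
    exact Ideal.Quotient.eq.mpr h1
  have hmk_smul : ∀ (c : k) (z : B), Ideal.Quotient.mk 𝔫 (c • z) = c • Ideal.Quotient.mk 𝔫 z :=
    fun c z => map_smul (Ideal.Quotient.mkₐ k 𝔫) c z
  refine ⟨?_, ?_⟩
  · intro η hη
    have hdiff : ∀ b, ∃ e : B, η b = τ b + T * e := by
      intro b
      have h1 : Ideal.Quotient.mk (Ideal.span {T}) (η b) =
          Ideal.Quotient.mk (Ideal.span {T}) (τ b) := by
        rw [hη, hτ]
      have h2 := Ideal.Quotient.eq.mp h1
      obtain ⟨e, he⟩ := Ideal.mem_span_singleton'.mp h2
      exact ⟨e, by rw [mul_comm, he]; ring⟩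
    choose e he using hdiff
    let g : B → B ⧸ 𝔫 := fun b => Ideal.Quotient.mk 𝔫 (e b)
    have hg : ∀ b b', η b = τ b + T * b' → g b = Ideal.Quotient.mk 𝔫 b' := by
      intro b b' h
      apply hmk'
      have := he b
      rw [h] at this
      exact (add_left_cancel this).symm
    have hg_add : ∀ b c, g (b + c) = g b + g c := by
      intro b c
      show g (b + c) = Ideal.Quotient.mk 𝔫 (e b) + Ideal.Quotient.mk 𝔫 (e c)
      rw [← map_add]
      apply hg
      rw [map_add, map_add, he b, he c]; ring
    have hg_mul : ∀ b c, g (b * c) =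
        Ideal.Quotient.mk 𝔫 b * g c + Ideal.Quotient.mk 𝔫 c * g b := by
      intro b c
      show g (b * c) = Ideal.Quotient.mk 𝔫 b * Ideal.Quotient.mk 𝔫 (e c) +
        Ideal.Quotient.mk 𝔫 c * Ideal.Quotient.mk 𝔫 (e b)
      rw [← map_mul, ← map_mul, ← map_add]
      apply hg
      have h1 : T * τ b = T * b := hτn b
      have h2 : T * τ c = T * c := hτn c
      have e1 : η (b * c) = η b * η c := map_mul η b c
      have e2 : τ (b * c) = τ b * τ c := map_mul τ b c
      rw [e1, e2, he b, he c]
      calc (τ b + T * e b) * (τ c + T * e c)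
          = τ b * τ c + (T * τ b) * e c + (T * τ c) * e b + (T * T) * (e b * e c) := by ring
        _ = τ b * τ c + T * (b * e c + c * e b) := by rw [h1, h2, hTT]; ring
    have hg_alg : ∀ (a : A) b, g (algebraMap A B a * b) =
        Ideal.Quotient.mk 𝔫 (algebraMap A B a) * g b := by
      intro a b
      show g (algebraMap A B a * b) = Ideal.Quotient.mk 𝔫 (algebraMap A B a) *
        Ideal.Quotient.mk 𝔫 (e b)
      rw [← map_mul]
      apply hg
      have e1 : η (algebraMap A B a * b) = algebraMap A B a * η b := by
        rw [map_mul, AlgEquiv.commutes]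
      have e2 : τ (algebraMap A B a * b) = algebraMap A B a * τ b := by
        rw [map_mul, AlgEquiv.commutes]
      rw [e1, e2, he b]; ring
    have hg_n : ∀ x ∈ 𝔫, g x = 0 := by
      intro x hx
      have hx' : x ∈ Submodule.span B (algebraMap A B '' (IsLocalRing.maximalIdeal A : Set A)) := hx
      clear hx
      induction hx' using Submodule.span_induction with
      | mem x hx =>
        obtain ⟨a, ha, rfl⟩ := hx
        have := hg_alg a 1
        rw [mul_one] at this
        rw [this, Ideal.Quotient.eq_zero_iff_mem.mpr (Ideal.mem_map_of_mem _ ha), zero_mul]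
      | zero =>
        have := hg_add 0 0
        rw [add_zero] at this
        exact left_eq_add.mp this
      | add x y hx hy ihx ihy => rw [hg_add, ihx, ihy, add_zero]
      | smul b x hx' ih =>
        rw [smul_eq_mul, hg_mul, ih, mul_zero, zero_add,
          Ideal.Quotient.eq_zero_iff_mem.mpr (show x ∈ 𝔫 from hx'), zero_mul]
    have hg_wd : ∀ b b', Ideal.Quotient.mk 𝔫 b = Ideal.Quotient.mk 𝔫 b' → g b = g b' := by
      intro b b' h
      have h1 := hg_n _ (Ideal.Quotient.eq.mp h)
      have h2 := hg_add (b - b') b'
      rw [sub_add_cancel, h1, zero_add] at h2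
      exact h2
    have hg_smul : ∀ (c : k) b, g (c • b) = c • g b := by
      intro c b
      have e1 : c • b = algebraMap A B (algebraMap k A c) * b := by
        rw [← Algebra.smul_def, algebraMap_smul]
      rw [e1, hg_alg, ← IsScalarTower.algebraMap_apply k A B, Algebra.smul_def]
      rfl
    let f : (B ⧸ 𝔫) →ₗ[k] (B ⧸ 𝔫) :=
      { toFun := fun x => g (Function.surjInv hsurj x)
        map_add' := by
          intro x y
          obtain ⟨b, rfl⟩ := hsurj x
          obtain ⟨c, rfl⟩ := hsurj y
          rw [← hg_add]
          apply hg_wd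
          rw [Function.surjInv_eq hsurj, map_add, Function.surjInv_eq hsurj,
            Function.surjInv_eq hsurj]
        map_smul' := by
          intro c x
          obtain ⟨b, rfl⟩ := hsurj x
          simp only [RingHom.id_apply]
          rw [← hg_smul]
          apply hg_wd
          rw [Function.surjInv_eq hsurj, hmk_smul, Function.surjInv_eq hsurj] }
    have hf : ∀ b, f (Ideal.Quotient.mk 𝔫 b) = g b :=
      fun b => hg_wd _ _ (Function.surjInv_eq hsurj _)
    let d : Derivation k (B ⧸ 𝔫) (B ⧸ 𝔫) := Derivation.mk' f (by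
      intro x y
      obtain ⟨b, rfl⟩ := hsurj x
      obtain ⟨c, rfl⟩ := hsurj y
      rw [← map_mul, hf, hf, hf, hg_mul, smul_eq_mul, smul_eq_mul])
    have hd : ∀ b, d (Ideal.Quotient.mk 𝔫 b) = g b := hf
    refine ⟨d, ?_, ?_⟩
    · intro b b' h
      rw [hd] at h
      rw [he b, hmk _ _ h]
    · intro d₁ hd₁
      ext x
      obtain ⟨b, rfl⟩ := hsurj x
      obtain ⟨b₁, hb₁⟩ := hsurj (d₁ (Ideal.Quotient.mk 𝔫 b))
      have h1 := hd₁ b b₁ hb₁
      rw [← hb₁, hd]
      exact (hg b b₁ h1).symm
  · intro d
    let s : B → B := fun b => Function.surjInv hsurj (d (Ideal.Quotient.mk 𝔫 b))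
    have hs : ∀ b, Ideal.Quotient.mk 𝔫 (s b) = d (Ideal.Quotient.mk 𝔫 b) :=
      fun b => Function.surjInv_eq hsurj _
    have hs' : ∀ b b', Ideal.Quotient.mk 𝔫 b' = d (Ideal.Quotient.mk 𝔫 b) → T * s b = T * b' := by
      intro b b' h
      apply hmk
      rw [hs, h]
    let η₀ : B →ₐ[A] B :=
      { toFun := fun b => τ b + T * s b
        map_one' := by
          have : T * s 1 = 0 := by
            apply hTn
            apply Ideal.Quotient.eq_zero_iff_mem.mp
            rw [hs, map_one, Derivation.map_one_eq_zero]
          show τ 1 + T * s 1 = 1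
          rw [map_one, this, add_zero]
        map_mul' := by
          intro b c
          have h1 : T * s (b * c) = T * (b * s c + c * s b) := by
            apply hs'
            rw [map_add, map_mul, map_mul, map_mul, hs, hs, Derivation.leibniz, smul_eq_mul,
              smul_eq_mul]
          have h2 := hτn b
          have h3 := hτn c
          show τ (b * c) + T * s (b * c) = (τ b + T * s b) * (τ c + T * s c)
          rw [h1, map_mul]
          calc τ b * τ c + T * (b * s c + c * s b)
              = τ b * τ c + (T * b) * s c + (T * c) * s b := by ring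
            _ = τ b * τ c + (T * τ b) * s c + (T * τ c) * s b + (T * T) * (s b * s c) := by
                rw [h2, h3, hTT]; ring
            _ = (τ b + T * s b) * (τ c + T * s c) := by ring
        map_zero' := by
          have : T * s 0 = 0 := by
            apply hTn
            apply Ideal.Quotient.eq_zero_iff_mem.mp
            rw [hs, map_zero, map_zero]
          show τ 0 + T * s 0 = 0
          rw [map_zero, this, add_zero]
        map_add' := by
          intro b c
          have h1 : T * s (b + c) = T * (s b + s c) := by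
            apply hs'
            rw [map_add, map_add, map_add, hs, hs]
          show τ (b + c) + T * s (b + c) = (τ b + T * s b) + (τ c + T * s c)
          rw [h1, map_add]; ring
        commutes' := by
          intro a
          have : T * s (algebraMap A B a) = 0 := by
            apply hTn
            apply Ideal.Quotient.eq_zero_iff_mem.mp
            obtain ⟨c, hc⟩ := hres' a
            rw [hs, hc, Derivation.map_algebraMap]
          show τ (algebraMap A B a) + T * s (algebraMap A B a) = algebraMap A B a
          rw [this, add_zero, AlgEquiv.commutes] }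
    have hη₀ : ∀ b, η₀ b = τ b + T * s b := fun b => rfl
    have hτsT : ∀ x, τ.symm (T * x) = T * τ.symm x := by
      intro x; rw [map_mul, hT, AlgEquiv.commutes]
    have hmkT : ∀ x, Ideal.Quotient.mk 𝔫 (T * x) = 0 := fun x =>
      Ideal.Quotient.eq_zero_iff_mem.mpr (Ideal.mul_mem_right _ _ hT𝔫)
    have hbij : Function.Bijective η₀ := by
      rw [Function.bijective_iff_has_inverse]
      refine ⟨fun y => τ.symm (y - T * s (τ.symm y)), ?_, ?_⟩
      · intro b
        show τ.symm (η₀ b - T * s (τ.symm (η₀ b))) = b
        have h1 : Ideal.Quotient.mk 𝔫 (τ.symm (η₀ b)) = Ideal.Quotient.mk 𝔫 b := by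
          rw [hη₀, map_add, AlgEquiv.symm_apply_apply, hτsT, map_add, hmkT, add_zero]
        have h2 : T * s (τ.symm (η₀ b)) = T * s b := by
          apply hs'
          rw [h1]; exact hs b
        rw [h2, hη₀, add_sub_cancel_right, AlgEquiv.symm_apply_apply]
      · intro y
        show η₀ (τ.symm (y - T * s (τ.symm y))) = y
        have h1 : Ideal.Quotient.mk 𝔫 (τ.symm (y - T * s (τ.symm y))) =
            Ideal.Quotient.mk 𝔫 (τ.symm y) := by
          rw [map_sub, hτsT, map_sub, hmkT, sub_zero]
        have h2 : T * s (τ.symm (y - T * s (τ.symm y))) = T * s (τ.symm y) := by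
          apply hs'
          rw [h1]; exact hs _
        rw [hη₀, h2, AlgEquiv.apply_symm_apply, sub_add_cancel]
    let η : B ≃ₐ[A] B := AlgEquiv.ofBijective η₀ hbij
    have hη : ∀ b, η b = τ b + T * s b := fun b => rfl
    refine ⟨η, ?_, ?_⟩
    · intro b
      rw [hη, map_add, hτ]
      have : Ideal.Quotient.mk (Ideal.span {T}) (T * s b) = 0 :=
        Ideal.Quotient.eq_zero_iff_mem.mpr
          (Ideal.mul_mem_right _ _ (Ideal.mem_span_singleton_self T))
      rw [this, add_zero]
    · intro b b' h
      rw [hη, hs' b b' h]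

end Groth.Agent.S12498
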