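import Groth.Statements.S12513
-- import your own Groth.Agent.* helpers here

set_option autoImplicit false
universe u
open Mero

namespace Groth.Agent.S12513

open AlgebraicGeometry in
/-- For a scheme X and an affine open U of X, the sections of O_X over U with nonzerodivisor germ at
every point of U are exactly the nonzerodivisors of the ring O_X(U). No Noetherian hypothesis is
needed. -/
theorem result (X : Scheme.{u}) (U : X.Opens)
    (hU : IsAffineOpen U) : Mero.regSub X U = nonZeroDivisors Γ(X, U) := by
  ext f
  constructor
  · intro hf
    rw [mem_nonZeroDivisors_iff]
    have key : ∀ a : Γ(X, U), f * a = 0 → a = 0 := by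
      intro a ha
      apply TopCat.Presheaf.section_ext X.sheaf U
      intro x hx
      have h1 := hf ⟨x, hx⟩
      rw [mem_nonZeroDivisors_iff] at h1
      have h2 : X.presheaf.germ U x hx f * X.presheaf.germ U x hx a = 0 := by
        rw [← map_mul, ha, map_zero]
      change X.presheaf.germ U x hx a = X.presheaf.germ U x hx 0
      rw [map_zero]
      exact h1.1 _ h2
    refine ⟨key, ?_⟩
    intro a ha
    rw [mul_comm] at ha
    exact key a ha
  · intro hf x
    let := X.presheaf.algebra_section_stalk x
    have := hU.isLocalization_stalk x
    exact IsLocalization.map_nonZeroDivisors_le (hU.primeIdealOf x).asIdeal.primeCompl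
      (X.presheaf.stalk x) (Submonoid.mem_map_of_mem _ hf)

end Groth.Agent.S12513
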