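import Groth.Statements.S12514
import Groth.Agent.Lib.Helper27.FFExt9
open Groth.Agent.Lib.Helper27

set_option autoImplicit false
open FunFld

namespace Groth.Agent.S12514

/-- For a geometric function field of one variable `K/k` and finite extensions `K ⊆ K' ⊆ K''`, the
conorm maps on divisors compose: `N*_{K''/K'} ∘ N*_{K'/K} = N*_{K''/K}`. The companion identity for
norms is not stated. -/
theorem result (k K K' K'' : Type*) [Field k] [Field K] [Field K'] [Field K'']
    [Algebra k K] [Algebra k K'] [Algebra k K''] [Algebra K K'] [Algebra K' K''] [Algebra K K'']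
    [IsScalarTower k K K'] [IsScalarTower k K' K''] [IsScalarTower k K K''] [IsScalarTower K K' K'']
    [FiniteDimensional K K'] [FiniteDimensional K' K'']
    (hK : FunFld.IsFunctionField k K) (hg : FunFld.IsGeometric k K) (D : FunFld.Divisor k K) :
    FunFld.conorm K'' (FunFld.conorm K' D) = FunFld.conorm K'' D := by
  classical
  haveI : FiniteDimensional K K'' := Module.Finite.trans K' K''
  have hK' : Tate.WeakFF k K' := Tate.WeakFF.of_finite hK
  have hfinP : ∀ P : FunFld.Place k K, {R : FunFld.Place k K'' | FunFld.IsOver R P}.Finite :=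
    fun P => (FF.sum_ramIdx_mul_deg (K' := K'') hK P).1
  have hfinQ : ∀ Q : FunFld.Place k K', {R : FunFld.Place k K'' | FunFld.IsOver R Q}.Finite := by
    intro Q
    obtain ⟨P, e₁, h₁⟩ := FF.exists_isOverWith hK Q
    apply (hfinP P).subset
    rintro R ⟨e₂, h₂⟩
    exact ⟨_, FF.isOverWith_trans h₂ h₁⟩
  ext R
  obtain ⟨Q, e₂, h₂⟩ := FF.exists_isOverWith_w hK' R
  obtain ⟨P, e₁, h₁⟩ := FF.exists_isOverWith hK Q
  have h₃ := FF.isOverWith_trans h₂ h₁
  rw [FF.conorm_apply' hfinQ _ ⟨e₂, h₂⟩, FF.conorm_apply hK D ⟨e₁, h₁⟩,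
    FF.conorm_apply hK D ⟨_, h₃⟩, FF.ramIdx_eq h₂, FF.ramIdx_eq h₁, FF.ramIdx_eq h₃]
  push_cast
  ring

end Groth.Agent.S12514
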