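import Groth.Statements.S12515
import Mathlib

set_option autoImplicit false
open FunFld

namespace Groth.Agent.S12515

open Polynomial in
theorem sq_mul_squarefree_poly (k : Type*) [Field k] : ∀ (n : ℕ) (h : k[X]), h ≠ 0 → h.natDegree ≤ n →
    ∃ s f : k[X], s ≠ 0 ∧ Squarefree f ∧ h = s ^ 2 * f := by
  intro n
  induction n with
  | zero =>
    intro h h0 hd
    refine ⟨1, h, one_ne_zero, ?_, by ring⟩
    have : IsUnit h := by
      rw [Polynomial.isUnit_iff]
      have := Polynomial.eq_C_of_natDegree_le_zero hd
      refine ⟨h.coeff 0, ?_, this.symm⟩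
      rw [isUnit_iff_ne_zero]
      intro hc
      rw [hc, map_zero] at this
      exact h0 this
    exact this.squarefree
  | succ n ih =>
    intro h h0 hd
    by_cases hsq : Squarefree h
    · exact ⟨1, h, one_ne_zero, hsq, by ring⟩
    · unfold Squarefree at hsq
      push Not at hsq
      obtain ⟨r, ⟨h', hh'⟩, hr⟩ := hsq
      have hr0 : r ≠ 0 := by rintro rfl; simp at hh'; exact h0 hh'
      have hh'0 : h' ≠ 0 := by rintro rfl; simp at hh'; exact h0 hh'
      have hrdeg : 1 ≤ r.natDegree := by
        by_contra hlt
        push Not at hlt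
        have hr' : r.natDegree = 0 := by omega
        apply hr
        rw [Polynomial.isUnit_iff]
        have := Polynomial.eq_C_of_natDegree_eq_zero hr'
        refine ⟨r.coeff 0, ?_, this.symm⟩
        rw [isUnit_iff_ne_zero]
        intro hc
        rw [hc, map_zero] at this
        exact hr0 this
      have hdeg : h.natDegree = r.natDegree + r.natDegree + h'.natDegree := by
        rw [hh', Polynomial.natDegree_mul (mul_ne_zero hr0 hr0) hh'0, Polynomial.natDegree_mul hr0 hr0]
      obtain ⟨s, f, hs, hf, hsf⟩ := ih h' hh'0 (by omega)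
      refine ⟨r * s, f, mul_ne_zero hr0 hs, hf, ?_⟩
      rw [hh', hsf]; ring

theorem aux (F K : Type*) [Field F] [Field K] (h2 : (2 : F) ≠ 0) [Algebra F K]
    (hdeg : Module.finrank F K = 2) :
    ∃ (y : K) (g : F), y ∉ (⊥ : IntermediateField F K) ∧ y ^ 2 = algebraMap F K g := by
  have hfd : FiniteDimensional F K := Module.finite_of_finrank_pos (by omega)
  have hsimple : IsSimpleOrder (IntermediateField F K) :=
    IntermediateField.isSimpleOrder_of_finrank_prime F K (by rw [hdeg]; exact Nat.prime_two)
  obtain ⟨z, hz⟩ : ∃ z : K, z ∉ (⊥ : IntermediateField F K) := by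
    by_contra hcon
    push Not at hcon
    have : (⊥ : IntermediateField F K) = ⊤ := by
      rw [eq_top_iff]; intro x _; exact hcon x
    rw [IntermediateField.bot_eq_top_iff_finrank_eq_one] at this
    omega
  have hzint : IsIntegral F z := Algebra.IsIntegral.isIntegral z
  have hztop : IntermediateField.adjoin F ({z} : Set K) = ⊤ := by
    rcases hsimple.eq_bot_or_eq_top (IntermediateField.adjoin F ({z} : Set K)) with h | h
    · exfalso; apply hz; rw [← h]; exact IntermediateField.mem_adjoin_simple_self F z
    · exact h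
  set p := minpoly F z with hp
  have hpdeg : p.natDegree = 2 := by
    rw [← IntermediateField.adjoin.finrank hzint, hztop, IntermediateField.finrank_top', hdeg]
  have hpmonic : p.Monic := minpoly.monic hzint
  set b := p.coeff 1 with hb
  set c := p.coeff 0 with hc
  have hroot : z ^ 2 + algebraMap F K b * z + algebraMap F K c = 0 := by
    have h0 : Polynomial.aeval z p = 0 := minpoly.aeval F z
    rw [Polynomial.aeval_eq_sum_range, hpdeg] at h0
    simp only [Finset.sum_range_succ, Finset.range_one, Finset.sum_singleton, pow_zero, pow_one] at h0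
    have h2 : p.coeff 2 = 1 := by
      have := hpmonic.coeff_natDegree
      rwa [hpdeg] at this
    rw [h2] at h0
    simp only [Algebra.smul_def, map_one, one_mul, mul_one] at h0
    rw [← h0]; ring
  have h2K : (2 : K) ≠ 0 := by
    have : algebraMap F K 2 ≠ 0 := by
      rwa [Ne, map_eq_zero_iff _ (algebraMap F K).injective]
    rwa [map_ofNat] at this
  refine ⟨z + algebraMap F K (b / 2), (b / 2) ^ 2 - c, ?_, ?_⟩
  · intro hmem
    apply hz
    have : z = (z + algebraMap F K (b / 2)) - algebraMap F K (b / 2) := by ring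
    rw [this]
    exact sub_mem hmem (IntermediateField.algebraMap_mem _ _)
  · have hb2 : algebraMap F K b = 2 * algebraMap F K (b / 2) := by
      rw [← map_ofNat (algebraMap F K) 2, ← map_mul]
      congr 1
      field_simp
    rw [hb2] at hroot
    rw [map_sub, map_pow]
    linear_combination hroot

/-- If `char k ≠ 2` and `K` has degree `2` over the rational function field `k(x)`, then `K = k(x)(y)`
for some `y` with `y² = f(x)`, `f` a squarefree polynomial over `k`. -/
theorem result (k K : Type*) [Field k] [Field K] (h2 : ringChar k ≠ 2)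
    [Algebra (RatFunc k) K] (hdeg : Module.finrank (RatFunc k) K = 2) :
    ∃ (y : K) (f : Polynomial k), Squarefree f ∧
      y ^ 2 = algebraMap (RatFunc k) K (algebraMap (Polynomial k) (RatFunc k) f) ∧
      IntermediateField.adjoin (RatFunc k) ({y} : Set K) = ⊤ := by
  have h2F : (2 : RatFunc k) ≠ 0 := by
    have h2k : (2 : k) ≠ 0 := by
      intro h
      apply h2
      have : ringChar k ∣ 2 := (ringChar.spec k 2).1 (by exact_mod_cast h)
      rcases (Nat.dvd_prime Nat.prime_two).1 this with h1 | h1
      · exfalso
        have := CharP.ringChar_ne_one (R := k)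
        exact this h1
      · exact h1
    have : algebraMap k (RatFunc k) 2 ≠ 0 := by
      rwa [Ne, map_eq_zero_iff _ (algebraMap k (RatFunc k)).injective]
    rwa [map_ofNat] at this
  have hsimple : IsSimpleOrder (IntermediateField (RatFunc k) K) :=
    IntermediateField.isSimpleOrder_of_finrank_prime (RatFunc k) K (by rw [hdeg]; exact Nat.prime_two)
  obtain ⟨y₀, g, hy₀, hg⟩ := aux (RatFunc k) K h2F hdeg
  -- write g = n / d
  set n := g.num with hn
  set d := g.denom with hd
  have hd0 : d ≠ 0 := g.denom_ne_zero
  have hgnd : g = algebraMap (Polynomial k) (RatFunc k) n / algebraMap (Polynomial k) (RatFunc k) d :=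
    (RatFunc.num_div_denom g).symm
  have hdF : algebraMap (Polynomial k) (RatFunc k) d ≠ 0 := by
    rwa [Ne, map_eq_zero_iff _ (IsFractionRing.injective (Polynomial k) (RatFunc k))]
  have hdK : algebraMap (RatFunc k) K (algebraMap (Polynomial k) (RatFunc k) d) ≠ 0 := by
    rwa [Ne, map_eq_zero_iff _ (algebraMap (RatFunc k) K).injective]
  have hy₀0 : y₀ ≠ 0 := by
    rintro rfl
    exact hy₀ (zero_mem _)
  have hg0 : g ≠ 0 := by
    rintro rfl
    rw [map_zero] at hg
    exact hy₀0 (pow_eq_zero_iff (two_ne_zero) |>.1 hg)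
  have hn0 : n ≠ 0 := by
    intro h
    apply hg0
    rw [hgnd, h, map_zero, zero_div]
  obtain ⟨s, f, hs, hf, hsf⟩ := sq_mul_squarefree_poly k (n * d).natDegree (n * d) (mul_ne_zero hn0 hd0) le_rfl
  have hsF : algebraMap (Polynomial k) (RatFunc k) s ≠ 0 := by
    rwa [Ne, map_eq_zero_iff _ (IsFractionRing.injective (Polynomial k) (RatFunc k))]
  have hsK : algebraMap (RatFunc k) K (algebraMap (Polynomial k) (RatFunc k) s) ≠ 0 := by
    rwa [Ne, map_eq_zero_iff _ (algebraMap (RatFunc k) K).injective]
  set c : RatFunc k := algebraMap (Polynomial k) (RatFunc k) d / algebraMap (Polynomial k) (RatFunc k) s with hc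
  have hc0 : c ≠ 0 := div_ne_zero hdF hsF
  have hcK : algebraMap (RatFunc k) K c ≠ 0 := by
    rwa [Ne, map_eq_zero_iff _ (algebraMap (RatFunc k) K).injective]
  refine ⟨algebraMap (RatFunc k) K c * y₀, f, hf, ?_, ?_⟩
  · rw [mul_pow, hg, ← map_pow, ← map_mul]
    congr 1
    have h1 : algebraMap (Polynomial k) (RatFunc k) (n * d) =
        algebraMap (Polynomial k) (RatFunc k) (s ^ 2 * f) := by rw [hsf]
    rw [map_mul, map_mul, map_pow] at h1
    rw [hc, hgnd]
    field_simp
    linear_combination h1
  · rcases hsimple.eq_bot_or_eq_top (IntermediateField.adjoin (RatFunc k) ({algebraMap (RatFunc k) K c * y₀} : Set K)) with h | h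
    · exfalso
      apply hy₀
      have h1 : algebraMap (RatFunc k) K c * y₀ ∈ (⊥ : IntermediateField (RatFunc k) K) := by
        rw [← h]; exact IntermediateField.mem_adjoin_simple_self (RatFunc k) _
      have h3 : y₀ = algebraMap (RatFunc k) K c⁻¹ * (algebraMap (RatFunc k) K c * y₀) := by
        rw [map_inv₀]; field_simp
      rw [h3]
      exact mul_mem (IntermediateField.algebraMap_mem _ _) h1
    · exact h

end Groth.Agent.S12515
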