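import Groth.Statements.S12516
import Groth.Agent.Lib.Helper27.Hyper2
open Groth.Agent.Lib.Helper27

set_option autoImplicit false
open FunFld

namespace Groth.Agent.S12516

/-- Let `char k ≠ 2`, `K` of degree `2` over `k(x)`, `y ∈ K` with `y² = f(x)` for a squarefree
polynomial `f` of degree `≥ 1`, and `P∞` the place of `k(x)` at which `x` has a pole. If `deg f` is
odd there is a unique place of `K` above `P∞`; it has ramification index `2` and degree `1`. If `deg
f` is even, every place of `K` above `P∞` is unramified and the conorm of `P∞` has degree `2` (so it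
is one place of degree `2` or the sum of two places of degree `1`). -/
theorem result (k K : Type*) [Field k] [Field K] (h2 : ringChar k ≠ 2) [Algebra k K]
    [Algebra (RatFunc k) K] [IsScalarTower k (RatFunc k) K]
    (hdeg : Module.finrank (RatFunc k) K = 2) (y : K) (f : Polynomial k) (hf : Squarefree f)
    (hd : 1 ≤ f.natDegree)
    (heq : y ^ 2 = algebraMap (RatFunc k) K (algebraMap (Polynomial k) (RatFunc k) f))
    (Pinf : FunFld.Place k (RatFunc k)) (hinf : Pinf.ord (RatFunc.X : RatFunc k) < 0) :
    (Odd f.natDegree → (∃! P : FunFld.Place k K, FunFld.IsOver P Pinf) ∧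
      ∀ P : FunFld.Place k K, FunFld.IsOver P Pinf → FunFld.IsOverWith P Pinf 2 ∧ P.deg = 1) ∧
    (Even f.natDegree → (FunFld.conorm K (Finsupp.single Pinf 1)).deg = 2 ∧
      ∀ P : FunFld.Place k K, FunFld.IsOver P Pinf → FunFld.IsOverWith P Pinf 1) := by
  have h2' : (2 : k) ≠ 0 := Ring.two_ne_zero h2
  haveI : FiniteDimensional (RatFunc k) K := Module.finite_of_finrank_pos (by omega)
  have hK₀ := Rat.isFunctionField_ratFunc k
  have hf0 : f ≠ 0 := by
    rintro rfl
    simp at hd
  -- the place at infinity
  have hX0 : Pinf.1 (RatFunc.X : RatFunc k) ≠ 0 := (map_ne_zero _).mpr RatFunc.X_ne_zero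
  have hX1 : 1 < Pinf.1 (RatFunc.X : RatFunc k) := by
    obtain ⟨m, hm⟩ : ∃ m : ℤ, Pinf.1 (RatFunc.X : RatFunc k) = WithZero.exp m :=
      ⟨_, (WithZero.exp_log hX0).symm⟩
    unfold FunFld.Place.ord at hinf
    rw [hm, WithZero.log_exp] at hinf
    rw [hm, ← WithZero.exp_zero, WithZero.exp_lt_exp]
    omega
  have hXv := Rat.val_X_eq_of_one_lt Pinf hX1
  have hdegP := Rat.deg_of_one_lt Pinf hX1
  have hfv : Pinf.1 (algebraMap (Polynomial k) (RatFunc k) f) = WithZero.exp (f.natDegree : ℤ) := by
    rw [Rat.val_poly_of_one_lt Pinf hX1 hf0, hXv, ← WithZero.exp_nsmul]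
    simp
  have hford : Pinf.ord (algebraMap (Polynomial k) (RatFunc k) f) = -(f.natDegree : ℤ) := by
    unfold FunFld.Place.ord
    rw [hfv, WithZero.log_exp]
  constructor
  · intro hodd
    have hodd' : Odd (Pinf.ord (algebraMap (Polynomial k) (RatFunc k) f)) := by
      rw [hford]
      exact ((Int.odd_coe_nat _).mpr hodd).neg
    have := Hyper.ramified_of_odd h2' y f hf hd heq hdeg Pinf hodd'
    rw [hdegP] at this
    exact this
  · intro heven
    constructor
    · rw [FF.deg_conorm hK₀, FF.deg_single, hdeg, hdegP]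
      norm_num
    · rintro P ⟨e, he⟩
      have he2 : e ≤ 2 := hdeg ▸ Rat.ramIdx_le_finrank he
      have he1 := FF.isOverWith_pos he
      rcases (by omega : e = 1 ∨ e = 2) with h | h
      · rwa [h] at he
      · exfalso
        rw [h] at he
        obtain ⟨m, hm⟩ := heven
        set x : RatFunc k := RatFunc.X with hx
        have hxK0 : algebraMap (RatFunc k) K x ≠ 0 :=
          (map_ne_zero _).mpr RatFunc.X_ne_zero
        have hyR := Hyper.not_mem_range_of_sq y f hf hd heq
        have hP2 : P.1 (2 : K) = 1 := by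
          have := FF.val_const P h2'
          rwa [map_ofNat] at this
        refine Rat.not_isOverWith_two_of_sq_unit hdeg he hP2
          (u := y / algebraMap (RatFunc k) K x ^ m)
          (h := algebraMap (Polynomial k) (RatFunc k) f / x ^ (2 * m)) ?_ ?_ ?_
        · rw [div_pow, heq, map_div₀, map_pow, ← pow_mul, mul_comm m 2]
        · rintro ⟨b, hb⟩
          apply hyR
          refine ⟨b * x ^ m, ?_⟩
          rw [map_mul, hb, map_pow, div_mul_cancel₀ _ (pow_ne_zero _ hxK0)]
        · rw [map_div₀, hfv, map_pow, hXv, ← WithZero.exp_nsmul, hm]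
          have : (2 * m) • (1 : ℤ) = ((m + m : ℕ) : ℤ) := by
            simp only [nsmul_eq_mul, mul_one]; push_cast; ring
          rw [this]
          exact div_self WithZero.exp_ne_zero

end Groth.Agent.S12516
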