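import Groth.Statements.S12517
import Mathlib

set_option autoImplicit false
open FunFld

namespace Groth.Agent.S12517

theorem aux (F K : Type*) [Field F] [Field K] [CharP F 2] [Algebra F K]
    (hdeg : Module.finrank F K = 2) [Algebra.IsSeparable F K] :
    ∃ (y : K) (f : F), y ^ 2 + y = algebraMap F K f ∧
      IntermediateField.adjoin F ({y} : Set K) = ⊤ := by
  have hfd : FiniteDimensional F K := Module.finite_of_finrank_pos (by omega)
  have hsimple : IsSimpleOrder (IntermediateField F K) :=
    IntermediateField.isSimpleOrder_of_finrank_prime F K (by rw [hdeg]; exact Nat.prime_two)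
  -- an element outside F
  obtain ⟨z, hz⟩ : ∃ z : K, z ∉ (⊥ : IntermediateField F K) := by
    by_contra hcon
    push Not at hcon
    have : (⊥ : IntermediateField F K) = ⊤ := by
      rw [eq_top_iff]; intro x _; exact hcon x
    rw [IntermediateField.bot_eq_top_iff_finrank_eq_one] at this
    omega
  have hzint : IsIntegral F z := Algebra.IsIntegral.isIntegral z
  have hztop : IntermediateField.adjoin F ({z} : Set K) = ⊤ := by
    rcases hsimple.eq_bot_or_eq_top (IntermediateField.adjoin F ({z} : Set K)) with h | h
    · exfalso; apply hz; rw [← h]; exact IntermediateField.mem_adjoin_simple_self F z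
    · exact h
  set p := minpoly F z with hp
  have hpdeg : p.natDegree = 2 := by
    rw [← IntermediateField.adjoin.finrank hzint, hztop, IntermediateField.finrank_top', hdeg]
  have hpmonic : p.Monic := minpoly.monic hzint
  set b := p.coeff 1 with hb
  set c := p.coeff 0 with hc
  have hroot : z ^ 2 + algebraMap F K b * z + algebraMap F K c = 0 := by
    have h0 : Polynomial.aeval z p = 0 := minpoly.aeval F z
    rw [Polynomial.aeval_eq_sum_range, hpdeg] at h0
    simp only [Finset.sum_range_succ, Finset.range_one, Finset.sum_singleton, pow_zero, pow_one] at h0
    have h2 : p.coeff 2 = 1 := by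
      have := hpmonic.coeff_natDegree
      rwa [hpdeg] at this
    rw [h2] at h0
    simp only [Algebra.smul_def, map_one, one_mul, mul_one] at h0
    rw [← h0]; ring
  have hbne : b ≠ 0 := by
    intro hb0
    have hsep : p.Separable := Algebra.IsSeparable.isSeparable F z
    have hder : Polynomial.derivative p = 0 := by
      ext n
      rw [Polynomial.coeff_derivative, Polynomial.coeff_zero]
      rcases n with _ | _ | n
      · simp [← hb, hb0]
      · have h2 : ((1 : F) + 1) = 0 := by
          have := CharP.cast_eq_zero F 2
          norm_num at this ⊢
          exact this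
        simp only [zero_add]
        push_cast
        rw [h2, mul_zero]
      · have : p.coeff (n + 1 + 1 + 1) = 0 := by
          apply Polynomial.coeff_eq_zero_of_natDegree_lt
          omega
        rw [this, zero_mul]
    rw [Polynomial.Separable, hder, isCoprime_zero_right] at hsep
    exact minpoly.not_isUnit F z hsep
  have hbK : algebraMap F K b ≠ 0 := by
    rwa [Ne, map_eq_zero_iff _ (algebraMap F K).injective]
  refine ⟨z / algebraMap F K b, -c / b ^ 2, ?_, ?_⟩
  · rw [map_div₀, map_neg, map_pow]
    field_simp
    linear_combination hroot
  · rcases hsimple.eq_bot_or_eq_top (IntermediateField.adjoin F ({z / algebraMap F K b} : Set K)) with h | h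
    · exfalso
      apply hz
      have h1 : z / algebraMap F K b ∈ (⊥ : IntermediateField F K) := by
        rw [← h]; exact IntermediateField.mem_adjoin_simple_self F _
      have h3 : z = algebraMap F K b * (z / algebraMap F K b) := by field_simp
      rw [h3]
      exact mul_mem (IntermediateField.algebraMap_mem _ b) h1
    · exact h

/-- If `k` is perfect of characteristic `2` and `K` is a separable extension of degree `2` of the
rational function field `k(x)`, then `K = k(x)(y)` for some `y` with `y² + y = f(x)`, `f ∈ k(x)`.
The correspondence between such extensions and cosets of `{a² + a}` in `k(x)` is not stated. -/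
theorem result (k K : Type*) [Field k] [Field K] [PerfectField k]
    (h2 : ringChar k = 2) [Algebra (RatFunc k) K] (hdeg : Module.finrank (RatFunc k) K = 2)
    [Algebra.IsSeparable (RatFunc k) K] :
    ∃ (y : K) (f : RatFunc k), y ^ 2 + y = algebraMap (RatFunc k) K f ∧
      IntermediateField.adjoin (RatFunc k) ({y} : Set K) = ⊤ := by
  have : CharP k 2 := ringChar.of_eq h2
  have : CharP (RatFunc k) 2 := charP_of_injective_algebraMap (algebraMap k (RatFunc k)).injective 2
  exact aux (RatFunc k) K hdeg

end Groth.Agent.S12517
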