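import Groth.Statements.S12519
import Groth.Agent.Lib.Helper27.Rat4
open Groth.Agent.Lib.Helper27

set_option autoImplicit false
open FunFld

namespace Groth.Agent.S12519

/-- Let `k` be perfect of characteristic `2`, `K` separable of degree `2` over `k(x)`, and `y ∈ K \
k(x)` with `y² + y = f(x)`. At a place `p` of `k(x)/k` where `f` has a pole of odd order there is a
unique place `P` of `K` above `p`, with `e(P|p) = 2` and `deg P = deg p` (residue degree `1`); at a
place where `f` has no pole, every place of `K` above it is unramified. The different is not stated. -/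
theorem result (k K : Type*) [Field k] [Field K] [PerfectField k] (h2 : ringChar k = 2)
    [Algebra k K] [Algebra (RatFunc k) K] [IsScalarTower k (RatFunc k) K]
    (hdeg : Module.finrank (RatFunc k) K = 2) [Algebra.IsSeparable (RatFunc k) K]
    (y : K) (hy : y ∉ Set.range (algebraMap (RatFunc k) K))
    (f : RatFunc k) (heq : y ^ 2 + y = algebraMap (RatFunc k) K f)
    (P₀ : FunFld.Place k (RatFunc k)) :
    ((P₀.ord f < 0 ∧ Odd (P₀.ord f)) → (∃! P : FunFld.Place k K, FunFld.IsOver P P₀) ∧
      ∀ P : FunFld.Place k K, FunFld.IsOver P P₀ → FunFld.IsOverWith P P₀ 2 ∧ P.deg = P₀.deg) ∧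
    (0 ≤ P₀.ord f → ∀ P : FunFld.Place k K, FunFld.IsOver P P₀ → FunFld.IsOverWith P P₀ 1) := by
  haveI : FiniteDimensional (RatFunc k) K := Module.finite_of_finrank_pos (by omega)
  have hK₀ := Rat.isFunctionField_ratFunc k
  have h20 : (2 : K) = 0 := by
    have h : ((2 : ℕ) : k) = 0 := by
      rw [← h2]; exact ringChar.Nat.cast_ringChar
    have : (2 : K) = algebraMap k K ((2 : ℕ) : k) := by
      rw [map_natCast]; rfl
    rw [this, h, map_zero]
  constructor
  · rintro ⟨hneg, hodd⟩
    have hall : ∀ Q : FunFld.Place k K, FunFld.IsOver Q P₀ → FunFld.IsOverWith Q P₀ 2 := by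
      rintro Q ⟨e, he⟩
      have h1 := Rat.even_of_as he heq hneg hodd
      have h2' : e ≤ 2 := hdeg ▸ Rat.ramIdx_le_finrank he
      have h3 := FF.isOverWith_pos he
      obtain ⟨c, hc⟩ := h1
      have : e = 2 := by omega
      rwa [this] at he
    obtain ⟨hu, hdg⟩ := Rat.unique_of_totally_ramified' hK₀ P₀ (by rw [hdeg]; exact hall)
    exact ⟨hu, fun P hP => ⟨hall P hP, hdg P hP⟩⟩
  · rintro hnn P ⟨e, he⟩
    have he2 : e ≤ 2 := hdeg ▸ Rat.ramIdx_le_finrank he
    have he1 := FF.isOverWith_pos he
    rcases (by omega : e = 1 ∨ e = 2) with h | h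
    · rwa [h] at he
    · exfalso
      rw [h] at he
      have hfle : P₀.1 f ≤ 1 := by
        by_cases hf0 : f = 0
        · rw [hf0, map_zero]; exact zero_le
        · exact (FF.val_le_one_iff P₀ hf0).mpr hnn
      exact Rat.not_isOverWith_two_of_as hdeg h20 he heq hy hfle

end Groth.Agent.S12519
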