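import Groth.Statements.S12520
-- import your own Groth.Agent.* helpers here
import Groth.Agent.Lib.Helper27.Geo4

set_option autoImplicit false
universe u v
open FunFld

namespace Groth.Agent.S12520



/-- For a geometric function field of one variable `K/k` of characteristic `p > 0` and a geometric
function field `K₀/k₀` with `K₀ ⊆ K` of finite index (and `k₀ ⊆ k` compatibly), the map `Ω_{K₀/k₀} →
Ω_{K/k}` induced by the inclusion vanishes when `K₀ ⊆ kK^p` and is injective otherwise. -/
theorem result (k₀ k : Type u) (K₀ K : Type v) [Field k₀] [Field k] [Field K₀] [Field K]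
    [Algebra k₀ k] [Algebra k₀ K₀] [Algebra k₀ K] [Algebra k K] [Algebra K₀ K]
    [IsScalarTower k₀ k K] [IsScalarTower k₀ K₀ K] [FiniteDimensional K₀ K]
    (p : ℕ) [Fact p.Prime] [CharP K p]
    (hK : FunFld.IsFunctionField k K) (hg : FunFld.IsGeometric k K)
    (hK₀ : FunFld.IsFunctionField k₀ K₀) (hg₀ : FunFld.IsGeometric k₀ K₀) :
    (Set.range (algebraMap K₀ K) ⊆ ↑(IntermediateField.adjoin k (Set.range fun y : K => y ^ p)) →
      KaehlerDifferential.map k₀ k K₀ K = 0) ∧
    (¬ Set.range (algebraMap K₀ K) ⊆ ↑(IntermediateField.adjoin k (Set.range fun y : K => y ^ p)) →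
      Function.Injective (KaehlerDifferential.map k₀ k K₀ K)) := by
  constructor
  · intro h
    apply LinearMap.ext_on (KaehlerDifferential.span_range_derivation k₀ K₀)
    rintro _ ⟨x, rfl⟩
    rw [KaehlerDifferential.map_D, LinearMap.zero_apply]
    exact Groth.Agent.Lib.Helper27.Geo.derivation_eq_zero_of_mem_kKp p
      (KaehlerDifferential.D k K) (h ⟨x, rfl⟩)
  · intro h
    obtain ⟨_, ⟨z, rfl⟩, hz⟩ := Set.not_subset.mp h
    have hz' : algebraMap K₀ K z ∉
        IntermediateField.adjoin k (Set.range fun y : K => y ^ p) := hz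
    have htr := Groth.Agent.Lib.Helper27.Geo.transcendental_of_not_mem_kKp p hK hz'
    haveI := Groth.Agent.Lib.Helper27.Geo.isSeparable_of_not_mem_kKp p hK hg hz'
    have hDz : KaehlerDifferential.D k K (algebraMap K₀ K z) ≠ 0 :=
      (Groth.Agent.Lib.Helper27.Geo.kaehler_aux (algebraMap K₀ K z) htr).2
    obtain ⟨x, hx, hsep⟩ := Groth.Agent.Lib.Helper27.Geo.exists_separating hK₀ hg₀
    have hfr : Module.finrank K₀ (Ω[K₀⁄k₀]) = 1 :=
      (Groth.Agent.Lib.Helper27.Geo.kaehler_aux x hx).1
    have hv : KaehlerDifferential.D k₀ K₀ z ≠ 0 := by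
      intro h0
      apply hDz
      rw [← KaehlerDifferential.map_D k₀ k K₀ K, h0, map_zero]
    have hspan := (finrank_eq_one_iff_of_nonzero' _ hv).mp hfr
    rw [injective_iff_map_eq_zero]
    intro ω hω
    obtain ⟨c, rfl⟩ := hspan ω
    rw [map_smul, KaehlerDifferential.map_D, ← algebraMap_smul K c, smul_eq_zero] at hω
    rcases hω with hc | hc
    · rw [(map_eq_zero (algebraMap K₀ K)).mp hc, zero_smul]
    · exact absurd hc hDz

end Groth.Agent.S12520
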