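import Groth.Statements.S12521
-- import your own Groth.Agent.* helpers here
import Groth.Agent.Lib.Helper23.Inert4

set_option autoImplicit false
open FunFld

namespace Groth.Agent.S12521



/-- For a finite Galois extension `K'/K` of a geometric function field of one variable, a place `Q` of
`K'` with residue field separable over `k`, and `K₁` the inertia field of `Q` (fixed field of the
inertia group), `K'/K₁` is totally ramified at `Q`: the place of `K₁` under `Q` has ramification
index `[K' : K₁]`. (The published hypothesis is that the residue field of `Q` is separable over the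
residue field of the place of `K` below `Q`; this row assumes the stronger condition that the
residue field of `Q` is separable over `k`.) -/
theorem result (k K K' : Type*) [Field k] [Field K] [Field K'] [Algebra k K] [Algebra K K'] [Algebra k K']
    [IsScalarTower k K K'] [FiniteDimensional K K'] (hK : FunFld.IsFunctionField k K) (hg : FunFld.IsGeometric k K)
    [IsGalois K K'] (Q : FunFld.Place k K') [Algebra.IsSeparable k (IsLocalRing.ResidueField Q.O)] :
    let K₁ : IntermediateField K K' := IntermediateField.fixedField
        (((Q.O).inertiaSubgroup K).map ((Q.O).decompositionSubgroup K).subtype)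
    ∃ Q₁ : FunFld.Place k K₁, FunFld.IsOverWith Q Q₁ (Module.finrank K₁ K') := by
  intro K₁
  haveI : IsScalarTower k K₁ K' := IsScalarTower.of_algebraMap_eq (fun c => rfl)
  obtain ⟨Q₁, e, he⟩ := Groth.Agent.Lib.Helper23.Inert.exists_below_tower hK (E := K₁) Q
  have h1 := Groth.Agent.Lib.Helper23.Inert.card_inf_fixingSubgroup hK Q K₁ Q₁ e he
  have h2 : IntermediateField.fixingSubgroup K₁ =
      ((Q.O).inertiaSubgroup K).map ((Q.O).decompositionSubgroup K).subtype :=
    IntermediateField.fixingSubgroup_fixedField _
  rw [h2, inf_idem] at h1
  have h3 : Module.finrank K₁ K' =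
      Nat.card ↥(((Q.O).inertiaSubgroup K).map ((Q.O).decompositionSubgroup K).subtype) :=
    IntermediateField.finrank_fixedField_eq_card _
  exact ⟨Q₁, by rw [h3, h1]; exact he⟩

end Groth.Agent.S12521
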