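import Groth.Statements.S12524
import Mathlib

set_option autoImplicit false
universe u v
open CAlg

namespace Groth.Agent.S12524



section aux
open IsLocalRing Polynomial

variable {K : Type u} {A : Type v} [Field K] [CommRing A] [Algebra K A] (I : Ideal A)

/-- Polynomials agreeing in degrees `< m` have the same value at `x` modulo `(x)^m`. -/
theorem aeval_sub_mem (x : A) (hx : x ∈ I) (m : ℕ) (p p' : K[X])
    (h : ∀ d < m, p.coeff d = p'.coeff d) : aeval x p - aeval x p' ∈ I ^ m := by
  have hdvd : (X : K[X]) ^ m ∣ p - p' := by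
    rw [Polynomial.X_pow_dvd_iff]
    intro d hd
    rw [Polynomial.coeff_sub, h d hd, sub_self]
  obtain ⟨q, hq⟩ := hdvd
  rw [← map_sub, hq, map_mul, map_pow, aeval_X]
  exact Ideal.mul_mem_right _ _ (Ideal.pow_mem_pow hx m)

/-- the truncated evaluation maps -/
noncomputable def gfun (x : A) (n : ℕ) (f : PowerSeries K) : A ⧸ I ^ n :=
  Ideal.Quotient.mk (I ^ n) (aeval x (PowerSeries.trunc n f))

theorem subsingleton_zero : Subsingleton (A ⧸ I ^ 0) := by
  rw [pow_zero]
  exact Ideal.Quotient.subsingleton_iff.2 Ideal.one_eq_top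

noncomputable def galg (x : A) (hx : x ∈ I) (n : ℕ) : PowerSeries K →ₐ[K] A ⧸ I ^ n where
  toFun := gfun I x n
  map_one' := by
    rcases n with _ | n
    · exact (subsingleton_zero I).elim _ _
    · simp [gfun, PowerSeries.trunc_one]
  map_mul' f g := by
    unfold gfun
    rw [← map_mul, ← map_mul, Ideal.Quotient.eq]
    apply aeval_sub_mem I x hx
    intro d hd
    rw [PowerSeries.coeff_trunc, if_pos hd, PowerSeries.coeff_mul_eq_coeff_trunc_mul_trunc f g hd,
      ← Polynomial.coe_mul, Polynomial.coeff_coe]
  map_zero' := by simp [gfun]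
  map_add' f g := by simp [gfun]
  commutes' a := by
    rcases n with _ | n
    · exact (subsingleton_zero I).elim _ _
    · change gfun I x (n + 1) (PowerSeries.C a) = _
      simp [gfun, PowerSeries.trunc_C]

theorem galg_compat (x : A) (hx : x ∈ I) {m n : ℕ} (hle : m ≤ n) :
    (Ideal.Quotient.factorₐ K (Ideal.pow_le_pow_right hle)).comp (galg I x hx n) = galg I x hx m := by
  apply AlgHom.ext
  intro f
  change Ideal.Quotient.factor (Ideal.pow_le_pow_right hle) (gfun I x n f) = gfun I x m f
  unfold gfun
  rw [Ideal.Quotient.factor_mk, Ideal.Quotient.eq]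
  apply aeval_sub_mem I x hx
  intro d hd
  rw [PowerSeries.coeff_trunc, PowerSeries.coeff_trunc, if_pos hd, if_pos (lt_of_lt_of_le hd hle)]

theorem aeval_trunc_eq (x : A) (n : ℕ) (f : PowerSeries K) :
    aeval x (PowerSeries.trunc n f) =
      (Finset.range n).sum (fun i => algebraMap K A (PowerSeries.coeff i f) * x ^ i) := by
  rw [Polynomial.aeval_def, PowerSeries.eval₂_trunc_eq_sum_range]

/-- the lifted map -/
noncomputable def lift0 [IsAdicComplete I A] (x : A) (hx : x ∈ I) : PowerSeries K →ₐ[K] A :=
  IsAdicComplete.liftAlgHom I (galg I x hx) (fun hle => galg_compat I x hx hle)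

theorem lift0_spec [IsAdicComplete I A] (x : A) (hx : x ∈ I) (n : ℕ) (f : PowerSeries K) :
    Ideal.Quotient.mk (I ^ n) (lift0 I x hx f) = gfun I x n f := by
  unfold lift0
  rw [IsAdicComplete.mk_liftAlgHom]
  rfl

end aux

open IsLocalRing in
/-- Let `A` be a complete discrete valuation ring with maximal ideal `m`, containing a field `K` such
that `K → A → A/m` is bijective (a coefficient field), and let `x` be any generator of `m`. Then the
`K`-algebra map `K[X] → A`, `X ↦ x`, extends to a bijective `K`-algebra map `φ : K⟦X⟧ → A`,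
characterised by `φ(∑ aᵢ Xⁱ) ≡ ∑_{i<n} aᵢ xⁱ (mod mⁿ)` for every `n`. -/
theorem result (K : Type u) (A : Type v) [Field K]
    [CommRing A] [IsDomain A] [IsDiscreteValuationRing A] [Algebra K A]
    [IsAdicComplete (maximalIdeal A) A]
    (hK : Function.Bijective ((residue A).comp (algebraMap K A)))
    (x : A) (hx : maximalIdeal A = Ideal.span {x}) :
    ∃ φ : PowerSeries K →ₐ[K] A, φ PowerSeries.X = x ∧ Function.Bijective φ ∧
      ∀ (f : PowerSeries K) (n : ℕ),
        φ f - (Finset.range n).sum (fun i => algebraMap K A (PowerSeries.coeff i f) * x ^ i) ∈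
          maximalIdeal A ^ n := by
  have hxm : x ∈ maximalIdeal A := by rw [hx]; exact Ideal.mem_span_singleton_self x
  have hx0 : x ≠ 0 := by
    rintro rfl
    have h1 : maximalIdeal A = ⊥ := by rw [hx]; simp
    exact IsDiscreteValuationRing.not_a_field A h1
  have hpow : ∀ n : ℕ, maximalIdeal A ^ n = Ideal.span {x ^ n} := by
    intro n; rw [hx, Ideal.span_singleton_pow]
  have hhaus : ∀ y : A, (∀ n : ℕ, y ∈ maximalIdeal A ^ n) → y = 0 := by
    intro y hy
    apply IsHausdorff.haus (inferInstance : IsHausdorff (maximalIdeal A) A) y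
    intro n
    rw [SModEq.zero, smul_eq_mul, Ideal.mul_top]
    exact hy n
  obtain ⟨φ, hφ⟩ : ∃ φ : PowerSeries K →ₐ[K] A, ∀ (n : ℕ) (f : PowerSeries K),
      Ideal.Quotient.mk (maximalIdeal A ^ n) (φ f) = gfun (maximalIdeal A) x n f :=
    ⟨lift0 (maximalIdeal A) x hxm, fun n f => lift0_spec (maximalIdeal A) x hxm n f⟩
  have hspec : ∀ (f : PowerSeries K) (n : ℕ),
      φ f - (Finset.range n).sum (fun i => algebraMap K A (PowerSeries.coeff i f) * x ^ i) ∈
        maximalIdeal A ^ n := by
    intro f n
    have h1 : (Ideal.Quotient.mk (maximalIdeal A ^ n)) (φ f) =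
        Ideal.Quotient.mk (maximalIdeal A ^ n) (Polynomial.aeval x (PowerSeries.trunc n f)) :=
      hφ n f
    rw [← aeval_trunc_eq, ← Ideal.Quotient.eq, h1]
  refine ⟨φ, ?_, ⟨?_, ?_⟩, hspec⟩
  · -- φ X = x
    rw [← sub_eq_zero]
    apply hhaus
    intro n
    have h2 := hspec PowerSeries.X (n + 2)
    have h3 : (Finset.range (n + 2)).sum
        (fun i => algebraMap K A (PowerSeries.coeff i (PowerSeries.X : PowerSeries K)) * x ^ i) = x := by
      rw [← aeval_trunc_eq, PowerSeries.trunc_X, Polynomial.aeval_X]
    rw [h3] at h2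
    exact Ideal.pow_le_pow_right (by omega : n ≤ n + 2) h2
  · -- injective
    rw [injective_iff_map_eq_zero]
    intro f hf
    by_contra hf0
    obtain ⟨n, hn, hlt⟩ : ∃ n, PowerSeries.coeff n f ≠ 0 ∧ ∀ i < n, PowerSeries.coeff i f = 0 := by
      have hex : ∃ n, PowerSeries.coeff n f ≠ 0 := by
        by_contra hcon
        push Not at hcon
        apply hf0
        ext n
        rw [hcon n, map_zero]
      classical
      refine ⟨Nat.find hex, Nat.find_spec hex, fun i hi => ?_⟩
      by_contra hne
      exact Nat.find_min hex hi hne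
    have h2 := hspec f (n + 1)
    rw [hf, zero_sub, neg_mem_iff, Finset.sum_range_succ] at h2
    have h3 : (Finset.range n).sum (fun i => algebraMap K A (PowerSeries.coeff i f) * x ^ i) = 0 := by
      apply Finset.sum_eq_zero
      intro i hi
      rw [hlt i (Finset.mem_range.1 hi), map_zero, zero_mul]
    rw [h3, zero_add, hpow, Ideal.mem_span_singleton] at h2
    obtain ⟨y, hy⟩ := h2
    have h4 : algebraMap K A (PowerSeries.coeff n f) = x * y := by
      have : x ^ n * algebraMap K A (PowerSeries.coeff n f) = x ^ n * (x * y) := by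
        rw [mul_comm, hy, pow_succ]; ring
      exact mul_left_cancel₀ (pow_ne_zero n hx0) this
    have h5 : (residue A).comp (algebraMap K A) (PowerSeries.coeff n f) = 0 := by
      rw [RingHom.comp_apply, residue_eq_zero_iff, h4]
      exact Ideal.mul_mem_right _ _ hxm
    apply hn
    apply hK.1
    rw [h5, map_zero]
  · -- surjective
    intro y
    classical
    let coefK : A → K := fun r => (Equiv.ofBijective _ hK).symm (residue A r)
    have hcoef : ∀ r : A, ∃ z : A, r - algebraMap K A (coefK r) = x * z := by
      intro r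
      have h1 : residue A (algebraMap K A (coefK r)) = residue A r :=
        (Equiv.ofBijective _ hK).apply_symm_apply (residue A r)
      have h2 : r - algebraMap K A (coefK r) ∈ maximalIdeal A := by
        rw [← residue_eq_zero_iff, map_sub, h1, sub_self]
      rw [hx, Ideal.mem_span_singleton] at h2
      exact h2
    let step : A → A := fun r => (hcoef r).choose
    have hstep : ∀ r : A, r - algebraMap K A (coefK r) = x * step r := fun r => (hcoef r).choose_spec
    let r : ℕ → A := fun n => step^[n] y
    let c : ℕ → K := fun n => coefK (r n)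
    have hr : ∀ n, y - (Finset.range n).sum (fun i => algebraMap K A (c i) * x ^ i) = x ^ n * r n := by
      intro n
      induction n with
      | zero => simp [r]
      | succ n ih =>
        rw [Finset.sum_range_succ, ← sub_sub, ih]
        have h1 : r (n + 1) = step (r n) := Function.iterate_succ_apply' step n y
        have h2 := hstep (r n)
        rw [h1, pow_succ, mul_assoc, ← h2]
        ring
    refine ⟨PowerSeries.mk c, ?_⟩
    rw [← sub_eq_zero]
    apply hhaus
    intro n
    have h1 := hspec (PowerSeries.mk c) n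
    have h2 : y - (Finset.range n).sum (fun i => algebraMap K A (c i) * x ^ i) ∈ maximalIdeal A ^ n := by
      rw [hr n, hpow]
      exact Ideal.mul_mem_right _ _ (Ideal.mem_span_singleton_self _)
    simp only [PowerSeries.coeff_mk] at h1
    have := Ideal.sub_mem _ h1 h2
    simpa using this

end Groth.Agent.S12524
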