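import Groth.Statements.S12545
import Groth.Agent.Lib.Helper19.GLinMu
-- import your own Groth.Agent.* helpers here

set_option autoImplicit false
universe u
open TensorProduct LaurentPolynomial
open GIT

namespace Groth.Agent.S12545

/-- Let a commutative bialgebra A over a field k coact linearly on affine ι-space, let λ be a
one-parameter subgroup (a bialgebra map to the Laurent polynomial ring) and v ≠ 0 a vector; write
μ(v, λ) = m when t^m · (v moved by λ(t)) extends to the affine line with non-zero value at t = 0.
Then v moved by λ(t) has no limit as t → 0 exactly when μ(v, λ) > 0, has a limit different from the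
origin exactly when μ(v, λ) = 0, and tends to the origin exactly when μ(v, λ) < 0. -/
theorem result (k : Type u) [Field k] (A : Type u) [CommRing A] [Bialgebra k A]
    (ι : Type u) [Fintype ι] [HopfRep.Comod k A (MvPolynomial ι k)] [GLin.IsCoactAlg k A (MvPolynomial ι k)]
    (hlin : GLin.IsLinear k A ι) (lam : A →ₐc[k] k[T;T⁻¹]) (v : ι → k) (hv : v ≠ 0) :
    (¬ GLin.HasLimit k A lam (GLin.vecPt k ι v) ↔ ∃ m : ℤ, GLin.IsMu k A lam v m ∧ 0 < m) ∧
      ((GLin.HasLimit k A lam (GLin.vecPt k ι v) ∧
          ¬ GLin.IsLimit k A lam (GLin.vecPt k ι v) (GLin.vecPt k ι (fun _ => (0 : k)))) ↔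
        GLin.IsMu k A lam v 0) ∧
      (GLin.IsLimit k A lam (GLin.vecPt k ι v) (GLin.vecPt k ι (fun _ => (0 : k))) ↔
        ∃ m : ℤ, GLin.IsMu k A lam v m ∧ m < 0) := by
  obtain ⟨n, hn⟩ := Groth.Agent.Lib.Helper19.GLinMu.exists_isLeast_supp lam v hv
  have hmu : ∀ m : ℤ, GLin.IsMu k A lam v m ↔ m = -n := by
    intro m
    rw [Groth.Agent.Lib.Helper19.GLinMu.isMu_iff]
    constructor
    · intro h
      have := h.unique hn
      omega
    · rintro rfl
      rw [neg_neg]
      exact hn
  rw [Groth.Agent.Lib.Helper19.GLinMu.hasLimit_iff, Groth.Agent.Lib.Helper19.GLinMu.isLimit_zero_iff]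
  refine ⟨?_, ?_, ?_⟩
  · constructor
    · intro h
      refine ⟨-n, (hmu _).mpr rfl, ?_⟩
      by_contra hcon
      apply h
      intro j hj
      have := hn.2 hj
      omega
    · rintro ⟨m, hm, hpos⟩ h
      have := (hmu m).mp hm
      have := h n hn.1
      omega
  · constructor
    · rintro ⟨h1, h2⟩
      rw [hmu]
      have h3 := h1 n hn.1
      by_contra hcon
      apply h2
      intro j hj
      have := hn.2 hj
      omega
    · intro h
      have h0 := (hmu 0).mp h
      have hn0 : n = 0 := by omega
      subst hn0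
      refine ⟨fun j hj => hn.2 hj, fun hcon => ?_⟩
      have := hcon 0 hn.1
      omega
  · constructor
    · intro h
      refine ⟨-n, (hmu _).mpr rfl, ?_⟩
      have := h n hn.1
      omega
    · rintro ⟨m, hm, hneg⟩ j hj
      have := (hmu m).mp hm
      have := hn.2 hj
      omega

end Groth.Agent.S12545
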