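import Groth.Statements.S12549
import Mathlib
-- import your own Groth.Agent.* helpers here

set_option autoImplicit false
universe u
open GIT

namespace Groth.Agent.S12549

/-- Abel-type inequality. -/
theorem abel (D R : ℕ → ℝ) (m : ℕ) (hD : ∀ j ≤ m, 0 ≤ D j) (hD0 : D 0 = 0)
    (hR : ∀ j < m, R (j+1) ≤ R j) :
    2 * D m * R m ≤ ∑ j ∈ Finset.range m, (D (j+1) - D j) * (R (j+1) + R j) := by
  induction m with
  | zero => simp [hD0]
  | succ m ih =>
    rw [Finset.sum_range_succ]
    have h1 := ih (fun j hj => hD j (by omega)) (fun j hj => hR j (by omega))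
    have h2 := hD m (by omega)
    have h3 := hD (m+1) le_rfl
    have h4 := hR m (by omega)
    nlinarith [mul_nonneg h2 (sub_nonneg.mpr h4), mul_nonneg h3 (sub_nonneg.mpr h4)]

theorem support_line (n g : ℕ) (hg : 1 ≤ g) (hn : 2 * g ≤ n) (R : ℕ → ℝ)
    (hR : ∀ i j, i ≤ j → j ≤ n → R j ≤ R i) :
    ∃ a b : ℕ, a ≤ n - g ∧ n - g < b ∧ b ≤ n ∧ ∃ α σ : ℝ, σ ≤ 0 ∧
      R a = α + σ * (a : ℝ) ∧ R b = α + σ * ((b : ℝ) + g) ∧
      (∀ i, i ≤ n - g → α + σ * (i : ℝ) ≤ R i) ∧
      (∀ i, n - g < i → i ≤ n → α + σ * ((i : ℝ) + g) ≤ R i) := by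
  classical
  set t0 : ℝ := ((n - g : ℕ) : ℝ) + 1 / 2 with ht0
  let v : ℕ × ℕ → ℝ := fun p =>
    (R p.1 * (((p.2 : ℝ) + g) - t0) + R p.2 * (t0 - (p.1 : ℝ))) / (((p.2 : ℝ) + g) - (p.1 : ℝ))
  let P : Finset (ℕ × ℕ) := (Finset.range (n - g + 1)) ×ˢ (Finset.Ico (n - g + 1) (n + 1))
  have hP : P.Nonempty := ⟨(0, n), by simp only [P, Finset.mem_product, Finset.mem_range, Finset.mem_Ico]; omega⟩
  obtain ⟨⟨a, b⟩, hab, hmin⟩ := Finset.exists_min_image P v hP
  simp only [P, Finset.mem_product, Finset.mem_range, Finset.mem_Ico] at hab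
  obtain ⟨ha, hb1, hb2⟩ := hab
  have hxa : (a : ℝ) ≤ ((n - g : ℕ) : ℝ) := by exact_mod_cast (by omega : a ≤ n - g)
  have hxb : ((n - g : ℕ) : ℝ) + 1 ≤ (b : ℝ) := by exact_mod_cast (by omega : n - g + 1 ≤ b)
  have hg0 : (1 : ℝ) ≤ (g : ℝ) := by exact_mod_cast hg
  have hden : 0 < ((b : ℝ) + g) - (a : ℝ) := by linarith
  set σ : ℝ := (R b - R a) / (((b : ℝ) + g) - (a : ℝ)) with hσ
  set α : ℝ := R a - σ * (a : ℝ) with hα
  have hRa : R a = α + σ * (a : ℝ) := by rw [hα]; ring
  have hRb : R b = α + σ * ((b : ℝ) + g) := by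
    rw [hα, hσ]; field_simp; ring
  have hσ0 : σ ≤ 0 := by
    apply div_nonpos_of_nonpos_of_nonneg _ hden.le
    have := hR a b (by omega) (by omega); linarith
  have hvp : v (a, b) = α + σ * t0 := by
    simp only [v]
    rw [hRa, hRb]
    field_simp
    ring
  refine ⟨a, b, by omega, by omega, by omega, α, σ, hσ0, hRa, hRb, ?_, ?_⟩
  · intro i hi
    by_contra hcon
    push Not at hcon
    have hq : (i, b) ∈ P := by
      simp only [P, Finset.mem_product, Finset.mem_range, Finset.mem_Ico]; omega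
    have h1 := hmin (i, b) hq
    rw [hvp] at h1
    have hxi : (i : ℝ) ≤ ((n - g : ℕ) : ℝ) := by exact_mod_cast hi
    have hden' : 0 < ((b : ℝ) + g) - (i : ℝ) := by linarith
    have : v (i, b) < α + σ * t0 := by
      simp only [v]
      rw [div_lt_iff₀ hden', hRb]
      have hpos : 0 < ((b : ℝ) + g) - t0 := by rw [ht0]; linarith
      nlinarith [mul_pos (sub_pos.mpr hcon) hpos]
    linarith
  · intro i hi1 hi2
    by_contra hcon
    push Not at hcon
    have hq : (a, i) ∈ P := by
      simp only [P, Finset.mem_product, Finset.mem_range, Finset.mem_Ico]; omega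
    have h1 := hmin (a, i) hq
    rw [hvp] at h1
    have hxi : ((n - g : ℕ) : ℝ) + 1 ≤ (i : ℝ) := by exact_mod_cast (by omega : n - g + 1 ≤ i)
    have hden' : 0 < ((i : ℝ) + g) - (a : ℝ) := by linarith
    have : v (a, i) < α + σ * t0 := by
      simp only [v]
      rw [div_lt_iff₀ hden', hRa]
      have hpos : 0 < t0 - (a : ℝ) := by rw [ht0]; linarith
      nlinarith [mul_pos (sub_pos.mpr hcon) hpos]
    linarith


/-- Let g ≥ 1 and n ≥ 2g, and let e_0, …, e_n be natural numbers with e_0 = 0, e_n = n + g, e_0 ≤ … ≤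
e_n, e_i ≤ i for i ≤ n − g and e_i ≤ i + g for all i. Then for all real r_0 ≥ r_1 ≥ … ≥ r_n with Σ
r_i = 0, not all zero, some chain 0 = c_0 < c_1 < … < c_μ = n has Σ_j (e_(c_(j+1)) − e_(c_j)) ·
(r_(c_(j+1)) + r_(c_j)) < 0. -/
theorem result (n g : ℕ) (hg : 1 ≤ g) (hn : 2 * g ≤ n)
    (e : Fin (n + 1) → ℕ) (he0 : e 0 = 0) (hen : e (Fin.last n) = n + g) (hmono : Monotone e)
    (hle : ∀ i : Fin (n + 1), (i : ℕ) ≤ n - g → e i ≤ (i : ℕ)) (hle' : ∀ i : Fin (n + 1), e i ≤ (i : ℕ) + g)
    (r : Fin (n + 1) → ℝ) (hanti : Antitone r) (hsum : ∑ i, r i = 0) (hr : r ≠ 0) :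
    ∃ (μ : ℕ) (c : Fin (μ + 1) → Fin (n + 1)), StrictMono c ∧ c 0 = 0 ∧ c (Fin.last μ) = Fin.last n ∧
      ∑ j : Fin μ, ((e (c j.succ) : ℝ) - (e (c j.castSucc) : ℝ)) * (r (c j.succ) + r (c j.castSucc)) < 0 := by
  classical
  -- ℕ-indexed versions
  let R : ℕ → ℝ := fun i => if h : i < n + 1 then r ⟨i, h⟩ else 0
  let E : ℕ → ℝ := fun i => if h : i < n + 1 then (e ⟨i, h⟩ : ℝ) else 0
  let x : ℕ → ℝ := fun i => (i : ℝ) + (if i ≤ n - g then 0 else (g : ℝ))
  have hRr : ∀ i : Fin (n + 1), R i = r i := fun i => by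
    simp only [R, dif_pos i.isLt]
  have hEe : ∀ i : Fin (n + 1), E i = e i := fun i => by
    simp only [E, dif_pos i.isLt]
  have hRanti : ∀ i j, i ≤ j → j ≤ n → R j ≤ R i := by
    intro i j hij hj
    simp only [R, dif_pos (by omega : i < n + 1), dif_pos (by omega : j < n + 1)]
    exact hanti (by simpa using hij)
  have hxl : ∀ i, i ≤ n - g → x i = (i : ℝ) := by
    intro i hi; simp only [x, if_pos hi, add_zero]
  have hxr : ∀ i, n - g < i → x i = (i : ℝ) + g := by
    intro i hi; simp only [x, if_neg (by omega : ¬ i ≤ n - g)]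
  have hEx : ∀ i, i ≤ n → E i ≤ x i := by
    intro i hi
    simp only [E, dif_pos (by omega : i < n + 1)]
    by_cases h : i ≤ n - g
    · rw [hxl i h]
      exact_mod_cast hle ⟨i, by omega⟩ h
    · rw [hxr i (by omega)]
      exact_mod_cast hle' ⟨i, by omega⟩
  obtain ⟨a, b, ha, hb1, hb2, α, σ, hσ0, hRa, hRb, hL, hRt⟩ := support_line n g hg hn R hRanti
  -- slack
  let s : ℕ → ℝ := fun i => R i - α - σ * x i
  have hRs : ∀ i, R i = α + σ * x i + s i := fun i => by simp only [s]; ring
  have hs_nonneg : ∀ i, i ≤ n → 0 ≤ s i := by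
    intro i hi
    simp only [s]
    by_cases h : i ≤ n - g
    · rw [hxl i h]; have := hL i h; linarith
    · rw [hxr i (by omega)]; have := hRt i (by omega) hi; linarith
  have hsa : s a = 0 := by simp only [s]; rw [hxl a ha, hRa]; ring
  have hsb : s b = 0 := by simp only [s]; rw [hxr b hb1, hRb]; ring
  -- the chain
  let cN : ℕ → ℕ := fun j => if j ≤ a then j else j - (a + 1) + b
  obtain ⟨μ, hμ⟩ : ∃ μ, μ = a + 1 + (n - b) := ⟨_, rfl⟩
  have hcN_le : ∀ j, j ≤ μ → cN j ≤ n := by
    intro j hj; simp only [cN]; split_ifs <;> omega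
  have hcN_mono : ∀ j, cN j < cN (j + 1) := by
    intro j; simp only [cN]; split_ifs <;> omega
  have hcN0 : cN 0 = 0 := by simp [cN]
  have hcNμ : cN μ = n := by
    simp only [cN]; split_ifs <;> omega
  let c : Fin (μ + 1) → Fin (n + 1) :=
    fun j => ⟨cN j, by have := hcN_le j (by omega); omega⟩
  refine ⟨μ, c, ?_, ?_, ?_, ?_⟩
  · rw [Fin.strictMono_iff_lt_succ]
    intro j
    simp only [c, Fin.mk_lt_mk, Fin.val_succ, Fin.val_castSucc]
    exact hcN_mono j
  · ext; simp [c, cN]
  · ext; simp only [c, Fin.val_last]; exact hcNμ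
  · -- the sum
    have hsum_eq : ∑ j : Fin μ, ((e (c j.succ) : ℝ) - (e (c j.castSucc) : ℝ)) *
        (r (c j.succ) + r (c j.castSucc)) =
        ∑ j ∈ Finset.range μ, (E (cN (j + 1)) - E (cN j)) * (R (cN (j + 1)) + R (cN j)) := by
      rw [← Fin.sum_univ_eq_sum_range]
      refine Finset.sum_congr rfl fun j _ => ?_
      rw [← hEe (c j.succ), ← hEe (c j.castSucc), ← hRr (c j.succ), ← hRr (c j.castSucc)]
      simp only [c, Fin.val_succ, Fin.val_castSucc]
    rw [hsum_eq]
    -- notation
    set nn : ℝ := (n : ℝ) with hnn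
    set gg : ℝ := (g : ℝ) with hgg
    have hgg1 : (1 : ℝ) ≤ gg := by rw [hgg]; exact_mod_cast hg
    have hnn2 : 2 * gg ≤ nn := by rw [hgg, hnn]; exact_mod_cast hn
    have hx0 : x (cN 0) = 0 := by rw [hcN0, hxl 0 (by omega)]; simp
    have hxμ : x (cN μ) = nn + gg := by rw [hcNμ, hxr n (by omega)]
    -- (i) replace `E` by `x`
    have hstep1 : ∑ j ∈ Finset.range μ, (E (cN (j + 1)) - E (cN j)) * (R (cN (j + 1)) + R (cN j)) ≤
        ∑ j ∈ Finset.range μ, (x (cN (j + 1)) - x (cN j)) * (R (cN (j + 1)) + R (cN j)) := by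
      have hab := abel (fun j => x (cN j) - E (cN j)) (fun j => R (cN j)) μ
        (fun j hj => sub_nonneg.mpr (hEx _ (hcN_le j hj)))
        (by
          show x (cN 0) - E (cN 0) = 0
          rw [hx0, hcN0]
          simp only [E, dif_pos (by omega : 0 < n + 1)]
          have : e ⟨0, by omega⟩ = 0 := he0
          rw [this]; simp)
        (fun j hj => hRanti _ _ (hcN_mono j).le (hcN_le (j + 1) (by omega)))
      have hDμ : x (cN μ) - E (cN μ) = 0 := by
        rw [hxμ, hcNμ]
        simp only [E, dif_pos (by omega : n < n + 1)]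
        have : e ⟨n, by omega⟩ = n + g := hen
        rw [this]; push_cast; ring
      simp only [hDμ, mul_zero, zero_mul] at hab
      have : ∑ j ∈ Finset.range μ, ((x (cN (j + 1)) - E (cN (j + 1))) - (x (cN j) - E (cN j))) *
          (R (cN (j + 1)) + R (cN j)) =
          ∑ j ∈ Finset.range μ, (x (cN (j + 1)) - x (cN j)) * (R (cN (j + 1)) + R (cN j)) -
          ∑ j ∈ Finset.range μ, (E (cN (j + 1)) - E (cN j)) * (R (cN (j + 1)) + R (cN j)) := by
        rw [← Finset.sum_sub_distrib]
        refine Finset.sum_congr rfl fun j _ => ?_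
        ring
      linarith
    -- (ii) expand `R = α + σ x + s`
    have hstep2 : ∑ j ∈ Finset.range μ, (x (cN (j + 1)) - x (cN j)) * (R (cN (j + 1)) + R (cN j)) =
        2 * α * (nn + gg) + σ * (nn + gg) ^ 2 +
        ∑ j ∈ Finset.range μ, (x (cN (j + 1)) - x (cN j)) * (s (cN (j + 1)) + s (cN j)) := by
      have h1 : ∀ j, (x (cN (j + 1)) - x (cN j)) * (R (cN (j + 1)) + R (cN j)) =
          2 * α * (x (cN (j + 1)) - x (cN j)) + σ * (x (cN (j + 1)) ^ 2 - x (cN j) ^ 2) +
          (x (cN (j + 1)) - x (cN j)) * (s (cN (j + 1)) + s (cN j)) := by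
        intro j
        rw [hRs (cN (j + 1)), hRs (cN j)]
        ring
      simp_rw [h1]
      rw [Finset.sum_add_distrib, Finset.sum_add_distrib, ← Finset.mul_sum, ← Finset.mul_sum,
        Finset.sum_range_sub (fun j => x (cN j)), Finset.sum_range_sub (fun j => x (cN j) ^ 2),
        hx0, hxμ]
      ring
    -- (iii) the slack sum
    set Q := ∑ j ∈ Finset.range μ, (x (cN (j + 1)) - x (cN j)) * (s (cN (j + 1)) + s (cN j)) with hQ
    set Ss := ∑ i ∈ Finset.range (n + 1), s i with hSs
    have hA : ∑ j ∈ Finset.range a, (x (cN (j + 1)) - x (cN j)) * (s (cN (j + 1)) + s (cN j)) =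
        ∑ j ∈ Finset.range a, (s (j + 1) + s j) := by
      refine Finset.sum_congr rfl fun j hj => ?_
      have hj' := Finset.mem_range.mp hj
      have h1 : cN (j + 1) = j + 1 := by simp only [cN]; rw [if_pos (by omega)]
      have h2 : cN j = j := by simp only [cN]; rw [if_pos (by omega)]
      rw [h1, h2, hxl (j + 1) (by omega), hxl j (by omega)]
      push_cast; ring
    have hM : (x (cN (a + 1)) - x (cN a)) * (s (cN (a + 1)) + s (cN a)) = 0 := by
      have h1 : cN (a + 1) = b := by simp only [cN]; rw [if_neg (by omega)]; omega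
      have h2 : cN a = a := by simp only [cN]; rw [if_pos le_rfl]
      rw [h1, h2, hsa, hsb]; ring
    have hB : ∑ t ∈ Finset.range (n - b), (x (cN (a + 1 + t + 1)) - x (cN (a + 1 + t))) *
        (s (cN (a + 1 + t + 1)) + s (cN (a + 1 + t))) =
        ∑ t ∈ Finset.range (n - b), (s (b + t + 1) + s (b + t)) := by
      refine Finset.sum_congr rfl fun t ht => ?_
      have ht' := Finset.mem_range.mp ht
      have h1 : cN (a + 1 + t + 1) = b + t + 1 := by simp only [cN]; rw [if_neg (by omega)]; omega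
      have h2 : cN (a + 1 + t) = b + t := by simp only [cN]; rw [if_neg (by omega)]; omega
      rw [h1, h2, hxr (b + t + 1) (by omega), hxr (b + t) (by omega)]
      push_cast; ring
    have hQsplit : Q = ∑ j ∈ Finset.range a, (s (j + 1) + s j) +
        ∑ t ∈ Finset.range (n - b), (s (b + t + 1) + s (b + t)) := by
      rw [hQ, hμ, Finset.sum_range_add, Finset.sum_range_succ, hA, hM, add_zero, hB]
    have hA2 : ∑ j ∈ Finset.range a, (s (j + 1) + s j) =
        2 * ∑ j ∈ Finset.range (a + 1), s j - s 0 - s a := by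
      rw [Finset.sum_add_distrib]
      have h1 := Finset.sum_range_succ' s a
      have h2 := Finset.sum_range_succ s a
      linarith
    have hB2 : ∑ t ∈ Finset.range (n - b), (s (b + t + 1) + s (b + t)) =
        2 * ∑ t ∈ Finset.range (n - b + 1), s (b + t) - s b - s n := by
      rw [Finset.sum_add_distrib]
      have h1 := Finset.sum_range_succ' (fun t => s (b + t)) (n - b)
      have h2 := Finset.sum_range_succ (fun t => s (b + t)) (n - b)
      simp only [add_zero] at h1
      have h3 : b + (n - b) = n := by omega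
      rw [h3] at h2
      have h4 : ∀ t, s (b + (t + 1)) = s (b + t + 1) := fun t => by rw [add_assoc]
      simp only [h4] at h1
      linarith
    have hAB : ∑ j ∈ Finset.range (a + 1), s j + ∑ t ∈ Finset.range (n - b + 1), s (b + t) ≤ Ss := by
      have h1 : Ss = ∑ i ∈ Finset.range b, s i + ∑ t ∈ Finset.range (n - b + 1), s (b + t) := by
        rw [hSs, ← Finset.sum_range_add]
        congr 2
        omega
      have h2 : ∑ j ∈ Finset.range (a + 1), s j ≤ ∑ i ∈ Finset.range b, s i := by
        apply Finset.sum_le_sum_of_subset_of_nonneg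
        · exact Finset.range_mono (by omega)
        · intro i hi _
          exact hs_nonneg i (by have := Finset.mem_range.mp hi; omega)
      linarith
    have hQle : Q ≤ 2 * Ss - s 0 - s n := by
      rw [hQsplit, hA2, hB2, hsa, hsb]; linarith
    -- (iv) the sum condition
    have hSR : ∑ i ∈ Finset.range (n + 1), R i = 0 := by
      rw [← Fin.sum_univ_eq_sum_range]
      simp_rw [hRr]
      exact hsum
    set X := ∑ i ∈ Finset.range (n + 1), x i with hX
    have h4 : (nn + 1) * α + σ * X + Ss = 0 := by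
      have : ∑ i ∈ Finset.range (n + 1), R i = ∑ i ∈ Finset.range (n + 1), (α + σ * x i + s i) :=
        Finset.sum_congr rfl fun i _ => hRs i
      rw [this, Finset.sum_add_distrib, Finset.sum_add_distrib, Finset.sum_const, Finset.card_range,
        ← Finset.mul_sum] at hSR
      simp only [nsmul_eq_mul] at hSR
      push_cast at hSR
      linarith
    -- (v) the sum of the `x i`
    have h5 : 2 * X = nn * (nn + 1) + 2 * gg ^ 2 := by
      have h1 : X = ∑ i ∈ Finset.range (n + 1), (i : ℝ) +
          ∑ i ∈ Finset.range (n + 1), (if i ≤ n - g then (0 : ℝ) else (g : ℝ)) := by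
        rw [hX, ← Finset.sum_add_distrib]
      have h2 : 2 * ∑ i ∈ Finset.range (n + 1), (i : ℝ) = nn * (nn + 1) := by
        have := Finset.sum_range_id_mul_two (n + 1)
        have h' : ((∑ i ∈ Finset.range (n + 1), i : ℕ) : ℝ) * 2 =
            ((n + 1 : ℕ) : ℝ) * ((n + 1 - 1 : ℕ) : ℝ) := by exact_mod_cast this
        rw [Nat.cast_sum] at h'
        simp only [Nat.add_sub_cancel] at h'
        push_cast at h'
        linarith
      have h3 : ∑ i ∈ Finset.range (n + 1), (if i ≤ n - g then (0 : ℝ) else (g : ℝ)) = gg ^ 2 := by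
        have hsplit : n + 1 = (n - g + 1) + g := by omega
        rw [hsplit, Finset.sum_range_add]
        have hz : ∑ i ∈ Finset.range (n - g + 1), (if i ≤ n - g then (0 : ℝ) else (g : ℝ)) = 0 := by
          apply Finset.sum_eq_zero
          intro i hi
          rw [if_pos (by have := Finset.mem_range.mp hi; omega)]
        have hg2 : ∑ t ∈ Finset.range g, (if n - g + 1 + t ≤ n - g then (0 : ℝ) else (g : ℝ)) =
            gg ^ 2 := by
          rw [Finset.sum_congr rfl (fun t _ => if_neg (by omega))]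
          rw [Finset.sum_const, Finset.card_range, nsmul_eq_mul]
          ring
        rw [hz, hg2, zero_add]
      rw [h1, mul_add, h2, h3]
    -- (vi) strictness
    have hlt : R n < R 0 := by
      by_contra hcon
      push Not at hcon
      apply hr
      have hconst : ∀ i : Fin (n + 1), r i = R 0 := by
        intro i
        have h1 : R i ≤ R 0 := hRanti 0 i (by omega) (by have := i.isLt; omega)
        have h2 : R n ≤ R i := hRanti i n (by have := i.isLt; omega) le_rfl
        rw [← hRr i]; linarith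
      have hsum' : ((n : ℝ) + 1) * R 0 = 0 := by
        have : ∑ i : Fin (n + 1), r i = ∑ _i : Fin (n + 1), R 0 :=
          Finset.sum_congr rfl fun i _ => hconst i
        rw [this, Finset.sum_const, Finset.card_univ, Fintype.card_fin, nsmul_eq_mul] at hsum
        push_cast at hsum
        exact hsum
      have hR0 : R 0 = 0 := by
        rcases mul_eq_zero.mp hsum' with h | h
        · exfalso
          have : (0 : ℝ) ≤ n := by positivity
          linarith
        · exact h
      funext i
      rw [hconst i, hR0]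
      rfl
    have hstrict : σ < 0 ∨ 0 < s 0 + s n := by
      rcases hσ0.lt_or_eq with h | h
      · left; exact h
      · right
        have hs0 : s 0 = R 0 - α := by simp only [s]; rw [h]; ring
        have hsn : s n = R n - α := by simp only [s]; rw [h]; ring
        have h3 := hs_nonneg n le_rfl
        rw [hsn] at h3
        rw [hs0, hsn]; linarith
    have hkey : (nn + 1) * (2 * α * (nn + gg) + σ * (nn + gg) ^ 2 + Q) =
        σ * (nn + gg) * (gg * (nn + 1 - 2 * gg)) - 2 * (nn + gg) * Ss + (nn + 1) * Q := by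
      linear_combination (2 * (nn + gg)) * h4 - (σ * (nn + gg)) * h5
    have hSs_nonneg : 0 ≤ Ss :=
      Finset.sum_nonneg fun i hi => hs_nonneg i (by have := Finset.mem_range.mp hi; omega)
    have hs0 := hs_nonneg 0 (by omega)
    have hsn := hs_nonneg n le_rfl
    have hnn0 : 0 ≤ nn := by rw [hnn]; positivity
    have hpos : 0 < (nn + gg) * (gg * (nn + 1 - 2 * gg)) := by
      apply mul_pos (by linarith)
      apply mul_pos (by linarith) (by linarith)
    have hfin : (nn + 1) * (2 * α * (nn + gg) + σ * (nn + gg) ^ 2 + Q) < 0 := by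
      rw [hkey]
      have h6 : (nn + 1) * Q ≤ (nn + 1) * (2 * Ss - s 0 - s n) :=
        mul_le_mul_of_nonneg_left hQle (by linarith)
      have h7 : σ * ((nn + gg) * (gg * (nn + 1 - 2 * gg))) ≤ 0 :=
        mul_nonpos_of_nonpos_of_nonneg hσ0 hpos.le
      have h8 : 0 ≤ (gg - 1) * Ss := mul_nonneg (by linarith) hSs_nonneg
      have h9 : 0 ≤ (nn + 1) * (s 0 + s n) := mul_nonneg (by linarith) (by linarith)
      rcases hstrict with h | h
      · have : σ * ((nn + gg) * (gg * (nn + 1 - 2 * gg))) < 0 := mul_neg_of_neg_of_pos h hpos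
        nlinarith
      · have : 0 < (nn + 1) * (s 0 + s n) := mul_pos (by linarith) h
        nlinarith
    have hneg : 2 * α * (nn + gg) + σ * (nn + gg) ^ 2 + Q < 0 := by
      by_contra hcon
      push Not at hcon
      have := mul_nonneg (by linarith : (0 : ℝ) ≤ nn + 1) hcon
      linarith
    linarith [hstep1, hstep2]

end Groth.Agent.S12549
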