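import Groth.Statements.S12550
import Mathlib.LinearAlgebra.FiniteDimensional.Lemmas
-- import your own Groth.Agent.* helpers here

set_option autoImplicit false
universe u
open GIT

namespace Groth.Agent.S12550

/-- Let V be a finite-dimensional vector space over a field K and x_0, …, x_m non-zero vectors, a
configuration of m + 1 points of the projective space P(V). If for every subspace L with 0 ≠ L ≠ V
the number of indices i with x_i ∈ L, multiplied by dim V, is less than dim L · (m + 1) (the
configuration is stable), then no two proper subspaces L', L'' with L' ∩ L'' = 0 contain between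
them all the x_i. -/
theorem result (K : Type u) [Field K]
    (V : Type u) [AddCommGroup V] [Module K V] [FiniteDimensional K V]
    (m : ℕ) (x : Fin (m + 1) → V) (hx : ∀ i, x i ≠ 0)
    (hst : ∀ L : Submodule K V, L ≠ ⊥ → L ≠ ⊤ →
      Set.ncard {i : Fin (m + 1) | x i ∈ L} * Module.finrank K V < Module.finrank K L * (m + 1)) :
    ¬ ∃ L' L'' : Submodule K V, L' ≠ ⊤ ∧ L'' ≠ ⊤ ∧ Disjoint L' L'' ∧ ∀ i, x i ∈ L' ∨ x i ∈ L'' := by
  rintro ⟨L', L'', h1, h2, hd, hcov⟩
  have hcount : m + 1 ≤ Set.ncard {i : Fin (m + 1) | x i ∈ L'} + Set.ncard {i : Fin (m + 1) | x i ∈ L''} := by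
    have hU : (Set.univ : Set (Fin (m + 1))) = {i | x i ∈ L'} ∪ {i | x i ∈ L''} := by
      ext i
      simp only [Set.mem_univ, Set.mem_union, Set.mem_ofPred_eq, true_iff]
      exact hcov i
    calc m + 1 = Set.ncard (Set.univ : Set (Fin (m + 1))) := by
          rw [Set.ncard_univ, Nat.card_eq_fintype_card, Fintype.card_fin]
      _ = Set.ncard ({i | x i ∈ L'} ∪ {i | x i ∈ L''}) := by rw [hU]
      _ ≤ _ := Set.ncard_union_le _ _
  have hdim : Module.finrank K L' + Module.finrank K L'' ≤ Module.finrank K V := by
    have h := Submodule.finrank_sup_add_finrank_inf_eq L' L''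
    rw [hd.eq_bot, finrank_bot, add_zero] at h
    rw [← h]
    exact Submodule.finrank_le _
  have hle' : Set.ncard {i : Fin (m + 1) | x i ∈ L'} * Module.finrank K V ≤ Module.finrank K L' * (m + 1) := by
    by_cases hb : L' = ⊥
    · have : {i : Fin (m + 1) | x i ∈ L'} = ∅ := by
        ext i
        simp only [Set.mem_ofPred_eq, Set.mem_empty_iff_false, iff_false, hb, Submodule.mem_bot]
        exact hx i
      rw [this]
      simp
    · exact (hst L' hb h1).le
  have hle'' : Set.ncard {i : Fin (m + 1) | x i ∈ L''} * Module.finrank K V ≤ Module.finrank K L'' * (m + 1) := by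
    by_cases hb : L'' = ⊥
    · have : {i : Fin (m + 1) | x i ∈ L''} = ∅ := by
        ext i
        simp only [Set.mem_ofPred_eq, Set.mem_empty_iff_false, iff_false, hb, Submodule.mem_bot]
        exact hx i
      rw [this]
      simp
    · exact (hst L'' hb h2).le
  -- at least one of the two is nonzero, giving a strict inequality
  have hne : L' ≠ ⊥ ∨ L'' ≠ ⊥ := by
    by_contra hcon
    push Not at hcon
    rcases hcov 0 with h | h
    · rw [hcon.1] at h; exact hx 0 (by simpa using h)
    · rw [hcon.2] at h; exact hx 0 (by simpa using h)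
  have hstrict : (Set.ncard {i : Fin (m + 1) | x i ∈ L'} + Set.ncard {i : Fin (m + 1) | x i ∈ L''}) * Module.finrank K V
      < (Module.finrank K L' + Module.finrank K L'') * (m + 1) := by
    rcases hne with hb | hb
    · have := hst L' hb h1
      rw [add_mul, add_mul]
      exact add_lt_add_of_lt_of_le this hle''
    · have := hst L'' hb h2
      rw [add_mul, add_mul]
      exact add_lt_add_of_le_of_lt hle' this
  have h3 : (m + 1) * Module.finrank K V ≤
      (Set.ncard {i : Fin (m + 1) | x i ∈ L'} + Set.ncard {i : Fin (m + 1) | x i ∈ L''}) * Module.finrank K V :=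
    Nat.mul_le_mul_right _ hcount
  have h4 : (Module.finrank K L' + Module.finrank K L'') * (m + 1) ≤ Module.finrank K V * (m + 1) :=
    Nat.mul_le_mul_right _ hdim
  have h5 : (m + 1) * Module.finrank K V = Module.finrank K V * (m + 1) := Nat.mul_comm _ _
  omega

end Groth.Agent.S12550
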