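import Groth.Statements.S12553
import Groth.Agent.Lib.Helper19.GLinMu
-- import your own Groth.Agent.* helpers here

set_option autoImplicit false
universe u
open TensorProduct LaurentPolynomial
open GIT

namespace Groth.Agent.S12553

/-- Let k be a field and T = Spec A a diagonalizable affine group (A a commutative Hopf algebra spanned
by its group-like elements, e.g. a torus) acting linearly on affine ι-space. Then there are finitely
many characters χ_1, …, χ_N of T (group-like elements of A) such that every vector v ≠ 0 has a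
non-empty set I of indices for which, for every one-parameter subgroup λ of T with λ(χ_j) = t^(e_j),
the numerical function μ(v, λ) (the m for which t^m · (v moved by λ(t)) tends to a non-zero vector)
equals the maximum of −e_j over j ∈ I: μ is the maximum of finitely many linear functionals on
one-parameter subgroups. (The published proposition concerns a maximal torus of a reductive group
acting on a proper scheme with an ample linearised invertible sheaf; this row is the case of
projective space with the hyperplane bundle, for any diagonalizable group acting linearly, stated on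
the affine cone.) -/
theorem result (k : Type u) [Field k]
    (A : Type u) [CommRing A] [HopfAlgebra k A] (hdiag : HopfRep.IsDiagonalizable k A)
    (ι : Type u) [Fintype ι] [HopfRep.Comod k A (MvPolynomial ι k)] [GLin.IsCoactAlg k A (MvPolynomial ι k)]
    (hlin : GLin.IsLinear k A ι) :
    ∃ (N : ℕ) (χ : Fin N → A), (∀ j, IsGroupLikeElem k (χ j)) ∧
      ∀ v : ι → k, v ≠ 0 → ∃ I : Finset (Fin N), I.Nonempty ∧
        ∀ (lam : A →ₐc[k] k[T;T⁻¹]) (e : Fin N → ℤ), (∀ j, lam (χ j) = LaurentPolynomial.T (e j)) →
          ∀ m : ℤ, GLin.IsMu k A lam v m ↔ ((∀ j ∈ I, -e j ≤ m) ∧ ∃ j ∈ I, m = -e j) := by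
  classical
  choose mm hm using hlin
  let b := Groth.Agent.Lib.Helper19.GLinMu.glBasis hdiag
  let G : Finset {a : A | IsGroupLikeElem k a} :=
    Finset.univ.biUnion (fun ij : ι × ι => (b.repr (mm ij.1 ij.2)).support)
  have hG : ∀ i j, ∀ g ∉ G, b.coord g (mm i j) = 0 := by
    intro i j g hg
    by_contra hne
    apply hg
    rw [Finset.mem_biUnion]
    exact ⟨(i, j), Finset.mem_univ _, Finsupp.mem_support_iff.mpr hne⟩
  let eqv := G.equivFin
  refine ⟨G.card, fun l => ((eqv.symm l : ↥G) : {a : A | IsGroupLikeElem k a}).1,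
    fun l => ((eqv.symm l : ↥G) : {a : A | IsGroupLikeElem k a}).2, ?_⟩
  intro v hv
  let I : Finset (Fin G.card) :=
    Finset.univ.filter (fun l => ∃ i, b.coord (eqv.symm l).1 (∑ j, v j • mm i j) ≠ 0)
  refine ⟨I, ?_, ?_⟩
  · -- nonempty: use the trivial one-parameter subgroup
    let lam0 : A →ₐc[k] k[T;T⁻¹] :=
      (Bialgebra.unitBialgHom k k[T;T⁻¹]).comp (Bialgebra.counitBialgHom k A)
    have hE0 : ∀ g ∈ G, lam0 (g : A) = LaurentPolynomial.T ((fun _ => (0 : ℤ)) g) := by
      intro g _
      have hg : IsGroupLikeElem k (g : A) := g.2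
      show (Bialgebra.unitBialgHom k k[T;T⁻¹]) ((Bialgebra.counitBialgHom k A) (g : A)) = _
      rw [Bialgebra.counitBialgHom_apply, hg.counit_eq_one, map_one, LaurentPolynomial.T_zero]
    have hne := Groth.Agent.Lib.Helper19.GLinMu.supp_nonempty lam0 v hv
    rw [Groth.Agent.Lib.Helper19.GLinMu.supp_eq_of_diag hdiag mm hm v G hG lam0 _ hE0] at hne
    obtain ⟨n, g, hgG, hci, -⟩ := hne
    refine ⟨eqv ⟨g, hgG⟩, Finset.mem_filter.mpr ⟨Finset.mem_univ _, ?_⟩⟩
    simpa using hci
  · intro lam e he m
    let E : {a : A | IsGroupLikeElem k a} → ℤ := fun g => if h : g ∈ G then e (eqv ⟨g, h⟩) else 0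
    have hEG : ∀ g (hg : g ∈ G), E g = e (eqv ⟨g, hg⟩) := by
      intro g hg
      simp only [E, dif_pos hg]
    have hEj : ∀ j, E (eqv.symm j).1 = e j := by
      intro j
      rw [hEG _ (eqv.symm j).2]
      simp
    have hE : ∀ g ∈ G, lam (g : A) = LaurentPolynomial.T (E g) := by
      intro g hg
      rw [hEG g hg]
      have := he (eqv ⟨g, hg⟩)
      simpa using this
    rw [Groth.Agent.Lib.Helper19.GLinMu.isMu_iff,
      Groth.Agent.Lib.Helper19.GLinMu.supp_eq_of_diag hdiag mm hm v G hG lam E hE]
    constructor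
    · rintro ⟨⟨g, hgG, hci, hEg⟩, hlow⟩
      refine ⟨?_, ?_⟩
      · intro j hj
        have hjI := (Finset.mem_filter.mp hj).2
        have : -m ≤ E (eqv.symm j).1 := hlow ⟨(eqv.symm j).1, (eqv.symm j).2, hjI, rfl⟩
        have := hEj j
        omega
      · refine ⟨eqv ⟨g, hgG⟩, Finset.mem_filter.mpr ⟨Finset.mem_univ _, by simpa using hci⟩, ?_⟩
        have := hEG g hgG
        omega
    · rintro ⟨hall, j, hjI, hmj⟩
      have hjI' := (Finset.mem_filter.mp hjI).2
      refine ⟨⟨(eqv.symm j).1, (eqv.symm j).2, hjI', by rw [hEj]; omega⟩, ?_⟩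
      rintro n ⟨g, hgG, hci, hEg⟩
      have h1 := hall (eqv ⟨g, hgG⟩)
        (Finset.mem_filter.mpr ⟨Finset.mem_univ _, by simpa using hci⟩)
      have := hEG g hgG
      omega

end Groth.Agent.S12553
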