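import Groth.Statements.S12556
import Groth.Agent.Lib.Helper19.Reynolds
-- import your own Groth.Agent.* helpers here

set_option autoImplicit false
universe u
open TensorProduct
open GIT

namespace Groth.Agent.S12556

open TensorProduct in
theorem slice_mul_tmul_one {k : Type u} [Field k] {A : Type u} [CommRing A] [Bialgebra k A]
    {R : Type u} [CommRing R] [Algebra k R] (f : A →ₗ[k] k) (t : R ⊗[k] A) (y : R) :
    Groth.Agent.Lib.Helper19.Reynolds.slice f (t * (y ⊗ₜ[k] (1 : A))) =
      Groth.Agent.Lib.Helper19.Reynolds.slice f t * y := by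
  induction t using TensorProduct.induction_on with
  | zero => simp
  | tmul r a =>
    rw [Algebra.TensorProduct.tmul_mul_tmul, mul_one, Groth.Agent.Lib.Helper19.Reynolds.slice_tmul,
      Groth.Agent.Lib.Helper19.Reynolds.slice_tmul, smul_mul_assoc]
  | add a b ha hb => simp only [add_mul, map_add, ha, hb]


/-- Let k be a field, G = Spec A a linearly reductive affine group (A a commutative Hopf algebra whose
finite-dimensional comodules are all semisimple) acting on the affine scheme Spec R (a
multiplicative coaction of A on the commutative k-algebra R), and E : R → R a linear map commuting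
with the coaction, idempotent, and fixing exactly the invariant elements. Then E(x · y) = E(x) · y
for all x in R and all invariant y. -/
theorem result (k : Type u) [Field k] (A : Type u) [CommRing A] [HopfAlgebra k A]
    (hG : HopfRep.IsLinearlyReductive k A)
    (R : Type u) [CommRing R] [Algebra k R] [HopfRep.Comod k A R] [GLin.IsCoactAlg k A R]
    (E : R →ₗ[k] R) (h₁ : Hoch.IsComodHom A E) (h₂ : E ∘ₗ E = E)
    (h₃ : ∀ x : R, E x = x ↔ x ∈ GLin.invariants k A R)
    (x y : R) (hy : y ∈ GLin.invariants k A R) : E (x * y) = E x * y := by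
  have hss : IsSemisimpleModule (Groth.Agent.Lib.Helper19.Reynolds.opAlg k A R) R :=
    Groth.Agent.Lib.Helper19.Reynolds.isSemisimpleModule_opAlg hG
  have hyc : HopfRep.Comod.coact (k := k) (A := A) y = y ⊗ₜ[k] (1 : A) := hy
  -- multiplication by `y` commutes with the operators
  have hmul : ∀ (f : A →ₗ[k] k) (v : R),
      (LinearMap.mulRight k y) (Groth.Agent.Lib.Helper19.Reynolds.opT k A R f v) =
        Groth.Agent.Lib.Helper19.Reynolds.opT k A R f ((LinearMap.mulRight k y) v) := by
    intro f v
    simp only [LinearMap.mulRight_apply, Groth.Agent.Lib.Helper19.Reynolds.opT_apply]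
    rw [GLin.IsCoactAlg.coact_mul, hyc, slice_mul_tmul_one]
  let mulR := Groth.Agent.Lib.Helper19.Reynolds.toOpLin (LinearMap.mulRight k y) hmul
  let Eop := Groth.Agent.Lib.Helper19.Reynolds.toOpLin E
    ((Groth.Agent.Lib.Helper19.Reynolds.isComodHom_iff_commute E).mp h₁)
  have hEop : ∀ z, Eop z = E z := fun z => rfl
  have hmulR : ∀ z, mulR z = z * y := fun z => rfl
  have hEE : ∀ z, E (E z) = E z := fun z => LinearMap.congr_fun h₂ z
  have hEfix : ∀ z, E z ∈ Groth.Agent.Lib.Helper19.Reynolds.fixedOp k A R := fun z =>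
    (h₃ (E z)).mp (hEE z)
  have hW : LinearMap.ker Eop ⊓ Groth.Agent.Lib.Helper19.Reynolds.fixedOp k A R = ⊥ := by
    rw [eq_bot_iff]
    rintro z ⟨hz1, hz2⟩
    have e1 : E z = 0 := hz1
    have e2 : E z = z := (h₃ z).mpr hz2
    rw [Submodule.mem_bot, ← e2, e1]
  have hψ := Groth.Agent.Lib.Helper19.Reynolds.key (LinearMap.ker Eop) hW
    (Eop ∘ₗ mulR ∘ₗ (LinearMap.ker Eop).subtype) (fun u => hEfix _)
  have hmem : x - E x ∈ LinearMap.ker Eop := by
    rw [LinearMap.mem_ker, hEop, map_sub, hEE, sub_self]
  have h0 : E ((x - E x) * y) = 0 := LinearMap.congr_fun hψ ⟨x - E x, hmem⟩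
  have h4 : E x * y ∈ GLin.invariants k A R :=
    (GLin.invariants k A R).mul_mem ((h₃ (E x)).mp (hEE x)) hy
  have h5 : E (E x * y) = E x * y := (h₃ _).mpr h4
  rw [sub_mul, map_sub, h5] at h0
  exact sub_eq_zero.mp h0

end Groth.Agent.S12556
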