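import Groth.Statements.S12557
import Groth.Agent.Lib.Helper19.Reynolds
import Groth.Agent.S12555
-- import your own Groth.Agent.* helpers here

set_option autoImplicit false
universe u
open TensorProduct
open GIT

namespace Groth.Agent.S12557

/-- Let k be a field, G = Spec A a linearly reductive affine group (A a commutative Hopf algebra whose
finite-dimensional comodules are all semisimple) acting on the affine scheme Spec R, R_0 ⊆ R the
ring of invariants, and (𝔄_i) a family of ideals of R each stable under the coaction. Then the sum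
of the 𝔄_i meets R_0 in the sum of the intersections 𝔄_i ∩ R_0. -/
theorem result (k : Type u) [Field k] (A : Type u) [CommRing A] [HopfAlgebra k A]
    (hG : HopfRep.IsLinearlyReductive k A)
    (R : Type u) [CommRing R] [Algebra k R] [HopfRep.Comod k A R] [GLin.IsCoactAlg k A R]
    (ι : Type u) (𝔄 : ι → Ideal R) (h𝔄 : ∀ i, HopfRep.IsSubcomod (k := k) (A := A) ((𝔄 i).restrictScalars k)) :
    (⨆ i, (𝔄 i).restrictScalars k) ⊓ Subalgebra.toSubmodule (GLin.invariants k A R) =
      ⨆ i, ((𝔄 i).restrictScalars k ⊓ Subalgebra.toSubmodule (GLin.invariants k A R)) := by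
  apply le_antisymm
  swap
  · exact iSup_le fun i => le_inf (le_iSup_of_le i inf_le_left) inf_le_right
  obtain ⟨E, ⟨h1, h2, h3⟩, -⟩ := Groth.Agent.S12555.result k A hG R
  have hss : IsSemisimpleModule (Groth.Agent.Lib.Helper19.Reynolds.opAlg k A R) R :=
    Groth.Agent.Lib.Helper19.Reynolds.isSemisimpleModule_opAlg hG
  have hEE : ∀ z, E (E z) = E z := fun z => LinearMap.congr_fun h2 z
  have hEfix : ∀ z, E z ∈ Groth.Agent.Lib.Helper19.Reynolds.fixedOp k A R := fun z =>
    (h3 (E z)).mp (hEE z)
  -- `E` preserves each `𝔄 i`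
  have hEN : ∀ i, ∀ a ∈ 𝔄 i, E a ∈ 𝔄 i := fun i a ha =>
    Groth.Agent.Lib.Helper19.Reynolds.reynolds_preserves hss E h1 h2 h3
      ((𝔄 i).restrictScalars k) (h𝔄 i) a ha
  rintro x ⟨hx1, hx2⟩
  have hx3 : E x = x := (h3 x).mpr hx2
  have hall : ∀ z ∈ ⨆ i, (𝔄 i).restrictScalars k, E z ∈
      ⨆ i, ((𝔄 i).restrictScalars k ⊓ Subalgebra.toSubmodule (GLin.invariants k A R)) := by
    intro z hz
    induction hz using Submodule.iSup_induction' with
    | mem i z hz =>
      exact Submodule.mem_iSup_of_mem i ⟨hEN i z hz, hEfix z⟩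
    | zero => rw [map_zero]; exact Submodule.zero_mem _
    | add a b _ _ ha hb => rw [map_add]; exact Submodule.add_mem _ ha hb
  rw [← hx3]
  exact hall x hx1

end Groth.Agent.S12557
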