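import Groth.Statements.S12570
import Groth.Agent.Lib.Helper27.LR2
open Groth.Agent.Lib.Helper27

set_option autoImplicit false
universe u v w
open FunFld

namespace Groth.Agent.S12570

/-- For a place `Q` of a finite separable extension `K'` of a geometric function field of one variable
`K/k`, lying over `P` with ramification index `e`, both places having Laurent expansions over `k` in
local parameters (separable places), and `x` with `dx` of finite order above and below: the
different exponent `d(Q|P)`, computed on `dx`, is `e - 1` if `char K` does not divide `e`, and is `≥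
e` otherwise. (The published statement allows any finite extension along which differentials of `K`
pull back injectively; this row takes `K'` separable over `K`.) -/
theorem result (k : Type u) (K K' : Type v) [Field k] [Field K] [Field K'] [Algebra k K] [Algebra K K'] [Algebra k K']
    [IsScalarTower k K K'] [FiniteDimensional K K'] [Algebra.IsSeparable K K']
    (hK : FunFld.IsFunctionField k K) (hg : FunFld.IsGeometric k K)
    (F F' : Type w) [Field F] [Algebra k F] [Field F'] [Algebra k F']
    (P : FunFld.Place k K) (Q : FunFld.Place k K') (e : ℕ) (he : FunFld.IsOverWith Q P e)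
    (φ : K →ₐ[k] LaurentSeries F) (hφ : LocRes.IsExpansionAt P.1 φ)
    (ψ : K' →ₐ[k] LaurentSeries F') (hψ : LocRes.IsExpansionAt Q.1 ψ)
    (x : K) (hx : LocRes.vDiff φ 1 x ≠ 0) (hx' : LocRes.vDiff ψ 1 (algebraMap K K' x) ≠ 0) :
    (¬ (ringChar K ∣ e) → LocRes.diffExp φ ψ e x = (e : ℤ) - 1) ∧
    (ringChar K ∣ e → (e : ℤ) ≤ LocRes.diffExp φ ψ e x) := by
  obtain ⟨t, ht⟩ := hφ.2.2
  -- the uniformizer below
  have hvt : Valued.v (φ t) = WithZero.exp (-(1 : ℤ)) := by rw [hφ.1 t, ht]
  have hDt : Valued.v (LocRes.D F (φ t)) = WithZero.exp (-((1 : ℤ) - 1)) :=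
    LR.val_D_eq hvt (by simp)
  have hDt1 : Valued.v (LocRes.D F (φ t)) = 1 := by simpa using hDt
  have hDt0 : LocRes.D F (φ t) ≠ 0 := by
    intro h0
    rw [h0, map_zero] at hDt1
    exact zero_ne_one hDt1
  have hDtK : KaehlerDifferential.D k K t ≠ 0 := LR.D_ne_zero_of_map φ hDt0
  obtain ⟨g, hg'⟩ := LR.exists_smul_D hK hg hDtK x
  let ψ' : K →ₐ[k] LaurentSeries F' := ψ.comp (IsScalarTower.toAlgHom k K K')
  have hv : ∀ z : K, LocRes.vDiff ψ' 1 z = LocRes.vDiff ψ 1 (algebraMap K K' z) := fun z => by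
    rw [LR.vDiff_one, LR.vDiff_one]
    rfl
  have ho : ∀ z : K, LocRes.ordDiff ψ' 1 z = LocRes.ordDiff ψ 1 (algebraMap K K' z) := fun z => by
    rw [LR.ordDiff_one, LR.ordDiff_one]
    rfl
  have h1 := LR.ordDiff_of_smul φ hg' hx
  have h2 := LR.ordDiff_of_smul ψ' hg' (by rw [hv]; exact hx')
  rw [ho] at h2
  rw [hφ.1 g] at h1
  have h3 : Valued.v (ψ' g) = P.1 g ^ e := (hψ.1 _).trans (he g)
  rw [h3, WithZero.log_pow] at h2
  have h4 : LocRes.ordDiff φ 1 t = 0 := by
    rw [LR.ordDiff_one, hDt1, WithZero.log_one, neg_zero]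
  have hdiff : LocRes.diffExp φ ψ e x = LocRes.ordDiff ψ' 1 t := by
    unfold LocRes.diffExp
    rw [h1, h2, h4, nsmul_eq_mul]
    ring
  -- the uniformizer above
  have hvt' : Valued.v (ψ' t) = WithZero.exp (-(e : ℤ)) := by
    have : Valued.v (ψ' t) = P.1 t ^ e := (hψ.1 _).trans (he t)
    rw [this, ht, ← WithZero.exp_nsmul]
    simp
  have hDt' : LocRes.D F' (ψ' t) ≠ 0 := by
    intro h0
    have hx'' := hx'
    rw [← hv, LR.vDiff_one, LR.D_map_of_smul ψ' hg', h0, mul_zero, map_zero] at hx''
    exact hx'' rfl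
  have hchar : (ringChar K ∣ e) ↔ ((e : ℤ) : F') = 0 := by
    rw [← ringChar.spec]
    have e1 : ((e : ℤ) : F') = algebraMap k F' (e : k) := by simp
    have e2 : ((e : ℕ) : K) = algebraMap k K (e : k) := by simp
    rw [e1, e2, map_eq_zero, map_eq_zero]
  rw [hdiff, LR.ordDiff_one]
  constructor
  · intro hne
    have hm : ((e : ℤ) : F') ≠ 0 := fun h => hne (hchar.mpr h)
    rw [LR.val_D_eq hvt' hm, WithZero.log_exp]
    ring
  · intro hdvd
    have hm : ((e : ℤ) : F') = 0 := hchar.mp hdvd
    have hle := LR.val_D_le_of_eq_zero hvt'.le hm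
    have hne : Valued.v (LocRes.D F' (ψ' t)) ≠ 0 := by
      rwa [Ne, map_eq_zero]
    have := (WithZero.log_le_log hne WithZero.exp_ne_zero).mpr hle
    rw [WithZero.log_exp] at this
    omega

end Groth.Agent.S12570
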