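import Groth.Statements.S12571
import Groth.Agent.Lib.Helper27.LR2
open Groth.Agent.Lib.Helper27

set_option autoImplicit false
universe u v w
open FunFld

namespace Groth.Agent.S12571

/-- The different exponent `d(Q|P) = v_Q(ω) - e(Q|P) v_P(ω)` of a place `Q` of a finite separable
extension `K'` of a geometric function field of one variable `K/k` over a place `P` does not depend
on the nonzero differential `ω` of `K` used; here `ω = dx` and `ω = dx'`, read through Laurent
expansions at `P` and at `Q` (separable places). (The published statement allows any finite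
extension along which differentials of `K` pull back injectively; this row takes `K'` separable over
`K`.) -/
theorem result (k : Type u) (K K' : Type v) [Field k] [Field K] [Field K'] [Algebra k K] [Algebra K K'] [Algebra k K']
    [IsScalarTower k K K'] [FiniteDimensional K K'] [Algebra.IsSeparable K K']
    (hK : FunFld.IsFunctionField k K) (hg : FunFld.IsGeometric k K)
    (F F' : Type w) [Field F] [Algebra k F] [Field F'] [Algebra k F']
    (P : FunFld.Place k K) (Q : FunFld.Place k K') (e : ℕ) (he : FunFld.IsOverWith Q P e)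
    (φ : K →ₐ[k] LaurentSeries F) (hφ : LocRes.IsExpansionAt P.1 φ)
    (ψ : K' →ₐ[k] LaurentSeries F') (hψ : LocRes.IsExpansionAt Q.1 ψ)
    (x : K) (hx : LocRes.vDiff φ 1 x ≠ 0) (hx' : LocRes.vDiff ψ 1 (algebraMap K K' x) ≠ 0)
    (x' : K) (hx2 : LocRes.vDiff φ 1 x' ≠ 0) (hx2' : LocRes.vDiff ψ 1 (algebraMap K K' x') ≠ 0) :
    LocRes.diffExp φ ψ e x = LocRes.diffExp φ ψ e x' := by
  have hDx : KaehlerDifferential.D k K x ≠ 0 := by
    apply LR.D_ne_zero_of_map φ
    intro h0
    apply hx
    rw [LR.vDiff_one, h0, map_zero]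
  obtain ⟨g, hg'⟩ := LR.exists_smul_D hK hg hDx x'
  let ψ' : K →ₐ[k] LaurentSeries F' := ψ.comp (IsScalarTower.toAlgHom k K K')
  have hv : ∀ z : K, LocRes.vDiff ψ' 1 z = LocRes.vDiff ψ 1 (algebraMap K K' z) := fun z => by
    rw [LR.vDiff_one, LR.vDiff_one]
    rfl
  have ho : ∀ z : K, LocRes.ordDiff ψ' 1 z = LocRes.ordDiff ψ 1 (algebraMap K K' z) := fun z => by
    rw [LR.ordDiff_one, LR.ordDiff_one]
    rfl
  have h1 := LR.ordDiff_of_smul φ hg' hx2
  have h2 := LR.ordDiff_of_smul ψ' hg' (by rw [hv]; exact hx2')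
  rw [ho, ho] at h2
  rw [hφ.1 g] at h1
  have h3 : Valued.v (ψ' g) = P.1 g ^ e := (hψ.1 _).trans (he g)
  rw [h3, WithZero.log_pow] at h2
  unfold LocRes.diffExp
  rw [h1, h2, nsmul_eq_mul]
  ring

end Groth.Agent.S12571
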