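import Groth.Statements.S12575
import Groth.Agent.Lib.Helper27.Tate23
open Groth.Agent.Lib.Helper27

set_option autoImplicit false
universe u v w
open FunFld

namespace Groth.Agent.S12575

/-- Let `Q` be a place of a finite separable extension `K' = K(y)` of a geometric function field of one
variable `K/k`, over `P` with ramification index `e` and residue degree `1`, both with Laurent
expansions over `k` in local parameters, with `y` integral over `O_P` and `g` its minimal polynomial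
over `K`. Then `v_Q(g'(y)) ≥ d(Q|P)`, and when equality holds `O_Q` is the localisation of `O_P[y]`
at `Q`. -/
theorem result (k : Type u) (K K' : Type v) [Field k] [Field K] [Field K'] [Algebra k K] [Algebra K K'] [Algebra k K']
    [IsScalarTower k K K'] [FiniteDimensional K K'] [Algebra.IsSeparable K K']
    (hK : FunFld.IsFunctionField k K) (hg : FunFld.IsGeometric k K)
    (F F' : Type w) [Field F] [Algebra k F] [Field F'] [Algebra k F']
    (P : FunFld.Place k K) (Q : FunFld.Place k K') (e : ℕ) (he : FunFld.IsOverWith Q P e)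
    (φ : K →ₐ[k] LaurentSeries F) (hφ : LocRes.IsExpansionAt P.1 φ)
    (ψ : K' →ₐ[k] LaurentSeries F') (hψ : LocRes.IsExpansionAt Q.1 ψ)
    (x : K) (hx : LocRes.vDiff φ 1 x ≠ 0) (hx' : LocRes.vDiff ψ 1 (algebraMap K K' x) ≠ 0)
    [P.1.HasExtension Q.1]
    (hf : Function.Surjective (algebraMap (IsLocalRing.ResidueField P.O) (IsLocalRing.ResidueField Q.O)))
    [Algebra P.O K'] [IsScalarTower P.O K K']
    (y : K') (hy : IntermediateField.adjoin K ({y} : Set K') = ⊤) (hyi : IsIntegral P.O y) :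
    LocRes.diffExp φ ψ e x ≤ Q.ord (Polynomial.aeval y (Polynomial.derivative (minpoly K y))) ∧
    (Q.ord (Polynomial.aeval y (Polynomial.derivative (minpoly K y))) = LocRes.diffExp φ ψ e x →
      ∀ z : K', Q.1 z ≤ 1 → ∃ a ∈ Algebra.adjoin P.O ({y} : Set K'), ∃ b ∈ Algebra.adjoin P.O ({y} : Set K'),
        Q.1 b = 1 ∧ z * b = a) := by
  classical
  have hK' : Tate.WeakFF k K' := Tate.WeakFF.of_finite hK
  haveI : FiniteDimensional k F := Tate.finiteDimensional_coeffField hK hφ
  haveI : FiniteDimensional k F' := Tate.finiteDimensional_coeffField_of_res (hK'.finDimRes Q) hψ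
  have hint : ∀ z : K', IsIntegral P.O z ↔ ∀ Q' : FunFld.Place k K', FunFld.IsOver Q' P → Q'.1 z ≤ 1 :=
    Tate.isIntegral_iff_forall_over hK hK' P
  obtain ⟨hfin, -⟩ := FF.sum_ramIdx_mul_deg (K' := K') hK P
  set Qs : Finset (FunFld.Place k K') := hfin.toFinset with hQsdef
  have hQs : ∀ Q', Q' ∈ Qs ↔ FunFld.IsOver Q' P := fun Q' => hfin.mem_toFinset
  have hQQs : Q ∈ Qs := (hQs Q).mpr ⟨e, he⟩
  set d := LocRes.diffExp φ ψ e x with hd
  set G := Polynomial.aeval y (Polynomial.derivative (minpoly K y)) with hG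
  have hG0 : G ≠ 0 := Tate.aeval_derivative_minpoly_ne_zero y
  have hQG0 : Q.1 G ≠ 0 := by rwa [ne_eq, map_eq_zero]
  have hyR : ∀ Q' : FunFld.Place k K', FunFld.IsOver Q' P → Q'.1 y ≤ 1 := (hint y).mp hyi
  have key : ∀ w : K', Q.1 w ≤ WithZero.exp d →
      (∀ Q' : FunFld.Place k K', FunFld.IsOver Q' P → Q' ≠ Q → Q'.1 w ≤ 1) →
      G * w ∈ Algebra.adjoin P.O ({y} : Set K') := by
    intro w hwQ hw'
    apply Tate.deriv_mul_mem_adjoin P y hy hyi w
    intro i
    exact Tate.dual_mem hK hg hK' P Q e he φ hφ ψ hψ x hx hx' w hwQ hw' (y ^ i)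
      (fun Q' hQ' => by rw [map_pow]; exact pow_le_one' (hyR Q' hQ') i)
  have hadj : ∀ a ∈ Algebra.adjoin P.O ({y} : Set K'), Q.1 a ≤ 1 := by
    intro a ha
    have h1 : IsIntegral P.O a := adjoin_le_integralClosure hyi ha
    exact (hint a).mp h1 Q ⟨e, he⟩
  constructor
  · obtain ⟨y₀, hy₀Q, hy₀'⟩ := Tate.exists_val_eq_of_others_le Qs hQQs d
    have h1 := hadj _ (key y₀ hy₀Q.le (fun Q' hQ' hne => hy₀' Q' ((hQs Q').mpr hQ') hne))
    rw [map_mul, hy₀Q] at h1
    have h2 : Q.1 G ≤ WithZero.exp (-d) := by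
      calc Q.1 G = Q.1 G * WithZero.exp d * WithZero.exp (-d) := by
            rw [mul_assoc, ← WithZero.exp_add, add_neg_cancel, WithZero.exp_zero, mul_one]
        _ ≤ 1 * WithZero.exp (-d) := mul_le_mul' h1 le_rfl
        _ = WithZero.exp (-d) := one_mul _
    rw [← WithZero.log_le_iff_le_exp hQG0] at h2
    show d ≤ -WithZero.log (Q.1 G)
    omega
  · intro heq z hz
    have hQG : Q.1 G = WithZero.exp (-d) := by
      have h1 : -WithZero.log (Q.1 G) = d := heq
      rw [← WithZero.exp_log hQG0]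
      congr 1
      omega
    have hQGinv : Q.1 G⁻¹ = WithZero.exp d := by
      rw [map_inv₀, hQG, ← WithZero.exp_neg, neg_neg]
    choose mQ hmQ using fun Q' : FunFld.Place k K' =>
      Groth.Agent.Lib.Helper23.FF.exists_nat_le_exp (Q'.1 z)
    set N : ℕ := (-d).toNat + 1 + ∑ Q' ∈ Qs, mQ Q' with hN
    have hNQ : ∀ Q' ∈ Qs, mQ Q' ≤ N := by
      intro Q' hQ'
      have := Finset.single_le_sum (f := mQ) (fun i _ => Nat.zero_le _) hQ'
      omega
    obtain ⟨w, hw⟩ := Groth.Agent.Lib.Helper23.FF.weak_approx (fun i : ↥Qs => i.1)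
      Subtype.val_injective (fun i : ↥Qs => if i.1 = Q then G⁻¹ else 0) N
    have hwQ : Q.1 w = WithZero.exp d := by
      have h1 := hw ⟨Q, hQQs⟩
      simp only [if_true] at h1
      have h2 : Q.1 (w - G⁻¹) < Q.1 G⁻¹ := by
        refine h1.trans_lt ?_
        rw [hQGinv, WithZero.exp_lt_exp]
        omega
      have h3 : w = G⁻¹ + (w - G⁻¹) := by ring
      rw [h3, Valuation.map_add_eq_of_lt_left _ h2, hQGinv]
    have hwQ' : ∀ Q' ∈ Qs, Q' ≠ Q → Q'.1 w ≤ WithZero.exp (-(N : ℤ)) := by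
      intro Q' hQ' hne
      have h1 := hw ⟨Q', hQ'⟩
      simp only [if_neg hne, sub_zero] at h1
      exact h1
    have hexpN : WithZero.exp (-(N : ℤ)) ≤ 1 := by
      rw [← WithZero.exp_zero, WithZero.exp_le_exp]; omega
    refine ⟨G * (z * w), key (z * w) ?_ ?_, G * w, key w hwQ.le ?_, ?_, by ring⟩
    · rw [map_mul, hwQ]
      exact (mul_le_mul' hz le_rfl).trans_eq (one_mul _)
    · intro Q' hQ' hne
      rw [map_mul]
      have h1 := hmQ Q'
      have h2 := hwQ' Q' ((hQs Q').mpr hQ') hne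
      have h3 := hNQ Q' ((hQs Q').mpr hQ')
      calc Q'.1 z * Q'.1 w ≤ WithZero.exp (mQ Q' : ℤ) * WithZero.exp (-(N : ℤ)) := mul_le_mul' h1 h2
        _ ≤ 1 := by
          rw [← WithZero.exp_add, ← WithZero.exp_zero, WithZero.exp_le_exp]; omega
    · intro Q' hQ' hne
      exact (hwQ' Q' ((hQs Q').mpr hQ') hne).trans hexpN
    · rw [map_mul, hQG, hwQ, ← WithZero.exp_add, neg_add_cancel, WithZero.exp_zero]

end Groth.Agent.S12575
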