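import Groth.Statements.S12572
import Groth.Agent.Lib.Helper27.Tate26
import Groth.Agent.S12575
open Groth.Agent.Lib.Helper27

set_option autoImplicit false
universe u v w
open FunFld

namespace Groth.Agent.S12572

/-- Let `Q` be a place of a finite separable extension `K'` of a geometric function field of one
variable `K/k`, over `P` with ramification index `e` and residue degree `1`, both places with
Laurent expansions over `k` in local parameters; if `s` with `v_Q(s) = 1` is a unit at every other
place of `K'` above `P`, then `K'` is generated over `K` by `s`, and `d(Q|P) = v_Q(f'(s))` for the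
minimal polynomial `f` of `s` over `K` (the different exponent computed on `dx`). -/
theorem result (k : Type u) (K K' : Type v) [Field k] [Field K] [Field K'] [Algebra k K] [Algebra K K'] [Algebra k K']
    [IsScalarTower k K K'] [FiniteDimensional K K'] [Algebra.IsSeparable K K']
    (hK : FunFld.IsFunctionField k K) (hg : FunFld.IsGeometric k K)
    (F F' : Type w) [Field F] [Algebra k F] [Field F'] [Algebra k F']
    (P : FunFld.Place k K) (Q : FunFld.Place k K') (e : ℕ) (he : FunFld.IsOverWith Q P e)
    (φ : K →ₐ[k] LaurentSeries F) (hφ : LocRes.IsExpansionAt P.1 φ)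
    (ψ : K' →ₐ[k] LaurentSeries F') (hψ : LocRes.IsExpansionAt Q.1 ψ)
    (x : K) (hx : LocRes.vDiff φ 1 x ≠ 0) (hx' : LocRes.vDiff ψ 1 (algebraMap K K' x) ≠ 0)
    [P.1.HasExtension Q.1]
    (hf : Function.Surjective (algebraMap (IsLocalRing.ResidueField P.O) (IsLocalRing.ResidueField Q.O)))
    (s : K') (hs : Q.1 s = WithZero.exp (-1))
    (hs' : ∀ Q' : FunFld.Place k K', FunFld.IsOver Q' P → Q' ≠ Q → Q'.1 s = 1) :
    IntermediateField.adjoin K ({s} : Set K') = ⊤ ∧
    Q.ord (Polynomial.aeval s (Polynomial.derivative (minpoly K s))) = LocRes.diffExp φ ψ e x := by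
  classical
  have hK' : Tate.WeakFF k K' := Tate.WeakFF.of_finite hK
  haveI : FiniteDimensional k F := Tate.finiteDimensional_coeffField hK hφ
  haveI : FiniteDimensional k F' := Tate.finiteDimensional_coeffField_of_res (hK'.finDimRes Q) hψ
  haveI : Algebra.IsSeparable k F := Tate.isSeparable_coeffField hK hg hφ
  have hrd : ∀ z' : K', Q.1 z' ≤ 1 → ∃ z : K, P.1 z ≤ 1 ∧ Q.1 (z' - algebraMap K K' z) < 1 :=
    fun z' hz' => Tate.exists_approx_of_residue_surjective P Q hf hz'
  haveI : Algebra.IsSeparable k F' := Tate.isSeparable_coeffField_of_residue_surjective P Q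
    (fun z hz => (FF.isOverWith_val_le_one_iff he z).mpr hz)
    (fun z hz => (FF.isOverWith_val_lt_one_iff he z).mpr hz) hrd hφ hψ
  have htop := Tate.adjoin_eq_top_of_uniformizer hK hg hK' P Q e he φ hφ ψ hψ x hx hx' hrd s hs hs'
  refine ⟨htop, ?_⟩
  have hle := Tate.val_inv_derivative_le hK hg hK' P Q e he φ hφ ψ hψ x hx hx' hrd s hs hs'
  letI := Tate.algOK' (K' := K') P
  haveI : IsScalarTower P.O K K' := IsScalarTower.of_algebraMap_eq (fun _ => rfl)
  have hsR : ∀ Q' : FunFld.Place k K', FunFld.IsOver Q' P → Q'.1 s ≤ 1 := by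
    intro Q' hQ'
    by_cases h : Q' = Q
    · rw [h, hs, ← WithZero.exp_zero, WithZero.exp_le_exp]; norm_num
    · exact (hs' Q' hQ' h).le
  have hsi : IsIntegral P.O s := Tate.isIntegral_of_forall_over hK hK' P hsR
  have hge := (Groth.Agent.S12575.result k K K' hK hg F F' P Q e he φ hφ ψ hψ x hx hx' hf
    s htop hsi).1
  apply le_antisymm _ hge
  set G := Polynomial.aeval s (Polynomial.derivative (minpoly K s)) with hG
  have hG0 : G ≠ 0 := Tate.aeval_derivative_minpoly_ne_zero s
  have hQG0 : Q.1 G ≠ 0 := by rwa [ne_eq, map_eq_zero]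
  rw [map_inv₀, ← WithZero.exp_log hQG0, ← WithZero.exp_neg, WithZero.exp_le_exp] at hle
  show -WithZero.log (Q.1 G) ≤ _
  exact hle

end Groth.Agent.S12572
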