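import Groth.Statements.S12574
import Groth.Agent.Lib.Helper27.Tate22
open Groth.Agent.Lib.Helper27

set_option autoImplicit false
universe u v w
open FunFld

namespace Groth.Agent.S12574

/-- Let `Q` be a place of a finite separable extension `K'` of a geometric function field of one
variable `K/k`, over `P` with ramification index `e` and residue degree `1`, both with Laurent
expansions over `k` in local parameters, and let `R^*` be the dual, under the trace form of `K'/K`,
of the integral closure of `O_P` in `K'`. Then `min_{y ∈ R^*} v_Q(y) = -d(Q|P)`: in multiplicative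
notation every `y ∈ R^*` has `v_Q(y) ≤ exp d(Q|P)` and equality is attained. -/
theorem result (k : Type u) (K K' : Type v) [Field k] [Field K] [Field K'] [Algebra k K] [Algebra K K'] [Algebra k K']
    [IsScalarTower k K K'] [FiniteDimensional K K'] [Algebra.IsSeparable K K']
    (hK : FunFld.IsFunctionField k K) (hg : FunFld.IsGeometric k K)
    (F F' : Type w) [Field F] [Algebra k F] [Field F'] [Algebra k F']
    (P : FunFld.Place k K) (Q : FunFld.Place k K') (e : ℕ) (he : FunFld.IsOverWith Q P e)
    (φ : K →ₐ[k] LaurentSeries F) (hφ : LocRes.IsExpansionAt P.1 φ)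
    (ψ : K' →ₐ[k] LaurentSeries F') (hψ : LocRes.IsExpansionAt Q.1 ψ)
    (x : K) (hx : LocRes.vDiff φ 1 x ≠ 0) (hx' : LocRes.vDiff ψ 1 (algebraMap K K' x) ≠ 0)
    [P.1.HasExtension Q.1]
    (hf : Function.Surjective (algebraMap (IsLocalRing.ResidueField P.O) (IsLocalRing.ResidueField Q.O)))
    [Algebra P.O K'] [IsScalarTower P.O K K'] :
    (∀ y : K', (∀ z : K', IsIntegral P.O z → P.1 (Algebra.trace K K' (y * z)) ≤ 1) →
      Q.1 y ≤ WithZero.exp (LocRes.diffExp φ ψ e x)) ∧
    ∃ y : K', (∀ z : K', IsIntegral P.O z → P.1 (Algebra.trace K K' (y * z)) ≤ 1) ∧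
      Q.1 y = WithZero.exp (LocRes.diffExp φ ψ e x) := by
  classical
  have hK' : Tate.WeakFF k K' := Tate.WeakFF.of_finite hK
  haveI : FiniteDimensional k F := Tate.finiteDimensional_coeffField hK hφ
  haveI : FiniteDimensional k F' := Tate.finiteDimensional_coeffField_of_res (hK'.finDimRes Q) hψ
  haveI : Algebra.IsSeparable k F := Tate.isSeparable_coeffField hK hg hφ
  haveI : Algebra.IsSeparable k F' := Tate.isSeparable_coeffField_of_residue_surjective P Q
    (fun z hz => (FF.isOverWith_val_le_one_iff he z).mpr hz)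
    (fun z hz => (FF.isOverWith_val_lt_one_iff he z).mpr hz)
    (fun z' hz' => Tate.exists_approx_of_residue_surjective P Q hf hz') hφ hψ
  have hint : ∀ z : K', IsIntegral P.O z ↔ ∀ Q' : FunFld.Place k K', FunFld.IsOver Q' P → Q'.1 z ≤ 1 :=
    Tate.isIntegral_iff_forall_over hK hK' P
  obtain ⟨hfin, -⟩ := FF.sum_ramIdx_mul_deg (K' := K') hK P
  constructor
  · intro y hy
    exact Tate.dual_le hK hg hK' P Q e he φ hφ ψ hψ x hx hx' y
      (fun z hz => hy z ((hint z).mpr hz))
  · obtain ⟨y, hyQ, hy'⟩ := Tate.exists_val_eq_of_others_le hfin.toFinset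
      (Q := Q) (hfin.mem_toFinset.mpr ⟨e, he⟩) (LocRes.diffExp φ ψ e x)
    refine ⟨y, fun z hz => ?_, hyQ⟩
    exact Tate.dual_mem hK hg hK' P Q e he φ hφ ψ hψ x hx hx' y hyQ.le
      (fun Q' hQ' hne => hy' Q' (hfin.mem_toFinset.mpr hQ') hne) z ((hint z).mp hz)

end Groth.Agent.S12574
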