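import Groth.Statements.S12576
import Groth.Agent.Lib.Helper27.RH1
import Groth.Agent.Lib.Helper27.RH2
import Groth.Agent.Lib.Helper27.Tate18
import Groth.Agent.Lib.Helper27.Hyper3
import Groth.Agent.Lib.Helper27.FFExt4
import Groth.Agent.Lib.Helper27.FunFld6
import Groth.Agent.Lib.Helper23.TateW4
open Groth.Agent.Lib.Helper27

set_option autoImplicit false
universe u v w
open FunFld

namespace Groth.Agent.S12576

/-- For a geometric function field of one variable `K/k` and a finite separable extension `K'` with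
constant field `k'`, `[k':k] (2g_{K'} - 2) = [K':K] (2g_K - 2) + [k':k] deg 𝒟_{K'/K}`, the degree of
the different being `∑_Q d(Q|P) deg_{k'} Q`; stated, cleared of denominators, through Laurent
expansions at every place of `K` over `k` and of `K'` over `k'` (all places separable) with the
different exponents computed on `dx`. (The published statement allows any finite extension along
which differentials pull back injectively; this row takes `K'` separable over `K`.) -/
theorem result (k k' : Type u) (K K' : Type v) [Field k] [Field k'] [Field K] [Field K']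
    [Algebra k k'] [Algebra k K] [Algebra K K'] [Algebra k' K'] [Algebra k K']
    [IsScalarTower k k' K'] [IsScalarTower k K K'] [FiniteDimensional k k'] [FiniteDimensional K K']
    [Algebra.IsSeparable K K']
    (hK : FunFld.IsFunctionField k K) (hg : FunFld.IsGeometric k K) (hK' : FunFld.IsFunctionField k' K')
    (F : FunFld.Place k K → Type w) [∀ P, Field (F P)] [∀ P, Algebra k (F P)]
    (φ : ∀ P, K →ₐ[k] LaurentSeries (F P)) (hφ : ∀ P, LocRes.IsExpansionAt P.1 (φ P))
    (F' : FunFld.Place k' K' → Type w) [∀ Q, Field (F' Q)] [∀ Q, Algebra k' (F' Q)]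
    (ψ : ∀ Q, K' →ₐ[k'] LaurentSeries (F' Q)) (hψ : ∀ Q, LocRes.IsExpansionAt Q.1 (ψ Q))
    (below : FunFld.Place k' K' → FunFld.Place k K) (e : FunFld.Place k' K' → ℕ)
    (he : ∀ Q (z : K), Q.1 (algebraMap K K' z) = (below Q).1 z ^ e Q)
    (x : K) (hx : ∀ P, LocRes.vDiff (φ P) 1 x ≠ 0) (hx' : ∀ Q, LocRes.vDiff (ψ Q) 1 (algebraMap K K' x) ≠ 0) :
    (Function.support fun Q => LocRes.diffExp (φ (below Q)) (ψ Q) (e Q) x).Finite ∧
    (Module.finrank k k' : ℤ) * (2 * (FunFld.genus k' K' : ℤ) - 2) =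
      (Module.finrank K K' : ℤ) * (2 * (FunFld.genus k K : ℤ) - 2) +
      (Module.finrank k k' : ℤ) * ∑ᶠ Q, LocRes.diffExp (φ (below Q)) (ψ Q) (e Q) x * (Q.deg : ℤ) := by
  classical
  have C := FF.core_of hK
  have C' := FF.core_of hK'
  haveI : ∀ P, FiniteDimensional k (F P) := fun P => Tate.finiteDimensional_coeffField hK (hφ P)
  haveI : ∀ Q, FiniteDimensional k' (F' Q) := fun Q => Tate.finiteDimensional_coeffField hK' (hψ Q)
  obtain ⟨P₀⟩ := C.exists_place
  obtain ⟨Q₀⟩ := C'.exists_place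
  have hDx : KaehlerDifferential.D k K x ≠ 0 := by
    apply LR.D_ne_zero_of_map (φ P₀)
    have := hx P₀
    rw [LR.vDiff_one, ne_eq, map_eq_zero] at this
    exact this
  have hDx' : KaehlerDifferential.D k' K' (algebraMap K K' x) ≠ 0 := by
    apply LR.D_ne_zero_of_map (ψ Q₀)
    have := hx' Q₀
    rw [LR.vDiff_one, ne_eq, map_eq_zero] at this
    exact this
  have hgen : ∀ a : K, ∃ g : K, KaehlerDifferential.D k K a = g • KaehlerDifferential.D k K x :=
    LR.exists_smul_D hK hg hDx
  have h1' : Module.finrank K' (Ω[K'⁄k']) = 1 := RH.finrank_kaehler_top (k := k) hgen hDx'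
  have hne' : ∀ Q, ∃ y : K', LocRes.locRes (ψ Q) y (algebraMap K K' x) ≠ 0 :=
    fun Q => Tate.exists_locRes_ne_zero' h1' (hψ Q) hDx'
  obtain ⟨-, hne0', hfin', hdiv'⟩ :=
    Groth.Agent.Lib.Helper23.Tate.weil_of_residues C' F' ψ hψ 1 (algebraMap K K' x) one_ne_zero hne'
  set W' : FunFld.Divisor k' K' := Finsupp.ofSupportFinite _ hfin' with hW'def
  have hW'Q : ∀ Q, W' Q = LocRes.ordDiff (ψ Q) 1 (algebraMap K K' x) := fun Q => rfl
  have hcan' : FunFld.IsCanonical k' K' W' := ⟨_, hne0', hdiv' W' hW'Q⟩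
  have hdegW' := C'.deg_canonical hcan'
  obtain ⟨W, hWP, hcan, -⟩ := Groth.Agent.Lib.Helper23.Tate.exists_canonical_of_expansions hK hg
    F φ hφ 1 x one_ne_zero hDx
  have hdegW := C.deg_canonical hcan
  set E₀ : FunFld.Divisor k K' := FunFld.conorm K' W with hE₀
  set E : FunFld.Divisor k' K' := RH.upDiv E₀ with hE
  have hEQ : ∀ Q, E Q = W (below Q) * (e Q : ℤ) := by
    intro Q
    rw [hE, RH.upDiv_apply, hE₀]
    exact Hyper.conorm_apply_of_isOverWith hK W (Q := RH.downPlace Q) (P := below Q) (he Q)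
  set Df : FunFld.Divisor k' K' := W' - E with hDf
  have hDfQ : ∀ Q, Df Q = LocRes.diffExp (φ (below Q)) (ψ Q) (e Q) x := by
    intro Q
    rw [hDf, Finsupp.sub_apply, hW'Q, hEQ, hWP]
    unfold LocRes.diffExp
    ring
  have hfun : (fun Q => LocRes.diffExp (φ (below Q)) (ψ Q) (e Q) x) = ⇑Df :=
    funext (fun Q => (hDfQ Q).symm)
  have hsum : ∑ᶠ Q, LocRes.diffExp (φ (below Q)) (ψ Q) (e Q) x * (Q.deg : ℤ) = Df.deg := by
    unfold FunFld.Divisor.deg Finsupp.sum
    rw [finsum_eq_sum_of_support_subset]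
    · exact Finset.sum_congr rfl (fun Q _ => by rw [hDfQ])
    · intro Q hQ
      rw [Function.mem_support] at hQ
      rw [Finset.mem_coe, Finsupp.mem_support_iff, hDfQ]
      intro h0
      apply hQ
      rw [h0, zero_mul]
  refine ⟨?_, ?_⟩
  · rw [hfun, Finsupp.fun_support_eq]
    exact Finset.finite_toSet _
  · have h1 : (Module.finrank k k' : ℤ) * E.deg = E₀.deg := RH.deg_upDiv E₀
    have h2 : E₀.deg = Module.finrank K K' * W.deg := FF.deg_conorm hK W
    have h3 : (Module.finrank k k' : ℤ) * E.deg =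
        Module.finrank K K' * (2 * (FunFld.genus k K : ℤ) - 2) := by rw [h1, h2, hdegW]
    rw [hsum, hDf, FF.deg_sub, hdegW']
    linear_combination h3

end Groth.Agent.S12576
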