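import Groth.Statements.S12577
import Groth.Agent.Lib.Helper27.Hilb4
import Groth.Agent.Lib.Helper27.Hilb5
import Groth.Agent.Lib.Helper27.Tate27
import Groth.Agent.Lib.Helper27.RH1
open Groth.Agent.Lib.Helper27

set_option autoImplicit false
universe u v w
open FunFld

namespace Groth.Agent.S12577

/-- For a place `Q` of a finite Galois extension `K'` of a geometric function field of one variable
`K/k`, lying over `P` with ramification index `e`, both places with Laurent expansions over `k` in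
local parameters (separable places), the different exponent is `d(Q|P) = ∑_{i ≥ 1} (|G_i| - 1)`,
where `G_i` is the `i`-th ramification group (automorphisms moving every element of `O_Q` by
something of valuation at least `i`); `d(Q|P)` is computed on `dx`. -/
theorem result (k : Type u) (K K' : Type v) [Field k] [Field K] [Field K'] [Algebra k K] [Algebra K K'] [Algebra k K']
    [IsScalarTower k K K'] [FiniteDimensional K K'] (hK : FunFld.IsFunctionField k K) (hg : FunFld.IsGeometric k K)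
    [IsGalois K K']
    (F F' : Type w) [Field F] [Algebra k F] [Field F'] [Algebra k F']
    (P : FunFld.Place k K) (Q : FunFld.Place k K') (e : ℕ) (he : FunFld.IsOverWith Q P e)
    (φ : K →ₐ[k] LaurentSeries F) (hφ : LocRes.IsExpansionAt P.1 φ)
    (ψ : K' →ₐ[k] LaurentSeries F') (hψ : LocRes.IsExpansionAt Q.1 ψ)
    (x : K) (hx : LocRes.vDiff φ 1 x ≠ 0) (hx' : LocRes.vDiff ψ 1 (algebraMap K K' x) ≠ 0) :
    (Function.support fun i : ℕ => (Nat.card {σ : K' ≃ₐ[K] K' //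
        ∀ z : K', Q.1 z ≤ 1 → Q.1 (σ z - z) ≤ WithZero.exp (-(i : ℤ))} : ℤ) - 1).Finite ∧
    LocRes.diffExp φ ψ e x = ∑ᶠ i : ℕ, if 1 ≤ i then
      (Nat.card {σ : K' ≃ₐ[K] K' // ∀ z : K', Q.1 z ≤ 1 → Q.1 (σ z - z) ≤ WithZero.exp (-(i : ℤ))} : ℤ) - 1
      else 0 := by
  classical
  have hK' : Tate.WeakFF k K' := Tate.WeakFF.of_finite hK
  haveI : FiniteDimensional k F := Tate.finiteDimensional_coeffField hK hφ
  haveI : FiniteDimensional k F' := Tate.finiteDimensional_coeffField_of_res (hK'.finDimRes Q) hψ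
  have hDx : KaehlerDifferential.D k K x ≠ 0 := by
    apply LR.D_ne_zero_of_map φ
    have := hx
    rw [LR.vDiff_one, ne_eq, map_eq_zero] at this
    exact this
  have hDx' : KaehlerDifferential.D k K' (algebraMap K K' x) ≠ 0 := by
    apply LR.D_ne_zero_of_map ψ
    have := hx'
    rw [LR.vDiff_one, ne_eq, map_eq_zero] at this
    exact this
  have hgen : ∀ a : K, ∃ g : K, KaehlerDifferential.D k K a = g • KaehlerDifferential.D k K x :=
    LR.exists_smul_D hK hg hDx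
  have h1' : Module.finrank K' (Ω[K'⁄k]) = 1 := RH.finrank_kaehler_top (k := k) (k' := k) hgen hDx'
  haveI : Algebra.IsSeparable k F' := Tate.isSeparable_coeffField' h1' hψ
  -- the places over `P`
  obtain ⟨hfin, -⟩ := FF.sum_ramIdx_mul_deg (K' := K') hK P
  have hQmem : Q ∈ hfin.toFinset := hfin.mem_toFinset.mpr ⟨e, he⟩
  -- a local generator, small at the other places over `P`
  obtain ⟨y₁, hy₁, hloc⟩ := Hilb.exists_local_generator hψ
  obtain ⟨y, hy⟩ := Groth.Agent.Lib.Helper23.FF.weak_approx (fun i : ↥hfin.toFinset => i.1)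
    Subtype.val_injective (fun i : ↥hfin.toFinset => if i.1 = Q then y₁ else 0) 2
  have hyQ1 : Q.1 (y - y₁) ≤ WithZero.exp (-2) := by
    have := hy ⟨Q, hQmem⟩
    simpa using this
  have hyQ' : ∀ Q' : FunFld.Place k K', FunFld.IsOver Q' P → Q' ≠ Q → Q'.1 y < 1 := by
    intro Q' hQ' hne
    have := hy ⟨Q', hfin.mem_toFinset.mpr hQ'⟩
    simp only [if_neg hne, sub_zero] at this
    refine lt_of_le_of_lt this ?_
    rw [← WithZero.exp_zero, WithZero.exp_lt_exp]; norm_num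
  obtain ⟨hyunit, hres, m, hm⟩ := hloc y hyQ1
  have hyR : ∀ Q' : FunFld.Place k K', FunFld.IsOver Q' P → Q'.1 y ≤ 1 := by
    intro Q' hQ'
    by_cases hne : Q' = Q
    · rw [hne, hyunit]
    · exact (hyQ' Q' hQ' hne).le
  set R : Subalgebra k K' := Algebra.adjoin k ({y} : Set K') with hR
  have hyRmem : y ∈ R := Algebra.self_mem_adjoin_singleton k y
  have hRval : ∀ Q' : FunFld.Place k K', Q'.1 y ≤ 1 → ∀ r ∈ R, Q'.1 r ≤ 1 := by
    intro Q' hQ'y r hr
    rw [hR, Algebra.adjoin_singleton_eq_range_aeval] at hr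
    obtain ⟨g, rfl⟩ := hr
    exact Groth.Agent.Lib.Helper23.FF.val_aeval_le_one Q'.1 (fun c => Q'.2.1 c) hQ'y g
  have hdense : ∀ z₀ : K', Q.1 z₀ ≤ 1 → ∀ N : ℕ, ∃ r ∈ R, Q.1 (r - z₀) ≤ WithZero.exp (-(N : ℤ)) := by
    intro z₀ hz₀ N
    refine Hilb.dense_of_residue_unif R Q ?_ (τ := Polynomial.aeval y m) ?_ hm z₀ hz₀ N
    · intro z hz
      obtain ⟨g, hg⟩ := hres z hz
      refine ⟨Polynomial.aeval y g, ?_, hg⟩
      rw [hR, Algebra.adjoin_singleton_eq_range_aeval]; exact ⟨g, rfl⟩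
    · rw [hR, Algebra.adjoin_singleton_eq_range_aeval]; exact ⟨m, rfl⟩
  set Qs : Finset (FunFld.Place k K') := hfin.toFinset.erase Q with hQs
  have hQsmem : ∀ Q', Q' ∈ Qs ↔ FunFld.IsOver Q' P ∧ Q' ≠ Q := by
    intro Q'
    rw [hQs, Finset.mem_erase, Set.Finite.mem_toFinset]
    exact ⟨fun h => ⟨h.2, h.1⟩, fun h => ⟨h.2, h.1⟩⟩
  have happrox : ∀ z₀ : K', Q.1 z₀ ≤ 1 → ∀ N : ℕ, ∃ r ∈ R,
      Q.1 (r - z₀) ≤ WithZero.exp (-(N : ℤ)) ∧ ∀ Q' ∈ Qs, Q'.1 r ≤ WithZero.exp (-(N : ℤ)) := by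
    intro z₀ hz₀ N
    refine Hilb.approx_with_control R Q (hRval Q hyunit.le) hdense hyRmem hyunit Qs ?_ hz₀ N
    intro Q' hQ'
    obtain ⟨h1, h2⟩ := (hQsmem Q').mp hQ'
    exact ⟨hyQ' Q' h1 h2, hRval Q' (hyQ' Q' h1 h2).le⟩
  -- automorphisms
  have hact : ∀ σ : K' ≃ₐ[K] K', FF.actP (k := k) σ Q ≠ Q → Q.1 (σ y) < 1 := by
    intro σ hne
    have h1 : FunFld.IsOver (FF.actP (k := k) σ Q) P := ⟨e, FF.isOverWith_actP he σ⟩
    have := hyQ' _ h1 hne
    rwa [FF.actP_apply] at this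
  have hmoves : ∀ (σ : K' ≃ₐ[K] K') (i : ℕ), 1 ≤ i → Q.1 (σ y - y) ≤ WithZero.exp (-(i : ℤ)) →
      ∀ z : K', Q.1 z ≤ 1 → Q.1 (σ z - z) ≤ WithZero.exp (-(i : ℤ)) :=
    fun σ i hi h => Hilb.moves_le_of_dense Q hyunit hdense σ (hact σ) hi h
  have hfixed : ∀ σ : K' ≃ₐ[K] K', σ y = y → σ = 1 := by
    intro σ hσ
    apply Hilb.eq_one_of_fix Q σ
    intro z hz
    have : σ z - z = 0 := by
      apply Hilb.eq_zero_of_forall_le Q
      intro i hi
      apply hmoves σ i hi _ z hz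
      rw [hσ, sub_self, map_zero]
      exact zero_le
    exact sub_eq_zero.mp this
  have hytop : IntermediateField.adjoin K ({y} : Set K') = ⊤ := Hilb.adjoin_eq_top_of_moved y hfixed
  -- the different exponent is the order of `g'(y)`
  letI := Tate.algOK' (K' := K') P
  haveI : IsScalarTower P.O K K' := IsScalarTower.of_algebraMap_eq (fun _ => rfl)
  haveI : IsScalarTower k P.O K' := IsScalarTower.of_algebraMap_eq (fun c => by
    show algebraMap k K' c = algebraMap K K' (algebraMap k K c)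
    rw [← IsScalarTower.algebraMap_apply])
  have hyi : IsIntegral P.O y := Tate.isIntegral_of_forall_over hK hK' P hyR
  obtain ⟨hle, -⟩ := Tate.diffExp_le_ord_derivative hK hg hK' P Q e he φ hφ ψ hψ x hx hx' y hytop hyi
  have hA : ∀ z₀ : K', Q.1 z₀ ≤ 1 → ∀ N : ℕ, ∃ h : Polynomial P.O,
      Q.1 (Polynomial.aeval y h - z₀) ≤ WithZero.exp (-(N : ℤ)) ∧
      ∀ Q' : FunFld.Place k K', FunFld.IsOver Q' P → Q' ≠ Q →
        Q'.1 (Polynomial.aeval y h) ≤ WithZero.exp (-(N : ℤ)) := by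
    intro z₀ hz₀ N
    obtain ⟨r, hrR, hr1, hr2⟩ := happrox z₀ hz₀ N
    rw [hR, Algebra.adjoin_singleton_eq_range_aeval] at hrR
    obtain ⟨g, rfl⟩ := hrR
    refine ⟨g.map (algebraMap k P.O), ?_, ?_⟩
    · rw [Polynomial.aeval_map_algebraMap]; exact hr1
    · intro Q' hQ' hne
      rw [Polynomial.aeval_map_algebraMap]
      exact hr2 Q' ((hQsmem Q').mpr ⟨hQ', hne⟩)
  have hge := Tate.val_inv_derivative_le_of_approx hK hg hK' P Q e he φ hφ ψ hψ x hx hx' y hytop
    hyR hA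
  set G := Polynomial.aeval y (Polynomial.derivative (minpoly K y)) with hG
  have hG0 : G ≠ 0 := Tate.aeval_derivative_minpoly_ne_zero y
  have hQG0 : Q.1 G ≠ 0 := by rwa [ne_eq, map_eq_zero]
  have hd : LocRes.diffExp φ ψ e x = Q.ord G := by
    apply le_antisymm hle
    rw [map_inv₀, ← WithZero.log_le_iff_le_exp (inv_ne_zero hQG0), WithZero.log_inv] at hge
    exact hge
  -- the product formula
  have hprod := Hilb.aeval_derivative_minpoly_eq_prod hytop
  have hne0 : ∀ σ ∈ (Finset.univ.erase 1 : Finset (K' ≃ₐ[K] K')), y - σ y ≠ 0 := by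
    intro σ hσ h0
    rw [Finset.mem_erase] at hσ
    exact hσ.1 (hfixed σ (sub_eq_zero.mp h0).symm)
  have hord : Q.ord G = ∑ σ ∈ (Finset.univ.erase 1 : Finset (K' ≃ₐ[K] K')), Q.ord (y - σ y) := by
    rw [hG, hprod, Hilb.ord_prod Q _ _ hne0]
  -- the orders are nonnegative
  have hσy : ∀ σ : K' ≃ₐ[K] K', Q.1 (σ y) ≤ 1 := by
    intro σ
    rw [← FF.actP_apply (k := k) σ Q y]
    exact hyR _ ⟨e, FF.isOverWith_actP he σ⟩
  have hnonneg : ∀ σ : K' ≃ₐ[K] K', σ ≠ 1 → 0 ≤ Q.ord (y - σ y) := by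
    intro σ hσ
    have h0 : y - σ y ≠ 0 := fun h0 => hσ (hfixed σ (sub_eq_zero.mp h0).symm)
    have h1 : Q.1 (y - σ y) ≤ WithZero.exp 0 := by
      rw [WithZero.exp_zero]
      exact (Q.1.map_sub _ _).trans (max_le hyunit.le (hσy σ))
    have := (FF.val_le_exp_iff Q h0 0).mp h1
    simpa using this
  set Nσ : (K' ≃ₐ[K] K') → ℕ := fun σ => (Q.ord (y - σ y)).toNat with hNσ
  have hcount := Hilb.count_identity (G := K' ≃ₐ[K] K') 1 Nσ
    (fun i σ => ∀ z : K', Q.1 z ≤ 1 → Q.1 (σ z - z) ≤ WithZero.exp (-(i : ℤ)))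
    (by
      intro i _ z _
      show Q.1 ((1 : K' ≃ₐ[K] K') z - z) ≤ _
      rw [AlgEquiv.one_apply, sub_self, map_zero]
      exact zero_le)
    (by
      intro σ hσ i hi
      have h0 : y - σ y ≠ 0 := fun h0 => hσ (hfixed σ (sub_eq_zero.mp h0).symm)
      have key : Q.1 (σ y - y) ≤ WithZero.exp (-(i : ℤ)) ↔ i ≤ (Q.ord (y - σ y)).toNat := by
        rw [← Valuation.map_neg, neg_sub, FF.val_le_exp_iff Q h0, neg_neg]
        have := hnonneg σ hσ
        constructor
        · intro h; omega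
        · intro h; omega
      constructor
      · intro h
        exact key.mp (h y hyunit.le)
      · intro h
        exact hmoves σ i hi (key.mpr h))
  refine ⟨hcount.1, ?_⟩
  rw [hcount.2, hd, hord]
  refine Finset.sum_congr rfl (fun σ hσ => ?_)
  rw [Finset.mem_erase] at hσ
  rw [hNσ]
  exact (Int.toNat_of_nonneg (hnonneg σ hσ.1)).symm

end Groth.Agent.S12577
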