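import Groth.Statements.S12580
import Groth.Agent.Lib.Helper27.LR1
import Groth.Agent.Lib.Helper23.FF3b
open Groth.Agent.Lib.Helper27

set_option autoImplicit false
universe u v w
open FunFld

namespace Groth.Agent.S12580

/-- In a function field of one variable `K/k`, `Res_P(u dv) = 0` when `u, v ∈ O_P` (already before the
trace), and for a repartition `α` and `v ∈ K`, `Res_P(α_P dv) = 0` for almost all `P`; residues read
through Laurent expansions over `k` at every place. -/
theorem result (k : Type u) (K : Type v) [Field k] [Field K] [Algebra k K] (hK : FunFld.IsFunctionField k K)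
    (F : FunFld.Place k K → Type w) [∀ P, Field (F P)] [∀ P, Algebra k (F P)] [∀ P, FiniteDimensional k (F P)]
    (φ : ∀ P, K →ₐ[k] LaurentSeries (F P)) (hφ : ∀ P, LocRes.IsExpansionAt P.1 (φ P)) :
    (∀ (P : FunFld.Place k K) (u v : K), P.1 u ≤ 1 → P.1 v ≤ 1 → LocRes.resExp (φ P) u v = 0) ∧
    ∀ (a : FunFld.Place k K → K), a ∈ FunFld.adele k K → ∀ v : K,
      {P : FunFld.Place k K | LocRes.resExp (φ P) (a P) v ≠ 0}.Finite := by
  have part1 : ∀ (P : FunFld.Place k K) (u v : K), P.1 u ≤ 1 → P.1 v ≤ 1 →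
      LocRes.resExp (φ P) u v = 0 := by
    intro P u v hu hv
    unfold LocRes.resExp
    apply LR.res_eq_zero_of_val_le_one
    rw [map_mul]
    have h1 : Valued.v ((φ P) u) ≤ 1 := by rw [(hφ P).1 u]; exact hu
    have h2 : Valued.v (LocRes.D (F P) ((φ P) v)) ≤ 1 := by
      apply LR.val_D_le_one
      rw [(hφ P).1 v]; exact hv
    exact mul_le_one' h1 h2
  refine ⟨part1, ?_⟩
  intro a ha v
  have h1 : {P : FunFld.Place k K | ¬ P.1 (a P) ≤ 1}.Finite := Filter.eventually_cofinite.mp ha
  have h2 := Groth.Agent.Lib.Helper23.FF.finite_support_ord hK v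
  refine (h1.union h2).subset ?_
  intro P hP
  by_contra hcon
  simp only [Set.mem_union, Set.mem_setOf_eq, Function.mem_support, not_or, not_not] at hcon
  obtain ⟨hc1, hc2⟩ := hcon
  apply hP
  apply part1 P _ _ hc1
  by_contra hv
  rw [not_le] at hv
  have hne : P.1 v ≠ 0 := (zero_lt_one.trans hv).ne'
  have hlog : WithZero.log (P.1 v) = 0 := by
    have : P.ord v = -WithZero.log (P.1 v) := rfl
    omega
  have := WithZero.exp_log hne
  rw [hlog, WithZero.exp_zero] at this
  rw [← this] at hv
  exact lt_irrefl _ hv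

end Groth.Agent.S12580
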