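import Groth.Statements.S12582
-- import your own Groth.Agent.* helpers here
import Groth.Agent.Lib.Helper23.TateW4

set_option autoImplicit false
universe u v w
open FunFld

namespace Groth.Agent.S12582



/-- For a geometric function field of one variable `K/k` of genus `g`, the space `Ω_K(0)` of regular
differential forms (non-negative order at every place) has dimension `g` over `k`; written as the
space of `y ∈ K` with `y dx` regular, for a fixed `x` with `dx ≠ 0`, orders read through Laurent
expansions over `k` at every place (all places separable). -/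
theorem result (k : Type u) (K : Type v) [Field k] [Field K] [Algebra k K] (hK : FunFld.IsFunctionField k K) (hg : FunFld.IsGeometric k K)
    (F : FunFld.Place k K → Type w) [∀ P, Field (F P)] [∀ P, Algebra k (F P)] [∀ P, FiniteDimensional k (F P)]
    (φ : ∀ P, K →ₐ[k] LaurentSeries (F P)) (hφ : ∀ P, LocRes.IsExpansionAt P.1 (φ P))
    (x : K) (hx : KaehlerDifferential.D k K x ≠ 0) :
    Module.finrank k (Submodule.span k {y : K | ∀ P, LocRes.vDiff (φ P) y x ≤ 1}) = FunFld.genus k K := by
  have C := Groth.Agent.Lib.Helper27.FF.core_of hK
  obtain ⟨W, hWP, hWcan, hvd⟩ := Groth.Agent.Lib.Helper23.Tate.exists_canonical_of_expansions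
    hK hg F φ hφ 1 x one_ne_zero hx
  have hval : ∀ P, Valued.v (LocRes.D (F P) (φ P x)) = WithZero.exp (-(W P)) := by
    intro P
    have := Groth.Agent.Lib.Helper23.Tate.val_w_eq (φ P) (hvd P)
    rw [map_one, one_mul] at this
    rw [this, hWP]
  have hset : {y : K | ∀ P, LocRes.vDiff (φ P) y x ≤ 1} = (FunFld.L W : Set K) := by
    ext y
    simp only [Set.mem_setOf_eq, SetLike.mem_coe]
    have key : ∀ P : FunFld.Place k K, LocRes.vDiff (φ P) y x ≤ 1 ↔ P.1 y ≤ WithZero.exp (W P) := by
      intro P
      unfold LocRes.vDiff
      rw [map_mul, hval, (hφ P).1]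
      have hpos : (0 : WithZero (Multiplicative ℤ)) < WithZero.exp (W P) := WithZero.exp_pos
      constructor
      · intro h
        have := mul_le_mul_left h (WithZero.exp (W P))
        rwa [mul_assoc, ← WithZero.exp_add, neg_add_cancel, WithZero.exp_zero, mul_one, one_mul]
          at this
      · intro h
        have := mul_le_mul_left h (WithZero.exp (-(W P)))
        rwa [← WithZero.exp_add, add_neg_cancel, WithZero.exp_zero] at this
    constructor
    · intro h P
      exact (key P).mp (h P)
    · intro h P
      exact (key P).mpr (h P)
  rw [hset, Submodule.span_eq]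
  exact C.ell_canonical hWcan

end Groth.Agent.S12582
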