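import Groth.Statements.S12584
import Groth.Agent.Lib.Helper27.Hyper8
import Groth.Agent.Lib.Helper27.Tate18
import Groth.Agent.Lib.Helper27.FunFld6
import Groth.Agent.Lib.Helper23.TateW4
open Groth.Agent.Lib.Helper27

set_option autoImplicit false
universe u v w
open FunFld

namespace Groth.Agent.S12584

/-- For `char k ≠ 2` and `K` of degree `2` over `k(x)` with `y² = f(x)`, `f` squarefree of degree `≥ 1`,
the forms `x^i dx/y`, `0 ≤ i < g`, are a `k`-basis of the regular differential forms: each is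
regular, and every regular `z dx` has `z = a(x)/y` with `deg a < g`; regularity read through Laurent
expansions over `k` at every place (all places separable). -/
theorem result (k : Type u) (K : Type v) [Field k] [Field K] [Algebra k K] [Algebra (RatFunc k) K] [IsScalarTower k (RatFunc k) K]
    (hK : FunFld.IsFunctionField k K) (hdeg : Module.finrank (RatFunc k) K = 2) (h2 : ringChar k ≠ 2)
    (y : K) (f : Polynomial k) (hf : Squarefree f) (hd : 1 ≤ f.natDegree)
    (heq : y ^ 2 = algebraMap (RatFunc k) K (algebraMap (Polynomial k) (RatFunc k) f))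
    (F : FunFld.Place k K → Type w) [∀ P, Field (F P)] [∀ P, Algebra k (F P)] [∀ P, FiniteDimensional k (F P)]
    (φ : ∀ P, K →ₐ[k] LaurentSeries (F P)) (hφ : ∀ P, LocRes.IsExpansionAt P.1 (φ P)) :
    (∀ i : ℕ, i < FunFld.genus k K → ∀ P,
      LocRes.vDiff (φ P) (algebraMap (RatFunc k) K RatFunc.X ^ i / y) (algebraMap (RatFunc k) K RatFunc.X) ≤ 1) ∧
    ∀ z : K, (∀ P, LocRes.vDiff (φ P) z (algebraMap (RatFunc k) K RatFunc.X) ≤ 1) →
      ∃ a : Polynomial k, a.degree < (FunFld.genus k K : WithBot ℕ) ∧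
        z = algebraMap (RatFunc k) K (algebraMap (Polynomial k) (RatFunc k) a) / y := by
  classical
  have h2' : (2 : k) ≠ 0 := Ring.two_ne_zero h2
  haveI : FiniteDimensional (RatFunc k) K := Module.finite_of_finrank_pos (by omega)
  haveI := Hyper.isSeparable_of_quadratic h2' y f hf hd heq hdeg
  obtain ⟨h1, hDx⟩ := Hyper.kaehler_of_separable (k := k) (K := K)
  have hgen := Hyper.genus_of_quadratic h2' y f hf hd heq hdeg
  set x : K := algebraMap (RatFunc k) K RatFunc.X with hx
  have hconv : ∀ p : Polynomial k,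
      algebraMap (RatFunc k) K (algebraMap (Polynomial k) (RatFunc k) p) = Polynomial.aeval x p := by
    intro p
    rw [hx, Polynomial.aeval_algebraMap_apply, RatFunc.aeval_X_left_eq_algebraMap]
  have hinj : Function.Injective fun p : Polynomial k => Polynomial.aeval x p := by
    intro p q hpq
    simp only [← hconv] at hpq
    exact IsFractionRing.injective (Polynomial k) (RatFunc k)
      ((algebraMap (RatFunc k) K).injective hpq)
  have heq' : y ^ 2 = Polynomial.aeval x f := by rw [heq, hconv]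
  haveI : ∀ P, Algebra.IsSeparable k (F P) := fun P => Tate.isSeparable_coeffField' h1 (hφ P)
  have hf0 : f ≠ 0 := by
    rintro rfl
    simp at hd
  have hy0 : y ≠ 0 := by
    rintro rfl
    rw [zero_pow two_ne_zero] at heq'
    exact hf0 (hinj (by simpa using heq'.symm))
  have part1 : ∀ i : ℕ, i < FunFld.genus k K → ∀ P,
      LocRes.vDiff (φ P) (x ^ i / y) x ≤ 1 := by
    intro i hi P
    rcases le_or_gt (P.1 x) 1 with h | h
    · exact Hyper.regular_finite h2' (hφ P) hf heq' h i
    · exact Hyper.regular_infinite (hφ P) hf0 heq' h (by rw [← hgen]; exact hi)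
  refine ⟨part1, ?_⟩
  intro z hz
  have C := FF.core_of hK
  have hne : ∀ P, ∃ y : K, LocRes.locRes (φ P) y x ≠ 0 :=
    fun P => Tate.exists_locRes_ne_zero' h1 (hφ P) hDx
  obtain ⟨-, hne0, hfin, hdiv⟩ :=
    Groth.Agent.Lib.Helper23.Tate.weil_of_residues C F φ hφ 1 x one_ne_zero hne
  set W : FunFld.Divisor k K := Finsupp.ofSupportFinite _ hfin with hWdef
  have hWP : ∀ P, W P = LocRes.ordDiff (φ P) 1 x := fun P => rfl
  have hcan : FunFld.IsCanonical k K W := ⟨_, hne0, hdiv W hWP⟩
  have hell := C.ell_canonical hcan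
  haveI : FiniteDimensional k (FunFld.L W) := C.finDimL W
  -- membership criterion
  have hmem : ∀ u : K, (∀ P, LocRes.vDiff (φ P) u x ≤ 1) → u ∈ FunFld.L W := by
    intro u hu P
    have hd0 : LocRes.vDiff (φ P) 1 x ≠ 0 :=
      Groth.Agent.Lib.Helper23.Tate.vDiff_ne_zero_of (φ P) one_ne_zero (hne P)
    have h3 := hu P
    rw [Hyper.vDiff_eq (φ P) (hφ P)] at h3
    rw [hWP]
    unfold LocRes.ordDiff
    rw [Hyper.vDiff_eq (φ P) (hφ P), map_one, one_mul] at hd0 ⊢
    rw [WithZero.exp_neg, WithZero.exp_log hd0]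
    have h4 : P.1 u * Valued.v (LocRes.D (F P) ((φ P) x)) ≤
        (Valued.v (LocRes.D (F P) ((φ P) x)))⁻¹ * Valued.v (LocRes.D (F P) ((φ P) x)) := by
      rw [inv_mul_cancel₀ hd0]; exact h3
    exact le_of_mul_le_mul_right h4 (zero_lt_iff.mpr hd0)
  -- the linear map `a ↦ a(x) / y`
  set g := FunFld.genus k K with hg
  let Ψ : Polynomial k →ₗ[k] K :=
    (LinearMap.mulRight k (y⁻¹ : K)).comp (Polynomial.aeval x).toLinearMap
  have hΨ : ∀ a, Ψ a = Polynomial.aeval x a / y := fun a => by
    simp [Ψ, div_eq_mul_inv]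
  have hle : Polynomial.degreeLT k g ≤ (FunFld.L W).comap Ψ := by
    rw [Polynomial.degreeLT_eq_span_X_pow, Submodule.span_le]
    intro p hp
    rw [Finset.coe_image] at hp
    obtain ⟨i, hi, rfl⟩ := hp
    rw [Finset.mem_coe, Finset.mem_range] at hi
    rw [SetLike.mem_coe, Submodule.mem_comap, hΨ, map_pow, Polynomial.aeval_X]
    exact hmem _ (part1 i hi)
  let Φ : Polynomial.degreeLT k g →ₗ[k] FunFld.L W :=
    (Ψ.comp (Polynomial.degreeLT k g).subtype).codRestrict (FunFld.L W) (fun a => hle a.2)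
  have hΦinj : Function.Injective Φ := by
    intro a b hab
    have h3 : Ψ a = Ψ b := congrArg Subtype.val hab
    rw [hΨ, hΨ, div_left_inj' hy0] at h3
    exact Subtype.ext (hinj h3)
  have hrank : Module.finrank k (Polynomial.degreeLT k g) = Module.finrank k (FunFld.L W) := by
    rw [(Polynomial.degreeLTEquiv k g).finrank_eq, Module.finrank_fin_fun]
    exact hell.symm
  haveI : FiniteDimensional k (Polynomial.degreeLT k g) :=
    Module.Finite.equiv (Polynomial.degreeLTEquiv k g).symm
  have hΦsurj : Function.Surjective Φ :=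
    (LinearMap.injective_iff_surjective_of_finrank_eq_finrank hrank).mp hΦinj
  obtain ⟨a, ha⟩ := hΦsurj ⟨z, hmem z hz⟩
  refine ⟨a.1, Polynomial.mem_degreeLT.mp a.2, ?_⟩
  have h3 : Ψ a.1 = z := congrArg Subtype.val ha
  rw [hconv, ← hΨ, h3]

end Groth.Agent.S12584
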