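import Groth.Statements.S12587
import Groth.Agent.Lib.Helper27.ASD2
import Groth.Agent.Lib.Helper27.Hyper8
import Groth.Agent.Lib.Helper27.Tate18
import Groth.Agent.Lib.Helper27.FunFld6
import Groth.Agent.Lib.Helper23.TateW4
open Groth.Agent.Lib.Helper27

set_option autoImplicit false
universe u v w
open FunFld

namespace Groth.Agent.S12587

/-- For `k` perfect of characteristic `2` and `K = k(x, y)` with `y² + y = f(x)`, all poles of `f` of
odd order `2d_i - 1` at `p_i`, and `q = ∏ p_i^{d_i}` over the finite poles, the forms `x^i dx/q(x)`,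
`0 ≤ i < g`, are a `k`-basis of the regular differential forms; regularity read through Laurent
expansions over `k` at every place; `q` is pinned up to a constant by its orders at the finite
places. -/
theorem result (k : Type u) (K : Type v) [Field k] [Field K] [Algebra k K] [Algebra (RatFunc k) K] [IsScalarTower k (RatFunc k) K]
    (hK : FunFld.IsFunctionField k K) (hdeg : Module.finrank (RatFunc k) K = 2) [PerfectField k] (h2 : ringChar k = 2)
    [Algebra.IsSeparable (RatFunc k) K]
    (y : K) (hy : y ∉ Set.range (algebraMap (RatFunc k) K)) (f : RatFunc k)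
    (heq : y ^ 2 + y = algebraMap (RatFunc k) K f)
    (hodd : ∀ p : FunFld.Place k (RatFunc k), 1 < p.1 f → Odd (p.ord f))
    (q : Polynomial k) (hq0 : q ≠ 0)
    (hq : ∀ p : FunFld.Place k (RatFunc k), p.1 RatFunc.X ≤ 1 →
      p.ord (algebraMap (Polynomial k) (RatFunc k) q) = if 1 < p.1 f then (1 - p.ord f) / 2 else 0)
    (F : FunFld.Place k K → Type w) [∀ P, Field (F P)] [∀ P, Algebra k (F P)] [∀ P, FiniteDimensional k (F P)]
    (φ : ∀ P, K →ₐ[k] LaurentSeries (F P)) (hφ : ∀ P, LocRes.IsExpansionAt P.1 (φ P)) :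
    (∀ i : ℕ, i < FunFld.genus k K → ∀ P,
      LocRes.vDiff (φ P) (algebraMap (RatFunc k) K (RatFunc.X ^ i / algebraMap (Polynomial k) (RatFunc k) q))
        (algebraMap (RatFunc k) K RatFunc.X) ≤ 1) ∧
    ∀ z : K, (∀ P, LocRes.vDiff (φ P) z (algebraMap (RatFunc k) K RatFunc.X) ≤ 1) →
      ∃ a : Polynomial k, a.degree < (FunFld.genus k K : WithBot ℕ) ∧
        z = algebraMap (RatFunc k) K (algebraMap (Polynomial k) (RatFunc k) a / algebraMap (Polynomial k) (RatFunc k) q) := by
  classical
  have h2k : (2 : k) = 0 := by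
    have : ((2 : ℕ) : k) = 0 := by
      rw [← h2]
      exact ringChar.Nat.cast_ringChar
    exact_mod_cast this
  haveI : FiniteDimensional (RatFunc k) K := Module.finite_of_finrank_pos (by omega)
  obtain ⟨h1, hDx⟩ := Hyper.kaehler_of_separable (k := k) (K := K)
  have hK₀ := Rat.isFunctionField_ratFunc k
  obtain ⟨x, hx⟩ : ∃ x : K, x = algebraMap (RatFunc k) K RatFunc.X := ⟨_, rfl⟩
  rw [← hx]
  rw [← hx] at hDx
  have hconv : ∀ p : Polynomial k,
      algebraMap (RatFunc k) K (algebraMap (Polynomial k) (RatFunc k) p) = Polynomial.aeval x p := by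
    intro p
    rw [hx, Polynomial.aeval_algebraMap_apply, RatFunc.aeval_X_left_eq_algebraMap]
  have hinj : Function.Injective fun p : Polynomial k => Polynomial.aeval x p := by
    intro p q hpq
    simp only [← hconv] at hpq
    exact IsFractionRing.injective (Polynomial k) (RatFunc k)
      ((algebraMap (RatFunc k) K).injective hpq)
  obtain ⟨q', hq'⟩ : ∃ q' : K, q' = Polynomial.aeval x q := ⟨_, rfl⟩
  have hq'0 : q' ≠ 0 := by
    rw [hq']
    intro h
    exact hq0 (hinj (by simpa using h))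
  have hq'j : algebraMap (RatFunc k) K (algebraMap (Polynomial k) (RatFunc k) q) = q' := by
    rw [hq', hconv]
  have C := FF.core_of hK
  have hne : ∀ P, ∃ y : K, LocRes.locRes (φ P) y x ≠ 0 :=
    fun P => Tate.exists_locRes_ne_zero' h1 (hφ P) hDx
  obtain ⟨-, hne0, hfin, hdiv⟩ :=
    Groth.Agent.Lib.Helper23.Tate.weil_of_residues C F φ hφ 1 x one_ne_zero hne
  set W : FunFld.Divisor k K := Finsupp.ofSupportFinite _ hfin with hWdef
  have hWP : ∀ P, W P = LocRes.ordDiff (φ P) 1 x := fun P => rfl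
  have hcan : FunFld.IsCanonical k K W := ⟨_, hne0, hdiv W hWP⟩
  have hell := C.ell_canonical hcan
  haveI : FiniteDimensional k (FunFld.L W) := C.finDimL W
  have hover : ∀ P : FunFld.Place k K,
      ∃ (p : FunFld.Place k (RatFunc k)) (e : ℕ), FunFld.IsOverWith P p e :=
    fun P => FF.exists_isOverWith hK₀ P
  obtain ⟨pinf, hpinf⟩ := Hyper.exists_inf (k := k)
  obtain ⟨dinf, hdinf⟩ : ∃ dinf : ℤ,
      dinf = if 1 < pinf.1 f then (1 - pinf.ord f) / 2 else 0 := ⟨_, rfl⟩
  obtain ⟨c, hc⟩ : ∃ c : ℤ, c = (q.natDegree : ℤ) + dinf - 2 := ⟨_, rfl⟩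
  -- local values of `dx`
  have hfinite : ∀ P : FunFld.Place k K, P.1 x ≤ 1 →
      Valued.v (LocRes.D (F P) (φ P x)) = P.1 q' := by
    intro P hP
    obtain ⟨p, e, he⟩ := hover P
    have hpX : p.1 RatFunc.X ≤ 1 := by
      by_contra hcon
      rw [not_le] at hcon
      have : 1 < P.1 x := by
        rw [hx, he RatFunc.X]
        exact one_lt_pow₀ hcon (by have := FF.isOverWith_pos he; omega)
      exact absurd hP (not_le.mpr this)
    have := ASD.val_D_finite h2k hdeg he (hφ P) hy heq (hodd p) hpX hq0 (hq p hpX)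
    rw [← hx, hq'j] at this
    exact this
  have hinfinite : ∀ P : FunFld.Place k K, 1 < P.1 x →
      ∃ e : ℕ, 1 ≤ e ∧ FunFld.IsOverWith P pinf e ∧
        Valued.v (LocRes.D (F P) (φ P x)) = WithZero.exp ((e : ℤ) * (2 - dinf)) := by
    intro P hP
    obtain ⟨p, e, he⟩ := hover P
    have hpX : 1 < p.1 RatFunc.X := by
      by_contra hcon
      rw [not_lt] at hcon
      have : P.1 x ≤ 1 := by
        rw [hx, he RatFunc.X]
        exact pow_le_one' hcon e
      exact absurd hP (not_lt.mpr this)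
    have hpp : p = pinf := Hyper.inf_unique hpX hpinf
    rw [hpp] at he
    refine ⟨e, FF.isOverWith_pos he, he, ?_⟩
    have := ASD.val_D_infinite h2k hdeg he (hφ P) hy heq (hodd pinf) hpinf
    rw [← hx, ← hdinf] at this
    exact this
  have hPinf : ∀ (P : FunFld.Place k K) (e : ℕ), FunFld.IsOverWith P pinf e →
      P.1 x = WithZero.exp (e : ℤ) ∧ P.1 q' = WithZero.exp ((e : ℤ) * (q.natDegree : ℤ)) := by
    intro P e he
    constructor
    · rw [hx, he RatFunc.X, Rat.val_X_eq_of_one_lt pinf hpinf, ← WithZero.exp_nsmul]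
      congr 1
      simp
    · rw [← hq'j, he _, Rat.val_poly_of_one_lt pinf hpinf hq0, Rat.val_X_eq_of_one_lt pinf hpinf,
        ← WithZero.exp_nsmul, ← WithZero.exp_nsmul]
      congr 1
      simp only [nsmul_eq_mul]
      ring
  have hWval : ∀ P, W P = -WithZero.log (Valued.v (LocRes.D (F P) (φ P x))) :=
    fun P => by rw [hWP, LR.ordDiff_one]
  -- the divisor of `dx`
  have hWeq : W = FunFld.div k q' +
      c • FunFld.conorm K (Finsupp.single pinf (1 : ℤ) : FunFld.Divisor k (RatFunc k)) := by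
    ext P
    rw [Finsupp.add_apply, Finsupp.smul_apply, C.div_apply, hWval, smul_eq_mul]
    rcases le_or_gt (P.1 x) 1 with h | h
    · rw [hfinite P h]
      obtain ⟨p, e, he⟩ := hover P
      have hpne : pinf ≠ p := by
        rintro rfl
        have : 1 < P.1 x := by
          rw [hx, he RatFunc.X]
          exact one_lt_pow₀ hpinf (by have := FF.isOverWith_pos he; omega)
        exact absurd h (not_le.mpr this)
      rw [Hyper.conorm_apply_of_isOverWith hK₀ _ he, Finsupp.single_apply, if_neg hpne]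
      unfold FunFld.Place.ord
      ring
    · obtain ⟨e, he1, he, hv⟩ := hinfinite P h
      rw [hv, WithZero.log_exp, Hyper.conorm_apply_of_isOverWith hK₀ _ he, Finsupp.single_apply,
        if_pos rfl]
      have hordq : P.ord q' = -((e : ℤ) * (q.natDegree : ℤ)) := by
        unfold FunFld.Place.ord
        rw [(hPinf P e he).2, WithZero.log_exp]
      rw [hordq, hc]
      ring
  have hgc : (FunFld.genus k K : ℤ) = c + 1 := by
    have hdegW := C.deg_canonical hcan
    have h3 : W.deg = 2 * c := by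
      rw [hWeq, FF.deg_add, C.deg_div, Groth.Agent.Lib.Helper23.FF.deg_zsmul, FF.deg_conorm hK₀,
        hdeg, FF.deg_single, Rat.deg_of_one_lt pinf hpinf]
      push_cast
      ring
    linarith
  have hsplit : ∀ i : ℕ, algebraMap (RatFunc k) K
      (RatFunc.X ^ i / algebraMap (Polynomial k) (RatFunc k) q) = x ^ i / q' := by
    intro i
    rw [map_div₀, map_pow, hq'j, hx]
  have part1 : ∀ i : ℕ, i < FunFld.genus k K → ∀ P,
      LocRes.vDiff (φ P) (x ^ i / q') x ≤ 1 := by
    intro i hi P
    rw [Hyper.vDiff_eq (φ P) (hφ P), map_div₀, map_pow]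
    have hPq'0 : P.1 q' ≠ 0 := (_root_.map_ne_zero _).mpr hq'0
    rcases le_or_gt (P.1 x) 1 with h | h
    · rw [hfinite P h, div_mul_cancel₀ _ hPq'0]
      exact pow_le_one' h i
    · obtain ⟨e, he1, he, hv⟩ := hinfinite P h
      obtain ⟨hPx, hPq'⟩ := hPinf P e he
      rw [hv, hPx, hPq', ← WithZero.exp_nsmul, ← WithZero.exp_sub, ← WithZero.exp_add,
        ← WithZero.exp_zero, WithZero.exp_le_exp]
      have hic : (i : ℤ) ≤ c := by omega
      simp only [nsmul_eq_mul]
      have h5 : 0 ≤ (e : ℤ) * (c - i) := mul_nonneg (by positivity) (by omega)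
      rw [hc] at h5
      nlinarith [h5]
  refine ⟨fun i hi P => by rw [hsplit]; exact part1 i hi P, ?_⟩
  intro z hz
  -- membership criterion
  have hmem : ∀ u : K, (∀ P, LocRes.vDiff (φ P) u x ≤ 1) → u ∈ FunFld.L W := by
    intro u hu P
    have hd0 : LocRes.vDiff (φ P) 1 x ≠ 0 :=
      Groth.Agent.Lib.Helper23.Tate.vDiff_ne_zero_of (φ P) one_ne_zero (hne P)
    have h3 := hu P
    rw [Hyper.vDiff_eq (φ P) (hφ P)] at h3
    rw [hWP]
    unfold LocRes.ordDiff
    rw [Hyper.vDiff_eq (φ P) (hφ P), map_one, one_mul] at hd0 ⊢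
    rw [WithZero.exp_neg, WithZero.exp_log hd0]
    have h4 : P.1 u * Valued.v (LocRes.D (F P) ((φ P) x)) ≤
        (Valued.v (LocRes.D (F P) ((φ P) x)))⁻¹ * Valued.v (LocRes.D (F P) ((φ P) x)) := by
      rw [inv_mul_cancel₀ hd0]; exact h3
    exact le_of_mul_le_mul_right h4 (zero_lt_iff.mpr hd0)
  -- the linear map `a ↦ a(x) / q(x)`
  set g := FunFld.genus k K with hg
  let Ψ : Polynomial k →ₗ[k] K :=
    (LinearMap.mulRight k (q'⁻¹ : K)).comp (Polynomial.aeval x).toLinearMap
  have hΨ : ∀ a, Ψ a = Polynomial.aeval x a / q' := fun a => by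
    simp [Ψ, div_eq_mul_inv]
  have hle : Polynomial.degreeLT k g ≤ (FunFld.L W).comap Ψ := by
    rw [Polynomial.degreeLT_eq_span_X_pow, Submodule.span_le]
    intro p hp
    rw [Finset.coe_image] at hp
    obtain ⟨i, hi, rfl⟩ := hp
    rw [Finset.mem_coe, Finset.mem_range] at hi
    rw [SetLike.mem_coe, Submodule.mem_comap, hΨ, map_pow, Polynomial.aeval_X]
    exact hmem _ (part1 i hi)
  let Φ : Polynomial.degreeLT k g →ₗ[k] FunFld.L W :=
    (Ψ.comp (Polynomial.degreeLT k g).subtype).codRestrict (FunFld.L W) (fun a => hle a.2)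
  have hΦinj : Function.Injective Φ := by
    intro a b hab
    have h3 : Ψ a = Ψ b := congrArg Subtype.val hab
    rw [hΨ, hΨ, div_left_inj' hq'0] at h3
    exact Subtype.ext (hinj h3)
  have hrank : Module.finrank k (Polynomial.degreeLT k g) = Module.finrank k (FunFld.L W) := by
    rw [(Polynomial.degreeLTEquiv k g).finrank_eq, Module.finrank_fin_fun]
    exact hell.symm
  haveI : FiniteDimensional k (Polynomial.degreeLT k g) :=
    Module.Finite.equiv (Polynomial.degreeLTEquiv k g).symm
  have hΦsurj : Function.Surjective Φ :=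
    (LinearMap.injective_iff_surjective_of_finrank_eq_finrank hrank).mp hΦinj
  obtain ⟨a, ha⟩ := hΦsurj ⟨z, hmem z hz⟩
  refine ⟨a.1, Polynomial.mem_degreeLT.mp a.2, ?_⟩
  have h3 : Ψ a.1 = z := congrArg Subtype.val ha
  rw [map_div₀, hconv, hq'j, ← hΨ, h3]

end Groth.Agent.S12587
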