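import Groth.Statements.S12588
import Groth.Agent.Lib.Helper27.LR4
import Groth.Agent.Lib.Helper27.Rat1
open Groth.Agent.Lib.Helper27

set_option autoImplicit false
universe u v w
open FunFld

namespace Groth.Agent.S12588

/-- For `k` perfect of characteristic `2`, `K` separable of degree `2` over `k(x)` with `y² + y = f(x)`,
and a place `p` of `k(x)` where `f` has a pole whose order `2d - 1` is odd: a place `P` of `K` above
`p` with ramification index `e` (necessarily `e = 2`, `P` unique) has different exponent `d(P|p) =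
2d = 1 - ord_p(f)`; the exponent is computed on `dz` through Laurent expansions over `k` at `p` and
`P`. -/
theorem result (k : Type u) (K : Type v) [Field k] [Field K] [Algebra k K] [Algebra (RatFunc k) K] [IsScalarTower k (RatFunc k) K]
    (hK : FunFld.IsFunctionField k K) (hdeg : Module.finrank (RatFunc k) K = 2) [PerfectField k] (h2 : ringChar k = 2)
    [Algebra.IsSeparable (RatFunc k) K]
    (y : K) (hy : y ∉ Set.range (algebraMap (RatFunc k) K)) (f : RatFunc k)
    (heq : y ^ 2 + y = algebraMap (RatFunc k) K f)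
    (p : FunFld.Place k (RatFunc k)) (hp : 1 < p.1 f) (hodd : Odd (p.ord f))
    (P : FunFld.Place k K) (e : ℕ) (he : FunFld.IsOverWith P p e)
    (F F' : Type w) [Field F] [Algebra k F] [Field F'] [Algebra k F']
    (φ : RatFunc k →ₐ[k] LaurentSeries F) (hφ : LocRes.IsExpansionAt p.1 φ)
    (ψ : K →ₐ[k] LaurentSeries F') (hψ : LocRes.IsExpansionAt P.1 ψ)
    (z : RatFunc k) (hz : LocRes.vDiff φ 1 z ≠ 0) (hz' : LocRes.vDiff ψ 1 (algebraMap (RatFunc k) K z) ≠ 0) :
    LocRes.diffExp φ ψ e z = 1 - p.ord f := by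
  classical
  haveI : FiniteDimensional (RatFunc k) K := Module.finite_of_finrank_pos (by omega)
  have hΩ := Rat.finrank_kaehler_ratFunc k
  have h20 : (2 : RatFunc k) = 0 := Rat.two_eq_zero_of_ringChar k h2
  have he2 : e ≤ 2 := hdeg ▸ Rat.ramIdx_le_finrank he
  have he1 : 1 ≤ e := FF.isOverWith_pos he
  -- valuation of `y`
  have hPf : P.1 (algebraMap (RatFunc k) K f) = p.1 f ^ e := he f
  have hPf1 : 1 < P.1 (algebraMap (RatFunc k) K f) := by
    rw [hPf]; exact one_lt_pow₀ hp (by omega)
  have hy1 : 1 < P.1 y := by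
    by_contra hle
    rw [not_lt] at hle
    have : P.1 (y ^ 2 + y) ≤ 1 :=
      P.1.map_add_le (by rw [map_pow]; exact pow_le_one₀ zero_le hle) hle
    rw [heq] at this
    exact absurd hPf1 (not_lt.mpr this)
  have hy2 : P.1 (y ^ 2 + y) = P.1 y ^ 2 := by
    rw [P.1.map_add_eq_of_lt_left, map_pow]
    rw [map_pow, pow_two]
    exact lt_mul_of_one_lt_left (lt_trans zero_lt_one hy1) hy1
  rw [heq, hPf] at hy2
  -- logs
  have hf0 : p.1 f ≠ 0 := (lt_trans zero_lt_one hp).ne'
  have hy0 : P.1 y ≠ 0 := (lt_trans zero_lt_one hy1).ne'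
  obtain ⟨m, hm⟩ : ∃ m : ℤ, p.1 f = WithZero.exp m := ⟨_, (WithZero.exp_log hf0).symm⟩
  obtain ⟨n, hn⟩ : ∃ n : ℤ, P.1 y = WithZero.exp n := ⟨_, (WithZero.exp_log hy0).symm⟩
  have hord : p.ord f = -m := by
    unfold FunFld.Place.ord
    rw [hm, WithZero.log_exp]
  have hmpos : 0 < m := by
    rw [hm, ← WithZero.exp_zero, WithZero.exp_lt_exp] at hp
    exact hp
  rw [hm, hn, ← WithZero.exp_nsmul, ← WithZero.exp_nsmul, WithZero.exp_inj] at hy2
  simp only [nsmul_eq_mul] at hy2
  obtain ⟨c, hc⟩ := hodd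
  rw [hord] at hc
  have hee : e = 2 := by
    rcases (by omega : e = 1 ∨ e = 2) with h | h
    · subst h
      omega
    · exact h
  subst hee
  have hnm : n = m := by push_cast at hy2; omega
  -- `d`
  obtain ⟨d, hd⟩ : ∃ d : ℕ, (d : ℤ) = -c := ⟨(-c).toNat, Int.toNat_of_nonneg (by omega)⟩
  have hmd : m = 2 * d - 1 := by omega
  -- uniformizers
  obtain ⟨t, ht⟩ := p.2.2 (WithZero.exp (-1))
  have ht0 : t ≠ 0 := by
    rintro rfl
    rw [map_zero] at ht
    exact WithZero.exp_ne_zero ht.symm
  set s : K := algebraMap (RatFunc k) K t ^ d * y with hs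
  have hsval : P.1 s = WithZero.exp (-1) := by
    rw [hs, map_mul, map_pow, he t, ht, hn, ← WithZero.exp_nsmul, ← WithZero.exp_nsmul,
      ← WithZero.exp_add, WithZero.exp_inj]
    simp only [nsmul_eq_mul]
    push_cast
    omega
  -- the minimal polynomial of `s`
  let g : Polynomial (RatFunc k) := Polynomial.X ^ 2 + Polynomial.C (t ^ d) * Polynomial.X -
    Polynomial.C (t ^ (2 * d) * f)
  have hgdeg : g.natDegree = 2 := by
    simp only [g]
    compute_degree!
  have hgmonic : g.Monic := by
    simp only [g]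
    monicity!
  have hgs : Polynomial.aeval s g = 0 := by
    simp only [g, map_sub, map_add, map_mul, map_pow, Polynomial.aeval_X, Polynomial.aeval_C]
    rw [← heq, hs]
    ring
  have hsr : s ∉ Set.range (algebraMap (RatFunc k) K) := by
    rintro ⟨b, hb⟩
    apply hy
    refine ⟨b / t ^ d, ?_⟩
    rw [map_div₀, hb, hs, map_pow, mul_comm, mul_div_assoc, div_self, mul_one]
    exact pow_ne_zero _ ((map_ne_zero _).mpr ht0)
  have hint : IsIntegral (RatFunc k) s := .of_finite _ s
  have hmin : minpoly (RatFunc k) s = g := by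
    have hdvd := minpoly.dvd (RatFunc k) s hgs
    have hmm := minpoly.monic hint
    have h1 : (minpoly (RatFunc k) s).natDegree ≠ 1 := by
      intro h
      exact hsr ((minpoly.natDegree_eq_one_iff).mp h)
    have h2' : 0 < (minpoly (RatFunc k) s).natDegree := minpoly.natDegree_pos hint
    exact (Polynomial.eq_of_monic_of_dvd_of_natDegree_le hmm hgmonic hdvd (by omega)).symm
  have hder : Polynomial.derivative g = Polynomial.C (t ^ d) := by
    have hc2 : ((2 : ℕ) : RatFunc k) = 0 := by exact_mod_cast h20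
    simp only [g]
    rw [Polynomial.derivative_sub, Polynomial.derivative_add, Polynomial.derivative_X_pow,
      Polynomial.derivative_C_mul, Polynomial.derivative_X, Polynomial.derivative_C, hc2,
      map_zero, zero_mul, zero_add, mul_one, sub_zero]
  have hmain := LR.diffExp_eq_ord_derivative_minpoly hΩ p P 2 he φ hφ ψ hψ z hz hz'
    hdeg.symm s hsval
  rw [← hmain, hmin, hder, Polynomial.aeval_C]
  unfold FunFld.Place.ord
  rw [he, map_pow, ht, ← WithZero.exp_nsmul, ← WithZero.exp_nsmul, WithZero.log_exp, hm,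
    WithZero.log_exp]
  simp only [nsmul_eq_mul]
  push_cast
  omega

end Groth.Agent.S12588
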