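import Groth.Statements.S12594
-- import your own Groth.Agent.* helpers here
import Groth.Agent.Lib.Helper23.CExt3

set_option autoImplicit false
universe u v
open FunFld

namespace Groth.Agent.S12594



/-- For a geometric function field of one variable `K/k` there is a finite purely inseparable extension
`k'/k` such that `k' ⊗_k K` is nonsingular: every place of it is nonsingular with respect to every
finite extension `k''/k'` (the integral closure of its valuation ring in `k'' ⊗_{k'} (k' ⊗_k K)` is
generated by `k''`). -/
theorem result (k : Type u) (K : Type v) [Field k] [Field K] [Algebra k K]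
    (hK : FunFld.IsFunctionField k K) (hg : FunFld.IsGeometric k K) :
    ∃ (k' : Type u) (_ : Field k') (_ : Algebra k k'), FiniteDimensional k k' ∧ IsPurelyInseparable k k' ∧
      ∀ (K' : Type v) [Field K'] [Algebra K K'] [Algebra k' K'] [Algebra k K']
        [IsScalarTower k k' K'] [IsScalarTower k K K'],
        Function.Bijective (Algebra.TensorProduct.productMap
          (IsScalarTower.toAlgHom k k' K') (IsScalarTower.toAlgHom k K K')) →
        ∀ (Q : FunFld.Place k' K') (k'' : Type u) [Field k''] [Algebra k' k''] [FiniteDimensional k' k'']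
          (K'' : Type v) [Field K''] [Algebra K' K''] [Algebra k'' K''] [Algebra k' K'']
          [IsScalarTower k' k'' K''] [IsScalarTower k' K' K''],
          Function.Bijective (Algebra.TensorProduct.productMap
            (IsScalarTower.toAlgHom k' k'' K'') (IsScalarTower.toAlgHom k' K' K'')) →
          integralClosure (Q.O.toSubring.map (algebraMap K' K'')) K'' =
            Algebra.adjoin (Q.O.toSubring.map (algebraMap K' K'')) (Set.range (algebraMap k'' K'')) := by
  obtain ⟨k', _, _, hfd, hpi, hmin⟩ := Groth.Agent.Lib.Helper23.CExt.exists_pi_min hK hg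
  refine ⟨k', inferInstance, inferInstance, hfd, hpi, ?_⟩
  intro K' _ _ _ _ _ _ h Q k'' _ _ _ K'' _ _ _ _ _ _ h2
  exact Groth.Agent.Lib.Helper23.CExt.ns_of_genus_min hfd h hK hg
    (fun k₂ _ _ hfd₂ => ((Groth.Agent.Lib.Helper23.CExt.genus_tower (k₁ := k') (k₂ := k')
      (Groth.Agent.Lib.Helper23.CExt.CE.bijective hg hfd) h hK hg).1).trans (hmin k₂ hfd₂))
    Q k'' K'' h2

end Groth.Agent.S12594
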