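import Groth.Statements.S12596
import Mathlib
-- import your own Groth.Agent.* helpers here

set_option autoImplicit false
open FunFld

namespace Groth.Agent.S12596

/-- Jumps are preserved by an injective linear map. -/
theorem isJump_comp_iff {R M N : Type*} [Ring R] [AddCommGroup M] [Module R M] [AddCommGroup N]
    [Module R N] (L : M →ₗ[R] N) (hL : Function.Injective L) (c : ℕ → M) (j : ℕ) :
    FunFld.IsJump R (fun m => L (c m)) j ↔ FunFld.IsJump R c j := by
  unfold FunFld.IsJump
  have h1 : (fun m => L (c m)) '' Set.Iio j = L '' (c '' Set.Iio j) := by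
    rw [Set.image_image]
  rw [h1, ← Submodule.map_span, not_iff_not]
  constructor
  · rintro ⟨x, hx, hxe⟩
    rw [← hL hxe]
    exact hx
  · intro h
    exact ⟨c j, h, rfl⟩


/-- Over an algebraically closed constant field, replacing a projective map `φ` by `Aφ` for an
invertible matrix `A` over `k` does not change the `τ`-order sequence, and multiplies every
generalized Wronskian determinant `det [τ(φ) | D^(I₁) φ | ⋯ | D^(Iₙ) φ]` (Hasse derivatives taken
with `H`) by `det A`. -/
theorem result
    (k K : Type*) [Field k] [IsAlgClosed k] [Field K] [Algebra k K]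
    (hK : FunFld.IsFunctionField k K) {n : ℕ} (φ : Fin (n + 1) → K) (hφ : LinearIndependent k φ)
    (τ : K →ₐ[k] K) (s : K) (H : K →ₐ[k] PowerSeries K) (hH : LocRes.IsHasseFamily s H)
    (A : Matrix (Fin (n + 1)) (Fin (n + 1)) k) (hA : A.det ≠ 0)
    (φ' : Fin (n + 1) → K) (hφ' : ∀ i, φ' i = ∑ j, A i j • φ j) :
    (∀ J : Fin n → ℕ, FunFld.IsOrders K (FunFld.hcol τ H φ') J ↔ FunFld.IsOrders K (FunFld.hcol τ H φ) J) ∧
    ∀ I : Fin n → ℕ, (FunFld.wrMat τ H φ' I).det = algebraMap k K A.det * (FunFld.wrMat τ H φ I).det := by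
  classical
  set AK : Matrix (Fin (n + 1)) (Fin (n + 1)) K := A.map (algebraMap k K) with hAK
  have hdetAK : AK.det = algebraMap k K A.det := by
    rw [hAK]
    exact (RingHom.map_det (algebraMap k K) A).symm
  have hdet_ne : AK.det ≠ 0 := by
    rw [hdetAK]
    exact (map_ne_zero (algebraMap k K)).mpr hA
  -- the columns transform by `AK`
  have hτ : ∀ i, τ (φ' i) = ∑ l, AK i l * τ (φ l) := by
    intro i
    rw [hφ' i, map_sum]
    refine Finset.sum_congr rfl fun l _ => ?_
    rw [map_smul, Algebra.smul_def]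
    rfl
  have hD : ∀ (j : ℕ) i, LocRes.hasseD H j (φ' i) = ∑ l, AK i l * LocRes.hasseD H j (φ l) := by
    intro j i
    simp only [LocRes.hasseD_apply]
    rw [hφ' i, map_sum, map_sum]
    refine Finset.sum_congr rfl fun l _ => ?_
    rw [map_smul, LinearMap.map_smul_of_tower, Algebra.smul_def]
    rfl
  have hcol : ∀ j, FunFld.hcol τ H φ' j = Matrix.toLin' AK (FunFld.hcol τ H φ j) := by
    intro j
    funext i
    rw [Matrix.toLin'_apply, Matrix.mulVec, dotProduct]
    cases j with
    | zero => exact hτ i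
    | succ j => exact hD j i
  have hinj : Function.Injective (Matrix.toLin' AK) := by
    rw [← LinearMap.ker_eq_bot]
    exact Matrix.ker_toLin'_eq_bot_iff.mpr
      (fun v hv => Matrix.eq_zero_of_mulVec_eq_zero hdet_ne hv)
  have hjump : ∀ j, FunFld.IsJump K (FunFld.hcol τ H φ') j ↔ FunFld.IsJump K (FunFld.hcol τ H φ) j := by
    intro j
    have : FunFld.hcol τ H φ' = fun m => Matrix.toLin' AK (FunFld.hcol τ H φ m) := funext hcol
    rw [this]
    exact isJump_comp_iff _ hinj _ j
  refine ⟨fun J => ?_, fun I => ?_⟩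
  · unfold FunFld.IsOrders
    simp only [hjump]
  · have hmat : FunFld.wrMat τ H φ' I = AK * FunFld.wrMat τ H φ I := by
      ext i c
      rw [Matrix.mul_apply]
      refine Fin.cases ?_ (fun l => ?_) c
      · exact hτ i
      · exact hD (I l) i
    rw [hmat, Matrix.det_mul, hdetAK]

end Groth.Agent.S12596
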