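import Groth.Statements.S12601
import Mathlib
-- import your own Groth.Agent.* helpers here

set_option autoImplicit false
open FunFld

namespace Groth.Agent.S12601


/-- The span of the first `N` columns is spanned by the jumps among them. -/
theorem span_eq_span_jumps {R M : Type*} [Ring R] [AddCommGroup M] [Module R M]
    (c : ℕ → M) (N : ℕ) :
    Submodule.span R (c '' Set.Iio N) =
      Submodule.span R (c '' {j | j < N ∧ FunFld.IsJump R c j}) := by
  induction N with
  | zero =>
    have h1 : (Set.Iio 0 : Set ℕ) = ∅ := by ext x; simp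
    have h2 : {j : ℕ | j < 0 ∧ FunFld.IsJump R c j} = ∅ := by ext x; simp
    rw [h1, h2]
  | succ N ih =>
    have h1 : (Set.Iio (N + 1) : Set ℕ) = insert N (Set.Iio N) := by
      ext x; simp only [Set.mem_Iio, Set.mem_insert_iff]; omega
    rw [h1, Set.image_insert_eq, Submodule.span_insert]
    by_cases hj : FunFld.IsJump R c N
    · have h2 : {j : ℕ | j < N + 1 ∧ FunFld.IsJump R c j} =
          insert N {j | j < N ∧ FunFld.IsJump R c j} := by
        ext x
        simp only [Set.mem_ofPred_eq, Set.mem_insert_iff]
        constructor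
        · rintro ⟨hx, hxj⟩
          rcases Nat.lt_succ_iff_lt_or_eq.mp hx with h | h
          · exact Or.inr ⟨h, hxj⟩
          · exact Or.inl h
        · rintro (h | ⟨h, hxj⟩)
          · subst h; exact ⟨Nat.lt_succ_self _, hj⟩
          · exact ⟨Nat.lt_succ_of_lt h, hxj⟩
      rw [h2, Set.image_insert_eq, Submodule.span_insert, ih]
    · have h2 : {j : ℕ | j < N + 1 ∧ FunFld.IsJump R c j} =
          {j | j < N ∧ FunFld.IsJump R c j} := by
        ext x
        simp only [Set.mem_ofPred_eq]
        constructor
        · rintro ⟨hx, hxj⟩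
          rcases Nat.lt_succ_iff_lt_or_eq.mp hx with h | h
          · exact ⟨h, hxj⟩
          · subst h; exact absurd hxj hj
        · rintro ⟨h, hxj⟩
          exact ⟨Nat.lt_succ_of_lt h, hxj⟩
      have h3 : c N ∈ Submodule.span R (c '' Set.Iio N) := by
        unfold FunFld.IsJump at hj
        exact not_not.mp hj
      rw [h2, ← ih]
      refine sup_eq_right.mpr ?_
      rw [Submodule.span_le]
      intro x hx
      rw [Set.mem_singleton_iff] at hx
      subst hx
      exact h3

/-- A linearly independent family of columns with indices `< N` has at most as many members as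
there are jumps `< N`. -/
theorem card_le_of_linearIndependent {K M : Type*} [DivisionRing K] [AddCommGroup M] [Module K M]
    (c : ℕ → M) (N : ℕ) {ι : Type*} [Fintype ι] (f : ι → ℕ) (hf : ∀ i, f i < N)
    (hli : LinearIndependent K (fun i => c (f i))) (U : Finset ℕ)
    (hU : ∀ j, j < N → FunFld.IsJump K c j → j ∈ U) : Fintype.card ι ≤ U.card := by
  classical
  set W : Submodule K M := Submodule.span K ((U.image c : Finset M) : Set M) with hW
  have hWfin : Module.finrank K W ≤ U.card :=
    (finrank_span_finset_le_card (R := K) (U.image c)).trans Finset.card_image_le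
  have : FiniteDimensional K W := FiniteDimensional.span_finset K (U.image c)
  have hmem : ∀ i, c (f i) ∈ W := by
    intro i
    have h1 : c (f i) ∈ Submodule.span K (c '' Set.Iio N) :=
      Submodule.subset_span ⟨f i, hf i, rfl⟩
    rw [span_eq_span_jumps] at h1
    refine Submodule.span_mono ?_ h1
    rintro _ ⟨j, ⟨hjN, hj⟩, rfl⟩
    rw [Finset.coe_image]
    exact ⟨j, Finset.mem_coe.mpr (hU j hjN hj), rfl⟩
  have hli' : LinearIndependent K (fun i => (⟨c (f i), hmem i⟩ : W)) := by
    refine LinearIndependent.of_comp W.subtype ?_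
    exact hli
  exact hli'.fintype_card_le_finrank.trans hWfin

/-- Over an algebraically closed constant field, if `j'₁ < ⋯ < j'ₙ` is a strictly increasing sequence
with `det [τ(φ) | D^(j'₁) φ | ⋯ | D^(j'ₙ) φ] ≠ 0`, then the `τ`-orders `j₁ < ⋯ < jₙ` of `φ` satisfy
`jₗ ≤ j'ₗ` for all `l`. -/
theorem result
    (k K : Type*) [Field k] [IsAlgClosed k] [Field K] [Algebra k K]
    (hK : FunFld.IsFunctionField k K) {n : ℕ} (φ : Fin (n + 1) → K) (hφ : LinearIndependent k φ)
    (τ : K →ₐ[k] K) (s : K) (H : K →ₐ[k] PowerSeries K) (hH : LocRes.IsHasseFamily s H)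
    (J : Fin n → ℕ) (hJ : FunFld.IsOrders K (FunFld.hcol τ H φ) J)
    (J' : Fin n → ℕ) (hJ' : StrictMono J') (hdet : (FunFld.wrMat τ H φ J').det ≠ 0) :
    ∀ l, J l ≤ J' l := by
  classical
  intro l
  by_contra hlt
  rw [not_le] at hlt
  obtain ⟨hJmono, hJr⟩ := hJ
  set c := FunFld.hcol τ H φ with hc
  let idx : Fin (n + 1) → ℕ := fun i => Fin.cases (motive := fun _ => ℕ) 0 (fun m => J' m + 1) i
  have hcols : ∀ i, (FunFld.wrMat τ H φ J').col i = c (idx i) := by
    intro i
    funext r
    refine Fin.cases ?_ (fun m => ?_) i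
    · rfl
    · rfl
  have hli : LinearIndependent K (fun i => c (idx i)) := by
    have := Matrix.linearIndependent_cols_of_det_ne_zero hdet
    have h2 : (FunFld.wrMat τ H φ J').col = fun i => c (idx i) := funext hcols
    rwa [h2] at this
  -- restrict to the first `l + 2` columns
  let S : Finset (Fin (n + 1)) := Finset.Iic l.succ
  have hliS : LinearIndependent K (fun i : S => c (idx i.1)) :=
    hli.comp (fun i : S => i.1) Subtype.val_injective
  have hidx0 : ∀ i : Fin (n + 1), i ≤ l.succ → idx i < J' l + 2 := by
    intro i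
    refine Fin.cases ?_ (fun m => ?_) i
    · intro _
      show 0 < J' l + 2
      omega
    · intro hm
      have hm' : m ≤ l := Fin.succ_le_succ_iff.mp hm
      have := hJ'.monotone hm'
      show J' m + 1 < J' l + 2
      omega
  have hidx : ∀ i : S, idx i.1 < J' l + 2 := fun i => hidx0 i.1 (Finset.mem_Iic.mp i.2)
  let U : Finset ℕ :=
    insert 0 ((Finset.Iio l).image (fun m => J m + 1))
  have hU : ∀ j, j < J' l + 2 → FunFld.IsJump K c j → j ∈ U := by
    intro j hj hjump
    cases j with
    | zero => exact Finset.mem_insert_self _ _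
    | succ i =>
      obtain ⟨m, rfl⟩ := (hJr i).mpr hjump
      refine Finset.mem_insert_of_mem (Finset.mem_image.mpr ⟨m, ?_, rfl⟩)
      rw [Finset.mem_Iio]
      refine hJmono.lt_iff_lt.mp ?_
      omega
  have hcard := card_le_of_linearIndependent c (J' l + 2) (fun i : S => idx i.1) hidx hliS U hU
  rw [Fintype.card_coe, Fin.card_Iic] at hcard
  have hUc : U.card ≤ l + 1 := by
    refine (Finset.card_insert_le _ _).trans ?_
    have := (Finset.card_image_le (s := Finset.Iio l) (f := fun m => J m + 1))
    rw [Fin.card_Iio] at this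
    omega
  have : (l.succ : ℕ) = l + 1 := Fin.val_succ l
  omega

end Groth.Agent.S12601
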