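import Groth.Statements.S12597
import Mathlib
import Groth.Agent.S12601
-- import your own Groth.Agent.* helpers here

set_option autoImplicit false
open FunFld

namespace Groth.Agent.S12597


open Submodule in
/-- A triangular change of the column sequence, with nonzero diagonal, preserves the spans of the
initial segments and the jumps. -/
theorem tri {K M : Type*} [Field K] [AddCommGroup M] [Module K M] (c c' : ℕ → M) (u : ℕ → K)
    (hu : ∀ j, u j ≠ 0) (h : ∀ j, c' j - u j • c j ∈ span K (c '' Set.Iio j)) :
    (∀ N, span K (c' '' Set.Iio N) = span K (c '' Set.Iio N)) ∧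
      ∀ j, FunFld.IsJump K c' j ↔ FunFld.IsJump K c j := by
  have hmem : ∀ j, c' j ∈ span K (c '' Set.Iio j) ↔ c j ∈ span K (c '' Set.Iio j) := by
    intro j
    constructor
    · intro h1
      have h2 : u j • c j ∈ span K (c '' Set.Iio j) := by
        have := Submodule.sub_mem _ h1 (h j)
        simpa using this
      have h3 := Submodule.smul_mem _ (u j)⁻¹ h2
      rwa [smul_smul, inv_mul_cancel₀ (hu j), one_smul] at h3
    · intro h1
      have h2 := Submodule.add_mem _ (h j) (Submodule.smul_mem _ (u j) h1)
      simpa using h2
  have hspan : ∀ N, span K (c' '' Set.Iio N) = span K (c '' Set.Iio N) := by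
    intro N
    induction N with
    | zero =>
      have h1 : (Set.Iio 0 : Set ℕ) = ∅ := by ext x; simp
      rw [h1, Set.image_empty, Set.image_empty]
    | succ N ih =>
      have h1 : (Set.Iio (N + 1) : Set ℕ) = insert N (Set.Iio N) := by
        ext x; simp only [Set.mem_Iio, Set.mem_insert_iff]; omega
      rw [h1, Set.image_insert_eq, Set.image_insert_eq, span_insert, span_insert, ih]
      apply le_antisymm
      · refine sup_le ?_ le_sup_right
        rw [span_le]
        intro x hx
        rw [Set.mem_singleton_iff] at hx
        subst hx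
        have h2 : c' N = (c' N - u N • c N) + u N • c N := by abel
        rw [h2]
        refine Submodule.add_mem _ (le_sup_right (a := span K {c N}) (h N)) ?_
        exact le_sup_left (b := span K (c '' Set.Iio N))
          (Submodule.smul_mem _ _ (subset_span rfl))
      · refine sup_le ?_ le_sup_right
        rw [span_le]
        intro x hx
        rw [Set.mem_singleton_iff] at hx
        subst hx
        have h2 : c N = (u N)⁻¹ • (c' N - (c' N - u N • c N)) := by
          rw [sub_sub_cancel, smul_smul, inv_mul_cancel₀ (hu N), one_smul]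
        rw [h2]
        refine Submodule.smul_mem _ _ (Submodule.sub_mem _ ?_ ?_)
        · exact le_sup_left (b := span K (c '' Set.Iio N)) (subset_span rfl)
        · exact le_sup_right (a := span K {c' N}) (h N)
  refine ⟨hspan, fun j => ?_⟩
  unfold FunFld.IsJump
  rw [hspan j, hmem j]

/-- Over an algebraically closed constant field, multiplying a projective map `φ = (φ₀, …, φₙ)` by a
nonzero function `y` does not change its `τ`-order sequence `J`, and multiplies the Wronskian `det
[τ(φ) | D^(j₁) φ | ⋯ | D^(jₙ) φ]` taken at that sequence by `τ(y) yⁿ`. -/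
theorem result
    (k K : Type*) [Field k] [IsAlgClosed k] [Field K] [Algebra k K]
    (hK : FunFld.IsFunctionField k K) {n : ℕ} (φ : Fin (n + 1) → K) (hφ : LinearIndependent k φ)
    (τ : K →ₐ[k] K) (s : K) (H : K →ₐ[k] PowerSeries K) (hH : LocRes.IsHasseFamily s H) (y : K) (hy : y ≠ 0) :
    (∀ J : Fin n → ℕ, FunFld.IsOrders K (FunFld.hcol τ H (y • φ)) J ↔ FunFld.IsOrders K (FunFld.hcol τ H φ) J) ∧
    ∀ J : Fin n → ℕ, FunFld.IsOrders K (FunFld.hcol τ H φ) J →
      (FunFld.wrMat τ H (y • φ) J).det = τ y * y ^ n * (FunFld.wrMat τ H φ J).det := by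
  classical
  set c := FunFld.hcol τ H φ with hc
  set c' := FunFld.hcol τ H (y • φ) with hc'
  let u : ℕ → K := fun j => if j = 0 then τ y else y
  have hu : ∀ j, u j ≠ 0 := by
    intro j
    by_cases hj : j = 0
    · simp only [u, if_pos hj]
      exact (map_ne_zero_iff τ τ.toRingHom.injective).mpr hy
    · simp only [u, if_neg hj]
      exact hy
  -- the higher product rule
  have hleib : ∀ j, c' (j + 1) = ∑ p ∈ Finset.HasAntidiagonal.antidiagonal j,
      PowerSeries.coeff p.1 (H y) • c (p.2 + 1) := by
    intro j
    funext i
    rw [Finset.sum_apply]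
    show PowerSeries.coeff j (H (y * φ i)) = _
    rw [map_mul, PowerSeries.coeff_mul]
    rfl
  have htri : ∀ j, c' j - u j • c j ∈ Submodule.span K (c '' Set.Iio j) := by
    intro j
    cases j with
    | zero =>
      have : c' 0 = u 0 • c 0 := by
        funext i
        show τ (y * φ i) = τ y * τ (φ i)
        rw [map_mul]
      rw [this, sub_self]
      exact Submodule.zero_mem _
    | succ j =>
      have h0j : ((0, j) : ℕ × ℕ) ∈ Finset.HasAntidiagonal.antidiagonal j := by
        rw [Finset.HasAntidiagonal.mem_antidiagonal]; simp
      have hu1 : u (j + 1) = y := by simp [u]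
      rw [hleib j, ← Finset.add_sum_erase _ _ h0j, hu1]
      have hy0 : PowerSeries.coeff 0 (H y) = y := by
        rw [PowerSeries.coeff_zero_eq_constantCoeff_apply]
        exact hH.2 y
      rw [hy0, add_sub_cancel_left]
      refine Submodule.sum_mem _ fun p hp => ?_
      refine Submodule.smul_mem _ _ (Submodule.subset_span ⟨p.2 + 1, ?_, rfl⟩)
      rw [Finset.mem_erase, Finset.HasAntidiagonal.mem_antidiagonal] at hp
      obtain ⟨hne, hsum⟩ := hp
      rw [Set.mem_Iio]
      have : p.1 ≠ 0 := by
        intro h
        apply hne
        ext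
        · exact h
        · simp only; omega
      omega
  obtain ⟨hspan, hjump⟩ := tri c c' u hu htri
  refine ⟨fun J => ?_, fun J hJ => ?_⟩
  · unfold FunFld.IsOrders
    simp only [hjump]
  · obtain ⟨hJmono, hJr⟩ := hJ
    let idx : Fin (n + 1) → ℕ := fun i => Fin.cases (motive := fun _ => ℕ) 0 (fun m => J m + 1) i
    let d : Fin (n + 1) → K := fun q => u (idx q)
    have hidx_lt : ∀ r q : Fin (n + 1), r < q → idx r < idx q := by
      intro r q
      refine Fin.cases ?_ (fun m => ?_) r <;> refine Fin.cases ?_ (fun l => ?_) q
      · intro h; exact absurd h (lt_irrefl _)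
      · intro _; exact Nat.succ_pos _
      · intro h; exact absurd h (Fin.not_lt_zero _)
      · intro h
        have : m < l := Fin.succ_lt_succ_iff.mp h
        exact Nat.succ_lt_succ (hJmono this)
    -- the columns
    have hW : ∀ i q, FunFld.wrMat τ H φ J i q = c (idx q) i := by
      intro i q
      refine Fin.cases ?_ (fun m => ?_) q <;> rfl
    have hW' : ∀ i q, FunFld.wrMat τ H (y • φ) J i q = c' (idx q) i := by
      intro i q
      refine Fin.cases ?_ (fun m => ?_) q <;> rfl
    -- the earlier columns span the initial segment
    have hseg : ∀ q : Fin (n + 1), Submodule.span K (c '' Set.Iio (idx q)) ≤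
        Submodule.span K ((fun r : Fin (n + 1) => c (idx r)) '' {r | r < q}) := by
      intro q
      rw [Groth.Agent.S12601.span_eq_span_jumps]
      refine Submodule.span_mono ?_
      rintro _ ⟨j, ⟨hjq, hj⟩, rfl⟩
      cases j with
      | zero =>
        refine ⟨0, ?_, rfl⟩
        show (0 : Fin (n + 1)) < q
        rcases Fin.eq_zero_or_eq_succ q with h | ⟨l, h⟩
        · subst h; exact absurd hjq (lt_irrefl _)
        · subst h; exact Fin.succ_pos l
      | succ i =>
        obtain ⟨m, rfl⟩ := (hJr i).mpr hj
        refine ⟨m.succ, ?_, rfl⟩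
        show m.succ < q
        rcases Fin.eq_zero_or_eq_succ q with h | ⟨l, h⟩
        · subst h; exact absurd hjq (Nat.not_lt_zero _)
        · subst h
          have h1 : J m + 1 < J l + 1 := hjq
          have h2 : J m < J l := Nat.lt_of_succ_lt_succ h1
          exact Fin.succ_lt_succ_iff.mpr (hJmono.lt_iff_lt.mp h2)
    -- coefficients
    have hex : ∀ q : Fin (n + 1), ∃ l : Fin (n + 1) →₀ K, l ∈ Finsupp.supported K K {r | r < q} ∧
        Finsupp.linearCombination K (fun r : Fin (n + 1) => c (idx r)) l =
          c' (idx q) - d q • c (idx q) := by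
      intro q
      exact (Finsupp.mem_span_image_iff_linearCombination K).mp (hseg q (htri (idx q)))
    choose l hl_supp hl_eq using hex
    let T : Matrix (Fin (n + 1)) (Fin (n + 1)) K :=
      Matrix.of fun r q => (if r = q then d q else 0) + l q r
    have hl_zero : ∀ q r : Fin (n + 1), ¬ r < q → l q r = 0 := by
      intro q r hrq
      have := hl_supp q
      rw [Finsupp.mem_supported'] at this
      exact this r hrq
    have hmul : FunFld.wrMat τ H (y • φ) J = FunFld.wrMat τ H φ J * T := by
      ext i q
      rw [Matrix.mul_apply, hW']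
      have h1 : c' (idx q) = d q • c (idx q) +
          Finsupp.linearCombination K (fun r : Fin (n + 1) => c (idx r)) (l q) := by
        rw [hl_eq q]; abel
      rw [h1, Finsupp.linearCombination_apply,
        Finsupp.sum_fintype (l q) (fun r a => a • c (idx r)) (fun r => zero_smul K _)]
      simp only [Pi.add_apply, Pi.smul_apply, Finset.sum_apply, smul_eq_mul, hW, T, Matrix.of_apply,
        mul_add, Finset.sum_add_distrib, mul_ite, mul_zero]
      rw [Finset.sum_ite_eq' Finset.univ q, if_pos (Finset.mem_univ q)]
      congr 1
      · rw [mul_comm]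
      · refine Finset.sum_congr rfl fun r _ => ?_
        rw [mul_comm]
    have hT : T.IsUpperTriangular := by
      intro r q hqr
      have hqr' : q < r := hqr
      show (if r = q then d q else 0) + l q r = 0
      rw [if_neg (ne_of_gt hqr'), zero_add]
      exact hl_zero q r (not_lt.mpr hqr'.le)
    have hTdiag : ∀ q, T q q = d q := by
      intro q
      show (if q = q then d q else 0) + l q q = d q
      rw [if_pos rfl, hl_zero q q (lt_irrefl _), add_zero]
    rw [hmul, Matrix.det_mul, Matrix.det_of_isUpperTriangular hT]
    simp only [hTdiag]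
    rw [Fin.prod_univ_succ]
    have hd0 : d 0 = τ y := by simp [d, u, idx]
    have hds : ∀ m : Fin n, d m.succ = y := by
      intro m
      simp [d, u, idx]
    simp only [hd0, hds, Finset.prod_const, Finset.card_univ, Fintype.card_fin]
    ring

end Groth.Agent.S12597
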