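import Groth.Statements.S12599
import Groth.Agent.Lib.Helper27.HD11
open Groth.Agent.Lib.Helper27

set_option autoImplicit false
open FunFld

namespace Groth.Agent.S12599

/-- Over an algebraically closed constant field, for a place `P` with local parameter `t`, and a
linearly independent tuple `φ = (φ₀, …, φₙ)` of functions integral at `P`, the matrix of values at
`P` of the Hasse derivatives `D_t^(j)(φᵢ)`, `j = 0, 1, …`, has rank `n + 1`: its rows are linearly
independent over the residue field. -/
theorem result
    (k K : Type*) [Field k] [IsAlgClosed k] [Field K] [Algebra k K]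
    (hK : FunFld.IsFunctionField k K) {n : ℕ} (φ : Fin (n + 1) → K) (hφ : LinearIndependent k φ)
    (P : FunFld.Place k K) (hint : ∀ i, P.1 (φ i) ≤ 1) (t : K) (ht : P.1 t = WithZero.exp (-1))
    (Ht : K →ₐ[k] PowerSeries K) (hHt : LocRes.IsHasseFamily t Ht) :
    LinearIndependent (IsLocalRing.ResidueField P.O)
      (fun i : Fin (n + 1) => fun j : ℕ => FunFld.evalP P (LocRes.hasseD Ht j (φ i))) := by
  classical
  have hP1 := Groth.Agent.Lib.Helper23.FF.deg_eq_one hK P
  have hsurj := HD.surjective_algebraMap_residue P hP1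
  have hinj : Function.Injective (algebraMap k (IsLocalRing.ResidueField P.O)) :=
    (algebraMap k (IsLocalRing.ResidueField P.O)).injective
  rw [Fintype.linearIndependent_iff]
  intro g hg
  choose c hc using fun i => hsurj (g i)
  set x : K := ∑ i, c i • φ i with hx
  have hx1 : P.1 x ≤ 1 := by
    rw [hx]
    apply P.1.map_sum_le
    intro i _
    rw [Algebra.smul_def, map_mul]
    exact mul_le_one' (P.2.1 _) (hint i)
  -- all Taylor coefficients of x vanish
  have hcoef : ∀ j : ℕ, (HD.exp hK P ht x).coeff j = 0 := by
    intro j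
    have h1 := congrFun hg j
    simp only [Finset.sum_apply, Pi.smul_apply, Pi.zero_apply] at h1
    have h2 : ∀ i, g i • FunFld.evalP P (LocRes.hasseD Ht j (φ i)) =
        algebraMap k (IsLocalRing.ResidueField P.O) (c i * (HD.exp hK P ht (φ i)).coeff j) := by
      intro i
      rw [HD.evalP_hasseD hK P ht hHt (hint i) j, ← hc i, smul_eq_mul, ← map_mul]
    rw [Finset.sum_congr rfl (fun i _ => h2 i), ← map_sum] at h1
    have h3 := hinj (h1.trans (map_zero _).symm)
    rw [hx, map_sum, HahnSeries.coeff_sum]
    rw [← h3]
    apply Finset.sum_congr rfl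
    intro i _
    rw [Algebra.smul_def, map_mul, AlgHom.commutes, LocRes.algebraMap_eq_C,
      HahnSeries.C_mul_eq_smul, HahnSeries.coeff_smul, smul_eq_mul]
  have hx0 : x = 0 := by
    have hexp := HD.isExpansionAt_exp hK P ht
    have h1 : Valued.v (HD.exp hK P ht x) ≤ 1 := by rw [hexp.1]; exact hx1
    obtain ⟨f, hf⟩ := (LaurentSeries.val_le_one_iff_eq_coe k _).mp h1
    have hf0 : f = 0 := by
      ext j
      have := hcoef j
      rw [← hf, PowerSeries.coeff_coe, if_neg (by omega), Int.natAbs_natCast] at this
      rw [this, map_zero]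
    rw [hf0] at hf
    have h2 : HD.exp hK P ht x = 0 := by rw [← hf]; simp
    have h3 : P.1 x = 0 := by rw [← hexp.1, h2, map_zero]
    exact (P.1.zero_iff).mp h3
  have hc0 := Fintype.linearIndependent_iff.mp hφ c hx0
  intro i
  rw [← hc i, hc0 i, map_zero]

end Groth.Agent.S12599
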