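import Groth.Statements.S12602
import Mathlib
import Groth.Agent.S12601
-- import your own Groth.Agent.* helpers here

set_option autoImplicit false
open FunFld

namespace Groth.Agent.S12602


/-- The jumps of a sequence of vectors are linearly independent. -/
theorem linearIndepOn_jumps {K M : Type*} [DivisionRing K] [AddCommGroup M] [Module K M]
    (c : ℕ → M) (N : ℕ) : LinearIndepOn K c {j | j < N ∧ FunFld.IsJump K c j} := by
  induction N with
  | zero =>
    have h2 : {j : ℕ | j < 0 ∧ FunFld.IsJump K c j} = ∅ := by ext x; simp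
    rw [h2]
    exact linearIndepOn_empty K c
  | succ N ih =>
    by_cases hj : FunFld.IsJump K c N
    · have h2 : {j : ℕ | j < N + 1 ∧ FunFld.IsJump K c j} =
          insert N {j | j < N ∧ FunFld.IsJump K c j} := by
        ext x
        simp only [Set.mem_ofPred_eq, Set.mem_insert_iff]
        constructor
        · rintro ⟨hx, hxj⟩
          rcases Nat.lt_succ_iff_lt_or_eq.mp hx with h | h
          · exact Or.inr ⟨h, hxj⟩
          · exact Or.inl h
        · rintro (h | ⟨h, hxj⟩)
          · subst h; exact ⟨Nat.lt_succ_self _, hj⟩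
          · exact ⟨Nat.lt_succ_of_lt h, hxj⟩
      have hN : N ∉ {j | j < N ∧ FunFld.IsJump K c j} := by
        intro h
        exact lt_irrefl _ h.1
      rw [h2, linearIndepOn_insert hN]
      refine ⟨ih, ?_⟩
      rw [← Groth.Agent.S12601.span_eq_span_jumps]
      exact hj
    · have h2 : {j : ℕ | j < N + 1 ∧ FunFld.IsJump K c j} =
          {j | j < N ∧ FunFld.IsJump K c j} := by
        ext x
        simp only [Set.mem_ofPred_eq]
        constructor
        · rintro ⟨hx, hxj⟩
          rcases Nat.lt_succ_iff_lt_or_eq.mp hx with h | h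
          · exact ⟨h, hxj⟩
          · subst h; exact absurd hxj hj
        · rintro ⟨h, hxj⟩
          exact ⟨Nat.lt_succ_of_lt h, hxj⟩
      rw [h2]
      exact ih

open Submodule in
/-- The exchange argument: replacing the leading column `d 0` by `t` turns column `1` into a jump
and kills exactly one jump. -/
theorem key {K M : Type*} [DivisionRing K] [AddCommGroup M] [Module K M]
    (d : ℕ → M) (t : M) (cid ct : ℕ → M) (h0 : cid 0 = d 0) (hs : ∀ j, cid (j + 1) = d j)
    (h0' : ct 0 = t) (hs' : ∀ j, ct (j + 1) = d j) (ht0 : t ≠ 0) (ht : d 0 ∉ span K {t})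
    (hex : ∃ j, t ∈ span K (d '' Set.Iio j)) :
    ∃ j₀, FunFld.IsJump K cid (j₀ + 1) ∧
      ∀ j, FunFld.IsJump K ct (j + 1) ↔ (j = 0 ∨ (j ≠ j₀ ∧ FunFld.IsJump K cid (j + 1))) := by
  classical
  have hA : ∀ j, d '' Set.Iio (j + 1) = insert (d j) (d '' Set.Iio j) := by
    intro j
    have h1 : (Set.Iio (j + 1) : Set ℕ) = insert j (Set.Iio j) := by
      ext x; simp only [Set.mem_Iio, Set.mem_insert_iff]; omega
    rw [h1, Set.image_insert_eq]
  have hcid : ∀ j, cid '' Set.Iio (j + 1) = insert (d 0) (d '' Set.Iio j) := by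
    intro j
    ext x
    constructor
    · rintro ⟨i, hi, rfl⟩
      cases i with
      | zero => exact Or.inl h0
      | succ i =>
        refine Or.inr ⟨i, ?_, (hs i).symm⟩
        simp only [Set.mem_Iio] at hi ⊢
        omega
    · rintro (h | ⟨i, hi, rfl⟩)
      · exact ⟨0, by simp, by rw [h0, h]⟩
      · refine ⟨i + 1, ?_, hs i⟩
        simp only [Set.mem_Iio] at hi ⊢
        omega
  have hct : ∀ j, ct '' Set.Iio (j + 1) = insert t (d '' Set.Iio j) := by
    intro j
    ext x
    constructor
    · rintro ⟨i, hi, rfl⟩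
      cases i with
      | zero => exact Or.inl h0'
      | succ i =>
        refine Or.inr ⟨i, ?_, (hs' i).symm⟩
        simp only [Set.mem_Iio] at hi ⊢
        omega
    · rintro (h | ⟨i, hi, rfl⟩)
      · exact ⟨0, by simp, by rw [h0', h]⟩
      · refine ⟨i + 1, ?_, hs' i⟩
        simp only [Set.mem_Iio] at hi ⊢
        omega
  have hcid' : ∀ j, 0 < j → span K (cid '' Set.Iio (j + 1)) = span K (d '' Set.Iio j) := by
    intro j hj
    rw [hcid j]
    exact span_insert_eq_span (subset_span ⟨0, hj, rfl⟩)
  have hjid : ∀ j, FunFld.IsJump K cid (j + 1) ↔ d j ∉ span K (insert (d 0) (d '' Set.Iio j)) := by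
    intro j
    unfold FunFld.IsJump
    rw [hs j, hcid j]
  have hjt : ∀ j, FunFld.IsJump K ct (j + 1) ↔ d j ∉ span K (insert t (d '' Set.Iio j)) := by
    intro j
    unfold FunFld.IsJump
    rw [hs' j, hct j]
  have hE0 : (d '' Set.Iio 0) = ∅ := by
    ext x; simp
  have hex' : ∃ j, t ∈ span K (d '' Set.Iio (j + 1)) := by
    obtain ⟨j, hj⟩ := hex
    cases j with
    | zero =>
      rw [hE0, span_empty] at hj
      exact absurd ((Submodule.mem_bot K).mp hj) ht0
    | succ i => exact ⟨i, hj⟩
  let j₀ := Nat.find hex'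
  have hj₀ : t ∈ span K (d '' Set.Iio (j₀ + 1)) := Nat.find_spec hex'
  have hmin : ∀ j, j ≤ j₀ → t ∉ span K (d '' Set.Iio j) := by
    intro j hj
    cases j with
    | zero =>
      rw [hE0, span_empty]
      intro h
      exact ht0 ((Submodule.mem_bot K).mp h)
    | succ i =>
      exact Nat.find_min hex' (Nat.lt_of_succ_le hj)
  have hmono : ∀ i j, i ≤ j → span K (d '' Set.Iio i) ≤ span K (d '' Set.Iio j) := by
    intro i j hij
    refine span_mono (Set.image_mono ?_)
    intro x hx
    exact lt_of_lt_of_le hx hij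
  -- exchange at `j₀`
  have hexch : d j₀ ∈ span K (insert t (d '' Set.Iio j₀)) := by
    refine mem_span_insert_exchange ?_ (hmin j₀ le_rfl)
    rw [← hA]
    exact hj₀
  have hj₀pos : 0 < j₀ := by
    rcases Nat.eq_zero_or_pos j₀ with h | h
    · exfalso
      rw [h, hE0] at hexch
      exact ht (by simpa using hexch)
    · exact h
  have hj₀id : d j₀ ∉ span K (d '' Set.Iio j₀) := by
    intro h
    apply hmin j₀ le_rfl
    have : span K (d '' Set.Iio (j₀ + 1)) = span K (d '' Set.Iio j₀) := by
      rw [hA]
      exact span_insert_eq_span h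
    rw [← this]
    exact hj₀
  refine ⟨j₀, ?_, ?_⟩
  · rw [hjid, ← hcid j₀, hcid' j₀ hj₀pos]
    exact hj₀id
  · intro j
    rw [hjt]
    rcases Nat.eq_zero_or_pos j with hj | hj
    · subst hj
      constructor
      · intro _; exact Or.inl rfl
      · intro _
        rw [hE0]
        simpa using ht
    · rw [hjid, ← hcid j, hcid' j hj]
      rcases lt_trichotomy j j₀ with hlt | heq | hgt
      · -- before the exchange
        have htj : t ∉ span K (d '' Set.Iio (j + 1)) := hmin (j + 1) hlt
        constructor
        · intro h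
          refine Or.inr ⟨hlt.ne, ?_⟩
          intro h'
          exact h (span_mono (Set.subset_insert _ _) h')
        · rintro (h | ⟨_, h⟩)
          · omega
          · intro h'
            apply htj
            rw [hA]
            exact mem_span_insert_exchange h' h
      · subst heq
        constructor
        · intro h; exact absurd hexch h
        · rintro (h | ⟨h, _⟩)
          · omega
          · exact absurd rfl h
      · have htj : t ∈ span K (d '' Set.Iio j) := hmono (j₀ + 1) j hgt hj₀
        rw [span_insert_eq_span htj]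
        constructor
        · intro h; exact Or.inr ⟨hgt.ne', h⟩
        · rintro (h | ⟨_, h⟩)
          · omega
          · exact h

/-- Over an algebraically closed constant field, for a birational projective map `φ = (φ₀, …, φₙ)`, `n ≥
1`, with orders `j₁ < ⋯ < jₙ`, and `τ ≠ 1`, the `τ`-orders of `φ` are `(0, j₁, …, j_{m-1}, j_{m+1},
…, jₙ)` for some `m`: the jump indices of `[τ(φ) | D^(0) φ | D^(1) φ | ⋯]` after the leading column
are `0` and the `jₗ` with `l ≠ m`. -/
theorem result
    (k K : Type*) [Field k] [IsAlgClosed k] [Field K] [Algebra k K]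
    (hK : FunFld.IsFunctionField k K) {n : ℕ} (hn : 0 < n) (φ : Fin (n + 1) → K) (hφ : LinearIndependent k φ)
    (h0 : φ 0 ≠ 0) (hbir : IntermediateField.adjoin k (Set.range fun i => φ i / φ 0) = ⊤)
    (τ : K →ₐ[k] K) (hτ : τ ≠ AlgHom.id k K) (s : K) (H : K →ₐ[k] PowerSeries K) (hH : LocRes.IsHasseFamily s H)
    (J : Fin n → ℕ) (hJ : FunFld.IsOrders K (FunFld.hcol (AlgHom.id k K) H φ) J) :
    ∃ m : Fin n, ∀ j : ℕ,
      FunFld.IsJump K (FunFld.hcol τ H φ) (j + 1) ↔ (j = 0 ∨ ∃ l, l ≠ m ∧ J l = j) := by
  classical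
  obtain ⟨hJmono, hJr⟩ := hJ
  set cid := FunFld.hcol (AlgHom.id k K) H φ with hcid
  set ct := FunFld.hcol τ H φ with hct
  let d : ℕ → (Fin (n + 1) → K) := fun j i => LocRes.hasseD H j (φ i)
  have hd0 : d 0 = φ := by
    funext i
    show PowerSeries.coeff 0 (H (φ i)) = φ i
    rw [PowerSeries.coeff_zero_eq_constantCoeff_apply]
    exact hH.2 (φ i)
  have h0id : cid 0 = d 0 := by
    rw [hd0]; rfl
  have hsid : ∀ j, cid (j + 1) = d j := fun j => rfl
  have h0t : ct 0 = fun i => τ (φ i) := rfl
  have hst : ∀ j, ct (j + 1) = d j := fun j => rfl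
  have hφne : φ ≠ 0 := by
    intro h
    apply h0
    rw [h]; rfl
  have ht0 : (fun i => τ (φ i)) ≠ 0 := by
    intro h
    have := congrFun h 0
    simp only [Pi.zero_apply] at this
    exact h0 ((map_eq_zero_iff τ τ.toRingHom.injective).mp this)
  have ht : d 0 ∉ Submodule.span K {fun i => τ (φ i)} := by
    rw [hd0, Submodule.mem_span_singleton]
    rintro ⟨a, ha⟩
    have ha' : ∀ i, a * τ (φ i) = φ i := fun i => congrFun ha i
    have ha0 : a ≠ 0 := by
      rintro rfl
      apply h0
      rw [← ha' 0, zero_mul]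
    apply hτ
    -- τ fixes the generators
    let E : Subalgebra k K := AlgHom.equalizer τ (AlgHom.id k K)
    let F : IntermediateField k K := Subalgebra.toIntermediateField E (by
      intro x hx
      have hx' : τ x = x := hx
      show τ x⁻¹ = x⁻¹
      rw [map_inv₀, hx'])
    have hle : IntermediateField.adjoin k (Set.range fun i => φ i / φ 0) ≤ F := by
      rw [IntermediateField.adjoin_le_iff]
      rintro _ ⟨i, rfl⟩
      show τ (φ i / φ 0) = φ i / φ 0
      rw [map_div₀]
      have hτ0 : τ (φ 0) ≠ 0 := (map_ne_zero_iff τ τ.toRingHom.injective).mpr h0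
      rw [div_eq_div_iff hτ0 h0]
      linear_combination (-(τ (φ i))) * ha' 0 + τ (φ 0) * ha' i
    rw [hbir] at hle
    ext x
    exact hle (IntermediateField.mem_top)
  -- the columns of `cid` span everything
  have hex : ∃ j, (fun i => τ (φ i)) ∈ Submodule.span K (d '' Set.Iio j) := by
    let idx : Fin (n + 1) → ℕ := fun i => Fin.cases (motive := fun _ => ℕ) 0 (fun m => J m + 1) i
    have hidx_inj : Function.Injective idx := by
      intro a b
      refine Fin.cases ?_ (fun m => ?_) a <;> refine Fin.cases ?_ (fun m' => ?_) b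
      · intro _; rfl
      · intro h
        exact absurd h (Nat.succ_ne_zero _).symm
      · intro h
        exact absurd h (Nat.succ_ne_zero _)
      · intro h
        have : J m = J m' := Nat.succ_injective h
        rw [hJmono.injective this]
    have hjump : ∀ i, FunFld.IsJump K cid (idx i) := by
      intro i
      refine Fin.cases ?_ (fun m => ?_) i
      · show FunFld.IsJump K cid 0
        unfold FunFld.IsJump
        have : (cid '' Set.Iio 0) = ∅ := by ext x; simp
        rw [this, Submodule.span_empty, h0id, hd0]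
        intro h
        exact hφne ((Submodule.mem_bot K).mp h)
      · exact (hJr (J m)).mp ⟨m, rfl⟩
    obtain ⟨N, hN⟩ : ∃ N, ∀ i, idx i < N := by
      refine ⟨(Finset.univ.sup idx) + 1, fun i => ?_⟩
      exact Nat.lt_succ_of_le (Finset.le_sup (Finset.mem_univ i))
    have hli := linearIndepOn_jumps (K := K) cid N
    let g : Fin (n + 1) → {j | j < N ∧ FunFld.IsJump K cid j} := fun i => ⟨idx i, hN i, hjump i⟩
    have hg : Function.Injective g := by
      intro a b h
      exact hidx_inj (congrArg Subtype.val h)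
    have hli2 : LinearIndependent K (fun i => cid (idx i)) := hli.comp g hg
    have htop := hli2.span_eq_top_of_card_eq_finrank' (by simp)
    refine ⟨N, ?_⟩
    have hmem : (fun i => τ (φ i)) ∈ Submodule.span K (Set.range fun i => cid (idx i)) := by
      rw [htop]; exact Submodule.mem_top
    refine Submodule.span_mono ?_ hmem
    rintro _ ⟨i, rfl⟩
    have hi := hN i
    show cid (idx i) ∈ d '' Set.Iio N
    rcases hidx : idx i with _ | j
    · exact ⟨0, by rw [hidx] at hi; exact hi, h0id.symm⟩
    · refine ⟨j, ?_, rfl⟩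
      rw [hidx] at hi
      exact Nat.lt_of_succ_lt hi
  obtain ⟨j₀, hj₀, hall⟩ := key d (fun i => τ (φ i)) cid ct h0id hsid h0t hst ht0 ht hex
  obtain ⟨m, hm⟩ := (hJr j₀).mpr hj₀
  refine ⟨m, fun j => ?_⟩
  rw [hall j]
  constructor
  · rintro (h | ⟨hne, hj⟩)
    · exact Or.inl h
    · obtain ⟨l, hl⟩ := (hJr j).mpr hj
      refine Or.inr ⟨l, ?_, hl⟩
      rintro rfl
      exact hne (hl.symm.trans hm)
  · rintro (h | ⟨l, hne, hl⟩)
    · exact Or.inl h
    · refine Or.inr ⟨?_, (hJr j).mp ⟨l, hl⟩⟩
      rintro rfl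
      exact hne (hJmono.injective (hl.trans hm.symm))

end Groth.Agent.S12602
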