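import Groth.Statements.S12608
import Groth.Agent.Lib.Helper27.HD20
open Groth.Agent.Lib.Helper27

set_option autoImplicit false
open FunFld

namespace Groth.Agent.S12608

/-- Over an algebraically closed constant field, let `φ = (φ₀, …, φₙ)` be an effective projective map
normalized at the place `P`, `t` a local parameter at `P`, `j₁, …, jₙ` the orders of `φ` and `j'₁,
…, j'ₙ` the orders of `φ` at `P`. Then `jₗ ≤ j'ₗ` for all `l`, and the following are equivalent: all
`j'ₗ = jₗ`; the Wronskian `w_t(φ)` does not vanish at `P`; the Weierstrass divisor `W(φ)` has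
coefficient `0` at `P` (the divisor of `dt` in it read through a family of Laurent expansions). -/
theorem result
    (k K : Type*) [Field k] [IsAlgClosed k] [Field K] [Algebra k K]
    (hK : FunFld.IsFunctionField k K) (P : FunFld.Place k K) {n : ℕ} (φ : Fin (n + 1) → K) (hφ : LinearIndependent k φ)
    (heff : (1 : K) ∈ Submodule.span k (Set.range φ)) (hnorm : ∀ i, P.1 (φ i) ≤ 1)
    (t : K) (ht : P.1 t = WithZero.exp (-1))
    (Ht : K →ₐ[k] PowerSeries K) (hHt : LocRes.IsHasseFamily t Ht)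
    (J : Fin n → ℕ) (hJ : FunFld.IsOrders K (FunFld.hcol (AlgHom.id k K) Ht φ) J)
    (J' : Fin n → ℕ) (hJ' : FunFld.IsOrders (IsLocalRing.ResidueField P.O) (FunFld.hcolAt P Ht φ) J')
    (Φ : FunFld.Place k K → (K →ₐ[k] LaurentSeries k))
    (hΦ : ∀ P : FunFld.Place k K, LocRes.IsExpansionAt P.1 (Φ P)) :
    (∀ l, J l ≤ J' l) ∧
    ((∀ l, J' l = J l) ↔ FunFld.evalP P (FunFld.wrMat (AlgHom.id k K) Ht φ J).det ≠ 0) ∧
    ((∀ l, J' l = J l) ↔ FunFld.wDiv (AlgHom.id k K) Ht Φ t φ J P = 0) := by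
  have hP := HD.isFixedPt_id (k := k) P
  have hJpos := HD.orders_id_pos Ht hHt φ J hJ
  have hJ'1 : ∀ l, 1 ≤ J' l := HD.one_le_orders hK P ht hHt φ hnorm hJ'
  have hle : ∀ l, J l ≤ J' l := by
    obtain ⟨h1, h2⟩ := HD.val_det_wrMat hK (AlgHom.id k K) P hP φ hφ heff hnorm ht hHt hJ' J'
    have h3 := (h2 (Or.inl fun l => hJ'1 l)).mpr
      (by rw [HD.det_binomMat_self k J' hJ'.1]; exact one_ne_zero)
    have hdet : (wrMat (AlgHom.id k K) Ht φ J').det ≠ 0 := by
      intro h0
      rw [h0, map_zero] at h3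
      exact WithZero.exp_ne_zero h3.symm
    have hli : LinearIndependent K
        (fun i : Fin (n + 1) => hcol (AlgHom.id k K) Ht φ (HD.idx J' i)) := by
      have h1 := Matrix.linearIndependent_cols_of_det_ne_zero hdet
      have h2 : (wrMat (AlgHom.id k K) Ht φ J').col =
          fun i => hcol (AlgHom.id k K) Ht φ (HD.idx J' i) :=
        funext (HD.wrMat_col (AlgHom.id k K) Ht φ J')
      rwa [h2] at h1
    exact HD.orders_le_of_linearIndependent _ J hJ J' hJ'.1 hli
  obtain ⟨h1, h2⟩ := HD.val_det_wrMat hK (AlgHom.id k K) P hP φ hφ heff hnorm ht hHt hJ' J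
  have hterm : ∀ l, (0 : ℤ) ≤ (J' l : ℤ) - J l := by
    intro l; have := hle l; omega
  have hsum_nonneg : 0 ≤ ∑ l, ((J' l : ℤ) - J l) := Finset.sum_nonneg (fun l _ => hterm l)
  have hsum_zero : (∑ l, ((J' l : ℤ) - J l)) = 0 ↔ ∀ l, J' l = J l := by
    rw [Finset.sum_eq_zero_iff_of_nonneg (fun l _ => hterm l)]
    constructor
    · intro h l; have := h l (Finset.mem_univ l); omega
    · intro h l _; rw [h l]; simp
  have hbin : (∀ l, J' l = J l) → (binomMat k J' J).det ≠ 0 := by
    intro h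
    rw [show J' = J from funext h, HD.det_binomMat_self k J hJ.1]
    exact one_ne_zero
  refine ⟨hle, ?_, ?_⟩
  · have hw1 : P.1 (wrMat (AlgHom.id k K) Ht φ J).det ≤ 1 := by
      refine h1.trans ?_
      rw [← WithZero.exp_zero, WithZero.exp_le_exp]; omega
    rw [Ne, HD.evalP_eq_zero_iff P hw1, not_lt]
    constructor
    · intro h
      have hs := hsum_zero.mpr h
      have := (h2 (Or.inl hJpos)).mpr (hbin h)
      rw [this, hs]; simp
    · intro h
      apply hsum_zero.mp
      have := h.trans h1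
      rw [← WithZero.exp_zero, WithZero.exp_le_exp] at this
      omega
  · obtain ⟨g1, g2⟩ := HD.wDiv_ge_and_eq_iff hK (AlgHom.id k K) P hP φ hφ heff hnorm ht hHt hJ'
      Φ (hΦ P) hJ
    constructor
    · intro h
      have hs := hsum_zero.mpr h
      rw [(g2 (Or.inl hJpos)).mpr (hbin h), hs]
    · intro h
      rw [h] at g1
      exact hsum_zero.mp (le_antisymm g1 hsum_nonneg)

end Groth.Agent.S12608
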