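import Groth.Statements.S12611
import Groth.Agent.Lib.Helper27.HD32
import Groth.Agent.Lib.Helper23.FFAut
open Groth.Agent.Lib.Helper27

set_option autoImplicit false
open FunFld

namespace Groth.Agent.S12611

/-- Over an algebraically closed constant field of characteristic `0` or greater than `deg φ`, a
birational projective map `φ = (φ₀, …, φₙ)` is classical: its orders are `(1, 2, …, n)`, and for a
`k`-endomorphism `τ ≠ 1` its `τ`-orders are `(0, 1, …, n-1)`. (The published statement has no
fixed-point hypothesis for `τ ≠ 1` and is false without one: on a smooth plane cubic in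
characteristic `0`, pulling back along multiplication by `-2` gives `τ`-orders `(0, 2)`. This row
assumes `τ` has a strong fixed point — a place whose maximal ideal `τ` maps into its square — which
is what the proof uses, through the equality criterion for Wronskian orders at such a point.) -/
theorem result
    (k K : Type*) [Field k] [IsAlgClosed k] [Field K] [Algebra k K]
    (hK : FunFld.IsFunctionField k K) {n : ℕ} (φ : Fin (n + 1) → K) (hφ : LinearIndependent k φ)
    (h0 : φ 0 ≠ 0) (hbir : IntermediateField.adjoin k (Set.range fun i => φ i / φ 0) = ⊤)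
    (hchar : ringChar k = 0 ∨ (FunFld.mapDiv k φ).deg < ringChar k)
    (τ : K →ₐ[k] K) (s : K) (H : K →ₐ[k] PowerSeries K) (hH : LocRes.IsHasseFamily s H) :
    (τ = AlgHom.id k K → FunFld.IsOrders K (FunFld.hcol τ H φ) (fun l : Fin n => (l : ℕ) + 1)) ∧
    (τ ≠ AlgHom.id k K → (∃ P : FunFld.Place k K, FunFld.IsStrongFixedPt τ P) →
      FunFld.IsOrders K (FunFld.hcol τ H φ) (fun l : Fin n => (l : ℕ))) := by
  classical
  obtain ⟨J, hJ⟩ := HD.exists_isOrders φ hφ τ hK hH
  haveI : Infinite k := IsAlgClosed.instInfinite
  constructor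
  · intro hτ
    subst hτ
    obtain ⟨P⟩ : Nonempty (FunFld.Place k K) :=
      (Groth.Agent.Lib.Helper23.FF.infinite_places hK).nonempty
    have hle := HD.orders_le_of_place hK φ hφ hchar (AlgHom.id k K) hH P (HD.isFixedPt_id P)
      (fun l : Fin n => (l : ℕ) + 1) (fun a b hab => Nat.succ_lt_succ (Fin.lt_def.mp hab))
      (Or.inl fun l => Nat.succ_pos _)
      (fun J' hJ' hJ1 hc => HD.det_binomMat_succ_ne_zero k J' hJ'.injective hJ1 hc) hJ
    have hge := HD.strictMono_nat_succ_le J hJ.1 (HD.orders_id_pos H hH φ J hJ)
    have hEq : J = fun l : Fin n => (l : ℕ) + 1 := funext fun l => le_antisymm (hle l) (hge l)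
    rw [← hEq]
    exact hJ
  · rintro hτ ⟨P, hP⟩
    have hfix : FunFld.IsFixedPt τ P := fun z hz =>
      lt_of_le_of_lt (hP z hz) (by rw [← WithZero.exp_zero, WithZero.exp_lt_exp]; omega)
    have hle := HD.orders_le_of_place hK φ hφ hchar τ hH P hfix
      (fun l : Fin n => (l : ℕ)) (fun a b hab => Fin.lt_def.mp hab)
      (Or.inr hP)
      (fun J' hJ' hJ1 hc => HD.det_binomMat_id_ne_zero k J' hJ'.injective hc) hJ
    have hge := HD.strictMono_nat_le J hJ.1
    have hEq : J = fun l : Fin n => (l : ℕ) := funext fun l => le_antisymm (hle l) (hge l)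
    rw [← hEq]
    exact hJ

end Groth.Agent.S12611
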