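import Groth.Statements.S12612
import Mathlib
-- import your own Groth.Agent.* helpers here

set_option autoImplicit false
open FunFld

namespace Groth.Agent.S12612


section Aux
open MvPolynomial


/-- Chain rule for a derivation applied to a polynomial expression. -/
theorem deriv_aeval {k B M σ : Type*} [CommRing k] [CommRing B] [Algebra k B] [AddCommGroup M]
    [Module B M] [Module k M] [IsScalarTower k B M] [Fintype σ] [DecidableEq σ]
    (d : Derivation k B M) (v : σ → B) (p : MvPolynomial σ k) :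
    d (aeval v p) = ∑ i, aeval v (pderiv i p) • d (v i) := by
  induction p using MvPolynomial.induction_on with
  | C a =>
    simp only [aeval_C, Derivation.map_algebraMap, pderiv_C, map_zero, zero_smul,
      Finset.sum_const_zero]
  | add p q hp hq =>
    simp only [map_add, hp, hq, add_smul, Finset.sum_add_distrib]
  | mul_X p j hp =>
    have h1 : ∀ i, aeval v (pderiv i (p * X j)) • d (v i) =
        v j • (aeval v (pderiv i p) • d (v i)) + (if i = j then aeval v p • d (v j) else 0) := by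
      intro i
      rw [pderiv_mul, pderiv_X, map_add, map_mul, map_mul, aeval_X, add_smul, smul_smul, mul_comm]
      congr 1
      by_cases hij : i = j
      · subst hij
        simp
      · rw [if_neg hij, Pi.single_apply, if_neg (Ne.symm hij), map_zero, mul_zero, zero_smul]
    rw [map_mul, aeval_X, Derivation.leibniz, hp]
    simp only [h1]
    rw [Finset.sum_add_distrib, ← Finset.smul_sum, Finset.sum_ite_eq' Finset.univ j, if_pos (Finset.mem_univ j),
      add_comm]

/-- A homogeneous polynomial scales by the power of the factor. -/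
theorem aeval_smul_of_isHomogeneous {k B σ : Type*} [CommRing k] [CommRing B] [Algebra k B]
    [Fintype σ] (p : MvPolynomial σ k) (n : ℕ) (hp : p.IsHomogeneous n) (c : B) (v : σ → B) :
    aeval (fun i => c * v i) p = c ^ n * aeval v p := by
  rw [aeval_def, aeval_def, eval₂_eq', eval₂_eq', Finset.mul_sum]
  refine Finset.sum_congr rfl fun d hd => ?_
  have hd' : coeff d p ≠ 0 := mem_support_iff.mp hd
  have hdeg : ∑ i, d i = n := by
    have := hp hd'
    rw [← this, Finsupp.weight_apply, Finsupp.sum_fintype]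
    · simp
    · intro i; simp
  simp only [mul_pow, Finset.prod_mul_distrib, Finset.prod_pow_eq_pow_sum, hdeg]
  ring

end Aux

theorem key {K M : Type*} [Field K] [AddCommGroup M] [Module K M]
    (a00 a01 a02 a10 a11 a12 a20 a21 a22 u0 u1 u2 f0 f1 f2 : K) (du0 du1 du2 : M)
    (h0 : a00 * u0 + a01 * u1 + a02 * u2 = 1)
    (dh0 : a00 • du0 + a01 • du1 + a02 • du2 = 0)
    (E : f0 + (a10 * u0 + a11 * u1 + a12 * u2) * f1 + (a20 * u0 + a21 * u1 + a22 * u2) * f2 = 0)
    (C : f1 • (a10 • du0 + a11 • du1 + a12 • du2) + f2 • (a20 • du0 + a21 • du1 + a22 • du2) = 0) :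
    (a02 * f0 + a12 * f1 + a22 * f2) • (a10 • du0 + a11 • du1 + a12 • du2) =
      ((a00 * a11 * a22 - a00 * a12 * a21 - a01 * a10 * a22 + a01 * a12 * a20 + a02 * a10 * a21
        - a02 * a11 * a20) * f2) • (u0 • du1 - u1 • du0) := by
  linear_combination (norm := module)
    ((a01 * a12 - a02 * a11) * u1 - (a02 * a10 - a00 * a12) * u0) • (f0 • dh0 + C)
    + (f0 * h0 + E) • ((a02 * a10 - a00 * a12) • du0 - (a01 * a12 - a02 * a11) • du1)
    - (a02 * f0 + a12 * f1 + a22 * f2) •
      (h0 • (a10 • du0 + a11 • du1 + a12 • du2) - (a10 * u0 + a11 * u1 + a12 * u2) • dh0)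


/-- For a plane curve given by a homogeneous `f` of degree `e` with `f(1, x, y) = 0` and a change of
projective coordinates `X = AX'` (`A` invertible over `k`), with new affine coordinates `x' =
u₁/u₀`, `y' = u₂/u₀`, `z = 1/u₀ = X₀/X₀'` where `u = A⁻¹(1, x, y)ᵗ`, and `f'(X') = f(AX')`, the
differentials satisfy `dx/f̂_y = det(A) z^(e-3) dx'/f̂'_{y'}`, where `f̂_y = (∂f/∂X₂)(1, x, y)` and
`f̂'_{y'} = (∂f'/∂X₂')(1, x', y')` are assumed nonzero. (Stated for any field `K` over `k`
containing such `x`, `y`; the published setting is a plane model of a function field over an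
algebraically closed field, and the computation uses only the relation `f(1, x, y) = 0`.) -/
theorem result
    (k K : Type*) [Field k] [Field K] [Algebra k K]
    (f : MvPolynomial (Fin 3) k) (e : ℕ) (hf : f.IsHomogeneous e)
    (x y : K) (hfxy : MvPolynomial.aeval ![(1 : K), x, y] f = 0)
    (A : Matrix (Fin 3) (Fin 3) k) (hA : A.det ≠ 0)
    (u : Fin 3 → K) (hu : ∀ i, ∑ j, algebraMap k K (A i j) * u j = ![(1 : K), x, y] i)
    (hu0 : u 0 ≠ 0)
    (hfy : MvPolynomial.aeval ![(1 : K), x, y] (MvPolynomial.pderiv 2 f) ≠ 0)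
    (hfy' : MvPolynomial.aeval ![(1 : K), u 1 / u 0, u 2 / u 0]
      (MvPolynomial.pderiv 2
        (MvPolynomial.aeval (fun i : Fin 3 => ∑ j, MvPolynomial.C (A i j) * MvPolynomial.X j) f)) ≠ 0) :
    (MvPolynomial.aeval ![(1 : K), x, y] (MvPolynomial.pderiv 2 f))⁻¹ • KaehlerDifferential.D k K x =
      (algebraMap k K A.det * (u 0)⁻¹ ^ ((e : ℤ) - 3) *
        (MvPolynomial.aeval ![(1 : K), u 1 / u 0, u 2 / u 0]
          (MvPolynomial.pderiv 2
            (MvPolynomial.aeval (fun i : Fin 3 => ∑ j, MvPolynomial.C (A i j) * MvPolynomial.X j) f)))⁻¹) •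
        KaehlerDifferential.D k K (u 1 / u 0) := by
  classical
  have hz0 : (u 0)⁻¹ ≠ 0 := inv_ne_zero hu0
  -- the new point is `z • u`
  have hwu : ∀ j, ![(1 : K), u 1 / u 0, u 2 / u 0] j = (u 0)⁻¹ * u j := by
    intro j
    fin_cases j
    · show (1 : K) = (u 0)⁻¹ * u 0
      rw [inv_mul_cancel₀ hu0]
    · show u 1 / u 0 = (u 0)⁻¹ * u 1
      rw [div_eq_inv_mul]
    · show u 2 / u 0 = (u 0)⁻¹ * u 2
      rw [div_eq_inv_mul]
  have hLw : ∀ i, MvPolynomial.aeval ![(1 : K), u 1 / u 0, u 2 / u 0]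
      (∑ j, MvPolynomial.C (A i j) * MvPolynomial.X j) = (u 0)⁻¹ * ![(1 : K), x, y] i := by
    intro i
    simp only [map_sum, map_mul, MvPolynomial.aeval_C, MvPolynomial.aeval_X, hwu]
    rw [← hu i, Finset.mul_sum]
    refine Finset.sum_congr rfl fun j _ => ?_
    ring
  -- the partial derivative of the transformed polynomial
  have hpg : MvPolynomial.pderiv 2
      (MvPolynomial.aeval (fun i : Fin 3 => ∑ j, MvPolynomial.C (A i j) * MvPolynomial.X j) f) =
      ∑ i, MvPolynomial.C (A i 2) *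
        MvPolynomial.aeval (fun i : Fin 3 => ∑ j, MvPolynomial.C (A i j) * MvPolynomial.X j)
          (MvPolynomial.pderiv i f) := by
    rw [deriv_aeval (MvPolynomial.pderiv 2)]
    refine Finset.sum_congr rfl fun i _ => ?_
    have : MvPolynomial.pderiv 2 (∑ j, MvPolynomial.C (A i j) * (MvPolynomial.X j : MvPolynomial (Fin 3) k))
        = MvPolynomial.C (A i 2) := by
      rw [map_sum, Fin.sum_univ_three]
      simp only [MvPolynomial.pderiv_C_mul, MvPolynomial.pderiv_X]
      simp
    rw [this, smul_eq_mul, mul_comm]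
  have hgw : MvPolynomial.aeval ![(1 : K), u 1 / u 0, u 2 / u 0]
      (MvPolynomial.pderiv 2
        (MvPolynomial.aeval (fun i : Fin 3 => ∑ j, MvPolynomial.C (A i j) * MvPolynomial.X j) f)) =
      (u 0)⁻¹ ^ (e - 1) * ∑ i, algebraMap k K (A i 2) *
        MvPolynomial.aeval ![(1 : K), x, y] (MvPolynomial.pderiv i f) := by
    rw [hpg, map_sum, Finset.mul_sum]
    refine Finset.sum_congr rfl fun i _ => ?_
    rw [map_mul, MvPolynomial.aeval_C, MvPolynomial.comp_aeval_apply]
    simp only [hLw]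
    rw [aeval_smul_of_isHomogeneous _ (e - 1) hf.pderiv]
    ring
  -- abbreviations
  obtain ⟨f0, hf0⟩ : ∃ f0, f0 = MvPolynomial.aeval ![(1 : K), x, y] (MvPolynomial.pderiv 0 f) := ⟨_, rfl⟩
  obtain ⟨f1, hf1⟩ : ∃ f1, f1 = MvPolynomial.aeval ![(1 : K), x, y] (MvPolynomial.pderiv 1 f) := ⟨_, rfl⟩
  obtain ⟨f2, hf2⟩ : ∃ f2, f2 = MvPolynomial.aeval ![(1 : K), x, y] (MvPolynomial.pderiv 2 f) := ⟨_, rfl⟩
  rw [Fin.sum_univ_three, ← hf0, ← hf1, ← hf2] at hgw
  rw [← hf2] at hfy ⊢
  -- Euler's identity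
  have hE : f0 + x * f1 + y * f2 = 0 := by
    have h := congrArg (MvPolynomial.aeval ![(1 : K), x, y]) hf.sum_X_mul_pderiv
    rw [map_sum, Fin.sum_univ_three] at h
    simp only [map_mul, MvPolynomial.aeval_X, map_nsmul, hfxy, smul_zero, ← hf0, ← hf1, ← hf2] at h
    simpa using h
  -- the relation between `dx` and `dy`
  have hC : f1 • KaehlerDifferential.D k K x + f2 • KaehlerDifferential.D k K y = 0 := by
    have h := deriv_aeval (KaehlerDifferential.D k K) ![(1 : K), x, y] f
    rw [hfxy, map_zero, Fin.sum_univ_three, ← hf0, ← hf1, ← hf2] at h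
    simpa using h.symm
  -- the linear relations
  have h0 := hu 0
  have hx := hu 1
  have hy := hu 2
  rw [Fin.sum_univ_three] at h0 hx hy
  simp only [Matrix.cons_val_zero, Matrix.cons_val_one, Matrix.cons_val_two, Matrix.head_cons,
    Matrix.tail_cons] at h0 hx hy
  have hD : ∀ (c : k) (b : K), KaehlerDifferential.D k K (algebraMap k K c * b) =
      algebraMap k K c • KaehlerDifferential.D k K b := by
    intro c b
    rw [Derivation.leibniz, Derivation.map_algebraMap, smul_zero, add_zero]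
  have dh0 := congrArg (KaehlerDifferential.D k K) h0
  have dhx := congrArg (KaehlerDifferential.D k K) hx
  have dhy := congrArg (KaehlerDifferential.D k K) hy
  simp only [map_add, hD, Derivation.map_one_eq_zero] at dh0 dhx dhy
  -- the differential of `x'`
  have hdx' : KaehlerDifferential.D k K (u 1 / u 0) =
      ((u 0)⁻¹ ^ 2) • (u 0 • KaehlerDifferential.D k K (u 1) - u 1 • KaehlerDifferential.D k K (u 0)) :=
    Derivation.leibniz_div _ _ _
  -- the key identity
  have hkey := key (algebraMap k K (A 0 0)) (algebraMap k K (A 0 1)) (algebraMap k K (A 0 2))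
    (algebraMap k K (A 1 0)) (algebraMap k K (A 1 1)) (algebraMap k K (A 1 2))
    (algebraMap k K (A 2 0)) (algebraMap k K (A 2 1)) (algebraMap k K (A 2 2))
    (u 0) (u 1) (u 2) f0 f1 f2 (KaehlerDifferential.D k K (u 0)) (KaehlerDifferential.D k K (u 1))
    (KaehlerDifferential.D k K (u 2)) h0 dh0 (by rw [hx, hy]; exact hE) (by rw [dhx, dhy]; exact hC)
  rw [dhx] at hkey
  have hdet : algebraMap k K A.det =
      (algebraMap k K (A 0 0) * algebraMap k K (A 1 1) * algebraMap k K (A 2 2)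
        - algebraMap k K (A 0 0) * algebraMap k K (A 1 2) * algebraMap k K (A 2 1)
        - algebraMap k K (A 0 1) * algebraMap k K (A 1 0) * algebraMap k K (A 2 2)
        + algebraMap k K (A 0 1) * algebraMap k K (A 1 2) * algebraMap k K (A 2 0)
        + algebraMap k K (A 0 2) * algebraMap k K (A 1 0) * algebraMap k K (A 2 1)
        - algebraMap k K (A 0 2) * algebraMap k K (A 1 1) * algebraMap k K (A 2 0)) := by
    rw [Matrix.det_fin_three]
    simp only [map_add, map_sub, map_mul]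
  rw [← hdet] at hkey
  -- conclude
  obtain ⟨G2, hG2⟩ : ∃ G2, G2 = algebraMap k K (A 0 2) * f0 + algebraMap k K (A 1 2) * f1 +
      algebraMap k K (A 2 2) * f2 := ⟨_, rfl⟩
  rw [← hG2] at hkey hgw
  rw [hgw] at hfy' ⊢
  have hG20 : G2 ≠ 0 := right_ne_zero_of_mul hfy'
  have he1 : 1 ≤ e := by
    by_contra hlt
    have he0 : e = 0 := by omega
    subst he0
    apply hfy
    rw [hf2]
    have hc : f = MvPolynomial.C (MvPolynomial.coeff 0 f) := by
      have := ((MvPolynomial.totalDegree_zero_iff_isHomogeneous (Fin 3)).mpr hf)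
      exact MvPolynomial.totalDegree_eq_zero_iff_eq_C.mp this
    rw [hc, MvPolynomial.pderiv_C, map_zero]
  have hzpow : (u 0)⁻¹ ^ ((e : ℤ) - 3) * ((u 0)⁻¹ ^ (e - 1))⁻¹ * (u 0)⁻¹ ^ 2 = 1 := by
    rw [← zpow_natCast ((u 0)⁻¹) (e - 1), ← zpow_natCast ((u 0)⁻¹) 2, ← zpow_neg, ← zpow_add₀ hz0,
      ← zpow_add₀ hz0]
    have : ((e : ℤ) - 3 + -((e - 1 : ℕ) : ℤ) + ((2 : ℕ) : ℤ)) = 0 := by
      rw [Nat.cast_sub he1]
      push_cast
      ring
    rw [this, zpow_zero]
  rw [hdx', smul_smul]
  have hcoef : algebraMap k K A.det * (u 0)⁻¹ ^ ((e : ℤ) - 3) * ((u 0)⁻¹ ^ (e - 1) * G2)⁻¹ *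
      (u 0)⁻¹ ^ 2 = algebraMap k K A.det * G2⁻¹ := by
    rw [mul_inv]
    calc algebraMap k K A.det * (u 0)⁻¹ ^ ((e : ℤ) - 3) * (((u 0)⁻¹ ^ (e - 1))⁻¹ * G2⁻¹) *
        (u 0)⁻¹ ^ 2
        = algebraMap k K A.det * G2⁻¹ *
          ((u 0)⁻¹ ^ ((e : ℤ) - 3) * ((u 0)⁻¹ ^ (e - 1))⁻¹ * (u 0)⁻¹ ^ 2) := by ring
      _ = algebraMap k K A.det * G2⁻¹ := by rw [hzpow, mul_one]
  rw [hcoef]
  -- from `G2 • dx = (det A * f2) • N`
  have : KaehlerDifferential.D k K x = (G2⁻¹ * (algebraMap k K A.det * f2)) •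
      (u 0 • KaehlerDifferential.D k K (u 1) - u 1 • KaehlerDifferential.D k K (u 0)) := by
    rw [← smul_smul, ← hkey, smul_smul, inv_mul_cancel₀ hG20, one_smul]
  rw [this, smul_smul]
  congr 1
  field_simp

end Groth.Agent.S12612
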