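import Groth.Statements.S12613
import Groth.Agent.Lib.Helper27.Adj15
import Groth.Agent.S11070
open Groth.Agent.Lib.Helper27

set_option autoImplicit false
open FunFld

namespace Groth.Agent.S12613

/-- Over an algebraically closed constant field, for a birational plane map `φ = (1 : x : y)` of degree
`e` with irreducible relation `f̂(x, y) = 0`, the adjoint divisor `Δ(φ) = (e - 3)[φ] - [dx/f̂_y]`
has nonnegative coefficient at every place `Q`, and the coefficient is `0` exactly when `φ` is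
nonsingular at `Q`. The order of `dx/f̂_y` at `Q` is read through a Laurent expansion at `Q`,
through which that differential is assumed nonzero. -/
theorem result
    (k K : Type*) [Field k] [IsAlgClosed k] [Field K] [Algebra k K]
    (hK : FunFld.IsFunctionField k K) (x y : K) (hxy : IntermediateField.adjoin k ({x, y} : Set K) = ⊤)
    (f : MvPolynomial (Fin 2) k) (hf : Irreducible f) (hfxy : MvPolynomial.aeval ![x, y] f = 0)
    (Q : FunFld.Place k K) (ΦQ : K →ₐ[k] LaurentSeries k) (hΦQ : LocRes.IsExpansionAt Q.1 ΦQ)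
    (hne : LocRes.vDiff ΦQ (MvPolynomial.aeval ![x, y] (MvPolynomial.pderiv 1 f))⁻¹ x ≠ 0) :
    0 ≤ ((FunFld.mapDiv k ![(1 : K), x, y]).deg - 3) * FunFld.mapDiv k ![(1 : K), x, y] Q -
        LocRes.ordDiff ΦQ (MvPolynomial.aeval ![x, y] (MvPolynomial.pderiv 1 f))⁻¹ x ∧
    (((FunFld.mapDiv k ![(1 : K), x, y]).deg - 3) * FunFld.mapDiv k ![(1 : K), x, y] Q -
        LocRes.ordDiff ΦQ (MvPolynomial.aeval ![x, y] (MvPolynomial.pderiv 1 f))⁻¹ x = 0 ↔
      FunFld.IsNonsingularAt ![(1 : K), x, y] Q) := by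
  classical
  have hfy0 : MvPolynomial.aeval ![x, y] (MvPolynomial.pderiv 1 f) ≠ 0 := by
    intro h
    apply hne
    unfold LocRes.vDiff
    rw [h, inv_zero, map_zero, zero_mul, map_zero]
  have hDΦ : LocRes.D k (ΦQ x) ≠ 0 := by
    intro h
    apply hne
    unfold LocRes.vDiff
    rw [h, mul_zero, map_zero]
  have hdx : KaehlerDifferential.D k K x ≠ 0 := LR.D_ne_zero_of_map ΦQ hDΦ
  set fy := MvPolynomial.aeval ![x, y] (MvPolynomial.pderiv 1 f) with hfy
  -- homogenisation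
  set F := Adj.homog f with hF
  have hFhom : F.IsHomogeneous f.totalDegree := Adj.homog_isHomogeneous f
  have hF0 : F ≠ 0 := Adj.homog_ne_zero hf.ne_zero
  have hFxy : MvPolynomial.aeval ![(1 : K), x, y] F = 0 := by
    rw [hF, Adj.aeval_homog, hfxy]
  have hFy : MvPolynomial.aeval ![(1 : K), x, y] (MvPolynomial.pderiv 2 F) = fy :=
    Adj.aeval_pderiv_homog x y f
  have he : (mapDiv k ![(1 : K), x, y]).deg = (f.totalDegree : ℤ) :=
    Groth.Agent.S11070.result k K hK x y hxy f hf hfxy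
  -- coordinates
  obtain ⟨A, B, u, hAB, hBA, hu, hu0, hmax, hDx', hfin⟩ := Adj.exists_good_coords hK x y hdx Q
  have hφu : ∀ i, ∑ j, algebraMap k K (A i j) * u j = (![(1 : K), x, y] : Fin 3 → K) i :=
    Adj.lin_inverse A B hAB _ u hu
  have hAdet : A.det ≠ 0 := by
    intro h
    have := congrArg Matrix.det hAB
    rw [Matrix.det_mul, h, zero_mul, Matrix.det_one] at this
    exact zero_ne_one this
  set G := MvPolynomial.aeval (Adj.linSubst A) F with hG
  have hGhom : G.IsHomogeneous f.totalDegree := Adj.linSubst_isHomogeneous A hFhom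
  have hG0 : G ≠ 0 := Adj.linSubst_ne_zero A B hAB hF0
  have hGxy : MvPolynomial.aeval ![(1 : K), u 1 / u 0, u 2 / u 0] G = 0 :=
    Adj.aeval_linSubst_eq_zero A hFhom _ u hφu hFxy hu0
  have hxy' : IntermediateField.adjoin k ({u 1 / u 0, u 2 / u 0} : Set K) = ⊤ :=
    Adj.adjoin_new_coords A x y u hφu hu0 hxy
  have hdeg' : Module.finrank (IntermediateField.adjoin k ({u 1 / u 0} : Set K)) K =
      f.totalDegree := by
    exact_mod_cast hfin.trans he
  have hQx' : Q.1 (u 1 / u 0) ≤ 1 := by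
    rw [map_div₀]; exact div_le_one_of_le₀ (hmax 1) zero_le
  obtain ⟨hGy0, hQy', hle, hiff⟩ :=
    Adj.adjoint_core hK hGhom hG0 hGxy hxy' hDx' hdeg' Q hQx' ΦQ hΦQ
  -- a family of expansions through `ΦQ`
  obtain ⟨Φ₀, hΦ₀⟩ := Groth.Agent.Lib.Helper23.WD.exists_expansions hK
  set Φ := Function.update Φ₀ Q ΦQ with hΦdef
  have hΦ : ∀ P : FunFld.Place k K, LocRes.IsExpansionAt P.1 (Φ P) := by
    intro P
    by_cases h : P = Q
    · subst h
      rw [hΦdef, Function.update_self]; exact hΦQ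
    · rw [hΦdef, Function.update_of_ne h]; exact hΦ₀ P
  have hΦQ' : Φ Q = ΦQ := by rw [hΦdef, Function.update_self]
  have hFy0 : MvPolynomial.aeval ![(1 : K), x, y] (MvPolynomial.pderiv 2 F) ≠ 0 := by
    rw [hFy]; exact hfy0
  have hinv : ((mapDiv k ![(1 : K), x, y]).deg - 3) • mapDiv k ![(1 : K), x, y] -
        divDiff Φ (MvPolynomial.aeval ![(1 : K), x, y] (MvPolynomial.pderiv 2 F))⁻¹ x =
      ((mapDiv k ![(1 : K), u 1 / u 0, u 2 / u 0]).deg - 3) •
          mapDiv k ![(1 : K), u 1 / u 0, u 2 / u 0] -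
        divDiff Φ (MvPolynomial.aeval ![(1 : K), u 1 / u 0, u 2 / u 0]
          (MvPolynomial.pderiv 2 G))⁻¹ (u 1 / u 0) :=
    Adj.adjoint_invariant hK F f.totalDegree hFhom x y hFxy hdx he A hAdet u hφu hu0 hFy0 hGy0
      Φ hΦ
  have hinvQ := DFunLike.congr_fun hinv Q
  simp only [Finsupp.coe_sub, Finsupp.coe_smul, Pi.sub_apply, Pi.smul_apply, smul_eq_mul]
    at hinvQ
  rw [Adj.divDiff_apply' hK Φ hΦ (inv_ne_zero hFy0) hdx Q,
    Adj.divDiff_apply' hK Φ hΦ (inv_ne_zero hGy0) hDx' Q, hΦQ', hFy, FF.ord_inv, FF.ord_inv]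
    at hinvQ
  have hφ'Q : mapDiv k ![(1 : K), u 1 / u 0, u 2 / u 0] Q = 0 := by
    apply Adj.mapDiv_eq_of_maxval hK _ 0 rfl Q 0
    · intro i
      rw [WithZero.exp_zero]
      fin_cases i
      · show Q.1 (1 : K) ≤ 1
        rw [map_one]
      · exact hQx'
      · exact hQy'
    · exact ⟨0, by rw [WithZero.exp_zero]; show Q.1 (1 : K) = 1; rw [map_one]⟩
  have hv : LocRes.vDiff ΦQ 1 x ≠ 0 := Adj.vDiff_ne_zero_of_D_ne_zero hK hdx Q hΦQ
  have hL := Adj.ordDiff_mul Q hΦQ (inv_ne_zero hfy0) hv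
  rw [FF.ord_inv] at hL
  rw [hφ'Q, mul_zero] at hinvQ
  have hT : ((FunFld.mapDiv k ![(1 : K), x, y]).deg - 3) * FunFld.mapDiv k ![(1 : K), x, y] Q -
      LocRes.ordDiff ΦQ fy⁻¹ x =
      Q.ord (MvPolynomial.aeval ![(1 : K), u 1 / u 0, u 2 / u 0] (MvPolynomial.pderiv 2 G)) -
        LocRes.ordDiff ΦQ 1 (u 1 / u 0) := by
    rw [hL]
    linarith
  have hns := Adj.isNonsingularAt_change x y A B u hu (fun i => (hφu i).symm) Q hu0 hmax
  rw [hT]
  refine ⟨by linarith, ?_⟩
  rw [hns, ← hiff]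
  constructor
  · intro h; linarith
  · intro h; linarith

end Groth.Agent.S12613
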