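import Groth.Statements.S12620
import Mathlib
-- import your own Groth.Agent.* helpers here

set_option autoImplicit false
universe u v w
open LocRes LaurentSeries HahnSeries

namespace Groth.Agent.S12620



/-- The `X`-adic valuation of a nonzero Laurent series is `exp (-order)`. -/
theorem valued_eq_exp_neg_order {F : Type*} [Field F] (g : F⸨X⸩) (hg : g ≠ 0) :
    Valued.v g = WithZero.exp (-g.order) := by
  have hv : Valued.v g ≠ 0 := (Valuation.ne_zero_iff _).mpr hg
  obtain ⟨m, hm⟩ : ∃ m : ℤ, Valued.v g = WithZero.exp (-m) :=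
    ⟨-WithZero.log (Valued.v g), by rw [neg_neg, WithZero.exp_log hv]⟩
  have h1 : Valued.v g ≤ WithZero.exp (-g.order) := by
    rw [valuation_le_iff_coeff_lt_eq_zero]
    intro n hn
    exact HahnSeries.coeff_eq_zero_of_lt_order hn
  have h2 : ¬ Valued.v g ≤ WithZero.exp (-(g.order + 1)) := by
    rw [valuation_le_iff_coeff_lt_eq_zero]
    intro h
    exact hg (HahnSeries.coeff_order_eq_zero.mp (h g.order (by omega)))
  rw [hm] at h1 h2 ⊢
  rw [WithZero.exp_le_exp] at h1 h2
  congr 1
  omega



/-- The logarithmic derivative of a nonzero Laurent series has residue its order. -/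
theorem res_inv_mul_D {F : Type*} [Field F] (g : F⸨X⸩) (hg : g ≠ 0) :
    res F (g⁻¹ * D F g) = ((g.order : ℤ) : F) := by
  set m := g.order with hm
  set P := g.powerSeriesPart with hP
  have hgP : (single m (1 : F) : F⸨X⸩) * (P : F⸨X⸩) = g := single_order_mul_powerSeriesPart g
  have hP0 : PowerSeries.constantCoeff P ≠ 0 := by
    rw [← PowerSeries.coeff_zero_eq_constantCoeff_apply, hP, powerSeriesPart_coeff]
    simp only [Nat.cast_zero, add_zero]
    intro h
    exact hg (HahnSeries.coeff_order_eq_zero.mp h)
  have hPinv : (P : F⸨X⸩) * ((P⁻¹ : PowerSeries F) : F⸨X⸩) = 1 := by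
    rw [← PowerSeries.coe_mul, PowerSeries.mul_inv_cancel P hP0, PowerSeries.coe_one]
  have key : g⁻¹ * D F g =
      ((P⁻¹ * PowerSeries.derivative F P : PowerSeries F) : F⸨X⸩) + single (-1) ((m : ℤ) : F) := by
    rw [inv_mul_eq_iff_eq_mul₀ hg]
    conv_lhs => rw [← hgP]
    rw [D_apply, derivative_single_mul, derivative_coe, PowerSeries.coe_mul, mul_add]
    congr 1
    · conv_rhs => rw [← hgP]
      calc (single m (1 : F) : F⸨X⸩) * ((PowerSeries.derivative F P : PowerSeries F) : F⸨X⸩)
          = single m (1 : F) * ((P : F⸨X⸩) * ((P⁻¹ : PowerSeries F) : F⸨X⸩)) *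
              ((PowerSeries.derivative F P : PowerSeries F) : F⸨X⸩) := by rw [hPinv, mul_one]
        _ = _ := by ring
    · conv_rhs => rw [← hgP]
      have : (single (m - 1) (m • (1 : F)) : F⸨X⸩) = single m (1 : F) * single (-1) ((m : ℤ) : F) := by
        rw [HahnSeries.single_mul_single, one_mul, zsmul_one]
        congr 1
      rw [this]
      ring
  rw [key, map_add, res_apply, res_apply, PowerSeries.coeff_coe, if_pos (by norm_num),
    HahnSeries.coeff_single_same, zero_add]


/-- Let `K` be a field with a valuation `w` into `ℤ ∪ {0}` and `φ : K → F((X))` a `k`-algebra expansion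
at `w` in a local parameter (valuation-compatible, valuation ring onto the coefficient field `F`,
`w` normalised). Then for every nonzero `f` the residue of the logarithmic differential `f⁻¹ df`
read through `φ` — the `X⁻¹`-coefficient of `φ(f)⁻¹ · (φ f)′` — is the order of `f` at `w` (the
integer `n` with `w f = exp (-n)`), viewed in `F`. (The published statement is for a complete field
with a perfect coefficient field and its intrinsic residue; read through an expansion neither
completeness nor perfectness plays a role.) -/
theorem result {k : Type u} {K : Type v} {F : Type w} [CommRing k] [Field K] [Field F]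
    [Algebra k K] [Algebra k F]
    (w : Valuation K (WithZero (Multiplicative ℤ))) (φ : K →ₐ[k] LaurentSeries F)
    (hφ : LocRes.IsExpansionAt w φ) (f : K) (hf : f ≠ 0) :
    LocRes.resExp φ f⁻¹ f = ((-WithZero.log (w f) : ℤ) : F) := by
  have hg : φ f ≠ 0 := (map_ne_zero_iff φ φ.toRingHom.injective).mpr hf
  have hw : w f = WithZero.exp (-(φ f).order) := by
    rw [← hφ.1 f]
    exact valued_eq_exp_neg_order (φ f) hg
  rw [hw, WithZero.log_exp, neg_neg]
  unfold LocRes.resExp
  rw [map_inv₀]
  exact res_inv_mul_D (φ f) hg

end Groth.Agent.S12620
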