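import Groth.Statements.S12621
import Mathlib
-- import your own Groth.Agent.* helpers here

set_option autoImplicit false
universe u v w
open LocRes LaurentSeries HahnSeries

namespace Groth.Agent.S12621


section Generic
open PowerSeries

/-- The universal identity, over a torsion-free ring. -/
theorem coeff_identity_tf {R : Type*} [CommRing R] [IsDomain R] [CharZero R] (v : R⟦X⟧) (n : ℕ)
    (hn : 1 ≤ n) (N : ℕ) (m : ℤ) (hm : m * n = -((N : ℤ) + 1)) :
    m • coeff (N + 1) (v ^ n) + coeff N (v ^ (n - 1) * derivative R v) = 0 := by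
  have hn0 : (n : R) ≠ 0 := by
    have : n ≠ 0 := by omega
    exact_mod_cast this
  have h1 : coeff N (derivative R (v ^ n)) = (n : R) * coeff N (v ^ (n - 1) * derivative R v) := by
    rw [derivative_pow, mul_assoc, ← nsmul_eq_mul, map_nsmul, nsmul_eq_mul]
  rw [coeff_derivative] at h1
  have h2 : (n : R) * (m • coeff (N + 1) (v ^ n) + coeff N (v ^ (n - 1) * derivative R v)) = 0 := by
    rw [mul_add, ← h1, zsmul_eq_mul, ← mul_assoc]
    have : (n : R) * (m : R) = -((N : R) + 1) := by
      have := congrArg (Int.cast (R := R)) hm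
      push_cast at this
      rw [mul_comm]
      exact this
    rw [this]
    ring
  rcases mul_eq_zero.mp h2 with h | h
  · exact absurd h hn0
  · exact h

/-- The universal identity over any commutative ring, by specialisation from the generic case. -/
theorem coeff_identity {S : Type*} [CommRing S] (v : S⟦X⟧) (n : ℕ)
    (hn : 1 ≤ n) (N : ℕ) (m : ℤ) (hm : m * n = -((N : ℤ) + 1)) :
    m • coeff (N + 1) (v ^ n) + coeff N (v ^ (n - 1) * derivative S v) = 0 := by
  let ψ : MvPolynomial ℕ ℤ →+* S := MvPolynomial.eval₂Hom (Int.castRingHom S) (fun i => coeff i v)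
  let V : (MvPolynomial ℕ ℤ)⟦X⟧ := PowerSeries.mk (fun i => MvPolynomial.X i)
  have hV : PowerSeries.map ψ V = v := by
    ext i
    rw [coeff_map, coeff_mk]
    exact MvPolynomial.eval₂Hom_X' _ _ _
  have hd : derivative S (PowerSeries.map ψ V) = PowerSeries.map ψ (derivative _ V) := by
    ext i
    rw [coeff_derivative, coeff_map, coeff_map, coeff_derivative, map_mul, map_add, map_natCast,
      map_one]
  have key := coeff_identity_tf V n hn N m hm
  have e1 : ψ (coeff (N + 1) (V ^ n)) = coeff (N + 1) (v ^ n) := by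
    rw [← coeff_map, map_pow, hV]
  have e2 : ψ (coeff N (V ^ (n - 1) * derivative _ V)) = coeff N (v ^ (n - 1) * derivative S v) := by
    rw [← coeff_map, map_mul, map_pow, ← hd, hV]
  have := congrArg ψ key
  rw [map_zero, map_add, map_zsmul, e1, e2] at this
  exact this

end Generic

theorem res_pow_mul_D_aux {F : Type*} [Field F] (P : PowerSeries F) (m : ℤ) (n : ℕ) (hn : 1 ≤ n) :
    res F ((single m (1 : F) * (P : F⸨X⸩)) ^ (n - 1) * D F (single m (1 : F) * (P : F⸨X⸩))) = 0 := by
  have hpow : (single m (1 : F) * (P : F⸨X⸩)) ^ (n - 1) =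
      single ((n - 1 : ℕ) • m) (1 : F) * ((P ^ (n - 1) : PowerSeries F) : F⸨X⸩) := by
    rw [mul_pow, HahnSeries.single_pow, one_pow, PowerSeries.coe_pow]
  have hPn : ((P ^ (n - 1) : PowerSeries F) : F⸨X⸩) * (P : F⸨X⸩) = ((P ^ n : PowerSeries F) : F⸨X⸩) := by
    rw [← PowerSeries.coe_mul, ← pow_succ, Nat.sub_add_cancel hn]
  have expand : single ((n - 1 : ℕ) • m) (1 : F) * ((P ^ (n - 1) : PowerSeries F) : F⸨X⸩) *
      (single m (1 : F) * ((PowerSeries.derivative F P : PowerSeries F) : F⸨X⸩) +
        single (m - 1) (m • (1 : F)) * (P : F⸨X⸩)) =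
      single ((n - 1 : ℕ) • m + m) (1 : F) *
          ((P ^ (n - 1) * PowerSeries.derivative F P : PowerSeries F) : F⸨X⸩) +
        single ((n - 1 : ℕ) • m + (m - 1)) (m • (1 : F)) * ((P ^ n : PowerSeries F) : F⸨X⸩) := by
    rw [PowerSeries.coe_mul, ← hPn]
    have e1 : (single ((n - 1 : ℕ) • m + m) (1 : F) : F⸨X⸩) =
        single ((n - 1 : ℕ) • m) 1 * single m 1 := by
      rw [HahnSeries.single_mul_single, one_mul]
    have e2 : (single ((n - 1 : ℕ) • m + (m - 1)) (m • (1 : F)) : F⸨X⸩) =
        single ((n - 1 : ℕ) • m) 1 * single (m - 1) (m • (1 : F)) := by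
      rw [HahnSeries.single_mul_single, one_mul]
    rw [e1, e2]
    ring
  rw [D_apply, derivative_single_mul, derivative_coe, hpow, expand, map_add, res_apply, res_apply,
    HahnSeries.coeff_single_mul, HahnSeries.coeff_single_mul, PowerSeries.coeff_coe,
    PowerSeries.coeff_coe, one_mul]
  have hidx1 : (-1 : ℤ) - ((n - 1 : ℕ) • m + m) = -(m * n) - 1 := by
    rw [nsmul_eq_mul, Nat.cast_sub hn]
    push_cast
    ring
  have hidx2 : (-1 : ℤ) - ((n - 1 : ℕ) • m + (m - 1)) = -(m * n) := by
    rw [nsmul_eq_mul, Nat.cast_sub hn]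
    push_cast
    ring
  rw [hidx1, hidx2]
  rcases lt_or_ge (-(m * n)) 1 with hlt | hge
  · rw [if_pos (by omega)]
    rcases lt_or_eq_of_le (show -(m * (n : ℤ)) ≤ 0 by omega) with h | h
    · rw [if_pos h, mul_zero, add_zero]
    · have hm0 : m = 0 := by
        have hn' : (n : ℤ) ≠ 0 := by omega
        have : m * n = 0 := by omega
        rcases mul_eq_zero.mp this with h' | h'
        · exact h'
        · exact absurd h' hn'
      rw [hm0, zero_smul, zero_mul, add_zero]
  · obtain ⟨N, hN⟩ : ∃ N : ℕ, -(m * (n : ℤ)) = (N : ℤ) + 1 := ⟨(-(m * n) - 1).toNat, by omega⟩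
    rw [if_neg (by omega), if_neg (by omega), hN]
    have h1 : ((N : ℤ) + 1 - 1).natAbs = N := by omega
    have h2 : ((N : ℤ) + 1).natAbs = N + 1 := by omega
    rw [h1, h2, add_comm, zsmul_one, ← zsmul_eq_mul]
    exact coeff_identity P n hn N m (by omega)


theorem res_pow_mul_D {F : Type*} [Field F] (g : F⸨X⸩) (n : ℕ) (hn : 1 ≤ n) :
    res F (g ^ (n - 1) * D F g) = 0 := by
  have := res_pow_mul_D_aux g.powerSeriesPart g.order n hn
  rwa [single_order_mul_powerSeriesPart] at this

theorem res_zpow_mul_D {F : Type*} [Field F] (g : F⸨X⸩) (hg : g ≠ 0) (n : ℤ) (hn : n ≠ 0) :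
    res F (g ^ (n - 1) * D F g) = 0 := by
  rcases lt_or_gt_of_ne hn with h | h
  · obtain ⟨n', hn', rfl⟩ : ∃ n' : ℕ, 1 ≤ n' ∧ n = -(n' : ℤ) := ⟨(-n).toNat, by omega, by omega⟩
    have key := res_pow_mul_D g⁻¹ n' hn'
    have hD : D F g⁻¹ = -g⁻¹ ^ 2 • D F g := Derivation.leibniz_inv _ g
    have hpow : g ^ (-(n' : ℤ) - 1) = (g⁻¹) ^ (n' - 1) * g⁻¹ ^ 2 := by
      rw [← zpow_natCast, ← zpow_natCast, inv_zpow', inv_zpow', ← zpow_add₀ hg]
      congr 1
      rw [Nat.cast_sub hn']
      push_cast
      ring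
    have : g ^ (-(n' : ℤ) - 1) * D F g = -((g⁻¹) ^ (n' - 1) * D F g⁻¹) := by
      rw [hD, smul_eq_mul, hpow]
      ring
    rw [this, map_neg, key, neg_zero]
  · obtain ⟨n', hn', rfl⟩ : ∃ n' : ℕ, 1 ≤ n' ∧ n = (n' : ℤ) := ⟨n.toNat, by omega, by omega⟩
    have : ((n' : ℤ) - 1) = ((n' - 1 : ℕ) : ℤ) := by
      rw [Nat.cast_sub hn']
      simp
    rw [this, zpow_natCast]
    exact res_pow_mul_D g n' hn'


/-- For a `k`-algebra homomorphism `φ : K → F((X))` from a field into formal Laurent series over a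
field, an element `f` of `K` and a nonzero integer `n`, the residue of `f^(n-1) df` read through `φ`
— the `X⁻¹`-coefficient of `φ(f)^(n-1) · (φ f)′` — vanishes, in every characteristic (also when the
characteristic divides `n`). (The published statement is for the intrinsic residue of a complete
field with a perfect coefficient field; read through an expansion it is this identity of Laurent
series, and no property of `φ` is needed.) -/
theorem result {k : Type u} {K : Type v} {F : Type w} [CommRing k] [Field K] [Field F]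
    [Algebra k K] [Algebra k F]
    (φ : K →ₐ[k] LaurentSeries F) (f : K) (n : ℤ) (hn : n ≠ 0) :
    LocRes.resExp φ (f ^ (n - 1)) f = 0 := by
  unfold LocRes.resExp
  rw [map_zpow₀]
  by_cases hf : φ f = 0
  · rw [hf, map_zero, mul_zero, map_zero]
  · exact res_zpow_mul_D (φ f) hf n hn

end Groth.Agent.S12621
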