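import Groth.Statements.S12628
import Groth.Agent.Lib.Helper27.FunFld6
import Groth.Agent.Lib.Helper27.FunFldCore
import Groth.Agent.S12581
open Groth.Agent.Lib.Helper27

set_option autoImplicit false
universe u v w
open FunFld

namespace Groth.Agent.S12628

/-- Let `K/k` be a geometric function field of one variable all of whose places carry a Laurent
expansion over `k` in a local parameter (valuation-compatible, valuation ring onto a
finite-dimensional coefficient field, normalised — so every place is separable), and let `v ∈ K`
have `dv ≠ 0`. Then every Weil differential — a `k`-linear form on the repartition space vanishing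
on some `A(D) + K` — is of the form `a ↦ ∑_P Res_P(a_P · u dv)` for exactly one `u ∈ K`, the local
residue being the trace to `k` of the `X⁻¹`-coefficient read through the expansion; i.e. the residue
pairing maps the Kähler differentials ONTO the Weil differentials. (The published statement is over
an algebraically closed field, where every place is rational; this row is the form for any constant
field under the stated separability of all places.) -/
theorem result (k : Type u) (K : Type v) [Field k] [Field K] [Algebra k K]
    (hK : FunFld.IsFunctionField k K) (hg : FunFld.IsGeometric k K)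
    (F : FunFld.Place k K → Type w) [∀ P, Field (F P)] [∀ P, Algebra k (F P)] [∀ P, FiniteDimensional k (F P)]
    (φ : ∀ P, K →ₐ[k] LaurentSeries (F P)) (hφ : ∀ P, LocRes.IsExpansionAt P.1 (φ P))
    (v : K) (hv : KaehlerDifferential.D k K v ≠ 0)
    (ω : Module.Dual k (FunFld.adele k K)) (hω : FunFld.IsWeil ω) :
    ∃! u : K, ∀ a : FunFld.adele k K,
      (Function.support fun P => LocRes.locRes (φ P) ((a : FunFld.Place k K → K) P * u) v).Finite ∧
        ω a = ∑ᶠ P, LocRes.locRes (φ P) ((a : FunFld.Place k K → K) P * u) v := by
  classical
  have C := FF.core_of hK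
  obtain ⟨ω₀, hform, hW₀, hne₀, -, -⟩ :=
    Groth.Agent.S12581.result k K hK hg F φ hφ 1 v one_ne_zero hv
  have key : ∀ (u : K) (a : FunFld.adele k K),
      (Function.support fun P => LocRes.locRes (φ P) ((a : FunFld.Place k K → K) P * u) v).Finite ∧
        FunFld.mulW u (C.hmul u) ω₀ a =
          ∑ᶠ P, LocRes.locRes (φ P) ((a : FunFld.Place k K → K) P * u) v := by
    intro u a
    obtain ⟨h1, h2⟩ := hform ⟨u • (a : FunFld.Place k K → K), C.hmul u a.1 a.2⟩
    have e : ∀ P, LocRes.locRes (φ P) ((u • (a : FunFld.Place k K → K)) P * 1) v =
        LocRes.locRes (φ P) ((a : FunFld.Place k K → K) P * u) v := by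
      intro P
      rw [Pi.smul_apply, smul_eq_mul, mul_one, mul_comm]
    constructor
    · have : (fun P => LocRes.locRes (φ P) ((a : FunFld.Place k K → K) P * u) v) =
          fun P => LocRes.locRes (φ P) ((u • (a : FunFld.Place k K → K)) P * 1) v :=
        funext (fun P => (e P).symm)
      rw [this]
      exact h1
    · rw [FF.mulW_apply, h2]
      exact finsum_congr e
  obtain ⟨u, hu⟩ := C.exists_mulW_eq hW₀ hne₀ hω
  refine ⟨u, fun a => ?_, ?_⟩
  · obtain ⟨h1, h2⟩ := key u a
    exact ⟨h1, by rw [← hu, h2]⟩
  · intro u' hu'
    apply C.mulWₗ_injective hne₀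
    rw [C.mulWₗ_apply, C.mulWₗ_apply, hu]
    ext a
    rw [(key u' a).2, (hu' a).2]

end Groth.Agent.S12628
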