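import Groth.Statements.S12629
import Groth.Agent.Lib.Helper27.FunFld6
import Groth.Agent.Lib.Helper27.FunFldCore
import Groth.Agent.Lib.Helper27.Tate10
import Groth.Agent.S12581
open Groth.Agent.Lib.Helper27

set_option autoImplicit false
universe u v w
open FunFld

namespace Groth.Agent.S12629

/-- Let `K/k` be a geometric function field of one variable all of whose places carry a Laurent
expansion over `k` in a local parameter (so every place is separable), `v ∈ K` with `dv ≠ 0` and `D`
a divisor. The `k`-vector space of differentials `y dv` whose divisor is `≥ D` — the order of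
`φ_P(y) · (φ_P v)′` is at least `D(P)` at every place `P`, written with the `X`-adic valuation so
that `y = 0` qualifies — has the same dimension as the space of Weil differentials vanishing on
`A(D) + K`, the number `δ(D)` in Riemann's form of the Riemann–Roch equation. (The published
statement is over an algebraically closed field; this row is the form for any constant field under
the stated separability of all places.) -/
theorem result (k : Type u) (K : Type v) [Field k] [Field K] [Algebra k K]
    (hK : FunFld.IsFunctionField k K) (hg : FunFld.IsGeometric k K)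
    (F : FunFld.Place k K → Type w) [∀ P, Field (F P)] [∀ P, Algebra k (F P)] [∀ P, FiniteDimensional k (F P)]
    (φ : ∀ P, K →ₐ[k] LaurentSeries (F P)) (hφ : ∀ P, LocRes.IsExpansionAt P.1 (φ P))
    (v : K) (hv : KaehlerDifferential.D k K v ≠ 0) (D : FunFld.Divisor k K) :
    Module.finrank k (Submodule.span k {y : K | ∀ P, LocRes.vDiff (φ P) y v ≤ WithZero.exp (-(D P))}) =
      Module.finrank k (FunFld.WD D) := by
  classical
  have C := FF.core_of hK
  obtain ⟨ω₀, -, hW₀, hne₀, hfin, hdiv⟩ :=
    Groth.Agent.S12581.result k K hK hg F φ hφ 1 v one_ne_zero hv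
  set W : FunFld.Divisor k K := Finsupp.ofSupportFinite _ hfin with hWdef
  have hWP : ∀ P, W P = LocRes.ordDiff (φ P) 1 v := fun P => rfl
  have hω₀ : FunFld.IsDivOf ω₀ W := hdiv W hWP
  have hDne : ∀ P, Valued.v (LocRes.D (F P) (φ P v)) ≠ 0 := fun P => by
    rw [ne_eq, map_eq_zero]
    exact Tate.D_map_ne_zero hK hg (hφ P) hv
  have hvD : ∀ P, Valued.v (LocRes.D (F P) (φ P v)) = WithZero.exp (-(W P)) := by
    intro P
    rw [hWP]
    unfold LocRes.ordDiff LocRes.vDiff
    rw [map_one, one_mul, neg_neg, WithZero.exp_log (hDne P)]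
  have haux : ∀ (a : WithZero (Multiplicative ℤ)) (w d : ℤ),
      a * WithZero.exp (-w) ≤ WithZero.exp (-d) ↔ a ≤ WithZero.exp (w - d) := by
    intro a w d
    rcases eq_or_ne a 0 with rfl | ha
    · simp
    · obtain ⟨n, rfl⟩ : ∃ n : ℤ, a = WithZero.exp n := ⟨WithZero.log a, (WithZero.exp_log ha).symm⟩
      rw [← WithZero.exp_add, WithZero.exp_le_exp, WithZero.exp_le_exp]
      constructor <;> intro h <;> omega
  have hset : {y : K | ∀ P, LocRes.vDiff (φ P) y v ≤ WithZero.exp (-(D P))} =
      (FunFld.L (W - D) : Set K) := by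
    ext y
    have hP : ∀ P : FunFld.Place k K, LocRes.vDiff (φ P) y v ≤ WithZero.exp (-(D P)) ↔
        P.1 y ≤ WithZero.exp ((W - D) P) := by
      intro P
      unfold LocRes.vDiff
      rw [map_mul, (hφ P).1, hvD, haux, Finsupp.sub_apply]
    exact forall_congr' hP
  rw [hset, Submodule.span_eq, ← C.map_mulWₗ_eq_WD hω₀ D, C.finrank_map_mulWₗ hne₀]
  rfl

end Groth.Agent.S12629
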