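import Groth.Statements.S12631
import Groth.Agent.Lib.Helper27.FunFld6
import Groth.Agent.Lib.Helper27.FunFldCore
import Groth.Agent.Lib.Helper27.Tate10
import Groth.Agent.S12581
open Groth.Agent.Lib.Helper27

set_option autoImplicit false
universe u v w
open FunFld

namespace Groth.Agent.S12631

/-- Let `K/k` be a geometric function field of one variable of genus one all of whose places carry a
Laurent expansion over `k` in a local parameter (so every place is separable), and `v ∈ K` with `dv
≠ 0`. Then there is a nonzero `u ∈ K` whose differential `u dv` has divisor zero — the order of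
`φ_P(u) · (φ_P v)′` is `0` at every place `P` — and such a `u` is unique up to a factor from `k`.
(The published statement concerns elliptic curves over algebraically closed fields; this row is the
form for any constant field under the stated separability of all places.) -/
theorem result (k : Type u) (K : Type v) [Field k] [Field K] [Algebra k K]
    (hK : FunFld.IsFunctionField k K) (hg : FunFld.IsGeometric k K) (h1 : FunFld.genus k K = 1)
    (F : FunFld.Place k K → Type w) [∀ P, Field (F P)] [∀ P, Algebra k (F P)] [∀ P, FiniteDimensional k (F P)]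
    (φ : ∀ P, K →ₐ[k] LaurentSeries (F P)) (hφ : ∀ P, LocRes.IsExpansionAt P.1 (φ P))
    (v : K) (hv : KaehlerDifferential.D k K v ≠ 0) :
    (∃ u : K, u ≠ 0 ∧ ∀ P, LocRes.vDiff (φ P) u v = 1) ∧
      ∀ u u' : K, u ≠ 0 → (∀ P, LocRes.vDiff (φ P) u v = 1) → (∀ P, LocRes.vDiff (φ P) u' v = 1) →
        ∃ c : k, u' = c • u := by
  classical
  have C := FF.core_of hK
  obtain ⟨ω₀, -, hW₀, hne₀, hfin, hdiv⟩ :=
    Groth.Agent.S12581.result k K hK hg F φ hφ 1 v one_ne_zero hv
  set W : FunFld.Divisor k K := Finsupp.ofSupportFinite _ hfin with hWdef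
  have hWP : ∀ P, W P = LocRes.ordDiff (φ P) 1 v := fun P => rfl
  have hω₀ : FunFld.IsDivOf ω₀ W := hdiv W hWP
  have hcan : FunFld.IsCanonical k K W := ⟨ω₀, hne₀, hω₀⟩
  have hDne : ∀ P, Valued.v (LocRes.D (F P) (φ P v)) ≠ 0 := fun P => by
    rw [ne_eq, map_eq_zero]
    exact Tate.D_map_ne_zero hK hg (hφ P) hv
  have hvD : ∀ P, Valued.v (LocRes.D (F P) (φ P v)) = WithZero.exp (-(W P)) := by
    intro P
    rw [hWP]
    unfold LocRes.ordDiff LocRes.vDiff
    rw [map_one, one_mul, neg_neg, WithZero.exp_log (hDne P)]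
  have hvd : ∀ (u : K) (P : FunFld.Place k K),
      LocRes.vDiff (φ P) u v = P.1 u * WithZero.exp (-(W P)) := by
    intro u P
    unfold LocRes.vDiff
    rw [map_mul, (hφ P).1, hvD]
  have hval : ∀ (u : K) (P : FunFld.Place k K), LocRes.vDiff (φ P) u v = 1 →
      P.1 u = WithZero.exp (W P) := by
    intro u P h
    rw [hvd] at h
    calc P.1 u = P.1 u * WithZero.exp (-(W P)) * WithZero.exp (W P) := by
          rw [mul_assoc, ← WithZero.exp_add, neg_add_cancel, WithZero.exp_zero, mul_one]
      _ = WithZero.exp (W P) := by rw [h, one_mul]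
  have hell : FunFld.ell W = 1 := by rw [C.ell_canonical hcan, h1]
  have hdeg : W.deg = 0 := by rw [C.deg_canonical hcan, h1]; norm_num
  constructor
  · obtain ⟨u, hu0, huL⟩ := C.exists_ne_zero_of_ell_pos (D := W) (by rw [hell]; exact one_pos)
    refine ⟨u, hu0, fun P => ?_⟩
    have hE := C.le_div_of_mem_L hu0 huL
    have hE0 : W + FunFld.div k u = 0 := by
      apply FF.eq_zero_of_nonneg_of_deg_eq_zero (fun P => C.one_le_deg P) hE
      rw [FF.deg_add, hdeg, C.deg_div, add_zero]
    have hP : FunFld.div k u P = -(W P) := by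
      have := DFunLike.congr_fun hE0 P
      rw [Finsupp.add_apply, Finsupp.zero_apply] at this
      linarith
    rw [hvd, C.val_eq_exp_neg_div hu0, hP, neg_neg, ← WithZero.exp_add, add_neg_cancel,
      WithZero.exp_zero]
  · intro u u' hu0 hu hu'
    have hq : u' / u ∈ FunFld.L (0 : FunFld.Divisor k K) := by
      intro P
      rw [map_div₀, hval u P (hu P), hval u' P (hu' P), div_self WithZero.exp_ne_zero,
        Finsupp.zero_apply, WithZero.exp_zero]
    rw [C.L_zero] at hq
    obtain ⟨c, hc⟩ := Submodule.mem_one.mp hq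
    refine ⟨c, ?_⟩
    rw [Algebra.smul_def, hc, div_mul_cancel₀ _ hu0]

end Groth.Agent.S12631
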