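import Groth.Statements.S2009
import Mathlib

set_option autoImplicit false
universe u
open TensorProduct
open EtAlg

namespace Groth.Agent.S2009


open scoped TensorProduct

theorem tmul_eq_zero_of_mem_map {R S : Type*} [CommRing R] [CommRing S] [Algebra R S] (I : Ideal R)
    (M : Type*) [AddCommGroup M] [Module R M] (hM : ∀ a ∈ I, ∀ m : M, a • m = 0)
    (x : S) (hx : x ∈ I.map (algebraMap R S)) (m : M) : x ⊗ₜ[R] m = 0 := by
  unfold Ideal.map at hx
  refine Submodule.span_induction (p := fun x _ => x ⊗ₜ[R] m = 0) ?_ ?_ ?_ ?_ hx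
  · rintro _ ⟨a, ha, rfl⟩
    rw [Algebra.algebraMap_eq_smul_one, TensorProduct.smul_tmul, hM a ha m,
      TensorProduct.tmul_zero]
  · exact TensorProduct.zero_tmul _ _
  · intro x y _ _ hx hy
    rw [TensorProduct.add_tmul, hx, hy, add_zero]
  · intro c x _ hx
    have : (c • x) ⊗ₜ[R] m = c • (x ⊗ₜ[R] m) := (TensorProduct.smul_tmul' c x m).symm
    rw [this, hx, smul_zero]

theorem bijective_of_killed {R S : Type*} [CommRing R] [CommRing S] [Algebra R S] (I : Ideal R)
    (hq : Function.Bijective
      (Ideal.quotientMap (I.map (algebraMap R S)) (algebraMap R S) Ideal.le_comap_map))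
    (M : Type*) [AddCommGroup M] [Module R M] (hM : ∀ a ∈ I, ∀ m : M, a • m = 0) :
    Function.Bijective (TensorProduct.mk R S M 1) := by
  constructor
  · have hT : Module.IsTorsionBySet R M (I : Set R) := fun m a => hM a.1 a.2 m
    letI : Module (R ⧸ I) M := hT.module
    let eq : (R ⧸ I) ≃+* (S ⧸ I.map (algebraMap R S)) :=
      RingEquiv.ofBijective
        (Ideal.quotientMap (I.map (algebraMap R S)) (algebraMap R S) Ideal.le_comap_map) hq
    let φ : S →+* R ⧸ I :=
      (eq.symm : (S ⧸ I.map (algebraMap R S)) →+* (R ⧸ I)).comp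
        (Ideal.Quotient.mk (I.map (algebraMap R S)))
    have hφ : ∀ r : R, φ (algebraMap R S r) = Ideal.Quotient.mk I r := by
      intro r
      change eq.symm (Ideal.Quotient.mk (I.map (algebraMap R S)) (algebraMap R S r)) = _
      rw [RingEquiv.symm_apply_eq]
      exact (Ideal.quotientMap_mk (J := I) (I := I.map (algebraMap R S)) (f := algebraMap R S)
        (H := Ideal.le_comap_map) (x := r)).symm
    have hmk : ∀ (r : R) (m : M), (Ideal.Quotient.mk I r) • m = r • m := fun r m => rfl
    let B : S →ₗ[R] M →ₗ[R] M := LinearMap.mk₂ R (fun s m => φ s • m)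
      (fun s s' m => by simp only [map_add, add_smul])
      (fun r s m => by
        show φ (r • s) • m = r • (φ s • m)
        rw [Algebra.smul_def, map_mul, hφ, mul_smul, hmk])
      (fun s m m' => smul_add _ _ _)
      (fun r s m => by
        show φ s • (r • m) = r • (φ s • m)
        rw [← hmk r m, ← hmk r (φ s • m), smul_smul, smul_smul, mul_comm])
    let L : S ⊗[R] M →ₗ[R] M := TensorProduct.lift B
    have hL : ∀ m, L (TensorProduct.mk R S M 1 m) = m := by
      intro m
      show L ((1 : S) ⊗ₜ[R] m) = m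
      rw [TensorProduct.lift.tmul]
      show φ 1 • m = m
      rw [map_one, one_smul]
    exact Function.LeftInverse.injective hL
  · intro y
    induction y using TensorProduct.induction_on with
    | zero => exact ⟨0, map_zero _⟩
    | tmul s m =>
      obtain ⟨x, hx⟩ := hq.2 (Ideal.Quotient.mk (I.map (algebraMap R S)) s)
      obtain ⟨r, rfl⟩ := Ideal.Quotient.mk_surjective x
      have h1 : s - algebraMap R S r ∈ I.map (algebraMap R S) :=
        Ideal.Quotient.eq.1 (hx.symm.trans (Ideal.quotientMap_mk (J := I)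
          (I := I.map (algebraMap R S)) (f := algebraMap R S) (H := Ideal.le_comap_map) (x := r)))
      refine ⟨r • m, ?_⟩
      show (1 : S) ⊗ₜ[R] (r • m) = s ⊗ₜ[R] m
      have h2 := tmul_eq_zero_of_mem_map I M hM _ h1 m
      rw [TensorProduct.sub_tmul, sub_eq_zero] at h2
      rw [h2, ← TensorProduct.smul_tmul, Algebra.algebraMap_eq_smul_one]
    | add x y hx hy =>
      obtain ⟨a, rfl⟩ := hx
      obtain ⟨b, rfl⟩ := hy
      exact ⟨a + b, map_add _ _ _⟩

theorem bijective_of_ses {R S : Type*} [CommRing R] [CommRing S] [Algebra R S] [Module.Flat R S]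
    (M : Type*) [AddCommGroup M] [Module R M] (N : Submodule R M)
    (hN : Function.Bijective (TensorProduct.mk R S N 1))
    (hQ : Function.Bijective (TensorProduct.mk R S (M ⧸ N) 1)) :
    Function.Bijective (TensorProduct.mk R S M 1) := by
  have hex : Function.Exact (N.subtype.lTensor S) (N.mkQ.lTensor S) :=
    lTensor_exact S (LinearMap.exact_subtype_mkQ N) (Submodule.mkQ_surjective N)
  have hinj : Function.Injective (N.subtype.lTensor S) :=
    Module.Flat.lTensor_preserves_injective_linearMap _ N.injective_subtype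
  have c1 : ∀ n : N, N.subtype.lTensor S (TensorProduct.mk R S N 1 n) =
      TensorProduct.mk R S M 1 n.1 := fun n => rfl
  have c2 : ∀ m : M, N.mkQ.lTensor S (TensorProduct.mk R S M 1 m) =
      TensorProduct.mk R S (M ⧸ N) 1 (N.mkQ m) := fun m => rfl
  constructor
  · rw [injective_iff_map_eq_zero]
    intro m hm
    have h1 : TensorProduct.mk R S (M ⧸ N) 1 (N.mkQ m) = 0 := by rw [← c2, hm, map_zero]
    have h2 : N.mkQ m = 0 := hQ.1 (h1.trans (map_zero _).symm)
    have h3 : m ∈ N := (Submodule.Quotient.mk_eq_zero N).1 h2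
    have h4 : TensorProduct.mk R S N 1 ⟨m, h3⟩ = 0 := hinj (by rw [c1, map_zero]; exact hm)
    have h5 : (⟨m, h3⟩ : N) = 0 := hN.1 (h4.trans (map_zero _).symm)
    exact congrArg Subtype.val h5
  · intro y
    obtain ⟨z, hz⟩ := hQ.2 (N.mkQ.lTensor S y)
    obtain ⟨m, rfl⟩ := N.mkQ_surjective z
    have h1 : N.mkQ.lTensor S (y - TensorProduct.mk R S M 1 m) = 0 := by
      rw [map_sub, c2, hz, sub_self]
    obtain ⟨w, hw⟩ := (hex _).1 h1
    obtain ⟨n, rfl⟩ := hN.2 w
    refine ⟨m + n.1, ?_⟩
    rw [map_add, ← c1, hw]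
    abel

/-- the `I^n`-torsion submodule -/
def torsPow {R : Type*} [CommRing R] (I : Ideal R) (M : Type*) [AddCommGroup M] [Module R M]
    (n : ℕ) : Submodule R M where
  carrier := {m | ∀ a ∈ I ^ n, a • m = 0}
  add_mem' := fun {x y} hx hy a ha => by rw [smul_add, hx a ha, hy a ha, add_zero]
  zero_mem' := fun a _ => smul_zero a
  smul_mem' := fun c x hx a ha => by rw [smul_comm, hx a ha, smul_zero]

theorem mem_torsPow {R : Type*} [CommRing R] (I : Ideal R) (M : Type*) [AddCommGroup M]
    [Module R M] (n : ℕ) (m : M) : m ∈ torsPow I M n ↔ ∀ a ∈ I ^ n, a • m = 0 := Iff.rfl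

theorem bijective_of_pow_killed {R S : Type u} [CommRing R] [CommRing S] [Algebra R S]
    [Module.Flat R S] (I : Ideal R)
    (hq : Function.Bijective
      (Ideal.quotientMap (I.map (algebraMap R S)) (algebraMap R S) Ideal.le_comap_map)) :
    ∀ (n : ℕ) (M : Type u) [AddCommGroup M] [Module R M], (∀ a ∈ I ^ n, ∀ m : M, a • m = 0) →
      Function.Bijective (TensorProduct.mk R S M 1) := by
  intro n
  induction n with
  | zero =>
    intro M _ _ hM
    haveI : Subsingleton M := ⟨fun x y => by
      have hx := hM 1 (by simp) x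
      have hy := hM 1 (by simp) y
      rw [one_smul] at hx hy
      rw [hx, hy]⟩
    refine ⟨fun a b _ => Subsingleton.elim a b, fun y => ⟨0, ?_⟩⟩
    rw [map_zero]
    induction y using TensorProduct.induction_on with
    | zero => rfl
    | tmul s m => rw [Subsingleton.elim m 0, TensorProduct.tmul_zero]
    | add x y hx hy => rw [← hx, ← hy, add_zero]
  | succ n ih =>
    intro M _ _ hM
    have hN : Function.Bijective (TensorProduct.mk R S (torsPow I M 1) 1) :=
      bijective_of_killed I hq (torsPow I M 1)
        (fun a ha m => Subtype.ext (m.2 a (by rwa [pow_one])))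
    have hQ : Function.Bijective (TensorProduct.mk R S (M ⧸ torsPow I M 1) 1) := by
      apply ih
      intro a ha m
      obtain ⟨m, rfl⟩ := (torsPow I M 1).mkQ_surjective m
      rw [← map_smul, Submodule.mkQ_apply, Submodule.Quotient.mk_eq_zero, mem_torsPow]
      intro b hb
      rw [pow_one] at hb
      rw [smul_smul]
      exact hM (b * a) (by rw [pow_succ']; exact Ideal.mul_mem_mul hb ha) m
    exact bijective_of_ses M (torsPow I M 1) hN hQ



/-- Let R -> S be flat with S/IS faithfully flat over R/I. Then the natural map M -> S ⊗_R M is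
bijective for every I-power torsion R-module M if and only if R/I -> S/IS is bijective. -/
theorem result (R S : Type u) [CommRing R] [CommRing S] [Algebra R S] (I : Ideal R)
    [Module.Flat R S] [Module.FaithfullyFlat (R ⧸ I) (S ⧸ I.map (algebraMap R S))] :
    (∀ (M : Type u) [AddCommGroup M] [Module R M], (∀ m : M, ∃ n : ℕ, ∀ a ∈ I ^ n, a • m = 0) →
      Function.Bijective (TensorProduct.mk R S M 1)) ↔
    Function.Bijective (Ideal.quotientMap (I.map (algebraMap R S)) (algebraMap R S) Ideal.le_comap_map) := by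
  constructor
  · intro H
    have hT := H (R ⧸ I) (fun m => ⟨1, fun a ha => by
      rw [pow_one] at ha
      rw [Algebra.smul_def, Ideal.Quotient.algebraMap_eq, Ideal.Quotient.eq_zero_iff_mem.2 ha,
        zero_mul]⟩)
    let ψ := Algebra.TensorProduct.quotIdealMapEquivTensorQuot S I
    have hcomp : ∀ x : R ⧸ I,
        ψ (Ideal.quotientMap (I.map (algebraMap R S)) (algebraMap R S) Ideal.le_comap_map x) =
          TensorProduct.mk R S (R ⧸ I) 1 x := by
      intro x
      obtain ⟨r, rfl⟩ := Ideal.Quotient.mk_surjective x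
      rw [Ideal.quotientMap_mk]
      show (algebraMap R S r) ⊗ₜ[R] (1 : R ⧸ I) = (1 : S) ⊗ₜ[R] (Ideal.Quotient.mk I r)
      rw [Algebra.algebraMap_eq_smul_one, TensorProduct.smul_tmul]
      congr 1
      rw [Algebra.smul_def, mul_one]
      rfl
    have hfun : (⇑(Ideal.quotientMap (I.map (algebraMap R S)) (algebraMap R S)
        Ideal.le_comap_map)) = ψ.symm ∘ (TensorProduct.mk R S (R ⧸ I) 1) := by
      funext x
      rw [Function.comp_apply, ← hcomp, AlgEquiv.symm_apply_apply]
    rw [hfun]
    exact ψ.symm.bijective.comp hT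
  · intro hq M _ _ hM
    have hMn : ∀ n, Function.Bijective (TensorProduct.mk R S (torsPow I M n) 1) := fun n =>
      bijective_of_pow_killed I hq n (torsPow I M n) (fun a ha m => Subtype.ext (m.2 a ha))
    have hinj : ∀ n, Function.Injective ((torsPow I M n).subtype.lTensor S) := fun n =>
      Module.Flat.lTensor_preserves_injective_linearMap _ (torsPow I M n).injective_subtype
    constructor
    · rw [injective_iff_map_eq_zero]
      intro m hm
      obtain ⟨n, hn⟩ := hM m
      have h4 : TensorProduct.mk R S (torsPow I M n) 1 ⟨m, hn⟩ = 0 :=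
        hinj n (by rw [map_zero]; exact hm)
      have h5 : (⟨m, hn⟩ : torsPow I M n) = 0 := (hMn n).1 (h4.trans (map_zero _).symm)
      exact congrArg Subtype.val h5
    · intro y
      induction y using TensorProduct.induction_on with
      | zero => exact ⟨0, map_zero _⟩
      | tmul s m =>
        obtain ⟨n, hn⟩ := hM m
        obtain ⟨m', hm'⟩ := (hMn n).2 (s ⊗ₜ[R] (⟨m, hn⟩ : torsPow I M n))
        refine ⟨m'.1, ?_⟩
        have := congrArg ((torsPow I M n).subtype.lTensor S) hm'
        exact this
      | add x y hx hy =>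
        obtain ⟨a, rfl⟩ := hx
        obtain ⟨b, rfl⟩ := hy
        exact ⟨a + b, map_add _ _ _⟩

end Groth.Agent.S2009
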