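import Groth.Statements.S1265
import Mathlib
import Groth.Agent.Lib.Helper9.NilpFlat
import Groth.Agent.S3168

set_option autoImplicit false
universe u
open FlatMor

namespace Groth.Agent.S1265


section
open TensorProduct Groth.Agent.Lib.Helper9.NilpFlat

lemma inj_mod {A : Type u} [CommRing A] (J : Ideal A) {P N Q : Type u} [AddCommGroup P]
    [Module A P] [AddCommGroup N]
    [Module A N] [AddCommGroup Q] [Module A Q]
    (π : P →ₗ[A] N) (ρ : N →ₗ[A] Q) (hQ : ∀ j ∈ J, ∀ q : Q, j • q = 0)
    (hσs : Function.Surjective (ρ ∘ₗ π)) (hker : ∀ p, ρ (π p) = 0 → p ∈ J • (⊤ : Submodule A P))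
    (A' : Type u) [CommRing A'] [Algebra A A'] (x : A' ⊗[A] P)
    (hx : π.baseChange A' x ∈ (J.map (algebraMap A A')) • (⊤ : Submodule A' (A' ⊗[A] N))) :
    x ∈ (J.map (algebraMap A A')) • (⊤ : Submodule A' (A' ⊗[A] P)) := by
  have hkill0 : ∀ j ∈ J, ∀ z : A' ⊗[A] Q, j • z = 0 := by
    intro j hj z
    induction z using TensorProduct.induction_on with
    | zero => simp
    | tmul a q => rw [← TensorProduct.tmul_smul, hQ j hj q, TensorProduct.tmul_zero]
    | add y z hy hz => rw [smul_add, hy, hz, add_zero]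
  have hkill : ∀ j' ∈ J.map (algebraMap A A'), ∀ z : A' ⊗[A] Q, j' • z = 0 := by
    intro j' hj'
    refine Submodule.span_induction (p := fun j' _ => ∀ z : A' ⊗[A] Q, j' • z = 0)
      ?_ ?_ ?_ ?_ hj'
    · rintro _ ⟨j, hj, rfl⟩ z
      rw [algebraMap_smul]; exact hkill0 j hj z
    · intro z; simp
    · intro a b _ _ ha hb z; rw [add_smul, ha, hb, add_zero]
    · intro c a _ ha z; rw [smul_eq_mul, mul_smul, ha, smul_zero]
  have h1 : ∀ y ∈ (J.map (algebraMap A A')) • (⊤ : Submodule A' (A' ⊗[A] N)),
      ρ.baseChange A' y = 0 := by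
    intro y hy
    refine Submodule.smul_induction_on hy ?_ ?_
    · intro j' hj' y _; rw [map_smul]; exact hkill j' hj' _
    · intro y z hy hz; rw [map_add, hy, hz, add_zero]
  have h2 : ((ρ ∘ₗ π).lTensor A') x = 0 := by
    have := h1 _ hx
    rw [← LinearMap.comp_apply, ← LinearMap.baseChange_comp] at this
    exact this
  have hex := lTensor_exact A' (LinearMap.exact_subtype_ker_map (ρ ∘ₗ π)) hσs
  obtain ⟨w, rfl⟩ := (hex x).mp h2
  clear hx h2
  have h3 : ∀ p ∈ J • (⊤ : Submodule A P), ∀ a' : A',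
      a' ⊗ₜ[A] p ∈ (J.map (algebraMap A A')) • (⊤ : Submodule A' (A' ⊗[A] P)) := by
    intro p hp a'
    refine Submodule.smul_induction_on hp ?_ ?_
    · intro j hj p₀ _
      rw [TensorProduct.tmul_smul, ← algebraMap_smul A' j (a' ⊗ₜ[A] p₀)]
      exact Submodule.smul_mem_smul (Ideal.mem_map_of_mem _ hj) Submodule.mem_top
    · intro p q hp hq; rw [TensorProduct.tmul_add]; exact add_mem hp hq
  induction w using TensorProduct.induction_on with
  | zero => simp
  | tmul a' k =>
    rw [LinearMap.lTensor_tmul]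
    exact h3 _ (hker _ k.2) a'
  | add y z hy hz => rw [map_add]; exact add_mem hy hz

theorem main {A : Type u} [CommRing A] [IsArtinianRing A] (N : Type u) [AddCommGroup N]
    [Module A N] :
    ∃ I : Ideal A, ∀ (A' : Type u) [CommRing A'] [Algebra A A'],
      Module.Flat A' (A' ⊗[A] N) ↔ I.map (algebraMap A A') = ⊥ := by
  classical
  have hJ : IsNilpotent (Ring.jacobson A) := IsSemiprimaryRing.isNilpotent
  haveI : IsSemisimpleRing (A ⧸ Ring.jacobson A) := IsSemiprimaryRing.isSemisimpleRing
  haveI : Module.Projective (A ⧸ Ring.jacobson A)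
      (N ⧸ (Ring.jacobson A • ⊤ : Submodule A N)) :=
    Module.projective_of_isSemisimpleRing _ _
  obtain ⟨P, _, _, hP, ⟨e⟩⟩ := Groth.Agent.S3168.result (Ring.jacobson A) hJ
    (N ⧸ (Ring.jacobson A • ⊤ : Submodule A N))
  haveI := hP
  let mk1 : P →ₗ[A] (A ⧸ Ring.jacobson A) ⊗[A] P := TensorProduct.mk A (A ⧸ Ring.jacobson A) P 1
  let q : N →ₗ[A] N ⧸ (Ring.jacobson A • ⊤ : Submodule A N) := Submodule.mkQ _
  let ψ : P →ₗ[A] N ⧸ (Ring.jacobson A • ⊤ : Submodule A N) :=
    (e.toLinearMap.restrictScalars A) ∘ₗ mk1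
  obtain ⟨π, hπ⟩ := Module.projective_lifting_property q ψ (Submodule.mkQ_surjective _)
  have hπ' : ∀ p, q (π p) = e ((1 : A ⧸ Ring.jacobson A) ⊗ₜ[A] p) :=
    fun p => LinearMap.congr_fun hπ p
  let ρ : N →ₗ[A] (A ⧸ Ring.jacobson A) ⊗[A] P := (e.symm.toLinearMap.restrictScalars A) ∘ₗ q
  have hρπ : ∀ p, ρ (π p) = (1 : A ⧸ Ring.jacobson A) ⊗ₜ[A] p := by
    intro p
    show e.symm (q (π p)) = _
    rw [hπ', LinearEquiv.symm_apply_apply]
  have hmk1 : Function.Surjective mk1 := Groth.Agent.S3168.mk_one_surjective _ _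
  -- π surjective
  have hπs : Function.Surjective π := by
    have hC : ∀ c : N ⧸ LinearMap.range π, c = 0 := by
      apply eq_zero_of_forall_mem_smul (Ring.jacobson A) hJ
      intro c
      obtain ⟨n, rfl⟩ := Submodule.Quotient.mk_surjective _ c
      obtain ⟨p, hp⟩ := hmk1 (e.symm (q n))
      have h1 : q (n - π p) = 0 := by
        rw [map_sub, hπ' p]
        have : (1 : A ⧸ Ring.jacobson A) ⊗ₜ[A] p = e.symm (q n) := hp
        rw [this, LinearEquiv.apply_symm_apply, sub_self]
      have h1' : n - π p ∈ (Ring.jacobson A • ⊤ : Submodule A N) := by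
        rwa [Submodule.mkQ_apply, Submodule.Quotient.mk_eq_zero] at h1
      have h2 : Submodule.Quotient.mk (p := LinearMap.range π) n =
          (LinearMap.range π).mkQ (n - π p) := by
        rw [map_sub, Submodule.mkQ_apply, Submodule.mkQ_apply,
          (Submodule.Quotient.mk_eq_zero (p := LinearMap.range π)).mpr ⟨p, rfl⟩, sub_zero]
      rw [h2]
      have h3 : (LinearMap.range π).mkQ (n - π p) ∈
          (Ring.jacobson A • (⊤ : Submodule A N)).map (LinearMap.range π).mkQ :=
        Submodule.mem_map_of_mem h1'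
      rw [Submodule.map_smul''] at h3
      exact Submodule.smul_mono le_rfl le_top h3
    intro n
    have := hC (Submodule.Quotient.mk n)
    rw [Submodule.Quotient.mk_eq_zero] at this
    exact this
  have hQ : ∀ j ∈ Ring.jacobson A, ∀ z : (A ⧸ Ring.jacobson A) ⊗[A] P, j • z = 0 := by
    intro j hj z
    induction z using TensorProduct.induction_on with
    | zero => simp
    | tmul c p =>
      rw [TensorProduct.smul_tmul', Algebra.smul_def, Ideal.Quotient.algebraMap_eq,
        Ideal.Quotient.eq_zero_iff_mem.mpr hj, zero_mul, TensorProduct.zero_tmul]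
    | add y z hy hz => rw [smul_add, hy, hz, add_zero]
  have hσs : Function.Surjective (ρ ∘ₗ π) := by
    intro z
    obtain ⟨p, hp⟩ := hmk1 z
    exact ⟨p, (hρπ p).trans hp⟩
  have hker : ∀ p, ρ (π p) = 0 → p ∈ Ring.jacobson A • (⊤ : Submodule A P) := by
    intro p hp
    rwa [hρπ, one_tmul_eq_zero_iff] at hp
  let I : Ideal A := Ideal.span {a | ∃ (φ : P →ₗ[A] A) (k : P), π k = 0 ∧ φ k = a}
  refine ⟨I, fun A' _ _ => ?_⟩
  have hπ's : Function.Surjective (π.baseChange A') := LinearMap.lTensor_surjective A' hπs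
  constructor
  · intro hfl
    have hJ' : IsNilpotent ((Ring.jacobson A).map (algebraMap A A')) := by
      obtain ⟨n, hn⟩ := hJ
      exact ⟨n, by rw [← Ideal.map_pow, hn, Ideal.zero_eq_bot, Ideal.map_bot]; rfl⟩
    have hinj : Function.Injective (π.baseChange A') :=
      injective_of_surjective_of_flat ((Ring.jacobson A).map (algebraMap A A')) hJ'
        (π.baseChange A') hπ's
        (fun x hx => inj_mod (Ring.jacobson A) π ρ hQ hσs hker A' x hx)
    rw [Ideal.map_eq_bot_iff_le_ker]
    apply Ideal.span_le.mpr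
    rintro a ⟨φ, k, hk, rfl⟩
    have h1 : (1 : A') ⊗ₜ[A] k = 0 := by
      apply hinj
      rw [LinearMap.baseChange_tmul, hk, TensorProduct.tmul_zero, map_zero]
    have h2 : φ.baseChange A' ((1 : A') ⊗ₜ[A] k) = 0 := by rw [h1, map_zero]
    rw [LinearMap.baseChange_tmul] at h2
    have h3 := congrArg (TensorProduct.AlgebraTensorModule.rid A A' A') h2
    rw [TensorProduct.AlgebraTensorModule.rid_tmul, map_zero] at h3
    show algebraMap A A' (φ k) = 0
    rw [Algebra.algebraMap_eq_smul_one]; exact h3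
  · intro hI
    have hI' : ∀ a ∈ I, algebraMap A A' a = 0 := by
      intro a ha
      have : a ∈ RingHom.ker (algebraMap A A') := (Ideal.map_eq_bot_iff_le_ker _).mp hI ha
      exact this
    have hinj : Function.Injective (π.baseChange A') := by
      rw [injective_iff_map_eq_zero]
      intro x hx
      have hex := lTensor_exact A' (LinearMap.exact_subtype_ker_map π) hπs
      obtain ⟨w, rfl⟩ := (hex x).mp hx
      clear hx
      obtain ⟨s, hs⟩ := Module.projective_def'.mp hP
      induction w using TensorProduct.induction_on with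
      | zero => simp
      | tmul a' k =>
        rw [LinearMap.lTensor_tmul]
        show a' ⊗ₜ[A] (k : P) = 0
        have hk : (k : P) = (s k).sum fun x a => a • x := by
          have := LinearMap.congr_fun hs (k : P)
          simpa [Finsupp.linearCombination_apply] using this.symm
        rw [hk, Finsupp.sum, TensorProduct.tmul_sum]
        apply Finset.sum_eq_zero
        intro x _
        have hc : algebraMap A A' (s k x) = 0 :=
          hI' _ (Ideal.subset_span ⟨(Finsupp.lapply x) ∘ₗ s, k, k.2, rfl⟩)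
        rw [TensorProduct.tmul_smul, TensorProduct.smul_tmul', Algebra.smul_def, hc, zero_mul,
          TensorProduct.zero_tmul]
      | add y z hy hz => rw [map_add, hy, hz, add_zero]
    let E : (A' ⊗[A] P) ≃ₗ[A'] (A' ⊗[A] N) :=
      LinearEquiv.ofBijective (π.baseChange A') ⟨hinj, hπ's⟩
    exact Module.Flat.of_linearEquiv E.symm

end

/-- Ring form, stated for X = Spec B affine: let A be an Artinian ring, B an A-algebra and N a B-module.
Then there is an ideal I of A such that for every A-algebra A', with B' = B ⊗_A A' and N' the base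
change of N (any models), N' is flat over A' if and only if IA' = 0. -/
theorem result {A B : Type u} [CommRing A] [IsArtinianRing A] [CommRing B] [Algebra A B]
    (N : Type u) [AddCommGroup N] [Module B N] [Module A N] [IsScalarTower A B N] :
    ∃ I : Ideal A, ∀ (A' B' N' : Type u) [CommRing A'] [CommRing B'] [Algebra A A'] [Algebra B B'] [Algebra A' B'] [Algebra A B']
      [IsScalarTower A B B'] [IsScalarTower A A' B'] [Algebra.IsPushout A B A' B']
      [AddCommGroup N'] [Module B' N'] [Module B N'] [IsScalarTower B B' N'] [Module A' N'] [IsScalarTower A' B' N']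
      (f : N →ₗ[B] N'), IsBaseChange B' f →
      (Module.Flat A' N' ↔ I.map (algebraMap A A') = ⊥) := by
  obtain ⟨I, hI⟩ := main (A := A) N
  refine ⟨I, ?_⟩
  intro A' B' N' _ _ _ _ _ _ _ _ _ _ _ _ _ _ _ f hf
  rw [← hI A']
  haveI : Algebra.IsPushout A A' B B' := Algebra.IsPushout.symm inferInstance
  let e1 : TensorProduct B B' N ≃ₗ[B'] N' := hf.equiv
  let e2 : TensorProduct B B' N ≃ₗ[A'] TensorProduct A A' N :=
    Algebra.IsPushout.cancelBaseChange A A' B B' N
  exact Module.Flat.equiv_iff ((e1.restrictScalars A').symm ≪≫ₗ e2)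

end Groth.Agent.S1265
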