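import Groth.Statements.S1267
import Mathlib
import Groth.Agent.Lib.Helper9.FlatSqZero

set_option autoImplicit false
universe u
open FlatMor

namespace Groth.Agent.S1267

open TensorProduct
namespace H1267

theorem flat_away {A : Type u} [CommRing A] (M : Type u) [AddCommGroup M] [Module A M] (f : A)
    (H : ∀ p : PrimeSpectrum A, f ∉ p.asIdeal →
      Module.Flat A (LocalizedModule p.asIdeal.primeCompl M)) :
    Module.Flat (Localization.Away f) (Localization.Away f ⊗[A] M) := by
  rw [Module.flat_iff_of_isLocalization (Localization.Away f) (Submonoid.powers f)]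
  apply Module.flat_of_isLocalized_maximal (Localization.Away f) (Localization.Away f ⊗[A] M)
    (fun P _ => LocalizedModule P.primeCompl (Localization.Away f ⊗[A] M))
    (fun P _ => LocalizedModule.mkLinearMap P.primeCompl (Localization.Away f ⊗[A] M))
  intro P hP
  have : P.IsPrime := hP.isPrime
  let p : Ideal A := P.comap (algebraMap A (Localization.Away f))
  have : p.IsPrime := Ideal.comap_isPrime _ _
  have hfp : f ∉ p := by
    intro hf
    have hunit : IsUnit (algebraMap A (Localization.Away f) f) :=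
      IsLocalization.map_units (Localization.Away f) (⟨f, Submonoid.mem_powers f⟩ : Submonoid.powers f)
    exact hP.ne_top (Ideal.eq_top_of_isUnit_mem _ hf hunit)
  have hloc : IsLocalization.AtPrime (Localization.AtPrime P) p :=
    IsLocalization.isLocalization_isLocalization_atPrime_isLocalization (Submonoid.powers f)
      (Localization.AtPrime P) P
  have hb1 : IsBaseChange (Localization.Away f) (TensorProduct.mk A (Localization.Away f) M 1) :=
    TensorProduct.isBaseChange A M (Localization.Away f)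
  have hb2 : IsBaseChange (Localization.AtPrime P)
      (LocalizedModule.mkLinearMap P.primeCompl (Localization.Away f ⊗[A] M)) :=
    (isLocalizedModule_iff_isBaseChange P.primeCompl (Localization.AtPrime P) _).mp inferInstance
  have hb := IsBaseChange.comp hb1 hb2
  have hlm : IsLocalizedModule p.primeCompl
      (((LocalizedModule.mkLinearMap P.primeCompl (Localization.Away f ⊗[A] M)).restrictScalars A).comp
        (TensorProduct.mk A (Localization.Away f) M 1)) :=
    (isLocalizedModule_iff_isBaseChange p.primeCompl (Localization.AtPrime P) _).mpr hb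
  have := H ⟨p, inferInstance⟩ hfp
  exact Module.Flat.of_linearEquiv (IsLocalizedModule.iso p.primeCompl
    (((LocalizedModule.mkLinearMap P.primeCompl (Localization.Away f ⊗[A] M)).restrictScalars A).comp
        (TensorProduct.mk A (Localization.Away f) M 1))).symm


theorem flat_quot_iff {S M : Type u} [CommRing S] [AddCommGroup M] [Module S M] (I : Ideal S) :
    Module.Flat (S ⧸ I) ((S ⧸ I) ⊗[S] M) ↔
      Module.Flat (S ⧸ I) (M ⧸ (I • (⊤ : Submodule S M))) :=
  Module.Flat.equiv_iff (LinearEquiv.extendScalarsOfSurjective Ideal.Quotient.mk_surjective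
    (TensorProduct.quotTensorEquivQuotSMul M I))

theorem exists_ideal {A : Type u} [CommRing A] (I : Ideal A) (M : Type u) [AddCommGroup M]
    [Module A M] (hI : Module.Flat (A ⧸ I) ((A ⧸ I) ⊗[A] M)) (L : List A)
    (H : ∀ f ∈ L, ∀ p : PrimeSpectrum A, f ∉ p.asIdeal →
      Module.Flat A (LocalizedModule p.asIdeal.primeCompl M)) :
    ∃ 𝔠 : Ideal A, Module.Flat (A ⧸ 𝔠) ((A ⧸ 𝔠) ⊗[A] M) ∧ 𝔠 ≤ I ∧
      ∀ x ∈ 𝔠, ∀ f ∈ L, ∃ n : ℕ, f ^ n * x ∈ I ^ 2 := by
  induction L with
  | nil => exact ⟨I, hI, le_rfl, fun x _ f hf => absurd hf List.not_mem_nil⟩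
  | cons f L ih =>
    obtain ⟨𝔠', h1, h2, h3⟩ := ih (fun g hg => H g (List.mem_cons_of_mem _ hg))
    have := h1
    have := flat_away M f (H f List.mem_cons_self)
    let 𝔯' : Ideal (Localization.Away f) := (𝔠'.map (algebraMap A (Localization.Away f))) ^ 2
    refine ⟨𝔠' ⊓ 𝔯'.comap (algebraMap A (Localization.Away f)),
      Groth.Agent.Lib.Helper9.FlatSqZero.flat_quotient_inf_comap M 𝔠' 𝔯' le_rfl,
      inf_le_left.trans h2, ?_⟩
    intro x hx g hg
    rcases List.mem_cons.mp hg with hgf | hg'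
    · subst hgf
      have hx2 : algebraMap A (Localization.Away g) x ∈ 𝔯' := hx.2
      have hle : 𝔯' ≤ (I ^ 2).map (algebraMap A (Localization.Away g)) := by
        rw [Ideal.map_pow]
        exact Ideal.pow_right_mono (Ideal.map_mono h2) 2
      obtain ⟨m, ⟨n, rfl⟩, hm⟩ := (IsLocalization.algebraMap_mem_map_algebraMap_iff
        (Submonoid.powers g) (Localization.Away g) (I ^ 2) x).mp (hle hx2)
      exact ⟨n, hm⟩
    · exact h3 x hx.1 g hg'

theorem main {A : Type u} [CommRing A] (I : Ideal A)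
    (U : Set (PrimeSpectrum A)) (hU : IsOpen U) (hUc : IsCompact U)
    (M : Type u) [AddCommGroup M] [Module A M]
    [hM : Module.Flat (A ⧸ I) (M ⧸ (I • ⊤ : Submodule A M))]
    (hflat : ∀ p ∈ U, Module.Flat A (LocalizedModule p.asIdeal.primeCompl M))
    (I₂ : Ideal A)
    (hI₂ : ∀ x : A, x ∈ I₂ ↔ x ∈ I ∧ ∀ p ∈ U, ∃ s : A, s ∉ p.asIdeal ∧ s * x ∈ I ^ 2) :
    Module.Flat (A ⧸ I₂) (M ⧸ (I₂ • ⊤ : Submodule A M)) := by
  classical
  obtain ⟨t, ht⟩ := PrimeSpectrum.isCompact_isOpen_iff.mp ⟨hUc, hU⟩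
  have hmemU : ∀ p : PrimeSpectrum A, p ∈ U ↔ ∃ f ∈ t, f ∉ p.asIdeal := by
    intro p
    rw [← ht, Set.mem_compl_iff, PrimeSpectrum.mem_zeroLocus, Set.not_subset]
    simp
  obtain ⟨𝔠, h1, h2, h3⟩ := exists_ideal I M ((flat_quot_iff I).mpr hM) t.toList (by
    intro f hf p hfp
    exact hflat p ((hmemU p).mpr ⟨f, Finset.mem_toList.mp hf, hfp⟩))
  have hle : 𝔠 ≤ I₂ := by
    intro x hx
    rw [hI₂]
    refine ⟨h2 hx, fun p hp => ?_⟩
    obtain ⟨f, hft, hfp⟩ := (hmemU p).mp hp
    obtain ⟨n, hn⟩ := h3 x hx f (Finset.mem_toList.mpr hft)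
    exact ⟨f ^ n, fun h => hfp (p.isPrime.mem_of_pow_mem n h), hn⟩
  have := h1
  have h4 : Module.Flat (A ⧸ I₂) ((A ⧸ I₂) ⊗[A] M) :=
    Groth.Agent.Lib.Helper9.FlatSqZero.flat_of_algHom (Ideal.Quotient.factorₐ A hle) M
  exact (flat_quot_iff I₂).mp h4

end H1267

/-- Let A be a local ring, I an ideal, U a quasi-compact open subset of Spec A and M an A-module such
that M/IM is flat over A/I and M_p is flat over A for all p in U. Let I₂ be the kernel of I → Γ(U,
I/I²), that is the set of x ∈ I such that for every p ∈ U some s outside p has s·x ∈ I². Then M/I₂M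
is flat over A/I₂. -/
theorem result {A : Type u} [CommRing A] [IsLocalRing A] (I : Ideal A)
    (U : Set (PrimeSpectrum A)) (hU : IsOpen U) (hUc : IsCompact U)
    (M : Type u) [AddCommGroup M] [Module A M]
    [Module.Flat (A ⧸ I) (M ⧸ (I • ⊤ : Submodule A M))]
    (hflat : ∀ p ∈ U, Module.Flat A (LocalizedModule p.asIdeal.primeCompl M))
    (I₂ : Ideal A) (hI₂ : ∀ x : A, x ∈ I₂ ↔ x ∈ I ∧ ∀ p ∈ U, ∃ s : A, s ∉ p.asIdeal ∧ s * x ∈ I ^ 2) :
    Module.Flat (A ⧸ I₂) (M ⧸ (I₂ • ⊤ : Submodule A M)) := by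
  exact H1267.main I U hU hUc M hflat I₂ hI₂

end Groth.Agent.S1267
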