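import Groth.Statements.S12691
import Groth.Agent.Lib.Helper3.RelTwistQ2
import Groth.Agent.Lib.Helper3.SymInvTwist
import Groth.Agent.Lib.Helper3.SymGenProj
import Groth.Agent.Lib.Helper3.DegOneBundle
import Groth.Agent.Lib.Helper3.CanonPhi
import Groth.Agent.Lib.Helper3.InvCoh

set_option autoImplicit false
universe u
open CategoryTheory CategoryTheory.Limits AlgebraicGeometry TopologicalSpace Opposite
open scoped HomogeneousIdeal
noncomputable section
open Mor

namespace Groth.Agent.S12691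

/-- Let f : X → Y be a quasi-compact morphism, L an invertible O_X-module with graded symmetric algebra
𝒮L = ⊕_{n≥0} L^{⊗n} (whose relative Proj PL, given with its charts, is identified with X by its
structure morphism), 𝒜 a quasi-coherent graded O_Y-algebra generated in degree one over O_Y (its
degree-zero part is the image of O_Y and degrees zero and one generate it), u : 𝒜 → f_*𝒮L a graded
f-morphism (adjoint to a homomorphism of graded algebras ψ : f^*𝒜 → ⊕ L^{⊗n}) whose degree-one part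
f^*𝒜_1 → L is surjective — every point of X has an affine neighbourhood V over which the image of a
single degree-one section of 𝒜 generates L — P = Proj(𝒜) → Y with its charts, and r = r_{L,ψ} : U(ψ)
→ P the induced morphism on its open of definition U(ψ) ⊆ PL. If r is an immersion, then L is very
ample relative to f (isomorphic to the inverse image of O(1) along a Y-immersion into the projective
bundle of a quasi-coherent O_Y-module). -/
theorem result {X Y P PL : Scheme.{u}} (f : X ⟶ Y) [QuasiCompact f]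
    (L : X.Modules) (hL : PicF.IsInvertible L) (hLq : Coh.IsQCoh L)
    (𝒮L : RelProj.QCGrAlg X) (jL : L ⟶ 𝒮L.toModule) (hjL : RelProj.IsGrSymAlg L 𝒮L jL)
    (pL : PL ⟶ X) (chartL : ∀ (U : X.Opens) (hU : IsAffineOpen U), (((pL ⁻¹ᵁ U : PL.Opens) : Scheme.{u}) ≅ Proj (𝒮L.deg U hU)))
    (hPL : RelProj.IsRelProj 𝒮L pL chartL)
    (𝒜 : RelProj.QCGrAlg Y) (h1 : 𝒜.IsGenDegOne)
    (h0 : ∀ (U : Y.Opens) (hU : IsAffineOpen U),
      ((𝒜.deg U hU 0 : AddSubgroup (𝒜.presheaf.obj (op U))) : Set (𝒜.presheaf.obj (op U))) = Set.range (𝒜.str.app (op U)).hom)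
    (u : RelProj.QGrHom f 𝒜 𝒮L)
    (hsurj : ∀ x : X, ∃ (U : Y.Opens) (hU : IsAffineOpen U) (e : 𝒜.presheaf.obj (op U)) (_ : e ∈ 𝒜.deg U hU 1)
        (V : X.Opens) (hV : IsAffineOpen V) (hVU : V ≤ f ⁻¹ᵁ U), x ∈ V ∧
          ((𝒮L.deg V hV 1 : AddSubgroup (𝒮L.presheaf.obj (op V))) : Set (𝒮L.presheaf.obj (op V))) ⊆
            (Ideal.span {(u.appLE U V hVU).hom e} : Set (𝒮L.presheaf.obj (op V))))
    (p : P ⟶ Y) (chart : ∀ (U : Y.Opens) (hU : IsAffineOpen U), (((p ⁻¹ᵁ U : P.Opens) : Scheme.{u}) ≅ Proj (𝒜.deg U hU)))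
    (hP : RelProj.IsRelProj 𝒜 p chart)
    (r : ((RelProj.domQ u pL chartL : PL.Opens) : Scheme.{u}) ⟶ P)
    (hr : RelProj.IsProjQMapOn u p chart pL chartL (RelProj.domQ u pL chartL) r)
    (himm : IsImmersion r) :
    RelProj.IsRelVeryAmple f L := by
  classical
  haveI : L.IsQuasicoherent :=
    Groth.Agent.Lib.Helper3.InvCoh.isQuasicoherent_of_isInvertible hL
  have hgenL : 𝒮L.IsGenDegOne := Groth.Agent.Lib.Helper3.SymGenProj.isGenDegOne hjL
  -- the morphism is everywhere defined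
  have hdom : RelProj.domQ u pL chartL = ⊤ := by
    rw [eq_top_iff]
    intro x' _
    obtain ⟨U, hU, e, he, V, hV, hVU, hxV, hspan⟩ := hsurj (pL x')
    obtain ⟨y, hy⟩ := Groth.Agent.Lib.Helper3.ProjQMap.exists_emb_eq pL chartL V hV x' hxV
    refine Groth.Agent.Lib.Helper3.RLPsi.mem_domQ_of_loc u x' U hU V hV hVU
      ⟨y, hy, 1, one_pos, e, he, ?_⟩
    intro hmem
    apply y.not_irrelevant_le
    intro z hz
    have h1' : Ideal.span (𝒮L.deg V hV 1 : Set (𝒮L.presheaf.obj (op V))) ≤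
        y.asHomogeneousIdeal.toIdeal := by
      apply Ideal.span_le.mpr
      intro t ht
      exact (Ideal.span_le.mpr (Set.singleton_subset_iff.mpr hmem)) (hspan ht)
    exact h1' (Groth.Agent.Lib.Helper3.GrTwistGen.irrelevant_le_span_one (hgenL V hV) hz)
  obtain ⟨O1, lam, hO1⟩ := Groth.Agent.Lib.Helper3.RelTwistExist.exists_isRelTwist hP 1
  obtain ⟨L1, lamL, hL1⟩ := Groth.Agent.Lib.Helper3.RelTwistExist.exists_isRelTwist hPL 1
  haveI : IsIso pL := Groth.Agent.Lib.Helper3.SymInvProj.isIso_p hL hjL pL chartL hPL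
  obtain ⟨φ, hφ⟩ := Groth.Agent.Lib.Helper3.CanonPhi.exists_phi hjL.2 hPL hL1
  haveI hψ := Groth.Agent.Lib.Helper3.SymInvTwist.isIso_adjoint hL hjL hL1 φ hφ
  haveI hD : IsIso (RelProj.domQ u pL chartL).ι :=
    Groth.Agent.Lib.Helper3.RelTwistQ2.isIso_ι_of_eq_top _ hdom
  have hh := Groth.Agent.Lib.Helper3.RelTwistQ2.isProjQMap_of_on u hdom r hr
  obtain ⟨τ⟩ := Groth.Agent.Lib.Helper3.RelTwistQ.nonempty_iso_of_isProjQMap hP hPL hO1 hL1
    (inv (RelProj.domQ u pL chartL).ι ≫ r) hh h1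
  have hcomp : r ≫ p = (RelProj.domQ u pL chartL).ι ≫ pL ≫ f :=
    Groth.Agent.Lib.Helper3.ProjQGlue.comp_eq_of_isProjQMapOn p chart pL chartL hP hPL r hr
  have hi : (inv pL ≫ inv (RelProj.domQ u pL chartL).ι ≫ r) ≫ p = f := by
    simp only [Category.assoc]
    rw [hcomp, IsIso.inv_hom_id_assoc, IsIso.inv_hom_id_assoc]
  haveI : IsImmersion (inv pL ≫ inv (RelProj.domQ u pL chartL).ι ≫ r) := inferInstance
  refine Groth.Agent.Lib.Helper3.DegOneBundle.isRelVeryAmple_of_genDegOne 𝒜 f L h1 p chart hP O1 lam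
    hO1 (inv pL ≫ inv (RelProj.domQ u pL chartL).ι ≫ r) hi ?_
  exact (Scheme.Modules.pullbackId X).symm.app L ≪≫
    (Scheme.Modules.pullbackCongr (IsIso.inv_hom_id pL).symm).app L ≪≫
    (Scheme.Modules.pullbackComp (inv pL) pL).symm.app L ≪≫
    (Scheme.Modules.pullback (inv pL)).mapIso
      (asIso ((Scheme.Modules.pullback pL).map φ ≫
        (Scheme.Modules.pullbackPushforwardAdjunction pL).counit.app L1) ≪≫ τ.symm) ≪≫
    (Scheme.Modules.pullbackComp (inv pL) (inv (RelProj.domQ u pL chartL).ι ≫ r)).app O1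

end Groth.Agent.S12691
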