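import Groth.Statements.S12692
import Groth.Agent.Lib.Helper3.RLPsiImmU
import Groth.Agent.Lib.Helper3.RelProjLoc

set_option autoImplicit false
universe u
open CategoryTheory CategoryTheory.Limits AlgebraicGeometry TopologicalSpace Opposite
open scoped HomogeneousIdeal
noncomputable section
open Coh

namespace Groth.Agent.S12692

/-- Let X be a quasi-compact scheme, L an invertible O_X-module with graded symmetric algebra 𝒮L =
⊕_{d≥0} L^{⊗d} (whose relative Proj PL, given with its charts, is identified with X by its structure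
morphism), f : X → Y a quasi-compact morphism to an AFFINE scheme Y, 𝒜 a quasi-coherent graded
O_Y-algebra given with a graded f-morphism u : 𝒜 → f_*𝒮L which is bijective on global sections — so
that Γ(Y, 𝒜) is the graded ring S = ⊕_d Γ(X, L^{⊗d}) and P = Proj(𝒜) (given with its charts) is
Proj(S) — and r : G(u) → P the canonical morphism on its open of definition G(u) ⊆ PL. If G(u) is
all of PL (that is, every point of X lies in an open X_s for some homogeneous s ∈ S_+), then r is
quasi-compact and has dense image. (The published statement forms the homogeneous spectrum of the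
graded ring S itself, with no base scheme; any affine Y under X gives the same graded ring, the same
homogeneous spectrum and the same morphism.) -/
theorem result {X Y P PL : Scheme.{u}} [CompactSpace X]
    (f : X ⟶ Y) [QuasiCompact f] (hY : IsAffineOpen (⊤ : Y.Opens))
    (L : X.Modules) (hL : PicF.IsInvertible L) (hLq : Coh.IsQCoh L)
    (𝒮L : RelProj.QCGrAlg X) (jL : L ⟶ 𝒮L.toModule) (hjL : RelProj.IsGrSymAlg L 𝒮L jL)
    (pL : PL ⟶ X) (chartL : ∀ (U : X.Opens) (hU : IsAffineOpen U), (((pL ⁻¹ᵁ U : PL.Opens) : Scheme.{u}) ≅ Proj (𝒮L.deg U hU)))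
    (hPL : RelProj.IsRelProj 𝒮L pL chartL)
    (𝒜 : RelProj.QCGrAlg Y) (u : RelProj.QGrHom f 𝒜 𝒮L)
    (p : P ⟶ Y) (chart : ∀ (U : Y.Opens) (hU : IsAffineOpen U), (((p ⁻¹ᵁ U : P.Opens) : Scheme.{u}) ≅ Proj (𝒜.deg U hU)))
    (hP : RelProj.IsRelProj 𝒜 p chart)
    (r : ((RelProj.domQ u pL chartL : PL.Opens) : Scheme.{u}) ⟶ P)
    (hr : RelProj.IsProjQMapOn u p chart pL chartL (RelProj.domQ u pL chartL) r)
    (hu : Function.Bijective (u.app ⊤).hom)
    (htop : RelProj.domQ u pL chartL = ⊤) :
    QuasiCompact r ∧ IsDominant r := by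
  haveI : L.IsQuasicoherent := hLq
  haveI : IsIso pL := Groth.Agent.Lib.Helper3.SymInvProj.isIso_p hL hjL pL chartL hPL
  haveI : IsIso (RelProj.domQ u pL chartL).ι := by
    rw [htop]
    exact (inferInstance : IsIso (Scheme.topIso PL).hom)
  constructor
  · haveI : IsSeparated p := Groth.Agent.Lib.Helper3.RelProjLoc.isSeparated hP
    have hcomp : r ≫ p = (RelProj.domQ u pL chartL).ι ≫ pL ≫ f :=
      Groth.Agent.Lib.Helper3.RLPsi.r_comp u r hr hP hPL
    haveI : QuasiCompact (r ≫ p) := by
      rw [hcomp]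
      infer_instance
    exact QuasiCompact.of_comp r p
  · refine Groth.Agent.Lib.Helper3.RLPsi.isDominant_of_forall r hP
      (fun y₀ => ⟨⊤, hY, trivial, ?_⟩)
    intro n hn s hs hno
    have hle : ∀ V : X.Opens, V ≤ f ⁻¹ᵁ (⊤ : Y.Opens) := fun V x _ => trivial
    have hloc : ∀ (V : X.Opens) (hV : IsAffineOpen V),
        ∃ m : ℕ, ((u.appLE ⊤ V (hle V)).hom s) ^ m = 0 := by
      intro V hV
      have hs' : (u.appLE ⊤ V (hle V)).hom s ∈ 𝒮L.deg V hV n :=
        (u.gradedAt ⊤ hY V hV (hle V)).map_mem hs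
      apply Groth.Agent.Lib.Helper3.RLPsi.isNilpotent_of_forall_mem hn hs'
      intro y
      by_contra hy
      have hz : RelProj.emb pL chartL V hV y ∈ RelProj.domQ u pL chartL := by
        rw [htop]
        trivial
      exact hno ⟨_, hz⟩ ((Groth.Agent.Lib.Helper3.RLPsi.r_mem_iff u r hr hPL ⟨_, hz⟩ ⊤ hY V hV
        (hle V) y rfl hn s hs).mpr hy)
    have hX : IsCompact ((⊤ : X.Opens) : Set X) := by
      rw [Opens.coe_top]
      exact isCompact_univ
    obtain ⟨ι, hfin, W, hWa, -, hcov⟩ :=
      Groth.Agent.Lib.Helper3.QCSec.exists_finite_affine_cover (⊤ : X.Opens) hX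
    haveI := Fintype.ofFinite ι
    choose m hm using fun i => hloc (W i) (hWa i)
    refine ⟨∑ i, m i, ?_⟩
    apply hu.injective
    rw [map_zero]
    refine Groth.Agent.Lib.Helper3.InvGen.sec_eq_of_locally_eq 𝒮L.toModule W (f ⁻¹ᵁ ⊤)
      (fun i => hle (W i)) ?_ _ _ (fun i => ?_)
    · exact fun x _ => hcov trivial
    · change (𝒮L.presheaf.map (homOfLE (hle (W i))).op).hom ((u.app ⊤).hom (s ^ ∑ i, m i)) =
        (𝒮L.presheaf.map (homOfLE (hle (W i))).op).hom 0
      rw [map_zero, map_pow, map_pow]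
      exact pow_eq_zero_of_le
        (Finset.single_le_sum (fun _ _ => Nat.zero_le _) (Finset.mem_univ i)) (hm i)

end Groth.Agent.S12692
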