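import Groth.Statements.S12708
import Mathlib
-- import your own Groth.Agent.* helpers here

set_option autoImplicit false
universe u v
open CategoryTheory
open ArtFun

namespace Groth.Agent.S12708

section Aux

variable {Λ : Type u} {k : Type u} [CommRing Λ] [Field k] [Algebra Λ k]

/-- the length formula in the finite case -/
theorem length_aux (A : Type u) [CommRing A] [Algebra Λ A] [IsLocalRing A] [Algebra A k]
    [IsScalarTower Λ A k] (hres : Function.Surjective (algebraMap A k)) (n : ℕ) :
    ∀ (M : Type v) [AddCommGroup M] [Module A M] [Module Λ M] [IsScalarTower Λ A M],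
      Module.length A M = n → Module.length Λ M = Module.length Λ k * n := by
  induction n with
  | zero =>
    intro M _ _ _ _ h
    rw [Nat.cast_zero, Module.length_eq_zero_iff] at h
    rw [Nat.cast_zero, mul_zero, Module.length_eq_zero_iff]
    exact h
  | succ n ih =>
    intro M _ _ _ _ h
    have hfl : IsFiniteLength A M := by
      rw [← Module.length_ne_top_iff, h]
      exact ENat.natCast_ne_top _
    haveI : IsArtinian A M := ((isFiniteLength_iff_isNoetherian_isArtinian).mp hfl).2
    have hnt : Nontrivial M := by
      rw [← Module.length_pos_iff (R := A), h]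
      exact_mod_cast Nat.succ_pos n
    haveI : IsAtomic (Submodule A M) := isAtomic_of_orderBot_wellFounded_lt wellFounded_lt
    obtain ⟨S, hS⟩ := IsAtomic.exists_atom (α := Submodule A M)
    haveI : IsSimpleModule A S := isSimpleModule_iff_isAtom.mpr hS
    -- `S ≃ k` over `Λ`
    obtain ⟨I, hI, ⟨e⟩⟩ := isSimpleModule_iff_quot_maximal.mp (inferInstance : IsSimpleModule A S)
    have hIm : I = IsLocalRing.maximalIdeal A := IsLocalRing.eq_maximalIdeal hI
    have hker : LinearMap.ker (Algebra.linearMap A k) = IsLocalRing.maximalIdeal A := by
      have hmax : (RingHom.ker (algebraMap A k)).IsMaximal :=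
        RingHom.ker_isMaximal_of_surjective _ hres
      have := IsLocalRing.eq_maximalIdeal hmax
      rw [← this]
      rfl
    let e2 : (A ⧸ LinearMap.ker (Algebra.linearMap A k)) ≃ₗ[A] k :=
      LinearMap.quotKerEquivOfSurjective (Algebra.linearMap A k) hres
    have hSk : Module.length Λ S = Module.length Λ k := by
      subst hIm
      rw [← hker] at e
      exact ((e.trans e2).restrictScalars Λ).length_eq
    have hS1 : Module.length A S = 1 := Module.length_eq_one A S
    have hA := Module.length_eq_add_of_exact S.subtype S.mkQ S.injective_subtype
      S.mkQ_surjective (LinearMap.exact_subtype_mkQ S)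
    have hΛ := Module.length_eq_add_of_exact (S.subtype.restrictScalars Λ)
      (S.mkQ.restrictScalars Λ) S.injective_subtype
      S.mkQ_surjective (LinearMap.exact_subtype_mkQ S)
    rw [h, hS1] at hA
    have hq : Module.length A (M ⧸ S) = n := by
      have h1 : ((n : ℕ∞) + 1) = 1 + Module.length A (M ⧸ S) := by
        rw [← hA]; push_cast; rfl
      rw [add_comm] at h1
      exact (WithTop.add_left_cancel (ENat.one_ne_top) h1).symm
    rw [hΛ, hSk, ih (M ⧸ S) hq]
    push_cast
    ring


end Aux

/-- For Λ Noetherian with a finite map to a field k, A a local Λ-algebra whose residue field is k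
(through a surjective Λ-algebra map A → k) and M an A-module, the length of M over Λ equals the
degree of k over the image of Λ times the length of M over A. The degree is written as the length of
k as a Λ-module, which is the same number; lengths are in ℕ∞. -/
theorem result {Λ : Type u} {k : Type u} [CommRing Λ] [Field k] [Algebra Λ k]
    [IsNoetherianRing Λ] [Module.Finite Λ k]
    (A : Type u) [CommRing A] [Algebra Λ A] [IsLocalRing A] [Algebra A k] [IsScalarTower Λ A k]
    (hres : Function.Surjective (algebraMap A k))
    (M : Type v) [AddCommGroup M] [Module A M] [Module Λ M] [IsScalarTower Λ A M] :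
    Module.length Λ k * Module.length A M = Module.length Λ M := by
  by_cases hM : Module.length A M = ⊤
  · have h1 : Module.length Λ M = ⊤ := by
      have := Submodule.length_le_length_restrictScalars Λ (⊤ : Submodule A M)
      rw [Submodule.restrictScalars_top, Module.length_top, Module.length_top, hM, top_le_iff] at this
      exact this
    have h2 : Module.length Λ k ≠ 0 := (Module.length_pos (R := Λ) (M := k)).ne'
    rw [hM, h1, ENat.mul_top h2]
  · obtain ⟨n, hn⟩ := ENat.ne_top_iff_exists.mp hM
    rw [← hn, length_aux A hres n M hn.symm]

end Groth.Agent.S12708
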