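import Groth.Statements.S12709
import Mathlib
import Groth.Agent.Lib.Helper19.ArtFunBasic
-- import your own Groth.Agent.* helpers here

set_option autoImplicit false
universe u v
open CategoryTheory
open ArtFun ArtFun.Art

namespace Groth.Agent.S12709

/-- Given a morphism f : A → B in the category of Artinian local Λ-algebras with residue field k, three
conditions coincide: (1) surjectivity of f; (2) f induces an onto map from the cotangent space of A
to the cotangent space of B, which in ideal-theoretic form says f(m_A)B + m_B² = m_B; (3) the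
induced map on cotangent spaces relative to Λ is surjective, written as m_Λ B + f(m_A)B + m_B² = m_B
with m_Λ the kernel of Λ → k. -/
theorem result {Λ : Type u} {k : Type u} [CommRing Λ] [Field k] [Algebra Λ k]
    [IsNoetherianRing Λ] [Module.Finite Λ k]
    {A B : ArtFun.Art Λ k} (f : A ⟶ B) :
    List.TFAE [Function.Surjective f,
      Ideal.map f.toAlgHom (IsLocalRing.maximalIdeal A) ⊔ IsLocalRing.maximalIdeal B ^ 2 = IsLocalRing.maximalIdeal B,
      Ideal.map (algebraMap Λ B) (RingHom.ker (algebraMap Λ k)) ⊔ Ideal.map f.toAlgHom (IsLocalRing.maximalIdeal A) ⊔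
        IsLocalRing.maximalIdeal B ^ 2 = IsLocalRing.maximalIdeal B] := by
  have hΛ : Ideal.map (algebraMap Λ B) (RingHom.ker (algebraMap Λ k)) ≤
      Ideal.map f.toAlgHom (IsLocalRing.maximalIdeal A) := by
    rw [Ideal.map_le_iff_le_comap]
    intro l hl
    rw [Ideal.mem_comap]
    have : algebraMap Λ B l = f.toAlgHom (algebraMap Λ A l) := (AlgHom.commutes f.toAlgHom l).symm
    rw [this]
    exact Ideal.mem_map_of_mem _
      (Groth.Agent.Lib.Helper19.ArtFunBasic.algebraMap_mem_maximalIdeal A hl)
  tfae_have 1 → 2 := by
    intro hf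
    have hmap : Ideal.map f.toAlgHom (IsLocalRing.maximalIdeal A) = IsLocalRing.maximalIdeal B := by
      apply le_antisymm (Groth.Agent.Lib.Helper19.ArtFunBasic.map_maximalIdeal_le f)
      intro b hb
      obtain ⟨a, rfl⟩ := hf b
      apply Ideal.mem_map_of_mem
      rw [ArtFun.Art.mem_maximalIdeal_iff] at hb ⊢
      rw [← ArtFun.Art.res_app f a]
      exact hb
    rw [hmap, sup_eq_left]
    exact Ideal.pow_le_self two_ne_zero
  tfae_have 2 → 3 := by
    intro h
    rw [sup_eq_right.mpr hΛ]
    exact h
  tfae_have 3 → 1 := by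
    intro h
    rw [sup_eq_right.mpr hΛ] at h
    exact Groth.Agent.Lib.Helper19.ArtFunBasic.surjective_of_map_sup_sq f h
  tfae_finish

end Groth.Agent.S12709
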