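import Groth.Statements.S1271
import Groth.Agent.Lib.Helper14.FitEtale.Transport

set_option autoImplicit false
universe u
open FlatMor

namespace Groth.Agent.S1271

/-- Let A → B be an étale ring map, a ∈ A a nonzerodivisor and J a finitely generated ideal of B with
V(J) ⊆ V(aB), i.e. a lies in the radical of J. Then for every prime q of B there exist a finitely
generated ideal I of A with V(I) ⊆ V(a), an element g of B outside q, and a finitely generated ideal
J' of the localization B_g such that the extension of I to B_g equals the product of the extension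
of J with J'. -/
theorem result {A B : Type u} [CommRing A] [CommRing B] [Algebra A B] [Algebra.Etale A B]
    (a : A) (ha : a ∈ nonZeroDivisors A) (J : Ideal B) (hJ : J.FG) (hJa : algebraMap A B a ∈ J.radical)
    (q : Ideal B) [q.IsPrime] :
    ∃ (I : Ideal A) (g : B) (J' : Ideal (Localization.Away g)), I.FG ∧ a ∈ I.radical ∧ g ∉ q ∧ J'.FG ∧
      I.map (algebraMap A (Localization.Away g)) = J.map (algebraMap B (Localization.Away g)) * J' := by
  haveI : Algebra.FinitePresentation A B := inferInstance
  obtain ⟨g, hgq, hstd⟩ := Algebra.IsEtaleAt.exists_isStandardEtale (R := A) q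
  obtain ⟨P⟩ := hstd.nonempty_standardEtalePresentation
  haveI : Module.Finite A (AdjoinRoot P.f) := P.monic_f.finite_adjoinRoot
  haveI : Module.Free A (AdjoinRoot P.f) := P.monic_f.free_adjoinRoot
  let θ : Localization.Away g ≃ₐ[A] Localization.Away (AdjoinRoot.mk P.f P.g) :=
    P.equivRing.trans P.P.equivAwayAdjoinRoot
  haveI : Algebra.Etale A (Localization.Away g) := inferInstance
  haveI : Algebra.Etale A (Localization.Away (AdjoinRoot.mk P.f P.g)) := Algebra.Etale.of_equiv θ
  have hrad : algebraMap A (Localization.Away g) a ∈
      (J.map (algebraMap B (Localization.Away g))).radical := by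
    rw [IsScalarTower.algebraMap_apply A B (Localization.Away g)]
    exact Ideal.map_radical_le _ (Ideal.mem_map_of_mem _ hJa)
  obtain ⟨I, J', hI, haI, hJ', heq⟩ :=
    Groth.Agent.Lib.Helper14.FitEtale.exists_ideal_of_algEquiv_away (A := A)
      (AdjoinRoot.mk P.f P.g) θ (J.map (algebraMap B (Localization.Away g))) (hJ.map _) a hrad
  exact ⟨I, g, J', hI, haI, hgq, hJ', heq⟩

end Groth.Agent.S1271
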