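import Groth.Statements.S12713
import Mathlib
import Groth.Agent.Lib.Helper19.ArtFunBasic
-- import your own Groth.Agent.* helpers here

set_option autoImplicit false
universe u v
open CategoryTheory
open ArtFun ArtFun.Art

namespace Groth.Agent.S12713

/-- A small extension f : B → A in the category of Artinian local Λ-algebras with residue field k is not
an essential surjection (some morphism g : C → B is non-surjective although the composite C → A is
surjective) if and only if f has a section A → B in the category. -/
theorem result {Λ : Type u} {k : Type u} [CommRing Λ] [Field k] [Algebra Λ k]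
    [IsNoetherianRing Λ] [Module.Finite Λ k]
    {A B : ArtFun.Art Λ k} (f : B ⟶ A) (hf : ArtFun.Art.IsSmallExt f) :
    (∃ (C : ArtFun.Art Λ k) (g : C ⟶ B), Function.Surjective (g ≫ f) ∧ ¬ Function.Surjective g) ↔
      ∃ s : A ⟶ B, s ≫ f = 𝟙 A := by
  classical
  obtain ⟨hsurj, hne, ⟨⟨t, ht⟩⟩, hm⟩ := hf
  have ht' : RingHom.ker f.toAlgHom = Ideal.span {t} := ht
  have htker : t ∈ RingHom.ker f.toAlgHom := by rw [ht']; exact Ideal.subset_span rfl
  have ht0 : t ≠ 0 := by
    rintro rfl
    apply hne
    rw [ht']
    simp
  have hmt : ∀ y ∈ IsLocalRing.maximalIdeal B, ∀ z ∈ RingHom.ker f.toAlgHom, y * z = 0 := by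
    intro y hy z hz
    have : y * z ∈ IsLocalRing.maximalIdeal B * RingHom.ker f.toAlgHom := Ideal.mul_mem_mul hy hz
    rw [hm] at this
    exact this
  have hkm : RingHom.ker f.toAlgHom ≤ IsLocalRing.maximalIdeal B :=
    Groth.Agent.Lib.Helper19.ArtFunBasic.ker_le_maximalIdeal f
  constructor
  · rintro ⟨C, g, hgf, hg⟩
    have hgf' : ∀ b : B, ∃ c : C, b - g c ∈ RingHom.ker f.toAlgHom := by
      intro b
      obtain ⟨c, hc⟩ := hgf (f b)
      refine ⟨c, ?_⟩
      rw [RingHom.mem_ker, map_sub, sub_eq_zero]
      exact hc.symm
    have hgmul : ∀ x y : C, g (x * y) = g x * g y := fun x y => map_mul g.toAlgHom x y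
    have hgadd : ∀ x y : C, g (x + y) = g x + g y := fun x y => map_add g.toAlgHom x y
    have hgsub : ∀ x y : C, g (x - y) = g x - g y := fun x y => map_sub g.toAlgHom x y
    -- the image of `g` meets the kernel trivially
    have hcap : ∀ d : C, g d ∈ RingHom.ker f.toAlgHom → g d = 0 := by
      intro d hd
      by_contra hd0
      apply hg
      rw [ht'] at hd
      obtain ⟨u, hu⟩ := Ideal.mem_span_singleton'.mp hd
      have hu_unit : u ∉ IsLocalRing.maximalIdeal B := by
        intro hum
        apply hd0
        rw [← hu]
        exact hmt u hum t htker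
      obtain ⟨c₀, hc₀⟩ := hgf' u
      have hc₀t : g c₀ * t = g d := by
        have h1 : (u - g c₀) * t = 0 := hmt _ (hkm hc₀) t htker
        rw [sub_mul, sub_eq_zero] at h1
        rw [← h1, hu]
      have hgc₀ : IsUnit (g c₀) := by
        rw [← IsLocalRing.notMem_maximalIdeal]
        intro h1
        apply hu_unit
        have : u = (u - g c₀) + g c₀ := by ring
        rw [this]
        exact Ideal.add_mem _ (hkm hc₀) h1
      haveI := ArtFun.Art.isLocalHom g
      have hc₀u : IsUnit c₀ := isUnit_of_map_unit g.toAlgHom c₀ hgc₀
      obtain ⟨v, hv⟩ := hc₀u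
      have htg : t = g ((↑v⁻¹ : C) * d) := by
        rw [hgmul, ← hc₀t, ← mul_assoc, ← hgmul, ← hv, Units.inv_mul]
        have : g (1 : C) = 1 := map_one g.toAlgHom
        rw [this, one_mul]
      intro b
      obtain ⟨c, hc⟩ := hgf' b
      rw [ht'] at hc
      obtain ⟨r, hr⟩ := Ideal.mem_span_singleton'.mp hc
      obtain ⟨c₁, hc₁⟩ := hgf' r
      have h2 : (r - g c₁) * t = 0 := hmt _ (hkm hc₁) t htker
      rw [sub_mul, sub_eq_zero] at h2
      refine ⟨c + c₁ * ((↑v⁻¹ : C) * d), ?_⟩
      rw [hgadd, hgmul, ← htg, ← h2, hr]
      ring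
    -- the section
    have hex : ∀ a : A, ∃ c : C, f (g c) = a := fun a => hgf a
    choose σ hσ using hex
    have huniq : ∀ (a : A) (c : C), f (g c) = a → g c = g (σ a) := by
      intro a c hc
      have : g (c - σ a) = 0 := by
        apply hcap
        rw [RingHom.mem_ker]
        show f (g (c - σ a)) = 0
        rw [hgsub]
        have : f (g c - g (σ a)) = f (g c) - f (g (σ a)) := map_sub f.toAlgHom _ _
        rw [this, hc, hσ, sub_self]
      rw [hgsub, sub_eq_zero] at this
      exact this
    let s : A →ₐ[Λ] B :=
      { toFun := fun a => g (σ a)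
        map_one' := by
          have : g (1 : C) = g (σ 1) := huniq 1 1 (by
            have h1 : g (1 : C) = 1 := map_one g.toAlgHom
            rw [h1]
            exact map_one f.toAlgHom)
          rw [← this]
          exact map_one g.toAlgHom
        map_mul' := by
          intro a a'
          have : g (σ a * σ a') = g (σ (a * a')) := huniq (a * a') _ (by
            rw [hgmul]
            have : f (g (σ a) * g (σ a')) = f (g (σ a)) * f (g (σ a')) := map_mul f.toAlgHom _ _
            rw [this, hσ, hσ])
          rw [← this, hgmul]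
        map_zero' := by
          have : g (0 : C) = g (σ 0) := huniq 0 0 (by
            have h1 : g (0 : C) = 0 := map_zero g.toAlgHom
            rw [h1]
            exact map_zero f.toAlgHom)
          rw [← this]
          exact map_zero g.toAlgHom
        map_add' := by
          intro a a'
          have : g (σ a + σ a') = g (σ (a + a')) := huniq (a + a') _ (by
            rw [hgadd]
            have : f (g (σ a) + g (σ a')) = f (g (σ a)) + f (g (σ a')) := map_add f.toAlgHom _ _
            rw [this, hσ, hσ])
          rw [← this, hgadd]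
        commutes' := by
          intro l
          have : g (algebraMap Λ C l) = g (σ (algebraMap Λ A l)) := huniq _ _ (by
            have h1 : g (algebraMap Λ C l) = algebraMap Λ B l := AlgHom.commutes g.toAlgHom l
            rw [h1]
            exact AlgHom.commutes f.toAlgHom l)
          show g (σ (algebraMap Λ A l)) = algebraMap Λ B l
          rw [← this]
          exact AlgHom.commutes g.toAlgHom l }
    refine ⟨⟨s, ?_⟩, ?_⟩
    · apply AlgHom.ext
      intro a
      show B.res (g (σ a)) = A.res a
      rw [← ArtFun.Art.res_app f (g (σ a)), hσ]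
    · apply ArtFun.Art.hom_ext
      apply AlgHom.ext
      intro a
      show f (g (σ a)) = a
      exact hσ a
  · rintro ⟨s, hs⟩
    refine ⟨A, s, ?_, ?_⟩
    · rw [hs]
      exact Function.surjective_id
    · intro hsurj'
      apply ht0
      obtain ⟨a, ha⟩ := hsurj' t
      have h1 : f (s a) = a := by
        have := congrArg (fun φ : A ⟶ A => φ a) hs
        exact this
      have h2 : f t = 0 := htker
      rw [← ha, h1] at h2
      rw [← ha, h2]
      exact map_zero s.toAlgHom

end Groth.Agent.S12713
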