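import Groth.Statements.S12717
import Mathlib
import Groth.Agent.Lib.Helper19.ArtFunBasic
-- import your own Groth.Agent.* helpers here

set_option autoImplicit false
universe u v
open CategoryTheory
open ArtFun

namespace Groth.Agent.S12717

/-- For functors, a morphism η : F → G of functors on the category of Artinian local Λ-algebras with
residue field k is smooth (F(B) → F(A) ×_{G(A)} G(B) surjective for every surjection B → A) as soon
as this lifting condition holds for all small extensions B → A. -/
theorem result {Λ : Type u} {k : Type u} [CommRing Λ] [Field k] [Algebra Λ k]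
    [IsNoetherianRing Λ] [Module.Finite Λ k]
    {F G : ArtFun.Art Λ k ⥤ Type v} (η : F ⟶ G)
    (h : ∀ ⦃B A : ArtFun.Art Λ k⦄ (μ : B ⟶ A), ArtFun.Art.IsSmallExt μ →
      Function.Surjective (ArtFun.relCmp η μ)) :
    ArtFun.IsSmooth η := by
  intro B A μ hμ
  refine Groth.Agent.Lib.Helper19.ArtFunBasic.surjective_induction
    (fun A B μ => Function.Surjective (ArtFun.relCmp η μ)) ?_ ?_ ?_ μ hμ
  · -- isomorphisms
    intro A B e he
    haveI := he
    rintro ⟨⟨x, y⟩, hxy⟩
    have hxy' : η.app A x = G.map e y := hxy
    refine ⟨F.map (inv e) x, ?_⟩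
    apply Subtype.ext
    apply Prod.ext
    · show F.map e (F.map (inv e) x) = x
      have : F.map (inv e ≫ e) x = x := by rw [IsIso.inv_hom_id, F.map_id]; rfl
      rw [F.map_comp] at this
      exact this
    · show η.app B (F.map (inv e) x) = y
      have h1 : η.app B (F.map (inv e) x) = G.map (inv e) (η.app A x) :=
        NatTrans.naturality_apply η (inv e) x
      rw [h1, hxy']
      have : G.map (e ≫ inv e) y = y := by rw [IsIso.hom_inv_id, G.map_id]; rfl
      rw [G.map_comp] at this
      exact this
  · intro A B p hp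
    exact h p hp
  · intro A B C p q hp hq
    rintro ⟨⟨x, y⟩, hxy⟩
    have hxy' : η.app A x = G.map (p ≫ q) y := hxy
    have h1 : η.app A x = G.map q (G.map p y) := by
      rw [hxy', G.map_comp]; rfl
    obtain ⟨z', hz'⟩ := hq ⟨(x, G.map p y), h1⟩
    have hz'1 : F.map q z' = x := congrArg (fun t => t.1.1) hz'
    have hz'2 : η.app B z' = G.map p y := congrArg (fun t => t.1.2) hz'
    obtain ⟨z, hz⟩ := hp ⟨(z', y), hz'2⟩
    have hz1 : F.map p z = z' := congrArg (fun t => t.1.1) hz
    have hz2 : η.app C z = y := congrArg (fun t => t.1.2) hz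
    refine ⟨z, ?_⟩
    apply Subtype.ext
    apply Prod.ext
    · show F.map (p ≫ q) z = x
      rw [F.map_comp]
      show F.map q (F.map p z) = x
      rw [hz1, hz'1]
    · exact hz2

end Groth.Agent.S12717
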