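import Groth.Statements.S12722
import Mathlib
import Groth.Agent.Lib.Helper7.PowSerVersal

set_option autoImplicit false
universe u v
open CategoryTheory
open ArtFun

namespace Groth.Agent.S12722

open ArtFun ArtFun.Art in
/-- the base ring as a coefficient ring -/
noncomputable abbrev baseCRing {Λ : Type u} {k : Type u} [CommRing Λ] [Field k] [Algebra Λ k]
    [IsNoetherianRing Λ] [IsLocalRing Λ] [IsAdicComplete (IsLocalRing.maximalIdeal Λ) Λ]
    (hk : Function.Surjective (algebraMap Λ k)) : ArtFun.CRing Λ k :=
  { carrier := Λ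
    res := Algebra.ofId Λ k
    res_surjective := hk
    isAdicComplete := inferInstance }

theorem algHom_apply {Λ B : Type*} [CommRing Λ] [CommRing B] [Algebra Λ B] (ψ : Λ →ₐ[Λ] B) (l : Λ) :
    ψ l = algebraMap Λ B l := by
  have := ψ.commutes l
  simpa using this

/-- (1) ⇔ (5): let Λ be a complete local Noetherian ring with residue field k. For a complete local
Noetherian Λ-algebra R with residue field k, the functor h_R on Artinian local Λ-algebras with
residue field k is smooth if and only if R is isomorphic over Λ to a power series ring Λ[[x₁, …,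
xₙ]] for some n. -/
theorem result {Λ : Type u} {k : Type u} [CommRing Λ] [Field k] [Algebra Λ k]
    [IsNoetherianRing Λ] [Module.Finite Λ k]
    [IsLocalRing Λ] [IsAdicComplete (IsLocalRing.maximalIdeal Λ) Λ]
    (hk : Function.Surjective (algebraMap Λ k)) (R : ArtFun.CRing Λ k) :
    ArtFun.IsSmoothFunctor (ArtFun.hR R.carrier R.res) ↔
      ∃ n : ℕ, Nonempty (R.carrier ≃ₐ[Λ] MvPowerSeries (Fin n) Λ) := by
  have hRS : R.res.comp (IsScalarTower.toAlgHom Λ (baseCRing hk).carrier R.carrier) =
      (baseCRing hk).res := by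
    apply AlgHom.ext
    intro l
    exact R.res.commutes l
  constructor
  · intro hs
    apply Groth.Agent.Lib.Helper7.PowSerVersal.exists_equiv_of_isVersal (baseCRing hk) R hRS
    intro B A μ hμ φ y hy
    obtain ⟨ψ, hψ⟩ := hs μ hμ φ
    refine ⟨ψ, hψ, ?_⟩
    apply Subtype.ext
    apply AlgHom.ext
    intro l
    exact (algHom_apply _ l).trans (algHom_apply (Subtype.val y) l).symm
  · rintro ⟨n, ⟨e⟩⟩
    have hv := Groth.Agent.Lib.Helper7.PowSerVersal.isVersal_of_equiv (baseCRing hk) R hRS n e
    intro B A μ hμ φ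
    have hy : B.res.comp (Algebra.ofId Λ B) = (baseCRing hk).res := by
      apply AlgHom.ext
      intro l
      exact B.res.commutes l
    obtain ⟨ψ, hψ, -⟩ := hv μ hμ φ ⟨Algebra.ofId Λ B, hy⟩ (by
      apply Subtype.ext
      apply AlgHom.ext
      intro l
      exact (algHom_apply _ l).trans (algHom_apply _ l).symm)
    exact ⟨ψ, hψ⟩

end Groth.Agent.S12722
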