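import Groth.Statements.S12723
import Groth.Agent.Lib.Helper19.ArtFunSmooth

set_option autoImplicit false
universe u v
open CategoryTheory
open ArtFun

namespace Groth.Agent.S12723

open Groth.Agent.Lib.Helper19.ArtFunBasic Groth.Agent.Lib.Helper19.ArtFunSmooth

/-- With a versal family `h_R → F` and `F(k)` a point, `F` is smooth iff `h_R` is. -/
theorem isSmoothFunctor_iff_hR {Λ : Type u} {k : Type u} [CommRing Λ] [Field k] [Algebra Λ k]
    {F : ArtFun.Art Λ k ⥤ Type v} (h0 : ArtFun.H0 F)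
    (R : ArtFun.CRing Λ k) (ξ : ArtFun.Family R.carrier R.res F) (hξ : ArtFun.IsVersal ξ) :
    ArtFun.IsSmoothFunctor F ↔ ArtFun.IsSmoothFunctor (ArtFun.hR R.carrier R.res) := by
  constructor
  · intro hF B A μ hμ φ
    obtain ⟨y, hy⟩ := hF μ hμ (ξ.app A φ)
    obtain ⟨ψ, hψ, -⟩ := hξ μ hμ φ y hy
    exact ⟨ψ, hψ⟩
  · intro hR B A μ hμ x
    obtain ⟨φ, hφ⟩ := surjective_app_of_isVersal h0 ξ hξ A x
    obtain ⟨ψ, hψ⟩ := hR μ hμ φ
    refine ⟨ξ.app B ψ, ?_⟩
    have h1 : ArtFun.HomSet.map μ ψ = φ := hψ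
    rw [← ξ.natural, h1, hφ]

/-- (1) ⇔ (2): for functors, let F be a functor on Artinian local Λ-algebras with residue field k with
F(k) a point, and let ξ be a versal family of F over a complete local Noetherian R with residue
field k. Then F is smooth (unobstructed) if and only if Λ → R is formally smooth for the m_R-adic
topology. -/
theorem result {Λ : Type u} {k : Type u} [CommRing Λ] [Field k] [Algebra Λ k]
    [IsNoetherianRing Λ] [Module.Finite Λ k]
    {F : ArtFun.Art Λ k ⥤ Type v} (h0 : ArtFun.H0 F)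
    (R : ArtFun.CRing Λ k) (ξ : ArtFun.Family R.carrier R.res F) (hξ : ArtFun.IsVersal ξ) :
    ArtFun.IsSmoothFunctor F ↔
      CAlgX.IsAdicFormallySmooth Λ R.carrier (IsLocalRing.maximalIdeal R.carrier) := by
  rw [isSmoothFunctor_iff_hR h0 R ξ hξ]
  exact ⟨isAdicFormallySmooth_of_isSmoothFunctor_hR R,
    isSmoothFunctor_hR_of_isAdicFormallySmooth R⟩

end Groth.Agent.S12723
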