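import Groth.Statements.S12730
import Groth.Agent.Lib.Helper19.ArtFunSchlessinger
import Groth.Agent.S12728

set_option autoImplicit false
universe u v
open CategoryTheory
open ArtFun

namespace Groth.Agent.S12730

/-- For functors, a functor on Artinian local Λ-algebras with residue field k with F(k) a point,
satisfying (S1) and (S2) and with finite-dimensional tangent space has a versal family over some
complete local Noetherian Λ-algebra with residue field k. -/
theorem result {Λ : Type u} {k : Type u} [CommRing Λ] [Field k] [Algebra Λ k]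
    [IsNoetherianRing Λ] [Module.Finite Λ k]
    (F : ArtFun.Art Λ k ⥤ Type v) [ArtFun.TangentStr F]
    (h0 : ArtFun.H0 F) (h1 : ArtFun.S1 F) (h2 : ArtFun.Heps F) (h3 : ArtFun.Hfin F) :
    ArtFun.HasVersal F := by
  obtain ⟨n, x, hx⟩ :=
    Groth.Agent.Lib.Helper19.ArtFunSchlessinger.exists_tangent_generator h0 h2 h3
  obtain ⟨P, g, hg, hP⟩ := Groth.Agent.Lib.Helper19.ArtFunComplete.exists_smooth_cring_onto
    (Groth.Agent.Lib.Helper19.ArtFunTangent.tsz Λ k (Fin n → k))
  obtain ⟨R, qR, hqres, ξ, hqs, hqk, happ, hlift⟩ :=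
    Groth.Agent.Lib.Helper19.ArtFunSchlessinger.exists_versal_lifting h1 P hP _ g hg x
  refine ⟨⟨R, ξ, ?_⟩⟩
  rw [Groth.Agent.S12728.result h0 h1 h2 R ξ]
  refine ⟨?_, hlift⟩
  intro τ
  obtain ⟨l, hl⟩ := hx τ
  obtain ⟨gb, hgb⟩ :=
    Groth.Agent.Lib.Helper19.ArtFunComplete.exists_factor_cring qR hqres hqs g hqk
  let u : Groth.Agent.Lib.Helper19.ArtFunTangent.tsz Λ k (Fin n → k) ⟶ ArtFun.Art.dual Λ k :=
    Groth.Agent.Lib.Helper19.ArtFunTangent.tszHom l
  refine ⟨ArtFun.HomSet.map u gb, ?_⟩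
  change ξ.app (ArtFun.Art.dual Λ k) (ArtFun.HomSet.map u gb) = τ
  rw [happ (ArtFun.Art.dual Λ k) _ u (fun p => by
    rw [Groth.Agent.Lib.Helper19.ArtFunComplete.homSet_map_apply, hgb])]
  exact hl

end Groth.Agent.S12730
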