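import Groth.Statements.S12732
import Mathlib
import Groth.Agent.Lib.Helper7.ArtHull
import Groth.Agent.S12730

set_option autoImplicit false
universe u v
open CategoryTheory
open ArtFun

namespace Groth.Agent.S12732

/-- (3) ⇒ (1): suppose k admits no nonzero Λ-derivation into itself (that is, k is separable over the
image of Λ in k; this holds in the classical case). A functor F on Artinian local Λ-algebras with
residue field k with F(k) a point which satisfies (S1), (S2) and has finite-dimensional tangent
space admits a hull: a versal family over a complete local Noetherian ring with residue field k that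
is bijective on tangent spaces. -/
theorem result {Λ : Type u} {k : Type u} [CommRing Λ] [Field k] [Algebra Λ k]
    [IsNoetherianRing Λ] [Module.Finite Λ k]
    (hk : Subsingleton (Derivation Λ k k))
    (F : ArtFun.Art Λ k ⥤ Type v) [ArtFun.TangentStr F]
    (h0 : ArtFun.H0 F) (h1 : ArtFun.S1 F) (h2 : ArtFun.Heps F) (h3 : ArtFun.Hfin F) :
    ArtFun.HasHull F := by
  obtain ⟨V⟩ := Groth.Agent.S12730.result F h0 h1 h2 h3
  exact Groth.Agent.Lib.Helper7.ArtHull.hasHull_of_versal h0 h2
    (fun x₀ => Groth.Agent.Lib.Helper7.ArtHull.hinj_of_hk hk x₀) V

end Groth.Agent.S12732
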