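import Groth.Statements.S12733
import Mathlib
import Groth.Agent.Lib.Helper19.ArtFunHR
import Groth.Agent.Lib.Helper19.ArtFunDouble

set_option autoImplicit false
universe u v
open CategoryTheory
open ArtFun

namespace Groth.Agent.S12733

/-- Let F, G be deformation functors on Artinian local Λ-algebras with residue field k (value at k a
point, and condition (RS): the comparison map for A₁ ×_A A₂ is bijective whenever A₂ → A is
surjective). A smooth morphism φ : F → G inducing a bijection on tangent spaces is an isomorphism: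
every φ_A is bijective. -/
theorem result {Λ : Type u} {k : Type u} [CommRing Λ] [Field k] [Algebra Λ k]
    [IsNoetherianRing Λ] [Module.Finite Λ k]
    {F G : ArtFun.Art Λ k ⥤ Type v}
    (hF0 : ArtFun.H0 F) (hF : (∀ ⦃B A A' A'' : ArtFun.Art Λ k⦄ (p' : B ⟶ A') (p'' : B ⟶ A'') (f' : A' ⟶ A) (f'' : A'' ⟶ A)
        (h : ArtFun.Art.IsFibreProd p' p'' f' f''), Function.Surjective f'' → Function.Bijective (ArtFun.cmp F h)))
    (hG0 : ArtFun.H0 G) (hG : (∀ ⦃B A A' A'' : ArtFun.Art Λ k⦄ (p' : B ⟶ A') (p'' : B ⟶ A'') (f' : A' ⟶ A) (f'' : A'' ⟶ A)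
        (h : ArtFun.Art.IsFibreProd p' p'' f' f''), Function.Surjective f'' → Function.Bijective (ArtFun.cmp G h)))
    (φ : F ⟶ G) (hφ : ArtFun.IsSmooth φ) (hd : Function.Bijective (ArtFun.TangentSpace.map φ))
    (A : ArtFun.Art Λ k) : Function.Bijective (φ.app A) := by
  have map_map : ∀ (H : ArtFun.Art Λ k ⥤ Type v) {X Y Z : ArtFun.Art Λ k} (f : X ⟶ Y) (g : Y ⟶ Z)
      (w : H.obj X), H.map g (H.map f w) = H.map (f ≫ g) w := by
    intro H X Y Z f g w
    rw [H.map_comp]; rfl
  have hsurj : ∀ A : ArtFun.Art Λ k, Function.Surjective (φ.app A) := by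
    intro A g
    haveI := hG0.2
    obtain ⟨x₀⟩ := hF0.1
    obtain ⟨y, hy⟩ := hφ (ArtFun.Art.toBase A) A.res_surjective
      ⟨(x₀, g), Subsingleton.elim _ _⟩
    exact ⟨y, congrArg (fun t => t.1.2) hy⟩
  have key : ∀ ⦃A B : ArtFun.Art Λ k⦄ (μ : B ⟶ A), Function.Surjective μ →
      Function.Injective (φ.app A) → Function.Injective (φ.app B) := by
    intro A B μ hμ
    refine Groth.Agent.Lib.Helper19.ArtFunBasic.surjective_induction
      (fun A B μ => Function.Injective (φ.app A) → Function.Injective (φ.app B)) ?_ ?_ ?_ μ hμ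
    · intro A B e he hA y₁ y₂ hy
      haveI := he
      have h1 : F.map e y₁ = F.map e y₂ := by
        apply hA
        rw [NatTrans.naturality_apply φ e y₁, NatTrans.naturality_apply φ e y₂, hy]
      have h2 := congrArg (F.map (inv e)) h1
      rw [map_map, map_map, IsIso.hom_inv_id, F.map_id] at h2
      exact h2
    · intro A B μ hμ hA y₁ y₂ hy
      obtain ⟨Gd, π₁, π₂, δ, hGd, hδ⟩ :=
        Groth.Agent.Lib.Helper19.ArtFunDouble.exists_double μ hμ
      have h1 : F.map μ y₁ = F.map μ y₂ := by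
        apply hA
        rw [NatTrans.naturality_apply φ μ y₁, NatTrans.naturality_apply φ μ y₂, hy]
      obtain ⟨z, hz⟩ := (hF π₁ π₂ μ μ hGd hμ.1).2 ⟨(y₁, y₂), h1⟩
      have hz1 : F.map π₁ z = y₁ := congrArg (fun t => t.1.1) hz
      have hz2 : F.map π₂ z = y₂ := congrArg (fun t => t.1.2) hz
      -- the diagonal
      obtain ⟨Δ₀, hΔ1, hΔ2⟩ := Groth.Agent.Lib.Helper19.ArtFunBasic.exists_lift_of_isFibreProd hGd
        (AlgHom.id Λ B) (AlgHom.id Λ B) rfl
      have hΔres : Gd.res.comp Δ₀ = B.res := by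
        rw [← π₁.res_comp, AlgHom.comp_assoc, hΔ1, AlgHom.comp_id]
      let Δ : B ⟶ Gd := ArtFun.Art.homMk Δ₀ hΔres
      have hΔ1' : Δ ≫ π₁ = 𝟙 B := ArtFun.Art.hom_ext hΔ1
      have hΔ2' : Δ ≫ π₂ = 𝟙 B := ArtFun.Art.hom_ext hΔ2
      let z₀ := F.map Δ y₁
      have hz₀1 : F.map π₁ z₀ = y₁ := by
        change F.map π₁ (F.map Δ y₁) = y₁
        rw [map_map, hΔ1', F.map_id]; rfl
      have hz₀2 : F.map π₂ z₀ = y₁ := by
        change F.map π₂ (F.map Δ y₁) = y₁
        rw [map_map, hΔ2', F.map_id]; rfl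
      have hφz : φ.app Gd z = φ.app Gd z₀ := by
        apply (hG π₁ π₂ μ μ hGd hμ.1).1
        apply ArtFun.FibProd.ext
        · change G.map π₁ (φ.app Gd z) = G.map π₁ (φ.app Gd z₀)
          rw [← NatTrans.naturality_apply φ π₁ z, ← NatTrans.naturality_apply φ π₁ z₀, hz1, hz₀1]
        · change G.map π₂ (φ.app Gd z) = G.map π₂ (φ.app Gd z₀)
          rw [← NatTrans.naturality_apply φ π₂ z, ← NatTrans.naturality_apply φ π₂ z₀, hz2, hz₀2,
            hy]
      have hθ : F.map δ z = F.map δ z₀ := by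
        apply hd.1
        change φ.app _ (F.map δ z) = φ.app _ (F.map δ z₀)
        rw [NatTrans.naturality_apply φ δ z, NatTrans.naturality_apply φ δ z₀, hφz]
      have hzz : z = z₀ := by
        apply (hF π₁ δ _ _ hδ (ArtFun.Art.dual Λ k).res_surjective).1
        apply ArtFun.FibProd.ext
        · exact hz1.trans hz₀1.symm
        · exact hθ
      rw [← hz2, hzz, hz₀2]
    · intro A B C p q hp hq hA
      exact hp (hq hA)
  refine ⟨key (ArtFun.Art.toBase A) A.res_surjective ?_, hsurj A⟩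
  intro x y _
  exact hF0.2.elim x y

end Groth.Agent.S12733
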