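import Groth.Statements.S12734
import Mathlib
import Groth.Agent.Lib.Helper7.ArtHull
import Groth.Agent.Lib.Helper19.ArtFunHull
import Groth.Agent.S12730
import Groth.Agent.S12715

set_option autoImplicit false
universe u v
open CategoryTheory
open ArtFun

namespace Groth.Agent.S12734

attribute [local instance] Groth.Agent.Lib.Helper19.ArtFunHR.algK
  Groth.Agent.Lib.Helper19.ArtFunHR.isScalarTower_algK

/-- A functor F on Artinian local Λ-algebras with residue field k is prorepresentable if and only if (a)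
F(k) is a point and F satisfies (RS): F(A₁ ×_A A₂) → F(A₁) ×_{F(A)} F(A₂) is bijective whenever A₂ →
A is surjective; (b) its tangent space is finite-dimensional; and (c) the map from morphisms k →
k[ε] of the category (the Λ-derivations of k) to the tangent space, σ ↦ F(σ)(x₀), is injective.
Condition (c) is empty when k is separable over the image of Λ in k. -/
theorem result {Λ : Type u} {k : Type u} [CommRing Λ] [Field k] [Algebra Λ k]
    [IsNoetherianRing Λ] [Module.Finite Λ k]
    (F : ArtFun.Art Λ k ⥤ Type v) [ArtFun.TangentStr F] :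
    ArtFun.IsProrepresentable F ↔
      ((ArtFun.H0 F ∧ (∀ ⦃B A A' A'' : ArtFun.Art Λ k⦄ (p' : B ⟶ A') (p'' : B ⟶ A'') (f' : A' ⟶ A) (f'' : A'' ⟶ A)
        (h : ArtFun.Art.IsFibreProd p' p'' f' f''), Function.Surjective f'' → Function.Bijective (ArtFun.cmp F h))) ∧
        ArtFun.Hfin F ∧
        ∀ x₀ : F.obj (ArtFun.Art.base Λ k),
          Function.Injective (fun σ : ArtFun.Art.base Λ k ⟶ ArtFun.Art.dual Λ k => F.map σ x₀)) := by
  classical
  constructor
  · rintro ⟨⟨R, ξ, hu⟩⟩
    have hsub : ∀ a b : F.obj (ArtFun.Art.base Λ k), a = b := by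
      intro a b
      obtain ⟨φa, rfl⟩ := (hu _).2 a
      obtain ⟨φb, rfl⟩ := (hu _).2 b
      rw [Groth.Agent.Lib.Helper7.ArtHull.homSet_base_ext φa φb]
    refine ⟨⟨⟨⟨ξ.app _ ⟨R.res, AlgHom.id_comp _⟩⟩, ⟨hsub⟩⟩, ?_⟩, ?_, ?_⟩
    · intro B A A' A'' p' p'' f' f'' h _
      exact Groth.Agent.Lib.Helper19.ArtFunHull.isLeftExact_of_isUniversal ξ hu p' p'' f' f'' h
    · haveI := R.isAdicComplete
      haveI : Module.Finite k (Derivation Λ R.carrier k) :=
        Groth.Agent.S12715.result R.carrier R.res_surjective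
      exact Module.Finite.of_surjective (Groth.Agent.Lib.Helper19.ArtFunHR.tangentLin R ξ)
        (Groth.Agent.Lib.Helper19.ArtFunHR.tangentLin_surjective R ξ (hu _).2)
    · intro x₀ σ τ hστ
      obtain ⟨ρ, rfl⟩ := (hu _).2 x₀
      have h1 : ArtFun.HomSet.map σ ρ = ArtFun.HomSet.map τ ρ := by
        apply (hu _).1
        rw [ξ.natural, ξ.natural]
        exact hστ
      have hρ : Function.Surjective ρ.1 := by
        have e1 : ρ.1 = R.res := (AlgHom.id_comp ρ.1).symm.trans ρ.2
        rw [e1]; exact R.res_surjective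
      exact Groth.Agent.Lib.Helper19.ArtFunComplete.hom_eq_of_map_eq ρ hρ σ τ h1
  · rintro ⟨⟨h0, hRS⟩, h3, hc⟩
    have h1 : ArtFun.S1 F := fun B A A' A'' p' p'' f' f'' h hf => (hRS p' p'' f' f'' h hf).2
    have h2 : ArtFun.Heps F := fun B A' p' p'' h =>
      hRS p' p'' _ _ h (ArtFun.Art.dual Λ k).res_surjective
    have h4 : ArtFun.HSq F := fun B A A' p₁ p₂ f h hf => hRS p₁ p₂ f f h hf.1
    obtain ⟨V⟩ := Groth.Agent.S12730.result F h0 h1 h2 h3
    obtain ⟨⟨R, ξ, hm⟩⟩ := Groth.Agent.Lib.Helper7.ArtHull.hasHull_of_versal h0 h2 hc V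
    exact ⟨⟨R, ξ, Groth.Agent.Lib.Helper19.ArtFunHull.isUniversal_of_isMiniversal h0 h4 ξ hm⟩⟩

end Groth.Agent.S12734
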