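import Groth.Statements.S12735
import Mathlib
import Groth.Agent.Lib.Helper19.ArtFunHR
import Groth.Agent.S12716
import Groth.Agent.S12720

set_option autoImplicit false
universe u v
open CategoryTheory
open ArtFun

namespace Groth.Agent.S12735

open Groth.Agent.Lib.Helper19.ArtFunHR Groth.Agent.Lib.Helper19.ArtFunBasic

/-- An endomorphism of `h_R` is composition with an endomorphism of `R`. -/
theorem exists_ringEnd {Λ : Type u} {k : Type u} [CommRing Λ] [Field k] [Algebra Λ k]
    (R : ArtFun.CRing Λ k)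
    (ψ : ∀ A : ArtFun.Art Λ k, ArtFun.HomSet R.carrier R.res A → ArtFun.HomSet R.carrier R.res A)
    (hψ : ∀ {A B : ArtFun.Art Λ k} (m : A ⟶ B) (u : ArtFun.HomSet R.carrier R.res A),
      ψ B (ArtFun.HomSet.map m u) = ArtFun.HomSet.map m (ψ A u)) :
    ∃ f : R.carrier →ₐ[Λ] R.carrier, R.res.comp f = R.res ∧
      ∀ (A : ArtFun.Art Λ k) (u : ArtFun.HomSet R.carrier R.res A) (r : R.carrier),
        (ψ A u).1 r = u.1 (f r) := by
  let γ : ∀ n : ℕ, R.carrier →ₐ[Λ] (R.trunc n) := fun n => (ψ _ (R.truncHom n)).1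
  have hγ : ∀ n, (R.truncMap n).toAlgHom.comp (γ (n + 1)) = γ n := by
    intro n
    have h1 := hψ (R.truncMap n) (R.truncHom (n + 1))
    rw [ArtFun.CRing.truncMap_truncHom] at h1
    exact (congrArg Subtype.val h1).symm
  let f := Groth.Agent.S12720.limMap R γ hγ
  have hf : ∀ n r, (R.truncHom n).1 (f r) = γ n r := Groth.Agent.S12720.limMap_spec R γ hγ
  have hres : R.res.comp f = R.res := by
    apply AlgHom.ext
    intro r
    have h1 : (R.trunc 0).res ((R.truncHom 0).1 (f r)) = R.res (f r) :=
      AlgHom.congr_fun (R.truncHom 0).2 (f r)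
    have h2 : (R.trunc 0).res (γ 0 r) = R.res r :=
      AlgHom.congr_fun (ψ _ (R.truncHom 0)).2 r
    change R.res (f r) = R.res r
    rw [← h1, hf, h2]
  refine ⟨f, hres, ?_⟩
  intro A u r
  obtain ⟨n, hn⟩ := exists_maximalIdeal_pow_eq_bot A
  have hn' : IsLocalRing.maximalIdeal A ^ (n + 1) = ⊥ := by
    rw [pow_succ, hn, Ideal.bot_mul]
  obtain ⟨u', hu'⟩ := exists_factor_trunc R u n hn'
  have h1 : ψ A u = ArtFun.HomSet.map u' (ψ _ (R.truncHom n)) := by
    rw [← hψ, hu']
  have h2 : (ψ A u).1 r = u' (γ n r) := by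
    rw [h1]; rfl
  have h3 : u.1 (f r) = u' ((R.truncHom n).1 (f r)) := by
    have := AlgHom.congr_fun (congrArg Subtype.val hu') (f r)
    exact this.symm
  rw [h2, h3, hf]

/-- Let U be a prorepresentable functor on Artinian local Λ-algebras with residue field k and φ : U → U
an endomorphism of functors which is bijective on the tangent space U(k[ε]). Then φ is an
isomorphism: every component is bijective. -/
theorem result {Λ : Type u} {k : Type u} [CommRing Λ] [Field k] [Algebra Λ k]
    [IsNoetherianRing Λ] [Module.Finite Λ k]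
    {U : ArtFun.Art Λ k ⥤ Type v} (hU : ArtFun.IsProrepresentable U)
    (φ : U ⟶ U) (hd : Function.Bijective (ArtFun.TangentSpace.map φ)) (A : ArtFun.Art Λ k) :
    Function.Bijective (φ.app A) := by
  obtain ⟨⟨R, ξ, huniv⟩⟩ := hU
  classical
  have hex : ∀ (A : ArtFun.Art Λ k) (u : ArtFun.HomSet R.carrier R.res A),
      ∃ w : ArtFun.HomSet R.carrier R.res A, ξ.app A w = φ.app A (ξ.app A u) :=
    fun A u => (huniv A).2 _
  let ψ : ∀ A : ArtFun.Art Λ k, ArtFun.HomSet R.carrier R.res A → ArtFun.HomSet R.carrier R.res A :=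
    fun A u => (hex A u).choose
  have hψspec : ∀ A u, ξ.app A (ψ A u) = φ.app A (ξ.app A u) := fun A u => (hex A u).choose_spec
  have hψnat : ∀ {A B : ArtFun.Art Λ k} (m : A ⟶ B) (u : ArtFun.HomSet R.carrier R.res A),
      ψ B (ArtFun.HomSet.map m u) = ArtFun.HomSet.map m (ψ A u) := by
    intro A B m u
    apply (huniv B).1
    rw [hψspec, ξ.natural, ξ.natural, hψspec, NatTrans.naturality_apply φ m]
  obtain ⟨f, hfres, hf⟩ := exists_ringEnd R ψ hψnat
  -- `f` is surjective
  have hfs : Function.Surjective f := by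
    letI := algK R
    haveI := isScalarTower_algK R
    haveI := R.isAdicComplete
    have hf' : (IsScalarTower.toAlgHom Λ R.carrier k).comp f = R.res := by
      have : IsScalarTower.toAlgHom Λ R.carrier k = R.res := AlgHom.ext fun _ => rfl
      rw [this, hfres]
    apply Groth.Agent.S12716.result R R.carrier R.res_surjective f hf'
    intro D₁ D₂ hD
    have h1 : ψ _ (derHom R D₁) = ψ _ (derHom R D₂) := by
      apply Subtype.ext
      apply AlgHom.ext
      intro r
      rw [hf, hf, derHom_apply, derHom_apply, hD]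
    have h2 : derHom R D₁ = derHom R D₂ := by
      apply (huniv _).1
      apply hd.1
      change φ.app _ (ξ.app _ (derHom R D₁)) = φ.app _ (ξ.app _ (derHom R D₂))
      rw [← hψspec, ← hψspec, h1]
    calc D₁ = derOf R (derHom R D₁) := (derOf_derHom R D₁).symm
      _ = derOf R (derHom R D₂) := by rw [h2]
      _ = D₂ := derOf_derHom R D₂
  have hfi : Function.Injective f :=
    injective_of_surjective_ringEnd (f : R.carrier →+* R.carrier) hfs
  let e : R.carrier ≃ₐ[Λ] R.carrier := AlgEquiv.ofBijective f ⟨hfi, hfs⟩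
  have he : ∀ r, e r = f r := fun r => rfl
  have hψbij : Function.Bijective (ψ A) := by
    constructor
    · intro u u' huu
      apply Subtype.ext
      apply AlgHom.ext
      intro r
      obtain ⟨r', rfl⟩ := hfs r
      rw [← hf, ← hf, huu]
    · intro w
      have hres : A.res.comp (w.1.comp (e.symm : R.carrier →ₐ[Λ] R.carrier)) = R.res := by
        apply AlgHom.ext
        intro r
        obtain ⟨r', rfl⟩ := hfs r
        change A.res (w.1 (e.symm (e r'))) = R.res (f r')
        rw [e.symm_apply_apply]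
        have h1 : A.res (w.1 r') = R.res r' := AlgHom.congr_fun w.2 r'
        have h2 : R.res (f r') = R.res r' := AlgHom.congr_fun hfres r'
        rw [h1, h2]
      refine ⟨⟨w.1.comp (e.symm : R.carrier →ₐ[Λ] R.carrier), hres⟩, ?_⟩
      apply Subtype.ext
      apply AlgHom.ext
      intro r
      rw [hf]
      change w.1 (e.symm (e r)) = w.1 r
      rw [e.symm_apply_apply]
  constructor
  · intro x x' hxx
    obtain ⟨u, rfl⟩ := (huniv A).2 x
    obtain ⟨u', rfl⟩ := (huniv A).2 x'
    rw [← hψspec, ← hψspec] at hxx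
    rw [hψbij.1 ((huniv A).1 hxx)]
  · intro y
    obtain ⟨w, rfl⟩ := (huniv A).2 y
    obtain ⟨u, rfl⟩ := hψbij.2 w
    exact ⟨ξ.app A u, (hψspec A u).symm⟩

end Groth.Agent.S12735
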