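import Groth.Statements.S12736
import Mathlib
import Groth.Agent.Lib.Helper19.ArtFunTangent

set_option autoImplicit false
universe u v
open CategoryTheory
open ArtFun

namespace Groth.Agent.S12736

/-- For functors, let φ : F → G be a morphism of functors on Artinian local Λ-algebras with residue
field k whose values at k are points and which satisfy (S2), with the natural vector space
structures on their tangent spaces. Then the differential dφ : F(k[ε]) → G(k[ε]) is k-linear. -/
theorem result {Λ : Type u} {k : Type u} [CommRing Λ] [Field k] [Algebra Λ k]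
    [IsNoetherianRing Λ] [Module.Finite Λ k]
    {F G : ArtFun.Art Λ k ⥤ Type v} [ArtFun.TangentStr F] [ArtFun.TangentStr G]
    (hF0 : ArtFun.H0 F) (hF2 : ArtFun.Heps F) (hG0 : ArtFun.H0 G) (hG2 : ArtFun.Heps G) (φ : F ⟶ G) :
    ∃ f : ArtFun.TangentSpace F →ₗ[k] ArtFun.TangentSpace G, ⇑f = ArtFun.TangentSpace.map φ := by
  refine ⟨{ toFun := ArtFun.TangentSpace.map φ, map_add' := ?_, map_smul' := ?_ }, rfl⟩
  · intro x y
    obtain ⟨z, hz1, hz2⟩ : ∃ z : F.obj (ArtFun.Art.dual2 Λ k),
        F.map ArtFun.Art.pr₁ z = x ∧ F.map ArtFun.Art.pr₂ z = y :=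
      Groth.Agent.Lib.Helper19.ArtFunTangent.surj_pair (M := k) hF0 hF2 x y
    have hFa := ArtFun.TangentStr.add_eq (F := F) z
    have hGa := ArtFun.TangentStr.add_eq (F := G) (φ.app _ z)
    have e1 : φ.app _ (F.map ArtFun.Art.pr₁ z) = G.map ArtFun.Art.pr₁ (φ.app _ z) :=
      NatTrans.naturality_apply φ ArtFun.Art.pr₁ z
    have e2 : φ.app _ (F.map ArtFun.Art.pr₂ z) = G.map ArtFun.Art.pr₂ (φ.app _ z) :=
      NatTrans.naturality_apply φ ArtFun.Art.pr₂ z
    have e3 : φ.app _ (F.map ArtFun.Art.plus z) = G.map ArtFun.Art.plus (φ.app _ z) :=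
      NatTrans.naturality_apply φ ArtFun.Art.plus z
    rw [← e1, ← e2, ← e3, ← hFa, hz1, hz2] at hGa
    exact hGa.symm
  · intro c x
    have hFs := ArtFun.TangentStr.smul_eq (F := F) c x
    have hGs := ArtFun.TangentStr.smul_eq (F := G) c (φ.app _ x)
    have e1 : φ.app _ (F.map (ArtFun.Art.scale c) x) = G.map (ArtFun.Art.scale c) (φ.app _ x) :=
      NatTrans.naturality_apply φ (ArtFun.Art.scale c) x
    rw [← e1, ← hFs] at hGs
    exact hGs.symm

end Groth.Agent.S12736
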