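import Groth.Statements.S12738
import Mathlib
import Groth.Agent.Lib.Helper19.ArtFunLength

set_option autoImplicit false
universe u v
open CategoryTheory
open ArtFun

namespace Groth.Agent.S12738

open Groth.Agent.Lib.Helper19.ArtFunBasic Groth.Agent.Lib.Helper19.ArtFunLength
open ArtFun.Art

/-- the property propagated along factorizations of a surjection -/
def P {Λ : Type u} {k : Type u} [CommRing Λ] [Field k] [Algebra Λ k]
    (F : ArtFun.Art Λ k ⥤ Type v) ⦃A A'' : ArtFun.Art Λ k⦄ (f'' : A'' ⟶ A) : Prop :=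
  Function.Surjective f'' ∧
    ∀ ⦃B A' : ArtFun.Art Λ k⦄ (p' : B ⟶ A') (p'' : B ⟶ A'') (f' : A' ⟶ A)
      (h : IsFibreProd p' p'' f' f''), Function.Bijective (cmp F h)

theorem map_map {Λ : Type u} {k : Type u} [CommRing Λ] [Field k] [Algebra Λ k]
    {F : ArtFun.Art Λ k ⥤ Type v} {X Y Z : ArtFun.Art Λ k} (f : X ⟶ Y) (g : Y ⟶ Z) (w : F.obj X) :
    F.map g (F.map f w) = F.map (f ≫ g) w := by
  rw [F.map_comp]; rfl

theorem P_iso {Λ : Type u} {k : Type u} [CommRing Λ] [Field k] [Algebra Λ k]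
    (F : ArtFun.Art Λ k ⥤ Type v) ⦃A A'' : ArtFun.Art Λ k⦄ (e : A'' ⟶ A) (he : IsIso e) :
    P F e := by
  have hbij : Function.Bijective e := bijective_of_isIso e
  refine ⟨hbij.2, ?_⟩
  intro B A' p' p'' f' h
  have hp' : Function.Bijective p' := by
    constructor
    · intro b₁ b₂ hb
      apply h.inj b₁ b₂ hb
      apply hbij.1
      rw [← h.w_apply, ← h.w_apply]
      exact congrArg _ hb
    · intro a'
      obtain ⟨a'', ha''⟩ := hbij.2 (f' a')
      obtain ⟨b, hb, -⟩ := h.surj a' a'' ha''.symm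
      exact ⟨b, hb⟩
  haveI : IsIso p' := isIso_of_bijective p' hp'
  have hinjp : Function.Injective (F.map p') := by
    have : IsIso (F.map p') := inferInstance
    exact ((isIso_iff_bijective (F.map p')).mp this).1
  have hinj : Function.Injective (F.map e) := by
    have : IsIso (F.map e) := inferInstance
    exact ((isIso_iff_bijective (F.map e)).mp this).1
  constructor
  · intro z₁ z₂ hz
    exact hinjp (congrArg (fun t => t.1.1) hz)
  · intro x
    refine ⟨F.map (inv p') x.1.1, ?_⟩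
    have h1 : F.map p' (F.map (inv p') x.1.1) = x.1.1 := by
      rw [map_map, IsIso.inv_hom_id, F.map_id]
      rfl
    apply FibProd.ext
    · exact h1
    · change F.map p'' (F.map (inv p') x.1.1) = x.1.2
      apply hinj
      have h2 : F.map e (F.map p'' (F.map (inv p') x.1.1)) =
          F.map f' (F.map p' (F.map (inv p') x.1.1)) := by
        rw [map_map, map_map (f := p'), h.w]
      rw [h2, h1]
      exact x.2

theorem P_comp {Λ : Type u} {k : Type u} [CommRing Λ] [Field k] [Algebra Λ k]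
    [IsNoetherianRing Λ] [Module.Finite Λ k]
    (F : ArtFun.Art Λ k ⥤ Type v) ⦃A B₀ C : ArtFun.Art Λ k⦄ (p : C ⟶ B₀) (q : B₀ ⟶ A)
    (hp : P F p) (hq : P F q) : P F (p ≫ q) := by
  refine ⟨hq.1.comp hp.1, ?_⟩
  intro B A' p' p'' f' h
  obtain ⟨B₁, r', r'', t, hB₁, hsq, htr⟩ := exists_decomp p q hq.1 p' p'' f' h
  have hq' := hq.2 r' r'' f' hB₁
  have hp' := hp.2 t p'' r'' hsq
  constructor
  · intro z₁ z₂ hz
    have hz1 : F.map p' z₁ = F.map p' z₂ := congrArg (fun t => t.1.1) hz
    have hz2 : F.map p'' z₁ = F.map p'' z₂ := congrArg (fun t => t.1.2) hz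
    apply hp'.1
    apply FibProd.ext
    · change F.map t z₁ = F.map t z₂
      apply hq'.1
      apply FibProd.ext
      · change F.map r' (F.map t z₁) = F.map r' (F.map t z₂)
        rw [map_map, map_map, htr, hz1]
      · change F.map r'' (F.map t z₁) = F.map r'' (F.map t z₂)
        rw [map_map, map_map, hsq.w, ← map_map, ← map_map, hz2]
    · exact hz2
  · intro x
    have hx : F.map f' x.1.1 = F.map q (F.map p x.1.2) := by
      have h1 : F.map f' x.1.1 = F.map (p ≫ q) x.1.2 := x.2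
      rw [map_map]
      exact h1
    obtain ⟨y, hy⟩ := hq'.2 ⟨(x.1.1, F.map p x.1.2), hx⟩
    have hy1 : F.map r' y = x.1.1 := congrArg (fun w => w.1.1) hy
    have hy2 : F.map r'' y = F.map p x.1.2 := congrArg (fun w => w.1.2) hy
    obtain ⟨z, hz⟩ := hp'.2 ⟨(y, x.1.2), hy2⟩
    have hz1 : F.map t z = y := congrArg (fun w => w.1.1) hz
    have hz2 : F.map p'' z = x.1.2 := congrArg (fun w => w.1.2) hz
    refine ⟨z, ?_⟩
    apply FibProd.ext
    · change F.map p' z = x.1.1
      rw [← htr, ← map_map, hz1, hy1]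
    · exact hz2

/-- For functors, condition (RS) on a functor F on Artinian local Λ-algebras with residue field k
(bijectivity of F(A₁ ×_A A₂) → F(A₁) ×_{F(A)} F(A₂) for A₂ → A surjective) follows from the same
condition for small extensions A₂ → A. -/
theorem result {Λ : Type u} {k : Type u} [CommRing Λ] [Field k] [Algebra Λ k]
    [IsNoetherianRing Λ] [Module.Finite Λ k]
    (F : ArtFun.Art Λ k ⥤ Type v)
    (h : ∀ ⦃B A A' A'' : ArtFun.Art Λ k⦄ (p' : B ⟶ A') (p'' : B ⟶ A'') (f' : A' ⟶ A) (f'' : A'' ⟶ A)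
        (h : ArtFun.Art.IsFibreProd p' p'' f' f''), ArtFun.Art.IsSmallExt f'' → Function.Bijective (ArtFun.cmp F h)) :
    (∀ ⦃B A A' A'' : ArtFun.Art Λ k⦄ (p' : B ⟶ A') (p'' : B ⟶ A'') (f' : A' ⟶ A) (f'' : A'' ⟶ A)
        (h : ArtFun.Art.IsFibreProd p' p'' f' f''), Function.Surjective f'' → Function.Bijective (ArtFun.cmp F h)) := by
  intro B A A' A'' p' p'' f' f'' hsq hsurj
  have key : P F f'' := by
    refine surjective_induction (P F) (P_iso F) ?_ (P_comp F) f'' hsurj
    intro A B p hp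
    exact ⟨hp.1, fun B' A' p' p'' f' hsq' => h p' p'' f' p hsq' hp⟩
  exact key.2 p' p'' f' hsq

end Groth.Agent.S12738
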