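import Groth.Statements.S12742
import Mathlib
import Groth.Agent.Lib.Helper19.ArtFunDouble
import Groth.Agent.S12717

set_option autoImplicit false
universe u v
open CategoryTheory
open ArtFun

namespace Groth.Agent.S12742

/-- For functors, a morphism f : F → G of deformation functors on Artinian local Λ-algebras with residue
field k (values at k a point, condition (RS) for both) is smooth if and only if (1) it is surjective
on tangent spaces and (2) for every small extension A' → A and every x ∈ F(A) whose image in G(A)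
lifts to G(A'), x lifts to F(A'). -/
theorem result {Λ : Type u} {k : Type u} [CommRing Λ] [Field k] [Algebra Λ k]
    [IsNoetherianRing Λ] [Module.Finite Λ k]
    {F G : ArtFun.Art Λ k ⥤ Type v}
    (hF0 : ArtFun.H0 F) (hF : (∀ ⦃B A A' A'' : ArtFun.Art Λ k⦄ (p' : B ⟶ A') (p'' : B ⟶ A'') (f' : A' ⟶ A) (f'' : A'' ⟶ A)
        (h : ArtFun.Art.IsFibreProd p' p'' f' f''), Function.Surjective f'' → Function.Bijective (ArtFun.cmp F h)))
    (hG0 : ArtFun.H0 G) (hG : (∀ ⦃B A A' A'' : ArtFun.Art Λ k⦄ (p' : B ⟶ A') (p'' : B ⟶ A'') (f' : A' ⟶ A) (f'' : A'' ⟶ A)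
        (h : ArtFun.Art.IsFibreProd p' p'' f' f''), Function.Surjective f'' → Function.Bijective (ArtFun.cmp G h)))
    (f : F ⟶ G) :
    ArtFun.IsSmooth f ↔
      (Function.Surjective (ArtFun.TangentSpace.map f) ∧
        ∀ ⦃A' A : ArtFun.Art Λ k⦄ (μ : A' ⟶ A), ArtFun.Art.IsSmallExt μ → ∀ x : F.obj A,
          (∃ y' : G.obj A', G.map μ y' = f.app A x) → ∃ x' : F.obj A', F.map μ x' = x) := by
  have map_map : ∀ (H : ArtFun.Art Λ k ⥤ Type v) {X Y Z : ArtFun.Art Λ k} (f : X ⟶ Y) (g : Y ⟶ Z)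
      (w : H.obj X), H.map g (H.map f w) = H.map (f ≫ g) w := by
    intro H X Y Z f g w
    rw [H.map_comp]; rfl
  constructor
  · intro hs
    refine ⟨?_, ?_⟩
    · intro θ
      haveI := hG0.2
      obtain ⟨x₀⟩ := hF0.1
      obtain ⟨y, hy⟩ := hs (ArtFun.Art.toBase (ArtFun.Art.dual Λ k))
        (ArtFun.Art.dual Λ k).res_surjective ⟨(x₀, θ), Subsingleton.elim _ _⟩
      exact ⟨y, congrArg (fun t => t.1.2) hy⟩
    · intro A' A μ hμ x hy'
      obtain ⟨y', hy'⟩ := hy'
      obtain ⟨x', hx'⟩ := hs μ hμ.1 ⟨(x, y'), hy'.symm⟩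
      exact ⟨x', congrArg (fun t => t.1.1) hx'⟩
  · rintro ⟨htan, hlift⟩
    apply Groth.Agent.S12717.result
    intro B A μ hμ
    rintro ⟨⟨x, y⟩, hxy⟩
    have hxy' : f.app A x = G.map μ y := hxy
    obtain ⟨x₀', hx₀'⟩ := hlift μ hμ x ⟨y, hxy'.symm⟩
    obtain ⟨Gd, π₁, π₂, δ, hGd, hδ⟩ := Groth.Agent.Lib.Helper19.ArtFunDouble.exists_double μ hμ
    have hg₀ : G.map μ (f.app B x₀') = G.map μ y := by
      rw [← NatTrans.naturality_apply f μ x₀', hx₀', hxy']
    obtain ⟨z, hz⟩ := (hG π₁ π₂ μ μ hGd hμ.1).2 ⟨(f.app B x₀', y), hg₀⟩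
    have hz1 : G.map π₁ z = f.app B x₀' := congrArg (fun t => t.1.1) hz
    have hz2 : G.map π₂ z = y := congrArg (fun t => t.1.2) hz
    obtain ⟨τ, hτ⟩ := htan (G.map δ z)
    have hτ' : f.app (ArtFun.Art.dual Λ k) τ = G.map δ z := hτ
    have hsurjD : Function.Surjective (ArtFun.Art.toBase (ArtFun.Art.dual Λ k)) :=
      (ArtFun.Art.dual Λ k).res_surjective
    haveI := hF0.2
    obtain ⟨w, hw⟩ := (hF π₁ δ _ _ hδ hsurjD).2 ⟨(x₀', τ), Subsingleton.elim _ _⟩
    have hw1 : F.map π₁ w = x₀' := congrArg (fun t => t.1.1) hw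
    have hw2 : F.map δ w = τ := congrArg (fun t => t.1.2) hw
    have hfw : f.app Gd w = z := by
      apply (hG π₁ δ _ _ hδ hsurjD).1
      apply ArtFun.FibProd.ext
      · change G.map π₁ (f.app Gd w) = G.map π₁ z
        rw [← NatTrans.naturality_apply f π₁ w, hw1, hz1]
      · change G.map δ (f.app Gd w) = G.map δ z
        rw [← NatTrans.naturality_apply f δ w, hw2, hτ']
    refine ⟨F.map π₂ w, ?_⟩
    apply Subtype.ext
    apply Prod.ext
    · change F.map μ (F.map π₂ w) = x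
      rw [map_map, ← hGd.w, ← map_map, hw1, hx₀']
    · change f.app B (F.map π₂ w) = y
      rw [NatTrans.naturality_apply f π₂ w, hfw, hz2]

end Groth.Agent.S12742
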