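import Groth.Statements.S12744
import Mathlib

set_option autoImplicit false
universe u v
open CategoryTheory
open ArtFun

namespace Groth.Agent.S12744

/-- For functors, if η : F → G is a smooth morphism of functors on Artinian local Λ-algebras with
residue field k and F(k) → G(k) is surjective, then for every complete local Noetherian R with
residue field k the induced map on formal elements over R (compatible systems of elements over the
truncations R/m^(n+1)) is surjective. -/
theorem result {Λ : Type u} {k : Type u} [CommRing Λ] [Field k] [Algebra Λ k]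
    [IsNoetherianRing Λ] [Module.Finite Λ k]
    {F G : ArtFun.Art Λ k ⥤ Type v} (η : F ⟶ G) (hη : ArtFun.IsSmooth η)
    (h0 : Function.Surjective (η.app (ArtFun.Art.base Λ k))) (R : ArtFun.CRing Λ k) :
    Function.Surjective (fun u : ArtFun.FormalElt F R => u.map η) := by
  classical
  intro v
  -- the start
  have h00 : ∃ x : F.obj (R.trunc 0), η.app _ x = v.elt 0 := by
    obtain ⟨x₀, hx₀⟩ := h0 (G.map (ArtFun.Art.toBase (R.trunc 0)) (v.elt 0))
    obtain ⟨y, hy⟩ := hη (ArtFun.Art.toBase (R.trunc 0)) (R.trunc 0).res_surjective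
      ⟨(x₀, v.elt 0), hx₀⟩
    exact ⟨y, congrArg (fun t => t.1.2) hy⟩
  have hstep : ∀ (n : ℕ) (x : {x : F.obj (R.trunc n) // η.app _ x = v.elt n}),
      ∃ y : F.obj (R.trunc (n + 1)), η.app _ y = v.elt (n + 1) ∧
        F.map (R.truncMap n) y = x.1 := by
    intro n x
    have hsurj : Function.Surjective (R.truncMap n) := by
      intro a
      obtain ⟨r, rfl⟩ := Ideal.Quotient.mk_surjective a
      exact ⟨Ideal.Quotient.mk _ r, rfl⟩
    have hc : η.app _ x.1 = G.map (R.truncMap n) (v.elt (n + 1)) := by
      rw [x.2, v.compat]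
    obtain ⟨y, hy⟩ := hη (R.truncMap n) hsurj ⟨(x.1, v.elt (n + 1)), hc⟩
    exact ⟨y, congrArg (fun t => t.1.2) hy, congrArg (fun t => t.1.1) hy⟩
  let seq : (n : ℕ) → {x : F.obj (R.trunc n) // η.app _ x = v.elt n} := fun n =>
    Nat.rec (motive := fun n => {x : F.obj (R.trunc n) // η.app _ x = v.elt n})
      ⟨h00.choose, h00.choose_spec⟩
      (fun n x => ⟨(hstep n x).choose, (hstep n x).choose_spec.1⟩) n
  have hseq : ∀ n, F.map (R.truncMap n) (seq (n + 1)).1 = (seq n).1 := by
    intro n
    exact (hstep n (seq n)).choose_spec.2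
  refine ⟨⟨fun n => (seq n).1, hseq⟩, ?_⟩
  apply ArtFun.FormalElt.ext'
  intro n
  exact (seq n).2

end Groth.Agent.S12744
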