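import Groth.Statements.S12745
import Mathlib
import Groth.Agent.Lib.Helper19.ArtFunBasic

set_option autoImplicit false
universe u v
open CategoryTheory
open ArtFun

namespace Groth.Agent.S12745

/-- For functors, let F satisfy (S2), let B = A ×_k k[ε] (with projections p', p'') in the category of
Artinian local Λ-algebras with residue field k, and let y ∈ F(B) have images x ∈ F(A) and x_ε ∈
F(k[ε]). Then x maps to y along some section A → B of p' if and only if x maps to x_ε along some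
morphism A → k[ε]. -/
theorem result {Λ : Type u} {k : Type u} [CommRing Λ] [Field k] [Algebra Λ k]
    [IsNoetherianRing Λ] [Module.Finite Λ k]
    {F : ArtFun.Art Λ k ⥤ Type v} (h2 : ArtFun.Heps F)
    {B A : ArtFun.Art Λ k} (p' : B ⟶ A) (p'' : B ⟶ ArtFun.Art.dual Λ k)
    (h : ArtFun.Art.IsFibreProd p' p'' (ArtFun.Art.toBase A) (ArtFun.Art.toBase (ArtFun.Art.dual Λ k)))
    (y : F.obj B) :
    (∃ σ : A ⟶ B, σ ≫ p' = 𝟙 A ∧ F.map σ (F.map p' y) = y) ↔
      ∃ τ : A ⟶ ArtFun.Art.dual Λ k, F.map τ (F.map p' y) = F.map p'' y := by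
  have map_map : ∀ {X Y Z : ArtFun.Art Λ k} (f : X ⟶ Y) (g : Y ⟶ Z) (w : F.obj X),
      F.map g (F.map f w) = F.map (f ≫ g) w := by
    intro X Y Z f g w
    rw [F.map_comp]; rfl
  constructor
  · rintro ⟨σ, hσ1, hσ2⟩
    refine ⟨σ ≫ p'', ?_⟩
    rw [← map_map, hσ2]
  · rintro ⟨τ, hτ⟩
    have hφ : (ArtFun.Art.toBase A).toAlgHom.comp (AlgHom.id Λ A) =
        (ArtFun.Art.toBase (ArtFun.Art.dual Λ k)).toAlgHom.comp τ.toAlgHom := by
      have h1 : 𝟙 A ≫ ArtFun.Art.toBase A = τ ≫ ArtFun.Art.toBase (ArtFun.Art.dual Λ k) := by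
        rw [ArtFun.Art.eq_toBase (𝟙 A ≫ ArtFun.Art.toBase A),
          ArtFun.Art.eq_toBase (τ ≫ ArtFun.Art.toBase _)]
      exact congrArg ArtFun.Art.Hom.toAlgHom h1
    obtain ⟨σ₀, hσ1, hσ2⟩ := Groth.Agent.Lib.Helper19.ArtFunBasic.exists_lift_of_isFibreProd h
      (AlgHom.id Λ A) τ.toAlgHom hφ
    have hσres : B.res.comp σ₀ = A.res := by
      rw [← p'.res_comp, AlgHom.comp_assoc, hσ1, AlgHom.comp_id]
    let σ : A ⟶ B := ArtFun.Art.homMk σ₀ hσres
    have hσ1' : σ ≫ p' = 𝟙 A := ArtFun.Art.hom_ext hσ1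
    have hσ2' : σ ≫ p'' = τ := ArtFun.Art.hom_ext hσ2
    refine ⟨σ, hσ1', ?_⟩
    apply (h2 p' p'' h).1
    apply ArtFun.FibProd.ext
    · change F.map p' (F.map σ (F.map p' y)) = F.map p' y
      rw [map_map σ p', hσ1', F.map_id]
      rfl
    · change F.map p'' (F.map σ (F.map p' y)) = F.map p'' y
      rw [map_map σ p'', hσ2', hτ]

end Groth.Agent.S12745
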