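import Groth.Statements.S12746
import Mathlib
import Groth.Agent.Lib.Helper19.ArtFunPullback

set_option autoImplicit false
universe u v
open CategoryTheory
open ArtFun

namespace Groth.Agent.S12746

open Groth.Agent.Lib.Helper19.ArtFunPullback CategoryTheory.Limits

/-- For functors, if F, G, H are functors on Artinian local Λ-algebras with residue field k satisfying
(RS) and f : H → F, g : G → F are morphisms, then the fibre product functor H ×_F G satisfies (RS). -/
theorem result {Λ : Type u} {k : Type u} [CommRing Λ] [Field k] [Algebra Λ k]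
    [IsNoetherianRing Λ] [Module.Finite Λ k]
    {F G H : ArtFun.Art Λ k ⥤ Type v} (f : H ⟶ F) (g : G ⟶ F)
    (hF : (∀ ⦃B A A' A'' : ArtFun.Art Λ k⦄ (p' : B ⟶ A') (p'' : B ⟶ A'') (f' : A' ⟶ A) (f'' : A'' ⟶ A)
        (h : ArtFun.Art.IsFibreProd p' p'' f' f''), Function.Surjective f'' → Function.Bijective (ArtFun.cmp F h))) (hG : (∀ ⦃B A A' A'' : ArtFun.Art Λ k⦄ (p' : B ⟶ A') (p'' : B ⟶ A'') (f' : A' ⟶ A) (f'' : A'' ⟶ A)
        (h : ArtFun.Art.IsFibreProd p' p'' f' f''), Function.Surjective f'' → Function.Bijective (ArtFun.cmp G h))) (hH : (∀ ⦃B A A' A'' : ArtFun.Art Λ k⦄ (p' : B ⟶ A') (p'' : B ⟶ A'') (f' : A' ⟶ A) (f'' : A'' ⟶ A)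
        (h : ArtFun.Art.IsFibreProd p' p'' f' f''), Function.Surjective f'' → Function.Bijective (ArtFun.cmp H h))) :
    (∀ ⦃B A A' A'' : ArtFun.Art Λ k⦄ (p' : B ⟶ A') (p'' : B ⟶ A'') (f' : A' ⟶ A) (f'' : A'' ⟶ A)
        (h : ArtFun.Art.IsFibreProd p' p'' f' f''), Function.Surjective f'' → Function.Bijective (ArtFun.cmp (CategoryTheory.Limits.pullback f g) h)) := by
  intro B A A' A'' p' p'' f' f'' h hsurj
  have hHb := hH p' p'' f' f'' h hsurj
  have hGb := hG p' p'' f' f'' h hsurj
  have hFb := hF p' p'' f' f'' h hsurj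
  constructor
  · intro z₁ z₂ hz
    have hz1 : (pullback f g).map p' z₁ = (pullback f g).map p' z₂ := congrArg (fun t => t.1.1) hz
    have hz2 : (pullback f g).map p'' z₁ = (pullback f g).map p'' z₂ :=
      congrArg (fun t => t.1.2) hz
    apply pb_ext f g B
    · apply hHb.1
      apply ArtFun.FibProd.ext
      · change H.map p' ((pullback.fst f g).app B z₁) = H.map p' ((pullback.fst f g).app B z₂)
        rw [← NatTrans.naturality_apply (pullback.fst f g) p' z₁,
          ← NatTrans.naturality_apply (pullback.fst f g) p' z₂, hz1]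
      · change H.map p'' ((pullback.fst f g).app B z₁) = H.map p'' ((pullback.fst f g).app B z₂)
        rw [← NatTrans.naturality_apply (pullback.fst f g) p'' z₁,
          ← NatTrans.naturality_apply (pullback.fst f g) p'' z₂, hz2]
    · apply hGb.1
      apply ArtFun.FibProd.ext
      · change G.map p' ((pullback.snd f g).app B z₁) = G.map p' ((pullback.snd f g).app B z₂)
        rw [← NatTrans.naturality_apply (pullback.snd f g) p' z₁,
          ← NatTrans.naturality_apply (pullback.snd f g) p' z₂, hz1]
      · change G.map p'' ((pullback.snd f g).app B z₁) = G.map p'' ((pullback.snd f g).app B z₂)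
        rw [← NatTrans.naturality_apply (pullback.snd f g) p'' z₁,
          ← NatTrans.naturality_apply (pullback.snd f g) p'' z₂, hz2]
  · intro x
    have hx : (pullback f g).map f' x.1.1 = (pullback f g).map f'' x.1.2 := x.2
    have hH' : H.map f' ((pullback.fst f g).app A' x.1.1) =
        H.map f'' ((pullback.fst f g).app A'' x.1.2) := by
      rw [← NatTrans.naturality_apply (pullback.fst f g) f',
        ← NatTrans.naturality_apply (pullback.fst f g) f'', hx]
    have hG' : G.map f' ((pullback.snd f g).app A' x.1.1) =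
        G.map f'' ((pullback.snd f g).app A'' x.1.2) := by
      rw [← NatTrans.naturality_apply (pullback.snd f g) f',
        ← NatTrans.naturality_apply (pullback.snd f g) f'', hx]
    obtain ⟨hB, hhB⟩ := hHb.2 ⟨(_, _), hH'⟩
    obtain ⟨gB, hgB⟩ := hGb.2 ⟨(_, _), hG'⟩
    have hhB1 : H.map p' hB = (pullback.fst f g).app A' x.1.1 := congrArg (fun t => t.1.1) hhB
    have hhB2 : H.map p'' hB = (pullback.fst f g).app A'' x.1.2 := congrArg (fun t => t.1.2) hhB
    have hgB1 : G.map p' gB = (pullback.snd f g).app A' x.1.1 := congrArg (fun t => t.1.1) hgB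
    have hgB2 : G.map p'' gB = (pullback.snd f g).app A'' x.1.2 := congrArg (fun t => t.1.2) hgB
    have hc : f.app B hB = g.app B gB := by
      apply hFb.1
      apply ArtFun.FibProd.ext
      · change F.map p' (f.app B hB) = F.map p' (g.app B gB)
        rw [← NatTrans.naturality_apply f p' hB, ← NatTrans.naturality_apply g p' gB, hhB1, hgB1]
        exact pb_condition f g A' x.1.1
      · change F.map p'' (f.app B hB) = F.map p'' (g.app B gB)
        rw [← NatTrans.naturality_apply f p'' hB, ← NatTrans.naturality_apply g p'' gB, hhB2, hgB2]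
        exact pb_condition f g A'' x.1.2
    obtain ⟨z, hz1, hz2⟩ := pb_exists f g B hB gB hc
    refine ⟨z, ?_⟩
    apply ArtFun.FibProd.ext
    · change (pullback f g).map p' z = x.1.1
      apply pb_ext f g A'
      · rw [NatTrans.naturality_apply (pullback.fst f g) p' z, hz1, hhB1]
      · rw [NatTrans.naturality_apply (pullback.snd f g) p' z, hz2, hgB1]
    · change (pullback f g).map p'' z = x.1.2
      apply pb_ext f g A''
      · rw [NatTrans.naturality_apply (pullback.fst f g) p'' z, hz1, hhB2]
      · rw [NatTrans.naturality_apply (pullback.snd f g) p'' z, hz2, hgB2]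

end Groth.Agent.S12746
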