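import Groth.Statements.S12747
import Mathlib
import Groth.Agent.Lib.Helper19.ArtFunPullback
import Groth.Agent.Lib.Helper19.ArtFunDouble
import Groth.Agent.S12717

set_option autoImplicit false
universe u v
open CategoryTheory
open ArtFun

namespace Groth.Agent.S12747

open Groth.Agent.Lib.Helper19.ArtFunPullback CategoryTheory.Limits

/-- two lifts along a small extension with the same image under a tangent-injective morphism of
deformation functors agree -/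
theorem lift_unique {Λ : Type u} {k : Type u} [CommRing Λ] [Field k] [Algebra Λ k]
    [IsNoetherianRing Λ] [Module.Finite Λ k]
    {F G : ArtFun.Art Λ k ⥤ Type v} (q : G ⟶ F)
    (hF : (∀ ⦃B A A' A'' : ArtFun.Art Λ k⦄ (p' : B ⟶ A') (p'' : B ⟶ A'') (f' : A' ⟶ A) (f'' : A'' ⟶ A)
        (h : ArtFun.Art.IsFibreProd p' p'' f' f''), Function.Surjective f'' → Function.Bijective (ArtFun.cmp F h)))
    (hG : (∀ ⦃B A A' A'' : ArtFun.Art Λ k⦄ (p' : B ⟶ A') (p'' : B ⟶ A'') (f' : A' ⟶ A) (f'' : A'' ⟶ A)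
        (h : ArtFun.Art.IsFibreProd p' p'' f' f''), Function.Surjective f'' → Function.Bijective (ArtFun.cmp G h)))
    (hq : Function.Injective (ArtFun.TangentSpace.map q))
    {B A : ArtFun.Art Λ k} (μ : B ⟶ A) (hμ : ArtFun.Art.IsSmallExt μ) (y₁ y₂ : G.obj B)
    (h1 : G.map μ y₁ = G.map μ y₂) (hy : q.app B y₁ = q.app B y₂) : y₁ = y₂ := by
  have map_map : ∀ (H : ArtFun.Art Λ k ⥤ Type v) {X Y Z : ArtFun.Art Λ k} (f : X ⟶ Y) (g : Y ⟶ Z)
      (w : H.obj X), H.map g (H.map f w) = H.map (f ≫ g) w := by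
    intro H X Y Z f g w
    rw [H.map_comp]; rfl
  obtain ⟨Gd, π₁, π₂, δ, hGd, hδ⟩ :=
    Groth.Agent.Lib.Helper19.ArtFunDouble.exists_double μ hμ
  obtain ⟨z, hz⟩ := (hG π₁ π₂ μ μ hGd hμ.1).2 ⟨(y₁, y₂), h1⟩
  have hz1 : G.map π₁ z = y₁ := congrArg (fun t => t.1.1) hz
  have hz2 : G.map π₂ z = y₂ := congrArg (fun t => t.1.2) hz
  obtain ⟨Δ₀, hΔ1, hΔ2⟩ := Groth.Agent.Lib.Helper19.ArtFunBasic.exists_lift_of_isFibreProd hGd
    (AlgHom.id Λ B) (AlgHom.id Λ B) rfl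
  have hΔres : Gd.res.comp Δ₀ = B.res := by
    rw [← π₁.res_comp, AlgHom.comp_assoc, hΔ1, AlgHom.comp_id]
  let Δ : B ⟶ Gd := ArtFun.Art.homMk Δ₀ hΔres
  have hΔ1' : Δ ≫ π₁ = 𝟙 B := ArtFun.Art.hom_ext hΔ1
  have hΔ2' : Δ ≫ π₂ = 𝟙 B := ArtFun.Art.hom_ext hΔ2
  let z₀ := G.map Δ y₁
  have hz₀1 : G.map π₁ z₀ = y₁ := by
    change G.map π₁ (G.map Δ y₁) = y₁
    rw [map_map, hΔ1', G.map_id]; rfl
  have hz₀2 : G.map π₂ z₀ = y₁ := by
    change G.map π₂ (G.map Δ y₁) = y₁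
    rw [map_map, hΔ2', G.map_id]; rfl
  have hφz : q.app Gd z = q.app Gd z₀ := by
    apply (hF π₁ π₂ μ μ hGd hμ.1).1
    apply ArtFun.FibProd.ext
    · change F.map π₁ (q.app Gd z) = F.map π₁ (q.app Gd z₀)
      rw [← NatTrans.naturality_apply q π₁ z, ← NatTrans.naturality_apply q π₁ z₀, hz1, hz₀1]
    · change F.map π₂ (q.app Gd z) = F.map π₂ (q.app Gd z₀)
      rw [← NatTrans.naturality_apply q π₂ z, ← NatTrans.naturality_apply q π₂ z₀, hz2, hz₀2,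
        hy]
  have hθ : G.map δ z = G.map δ z₀ := by
    apply hq
    change q.app _ (G.map δ z) = q.app _ (G.map δ z₀)
    rw [NatTrans.naturality_apply q δ z, NatTrans.naturality_apply q δ z₀, hφz]
  have hzz : z = z₀ := by
    apply (hG π₁ δ _ _ hδ (ArtFun.Art.dual Λ k).res_surjective).1
    apply ArtFun.FibProd.ext
    · exact hz1.trans hz₀1.symm
    · exact hθ
  rw [← hz2, hzz, hz₀2]

/-- For functors, let H₁ → G, H₂ → G and q : G → F be morphisms of functors on Artinian local Λ-algebras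
with residue field k where F and G are deformation functors (value at k a point, condition (RS)) and
q is injective on tangent spaces. Then the induced morphism H₁ ×_G H₂ → H₁ ×_F H₂ is smooth. (The
published statement also assumes that infinitesimal automorphisms of G map onto those of F; for
functors that condition is empty.) -/
theorem result {Λ : Type u} {k : Type u} [CommRing Λ] [Field k] [Algebra Λ k]
    [IsNoetherianRing Λ] [Module.Finite Λ k]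
    {F G H₁ H₂ : ArtFun.Art Λ k ⥤ Type v} (p₁ : H₁ ⟶ G) (p₂ : H₂ ⟶ G) (q : G ⟶ F)
    (hF0 : ArtFun.H0 F) (hF : (∀ ⦃B A A' A'' : ArtFun.Art Λ k⦄ (p' : B ⟶ A') (p'' : B ⟶ A'') (f' : A' ⟶ A) (f'' : A'' ⟶ A)
        (h : ArtFun.Art.IsFibreProd p' p'' f' f''), Function.Surjective f'' → Function.Bijective (ArtFun.cmp F h)))
    (hG0 : ArtFun.H0 G) (hG : (∀ ⦃B A A' A'' : ArtFun.Art Λ k⦄ (p' : B ⟶ A') (p'' : B ⟶ A'') (f' : A' ⟶ A) (f'' : A'' ⟶ A)
        (h : ArtFun.Art.IsFibreProd p' p'' f' f''), Function.Surjective f'' → Function.Bijective (ArtFun.cmp G h)))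
    (hq : Function.Injective (ArtFun.TangentSpace.map q)) :
    ArtFun.IsSmooth (CategoryTheory.Limits.pullback.map p₁ p₂ (p₁ ≫ q) (p₂ ≫ q) (𝟙 H₁) (𝟙 H₂) q
      (CategoryTheory.Category.id_comp _).symm (CategoryTheory.Category.id_comp _).symm) := by
  apply Groth.Agent.S12717.result
  intro B A μ hμ
  rintro ⟨⟨x, y⟩, hxy⟩
  set Φ := pullback.map p₁ p₂ (p₁ ≫ q) (p₂ ≫ q) (𝟙 H₁) (𝟙 H₂) q
      (CategoryTheory.Category.id_comp _).symm (CategoryTheory.Category.id_comp _).symm with hΦ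
  have hxy' : Φ.app A x = (pullback (p₁ ≫ q) (p₂ ≫ q)).map μ y := hxy
  have hΦ1 : Φ ≫ pullback.fst (p₁ ≫ q) (p₂ ≫ q) = pullback.fst p₁ p₂ := by
    rw [hΦ, pullback.lift_fst, Category.comp_id]
  have hΦ2 : Φ ≫ pullback.snd (p₁ ≫ q) (p₂ ≫ q) = pullback.snd p₁ p₂ := by
    rw [hΦ, pullback.lift_snd, Category.comp_id]
  have hΦ1' : ∀ (X : ArtFun.Art Λ k) (z : (pullback p₁ p₂).obj X),
      (pullback.fst (p₁ ≫ q) (p₂ ≫ q)).app X (Φ.app X z) = (pullback.fst p₁ p₂).app X z := by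
    intro X z
    have := congrArg (fun t => (t.app X) z) hΦ1
    exact this
  have hΦ2' : ∀ (X : ArtFun.Art Λ k) (z : (pullback p₁ p₂).obj X),
      (pullback.snd (p₁ ≫ q) (p₂ ≫ q)).app X (Φ.app X z) = (pullback.snd p₁ p₂).app X z := by
    intro X z
    have := congrArg (fun t => (t.app X) z) hΦ2
    exact this
  let y₁ := (pullback.fst (p₁ ≫ q) (p₂ ≫ q)).app B y
  let y₂ := (pullback.snd (p₁ ≫ q) (p₂ ≫ q)).app B y
  let x₁ := (pullback.fst p₁ p₂).app A x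
  let x₂ := (pullback.snd p₁ p₂).app A x
  have hx₁ : H₁.map μ y₁ = x₁ := by
    change H₁.map μ ((pullback.fst (p₁ ≫ q) (p₂ ≫ q)).app B y) = _
    rw [← NatTrans.naturality_apply (pullback.fst (p₁ ≫ q) (p₂ ≫ q)) μ y, ← hxy', hΦ1']
  have hx₂ : H₂.map μ y₂ = x₂ := by
    change H₂.map μ ((pullback.snd (p₁ ≫ q) (p₂ ≫ q)).app B y) = _
    rw [← NatTrans.naturality_apply (pullback.snd (p₁ ≫ q) (p₂ ≫ q)) μ y, ← hxy', hΦ2']
  have hcx : p₁.app A x₁ = p₂.app A x₂ := pb_condition p₁ p₂ A x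
  have hcy : q.app B (p₁.app B y₁) = q.app B (p₂.app B y₂) := pb_condition (p₁ ≫ q) (p₂ ≫ q) B y
  have hG1 : G.map μ (p₁.app B y₁) = G.map μ (p₂.app B y₂) := by
    rw [← NatTrans.naturality_apply p₁ μ y₁, ← NatTrans.naturality_apply p₂ μ y₂, hx₁, hx₂, hcx]
  have hgg : p₁.app B y₁ = p₂.app B y₂ := lift_unique q hF hG hq μ hμ _ _ hG1 hcy
  obtain ⟨z, hz1, hz2⟩ := pb_exists p₁ p₂ B y₁ y₂ hgg
  refine ⟨z, ?_⟩
  apply Subtype.ext
  apply Prod.ext
  · change (pullback p₁ p₂).map μ z = x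
    apply pb_ext p₁ p₂ A
    · rw [NatTrans.naturality_apply (pullback.fst p₁ p₂) μ z, hz1, hx₁]
    · rw [NatTrans.naturality_apply (pullback.snd p₁ p₂) μ z, hz2, hx₂]
  · change Φ.app B z = y
    apply pb_ext (p₁ ≫ q) (p₂ ≫ q) B
    · rw [hΦ1', hz1]
    · rw [hΦ2', hz2]

end Groth.Agent.S12747
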