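import Groth.Statements.S12748
import Mathlib
import Groth.Agent.Lib.Helper7.PowSerCRing
import Groth.Agent.S12714

set_option autoImplicit false
universe u v
open CategoryTheory
open ArtFun ArtFun.CRing

namespace Groth.Agent.S12748

/-- Let R' → R be a morphism of complete local Noetherian Λ-algebras with residue field k with an
R'-algebra retraction ρ : R → R', so that R = R' ⊕ I for the ideal I = ker ρ; let x₁, …, x_r ∈ I map
to a basis of I/m_R I and let φ : R'[[X₁, …, X_r]] → R be an R'-algebra map sending X_i to x_i. If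
for all large n the induced map R'[[X]]/m^n → R/m_R^n has a left inverse — a Λ-algebra map g_n : R →
R'[[X]]/m^n with g_n ∘ φ equal to the quotient map — then φ is an isomorphism. -/
theorem result {Λ : Type u} {k : Type u} [CommRing Λ] [Field k] [Algebra Λ k]
    [IsNoetherianRing Λ] [Module.Finite Λ k]
    (R' R : ArtFun.CRing Λ k) [Algebra R'.carrier R.carrier] [IsScalarTower Λ R'.carrier R.carrier]
    (hc : R.res.comp (IsScalarTower.toAlgHom Λ R'.carrier R.carrier) = R'.res)
    (ρ : R.carrier →ₐ[R'.carrier] R'.carrier)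
    (r : ℕ) (x : Fin r → R.carrier) (hxI : ∀ i, ρ (x i) = 0)
    (hspan : Ideal.span (Set.range x) ⊔ IsLocalRing.maximalIdeal R.carrier * RingHom.ker ρ = RingHom.ker ρ)
    (hli : ∀ c : Fin r → R.carrier, (∑ i, c i * x i) ∈ IsLocalRing.maximalIdeal R.carrier * RingHom.ker ρ →
      ∀ i, c i ∈ IsLocalRing.maximalIdeal R.carrier)
    (φ : MvPowerSeries (Fin r) R'.carrier →ₐ[R'.carrier] R.carrier) (hφ : ∀ i, φ (MvPowerSeries.X i) = x i)
    (hinv : ∃ N : ℕ, ∀ n, N ≤ n →
      ∃ g : R.carrier →ₐ[Λ] (MvPowerSeries (Fin r) R'.carrier ⧸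
          IsLocalRing.maximalIdeal (MvPowerSeries (Fin r) R'.carrier) ^ n),
        ∀ s, g (φ s) = Ideal.Quotient.mk _ s) :
    Function.Bijective φ := by
  classical
  obtain ⟨N, hN⟩ := hinv
  have hker_le : RingHom.ker ρ ≤ IsLocalRing.maximalIdeal R.carrier := by
    intro a ha
    rw [IsLocalRing.mem_maximalIdeal, mem_nonunits_iff]
    intro hu
    have h1 : IsUnit (ρ a) := hu.map ρ
    rw [RingHom.mem_ker] at ha
    rw [ha] at h1
    exact not_isUnit_zero h1
  have hxm : ∀ i, x i ∈ IsLocalRing.maximalIdeal R.carrier :=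
    fun i => hker_le ((RingHom.mem_ker).mpr (hxI i))
  have hφC : ∀ a : R'.carrier, φ (MvPowerSeries.C a) = algebraMap R'.carrier R.carrier a := by
    intro a
    rw [MvPowerSeries.c_eq_algebraMap]; exact φ.commutes a
  have hres : ∀ f : MvPowerSeries (Fin r) R'.carrier,
      R.res (φ f) = R'.res (MvPowerSeries.constantCoeff f) := by
    intro f
    have h := Groth.Agent.Lib.Helper7.PowSerCRing.evNil_unique
      ((R.res : R.carrier →+* k).comp (φ : MvPowerSeries (Fin r) R'.carrier →+* R.carrier))
      ((R'.res : R'.carrier →+* k).comp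
        (MvPowerSeries.constantCoeff (σ := Fin r) (R := R'.carrier)))
      (fun a => by
        show R.res (φ (MvPowerSeries.C a)) = R'.res (MvPowerSeries.constantCoeff (MvPowerSeries.C a))
        rw [hφC, MvPowerSeries.constantCoeff_C]
        exact AlgHom.congr_fun hc a)
      (fun i => by
        show R.res (φ (MvPowerSeries.X i)) =
          R'.res (MvPowerSeries.constantCoeff (MvPowerSeries.X i))
        rw [hφ, MvPowerSeries.constantCoeff_X, map_zero]
        exact (ArtFun.CRing.mem_maximalIdeal_iff R _).mp (hxm i))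
      (fun i => by
        show IsNilpotent (R.res (φ (MvPowerSeries.X i)))
        rw [hφ, (ArtFun.CRing.mem_maximalIdeal_iff R _).mp (hxm i)]
        exact IsNilpotent.zero)
    exact RingHom.congr_fun h f
  constructor
  · rw [injective_iff_map_eq_zero]
    intro s hs
    have hmem : ∀ n, s ∈ IsLocalRing.maximalIdeal (MvPowerSeries (Fin r) R'.carrier) ^ n := by
      intro n
      have h1 : s ∈ IsLocalRing.maximalIdeal (MvPowerSeries (Fin r) R'.carrier) ^ (max n N) := by
        obtain ⟨g, hg⟩ := hN (max n N) (le_max_right _ _)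
        have := hg s
        rw [hs, map_zero] at this
        exact Ideal.Quotient.eq_zero_iff_mem.mp this.symm
      exact Ideal.pow_le_pow_right (le_max_left _ _) h1
    have hbot : (⨅ i, IsLocalRing.maximalIdeal (MvPowerSeries (Fin r) R'.carrier) ^ i) = ⊥ :=
      Ideal.iInf_pow_eq_bot_of_isLocalRing _
        (IsLocalRing.maximalIdeal.isMaximal (MvPowerSeries (Fin r) R'.carrier)).ne_top
    have h2 : s ∈ (⨅ i, IsLocalRing.maximalIdeal (MvPowerSeries (Fin r) R'.carrier) ^ i) := by
      rw [Ideal.mem_iInf]; exact hmem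
    rw [hbot] at h2
    exact (Ideal.mem_bot).mp h2
  · let φΛ : MvPowerSeries (Fin r) R'.carrier →ₐ[Λ] R.carrier := φ.restrictScalars Λ
    have hφres : R.res.comp φΛ = Groth.Agent.Lib.Helper7.PowSerCRing.powRes R' r := by
      apply AlgHom.ext; intro f; exact hres f
    have htfae := Groth.Agent.S12714.result (Groth.Agent.Lib.Helper7.PowSerCRing.pow R' r) R φΛ hφres
    have hs : Function.Surjective φΛ := by
      apply (htfae.out 1 0).mp
      apply le_antisymm
      · refine sup_le ?_ (Ideal.pow_le_self two_ne_zero)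
        rw [Ideal.map_le_iff_le_comap]
        exact ArtFun.CRing.maximalIdeal_le_comap
          (R' := Groth.Agent.Lib.Helper7.PowSerCRing.pow R' r) (R := R) φΛ hφres
      · intro a ha
        have h4 : a - algebraMap R'.carrier R.carrier (ρ a) ∈ RingHom.ker ρ := by
          rw [RingHom.mem_ker, map_sub, AlgHom.commutes]; simp
        have hρa : ρ a ∈ IsLocalRing.maximalIdeal R'.carrier := by
          rw [IsLocalRing.mem_maximalIdeal, mem_nonunits_iff]
          intro hu
          have h1 : IsUnit (algebraMap R'.carrier R.carrier (ρ a)) := hu.map _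
          have h2 := Ideal.sub_mem _ ha (hker_le h4)
          rw [sub_sub_cancel] at h2
          exact (IsLocalRing.mem_maximalIdeal _).mp h2 h1
        rw [← hspan] at h4
        have h5 : a = algebraMap R'.carrier R.carrier (ρ a) +
            (a - algebraMap R'.carrier R.carrier (ρ a)) := by ring
        rw [h5]
        refine Ideal.add_mem _ (Ideal.mem_sup_left ?_) ?_
        · rw [← hφC]
          exact Ideal.mem_map_of_mem φΛ (Groth.Agent.Lib.Helper7.PowSerCRing.map_C_le
            (Ideal.mem_map_of_mem MvPowerSeries.C hρa))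
        · refine (sup_le ?_ ?_ : Ideal.span (Set.range x) ⊔
            IsLocalRing.maximalIdeal R.carrier * RingHom.ker ρ ≤ _) h4
          · refine le_trans ?_ le_sup_left
            rw [Ideal.span_le]
            rintro _ ⟨i, rfl⟩
            rw [← hφ]
            exact Ideal.mem_map_of_mem φΛ (Groth.Agent.Lib.Helper7.PowSerCRing.X_mem i)
          · refine le_trans ?_ le_sup_right
            rw [pow_two]
            exact Ideal.mul_mono_right hker_le
    exact hs

end Groth.Agent.S12748
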