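import Groth.Statements.S12749
import Mathlib
import Groth.Agent.Lib.Helper7.PowSerCRing
import Groth.Agent.Lib.Helper19.ArtFunHR
import Groth.Agent.Lib.Helper19.ArtFunTangent
import Groth.Agent.Lib.Helper19.ArtFunBasic

set_option autoImplicit false
universe u v
open CategoryTheory
open ArtFun

namespace Groth.Agent.S12749

open ArtFun ArtFun.Art Groth.Agent.Lib.Helper19.ArtFunHR Groth.Agent.Lib.Helper19.ArtFunBasic

attribute [local instance] Groth.Agent.Lib.Helper19.ArtFunHR.algK
  Groth.Agent.Lib.Helper19.ArtFunHR.isScalarTower_algK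

/-- a derivation `R → k` vanishing on the maximal ideal is zero when `k` has no `Λ`-derivations -/
theorem der_eq_zero {Λ : Type u} {k : Type u} [CommRing Λ] [Field k] [Algebra Λ k]
    (hk : Subsingleton (Derivation Λ k k)) (R : CRing Λ k) (D : Derivation Λ R.carrier k)
    (hD : ∀ x ∈ IsLocalRing.maximalIdeal R.carrier, D x = 0) : D = 0 := by
  classical
  let s : k → R.carrier := Function.surjInv R.res_surjective
  have hs : ∀ c, R.res (s c) = c := Function.surjInv_eq R.res_surjective
  have hker : ∀ a b : R.carrier, R.res a = R.res b → D a = D b := by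
    intro a b hab
    have h1 : a - b ∈ IsLocalRing.maximalIdeal R.carrier := by
      rw [CRing.mem_maximalIdeal_iff, map_sub, hab, sub_self]
    have h2 := hD _ h1
    rw [map_sub, sub_eq_zero] at h2
    exact h2
  let D' : Derivation Λ k k := Derivation.mk'
    { toFun := fun c => D (s c)
      map_add' := fun a b => by
        rw [← map_add]; exact hker _ _ (by rw [hs, map_add, hs, hs])
      map_smul' := fun l c => by
        rw [RingHom.id_apply, ← D.map_smul]; exact hker _ _ (by rw [hs, map_smul, hs]) }
    (fun a b => by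
      show D (s (a * b)) = a • D (s b) + b • D (s a)
      rw [hker (s (a * b)) (s a * s b) (by rw [hs, map_mul, hs, hs]), Derivation.leibniz,
        algK_smul, algK_smul, hs, hs]
      rfl)
  have hD' : D' = 0 := Subsingleton.elim _ _
  ext r
  have h1 : D r = D (s (R.res r)) := hker _ _ (hs _).symm
  have h2 : D (s (R.res r)) = D' (R.res r) := rfl
  rw [h1, h2, hD']
  rfl

theorem homSet_base_ext {Λ : Type u} {k : Type u} [CommRing Λ] [Field k] [Algebra Λ k]
    {R : Type u} [CommRing R] [Algebra Λ R] {resR : R →ₐ[Λ] k}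
    (a b : HomSet R resR (Art.base Λ k)) : a = b :=
  Subtype.ext (((AlgHom.id_comp a.1).symm.trans a.2).trans (((AlgHom.id_comp b.1).symm.trans b.2).symm))

/-- For functors, suppose k admits no nonzero Λ-derivation into itself (that is, k is separable over the
image of Λ in k). Let F be a functor on Artinian local Λ-algebras with residue field k with F(k) a
point which satisfies (S2), and let ξ be a minimal versal family of F over a complete local
Noetherian R with residue field k: ξ is versal, and every morphism of such coefficient rings R' → R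
along which some formal element of F over R' pushes forward to the formal element of ξ is
surjective. Then ξ is a hull of F: it is moreover bijective on tangent spaces. (The published
statement, for arbitrary k, concludes that the tangent map of the minimal versal family is bijective
on orbits under the Λ-derivations of k; when k has no nonzero Λ-derivation into itself the orbits
are points and this is plain bijectivity, which is the case stated here.) -/
theorem result {Λ : Type u} {k : Type u} [CommRing Λ] [Field k] [Algebra Λ k]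
    [IsNoetherianRing Λ] [Module.Finite Λ k]
    (hk : Subsingleton (Derivation Λ k k))
    {F : ArtFun.Art Λ k ⥤ Type v} (h0 : ArtFun.H0 F) (h2 : ArtFun.Heps F)
    {R : ArtFun.CRing Λ k} (ξ : ArtFun.Family R.carrier R.res F) (hξ : ξ.IsMinimalVersal) :
    ArtFun.IsMiniversal ξ := by
  classical
  obtain ⟨hv, hmin⟩ := hξ
  refine ⟨hv, ?_, surjective_app_of_isVersal h0 ξ hv (Art.dual Λ k)⟩
  intro d₁ d₂ hd
  letI : TangentStr F := Groth.Agent.Lib.Helper19.ArtFunTangent.tangentStr h0 h2
  by_contra hne
  have hD : derOf R d₁ - derOf R d₂ ≠ 0 := by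
    intro h
    apply hne
    rw [← derHom_derOf R d₁, ← derHom_derOf R d₂, sub_eq_zero.mp h]
  set D := derOf R d₁ - derOf R d₂ with hDdef
  have hξD : ξ.app (Art.dual Λ k) (derHom R D) = ξ.app (Art.dual Λ k) (derHom R 0) := by
    have h1 : tangentLin R ξ D = 0 := by
      rw [hDdef, map_sub, tangentLin_apply, tangentLin_apply, derHom_derOf, derHom_derOf,
        sub_eq_zero]
      exact hd
    have h2' : tangentLin R ξ 0 = 0 := map_zero _
    rw [tangentLin_apply] at h1 h2'
    exact h1.trans h2'.symm
  obtain ⟨x, hxm, hDx⟩ : ∃ x ∈ IsLocalRing.maximalIdeal R.carrier, D x = 1 := by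
    by_contra hcon
    push_neg at hcon
    apply hD
    apply der_eq_zero hk R D
    intro y hy
    by_contra hy0
    obtain ⟨r, hr⟩ := R.res_surjective (D y)⁻¹
    apply hcon (r * y) (Ideal.mul_mem_left _ _ hy)
    rw [Derivation.leibniz, algK_smul, algK_smul, hr, (CRing.mem_maximalIdeal_iff R y).mp hy,
      zero_mul, add_zero]
    exact inv_mul_cancel₀ hy0
  have hsq : IsLocalRing.maximalIdeal (Art.dual Λ k) ^ (1 + 1) = ⊥ := sq_maximalIdeal_dual
  obtain ⟨dbar, hdbar⟩ := exists_factor_trunc R (derHom R D) 1 hsq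
  have hdb : ∀ r : R.carrier, dbar ((R.truncHom 1).1 r) = (R.res r, D r) := fun r =>
    (AlgHom.congr_fun (congrArg Subtype.val hdbar) r).trans (derHom_apply R D r)
  have hxbm : (R.truncHom 1).1 x ∈ IsLocalRing.maximalIdeal (R.trunc 1) := by
    rw [Art.mem_maximalIdeal_iff]
    have h1 := AlgHom.congr_fun (R.truncHom 1).2 x
    exact h1.trans ((CRing.mem_maximalIdeal_iff R x).mp hxm)
  have hK : Ideal.span {(R.truncHom 1).1 x} ≤ IsLocalRing.maximalIdeal (R.trunc 1) := by
    rw [Ideal.span_le, Set.singleton_subset_iff]; exact hxbm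
  -- the fibre product square
  have hmk0 : ∀ s : R.carrier, R.res s = 0 → (R.truncHom 1).1 (s * x) = 0 := by
    intro s hs
    have h1 : s * x ∈ CRing.mpow R 1 := by
      show s * x ∈ IsLocalRing.maximalIdeal R.carrier ^ (1 + 1)
      rw [pow_succ, pow_one]
      exact Ideal.mul_mem_mul ((CRing.mem_maximalIdeal_iff R s).mpr hs) hxm
    exact Ideal.Quotient.eq_zero_iff_mem.mpr h1
  have hfp : Art.IsFibreProd (Art.quotMk (R.trunc 1) (Ideal.span {(R.truncHom 1).1 x}) hK) dbar
      (Art.toBase _) (Art.toBase (Art.dual Λ k)) := by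
    refine ⟨?_, ?_, ?_⟩
    · rw [Art.eq_toBase (Art.quotMk (R.trunc 1) _ hK ≫ Art.toBase _)]
      exact (Art.eq_toBase (dbar ≫ Art.toBase _)).symm
    · intro b₁ b₂ hq hdd
      rw [Art.quotMk_apply, Art.quotMk_apply] at hq
      have hq' := Ideal.Quotient.eq.mp hq
      rw [Ideal.mem_span_singleton'] at hq'
      obtain ⟨a, ha⟩ := hq'
      obtain ⟨s, rfl⟩ := Ideal.Quotient.mk_surjective a
      have h1 : dbar ((R.truncHom 1).1 (s * x)) = 0 := by
        have h2 : (R.truncHom 1).1 (s * x) = b₁ - b₂ := by rw [← ha]; exact map_mul _ s x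
        rw [h2]
        show dbar.toAlgHom (b₁ - b₂) = 0
        rw [map_sub]
        exact sub_eq_zero.mpr hdd
      rw [hdb] at h1
      have h3 : D (s * x) = 0 := congrArg TrivSqZeroExt.snd h1
      rw [Derivation.leibniz, algK_smul, algK_smul, hDx, mul_one,
        (CRing.mem_maximalIdeal_iff R x).mp hxm, zero_mul, add_zero] at h3
      have h4 : (R.truncHom 1).1 (s * x) = 0 := hmk0 s h3
      have h5 : b₁ - b₂ = 0 := by rw [← ha]; exact (map_mul _ s x).symm.trans h4
      exact sub_eq_zero.mp h5
    · intro a' a'' haa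
      obtain ⟨e₀, rfl⟩ := Art.quotMk_surjective (R.trunc 1) _ hK a'
      obtain ⟨r₀, rfl⟩ := Ideal.Quotient.mk_surjective e₀
      obtain ⟨c, hc⟩ := R.res_surjective (a''.snd - D r₀)
      refine ⟨(R.truncHom 1).1 (r₀ + c * x), ?_, ?_⟩
      · rw [Art.quotMk_apply, Art.quotMk_apply]
        refine Ideal.Quotient.eq.mpr ?_
        have : (R.truncHom 1).1 (r₀ + c * x) - (R.truncHom 1).1 r₀ =
            (R.truncHom 1).1 c * (R.truncHom 1).1 x := by
          rw [map_add, map_mul]
          ring
        show (R.truncHom 1).1 (r₀ + c * x) - (R.truncHom 1).1 r₀ ∈ _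
        rw [this]
        exact Ideal.mul_mem_left _ _ (Ideal.subset_span rfl)
      · rw [hdb]
        have hfst : R.res r₀ = a''.fst := by
          have h1 : (Art.toBase _) (Art.quotMk (R.trunc 1) _ hK (Ideal.Quotient.mk _ r₀)) =
              (Art.toBase (Art.dual Λ k)) a'' := haa
          exact h1
        refine TrivSqZeroExt.ext ?_ ?_
        · show R.res (r₀ + c * x) = a''.fst
          rw [map_add, map_mul, (CRing.mem_maximalIdeal_iff R x).mp hxm, mul_zero, add_zero, hfst]
        · show D (r₀ + c * x) = a''.snd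
          rw [map_add, Derivation.leibniz, algK_smul, algK_smul, hDx, mul_one, hc,
            (CRing.mem_maximalIdeal_iff R x).mp hxm, zero_mul, add_zero]
          ring
  -- the first-order map
  obtain ⟨f₁, hf1q, hf1d⟩ := hR_exists_lift hfp
    (HomSet.map (Art.quotMk (R.trunc 1) (Ideal.span {(R.truncHom 1).1 x}) hK) (R.truncHom 1))
    (derHom R 0) (homSet_base_ext _ _)
  have hξf₁ : ξ.app _ f₁ = ξ.toFormalElt.elt 1 := by
    apply (h2 _ dbar hfp).1
    apply FibProd.ext
    · show F.map _ (ξ.app _ f₁) = F.map _ (ξ.app _ (R.truncHom 1))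
      rw [← ξ.natural, ← ξ.natural, hf1q]
    · show F.map dbar (ξ.app _ f₁) = F.map dbar (ξ.app _ (R.truncHom 1))
      rw [← ξ.natural, ← ξ.natural, hf1d, hdbar]
      exact hξD.symm
  obtain ⟨f, hf, hfη, hf1⟩ :=
    Groth.Agent.Lib.Helper7.PowSerCRing.exists_hom_of_isVersal_from_one R ξ hv R ξ.toFormalElt f₁ hξf₁
  have hsurj : Function.Surjective f := hmin R ξ.toFormalElt f hf (by
    rw [← toFormalElt_along]; exact hfη)
  obtain ⟨x', hx'⟩ := hsurj x
  have h1 : dbar (f₁.1 x') = (derHom R 0).1 x' := AlgHom.congr_fun (congrArg Subtype.val hf1d) x'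
  have h2' : f₁.1 x' = (R.truncHom 1).1 (f x') := (AlgHom.congr_fun hf1 x').symm
  rw [h2', hdb, hx', derHom_apply] at h1
  have h3 : D x = (0 : Derivation Λ R.carrier k) x' := congrArg TrivSqZeroExt.snd h1
  rw [hDx] at h3
  exact one_ne_zero h3

end Groth.Agent.S12749
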