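import Groth.Statements.S12750
import Mathlib
import Groth.Agent.Lib.Helper19.ArtFunLength
import Groth.Agent.S12709

set_option autoImplicit false
universe u v
open CategoryTheory
open ArtFun ArtFun.Art

namespace Groth.Agent.S12750

open Groth.Agent.Lib.Helper19.ArtFunBasic Groth.Agent.Lib.Helper19.ArtFunLength

/-- surjectivity may be tested modulo `m_Λ A + m_A²` -/
theorem surjective_of_comp {Λ : Type u} {k : Type u} [CommRing Λ] [Field k] [Algebra Λ k]
    [IsNoetherianRing Λ] [Module.Finite Λ k]
    {C A A' : ArtFun.Art Λ k} (h : C ⟶ A) (q : A ⟶ A')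
    (hk : RingHom.ker q.toAlgHom = Ideal.map (algebraMap Λ A) (RingHom.ker (algebraMap Λ k)) ⊔
      IsLocalRing.maximalIdeal A ^ 2)
    (hs : Function.Surjective (h ≫ q)) : Function.Surjective h := by
  have hΛ : Ideal.map (algebraMap Λ A) (RingHom.ker (algebraMap Λ k)) ≤
      IsLocalRing.maximalIdeal A := by
    rw [Ideal.map_le_iff_le_comap]
    intro l hl
    exact algebraMap_mem_maximalIdeal A hl
  apply ((Groth.Agent.S12709.result h).out 2 0).mp
  apply le_antisymm
  · exact sup_le (sup_le hΛ (map_maximalIdeal_le h)) (Ideal.pow_le_self two_ne_zero)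
  · intro a ha
    obtain ⟨c, hc⟩ := hs (q a)
    have hc' : q (h c) = q a := hc
    have hker : a - h c ∈ RingHom.ker q.toAlgHom := by
      rw [RingHom.mem_ker, map_sub, sub_eq_zero]
      exact hc'.symm
    rw [hk] at hker
    have hcm : c ∈ IsLocalRing.maximalIdeal C := by
      rw [ArtFun.Art.mem_maximalIdeal_iff, ← ArtFun.Art.res_app h c, ← ArtFun.Art.res_app q (h c),
        hc', ArtFun.Art.res_app q a]
      exact (ArtFun.Art.mem_maximalIdeal_iff A a).mp ha
    have hhc : h c ∈ Ideal.map h.toAlgHom (IsLocalRing.maximalIdeal C) :=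
      Ideal.mem_map_of_mem _ hcm
    have : a = h c + (a - h c) := by ring
    rw [this]
    obtain ⟨u, hu, w, hw, huw⟩ := Submodule.mem_sup.mp hker
    rw [← huw]
    have e : h c + (u + w) = (u + h c) + w := by ring
    rw [e]
    exact Ideal.add_mem _ (Ideal.mem_sup_left (Ideal.add_mem _ (Ideal.mem_sup_left hu)
      (Ideal.mem_sup_right hhc))) (Ideal.mem_sup_right hw)

/-- (1) ⇔ (3): let f : B → A be a morphism in the category of Artinian local Λ-algebras with residue
field k, and let q_B : B → B', q_A : A → A' be the quotients by m_Λ B + m_B² and m_Λ A + m_A² (m_Λ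
the kernel of Λ → k), realised as surjective morphisms with these kernels, with f' : B' → A' the
induced morphism. Then f is an essential surjection — surjective, and every morphism g into B whose
composite with f is surjective is itself surjective — if and only if f' is. (The intermediate
equivalence with the map B/m_B² → A/m_A² is the special case Λ-structure trivialised and follows by
applying this one twice.) -/
theorem result {Λ : Type u} {k : Type u} [CommRing Λ] [Field k] [Algebra Λ k]
    [IsNoetherianRing Λ] [Module.Finite Λ k]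
    {A B A' B' : ArtFun.Art Λ k} (f : B ⟶ A)
    (qB : B ⟶ B') (hqB : Function.Surjective qB)
    (hkB : RingHom.ker qB.toAlgHom = Ideal.map (algebraMap Λ B) (RingHom.ker (algebraMap Λ k)) ⊔ IsLocalRing.maximalIdeal B ^ 2)
    (qA : A ⟶ A') (hqA : Function.Surjective qA)
    (hkA : RingHom.ker qA.toAlgHom = Ideal.map (algebraMap Λ A) (RingHom.ker (algebraMap Λ k)) ⊔ IsLocalRing.maximalIdeal A ^ 2)
    (f' : B' ⟶ A') (hf' : qB ≫ f' = f ≫ qA) :
    (Function.Surjective f ∧ ∀ (C : ArtFun.Art Λ k) (g : C ⟶ B), Function.Surjective (g ≫ f) → Function.Surjective g) ↔ (Function.Surjective f' ∧ ∀ (C : ArtFun.Art Λ k) (g : C ⟶ B'), Function.Surjective (g ≫ f') → Function.Surjective g) := by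
  have hsq : ∀ b : B, f' (qB b) = qA (f b) := fun b => by
    have := congrArg (fun t : B ⟶ A' => t b) hf'
    exact this
  constructor
  · rintro ⟨hf1, hf2⟩
    refine ⟨?_, ?_⟩
    · intro a'
      obtain ⟨a, rfl⟩ := hqA a'
      obtain ⟨b, rfl⟩ := hf1 a
      exact ⟨qB b, hsq b⟩
    · intro C g hg
      obtain ⟨Ct, p₁, p₂, hCt⟩ := exists_isFibreProd g qB hqB
      have hp₁ : Function.Surjective p₁ := by
        intro c
        obtain ⟨b, hb⟩ := hqB (g c)
        obtain ⟨z, hz, -⟩ := hCt.surj c b hb.symm
        exact ⟨z, hz⟩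
      have h1 : Function.Surjective ((p₂ ≫ f) ≫ qA) := by
        intro a'
        obtain ⟨c, hc⟩ := hg a'
        obtain ⟨z, rfl⟩ := hp₁ c
        refine ⟨z, ?_⟩
        change qA (f (p₂ z)) = a'
        rw [← hsq, ← hCt.w_apply]
        exact hc
      have h2 : Function.Surjective (p₂ ≫ f) := surjective_of_comp (p₂ ≫ f) qA hkA h1
      have h3 : Function.Surjective p₂ := hf2 Ct p₂ h2
      intro b'
      obtain ⟨b, rfl⟩ := hqB b'
      obtain ⟨z, rfl⟩ := h3 b
      exact ⟨p₁ z, hCt.w_apply z⟩
  · rintro ⟨hf1, hf2⟩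
    refine ⟨?_, ?_⟩
    · apply surjective_of_comp f qA hkA
      intro a'
      obtain ⟨b', hb'⟩ := hf1 a'
      obtain ⟨b, rfl⟩ := hqB b'
      refine ⟨b, ?_⟩
      change qA (f b) = a'
      rw [← hsq, hb']
    · intro C g hg
      apply surjective_of_comp g qB hkB
      apply hf2 C (g ≫ qB)
      intro a'
      obtain ⟨a, rfl⟩ := hqA a'
      obtain ⟨c, hc⟩ := hg a
      refine ⟨c, ?_⟩
      change f' (qB (g c)) = qA a
      rw [hsq, ← hc]
      rfl

end Groth.Agent.S12750
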