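import Groth.Statements.S12751
import Mathlib
import Groth.Agent.Lib.Helper19.ArtFunBasic

set_option autoImplicit false
universe u v
open CategoryTheory
open scoped TensorProduct
open ArtFun ArtFun.Art

namespace Groth.Agent.S12751

/-- A morphism f : B → A in the category of Artinian local Λ-algebras with residue field k is surjective
if and only if Ω_{B/Λ} ⊗_B k → Ω_{A/Λ} ⊗_A k is surjective; by right exactness of the sequence
Ω_{B/Λ} ⊗_B A → Ω_{A/Λ} → Ω_{A/B} → 0 this surjectivity is the vanishing of Ω_{A/B} ⊗_A k, which is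
how it is written here (A a B-algebra through f, k an A-module through the augmentation). -/
theorem result {Λ : Type u} {k : Type u} [CommRing Λ] [Field k] [Algebra Λ k]
    [IsNoetherianRing Λ] [Module.Finite Λ k]
    {A B : ArtFun.Art Λ k} (f : B ⟶ A) :
    letI : Algebra B A := f.toAlgHom.toRingHom.toAlgebra
    letI : Algebra A k := A.res.toRingHom.toAlgebra
    Function.Surjective f ↔ Subsingleton (k ⊗[A] Ω[A⁄B]) := by
  letI algBA : Algebra B A := f.toAlgHom.toRingHom.toAlgebra
  letI algAk : Algebra A k := A.res.toRingHom.toAlgebra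
  show Function.Surjective f ↔ Subsingleton (k ⊗[A] Ω[A⁄B])
  constructor
  · intro hf
    haveI : Subsingleton (Ω[A⁄B]) := KaehlerDifferential.subsingleton_of_surjective B A hf
    refine ⟨fun x y => ?_⟩
    have h0 : ∀ z : k ⊗[A] Ω[A⁄B], z = 0 := by
      intro z
      induction z using TensorProduct.induction_on with
      | zero => rfl
      | tmul a w => rw [Subsingleton.elim w 0, TensorProduct.tmul_zero]
      | add a b ha hb => rw [ha, hb, add_zero]
    rw [h0 x, h0 y]
  · intro hsub
    have hsurjres : Function.Surjective (Algebra.linearMap A k) := A.res_surjective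
    have hex : Function.Exact ((IsLocalRing.maximalIdeal A).subtype)
        (Algebra.linearMap A k) := by
      intro a
      constructor
      · intro ha
        exact ⟨⟨a, (mem_maximalIdeal_iff A a).mpr ha⟩, rfl⟩
      · rintro ⟨m, rfl⟩
        exact (mem_maximalIdeal_iff A m.1).mp m.2
    have hex2 := rTensor_exact (Ω[A⁄B]) hex hsurjres
    have htop : (⊤ : Submodule A (Ω[A⁄B])) ≤ (IsLocalRing.maximalIdeal A) • ⊤ := by
      intro ω _
      have h1 : LinearMap.rTensor (Ω[A⁄B]) (Algebra.linearMap A k) ((1 : A) ⊗ₜ ω) = 0 :=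
        Subsingleton.elim _ _
      obtain ⟨t, ht⟩ := (hex2 _).mp h1
      have h2 : ∀ t : (IsLocalRing.maximalIdeal A) ⊗[A] Ω[A⁄B],
          TensorProduct.lid A _ (LinearMap.rTensor _ ((IsLocalRing.maximalIdeal A).subtype) t) ∈
            (IsLocalRing.maximalIdeal A) • (⊤ : Submodule A (Ω[A⁄B])) := by
        intro t
        induction t using TensorProduct.induction_on with
        | zero => simp
        | tmul m w =>
          rw [LinearMap.rTensor_tmul, TensorProduct.lid_tmul]
          exact Submodule.smul_mem_smul m.2 Submodule.mem_top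
        | add x y hx hy =>
          rw [map_add, map_add]
          exact add_mem hx hy
      have h3 := h2 t
      rw [ht, TensorProduct.lid_tmul, one_smul] at h3
      exact h3
    obtain ⟨n, hn⟩ := Groth.Agent.Lib.Helper19.ArtFunBasic.exists_maximalIdeal_pow_eq_bot A
    have hpow : ∀ j : ℕ, (⊤ : Submodule A (Ω[A⁄B])) ≤ (IsLocalRing.maximalIdeal A ^ j) • ⊤ := by
      intro j
      induction j with
      | zero => rw [pow_zero, Ideal.one_eq_top, Submodule.top_smul]
      | succ j ih =>
        rw [pow_succ, Submodule.mul_smul]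
        exact ih.trans (Submodule.smul_mono le_rfl htop)
    have hΩ : Subsingleton (Ω[A⁄B]) := by
      have h4 := hpow n
      rw [hn, Submodule.bot_smul] at h4
      refine ⟨fun x y => ?_⟩
      have hx := h4 (Submodule.mem_top : x ∈ ⊤)
      have hy := h4 (Submodule.mem_top : y ∈ ⊤)
      rw [Submodule.mem_bot] at hx hy
      rw [hx, hy]
    haveI : Algebra.FormallyUnramified B A := ⟨hΩ⟩
    obtain ⟨I, hI⟩ : ∃ I : Ideal A, I = Ideal.map f.toAlgHom (IsLocalRing.maximalIdeal B) ⊔
        IsLocalRing.maximalIdeal A ^ 2 := ⟨_, rfl⟩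
    have hIle : I ≤ IsLocalRing.maximalIdeal A := by
      rw [hI]
      exact sup_le (Groth.Agent.Lib.Helper19.ArtFunBasic.map_maximalIdeal_le f)
        (Ideal.pow_le_self two_ne_zero)
    have halg : ∀ b : B, algebraMap B (A ⧸ I) b = Ideal.Quotient.mk I (f b) := fun b => rfl
    have hker : RingHom.ker (B.res : B →+* k) ≤ RingHom.ker (algebraMap B (A ⧸ I)) := by
      intro b hb
      rw [RingHom.mem_ker] at hb ⊢
      have hb' : b ∈ IsLocalRing.maximalIdeal B := (mem_maximalIdeal_iff B b).mpr hb
      rw [halg, Ideal.Quotient.eq_zero_iff_mem, hI]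
      exact Ideal.mem_sup_left (Ideal.mem_map_of_mem _ hb')
    obtain ⟨σ, hσ⟩ : ∃ σ : k →+* (A ⧸ I), ∀ b : B, σ (B.res b) = algebraMap B (A ⧸ I) b := by
      refine ⟨(B.res : B →+* k).liftOfRightInverse (Function.surjInv B.res_surjective)
        (Function.rightInverse_surjInv B.res_surjective) ⟨algebraMap B (A ⧸ I), hker⟩,
        fun b => ?_⟩
      exact RingHom.liftOfRightInverse_comp_apply _ _ _ _ b
    obtain ⟨g₂, hg₂⟩ : ∃ g₂ : A →ₐ[B] (A ⧸ I), ∀ a, g₂ a = σ (A.res a) :=
      ⟨{ toRingHom := σ.comp (A.res : A →+* k)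
         commutes' := fun b => by
          show σ (A.res (f b)) = algebraMap B (A ⧸ I) b
          rw [res_app f b, hσ] }, fun a => rfl⟩
    have hJ : IsNilpotent ((IsLocalRing.maximalIdeal A).map (Ideal.Quotient.mk I)) := by
      refine ⟨2, ?_⟩
      rw [← Ideal.map_pow, Ideal.zero_eq_bot, eq_bot_iff]
      calc Ideal.map (Ideal.Quotient.mk I) (IsLocalRing.maximalIdeal A ^ 2)
          ≤ Ideal.map (Ideal.Quotient.mk I) I :=
            Ideal.map_mono (by rw [hI]; exact le_sup_right)
        _ = ⊥ := Ideal.map_quotient_self I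
    have hagree : ∀ a, Ideal.Quotient.mk ((IsLocalRing.maximalIdeal A).map (Ideal.Quotient.mk I))
        (Ideal.Quotient.mkₐ B I a) =
        Ideal.Quotient.mk ((IsLocalRing.maximalIdeal A).map (Ideal.Quotient.mk I)) (g₂ a) := by
      intro a
      obtain ⟨b, hb⟩ := B.res_surjective (A.res a)
      rw [Ideal.Quotient.eq, hg₂, ← hb, hσ, halg]
      have h1 : (Ideal.Quotient.mkₐ B I a) - Ideal.Quotient.mk I (f b) =
          Ideal.Quotient.mk I (a - f b) := by
        rw [map_sub]; rfl
      rw [h1]
      apply Ideal.mem_map_of_mem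
      rw [mem_maximalIdeal_iff, map_sub, res_app, hb, sub_self]
    have heq : Ideal.Quotient.mkₐ B I = g₂ := Algebra.FormallyUnramified.ext _ hJ hagree
    have hmI : IsLocalRing.maximalIdeal A ≤ I := by
      intro a ha
      have h1 : Ideal.Quotient.mkₐ B I a = g₂ a := by rw [heq]
      rw [hg₂, (mem_maximalIdeal_iff A a).mp ha, map_zero] at h1
      exact Ideal.Quotient.eq_zero_iff_mem.mp h1
    apply Groth.Agent.Lib.Helper19.ArtFunBasic.surjective_of_map_sup_sq f
    rw [← hI]
    exact le_antisymm hIle hmI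

end Groth.Agent.S12751
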