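import Groth.Statements.S12754
import Mathlib

set_option autoImplicit false
universe u
open CategoryTheory
open ArtFun

namespace Groth.Agent.S12754


namespace S12754aux

open CategoryTheory MonoidalCategory TensorProduct

universe uu
variable {K : Type uu} [Field K]

noncomputable def fv (V : FGModuleCat.{uu} K) (v : V) : FGModuleCat.of K K ⟶ V :=
  ObjectProperty.homMk (ModuleCat.ofHom (LinearMap.toSpanSingleton K V v))

theorem fv_apply (V : FGModuleCat.{uu} K) (v : V) (c : K) : (fv V v).hom.hom c = c • v := rfl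

theorem hom_add' {X Y : FGModuleCat.{uu} K} (f g : X ⟶ Y) : (f + g).hom = f.hom + g.hom := rfl

theorem hom_smul' {X Y : FGModuleCat.{uu} K} (a : K) (f : X ⟶ Y) : (a • f).hom = a • f.hom := rfl

theorem hom_sum' {X Y : FGModuleCat.{uu} K} {ι : Type*} (s : Finset ι) (f : ι → (X ⟶ Y)) :
    (∑ i ∈ s, f i).hom = ∑ i ∈ s, (f i).hom := by
  classical
  induction s using Finset.induction_on with
  | empty =>
    rw [Finset.sum_empty, Finset.sum_empty]
    rfl
  | insert a s ha ih => rw [Finset.sum_insert ha, Finset.sum_insert ha, hom_add', ih]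

theorem fv_add (V : FGModuleCat.{uu} K) (v w : V) : fv V (v + w) = fv V v + fv V w := by
  apply FGModuleCat.hom_ext
  rw [hom_add', ModuleCat.hom_add]
  ext
  show (1 : K) • (v + w) = (1 : K) • v + (1 : K) • w
  rw [smul_add]

theorem fv_smul (V : FGModuleCat.{uu} K) (a : K) (v : V) : fv V (a • v) = a • fv V v := by
  apply FGModuleCat.hom_ext
  rw [hom_smul', ModuleCat.hom_smul]
  ext
  show (1 : K) • (a • v) = a • ((1 : K) • v)
  rw [one_smul, one_smul]

theorem fv_comp {V W : FGModuleCat.{uu} K} (g : V ⟶ W) (v : V) :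
    fv V v ≫ g = fv W (g.hom.hom v) := by
  apply FGModuleCat.hom_ext
  ext
  show g.hom.hom ((1 : K) • v) = (1 : K) • g.hom.hom v
  rw [map_smul]

noncomputable def proj (V : FGModuleCat.{uu} K) (i : Fin (Module.finrank K V)) :
    V ⟶ FGModuleCat.of K K :=
  ObjectProperty.homMk (ModuleCat.ofHom ((Module.finBasis K V).coord i))

theorem proj_apply (V : FGModuleCat.{uu} K) (i : Fin (Module.finrank K V)) (v : V) :
    (proj V i).hom.hom v = (Module.finBasis K V).repr v i := rfl

theorem sum_proj_fv (V : FGModuleCat.{uu} K) :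
    ∑ i, proj V i ≫ fv V (Module.finBasis K V i) = 𝟙 V := by
  apply FGModuleCat.hom_ext
  rw [hom_sum', ModuleCat.hom_sum]
  ext v
  simp only [LinearMap.sum_apply, FGModuleCat.hom_hom_comp, LinearMap.comp_apply,
    FGModuleCat.hom_hom_id, LinearMap.id_apply]
  exact (Module.finBasis K V).sum_repr v

theorem fv_proj (V : FGModuleCat.{uu} K) (v : V) (i : Fin (Module.finrank K V)) :
    fv V v ≫ proj V i = ((Module.finBasis K V).repr v i) • 𝟙 (FGModuleCat.of K K) := by
  apply FGModuleCat.hom_ext
  rw [hom_smul', ModuleCat.hom_smul]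
  ext
  show (Module.finBasis K V).repr ((1 : K) • v) i = ((Module.finBasis K V).repr v i) • (1 : K)
  rw [one_smul, smul_eq_mul, mul_one]

variable (L : FGModuleCat.{uu} K ⥤ ModuleCat.{uu} K) [L.Additive] [Functor.Linear K L]

noncomputable def eta (V : FGModuleCat.{uu} K) :
    TensorProduct K (L.obj (FGModuleCat.of K K)) V →ₗ[K] L.obj V :=
  TensorProduct.lift
    (LinearMap.mk₂ K (fun (x : L.obj (FGModuleCat.of K K)) (v : V) => (L.map (fv V v)).hom x)
      (fun x y v => map_add _ x y)
      (fun a x v => map_smul _ a x)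
      (fun x v w => by rw [fv_add, Functor.map_add, ModuleCat.hom_add, LinearMap.add_apply])
      (fun a x v => by
        rw [fv_smul, Functor.map_smul, ModuleCat.hom_smul, LinearMap.smul_apply]))

theorem eta_tmul (V : FGModuleCat.{uu} K) (x : L.obj (FGModuleCat.of K K)) (v : V) :
    eta L V (x ⊗ₜ v) = (L.map (fv V v)).hom x := by
  simp [eta]

noncomputable def zeta (V : FGModuleCat.{uu} K) :
    L.obj V →ₗ[K] TensorProduct K (L.obj (FGModuleCat.of K K)) V :=
  ∑ i, ((TensorProduct.mk K (L.obj (FGModuleCat.of K K)) V).flip (Module.finBasis K V i)).comp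
    (L.map (proj V i)).hom

theorem zeta_apply (V : FGModuleCat.{uu} K) (y : L.obj V) :
    zeta L V y = ∑ i, (L.map (proj V i)).hom y ⊗ₜ[K] (Module.finBasis K V i) := by
  simp [zeta, LinearMap.sum_apply]

theorem eta_zeta (V : FGModuleCat.{uu} K) (y : L.obj V) : eta L V (zeta L V y) = y := by
  rw [zeta_apply, map_sum]
  simp only [eta_tmul]
  have h : ∀ i, (L.map (fv V (Module.finBasis K V i))).hom ((L.map (proj V i)).hom y)
      = (L.map (proj V i ≫ fv V (Module.finBasis K V i))).hom y := by
    intro i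
    rw [Functor.map_comp, ModuleCat.hom_comp, LinearMap.comp_apply]
  simp only [h]
  rw [← LinearMap.sum_apply, ← ModuleCat.hom_sum, ← Functor.map_sum, sum_proj_fv, L.map_id,
    ModuleCat.hom_id, LinearMap.id_apply]

theorem zeta_eta_tmul (V : FGModuleCat.{uu} K) (x : L.obj (FGModuleCat.of K K)) (v : V) :
    zeta L V (eta L V (x ⊗ₜ v)) = x ⊗ₜ v := by
  rw [eta_tmul, zeta_apply]
  have h : ∀ i, (L.map (proj V i)).hom ((L.map (fv V v)).hom x)
      = ((Module.finBasis K V).repr v i) • x := by
    intro i
    have : (L.map (proj V i)).hom ((L.map (fv V v)).hom x)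
        = (L.map (fv V v ≫ proj V i)).hom x := by
      rw [Functor.map_comp, ModuleCat.hom_comp, LinearMap.comp_apply]
    rw [this, fv_proj, Functor.map_smul, L.map_id, ModuleCat.hom_smul, ModuleCat.hom_id,
      LinearMap.smul_apply, LinearMap.id_apply]
  simp only [h, TensorProduct.smul_tmul]
  rw [← TensorProduct.tmul_sum]
  congr 1
  exact (Module.finBasis K V).sum_repr v

noncomputable def etaEquiv (V : FGModuleCat.{uu} K) :
    TensorProduct K (L.obj (FGModuleCat.of K K)) V ≃ₗ[K] L.obj V :=
  LinearEquiv.ofLinearMap (eta L V) (zeta L V)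
    (LinearMap.ext fun y => by
      rw [LinearMap.comp_apply, LinearMap.id_apply, eta_zeta])
    (by
      apply TensorProduct.ext'
      intro x v
      rw [LinearMap.comp_apply, LinearMap.id_apply, zeta_eta_tmul])

theorem etaEquiv_apply (V : FGModuleCat.{uu} K) (z : TensorProduct K (L.obj (FGModuleCat.of K K)) V) :
    etaEquiv L V z = eta L V z := rfl

end S12754aux

/-- A K-linear functor L from finite-dimensional K-vector spaces to K-vector spaces (K a field) is
isomorphic to the functor V ↦ L(K) ⊗_K V. (Existence of an isomorphism of functors, which is how the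
published statement reads; the natural choice sends x ⊗ v to L(f_v)(x) with f_v : K → V, 1 ↦ v.) -/
theorem result (K : Type u) [Field K]
    (L : FGModuleCat.{u} K ⥤ ModuleCat.{u} K) [L.Additive] [Functor.Linear K L] :
    Nonempty (L ≅ (ModuleCat.isFG.{u} K).ι ⋙ MonoidalCategory.tensorLeft (L.obj (FGModuleCat.of K K))) := by
  refine ⟨(NatIso.ofComponents (fun V => ((S12754aux.etaEquiv L V).toModuleIso :
    ((ModuleCat.isFG.{u} K).ι ⋙ MonoidalCategory.tensorLeft (L.obj (FGModuleCat.of K K))).obj V ≅
      L.obj V)) ?_).symm⟩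
  intro V W g
  apply ModuleCat.hom_ext
  apply TensorProduct.ext'
  intro x v
  show S12754aux.eta L W ((LinearMap.lTensor _ g.hom.hom) (x ⊗ₜ v))
    = (L.map g).hom (S12754aux.eta L V (x ⊗ₜ v))
  rw [LinearMap.lTensor_tmul, S12754aux.eta_tmul, S12754aux.eta_tmul, ← S12754aux.fv_comp,
    Functor.map_comp, ModuleCat.hom_comp, LinearMap.comp_apply]

end Groth.Agent.S12754
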