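import Groth.Statements.S12756
import Mathlib

set_option autoImplicit false
universe u v
open CategoryTheory
open ArtFun

namespace Groth.Agent.S12756

/-- For functors on Artinian local Λ-algebras with residue field k, if φ : F → G is surjective on every
object and ψ ∘ φ : F → H is smooth, then ψ : G → H is smooth. -/
theorem result {Λ : Type u} {k : Type u} [CommRing Λ] [Field k] [Algebra Λ k]
    [IsNoetherianRing Λ] [Module.Finite Λ k]
    {F G H : ArtFun.Art Λ k ⥤ Type v} (φ : F ⟶ G) (ψ : G ⟶ H)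
    (hφ : ∀ A : ArtFun.Art Λ k, Function.Surjective (φ.app A)) (h : ArtFun.IsSmooth (φ ≫ ψ)) :
    ArtFun.IsSmooth ψ := by
  intro B A μ hμ
  rintro ⟨⟨g₀, h'⟩, hgh⟩
  have hgh' : ψ.app A g₀ = H.map μ h' := hgh
  obtain ⟨x, hx⟩ := hφ A g₀
  have hxh : (φ ≫ ψ).app A x = H.map μ h' := by
    change ψ.app A (φ.app A x) = H.map μ h'
    rw [hx, hgh']
  obtain ⟨y, hy⟩ := h μ hμ ⟨(x, h'), hxh⟩
  have hy1 : F.map μ y = x := congrArg (fun t => t.1.1) hy
  have hy2 : ψ.app B (φ.app B y) = h' := congrArg (fun t => t.1.2) hy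
  refine ⟨φ.app B y, ?_⟩
  apply Subtype.ext
  apply Prod.ext
  · change G.map μ (φ.app B y) = g₀
    rw [← NatTrans.naturality_apply φ μ y, hy1, hx]
  · exact hy2

end Groth.Agent.S12756
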