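import Groth.Statements.S12757
import Mathlib
import Groth.Agent.Lib.Helper19.ArtFunHR
import Groth.Agent.S12716

set_option autoImplicit false
universe u v
open CategoryTheory
open ArtFun

namespace Groth.Agent.S12757

open Groth.Agent.Lib.Helper19.ArtFunHR

theorem minimal_of_injective {Λ : Type u} {k : Type u} [CommRing Λ] [Field k] [Algebra Λ k]
    [IsNoetherianRing Λ] [Module.Finite Λ k]
    {F : ArtFun.Art Λ k ⥤ Type v} (R : ArtFun.CRing Λ k) (ξ : ArtFun.Family R.carrier R.res F)
    (hinj : Function.Injective (ξ.app (ArtFun.Art.dual Λ k)))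
    (R' : ArtFun.CRing Λ k) (u : ArtFun.FormalElt F R') (f : R'.carrier →ₐ[Λ] R.carrier)
    (hf : R.res.comp f = R'.res) (hpush : u.push f hf = ξ.toFormalElt) :
    Function.Surjective f := by
  letI := algK R
  haveI := isScalarTower_algK R
  haveI := R.isAdicComplete
  have hf' : (IsScalarTower.toAlgHom Λ R.carrier k).comp f = R'.res := by
    have : IsScalarTower.toAlgHom Λ R.carrier k = R.res := AlgHom.ext fun _ => rfl
    rw [this, hf]
  apply Groth.Agent.S12716.result R' R.carrier R.res_surjective f hf'
  intro D₁ D₂ hD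
  have map_map : ∀ {X Y Z : ArtFun.Art Λ k} (a : X ⟶ Y) (b : Y ⟶ Z) (w : F.obj X),
      F.map b (F.map a w) = F.map (a ≫ b) w := by
    intro X Y Z a b w
    rw [F.map_comp]; rfl
  have key : ξ.app _ (derHom R D₁) = ξ.app _ (derHom R D₂) := by
    obtain ⟨φ₁, hφ₁⟩ := exists_factor_trunc R (derHom R D₁) 1 sq_maximalIdeal_dual
    obtain ⟨φ₂, hφ₂⟩ := exists_factor_trunc R (derHom R D₂) 1 sq_maximalIdeal_dual
    rw [← hφ₁, ← hφ₂, ξ.natural, ξ.natural]
    have h1 : ξ.app _ (R.truncHom 1) = F.map (ArtFun.CRing.truncMapOfHom f hf 1) (u.elt 1) := by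
      have := congrArg (fun w => w.elt 1) hpush
      exact this.symm
    rw [h1, map_map, map_map]
    have hcomp : ArtFun.CRing.truncMapOfHom f hf 1 ≫ φ₁ =
        ArtFun.CRing.truncMapOfHom f hf 1 ≫ φ₂ := by
      apply ArtFun.Art.hom_ext
      apply AlgHom.ext
      intro x
      obtain ⟨r', rfl⟩ := Ideal.Quotient.mk_surjective x
      have e1 : φ₁ (Ideal.Quotient.mk _ (f r')) = (derHom R D₁).1 (f r') :=
        AlgHom.congr_fun (congrArg Subtype.val hφ₁) (f r')
      have e2 : φ₂ (Ideal.Quotient.mk _ (f r')) = (derHom R D₂).1 (f r') :=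
        AlgHom.congr_fun (congrArg Subtype.val hφ₂) (f r')
      change φ₁ (Ideal.Quotient.mk _ (f r')) = φ₂ (Ideal.Quotient.mk _ (f r'))
      rw [e1, e2, derHom_apply, derHom_apply, hD]
    rw [hcomp]
  have hφ : derHom R D₁ = derHom R D₂ := hinj key
  calc D₁ = derOf R (derHom R D₁) := (derOf_derHom R D₁).symm
    _ = derOf R (derHom R D₂) := by rw [hφ]
    _ = D₂ := derOf_derHom R D₂

/-- For functors, let F be a functor on Artinian local Λ-algebras with residue field k with F(k) a
point. A versal family of F over a complete local Noetherian R with residue field k which is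
bijective on tangent spaces (a hull; bijectivity implies bijectivity on orbits of the derivations of
k) is minimal: every morphism of coefficient rings R' → R along which some formal element over R'
pushes forward to the formal element of the family is surjective. -/
theorem result {Λ : Type u} {k : Type u} [CommRing Λ] [Field k] [Algebra Λ k]
    [IsNoetherianRing Λ] [Module.Finite Λ k]
    {F : ArtFun.Art Λ k ⥤ Type v} (h0 : ArtFun.H0 F) (P : ArtFun.Hull F) :
    P.family.IsMinimalVersal := by
  obtain ⟨hvers, hbij⟩ := P.miniversal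
  refine ⟨hvers, ?_⟩
  intro R' u f hf hpush
  exact minimal_of_injective P.ring P.family hbij.1 R' u f hf hpush

end Groth.Agent.S12757
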