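import Groth.Statements.S12758
import Mathlib
import Groth.Agent.Lib.Helper19.ArtFunHR
import Groth.Agent.S12720

set_option autoImplicit false
universe u v
open CategoryTheory
open ArtFun

namespace Groth.Agent.S12758

open Groth.Agent.Lib.Helper19.ArtFunHR

/-- For functors, two minimal versal families of a functor F on Artinian local Λ-algebras with residue
field k with F(k) a point — over complete local Noetherian coefficient rings R₁, R₂ with residue
field k — are isomorphic: there is an isomorphism R₁ ≅ R₂ over Λ, compatible with the augmentations,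
along which the formal element of the first family pushes forward to that of the second. -/
theorem result {Λ : Type u} {k : Type u} [CommRing Λ] [Field k] [Algebra Λ k]
    [IsNoetherianRing Λ] [Module.Finite Λ k]
    {F : ArtFun.Art Λ k ⥤ Type v} (h0 : ArtFun.H0 F) {R₁ R₂ : ArtFun.CRing Λ k}
    (ξ₁ : ArtFun.Family R₁.carrier R₁.res F) (ξ₂ : ArtFun.Family R₂.carrier R₂.res F)
    (h₁ : ξ₁.IsMinimalVersal) (h₂ : ξ₂.IsMinimalVersal) :
    ∃ (e : R₁.carrier ≃ₐ[Λ] R₂.carrier) (he : R₂.res.comp (e : R₁.carrier →ₐ[Λ] R₂.carrier) = R₁.res),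
      (ξ₁.along (e : R₁.carrier →ₐ[Λ] R₂.carrier) he).toFormalElt = ξ₂.toFormalElt := by
  obtain ⟨g₁₂, hg₁₂, h₁₂⟩ := Groth.Agent.S12720.result h0 R₁ ξ₁ h₁.1 R₂ ξ₂.toFormalElt
  obtain ⟨g₂₁, hg₂₁, h₂₁⟩ := Groth.Agent.S12720.result h0 R₂ ξ₂ h₂.1 R₁ ξ₁.toFormalElt
  have hs₁₂ : Function.Surjective g₁₂ := by
    apply h₂.2 R₁ ξ₁.toFormalElt g₁₂ hg₁₂
    rw [← toFormalElt_along, h₁₂]
  have hs₂₁ : Function.Surjective g₂₁ := by
    apply h₁.2 R₂ ξ₂.toFormalElt g₂₁ hg₂₁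
    rw [← toFormalElt_along, h₂₁]
  have hinj : Function.Injective g₁₂ := by
    have hcomp : Function.Surjective ((g₂₁.comp g₁₂ : R₁.carrier →ₐ[Λ] R₁.carrier) :
        R₁.carrier →+* R₁.carrier) := hs₂₁.comp hs₁₂
    have hi := injective_of_surjective_ringEnd _ hcomp
    intro a b hab
    apply hi
    change g₂₁ (g₁₂ a) = g₂₁ (g₁₂ b)
    rw [hab]
  let e : R₁.carrier ≃ₐ[Λ] R₂.carrier := AlgEquiv.ofBijective g₁₂ ⟨hinj, hs₁₂⟩
  have hee : (e : R₁.carrier →ₐ[Λ] R₂.carrier) = g₁₂ := AlgHom.ext fun _ => rfl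
  have he : R₂.res.comp (e : R₁.carrier →ₐ[Λ] R₂.carrier) = R₁.res := by rw [hee, hg₁₂]
  refine ⟨e, he, ?_⟩
  rw [toFormalElt_along_congr ξ₁ _ g₁₂ he hg₁₂ hee, h₁₂]

end Groth.Agent.S12758
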