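import Groth.Statements.S12759
import Mathlib
import Groth.Agent.Lib.Helper7.MinVersal
import Groth.Agent.Lib.Helper7.PowSerVersal

set_option autoImplicit false
universe u v
open CategoryTheory
open ArtFun

namespace Groth.Agent.S12759

/-- For functors, any versal family (R, ξ) of a functor F on Artinian local Λ-algebras with residue
field k with F(k) a point is the pushforward of a minimal versal family (R', ξ') along a power
series extension: there are g : R' → R compatible with the augmentations and an isomorphism R ≅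
R'[[X₁, …, Xₙ]] over Λ carrying g to the constants, and the formal element of ξ is that of ξ' pushed
forward along g. -/
theorem result {Λ : Type u} {k : Type u} [CommRing Λ] [Field k] [Algebra Λ k]
    [IsNoetherianRing Λ] [Module.Finite Λ k]
    {F : ArtFun.Art Λ k ⥤ Type v} (h0 : ArtFun.H0 F) (V : ArtFun.VersalPair F) :
    ∃ (R' : ArtFun.CRing Λ k) (ξ' : ArtFun.Family R'.carrier R'.res F), ξ'.IsMinimalVersal ∧
      ∃ (g : R'.carrier →ₐ[Λ] V.ring.carrier) (hg : V.ring.res.comp g = R'.res)
        (n : ℕ) (e : V.ring.carrier ≃ₐ[Λ] MvPowerSeries (Fin n) R'.carrier),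
        (∀ a : R'.carrier, e (g a) = algebraMap R'.carrier (MvPowerSeries (Fin n) R'.carrier) a) ∧
        (ξ'.along g hg).toFormalElt = V.family.toFormalElt := by
  classical
  obtain ⟨R, ξ, hv⟩ := V
  obtain ⟨R', q, hq, hqs, hmin⟩ := Groth.Agent.Lib.Helper7.MinVersal.exists_minimal_quot R ξ hv
  obtain ⟨g, hg, hgeq⟩ := Groth.Agent.S12720.result h0 R' (ξ.along q hq) hmin.1 R ξ.toFormalElt
  have hgξ : ∀ (A : ArtFun.Art Λ k) (φ : ArtFun.HomSet R.carrier R.res A),
      ((ξ.along q hq).along g hg).app A φ = ξ.app A φ :=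
    Groth.Agent.Lib.Helper7.MinVersal.app_eq_of_toFormalElt_eq R _ _ hgeq
  have hqg : R'.res.comp (q.comp g) = R'.res := by rw [← AlgHom.comp_assoc, hq, hg]
  have hpush : (ξ.along q hq).toFormalElt.push (q.comp g) hqg = (ξ.along q hq).toFormalElt := by
    rw [← Groth.Agent.Lib.Helper19.ArtFunHR.toFormalElt_along]
    apply ArtFun.FormalElt.ext'
    intro n
    have hφ₁ : (R'.trunc n).res.comp ((R'.truncHom n).1.comp q) = R.res := by
      rw [← AlgHom.comp_assoc, (R'.truncHom n).2, hq]
    have h1 := hgξ (R'.trunc n) ⟨(R'.truncHom n).1.comp q, hφ₁⟩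
    show ξ.app (R'.trunc n) ⟨((R'.truncHom n).1.comp (q.comp g)).comp q, _⟩ =
      ξ.app (R'.trunc n) ⟨(R'.truncHom n).1.comp q, _⟩
    refine Eq.trans (congrArg (ξ.app (R'.trunc n)) (Subtype.ext (AlgHom.ext fun _ => rfl))) h1
  have hsurj : Function.Surjective (q.comp g) := hmin.2 R' _ (q.comp g) hqg hpush
  have hinj : Function.Injective (q.comp g) :=
    Groth.Agent.Lib.Helper19.ArtFunHR.injective_of_surjective_ringEnd
      ((q.comp g : R'.carrier →ₐ[Λ] R'.carrier) : R'.carrier →+* R'.carrier) hsurj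
  let α : R'.carrier ≃ₐ[Λ] R'.carrier := AlgEquiv.ofBijective (q.comp g) ⟨hinj, hsurj⟩
  let p : R.carrier →ₐ[Λ] R'.carrier := (α.symm : R'.carrier →ₐ[Λ] R'.carrier).comp q
  have hpg : ∀ r', p (g r') = r' := fun r' => α.symm_apply_apply r'
  have hp : R'.res.comp p = R.res := by
    apply AlgHom.ext; intro r
    show R'.res (α.symm (q r)) = R.res r
    have h1 : R'.res (α (α.symm (q r))) = R'.res (α.symm (q r)) :=
      AlgHom.congr_fun hqg (α.symm (q r))
    rw [← h1, α.apply_symm_apply]
    exact AlgHom.congr_fun hq r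
  have hV := Groth.Agent.Lib.Helper7.MinVersal.isVersal_self_along R R' ξ hv (ξ.along q hq)
    g hg hgξ p hp hpg
  letI : Algebra R'.carrier R.carrier := g.toRingHom.toAlgebra
  haveI : IsScalarTower Λ R'.carrier R.carrier :=
    IsScalarTower.of_algebraMap_eq (fun x => (g.commutes x).symm)
  have hRS : R.res.comp (IsScalarTower.toAlgHom Λ R'.carrier R.carrier) = R'.res := by
    apply AlgHom.ext; intro r'; exact AlgHom.congr_fun hg r'
  have hV' : ArtFun.IsVersal ((ArtFun.Family.self R'.carrier R'.res).along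
      (IsScalarTower.toAlgHom Λ R'.carrier R.carrier) hRS) :=
    Groth.Agent.Lib.Helper7.ArtHull.isVersal_congr _ _ (fun A φ => rfl) hV
  obtain ⟨n, ⟨e₀⟩⟩ := Groth.Agent.Lib.Helper7.PowSerVersal.exists_equiv_of_isVersal R' R hRS hV'
  refine ⟨R', ξ.along q hq, hmin, g, hg, n, e₀.restrictScalars Λ, ?_, hgeq⟩
  intro a
  exact e₀.commutes a

end Groth.Agent.S12759
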