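import Groth.Statements.S1276
import Mathlib

set_option autoImplicit false
universe u
open FlatMor

namespace Groth.Agent.S1276

namespace H1276
open TensorProduct

lemma mem_support_baseChange {B F N : Type*} [CommRing B] [CommRing F] [Algebra B F]
    [AddCommGroup N] [Module B N] [Module.Finite B N] (x : PrimeSpectrum F) :
    x ∈ Module.support F (F ⊗[B] N) ↔
      PrimeSpectrum.comap (algebraMap B F) x ∈ Module.support B N := by
  constructor
  · intro hx
    rw [Module.mem_support_iff_of_finite]
    intro b hb
    have h1 : algebraMap B F b ∈ Module.annihilator F (F ⊗[B] N) := by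
      rw [Module.mem_annihilator]
      intro z
      induction z using TensorProduct.induction_on with
      | zero => simp
      | tmul f n =>
        rw [TensorProduct.smul_tmul', smul_eq_mul, ← Algebra.smul_def, TensorProduct.smul_tmul,
          Module.mem_annihilator.mp hb n, TensorProduct.tmul_zero]
      | add a b ha hb => rw [smul_add, ha, hb, add_zero]
    exact Module.annihilator_le_of_mem_support hx h1
  · intro hy
    obtain ⟨y, hy_def⟩ : ∃ y, y = PrimeSpectrum.comap (algebraMap B F) x := ⟨_, rfl⟩
    rw [← hy_def] at hy
    have hyx : y.asIdeal = x.asIdeal.comap (algebraMap B F) := by rw [hy_def]; rfl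
    rw [Module.mem_support_iff_nontrivial_residueField_tensorProduct] at hy ⊢
    letI : Algebra y.asIdeal.ResidueField x.asIdeal.ResidueField :=
      (Ideal.ResidueField.map y.asIdeal x.asIdeal (algebraMap B F) hyx).toAlgebra
    haveI : IsScalarTower B y.asIdeal.ResidueField x.asIdeal.ResidueField :=
      IsScalarTower.of_algebraMap_eq' (by
        ext b
        rw [RingHom.comp_apply, RingHom.algebraMap_toAlgebra, Ideal.ResidueField.map_algebraMap]
        exact IsScalarTower.algebraMap_apply B F _ b)
    have e1 := TensorProduct.AlgebraTensorModule.cancelBaseChange B F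
      x.asIdeal.ResidueField x.asIdeal.ResidueField N
    have e2 := TensorProduct.AlgebraTensorModule.cancelBaseChange B y.asIdeal.ResidueField
      x.asIdeal.ResidueField x.asIdeal.ResidueField N
    rw [e1.nontrivial_congr, ← e2.nontrivial_congr]
    infer_instance

theorem main {A B : Type u} [CommRing A] [CommRing B] [Algebra A B] [Algebra.FiniteType A B]
    (N : Type u) [AddCommGroup N] [Module B N] [Module A N] [IsScalarTower A B N]
    [Module.Finite B N] (p : Ideal A) [p.IsPrime] :
    ∃ J : Ideal B, J.FG ∧ J ≤ Module.annihilator B N ∧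
      ∀ x : PrimeSpectrum (p.Fiber B), FlatCA.fiberIdeal p J ≤ x.asIdeal ↔
        x ∈ Module.support (p.Fiber B) (FlatCA.fiberMod p B N) := by
  letI : Algebra B (p.Fiber B) := Algebra.TensorProduct.rightAlgebra
  haveI : IsNoetherianRing (p.Fiber B) :=
    Algebra.FiniteType.isNoetherianRing p.ResidueField (p.Fiber B)
  obtain ⟨I, hI⟩ : ∃ I, I = Module.annihilator B N := ⟨_, rfl⟩
  have hfg : (I.map (algebraMap B (p.Fiber B))).FG := IsNoetherian.noetherian _
  obtain ⟨s', hs', hspan⟩ := (Submodule.fg_span_iff_fg_span_finset_subset (R := p.Fiber B)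
    (algebraMap B (p.Fiber B) '' (I : Set B))).mp hfg
  classical
  obtain ⟨s'', hs'', hs''eq⟩ := Finset.subset_set_image_iff.mp hs'
  subst hs''eq
  refine ⟨Ideal.span (s'' : Set B), ⟨s'', rfl⟩, ?_, fun x => ?_⟩
  · rw [← hI]; exact Ideal.span_le.mpr hs''
  have hJ : FlatCA.fiberIdeal p (Ideal.span (s'' : Set B)) =
      I.map (algebraMap B (p.Fiber B)) := by
    unfold FlatCA.fiberIdeal
    rw [Ideal.map_span]
    refine Eq.trans ?_ hspan.symm
    rw [Finset.coe_image]
    rfl
  rw [hJ]
  show _ ↔ x ∈ Module.support (p.Fiber B) ((p.Fiber B) ⊗[B] N)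
  rw [mem_support_baseChange, Module.mem_support_iff_of_finite, Ideal.map_le_iff_le_comap, hI]
  rfl

end H1276

/-- Let B be a finite type A-algebra, N a finite B-module and p a prime of A. Then there is a finitely
generated ideal J of B annihilating N (so N is a module on the finitely presented closed subscheme
V(J) of Spec B) such that a point of the fibre Spec(κ(p) ⊗ B) lies in V(J) if and only if it lies in
the support of the fibre module of N. -/
theorem result {A B : Type u} [CommRing A] [CommRing B] [Algebra A B] [Algebra.FiniteType A B]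
    (N : Type u) [AddCommGroup N] [Module B N] [Module A N] [IsScalarTower A B N] [Module.Finite B N] (p : Ideal A) [p.IsPrime] :
    ∃ J : Ideal B, J.FG ∧ J ≤ Module.annihilator B N ∧
      ∀ x : PrimeSpectrum (p.Fiber B), FlatCA.fiberIdeal p J ≤ x.asIdeal ↔ x ∈ Module.support (p.Fiber B) (FlatCA.fiberMod p B N) := by
  exact H1276.main N p

end Groth.Agent.S1276
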