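import Groth.Statements.S12761
import Mathlib
import Groth.Agent.Lib.Helper10.TB12

set_option autoImplicit false
open CategoryTheory AlgebraicGeometry
universe u
open AlgSt

namespace Groth.Agent.S12761

/-- (1) ⇔ (3): an algebraic stack `𝒳` over `S` is a stack in setoids (its fibre categories are setoids)
if and only if it is representable by an algebraic space. -/
theorem result {S : Scheme.{u}} {𝒳 : AlgSt.Cat S}
    (h𝒳 : AlgSt.IsAlgStack Scheme.fppfPrecoverage 𝒳) :
    FibCat.IsFibSetoid 𝒳.p ↔ AlgSt.RepByAlgSp 𝒳 := by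
  exact ⟨fun hfs => H10PT.Boot.repByAlgSp_of_isAlgStack_of_isFibSetoid h𝒳 hfs,
    fun hr => Groth.Agent.Lib.Helper10.AlgStRep.isFibSetoid_of_repByAlgSp hr⟩

end Groth.Agent.S12761
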