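import Groth.Statements.S12764
import Groth.Agent.Lib.Helper28.AlgSt.FpStack

set_option autoImplicit false
open CategoryTheory AlgebraicGeometry
universe u
open AlgSt

namespace Groth.Agent.S12764

/-- For algebraic stacks `𝒳`, `𝒴` over `S`, the product `𝒳 ×_{(Sch/S)} 𝒴` (the 2-fibre product of the
two structure functors over the base category) is an algebraic stack over `S`. -/
theorem result {S : Scheme.{u}} {𝒳 𝒴 : AlgSt.Cat S}
    (h𝒳 : AlgSt.IsAlgStack Scheme.fppfPrecoverage 𝒳) (h𝒴 : AlgSt.IsAlgStack Scheme.fppfPrecoverage 𝒴) :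
    AlgSt.IsAlgStack Scheme.fppfPrecoverage (FibCat.fp (FibCat.toSelf 𝒳) (FibCat.toSelf 𝒴)) := by
  have hS : AlgSt.RepByAlgSp (FibCat.selfOver (Over S)) :=
    Groth.Agent.Lib.Helper28.AlgSt.DiagRep.repByAlgSp_selfOver
  exact Groth.Agent.Lib.Helper28.AlgSt.FpStack.isAlgStack_fp
    (Groth.Agent.Lib.Helper28.AlgSt.StackDesc.isStack_of_repByAlgSp hS)
    (Groth.Agent.Lib.Helper28.AlgSt.Basic.repByAlgSp1_of_repByAlgSp hS
      (Groth.Agent.Lib.Helper28.AlgSt.DiagRep.repByAlgSp_fp hS hS hS _ _) _)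
    h𝒳 h𝒴 _ _

end Groth.Agent.S12764
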