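import Groth.Statements.S1277
import Mathlib
import Groth.Agent.Lib.Helper25.FlatAtCrit

set_option autoImplicit false
universe u
open FlatMor

namespace Groth.Agent.S1277

open TensorProduct


open IsLocalRing in
/-- Let A be a local ring, A → B a local homomorphism of local rings, B → C a flat local homomorphism of
local rings, M a B-module and N = M ⊗_B C. For every local homomorphism of local rings A → A', with
base changes B' = B ⊗_A A', M', C' = C ⊗_A A', N' (any models): M' is flat over A' at every prime of
B' containing 𝔪_{A'}B' + 𝔪_B B' if and only if N' is flat over A' at every prime of C' containing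
𝔪_{A'}C' + 𝔪_C C'. -/
theorem result {A B C : Type u} [CommRing A] [IsLocalRing A] [CommRing B] [IsLocalRing B] [CommRing C] [IsLocalRing C]
    [Algebra A B] [IsLocalHom (algebraMap A B)] [Algebra B C] [IsLocalHom (algebraMap B C)] [Algebra A C] [IsScalarTower A B C] [Module.Flat B C]
    (M : Type u) [AddCommGroup M] [Module B M] (N : Type u) [AddCommGroup N] [Module C N] [Module B N] [IsScalarTower B C N]
    (g : M →ₗ[B] N) (hg : IsBaseChange C g)
    (A' : Type u) [CommRing A'] [IsLocalRing A'] [Algebra A A'] [IsLocalHom (algebraMap A A')]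
    (B' M' : Type u) [CommRing B'] [Algebra B B'] [Algebra A' B'] [Algebra A B'] [IsScalarTower A B B'] [IsScalarTower A A' B']
        [Algebra.IsPushout A B A' B']
        [AddCommGroup M'] [Module B' M'] [Module B M'] [IsScalarTower B B' M'] [Module A' M'] [IsScalarTower A' B' M']
        (fB : M →ₗ[B] M') (hfB : IsBaseChange B' fB)
    (C' N' : Type u) [CommRing C'] [Algebra C C'] [Algebra A' C'] [Algebra A C'] [IsScalarTower A C C'] [IsScalarTower A A' C']
        [Algebra.IsPushout A C A' C']
        [AddCommGroup N'] [Module C' N'] [Module C N'] [IsScalarTower C C' N'] [Module A' N'] [IsScalarTower A' C' N']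
        (fC : N →ₗ[C] N') (hfC : IsBaseChange C' fC) :
    FlatCA.FlatAboveClosedPoints B A' B' M' ↔ FlatCA.FlatAboveClosedPoints C A' C' N' := by
  classical
  -- algebra structures
  letI algBC' : Algebra B C' := ((algebraMap C C').comp (algebraMap B C)).toAlgebra
  haveI tBCC' : IsScalarTower B C C' := IsScalarTower.of_algebraMap_eq (fun _ => rfl)
  haveI tABC' : IsScalarTower A B C' := IsScalarTower.of_algebraMap_eq (fun a => by
    show algebraMap A C' a = algebraMap C C' (algebraMap B C (algebraMap A B a))
    rw [← IsScalarTower.algebraMap_apply A B C, ← IsScalarTower.algebraMap_apply A C C'])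
  let φ : B' →ₐ[A] C' := Algebra.pushoutDesc B' (IsScalarTower.toAlgHom A B C')
    (IsScalarTower.toAlgHom A A' C') (fun x y => mul_comm _ _)
  letI algB'C' : Algebra B' C' := φ.toRingHom.toAlgebra
  haveI tBB'C' : IsScalarTower B B' C' := IsScalarTower.of_algebraMap_eq (fun b =>
    (Algebra.pushoutDesc_left B' (IsScalarTower.toAlgHom A B C')
      (IsScalarTower.toAlgHom A A' C') (fun x y => mul_comm _ _) b).symm)
  haveI tA'B'C' : IsScalarTower A' B' C' := IsScalarTower.of_algebraMap_eq (fun a =>
    (Algebra.pushoutDesc_right B' (IsScalarTower.toAlgHom A B C')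
      (IsScalarTower.toAlgHom A A' C') (fun x y => mul_comm _ _) a).symm)
  haveI tAB'C' : IsScalarTower A B' C' := IsScalarTower.of_algebraMap_eq (fun a =>
    (φ.commutes a).symm)
  haveI hpo : Algebra.IsPushout B C B' C' :=
    (Algebra.IsPushout.comp_iff A B A' B' (T := C) (T' := C')).mp inferInstance
  haveI hflatC' : Module.Flat B' C' :=
    Module.Flat.isBaseChange B B' C C' (Algebra.IsPushout.symm hpo).out
  -- module structures on N'
  letI modBN' : Module B N' := Module.compHom N' (algebraMap B C)
  haveI tBCN' : IsScalarTower B C N' := IsScalarTower.of_algebraMap_smul (fun _ _ => rfl)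
  haveI tBC'N' : IsScalarTower B C' N' := IsScalarTower.of_algebraMap_smul (fun b x => by
    show algebraMap C C' (algebraMap B C b) • x = algebraMap B C b • x
    exact algebraMap_smul C' (algebraMap B C b) x)
  letI modB'N' : Module B' N' := Module.compHom N' (algebraMap B' C')
  haveI tB'C'N' : IsScalarTower B' C' N' := IsScalarTower.of_algebraMap_smul (fun _ _ => rfl)
  haveI tBB'N' : IsScalarTower B B' N' := IsScalarTower.of_algebraMap_smul (fun b x => by
    show algebraMap B' C' (algebraMap B B' b) • x = b • x
    rw [← IsScalarTower.algebraMap_apply B B' C', algebraMap_smul C' b x])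
  -- the comparison map
  let ψ : M →ₗ[B] N' := (fC.restrictScalars B) ∘ₗ g
  have hψ : IsBaseChange C' ψ := IsBaseChange.comp hg hfC
  let g' : M' →ₗ[B'] N' := hfB.lift ψ
  have hg'comp : (g'.restrictScalars B) ∘ₗ fB = ψ := hfB.lift_comp ψ
  have hg' : IsBaseChange C' g' := IsBaseChange.of_comp hfB (h := g') (by
    show IsBaseChange C' ((g'.restrictScalars B) ∘ₗ fB)
    rw [hg'comp]
    exact hψ)
  have hcongr : ∀ r : Ideal C', ∀ [r.IsPrime],
      (Module.Flat A' (LocalizedModule r.primeCompl (C' ⊗[B'] M')) ↔
        Module.Flat A' (LocalizedModule r.primeCompl N')) := fun r _ =>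
    Groth.Agent.Lib.Helper25.FlatAtCrit.flat_localized_congr hg'.equiv r.primeCompl
  constructor
  · intro HB r hr hle
    show Module.Flat A' (LocalizedModule r.primeCompl N')
    have hq : (IsLocalRing.maximalIdeal A').map (algebraMap A' B') ⊔
        (IsLocalRing.maximalIdeal B).map (algebraMap B B') ≤ r.comap (algebraMap B' C') := by
      refine sup_le ?_ ?_
      · rw [Ideal.map_le_iff_le_comap, Ideal.comap_comap, ← IsScalarTower.algebraMap_eq A' B' C',
          ← Ideal.map_le_iff_le_comap]
        exact le_sup_left.trans hle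
      · rw [Ideal.map_le_iff_le_comap, Ideal.comap_comap, ← IsScalarTower.algebraMap_eq B B' C',
          IsScalarTower.algebraMap_eq B C C', ← Ideal.comap_comap]
        have h1 : IsLocalRing.maximalIdeal C ≤ r.comap (algebraMap C C') :=
          Ideal.map_le_iff_le_comap.mp (le_sup_right.trans hle)
        refine le_trans ?_ (Ideal.comap_mono h1)
        rw [IsLocalRing.maximalIdeal_comap]
    haveI : (r.comap (algebraMap B' C')).IsPrime := Ideal.comap_isPrime _ _
    have hM : Module.Flat A' (LocalizedModule (r.comap (algebraMap B' C')).primeCompl M') :=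
      HB (r.comap (algebraMap B' C')) hq
    exact (hcongr r).mp
      (Groth.Agent.Lib.Helper25.FlatAtCrit.asc M' r (r.comap (algebraMap B' C')) rfl hM)
  · intro HC q hqp hle
    show Module.Flat A' (LocalizedModule q.primeCompl M')
    have hqB : q.comap (algebraMap B B') = IsLocalRing.maximalIdeal B := by
      have hle' : IsLocalRing.maximalIdeal B ≤ q.comap (algebraMap B B') :=
        Ideal.map_le_iff_le_comap.mp (le_sup_right.trans hle)
      have hp : (q.comap (algebraMap B B')).IsPrime := Ideal.comap_isPrime _ _
      exact ((IsLocalRing.maximalIdeal.isMaximal B).eq_of_le hp.ne_top hle').symm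
    obtain ⟨r, hr, hrC, hrB'⟩ := Groth.Agent.Lib.Helper25.FlatAtCrit.exists_prime_pushout
      (R := B) (S := C) (R' := B') (S' := C') (IsLocalRing.maximalIdeal C) q
      (by rw [IsLocalRing.maximalIdeal_comap, hqB])
    haveI := hr
    have hler : (IsLocalRing.maximalIdeal A').map (algebraMap A' C') ⊔
        (IsLocalRing.maximalIdeal C).map (algebraMap C C') ≤ r := by
      refine sup_le ?_ ?_
      · rw [Ideal.map_le_iff_le_comap, IsScalarTower.algebraMap_eq A' B' C', ← Ideal.comap_comap,
          hrB', ← Ideal.map_le_iff_le_comap]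
        exact le_sup_left.trans hle
      · rw [Ideal.map_le_iff_le_comap, hrC]
    have hN : Module.Flat A' (LocalizedModule r.primeCompl N') := HC r hler
    exact Groth.Agent.Lib.Helper25.FlatAtCrit.desc M' r q hrB'.symm ((hcongr r).mpr hN)

end Groth.Agent.S1277
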