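import Groth.Statements.S1278
import Mathlib
import Groth.Agent.Lib.Helper25.FlatAtCrit

set_option autoImplicit false
universe u
open FlatMor

namespace Groth.Agent.S1278

open TensorProduct

section Equiv

variable {A' B' C' : Type u} [CommRing A'] [CommRing B'] [CommRing C'] [Algebra A' B']
  [Algebra B' C'] [Algebra A' C'] [IsScalarTower A' B' C']
  (M' N' : Type u) [AddCommGroup M'] [Module A' M'] [Module B' M'] [IsScalarTower A' B' M']
  [AddCommGroup N'] [Module A' N'] [Module B' N'] [Module C' N'] [IsScalarTower A' B' N']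
  [IsScalarTower B' C' N'] [IsScalarTower A' C' N']

theorem semilin (θ : M' ≃ₗ[B'] N') (P : Type u) [AddCommGroup P] [Module A' P] (s : B')
    (z : M' ⊗[A'] P) :
    (TensorProduct.congr (θ.restrictScalars A') (LinearEquiv.refl A' P)) (s • z) =
      (algebraMap B' C' s) •
        (TensorProduct.congr (θ.restrictScalars A') (LinearEquiv.refl A' P)) z := by
  induction z using TensorProduct.induction_on with
  | zero => simp
  | add x y hx hy => rw [smul_add, map_add, hx, hy, map_add, smul_add]
  | tmul m p =>
    rw [TensorProduct.smul_tmul', TensorProduct.congr_tmul, TensorProduct.congr_tmul,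
      TensorProduct.smul_tmul']
    show (θ (s • m)) ⊗ₜ[A'] p = ((algebraMap B' C' s) • θ m) ⊗ₜ[A'] p
    rw [map_smul, algebraMap_smul]

theorem nat (θ : M' ≃ₗ[B'] N') {P₁ P₂ : Type u} [AddCommGroup P₁] [AddCommGroup P₂]
    [Module A' P₁] [Module A' P₂] (h : P₁ →ₗ[A'] P₂) (z : M' ⊗[A'] P₁) :
    (h.lTensor N') ((TensorProduct.congr (θ.restrictScalars A') (LinearEquiv.refl A' P₁)) z) =
      (TensorProduct.congr (θ.restrictScalars A') (LinearEquiv.refl A' P₂))
        ((h.lTensor M') z) := by
  induction z using TensorProduct.induction_on with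
  | zero => simp
  | add x y hx hy => simp only [map_add, hx, hy]
  | tmul m p =>
    rw [TensorProduct.congr_tmul, LinearMap.lTensor_tmul, LinearMap.lTensor_tmul,
      TensorProduct.congr_tmul]
    rfl

theorem asc_equiv (θ : M' ≃ₗ[B'] N') (r : Ideal C') [r.IsPrime] (q : Ideal B') [q.IsPrime]
    (hq : q = r.comap (algebraMap B' C'))
    (hflat : Module.Flat A' (LocalizedModule q.primeCompl M')) :
    Module.Flat A' (LocalizedModule r.primeCompl N') := by
  rw [Groth.Agent.Lib.Helper25.FlatAtCrit.flat_localized_iff] at hflat ⊢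
  intro P₁ P₂ _ _ _ _ h hh w hw
  obtain ⟨z, rfl⟩ :=
    (TensorProduct.congr (θ.restrictScalars A') (LinearEquiv.refl A' P₁)).surjective w
  have hz : (h.lTensor M') z = 0 := by
    apply (TensorProduct.congr (θ.restrictScalars A') (LinearEquiv.refl A' P₂)).injective
    rw [← nat, hw, map_zero]
  obtain ⟨s, hs, hsz⟩ := hflat P₁ P₂ h hh z hz
  refine ⟨algebraMap B' C' s, ?_, ?_⟩
  · show algebraMap B' C' s ∉ r
    intro hmem
    apply hs
    rw [hq]
    exact hmem
  · rw [← semilin, hsz, map_zero]

theorem desc_equiv [Algebra.IsIntegral B' C'] (θ : M' ≃ₗ[B'] N') (q : Ideal B') [q.IsPrime]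
    (hflat : ∀ (r : Ideal C') [r.IsPrime], r.comap (algebraMap B' C') = q →
      Module.Flat A' (LocalizedModule r.primeCompl N')) :
    Module.Flat A' (LocalizedModule q.primeCompl M') := by
  rw [Groth.Agent.Lib.Helper25.FlatAtCrit.flat_localized_iff]
  intro P₁ P₂ _ _ _ _ h hh z hz
  by_contra hcon
  push_neg at hcon
  have hw : (h.lTensor N')
      ((TensorProduct.congr (θ.restrictScalars A') (LinearEquiv.refl A' P₁)) z) = 0 := by
    rw [nat, hz, map_zero]
  have h𝔞 : Ideal.comap (algebraMap B' C')
      (LinearMap.ker (LinearMap.toSpanSingleton C' (N' ⊗[A'] P₁)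
      ((TensorProduct.congr (θ.restrictScalars A') (LinearEquiv.refl A' P₁)) z)) : Ideal C')
      ≤ q := by
    intro b hb
    by_contra hbq
    refine hcon b hbq ?_
    have h1 : (algebraMap B' C' b) •
        ((TensorProduct.congr (θ.restrictScalars A') (LinearEquiv.refl A' P₁)) z) = 0 := by
      have : (LinearMap.toSpanSingleton C' (N' ⊗[A'] P₁)
        ((TensorProduct.congr (θ.restrictScalars A') (LinearEquiv.refl A' P₁)) z))
          (algebraMap B' C' b) = 0 := hb
      rwa [LinearMap.toSpanSingleton_apply] at this
    rw [← semilin] at h1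
    exact (TensorProduct.congr (θ.restrictScalars A') (LinearEquiv.refl A' P₁)).injective
      (by rw [h1, map_zero])
  obtain ⟨r, hr𝔞, hrp, hrq⟩ := Ideal.exists_ideal_over_prime_of_isIntegral q
    (LinearMap.ker (LinearMap.toSpanSingleton C' (N' ⊗[A'] P₁)
      ((TensorProduct.congr (θ.restrictScalars A') (LinearEquiv.refl A' P₁)) z)) : Ideal C') h𝔞
  haveI := hrp
  have hN := hflat r hrq
  rw [Groth.Agent.Lib.Helper25.FlatAtCrit.flat_localized_iff] at hN
  obtain ⟨t, ht, htw⟩ := hN P₁ P₂ h hh _ hw
  refine ht (hr𝔞 ?_)
  show (LinearMap.toSpanSingleton C' (N' ⊗[A'] P₁)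
    ((TensorProduct.congr (θ.restrictScalars A') (LinearEquiv.refl A' P₁)) z)) t = 0
  rw [LinearMap.toSpanSingleton_apply]
  exact htw

end Equiv


open IsLocalRing in
/-- Let A be a local ring and B → C a finite local homomorphism of local A-algebras (A → B local), and N
a C-module, viewed also as a B-module. For every local homomorphism of local rings A → A', with base
changes B', C' of B, C and base changes M' (of N over B') and N' (of N over C'): M' is flat over A'
at every prime of B' containing 𝔪_{A'}B' + 𝔪_B B' if and only if N' is flat over A' at every prime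
of C' containing 𝔪_{A'}C' + 𝔪_C C'. -/
theorem result {A B C : Type u} [CommRing A] [IsLocalRing A] [CommRing B] [IsLocalRing B] [CommRing C] [IsLocalRing C]
    [Algebra A B] [IsLocalHom (algebraMap A B)] [Algebra B C] [IsLocalHom (algebraMap B C)] [Algebra A C] [IsScalarTower A B C] [Module.Finite B C]
    (N : Type u) [AddCommGroup N] [Module C N] [Module B N] [IsScalarTower B C N]
    (A' : Type u) [CommRing A'] [IsLocalRing A'] [Algebra A A'] [IsLocalHom (algebraMap A A')]
    (B' M' : Type u) [CommRing B'] [Algebra B B'] [Algebra A' B'] [Algebra A B'] [IsScalarTower A B B'] [IsScalarTower A A' B']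
        [Algebra.IsPushout A B A' B']
        [AddCommGroup M'] [Module B' M'] [Module B M'] [IsScalarTower B B' M'] [Module A' M'] [IsScalarTower A' B' M']
        (fB : N →ₗ[B] M') (hfB : IsBaseChange B' fB)
    (C' N' : Type u) [CommRing C'] [Algebra C C'] [Algebra A' C'] [Algebra A C'] [IsScalarTower A C C'] [IsScalarTower A A' C']
        [Algebra.IsPushout A C A' C']
        [AddCommGroup N'] [Module C' N'] [Module C N'] [IsScalarTower C C' N'] [Module A' N'] [IsScalarTower A' C' N']
        (fC : N →ₗ[C] N') (hfC : IsBaseChange C' fC) :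
    FlatCA.FlatAboveClosedPoints B A' B' M' ↔ FlatCA.FlatAboveClosedPoints C A' C' N' := by
  classical
  -- algebra structures
  letI algBC' : Algebra B C' := ((algebraMap C C').comp (algebraMap B C)).toAlgebra
  haveI tBCC' : IsScalarTower B C C' := IsScalarTower.of_algebraMap_eq (fun _ => rfl)
  haveI tABC' : IsScalarTower A B C' := IsScalarTower.of_algebraMap_eq (fun a => by
    show algebraMap A C' a = algebraMap C C' (algebraMap B C (algebraMap A B a))
    rw [← IsScalarTower.algebraMap_apply A B C, ← IsScalarTower.algebraMap_apply A C C'])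
  let φ : B' →ₐ[A] C' := Algebra.pushoutDesc B' (IsScalarTower.toAlgHom A B C')
    (IsScalarTower.toAlgHom A A' C') (fun x y => mul_comm _ _)
  letI algB'C' : Algebra B' C' := φ.toRingHom.toAlgebra
  haveI tBB'C' : IsScalarTower B B' C' := IsScalarTower.of_algebraMap_eq (fun b =>
    (Algebra.pushoutDesc_left B' (IsScalarTower.toAlgHom A B C')
      (IsScalarTower.toAlgHom A A' C') (fun x y => mul_comm _ _) b).symm)
  haveI tA'B'C' : IsScalarTower A' B' C' := IsScalarTower.of_algebraMap_eq (fun a =>
    (Algebra.pushoutDesc_right B' (IsScalarTower.toAlgHom A B C')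
      (IsScalarTower.toAlgHom A A' C') (fun x y => mul_comm _ _) a).symm)
  haveI tAB'C' : IsScalarTower A B' C' := IsScalarTower.of_algebraMap_eq (fun a =>
    (φ.commutes a).symm)
  haveI hpo : Algebra.IsPushout B C B' C' :=
    (Algebra.IsPushout.comp_iff A B A' B' (T := C) (T' := C')).mp inferInstance
  haveI hpo' : Algebra.IsPushout B B' C C' := Algebra.IsPushout.symm hpo
  haveI hfin : Module.Finite B' C' :=
    Module.Finite.equiv (Algebra.IsPushout.equiv B B' C C').toLinearEquiv
  haveI hint : Algebra.IsIntegral B' C' := inferInstance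
  -- module structures on N'
  letI modB'N' : Module B' N' := Module.compHom N' (algebraMap B' C')
  haveI tB'C'N' : IsScalarTower B' C' N' := IsScalarTower.of_algebraMap_smul (fun _ _ => rfl)
  haveI tA'B'N' : IsScalarTower A' B' N' := IsScalarTower.of_algebraMap_smul (fun a x => by
    show algebraMap B' C' (algebraMap A' B' a) • x = a • x
    rw [← IsScalarTower.algebraMap_apply A' B' C', algebraMap_smul C' a x])
  -- the identification M' ≃ N'
  let θ : M' ≃ₗ[B'] N' :=
    hfB.equiv.symm ≪≫ₗ (Algebra.IsPushout.cancelBaseChange B B' C C' N).symm ≪≫ₗ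
      (hfC.equiv.restrictScalars B')
  constructor
  · intro HB r hr hle
    show Module.Flat A' (LocalizedModule r.primeCompl N')
    have hq : (IsLocalRing.maximalIdeal A').map (algebraMap A' B') ⊔
        (IsLocalRing.maximalIdeal B).map (algebraMap B B') ≤ r.comap (algebraMap B' C') := by
      refine sup_le ?_ ?_
      · rw [Ideal.map_le_iff_le_comap, Ideal.comap_comap, ← IsScalarTower.algebraMap_eq A' B' C',
          ← Ideal.map_le_iff_le_comap]
        exact le_sup_left.trans hle
      · rw [Ideal.map_le_iff_le_comap, Ideal.comap_comap, ← IsScalarTower.algebraMap_eq B B' C',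
          IsScalarTower.algebraMap_eq B C C', ← Ideal.comap_comap]
        have h1 : IsLocalRing.maximalIdeal C ≤ r.comap (algebraMap C C') :=
          Ideal.map_le_iff_le_comap.mp (le_sup_right.trans hle)
        refine le_trans ?_ (Ideal.comap_mono h1)
        rw [IsLocalRing.maximalIdeal_comap]
    haveI : (r.comap (algebraMap B' C')).IsPrime := Ideal.comap_isPrime _ _
    have hM : Module.Flat A' (LocalizedModule (r.comap (algebraMap B' C')).primeCompl M') :=
      HB (r.comap (algebraMap B' C')) hq
    exact asc_equiv (C' := C') M' N' θ r (r.comap (algebraMap B' C')) rfl hM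
  · intro HC q hqp hle
    show Module.Flat A' (LocalizedModule q.primeCompl M')
    have hqB : q.comap (algebraMap B B') = IsLocalRing.maximalIdeal B := by
      have hle' : IsLocalRing.maximalIdeal B ≤ q.comap (algebraMap B B') :=
        Ideal.map_le_iff_le_comap.mp (le_sup_right.trans hle)
      have hp : (q.comap (algebraMap B B')).IsPrime := Ideal.comap_isPrime _ _
      exact ((IsLocalRing.maximalIdeal.isMaximal B).eq_of_le hp.ne_top hle').symm
    refine desc_equiv (C' := C') M' N' θ q (fun r hr hrq => ?_)
    apply HC r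
    refine sup_le ?_ ?_
    · rw [Ideal.map_le_iff_le_comap, IsScalarTower.algebraMap_eq A' B' C', ← Ideal.comap_comap,
        hrq, ← Ideal.map_le_iff_le_comap]
      exact le_sup_left.trans hle
    · rw [Ideal.map_le_iff_le_comap]
      haveI hp : (r.comap (algebraMap C C')).IsPrime := Ideal.comap_isPrime _ _
      have hcomap : (r.comap (algebraMap C C')).comap (algebraMap B C) =
          IsLocalRing.maximalIdeal B := by
        rw [Ideal.comap_comap, ← IsScalarTower.algebraMap_eq B C C',
          IsScalarTower.algebraMap_eq B B' C', ← Ideal.comap_comap, hrq, hqB]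
      have hmax : (r.comap (algebraMap C C')).IsMaximal :=
        Ideal.isMaximal_of_isIntegral_of_isMaximal_comap (R := B) (S := C)
          (r.comap (algebraMap C C'))
          (by rw [hcomap]; exact IsLocalRing.maximalIdeal.isMaximal B)
      exact (IsLocalRing.eq_maximalIdeal hmax).ge

end Groth.Agent.S1278
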