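import Groth.Statements.S12782
import Mathlib
import Groth.Agent.Lib.Helper10.AlgStRep

set_option autoImplicit false
open CategoryTheory AlgebraicGeometry
universe u
open AlgSt

namespace Groth.Agent.S12782

/-- Consider a 2-commutative square of 1-morphisms of categories fibred in groupoids over `(Sch/S)` with
vertical arrows `f' : 𝒳' ⟶ 𝒴'`, `f : 𝒳 ⟶ 𝒴` and horizontal arrows equivalences over `(Sch/S)`. Then
`f` is representable by algebraic spaces with property `P` if and only if `f'` is. (The published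
statement assumes `P` stable under base change and fppf local on the base; this row holds for every
property `P`.) -/
theorem result {S : Scheme.{u}} {𝒳 𝒴 𝒳' 𝒴' : AlgSt.Cat S}
    (h𝒳 : FibCat.IsFibGrpd 𝒳.p) (h𝒴 : FibCat.IsFibGrpd 𝒴.p) (h𝒳' : FibCat.IsFibGrpd 𝒳'.p) (h𝒴' : FibCat.IsFibGrpd 𝒴'.p)
    (P : MorphismProperty (AlgSp.Sp S)) (f : 𝒳 ⥤ᵇ 𝒴) (f' : 𝒳' ⥤ᵇ 𝒴') (a : 𝒳' ⥤ᵇ 𝒳) (b : 𝒴' ⥤ᵇ 𝒴)
    (ha : FibCat.IsEquivOver a) (hb : FibCat.IsEquivOver b) (e : BasedFunctor.comp f' b ≅ BasedFunctor.comp a f) :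
    AlgSt.RepByAlgSpWith P f ↔ AlgSt.RepByAlgSpWith P f' := by
  constructor
  · intro hf U y'
    let e₁ : BasedFunctor.comp y' b ≅
        BasedFunctor.comp (BasedFunctor.id (FibCat.overCat U)) (BasedFunctor.comp y' b) :=
      Iso.refl _
    have := Groth.Agent.Lib.Helper10.Fib.IsEquivOver.isEquivalence hb
    have h2 := Groth.Agent.Lib.Helper10.Fib.isEquivOver_fpMap e₁ e
      (Groth.Agent.Lib.Helper10.Fib.isEquivOver_id _) ha
    exact Groth.Agent.Lib.Helper10.AlgStRep.repWith_of_equiv' P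
      (Groth.Agent.Lib.Helper10.Fib.fpMap e₁ e) h2
      (FibCat.fpFst y' f') (FibCat.fpFst (BasedFunctor.comp y' b) f)
      (fun Q => ⟨Iso.refl _, IsHomLift.id rfl⟩) (hf U (BasedFunctor.comp y' b))
  · intro hf' U y
    have := Groth.Agent.Lib.Helper10.Fib.IsEquivOver.isEquivalence hb
    obtain ⟨b', ⟨η⟩, ⟨ε⟩⟩ := hb
    let e₁ := Groth.Agent.Lib.Helper10.Fib.compInvIso y b' b ε
    have h2 := Groth.Agent.Lib.Helper10.Fib.isEquivOver_fpMap e₁ e
      (Groth.Agent.Lib.Helper10.Fib.isEquivOver_id _) ha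
    exact Groth.Agent.Lib.Helper10.AlgStRep.repWith_of_equiv P
      (Groth.Agent.Lib.Helper10.Fib.fpMap e₁ e) h2
      (FibCat.fpFst (BasedFunctor.comp y b') f') (FibCat.fpFst y f)
      (fun Q => ⟨Iso.refl _, IsHomLift.id rfl⟩) (hf' U (BasedFunctor.comp y b'))

end Groth.Agent.S12782
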