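import Groth.Statements.S12785
import Mathlib
import Groth.Agent.Lib.Helper10.FibBC

set_option autoImplicit false
open CategoryTheory CategoryTheory.Limits
universe v u
open FibCat

namespace Groth.Agent.S12785

/-- The composite of two representable 1-morphisms `f : 𝒳 ⟶ 𝒴`, `g : 𝒴 ⟶ 𝒵` of categories over `C` is a
representable 1-morphism. (The published statement is for categories fibred in groupoids over
schemes over a base; this row is stated for categories over any base category.) -/
theorem result {C : Type u} [Category.{v} C] {𝒳 𝒴 𝒵 : BasedCategory.{v, max u v} C}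
    (f : 𝒳 ⥤ᵇ 𝒴) (g : 𝒴 ⥤ᵇ 𝒵) (hf : FibCat.IsRepresentable1 f) (hg : FibCat.IsRepresentable1 g) :
    FibCat.IsRepresentable1 (BasedFunctor.comp f g) := by
  intro U G
  obtain ⟨V, K, hK⟩ := hg U G
  obtain ⟨E, hE⟩ := Groth.Agent.Lib.Helper10.StkPost.isEquivOver_symm hK
  have h1 := hf V (BasedFunctor.comp E (FibCat.fpSnd G g))
  let e₁ : BasedFunctor.comp (BasedFunctor.comp E (FibCat.fpSnd G g)) (BasedFunctor.id 𝒴) ≅
      BasedFunctor.comp E (FibCat.fpSnd G g) := Iso.refl _
  let e₂ : BasedFunctor.comp f (BasedFunctor.id 𝒴) ≅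
      BasedFunctor.comp (BasedFunctor.id 𝒳) f := Iso.refl _
  haveI : (BasedFunctor.id 𝒴).toFunctor.Full := by
    change (𝟭 𝒴.obj).Full
    infer_instance
  haveI : (BasedFunctor.id 𝒴).toFunctor.Faithful := by
    change (𝟭 𝒴.obj).Faithful
    infer_instance
  have h2 := Groth.Agent.Lib.Helper10.Fib.isEquivOver_fpMap e₁ e₂ hE
    (Groth.Agent.Lib.Helper10.Fib.isEquivOver_id 𝒳)
  have h3 := Groth.Agent.Lib.Helper10.Fib.isRepresentable_of_isEquivOver'
    (Groth.Agent.Lib.Helper10.Fib.fpMap e₁ e₂) h2 h1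
  exact Groth.Agent.Lib.Helper10.Fib.isRepresentable_of_isEquivOver'
    (Groth.Agent.Lib.Helper10.Fib.paste2 G g f)
    (Groth.Agent.Lib.Helper10.Fib.isEquivOver_paste2 G g f) h3

end Groth.Agent.S12785
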