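import Groth.Statements.S12788
import Groth.Agent.Lib.Helper28.AlgSt.Basic
import Groth.Agent.Lib.Helper10.FibSwap

set_option autoImplicit false
open CategoryTheory AlgebraicGeometry
universe u
open AlgSt

namespace Groth.Agent.S12788

/-- (3) ⇔ (7): for `𝒳` fibred in groupoids over `(Sch/S)`, every 1-morphism `(Sch/U) ⟶ 𝒳` from a scheme
is representable by algebraic spaces if and only if every 1-morphism `𝒰 ⟶ 𝒳` from a category fibred
in groupoids representable by an algebraic space is representable by algebraic spaces. (The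
categories `𝒰` range over categories over `(Sch/S)` with objects and morphisms in the universes of
the slice categories `(Sch/U)`.) -/
theorem result {S : Scheme.{u}} {𝒳 : AlgSt.Cat S} (h𝒳 : FibCat.IsFibGrpd 𝒳.p) :
    (∀ (U : Over S) (x : FibCat.overCat U ⥤ᵇ 𝒳), AlgSt.RepByAlgSp1 x) ↔
      ∀ (𝒰 : AlgSt.Cat S), FibCat.IsFibGrpd 𝒰.p → AlgSt.RepByAlgSp 𝒰 → ∀ (x : 𝒰 ⥤ᵇ 𝒳), AlgSt.RepByAlgSp1 x := by
  constructor
  · intro H 𝒰 _ hU x V y
    obtain ⟨F, e, he⟩ := hU
    obtain ⟨W, a, eW, heW, -⟩ := Groth.Agent.Lib.Helper28.AlgSt.Key.exists_space_fp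
      (Groth.Agent.Lib.Helper10.Fib.isFibGrpd_overForget V) h𝒳 y (H V y) F (BasedFunctor.comp e x)
    exact ⟨W, BasedFunctor.comp eW (BasedFunctor.comp
        (Groth.Agent.Lib.Helper28.AlgSt.Comp.fpPre e x y)
        (Groth.Agent.Lib.Helper10.Fib.fpSwap x y)),
      Groth.Agent.Lib.Helper10.Fib.isEquivOver_comp _ _ heW
        (Groth.Agent.Lib.Helper10.Fib.isEquivOver_comp _ _
          (Groth.Agent.Lib.Helper28.AlgSt.Comp.isEquivOver_fpPre e he x y)
          (Groth.Agent.Lib.Helper10.Fib.isEquivOver_fpSwap x y))⟩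
  · intro H U x
    exact H (FibCat.overCat U) (Groth.Agent.Lib.Helper10.Fib.isFibGrpd_overForget U)
      ⟨⟨(AlgSp.yon S).obj U, AlgSp.IsAlgSpace.yon_obj U⟩, AlgSt.toOverCat U,
        Groth.Agent.Lib.Helper28.AlgSt.Bridge.isEquivOver_toOverCat U⟩ x

end Groth.Agent.S12788
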