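import Groth.Statements.S12790
import Mathlib
import Groth.Agent.Lib.Helper16.AlgSt.ProdCover
import Groth.Agent.Lib.Helper10.FibSwap
import Groth.Agent.S12784
import Groth.Agent.S12785
import Groth.Agent.S12786
set_option backward.isDefEq.respectTransparency false
set_option backward.isDefEq.respectTransparency.types false

set_option autoImplicit false
open CategoryTheory CategoryTheory.Limits
universe v u
open FibCat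

namespace Groth.Agent.S12790

open Groth.Agent.Lib.Helper10.Fib Groth.Agent.Lib.Helper16.AlgStDC

section Aux

variable {C : Type u} [Category.{v} C]

theorem selfOver_hom_ext {𝒲 : BasedCategory.{v, max u v} C} {K₁ K₂ : 𝒲 ⥤ᵇ FibCat.selfOver C}
    (a b : K₁ ⟶ K₂) : a = b := by
  apply BasedNatTrans.ext
  apply NatTrans.ext
  funext w
  have h1 : (𝟭 C).IsHomLift (𝟙 (𝒲.p.obj w)) (a.toNatTrans.app w) := a.isHomLift' w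
  have h2 : (𝟭 C).IsHomLift (𝟙 (𝒲.p.obj w)) (b.toNatTrans.app w) := b.isHomLift' w
  have e1 := IsHomLift.fac' (𝟭 C) (𝟙 (𝒲.p.obj w)) (a.toNatTrans.app w)
  have e2 := IsHomLift.fac' (𝟭 C) (𝟙 (𝒲.p.obj w)) (b.toNatTrans.app w)
  exact e1.trans e2.symm

theorem basedFunctor_ext' {𝒜 ℬ : BasedCategory.{v, max u v} C}
    {ℬ' : BasedCategory.{v, u} C} {F G : 𝒜 ⥤ᵇ ℬ'}
    (h : F.toFunctor = G.toFunctor) : F = G := by
  cases F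
  cases G
  cases h
  rfl

theorem comp_toSelf' {𝒵 𝒴 : BasedCategory.{v, max u v} C} (b : 𝒵 ⥤ᵇ 𝒴) :
    BasedFunctor.comp b (FibCat.toSelf 𝒴) = FibCat.toSelf 𝒵 :=
  basedFunctor_ext' (𝒜 := 𝒵) (ℬ := 𝒴) b.w

variable {𝒳 𝒴 𝒵 : BasedCategory.{v, max u v} C} {𝒯 : BasedCategory.{v, u} C}

theorem isRepresentable1_fpSnd (z : 𝒵 ⥤ᵇ 𝒴) (f : 𝒳 ⥤ᵇ 𝒴) (hz : FibCat.IsRepresentable1 z) :
    FibCat.IsRepresentable1 (FibCat.fpSnd z f) :=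
  (Groth.Agent.S12784.result (FibCat.fpFst f z) (FibCat.fpSnd z f) (fpSwap z f)
    (BasedFunctor.id 𝒳) (isEquivOver_fpSwap z f) (isEquivOver_id _) (Iso.refl _)).1
    (Groth.Agent.S12786.result z f hz)

theorem isRepresentable1_prodR (F : 𝒳 ⥤ᵇ 𝒯) (g : 𝒴 ⥤ᵇ 𝒵) (t : 𝒵 ⥤ᵇ 𝒯)
    (hg : FibCat.IsRepresentable1 g) : FibCat.IsRepresentable1 (prodR F g t) :=
  (Groth.Agent.S12784.result (prodR F g t) (FibCat.fpFst (FibCat.fpSnd F t) g) (paste2 F t g)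
    (BasedFunctor.id _) (isEquivOver_paste2 F t g) (isEquivOver_id _) (prodRIso F g t)).2
    (Groth.Agent.S12786.result g (FibCat.fpSnd F t) hg)

theorem isRepresentable1_prodL (f : 𝒳 ⥤ᵇ 𝒵) (t : 𝒵 ⥤ᵇ 𝒯) (G : 𝒴 ⥤ᵇ 𝒯)
    (hf : FibCat.IsRepresentable1 f) : FibCat.IsRepresentable1 (prodL f t G) :=
  (Groth.Agent.S12784.result (prodL f t G) (FibCat.fpSnd f (FibCat.fpFst t G)) (paste1 f t G)
    (BasedFunctor.id _) (isEquivOver_paste1 f t G) (isEquivOver_id _) (prodLIso f t G)).2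
    (isRepresentable1_fpSnd f (FibCat.fpFst t G) hf)

theorem isRepresentable1_prodMap_aux {𝒳₁ 𝒳₂ 𝒴₁ 𝒴₂ : BasedCategory.{v, max u v} C}
    (f₁ : 𝒳₁ ⥤ᵇ 𝒴₁) (f₂ : 𝒳₂ ⥤ᵇ 𝒴₂) (t₁ : 𝒴₁ ⥤ᵇ 𝒯) (t₂ : 𝒴₂ ⥤ᵇ 𝒯)
    (hf₁ : FibCat.IsRepresentable1 f₁) (hf₂ : FibCat.IsRepresentable1 f₂) :
    FibCat.IsRepresentable1
      (FibCat.fpLift
        (BasedFunctor.comp (FibCat.fpFst (BasedFunctor.comp f₁ t₁) (BasedFunctor.comp f₂ t₂)) f₁)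
        (BasedFunctor.comp (FibCat.fpSnd (BasedFunctor.comp f₁ t₁) (BasedFunctor.comp f₂ t₂)) f₂)
        (FibCat.fpIso (BasedFunctor.comp f₁ t₁) (BasedFunctor.comp f₂ t₂))) :=
  Groth.Agent.S12785.result (prodR (BasedFunctor.comp f₁ t₁) f₂ t₂) (prodL f₁ t₁ t₂)
    (isRepresentable1_prodR _ f₂ t₂ hf₂) (isRepresentable1_prodL f₁ t₁ t₂ hf₁)

theorem isRepresentable1_prodMap_aux2 {𝒳₁ 𝒳₂ 𝒴₁ 𝒴₂ : BasedCategory.{v, max u v} C}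
    (f₁ : 𝒳₁ ⥤ᵇ 𝒴₁) (f₂ : 𝒳₂ ⥤ᵇ 𝒴₂)
    (hf₁ : FibCat.IsRepresentable1 f₁) (hf₂ : FibCat.IsRepresentable1 f₂)
    (p₁ : 𝒳₁ ⥤ᵇ FibCat.selfOver C) (p₂ : 𝒳₂ ⥤ᵇ FibCat.selfOver C)
    (h₁ : BasedFunctor.comp f₁ (FibCat.toSelf 𝒴₁) = p₁)
    (h₂ : BasedFunctor.comp f₂ (FibCat.toSelf 𝒴₂) = p₂)
    (e : BasedFunctor.comp (BasedFunctor.comp (FibCat.fpFst p₁ p₂) f₁) (FibCat.toSelf 𝒴₁) ≅
      BasedFunctor.comp (BasedFunctor.comp (FibCat.fpSnd p₁ p₂) f₂) (FibCat.toSelf 𝒴₂)) :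
    FibCat.IsRepresentable1
      (FibCat.fpLift (BasedFunctor.comp (FibCat.fpFst p₁ p₂) f₁)
        (BasedFunctor.comp (FibCat.fpSnd p₁ p₂) f₂) e) := by
  subst h₁
  subst h₂
  have he : e = FibCat.fpIso (BasedFunctor.comp f₁ (FibCat.toSelf 𝒴₁))
      (BasedFunctor.comp f₂ (FibCat.toSelf 𝒴₂)) := Iso.ext (selfOver_hom_ext _ _)
  subst he
  exact isRepresentable1_prodMap_aux f₁ f₂ (FibCat.toSelf 𝒴₁) (FibCat.toSelf 𝒴₂) hf₁ hf₂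

end Aux

/-- For representable 1-morphisms `f₁ : 𝒳₁ ⟶ 𝒴₁`, `f₂ : 𝒳₂ ⟶ 𝒴₂` of categories over `C`, the product `f₁
× f₂ : 𝒳₁ × 𝒳₂ ⟶ 𝒴₁ × 𝒴₂` (products over `C`; the functor induced on 2-fibre products, for any
choice of the 2-isomorphism `e` filling the square) is a representable 1-morphism. (The published
statement is for categories fibred in groupoids over schemes over a base; this row is stated for
categories over any base category.) -/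
theorem result {C : Type u} [Category.{v} C] {𝒳₁ 𝒳₂ 𝒴₁ 𝒴₂ : BasedCategory.{v, max u v} C}
    (f₁ : 𝒳₁ ⥤ᵇ 𝒴₁) (f₂ : 𝒳₂ ⥤ᵇ 𝒴₂) (hf₁ : FibCat.IsRepresentable1 f₁) (hf₂ : FibCat.IsRepresentable1 f₂)
    (e : BasedFunctor.comp (BasedFunctor.comp (FibCat.fpFst (FibCat.toSelf 𝒳₁) (FibCat.toSelf 𝒳₂)) f₁) (FibCat.toSelf 𝒴₁) ≅ BasedFunctor.comp (BasedFunctor.comp (FibCat.fpSnd (FibCat.toSelf 𝒳₁) (FibCat.toSelf 𝒳₂)) f₂) (FibCat.toSelf 𝒴₂)) :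
    FibCat.IsRepresentable1 (FibCat.fpLift (BasedFunctor.comp (FibCat.fpFst (FibCat.toSelf 𝒳₁) (FibCat.toSelf 𝒳₂)) f₁) (BasedFunctor.comp (FibCat.fpSnd (FibCat.toSelf 𝒳₁) (FibCat.toSelf 𝒳₂)) f₂) e) := by
  exact isRepresentable1_prodMap_aux2 f₁ f₂ hf₁ hf₂ _ _ (comp_toSelf' f₁) (comp_toSelf' f₂) e

end Groth.Agent.S12790
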