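import Groth.Statements.S12789
import Mathlib
import Groth.Agent.Lib.Helper16.AlgSt.DiagToSelf
import Groth.Agent.S12790
set_option backward.isDefEq.respectTransparency false
set_option backward.isDefEq.respectTransparency.types false

set_option autoImplicit false
open CategoryTheory AlgebraicGeometry
universe u
open AlgSt

namespace Groth.Agent.S12789

open Groth.Agent.Lib.Helper10.Fib Groth.Agent.Lib.Helper16.AlgStDC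
open Groth.Agent.Lib.Helper28.AlgSt.PropInst Groth.Agent.Lib.Helper28.AlgSt.DiagComp
open Groth.Agent.Lib.Helper28.AlgSt.FpStack

section Aux

variable {S : Scheme.{u}} {𝒳₁ 𝒳₂ 𝒴₁ 𝒴₂ 𝒯 : AlgSt.Cat S}

theorem repByAlgSpWith_prodMap_aux {P : MorphismProperty (AlgSp.Sp S)} (hP : Good P)
    (h𝒳₁ : FibCat.IsFibGrpd 𝒳₁.p) (h𝒳₂ : FibCat.IsFibGrpd 𝒳₂.p) (h𝒴₁ : FibCat.IsFibGrpd 𝒴₁.p)
    (h𝒴₂ : FibCat.IsFibGrpd 𝒴₂.p) (h𝒯 : FibCat.IsFibGrpd 𝒯.p)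
    (f₁ : 𝒳₁ ⥤ᵇ 𝒴₁) (f₂ : 𝒳₂ ⥤ᵇ 𝒴₂) (t₁ : 𝒴₁ ⥤ᵇ 𝒯) (t₂ : 𝒴₂ ⥤ᵇ 𝒯)
    (hf₁ : AlgSt.RepByAlgSpWith P f₁) (hf₂ : AlgSt.RepByAlgSpWith P f₂) :
    AlgSt.RepByAlgSpWith P
      (FibCat.fpLift
        (BasedFunctor.comp (FibCat.fpFst (BasedFunctor.comp f₁ t₁) (BasedFunctor.comp f₂ t₂)) f₁)
        (BasedFunctor.comp (FibCat.fpSnd (BasedFunctor.comp f₁ t₁) (BasedFunctor.comp f₂ t₂)) f₂)
        (FibCat.fpIso (BasedFunctor.comp f₁ t₁) (BasedFunctor.comp f₂ t₂))) :=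
  repByAlgSpWith_comp_good hP (isFibGrpd_fp _ _ h𝒳₁ h𝒳₂ h𝒯) (isFibGrpd_fp _ _ h𝒳₁ h𝒴₂ h𝒯)
    (prodR (BasedFunctor.comp f₁ t₁) f₂ t₂) (prodL f₁ t₁ t₂)
    (repByAlgSpWith_prodR P _ f₂ t₂ hf₂) (repByAlgSpWith_prodL P f₁ t₁ t₂ hf₁)

theorem repByAlgSpWith_prodMap_aux2 {P : MorphismProperty (AlgSp.Sp S)} (hP : Good P)
    (h𝒳₁ : FibCat.IsFibGrpd 𝒳₁.p) (h𝒳₂ : FibCat.IsFibGrpd 𝒳₂.p) (h𝒴₁ : FibCat.IsFibGrpd 𝒴₁.p)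
    (h𝒴₂ : FibCat.IsFibGrpd 𝒴₂.p)
    (f₁ : 𝒳₁ ⥤ᵇ 𝒴₁) (f₂ : 𝒳₂ ⥤ᵇ 𝒴₂)
    (hf₁ : AlgSt.RepByAlgSpWith P f₁) (hf₂ : AlgSt.RepByAlgSpWith P f₂)
    (p₁ : 𝒳₁ ⥤ᵇ FibCat.selfOver (Over S)) (p₂ : 𝒳₂ ⥤ᵇ FibCat.selfOver (Over S))
    (h₁ : BasedFunctor.comp f₁ (FibCat.toSelf 𝒴₁) = p₁)
    (h₂ : BasedFunctor.comp f₂ (FibCat.toSelf 𝒴₂) = p₂)
    (e : BasedFunctor.comp (BasedFunctor.comp (FibCat.fpFst p₁ p₂) f₁) (FibCat.toSelf 𝒴₁) ≅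
      BasedFunctor.comp (BasedFunctor.comp (FibCat.fpSnd p₁ p₂) f₂) (FibCat.toSelf 𝒴₂)) :
    AlgSt.RepByAlgSpWith P
      (FibCat.fpLift (BasedFunctor.comp (FibCat.fpFst p₁ p₂) f₁)
        (BasedFunctor.comp (FibCat.fpSnd p₁ p₂) f₂) e) := by
  subst h₁
  subst h₂
  have he : e = FibCat.fpIso (BasedFunctor.comp f₁ (FibCat.toSelf 𝒴₁))
      (BasedFunctor.comp f₂ (FibCat.toSelf 𝒴₂)) :=
    Iso.ext (Groth.Agent.S12790.selfOver_hom_ext _ _)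
  subst he
  exact repByAlgSpWith_prodMap_aux hP h𝒳₁ h𝒳₂ h𝒴₁ h𝒴₂ (isFibGrpd_selfOver (Over S)) f₁ f₂
    (FibCat.toSelf 𝒴₁) (FibCat.toSelf 𝒴₂) hf₁ hf₂

end Aux

/-- Let `P` be a property of morphisms of algebraic spaces which is stable under base change, fppf local
on the base and stable under composition, and `f₁ : 𝒳₁ ⟶ 𝒴₁`, `f₂ : 𝒳₂ ⟶ 𝒴₂` 1-morphisms of
categories fibred in groupoids over `(Sch/S)` which are representable by algebraic spaces and have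
`P`. Then `f₁ × f₂ : 𝒳₁ × 𝒳₂ ⟶ 𝒴₁ × 𝒴₂` (products over the base category; the functor induced on
2-fibre products, for any choice of the 2-isomorphism `e` filling the square) has `P`. (Stability
under base change is asked for every pullback square of fppf sheaves whose four corners are
algebraic spaces, and stability under composition for composable morphisms between algebraic
spaces.) -/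
theorem result {S : Scheme.{u}} {𝒳₁ 𝒳₂ 𝒴₁ 𝒴₂ : AlgSt.Cat S}
    (h𝒳₁ : FibCat.IsFibGrpd 𝒳₁.p) (h𝒳₂ : FibCat.IsFibGrpd 𝒳₂.p) (h𝒴₁ : FibCat.IsFibGrpd 𝒴₁.p) (h𝒴₂ : FibCat.IsFibGrpd 𝒴₂.p)
    (P : MorphismProperty (AlgSp.Sp S))
    (hPb : ∀ ⦃X₁ Y₁ X₂ Y₂ : AlgSp.Sp S⦄, AlgSp.IsAlgSpace X₁ → AlgSp.IsAlgSpace Y₁ → AlgSp.IsAlgSpace X₂ →
      AlgSp.IsAlgSpace Y₂ → ∀ (a : X₁ ⟶ Y₁) (b : Y₂ ⟶ Y₁) (a' : X₂ ⟶ Y₂) (b' : X₂ ⟶ X₁),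
      IsPullback b' a' a b → P a → P a')
    (hPc : ∀ ⦃X Y Z : AlgSp.Sp S⦄, AlgSp.IsAlgSpace X → AlgSp.IsAlgSpace Y → AlgSp.IsAlgSpace Z →
      ∀ (a : X ⟶ Y) (b : Y ⟶ Z), P a → P b → P (a ≫ b))
    (hP : AlgSp.IsLocalOnBase AlgSp.IsFppfCover P)
    (f₁ : 𝒳₁ ⥤ᵇ 𝒴₁) (f₂ : 𝒳₂ ⥤ᵇ 𝒴₂) (hf₁ : AlgSt.RepByAlgSpWith P f₁) (hf₂ : AlgSt.RepByAlgSpWith P f₂)
    (e : BasedFunctor.comp (BasedFunctor.comp (FibCat.fpFst (FibCat.toSelf 𝒳₁) (FibCat.toSelf 𝒳₂)) f₁) (FibCat.toSelf 𝒴₁) ≅ BasedFunctor.comp (BasedFunctor.comp (FibCat.fpSnd (FibCat.toSelf 𝒳₁) (FibCat.toSelf 𝒳₂)) f₂) (FibCat.toSelf 𝒴₂)) :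
    AlgSt.RepByAlgSpWith P (FibCat.fpLift (BasedFunctor.comp (FibCat.fpFst (FibCat.toSelf 𝒳₁) (FibCat.toSelf 𝒳₂)) f₁) (BasedFunctor.comp (FibCat.fpSnd (FibCat.toSelf 𝒳₁) (FibCat.toSelf 𝒳₂)) f₂) e) := by
  exact repByAlgSpWith_prodMap_aux2 ⟨hPb, hPc, hP⟩ h𝒳₁ h𝒳₂ h𝒴₁ h𝒴₂ f₁ f₂ hf₁ hf₂ _ _
    (Groth.Agent.S12790.comp_toSelf' f₁) (Groth.Agent.S12790.comp_toSelf' f₂) e

end Groth.Agent.S12789
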