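import Groth.Statements.S13040
import Mathlib
import Groth.Agent.S12977
import Groth.Agent.Lib.Helper10.Fib4
import Groth.Agent.Lib.Helper10.FibGrpd

set_option autoImplicit false
universe u
open CategoryTheory AlgebraicGeometry
open AlgSt

namespace Groth.Agent.S13040

open Groth.Agent.Lib.Helper10.Fib in
theorem inertia_equiv_iff {C : Type*} [Category C] {𝒳 𝒴 : BasedCategory C}
    (h𝒳 : FibCat.IsFibGrpd 𝒳.p) (f : 𝒳 ⥤ᵇ 𝒴) :
    FibCat.IsEquivOver (FibCat.inertiaToBase f) ↔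
      ∀ (a : 𝒳.obj) (φ : a ⟶ a), 𝒳.p.map φ = 𝟙 (𝒳.p.obj a) → f.map φ = 𝟙 (f.obj a) → φ = 𝟙 a := by
  constructor
  · intro hE a φ hpφ hfφ
    haveI : IsIso (𝒳.p.map φ) := by rw [hpφ]; infer_instance
    haveI : IsIso φ := IsFibGrpd.isIso_of_isIso_map h𝒳 φ
    haveI := IsEquivOver.isEquivalence hE
    obtain ⟨ψ, hψ⟩ := (FibCat.inertiaToBase f).toFunctor.map_surjective
      (X := (⟨a, asIso φ, hfφ⟩ : FibCat.InertiaObj f))
      (Y := (⟨a, Iso.refl a, f.toFunctor.map_id a⟩ : FibCat.InertiaObj f)) (𝟙 a)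
    have hψ' : ψ.hom = 𝟙 a := hψ
    have := ψ.comm
    rw [hψ'] at this
    simpa using this
  · intro H
    haveI : (FibCat.inertiaToBase f).toFunctor.Faithful :=
      ⟨fun {A B} m m' h => FibCat.InertiaObj.hom_ext h⟩
    have htriv : ∀ A : FibCat.InertiaObj f, A.aut.hom = 𝟙 A.pt := by
      intro A
      refine H A.pt A.aut.hom ?_ A.map_aut
      have h1 := Functor.congr_hom f.w.symm A.aut.hom
      rw [h1, Functor.comp_map]
      have h2 : f.toFunctor.map A.aut.hom = 𝟙 _ := A.map_aut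
      rw [h2, 𝒴.p.map_id]
      simp
    haveI : (FibCat.inertiaToBase f).toFunctor.Full :=
      ⟨fun {A B} φ => ⟨⟨φ, by rw [htriv A, htriv B, Category.id_comp, Category.comp_id]⟩, rfl⟩⟩
    apply isEquivOver_of_ff
    intro x
    exact ⟨⟨x, Iso.refl x, f.toFunctor.map_id x⟩, Iso.refl _, IsHomLift.id rfl⟩

/-- A morphism f : 𝒳 → 𝒴 between algebraic stacks is representable by algebraic spaces exactly when the
relative inertia 𝓘_{𝒳/𝒴} is trivial over 𝒳, that is its structure functor to 𝒳 is an equivalence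
over the base. -/
theorem result
    (S : Scheme.{u}) (𝒳 : AlgSt.Cat S) (𝒴 : AlgSt.Cat S)
    (h𝒳 : AlgSt.IsAlgStack Scheme.fppfPrecoverage 𝒳)
    (h𝒴 : AlgSt.IsAlgStack Scheme.fppfPrecoverage 𝒴)
    (f : 𝒳 ⥤ᵇ 𝒴) :
    AlgSt.RepByAlgSp1 f ↔ FibCat.IsEquivOver (FibCat.inertiaToBase f) := by
  rw [Groth.Agent.S12977.result S 𝒳 𝒴 h𝒳 h𝒴 f, inertia_equiv_iff h𝒳.isStack.1 f]

end Groth.Agent.S13040
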