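import Groth.Statements.S12791
import Mathlib
import Groth.Agent.S13040
import Groth.Agent.S12761

set_option autoImplicit false
open CategoryTheory AlgebraicGeometry
universe u
open AlgSt

namespace Groth.Agent.S12791

open Groth.Agent.Lib.Helper10.Fib in
theorem isFibSetoid_iff_aut {C : Type*} [Category C] {𝒳 : BasedCategory C}
    (h : FibCat.IsFibGrpd 𝒳.p) :
    FibCat.IsFibSetoid 𝒳.p ↔
      ∀ (a : 𝒳.obj) (φ : a ⟶ a), 𝒳.p.map φ = 𝟙 (𝒳.p.obj a) → φ = 𝟙 a := by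
  constructor
  · intro hs a φ hpφ
    have hl : 𝒳.p.IsHomLift (𝟙 (𝒳.p.obj a)) φ := by
      have : 𝒳.p.IsHomLift (𝒳.p.map φ) φ := inferInstance
      rwa [hpφ] at this
    have hl' : 𝒳.p.IsHomLift (𝟙 (𝒳.p.obj a)) (𝟙 a) := IsHomLift.id rfl
    let A : 𝒳.p.Fiber (𝒳.p.obj a) := ⟨a, rfl⟩
    have e : (⟨φ, hl⟩ : A ⟶ A) = ⟨𝟙 a, hl'⟩ := (hs.2 _ A A).elim _ _
    exact congrArg (fun t => Functor.Fiber.fiberInclusion.map t) e
  · intro H
    refine ⟨h, fun U X Y => ⟨fun m m' => ?_⟩⟩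
    haveI := IsFibGrpd.isGroupoid_fiber h U
    have key : m ≫ inv m' = 𝟙 X := by
      apply Subtype.ext
      refine H X.1 (m ≫ inv m').1 ?_
      haveI := (m ≫ inv m').2
      have := IsHomLift.fac' 𝒳.p (𝟙 U) (m ≫ inv m').1
      simpa using this
    calc m = (m ≫ inv m') ≫ m' := by simp
      _ = m' := by rw [key, Category.id_comp]

/-- (2) ⇔ (3): for an algebraic stack `𝒳` over `S`, the canonical 1-morphism `I_𝒳 ⟶ 𝒳` from the inertia
is an equivalence over `(Sch/S)` if and only if `𝒳` is representable by an algebraic space. -/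
theorem result {S : Scheme.{u}} {𝒳 : AlgSt.Cat S}
    (h𝒳 : AlgSt.IsAlgStack Scheme.fppfPrecoverage 𝒳) :
    FibCat.IsEquivOver (FibCat.inertiaToBase (FibCat.toSelf 𝒳)) ↔ AlgSt.RepByAlgSp 𝒳 := by
  rw [← Groth.Agent.S12761.result h𝒳, Groth.Agent.S13040.inertia_equiv_iff h𝒳.isStack.1,
    isFibSetoid_iff_aut h𝒳.isStack.1]
  constructor
  · intro H a φ hφ
    exact H a φ hφ hφ
  · intro H a φ hφ _
    exact H a φ hφ

end Groth.Agent.S12791
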