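import Groth.Statements.S12794
import Mathlib
import Groth.Agent.Lib.Helper10.StkLoc

set_option autoImplicit false
open CategoryTheory
universe w v u
open Stk

namespace Groth.Agent.S12794

open Groth.Agent.Lib.Helper10.Fib Groth.Agent.Lib.Helper10.StkLoc

/-- Let `𝒳`, `𝒴` be stacks in groupoids over `C` for the topology `J` and `F : 𝒳 ⟶ 𝒴` a functor over `C`
whose underlying functor is fully faithful. Then `F` is an equivalence over `C` if and only if every
object `y` of `𝒴` is locally in the essential image: there is a covering sieve `R` of the object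
under `y` such that for every arrow `f` of `R` some object `x` of `𝒳` has a morphism `F x ⟶ y` lying
over `f` (equivalently, the pullback of `y` along `f` is isomorphic in its fibre to an object in the
image of `F`). (The published statement is for stacks over the site, not necessarily in groupoids,
and 1-morphisms of stacks; this row treats stacks in groupoids.) -/
theorem result {C : Type u} [Category.{v} C] (J : GrothendieckTopology C) {𝒳 𝒴 : BasedCategory.{v, max u v} C}
    (h𝒳 : Stk.IsStack J 𝒳) (h𝒴 : Stk.IsStack J 𝒴) (F : 𝒳 ⥤ᵇ 𝒴) [F.toFunctor.Full] [F.toFunctor.Faithful] :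
    FibCat.IsEquivOver F ↔
      ∀ y : 𝒴.obj, ∃ R ∈ J (𝒴.p.obj y), ∀ ⦃V : C⦄ (f : V ⟶ 𝒴.p.obj y), R f →
        ∃ (x : 𝒳.obj) (φ : F.obj x ⟶ y), 𝒴.p.IsHomLift f φ := by
  constructor
  · intro hF y
    obtain ⟨x, e, he⟩ := IsEquivOver.exists_iso hF y
    refine ⟨⊤, J.top_mem _, ?_⟩
    intro V f _
    have := he
    have hx : 𝒳.p.obj x = 𝒴.p.obj y :=
      (F.w_obj x).symm.trans (IsHomLift.domain_eq 𝒴.p (𝟙 (𝒴.p.obj y)) e.hom)
    obtain ⟨x', ψ, hψ⟩ := IsFibGrpd.exists_lift' h𝒳.1 hx f
    have := hψ
    exact ⟨x', F.map ψ ≫ e.hom, inferInstance⟩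
  · intro hloc
    apply isEquivOver_of_ff F
    intro y
    obtain ⟨R, hR, hl⟩ := hloc y
    exact exists_iso_of_locally J h𝒳 h𝒴 F y R hR hl

end Groth.Agent.S12794
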