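import Groth.Statements.S12797
import Mathlib
import Groth.Agent.Lib.Helper10.StkPsh
import Groth.Agent.Lib.Helper10.StkPost
import Groth.Agent.Lib.Helper10.Fib4

set_option autoImplicit false
open CategoryTheory
universe w v u
open Stk

namespace Groth.Agent.S12797


/-- The comparison functor from the slice to the category of the representable presheaf. -/
def toPsh {C : Type u} [Category.{v} C] (U : C) :
    FibCat.overCat U ⥤ᵇ Stk.ofPsh (yoneda.obj U) where
  toFunctor :=
    { obj := fun A => ⟨A.left, A.hom⟩
      map := fun {A B} k => ⟨k.left, Over.w k⟩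
      map_id := fun _ => Stk.EltObj.hom_ext rfl
      map_comp := fun _ _ => Stk.EltObj.hom_ext rfl }
  w := rfl

instance {C : Type u} [Category.{v} C] (U : C) : (toPsh U).toFunctor.Faithful where
  map_injective := fun {A B} k₁ k₂ h => by
    apply Over.OverMorphism.ext
    exact congrArg Stk.EltObj.Hom.hom h

instance {C : Type u} [Category.{v} C] (U : C) : (toPsh U).toFunctor.Full where
  map_surjective := fun {A B} φ => ⟨Over.homMk φ.hom φ.map_sec, Stk.EltObj.hom_ext rfl⟩

theorem isEquivOver_toPsh {C : Type u} [Category.{v} C] (U : C) : FibCat.IsEquivOver (toPsh U) := by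
  apply Groth.Agent.Lib.Helper10.Fib.isEquivOver_of_ff
  intro y
  refine ⟨Over.mk y.sec, Iso.refl _, ?_⟩
  exact IsHomLift.id rfl

/-- For an object `U` of `C`, the slice category `C/U` with its forgetful functor to `C` is a stack in
groupoids for the topology `J` if and only if the representable presheaf `h_U` is a sheaf for `J`. -/
theorem result {C : Type u} [Category.{v} C] (J : GrothendieckTopology C) (U : C) :
    Stk.IsStack J (FibCat.overCat U) ↔ Presieve.IsSheaf J (yoneda.obj U) := by
  exact (Groth.Agent.Lib.Helper10.StkPost.isStack_iff_of_isEquivOver J (toPsh U)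
    (isEquivOver_toPsh U)).trans (Groth.Agent.Lib.Helper10.StkPsh.isStack_ofPsh_iff J (yoneda.obj U))

end Groth.Agent.S12797
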