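import Groth.Statements.S12798
import Mathlib
import Groth.Agent.Lib.Helper10.HomSheaf

set_option autoImplicit false
open CategoryTheory
universe w v u
open Stk

namespace Groth.Agent.S12798


open Groth.Agent.Lib.Helper10 Groth.Agent.Lib.Helper10.Fib CategoryTheory Functor

set_option linter.style.haveILetI false

/-- Let `𝒮₁`, `𝒮₂`, `𝒯₁` be stacks in groupoids over `C` for the topology `J`, and `F : 𝒮₂ ⟶ 𝒮₁`, `G :
𝒯₁ ⟶ 𝒮₁` functors over `C` such that every object of `𝒮₁` is locally in the essential image of `F`.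
If the first projection `𝒮₂ ×_{𝒮₁} 𝒯₁ ⟶ 𝒮₂` of the 2-fibre product over `C` is faithful, then `G` is
faithful. (The published statement is for any 2-cartesian square of stacks in groupoids; this row is
the case of the explicit 2-fibre product, to which the general case reduces because faithfulness is
invariant under equivalence.) -/
theorem result {C : Type u} [Category.{v} C] (J : GrothendieckTopology C) {𝒮₁ 𝒮₂ 𝒯₁ : BasedCategory.{v, max u v} C}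
    (h₁ : Stk.IsStack J 𝒮₁) (h₂ : Stk.IsStack J 𝒮₂) (h₃ : Stk.IsStack J 𝒯₁) (F : 𝒮₂ ⥤ᵇ 𝒮₁) (G : 𝒯₁ ⥤ᵇ 𝒮₁)
    (hF : ∀ y : 𝒮₁.obj, ∃ R ∈ J (𝒮₁.p.obj y), ∀ ⦃V : C⦄ (f : V ⟶ 𝒮₁.p.obj y), R f →
      ∃ (x : 𝒮₂.obj) (φ : F.obj x ⟶ y), 𝒮₁.p.IsHomLift f φ)
    (hG' : (FibCat.fpFst F G).toFunctor.Faithful) : G.toFunctor.Faithful := by
  refine ⟨fun {t t'} n₁ n₂ hn => ?_⟩
  have h𝒯 := h₃.1
  have h𝒮 := h₁.1
  obtain ⟨h, hh⟩ : ∃ h : 𝒯₁.p.obj t ⟶ 𝒯₁.p.obj t', h = 𝒯₁.p.map n₁ := ⟨_, rfl⟩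
  haveI l1 : 𝒯₁.p.IsHomLift h n₁ := by rw [hh]; exact IsHomLift.map 𝒯₁.p n₁
  haveI l2 : 𝒯₁.p.IsHomLift h n₂ := by
    rw [← BasedFunctor.isHomLift_iff G]
    show 𝒮₁.p.IsHomLift h (G.toFunctor.map n₂)
    rw [← hn]; infer_instance
  obtain ⟨α, hα, eα⟩ := Gerbe.exists_factor h𝒯 h n₂ n₁
  haveI := hα
  haveI scn : 𝒮₁.p.IsStronglyCartesian h (G.map n₁) := IsFibGrpd.sc h𝒮 _ _
  have hGα : G.map α = 𝟙 (G.obj t) := by
    haveI : 𝒮₁.p.IsHomLift (𝟙 (𝒯₁.p.obj t)) (𝟙 (G.obj t)) := IsHomLift.id (G.w_obj t)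
    apply IsStronglyCartesian.ext 𝒮₁.p h (G.map n₁) (𝟙 (𝒯₁.p.obj t))
    rw [← Functor.map_comp, eα, Category.id_comp, hn]
  obtain ⟨R, hR, Hloc⟩ := hF (G.obj t)
  have hx : 𝒯₁.p.obj t = 𝒮₁.p.obj (G.obj t) := (G.w_obj t).symm
  haveI hα' : 𝒯₁.p.IsHomLift (𝟙 (𝒮₁.p.obj (G.obj t))) α := isHomLift_id_of_eq 𝒯₁.p hx α
  have hα1 : α = 𝟙 t := by
    refine HomSheaf.sep R h𝒯 (HomSheaf.faithful_of_isStack R J h₃ hR) hx α (𝟙 t) hα'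
      (IsHomLift.id hx) ?_
    intro V f hf t₀ χ hχ
    haveI := hχ
    obtain ⟨x, φ, hφ⟩ := Hloc f hf
    haveI := hφ
    obtain ⟨α₀, hα₀, eα₀⟩ := Gerbe.exists_factor h𝒯 f (χ ≫ α) χ
    haveI := hα₀
    haveI scχ : 𝒮₁.p.IsStronglyCartesian f (G.map χ) := IsFibGrpd.sc h𝒮 _ _
    have ht₀ : 𝒯₁.p.obj t₀ = V := IsHomLift.domain_eq 𝒯₁.p f χ
    have hGα₀ : G.map α₀ = 𝟙 (G.obj t₀) := by
      haveI : 𝒮₁.p.IsHomLift (𝟙 V) (𝟙 (G.obj t₀)) := IsHomLift.id ((G.w_obj t₀).trans ht₀)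
      apply IsStronglyCartesian.ext 𝒮₁.p f (G.map χ) (𝟙 V)
      rw [← Functor.map_comp, eα₀, Functor.map_comp, hGα, Category.comp_id, Category.id_comp]
    obtain ⟨θ, hθ, eθ⟩ := Gerbe.exists_factor_iso h𝒮 f φ (G.map χ)
    have hxV : 𝒮₂.p.obj x = V := (F.w_obj x).symm.trans (IsHomLift.domain_eq 𝒮₁.p f φ)
    haveI := hθ
    have hθ' : 𝒮₁.p.IsHomLift (𝟙 (𝒮₂.p.obj x)) θ.hom := isHomLift_id_of_eq 𝒮₁.p hxV.symm _
    let P := Gerbe.fpObj F G x t₀ θ hθ'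
    have w : F.map (𝟙 x) ≫ θ.hom = θ.hom ≫ G.map α₀ := by
      rw [hGα₀, CategoryTheory.Functor.map_id, Category.id_comp, Category.comp_id]
    let m₁ : P ⟶ P := Gerbe.fpHom F G (P := P) (Q := P) (𝟙 x) α₀ w
    have e1 : (FibCat.fpFst F G).toFunctor.map m₁ = (FibCat.fpFst F G).toFunctor.map (𝟙 P) := by
      rw [CategoryTheory.Functor.map_id]; rfl
    have e2 : m₁ = 𝟙 P := hG'.map_injective e1
    have e3 : α₀ = 𝟙 t₀ := congrArg (fun m : P ⟶ P => m.hom.snd) e2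
    rw [Category.comp_id, ← eα₀, e3, Category.id_comp]
  rw [← eα, hα1, Category.id_comp]

end Groth.Agent.S12798
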