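import Groth.Statements.S12799
import Mathlib
import Groth.Agent.Lib.Helper10.HomSheaf

set_option autoImplicit false
open CategoryTheory
universe w v u
open Stk

namespace Groth.Agent.S12799


open Groth.Agent.Lib.Helper10 Groth.Agent.Lib.Helper10.Fib CategoryTheory Functor

set_option linter.style.haveILetI false

/-- Let `𝒮₁`, `𝒮₂`, `𝒯₁` be stacks in groupoids over `C` for the topology `J`, `F : 𝒮₂ ⟶ 𝒮₁` a functor
over `C` whose underlying functor is fully faithful and such that every object of `𝒮₁` is locally in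
the essential image of `F`, and `G : 𝒯₁ ⟶ 𝒮₁` a functor over `C`. If the 2-fibre product `𝒮₂ ×_{𝒮₁}
𝒯₁` over `C` is fibred in setoids, then `𝒯₁` is fibred in setoids, hence a stack in setoids. (The
published statement is for any 2-cartesian square of stacks in groupoids; this row is the case of
the explicit 2-fibre product, to which the general case reduces because being fibred in setoids is
invariant under equivalence over `C`.) -/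
theorem result {C : Type u} [Category.{v} C] (J : GrothendieckTopology C) {𝒮₁ 𝒮₂ 𝒯₁ : BasedCategory.{v, max u v} C}
    (h₁ : Stk.IsStack J 𝒮₁) (h₂ : Stk.IsStack J 𝒮₂) (h₃ : Stk.IsStack J 𝒯₁) (F : 𝒮₂ ⥤ᵇ 𝒮₁) [F.toFunctor.Full] [F.toFunctor.Faithful]
    (hF : ∀ y : 𝒮₁.obj, ∃ R ∈ J (𝒮₁.p.obj y), ∀ ⦃V : C⦄ (f : V ⟶ 𝒮₁.p.obj y), R f →
      ∃ (x : 𝒮₂.obj) (φ : F.obj x ⟶ y), 𝒮₁.p.IsHomLift f φ)
    (G : 𝒯₁ ⥤ᵇ 𝒮₁) (h : FibCat.IsFibSetoid (FibCat.fp F G).p) : FibCat.IsFibSetoid 𝒯₁.p := by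
  refine ⟨h₃.1, fun U X Y => ⟨fun ψ₁ ψ₂ => ?_⟩⟩
  apply Subtype.ext
  have h𝒯 := h₃.1
  have h𝒮 := h₁.1
  haveI := ψ₁.2
  haveI := ψ₂.2
  have hx : 𝒯₁.p.obj X.1 = U := X.2
  have hR := (Gerbe.locSurjObj_iff J F h₂.1).1 hF (G.obj X.1) U ((G.w_obj X.1).trans hx)
  refine HomSheaf.sep _ h𝒯 (HomSheaf.faithful_of_isStack _ J h₃ hR) hx ψ₁.1 ψ₂.1 ψ₁.2 ψ₂.2 ?_
  rintro V f ⟨x, φ, hφ⟩ t₀ χ hχ
  haveI := hφ
  haveI := hχ
  obtain ⟨α₀, hα₀, eα₀⟩ := Gerbe.exists_factor h𝒯 f (χ ≫ ψ₂.1) (χ ≫ ψ₁.1)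
  haveI := hα₀
  obtain ⟨θ, hθ, eθ⟩ := Gerbe.exists_factor_iso h𝒮 f φ (G.map χ)
  haveI := hθ
  have hxV : 𝒮₂.p.obj x = V := (F.w_obj x).symm.trans (IsHomLift.domain_eq 𝒮₁.p f φ)
  have hθ' : 𝒮₁.p.IsHomLift (𝟙 (𝒮₂.p.obj x)) θ.hom := isHomLift_id_of_eq 𝒮₁.p hxV.symm _
  obtain ⟨β, hβ⟩ := F.toFunctor.map_surjective (θ.hom ≫ G.map α₀ ≫ θ.inv)
  have hβl : 𝒮₂.p.IsHomLift (𝟙 V) β := by
    rw [← BasedFunctor.isHomLift_iff F]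
    show 𝒮₁.p.IsHomLift (𝟙 V) (F.toFunctor.map β)
    rw [hβ]; infer_instance
  let P := Gerbe.fpObj F G x t₀ θ hθ'
  have w : F.map β ≫ θ.hom = θ.hom ≫ G.map α₀ := by
    show F.toFunctor.map β ≫ θ.hom = _
    rw [hβ]; simp only [Category.assoc, Iso.inv_hom_id, Category.comp_id]
  let m₁ : P ⟶ P := Gerbe.fpHom F G (P := P) (Q := P) β α₀ w
  have hm₁ : (FibCat.fp F G).p.IsHomLift (𝟙 (𝒮₂.p.obj x)) m₁ := by
    rw [fp_isHomLift_iff]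
    show 𝒮₂.p.IsHomLift (𝟙 (𝒮₂.p.obj x)) β
    haveI := hβl
    exact isHomLift_id_of_eq 𝒮₂.p hxV.symm β
  have hid : (FibCat.fp F G).p.IsHomLift (𝟙 (𝒮₂.p.obj x)) (𝟙 P) := IsHomLift.id rfl
  let PF : (FibCat.fp F G).p.Fiber (𝒮₂.p.obj x) :=
    Functor.Fiber.mk (rfl : (FibCat.fp F G).p.obj P = 𝒮₂.p.obj x)
  have e2 : (⟨m₁, hm₁⟩ : PF ⟶ PF) = ⟨𝟙 P, hid⟩ := (h.2 _ PF PF).elim _ _
  have e2' : m₁ = 𝟙 P := congrArg Subtype.val e2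
  have e3 : α₀ = 𝟙 t₀ := congrArg (fun m : P ⟶ P => m.hom.snd) e2'
  rw [← eα₀, e3, Category.id_comp]

end Groth.Agent.S12799
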