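import Groth.Statements.S6401
import Mathlib
import Groth.Agent.Lib.Helper10.Fib3

set_option autoImplicit false
open CategoryTheory
universe v u
open FibCat

namespace Groth.Agent.S6401

/-- For categories `𝒳, 𝒴, 𝒮` fibred in groupoids over `C` and functors `F : 𝒳 ⟶ 𝒮`, `G : 𝒴 ⟶ 𝒮` over
`C`, the 2-fibre product `𝒳 ×_𝒮 𝒴` over `C` is fibred in groupoids over `C`. -/
theorem result {C : Type u} [Category.{v} C] {𝒳 𝒴 𝒮 : BasedCategory.{v, max u v} C} (F : 𝒳 ⥤ᵇ 𝒮) (G : 𝒴 ⥤ᵇ 𝒮) (h𝒳 : FibCat.IsFibGrpd 𝒳.p) (h𝒴 : FibCat.IsFibGrpd 𝒴.p) (h𝒮 : FibCat.IsFibGrpd 𝒮.p) :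
    FibCat.IsFibGrpd (FibCat.fp F G).p := by
  constructor
  · intro x V f
    change V ⟶ 𝒳.p.obj x.obj.fst at f
    obtain ⟨y₁, φ₁, hφ₁⟩ := h𝒳.exists_lift f
    have := hφ₁
    have e : 𝒳.p.obj y₁ = V := IsHomLift.domain_eq 𝒳.p f φ₁
    subst e
    have e2 : f = 𝒳.p.map φ₁ := IsHomLift.eq_of_isHomLift 𝒳.p f φ₁
    subst e2
    have hx : 𝒮.p.IsHomLift (𝟙 (𝒳.p.obj x.obj.fst)) x.obj.iso.hom := x.property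
    have hx2 : 𝒴.p.obj x.obj.snd = 𝒳.p.obj x.obj.fst :=
      (G.w_obj x.obj.snd).symm.trans
        (IsHomLift.codomain_eq 𝒮.p (𝟙 (𝒳.p.obj x.obj.fst)) x.obj.iso.hom)
    obtain ⟨y₂, φ₂, hφ₂⟩ :=
      Groth.Agent.Lib.Helper10.Fib.IsFibGrpd.exists_lift' h𝒴 hx2 (𝒳.p.map φ₁)
    have := hφ₂
    obtain ⟨y, φ, hφ⟩ := Groth.Agent.Lib.Helper10.Fib.fp_exists_sc F G x φ₁ φ₂
      (h𝒳.isStronglyCartesian φ₁) hφ₂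
      (Groth.Agent.Lib.Helper10.Fib.IsFibGrpd.sc h𝒮 (𝒳.p.map φ₁) (F.map φ₁))
      (Groth.Agent.Lib.Helper10.Fib.IsFibGrpd.sc h𝒮 (𝒳.p.map φ₁) (G.map φ₂))
    exact ⟨y, φ, hφ.toIsHomLift⟩
  · intro y x φ
    have l : 𝒴.p.IsHomLift (𝒳.p.map φ.hom.fst) φ.hom.snd := FibCat.fp_isHomLift_snd F G φ
    exact Groth.Agent.Lib.Helper10.Fib.fp_sc F G φ (h𝒳.isStronglyCartesian _)
      (Groth.Agent.Lib.Helper10.Fib.IsFibGrpd.sc h𝒴 (𝒳.p.map φ.hom.fst) φ.hom.snd)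
      (Groth.Agent.Lib.Helper10.Fib.IsFibGrpd.sc h𝒮 (𝒳.p.map φ.hom.fst) (G.map φ.hom.snd))

end Groth.Agent.S6401
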