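import Groth.Statements.S12800
import Mathlib
import Groth.Agent.Lib.Helper10.Fib6
import Groth.Agent.S6401

set_option autoImplicit false
open CategoryTheory
universe v u
open FibCat

namespace Groth.Agent.S12800

/-- For categories `𝒮`, `𝒯` fibred in groupoids over `C`, a category `ℛ` fibred in setoids over `C`, a
functor `f : 𝒯 ⟶ 𝒮` over `C` with faithful underlying functor and a functor `g : ℛ ⟶ 𝒮` over `C`,
the 2-fibre product `𝒯 ×_𝒮 ℛ` over `C` is fibred in setoids. (The published statement takes stacks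
in groupoids over a site and concludes a stack in setoids; the stack property of the 2-fibre product
is the separate result on 2-fibre products of stacks in groupoids, and the setoid property stated
here needs no topology.) -/
theorem result {C : Type u} [Category.{v} C] {𝒮 𝒯 ℛ : BasedCategory.{v, max u v} C}
    (h𝒮 : FibCat.IsFibGrpd 𝒮.p) (h𝒯 : FibCat.IsFibGrpd 𝒯.p) (hℛ : FibCat.IsFibSetoid ℛ.p) (f : 𝒯 ⥤ᵇ 𝒮) [f.toFunctor.Faithful] (g : ℛ ⥤ᵇ 𝒮) :
    FibCat.IsFibSetoid (FibCat.fp f g).p := by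
  refine ⟨Groth.Agent.S6401.result f g h𝒯 hℛ.1 h𝒮, fun U => ?_⟩
  intro a b
  constructor
  intro m m'
  have key : ∀ (n : a ⟶ b), ℛ.p.IsHomLift (𝟙 U) n.1.hom.snd := by
    intro n
    have h1 : (FibCat.fp f g).p.IsHomLift (𝟙 U) n.1 := n.2
    have h2 : ℛ.p.IsHomLift ((FibCat.fp f g).p.map n.1) n.1.hom.snd :=
      FibCat.fp_isHomLift_snd f g n.1
    have e := IsHomLift.fac' (FibCat.fp f g).p (𝟙 U) n.1
    rw [e] at h2
    rw [IsHomLift.lift_eqToHom_comp_iff, IsHomLift.lift_comp_eqToHom_iff] at h2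
    exact h2
  have hm := key m
  have hm' := key m'
  let a' : ℛ.p.Fiber U := ⟨a.1.obj.snd, IsHomLift.domain_eq ℛ.p (𝟙 U) m.1.hom.snd⟩
  let b' : ℛ.p.Fiber U := ⟨b.1.obj.snd, IsHomLift.codomain_eq ℛ.p (𝟙 U) m.1.hom.snd⟩
  have hs := hℛ.2 U a' b'
  have e0 : (⟨m.1.hom.snd, hm⟩ : a' ⟶ b') = ⟨m'.1.hom.snd, hm'⟩ := Subsingleton.elim _ _
  have e_snd : m.1.hom.snd = m'.1.hom.snd :=
    congrArg (fun t => Functor.Fiber.fiberInclusion.map t) e0
  have w1 := m.1.hom.w
  have w2 := m'.1.hom.w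
  have e_fst : m.1.hom.fst = m'.1.hom.fst := by
    apply f.toFunctor.map_injective
    rw [← cancel_mono b.1.obj.iso.hom, w1, w2, e_snd]
  apply Functor.Fiber.hom_ext
  apply ObjectProperty.hom_ext
  exact Limits.CategoricalPullback.hom_ext e_fst e_snd

end Groth.Agent.S12800
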