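import Groth.Statements.S12802
import Mathlib
import Groth.Agent.Lib.Helper10.Fib2
import Groth.Agent.S12801

set_option autoImplicit false
open CategoryTheory
universe v u
open Stk

namespace Groth.Agent.S12802

/-- Let `F : 𝒳 ⟶ 𝒴` be a functor over `C` between categories fibred in groupoids over `C` and endow `𝒳`
and `𝒴` with the topologies inherited from the topology `J` on `C` (generated by the sieves whose
image in `C` covers). Then `F` maps covering sieves to families generating covering sieves, lifts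
coverings (it is cocontinuous), and precomposition with `F` sends sheaves of types on `𝒴` to sheaves
on `𝒳` (it is continuous). (The published statement is for a 1-morphism of fibred categories with
the inherited topologies; this row is the case of categories fibred in groupoids, and the published
statement phrases continuity through the fibre products of covering families and deduces a morphism
of topoi whose inverse image is precomposition with `F`, which is not stated here.) -/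
theorem result {C : Type u} [Category.{v} C] (J : GrothendieckTopology C) {𝒳 𝒴 : BasedCategory.{v, max u v} C}
    (h𝒳 : FibCat.IsFibGrpd 𝒳.p) (h𝒴 : FibCat.IsFibGrpd 𝒴.p) (F : 𝒳 ⥤ᵇ 𝒴) :
    CoverPreserving (𝒳.p.restrictedTopology J) (𝒴.p.restrictedTopology J) F.toFunctor ∧
      F.toFunctor.IsCocontinuous (𝒳.p.restrictedTopology J) (𝒴.p.restrictedTopology J) ∧
      F.toFunctor.IsContinuous (𝒳.p.restrictedTopology J) (𝒴.p.restrictedTopology J) := by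
  have mem𝒳 : ∀ {x : 𝒳.obj} (S : Sieve x), S ∈ 𝒳.p.restrictedTopology J x ↔
      S.functorPushforward 𝒳.p ∈ J (𝒳.p.obj x) := fun S => Groth.Agent.S12801.result 𝒳.p h𝒳 J S
  have mem𝒴 : ∀ {y : 𝒴.obj} (S : Sieve y), S ∈ 𝒴.p.restrictedTopology J y ↔
      S.functorPushforward 𝒴.p ∈ J (𝒴.p.obj y) := fun S => Groth.Agent.S12801.result 𝒴.p h𝒴 J S
  have transport : ∀ (P Q : 𝒳.obj ⥤ C) (_ : P = Q) {x : 𝒳.obj} (S : Sieve x),
      S.functorPushforward P ∈ J (P.obj x) → S.functorPushforward Q ∈ J (Q.obj x) := by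
    intro P Q h x S hS
    subst h
    exact hS
  have hcp : CoverPreserving (𝒳.p.restrictedTopology J) (𝒴.p.restrictedTopology J)
      F.toFunctor := by
    constructor
    intro x S hS
    rw [mem𝒴, ← Sieve.functorPushforward_comp]
    exact transport _ _ F.w.symm S ((mem𝒳 S).1 hS)
  have hcc : F.toFunctor.IsCocontinuous (𝒳.p.restrictedTopology J)
      (𝒴.p.restrictedTopology J) := by
    constructor
    intro x T hT
    rw [mem𝒳]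
    have hT' := (mem𝒴 T).1 hT
    refine transport (F.toFunctor ⋙ 𝒴.p) 𝒳.p F.w (T.functorPullback F.toFunctor) ?_
    refine J.superset_covering ?_ hT'
    rintro V g ⟨z, t, k, ht, hk⟩
    obtain ⟨x', γ, hγ⟩ := Groth.Agent.Lib.Helper10.Fib.IsFibGrpd.exists_lift' h𝒳 (a := x)
      (F.w_obj x).symm g
    haveI := hγ
    have lγ : 𝒴.p.IsHomLift g (F.toFunctor.map γ) := inferInstance
    obtain rfl : 𝒴.p.obj (F.obj x') = V := IsHomLift.domain_eq 𝒴.p g (F.toFunctor.map γ)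
    have hg' : 𝒴.p.map (F.toFunctor.map γ) = g :=
      (Groth.Agent.Lib.Helper10.Fib.isHomLift_iff_eq 𝒴.p g _).1 lγ
    subst hg'
    obtain ⟨κ, ⟨hκ1, hκ2⟩, -⟩ := ((Groth.Agent.Lib.Helper10.Fib.sc_map_iff 𝒴.p t).1
      (h𝒴.isStronglyCartesian t)) k (F.toFunctor.map γ) hk
    refine ⟨x', γ, 𝟙 _, ?_, by simp⟩
    show T (F.toFunctor.map γ)
    rw [← hκ2]
    exact T.downward_closed ht κ
  refine ⟨hcp, hcc, Functor.isContinuous_of_coverPreserving ?_ hcp⟩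
  constructor
  intro ℱ Z T x hx Y₁ Y₂ X f₁ f₂ g₁ g₂ hg₁ hg₂ hcomm
  obtain ⟨Y₁', γ₁, hγ₁⟩ := Groth.Agent.Lib.Helper10.Fib.IsFibGrpd.exists_lift' h𝒳 (a := Y₁)
    (F.w_obj Y₁).symm (𝒴.p.map f₁)
  obtain ⟨Y₂', γ₂, hγ₂⟩ := Groth.Agent.Lib.Helper10.Fib.IsFibGrpd.exists_lift' h𝒳 (a := Y₂)
    (F.w_obj Y₂).symm (𝒴.p.map f₂)
  haveI := hγ₁
  haveI := hγ₂
  have l₁ : 𝒴.p.IsHomLift (𝒴.p.map f₁) (F.toFunctor.map γ₁) := inferInstance
  have l₂ : 𝒴.p.IsHomLift (𝒴.p.map f₂) (F.toFunctor.map γ₂) := inferInstance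
  have sc₁ : 𝒴.p.IsStronglyCartesian (𝒴.p.map f₁) (F.toFunctor.map γ₁) :=
    Groth.Agent.Lib.Helper10.Fib.IsFibGrpd.sc h𝒴 _ _
  have sc₂ : 𝒴.p.IsStronglyCartesian (𝒴.p.map f₂) (F.toFunctor.map γ₂) :=
    Groth.Agent.Lib.Helper10.Fib.IsFibGrpd.sc h𝒴 _ _
  obtain ⟨θ₁, ⟨hθ₁l, hθ₁⟩, -⟩ := Functor.IsStronglyCartesian.universal_property 𝒴.p (𝒴.p.map f₁)
    (F.toFunctor.map γ₁) (𝟙 _) (𝒴.p.map f₁) (Category.id_comp _).symm f₁
  obtain ⟨θ₂, ⟨hθ₂l, hθ₂⟩, -⟩ := Functor.IsStronglyCartesian.universal_property 𝒴.p (𝒴.p.map f₂)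
    (F.toFunctor.map γ₂) (𝟙 _) (𝒴.p.map f₂) (Category.id_comp _).symm f₂
  haveI := hθ₁l
  haveI := hθ₂l
  have lg₁ : 𝒳.p.IsHomLift (𝒴.p.map (F.toFunctor.map g₁)) g₁ := BasedFunctor.isHomLift_map F _ _
  have lg₂ : 𝒳.p.IsHomLift (𝒴.p.map (F.toFunctor.map g₂)) g₂ := BasedFunctor.isHomLift_map F _ _
  have lc₁ : 𝒳.p.IsHomLift (𝒴.p.map f₁ ≫ 𝒴.p.map (F.toFunctor.map g₁)) (γ₁ ≫ g₁) := inferInstance
  have lc₂ : 𝒳.p.IsHomLift (𝒴.p.map f₂ ≫ 𝒴.p.map (F.toFunctor.map g₂)) (γ₂ ≫ g₂) := inferInstance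
  have scc₂ : 𝒳.p.IsStronglyCartesian (𝒴.p.map f₂ ≫ 𝒴.p.map (F.toFunctor.map g₂)) (γ₂ ≫ g₂) :=
    Groth.Agent.Lib.Helper10.Fib.IsFibGrpd.sc h𝒳 _ _
  have hm : 𝒴.p.map f₁ ≫ 𝒴.p.map (F.toFunctor.map g₁) =
      𝒴.p.map f₂ ≫ 𝒴.p.map (F.toFunctor.map g₂) := by
    rw [← 𝒴.p.map_comp, ← 𝒴.p.map_comp, hcomm]
  obtain ⟨σ, ⟨hσl, hσ⟩, -⟩ := Functor.IsStronglyCartesian.universal_property 𝒳.p
    (𝒴.p.map f₂ ≫ 𝒴.p.map (F.toFunctor.map g₂)) (γ₂ ≫ g₂) (𝟙 _)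
    (𝒴.p.map f₁ ≫ 𝒴.p.map (F.toFunctor.map g₁)) (by rw [Category.id_comp, hm]) (γ₁ ≫ g₁)
  haveI := hσl
  have lFc₂ : 𝒴.p.IsHomLift (𝒴.p.map f₂ ≫ 𝒴.p.map (F.toFunctor.map g₂))
      (F.toFunctor.map (γ₂ ≫ g₂)) := inferInstance
  have sFc₂ : 𝒴.p.IsStronglyCartesian (𝒴.p.map f₂ ≫ 𝒴.p.map (F.toFunctor.map g₂))
      (F.toFunctor.map (γ₂ ≫ g₂)) := Groth.Agent.Lib.Helper10.Fib.IsFibGrpd.sc h𝒴 _ _
  have lσ : 𝒴.p.IsHomLift (𝟙 (𝒴.p.obj X)) (F.toFunctor.map σ) := inferInstance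
  have lθσ : 𝒴.p.IsHomLift (𝟙 (𝒴.p.obj X)) (θ₁ ≫ F.toFunctor.map σ) := inferInstance
  have e1 : (θ₁ ≫ F.toFunctor.map σ) ≫ F.toFunctor.map (γ₂ ≫ g₂) =
      f₁ ≫ F.toFunctor.map g₁ := by
    rw [Category.assoc, ← F.toFunctor.map_comp, hσ, F.toFunctor.map_comp, ← Category.assoc, hθ₁]
  have e2 : θ₂ ≫ F.toFunctor.map (γ₂ ≫ g₂) = f₂ ≫ F.toFunctor.map g₂ := by
    rw [F.toFunctor.map_comp, ← Category.assoc, hθ₂]
  have hθeq : θ₁ ≫ F.toFunctor.map σ = θ₂ :=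
    Functor.IsStronglyCartesian.ext 𝒴.p (𝒴.p.map f₂ ≫ 𝒴.p.map (F.toFunctor.map g₂))
      (F.toFunctor.map (γ₂ ≫ g₂)) (𝟙 (𝒴.p.obj X)) (e1.trans (hcomm.trans e2.symm))
  have hx_app : ℱ.obj.map (F.toFunctor.map γ₁).op (x g₁ hg₁) =
      ℱ.obj.map (F.toFunctor.map (σ ≫ γ₂)).op (x g₂ hg₂) :=
    hx γ₁ (σ ≫ γ₂) hg₁ hg₂ (by rw [Category.assoc]; exact hσ.symm)
  have c1 : ℱ.obj.map f₁.op (x g₁ hg₁) =
      ℱ.obj.map θ₁.op (ℱ.obj.map (F.toFunctor.map γ₁).op (x g₁ hg₁)) := by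
    rw [← hθ₁, op_comp, FunctorToTypes.map_comp_apply]
  have hf₂ : f₂ = θ₁ ≫ F.toFunctor.map (σ ≫ γ₂) := by
    rw [F.toFunctor.map_comp, ← Category.assoc, hθeq, hθ₂]
  have c2 : ℱ.obj.map f₂.op (x g₂ hg₂) =
      ℱ.obj.map θ₁.op (ℱ.obj.map (F.toFunctor.map (σ ≫ γ₂)).op (x g₂ hg₂)) := by
    rw [hf₂, op_comp, FunctorToTypes.map_comp_apply]
  rw [c1, c2, hx_app]

end Groth.Agent.S12802
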