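import Groth.Statements.S12803
import Mathlib
import Groth.Agent.Lib.Helper10.Fib5
import Groth.Agent.S12801

set_option autoImplicit false
open CategoryTheory
universe v₂ u₂ v u
open Stk

namespace Groth.Agent.S12803

/-- Let `p : 𝒳 ⥤ C` make `𝒳` fibred in groupoids over `C`, let `J` be a topology on `C` and `x` an
object of `𝒳`. The functor `𝒳/x ⥤ C/p(x)` induced by `p` is an equivalence of categories, and it
identifies the localisation at `x` of the topology on `𝒳` inherited from `J` with the localisation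
of `J` at `p x`: a sieve on an object of `𝒳/x` covers if and only if its image covers. -/
theorem result {C : Type u} [Category.{v} C] {𝒳 : Type u₂} [Category.{v₂} 𝒳] (p : 𝒳 ⥤ C)
    (hp : FibCat.IsFibGrpd p) (J : GrothendieckTopology C) (x : 𝒳) :
    (Over.post p : Over x ⥤ Over (p.obj x)).IsEquivalence ∧
      ∀ (a : Over x) (S : Sieve a), S ∈ (p.restrictedTopology J).over x a ↔
        S.functorPushforward (Over.post p) ∈ (J.over (p.obj x)) ((Over.post p).obj a) := by
  have hsc : ∀ {y y' : 𝒳} (φ : y ⟶ y'), _ := fun {y y'} (φ : y ⟶ y') =>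
    (Groth.Agent.Lib.Helper10.Fib.sc_map_iff p φ).1 (hp.isStronglyCartesian φ)
  have hfaith : (Over.post p : Over x ⥤ Over (p.obj x)).Faithful := by
    constructor
    intro a b k k' h
    have hl : p.map k.left = p.map k'.left := congrArg (fun m => m.left) h
    obtain ⟨χ, -, hχ⟩ := hsc (Groth.Agent.Lib.Helper10.Fib.homU x b) (p.map k.left)
      (Groth.Agent.Lib.Helper10.Fib.homU x a) (by
        rw [← p.map_comp]
        exact congrArg p.map (Groth.Agent.Lib.Helper10.Fib.homU_w x k).symm)
    apply Over.OverMorphism.ext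
    exact (hχ k.left ⟨rfl, Groth.Agent.Lib.Helper10.Fib.homU_w x k⟩).trans
      (hχ k'.left ⟨hl.symm, Groth.Agent.Lib.Helper10.Fib.homU_w x k'⟩).symm
  have hfull : (Over.post p : Over x ⥤ Over (p.obj x)).Full := by
    constructor
    intro a b m
    have hm : m.left ≫ p.map (Groth.Agent.Lib.Helper10.Fib.homU x b) =
        p.map (Groth.Agent.Lib.Helper10.Fib.homU x a) := Over.w m
    obtain ⟨χ, ⟨h1, h2⟩, -⟩ := hsc (Groth.Agent.Lib.Helper10.Fib.homU x b) m.left
      (Groth.Agent.Lib.Helper10.Fib.homU x a) hm.symm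
    exact ⟨Over.homMk χ h2, Over.OverMorphism.ext h1⟩
  have hess : (Over.post p : Over x ⥤ Over (p.obj x)).EssSurj := by
    constructor
    intro A
    obtain ⟨y, φ, hφ⟩ := Groth.Agent.Lib.Helper10.Fib.IsFibGrpd.exists_lift' hp (a := x) rfl
      (Groth.Agent.Lib.Helper10.Fib.homU (p.obj x) A)
    haveI := hφ
    have hdom : p.obj y = A.left :=
      IsHomLift.domain_eq p (Groth.Agent.Lib.Helper10.Fib.homU (p.obj x) A) φ
    have hfac : p.map φ = eqToHom hdom ≫ A.hom := by
      rw [IsHomLift.fac' p (Groth.Agent.Lib.Helper10.Fib.homU (p.obj x) A) φ]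
      simp [Groth.Agent.Lib.Helper10.Fib.homU]
    exact ⟨Over.mk φ, ⟨eqToIso (Groth.Agent.Lib.Helper10.Fib.over_ext _ _ hdom hfac)⟩⟩
  refine ⟨{ }, ?_⟩
  intro a S
  rw [GrothendieckTopology.mem_over_iff, GrothendieckTopology.mem_over_iff,
    Sieve.overEquiv_functorPushforward_post]
  exact Groth.Agent.S12801.result p hp J _

end Groth.Agent.S12803
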