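import Groth.Statements.S12807
import Mathlib
import Groth.Agent.Lib.Helper10.Fib2

set_option autoImplicit false
open CategoryTheory CategoryTheory.Limits
universe v₃ u₃ v₂ u₂ v u
open FibCat

namespace Groth.Agent.S12807

/-- Let `u : C ⥤ D` be a functor and `𝒮` a category over `D` whose structure functor is a fibred
category. Then the 2-fibre product `C ×_D 𝒮` of `u` and the structure functor (triples `(U, y, u U ≅
p y)`), with its first projection, is a fibred category over `C`. (The published statement uses the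
strict fibre product, pairs with `u U = p y`; for `𝒮` fibred over `D` it is equivalent over `C` to
the 2-fibre product used here.) -/
theorem result {C : Type u} [Category.{v} C] {D : Type u₂} [Category.{v₂} D] (u : C ⥤ D)
    (𝒮 : BasedCategory.{v₃, u₃} D) [𝒮.p.IsFibered] :
    (CategoricalPullback.π₁ u 𝒮.p).IsFibered := by
  apply Functor.IsFibered.of_exists_isStronglyCartesian
  intro a R f
  change R ⟶ a.fst at f
  obtain ⟨s', φ, hφ⟩ := Groth.Agent.Lib.Helper10.Fib.exists_sc 𝒮.p (a := a.snd)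
    (u.map f ≫ a.iso.hom)
  have hdom : 𝒮.p.obj s' = u.obj R := IsHomLift.domain_eq 𝒮.p (u.map f ≫ a.iso.hom) φ
  have hfac : 𝒮.p.map φ = eqToHom hdom ≫ (u.map f ≫ a.iso.hom) := by
    have h := IsHomLift.fac' 𝒮.p (u.map f ≫ a.iso.hom) φ
    simpa using h
  let b : CategoricalPullback u 𝒮.p := ⟨R, s', eqToIso hdom.symm⟩
  let ψ : b ⟶ a := ⟨f, φ, by
    show u.map f ≫ a.iso.hom = eqToHom hdom.symm ≫ 𝒮.p.map φ
    rw [hfac, eqToHom_trans_assoc, eqToHom_refl, Category.id_comp]⟩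
  refine ⟨b, ψ, ?_⟩
  have hψ : (CategoricalPullback.π₁ u 𝒮.p).IsHomLift f ψ := by
    show (CategoricalPullback.π₁ u 𝒮.p).IsHomLift ((CategoricalPullback.π₁ u 𝒮.p).map ψ) ψ
    infer_instance
  refine { toIsHomLift := hψ, universal_property' := ?_ }
  intro a' k φ' hφ'
  change a'.fst ⟶ R at k
  have hk : φ'.fst = k ≫ f :=
    (IsHomLift.eq_of_isHomLift (CategoricalPullback.π₁ u 𝒮.p) (k ≫ f) φ').symm
  have hg : 𝒮.p.map φ'.snd = (a'.iso.inv ≫ u.map k) ≫ (u.map f ≫ a.iso.hom) := by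
    have hw := φ'.w
    rw [hk, u.map_comp, Category.assoc] at hw
    rw [Category.assoc, hw, Iso.inv_hom_id_assoc]
  obtain ⟨χ₂, ⟨hχ₂l, hχ₂c⟩, hχ₂u⟩ := Functor.IsStronglyCartesian.universal_property 𝒮.p
    (u.map f ≫ a.iso.hom) φ (a'.iso.inv ≫ u.map k) (𝒮.p.map φ'.snd) hg φ'.snd
  have hχfac : 𝒮.p.map χ₂ = (a'.iso.inv ≫ u.map k) ≫ eqToHom hdom.symm := by
    have h := IsHomLift.fac' 𝒮.p (a'.iso.inv ≫ u.map k) χ₂
    simpa using h
  let χ : a' ⟶ b := ⟨k, χ₂, by
    show u.map k ≫ eqToHom hdom.symm = a'.iso.hom ≫ 𝒮.p.map χ₂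
    rw [hχfac, Category.assoc, Iso.hom_inv_id_assoc]⟩
  refine ⟨χ, ⟨?_, ?_⟩, ?_⟩
  · show (CategoricalPullback.π₁ u 𝒮.p).IsHomLift ((CategoricalPullback.π₁ u 𝒮.p).map χ) χ
    infer_instance
  · apply CategoricalPullback.hom_ext
    · exact hk.symm
    · exact hχ₂c
  · rintro χ' ⟨hχ'l, hχ'c⟩
    have hk' : χ'.fst = k :=
      (Groth.Agent.Lib.Helper10.Fib.isHomLift_iff_eq (CategoricalPullback.π₁ u 𝒮.p)
        (a := a') (b := b) k χ').1 hχ'l
    have hsnd : χ'.snd ≫ φ = φ'.snd := congrArg CategoricalPullback.Hom.snd hχ'c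
    have hl : 𝒮.p.IsHomLift (a'.iso.inv ≫ u.map k) χ'.snd := by
      apply IsHomLift.of_fac' 𝒮.p _ _ rfl hdom
      have hw := χ'.w
      rw [hk'] at hw
      have hw' : u.map k ≫ eqToHom hdom.symm = a'.iso.hom ≫ 𝒮.p.map χ'.snd := hw
      rw [eqToHom_refl, Category.id_comp, Category.assoc, hw', Iso.inv_hom_id_assoc]
    have h2 : χ'.snd = χ₂ := hχ₂u χ'.snd ⟨hl, hsnd⟩
    apply CategoricalPullback.hom_ext
    · exact hk'
    · exact h2

end Groth.Agent.S12807
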