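import Groth.Statements.S12811
import Mathlib
import Groth.Agent.Lib.Helper10.StkFp

set_option autoImplicit false
open CategoryTheory
universe v u
open Stk

namespace Groth.Agent.S12811

/-- For stacks in setoids `𝒳`, `𝒴`, `𝒮` over `C` for the topology `J` (stacks in groupoids that are
fibred in setoids) and functors `F : 𝒳 ⟶ 𝒮`, `G : 𝒴 ⟶ 𝒮` over `C`, the 2-fibre product `𝒳 ×_𝒮 𝒴`
over `C` is again a stack in setoids for `J`. -/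
theorem result {C : Type u} [Category.{v} C] (J : GrothendieckTopology C) {𝒳 𝒴 𝒮 : BasedCategory.{v, max u v} C}
    (F : 𝒳 ⥤ᵇ 𝒮) (G : 𝒴 ⥤ᵇ 𝒮) (h𝒳 : Stk.IsStack J 𝒳 ∧ FibCat.IsFibSetoid 𝒳.p) (h𝒴 : Stk.IsStack J 𝒴 ∧ FibCat.IsFibSetoid 𝒴.p)
    (h𝒮 : Stk.IsStack J 𝒮 ∧ FibCat.IsFibSetoid 𝒮.p) :
    Stk.IsStack J (FibCat.fp F G) ∧ FibCat.IsFibSetoid (FibCat.fp F G).p := by
  refine ⟨Groth.Agent.Lib.Helper10.StkFp.isStack_fp F G J h𝒳.1 h𝒴.1 ⟨h𝒮.1.1, ?_⟩,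
    Groth.Agent.Lib.Helper10.StkFp.isFibSetoid_fp F G h𝒳.2 h𝒴.2 h𝒮.1.1⟩
  intro U R hR
  haveI : (Stk.resSieve R 𝒮).IsEquivalence := h𝒮.1.2 R hR
  exact ⟨inferInstance, inferInstance⟩

end Groth.Agent.S12811
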