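import Groth.Statements.S6409
import Mathlib
import Groth.Agent.Lib.Helper10.Fib5

set_option autoImplicit false
open CategoryTheory
universe v u
open FibCat

namespace Groth.Agent.S6409

/-- For `𝒳` fibred in groupoids over `C`, evaluation at `𝟙_U` is an equivalence of categories from the
category of functors `C/U ⟶ 𝒳` over `C` to the fibre category `𝒳_U`. -/
theorem result {C : Type u} [Category.{v} C] {𝒳 : BasedCategory.{v, max u v} C} (h𝒳 : FibCat.IsFibGrpd 𝒳.p) (U : C) :
    (FibCat.evalAtId 𝒳 U).IsEquivalence := by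
  have hH : ∀ (H : FibCat.overCat U ⥤ᵇ 𝒳) (A : Over U),
      𝒳.p.IsStronglyCartesian (Groth.Agent.Lib.Helper10.Fib.homU U A)
        (H.map (Groth.Agent.Lib.Helper10.Fib.toTerminal U A)) := by
    intro H A
    have := Groth.Agent.Lib.Helper10.Fib.isHomLift_toTerminal U H A
    exact Groth.Agent.Lib.Helper10.Fib.IsFibGrpd.sc h𝒳 (Groth.Agent.Lib.Helper10.Fib.homU U A)
      (H.map (Groth.Agent.Lib.Helper10.Fib.toTerminal U A))
  have hfaith : (FibCat.evalAtId 𝒳 U).Faithful := by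
    constructor
    intro G H α β hαβ
    have hm : 𝒳.p.IsHomLift (𝟙 U) (β.toNatTrans.app (Over.mk (𝟙 U))) :=
      BasedNatTrans.isHomLift β rfl
    obtain ⟨γ, -, hγ⟩ := Groth.Agent.Lib.Helper10.Fib.yoneda_existsUnique U G H (hH H)
      (β.toNatTrans.app (Over.mk (𝟙 U))) hm
    have e1 : α = γ := hγ α (congrArg (fun t => Functor.Fiber.fiberInclusion.map t) hαβ)
    have e2 : β = γ := hγ β rfl
    rw [e1, e2]
  have hfull : (FibCat.evalAtId 𝒳 U).Full := by
    constructor
    intro G H m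
    obtain ⟨α, hα, -⟩ := Groth.Agent.Lib.Helper10.Fib.yoneda_existsUnique U G H (hH H) m.1 m.2
    exact ⟨α, Functor.Fiber.hom_ext hα⟩
  have hess : (FibCat.evalAtId 𝒳 U).EssSurj := by
    constructor
    intro x
    obtain ⟨G, -, ⟨e⟩⟩ := Groth.Agent.Lib.Helper10.Fib.yoneda_essSurj U x
      (fun V f => Groth.Agent.Lib.Helper10.Fib.IsFibGrpd.exists_lift' h𝒳 x.2 f)
    exact ⟨G, ⟨e⟩⟩
  exact { }

end Groth.Agent.S6409
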