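import Groth.Statements.S12816
import Mathlib
import Groth.Agent.Lib.Helper10.StkPost
import Groth.Agent.Lib.Helper10.Fib6
import Groth.Agent.S6409

set_option autoImplicit false
open CategoryTheory
universe v u
open Stk

namespace Groth.Agent.S12816

/-- Let `𝒳`, `𝒴` be fibred in groupoids over `C` and `F : 𝒳 ⟶ 𝒴` a functor over `C`. Then the underlying
functor of `F` is fully faithful if and only if, for every object `U` of `C`, postcomposition with
`F` is a fully faithful functor from the category of functors `C/U ⟶ 𝒳` over `C` to that of functors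
`C/U ⟶ 𝒴` over `C`; under the 2-Yoneda lemma the latter says that `F` induces bijections between
morphisms of pullbacks `x|_V ⟶ y|_V` and `F(x)|_V ⟶ F(y)|_V` for all objects `x, y` over `U` and all
`V ⟶ U`, that is, isomorphisms of the presheaves of morphisms. (The published statement is for
stacks over a site, not necessarily in groupoids; the stack property plays no role and is not
assumed here, and this row treats categories fibred in groupoids.) -/
theorem result {C : Type u} [Category.{v} C] {𝒳 𝒴 : BasedCategory.{v, max u v} C}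
    (h𝒳 : FibCat.IsFibGrpd 𝒳.p) (h𝒴 : FibCat.IsFibGrpd 𝒴.p) (F : 𝒳 ⟶ 𝒴) :
    (F.toFunctor.Full ∧ F.toFunctor.Faithful) ↔
      ∀ U : C, (Bicategory.postcomp (FibCat.overCat U) F).Full ∧ (Bicategory.postcomp (FibCat.overCat U) F).Faithful := by
  have hpost : ∀ U : C, Bicategory.postcomp (FibCat.overCat U) F =
      Groth.Agent.Lib.Helper10.StkPost.post (FibCat.overCat U) F := fun U => rfl
  constructor
  · rintro ⟨h1, h2⟩ U
    haveI := h1
    haveI := h2
    rw [hpost U]
    exact ⟨Groth.Agent.Lib.Helper10.StkPost.post_full _ F,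
      Groth.Agent.Lib.Helper10.StkPost.post_faithful _ F⟩
  · intro h
    haveI := Groth.Agent.Lib.Helper10.Fib.IsFibGrpd.isFibered h𝒳
    have key : ∀ U : C, (FibCat.fiberFunctor F U).Full ∧ (FibCat.fiberFunctor F U).Faithful := by
      intro U
      obtain ⟨h1, h2⟩ := h U
      rw [hpost U] at h1 h2
      haveI := h1
      haveI := h2
      haveI : (FibCat.evalAtId 𝒳 U).IsEquivalence := Groth.Agent.S6409.result h𝒳 U
      haveI : (FibCat.evalAtId 𝒴 U).IsEquivalence := Groth.Agent.S6409.result h𝒴 U
      have e : Groth.Agent.Lib.Helper10.StkPost.post (FibCat.overCat U) F ⋙ FibCat.evalAtId 𝒴 U =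
          FibCat.evalAtId 𝒳 U ⋙ FibCat.fiberFunctor F U := rfl
      haveI : (FibCat.evalAtId 𝒳 U ⋙ FibCat.fiberFunctor F U).Full := by
        rw [← e]
        infer_instance
      haveI : (FibCat.evalAtId 𝒳 U ⋙ FibCat.fiberFunctor F U).Faithful := by
        rw [← e]
        infer_instance
      let E := (FibCat.evalAtId 𝒳 U).asEquivalence
      have i : FibCat.fiberFunctor F U ≅
          E.inverse ⋙ (FibCat.evalAtId 𝒳 U ⋙ FibCat.fiberFunctor F U) :=
        (Functor.leftUnitor _).symm ≪≫
          Functor.isoWhiskerRight E.counitIso.symm (FibCat.fiberFunctor F U) ≪≫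
          Functor.associator _ _ _
      exact ⟨Functor.Full.of_iso i.symm, Functor.Faithful.of_iso i.symm⟩
    exact Groth.Agent.Lib.Helper10.Fib.ff_of_fiberwise F
      (fun a b φ _ => by
        haveI : 𝒴.p.IsHomLift (𝒳.p.map φ) (F.toFunctor.map φ) := inferInstance
        exact Groth.Agent.Lib.Helper10.Fib.IsFibGrpd.sc h𝒴 (𝒳.p.map φ) (F.toFunctor.map φ))
      (fun U => (key U).1) (fun U => (key U).2)

end Groth.Agent.S12816
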