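import Groth.Statements.S12831
import Mathlib
import Groth.Agent.Lib.Helper10.AlgStPtsDiag

set_option autoImplicit false
universe u
open CategoryTheory AlgebraicGeometry
open AlgSt

namespace Groth.Agent.S12831



/-- (1) ⇔ (2): a morphism `f : 𝒳 ⟶ 𝒴` of algebraic stacks over `S` is universally injective (every base
change to an algebraic stack is injective on points) if and only if its diagonal `𝒳 ⟶ 𝒳 ×_𝒴 𝒳` is
surjective on points. -/
theorem result {S : Scheme.{u}} {𝒳 𝒴 : AlgSt.Cat S}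
    (h𝒳 : AlgSt.IsAlgStack Scheme.fppfPrecoverage 𝒳) (h𝒴 : AlgSt.IsAlgStack Scheme.fppfPrecoverage 𝒴) (f : 𝒳 ⥤ᵇ 𝒴) :
    AlgSt.IsUnivInjective Scheme.fppfPrecoverage f ↔ AlgSt.IsSurjective (FibCat.diag f) := by
  constructor
  · intro hU
    exact H10PT.isSurjective_diag_of_injective_fpFst f (hU 𝒳 h𝒳 f)
  · intro hd 𝒵 h𝒵 g
    exact H10PT.injective_of_isSurjective_diag
      (Groth.Agent.Lib.Helper10.Fib.isFibGrpd_fp g f h𝒵.isStack.1 h𝒳.isStack.1 h𝒴.isStack.1)
      h𝒵.isStack.1 (FibCat.fpFst g f)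
      (H10PT.isSurjective_diag_fpFst h𝒳.isStack.1 h𝒴.isStack.1 h𝒵.isStack.1 f g hd)

end Groth.Agent.S12831
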