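import Groth.Statements.S12850
import Groth.Agent.Lib.Helper16.AlgSt.CancelCover
import Groth.Agent.Lib.Helper16.AlgSt.DiagToSelf

set_option autoImplicit false
open CategoryTheory AlgebraicGeometry
universe u
open AlgSt

namespace Groth.Agent.S12850

/-- Let `P` be a property of morphisms of algebraic spaces over `S` which is stable under base change,
fppf local on the base and local on the source in the etale topology; let `x : 𝒳 ⟶ 𝒴` and `y : 𝒴 ⟶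
𝒵` be 1-morphisms of algebraic stacks over `S` representable by algebraic spaces with `x` surjective
and etale. If `y ∘ x` has `P` then `y` has `P`. (Stability under base change is asked for every
pullback square of fppf sheaves whose four corners are algebraic spaces.) -/
theorem result {S : Scheme.{u}} {𝒳 𝒴 𝒵 : AlgSt.Cat S}
    (h𝒳 : AlgSt.IsAlgStack Scheme.fppfPrecoverage 𝒳) (h𝒴 : AlgSt.IsAlgStack Scheme.fppfPrecoverage 𝒴) (h𝒵 : AlgSt.IsAlgStack Scheme.fppfPrecoverage 𝒵)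
    (P : MorphismProperty (AlgSp.Sp S))
    (hPb : ∀ ⦃X₁ Y₁ X₂ Y₂ : AlgSp.Sp S⦄, AlgSp.IsAlgSpace X₁ → AlgSp.IsAlgSpace Y₁ → AlgSp.IsAlgSpace X₂ →
      AlgSp.IsAlgSpace Y₂ → ∀ (a : X₁ ⟶ Y₁) (b : Y₂ ⟶ Y₁) (a' : X₂ ⟶ Y₂) (b' : X₂ ⟶ X₁),
      IsPullback b' a' a b → P a → P a')
    (hP : AlgSp.IsLocalOnBase AlgSp.IsFppfCover P) (hP' : AlgSp.IsLocalOnSource AlgSp.IsEtCover P)
    (x : 𝒳 ⥤ᵇ 𝒴) (y : 𝒴 ⥤ᵇ 𝒵) (hy : AlgSt.RepByAlgSp1 y)
    (hx₁ : AlgSt.RepByAlgSpWith AlgSp.IsEtaleMor x) (hx₂ : AlgSt.RepByAlgSpWith AlgSp.IsSurjectiveMor x)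
    (h : AlgSt.RepByAlgSpWith P (BasedFunctor.comp x y)) : AlgSt.RepByAlgSpWith P y := by
  have g2 := Groth.Agent.Lib.Helper28.AlgSt.PropInst.good_surjective (S := S)
  have b1 := Groth.Agent.Lib.Helper16.AlgStDC.bc_isEtaleMor (S := S)
  have l1 := Groth.Agent.Lib.Helper16.AlgStDC.loc_isEtaleMor (S := S)
  have hR := Groth.Agent.Lib.Helper16.AlgStDC.repByAlgSpWith_inf h𝒳.isStack.1 h𝒴.isStack.1 b1 l1
      g2.bc g2.loc x hx₁ hx₂
  refine Groth.Agent.Lib.Helper16.AlgStDC.repByAlgSpWith_of_comp_cover h𝒳.isStack.1 h𝒴.isStack.1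
    h𝒵.isStack.1 P (AlgSp.IsEtaleMor ⊓ AlgSp.IsSurjectiveMor) hPb hP
    (fun _ _ _ _ h1 h2 h3 h4 a b a' b' sq h => ⟨b1 h1 h2 h3 h4 a b a' b' sq h.1,
      g2.bc h1 h2 h3 h4 a b a' b' sq h.2⟩)
    (fun _ _ Yi g hY hYi hcov _ f hX Xi p q hXi sq => by
      have h1 := l1 Yi g hY hYi hcov f hX Xi p q hXi sq
      have h2 := g2.loc Yi g hY hYi hcov f hX Xi p q hXi sq
      exact ⟨fun h i => ⟨h1.1 h.1 i, h2.1 h.2 i⟩,
        fun h => ⟨h1.2 (fun i => (h i).1), h2.2 (fun i => (h i).2)⟩⟩)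
    (fun F G Z c a hc hca => ?_) x y hy hR h
  exact (hP' (fun _ : PUnit.{u + 1} => F.obj) (fun _ => c.hom) G.property (fun _ => F.property)
    ⟨fun _ => hc.1, fun p => ⟨PUnit.unit, hc.2 p⟩⟩ a.hom Z.property).2 (fun _ => hca)
end Groth.Agent.S12850
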