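import Groth.Statements.S12859
import Mathlib
import Groth.Agent.Lib.Helper10.AlgStOpenSub

set_option autoImplicit false
open CategoryTheory AlgebraicGeometry
universe u
open AlgSt

namespace Groth.Agent.S12859



/-- Let `𝒳` be an algebraic stack over `S`. The rule sending an open substack `𝒰 ⊂ 𝒳` (a predicate on
objects closed under isomorphisms whose full subcategory is an algebraic stack with open-immersion
inclusion) to `|𝒰| ⊂ |𝒳|` is a bijection from open substacks onto open subsets of `|𝒳|`, and `𝒰 ⊂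
𝒰'` holds exactly when `|𝒰| ⊂ |𝒰'|`. -/
theorem result {S : Scheme.{u}} {𝒳 : AlgSt.Cat S}
    (h𝒳 : AlgSt.IsAlgStack Scheme.fppfPrecoverage 𝒳) :
    Set.BijOn (fun Q : 𝒳.obj → Prop => Set.range (AlgSt.Points.map (AlgSt.subIncl 𝒳 Q)))
        {Q | AlgSt.IsOpenSubstack 𝒳 Q Scheme.fppfPrecoverage} {T | IsOpen T} ∧
      ∀ (Q Q' : 𝒳.obj → Prop), AlgSt.IsOpenSubstack 𝒳 Q Scheme.fppfPrecoverage → AlgSt.IsOpenSubstack 𝒳 Q' Scheme.fppfPrecoverage →
        ((∀ y, Q y → Q' y) ↔ Set.range (AlgSt.Points.map (AlgSt.subIncl 𝒳 Q)) ⊆ Set.range (AlgSt.Points.map (AlgSt.subIncl 𝒳 Q'))) := by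
  refine ⟨⟨?_, ?_, ?_⟩, ?_⟩
  · intro Q hQ
    exact H10PT.isOpen_range_of_isOpenImm hQ.2.1 h𝒳 _ hQ.2.2
  · intro Q hQ Q' hQ' heq
    have e1 := H10PT.eq_ptsIn_of_isOpenSubstack h𝒳 Q hQ
    have e2 := H10PT.eq_ptsIn_of_isOpenSubstack h𝒳 Q' hQ'
    have heq' : Set.range (AlgSt.Points.map (AlgSt.subIncl 𝒳 Q)) =
        Set.range (AlgSt.Points.map (AlgSt.subIncl 𝒳 Q')) := heq
    exact e1.trans ((congrArg H10PT.ptsIn heq').trans e2.symm)
  · intro T hT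
    exact ⟨H10PT.ptsIn T, H10PT.isOpenSubstack_ptsIn h𝒳 T hT, H10PT.range_subIncl_ptsIn T⟩
  · intro Q Q' hQ hQ'
    constructor
    · intro hle
      rintro _ ⟨p, rfl⟩
      obtain ⟨q, rfl⟩ := AlgSt.Points.mk_surjective p
      exact ⟨AlgSt.Points.mk ⟨q.K, q.str, ⟨q.obj.obj, hle _ q.obj.property⟩, q.lies⟩, rfl⟩
    · intro hsub y hy
      exact H10PT.mem_of_ptsIn_range h𝒳 Q' hQ' (H10PT.ptsIn_mono hsub
        (H10PT.ptsIn_range_of_mem Q h𝒳.isStack.1 hQ.1 hQ.2.1.isStack.1 hy))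

end Groth.Agent.S12859
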