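import Groth.Statements.S12860
import Mathlib
import Groth.Agent.Lib.Helper10.AlgStOpenImage

set_option autoImplicit false
open CategoryTheory AlgebraicGeometry
universe u
open AlgSt

namespace Groth.Agent.S12860



/-- Let `𝒳` be an algebraic stack over `S`, `U` an algebraic space with a surjective smooth `u : U ⟶ 𝒳`,
and `j : V ⟶ U` an open immersion of algebraic spaces. Then there are an algebraic stack `𝒴`, an
open immersion `i : 𝒴 ⟶ 𝒳` and a surjective smooth `g : V ⟶ 𝒴` such that `i ∘ g` is 2-isomorphic to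
`u ∘ j` (the compatibility is part of the published proof, which constructs `𝒴` as the image of
`V`). -/
theorem result {S : Scheme.{u}} {𝒳 : AlgSt.Cat S}
    (h𝒳 : AlgSt.IsAlgStack Scheme.fppfPrecoverage 𝒳) (U : AlgSp.Space S) (u : AlgSt.ofSp U.obj ⥤ᵇ 𝒳)
    (hu₁ : AlgSt.RepByAlgSpWith (AlgSp.LocP @Smooth) u) (hu₂ : AlgSt.RepByAlgSpWith AlgSp.IsSurjectiveMor u)
    (V : AlgSp.Space S) (j : V ⟶ U) (hj : AlgSp.RepWith @IsOpenImmersion j.hom) :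
    ∃ (𝒴 : AlgSt.Cat S) (i : 𝒴 ⥤ᵇ 𝒳) (g : AlgSt.ofSp V.obj ⥤ᵇ 𝒴),
      AlgSt.IsAlgStack Scheme.fppfPrecoverage 𝒴 ∧ AlgSt.IsOpenImm i ∧
        AlgSt.RepByAlgSpWith (AlgSp.LocP @Smooth) g ∧ AlgSt.RepByAlgSpWith AlgSp.IsSurjectiveMor g ∧
          Nonempty (BasedFunctor.comp g i ≅ BasedFunctor.comp (AlgSt.ofSpMap j.hom) u) := by
  have hV : FibCat.IsFibGrpd (AlgSt.ofSp V.obj).p := Stk.isFibGrpd_ofPsh _
  have hU : FibCat.IsFibGrpd (AlgSt.ofSp U.obj).p := Stk.isFibGrpd_ofPsh _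
  have hX := h𝒳.isStack.1
  have hj₁ : AlgSt.IsOpenImm (AlgSt.ofSpMap j.hom) :=
    Groth.Agent.Lib.Helper28.AlgSt.Descent.repByAlgSpWith_ofSpMap_of_prop _
      Groth.Agent.Lib.Helper28.AlgSt.PropInst.good_openImm.bc j hj
  have hj₂ := H10PT.repSmooth_of_isOpenImm _ hj₁
  obtain ⟨v, hvdef⟩ : ∃ v : AlgSt.ofSp V.obj ⥤ᵇ 𝒳,
      v = BasedFunctor.comp (AlgSt.ofSpMap j.hom) u := ⟨_, rfl⟩
  have hv₁ : AlgSt.RepByAlgSpWith (AlgSp.LocP @Smooth) v := by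
    rw [hvdef]
    exact Groth.Agent.Lib.Helper28.AlgSt.PropInst.repByAlgSpWith_comp_good
      Groth.Agent.Lib.Helper28.AlgSt.PropInst.good_smooth hV hU _ u hj₂ hu₁
  obtain ⟨T, hTdef⟩ : ∃ T, T = Set.range (AlgSt.Points.map v) := ⟨_, rfl⟩
  have hT : IsOpen T := by
    rw [hTdef, ← Set.image_univ]
    exact H10PT.isOpenMap_points_map_space h𝒳 V v (H10PT.repFlat_of_smooth v hv₁)
      (H10PT.repLfp_of_smooth v hv₁) _ isOpen_univ
  have hQ := H10PT.isOpenSubstack_ptsIn h𝒳 T hT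
  have hvQ : ∀ w, H10PT.ptsIn T (v.obj w) := fun w => by
    rw [hTdef]
    exact H10PT.ptsIn_range_map hV hX v w
  obtain ⟨g, hgdef⟩ : ∃ g : AlgSt.ofSp V.obj ⥤ᵇ AlgSt.fullSub 𝒳 (H10PT.ptsIn T),
      g = H10PT.liftSub (H10PT.ptsIn T) v hvQ := ⟨_, rfl⟩
  have hg₁ : AlgSt.RepByAlgSpWith (AlgSp.LocP @Smooth) g := by
    rw [hgdef]
    exact H10PT.repByAlgSpWith_of_comp_ff _ _ (AlgSt.subIncl 𝒳 (H10PT.ptsIn T)) hv₁
  have hgs : AlgSt.IsSurjective g := by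
    rw [hgdef]
    exact H10PT.isSurjective_liftSub hX _ hQ.2.1.isStack.1 v hvQ (fun x hx => by
      rw [← hTdef]
      exact hx)
  have hg₂ : AlgSt.RepByAlgSpWith AlgSp.IsSurjectiveMor g :=
    H10PT.rep_of_isSurjective hV hQ.2.1.isStack.1 g (fun U₀ y => by
      obtain ⟨F, e, he, -⟩ := hg₁ U₀ y
      exact ⟨F, e, he⟩) hgs
  refine ⟨AlgSt.fullSub 𝒳 (H10PT.ptsIn T), AlgSt.subIncl 𝒳 (H10PT.ptsIn T), g, hQ.2.1, hQ.2.2,
    hg₁, hg₂, ⟨?_⟩⟩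
  rw [hgdef, ← hvdef]
  exact Iso.refl _

end Groth.Agent.S12860
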