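import Groth.Statements.S12861
import Mathlib
import Groth.Agent.Lib.Helper10.AlgStOpenSub

set_option autoImplicit false
open CategoryTheory AlgebraicGeometry
universe u w
open AlgSt

namespace Groth.Agent.S12861



/-- Let `𝒳` be an algebraic stack over `S` and `𝒳_i ⊂ 𝒳` a family of open substacks. Then there is an
open substack `𝒳' ⊂ 𝒳`, the union of the `𝒳_i`, containing every `𝒳_i` and covered by them: its
points in `|𝒳|` are the union of the points of the `𝒳_i`. -/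
theorem result {S : Scheme.{u}} {𝒳 : AlgSt.Cat S}
    (h𝒳 : AlgSt.IsAlgStack Scheme.fppfPrecoverage 𝒳) {ι : Type w} (Q : ι → 𝒳.obj → Prop)
    (hQ : ∀ i, AlgSt.IsOpenSubstack 𝒳 (Q i) Scheme.fppfPrecoverage) :
    ∃ Q' : 𝒳.obj → Prop, AlgSt.IsOpenSubstack 𝒳 Q' Scheme.fppfPrecoverage ∧ (∀ i y, Q i y → Q' y) ∧
      Set.range (AlgSt.Points.map (AlgSt.subIncl 𝒳 Q')) = ⋃ i, Set.range (AlgSt.Points.map (AlgSt.subIncl 𝒳 (Q i))) := by
  obtain ⟨T, hTdef⟩ : ∃ T, T = ⋃ i, Set.range (AlgSt.Points.map (AlgSt.subIncl 𝒳 (Q i))) :=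
    ⟨_, rfl⟩
  have hT : IsOpen T := by
    rw [hTdef]
    exact isOpen_iUnion fun i => H10PT.isOpen_range_of_isOpenImm (hQ i).2.1 h𝒳 _ (hQ i).2.2
  refine ⟨H10PT.ptsIn T, H10PT.isOpenSubstack_ptsIn h𝒳 T hT, ?_, ?_⟩
  · intro i y hy
    refine H10PT.ptsIn_mono ?_ (H10PT.ptsIn_range_of_mem (Q i) h𝒳.isStack.1 (hQ i).1
      (hQ i).2.1.isStack.1 hy)
    rw [hTdef]
    exact Set.subset_iUnion (fun i => Set.range (AlgSt.Points.map (AlgSt.subIncl 𝒳 (Q i)))) i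
  · rw [H10PT.range_subIncl_ptsIn T, hTdef]

end Groth.Agent.S12861
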