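import Groth.Statements.S12863
import Mathlib
import Groth.Agent.Lib.Helper10.AlgStSpaceCover

set_option autoImplicit false
open CategoryTheory AlgebraicGeometry
universe u w
open AlgSt

namespace Groth.Agent.S12863

set_option backward.isDefEq.respectTransparency false
set_option backward.isDefEq.respectTransparency.types false

open H10PT CategoryTheory.Limits Opposite
open Groth.Agent.Lib.Helper10.Fib Groth.Agent.Lib.Helper10.AlgStRep
open Groth.Agent.Lib.Helper10.StkPsh Groth.Agent.Lib.Helper10.HomSheaf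
open Groth.Agent.Lib.Helper10.StkPost Groth.Agent.Lib.Helper10.StkElem
open Groth.Agent.Lib.Helper28.AlgSt.ClsPsh Groth.Agent.Lib.Helper28.AlgSt.PshFun
open Groth.Agent.Lib.Helper16

/-- Let `𝒳` be an algebraic stack over `S` and `𝒳_i ⊂ 𝒳` a family of open substacks with `𝒳 = ⋃ 𝒳_i`
(their points exhaust `|𝒳|`). When each `𝒳_i` is an algebraic space, so is `𝒳` itself. -/
theorem result {S : Scheme.{u}} {𝒳 : AlgSt.Cat S}
    (h𝒳 : AlgSt.IsAlgStack Scheme.fppfPrecoverage 𝒳) {ι : Type w} (Q : ι → 𝒳.obj → Prop)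
    (hQ : ∀ i, AlgSt.IsOpenSubstack 𝒳 (Q i) Scheme.fppfPrecoverage)
    (hcov : ⋃ i, Set.range (AlgSt.Points.map (AlgSt.subIncl 𝒳 (Q i))) = Set.univ)
    (hsp : ∀ i, AlgSt.RepByAlgSp (AlgSt.fullSub 𝒳 (Q i))) : AlgSt.RepByAlgSp 𝒳 := by
  have hg := h𝒳.isStack.1
  have hset : ∀ i, FibCat.IsFibSetoid (AlgSt.fullSub 𝒳 (Q i)).p := fun i =>
    Groth.Agent.S12787.result (hQ i).2.1.isStack.1 (hsp i)
  have hfs : FibCat.IsFibSetoid 𝒳.p := isFibSetoid_of_open_cover h𝒳 Q hQ hcov hset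
  have hE := toCls_isEquivOver hfs
  have hst : Stk.IsStack (AlgSp.J S) (Stk.ofPsh (clsPsh hfs.1)) :=
    (isStack_iff_of_isEquivOver (AlgSp.J S) (toCls hfs.1) hE).1 h𝒳.isStack
  have hsh : Presheaf.IsSheaf (AlgSp.J S) (clsPsh hfs.1) :=
    (isSheaf_iff_isSheaf_of_type _ _).2 ((Groth.Agent.S12796.result (AlgSp.J S) (clsPsh hfs.1)).1 hst)
  obtain ⟨F, hFdef⟩ : ∃ F : AlgSp.Sp S, F = ⟨clsPsh hfs.1, hsh⟩ := ⟨_, rfl⟩
  have hF : AlgSp.IsAlgSpace F := by
    obtain ⟨U₀, x₀, hx₀1, hx₀2⟩ := h𝒳.atlas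
    have hs₀ := surjective_ofChart hg x₀ hx₀2
    have hex : ∀ z : U₀.left, ∃ i, AlgSt.Points.ofChart x₀ z ∈
        Set.range (AlgSt.Points.map (AlgSt.subIncl 𝒳 (Q i))) := fun z => by
      have hz : AlgSt.Points.ofChart x₀ z ∈
          ⋃ i, Set.range (AlgSt.Points.map (AlgSt.subIncl 𝒳 (Q i))) := by
        rw [hcov]
        exact Set.mem_univ _
      exact Set.mem_iUnion.1 hz
    choose ix hix using hex
    choose G e he using hsp
    obtain ⟨Fi, hFi⟩ : ∃ Fi : U₀.left → AlgSp.Sp S, Fi = fun z => (G (ix z)).obj := ⟨_, rfl⟩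
    subst hFdef
    subst hFi
    obtain ⟨f, hf⟩ : ∃ f : ∀ z : U₀.left, (G (ix z)).obj ⟶ (⟨clsPsh hfs.1, hsh⟩ : AlgSp.Sp S),
        f = fun z => clsMap hfs.1 hsh (Q (ix z)) (e (ix z)) := ⟨_, rfl⟩
    have hopen : ∀ z, AlgSp.RepWith @IsOpenImmersion (f z) := fun z => by
      rw [hf]
      exact repWith_openImm_clsMap h𝒳 hfs hsh (Q (ix z)) (hQ (ix z)) (e (ix z)) (he (ix z))
    have hc : IsColimit (Cofan.mk (∐ fun z : U₀.left => (G (ix z)).obj)
        (Sigma.ι fun z : U₀.left => (G (ix z)).obj)) := coproductIsCoproduct _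
    have hcop := Groth.Agent.S9881.result S (fun z : U₀.left => (G (ix z)).obj)
      (fun z => (G (ix z)).property) _ hc
    refine Groth.Agent.S9877.result S _ (fun z : U₀.left => (G (ix z)).obj) f
      (fun z => (G (ix z)).property) hopen _ hc ?_ hcop
    refine ⟨fun {T} s => ?_⟩
    change Quotient (fibSetoid 𝒳 T) at s
    obtain ⟨a, ha, rfl⟩ := clsOf_surj s
    obtain ⟨G', j, hj⟩ := exists_rep hg ha
    haveI := hj
    have hT : ∀ i, IsOpen (Set.range (AlgSt.Points.map (AlgSt.subIncl 𝒳 (Q i)))) := fun i =>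
      isOpen_range_of_isOpenImm (hQ i).2.1 h𝒳 _ (hQ i).2.2
    obtain ⟨W, hW⟩ : ∃ W : U₀.left → T.left.Opens, ∀ z, ((W z : T.left.Opens) : Set T.left) =
        AlgSt.Points.ofChart G' ⁻¹'
          Set.range (AlgSt.Points.map (AlgSt.subIncl 𝒳 (Q (ix z)))) :=
      ⟨fun z => ⟨_, (continuous_ofChart h𝒳 G').isOpen_preimage _ (hT (ix z))⟩, fun z => rfl⟩
    have hR : Sieve.generate (Presieve.ofArrows (fun z => overOpen T (W z))
        (fun z => overOpenι T (W z))) ∈ AlgSp.J S T := by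
      refine generate_ofArrows_mem_J_of_open_cover _ _ (fun z => ?_) (fun t => ?_)
      · show IsOpenImmersion (W z).ι
        infer_instance
      · obtain ⟨z, hz⟩ := hs₀ (AlgSt.Points.ofChart G' t)
        refine ⟨z, ?_⟩
        show t ∈ Set.range (W z).ι
        rw [Scheme.Opens.range_ι, hW]
        show AlgSt.Points.ofChart G' t ∈
          Set.range (AlgSt.Points.map (AlgSt.subIncl 𝒳 (Q (ix z))))
        rw [← hz]
        exact hix z
    refine (AlgSp.J S).superset_covering ?_ hR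
    rw [Sieve.generate_le_iff]
    rintro _ _ ⟨z⟩
    have hQz : Q (ix z) (G'.obj (Over.mk (overOpenι T (W z)))) := by
      apply mem_of_ptsIn_range h𝒳 (Q (ix z)) (hQ (ix z))
      rw [ptsIn_iff_chart hg _ G' (Over.mk (overOpenι T (W z)))]
      intro w
      have h3 : (Over.mk (overOpenι T (W z))).hom.left w = (W z).ι w := rfl
      rw [h3]
      have hmem : ((W z).ι w : T.left) ∈ ((W z : T.left.Opens) : Set T.left) := w.2
      rw [hW] at hmem
      exact hmem
    obtain ⟨β, hβ⟩ := exists_section_clsMap hfs.1 hsh (Q (ix z)) (e (ix z)) (he (ix z))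
      (overOpenι T (W z)) ha (G'.w_obj (Over.mk (overOpenι T (W z))))
      (G'.map (toTerminal T (Over.mk (overOpenι T (W z)))) ≫ j.hom)
      (isHomLift_chi G' j.hom (Over.mk (overOpenι T (W z)))) hQz
    refine ⟨(Sigma.ι (fun z : U₀.left => (G (ix z)).obj) z).hom.app (op (overOpen T (W z))) β, ?_⟩
    refine Eq.trans ?_ hβ
    have hfac := Cofan.IsColimit.fac hc f z
    have hfz : f z = clsMap hfs.1 hsh (Q (ix z)) (e (ix z)) := by rw [hf]
    rw [← hfz]
    exact congrArg (fun m => m.hom.app (op (overOpen T (W z))) β) hfac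
  obtain ⟨e₀, he₀⟩ := isEquivOver_symm hE
  subst hFdef
  exact ⟨⟨_, hF⟩, e₀, he₀⟩

end Groth.Agent.S12863
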