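import Groth.Statements.S12864
import Mathlib
import Groth.Agent.Lib.Helper10.AlgStSpaceCover
import Groth.Agent.Lib.Helper10.AlgStPtsBridge
import Groth.Agent.Lib.Helper16.SchLocus
import Groth.Agent.Lib.Helper28.AlgSt.RepSch
import Groth.Agent.S12863

set_option autoImplicit false
open CategoryTheory AlgebraicGeometry
universe u w
open AlgSt

namespace Groth.Agent.S12864

set_option backward.isDefEq.respectTransparency false
set_option backward.isDefEq.respectTransparency.types false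

open H10PT CategoryTheory.Limits Opposite
open Groth.Agent.Lib.Helper10.Fib Groth.Agent.Lib.Helper10.AlgStRep
open Groth.Agent.Lib.Helper10.StkPsh Groth.Agent.Lib.Helper10.HomSheaf
open Groth.Agent.Lib.Helper10.StkPost Groth.Agent.Lib.Helper10.StkElem
open Groth.Agent.Lib.Helper28.AlgSt.ClsPsh Groth.Agent.Lib.Helper28.AlgSt.PshFun
open Groth.Agent.Lib.Helper28.AlgSt.Bridge Groth.Agent.Lib.Helper28.AlgSt.SpaceCalc
open Groth.Agent.Lib.Helper28.AlgSt.Key Groth.Agent.Lib.Helper28.AlgSt.RepSch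
open Groth.Agent.Lib.Helper16 Groth.Agent.Lib.Helper15 Groth.Agent.Lib.Helper16.SchLocus

/-- A map of sheaves inducing (up to equivalences) an open immersion of categories over the base
is representable by open immersions. -/
theorem repWith_of_isOpenImm {S : Scheme.{u}} {𝒜 𝒴 : AlgSt.Cat S} {A B : AlgSp.Sp S}
    (eA : AlgSt.ofSp A ⥤ᵇ 𝒜) (eB : AlgSt.ofSp B ⥤ᵇ 𝒴) (heA : FibCat.IsEquivOver eA)
    (heB : FibCat.IsEquivOver eB) (j : 𝒜 ⥤ᵇ 𝒴) (m : A ⟶ B)
    (iso : BasedFunctor.comp eA j ≅ BasedFunctor.comp (AlgSt.ofSpMap m) eB)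
    (hj : AlgSt.IsOpenImm j) : AlgSp.RepWith @IsOpenImmersion m := by
  apply repWith_of_repBySpWith
  have h2 : AlgSt.RepByAlgSpWith (AlgSp.RepWith @IsOpenImmersion) (Stk.ofPshMap m.hom) :=
    repByAlgSpWith_of_square' _ j (AlgSt.ofSpMap m) eA eB heA heB iso.symm hj
  have hrep : AlgSp.RepBySp m.hom := repBySp_of_repByAlgSp1 _ (repByAlgSp1_of_with _ _ h2)
  exact repBySpWith_of_repByAlgSpWith _ _ hrep h2

/-- Let `𝒳` be an algebraic stack over `S` and `𝒳_i ⊂ 𝒳` a family of open substacks with `𝒳 = ⋃ 𝒳_i`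
(their points exhaust `|𝒳|`). If every `𝒳_i` is a scheme (equivalent over `(Sch/S)` to some
`(Sch/U)`), then `𝒳` is a scheme. -/
theorem result {S : Scheme.{u}} {𝒳 : AlgSt.Cat S}
    (h𝒳 : AlgSt.IsAlgStack Scheme.fppfPrecoverage 𝒳) {ι : Type w} (Q : ι → 𝒳.obj → Prop)
    (hQ : ∀ i, AlgSt.IsOpenSubstack 𝒳 (Q i) Scheme.fppfPrecoverage)
    (hcov : ⋃ i, Set.range (AlgSt.Points.map (AlgSt.subIncl 𝒳 (Q i))) = Set.univ)
    (hsch : ∀ i, FibCat.IsRepresentable (AlgSt.fullSub 𝒳 (Q i))) : FibCat.IsRepresentable 𝒳 := by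
  have hg := h𝒳.isStack.1
  choose Ui Fi hFi using hsch
  have hinv : ∀ i, ∃ Gi : FibCat.overCat (Ui i) ⥤ᵇ AlgSt.fullSub 𝒳 (Q i), FibCat.IsEquivOver Gi :=
    fun i => isEquivOver_symm (hFi i)
  choose Gi hGi using hinv
  have heA : ∀ i, FibCat.IsEquivOver (BasedFunctor.comp (AlgSt.toOverCat (Ui i)) (Gi i)) :=
    fun i => isEquivOver_comp _ _ (isEquivOver_toOverCat (Ui i)) (hGi i)
  have hsp : ∀ i, AlgSt.RepByAlgSp (AlgSt.fullSub 𝒳 (Q i)) := fun i =>
    ⟨⟨(AlgSp.yon S).obj (Ui i), AlgSp.IsAlgSpace.yon_obj (Ui i)⟩, _, heA i⟩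
  obtain ⟨X, eB, heB⟩ := Groth.Agent.S12863.result h𝒳 Q hQ hcov hsp
  have hm : ∀ i, ∃ m : (⟨(AlgSp.yon S).obj (Ui i), AlgSp.IsAlgSpace.yon_obj (Ui i)⟩ :
      AlgSp.Space S) ⟶ X,
      Nonempty (BasedFunctor.comp (BasedFunctor.comp (AlgSt.toOverCat (Ui i)) (Gi i))
        (AlgSt.subIncl 𝒳 (Q i)) ≅ BasedFunctor.comp (AlgSt.ofSpMap m.hom) eB) :=
    fun i => exists_mapOf _ eB heB _
  choose m hmiso using hm
  have hOI : ∀ i, AlgSp.RepWith @IsOpenImmersion (m i).hom := fun i => by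
    obtain ⟨iso⟩ := hmiso i
    exact repWith_of_isOpenImm _ eB (heA i) heB _ (m i).hom iso (hQ i).2.2
  have hloc : schLocus X.obj = Set.univ := by
    apply Set.eq_univ_of_forall
    intro ξ
    have hη : AlgSt.Points.map eB (ptsOfSp ξ) ∈
        ⋃ i, Set.range (AlgSt.Points.map (AlgSt.subIncl 𝒳 (Q i))) := by
      rw [hcov]
      exact Set.mem_univ _
    obtain ⟨i, ζ, hζ⟩ := Set.mem_iUnion.1 hη
    obtain ⟨α', hα'⟩ := (points_map_bijective_of_isEquivOver _ (heA i)).2 ζ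
    obtain ⟨α, rfl⟩ : ∃ α, ptsOfSp α = α' := ⟨ptsToSp α', ptsOfSp_ptsToSp α'⟩
    obtain ⟨iso⟩ := hmiso i
    have hkey : AlgSt.Points.map eB (ptsOfSp (AlgSp.Points.map (m i).hom α)) =
        AlgSt.Points.map eB (ptsOfSp ξ) :=
      calc AlgSt.Points.map eB (ptsOfSp (AlgSp.Points.map (m i).hom α))
          = AlgSt.Points.map eB (AlgSt.Points.map (AlgSt.ofSpMap (m i).hom) (ptsOfSp α)) := by
            rw [ptsOfSp_map]
        _ = AlgSt.Points.map (BasedFunctor.comp (AlgSt.ofSpMap (m i).hom) eB) (ptsOfSp α) :=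
            (congrFun (points_map_comp _ _) _).symm
        _ = AlgSt.Points.map (BasedFunctor.comp (BasedFunctor.comp (AlgSt.toOverCat (Ui i)) (Gi i))
              (AlgSt.subIncl 𝒳 (Q i))) (ptsOfSp α) :=
            (congrFun (points_map_eq_of_iso iso) _).symm
        _ = AlgSt.Points.map (AlgSt.subIncl 𝒳 (Q i))
              (AlgSt.Points.map (BasedFunctor.comp (AlgSt.toOverCat (Ui i)) (Gi i)) (ptsOfSp α)) :=
            congrFun (points_map_comp _ _) _
        _ = AlgSt.Points.map (AlgSt.subIncl 𝒳 (Q i)) ζ := by rw [hα']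
        _ = AlgSt.Points.map eB (ptsOfSp ξ) := hζ
    have hinj := (points_map_bijective_of_isEquivOver eB heB).1
    have hξ : AlgSp.Points.map (m i).hom α = ξ := (ptsEquiv X.obj).injective (hinj hkey)
    have hsub := range_map_subset_schLocus (m i).hom (hOI i) (isRepresentable_of_iso (Iso.refl _))
    exact hsub ⟨α, hξ⟩
  obtain ⟨Mg, ⟨e⟩⟩ := exists_iso_yon_openSub_schLocus X.property
  have hopen := isOpen_schLocus X.obj
  have hsub : Set.range (AlgSp.Points.map (𝟙 X.obj)) ⊆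
      Set.range (AlgSp.Points.map (openSubι X.obj (schLocus X.obj))) := by
    rw [range_map_openSubι, hloc]
    exact Set.subset_univ _
  obtain ⟨g, hg⟩ := exists_factor_of_range_subset (openSubι X.obj (schLocus X.obj))
    (repWith_isOpenImmersion_openSubι _ hopen) (𝟙 X.obj) hsub
  haveI : IsSplitEpi (openSubι X.obj (schLocus X.obj)) := IsSplitEpi.mk' ⟨g, hg⟩
  haveI : IsIso (openSubι X.obj (schLocus X.obj)) := isIso_of_mono_of_isSplitEpi _
  obtain ⟨θ, hθ⟩ : ∃ θ : (AlgSp.yon S).obj Mg ≅ X.obj,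
      θ = e ≪≫ asIso (openSubι X.obj (schLocus X.obj)) := ⟨_, rfl⟩
  obtain ⟨eB', heB'⟩ := isEquivOver_symm heB
  have h1 : FibCat.IsEquivOver (AlgSt.ofSpMap θ.inv) :=
    isEquivOver_ofPshMap_of_iso ((sheafToPresheaf (AlgSp.J S) (Type (u + 1))).mapIso θ.symm)
  exact ⟨Mg, BasedFunctor.comp (BasedFunctor.comp eB' (AlgSt.ofSpMap θ.inv)) (AlgSt.toOverCat Mg),
    isEquivOver_comp _ _ (isEquivOver_comp _ _ heB' h1) (isEquivOver_toOverCat Mg)⟩

end Groth.Agent.S12864
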