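import Groth.Statements.S12874
import Mathlib
import Groth.Agent.S12842
import Groth.Agent.Lib.Helper28.AlgSt.Descent
import Groth.Agent.Lib.Helper28.AlgSt.Good2

set_option autoImplicit false
open CategoryTheory AlgebraicGeometry
universe u
open AlgSt

namespace Groth.Agent.S12874

/-- The generic criterion: a property of morphisms of algebraic spaces which is stable under base
change and fppf local on the base can be checked after base change to a flat, locally finitely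
presented, surjective cover by an algebraic space. -/
theorem repByAlgSpWith_iff_cover {S : Scheme.{u}} {𝒳 𝒴 : AlgSt.Cat S}
    (P : MorphismProperty (AlgSp.Sp S))
    (hPb : Groth.Agent.Lib.Helper28.AlgSt.PropInst.BC P)
    (hP : AlgSp.IsLocalOnBase AlgSp.IsFppfCover P)
    (h𝒳 : AlgSt.IsAlgStack Scheme.fppfPrecoverage 𝒳) (h𝒴 : AlgSt.IsAlgStack Scheme.fppfPrecoverage 𝒴)
    (f : 𝒳 ⥤ᵇ 𝒴) (W : AlgSp.Space S) (w : AlgSt.ofSp W.obj ⥤ᵇ 𝒴)
    (hw₁ : AlgSt.RepByAlgSpWith (AlgSp.LocP @Flat) w)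
    (hw₂ : AlgSt.RepByAlgSpWith (AlgSp.LocP @LocallyOfFinitePresentation) w)
    (hw₃ : AlgSt.RepByAlgSpWith AlgSp.IsSurjectiveMor w) :
    AlgSt.RepByAlgSpWith P f ↔
      ∃ (V : AlgSp.Space S) (a : V ⟶ W) (e : AlgSt.ofSp V.obj ⥤ᵇ FibCat.fp w f),
        FibCat.IsEquivOver e ∧
          Nonempty (BasedFunctor.comp e (FibCat.fpFst w f) ≅ AlgSt.ofSpMap a.hom) ∧ P a.hom := by
  have h𝒳g := h𝒳.isStack.1
  have h𝒴g := h𝒴.isStack.1
  constructor
  · intro hf
    have hf1 : AlgSt.RepByAlgSp1 f :=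
      Groth.Agent.Lib.Helper28.AlgSt.Key.repByAlgSp1_of_with _ _ hf
    obtain ⟨V, a, e, he, hiso⟩ :=
      Groth.Agent.Lib.Helper28.AlgSt.Key.exists_space_fp h𝒳g h𝒴g f hf1 W w
    refine ⟨V, a, e, he, hiso, ?_⟩
    exact Groth.Agent.Lib.Helper28.AlgSt.Key.prop_of_repByAlgSpWith h𝒳g h𝒴g _ hPb hP f hf
      W w V a e he hiso
  · rintro ⟨V, a, e, he, ⟨iso⟩, ha⟩
    have hf1 : AlgSt.RepByAlgSp1 f :=
      Groth.Agent.S12842.result h𝒳 h𝒴 f W w hw₁ hw₂ hw₃ ⟨V, e, he⟩
    exact Groth.Agent.Lib.Helper28.AlgSt.Descent.repByAlgSpWith_of_space_cover h𝒳g h𝒴g _ hPb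
      hP f hf1 W w hw₁ hw₂ hw₃ V a e he iso ha

/-- Consider algebraic stacks `𝒳`, `𝒴` over `S` with a 1-morphism `f : 𝒳 ⟶ 𝒴`, and suppose `W` is an
algebraic space equipped with a map `w : W ⟶ 𝒴` that is flat, surjective and locally of finite
presentation. In this situation `f` is an open immersion exactly when the 2-fibre product `V = W ×_𝒴
𝒳` is an algebraic space whose projection `V ⟶ W` is an open immersion of algebraic spaces; here the
projection is encoded by `V`, a morphism `a : V ⟶ W`, and an equivalence over `(Sch/S)` from the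
category of `V` to the 2-fibre product such that composing it with the first projection gives a
functor 2-isomorphic to the functor of `a`. -/
theorem result {S : Scheme.{u}} {𝒳 𝒴 : AlgSt.Cat S}
    (h𝒳 : AlgSt.IsAlgStack Scheme.fppfPrecoverage 𝒳) (h𝒴 : AlgSt.IsAlgStack Scheme.fppfPrecoverage 𝒴)
    (f : 𝒳 ⥤ᵇ 𝒴) (W : AlgSp.Space S) (w : AlgSt.ofSp W.obj ⥤ᵇ 𝒴)
    (hw₁ : AlgSt.RepByAlgSpWith (AlgSp.LocP @Flat) w)
    (hw₂ : AlgSt.RepByAlgSpWith (AlgSp.LocP @LocallyOfFinitePresentation) w)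
    (hw₃ : AlgSt.RepByAlgSpWith AlgSp.IsSurjectiveMor w) :
    AlgSt.IsOpenImm f ↔
      ∃ (V : AlgSp.Space S) (a : V ⟶ W) (e : AlgSt.ofSp V.obj ⥤ᵇ FibCat.fp w f),
        FibCat.IsEquivOver e ∧
          Nonempty (BasedFunctor.comp e (FibCat.fpFst w f) ≅ AlgSt.ofSpMap a.hom) ∧
            AlgSp.RepWith @IsOpenImmersion a.hom := by
  have hgood := Groth.Agent.Lib.Helper28.AlgSt.PropInst.good_openImm (S := S)
  exact repByAlgSpWith_iff_cover _ hgood.bc hgood.loc h𝒳 h𝒴 f W w hw₁ hw₂ hw₃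

end Groth.Agent.S12874
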