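import Groth.Statements.S12879
import Groth.Agent.Lib.Lead.ExtZQC

set_option autoImplicit false
universe u
open CategoryTheory CategoryTheory.Limits TopologicalSpace AlgebraicGeometry
open Coherent

namespace Groth.Agent.S12879

/-- Let X be a locally Noetherian scheme, Z a closed subset with open complement U, F a coherent
O_X-module and G a quasi-coherent O_X-module. Then for every i the local Ext sheaf with supports
ℰxt^i_Z(F, G), the i-th right derived functor of N ↦ Γ_Z(ℋom(F, N)) on O_X-modules evaluated at G,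
is quasi-coherent. (The published statement allows Z locally closed; this row takes Z closed. The
internal Hom functor of F and injective resolutions of O_X-modules are the stated instance
hypotheses, both true.) -/
theorem result (X : Scheme.{u}) [IsLocallyNoetherian X] (U : X.Opens)
    (F G : X.Modules) (hF : Coh.IsCoh F) (hG : Coh.IsQCoh G)
    [ModSite.HasSheafHom (O := X.sheaf) F] [HasInjectiveResolutions (ModSite.Mod X.sheaf)] (i : ℕ) :
    Coh.IsQCoh ((ModSite.extZSh (O := X.sheaf) U F i).obj G) := by
  haveI : EnoughInjectives (ModSite.Mod X.sheaf) :=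
    Groth.Agent.Lib.Helper13.ModGrothendieck.enoughInjectives X.ringCatSheaf
  haveI h1 : PreservesFiniteLimits (ModSite.sheafHom (O := X.sheaf) F) :=
    Groth.Agent.Lib.Helper13.SheafHomExact.pfl_sheafHom (O := X.sheaf) F
  haveI h2 : (ModSite.sectOn X.sheaf U).IsRightAdjoint :=
    (Groth.Agent.Lib.Helper2.SuppAdj.adjQuotSect X.sheaf U).isRightAdjoint
  haveI h3 : PreservesFiniteLimits (ModSite.sectOn X.sheaf U) := inferInstance
  haveI h4 : PreservesFiniteLimits (ModSite.sheafHom (O := X.sheaf) F ⋙ ModSite.sectOn X.sheaf U) :=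
    comp_preservesFiniteLimits _ _
  haveI h5 : (ModSite.sheafHom (O := X.sheaf) F ⋙ ModSite.sectOn X.sheaf U).Additive :=
    inferInstance
  refine @Groth.Agent.Lib.Lead.ExtZQC.P_rightDerived_of_ses
    (ModSite.Mod X.sheaf) _ _ _ (ModSite.Mod X.sheaf) _ _
    (ModSite.sheafHom (O := X.sheaf) F ⋙ ModSite.sectOn X.sheaf U) h5 h4
    (fun M : ModSite.Mod X.sheaf => SheafOfModules.IsQuasicoherent (R := X.ringCatSheaf) M)
    (fun M : X.Modules => M.IsQuasicoherent)
    (Groth.Agent.Lib.Helper13.LocCohPlus.closed_qcoh X) ?_ ?_ i G hG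
  · intro M hM
    haveI : SheafOfModules.IsQuasicoherent (R := X.ringCatSheaf) M := hM
    obtain ⟨Q, u, hQ, hQinj, hu⟩ :=
      Groth.Agent.Lib.Lead.QInj.exists_mono_qcoh_injective (X := X) M
    haveI := hQ
    haveI := hu
    refine ⟨Q, cokernel u, u, cokernel.π u, cokernel.condition u, ?_, hQinj, hQ, ?_⟩
    · exact ShortComplex.ShortExact.mk' (ShortComplex.exact_cokernel u) hu
        (inferInstanceAs (Epi (cokernel.π u)))
    · exact Groth.Agent.Lib.Helper3.QCProps.isQuasicoherent_cokernel u
  · intro M hM
    exact Groth.Agent.Lib.Lead.ExtZQC.isQuasicoherent_sectOn U _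
      (Groth.Agent.Lib.Lead.ExtZQC.isQuasicoherent_sheafHom F M hF hM)

end Groth.Agent.S12879
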