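import Groth.Statements.S12889
import Groth.Agent.Lib.Helper2.SuppAdj
import Groth.Agent.Lib.Helper2.GSS.Main
import Groth.Agent.Lib.Helper2.GSS.HomFunctor
import Groth.Agent.Lib.Helper2.QuotZ.Compare
-- import your own Groth.Agent.* helpers here

set_option autoImplicit false
universe u
open CategoryTheory CategoryTheory.Limits
open ModSite

namespace Groth.Agent.S12889

open Groth.Agent.Lib.Helper2 Groth.Agent.Lib.Helper2.GSS Groth.Agent.Lib.Helper2.SuppAdj
  Groth.Agent.Lib.Helper13.DerivedCommute

/-- On a small ringed site (C, J, O) with O commutative, let U be an object with Z the closed complement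
of the open it generates, and M an O-module. There is an E₂ spectral sequence of abelian groups with
E₂^{p,q} ≅ H^p(C, ℋ^q_Z(M)) for p, q ≥ 0 (and 0 otherwise), bounded, abutting with finite
filtrations to H^n_Z(M) (n ≥ 0; 0 for n < 0); here ℋ^q_Z are the right derived functors of sections
with support on O-modules, H^p(C, -) is the cohomology of the site with values in the underlying
abelian sheaf, and H^n_Z(M) are the Ext groups out of ℤ/ℤ_U into the underlying abelian sheaf.
(Existence only: the E₂ identifications and the abutment are some isomorphisms. The direct image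
along the localisation at U and injective resolutions of O-modules are the stated instance
hypotheses, both true.) -/
theorem result {C : Type u} [SmallCategory C] {J : GrothendieckTopology C}
    (O : Sheaf J CommRingCat.{u}) (U : C) (M : ModSite.Mod O)
    [ModSite.HasPushOver O U] [HasInjectiveResolutions (ModSite.Mod O)] :
    ∃ (E : E₂CohomologicalSpectralSequence AddCommGrpCat.{u})
      (a : SpSeq.Abutment E (fun n : ℤ =>
        if 0 ≤ n then AddCommGrpCat.of (ModSite.HZ U M n.toNat) else AddCommGrpCat.of PUnit.{u + 1})),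
      (∀ n : ℤ, a.IsFinite n) ∧ SpSeq.IsBounded E ∧
      ∀ p q : ℤ, Nonempty ((E.page 2 le_rfl).X (p, q) ≅
        (if 0 ≤ p ∧ 0 ≤ q then AddCommGrpCat.of (ModSite.HC O ((ModSite.HZsh O U q.toNat).obj M) p.toNat)
          else AddCommGrpCat.of PUnit.{u + 1})) := by
  haveI : HasExt.{u} (ModSite.Mod O) := hasExt_of_enoughInjectives _
  refine grothendieck_ss_ite (ModSite.sectOn O U) (homF (ModSite.unit O)) ?_ M
    (fun n => AddCommGrpCat.of (ModSite.HZ U M n)) ?_
    (fun p q => AddCommGrpCat.of (ModSite.HC O ((ModSite.HZsh O U q).obj M) p)) ?_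
    (AddCommGrpCat.of PUnit.{u + 1}) (AddCommGrpCat.of PUnit.{u + 1})
    (AddCommGrpCat.isZero_of_subsingleton _) (AddCommGrpCat.isZero_of_subsingleton _)
  · intro Q hQ q hq
    obtain ⟨q', rfl⟩ : ∃ q', q = q' + 1 := ⟨q - 1, by omega⟩
    haveI : Injective ((ModSite.sectOn O U).obj Q) := injective_sectOn O U Q
    exact Functor.isZero_rightDerived_obj_injective_succ _ _ _
  · intro n
    let e : ModSite.sectOn O U ⋙ homF (ModSite.unit O) ≅
        homF ((ModSite.quotOn O U).obj (ModSite.unit O)) :=
      homFAdjIso (adjQuotSect O U) (ModSite.unit O)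
    obtain ⟨e'⟩ := QuotZLib.nonempty_iso' O U M n
    exact ⟨e'.symm ≪≫ (rightDerivedHomFIso ((ModSite.quotOn O U).obj (ModSite.unit O)) M n).symm ≪≫
      (rightDerivedObjIsoOfNatIso e n M).symm⟩
  · intro p q
    obtain ⟨e⟩ := ExtUnitH.nonempty_iso O ((ModSite.HZsh O U q).obj M) p
    exact ⟨e.symm ≪≫
      (rightDerivedHomFIso (ModSite.unit O) ((ModSite.HZsh O U q).obj M) p).symm⟩

end Groth.Agent.S12889
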