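import Groth.Statements.S12895
import Groth.Agent.Lib.Helper2.ExtUnitH
import Groth.Agent.Lib.Helper2.GSS.Main
import Groth.Agent.Lib.Helper2.GSS.HomFunctor
-- import your own Groth.Agent.* helpers here

set_option autoImplicit false
universe u
open CategoryTheory CategoryTheory.Limits
open ModSite

namespace Groth.Agent.S12895

open Groth.Agent.Lib.Helper2 Groth.Agent.Lib.Helper2.GSS Groth.Agent.Lib.Helper2.ExtUnitH
  Groth.Agent.Lib.Helper2.ModHomAcyclic Groth.Agent.Lib.Helper13.ModSiteUnitor
  Groth.Agent.Lib.Helper13.DerivedCommute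

theorem aux {C : Type u} [SmallCategory C] {J : GrothendieckTopology C}
    (O : Sheaf J CommRingCat.{u}) (M N : ModSite.Mod O)
    [ModSite.HasSheafHom M] [HasInjectiveResolutions (ModSite.Mod O)] [HasExt.{u} (ModSite.Mod O)] :
    ∃ (E : E₂CohomologicalSpectralSequence AddCommGrpCat.{u})
      (a : SpSeq.Abutment E (fun n : ℤ =>
        if 0 ≤ n then AddCommGrpCat.of (Abelian.Ext.{u} M N n.toNat) else AddCommGrpCat.of PUnit.{u + 1})),
      (∀ n : ℤ, a.IsFinite n) ∧ SpSeq.IsBounded E ∧
      ∀ p q : ℤ, Nonempty ((E.page 2 le_rfl).X (p, q) ≅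
        (if 0 ≤ p ∧ 0 ≤ q then AddCommGrpCat.of (ModSite.HC O ((ModSite.extSh M q.toNat).obj N) p.toNat)
          else AddCommGrpCat.of PUnit.{u + 1})) := by
  refine grothendieck_ss_ite (ModSite.sheafHom M) (homF (ModSite.unit O)) ?_ N
    (fun n => AddCommGrpCat.of (Abelian.Ext.{u} M N n)) ?_
    (fun p q => AddCommGrpCat.of (ModSite.HC O ((ModSite.extSh M q).obj N) p)) ?_
    (AddCommGrpCat.of PUnit.{u + 1}) (AddCommGrpCat.of PUnit.{u + 1})
    (AddCommGrpCat.isZero_of_subsingleton _) (AddCommGrpCat.isZero_of_subsingleton _)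
  · intro Q hQ q hq
    obtain ⟨q', rfl⟩ : ∃ q', q = q' + 1 := ⟨q - 1, by omega⟩
    obtain ⟨e⟩ := nonempty_iso O ((ModSite.sheafHom M).obj Q) (q' + 1)
    have hsub : Subsingleton (ModSite.HC O ((ModSite.sheafHom M).obj Q) (q' + 1)) :=
      subsingleton_H_of_isTotallyAcyclic J _ (isTotallyAcyclic_sheafHom O M Q) q'
    exact IsZero.of_iso (AddCommGrpCat.isZero_of_subsingleton _)
      (rightDerivedHomFIso (ModSite.unit O) ((ModSite.sheafHom M).obj Q) (q' + 1) ≪≫ e)
  · intro n
    let e : ModSite.sheafHom M ⋙ homF (ModSite.unit O) ≅ homF M :=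
      homFAdjIso (ModSite.sheafHomAdj M) (ModSite.unit O) ≪≫
        homFIsoOfIso ((leftUnitorIso O).app M)
    exact ⟨(rightDerivedHomFIso M N n).symm ≪≫ (rightDerivedObjIsoOfNatIso e n N).symm⟩
  · intro p q
    obtain ⟨e⟩ := nonempty_iso O ((ModSite.extSh M q).obj N) p
    exact ⟨e.symm ≪≫ (rightDerivedHomFIso (ModSite.unit O) ((ModSite.extSh M q).obj N) p).symm⟩

/-- The local-to-global Ext sequence: on a small ringed site (C, J, O) with O commutative, for O-modules
M and N there is an E₂ spectral sequence of abelian groups with E₂^{p,q} ≅ H^p(C, ℰxt^q_O(M, N)) for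
p, q ≥ 0 (and 0 otherwise), bounded, abutting with finite filtrations to Ext^n_O(M, N) (n ≥ 0; 0 for
n < 0); here ℰxt^q_O(M, -) are the right derived functors of the internal Hom ℋom_O(M, -), H^p(C, -)
is the cohomology of the site with values in the underlying abelian sheaf, and Ext^n_O is computed
in the category of O-modules. (Existence only: the E₂ identifications and the abutment are some
isomorphisms. The internal Hom of M, injective resolutions of O-modules and smallness of the Ext
groups of O-modules are the stated instance hypotheses, all true.) -/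
theorem result {C : Type u} [SmallCategory C] {J : GrothendieckTopology C}
    (O : Sheaf J CommRingCat.{u}) (M N : ModSite.Mod O)
    [ModSite.HasSheafHom M] [HasInjectiveResolutions (ModSite.Mod O)] [HasExt.{u} (ModSite.Mod O)] :
    ∃ (E : E₂CohomologicalSpectralSequence AddCommGrpCat.{u})
      (a : SpSeq.Abutment E (fun n : ℤ =>
        if 0 ≤ n then AddCommGrpCat.of (Abelian.Ext.{u} M N n.toNat) else AddCommGrpCat.of PUnit.{u + 1})),
      (∀ n : ℤ, a.IsFinite n) ∧ SpSeq.IsBounded E ∧
      ∀ p q : ℤ, Nonempty ((E.page 2 le_rfl).X (p, q) ≅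
        (if 0 ≤ p ∧ 0 ≤ q then AddCommGrpCat.of (ModSite.HC O ((ModSite.extSh M q.toNat).obj N) p.toNat)
          else AddCommGrpCat.of PUnit.{u + 1})) := aux O M N

end Groth.Agent.S12895
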