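import Groth.Statements.S12899
import Mathlib
import Groth.Agent.Lib.Helper25.GlueFlatAway
import Groth.Agent.Lib.Helper18.DRTorZ2
import Groth.Agent.Lib.Helper18.DRFib
import Groth.Agent.Lib.Helper18.DRTorC

set_option autoImplicit false
universe u
open CategoryTheory CategoryTheory.Limits
attribute [local instance] HasDerivedCategory.standard
open DRing

namespace Groth.Agent.S12899

open DerivedCategory
open Groth.Agent.Lib.Helper18.DR

set_option linter.style.haveILetI false



/-- Let R be a commutative ring, f ∈ R and M an object of D(R) such that (1) H^i(M) = 0 for i &gt; 0,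
(2) in D(R_f), M ⊗^L_R R_f is isomorphic to a flat R_f-module concentrated in degree 0, and (3) in
D(R/fR), M ⊗^L_R R/fR is isomorphic to a flat R/fR-module concentrated in degree 0. Then, in D(R), M
itself is isomorphic to a flat R-module concentrated in degree 0. (The derived base change functors
along R → R_f and R → R/fR are the stated instance hypotheses, both true.) -/
theorem result {R : Type u} [CommRing R] (f : R) (M : Dual.D R)
    [DRing.HasLBaseChange (algebraMap R (Localization.Away f))]
    [DRing.HasLBaseChange (Ideal.Quotient.mk (Ideal.span ({f} : Set R)))]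
    (h1 : ∀ i : ℤ, 0 < i → Subsingleton (Dual.HD R M i))
    (h2 : ∃ (N : Type u) (_ : AddCommGroup N) (_ : Module (Localization.Away f) N),
      Module.Flat (Localization.Away f) N ∧
        Nonempty ((DRing.LBaseChange (algebraMap R (Localization.Away f))).obj M ≅ Dual.inD (Localization.Away f) N))
    (h3 : ∃ (N : Type u) (_ : AddCommGroup N) (_ : Module (R ⧸ Ideal.span ({f} : Set R)) N),
      Module.Flat (R ⧸ Ideal.span ({f} : Set R)) N ∧
        Nonempty ((DRing.LBaseChange (Ideal.Quotient.mk (Ideal.span ({f} : Set R)))).obj M ≅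
          Dual.inD (R ⧸ Ideal.span ({f} : Set R)) N)) :
    ∃ (N : Type u) (_ : AddCommGroup N) (_ : Module R N), Module.Flat R N ∧ Nonempty (M ≅ Dual.inD R N) := by
  classical
  haveI : M.IsLE 0 := by
    rw [DerivedCategory.isLE_iff]
    intro i hi
    exact isZero_H_of_subsingleton M i (h1 i hi)
  obtain ⟨G, hGb, hGfree, ⟨eG⟩⟩ := exists_free_resolution M 0
  have hGproj : ∀ i, Module.Projective R (G.X i) := fun i => by
    haveI := hGfree i; exact Module.Projective.of_free
  have hGflat : DRing.TermwiseFlat G := fun i => by haveI := hGproj i; infer_instance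
  -- the two base changes
  have key : ∀ (B : Type u) [CommRing B] [Algebra R B] [DRing.HasLBaseChange (algebraMap R B)]
      (_ : ∃ (N : Type u) (_ : AddCommGroup N) (_ : Module B N), Module.Flat B N ∧
        Nonempty ((DRing.LBaseChange (algebraMap R B)).obj M ≅ Dual.inD B N)),
      ∀ (N : Type u) [AddCommGroup N] [Module B N] [Module R N] [IsScalarTower R B N]
        (i j k : ℤ), i + 1 = j → j + 1 = k → j < 0 →
        Function.Exact ((G.d i j).hom.lTensor N) ((G.d j k).hom.lTensor N) := by
    intro B _ _ _ hB N _ _ _ _ i j k hij hjk hj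
    obtain ⟨N₀, _, _, hN₀flat, ⟨e₀⟩⟩ := hB
    have hTA0 : DRing.HasTorAmplitudeIn B 0 0 (Dual.inD B N₀) := by
      have h := (hasTorDimLE_iff_hasTorAmplitudeIn_single B N₀ 0).1.mp
        ((hasTorDimLE_iff_hasTorAmplitudeIn_single B N₀ 0).2.mpr hN₀flat)
      simpa using h
    obtain ⟨eLB⟩ := nonempty_LBaseChange_iso_of_flat (κ := B) G 0 hGb hGflat
    have hTA : DRing.HasTorAmplitudeIn B 0 0 (DRing.toD
        (((extM (A := R) (B := B)).mapHomologicalComplex (ComplexShape.up ℤ)).obj G)) :=
      hasTorAmplitudeIn_of_iso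
        (e₀.symm ≪≫ (DRing.LBaseChange (algebraMap R B)).mapIso eG.symm ≪≫ eLB) hTA0
    have hGc : DRing.VanishesAbove
        (((extM (A := R) (B := B)).mapHomologicalComplex (ComplexShape.up ℤ)).obj G) 0 :=
      vanishesAbove_mapHC extM G 0 hGb
    have hGf : DRing.TermwiseFlat
        (((extM (A := R) (B := B)).mapHomologicalComplex (ComplexShape.up ℤ)).obj G) := fun i => by
      haveI := hGflat i
      exact flat_extM (B := B) (G.X i)
    apply lTensor_exact_of_extM_module (S := B) N
    rw [← (tensorLike_tensorRight (ModuleCat.of B N)).exact_iff]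
    have h1' := (tensorLike_tensorRight (ModuleCat.of B N)).isZero_H_of_hasTorAmplitudeIn_flat
      (((extM (A := R) (B := B)).mapHomologicalComplex (ComplexShape.up ℤ)).obj G) 0 hGc hGf
      0 0 hTA j (Or.inl hj)
    exact (isZero_H_toD_iff _ i j k hij hjk).mp h1'
  haveI hLBq : DRing.HasLBaseChange (algebraMap R (R ⧸ Ideal.span ({f} : Set R))) :=
    ‹DRing.HasLBaseChange (Ideal.Quotient.mk (Ideal.span ({f} : Set R)))›
  have hq := key (R ⧸ Ideal.span ({f} : Set R)) h3
  have ha := key (Localization.Away f) h2
  have hTA : DRing.HasTorAmplitudeIn R 0 0 (DRing.toD G) := by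
    refine hasTorAmplitudeIn_of_exact_lTensor G 0 0 hGb hGflat ?_
    intro N _ _ i j k hij hjk hj
    rcases hj with hj | hj
    · exact Groth.Agent.Lib.Helper25.GlueFlatAway.exact_lTensor_of_away_and_quotient f G hGflat
        hq ha N i j k hij hjk hj
    · have hz : IsZero (G.X j) := hGb j hj
      haveI : Subsingleton (G.X j) := ModuleCat.subsingleton_of_isZero hz
      have h0 : ∀ z : TensorProduct R N (G.X j), z = 0 := by
        intro z
        induction z using TensorProduct.induction_on with
        | zero => rfl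
        | tmul n y => rw [Subsingleton.elim y 0, TensorProduct.tmul_zero]
        | add x y hx hy => rw [hx, hy, add_zero]
      intro y
      rw [h0 y]
      exact ⟨fun _ => ⟨0, map_zero _⟩, fun _ => map_zero _⟩
  have hTAM : DRing.HasTorAmplitudeIn R 0 0 M := hasTorAmplitudeIn_of_iso eG hTA
  haveI : M.IsGE 0 := isGE_of_hasTorAmplitudeIn hTAM
  obtain ⟨A₀, ⟨eA⟩⟩ := DerivedCategory.exists_iso_singleFunctor_obj_of_isGE_of_isLE M 0
  haveI hflat : Module.Flat R ((H R 0).obj M) := flat_H_of_hasTorAmplitudeIn M 0 0 hTAM
  have hA₀ : Module.Flat R A₀ :=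
    Module.Flat.of_linearEquiv (((H R 0).mapIso eA ≪≫ HSg 0 A₀).symm.toLinearEquiv)
  exact ⟨A₀, inferInstance, inferInstance, hA₀, ⟨eA⟩⟩

end Groth.Agent.S12899
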