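import Groth.Statements.S12905
import Groth.Agent.Lib.Helper7.Mumford
import Groth.Agent.Lib.Helper17.SuppTensor
import Groth.Agent.Lib.Helper16.DimZeroTop
import Groth.Agent.S0020
import Groth.Agent.S0047
import Groth.Agent.S2357

set_option autoImplicit false
universe u
open CategoryTheory CategoryTheory.Limits AlgebraicGeometry
open Variety

namespace Groth.Agent.S12905

/-- Let k be a field and φ : F' → F a monomorphism of coherent modules on P^n_k whose cokernel has
support of Krull dimension at most zero (a finite set of closed points, possibly empty). If F' is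
m-regular then F is m-regular. (The published statement is the case of an ideal sheaf contained in
the ideal sheaf of a curve with quotient supported at finitely many points, phrased as an inequality
of regularities; the argument gives the form stated here.) -/
theorem result (k : Type u) [Field k] (n : ℕ)
    (F' F : (CohB1.ProjSpace n k).Modules) (hF' : Coh.IsCoh F') (hF : Coh.IsCoh F) (φ : F' ⟶ F) [Mono φ]
    (hsupp : topologicalKrullDim (CohB1.support (cokernel φ)) ≤ 0) (m : ℤ)
    (h : Curv2.IsMRegular k n F' m) : Curv2.IsMRegular k n F m := by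
  intro i hi1 hin
  haveI : IsNoetherian (CohB1.ProjSpace n k) := Groth.Agent.S2357.result (CohB1.polyGrading n k)
  have hS : (ShortComplex.mk φ (cokernel.π φ) (cokernel.condition φ)).ShortExact :=
    ShortComplex.ShortExact.mk' (ShortComplex.exact_cokernel φ) inferInstance inferInstance
  have hT := Groth.Agent.Lib.Helper7.Mumford.shortExact_tw n k (m - i) _ hS
  haveI : F'.IsQuasicoherent := hF'.1
  haveI : F.IsQuasicoherent := hF.1
  haveI : F.IsFiniteType := hF.2
  haveI hCq : (cokernel φ).IsQuasicoherent :=
    Groth.Agent.Lib.Helper3.QCProps.isQuasicoherent_cokernel φ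
  haveI hCf : (cokernel φ).IsFiniteType :=
    Groth.Agent.Lib.Helper3.QCProps.isFiniteType_of_epi (cokernel.π φ)
  have hO : Coh.IsCoh (Twist.twistProjSpace n k (m - i)) :=
    Groth.Agent.Lib.Helper7.PnFinite.isCoh_twist n k (m - i)
  haveI : (Twist.twistProjSpace n k (m - i)).IsQuasicoherent := hO.1
  haveI : (Twist.twistProjSpace n k (m - i)).IsFiniteType := hO.2
  have hinv : PicF.IsInvertible (Twist.twistProjSpace n k (m - i)) :=
    Groth.Agent.Lib.Helper7.TwProj.isInvertible_twist (Groth.Agent.Lib.Helper7.Mumford.hU n k)
      (m - i)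
  have hCc : Coh.IsCoh (CohB1.tensorMod (cokernel φ) (Twist.twistProjSpace n k (m - i))) :=
    ⟨Groth.Agent.Lib.Helper3.InvCoh.isQuasicoherent_tensorMod _ _ hinv,
      Groth.Agent.Lib.Helper3.InvCoh.isFiniteType_tensorMod _ _ hinv⟩
  have hsup : CohB1.support (CohB1.tensorMod (cokernel φ) (Twist.twistProjSpace n k (m - i))) ⊆
      CohB1.support (cokernel φ) := by
    rw [Groth.Agent.Lib.Helper17.SuppTensor.support_tensorMod]
    exact Set.inter_subset_left
  have hcl : IsClosed (CohB1.support (cokernel φ)) := Groth.Agent.S0020.result _ _ hCf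
  have h0 : ∀ x ∈ CohB1.support (CohB1.tensorMod (cokernel φ)
      (Twist.twistProjSpace n k (m - i))), IsClosed ({x} : Set (CohB1.ProjSpace n k)) := by
    intro x hx
    have hxC := hsup hx
    rw [← closure_subset_iff_isClosed]
    intro y hy
    have hyC : y ∈ CohB1.support (cokernel φ) :=
      (closure_minimal (Set.singleton_subset_iff.mpr hxC) hcl) hy
    have hs : x ⤳ y := specializes_iff_mem_closure.mpr hy
    have hs' : (⟨x, hxC⟩ : CohB1.support (cokernel φ)) ⤳ ⟨y, hyC⟩ :=
      (subtype_specializes_iff _ _).mpr hs
    have e := Groth.Agent.Lib.Helper16.DimZero.eq_of_specializes_of_topologicalKrullDim_le_zero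
      hsupp hs'
    have e' : x = y := congrArg Subtype.val e
    rw [Set.mem_singleton_iff]
    exact e'.symm
  have h3 := Groth.Agent.S0047.result (CohB1.ProjSpace n k) _ hCc h0 i (by omega)
  exact Groth.Agent.Lib.Helper7.TwFun.sub_mid _ hT i (h i hi1 hin) h3

end Groth.Agent.S12905
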