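import Groth.Statements.S12912
import Groth.Agent.S1564
import Groth.Agent.S0843
import Groth.Agent.Lib.Helper3.PbBasic
import Groth.Agent.Lib.Helper23.GeomH0
import Groth.Agent.Lib.Helper23.AmpleCurve5
import Groth.Agent.Lib.Helper23.CurveD

set_option autoImplicit false
universe u
open CategoryTheory CategoryTheory.Limits AlgebraicGeometry
open Curves

namespace Groth.Agent.S12912

open Groth.Agent.Lib.Helper23.T2 in
/-- pulling back global sections, as a `k`-linear map on `H⁰` -/
noncomputable def pullH0 {k : Type u} [Field k] {X P : Scheme.{u}} [X.Over (Spec (CommRingCat.of k))]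
    [P.Over (Spec (CommRingCat.of k))] (i : X ⟶ P)
    (hi : i ≫ (P ↘ Spec (CommRingCat.of k)) = (X ↘ Spec (CommRingCat.of k))) (M : P.Modules) :
    Coh.HH P M 0 →ₗ[k] Coh.HH X ((Scheme.Modules.pullback i).obj M) 0 where
  toFun x := (H0equiv ((Scheme.Modules.pullback i).obj M)).symm
    (OmegaSh.pullSect i M ⊤ (H0equiv M x))
  map_add' x y := by
    have h1 : H0equiv M (x + y) = H0equiv M x + H0equiv M y := map_add _ _ _
    have h2 : OmegaSh.pullSect i M ⊤ (H0equiv M x + H0equiv M y) =
        OmegaSh.pullSect i M ⊤ (H0equiv M x) + OmegaSh.pullSect i M ⊤ (H0equiv M y) :=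
      map_add _ _ _
    exact (congrArg (fun t => (H0equiv ((Scheme.Modules.pullback i).obj M)).symm
      (OmegaSh.pullSect i M ⊤ t)) h1).trans
      ((congrArg (H0equiv ((Scheme.Modules.pullback i).obj M)).symm h2).trans (map_add _ _ _))
  map_smul' c x := by
    have e1 : c • x = (Coh.toGlobal (P ↘ Spec (CommRingCat.of k)) c) • x := rfl
    have h1 : H0equiv M ((Coh.toGlobal (P ↘ Spec (CommRingCat.of k)) c) • x) =
        (Coh.toGlobal (P ↘ Spec (CommRingCat.of k)) c) • H0equiv M x := _root_.map_smul _ _ _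
    have h2 := OmegaSh.pullSect_smul i M ⊤ (Coh.toGlobal (P ↘ Spec (CommRingCat.of k)) c)
      (H0equiv M x)
    have h3 : (i.app ⊤).hom (Coh.toGlobal (P ↘ Spec (CommRingCat.of k)) c) =
        Coh.toGlobal (X ↘ Spec (CommRingCat.of k)) c := by
      have e := congrArg (fun f : X ⟶ Spec (CommRingCat.of k) =>
        (f.appTop).hom ((Scheme.ΓSpecIso (CommRingCat.of k)).inv.hom c)) hi.symm
      simp only [Scheme.Hom.comp_appTop, CommRingCat.hom_comp, RingHom.comp_apply] at e
      exact e.symm
    let m' : Γm ((Scheme.Modules.pullback i).obj M) := OmegaSh.pullSect i M ⊤ (H0equiv M x)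
    have h4 : (H0equiv ((Scheme.Modules.pullback i).obj M)).symm
        ((Coh.toGlobal (X ↘ Spec (CommRingCat.of k)) c) • m') =
        (Coh.toGlobal (X ↘ Spec (CommRingCat.of k)) c) •
          (H0equiv ((Scheme.Modules.pullback i).obj M)).symm m' := _root_.map_smul _ _ _
    have h5 : (OmegaSh.pullSect i M ⊤ ((Coh.toGlobal (P ↘ Spec (CommRingCat.of k)) c) • H0equiv M x) :
        Γm ((Scheme.Modules.pullback i).obj M)) =
        (Coh.toGlobal (X ↘ Spec (CommRingCat.of k)) c) • m' :=
      h2.trans (congrArg (fun a : Coh.Γtop X => a • m') h3)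
    exact (congrArg (fun t => (H0equiv ((Scheme.Modules.pullback i).obj M)).symm
      (OmegaSh.pullSect i M ⊤ (H0equiv M t))) e1).trans
      ((congrArg (fun t => (H0equiv ((Scheme.Modules.pullback i).obj M)).symm
      (OmegaSh.pullSect i M ⊤ t)) h1).trans
      ((congrArg (H0equiv ((Scheme.Modules.pullback i).obj M)).symm h5).trans h4))

open Groth.Agent.Lib.Helper23.T2 in
theorem pullH0_injective {k : Type u} [Field k] {X P : Scheme.{u}} [X.Over (Spec (CommRingCat.of k))]
    [P.Over (Spec (CommRingCat.of k))] (i : X ⟶ P)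
    (hi : i ≫ (P ↘ Spec (CommRingCat.of k)) = (X ↘ Spec (CommRingCat.of k))) (M : P.Modules)
    (h : ∀ s : LinSer.Sect P M, s ≠ 0 → OmegaSh.pullSect i M ⊤ s ≠ 0) :
    Function.Injective (pullH0 i hi M) := by
  rw [← LinearMap.ker_eq_bot, LinearMap.ker_eq_bot']
  intro x hx
  by_contra hne
  have h1 : H0equiv M x ≠ 0 := fun h0 => hne ((H0equiv M).map_eq_zero_iff.mp h0)
  have h2 := h (H0equiv M x) h1
  apply h2
  have h3 : (H0equiv ((Scheme.Modules.pullback i).obj M)).symm
    (OmegaSh.pullSect i M ⊤ (H0equiv M x)) = 0 := hx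
  exact (H0equiv ((Scheme.Modules.pullback i).obj M)).symm.map_eq_zero_iff.mp h3

/-- Let k be an algebraically closed field and X a curve over k (integral, proper over k, of dimension
one) with a closed immersion i : X → P^r_k over k whose image lies in no hyperplane: every nonzero
global section of O(1) on P^r_k pulls back to a nonzero global section of i^* O(1). Then deg i^*
O(1) ≥ r. -/
theorem result (k : Type u) [Field k] [IsAlgClosed k] (r : ℕ)
    (X : Scheme.{u}) [X.Over (Spec (CommRingCat.of k))] [IsIntegral X] [IsProper (X ↘ (Spec (CommRingCat.of k)))]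
    (hdim : topologicalKrullDim X = 1)
    (i : X ⟶ CohB1.ProjSpace r k) [IsClosedImmersion i]
    (hi : i ≫ CohB1.ProjSpace.toSpec r k = (X ↘ (Spec (CommRingCat.of k))))
    (hplane : ∀ s : LinSer.Sect (CohB1.ProjSpace r k) (Twist.twistProjSpace r k 1), s ≠ 0 →
      OmegaSh.pullSect i (Twist.twistProjSpace r k 1) ⊤ s ≠ 0) :
    (r : ℤ) ≤ Curv2.deg k X ((Scheme.Modules.pullback i).obj (Twist.twistProjSpace r k 1)) 1 := by
  classical
  haveI : IsNoetherian X := Groth.Agent.Lib.Helper23.Curve.isNoetherian_of_isProper k X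
  have h0 := Groth.Agent.Lib.Helper23.GeomH0.finrank_H0_eq_one_of_isAlgClosed k X
  have hinvP : PicF.IsInvertible (Twist.twistProjSpace r k 1) := by
    have := (Groth.Agent.Lib.Helper23.AmpleCurve.isAmple_twistProjSpace r k).1
    exact this
  have hinv : PicF.IsInvertible ((Scheme.Modules.pullback i).obj (Twist.twistProjSpace r k 1)) :=
    Groth.Agent.Lib.Helper3.PbBasic.isInvertible_pullback i hinvP
  obtain ⟨e⟩ := Groth.Agent.S0843.result k r 1
  rw [Nat.cast_one] at e
  -- the linear map
  have hi' : i ≫ ((CohB1.ProjSpace r k) ↘ Spec (CommRingCat.of k)) = (X ↘ Spec (CommRingCat.of k)) := hi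
  let ψ := pullH0 (k := k) i hi' (Twist.twistProjSpace r k 1)
  have hψ : Function.Injective ψ := pullH0_injective i hi' _ hplane
  -- linearly independent family
  let v : Fin (r + 1) → ↥(MvPolynomial.homogeneousSubmodule (Fin (r + 1)) k 1) :=
    fun j => ⟨MvPolynomial.X j, MvPolynomial.isHomogeneous_X k j⟩
  have hv : LinearIndependent k v := by
    apply LinearIndependent.of_comp (MvPolynomial.homogeneousSubmodule (Fin (r + 1)) k 1).subtype
    show LinearIndependent k (fun j : Fin (r + 1) => (MvPolynomial.X j : MvPolynomial (Fin (r + 1)) k))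
    exact MvPolynomial.linearIndependent_X _ _
  have hw : LinearIndependent k (fun j => ψ (e.symm (v j))) := by
    have h1 : LinearIndependent k (fun j => e.symm (v j)) :=
      hv.map' e.symm.toLinearMap (LinearMap.ker_eq_bot.mpr e.symm.injective)
    exact h1.map' ψ (LinearMap.ker_eq_bot.mpr hψ)
  haveI : Module.Finite k (Coh.HH X ((Scheme.Modules.pullback i).obj (Twist.twistProjSpace r k 1)) 0) :=
    Groth.Agent.Lib.Helper23.T2.finite_HH k _ (Groth.Agent.Lib.Helper23.Curve.isCoh_of_isInvertible hinv) 0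
  have hcard := hw.fintype_card_le_finrank
  rw [Fintype.card_fin] at hcard
  haveI : Nontrivial (Coh.HH X ((Scheme.Modules.pullback i).obj (Twist.twistProjSpace r k 1)) 0) :=
    Module.nontrivial_of_finrank_pos (R := k) (by omega)
  have hmain := (Groth.Agent.S1564.result k X hdim h0 _ hinv inferInstance).1
  have : ((r + 1 : ℕ) : ℤ) ≤ Curv2.deg k X ((Scheme.Modules.pullback i).obj (Twist.twistProjSpace r k 1)) 1 + 1 :=
    le_trans (by exact_mod_cast hcard) hmain
  push_cast at this
  linarith

end Groth.Agent.S12912
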