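import Groth.Statements.S12914
import Mathlib
import Groth.Agent.Lib.Helper25.Dubreil

set_option autoImplicit false
universe u
open CAlgX

namespace Groth.Agent.S12914


open MvPolynomial Module Groth.Agent.Lib.Helper25.Dubreil

/-- `W_0 = 0`, `W_{n+1} = S_1 · I_n`. -/
noncomputable def Wn {F : Type*} [Field F] (Z : Finset (Fin 3 → F)) :
    ℕ → Submodule F (MvPolynomial (Fin 3) F)
  | 0 => ⊥
  | n + 1 => S1 (Vn Z n)

lemma Wn_zero {F : Type*} [Field F] (Z : Finset (Fin 3 → F)) : Wn Z 0 = ⊥ := rfl

lemma Wn_succ {F : Type*} [Field F] (Z : Finset (Fin 3 → F)) (n : ℕ) :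
    Wn Z (n + 1) = S1 (Vn Z n) := rfl

lemma Wn_le {F : Type*} [Field F] (Z : Finset (Fin 3 → F)) (n : ℕ) : Wn Z n ≤ Vn Z n := by
  cases n with
  | zero => rw [Wn_zero]; exact bot_le
  | succ m => rw [Wn_succ]; exact S1_Vn_le Z m



/-- Let k be a field, Z a finite set of nonzero vectors in k^3, regarded as points of the projective
plane, and I the homogeneous vanishing ideal of Z in k[x_0, x_1, x_2]: a polynomial belongs to I
exactly when every one of its homogeneous components vanishes at every vector of Z. If Z lies on a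
curve of degree d, that is I contains a nonzero homogeneous form of degree d, then I is generated by
at most d + 1 elements. -/
theorem result (k : Type u) [Field k]
    (Z : Finset (Fin 3 → k)) (hZ : ∀ p ∈ Z, p ≠ 0) (I : Ideal (MvPolynomial (Fin 3) k))
    (hI : ∀ f : MvPolynomial (Fin 3) k, f ∈ I ↔
      ∀ p ∈ Z, ∀ j : ℕ, MvPolynomial.eval p (MvPolynomial.homogeneousComponent j f) = 0)
    (d : ℕ) (hf : ∃ f ∈ I, MvPolynomial.IsHomogeneous f d ∧ f ≠ 0) :
    Submodule.spanFinrank I ≤ d + 1 := by
  classical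
  have hmemI : ∀ n (f : MvPolynomial (Fin 3) k), f ∈ Vn Z n → f ∈ I := by
    intro n f hf
    refine (hI f).2 (fun p hp j => ?_)
    rw [MvPolynomial.homogeneousComponent_of_mem hf.1]
    split_ifs
    · exact hf.2 p hp
    · exact map_zero _
  have hcomp : ∀ f ∈ I, ∀ n, MvPolynomial.homogeneousComponent n f ∈ Vn Z n := by
    intro f hf n
    exact ⟨MvPolynomial.homogeneousComponent_isHomogeneous n f,
      fun p hp => (hI f).1 hf p hp n⟩
  have hgen : ∀ n, ∃ (m : ℕ) (b : Fin m → MvPolynomial (Fin 3) k),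
      m + finrank k (Wn Z n) = finrank k (Vn Z n) ∧ (∀ i, b i ∈ Vn Z n) ∧
        Vn Z n ≤ Wn Z n ⊔ Submodule.span k (Set.range b) :=
    fun n => compl_basis (Wn Z n) (Vn Z n) (Wn_le Z n)
  choose m b hm hb_mem hb_span using hgen
  obtain ⟨h, h5, h6, h7, h8⟩ := facts (K := RatFunc k) Z
    (algebraMap (Polynomial k) (RatFunc k) Polynomial.X)
    (algebraMap (Polynomial k) (RatFunc k) Polynomial.X ^ 2)
    (fun p hp => ratfunc_ne p (hZ p hp))
  obtain ⟨f0, hf0I, hf0hom, hf0ne⟩ := hf
  have h9 : finrank k (Vn Z d) ≠ 0 := by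
    intro h0
    have hbot : Vn Z d = ⊥ := Submodule.finrank_eq_zero.1 h0
    have hmem : f0 ∈ Vn Z d := ⟨hf0hom, fun p hp => by
      have := (hI f0).1 hf0I p hp d
      rwa [MvPolynomial.homogeneousComponent_eq_self hf0hom] at this⟩
    rw [hbot] at hmem
    exact hf0ne ((Submodule.mem_bot k).1 hmem)
  have hP := numeric (fun n => finrank k (Vn Z n)) (fun n => finrank k (Wn Z n)) m h d hm h5 h6
    (fun n hn => h7 n hn) h8 h9
  have hbound : ∀ (s : Finset ℕ), ∑ n ∈ s, m n ≤ d + 1 := by
    intro s
    calc ∑ n ∈ s, m n ≤ ∑ n ∈ Finset.range (s.sup id + 1), m n := by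
          apply Finset.sum_le_sum_of_subset
          intro n hn
          rw [Finset.mem_range]
          have : n ≤ s.sup id := Finset.le_sup (f := id) hn
          omega
      _ ≤ d + 1 := hP _
  have hTfin : {n | m n ≠ 0}.Finite := by
    by_contra hinf
    obtain ⟨s, hs, hcard⟩ := Set.Infinite.exists_subset_card_eq hinf (d + 2)
    have h1 : s.card ≤ ∑ n ∈ s, m n := by
      rw [Finset.card_eq_sum_ones]
      apply Finset.sum_le_sum
      intro n hn
      have : m n ≠ 0 := hs hn
      omega
    have := hbound s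
    omega
  let G : Finset (MvPolynomial (Fin 3) k) :=
    hTfin.toFinset.biUnion (fun n => Finset.univ.image (b n))
  have hGcard : G.card ≤ d + 1 := by
    calc G.card ≤ ∑ n ∈ hTfin.toFinset, (Finset.univ.image (b n)).card :=
          Finset.card_biUnion_le
      _ ≤ ∑ n ∈ hTfin.toFinset, m n := by
          apply Finset.sum_le_sum
          intro n _
          calc (Finset.univ.image (b n)).card ≤ (Finset.univ : Finset (Fin (m n))).card :=
                Finset.card_image_le
            _ = m n := by simp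
      _ ≤ d + 1 := hbound _
  have hbG : ∀ n i, b n i ∈ G := by
    intro n i
    have hmn : m n ≠ 0 := by have := i.pos; omega
    rw [Finset.mem_biUnion]
    exact ⟨n, hTfin.mem_toFinset.2 hmn, Finset.mem_image.2 ⟨i, Finset.mem_univ _, rfl⟩⟩
  have hle1 : Ideal.span (G : Set (MvPolynomial (Fin 3) k)) ≤ I := by
    rw [Ideal.span_le]
    intro g hg
    rw [Finset.mem_coe, Finset.mem_biUnion] at hg
    obtain ⟨n, _, hg⟩ := hg
    obtain ⟨i, _, rfl⟩ := Finset.mem_image.1 hg
    exact hmemI n _ (hb_mem n i)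
  have hVle : ∀ n, Vn Z n ≤
      (Ideal.span (G : Set (MvPolynomial (Fin 3) k))).restrictScalars k := by
    intro n
    induction n with
    | zero =>
      refine le_trans (hb_span 0) (sup_le ?_ ?_)
      · rw [Wn_zero]; exact bot_le
      · rw [Submodule.span_le]
        rintro _ ⟨i, rfl⟩
        exact Ideal.subset_span (hbG 0 i)
    | succ n ih =>
      refine le_trans (hb_span (n + 1)) (sup_le ?_ ?_)
      · rw [Wn_succ]
        apply S1_le
        intro g hg i
        exact Ideal.mul_mem_left _ _ (ih hg)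
      · rw [Submodule.span_le]
        rintro _ ⟨i, rfl⟩
        exact Ideal.subset_span (hbG (n + 1) i)
  have hle2 : I ≤ Ideal.span (G : Set (MvPolynomial (Fin 3) k)) := by
    intro f hf
    rw [← MvPolynomial.sum_homogeneousComponent f]
    exact Ideal.sum_mem _ (fun n _ => hVle n (hcomp f hf n))
  have hIeq : I = Ideal.span (G : Set (MvPolynomial (Fin 3) k)) := le_antisymm hle2 hle1
  rw [hIeq]
  calc Submodule.spanFinrank (Ideal.span (G : Set (MvPolynomial (Fin 3) k)))
      ≤ (G : Set (MvPolynomial (Fin 3) k)).ncard :=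
        Submodule.spanFinrank_span_le_ncard_of_finite G.finite_toSet
    _ = G.card := Set.ncard_coe_finset G
    _ ≤ d + 1 := hGcard

end Groth.Agent.S12914
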