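import Groth.Statements.S12915
import Mathlib
import Groth.Agent.Lib.Helper25.PointsP2

set_option autoImplicit false
universe u
open CAlgX

namespace Groth.Agent.S12915

open MvPolynomial in
theorem homogeneousComponent_mul_of_isHomogeneous {σ : Type*} {R : Type*} [CommSemiring R]
    {f : MvPolynomial σ R} {m : ℕ} (hf : f.IsHomogeneous m) (h : MvPolynomial σ R) (t : ℕ)
    (ht : m ≤ t) :
    homogeneousComponent t (f * h) = f * homogeneousComponent (t - m) h := by
  classical
  conv_lhs => rw [← sum_homogeneousComponent h]
  rw [Finset.mul_sum, map_sum]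
  have key : ∀ j, homogeneousComponent t (f * homogeneousComponent j h) =
      if j = t - m then f * homogeneousComponent j h else 0 := by
    intro j
    rw [homogeneousComponent_of_mem (hf.mul (homogeneousComponent_isHomogeneous j h))]
    by_cases hj : j = t - m
    · rw [if_pos hj, if_pos (by omega)]
    · rw [if_neg hj, if_neg (by omega)]
  simp_rw [key]
  rw [Finset.sum_ite_eq']
  split_ifs with hmem
  · rfl
  · rw [homogeneousComponent_eq_zero _ _ (by rw [Finset.mem_range] at hmem; omega), mul_zero]


/-- Let k be a field, S = k[x_0, …, x_r], and f a nonzero homogeneous polynomial of degree m. For every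
t ≥ m the image in S/(f) of the homogeneous polynomials of degree t is a k-vector space of dimension
C(t + r, r) - C(t + r - m, r). (The published clause states that the hypersurface f = 0 in P^r has
degree m; its proof computes exactly this Hilbert function, whose polynomial has leading term m
t^(r-1)/(r-1)!, and that computation is what is stated here.) -/
theorem result (k : Type u) [Field k] (r m : ℕ)
    (f : MvPolynomial (Fin (r + 1)) k) (hf : f.IsHomogeneous m) (hf0 : f ≠ 0) (t : ℕ) (ht : m ≤ t) :
    Module.finrank k
        (Submodule.map ((Ideal.Quotient.mkₐ k (Ideal.span {f})).toLinearMap)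
          (MvPolynomial.homogeneousSubmodule (Fin (r + 1)) k t)) =
      Nat.choose (t + r) r - Nat.choose (t + r - m) r := by
  classical
  obtain ⟨π, hπ⟩ : ∃ π : MvPolynomial (Fin (r + 1)) k →ₗ[k]
      (MvPolynomial (Fin (r + 1)) k ⧸ Ideal.span {f}),
      π = (Ideal.Quotient.mkₐ k (Ideal.span {f})).toLinearMap := ⟨_, rfl⟩
  rw [← hπ]
  have hπa : ∀ x, π x = Ideal.Quotient.mk (Ideal.span {f}) x := by
    intro x; rw [hπ]; rfl
  obtain ⟨Ht, hHt⟩ : ∃ Ht, Ht = MvPolynomial.homogeneousSubmodule (Fin (r + 1)) k t := ⟨_, rfl⟩
  rw [← hHt]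
  have hfinHt : Module.finrank k ↥Ht = (t + r).choose r := by
    rw [hHt]; exact Groth.Agent.Helper25.PointsP2.finrank_homog_fin r t
  haveI : Module.Finite k ↥Ht := Module.finite_of_finrank_pos (by
    rw [hfinHt]; exact Nat.choose_pos (by omega))
  let φ : ↥Ht →ₗ[k] (MvPolynomial (Fin (r + 1)) k ⧸ Ideal.span {f}) := π.comp Ht.subtype
  have hrange : LinearMap.range φ = Submodule.map π Ht := by
    rw [LinearMap.range_comp, Submodule.range_subtype]
  rw [← hrange]
  let μ : ↥(MvPolynomial.homogeneousSubmodule (Fin (r + 1)) k (t - m)) →ₗ[k] ↥Ht :=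
    { toFun := fun h => ⟨f * h.1, by
        have := hf.mul ((MvPolynomial.mem_homogeneousSubmodule _ _).1 h.2)
        rw [Nat.add_sub_cancel' ht] at this
        rw [hHt]
        exact this⟩
      map_add' := fun a b => Subtype.ext (by simp [mul_add])
      map_smul' := fun c a => Subtype.ext (by simp [mul_smul_comm]) }
  have hμinj : Function.Injective μ := by
    intro a b hab
    have := congrArg Subtype.val hab
    simp only [μ, LinearMap.coe_mk, AddHom.coe_mk] at this
    exact Subtype.ext (mul_left_cancel₀ hf0 this)
  have hker : LinearMap.ker φ = LinearMap.range μ := by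
    ext g
    rw [LinearMap.mem_ker, LinearMap.mem_range]
    constructor
    · intro hg
      have hg' : (g : MvPolynomial (Fin (r + 1)) k) ∈ Ideal.span {f} := by
        rw [← Ideal.Quotient.eq_zero_iff_mem, ← hπa]
        exact hg
      obtain ⟨h, hh⟩ := Ideal.mem_span_singleton'.1 hg'
      refine ⟨⟨MvPolynomial.homogeneousComponent (t - m) h,
        MvPolynomial.homogeneousComponent_mem _ _⟩, ?_⟩
      apply Subtype.ext
      show f * MvPolynomial.homogeneousComponent (t - m) h = g
      rw [← homogeneousComponent_mul_of_isHomogeneous hf h t ht, mul_comm, hh]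
      have hgm : (g : MvPolynomial (Fin (r + 1)) k) ∈
          MvPolynomial.homogeneousSubmodule (Fin (r + 1)) k t := by
        rw [← hHt]; exact g.2
      exact MvPolynomial.homogeneousComponent_eq_self hgm
    · rintro ⟨h, rfl⟩
      show π (f * h.1) = 0
      rw [hπa]
      exact Ideal.Quotient.eq_zero_iff_mem.2
        (Ideal.mul_mem_right _ _ (Ideal.subset_span rfl))
  have hrn := LinearMap.finrank_range_add_finrank_ker φ
  rw [hker, LinearMap.finrank_range_of_inj hμinj,
    Groth.Agent.Helper25.PointsP2.finrank_homog_fin, hfinHt] at hrn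
  have h1 : t - m + r = t + r - m := by omega
  rw [h1] at hrn
  omega

end Groth.Agent.S12915
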