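import Groth.Statements.S12916
import Mathlib

set_option autoImplicit false
universe u
open CAlgX

namespace Groth.Agent.S12916

open MvPolynomial in
theorem avoid (k : Type u) [Field k] [Infinite k] (r d : ℕ)
    (P : Finset (PrimeSpectrum (MvPolynomial (Fin (r+1)) k)))
    (hP : ∀ p ∈ P, ¬ p.asIdeal.IsMaximal) :
    ∃ f : MvPolynomial (Fin (r+1)) k, f.IsHomogeneous d ∧ f ≠ 0 ∧ ∀ p ∈ P, f ∉ p.asIdeal := by
  classical
  let E := homogeneousSubmodule (Fin (r+1)) k d
  let W : PrimeSpectrum (MvPolynomial (Fin (r+1)) k) → Subspace k E := fun p =>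
    (p.asIdeal.restrictScalars k).comap E.subtype
  let s : Finset (Subspace k E) := insert ⊥ (P.image W)
  have hX : ∀ i, (X i : MvPolynomial (Fin (r+1)) k) ^ d ∈ E := fun i => by
    rw [mem_homogeneousSubmodule]
    have := (isHomogeneous_X k i).pow d
    simpa using this
  have hs : ⊤ ∉ s := by
    intro h
    rcases Finset.mem_insert.1 h with h | h
    · have h1 : (⟨X 0 ^ d, hX 0⟩ : E) ∈ (⊥ : Subspace k E) := h ▸ Submodule.mem_top
      rw [Submodule.mem_bot] at h1
      have h2 := congrArg Subtype.val h1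
      simp at h2
    · obtain ⟨p, hp, hWp⟩ := Finset.mem_image.1 h
      apply hP p hp
      have hXp : ∀ i, (X i : MvPolynomial (Fin (r+1)) k) ∈ p.asIdeal := by
        intro i
        have h1 : (⟨X i ^ d, hX i⟩ : E) ∈ W p := hWp ▸ Submodule.mem_top
        exact p.isPrime.mem_of_pow_mem d h1
      have hker : RingHom.ker (constantCoeff : MvPolynomial (Fin (r+1)) k →+* k) ≤ p.asIdeal := by
        intro g hg
        rw [RingHom.mem_ker] at hg
        have h1 : g ∈ Ideal.span (X '' (Set.univ : Set (Fin (r+1)))) := by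
          rw [mem_ideal_span_X_image]
          intro m hm
          have hm0 : m ≠ 0 := by
            rintro rfl
            rw [mem_support_iff] at hm
            exact hm (by rwa [constantCoeff_eq] at hg)
          obtain ⟨i, hi⟩ : ∃ i, m i ≠ 0 := by
            by_contra hcon
            push Not at hcon
            exact hm0 (Finsupp.ext hcon)
          exact ⟨i, Set.mem_univ _, hi⟩
        refine (Ideal.span_le.2 ?_) h1
        rintro _ ⟨i, _, rfl⟩
        exact hXp i
      have hmax : (RingHom.ker (constantCoeff : MvPolynomial (Fin (r+1)) k →+* k)).IsMaximal :=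
        RingHom.ker_isMaximal_of_surjective _ (fun c => ⟨C c, constantCoeff_C _ c⟩)
      rw [← hmax.eq_of_le p.isPrime.ne_top hker]
      exact hmax
  have hne := Subspace.biUnion_ne_univ_of_top_notMem hs
  obtain ⟨f, hf⟩ : ∃ f : E, f ∉ ⋃ p ∈ s, (p : Set E) := by
    by_contra hcon
    push Not at hcon
    exact hne (Set.eq_univ_of_forall hcon)
  simp only [Set.mem_iUnion, not_exists] at hf
  refine ⟨f.1, (mem_homogeneousSubmodule _ _).1 f.2, ?_, ?_⟩
  · intro h0
    exact hf ⊥ (Finset.mem_insert_self _ _)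
      (by rw [SetLike.mem_coe, Submodule.mem_bot]; exact Subtype.ext h0)
  · intro p hp hfp
    exact hf (W p) (Finset.mem_insert_of_mem (Finset.mem_image_of_mem _ hp)) hfp

theorem key (A : Type u) [CommRing A] [IsNoetherianRing A] (M : Type u) [AddCommGroup M]
    [Module A M] [Module.Finite A M] :
    ∃ P : Finset (PrimeSpectrum A), (∀ p ∈ P, ¬ p.asIdeal.IsMaximal) ∧
      ∀ f : A, (∀ p ∈ P, f ∉ p.asIdeal) → IsFiniteLength A (Submodule.torsionBy A M f) := by
  classical
  refine IsNoetherianRing.induction_on_isQuotientEquivQuotientPrime A (M := M)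
    (motive := fun N _ _ _ => ∃ P : Finset (PrimeSpectrum A), (∀ p ∈ P, ¬ p.asIdeal.IsMaximal) ∧
      ∀ f : A, (∀ p ∈ P, f ∉ p.asIdeal) → IsFiniteLength A (Submodule.torsionBy A N f))
    inferInstance ?_ ?_ ?_
  · intro N _ _ _ _
    exact ⟨∅, by simp, fun f _ => IsFiniteLength.of_subsingleton⟩
  · intro N _ _ _ p e
    by_cases hp : p.asIdeal.IsMaximal
    · refine ⟨∅, by simp, fun f _ => ?_⟩
      have hs : IsSimpleModule A N := isSimpleModule_iff_quot_maximal.2 ⟨p.asIdeal, hp, ⟨e⟩⟩
      rw [isFiniteLength_iff_isNoetherian_isArtinian]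
      exact ⟨inferInstance, inferInstance⟩
    · refine ⟨{p}, by simpa using hp, fun f hf => ?_⟩
      have hf' : f ∉ p.asIdeal := hf p (Finset.mem_singleton_self p)
      have : Subsingleton (Submodule.torsionBy A N f) := by
        rw [Submodule.subsingleton_iff_eq_bot, Submodule.eq_bot_iff]
        intro x hx
        rw [Submodule.mem_torsionBy_iff] at hx
        have h1 : f • e x = 0 := by rw [← map_smul, hx, map_zero]
        obtain ⟨a, ha⟩ := Ideal.Quotient.mk_surjective (e x)
        have h1' : Ideal.Quotient.mk p.asIdeal (f * a) = 0 := by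
          have h0 : f • (Ideal.Quotient.mk p.asIdeal a) = Ideal.Quotient.mk p.asIdeal (f * a) := rfl
          rw [← h0, ha]; exact h1
        rw [Ideal.Quotient.eq_zero_iff_mem] at h1'
        have h2 : a ∈ p.asIdeal := (p.isPrime.mem_or_mem h1').resolve_left hf'
        have h3 : e x = 0 := by rw [← ha]; exact Ideal.Quotient.eq_zero_iff_mem.2 h2
        exact e.map_eq_zero_iff.1 h3
      exact IsFiniteLength.of_subsingleton
  · intro N₁ _ _ _ N₂ _ _ _ N₃ _ _ _ f g hf hg hfg ⟨P₁, hP₁, H₁⟩ ⟨P₃, hP₃, H₃⟩
    refine ⟨P₁ ∪ P₃, ?_, fun a ha => ?_⟩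
    · intro p hp
      rcases Finset.mem_union.1 hp with h | h
      · exact hP₁ p h
      · exact hP₃ p h
    have h1 := H₁ a (fun p hp => ha p (Finset.mem_union_left _ hp))
    have h3 := H₃ a (fun p hp => ha p (Finset.mem_union_right _ hp))
    rw [isFiniteLength_iff_isNoetherian_isArtinian] at h1 h3 ⊢
    obtain ⟨_, hA1⟩ := h1
    obtain ⟨_, hA3⟩ := h3
    refine ⟨inferInstance, ?_⟩
    let f' : Submodule.torsionBy A N₁ a →ₗ[A] Submodule.torsionBy A N₂ a :=
      f.restrict (fun x hx => by
        rw [Submodule.mem_torsionBy_iff] at hx ⊢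
        rw [← map_smul, hx, map_zero])
    let g' : Submodule.torsionBy A N₂ a →ₗ[A] Submodule.torsionBy A N₃ a :=
      g.restrict (fun x hx => by
        rw [Submodule.mem_torsionBy_iff] at hx ⊢
        rw [← map_smul, hx, map_zero])
    refine isArtinian_of_range_eq_ker f' g' ?_
    ext ⟨y, hy⟩
    rw [LinearMap.mem_range, LinearMap.mem_ker]
    constructor
    · rintro ⟨⟨x, hx⟩, h⟩
      have hxy : f x = y := congrArg Subtype.val h
      apply Subtype.ext
      show g y = 0
      rw [← hxy]
      exact hfg.apply_apply_eq_zero x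
    · intro h
      have h' : g y = 0 := congrArg Subtype.val h
      obtain ⟨x, rfl⟩ := (hfg y).1 h'
      refine ⟨⟨x, ?_⟩, Subtype.ext rfl⟩
      rw [Submodule.mem_torsionBy_iff] at hy ⊢
      apply hf
      rw [map_smul, hy, map_zero]


/-- Let k be an infinite field, S = k[x_0, …, x_r], M a finitely generated S-module and d a natural
number. Then some nonzero homogeneous polynomial f of degree d is quasi-regular on M: the submodule
(0 :_M f) of elements of M annihilated by f has finite length. (The published statement assumes M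
graded; this row assumes only that M is finitely generated.) -/
theorem result (k : Type u) [Field k] [Infinite k] (r d : ℕ)
    (M : Type u) [AddCommGroup M] [Module (MvPolynomial (Fin (r + 1)) k) M] [Module.Finite (MvPolynomial (Fin (r + 1)) k) M] :
    ∃ f : MvPolynomial (Fin (r + 1)) k, f.IsHomogeneous d ∧ f ≠ 0 ∧
      IsFiniteLength (MvPolynomial (Fin (r + 1)) k) ↥(Submodule.torsionBy (MvPolynomial (Fin (r + 1)) k) M f) := by
  obtain ⟨P, hP, H⟩ := key (MvPolynomial (Fin (r+1)) k) M
  obtain ⟨f, hf, hf0, hfP⟩ := avoid k r d P hP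
  exact ⟨f, hf, hf0, H f hfP⟩

end Groth.Agent.S12916
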