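import Groth.Statements.S1292
import Mathlib
import Groth.Agent.Lib.Helper18.DRFib
import Groth.Agent.Lib.Helper18.DRTorC
import Groth.Agent.Lib.Helper18.DRPCRestr
import Groth.Agent.Lib.Helper8.Hzl.IndEtaleFlat
import Groth.Agent.Lib.Helper8.Hzl.IndEtaleLike

set_option autoImplicit false
universe u
open CategoryTheory
attribute [local instance] HasDerivedCategory.standard
open FlatMor

namespace Groth.Agent.S1292


open CategoryTheory.Limits DerivedCategory TensorProduct in
open Groth.Agent.Lib.Helper18.DR Groth.Agent.Lib.Helper8.Hzl in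
theorem indEtaleLike_tower {R T S : Type u} [CommRing R] [CommRing T] [CommRing S] [Algebra R T]
    [Algebra T S] [Algebra R S] [IsScalarTower R T S] (h : IndEtaleLike R S) :
    IndEtaleLike T S := by
  intro x
  obtain ⟨E, _, _, _, ι, e, t, ht, hx⟩ := h x
  refine ⟨T ⊗[R] E, inferInstance, inferInstance, inferInstance,
    Algebra.TensorProduct.lift (Algebra.ofId T S) ι (fun _ _ => Commute.all _ _),
    1 ⊗ₜ e, 1 ⊗ₜ t, ?_, ?_⟩
  · rw [Algebra.TensorProduct.lift_tmul, map_one, one_mul]
    exact ht
  · rw [Algebra.TensorProduct.lift_tmul, Algebra.TensorProduct.lift_tmul, map_one, one_mul,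
      one_mul]
    exact hx

open CategoryTheory.Limits DerivedCategory TensorProduct in
open Groth.Agent.Lib.Helper18.DR Groth.Agent.Lib.Helper8.Hzl in
/-- transfer of flatness of a cokernel from the restriction of scalars -/
theorem flat_cok_transfer {R S : Type u} [CommRing R] [CommRing S] [Algebra R S]
    (hind : IndEtaleLike R S) {M N : ModuleCat.{u} S} (f : M ⟶ N)
    (h : Module.Flat R (((ModuleCat.restrictScalars.{u} (algebraMap R S)).obj N) ⧸
      LinearMap.range ((ModuleCat.restrictScalars.{u} (algebraMap R S)).map f).hom)) :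
    Module.Flat S (N ⧸ LinearMap.range f.hom) := by
  letI mR : Module R (N ⧸ LinearMap.range f.hom) :=
    Module.compHom (N ⧸ LinearMap.range f.hom) (algebraMap R S)
  haveI tow : IsScalarTower R S (N ⧸ LinearMap.range f.hom) :=
    ⟨fun r s x => by
      change (r • s) • x = (algebraMap R S r) • (s • x)
      rw [Algebra.smul_def, mul_smul]⟩
  let f₁ : ((ModuleCat.restrictScalars.{u} (algebraMap R S)).obj N) →ₗ[R]
      (N ⧸ LinearMap.range f.hom) :=
    { toFun := fun x => Submodule.Quotient.mk (show N from x)
      map_add' := fun _ _ => rfl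
      map_smul' := fun _ _ => rfl }
  have hsurj : Function.Surjective f₁ := by
    intro y
    obtain ⟨x, rfl⟩ := Submodule.Quotient.mk_surjective _ y
    exact ⟨x, rfl⟩
  have hker : LinearMap.range ((ModuleCat.restrictScalars.{u} (algebraMap R S)).map f).hom =
      LinearMap.ker f₁ := by
    ext x
    rw [LinearMap.mem_range, LinearMap.mem_ker]
    change _ ↔ Submodule.Quotient.mk (show N from x) = 0
    rw [Submodule.Quotient.mk_eq_zero, LinearMap.mem_range]
    constructor
    · rintro ⟨y, hy⟩
      exact ⟨y, hy⟩
    · rintro ⟨y, hy⟩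
      exact ⟨y, hy⟩
  haveI : Module.Flat R (N ⧸ LinearMap.range f.hom) :=
    Module.Flat.of_linearEquiv
      (((Submodule.quotEquivOfEq _ _ hker).trans (f₁.quotKerEquivOfSurjective hsurj)).symm)
  exact hind.flat_of_flat _

open CategoryTheory.Limits DerivedCategory TensorProduct in
open Groth.Agent.Lib.Helper18.DR Groth.Agent.Lib.Helper8.Hzl in
/-- tor amplitude along a flat ind-étale-like algebra can be tested after restriction of scalars -/
theorem torAmp_iff {R S : Type u} [CommRing R] [CommRing S] [Algebra R S] [Module.Flat R S]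
    (hind : IndEtaleLike R S) (a b : ℤ) (K : Dual.D S) :
    DRing.HasTorAmplitudeIn R a b ((DRing.restrictD (algebraMap R S)).obj K) ↔
      DRing.HasTorAmplitudeIn S a b K := by
  constructor
  · intro h
    haveI hKle : K.IsLE b :=
      isLE_of_restrictD (algebraMap R S) K b (isLE_of_hasTorAmplitudeIn h)
    obtain ⟨P, hPb, hPfree, ⟨eP⟩⟩ := exists_free_resolution K b
    have hPflat : DRing.TermwiseFlat P := fun i => by
      haveI := hPfree i
      infer_instance
    have hGc : DRing.VanishesAbove
        (((ModuleCat.restrictScalars.{u} (algebraMap R S)).mapHomologicalComplex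
          (ComplexShape.up ℤ)).obj P) b :=
      vanishesAbove_mapHC (ModuleCat.restrictScalars.{u} (algebraMap R S)) P b hPb
    have hGflat : DRing.TermwiseFlat
        (((ModuleCat.restrictScalars.{u} (algebraMap R S)).mapHomologicalComplex
          (ComplexShape.up ℤ)).obj P) := fun i => by
      haveI := hPflat i
      exact flat_restrictScalars (P.X i)
    have hTA' : DRing.HasTorAmplitudeIn R a b (DRing.toD
        (((ModuleCat.restrictScalars.{u} (algebraMap R S)).mapHomologicalComplex
          (ComplexShape.up ℤ)).obj P)) :=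
      hasTorAmplitudeIn_of_iso
        (((DRing.restrictD (algebraMap R S)).mapIso eP.symm) ≪≫
          ((ModuleCat.restrictScalars.{u} (algebraMap R S)).mapDerivedCategoryFactors.app P)) h
    have hcokR := flat_cok_of_flat_of_hasTorAmplitudeIn _ b hGc hGflat a b hTA'
    have hcokS : Module.Flat S (cok P (a - 1) a) :=
      flat_cok_transfer hind (P.d (a - 1) a) hcokR
    have hlow : ∀ i, i < a → IsZero ((H S i).obj (DRing.toD P)) := by
      intro i hi
      haveI := isGE_of_hasTorAmplitudeIn h
      have h0 : IsZero ((H R i).obj ((DRing.restrictD (algebraMap R S)).obj K)) :=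
        DerivedCategory.isZero_of_isGE _ a i hi
      have h2 : IsZero (resM (algebraMap R S) ((H S i).obj K)) :=
        h0.of_iso (homologyRestrictIso (algebraMap R S) K i).symm
      haveI : Subsingleton (resM (algebraMap R S) ((H S i).obj K)) :=
        ModuleCat.subsingleton_of_isZero h2
      haveI : Subsingleton ((H S i).obj K) :=
        ‹Subsingleton (resM (algebraMap R S) ((H S i).obj K))›
      have h3 : IsZero ((H S i).obj K) := ModuleCat.isZero_of_subsingleton _
      exact h3.of_iso ((H S i).mapIso eP)
    have hhigh : ∀ i, b < i → IsZero ((H S i).obj (DRing.toD P)) := by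
      intro i hi
      haveI : (DRing.toD P).IsLE b := isLE_toD_of_vanishesAbove P b hPb
      exact DerivedCategory.isZero_of_isLE _ b i hi
    have hfin := hasTorAmplitudeIn_of_flat_cok P b a b (a - 1) (by omega) hPb hPflat hlow hhigh
      hcokS
    exact hasTorAmplitudeIn_of_iso eP hfin
  · rintro ⟨E, hE, hEf, ⟨e⟩⟩
    refine ⟨((ModuleCat.restrictScalars.{u} (algebraMap R S)).mapHomologicalComplex
      (ComplexShape.up ℤ)).obj E,
      vanishesOutside_mapHC (ModuleCat.restrictScalars.{u} (algebraMap R S)) E a b hE,
      fun i => ?_, ⟨?_⟩⟩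
    · haveI := hEf i
      exact flat_restrictScalars (E.X i)
    · exact ((ModuleCat.restrictScalars.{u} (algebraMap R S)).mapDerivedCategoryFactors.app E).symm
        ≪≫ (DRing.restrictD (algebraMap R S)).mapIso e


open IsLocalRing in
/-- Let A be a ring, p a prime ideal of A, Ah a henselization and Ash a strict henselization of the
local ring A_p, with Ash an Ah-algebra compatibly with the structure maps from A_p, and a, b
integers. Tor amplitude is meant in the flat-representative form: an object of the derived category
of a ring has tor amplitude in [a, b] when it is isomorphic to a complex of flat modules vanishing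
outside degrees [a, b]. For K in D(Ash) the following are equivalent: K with scalars restricted to
A_p has tor amplitude in [a, b]; K with scalars restricted to Ah has tor amplitude in [a, b]; K has
tor amplitude in [a, b] over Ash. Moreover, for L in D(Ah): L with scalars restricted to A_p has tor
amplitude in [a, b] if and only if L has tor amplitude in [a, b] over Ah. (The published statement
is for a general scheme S; this is the case S = Spec A.) -/
theorem result {A : Type u} [CommRing A] (p : Ideal A) [p.IsPrime]
    (Ah Ash : Type u) [CommRing Ah] [IsLocalRing Ah] [CommRing Ash] [IsLocalRing Ash]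
    [Algebra (Localization.AtPrime p) Ah] [IsLocalHom (algebraMap (Localization.AtPrime p) Ah)] [Hensel.IsHenselization (Localization.AtPrime p) Ah]
    [Algebra (Localization.AtPrime p) Ash] [IsLocalHom (algebraMap (Localization.AtPrime p) Ash)] [Hensel.IsStrictHenselization (Localization.AtPrime p) Ash]
    [Algebra Ah Ash] [IsScalarTower (Localization.AtPrime p) Ah Ash]
    (a b : ℤ) (K : Dual.D Ash) (L : Dual.D Ah) :
    [DRing.HasTorAmplitudeIn (Localization.AtPrime p) a b ((DRing.restrictD (algebraMap (Localization.AtPrime p) Ash)).obj K),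
     DRing.HasTorAmplitudeIn Ah a b ((DRing.restrictD (algebraMap Ah Ash)).obj K),
     DRing.HasTorAmplitudeIn Ash a b K].TFAE ∧
    (DRing.HasTorAmplitudeIn (Localization.AtPrime p) a b ((DRing.restrictD (algebraMap (Localization.AtPrime p) Ah)).obj L) ↔
      DRing.HasTorAmplitudeIn Ah a b L) := by
  have hf1 : Module.Flat (Localization.AtPrime p) Ah :=
    Groth.Agent.Lib.Helper8.Hzl.henselization_flat (Localization.AtPrime p) Ah
  have hi1 : Groth.Agent.Lib.Helper8.Hzl.IndEtaleLike (Localization.AtPrime p) Ah :=
    Groth.Agent.Lib.Helper8.Hzl.henselization_indEtaleLike (Localization.AtPrime p) Ah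
  have hf2 : Module.Flat (Localization.AtPrime p) Ash :=
    Groth.Agent.Lib.Helper8.Hzl.strictHenselization_flat (Localization.AtPrime p) Ash
  have hi2 : Groth.Agent.Lib.Helper8.Hzl.IndEtaleLike (Localization.AtPrime p) Ash :=
    Groth.Agent.Lib.Helper8.Hzl.strictHenselization_indEtaleLike (Localization.AtPrime p) Ash
  have hi3 : Groth.Agent.Lib.Helper8.Hzl.IndEtaleLike Ah Ash := indEtaleLike_tower hi2
  have hf3 : Module.Flat Ah Ash := hi1.flat_of_flat Ash
  have h13 := torAmp_iff hi2 a b K
  have h23 := torAmp_iff hi3 a b K
  refine ⟨?_, torAmp_iff hi1 a b L⟩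
  tfae_have 1 ↔ 3 := h13
  tfae_have 2 ↔ 3 := h23
  tfae_finish

end Groth.Agent.S1292
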