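import Groth.Statements.S12925
import Mathlib

set_option autoImplicit false
universe u w
open HopfRep

namespace Groth.Agent.S12925

/-- Let `k` be a commutative ring, `M` a commutative group and `B` a commutative `k`-algebra with a
coaction of the group algebra `k[M]` that is an algebra map (an action of the diagonalizable group
scheme `D(M) = Spec k[M]` on `Spec B`). Then the action is tame: there is a comodule map `α : k[M] →
B`, for the regular coaction on `k[M]`, with `α 1 = 1`. -/
theorem result
    (k : Type u) [CommRing k] (M : Type u) [CommGroup M]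
    (B : Type w) [CommRing B] [Algebra k B] [HopfRep.Comod k (MonoidAlgebra k M) B]
    [GLin.IsCoactAlg k (MonoidAlgebra k M) B] :
    ∃ α : MonoidAlgebra k M →ₗ[k] B, Hoch.IsComodHom (MonoidAlgebra k M) α ∧ α 1 = 1 := by
  classical
  let α : MonoidAlgebra k M →ₗ[k] B :=
    Algebra.linearMap k B ∘ₗ (Finsupp.lapply (1 : M)) ∘ₗ
      (MonoidAlgebra.coeffLinearEquiv (S := k) (M := M) k).toLinearMap
  have hα : ∀ (x : M) (r : k), α (MonoidAlgebra.single x r) = if x = 1 then algebraMap k B r else 0 := by
    intro x r
    simp only [α, LinearMap.comp_apply, LinearEquiv.coe_coe, Finsupp.lapply_apply,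
      Algebra.linearMap_apply]
    have : (MonoidAlgebra.coeffLinearEquiv (S := k) (M := M) k) (MonoidAlgebra.single x r) =
        Finsupp.single x r := rfl
    rw [this, Finsupp.single_apply]
    split_ifs <;> simp
  refine ⟨α, ?_, ?_⟩
  · unfold Hoch.IsComodHom
    apply MonoidAlgebra.lhom_ext'
    intro x
    apply LinearMap.ext_ring
    simp only [LinearMap.comp_apply, MonoidAlgebra.lsingle_apply]
    have hco : HopfRep.Comod.coact (k := k) (A := MonoidAlgebra k M) (MonoidAlgebra.single x (1 : k)) =
        MonoidAlgebra.single x (1 : k) ⊗ₜ[k] MonoidAlgebra.single x (1 : k) := by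
      show Coalgebra.comul (R := k) (MonoidAlgebra.single x (1 : k)) = _
      rw [MonoidAlgebra.comul_single]
      simp [MonoidAlgebra.lsingle_apply]
    rw [hco, LinearMap.rTensor_tmul, hα]
    by_cases hx : x = 1
    · subst hx
      rw [if_pos rfl, map_one, GLin.IsCoactAlg.coact_one (k := k), Algebra.TensorProduct.one_def,
        MonoidAlgebra.one_def]
    · rw [if_neg hx, map_zero, TensorProduct.zero_tmul]
  · rw [MonoidAlgebra.one_def, hα, if_pos rfl, map_one]

end Groth.Agent.S12925
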