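import Groth.Statements.S12926


set_option autoImplicit false
universe u v
open HopfRep

namespace Groth.Agent.S12926

/-- Let `k` be a commutative ring and `A` a commutative bialgebra over `k`, flat as a `k`-module. If the
submodule `k · 1` of the regular comodule `A` has a complement `H` which is a subcomodule — the case
used when `A` is cosemisimple, i.e. every subcomodule of every comodule is a direct summand as a
comodule — then the trivial action of `Spec A` on `Spec k` is tame: there is a comodule map `α : A →
k`, for the regular coaction on `A` and the trivial coaction `r ↦ r ⊗ 1` on `k`, with `α 1 = 1`. -/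
theorem result
    (k : Type u) [CommRing k] (A : Type v) [CommRing A] [Bialgebra k A] [Module.Flat k A]
    (H : Submodule k A) (hH : HopfRep.IsSubcomod (k := k) (A := A) H)
    (hc : IsCompl (Submodule.span k {(1 : A)}) H) :
    ∃ α : A →ₗ[k] k, @Hoch.IsComodHom k _ A _ _ _ A _ _ _ k _ _ (HopfRep.Comod.trivial k A k) α ∧ α 1 = 1 := by
  classical
  let W : Submodule k A := Submodule.span k {(1 : A)}
  let p : A →ₗ[k] W := Submodule.projectionOnto W H hc
  let α : A →ₗ[k] k := Coalgebra.counit (R := k) (A := A) ∘ₗ W.subtype ∘ₗ p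
  have h1mem : (1 : A) ∈ W := Submodule.mem_span_singleton_self _
  have hp1 : p 1 = ⟨1, h1mem⟩ := Submodule.projectionOnto_apply_of_mem_left hc h1mem
  have hα1 : α 1 = 1 := by
    change Coalgebra.counit (R := k) ((p 1 : W) : A) = 1
    rw [hp1]
    exact Bialgebra.counit_one
  have hαH : α ∘ₗ H.subtype = 0 := by
    apply LinearMap.ext
    intro h
    change Coalgebra.counit (R := k) ((p (h : A) : W) : A) = 0
    rw [Submodule.projectionOnto_apply_of_mem_right hc h.2]
    simp
  refine ⟨α, ?_, hα1⟩
  change (TensorProduct.mk k k A).flip 1 ∘ₗ α =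
    α.rTensor A ∘ₗ Coalgebra.comul (R := k) (A := A)
  apply LinearMap.ext
  intro a
  obtain ⟨w, hw, h, hh, rfl⟩ : ∃ w ∈ W, ∃ h ∈ H, w + h = a := by
    have : a ∈ W ⊔ H := by rw [hc.sup_eq_top]; exact Submodule.mem_top
    exact Submodule.mem_sup.mp this
  obtain ⟨c, rfl⟩ := Submodule.mem_span_singleton.mp hw
  have e1 : ((TensorProduct.mk k k A).flip 1 ∘ₗ α) (c • (1 : A)) =
      (α.rTensor A ∘ₗ Coalgebra.comul (R := k) (A := A)) (c • (1 : A)) := by
    rw [map_smul, map_smul]
    congr 1
    simp only [LinearMap.comp_apply]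
    rw [Bialgebra.comul_one, Algebra.TensorProduct.one_def, LinearMap.rTensor_tmul, hα1]
    rfl
  have e2 : ((TensorProduct.mk k k A).flip 1 ∘ₗ α) h =
      (α.rTensor A ∘ₗ Coalgebra.comul (R := k) (A := A)) h := by
    simp only [LinearMap.comp_apply]
    have hαh : α h = 0 := LinearMap.congr_fun hαH ⟨h, hh⟩
    obtain ⟨t, ht⟩ := hH h hh
    have ht' : Coalgebra.comul (R := k) h = H.subtype.rTensor A t := ht.symm
    rw [hαh, map_zero, ht', ← LinearMap.rTensor_comp_apply, hαH, LinearMap.rTensor_zero,
      LinearMap.zero_apply]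
  rw [map_add, map_add, e1, e2]

end Groth.Agent.S12926
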