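import Groth.Statements.S12931
import Mathlib

set_option autoImplicit false
universe u v w
open HopfRep

namespace Groth.Agent.S12931

/-- Let `R` be a commutative ring, `Γ` a finite set and `T` a commutative `R`-algebra which is
connected: nonzero, with no idempotents other than `0` and `1`. Then `γ ↦ (evaluation at γ : (Γ → R)
→ R → T)` is a bijection from `Γ` onto the `R`-algebra maps `(Γ → R) → T`: every such map sends
exactly one of the indicator functions to `1` and the others to `0`. (Only the bijection of sets is
stated; when `Γ` is a group, the compatibility with the group structures on both sides is not.) -/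
theorem result
    (R : Type u) [CommRing R] (Γ : Type v) [Finite Γ]
    (T : Type w) [CommRing T] [Algebra R T] [Nontrivial T]
    (hT : ∀ e : T, IsIdempotentElem e → e = 0 ∨ e = 1) :
    Function.Bijective (fun γ : Γ => (Algebra.ofId R T).comp (Pi.evalAlgHom R (fun _ : Γ => R) γ)) := by
  classical
  haveI := Fintype.ofFinite Γ
  constructor
  · intro γ γ' h
    by_contra hne
    have h1 := AlgHom.congr_fun h (Pi.single γ (1 : R))
    have h2 : (Algebra.ofId R T) ((Pi.single γ (1 : R) : Γ → R) γ) =
        (Algebra.ofId R T) ((Pi.single γ (1 : R) : Γ → R) γ') := h1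
    rw [Pi.single_eq_same, Pi.single_eq_of_ne (Ne.symm hne), map_one, map_zero] at h2
    exact one_ne_zero h2
  · intro φ
    let e : Γ → (Γ → R) := fun γ => Pi.single γ 1
    have hmul : ∀ γ γ', e γ * e γ' = if γ = γ' then e γ else 0 := by
      intro γ γ'
      ext x
      simp only [e, Pi.mul_apply, Pi.single_apply]
      by_cases h : γ = γ'
      · subst h
        rw [if_pos rfl]
        simp only [Pi.single_apply]
        split_ifs <;> simp
      · rw [if_neg h]
        simp only [Pi.zero_apply]
        by_cases hx : x = γ
        · have : x ≠ γ' := fun h' => h (hx.symm.trans h')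
          rw [if_pos hx, if_neg this, mul_zero]
        · rw [if_neg hx, zero_mul]
    have hsum1 : ∑ γ, e γ = 1 := by
      ext x
      simp only [e, Finset.sum_apply, Pi.single_apply, Pi.one_apply]
      rw [Finset.sum_eq_single x]
      · rw [if_pos rfl]
      · intro b _ hb; rw [if_neg (Ne.symm hb)]
      · intro h; exact absurd (Finset.mem_univ x) h
    have hidem : ∀ γ, IsIdempotentElem (φ (e γ)) := fun γ => by
      show φ (e γ) * φ (e γ) = φ (e γ)
      rw [← map_mul, hmul, if_pos rfl]
    have hsum : ∑ γ, φ (e γ) = 1 := by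
      rw [← map_sum, hsum1, map_one]
    have horth : ∀ γ γ', γ ≠ γ' → φ (e γ) * φ (e γ') = 0 := fun γ γ' h => by
      rw [← map_mul, hmul, if_neg h, map_zero]
    have h01 : ∀ γ, φ (e γ) = 0 ∨ φ (e γ) = 1 := fun γ => hT _ (hidem γ)
    obtain ⟨γ₀, hγ₀⟩ : ∃ γ₀, φ (e γ₀) = 1 := by
      by_contra hcon
      push_neg at hcon
      have h0 : ∀ γ, φ (e γ) = 0 := fun γ => (h01 γ).resolve_right (hcon γ)
      rw [Finset.sum_eq_zero (fun γ _ => h0 γ)] at hsum
      exact zero_ne_one hsum
    have hother : ∀ γ, γ ≠ γ₀ → φ (e γ) = 0 := fun γ hne => by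
      have := horth γ γ₀ hne
      rwa [hγ₀, mul_one] at this
    refine ⟨γ₀, ?_⟩
    apply AlgHom.ext
    intro f
    show Algebra.ofId R T (f γ₀) = φ f
    have hf : f = ∑ γ, f γ • e γ := by
      ext x
      simp only [e, Finset.sum_apply, Pi.smul_apply, Pi.single_apply, smul_eq_mul]
      rw [Finset.sum_eq_single x]
      · rw [if_pos rfl, mul_one]
      · intro b _ hb; rw [if_neg (Ne.symm hb), mul_zero]
      · intro h; exact absurd (Finset.mem_univ x) h
    conv_rhs => rw [hf, map_sum]
    simp only [map_smul]
    rw [Finset.sum_eq_single γ₀]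
    · rw [hγ₀, Algebra.ofId_apply, Algebra.algebraMap_eq_smul_one]
    · intro γ _ hne; rw [hother γ hne, smul_zero]
    · intro h; exact absurd (Finset.mem_univ _) h

end Groth.Agent.S12931
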