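import Groth.Statements.S12933
import Mathlib

set_option autoImplicit false
universe u v w w'
open TensorProduct
open InvTh

namespace Groth.Agent.S12933

/-- Let `R` be a commutative ring, `B` a commutative `R`-algebra with an action of a finite group `Γ` by
`R`-algebra automorphisms, and `R'` a flat commutative `R`-algebra; let `Γ` act on `R' ⊗_R B`
through the factor `B`. Then an element of `R' ⊗_R B` is fixed by every element of `Γ` if and only
if it lies in the `R'`-submodule spanned by the tensors `1 ⊗ b` with `b ∈ B^Γ`: taking invariants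
commutes with flat base change (the map `R' ⊗_R B^Γ → R' ⊗_R B` being moreover injective by
flatness). -/
theorem result
    (R : Type u) [CommRing R] (B : Type v) [CommRing B] [Algebra R B]
    (Γ : Type w) [Group Γ] [Finite Γ] [MulSemiringAction Γ B] [SMulCommClass Γ R B]
    (R' : Type w') [CommRing R'] [Algebra R R'] [Module.Flat R R']
    (x : R' ⊗[R] B) :
    (∀ γ : Γ, Algebra.TensorProduct.map (AlgHom.id R R') (MulSemiringAction.toAlgHom R B γ) x = x) ↔
      x ∈ Submodule.span R' ((fun b : B => (1 : R') ⊗ₜ[R] b) '' {b : B | ∀ γ : Γ, γ • b = b}) := by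
  classical
  haveI := Fintype.ofFinite Γ
  let g : Γ → (B →ₗ[R] B) := fun γ => (MulSemiringAction.toAlgHom R B γ).toLinearMap
  have hg : ∀ γ b, g γ b = γ • b := fun γ b => rfl
  let d : B →ₗ[R] (Γ → B) := LinearMap.pi (fun γ => g γ - LinearMap.id)
  have hd : ∀ b γ, d b γ = γ • b - b := fun b γ => rfl
  let K : Submodule R B := LinearMap.ker d
  have hK : ∀ b, b ∈ K ↔ ∀ γ : Γ, γ • b = b := by
    intro b
    rw [LinearMap.mem_ker]
    constructor
    · intro h γ
      have := congrFun h γ
      rw [hd, Pi.zero_apply, sub_eq_zero] at this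
      exact this
    · intro h
      funext γ
      rw [hd, Pi.zero_apply, h γ, sub_self]
  have hex : Function.Exact (K.subtype.lTensor R') (d.lTensor R') :=
    Module.Flat.lTensor_exact R' (LinearMap.exact_subtype_ker_map d)
  let G : Γ → (R' ⊗[R] B →ₗ[R] R' ⊗[R] B) := fun γ =>
    (Algebra.TensorProduct.map (AlgHom.id R R') (MulSemiringAction.toAlgHom R B γ)).toLinearMap
  have hG : ∀ γ (r : R') (b : B), G γ (r ⊗ₜ b) = r ⊗ₜ (γ • b) := fun γ r b => by
    simp [G]
  let L1 : R' ⊗[R] B →ₗ[R] (Γ → R' ⊗[R] B) :=
    ((TensorProduct.piRight R R R' (fun _ : Γ => B)).toLinearMap) ∘ₗ (d.lTensor R')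
  let L2 : R' ⊗[R] B →ₗ[R] (Γ → R' ⊗[R] B) := LinearMap.pi (fun γ => G γ - LinearMap.id)
  have hL : L1 = L2 := by
    apply TensorProduct.ext'
    intro r b
    funext γ
    simp only [L1, L2, LinearMap.comp_apply, LinearMap.lTensor_tmul, LinearEquiv.coe_coe,
      TensorProduct.piRight_apply, TensorProduct.piRightHom_tmul, LinearMap.pi_apply,
      LinearMap.sub_apply, LinearMap.id_apply, hG, hd, TensorProduct.tmul_sub]
  constructor
  · intro hx
    have h2 : L2 x = 0 := by
      funext γ
      simp only [L2, LinearMap.pi_apply, LinearMap.sub_apply, LinearMap.id_apply, Pi.zero_apply]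
      rw [sub_eq_zero]
      exact hx γ
    rw [← hL] at h2
    have h3 : d.lTensor R' x = 0 := by
      apply (TensorProduct.piRight R R R' (fun _ : Γ => B)).injective
      rw [map_zero]
      exact h2
    obtain ⟨y, rfl⟩ := (hex x).1 h3
    clear h3 h2 hx
    induction y using TensorProduct.induction_on with
    | zero => rw [map_zero]; exact Submodule.zero_mem _
    | add y₁ y₂ h₁ h₂ => rw [map_add]; exact Submodule.add_mem _ h₁ h₂
    | tmul r k =>
      rw [LinearMap.lTensor_tmul]
      have : r ⊗ₜ[R] (K.subtype k) = r • ((1 : R') ⊗ₜ[R] (k : B)) := by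
        rw [TensorProduct.smul_tmul', smul_eq_mul, mul_one]; rfl
      rw [this]
      exact Submodule.smul_mem _ _ (Submodule.subset_span ⟨k, (hK k).1 k.2, rfl⟩)
  · intro hx γ
    induction hx using Submodule.span_induction with
    | mem z hz =>
      obtain ⟨b, hb, rfl⟩ := hz
      show Algebra.TensorProduct.map (AlgHom.id R R') (MulSemiringAction.toAlgHom R B γ)
        ((1 : R') ⊗ₜ[R] b) = _
      rw [Algebra.TensorProduct.map_tmul]
      show (1 : R') ⊗ₜ[R] (γ • b) = _
      rw [hb γ]
    | zero => rw [map_zero]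
    | add y z _ _ hy hz => rw [map_add, hy, hz]
    | smul r y _ hy =>
      have : r • y = (r ⊗ₜ[R] (1 : B)) * y := by
        rw [Algebra.smul_def, Algebra.TensorProduct.algebraMap_apply]; rfl
      rw [this, map_mul, hy, Algebra.TensorProduct.map_tmul]
      simp

end Groth.Agent.S12933
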