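import Groth.Statements.S12934
import Mathlib

set_option autoImplicit false
universe u v
open InvTh

namespace Groth.Agent.S12934


namespace S12934aux

universe uu vv

variable {B : Type uu} [CommRing B] [IsLocalRing B] {Γ : Type vv} [Group Γ] [MulSemiringAction Γ B]

section
variable (hin : ∀ (γ : Γ) (b : B), γ • b - b ∈ IsLocalRing.maximalIdeal B)
  (hst : ∀ (γ : Γ) (b : B), ∃ u : B, γ • b = b * u)

include hin in
lemma res_smul (γ : Γ) (b : B) : IsLocalRing.residue B (γ • b) = IsLocalRing.residue B b := by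
  have h := (IsLocalRing.residue_eq_zero_iff _).mpr (hin γ b)
  rw [map_sub] at h
  exact sub_eq_zero.mp h

noncomputable def chi (γ : Γ) (b : B) : IsLocalRing.ResidueField B :=
  IsLocalRing.residue B (Classical.choose (hst γ b))

lemma chi_def (γ : Γ) (b : B) :
    γ • b = b * Classical.choose (hst γ b) ∧
      chi hst γ b = IsLocalRing.residue B (Classical.choose (hst γ b)) :=
  ⟨Classical.choose_spec (hst γ b), rfl⟩

lemma chi_spec {γ : Γ} {b : B} (hb : b ≠ 0) (u : B) (hu : γ • b = b * u) :
    IsLocalRing.residue B u = chi hst γ b := by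
  obtain ⟨h0, h1⟩ := chi_def hst γ b
  rw [h1]
  by_contra hne
  have h2 : IsLocalRing.residue B (u - Classical.choose (hst γ b)) ≠ 0 := by
    rw [map_sub]
    exact sub_ne_zero.mpr hne
  have h3 : IsUnit (u - Classical.choose (hst γ b)) := by
    rw [← IsLocalRing.notMem_maximalIdeal]
    intro h
    exact h2 ((IsLocalRing.residue_eq_zero_iff _).mpr h)
  have h4 : b * (u - Classical.choose (hst γ b)) = 0 := by
    rw [mul_sub, ← hu, ← h0, sub_self]
  exact hb (h3.mul_left_eq_zero.mp h4)

include hin in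
lemma chi_mul {b : B} (hb : b ≠ 0) (γ δ : Γ) :
    chi hst (γ * δ) b = chi hst γ b * chi hst δ b := by
  obtain ⟨hγ, hγ'⟩ := chi_def hst γ b
  obtain ⟨hδ, hδ'⟩ := chi_def hst δ b
  have h1 : (γ * δ) • b = b * (Classical.choose (hst γ b) * γ • Classical.choose (hst δ b)) := by
    rw [mul_smul]
    conv_lhs => rw [hδ]
    rw [smul_mul']
    conv_lhs => rw [hγ]
    ring
  rw [← chi_spec hst hb _ h1, map_mul, res_smul hin, ← hγ', ← hδ']

lemma chi_one {b : B} (hb : b ≠ 0) : chi hst (1 : Γ) b = 1 := by
  rw [← chi_spec hst hb 1 (by rw [one_smul, mul_one]), map_one]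

include hin in
lemma chi_pow {b : B} (hb : b ≠ 0) (γ : Γ) (n : ℕ) :
    chi hst (γ ^ n) b = chi hst γ b ^ n := by
  induction n with
  | zero => rw [pow_zero, pow_zero, chi_one hst hb]
  | succ n ih => rw [pow_succ, pow_succ, chi_mul hin hst hb, ih]

variable (S : Set Γ)
  (hS : ∀ γ : Γ, γ ∈ S ↔ ∀ b : B, ∃ x ∈ IsLocalRing.maximalIdeal B, γ • b = b + b * x)

include hS in
lemma mem_S_iff (γ : Γ) : γ ∈ S ↔ ∀ b : B, b ≠ 0 → chi hst γ b = 1 := by
  constructor
  · intro hγ b hb
    obtain ⟨x, hx, h⟩ := (hS γ).mp hγ b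
    have h1 : γ • b = b * (1 + x) := by rw [h]; ring
    rw [← chi_spec hst hb _ h1, map_add, map_one, (IsLocalRing.residue_eq_zero_iff _).mpr hx,
      add_zero]
  · intro h
    rw [hS]
    intro b
    by_cases hb : b = 0
    · exact ⟨0, zero_mem _, by rw [hb, smul_zero]; ring⟩
    · obtain ⟨u, hu⟩ := hst γ b
      have h1 : IsLocalRing.residue B u = 1 := by rw [chi_spec hst hb u hu, h b hb]
      refine ⟨u - 1, ?_, ?_⟩
      · rw [← IsLocalRing.residue_eq_zero_iff, map_sub, map_one, h1, sub_self]
      · rw [hu]; ring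

def Ssub : Subgroup Γ where
  carrier := S
  mul_mem' := by
    intro a b ha hb
    rw [mem_S_iff hst S hS] at ha hb ⊢
    intro c hc
    rw [chi_mul hin hst hc, ha c hc, hb c hc, mul_one]
  one_mem' := by
    rw [mem_S_iff hst S hS]
    intro c hc
    exact chi_one hst hc
  inv_mem' := by
    intro a ha
    rw [mem_S_iff hst S hS] at ha ⊢
    intro c hc
    have := chi_mul hin hst hc a⁻¹ a
    rw [inv_mul_cancel, chi_one hst hc, ha c hc, mul_one] at this
    exact this.symm

include hin hS in
lemma eq_one_of_pow [FaithfulSMul Γ B] {γ : Γ} (hγ : γ ∈ S) (ℓ : ℕ) (hℓ : γ ^ ℓ = 1)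
    (hℓk : (ℓ : IsLocalRing.ResidueField B) ≠ 0) : γ = 1 := by
  apply eq_of_smul_eq_smul (α := B)
  intro b
  rw [one_smul]
  obtain ⟨x, hx, hγb⟩ := (hS γ).mp hγ b
  obtain ⟨x', hx', hγx⟩ := (hS γ).mp hγ x
  have key : ∀ i : ℕ, ∃ c : B, IsLocalRing.residue B c = (i : IsLocalRing.ResidueField B) ∧
      γ ^ i • b = b * (1 + x * c) := by
    intro i
    induction i with
    | zero => exact ⟨0, by simp, by simp⟩
    | succ i ih =>
      obtain ⟨c, hc, hi⟩ := ih
      refine ⟨1 + (1 + x') * (γ • c) + x * (1 + x') * (γ • c), ?_, ?_⟩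
      · simp only [map_add, map_mul, map_one, res_smul hin, hc,
          (IsLocalRing.residue_eq_zero_iff _).mpr hx, (IsLocalRing.residue_eq_zero_iff _).mpr hx']
        push_cast
        ring
      · rw [pow_succ', mul_smul, hi, smul_mul', smul_add, smul_one, smul_mul', hγb, hγx]
        ring
  obtain ⟨c, hc, hℓb⟩ := key ℓ
  rw [hℓ, one_smul] at hℓb
  have hcu : IsUnit c := by
    rw [← IsLocalRing.notMem_maximalIdeal, ← IsLocalRing.residue_eq_zero_iff, hc]
    exact hℓk
  have h1 : b * x * c = 0 := by linear_combination -hℓb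
  have h2 : b * x = 0 := hcu.mul_left_eq_zero.mp h1
  rw [hγb, h2, add_zero]

end

end S12934aux

/-- Let `B` be a local commutative ring with maximal ideal `m` and residue field `k`, and `Γ` a finite
group acting faithfully on `B` by ring automorphisms, such that every element of `Γ` acts trivially
modulo `m` (the whole group is inertia) and maps each principal ideal of `B` into itself (every
ideal is stable). Let `S ⊆ Γ` be the set of `γ` with `γ b ∈ b + b m` for all `b`. Then: if `k` has
characteristic `0`, `S = {1}`; if `k` has characteristic `p > 0`, `S` is (the underlying set of) a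
Sylow `p`-subgroup; every commutator of `Γ` lies in `S`, so `Γ/S` is abelian; and whenever the class
of `γ` in `Γ/S` has order `n` (`γ^n ∈ S`, no smaller positive power in `S`), `k` contains a
primitive `n`-th root of unity. (The published statement also bounds the number of generators of
`Γ/S` by the number of generators of the monoid of principal ideals; that clause is not included.) -/
theorem result
    (B : Type u) [CommRing B] [IsLocalRing B]
    (Γ : Type v) [Group Γ] [Finite Γ] [MulSemiringAction Γ B] [FaithfulSMul Γ B]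
    (hin : ∀ (γ : Γ) (b : B), γ • b - b ∈ IsLocalRing.maximalIdeal B)
    (hst : ∀ (γ : Γ) (b : B), ∃ u : B, γ • b = b * u)
    (S : Set Γ)
    (hS : ∀ γ : Γ, γ ∈ S ↔ ∀ b : B, ∃ x ∈ IsLocalRing.maximalIdeal B, γ • b = b + b * x) :
    (ringChar (IsLocalRing.ResidueField B) = 0 → S = {1}) ∧
      (∀ (p : ℕ) [Fact p.Prime], ringChar (IsLocalRing.ResidueField B) = p →
        ∃ Q : Sylow p Γ, (Q : Set Γ) = S) ∧
      (∀ γ δ : Γ, γ * δ * γ⁻¹ * δ⁻¹ ∈ S) ∧
      (∀ (γ : Γ) (n : ℕ), 0 < n → γ ^ n ∈ S → (∀ i : ℕ, 0 < i → i < n → γ ^ i ∉ S) →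
        ∃ ζ : IsLocalRing.ResidueField B, IsPrimitiveRoot ζ n) := by
  classical
  have hmem := S12934aux.mem_S_iff hst S hS
  refine ⟨?_, ?_, ?_, ?_⟩
  · intro h0
    haveI : CharP (IsLocalRing.ResidueField B) 0 := by
      have := ringChar.charP (IsLocalRing.ResidueField B)
      rwa [h0] at this
    haveI : CharZero (IsLocalRing.ResidueField B) := CharP.charP_to_charZero _
    ext γ
    simp only [Set.mem_singleton_iff]
    constructor
    · intro hγ
      have hn : orderOf γ ≠ 0 := (orderOf_pos γ).ne'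
      exact S12934aux.eq_one_of_pow hin S hS hγ (orderOf γ) (pow_orderOf_eq_one γ)
        (Nat.cast_ne_zero.mpr hn)
    · rintro rfl
      exact (S12934aux.Ssub hin hst S hS).one_mem
  · intro p hp hchar
    haveI : CharP (IsLocalRing.ResidueField B) p := by
      have := ringChar.charP (IsLocalRing.ResidueField B)
      rwa [hchar] at this
    refine ⟨Sylow.mk (S12934aux.Ssub hin hst S hS) ?_ ?_, rfl⟩
    · intro g
      obtain ⟨γ, hγ⟩ := g
      have hn : orderOf γ ≠ 0 := (orderOf_pos γ).ne'
      obtain ⟨a, n', hn', hn⟩ := Nat.exists_eq_pow_mul_and_not_dvd hn p hp.out.ne_one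
      refine ⟨a, ?_⟩
      have h1 : γ ^ p ^ a ∈ S := (S12934aux.Ssub hin hst S hS).pow_mem hγ _
      have h2 : (γ ^ p ^ a) ^ n' = 1 := by rw [← pow_mul, ← hn, pow_orderOf_eq_one]
      have h3 : (n' : IsLocalRing.ResidueField B) ≠ 0 := by
        rw [Ne, CharP.cast_eq_zero_iff (IsLocalRing.ResidueField B) p]
        exact hn'
      have h4 := S12934aux.eq_one_of_pow hin S hS h1 n' h2 h3
      exact Subtype.ext (by simpa using h4)
    · intro Q hQ hle
      apply le_antisymm _ hle
      intro γ hγQ
      obtain ⟨a, ha⟩ := hQ ⟨γ, hγQ⟩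
      have ha' : γ ^ p ^ a = 1 := by
        have := congrArg Subtype.val ha
        simpa using this
      show γ ∈ S
      rw [hmem]
      intro b hb
      have h1 : S12934aux.chi hst γ b ^ p ^ a = 1 := by
        rw [← S12934aux.chi_pow hin hst hb, ha', S12934aux.chi_one hst hb]
      have h2 : (S12934aux.chi hst γ b - 1) ^ p ^ a = 0 := by
        rw [sub_pow_char_pow, h1, one_pow, sub_self]
      exact sub_eq_zero.mp ((pow_eq_zero_iff (pow_ne_zero a hp.out.ne_zero)).mp h2)
  · intro γ δ
    rw [hmem]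
    intro b hb
    rw [S12934aux.chi_mul hin hst hb, S12934aux.chi_mul hin hst hb, S12934aux.chi_mul hin hst hb]
    have h1 : S12934aux.chi hst γ b * S12934aux.chi hst γ⁻¹ b = 1 := by
      rw [← S12934aux.chi_mul hin hst hb, mul_inv_cancel, S12934aux.chi_one hst hb]
    have h2 : S12934aux.chi hst δ b * S12934aux.chi hst δ⁻¹ b = 1 := by
      rw [← S12934aux.chi_mul hin hst hb, mul_inv_cancel, S12934aux.chi_one hst hb]
    calc S12934aux.chi hst γ b * S12934aux.chi hst δ b * S12934aux.chi hst γ⁻¹ b *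
          S12934aux.chi hst δ⁻¹ b
        = (S12934aux.chi hst γ b * S12934aux.chi hst γ⁻¹ b) *
          (S12934aux.chi hst δ b * S12934aux.chi hst δ⁻¹ b) := by ring
      _ = 1 := by rw [h1, h2, mul_one]
  · intro γ n hn hγn hmin
    haveI : NeZero n := ⟨hn.ne'⟩
    haveI := rootsOfUnity.isCyclic (IsLocalRing.ResidueField B) n
    obtain ⟨g, hg⟩ := IsCyclic.exists_generator (α := rootsOfUnity n (IsLocalRing.ResidueField B))
    have hgn : g ^ n = 1 := by
      have := g.2
      rw [mem_rootsOfUnity] at this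
      exact Subtype.ext (by simpa using this)
    have hcn : orderOf g ∣ n := orderOf_dvd_of_pow_eq_one hgn
    have hcpos : 0 < orderOf g := Nat.pos_of_dvd_of_pos hcn hn
    have hall : ∀ x : rootsOfUnity n (IsLocalRing.ResidueField B), x ^ orderOf g = 1 := by
      intro x
      obtain ⟨j, rfl⟩ := Subgroup.mem_zpowers_iff.mp (hg x)
      rw [← zpow_natCast, ← zpow_mul, mul_comm, zpow_mul, zpow_natCast, pow_orderOf_eq_one,
        one_zpow]
    have hγc : γ ^ orderOf g ∈ S := by
      rw [hmem]
      intro b hb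
      rw [S12934aux.chi_pow hin hst hb]
      have h1 : S12934aux.chi hst γ b ^ n = 1 := by
        rw [← S12934aux.chi_pow hin hst hb, (hmem _).mp hγn b hb]
      have hζ : Units.ofPowEqOne _ n h1 hn.ne' ∈ rootsOfUnity n (IsLocalRing.ResidueField B) := by
        rw [mem_rootsOfUnity]
        exact Units.ext (by simp [h1])
      have h2 := hall ⟨_, hζ⟩
      have h3 := congrArg (fun x : rootsOfUnity n (IsLocalRing.ResidueField B) =>
        ((x : (IsLocalRing.ResidueField B)ˣ) : IsLocalRing.ResidueField B)) h2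
      simpa using h3
    have hcn' : orderOf g = n := by
      by_contra hne
      exact hmin _ hcpos (lt_of_le_of_ne (Nat.le_of_dvd hn hcn) hne) hγc
    refine ⟨((g : (IsLocalRing.ResidueField B)ˣ) : IsLocalRing.ResidueField B), ?_⟩
    have hprim : IsPrimitiveRoot (g : (IsLocalRing.ResidueField B)ˣ)
        (orderOf (g : (IsLocalRing.ResidueField B)ˣ)) := IsPrimitiveRoot.orderOf _
    rw [Subgroup.orderOf_coe, hcn'] at hprim
    exact IsPrimitiveRoot.coe_units_iff.mpr hprim

end Groth.Agent.S12934
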