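import Groth.Statements.S12935
import Mathlib

set_option autoImplicit false
universe u v
open InvTh

namespace Groth.Agent.S12935

open Pointwise in
/-- Decomposition part, forward direction. -/
theorem decomp_part
    (B : Type u) [CommRing B] (Γ : Type v) [Group Γ] [Finite Γ] [MulSemiringAction Γ B]
    (Ω : Subgroup Γ) (P : Ideal B) [P.IsPrime] (γ : Γ)
    (h : ∀ x : B, (∀ ω ∈ Ω, ω • x = x) → (x ∈ P ↔ γ • x ∈ P)) :
    ∃ ω ∈ Ω, ∀ x : B, x ∈ P ↔ (γ * ω) • x ∈ P := by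
  classical
  haveI : Algebra.IsInvariant (FixedPoints.subring B Ω) B Ω :=
    ⟨fun b hb => ⟨⟨b, hb⟩, rfl⟩⟩
  let φ : B ≃+* B := MulSemiringAction.toRingEquiv Γ B γ
  let Q : Ideal B := P.comap (φ : B →+* B)
  haveI : Q.IsPrime := Ideal.comap_isPrime _ _
  have hQ : ∀ x, x ∈ Q ↔ γ • x ∈ P := fun x => Iff.rfl
  have hPQ : Ideal.under (FixedPoints.subring B Ω) P = Ideal.under (FixedPoints.subring B Ω) Q := by
    ext a
    rw [Ideal.mem_comap, Ideal.mem_comap, hQ]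
    exact h _ (fun ω hω => a.2 ⟨ω, hω⟩)
  obtain ⟨ω, hω⟩ := Algebra.IsInvariant.exists_smul_of_under_eq (FixedPoints.subring B Ω) B Ω P Q hPQ
  refine ⟨ω, ω.2, fun x => ?_⟩
  rw [mul_smul, ← hQ, hω, Ideal.mem_pointwise_smul_iff_inv_smul_mem]
  have : ω⁻¹ • ((ω : Γ) • x) = x := by
    rw [Subgroup.smul_def, Subgroup.coe_inv, inv_smul_smul]
  rw [this]

open Pointwise in
/-- Inertia part, for `γ` already in the decomposition group. -/
theorem inertia_part
    (B : Type u) [CommRing B] (Γ : Type v) [Group Γ] [Finite Γ] [MulSemiringAction Γ B]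
    (Ω : Subgroup Γ) (P : Ideal B) [P.IsPrime] (γ : Γ)
    (hD : ∀ x : B, x ∈ P ↔ γ • x ∈ P)
    (h : ∀ x : B, (∀ ω ∈ Ω, ω • x = x) → γ • x - x ∈ P) :
    ∃ ω ∈ Ω, ∀ x : B, (γ * ω) • x - x ∈ P := by
  classical
  haveI : Algebra.IsInvariant (FixedPoints.subring B Ω) B Ω :=
    ⟨fun b hb => ⟨⟨b, hb⟩, rfl⟩⟩
  let A := FixedPoints.subring B Ω
  let p : Ideal A := Ideal.under A P
  haveI : P.LiesOver p := ⟨rfl⟩
  let φ : B ≃+* B := MulSemiringAction.toRingEquiv Γ B γ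
  have hmap : P = Ideal.map (φ : B →+* B) P := by
    have h1 : Ideal.map (φ : B →+* B) P = Ideal.comap (φ.symm : B →+* B) P :=
      Ideal.map_comap_of_equiv φ
    rw [h1]
    ext x
    rw [Ideal.mem_comap]
    have := hD (φ.symm x)
    change x ∈ P ↔ φ.symm x ∈ P
    rw [this]
    change _ ↔ φ (φ.symm x) ∈ P
    rw [RingEquiv.apply_symm_apply]
  let σ0 : (B ⧸ P) ≃+* (B ⧸ P) := Ideal.quotientEquiv P P φ hmap
  have hσ0 : ∀ b : B, σ0 (Ideal.Quotient.mk P b) = Ideal.Quotient.mk P (γ • b) := fun b => rfl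
  let σ : (B ⧸ P) ≃ₐ[A ⧸ p] (B ⧸ P) := AlgEquiv.ofRingEquiv (f := σ0) (by
    intro a
    obtain ⟨a, rfl⟩ := Ideal.Quotient.mk_surjective a
    rw [Ideal.Quotient.algebraMap_mk_of_liesOver, hσ0, Ideal.Quotient.eq]
    exact h _ (fun ω hω => a.2 ⟨ω, hω⟩))
  obtain ⟨g, hg⟩ := Ideal.Quotient.stabilizerHom_surjective Ω p P σ
  refine ⟨(g : Ω)⁻¹, (g : Ω)⁻¹.2, fun x => ?_⟩
  have key : ∀ b : B, γ • b - (g : Ω) • b ∈ P := by
    intro b
    rw [← Ideal.Quotient.eq]
    have := congrArg (fun τ : (B ⧸ P) ≃ₐ[A ⧸ p] (B ⧸ P) => τ (Ideal.Quotient.mk P b)) hg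
    simp only [Ideal.Quotient.stabilizerHom_apply] at this
    rw [← hσ0]
    exact this.symm
  have := key ((g : Ω)⁻¹ • x)
  rw [smul_inv_smul] at this
  rw [mul_smul]
  exact this

/-- Let `B` be a commutative ring with an action of a finite group `Γ` by ring automorphisms, `Ω` a
normal subgroup of `Γ`, `B^Ω` the subring of `Ω`-invariants (stable under `Γ`, with the induced
action of `Γ/Ω`), and `P` a prime ideal of `B`. Then (decomposition groups) an element `γ` maps `P ∩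
B^Ω` onto itself if and only if `γω` maps `P` onto itself for some `ω ∈ Ω`; and (inertia groups) `γ`
fixes `B^Ω` modulo `P ∩ B^Ω` if and only if `γω` fixes `B` modulo `P` for some `ω ∈ Ω`. In other
words the decomposition and inertia groups of `P ∩ B^Ω` under `Γ/Ω` are the images of those of `P`.
(The published statement also asserts the same for the ramification groups, the Sylow subgroups of
the inertia groups at the residue characteristic; that clause is not included here.) -/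
theorem result
    (B : Type u) [CommRing B] (Γ : Type v) [Group Γ] [Finite Γ] [MulSemiringAction Γ B]
    (Ω : Subgroup Γ) [Ω.Normal] (P : Ideal B) [P.IsPrime] (γ : Γ) :
    ((∀ x : B, (∀ ω ∈ Ω, ω • x = x) → (x ∈ P ↔ γ • x ∈ P)) ↔
        ∃ ω ∈ Ω, ∀ x : B, x ∈ P ↔ (γ * ω) • x ∈ P) ∧
      ((∀ x : B, (∀ ω ∈ Ω, ω • x = x) → γ • x - x ∈ P) ↔
        ∃ ω ∈ Ω, ∀ x : B, (γ * ω) • x - x ∈ P) := by
  classical
  refine ⟨⟨decomp_part B Γ Ω P γ, ?_⟩, ⟨?_, ?_⟩⟩
  · rintro ⟨ω, hω, hx⟩ x hxΩ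
    have := hx x
    rwa [mul_smul, hxΩ ω hω] at this
  · intro h
    have h1 : ∀ x : B, (∀ ω ∈ Ω, ω • x = x) → (x ∈ P ↔ γ • x ∈ P) := by
      intro x hx
      have h2 := h x hx
      constructor
      · intro hxP
        have : γ • x = (γ • x - x) + x := by ring
        rw [this]
        exact P.add_mem h2 hxP
      · intro hxP
        have : x = γ • x - (γ • x - x) := by ring
        rw [this]
        exact P.sub_mem hxP h2
    obtain ⟨ω₀, hω₀, hD⟩ := decomp_part B Γ Ω P γ h1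
    have h' : ∀ x : B, (∀ ω ∈ Ω, ω • x = x) → (γ * ω₀) • x - x ∈ P := by
      intro x hx
      rw [mul_smul, hx ω₀ hω₀]
      exact h x hx
    obtain ⟨ω₁, hω₁, hI⟩ := inertia_part B Γ Ω P (γ * ω₀) hD h'
    refine ⟨ω₀ * ω₁, Ω.mul_mem hω₀ hω₁, fun x => ?_⟩
    rw [← mul_assoc]
    exact hI x
  · rintro ⟨ω, hω, hx⟩ x hxΩ
    have := hx x
    rwa [mul_smul, hxΩ ω hω] at this

end Groth.Agent.S12935
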