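import Groth.Statements.S12936
import Mathlib
import Groth.Agent.Lib.Helper17.InvThDecomp

set_option autoImplicit false
universe u v
open InvTh

namespace Groth.Agent.S12936

/-- Let `B` be a commutative ring with an action of a finite group `Γ` by ring automorphisms and `P` a
maximal ideal of `B`, with decomposition group `D_P = {γ | γP = P}` and decomposition ring `D =
B^{D_P}`. Then `D = B^Γ + (P ∩ D)`: every element of `B` fixed by `D_P` is congruent modulo `P` to a
`Γ`-invariant element. Hence the residue field of `D` at `P ∩ D` is that of `B^Γ` at `P ∩ B^Γ`; for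
an arbitrary prime `P` the same equality of residue fields follows by localising at `P ∩ B^Γ`. (The
published statement prints this residue field as `k(P)`; the proof establishes the equality with the
residue field of `B^Γ` stated here.) -/
theorem result
    (B : Type u) [CommRing B] (Γ : Type v) [Group Γ] [Finite Γ] [MulSemiringAction Γ B]
    (P : Ideal B) [P.IsMaximal] (x : B)
    (hx : ∀ γ : Γ, (∀ y : B, y ∈ P ↔ γ • y ∈ P) → γ • x = x) :
    ∃ c : B, (∀ γ : Γ, γ • c = c) ∧ x - c ∈ P := by
  classical
  obtain ⟨e, he1, he2, he3⟩ := Groth.Agent.Lib.Helper17.InvTh.exists_decomp_element (Γ := Γ) P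
  have hy : ∀ s ∈ Groth.Agent.Lib.Helper17.InvTh.decomp Γ P, s • (e * x) = e * x := by
    intro s hs
    rw [smul_mul', he1 s hs, hx s hs]
  obtain ⟨c, hc1, hc2⟩ := Groth.Agent.Lib.Helper17.InvTh.exists_coset_trace
    (Groth.Agent.Lib.Helper17.InvTh.decomp Γ P) (e * x) hy
  refine ⟨c, hc1, ?_⟩
  have h1 : c - e * x ∈ P := hc2 P (fun γ hγ => by
    rw [smul_mul']
    exact P.mul_mem_right _ (he3 γ hγ))
  have h2 : x - c = -(c - e * x) - (e - 1) * x := by ring
  rw [h2]
  exact P.sub_mem (P.neg_mem h1) (P.mul_mem_right _ he2)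

end Groth.Agent.S12936
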