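import Groth.Statements.S12937
import Mathlib

set_option autoImplicit false
universe u v
open InvTh

namespace Groth.Agent.S12937


namespace S12937aux
open Polynomial

universe uu vv ww

section trace
variable {B : Type uu} [CommRing B] {G : Type ww} [Group G] [MulSemiringAction G B] (H : Subgroup G)

lemma smul_eq_of_mk_eq (a : B) (ha : ∀ h ∈ H, h • a = a) {g₁ g₂ : G}
    (h : (g₁ : G ⧸ H) = g₂) : g₁ • a = g₂ • a := by
  have h1 : g₁⁻¹ * g₂ ∈ H := QuotientGroup.eq.mp h
  have h2 := ha _ h1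
  calc g₁ • a = g₁ • ((g₁⁻¹ * g₂) • a) := by rw [h2]
    _ = g₂ • a := by rw [smul_smul, mul_inv_cancel_left]

lemma tr_inv [Fintype (G ⧸ H)] (a : B) (ha : ∀ h ∈ H, h • a = a) (g : G) :
    g • (∑ q : G ⧸ H, (Quotient.out q : G) • a) = ∑ q : G ⧸ H, (Quotient.out q : G) • a := by
  rw [Finset.smul_sum]
  refine Fintype.sum_equiv (MulAction.toPerm g) _ _ (fun q => ?_)
  rw [smul_smul]
  apply smul_eq_of_mk_eq H a ha
  rw [MulAction.toPerm_apply, QuotientGroup.out_eq']
  conv_rhs => rw [← QuotientGroup.out_eq' q]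
  exact (MulAction.Quotient.smul_mk H g _).symm

end trace

variable {B : Type uu} [CommRing B] {Γ : Type vv} [Group Γ] [MulSemiringAction Γ B]

/-- decomposition group -/
def decomp (P : Ideal B) : Subgroup Γ where
  carrier := {γ | ∀ b : B, γ • b ∈ P ↔ b ∈ P}
  mul_mem' := by
    intro a c ha hc b
    rw [mul_smul, ha, hc]
  one_mem' := by
    intro b
    rw [one_smul]
  inv_mem' := by
    intro a ha b
    rw [← ha (a⁻¹ • b), smul_inv_smul]

lemma mem_decomp {P : Ideal B} {γ : Γ} : γ ∈ decomp (Γ := Γ) P ↔ ∀ b : B, γ • b ∈ P ↔ b ∈ P :=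
  Iff.rfl

lemma inertia_le_decomp (P : Ideal B) : P.inertia Γ ≤ decomp P := by
  intro τ hτ b
  have h := hτ b
  constructor
  · intro h1
    have := P.sub_mem h1 h
    simpa using this
  · intro h1
    have := P.add_mem h h1
    simpa using this

lemma conj_mem_inertia (P : Ideal B) {δ τ : Γ} (hδ : δ ∈ decomp (Γ := Γ) P)
    (hτ : τ ∈ P.inertia Γ) : δ⁻¹ * τ * δ ∈ P.inertia Γ := by
  intro b
  have h1 := hτ (δ • b)
  have h2 : δ⁻¹ • (τ • δ • b - δ • b) ∈ P :=
    ((decomp P).inv_mem hδ _).mpr h1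
  rw [smul_sub, inv_smul_smul] at h2
  rw [mul_smul, mul_smul]
  exact h2

lemma smul_inv_of_decomp (P : Ideal B) {δ : Γ} (hδ : δ ∈ decomp (Γ := Γ) P) {y : B}
    (hy : ∀ τ ∈ P.inertia Γ, τ • y = y) : ∀ τ ∈ P.inertia Γ, τ • δ • y = δ • y := by
  intro τ hτ
  have h1 := hy _ (conj_mem_inertia P hδ hτ)
  calc τ • δ • y = δ • ((δ⁻¹ * τ * δ) • y) := by
        rw [smul_smul, smul_smul]
        congr 1
        group
    _ = δ • y := by rw [h1]

lemma exists_inv_inv (P : Ideal B) [hP : P.IsMaximal] (H : Subgroup Γ) [Finite H]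
    (hH : H ≤ decomp P)
    (t : B) (ht : ∀ h ∈ H, h • t = t) (htP : t ∉ P) :
    ∃ t' : B, (∀ h ∈ H, h • t' = t') ∧ t * t' - 1 ∈ P := by
  classical
  haveI := Fintype.ofFinite H
  obtain ⟨b, hb⟩ : ∃ b, t * b - 1 ∈ P := by
    obtain ⟨y, i, hi, hyi⟩ := Ideal.IsMaximal.exists_inv hP htP
    refine ⟨y, ?_⟩
    have : t * y - 1 = -i := by linear_combination hyi
    rw [this]
    exact P.neg_mem hi
  have hN : ∀ h ∈ H, h • (∏ k : H, (k : Γ) • b) = ∏ k : H, (k : Γ) • b := by
    intro h hh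
    rw [Finset.smul_prod']
    refine Fintype.prod_equiv (Equiv.mulLeft (⟨h, hh⟩ : H)) _ _ (fun k => ?_)
    rw [smul_smul]
    rfl
  refine ⟨t ^ (Fintype.card H - 1) * ∏ k : H, (k : Γ) • b, ?_, ?_⟩
  · intro h hh
    rw [smul_mul', smul_pow', ht h hh, hN h hh]
  · have key : ∀ h : H, Ideal.Quotient.mk P t * Ideal.Quotient.mk P ((h : Γ) • b) = 1 := by
      intro h
      have h1 : (h : Γ) • (t * b - 1) ∈ P := ((hH h.2) _).mpr hb
      rw [smul_sub, smul_mul', ht h h.2, smul_one] at h1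
      have := Ideal.Quotient.eq.mpr h1
      rw [map_mul, map_one] at this
      exact this
    have hcard : 1 ≤ Fintype.card H := Fintype.card_pos
    have h2 : Ideal.Quotient.mk P (t * (t ^ (Fintype.card H - 1) * ∏ k : H, (k : Γ) • b)) =
        Ideal.Quotient.mk P 1 := by
      rw [← mul_assoc, ← pow_succ', Nat.sub_add_cancel hcard, map_mul, map_pow, map_prod, map_one]
      calc Ideal.Quotient.mk P t ^ Fintype.card H * ∏ k : H, Ideal.Quotient.mk P ((k : Γ) • b)
          = ∏ k : H, (Ideal.Quotient.mk P t * Ideal.Quotient.mk P ((k : Γ) • b)) := by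
            rw [Finset.prod_mul_distrib, Finset.prod_const, Finset.card_univ]
        _ = ∏ _k : H, (1 : B ⧸ P) := Finset.prod_congr rfl (fun k _ => key k)
        _ = 1 := Finset.prod_const_one
    exact Ideal.Quotient.eq.mp h2

lemma exists_gamma_inv (P : Ideal B) [hP : P.IsMaximal] [Finite Γ] (w : B)
    (hw : ∀ δ ∈ decomp (Γ := Γ) P, δ • w = w) :
    ∃ v : B, (∀ γ : Γ, γ • v = v) ∧ w - v ∈ P := by
  classical
  haveI := Fintype.ofFinite Γ
  letI : Fintype (Γ ⧸ decomp (Γ := Γ) P) := Fintype.ofFinite _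
  haveI : Fintype (decomp (Γ := Γ) P) := Fintype.ofFinite _
  obtain ⟨e, he1, he2⟩ : ∃ e : B, e - 1 ∈ P ∧ ∀ γ : Γ, γ ∉ decomp P → γ • e ∈ P := by
    let f : Γ → Ideal B := fun γ => Ideal.comap (MulSemiringAction.toRingHom Γ B γ) P
    let s : Finset Γ := Finset.univ.filter (fun γ => γ ∉ decomp (Γ := Γ) P)
    have hnot : ¬ (s.inf f ≤ P) := by
      intro hle
      obtain ⟨γ, hγs, hγ⟩ := (Ideal.IsPrime.inf_le' hP.isPrime).mp hle
      have hγD : γ ∉ decomp P := (Finset.mem_filter.mp hγs).2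
      apply hγD
      have hsurj : Function.Surjective (MulSemiringAction.toRingHom Γ B γ) :=
        fun b => ⟨γ⁻¹ • b, smul_inv_smul γ b⟩
      have hmax : (f γ).IsMaximal := Ideal.comap_isMaximal_of_surjective _ hsurj
      have heq : f γ = P := hmax.eq_of_le hP.ne_top hγ
      intro b
      conv_rhs => rw [← heq]
      rfl
    obtain ⟨e₀, he₀s, he₀P⟩ := SetLike.not_le_iff_exists.mp hnot
    obtain ⟨y, i, hi, hyi⟩ := Ideal.IsMaximal.exists_inv hP he₀P
    refine ⟨y * e₀, ?_, ?_⟩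
    · have : y * e₀ - 1 = -i := by linear_combination hyi
      rw [this]
      exact P.neg_mem hi
    · intro γ hγ
      have h1 : e₀ ∈ f γ :=
        (Finset.inf_le (Finset.mem_filter.mpr ⟨Finset.mem_univ _, hγ⟩) : s.inf f ≤ f γ) he₀s
      rw [smul_mul']
      exact P.mul_mem_left _ h1
  have heD_inv : ∀ δ ∈ decomp (Γ := Γ) P,
      δ • (∏ k : decomp (Γ := Γ) P, (k : Γ) • e) = ∏ k : decomp (Γ := Γ) P, (k : Γ) • e := by
    intro h hh
    rw [Finset.smul_prod']
    refine Fintype.prod_equiv (Equiv.mulLeft (⟨h, hh⟩ : decomp (Γ := Γ) P)) _ _ (fun k => ?_)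
    rw [smul_smul]
    rfl
  have heD1 : (∏ k : decomp (Γ := Γ) P, (k : Γ) • e) - 1 ∈ P := by
    apply Ideal.Quotient.eq.mp
    rw [map_prod, map_one]
    apply Finset.prod_eq_one
    intro k _
    have h1 : (k : Γ) • (e - 1) ∈ P := (k.2 _).mpr he1
    rw [smul_sub, smul_one] at h1
    have := Ideal.Quotient.eq.mpr h1
    rwa [map_one] at this
  have heD2 : ∀ γ : Γ, γ ∉ decomp (Γ := Γ) P →
      γ • (∏ k : decomp (Γ := Γ) P, (k : Γ) • e) ∈ P := by
    intro γ hγ
    rw [Finset.smul_prod']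
    obtain ⟨c, hc⟩ := Finset.dvd_prod_of_mem (fun k : decomp (Γ := Γ) P => γ • (k : Γ) • e)
      (Finset.mem_univ (1 : decomp (Γ := Γ) P))
    rw [hc]
    apply P.mul_mem_right
    simpa using he2 γ hγ
  set eD := ∏ k : decomp (Γ := Γ) P, (k : Γ) • e with heD
  have hw' : ∀ h ∈ decomp (Γ := Γ) P, h • (w * eD) = w * eD := by
    intro h hh
    rw [smul_mul', hw h hh, heD_inv h hh]
  refine ⟨∑ q : Γ ⧸ decomp (Γ := Γ) P, (Quotient.out q : Γ) • (w * eD),
    fun γ => tr_inv (decomp (Γ := Γ) P) (w * eD) hw' γ, ?_⟩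
  apply Ideal.Quotient.eq.mp
  rw [map_sum]
  rw [Finset.sum_eq_single (QuotientGroup.mk 1 : Γ ⧸ decomp (Γ := Γ) P)]
  · have h1 : (Quotient.out (QuotientGroup.mk 1 : Γ ⧸ decomp (Γ := Γ) P) : Γ) ∈ decomp (Γ := Γ) P := by
      have := QuotientGroup.eq.mp (QuotientGroup.out_eq' (QuotientGroup.mk 1 : Γ ⧸ decomp (Γ := Γ) P))
      rw [mul_one] at this
      exact (decomp P).inv_mem_iff.mp this
    rw [hw' _ h1]
    apply Ideal.Quotient.eq.mpr
    have : w - w * eD = -(w * (eD - 1)) := by ring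
    rw [this]
    exact P.neg_mem (P.mul_mem_left _ heD1)
  · intro q _ hq
    have h1 : (Quotient.out q : Γ) ∉ decomp (Γ := Γ) P := by
      intro h
      apply hq
      rw [← QuotientGroup.out_eq' q]
      apply QuotientGroup.eq.mpr
      rw [mul_one]
      exact (decomp P).inv_mem h
    rw [Ideal.Quotient.eq_zero_iff_mem, smul_mul']
    exact P.mul_mem_left _ (heD2 _ h1)
  · intro h
    exact absurd (Finset.mem_univ _) h

lemma mem_inertia_of_trivial (P : Ideal B) [hP : P.IsMaximal] [Finite Γ] (δ : Γ)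
    (h : ∀ y : B, (∀ τ ∈ P.inertia Γ, τ • y = y) → δ • y - y ∈ P) : δ ∈ P.inertia Γ := by
  classical
  letI := Ideal.Quotient.field P
  haveI : Fintype (P.inertia Γ) := Fintype.ofFinite _
  intro b
  have hinv : ∀ τ' ∈ P.inertia Γ, ∀ i,
      τ' • (∏ τ : P.inertia Γ, (X - C ((τ : Γ) • b))).coeff i =
        (∏ τ : P.inertia Γ, (X - C ((τ : Γ) • b))).coeff i := by
    intro τ' hτ' i
    have h1 : (∏ τ : P.inertia Γ, (X - C ((τ : Γ) • b))).map (MulSemiringAction.toRingHom Γ B τ') =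
        ∏ τ : P.inertia Γ, (X - C ((τ : Γ) • b)) := by
      simp only [Polynomial.map_prod, Polynomial.map_sub, Polynomial.map_X, Polynomial.map_C]
      refine Fintype.prod_equiv (Equiv.mulLeft (⟨τ', hτ'⟩ : P.inertia Γ)) _ _ (fun k => ?_)
      rw [MulSemiringAction.toRingHom_apply, smul_smul]
      rfl
    have h2 := congrArg (fun p => p.coeff i) h1
    simp only [Polynomial.coeff_map, MulSemiringAction.toRingHom_apply] at h2
    exact h2
  have hmap : ((∏ τ : P.inertia Γ, (X - C ((τ : Γ) • b))).map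
      (MulSemiringAction.toRingHom Γ B δ)).map (Ideal.Quotient.mk P) =
      (∏ τ : P.inertia Γ, (X - C ((τ : Γ) • b))).map (Ideal.Quotient.mk P) := by
    ext i
    rw [Polynomial.coeff_map, Polynomial.coeff_map, Polynomial.coeff_map,
      MulSemiringAction.toRingHom_apply]
    exact Ideal.Quotient.eq.mpr (h _ (fun τ hτ => hinv τ hτ i))
  have hL : eval (Ideal.Quotient.mk P (δ • b)) (((∏ τ : P.inertia Γ, (X - C ((τ : Γ) • b))).map
      (MulSemiringAction.toRingHom Γ B δ)).map (Ideal.Quotient.mk P)) = 0 := by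
    simp only [Polynomial.map_prod, Polynomial.map_sub, Polynomial.map_X, Polynomial.map_C,
      eval_prod, eval_sub, eval_X, eval_C]
    apply Finset.prod_eq_zero (Finset.mem_univ (1 : P.inertia Γ))
    simp
  rw [hmap] at hL
  have hR : (∏ τ : P.inertia Γ, (X - C ((τ : Γ) • b))).map (Ideal.Quotient.mk P) =
      (X - C (Ideal.Quotient.mk P b)) ^ (Fintype.card (P.inertia Γ)) := by
    simp only [Polynomial.map_prod, Polynomial.map_sub, Polynomial.map_X, Polynomial.map_C]
    rw [← Finset.card_univ, ← Finset.prod_const]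
    refine Finset.prod_congr rfl (fun τ _ => ?_)
    rw [Ideal.Quotient.eq.mpr (τ.2 b)]
  rw [hR, eval_pow, eval_sub, eval_X, eval_C] at hL
  have h3 := pow_eq_zero_iff (Fintype.card_pos (α := P.inertia Γ)).ne' |>.mp hL
  exact Ideal.Quotient.eq.mp (sub_eq_zero.mp h3)

lemma lemmaK (P : Ideal B) [hP : P.IsMaximal] [Finite Γ] (z : B)
    (hzT : ∀ τ ∈ P.inertia Γ, τ • z = z) (hzD : ∀ δ ∈ decomp (Γ := Γ) P, δ • z - z ∈ P) :
    ∃ w : B, (∀ δ ∈ decomp (Γ := Γ) P, δ • w = w) ∧ z - w ∈ P := by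
  classical
  letI := Ideal.Quotient.field P
  letI : Fintype (decomp (Γ := Γ) P ⧸ (P.inertia Γ).subgroupOf (decomp (Γ := Γ) P)) :=
    Fintype.ofFinite _
  -- the monoid of invariants
  let S : Submonoid B :=
    { carrier := {y | ∀ τ ∈ P.inertia Γ, τ • y = y}
      mul_mem' := by
        intro a b ha hb τ hτ
        rw [smul_mul', ha τ hτ, hb τ hτ]
      one_mem' := by
        intro τ _
        exact smul_one τ }
  let φ : (decomp (Γ := Γ) P ⧸ (P.inertia Γ).subgroupOf (decomp (Γ := Γ) P)) → (S →* (B ⧸ P)) :=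
    fun q =>
      { toFun := fun y => Ideal.Quotient.mk P (((Quotient.out q : decomp (Γ := Γ) P) : Γ) • (y : B))
        map_one' := by simp
        map_mul' := by
          intro a b
          simp [smul_mul'] }
  have hφ : ∀ q (y : S), φ q y =
      Ideal.Quotient.mk P (((Quotient.out q : decomp (Γ := Γ) P) : Γ) • (y : B)) := fun _ _ => rfl
  have hφinj : Function.Injective φ := by
    intro q q' hqq
    rw [← QuotientGroup.out_eq' q, ← QuotientGroup.out_eq' q']
    apply QuotientGroup.eq.mpr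
    rw [Subgroup.mem_subgroupOf]
    push_cast
    apply mem_inertia_of_trivial P
    intro y hy
    have h1 := congrArg (fun f : S →* (B ⧸ P) => f ⟨y, hy⟩) hqq
    simp only [hφ] at h1
    have h2 := Ideal.Quotient.eq.mp h1
    -- apply (out q)⁻¹
    have h3 : ((Quotient.out q : decomp (Γ := Γ) P) : Γ)⁻¹ •
        (((Quotient.out q : decomp (Γ := Γ) P) : Γ) • y -
          ((Quotient.out q' : decomp (Γ := Γ) P) : Γ) • y) ∈ P :=
      (((decomp P).inv_mem (Quotient.out q).2) _).mpr h2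
    rw [smul_sub, inv_smul_smul, smul_smul] at h3
    have := P.neg_mem h3
    rwa [neg_sub] at this
  have hli : LinearIndependent (B ⧸ P) (fun q => (φ q : S → B ⧸ P)) :=
    (linearIndependent_monoidHom S (B ⧸ P)).comp φ hφinj
  obtain ⟨a, ha⟩ : ∃ a : S, ∑ q, φ q a ≠ 0 := by
    by_contra hcon
    push Not at hcon
    have h0 : ∑ q, (1 : B ⧸ P) • (φ q : S → B ⧸ P) = 0 := by
      funext a
      simp only [one_smul, Finset.sum_apply, Pi.zero_apply]
      exact hcon a
    have := Fintype.linearIndependent_iff.mp hli (fun _ => 1) h0 (QuotientGroup.mk 1)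
    exact one_ne_zero this
  -- invariance of a and z*a under the subgroup
  have haH : ∀ h ∈ (P.inertia Γ).subgroupOf (decomp (Γ := Γ) P), h • (a : B) = a := by
    intro h hh
    rw [Subgroup.smul_def]
    exact a.2 _ (Subgroup.mem_subgroupOf.mp hh)
  have hzaH : ∀ h ∈ (P.inertia Γ).subgroupOf (decomp (Γ := Γ) P), h • (z * (a : B)) = z * a := by
    intro h hh
    rw [smul_mul', haH h hh, Subgroup.smul_def]
    rw [hzT _ (Subgroup.mem_subgroupOf.mp hh)]
  set t : B := ∑ q : decomp (Γ := Γ) P ⧸ (P.inertia Γ).subgroupOf (decomp (Γ := Γ) P),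
    (Quotient.out q : decomp (Γ := Γ) P) • (a : B) with ht
  set s : B := ∑ q : decomp (Γ := Γ) P ⧸ (P.inertia Γ).subgroupOf (decomp (Γ := Γ) P),
    (Quotient.out q : decomp (Γ := Γ) P) • (z * (a : B)) with hs
  have htD : ∀ δ ∈ decomp (Γ := Γ) P, δ • t = t := by
    intro δ hδ
    have := tr_inv ((P.inertia Γ).subgroupOf (decomp (Γ := Γ) P)) (a : B) haH ⟨δ, hδ⟩
    rwa [Subgroup.smul_def] at this
  have hsD : ∀ δ ∈ decomp (Γ := Γ) P, δ • s = s := by
    intro δ hδ
    have := tr_inv ((P.inertia Γ).subgroupOf (decomp (Γ := Γ) P)) (z * (a : B)) hzaH ⟨δ, hδ⟩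
    rwa [Subgroup.smul_def] at this
  have hπt : Ideal.Quotient.mk P t = ∑ q, φ q a := by
    rw [ht, map_sum]
    refine Finset.sum_congr rfl (fun q _ => ?_)
    rw [hφ, Subgroup.smul_def]
  have hπs : Ideal.Quotient.mk P s = Ideal.Quotient.mk P z * Ideal.Quotient.mk P t := by
    rw [hs, ht, map_sum, map_sum, Finset.mul_sum]
    refine Finset.sum_congr rfl (fun q _ => ?_)
    rw [Subgroup.smul_def, Subgroup.smul_def, smul_mul', map_mul]
    congr 1
    exact Ideal.Quotient.eq.mpr (hzD _ (Quotient.out q).2)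
  have htP : t ∉ P := by
    intro h
    apply ha
    rw [← hπt]
    exact Ideal.Quotient.eq_zero_iff_mem.mpr h
  obtain ⟨t', ht'D, ht'⟩ := exists_inv_inv P (decomp (Γ := Γ) P) le_rfl t htD htP
  refine ⟨s * t', fun δ hδ => by rw [smul_mul', hsD δ hδ, ht'D δ hδ], ?_⟩
  apply Ideal.Quotient.eq.mp
  rw [map_mul, hπs, mul_assoc, ← map_mul, Ideal.Quotient.eq.mpr ht', map_one, mul_one]

noncomputable def barHom (P : Ideal B) (δ : Γ) (hδ : δ ∈ decomp (Γ := Γ) P) :
    (B ⧸ P) →+* (B ⧸ P) :=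
  Ideal.Quotient.lift P ((Ideal.Quotient.mk P).comp (MulSemiringAction.toRingHom Γ B δ))
    (fun b hb => by
      rw [RingHom.comp_apply, MulSemiringAction.toRingHom_apply, Ideal.Quotient.eq_zero_iff_mem]
      exact (hδ b).mpr hb)

lemma barHom_mk (P : Ideal B) (δ : Γ) (hδ : δ ∈ decomp (Γ := Γ) P) (b : B) :
    barHom P δ hδ (Ideal.Quotient.mk P b) = Ideal.Quotient.mk P (δ • b) := rfl

lemma forward (P : Ideal B) [hP : P.IsMaximal] [Finite Γ] (y : B)
    (hy : ∀ τ ∈ P.inertia Γ, τ • y = y) :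
    ∃ g : B[X], (∀ (i : ℕ) (γ : Γ), γ • g.coeff i = g.coeff i) ∧
      (g.map (Ideal.Quotient.mk P)).Separable ∧
      eval (Ideal.Quotient.mk P y) (g.map (Ideal.Quotient.mk P)) = 0 := by
  classical
  letI := Ideal.Quotient.field P
  haveI : Fintype (decomp (Γ := Γ) P) := Fintype.ofFinite _
  set O : Finset (B ⧸ P) :=
    Finset.univ.image (fun δ : decomp (Γ := Γ) P => Ideal.Quotient.mk P ((δ : Γ) • y)) with hOdef
  have hO : ∀ c ∈ O, ∃ δ : decomp (Γ := Γ) P, Ideal.Quotient.mk P ((δ : Γ) • y) = c := by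
    intro c hc
    obtain ⟨δ, -, h⟩ := Finset.mem_image.mp hc
    exact ⟨δ, h⟩
  let rep : (B ⧸ P) → B := fun c =>
    if hc : c ∈ O then ((Classical.choose (hO c hc) : decomp (Γ := Γ) P) : Γ) • y else 0
  have hrep : ∀ c ∈ O, Ideal.Quotient.mk P (rep c) = c := by
    intro c hc
    simp only [rep, dif_pos hc]
    exact Classical.choose_spec (hO c hc)
  have hrepT : ∀ c, ∀ τ ∈ P.inertia Γ, τ • rep c = rep c := by
    intro c τ hτ
    by_cases hc : c ∈ O
    · simp only [rep, dif_pos hc]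
      exact smul_inv_of_decomp P (Classical.choose (hO c hc)).2 hy τ hτ
    · simp only [rep, dif_neg hc, smul_zero]
  have hG₁map : (∏ c ∈ O, (X - C (rep c))).map (Ideal.Quotient.mk P) = ∏ c ∈ O, (X - C c) := by
    simp only [Polynomial.map_prod, Polynomial.map_sub, Polynomial.map_X, Polynomial.map_C]
    exact Finset.prod_congr rfl (fun c hc => by rw [hrep c hc])
  have hT : ∀ i, ∀ τ ∈ P.inertia Γ,
      τ • (∏ c ∈ O, (X - C (rep c))).coeff i = (∏ c ∈ O, (X - C (rep c))).coeff i := by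
    intro i τ hτ
    have h1 : (∏ c ∈ O, (X - C (rep c))).map (MulSemiringAction.toRingHom Γ B τ) =
        ∏ c ∈ O, (X - C (rep c)) := by
      simp only [Polynomial.map_prod, Polynomial.map_sub, Polynomial.map_X, Polynomial.map_C]
      refine Finset.prod_congr rfl (fun c _ => ?_)
      rw [MulSemiringAction.toRingHom_apply, hrepT c τ hτ]
    have h2 := congrArg (fun p => p.coeff i) h1
    simp only [Polynomial.coeff_map, MulSemiringAction.toRingHom_apply] at h2
    exact h2
  have hD : ∀ i, ∀ δ ∈ decomp (Γ := Γ) P,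
      δ • (∏ c ∈ O, (X - C (rep c))).coeff i - (∏ c ∈ O, (X - C (rep c))).coeff i ∈ P := by
    intro i δ hδ
    have hinj : Function.Injective (barHom P δ hδ) := (barHom P δ hδ).injective
    have hmaps : ∀ c ∈ O, barHom P δ hδ c ∈ O := by
      intro c hc
      obtain ⟨δ', rfl⟩ := hO c hc
      rw [barHom_mk, smul_smul]
      exact Finset.mem_image.mpr ⟨⟨δ * δ', (decomp P).mul_mem hδ δ'.2⟩, Finset.mem_univ _, rfl⟩
    have himage : O.image (barHom P δ hδ) = O := by
      apply Finset.eq_of_subset_of_card_le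
      · intro c hc
        obtain ⟨c', hc', rfl⟩ := Finset.mem_image.mp hc
        exact hmaps c' hc'
      · rw [Finset.card_image_of_injective _ hinj]
    have h1 : ((∏ c ∈ O, (X - C (rep c))).map (MulSemiringAction.toRingHom Γ B δ)).map
        (Ideal.Quotient.mk P) = (∏ c ∈ O, (X - C (rep c))).map (Ideal.Quotient.mk P) := by
      rw [hG₁map]
      simp only [Polynomial.map_prod, Polynomial.map_sub, Polynomial.map_X, Polynomial.map_C]
      conv_rhs => rw [← himage]
      rw [Finset.prod_image (fun a _ b _ hab => hinj hab)]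
      refine Finset.prod_congr rfl (fun c hc => ?_)
      rw [MulSemiringAction.toRingHom_apply, ← barHom_mk P δ hδ, hrep c hc]
    have h2 := congrArg (fun p => p.coeff i) h1
    simp only [Polynomial.coeff_map, MulSemiringAction.toRingHom_apply] at h2
    exact Ideal.Quotient.eq.mp h2
  have hv : ∀ i, ∃ v : B, (∀ γ : Γ, γ • v = v) ∧ (∏ c ∈ O, (X - C (rep c))).coeff i - v ∈ P := by
    intro i
    obtain ⟨w, hwD, hw⟩ := lemmaK P ((∏ c ∈ O, (X - C (rep c))).coeff i) (hT i) (hD i)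
    obtain ⟨v, hvΓ, hv⟩ := exists_gamma_inv P w hwD
    refine ⟨v, hvΓ, ?_⟩
    have := P.add_mem hw hv
    simpa using this
  choose v hvΓ hvP using hv
  have hgmap : (∑ i ∈ Finset.range (((∏ c ∈ O, (X - C (rep c))).map
      (Ideal.Quotient.mk P)).natDegree + 1), C (v i) * X ^ i).map (Ideal.Quotient.mk P) =
      (∏ c ∈ O, (X - C (rep c))).map (Ideal.Quotient.mk P) := by
    refine Eq.trans ?_ (Polynomial.as_sum_range_C_mul_X_pow
      ((∏ c ∈ O, (X - C (rep c))).map (Ideal.Quotient.mk P))).symm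
    simp only [Polynomial.map_sum, Polynomial.map_mul, Polynomial.map_C, Polynomial.map_pow,
      Polynomial.map_X]
    refine Finset.sum_congr rfl (fun i _ => ?_)
    rw [Polynomial.coeff_map, Ideal.Quotient.eq.mpr (hvP i)]
  refine ⟨∑ i ∈ Finset.range (((∏ c ∈ O, (X - C (rep c))).map
      (Ideal.Quotient.mk P)).natDegree + 1), C (v i) * X ^ i, ?_, ?_, ?_⟩
  · intro i γ
    simp only [Polynomial.finsetSum_coeff, Polynomial.coeff_C_mul_X_pow]
    rw [Finset.smul_sum]
    refine Finset.sum_congr rfl (fun j _ => ?_)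
    split_ifs
    · exact hvΓ j γ
    · exact smul_zero γ
  · rw [hgmap, hG₁map]
    exact Polynomial.separable_prod_X_sub_C_iff'.mpr (fun a _ b _ hab => hab)
  · rw [hgmap, hG₁map, eval_prod]
    apply Finset.prod_eq_zero (i := Ideal.Quotient.mk P y)
    · exact Finset.mem_image.mpr ⟨1, Finset.mem_univ _, by simp⟩
    · simp

lemma hpoly_inv (P : Ideal B) [Fintype (P.inertia Γ)] (b : B) :
    ∀ τ' ∈ P.inertia Γ, ∀ i,
      τ' • (∏ τ : P.inertia Γ, (X - C ((τ : Γ) • b))).coeff i =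
        (∏ τ : P.inertia Γ, (X - C ((τ : Γ) • b))).coeff i := by
  intro τ' hτ' i
  have h1 : (∏ τ : P.inertia Γ, (X - C ((τ : Γ) • b))).map (MulSemiringAction.toRingHom Γ B τ') =
      ∏ τ : P.inertia Γ, (X - C ((τ : Γ) • b)) := by
    simp only [Polynomial.map_prod, Polynomial.map_sub, Polynomial.map_X, Polynomial.map_C]
    refine Fintype.prod_equiv (Equiv.mulLeft (⟨τ', hτ'⟩ : P.inertia Γ)) _ _ (fun k => ?_)
    rw [MulSemiringAction.toRingHom_apply, smul_smul]
    rfl
  have h2 := congrArg (fun p => p.coeff i) h1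
  simp only [Polynomial.coeff_map, MulSemiringAction.toRingHom_apply] at h2
  exact h2

lemma hpoly_map (P : Ideal B) [Fintype (P.inertia Γ)] (b : B) :
    (∏ τ : P.inertia Γ, (X - C ((τ : Γ) • b))).map (Ideal.Quotient.mk P) =
      (X - C (Ideal.Quotient.mk P b)) ^ (Fintype.card (P.inertia Γ)) := by
  simp only [Polynomial.map_prod, Polynomial.map_sub, Polynomial.map_X, Polynomial.map_C]
  rw [← Finset.card_univ, ← Finset.prod_const]
  refine Finset.prod_congr rfl (fun τ _ => ?_)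
  rw [Ideal.Quotient.eq.mpr (τ.2 b)]

lemma backward (P : Ideal B) [hP : P.IsMaximal] [Finite Γ] (x : B) (g : B[X])
    (hg : ∀ (i : ℕ) (γ : Γ), γ • g.coeff i = g.coeff i)
    (hsep : (g.map (Ideal.Quotient.mk P)).Separable)
    (hroot : eval (Ideal.Quotient.mk P x) (g.map (Ideal.Quotient.mk P)) = 0) :
    ∃ y : B, (∀ τ ∈ P.inertia Γ, τ • y = y) ∧ x - y ∈ P := by
  classical
  letI := Ideal.Quotient.field P
  haveI : Fintype (P.inertia Γ) := Fintype.ofFinite _
  let K : Subfield (B ⧸ P) :=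
    { carrier := {c | ∃ z : B, (∀ τ ∈ P.inertia Γ, τ • z = z) ∧ Ideal.Quotient.mk P z = c}
      mul_mem' := by
        rintro _ _ ⟨a, ha, rfl⟩ ⟨b, hb, rfl⟩
        exact ⟨a * b, fun τ hτ => by rw [smul_mul', ha τ hτ, hb τ hτ], map_mul _ _ _⟩
      one_mem' := ⟨1, fun τ _ => smul_one τ, map_one _⟩
      add_mem' := by
        rintro _ _ ⟨a, ha, rfl⟩ ⟨b, hb, rfl⟩
        exact ⟨a + b, fun τ hτ => by rw [smul_add, ha τ hτ, hb τ hτ], map_add _ _ _⟩
      zero_mem' := ⟨0, fun τ _ => smul_zero τ, map_zero _⟩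
      neg_mem' := by
        rintro _ ⟨a, ha, rfl⟩
        exact ⟨-a, fun τ hτ => by rw [smul_neg, ha τ hτ], map_neg _ _⟩
      inv_mem' := by
        rintro _ ⟨a, ha, rfl⟩
        by_cases haP : a ∈ P
        · refine ⟨0, fun τ _ => smul_zero τ, ?_⟩
          rw [Ideal.Quotient.eq_zero_iff_mem.mpr haP, inv_zero, map_zero]
        · obtain ⟨t', ht'T, ht'⟩ :=
            exists_inv_inv P (P.inertia Γ) (inertia_le_decomp P) a ha haP
          refine ⟨t', ht'T, ?_⟩
          have h1 : Ideal.Quotient.mk P a * Ideal.Quotient.mk P t' = 1 := by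
            rw [← map_mul, Ideal.Quotient.eq.mpr ht', map_one]
          exact eq_inv_of_mul_eq_one_right h1 }
  have hlift : ∀ p : B[X], (∀ i, ∀ τ ∈ P.inertia Γ, τ • p.coeff i = p.coeff i) →
      p.map (Ideal.Quotient.mk P) ∈ Polynomial.lifts (algebraMap K (B ⧸ P)) := by
    intro p hp
    rw [Polynomial.lifts_iff_coeff_lifts]
    intro n
    rw [Polynomial.coeff_map]
    exact ⟨⟨Ideal.Quotient.mk P (p.coeff n), ⟨p.coeff n, hp n, rfl⟩⟩, rfl⟩
  obtain ⟨G', hG'⟩ := (Polynomial.mem_lifts _).mp (hlift g (fun i τ _ => hg i τ))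
  have hcard : Fintype.card (P.inertia Γ) ≠ 0 := Fintype.card_ne_zero
  have hHmonic : ((∏ τ : P.inertia Γ, (X - C ((τ : Γ) • x))).map (Ideal.Quotient.mk P)).Monic := by
    rw [hpoly_map]
    exact (Polynomial.monic_X_sub_C _).pow _
  obtain ⟨H', hH'map, -, hH'monic⟩ :=
    Polynomial.lifts_and_degree_eq_and_monic (hlift _ (fun i τ hτ => hpoly_inv P x τ hτ i)) hHmonic
  set xbar := Ideal.Quotient.mk P x with hxbar
  have hH'root : Polynomial.eval₂ (algebraMap K (B ⧸ P)) xbar H' = 0 := by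
    rw [Polynomial.eval₂_eq_eval_map, hH'map, hpoly_map, eval_pow, eval_sub, eval_X, eval_C,
      sub_self, zero_pow hcard]
  have hint : IsIntegral K xbar := ⟨H', hH'monic, hH'root⟩
  have hμG : minpoly K xbar ∣ G' := by
    apply minpoly.dvd
    rw [Polynomial.aeval_def, Polynomial.eval₂_eq_eval_map, hG']
    exact hroot
  have hμH : minpoly K xbar ∣ H' := by
    apply minpoly.dvd
    rw [Polynomial.aeval_def]
    exact hH'root
  have hμmonic : ((minpoly K xbar).map (algebraMap K (B ⧸ P))).Monic :=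
    (minpoly.monic hint).map _
  have h1 : (minpoly K xbar).map (algebraMap K (B ⧸ P)) ∣
      (X - C xbar) ^ (Fintype.card (P.inertia Γ)) := by
    rw [← hpoly_map, ← hH'map]
    exact Polynomial.map_dvd _ hμH
  have h2 : (minpoly K xbar).map (algebraMap K (B ⧸ P)) ∣ g.map (Ideal.Quotient.mk P) := by
    rw [← hG']
    exact Polynomial.map_dvd _ hμG
  obtain ⟨i, -, hi⟩ := (dvd_prime_pow (Polynomial.prime_X_sub_C xbar) _).mp h1
  have heq : (minpoly K xbar).map (algebraMap K (B ⧸ P)) = (X - C xbar) ^ i :=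
    Polynomial.eq_of_monic_of_associated hμmonic ((Polynomial.monic_X_sub_C _).pow _) hi
  have hsepμ : ((X - C xbar) ^ i).Separable := by
    rw [← heq]
    exact hsep.of_dvd h2
  have hi1 : i = 1 := by
    by_cases hi0 : i = 0
    · exfalso
      have h3 : eval xbar ((minpoly K xbar).map (algebraMap K (B ⧸ P))) = 0 := by
        rw [← Polynomial.eval₂_eq_eval_map, ← Polynomial.aeval_def, minpoly.aeval]
      rw [heq, hi0, pow_zero, eval_one] at h3
      exact one_ne_zero h3
    · exact (Polynomial.Separable.of_pow (Polynomial.not_isUnit_X_sub_C xbar) hi0 hsepμ).2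
  rw [hi1, pow_one] at heq
  have h3 := congrArg (fun p => p.coeff 0) heq
  simp only [Polynomial.coeff_map, Polynomial.coeff_sub, Polynomial.coeff_X_zero,
    Polynomial.coeff_C_zero, zero_sub] at h3
  have h4 : -xbar ∈ K := by
    rw [← h3]
    exact ((minpoly K xbar).coeff 0).2
  have h5 : xbar ∈ K := by
    have := K.neg_mem h4
    rwa [neg_neg] at this
  obtain ⟨z, hzT, hz⟩ := h5
  exact ⟨z, hzT, Ideal.Quotient.eq.mp hz.symm⟩

end S12937aux

/-- Let `B` be a commutative ring with an action of a finite group `Γ` by ring automorphisms, `P` a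
maximal ideal of `B`, `T = {γ | γ x - x ∈ P for all x}` its inertia group, `B^T` the inertia ring
and `B^Γ` the ring of invariants, so that `k(P ∩ B^Γ) ⊆ k(P ∩ B^T) ⊆ k(P) = B/P`. Then `k(P ∩ B^T)`
is the largest separable extension of `k(P ∩ B^Γ)` inside `k(P)`: an element `x` of `B` is congruent
modulo `P` to a `T`-invariant element if and only if `x mod P` is a root of some polynomial with
`Γ`-invariant coefficients whose reduction modulo `P` is separable. (The published statement is for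
every prime ideal `P`, as an equality of residue fields; this row takes `P` maximal, the case to
which the published proof reduces by localising at `P ∩ B^Γ`.) -/
theorem result
    (B : Type u) [CommRing B] (Γ : Type v) [Group Γ] [Finite Γ] [MulSemiringAction Γ B]
    (P : Ideal B) [P.IsMaximal] (x : B) :
    (∃ y : B, (∀ γ : Γ, γ ∈ P.inertia Γ → γ • y = y) ∧ x - y ∈ P) ↔
      ∃ g : Polynomial B, (∀ (i : ℕ) (γ : Γ), γ • g.coeff i = g.coeff i) ∧
        (g.map (Ideal.Quotient.mk P)).Separable ∧ Polynomial.aeval x g ∈ P := by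
  constructor
  · rintro ⟨y, hy, hxy⟩
    obtain ⟨g, hg1, hg2, hg3⟩ := S12937aux.forward P y (fun τ hτ => hy τ hτ)
    refine ⟨g, hg1, hg2, ?_⟩
    rw [← Ideal.Quotient.eq_zero_iff_mem, Polynomial.coe_aeval_eq_eval,
      ← Polynomial.eval_map_apply, Ideal.Quotient.eq.mpr hxy]
    exact hg3
  · rintro ⟨g, hg1, hg2, hg3⟩
    obtain ⟨y, hy, hxy⟩ := S12937aux.backward P x g hg1 hg2 (by
      rw [Polynomial.eval_map_apply, ← Polynomial.coe_aeval_eq_eval]
      exact Ideal.Quotient.eq_zero_iff_mem.mpr hg3)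
    exact ⟨y, fun γ hγ => hy γ hγ, hxy⟩

end Groth.Agent.S12937
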