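import Groth.Statements.S12938
import Groth.Agent.Lib.Helper16.AlgSt.DiagToSelf
import Groth.Agent.Lib.Helper16.LocPSource

set_option autoImplicit false
universe u
open CategoryTheory AlgebraicGeometry
open AlgSt

namespace Groth.Agent.S12938

/-- For an algebraic stack over a base scheme, the diagonal over the base is representable by algebraic
spaces and locally of finite type. Equivalently: for a scheme T over the base and two objects x, y
of the stack over T, the algebraic space of isomorphisms from x to y is locally of finite type over
T (the published statement is this second form; the first form says it for every T-valued point of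
the twofold product over the base at once, and such a point is a pair of objects over T with an
isomorphism of their images in the base, which is no extra datum). -/
theorem result
    (S : Scheme.{u}) (𝒳 : AlgSt.Cat S)
    (h𝒳 : AlgSt.IsAlgStack Scheme.fppfPrecoverage 𝒳) :
    AlgSt.RepByAlgSpWith (AlgSp.LocP @LocallyOfFiniteType) (FibCat.diag (FibCat.toSelf 𝒳)) := by
  obtain ⟨U, x, hx1, hx2⟩ := h𝒳.atlas
  have hfl : AlgSt.RepByAlgSpWith (AlgSp.LocP @AlgebraicGeometry.Flat) x :=
    Groth.Agent.Lib.Helper28.AlgSt.Key.repByAlgSpWith_mono x (fun F V g hg =>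
      Groth.Agent.Lib.Helper16.locP_mono (fun _ _ f hf => by
        haveI : AlgebraicGeometry.Smooth f := hf
        exact (inferInstance : AlgebraicGeometry.Flat f)) hg) hx1
  have hlfp : AlgSt.RepByAlgSpWith (AlgSp.LocP @AlgebraicGeometry.LocallyOfFinitePresentation) x :=
    Groth.Agent.Lib.Helper28.AlgSt.Key.repByAlgSpWith_mono x (fun F V g hg =>
      Groth.Agent.Lib.Helper16.locP_mono (fun _ _ f hf => by
        haveI : AlgebraicGeometry.Smooth f := hf
        exact (inferInstance : AlgebraicGeometry.LocallyOfFinitePresentation f)) hg) hx1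
  have hlft : AlgSt.RepByAlgSpWith (AlgSp.LocP @AlgebraicGeometry.LocallyOfFiniteType) x :=
    Groth.Agent.Lib.Helper28.AlgSt.Key.repByAlgSpWith_mono x (fun F V g hg =>
      Groth.Agent.Lib.Helper16.locP_mono (fun _ _ f hf => by
        haveI : AlgebraicGeometry.Smooth f := hf
        exact (inferInstance : AlgebraicGeometry.LocallyOfFiniteType f)) hg) hx1
  exact Groth.Agent.Lib.Helper16.AlgStDC.repByAlgSpWith_diag_toSelf_of_cover
    (Groth.Agent.Lib.Helper28.AlgSt.PropInst.good_locP Groth.Agent.Lib.Helper16.etLocalST_locallyOfFiniteType)
    Groth.Agent.Lib.Helper16.AlgStDC.lft_diagonal h𝒳.isStack.1 h𝒳.diag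
    (Groth.Agent.Lib.Helper28.AlgSt.DiagRep.repByAlgSp_overCat U) x hfl hlfp hx2 hlft

end Groth.Agent.S12938
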