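import Groth.Statements.S12941
import Groth.Agent.Lib.Helper28.AlgSt.SpaceCalc

set_option autoImplicit false
universe u
open CategoryTheory AlgebraicGeometry
open AlgSt

namespace Groth.Agent.S12941

/-- If a morphism f of algebraic stacks is representable by algebraic spaces, then its diagonal is a
monomorphism (representable by algebraic spaces, and a monomorphism of sheaves after every base
change to a scheme). -/
theorem result
    (S : Scheme.{u}) (𝒳 : AlgSt.Cat S) (𝒴 : AlgSt.Cat S)
    (h𝒳 : AlgSt.IsAlgStack Scheme.fppfPrecoverage 𝒳)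
    (h𝒴 : AlgSt.IsAlgStack Scheme.fppfPrecoverage 𝒴)
    (f : 𝒳 ⥤ᵇ 𝒴)
    (hf : AlgSt.RepByAlgSp1 f) :
    AlgSt.IsMono (FibCat.diag f) := by
  refine Groth.Agent.Lib.Helper28.AlgSt.SpaceCalc.repByAlgSpWith_diag_of_forall h𝒳.isStack.1 h𝒴.isStack.1
    (MorphismProperty.monomorphisms (AlgSp.Sp S)) ?_ f hf ?_
  · intro X₁ Y₁ X₂ Y₂ _ _ _ _ a b a' b' sq h
    exact (MorphismProperty.monomorphisms (AlgSp.Sp S)).of_isPullback sq h
  · intro A B m
    exact MorphismProperty.monomorphisms.infer_property _

end Groth.Agent.S12941
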