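import Groth.Statements.S12942
import Groth.Agent.Lib.Helper28.AlgSt.SpaceCalc
import Groth.Agent.Lib.Helper17.AlgSpProper

set_option autoImplicit false
universe u
open CategoryTheory AlgebraicGeometry
open AlgSt

namespace Groth.Agent.S12942

/-- If a morphism f of algebraic stacks is representable by algebraic spaces, then its diagonal is
separated (as a morphism representable by algebraic spaces: every base change to a scheme is a
separated morphism of algebraic spaces). -/
theorem result
    (S : Scheme.{u}) (𝒳 : AlgSt.Cat S) (𝒴 : AlgSt.Cat S)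
    (h𝒳 : AlgSt.IsAlgStack Scheme.fppfPrecoverage 𝒳)
    (h𝒴 : AlgSt.IsAlgStack Scheme.fppfPrecoverage 𝒴)
    (f : 𝒳 ⥤ᵇ 𝒴)
    (hf : AlgSt.RepByAlgSp1 f) :
    AlgSt.RepByAlgSpWith AlgSp.IsSeparatedMor (FibCat.diag f) := by
  refine Groth.Agent.Lib.Helper28.AlgSt.SpaceCalc.repByAlgSpWith_diag_of_forall h𝒳.isStack.1 h𝒴.isStack.1
    AlgSp.IsSeparatedMor ?_ f hf ?_
  · intro X₁ Y₁ X₂ Y₂ _ _ _ _ a b a' b' sq h
    exact (AlgSp.RepWith (S := S) @IsClosedImmersion).diagonal.of_isPullback sq h
  · intro A B m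
    show AlgSp.RepWith @IsClosedImmersion (CategoryTheory.Limits.pullback.diagonal (CategoryTheory.Limits.pullback.diagonal m.hom))
    exact Groth.Agent.Lib.Helper17.repWith_of_isIso _ _

end Groth.Agent.S12942
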