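import Groth.Statements.S12943
import Groth.Agent.Lib.Helper28.AlgSt.DiagTFAE

set_option autoImplicit false
universe u
open CategoryTheory AlgebraicGeometry
open AlgSt

namespace Groth.Agent.S12943

/-- For a morphism f of algebraic stacks that is representable by algebraic spaces, the following are
equivalent: f is separated (every base change to a scheme is a separated morphism of algebraic
spaces); the diagonal of f is a closed immersion; the diagonal of f is proper; the diagonal of f is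
universally closed. -/
theorem result
    (S : Scheme.{u}) (𝒳 : AlgSt.Cat S) (𝒴 : AlgSt.Cat S)
    (h𝒳 : AlgSt.IsAlgStack Scheme.fppfPrecoverage 𝒳)
    (h𝒴 : AlgSt.IsAlgStack Scheme.fppfPrecoverage 𝒴)
    (f : 𝒳 ⥤ᵇ 𝒴)
    (hf : AlgSt.RepByAlgSp1 f) :
    [AlgSt.RepByAlgSpWith AlgSp.IsSeparatedMor f, AlgSt.IsClosedImm (FibCat.diag f),
      AlgSt.IsSeparatedMor f, AlgSt.RepByAlgSpWith AlgSp.IsUnivClosedMor (FibCat.diag f)].TFAE := by
  have hX := h𝒳.isStack.1
  have hY := h𝒴.isStack.1
  have h12 : AlgSt.RepByAlgSpWith AlgSp.IsSeparatedMor f ↔ AlgSt.IsClosedImm (FibCat.diag f) :=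
    Groth.Agent.Lib.Helper28.AlgSt.DiagTFAE.rep_diagonal_iff_diag hX hY
      Groth.Agent.Lib.Helper28.AlgSt.PropInst.good_closedImm f hf
  have h23 : AlgSt.IsClosedImm (FibCat.diag f) ↔ AlgSt.IsSeparatedMor f :=
    Groth.Agent.Lib.Helper28.AlgSt.DiagTFAE.diag_iff_of_forall hX hY
      Groth.Agent.Lib.Helper28.AlgSt.PropInst.good_closedImm
      Groth.Agent.Lib.Helper28.AlgSt.PropInst.good_proper f hf
      (fun A B m => Groth.Agent.Lib.Helper28.AlgSt.SepDiag.closedImm_diagonal_iff_proper m)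
  have h24 : AlgSt.IsClosedImm (FibCat.diag f) ↔
      AlgSt.RepByAlgSpWith AlgSp.IsUnivClosedMor (FibCat.diag f) :=
    Groth.Agent.Lib.Helper28.AlgSt.DiagTFAE.diag_iff_of_forall hX hY
      Groth.Agent.Lib.Helper28.AlgSt.PropInst.good_closedImm
      Groth.Agent.Lib.Helper28.AlgSt.PropInst.good_univClosed f hf
      (fun A B m => Groth.Agent.Lib.Helper28.AlgSt.SepDiag.closedImm_diagonal_iff_univClosed m)
  tfae_have 1 ↔ 2 := h12
  tfae_have 2 ↔ 3 := h23
  tfae_have 2 ↔ 4 := h24
  tfae_finish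

end Groth.Agent.S12943
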