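import Groth.Statements.S12945
import Groth.Agent.Lib.Helper28.AlgSt.DiagTFAE

set_option autoImplicit false
universe u
open CategoryTheory AlgebraicGeometry
open AlgSt

namespace Groth.Agent.S12945

/-- For a morphism f of algebraic stacks that is representable by algebraic spaces, f is quasi-separated
in the sense of stacks (diagonal quasi-compact and quasi-separated) if and only if every base change
of f to a scheme is a quasi-separated morphism of algebraic spaces. (For such f the diagonal is
separated, so the two notions of quasi-separated agree.) -/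
theorem result
    (S : Scheme.{u}) (𝒳 : AlgSt.Cat S) (𝒴 : AlgSt.Cat S)
    (h𝒳 : AlgSt.IsAlgStack Scheme.fppfPrecoverage 𝒳)
    (h𝒴 : AlgSt.IsAlgStack Scheme.fppfPrecoverage 𝒴)
    (f : 𝒳 ⥤ᵇ 𝒴)
    (hf : AlgSt.RepByAlgSp1 f) :
    AlgSt.IsQuasiSeparatedMor f ↔ AlgSt.RepByAlgSpWith AlgSp.IsQuasiSeparatedMor f := by
  have hX := h𝒳.isStack.1
  have hY := h𝒴.isStack.1
  refine (Groth.Agent.Lib.Helper28.AlgSt.DiagTFAE.rep_iff_diag hX hY
      (Groth.Agent.Lib.Helper28.AlgSt.PropInst.good_quasiCompact.inf
        Groth.Agent.Lib.Helper28.AlgSt.PropInst.good_quasiSeparated) f hf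
      (fun A B m => ?_)).symm
  have h1 := Groth.Agent.Lib.Helper16.repWith_quasiCompact_iff_isQuasiCompactMor _
    (Groth.Agent.S9900.result m).1
  have h2 : AlgSp.IsQuasiSeparatedMor (CategoryTheory.Limits.pullback.diagonal m.hom) := by
    show AlgSp.RepWith @AlgebraicGeometry.QuasiCompact (CategoryTheory.Limits.pullback.diagonal
      (CategoryTheory.Limits.pullback.diagonal m.hom))
    exact Groth.Agent.Lib.Helper17.repWith_of_isIso _ _
  exact ⟨fun h => ⟨h1.1 h, h2⟩, fun h => h1.2 h.1⟩

end Groth.Agent.S12945
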