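import Groth.Statements.S12946
import Mathlib

set_option autoImplicit false
universe u
open CategoryTheory AlgebraicGeometry
open AlgSt

namespace Groth.Agent.S12946

theorem lqf_of_unramified {X Y : AlgebraicGeometry.Scheme.{u}} (f : X ⟶ Y)
    (h1 : AlgebraicGeometry.LocallyOfFiniteType f) (h2 : AlgebraicGeometry.FormallyUnramified f) :
    AlgebraicGeometry.LocallyQuasiFinite f := by
  constructor
  intro U hU V hV e
  have h1' : (f.appLE U V e).hom.FiniteType :=
    AlgebraicGeometry.HasRingHomProperty.appLE (P := @AlgebraicGeometry.LocallyOfFiniteType) _ h1 ⟨U, hU⟩ ⟨V, hV⟩ e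
  have h2' : (f.appLE U V e).hom.FormallyUnramified := f.formallyUnramified_appLE hU hV e
  letI := (f.appLE U V e).hom.toAlgebra
  haveI : Algebra.FiniteType _ _ := h1'
  haveI : Algebra.FormallyUnramified _ _ := h2'
  show Algebra.QuasiFinite _ _
  infer_instance

/-- A DM morphism of algebraic stacks is quasi-DM (an unramified morphism of algebraic spaces being
locally quasi-finite). -/
theorem result
    (S : Scheme.{u}) (𝒳 : AlgSt.Cat S) (𝒴 : AlgSt.Cat S)
    (h𝒳 : AlgSt.IsAlgStack Scheme.fppfPrecoverage 𝒳)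
    (h𝒴 : AlgSt.IsAlgStack Scheme.fppfPrecoverage 𝒴)
    (f : 𝒳 ⥤ᵇ 𝒴) :
    AlgSt.IsDMMor f → AlgSt.IsQuasiDMMor f := by
  intro h U y
  obtain ⟨F, e, he, hP⟩ := h U y
  refine ⟨F, e, he, fun U' V' a b hh ha hb hab => ?_⟩
  have := hP a b hh ha hb hab
  exact ⟨lqf_of_unramified _ this.1 this.2, this.1⟩

end Groth.Agent.S12946
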