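import Groth.Statements.S12947
import Groth.Agent.Lib.Helper28.AlgSt.SpaceCalc
import Groth.Agent.Lib.Helper28.AlgSt.Good
import Groth.Agent.S9900

set_option autoImplicit false
universe u
open CategoryTheory AlgebraicGeometry
open AlgSt

namespace Groth.Agent.S12947

/-- A morphism of algebraic stacks that is representable by algebraic spaces is DM (its diagonal, a
monomorphism locally of finite type, is unramified). -/
theorem result
    (S : Scheme.{u}) (𝒳 : AlgSt.Cat S) (𝒴 : AlgSt.Cat S)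
    (h𝒳 : AlgSt.IsAlgStack Scheme.fppfPrecoverage 𝒳)
    (h𝒴 : AlgSt.IsAlgStack Scheme.fppfPrecoverage 𝒴)
    (f : 𝒳 ⥤ᵇ 𝒴)
    (hf : AlgSt.RepByAlgSp1 f) :
    AlgSt.IsDMMor f := by
  refine Groth.Agent.Lib.Helper28.AlgSt.SpaceCalc.repByAlgSpWith_diag_of_forall h𝒳.isStack.1 h𝒴.isStack.1
    (AlgSp.LocP (@AlgebraicGeometry.LocallyOfFiniteType ⊓ @AlgebraicGeometry.FormallyUnramified))
    Groth.Agent.Lib.Helper28.AlgSt.PropInst.good_unramified.bc f hf ?_
  intro A B m
  obtain ⟨h1, h2, h3, -, -⟩ := Groth.Agent.S9900.result m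
  have hX : AlgSp.IsAlgSpace (CategoryTheory.Limits.pullback m.hom m.hom) :=
    Groth.Agent.Lib.Helper16.isAlgSpace_of_isPullback A.property B.property.diag A.property
      (CategoryTheory.IsPullback.of_hasPullback m.hom m.hom)
  rw [Groth.Agent.Lib.Helper16.locP_iff_repWith Groth.Agent.Lib.Helper16.etLocalST_unramified
    A.property hX _ h1]
  refine Groth.Agent.Lib.Helper16.repWith_mono ?_ _
    (Groth.Agent.Lib.Helper16.repWith_inf _ h2 h3)
  rintro X Y g ⟨hg1, hg2⟩
  have : CategoryTheory.Mono g := hg2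
  exact ⟨hg1, (inferInstance : AlgebraicGeometry.FormallyUnramified g)⟩

end Groth.Agent.S12947
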