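import Groth.Statements.S12949
import Groth.Agent.Lib.Helper28.AlgSt.DiagComp

set_option autoImplicit false
universe u
open CategoryTheory AlgebraicGeometry
open AlgSt

namespace Groth.Agent.S12949

/-- The composition of two DM morphisms of algebraic stacks is DM (DM: the diagonal is representable by
algebraic spaces and unramified (locally of finite type and formally unramified)). -/
theorem result
    (S : Scheme.{u}) (𝒳 : AlgSt.Cat S) (𝒴 : AlgSt.Cat S) (𝒵 : AlgSt.Cat S)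
    (h𝒳 : AlgSt.IsAlgStack Scheme.fppfPrecoverage 𝒳)
    (h𝒴 : AlgSt.IsAlgStack Scheme.fppfPrecoverage 𝒴)
    (h𝒵 : AlgSt.IsAlgStack Scheme.fppfPrecoverage 𝒵)
    (f : 𝒳 ⥤ᵇ 𝒴) (g : 𝒴 ⥤ᵇ 𝒵) :
    AlgSt.IsDMMor f → AlgSt.IsDMMor g → AlgSt.IsDMMor (BasedFunctor.comp f g) := by
  intro hf hg
  exact Groth.Agent.Lib.Helper28.AlgSt.DiagComp.repByAlgSpWith_diag_comp
    Groth.Agent.Lib.Helper28.AlgSt.PropInst.good_unramified
    h𝒳.isStack.1 h𝒴.isStack.1 h𝒵.isStack.1 f g hf hg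

end Groth.Agent.S12949
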