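import Groth.Statements.S12959
import Groth.Agent.Lib.Helper16.AlgSt.OfComp
import Groth.Agent.S9900

set_option autoImplicit false
universe u
open CategoryTheory AlgebraicGeometry
open AlgSt

namespace Groth.Agent.S12959

/-- If the composite of f : 𝒳 → 𝒴 and g : 𝒴 → 𝒵 (morphisms of algebraic stacks) is quasi-separated and
the diagonal of g is quasi-separated (as a morphism representable by algebraic spaces), then f is
quasi-separated. -/
theorem result
    (S : Scheme.{u}) (𝒳 : AlgSt.Cat S) (𝒴 : AlgSt.Cat S) (𝒵 : AlgSt.Cat S)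
    (h𝒳 : AlgSt.IsAlgStack Scheme.fppfPrecoverage 𝒳)
    (h𝒴 : AlgSt.IsAlgStack Scheme.fppfPrecoverage 𝒴)
    (h𝒵 : AlgSt.IsAlgStack Scheme.fppfPrecoverage 𝒵)
    (f : 𝒳 ⥤ᵇ 𝒴) (g : 𝒴 ⥤ᵇ 𝒵) :
    AlgSt.IsQuasiSeparatedMor (BasedFunctor.comp f g) →
      AlgSt.RepByAlgSpWith AlgSp.IsQuasiSeparatedMor (FibCat.diag g) → AlgSt.IsQuasiSeparatedMor f := by
  intro h hg
  refine Groth.Agent.Lib.Helper16.AlgStDC.repByAlgSpWith_diag_of_comp''
    (Groth.Agent.Lib.Helper28.AlgSt.PropInst.Good.inf Groth.Agent.Lib.Helper28.AlgSt.PropInst.good_quasiCompact Groth.Agent.Lib.Helper28.AlgSt.PropInst.good_quasiSeparated)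
    (fun A B m hm => ?_) h𝒳.isStack.1 h𝒴.isStack.1 h𝒵.isStack.1 f g h hg
  have h1 := Groth.Agent.Lib.Helper16.repWith_quasiCompact_iff_isQuasiCompactMor _
    (Groth.Agent.S9900.result m).1
  have h2 : AlgSp.IsQuasiSeparatedMor (CategoryTheory.Limits.pullback.diagonal m.hom) := by
    show AlgSp.RepWith @AlgebraicGeometry.QuasiCompact (CategoryTheory.Limits.pullback.diagonal
      (CategoryTheory.Limits.pullback.diagonal m.hom))
    exact Groth.Agent.Lib.Helper17.repWith_of_isIso _ _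
  exact ⟨h1.1 hm, h2⟩

end Groth.Agent.S12959
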