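import Groth.Statements.S12971
import Groth.Agent.Lib.Helper28.AlgSt.DiagTFAE
import Groth.Agent.S12947

set_option autoImplicit false
universe u
open CategoryTheory AlgebraicGeometry
open AlgSt

namespace Groth.Agent.S12971

/-- A monomorphism of algebraic stacks (representable by algebraic spaces and a monomorphism) is
separated and DM. -/
theorem result
    (S : Scheme.{u}) (𝒳 : AlgSt.Cat S) (𝒴 : AlgSt.Cat S)
    (h𝒳 : AlgSt.IsAlgStack Scheme.fppfPrecoverage 𝒳)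
    (h𝒴 : AlgSt.IsAlgStack Scheme.fppfPrecoverage 𝒴)
    (f : 𝒳 ⥤ᵇ 𝒴) :
    AlgSt.IsMono f → AlgSt.IsSeparatedMor f ∧ AlgSt.IsDMMor f := by
  intro hm
  have hX := h𝒳.isStack.1
  have hY := h𝒴.isStack.1
  have hf : AlgSt.RepByAlgSp1 f := Groth.Agent.Lib.Helper28.AlgSt.Key.repByAlgSp1_of_with _ _ hm
  refine ⟨?_, Groth.Agent.S12947.result S 𝒳 𝒴 h𝒳 h𝒴 f hf⟩
  refine Groth.Agent.Lib.Helper28.AlgSt.DiagTFAE.diag_of_rep hX hY
    Groth.Agent.Lib.Helper28.AlgSt.PropInst.good_proper.bc f ?_ hm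
  intro A B m hmono
  haveI : CategoryTheory.Mono m.hom := hmono
  apply Groth.Agent.Lib.Helper28.AlgSt.SepDiag.isProperMor_diagonal_of_closedImm
  exact Groth.Agent.Lib.Helper17.repWith_of_isIso _ _

end Groth.Agent.S12971
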