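import Groth.Statements.S12973
import Groth.Agent.Lib.Helper28.AlgSt.InertiaStack

set_option autoImplicit false
universe u
open CategoryTheory AlgebraicGeometry
open AlgSt

namespace Groth.Agent.S12973

/-- For a morphism f : 𝒳 → 𝒴 of algebraic stacks the following are equivalent: the relative inertia
𝓘_{𝒳/𝒴} → 𝒳 is quasi-separated; the diagonal of f is quasi-separated; the neutral section 𝒳 →
𝓘_{𝒳/𝒴} is quasi-compact. All three morphisms are representable by algebraic spaces and the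
properties are the ones of such morphisms. -/
theorem result
    (S : Scheme.{u}) (𝒳 : AlgSt.Cat S) (𝒴 : AlgSt.Cat S)
    (h𝒳 : AlgSt.IsAlgStack Scheme.fppfPrecoverage 𝒳)
    (h𝒴 : AlgSt.IsAlgStack Scheme.fppfPrecoverage 𝒴)
    (f : 𝒳 ⥤ᵇ 𝒴) :
    [AlgSt.RepByAlgSpWith AlgSp.IsQuasiSeparatedMor (FibCat.inertiaToBase f),
      AlgSt.RepByAlgSpWith AlgSp.IsQuasiSeparatedMor (FibCat.diag f),
      AlgSt.RepByAlgSpWith AlgSp.IsQuasiCompactMor (FibCat.inertiaNeutral f)].TFAE := by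
  have hX := h𝒳.isStack.1
  have hY := h𝒴.isStack.1
  have hff := Groth.Agent.Lib.Helper10.Fib.isFibGrpd_fp f f hX hX hY
  have hI := Groth.Agent.Lib.Helper28.AlgSt.InertiaStack.isFibGrpd_inertia f hX hY
  have hd : AlgSt.RepByAlgSp1 (FibCat.diag f) :=
    Groth.Agent.Lib.Helper28.AlgSt.FpStack.repByAlgSp1_diag_of_diag_toSelf hX hY h𝒳.diag h𝒴.diag f
  have H : ∀ (A B : AlgSp.Space S) (m : A ⟶ B), AlgSp.IsQuasiSeparatedMor m.hom ↔
      AlgSp.IsQuasiCompactMor (CategoryTheory.Limits.pullback.diagonal m.hom) :=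
    fun A B m => Groth.Agent.Lib.Helper16.repWith_quasiCompact_iff_isQuasiCompactMor _
      (Groth.Agent.S9900.result m).1
  tfae_have 2 → 1 := fun h =>
    Groth.Agent.Lib.Helper28.AlgSt.InertiaStack.repWith_inertiaToBase_of_diag f _ h
  tfae_have 1 → 3 := fun h => by
    have hpr : AlgSt.RepByAlgSp1 (FibCat.inertiaToBase f) :=
      Groth.Agent.Lib.Helper28.AlgSt.Key.repByAlgSp1_of_with _ _ h
    have h1 := (Groth.Agent.Lib.Helper28.AlgSt.DiagTFAE.rep_iff_diag hI hX
      Groth.Agent.Lib.Helper28.AlgSt.PropInst.good_quasiCompact _ hpr H).1 h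
    exact Groth.Agent.Lib.Helper28.AlgSt.InertiaStack.repWith_inertiaNeutral_of_diag_toBase f _
      hX hY h1
  tfae_have 3 → 2 := fun h => by
    have h1 := (Groth.Agent.Lib.Helper28.AlgSt.InertiaStack.repWith_inertiaNeutral_iff f _).1 h
    exact (Groth.Agent.Lib.Helper28.AlgSt.DiagTFAE.rep_iff_diag hX hff
      Groth.Agent.Lib.Helper28.AlgSt.PropInst.good_quasiCompact _ hd H).2 h1
  tfae_finish

end Groth.Agent.S12973
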