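import Groth.Statements.S12974
import Groth.Agent.Lib.Helper28.AlgSt.InertiaStack
import Groth.Agent.Lib.Helper28.AlgSt.Good2
import Groth.Agent.Lib.Helper17.AlgSpUnram
import Groth.Agent.S12939

set_option autoImplicit false
universe u
open CategoryTheory AlgebraicGeometry
open AlgSt

namespace Groth.Agent.S12974

/-- For a morphism f : 𝒳 → 𝒴 of algebraic stacks, the relative inertia 𝓘_{𝒳/𝒴} → 𝒳 is unramified if and
only if f is DM. -/
theorem result
    (S : Scheme.{u}) (𝒳 : AlgSt.Cat S) (𝒴 : AlgSt.Cat S)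
    (h𝒳 : AlgSt.IsAlgStack Scheme.fppfPrecoverage 𝒳)
    (h𝒴 : AlgSt.IsAlgStack Scheme.fppfPrecoverage 𝒴)
    (f : 𝒳 ⥤ᵇ 𝒴) :
    AlgSt.RepByAlgSpWith (AlgSp.LocP (@LocallyOfFiniteType ⊓ @FormallyUnramified)) (FibCat.inertiaToBase f) ↔
      AlgSt.IsDMMor f := by
  have hX := h𝒳.isStack.1
  have hY := h𝒴.isStack.1
  have hff := Groth.Agent.Lib.Helper10.Fib.isFibGrpd_fp f f hX hX hY
  have hI := Groth.Agent.Lib.Helper28.AlgSt.InertiaStack.isFibGrpd_inertia f hX hY
  have hd : AlgSt.RepByAlgSp1 (FibCat.diag f) :=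
    Groth.Agent.Lib.Helper28.AlgSt.FpStack.repByAlgSp1_diag_of_diag_toSelf hX hY h𝒳.diag h𝒴.diag f
  have hgo := Groth.Agent.Lib.Helper28.AlgSt.PropInst.good_openImm (S := S)
  constructor
  · intro h
    have h1 : AlgSt.RepByAlgSpWith (AlgSp.RepWith @AlgebraicGeometry.IsOpenImmersion)
        (FibCat.diag (FibCat.inertiaToBase f)) :=
      Groth.Agent.Lib.Helper28.AlgSt.DiagTFAE.diag_of_rep hI hX hgo.bc _
        (fun A B m hm =>
          Groth.Agent.Lib.Helper17.repWith_isOpenImmersion_diagonal_of_locP_unramified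
            A.property B.property m.hom hm) h
    have h2 := Groth.Agent.Lib.Helper28.AlgSt.InertiaStack.repWith_inertiaNeutral_of_diag_toBase f _
      hX hY h1
    have h3 := (Groth.Agent.Lib.Helper28.AlgSt.InertiaStack.repWith_inertiaNeutral_iff f _).1 h2
    have h4 := (Groth.Agent.Lib.Helper28.AlgSt.SpaceCalc.repByAlgSpWith_diag_iff_forall hX hff _
      hgo.bc hgo.loc _ hd).1 h3
    have hlft := Groth.Agent.S12939.result S 𝒳 𝒴 h𝒳 h𝒴 f
    intro T y
    obtain ⟨A, e, he, hl⟩ := hlft T y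
    exact ⟨A, e, he, Groth.Agent.Lib.Helper17.locP_unramified_of_diagonal A.property
      (AlgSp.IsAlgSpace.yon_obj T) _ hl (h4 T y A e he)⟩
  · intro h
    exact Groth.Agent.Lib.Helper28.AlgSt.InertiaStack.repWith_inertiaToBase_of_diag f _ h

end Groth.Agent.S12974
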