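import Groth.Statements.S12975
import Mathlib
import Groth.Agent.Lib.Helper10.LqfSelfSp
import Groth.Agent.Lib.Helper28.AlgSt.InertiaStack
import Groth.Agent.Lib.Helper28.AlgSt.Good2
import Groth.Agent.S12939

set_option autoImplicit false
universe u
open CategoryTheory AlgebraicGeometry
open AlgSt

namespace Groth.Agent.S12975

set_option backward.isDefEq.respectTransparency false
set_option backward.isDefEq.respectTransparency.types false

open CategoryTheory.Limits Groth.Agent.Lib.Helper10.Fib Groth.Agent.Lib.Helper10.AlgStRep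
  Groth.Agent.Lib.Helper28.AlgSt.SpaceCalc Groth.Agent.Lib.Helper28.AlgSt.PropInst
  Groth.Agent.Lib.Helper28.AlgSt.Whisker Groth.Agent.Lib.Helper28.AlgSt.Bridge

section Stack

variable {S : Scheme.{u}}

/-- Chart form for the projection of the self fibre product. -/
theorem prop_snd_of_repByAlgSpWith_fpFst {𝒜 : AlgSt.Cat S} (P : MorphismProperty (AlgSp.Sp S))
    (hPb : BC P) (hP : AlgSp.IsLocalOnBase AlgSp.IsFppfCover P) {T : Over S} {A : AlgSp.Space S}
    (j : 𝒜 ⥤ᵇ FibCat.overCat T) (e : AlgSt.ofSp A.obj ⥤ᵇ 𝒜) (he : FibCat.IsEquivOver e)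
    (h : AlgSt.RepByAlgSpWith P (FibCat.fpFst j j)) :
    P (pullback.snd (AlgSt.spMapOfOver (BasedFunctor.comp e j))
      (AlgSt.spMapOfOver (BasedFunctor.comp e j))) := by
  let m : A ⟶ (AlgSp.ofScheme S).obj T :=
    ObjectProperty.homMk (AlgSt.spMapOfOver (BasedFunctor.comp e j))
  have iso : BasedFunctor.comp e j ≅
      BasedFunctor.comp (AlgSt.ofSpMap m.hom) (AlgSt.toOverCat T) :=
    spIso (BasedFunctor.comp e j)
  have hE := isEquivOver_fpSpEquiv (B := (AlgSp.ofScheme S).obj T) e (AlgSt.toOverCat T) e he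
    (isEquivOver_toOverCat T) he j j m m iso iso
  exact prop_map_of_repByAlgSpWith P hPb hP (A := selfFp m) (B := A)
    (fpSpEquiv (B := (AlgSp.ofScheme S).obj T) e (AlgSt.toOverCat T) e j j m m iso iso) e hE he
    (FibCat.fpFst j j)
    (ObjectProperty.homMk (pullback.snd m.hom m.hom)) (Iso.refl _) h

/-- The projection of the self fibre product of a base change is a base change of the projection
of the self fibre product. -/
theorem repByAlgSpWith_fpFst_self_baseChange {𝒜 ℬ : AlgSt.Cat S}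
    (P : MorphismProperty (AlgSp.Sp S)) (φ : 𝒜 ⥤ᵇ ℬ) {T : Over S} (y : FibCat.overCat T ⥤ᵇ ℬ)
    (h : AlgSt.RepByAlgSpWith P (FibCat.fpFst φ φ)) :
    AlgSt.RepByAlgSpWith P (FibCat.fpFst (FibCat.fpFst y φ) (FibCat.fpFst y φ)) := by
  have H1 : AlgSt.RepByAlgSpWith P (FibCat.fpFst (FibCat.fpSnd y φ) (FibCat.fpFst φ φ)) :=
    repByAlgSpWith_fpFst P (FibCat.fpFst φ φ) (FibCat.fpSnd y φ) h
  have H2 : AlgSt.RepByAlgSpWith P
      (FibCat.fpFst (BasedFunctor.comp (FibCat.fpSnd y φ) φ) φ) :=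
    repByAlgSpWith_of_square P _ (FibCat.fpFst (FibCat.fpSnd y φ) (FibCat.fpFst φ φ))
      (paste1 (FibCat.fpSnd y φ) φ φ) (BasedFunctor.id _) (isEquivOver_paste1 _ _ _)
      (isEquivOver_id _) (Iso.refl _) H1
  have := id_full ℬ
  have := id_faithful ℬ
  have hE : FibCat.IsEquivOver (fpMap (γ := BasedFunctor.id ℬ)
      (α := BasedFunctor.id (FibCat.fp y φ)) (β := BasedFunctor.id 𝒜)
      (G' := BasedFunctor.comp (FibCat.fpSnd y φ) φ)
      (G := BasedFunctor.comp (FibCat.fpFst y φ) y) (f' := φ) (f := φ)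
      (show BasedFunctor.comp (BasedFunctor.comp (FibCat.fpSnd y φ) φ) (BasedFunctor.id ℬ) ≅
        BasedFunctor.comp (BasedFunctor.id (FibCat.fp y φ))
          (BasedFunctor.comp (FibCat.fpFst y φ) y) from (FibCat.fpIso y φ).symm) (Iso.refl _)) :=
    isEquivOver_fpMap _ _ (isEquivOver_id _) (isEquivOver_id _)
  have H3 : AlgSt.RepByAlgSpWith P
      (FibCat.fpFst (BasedFunctor.comp (FibCat.fpFst y φ) y) φ) :=
    repByAlgSpWith_of_square P _ (FibCat.fpFst (BasedFunctor.comp (FibCat.fpSnd y φ) φ) φ)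
      _ (BasedFunctor.id _) hE (isEquivOver_id _) (Iso.refl _) H2
  exact repByAlgSpWith_of_square' P (FibCat.fpFst (BasedFunctor.comp (FibCat.fpFst y φ) y) φ) _
    (paste1 (FibCat.fpFst y φ) y φ) (BasedFunctor.id _) (isEquivOver_paste1 _ _ _)
    (isEquivOver_id _) (Iso.refl _) H3

/-- A morphism representable by algebraic spaces and locally of finite type whose base change
along itself is locally quasi-finite is locally quasi-finite. -/
theorem repByAlgSpWith_lqf_of_self_baseChange {𝒜 ℬ : AlgSt.Cat S} (φ : 𝒜 ⥤ᵇ ℬ)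
    (hlft : AlgSt.RepByAlgSpWith (AlgSp.LocP @LocallyOfFiniteType) φ)
    (h : AlgSt.RepByAlgSpWith (AlgSp.LocP (@LocallyQuasiFinite ⊓ @LocallyOfFiniteType))
      (FibCat.fpFst φ φ)) :
    AlgSt.RepByAlgSpWith (AlgSp.LocP (@LocallyQuasiFinite ⊓ @LocallyOfFiniteType)) φ := by
  intro T y
  obtain ⟨A, e, he, hl⟩ := hlft T y
  refine ⟨A, e, he, ?_⟩
  have hg := good_locallyQuasiFinite (S := S)
  have h1 := repByAlgSpWith_fpFst_self_baseChange _ φ y h
  have h2 := prop_snd_of_repByAlgSpWith_fpFst _ hg.bc hg.loc (FibCat.fpFst y φ) e he h1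
  exact Groth.Agent.Lib.Helper10.LqfSelf.locP_lqf_of_self_baseChange A.property _ hl h2

end Stack

/-- For a morphism f : 𝒳 → 𝒴 of algebraic stacks, the relative inertia 𝓘_{𝒳/𝒴} → 𝒳 is locally
quasi-finite if and only if f is quasi-DM. -/
theorem result
    (S : Scheme.{u}) (𝒳 : AlgSt.Cat S) (𝒴 : AlgSt.Cat S)
    (h𝒳 : AlgSt.IsAlgStack Scheme.fppfPrecoverage 𝒳)
    (h𝒴 : AlgSt.IsAlgStack Scheme.fppfPrecoverage 𝒴)
    (f : 𝒳 ⥤ᵇ 𝒴) :
    AlgSt.RepByAlgSpWith (AlgSp.LocP (@LocallyQuasiFinite ⊓ @LocallyOfFiniteType)) (FibCat.inertiaToBase f) ↔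
      AlgSt.IsQuasiDMMor f := by
  constructor
  · intro h
    have hlft := Groth.Agent.S12939.result S 𝒳 𝒴 h𝒳 h𝒴 f
    exact repByAlgSpWith_lqf_of_self_baseChange (FibCat.diag f) hlft
      ((Groth.Agent.Lib.Helper28.AlgSt.InertiaStack.repWith_inertiaToBase_iff f _).1 h)
  · intro h
    exact Groth.Agent.Lib.Helper28.AlgSt.InertiaStack.repWith_inertiaToBase_of_diag f _ h

end Groth.Agent.S12975
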