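import Groth.Statements.S12976
import Mathlib
import Groth.Agent.S12977
import Groth.Agent.S12774
import Groth.Agent.S12941
import Groth.Agent.Lib.Helper10.Fib7
import Groth.Agent.Lib.Helper10.FibCart

set_option autoImplicit false
universe u
open CategoryTheory AlgebraicGeometry
open AlgSt

namespace Groth.Agent.S12976

theorem isEquivOver_diag_of_ff {C : Type*} [Category C] {𝒜 ℬ : BasedCategory C} (j : 𝒜 ⥤ᵇ ℬ)
    [j.toFunctor.Full] [j.toFunctor.Faithful] (hfp : FibCat.IsFibGrpd (FibCat.fp j j).p) :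
    FibCat.IsEquivOver (FibCat.diag j) := by
  have hiso : ∀ c, ((FibCat.diag j).obj c).obj.iso.hom = 𝟙 (j.obj c) := fun c => rfl
  haveI : (FibCat.diag j).toFunctor.Faithful := by
    refine ⟨fun {a b} φ ψ h => ?_⟩
    exact congrArg (fun t => t.hom.fst) h
  haveI : (FibCat.diag j).toFunctor.Full := by
    refine ⟨fun {a b} n => ?_⟩
    have hw := n.hom.w
    have h1 : j.map n.hom.fst = j.map n.hom.snd := by
      rw [hiso, hiso] at hw
      exact (Category.comp_id _).symm.trans (hw.trans (Category.id_comp _))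
    have h2 : n.hom.fst = n.hom.snd := j.toFunctor.map_injective h1
    refine ⟨n.hom.fst, ?_⟩
    apply ObjectProperty.hom_ext
    apply Limits.CategoricalPullback.hom_ext
    · rfl
    · exact h2
  refine Groth.Agent.Lib.Helper10.Fib.isEquivOver_of_ff (FibCat.diag j) ?_
  intro Z
  obtain ⟨θ, hθ⟩ := j.toFunctor.map_surjective Z.obj.iso.hom
  have hw : j.map (𝟙 Z.obj.fst) ≫ Z.obj.iso.hom =
      ((FibCat.diag j).obj Z.obj.fst).obj.iso.hom ≫ j.map θ := by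
    rw [hiso]
    change j.toFunctor.map (𝟙 Z.obj.fst) ≫ Z.obj.iso.hom = 𝟙 _ ≫ j.toFunctor.map θ
    rw [hθ, CategoryTheory.Functor.map_id, Category.id_comp]
  let n : (FibCat.diag j).obj Z.obj.fst ⟶ Z := ObjectProperty.homMk ⟨𝟙 Z.obj.fst, θ, hw⟩
  have hn : (FibCat.fp j j).p.IsHomLift (𝟙 ((FibCat.fp j j).p.obj Z)) n := by
    rw [Groth.Agent.Lib.Helper10.Fib.fp_isHomLift_iff]
    change 𝒜.p.IsHomLift (𝟙 (𝒜.p.obj Z.obj.fst)) (𝟙 Z.obj.fst)
    infer_instance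
  haveI : IsIso n := Groth.Agent.Lib.Helper10.Fib.IsFibGrpd.isIso_of_isHomLift_id hfp (U := (FibCat.fp j j).p.obj Z) n
  exact ⟨Z.obj.fst, asIso n, hn⟩

/-- A morphism f between algebraic stacks is representable by algebraic spaces exactly when its second
diagonal 𝒳 → 𝒳 ×_{𝒳 ×_𝒴 𝒳} 𝒳 is an isomorphism, that is an equivalence over the base. -/
theorem result
    (S : Scheme.{u}) (𝒳 : AlgSt.Cat S) (𝒴 : AlgSt.Cat S)
    (h𝒳 : AlgSt.IsAlgStack Scheme.fppfPrecoverage 𝒳)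
    (h𝒴 : AlgSt.IsAlgStack Scheme.fppfPrecoverage 𝒴)
    (f : 𝒳 ⥤ᵇ 𝒴) :
    AlgSt.RepByAlgSp1 f ↔ FibCat.IsEquivOver (FibCat.diag (FibCat.diag f)) := by
  have h𝒳g := h𝒳.isStack.1
  have h𝒴g := h𝒴.isStack.1
  have hfp : FibCat.IsFibGrpd (FibCat.fp f f).p :=
    Groth.Agent.Lib.Helper10.Fib.isFibGrpd_fp f f h𝒳g h𝒳g h𝒴g
  constructor
  · intro hf
    have hm := Groth.Agent.S12941.result S 𝒳 𝒴 h𝒳 h𝒴 f hf
    obtain ⟨hfull, hfaith⟩ := Groth.Agent.S12774.result h𝒳g hfp (FibCat.diag f) hm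
    have hfp2 : FibCat.IsFibGrpd (FibCat.fp (FibCat.diag f) (FibCat.diag f)).p :=
      Groth.Agent.Lib.Helper10.Fib.isFibGrpd_fp (FibCat.diag f) (FibCat.diag f) h𝒳g h𝒳g hfp
    exact isEquivOver_diag_of_ff (FibCat.diag f) hfp2
  · intro hE
    rw [Groth.Agent.S12977.result S 𝒳 𝒴 h𝒳 h𝒴 f]
    intro a φ hpφ hfφ
    have hiso : ((FibCat.diag f).obj a).obj.iso.hom = 𝟙 (f.obj a) := rfl
    have hw : f.map φ ≫ ((FibCat.diag f).obj a).obj.iso.hom =
        ((FibCat.diag f).obj a).obj.iso.hom ≫ f.map (𝟙 a) := by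
      rw [hiso, hfφ]
      exact (Category.id_comp _).trans ((f.toFunctor.map_id a).symm.trans (Category.id_comp _).symm)
    let n : (FibCat.diag f).obj a ⟶ (FibCat.diag f).obj a := ObjectProperty.homMk ⟨φ, 𝟙 a, hw⟩
    have hφl : 𝒳.p.IsHomLift (𝟙 (𝒳.p.obj a)) φ := by
      have h0 : 𝒳.p.IsHomLift (𝒳.p.map φ) φ := inferInstance
      rw [hpφ] at h0
      exact h0
    have hn : (FibCat.fp f f).p.IsHomLift (𝟙 (𝒳.p.obj a)) n := by
      rw [Groth.Agent.Lib.Helper10.Fib.fp_isHomLift_iff]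
      exact hφl
    haveI : IsIso n :=
      Groth.Agent.Lib.Helper10.Fib.IsFibGrpd.isIso_of_isHomLift_id hfp (U := 𝒳.p.obj a) n
    let B : (FibCat.fp (FibCat.diag f) (FibCat.diag f)).obj :=
      ⟨⟨a, a, asIso n⟩, hn⟩
    obtain ⟨c, e, he⟩ := Groth.Agent.Lib.Helper10.Fib.IsEquivOver.exists_iso hE B
    have hw2 := e.hom.hom.w
    have hθ : IsIso e.hom.hom.fst := by
      have : e.hom.hom.fst =
          (FibCat.fpFst (FibCat.diag f) (FibCat.diag f)).toFunctor.map e.hom := rfl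
      rw [this]
      exact Functor.map_isIso (FibCat.fpFst (FibCat.diag f) (FibCat.diag f)).toFunctor e.hom
    have h1 : e.hom.hom.fst ≫ φ = 𝟙 c ≫ e.hom.hom.snd := congrArg (fun t => t.hom.fst) hw2
    have h2 : e.hom.hom.fst ≫ 𝟙 a = 𝟙 c ≫ e.hom.hom.snd := congrArg (fun t => t.hom.snd) hw2
    exact (cancel_epi e.hom.hom.fst).1 (h1.trans h2.symm)

end Groth.Agent.S12976
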