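import Groth.Statements.S12978
import Mathlib
import Groth.Agent.S12977
import Groth.Agent.S12774
import Groth.Agent.Lib.Helper10.Fib7

set_option autoImplicit false
universe u
open CategoryTheory AlgebraicGeometry
open AlgSt

namespace Groth.Agent.S12978

theorem aut_trivial_of_full_diag {C : Type*} [Category C] {𝒳 𝒴 : BasedCategory C} (f : 𝒳 ⥤ᵇ 𝒴)
    [(FibCat.diag f).toFunctor.Full] (a : 𝒳.obj) (φ : a ⟶ a) (hfφ : f.map φ = 𝟙 (f.obj a)) :
    φ = 𝟙 a := by
  have hiso : ((FibCat.diag f).obj a).obj.iso.hom = 𝟙 (f.obj a) := rfl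
  have hw : f.map φ ≫ ((FibCat.diag f).obj a).obj.iso.hom =
      ((FibCat.diag f).obj a).obj.iso.hom ≫ f.map (𝟙 a) := by
    rw [hiso, hfφ]
    exact (Category.id_comp _).trans ((f.toFunctor.map_id a).symm.trans (Category.id_comp _).symm)
  obtain ⟨ψ, hψ⟩ := (FibCat.diag f).toFunctor.map_surjective
    (ObjectProperty.homMk ⟨φ, 𝟙 a, hw⟩ : (FibCat.diag f).obj a ⟶ (FibCat.diag f).obj a)
  have h1 : ψ = φ := congrArg (fun t => t.hom.fst) hψ
  have h2 : ψ = 𝟙 a := congrArg (fun t => t.hom.snd) hψ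
  exact h1.symm.trans h2

/-- A morphism f of algebraic stacks whose diagonal is a monomorphism (representable by algebraic spaces
and a monomorphism) is representable by algebraic spaces. Together with the forward direction (a
morphism representable by algebraic spaces has monomorphic diagonal) this characterises
representability by the first diagonal. -/
theorem result
    (S : Scheme.{u}) (𝒳 : AlgSt.Cat S) (𝒴 : AlgSt.Cat S)
    (h𝒳 : AlgSt.IsAlgStack Scheme.fppfPrecoverage 𝒳)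
    (h𝒴 : AlgSt.IsAlgStack Scheme.fppfPrecoverage 𝒴)
    (f : 𝒳 ⥤ᵇ 𝒴) :
    AlgSt.IsMono (FibCat.diag f) → AlgSt.RepByAlgSp1 f := by
  intro hm
  have h𝒳g := h𝒳.isStack.1
  have h𝒴g := h𝒴.isStack.1
  have hfp : FibCat.IsFibGrpd (FibCat.fp f f).p :=
    Groth.Agent.Lib.Helper10.Fib.isFibGrpd_fp f f h𝒳g h𝒳g h𝒴g
  obtain ⟨hfull, -⟩ := Groth.Agent.S12774.result h𝒳g hfp (FibCat.diag f) hm
  rw [Groth.Agent.S12977.result S 𝒳 𝒴 h𝒳 h𝒴 f]
  intro a φ _ hfφ
  exact aut_trivial_of_full_diag f a φ hfφ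

end Groth.Agent.S12978
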