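import Groth.Statements.S12979
import Groth.Agent.Lib.Helper16.AlgSt.CancelCover
import Groth.Agent.Lib.Helper16.AlgSt.DiagLft
import Groth.Agent.Lib.Helper28.AlgSt.DiagTFAE
import Groth.Agent.Lib.Helper28.AlgSt.SepDiag
import Groth.Agent.Lib.Helper16.UnivClosed

set_option autoImplicit false
universe u
open CategoryTheory AlgebraicGeometry
open AlgSt

namespace Groth.Agent.S12979

/-- If the first and second diagonals of a morphism f of algebraic stacks are both universally closed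
(as morphisms representable by algebraic spaces), then f is separated. (The published statement is
an equivalence; this row states the implication from the two diagonals to separatedness.) -/
theorem result
    (S : Scheme.{u}) (𝒳 : AlgSt.Cat S) (𝒴 : AlgSt.Cat S)
    (h𝒳 : AlgSt.IsAlgStack Scheme.fppfPrecoverage 𝒳)
    (h𝒴 : AlgSt.IsAlgStack Scheme.fppfPrecoverage 𝒴)
    (f : 𝒳 ⥤ᵇ 𝒴) :
    AlgSt.RepByAlgSpWith AlgSp.IsUnivClosedMor (FibCat.diag f) →
      AlgSt.RepByAlgSpWith AlgSp.IsUnivClosedMor (FibCat.diag (FibCat.diag f)) → AlgSt.IsSeparatedMor f := by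
  intro h1 h2
  have hX := h𝒳.isStack.1
  have hY := h𝒴.isStack.1
  have hXX : FibCat.IsFibGrpd (FibCat.fp f f).p :=
    Groth.Agent.Lib.Helper10.Fib.isFibGrpd_fp f f hX hX hY
  have hΔ1 : AlgSt.RepByAlgSp1 (FibCat.diag f) :=
    Groth.Agent.Lib.Helper28.AlgSt.Key.repByAlgSp1_of_with _ _ h1
  have gU := Groth.Agent.Lib.Helper28.AlgSt.PropInst.good_univClosed (S := S)
  have gC := Groth.Agent.Lib.Helper28.AlgSt.PropInst.good_closedImm (S := S)
  have gS := Groth.Agent.Lib.Helper28.AlgSt.PropInst.good_separated (S := S)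
  have gL := Groth.Agent.Lib.Helper28.AlgSt.PropInst.good_lft (S := S)
  have gQ := Groth.Agent.Lib.Helper28.AlgSt.PropInst.good_quasiCompact (S := S)
  have h2' : AlgSt.RepByAlgSpWith (AlgSp.RepWith @IsClosedImmersion) (FibCat.diag (FibCat.diag f)) :=
    Groth.Agent.Lib.Helper28.AlgSt.DiagTFAE.diag_imp_of_forall hX hXX gU gC (FibCat.diag f) hΔ1
      (fun A B m h => Groth.Agent.Lib.Helper28.AlgSt.SepDiag.closedImm_diagonal_of_univClosed m h) h2
  have hsep : AlgSt.RepByAlgSpWith AlgSp.IsSeparatedMor (FibCat.diag f) :=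
    (Groth.Agent.Lib.Helper28.AlgSt.DiagTFAE.rep_iff_diag hX hXX (Q := AlgSp.IsSeparatedMor) gC
      (FibCat.diag f) hΔ1 (fun A B m => Iff.rfl)).2 h2'
  have hlft := Groth.Agent.Lib.Helper16.AlgStDC.lft_diag h𝒳 h𝒴 f
  have hqc : AlgSt.RepByAlgSpWith AlgSp.IsQuasiCompactMor (FibCat.diag f) := fun U y => by
    obtain ⟨F, e, he, huc⟩ := h1 U y
    exact ⟨F, e, he, Groth.Agent.Lib.Helper16.isQuasiCompactMor_of_isUnivClosedMor F.property
      (AlgSp.IsAlgSpace.yon_obj U) _ huc⟩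
  have hft := Groth.Agent.Lib.Helper16.AlgStDC.repByAlgSpWith_inf hX hXX gL.bc gL.loc gQ.bc gQ.loc
    _ hlft hqc
  have h3 := Groth.Agent.Lib.Helper16.AlgStDC.repByAlgSpWith_inf hX hXX gS.bc gS.loc
    (gL.inf gQ).bc (gL.inf gQ).loc _ hsep hft
  have h4 := Groth.Agent.Lib.Helper16.AlgStDC.repByAlgSpWith_inf hX hXX (gS.inf (gL.inf gQ)).bc
    (gS.inf (gL.inf gQ)).loc gU.bc gU.loc _ h3 h1
  exact Groth.Agent.Lib.Helper28.AlgSt.Key.repByAlgSpWith_mono _
    (fun F U g h => ⟨h.1.1, ⟨h.1.2.1, h.1.2.2⟩, h.2⟩) h4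
end Groth.Agent.S12979
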