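import Groth.Statements.S12980
import Groth.Agent.Lib.Helper28.AlgSt.DiagTFAE

set_option autoImplicit false
universe u
open CategoryTheory AlgebraicGeometry
open AlgSt

namespace Groth.Agent.S12980

/-- A morphism f of algebraic stacks is quasi-separated if and only if its first and second diagonals
are both quasi-compact (as morphisms representable by algebraic spaces). -/
theorem result
    (S : Scheme.{u}) (𝒳 : AlgSt.Cat S) (𝒴 : AlgSt.Cat S)
    (h𝒳 : AlgSt.IsAlgStack Scheme.fppfPrecoverage 𝒳)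
    (h𝒴 : AlgSt.IsAlgStack Scheme.fppfPrecoverage 𝒴)
    (f : 𝒳 ⥤ᵇ 𝒴) :
    AlgSt.IsQuasiSeparatedMor f ↔
      AlgSt.RepByAlgSpWith AlgSp.IsQuasiCompactMor (FibCat.diag f) ∧
        AlgSt.RepByAlgSpWith AlgSp.IsQuasiCompactMor (FibCat.diag (FibCat.diag f)) := by
  have hX := h𝒳.isStack.1
  have hY := h𝒴.isStack.1
  have hff := Groth.Agent.Lib.Helper10.Fib.isFibGrpd_fp f f hX hX hY
  have H : ∀ (A B : AlgSp.Space S) (m : A ⟶ B), AlgSp.IsQuasiSeparatedMor m.hom ↔
      AlgSp.IsQuasiCompactMor (CategoryTheory.Limits.pullback.diagonal m.hom) :=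
    fun A B m => Groth.Agent.Lib.Helper16.repWith_quasiCompact_iff_isQuasiCompactMor _
      (Groth.Agent.S9900.result m).1
  constructor
  · intro h
    have hd : AlgSt.RepByAlgSp1 (FibCat.diag f) :=
      Groth.Agent.Lib.Helper28.AlgSt.Key.repByAlgSp1_of_with _ _ h
    have h1 : AlgSt.RepByAlgSpWith AlgSp.IsQuasiCompactMor (FibCat.diag f) :=
      Groth.Agent.Lib.Helper28.AlgSt.Key.repByAlgSpWith_mono _ (fun F U g hg => hg.1) h
    have h2 : AlgSt.RepByAlgSpWith AlgSp.IsQuasiSeparatedMor (FibCat.diag f) :=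
      Groth.Agent.Lib.Helper28.AlgSt.Key.repByAlgSpWith_mono _ (fun F U g hg => hg.2) h
    exact ⟨h1, (Groth.Agent.Lib.Helper28.AlgSt.DiagTFAE.rep_iff_diag hX hff
      Groth.Agent.Lib.Helper28.AlgSt.PropInst.good_quasiCompact _ hd H).1 h2⟩
  · rintro ⟨h1, h2⟩
    have hd : AlgSt.RepByAlgSp1 (FibCat.diag f) :=
      Groth.Agent.Lib.Helper28.AlgSt.Key.repByAlgSp1_of_with _ _ h1
    have h3 : AlgSt.RepByAlgSpWith AlgSp.IsQuasiSeparatedMor (FibCat.diag f) :=
      (Groth.Agent.Lib.Helper28.AlgSt.DiagTFAE.rep_iff_diag hX hff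
        Groth.Agent.Lib.Helper28.AlgSt.PropInst.good_quasiCompact _ hd H).2 h2
    exact Groth.Agent.Lib.Helper28.AlgSt.DiagTFAE.repByAlgSpWith_inf
      Groth.Agent.Lib.Helper28.AlgSt.PropInst.good_quasiSeparated _ h1 h3

end Groth.Agent.S12980
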