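import Groth.Statements.S12984
import Groth.Agent.Lib.Helper10.AlgStQCMor
import Groth.Agent.Lib.Helper28.AlgSt.Key
import Groth.Agent.Lib.Helper16.QuasiCompactMor
import Groth.Agent.Lib.Helper16.FppfLocal2

set_option autoImplicit false
universe u
open CategoryTheory AlgebraicGeometry
open AlgSt

namespace Groth.Agent.S12984

/-- A closed immersion of algebraic stacks is quasi-compact. -/
theorem result
    (S : Scheme.{u}) (𝒳 : AlgSt.Cat S) (𝒴 : AlgSt.Cat S)
    (h𝒳 : AlgSt.IsAlgStack Scheme.fppfPrecoverage 𝒳)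
    (h𝒴 : AlgSt.IsAlgStack Scheme.fppfPrecoverage 𝒴)
    (f : 𝒳 ⥤ᵇ 𝒴) :
    AlgSt.IsClosedImm f → AlgSt.IsQuasiCompactMor Scheme.fppfPrecoverage f := by
  intro hf
  refine H10PT.isQuasiCompactMor_of_rep h𝒳 h𝒴 f ?_
  refine Groth.Agent.Lib.Helper28.AlgSt.Key.repByAlgSpWith_mono f (fun F U g hg => ?_) hf
  refine Groth.Agent.Lib.Helper16.isQuasiCompactMor_of_repWith_quasiCompact g ?_
  refine Groth.Agent.Lib.Helper16.repWith_mono (fun X Y m hm => ?_) g hg
  have : AlgebraicGeometry.IsClosedImmersion m := hm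
  exact (inferInstance : AlgebraicGeometry.QuasiCompact m)

end Groth.Agent.S12984
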