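import Groth.Statements.S12985
import Mathlib
import Mathlib
import Groth.Agent.Lib.Helper10.AlgStQCTop
import Groth.Agent.Lib.Helper10.FibBC
import Groth.Agent.S12763

set_option autoImplicit false
universe u
open CategoryTheory AlgebraicGeometry
open AlgSt

namespace Groth.Agent.S12985



/-- In a 2-commutative triangle of algebraic stacks f : 𝒳 → 𝒴, p : 𝒳 → 𝒵, q : 𝒴 → 𝒵 with q ∘ f
2-isomorphic to p, if f is surjective (on points) and p is quasi-compact then q is quasi-compact. -/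
theorem result
    (S : Scheme.{u}) (𝒳 : AlgSt.Cat S) (𝒴 : AlgSt.Cat S) (𝒵 : AlgSt.Cat S)
    (h𝒳 : AlgSt.IsAlgStack Scheme.fppfPrecoverage 𝒳)
    (h𝒴 : AlgSt.IsAlgStack Scheme.fppfPrecoverage 𝒴)
    (h𝒵 : AlgSt.IsAlgStack Scheme.fppfPrecoverage 𝒵)
    (f : 𝒳 ⥤ᵇ 𝒴) (p : 𝒳 ⥤ᵇ 𝒵) (q : 𝒴 ⥤ᵇ 𝒵) (e : BasedFunctor.comp f q ≅ p) :
    AlgSt.IsSurjective f → AlgSt.IsQuasiCompactMor Scheme.fppfPrecoverage p → AlgSt.IsQuasiCompactMor Scheme.fppfPrecoverage q := by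
  intro hf hp 𝒲 h𝒲 hqc g
  have h1 : AlgSt.IsQuasiCompact (FibCat.fp g p) := hp 𝒲 h𝒲 hqc g
  have := Groth.Agent.Lib.Helper10.AlgStRep.id_full 𝒵
  have := Groth.Agent.Lib.Helper10.AlgStRep.id_faithful 𝒵
  have hE1 : FibCat.IsEquivOver (Groth.Agent.Lib.Helper10.Fib.fpMap (γ := BasedFunctor.id 𝒵)
      (α := BasedFunctor.id 𝒲) (β := BasedFunctor.id 𝒳) (G' := g) (G := g)
      (f' := BasedFunctor.comp f q) (f := p) (Iso.refl _) e) :=
    Groth.Agent.Lib.Helper10.Fib.isEquivOver_fpMap _ _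
      (Groth.Agent.Lib.Helper10.Fib.isEquivOver_id _) (Groth.Agent.Lib.Helper10.Fib.isEquivOver_id _)
  have h2 : AlgSt.IsQuasiCompact (FibCat.fp g (BasedFunctor.comp f q)) :=
    Groth.Agent.Lib.Helper10.AlgStRep.isQuasiCompact_of_isEquivOver' _ hE1 h1
  have h3 : AlgSt.IsQuasiCompact (FibCat.fp (FibCat.fpSnd g q) f) :=
    Groth.Agent.Lib.Helper10.AlgStRep.isQuasiCompact_of_isEquivOver'
      (Groth.Agent.Lib.Helper10.Fib.paste2 g q f)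
      (Groth.Agent.Lib.Helper10.Fib.isEquivOver_paste2 g q f) h2
  have a1 : AlgSt.IsAlgStack Scheme.fppfPrecoverage (FibCat.fp g q) :=
    Groth.Agent.S12763.result h𝒵.isStack h𝒵.diag h𝒲 h𝒴 g q
  have a2 : AlgSt.IsAlgStack Scheme.fppfPrecoverage (FibCat.fp (FibCat.fpSnd g q) f) :=
    Groth.Agent.S12763.result h𝒴.isStack h𝒴.diag a1 h𝒳 (FibCat.fpSnd g q) f
  have hs : AlgSt.IsSurjective (FibCat.fpFst (FibCat.fpSnd g q) f) := by
    intro z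
    obtain ⟨x, hx⟩ := hf (AlgSt.Points.map (FibCat.fpSnd g q) z)
    obtain ⟨w, hw1, -⟩ := H10PT.exists_fp_point h𝒳.isStack.1 h𝒴.isStack.1 a1.isStack.1 f
      (FibCat.fpSnd g q) z x hx.symm
    exact ⟨w, hw1⟩
  exact H10PT.isQuasiCompact_of_isSurjective a2 a1 (FibCat.fpFst (FibCat.fpSnd g q) f) hs h3

end Groth.Agent.S12985
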