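import Groth.Statements.S12988
import Mathlib
import Groth.Agent.Lib.Helper10.AlgStQCSelf
import Groth.Agent.S12954
import Groth.Agent.S12955
import Groth.Agent.S12959

set_option autoImplicit false
universe u
open CategoryTheory AlgebraicGeometry
open AlgSt

namespace Groth.Agent.S12988



/-- Over a quasi-separated base scheme, a 2-fibre product of algebraic stacks that are quasi-compact and
quasi-separated over the base scheme is quasi-compact and quasi-separated over the base scheme. (The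
published statement is about stacks quasi-compact and quasi-separated over the integers and puts no
condition on the base scheme; this row assumes the base scheme quasi-separated and uses
quasi-separatedness over it. Without quasi-separatedness of the base the quasi-compactness
conclusion fails: for the base glued from two copies of infinite-dimensional affine space along the
complement of the origin, the two copies are quasi-compact and quasi-separated over the base while
their fibre product over the base is that complement, which is not quasi-compact.) -/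
theorem result
    (S : Scheme.{u}) [QuasiSeparatedSpace S] (𝒳 : AlgSt.Cat S) (𝒴 : AlgSt.Cat S) (𝒵 : AlgSt.Cat S)
    (h𝒳 : AlgSt.IsAlgStack Scheme.fppfPrecoverage 𝒳)
    (h𝒴 : AlgSt.IsAlgStack Scheme.fppfPrecoverage 𝒴)
    (h𝒵 : AlgSt.IsAlgStack Scheme.fppfPrecoverage 𝒵)
    (a : 𝒳 ⥤ᵇ 𝒴) (b : 𝒵 ⥤ᵇ 𝒴) :
    AlgSt.IsQuasiCompact 𝒳 → AlgSt.IsQuasiSeparatedOver 𝒳 →
      AlgSt.IsQuasiCompact 𝒴 → AlgSt.IsQuasiSeparatedOver 𝒴 →
      AlgSt.IsQuasiCompact 𝒵 → AlgSt.IsQuasiSeparatedOver 𝒵 →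
      AlgSt.IsQuasiCompact (FibCat.fp a b) ∧ AlgSt.IsQuasiSeparatedOver (FibCat.fp a b) := by
  intro hqcX hqsX hqcY hqsY hqcZ hqsZ
  have hself : AlgSt.IsAlgStack Scheme.fppfPrecoverage (FibCat.selfOver (Over S)) :=
    H10PT.isAlgStack_selfOver
  have hb : AlgSt.IsQuasiCompactMor Scheme.fppfPrecoverage b :=
    H10PT.isQuasiCompactMor_of_isQuasiCompact_of_qs h𝒵 h𝒴 b hqcZ hqsY
  refine ⟨hb 𝒳 h𝒳 hqcX a, ?_⟩
  have afp : AlgSt.IsAlgStack Scheme.fppfPrecoverage (FibCat.fp a b) :=
    Groth.Agent.S12763.result h𝒴.isStack h𝒴.diag h𝒳 h𝒵 a b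
  have e1 : BasedFunctor.comp b (FibCat.toSelf 𝒴) = FibCat.toSelf 𝒵 := H10PT.comp_toSelf b
  have hZ' : AlgSt.IsQuasiSeparatedMor (BasedFunctor.comp b (FibCat.toSelf 𝒴)) := by
    rw [e1]
    exact hqsZ
  have hbqs : AlgSt.IsQuasiSeparatedMor b :=
    Groth.Agent.S12959.result S 𝒵 𝒴 (FibCat.selfOver (Over S)) h𝒵 h𝒴 hself b (FibCat.toSelf 𝒴) hZ'
      (Groth.Agent.Lib.Helper28.AlgSt.Key.repByAlgSpWith_mono _ (fun _ _ _ h => h.2) hqsY)
  have h1 : AlgSt.IsQuasiSeparatedMor (FibCat.fpFst a b) :=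
    Groth.Agent.S12954.result S 𝒵 𝒴 𝒳 h𝒵 h𝒴 h𝒳 b a hbqs
  have h2 := Groth.Agent.S12955.result S (FibCat.fp a b) 𝒳 (FibCat.selfOver (Over S)) afp h𝒳 hself
    (FibCat.fpFst a b) (FibCat.toSelf 𝒳) h1 hqsX
  have e2 : BasedFunctor.comp (FibCat.fpFst a b) (FibCat.toSelf 𝒳) = FibCat.toSelf (FibCat.fp a b) :=
    H10PT.comp_toSelf (FibCat.fpFst a b)
  show AlgSt.IsQuasiSeparatedMor (FibCat.toSelf (FibCat.fp a b))
  rw [← e2]
  exact h2

end Groth.Agent.S12988
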