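import Groth.Statements.S1299
import Groth.Agent.Lib.Helper28.GenFibreTop

set_option autoImplicit false
universe u
open FlatMor

namespace Groth.Agent.S1299

open AlgebraicGeometry CategoryTheory Limits in
/-- Let f : X → Y be a morphism of finite type (locally of finite type and quasi-compact) with Y
irreducible, and let Z_1, …, Z_n be finitely many closed subsets of the generic fibre of f which
together cover it. For each i let T_i ⊆ X be the closure in X of the image of Z_i. Then there is a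
nonempty open subset V ⊆ Y such that for every y ∈ V the fibre X_y is covered by the preimages of
T_1, …, T_n. -/
theorem result {X Y : Scheme.{u}} (f : X ⟶ Y) [IrreducibleSpace ↑Y] [LocallyOfFiniteType f] [QuasiCompact f]
    {ι : Type} [Finite ι] (Z : ι → Set ↑(f.fiber (genericPoint ↑Y))) (hZ : ∀ i, IsClosed (Z i)) (hcov : ⋃ i, Z i = Set.univ) :
    ∃ V : Y.Opens, (V : Set ↑Y).Nonempty ∧ ∀ y ∈ V, ⋃ i, (f.fiberι y) ⁻¹' closure ((f.fiberι (genericPoint ↑Y)) '' Z i) = Set.univ := by
  obtain ⟨V, hηV, hV⟩ := Groth.Agent.Lib.Helper28.GenFibreTop.exists_open_preimage_subset_iUnion f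
    (fun i => closure ((f.fiberι (genericPoint ↑Y)) '' Z i)) (fun i => isClosed_closure) (by
      intro x hx
      have hx' : x ∈ Set.range (f.fiberι (genericPoint ↑Y)) := by
        rw [f.range_fiberι]; exact hx
      obtain ⟨z, rfl⟩ := hx'
      have hz : z ∈ ⋃ i, Z i := by rw [hcov]; exact Set.mem_univ z
      obtain ⟨i, hi⟩ := Set.mem_iUnion.1 hz
      exact Set.mem_iUnion.2 ⟨i, subset_closure ⟨z, hi, rfl⟩⟩)
  refine ⟨V, ⟨_, hηV⟩, fun y hy => ?_⟩
  rw [Set.eq_univ_iff_forall]
  intro x'
  have h1 : f.fiberι y x' ∈ f ⁻¹' {y} := by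
    rw [← f.range_fiberι]; exact ⟨x', rfl⟩
  have h2 : f.fiberι y x' ∈ f ⁻¹' (V : Set Y) := by
    have : f (f.fiberι y x') = y := h1
    show f (f.fiberι y x') ∈ V
    rw [this]; exact hy
  obtain ⟨i, hi⟩ := Set.mem_iUnion.1 (hV h2)
  exact Set.mem_iUnion.2 ⟨i, hi⟩

end Groth.Agent.S1299
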