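import Groth.Statements.S12998
import Mathlib
import Groth.Agent.Lib.Helper10.AlgStNoethLocal
import Groth.Agent.Lib.Helper16.LocPGen
import Groth.Agent.Lib.Helper16.EtLocal
import Groth.Agent.S12846

set_option autoImplicit false
universe u
open CategoryTheory AlgebraicGeometry
open AlgSt

namespace Groth.Agent.S12998



/-- For a morphism of algebraic stacks f : 𝒳 → 𝒴 that is locally of finite type, local Noetherianity of
𝒴 implies local Noetherianity of 𝒳 (locally Noetherian: every scheme smooth over the stack is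
locally Noetherian). -/
theorem result
    (S : Scheme.{u}) (𝒳 : AlgSt.Cat S) (𝒴 : AlgSt.Cat S)
    (h𝒳 : AlgSt.IsAlgStack Scheme.fppfPrecoverage 𝒳)
    (h𝒴 : AlgSt.IsAlgStack Scheme.fppfPrecoverage 𝒴)
    (f : 𝒳 ⥤ᵇ 𝒴) :
    AlgSt.LocQ (AlgSp.LocP @LocallyOfFiniteType) f → AlgSt.SmoothLocally (fun T ↦ IsLocallyNoetherian T) 𝒴 → AlgSt.SmoothLocally (fun T ↦ IsLocallyNoetherian T) 𝒳 := by
  intro hQ hY
  obtain ⟨U, V, x, y, h, α, hx1, hx2, hy, hPh⟩ := hQ
  haveI hV : IsLocallyNoetherian V.left := hY V y hy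
  have hrw : AlgSp.RepWith @LocallyOfFiniteType ((AlgSp.yon S).map h) :=
    (Groth.Agent.Lib.Helper16.locP_iff_repWith
      Groth.Agent.Lib.Helper16.etLocalST_locallyOfFiniteType (AlgSp.IsAlgSpace.yon_obj U)
      (AlgSp.IsAlgSpace.yon_obj V) _ (AlgSp.representable_yon_map h)).1 hPh
  haveI hlft : LocallyOfFiniteType h.left := (AlgSp.repWith_yon_map_iff _ h).1 hrw
  exact (Groth.Agent.S12846.result h𝒳 _ H10PT.isLocallyNoetherian_smoothLocal).2
    ⟨U, x, hx1, hx2, LocallyOfFiniteType.isLocallyNoetherian h.left⟩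

end Groth.Agent.S12998
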