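import Groth.Statements.S12999
import Groth.Agent.Lib.Helper16.AlgSt.LocQLocP

set_option autoImplicit false
universe u
open CategoryTheory AlgebraicGeometry
open AlgSt

namespace Groth.Agent.S12999

/-- A morphism of algebraic stacks which is locally of finite type with locally Noetherian target is
locally of finite presentation. (Part (2), for finite type and quasi-separated, only adds the
quasi-compactness clauses.) -/
theorem result
    (S : Scheme.{u}) (𝒳 : AlgSt.Cat S) (𝒴 : AlgSt.Cat S)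
    (h𝒳 : AlgSt.IsAlgStack Scheme.fppfPrecoverage 𝒳)
    (h𝒴 : AlgSt.IsAlgStack Scheme.fppfPrecoverage 𝒴)
    (f : 𝒳 ⥤ᵇ 𝒴) :
    AlgSt.SmoothLocally (fun T ↦ IsLocallyNoetherian T) 𝒴 → AlgSt.LocQ (AlgSp.LocP @LocallyOfFiniteType) f → AlgSt.LocQ (AlgSp.LocP @LocallyOfFinitePresentation) f := by
  intro hN hQ
  obtain ⟨U, V, x, y, h, α, hx₁, hx₂, hy, hPh⟩ := hQ
  have hV : IsLocallyNoetherian V.left := hN V y hy
  have hlft : LocallyOfFiniteType h.left := AlgSp.locP_yon_map hPh
  have hlfp : LocallyOfFinitePresentation h.left := inferInstance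
  refine ⟨U, V, x, y, h, α, hx₁, hx₂, hy, ?_⟩
  exact (Groth.Agent.Lib.Helper16.locP_iff_repWith
    Groth.Agent.Lib.Helper16.etLocalST_locallyOfFinitePresentation
    (AlgSp.IsAlgSpace.yon_obj U) (AlgSp.IsAlgSpace.yon_obj V) _
    (AlgSp.representable_yon_map h)).2
    ((AlgSp.repWith_yon_map_iff _ h).2 hlfp)
end Groth.Agent.S12999
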