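import Groth.Statements.S13009
import Mathlib
import Groth.Agent.Lib.Helper10.AlgStLocQChart

set_option autoImplicit false
universe u
open CategoryTheory AlgebraicGeometry
open AlgSt

namespace Groth.Agent.S13009



/-- Let f : 𝒳 → 𝒴 be a morphism of algebraic stacks and 𝒵 → 𝒴 a morphism of algebraic stacks that is
flat, surjective and locally of finite presentation. Whenever the projection 𝒵 ×_𝒴 𝒳 → 𝒵 is
quasi-compact, f is quasi-compact too. -/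
theorem result
    (S : Scheme.{u}) (𝒳 : AlgSt.Cat S) (𝒴 : AlgSt.Cat S)
    (h𝒳 : AlgSt.IsAlgStack Scheme.fppfPrecoverage 𝒳)
    (h𝒴 : AlgSt.IsAlgStack Scheme.fppfPrecoverage 𝒴)
    (f : 𝒳 ⥤ᵇ 𝒴)
    (𝒵 : AlgSt.Cat S) (h𝒵 : AlgSt.IsAlgStack Scheme.fppfPrecoverage 𝒵) (z : 𝒵 ⥤ᵇ 𝒴)
    (hz₁ : AlgSt.LocQ (AlgSp.LocP @Flat) z) (hz₂ : AlgSt.LocQ (AlgSp.LocP @LocallyOfFinitePresentation) z)
    (hz₃ : AlgSt.IsSurjective z) :
    AlgSt.IsQuasiCompactMor Scheme.fppfPrecoverage (FibCat.fpFst z f) → AlgSt.IsQuasiCompactMor Scheme.fppfPrecoverage f := by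
  intro H
  obtain ⟨W, χ, hs, hj, hc1, hc2⟩ := H10PT.exists_fppf_chart_of_locQ h𝒵 z hz₁ hz₂
  have hχs : AlgSt.IsSurjective χ := H10PT.isSurjective_of_rep h𝒵.isStack.1 χ hj
  have hws : AlgSt.IsSurjective (BasedFunctor.comp χ z) := by
    show Function.Surjective (AlgSt.Points.map (BasedFunctor.comp χ z))
    rw [Groth.Agent.Lib.Helper10.AlgStRep.points_map_comp]
    exact hz₃.comp hχs
  have hw3 : AlgSt.RepByAlgSpWith AlgSp.IsSurjectiveMor (BasedFunctor.comp χ z) :=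
    H10PT.rep_of_isSurjective (Groth.Agent.Lib.Helper10.Fib.isFibGrpd_overForget W)
      h𝒴.isStack.1 _ (Groth.Agent.Lib.Helper28.AlgSt.Key.repByAlgSp1_of_with _ _ hc1) hws
  have H' : AlgSt.IsQuasiCompactMor Scheme.fppfPrecoverage
      (FibCat.fpFst (BasedFunctor.comp χ z) f) := by
    intro 𝒲 h𝒲 hqc' k'
    have q1 := H 𝒲 h𝒲 hqc' (BasedFunctor.comp k' χ)
    have q2 : AlgSt.IsQuasiCompact (FibCat.fp (BasedFunctor.comp (BasedFunctor.comp k' χ) z) f) :=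
      Groth.Agent.Lib.Helper10.AlgStRep.isQuasiCompact_of_isEquivOver
        (Groth.Agent.Lib.Helper10.Fib.paste1 (BasedFunctor.comp k' χ) z f)
        (Groth.Agent.Lib.Helper10.Fib.isEquivOver_paste1 _ _ _) q1
    exact Groth.Agent.Lib.Helper10.AlgStRep.isQuasiCompact_of_isEquivOver'
      (Groth.Agent.Lib.Helper10.Fib.paste1 k' (BasedFunctor.comp χ z) f)
      (Groth.Agent.Lib.Helper10.Fib.isEquivOver_paste1 _ _ _) q2
  intro 𝒯 h𝒯 hqc k
  exact H10PT.isQuasiCompact_fp_of_cover h𝒳 h𝒴 (H10PT.isAlgStack_overCat W) h𝒯 f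
    (BasedFunctor.comp χ z) hc1 hc2 hw3 H' hqc k

end Groth.Agent.S13009
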