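import Groth.Statements.S13017
import Mathlib
import Groth.Agent.Lib.Helper10.AlgStNoethImm
import Groth.Agent.S12846

set_option autoImplicit false
universe u
open CategoryTheory AlgebraicGeometry
open AlgSt

namespace Groth.Agent.S13017



/-- If j : 𝒳 → 𝒴 is an immersion of algebraic stacks with 𝒴 locally Noetherian, then j is quasi-compact
and 𝒳 is also locally Noetherian. -/
theorem result
    (S : Scheme.{u}) (𝒳 : AlgSt.Cat S) (𝒴 : AlgSt.Cat S)
    (h𝒳 : AlgSt.IsAlgStack Scheme.fppfPrecoverage 𝒳)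
    (h𝒴 : AlgSt.IsAlgStack Scheme.fppfPrecoverage 𝒴)
    (j : 𝒳 ⥤ᵇ 𝒴) (hj : AlgSt.IsImm j) :
    AlgSt.SmoothLocally (fun T ↦ IsLocallyNoetherian T) 𝒴 → AlgSt.SmoothLocally (fun T ↦ IsLocallyNoetherian T) 𝒳 ∧ AlgSt.IsQuasiCompactMor Scheme.fppfPrecoverage j := by
  intro hY
  obtain ⟨V, y, hy1, hy2⟩ := h𝒴.atlas
  haveI hV : IsLocallyNoetherian V.left := hY V y hy1
  obtain ⟨V', c, hc, hV', hq⟩ := H10PT.exists_chart_of_isImm j hj V y
  have a1 : AlgSt.IsAlgStack Scheme.fppfPrecoverage (FibCat.fp y j) :=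
    Groth.Agent.S12763.result h𝒴.isStack h𝒴.diag
      (H10PT.isAlgStack_overCat V) h𝒳 y j
  refine ⟨?_, ?_⟩
  · refine (Groth.Agent.S12846.result h𝒳 _ H10PT.isLocallyNoetherian_smoothLocal).2
      ⟨V', BasedFunctor.comp c (FibCat.fpSnd y j), ?_, ?_, hV'⟩
    · exact Groth.Agent.Lib.Helper28.AlgSt.Chart.repByAlgSpWith_equiv_comp _ c hc _
        (Groth.Agent.Lib.Helper10.AlgStRep.repByAlgSpWith_fpSnd _ y j hy1)
    · exact Groth.Agent.Lib.Helper28.AlgSt.Chart.repByAlgSpWith_equiv_comp _ c hc _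
        (Groth.Agent.Lib.Helper10.AlgStRep.repByAlgSpWith_fpSnd _ y j hy2)
  · intro 𝒵 h𝒵 hqc k
    exact H10PT.isQuasiCompact_fp_of_cover h𝒳 h𝒴
      (H10PT.isAlgStack_overCat V) h𝒵 j y
      (H10PT.repFlat_of_smooth y hy1) (H10PT.repLfp_of_smooth y hy1) hy2
      (H10PT.isQuasiCompactMor_of_rep a1
        (H10PT.isAlgStack_overCat V) _ hq) hqc k

end Groth.Agent.S13017
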