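import Groth.Statements.S13018
import Mathlib
import Groth.Agent.Lib.Helper10.AlgStNoethImm
import Groth.Agent.Lib.Helper10.AlgStQCSelf
import Groth.Agent.Lib.Helper28.AlgSt.FpEquiv
import Groth.Agent.S13017
import Groth.Agent.S12955

set_option autoImplicit false
universe u
open CategoryTheory AlgebraicGeometry
open AlgSt

namespace Groth.Agent.S13018



/-- If j : 𝒳 → 𝒴 is an immersion of algebraic stacks and 𝒴 is Noetherian (quasi-compact, quasi-separated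
and locally Noetherian) then so is 𝒳. (The published statement uses quasi-separatedness over the
integers; this row uses quasi-separatedness over the base scheme in hypothesis and conclusion.) -/
theorem result
    (S : Scheme.{u}) (𝒳 : AlgSt.Cat S) (𝒴 : AlgSt.Cat S)
    (h𝒳 : AlgSt.IsAlgStack Scheme.fppfPrecoverage 𝒳)
    (h𝒴 : AlgSt.IsAlgStack Scheme.fppfPrecoverage 𝒴)
    (j : 𝒳 ⥤ᵇ 𝒴) (hj : AlgSt.IsImm j) :
    AlgSt.IsQuasiCompact 𝒴 → AlgSt.IsQuasiSeparatedOver 𝒴 → AlgSt.SmoothLocally (fun T ↦ IsLocallyNoetherian T) 𝒴 →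
      AlgSt.IsQuasiCompact 𝒳 ∧ AlgSt.IsQuasiSeparatedOver 𝒳 ∧ AlgSt.SmoothLocally (fun T ↦ IsLocallyNoetherian T) 𝒳 := by
  intro hqc hqs hln
  obtain ⟨hX, hqcj⟩ := Groth.Agent.S13017.result S 𝒳 𝒴 h𝒳 h𝒴 j hj hln
  refine ⟨?_, ?_, hX⟩
  · exact Groth.Agent.Lib.Helper10.AlgStRep.isQuasiCompact_of_isEquivOver
      (FibCat.fpSnd (BasedFunctor.id 𝒴) j)
      (Groth.Agent.Lib.Helper28.AlgSt.FpEquiv.isEquivOver_fpSnd _ _
        (Groth.Agent.Lib.Helper10.Fib.isEquivOver_id _))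
      (hqcj 𝒴 h𝒴 hqc (BasedFunctor.id 𝒴))
  · have h1 := Groth.Agent.S12955.result S 𝒳 𝒴 _ h𝒳 h𝒴 H10PT.isAlgStack_selfOver j
      (FibCat.toSelf 𝒴) (H10PT.isQuasiSeparatedMor_of_isImm h𝒳 h𝒴 j hj) hqs
    rw [H10PT.comp_toSelf j] at h1
    exact h1

end Groth.Agent.S13018
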