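import Groth.Statements.S1302
import Groth.Agent.Lib.Helper28.Thick.Affine

set_option autoImplicit false
universe u
open FlatMor

namespace Groth.Agent.S1302

open AlgebraicGeometry CategoryTheory Limits in
/-- For a morphism of thickenings, that is a commutative square whose horizontal maps are thickenings
(closed immersions that are surjective on points), the morphism between the thin schemes is affine
if and only if the morphism between the thick ones is. -/
theorem result {X X' S S' : Scheme.{u}} (iX : X ⟶ X') (iS : S ⟶ S') (f : X ⟶ S) (f' : X' ⟶ S')
    (hX : MoreMor.IsThickening iX) (hS : MoreMor.IsThickening iS) (w : iX ≫ f' = f ≫ iS) :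
    IsAffineHom f ↔ IsAffineHom f' := by
  obtain ⟨hX1, hX2⟩ := hX
  obtain ⟨hS1, hS2⟩ := hS
  haveI := hX1
  haveI := hS1
  constructor
  · intro hf
    haveI : IsAffineHom (iX ≫ f') := by rw [w]; infer_instance
    exact Groth.Agent.Lib.Helper28.Thick.isAffineHom_of_comp iX hX2.surj f'
  · intro hf'
    haveI : IsAffineHom (f ≫ iS) := by rw [← w]; infer_instance
    exact IsAffineHom.of_comp f iS

end Groth.Agent.S1302
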