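import Groth.Statements.S13022
import Mathlib
import Groth.Agent.Lib.Helper10.AlgStLocQChart

set_option autoImplicit false
universe u
open CategoryTheory AlgebraicGeometry
open AlgSt

namespace Groth.Agent.S13022



/-- Let f_j : 𝒳_j → 𝒳 be a family of flat, locally finitely presented morphisms of algebraic stacks
which is jointly surjective on points. Then, given any scheme U and any object x of 𝒳 lying over U,
one can find an fppf covering {U_i → U}, indices j(i) and objects x_i of 𝒳_{j(i)} over U_i with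
f_{j(i)}(x_i) ≅ x|_{U_i}. -/
theorem result
    (S : Scheme.{u}) (𝒳 : AlgSt.Cat S)
    (h𝒳 : AlgSt.IsAlgStack Scheme.fppfPrecoverage 𝒳)
    (J : Type u) (𝒳' : J → AlgSt.Cat S) (h𝒳' : ∀ j, AlgSt.IsAlgStack Scheme.fppfPrecoverage (𝒳' j))
    (f : ∀ j, 𝒳' j ⥤ᵇ 𝒳)
    (hf₁ : ∀ j, AlgSt.LocQ (AlgSp.LocP @Flat) (f j)) (hf₂ : ∀ j, AlgSt.LocQ (AlgSp.LocP @LocallyOfFinitePresentation) (f j))
    (hf₃ : ∀ p : AlgSt.Points 𝒳, ∃ j, p ∈ Set.range (AlgSt.Points.map (f j)))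
    (U : Over S) (x : FibCat.overCat U ⥤ᵇ 𝒳) :
    ∃ (ι : Type u) (V : ι → Over S) (g : ∀ i, V i ⟶ U) (c : ι → J),
      (Presieve.ofArrows (fun i ↦ (V i).left) fun i ↦ (g i).left) ∈ Scheme.fppfPrecoverage U.left ∧
      ∀ i, ∃ x' : FibCat.overCat (V i) ⥤ᵇ 𝒳' (c i),
        Nonempty (BasedFunctor.comp x' (f (c i)) ≅ BasedFunctor.comp (AlgSt.overMap (g i)) x) := by
  have hch : ∀ j, ∃ (W : Over S) (χ : FibCat.overCat W ⥤ᵇ 𝒳' j),
      AlgSt.RepByAlgSpWith (AlgSp.LocP @Smooth) χ ∧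
      AlgSt.RepByAlgSpWith AlgSp.IsSurjectiveMor χ ∧
      AlgSt.RepByAlgSpWith (AlgSp.LocP @Flat) (BasedFunctor.comp χ (f j)) ∧
      AlgSt.RepByAlgSpWith (AlgSp.LocP @LocallyOfFinitePresentation) (BasedFunctor.comp χ (f j)) :=
    fun j => H10PT.exists_fppf_chart_of_locQ (h𝒳' j) (f j) (hf₁ j) (hf₂ j)
  choose W χ hs hj hc1 hc2 using hch
  have hint := fun j => H10PT.chart_inter_iso h𝒳 x (BasedFunctor.comp (χ j) (f j))
  choose T h G θ hP hsurj using hint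
  refine ⟨J, T, h, id, ?_, fun j => ⟨BasedFunctor.comp (G j) (χ j), ⟨(θ j).symm⟩⟩⟩
  show Presieve.ofArrows _ _ ∈ Scheme.precoverage (@Flat ⊓ @LocallyOfFinitePresentation) U.left
  rw [Scheme.ofArrows_mem_precoverage_iff]
  refine ⟨fun u => ?_, fun j =>
    ⟨hP j @Flat Groth.Agent.Lib.Helper28.AlgSt.Descent.good_flat H10PT.smooth_le_flat (hc1 j),
     hP j @LocallyOfFinitePresentation Groth.Agent.Lib.Helper28.AlgSt.Descent.good_lfp
       H10PT.smooth_le_lfp (hc2 j)⟩⟩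
  obtain ⟨j, p', hp'⟩ := hf₃ (AlgSt.Points.ofChart x u)
  obtain ⟨q', hq'⟩ := H10PT.isSurjective_of_rep (h𝒳' j).isStack.1 (χ j) (hj j) p'
  obtain ⟨q, rfl⟩ := AlgSt.Points.mk_surjective q'
  obtain ⟨τ, hτ⟩ := hsurj j u q (by
    rw [Groth.Agent.Lib.Helper10.AlgStRep.points_map_comp, Function.comp_apply, hq', hp'])
  exact ⟨j, τ, hτ⟩

end Groth.Agent.S13022
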