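import Groth.Statements.S13035
import Mathlib
import Groth.Agent.Lib.Helper10.AlgStLocQChart
import Groth.Agent.Lib.Helper10.ValLift

set_option autoImplicit false
universe u
open CategoryTheory AlgebraicGeometry
open AlgSt

namespace Groth.Agent.S13035



/-- Let f : 𝒳 → 𝒴 be a flat morphism of algebraic stacks and Spec A → 𝒴 a morphism with A a valuation
ring whose closed point maps into the image of |𝒳| → |𝒴|. Then there are an extension of valuation
rings A → A' (an injective local homomorphism of valuation rings) and a morphism Spec A' → 𝒳 making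
the square with Spec A' → Spec A → 𝒴 2-commute. -/
theorem result
    (S : Scheme.{u}) (𝒳 : AlgSt.Cat S) (𝒴 : AlgSt.Cat S)
    (h𝒳 : AlgSt.IsAlgStack Scheme.fppfPrecoverage 𝒳)
    (h𝒴 : AlgSt.IsAlgStack Scheme.fppfPrecoverage 𝒴)
    (f : 𝒳 ⥤ᵇ 𝒴)
    (hf : AlgSt.LocQ (AlgSp.LocP @Flat) f)
    (A : Type u) [CommRing A] [IsDomain A] [ValuationRing A] (sA : Spec (CommRingCat.of A) ⟶ S)
    (a : FibCat.overCat (Over.mk sA) ⥤ᵇ 𝒴)
    (ha : AlgSt.Points.ofChart a (IsLocalRing.closedPoint A) ∈ Set.range (AlgSt.Points.map f)) :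
    ∃ (A' : Type u) (_ : CommRing A') (_ : IsDomain A') (_ : ValuationRing A') (φ : A →+* A'),
      Function.Injective φ ∧ IsLocalHom φ ∧
      ∃ x : FibCat.overCat (Over.mk (Spec.map (CommRingCat.ofHom φ) ≫ sA)) ⥤ᵇ 𝒳,
        Nonempty (BasedFunctor.comp x f ≅
          BasedFunctor.comp (AlgSt.overMap (Over.homMk (Spec.map (CommRingCat.ofHom φ)) rfl :
            Over.mk (Spec.map (CommRingCat.ofHom φ) ≫ sA) ⟶ Over.mk sA)) a) := by
  obtain ⟨U, x₁, hs, hj, hc⟩ := H10PT.exists_chart_of_locQ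
    Groth.Agent.Lib.Helper28.AlgSt.Descent.good_flat
    (fun t ht => H10PT.repFlat_of_smooth t ht) f hf
  obtain ⟨T, h, G, θ, hP, hsurj⟩ := H10PT.chart_inter_iso h𝒴 a (BasedFunctor.comp x₁ f)
  haveI hflat : Flat h.left :=
    hP @Flat Groth.Agent.Lib.Helper28.AlgSt.Descent.good_flat H10PT.smooth_le_flat hc
  obtain ⟨p, hp⟩ := ha
  obtain ⟨q', hq'⟩ := H10PT.isSurjective_of_rep h𝒳.isStack.1 x₁ hj p
  obtain ⟨q, rfl⟩ := AlgSt.Points.mk_surjective q'
  obtain ⟨τ, hτ⟩ := hsurj (IsLocalRing.closedPoint A) q (by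
    rw [Groth.Agent.Lib.Helper10.AlgStRep.points_map_comp, Function.comp_apply, hq', hp])
  obtain ⟨A', i1, i2, i3, φ, hφ1, hφ2, k, hk⟩ :=
    H10PT.exists_valuationRing_lift_of_flat A h.left τ hτ
  refine ⟨A', i1, i2, i3, φ, hφ1, hφ2, ?_⟩
  have hw : k ≫ T.hom = Spec.map (CommRingCat.ofHom φ) ≫ sA := by
    have h0 : h.left ≫ sA = T.hom := Over.w h
    rw [← h0, ← Category.assoc, hk]
  obtain ⟨k', hk'⟩ : ∃ k' : Over.mk (Spec.map (CommRingCat.ofHom φ) ≫ sA) ⟶ T, k'.left = k :=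
    ⟨Over.homMk k hw, rfl⟩
  have hkh : k' ≫ h = (Over.homMk (Spec.map (CommRingCat.ofHom φ)) rfl :
      Over.mk (Spec.map (CommRingCat.ofHom φ) ≫ sA) ⟶ Over.mk sA) := by
    apply Over.OverMorphism.ext
    show k'.left ≫ h.left = _
    rw [hk', hk]
    rfl
  refine ⟨BasedFunctor.comp (AlgSt.overMap k') (BasedFunctor.comp G x₁), ⟨?_⟩⟩
  rw [← hkh]
  exact Groth.Agent.Lib.Helper28.AlgSt.Whisker.wl (AlgSt.overMap k') θ.symm ≪≫
    Groth.Agent.Lib.Helper28.AlgSt.Whisker.wr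
      (Groth.Agent.Lib.Helper16.AlgStDC.overMapCompIso k' h) a

end Groth.Agent.S13035
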