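import Groth.Statements.S13041
import Mathlib

set_option autoImplicit false
universe u
open MaxMod

namespace Groth.Agent.S13041

/-- Let R be a domain with fraction field K, let A → B be a homomorphism of commutative R-algebras that
are flat over R, with B module-finite over A, such that the induced map K ⊗_R A → K ⊗_R B is
bijective. If the A-linear map Hom_A(B, A) → A evaluating at 1 is surjective, then A → B is
bijective. (The published statement concerns a finite morphism of flat schemes over a discrete
valuation ring, with locally free relative dualizing sheaves, that is an isomorphism over a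
schematically dense open and whose trace map on dualizing sheaves is surjective; this row is the
statement about rings to which the printed proof reduces it and which that proof establishes, and
the argument uses only that R is a domain.) -/
theorem result
    (R K A B : Type u) [CommRing R] [IsDomain R] [Field K] [Algebra R K] [IsFractionRing R K]
    [CommRing A] [CommRing B] [Algebra R A] [Algebra R B] [Algebra A B] [IsScalarTower R A B]
    [Module.Flat R A] [Module.Flat R B] [Module.Finite A B]
    (hK : Function.Bijective
      (Algebra.TensorProduct.map (AlgHom.id R K) (IsScalarTower.toAlgHom R A B)))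
    (htr : Function.Surjective (fun u : B →ₗ[A] A => u 1)) :
    Function.Bijective (algebraMap A B) := by
  classical
  obtain ⟨u, hu⟩ := htr 1
  have hu1 : u 1 = 1 := hu
  have hua : ∀ a : A, u (algebraMap A B a) = a := by
    intro a
    rw [Algebra.algebraMap_eq_smul_one, map_smul, hu1, smul_eq_mul, mul_one]
  -- the K-linear-ish maps
  let φ : TensorProduct R K A →ₗ[R] TensorProduct R K B :=
    LinearMap.lTensor K ((IsScalarTower.toAlgHom R A B).toLinearMap)
  let ψ : TensorProduct R K B →ₗ[R] TensorProduct R K A :=
    LinearMap.lTensor K (u.restrictScalars R)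
  have hφ : ∀ x, φ x = Algebra.TensorProduct.map (AlgHom.id R K) (IsScalarTower.toAlgHom R A B) x := by
    intro x
    induction x using TensorProduct.induction_on with
    | zero => simp
    | tmul k a => rfl
    | add x y hx hy => rw [map_add, map_add, hx, hy]
  have hψφ : ∀ x, ψ (φ x) = x := by
    intro x
    induction x using TensorProduct.induction_on with
    | zero => simp
    | tmul k a =>
      change k ⊗ₜ[R] u (algebraMap A B a) = k ⊗ₜ[R] a
      rw [hua]
    | add x y hx hy => rw [map_add, map_add, hx, hy]
  have hinjB : Function.Injective (fun b : B => (1 : K) ⊗ₜ[R] b) := by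
    have h1 : Function.Injective (LinearMap.rTensor B (Algebra.linearMap R K)) :=
      Module.Flat.rTensor_preserves_injective_linearMap _ (IsFractionRing.injective R K)
    intro b b' hbb
    have h2 : LinearMap.rTensor B (Algebra.linearMap R K) ((1 : R) ⊗ₜ[R] b) =
        LinearMap.rTensor B (Algebra.linearMap R K) ((1 : R) ⊗ₜ[R] b') := by
      simpa using hbb
    have h3 := h1 h2
    have h4 := congrArg (TensorProduct.lid R B) h3
    simpa using h4
  have hker : ∀ c : B, u c = 0 → c = 0 := by
    intro c hc
    apply hinjB
    change (1 : K) ⊗ₜ[R] c = (1 : K) ⊗ₜ[R] (0 : B)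
    rw [TensorProduct.tmul_zero]
    obtain ⟨x, hx⟩ := hK.2 ((1 : K) ⊗ₜ[R] c)
    rw [← hφ] at hx
    have h1 : ψ (φ x) = ψ ((1 : K) ⊗ₜ[R] c) := by rw [hx]
    rw [hψφ] at h1
    have h2 : ψ ((1 : K) ⊗ₜ[R] c) = (1 : K) ⊗ₜ[R] u c := rfl
    rw [h2, hc, TensorProduct.tmul_zero] at h1
    rw [← hx, h1, map_zero]
  constructor
  · intro a a' haa
    have := congrArg u haa
    rwa [hua, hua] at this
  · intro b
    refine ⟨u b, ?_⟩
    have : u (b - algebraMap A B (u b)) = 0 := by rw [map_sub, hua, sub_self]
    have h := hker _ this
    rw [sub_eq_zero] at h
    exact h.symm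

end Groth.Agent.S13041
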