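import Groth.Statements.S13042
import Mathlib

set_option autoImplicit false
universe u
open MaxMod

namespace Groth.Agent.S13042

open MvPolynomial in
/-- Let p be a prime, R a local ring of characteristic p, λ an element of the maximal ideal of R and f ∈
R. Then there is an isomorphism of R-algebras R[W₁, W₂]/(W₁^p − f, W₂^p − f) ≅ R[x, W]/(x^p, W^p −
f) with W₁ ↦ x + W + λ·x·W and W₂ ↦ W; that is, Spec R[W]/(W^p − f) with the action w ↦ x + w + λxw
is a torsor under the group scheme Spec R[x]/(x^p) with law x₁ ∘ x₂ = x₁ + x₂ + λx₁x₂. (The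
published statement is over a complete discrete valuation ring of characteristic p with λ a nonzero
nonunit, and also asserts that for f in the fraction field with negative valuation v(f) > −p·v(λ)
the torsor W^p = f extends to a torsor over R, using the coordinate 1/W; that second case fails: for
p = 2, λ = π a uniformizer and f = 1/π, every model is Spec R[π^a t] with t² = π, and none of these
is a torsor since the coaction sends t to t − π(1 + t)x. Only the case f ∈ R is stated, and the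
argument there uses only that R is local of characteristic p.) -/
theorem result
    (p : ℕ) [Fact p.Prime] (R : Type u) [CommRing R] [IsLocalRing R] [CharP R p]
    (lam f : R) (hlam : lam ∈ IsLocalRing.maximalIdeal R) :
    ∃ e : (MvPolynomial (Fin 2) R ⧸ Ideal.span {(X 0 ^ p - C f : MvPolynomial (Fin 2) R), X 1 ^ p - C f}) ≃ₐ[R]
        (MvPolynomial (Fin 2) R ⧸ Ideal.span {(X 0 ^ p : MvPolynomial (Fin 2) R), X 1 ^ p - C f}),
      e (Ideal.Quotient.mk _ (X 0)) = Ideal.Quotient.mk _ (X 0 + X 1 + C lam * X 0 * X 1) ∧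
      e (Ideal.Quotient.mk _ (X 1)) = Ideal.Quotient.mk _ (X 1) := by
  classical
  have hp : p.Prime := Fact.out
  set I1 : Ideal (MvPolynomial (Fin 2) R) :=
    Ideal.span {(X 0 ^ p - C f : MvPolynomial (Fin 2) R), X 1 ^ p - C f} with hI1
  set I2 : Ideal (MvPolynomial (Fin 2) R) :=
    Ideal.span {(X 0 ^ p : MvPolynomial (Fin 2) R), X 1 ^ p - C f} with hI2
  have m1a : (X 0 ^ p - C f : MvPolynomial (Fin 2) R) ∈ I1 := Ideal.subset_span (by simp)
  have m1b : (X 1 ^ p - C f : MvPolynomial (Fin 2) R) ∈ I1 := Ideal.subset_span (by simp)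
  have m2a : (X 0 ^ p : MvPolynomial (Fin 2) R) ∈ I2 := Ideal.subset_span (by simp)
  have m2b : (X 1 ^ p - C f : MvPolynomial (Fin 2) R) ∈ I2 := Ideal.subset_span (by simp)
  -- the forward map
  have key1 : ((X 0 + X 1 + C lam * X 0 * X 1 : MvPolynomial (Fin 2) R)) ^ p - C f =
      X 0 ^ p * (1 + C lam * X 1) ^ p + (X 1 ^ p - C f) := by
    have h : (X 0 + X 1 + C lam * X 0 * X 1 : MvPolynomial (Fin 2) R) =
        X 0 * (1 + C lam * X 1) + X 1 := by ring
    rw [h, add_pow_char, mul_pow]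
    ring
  let v : Fin 2 → MvPolynomial (Fin 2) R ⧸ I2 :=
    ![Ideal.Quotient.mk I2 (X 0 + X 1 + C lam * X 0 * X 1), Ideal.Quotient.mk I2 (X 1)]
  let φ0 : MvPolynomial (Fin 2) R →ₐ[R] MvPolynomial (Fin 2) R ⧸ I2 := MvPolynomial.aeval v
  have hv0 : φ0 (X 0) = Ideal.Quotient.mk I2 (X 0 + X 1 + C lam * X 0 * X 1) := by
    simp [φ0, v]
  have hv1 : φ0 (X 1) = Ideal.Quotient.mk I2 (X 1) := by simp [φ0, v]
  have hφC : ∀ r : R, φ0 (C r) = Ideal.Quotient.mk I2 (C r) := by
    intro r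
    simp only [φ0]
    rw [MvPolynomial.aeval_C]
    rfl
  have hφ0 : ∀ a ∈ I1, φ0 a = 0 := by
    have hle : I1 ≤ RingHom.ker (φ0 : MvPolynomial (Fin 2) R →+* MvPolynomial (Fin 2) R ⧸ I2) := by
      rw [hI1, Ideal.span_le]
      intro x hx
      rcases Set.mem_insert_iff.mp hx with rfl | hx
      · rw [SetLike.mem_coe, RingHom.mem_ker]
        change φ0 (X 0 ^ p - C f) = 0
        rw [map_sub, map_pow, hv0, hφC, ← map_pow, ← map_sub, key1,
          Ideal.Quotient.eq_zero_iff_mem]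
        exact I2.add_mem (I2.mul_mem_right _ m2a) m2b
      · rw [Set.mem_singleton_iff] at hx
        subst hx
        rw [SetLike.mem_coe, RingHom.mem_ker]
        change φ0 (X 1 ^ p - C f) = 0
        rw [map_sub, map_pow, hv1, hφC, ← map_pow, ← map_sub, Ideal.Quotient.eq_zero_iff_mem]
        exact m2b
    intro a ha
    exact hle ha
  let φ : (MvPolynomial (Fin 2) R ⧸ I1) →ₐ[R] (MvPolynomial (Fin 2) R ⧸ I2) :=
    Ideal.Quotient.liftₐ I1 φ0 hφ0
  have hφmk : ∀ a, φ (Ideal.Quotient.mk I1 a) = φ0 a := fun a => rfl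
  -- the unit
  have hunitR : IsUnit (1 + lam ^ p * f) := by
    have hmem : -(lam ^ p * f) ∈ nonunits R := by
      rw [← IsLocalRing.mem_maximalIdeal]
      exact neg_mem (Ideal.mul_mem_right _ _ (Ideal.pow_mem_of_mem _ hlam p hp.pos))
    have := IsLocalRing.isUnit_one_sub_self_of_mem_nonunits _ hmem
    rwa [sub_neg_eq_add] at this
  have hu : IsUnit (Ideal.Quotient.mk I1 (1 + C lam * X 1)) := by
    have h1 : (Ideal.Quotient.mk I1 (1 + C lam * X 1)) ^ p =
        Ideal.Quotient.mk I1 (C (1 + lam ^ p * f)) := by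
      rw [← map_pow, Ideal.Quotient.eq]
      have : ((1 + C lam * X 1 : MvPolynomial (Fin 2) R)) ^ p - C (1 + lam ^ p * f) =
          C (lam ^ p) * (X 1 ^ p - C f) := by
        rw [add_pow_char, one_pow, mul_pow]
        simp only [map_add, map_mul, map_one, map_pow]
        ring
      rw [this]
      exact I1.mul_mem_left _ m1b
    have h2 : IsUnit (Ideal.Quotient.mk I1 (C (1 + lam ^ p * f))) :=
      hunitR.map (algebraMap R (MvPolynomial (Fin 2) R ⧸ I1))
    rw [← h1] at h2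
    exact (isUnit_pow_iff hp.ne_zero).mp h2
  obtain ⟨uinv, huinv⟩ := hu.exists_right_inv
  have huinv' : (1 + Ideal.Quotient.mk I1 (C lam) * Ideal.Quotient.mk I1 (X 1)) * uinv = 1 := by
    simpa only [map_add, map_mul, map_one] using huinv
  let w : Fin 2 → MvPolynomial (Fin 2) R ⧸ I1 :=
    ![(Ideal.Quotient.mk I1 (X 0) - Ideal.Quotient.mk I1 (X 1)) * uinv, Ideal.Quotient.mk I1 (X 1)]
  let ψ0 : MvPolynomial (Fin 2) R →ₐ[R] MvPolynomial (Fin 2) R ⧸ I1 := MvPolynomial.aeval w
  have hw0 : ψ0 (X 0) = (Ideal.Quotient.mk I1 (X 0) - Ideal.Quotient.mk I1 (X 1)) * uinv := by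
    simp [ψ0, w]
  have hw1 : ψ0 (X 1) = Ideal.Quotient.mk I1 (X 1) := by simp [ψ0, w]
  have hψC : ∀ r : R, ψ0 (C r) = Ideal.Quotient.mk I1 (C r) := by
    intro r
    simp only [ψ0]
    rw [MvPolynomial.aeval_C]
    rfl
  have key2 : (Ideal.Quotient.mk I1 (X 0) - Ideal.Quotient.mk I1 (X 1)) ^ p = 0 := by
    rw [← map_sub, ← map_pow, Ideal.Quotient.eq_zero_iff_mem, sub_pow_char]
    have : (X 0 ^ p - X 1 ^ p : MvPolynomial (Fin 2) R) = (X 0 ^ p - C f) - (X 1 ^ p - C f) := by
      ring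
    rw [this]
    exact I1.sub_mem m1a m1b
  have hψ0 : ∀ a ∈ I2, ψ0 a = 0 := by
    have hle : I2 ≤ RingHom.ker (ψ0 : MvPolynomial (Fin 2) R →+* MvPolynomial (Fin 2) R ⧸ I1) := by
      rw [hI2, Ideal.span_le]
      intro x hx
      rcases Set.mem_insert_iff.mp hx with rfl | hx
      · rw [SetLike.mem_coe, RingHom.mem_ker]
        change ψ0 (X 0 ^ p) = 0
        rw [map_pow, hw0, mul_pow, key2, zero_mul]
      · rw [Set.mem_singleton_iff] at hx
        subst hx
        rw [SetLike.mem_coe, RingHom.mem_ker]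
        change ψ0 (X 1 ^ p - C f) = 0
        rw [map_sub, map_pow, hw1, hψC, ← map_pow, ← map_sub, Ideal.Quotient.eq_zero_iff_mem]
        exact m1b
    intro a ha
    exact hle ha
  let ψ : (MvPolynomial (Fin 2) R ⧸ I2) →ₐ[R] (MvPolynomial (Fin 2) R ⧸ I1) :=
    Ideal.Quotient.liftₐ I2 ψ0 hψ0
  have hψmk : ∀ a, ψ (Ideal.Quotient.mk I2 a) = ψ0 a := fun a => rfl
  have hψφ : ψ.comp φ = AlgHom.id R _ := by
    apply Ideal.Quotient.algHom_ext
    apply MvPolynomial.algHom_ext
    intro i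
    fin_cases i
    · change ψ (φ (Ideal.Quotient.mk I1 (X 0))) = Ideal.Quotient.mk I1 (X 0)
      rw [hφmk, hv0, hψmk, map_add, map_add, map_mul, map_mul, hw0, hw1, hψC]
      linear_combination (Ideal.Quotient.mk I1 (X 0) - Ideal.Quotient.mk I1 (X 1)) * huinv'
    · change ψ (φ (Ideal.Quotient.mk I1 (X 1))) = Ideal.Quotient.mk I1 (X 1)
      rw [hφmk, hv1, hψmk, hw1]
  have hφψ : φ.comp ψ = AlgHom.id R _ := by
    apply Ideal.Quotient.algHom_ext
    apply MvPolynomial.algHom_ext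
    intro i
    fin_cases i
    · change φ (ψ (Ideal.Quotient.mk I2 (X 0))) = Ideal.Quotient.mk I2 (X 0)
      rw [hψmk, hw0, map_mul, map_sub, hφmk, hφmk, hv0, hv1]
      have ht : (1 + Ideal.Quotient.mk I2 (C lam) * Ideal.Quotient.mk I2 (X 1)) * φ uinv = 1 := by
        have := congrArg φ huinv'
        rw [map_mul, map_add, map_one, map_mul, hφmk, hφmk, hφC, hv1] at this
        exact this
      rw [map_add, map_add, map_mul, map_mul]
      linear_combination (Ideal.Quotient.mk I2 (X 0)) * ht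
    · change φ (ψ (Ideal.Quotient.mk I2 (X 1))) = Ideal.Quotient.mk I2 (X 1)
      rw [hψmk, hw1, hφmk, hv1]
  refine ⟨AlgEquiv.ofAlgHom φ ψ hφψ hψφ, ?_, ?_⟩
  · change φ (Ideal.Quotient.mk I1 (X 0)) = _
    rw [hφmk, hv0]
  · change φ (Ideal.Quotient.mk I1 (X 1)) = _
    rw [hφmk, hv1]

end Groth.Agent.S13042
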