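import Groth.Statements.S13047
import Mathlib

set_option autoImplicit false
universe u
open FrobAlg

namespace Groth.Agent.S13047

section Aux

open Polynomial TensorProduct W4c1imperftorsors

variable (p : ℕ) [Fact p.Prime] (R : Type u) [CommRing R] [CharP R p] (u v : R)

/-- The algebra `B = R[α]/(uα, α² − v²)`. -/
abbrev BB : Type u := R[X] ⧸ Ideal.span {(C u * X : R[X]), X ^ 2 - C (v ^ 2)}

/-- the class of `X` -/
noncomputable def al : BB R u v := Ideal.Quotient.mk _ X

theorem algebraMap_BB (r : R) : algebraMap R (BB R u v) r = Ideal.Quotient.mk _ (C r) := rfl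

theorem u_mul_al : algebraMap R (BB R u v) u * al R u v = 0 := by
  rw [algebraMap_BB, al, ← map_mul]
  exact Ideal.Quotient.eq_zero_iff_mem.mpr (Ideal.subset_span (by simp))

theorem al_mul_al : al R u v * al R u v = algebraMap R (BB R u v) (v ^ 2) := by
  rw [algebraMap_BB, al, ← map_mul, ← sub_eq_zero, ← map_sub]
  refine Ideal.Quotient.eq_zero_iff_mem.mpr (Ideal.subset_span ?_)
  have : (X * X - C (v ^ 2) : R[X]) = X ^ 2 - C (v ^ 2) := by ring
  rw [this]; simp

theorem al_pow_odd (k : ℕ) :
    al R u v ^ (2 * k + 1) = algebraMap R (BB R u v) (v ^ (2 * k)) * al R u v := by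
  rw [pow_succ, pow_mul, sq (al R u v), al_mul_al, ← map_pow, ← pow_mul]

theorem exists_normal_BB (b : BB R u v) :
    ∃ b0 b1 : R, b = algebraMap R (BB R u v) b0 + algebraMap R (BB R u v) b1 * al R u v := by
  obtain ⟨f, rfl⟩ := Ideal.Quotient.mk_surjective b
  induction f using Polynomial.induction_on with
  | C a => exact ⟨a, 0, by rw [map_zero, zero_mul, add_zero]; rfl⟩
  | add f g hf hg =>
    obtain ⟨f0, f1, hf⟩ := hf
    obtain ⟨g0, g1, hg⟩ := hg
    refine ⟨f0 + g0, f1 + g1, ?_⟩
    rw [map_add, hf, hg, map_add, map_add]; ring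
  | monomial n a h =>
    obtain ⟨b0, b1, h⟩ := h
    refine ⟨b1 * v ^ 2, b0, ?_⟩
    have e : (C a * X ^ (n + 1) : R[X]) = C a * X ^ n * X := by ring
    rw [e, map_mul, h]
    change (_ + _ * al R u v) * al R u v = _
    rw [add_mul, mul_assoc, al_mul_al, map_mul]; ring

/-- the retraction `α ↦ v` -/
noncomputable def rho0 (huv : u * v = 0) : BB R u v →ₐ[R] R :=
  Ideal.Quotient.liftₐ (Ideal.span {(C u * X : R[X]), X ^ 2 - C (v ^ 2)})
    (Polynomial.aeval v : R[X] →ₐ[R] R) (by
    intro a ha
    have hle : Ideal.span {(C u * X : R[X]), X ^ 2 - C (v ^ 2)} ≤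
        RingHom.ker (Polynomial.aeval v : R[X] →ₐ[R] R).toRingHom := by
      rw [Ideal.span_le]
      rintro x hx
      rcases hx with rfl | hx
      · change (Polynomial.aeval v) (C u * X) = 0
        simp [huv]
      · rw [Set.mem_singleton_iff] at hx
        subst hx
        change (Polynomial.aeval v) (X ^ 2 - C (v ^ 2)) = 0
        simp
    exact hle ha)

theorem rho0_al (huv : u * v = 0) : rho0 R u v huv (al R u v) = v := by
  change (Polynomial.aeval v : R[X] →ₐ[R] R) X = v
  simp

end Aux

section Aux2

open Polynomial TensorProduct W4c1imperftorsors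

variable (p : ℕ) [Fact p.Prime] (R : Type u) [CommRing R] [CharP R p] (u v : R)

/-- pure tensors in the twist -/
noncomputable def tm (i : ℕ) (r : R) (a : BB R u v) : Twist p R (BB R u v) i :=
  r ⊗ₜ[Src p R i] (show ASrc p R (BB R u v) i from a)

theorem tm_add_left (i : ℕ) (r r' : R) (a : BB R u v) :
    tm p R u v i (r + r') a = tm p R u v i r a + tm p R u v i r' a :=
  TensorProduct.add_tmul _ _ _

theorem tm_add_right (i : ℕ) (r : R) (a a' : BB R u v) :
    tm p R u v i r (a + a') = tm p R u v i r a + tm p R u v i r a' :=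
  TensorProduct.tmul_add _ _ _

theorem tm_zero_left (i : ℕ) (a : BB R u v) : tm p R u v i 0 a = 0 :=
  TensorProduct.zero_tmul _ _

theorem tm_zero_right (i : ℕ) (r : R) : tm p R u v i r 0 = 0 :=
  TensorProduct.tmul_zero _ _

theorem tm_balanced (i : ℕ) (c r : R) (a : BB R u v) :
    tm p R u v i r (algebraMap R (BB R u v) c * a) = tm p R u v i (c ^ p ^ i * r) a := by
  have h := TensorProduct.smul_tmul (R := Src p R i) (R' := Src p R i)
    (show Src p R i from c) r (show ASrc p R (BB R u v) i from a)
  have h1 : (show Src p R i from c) • r = c ^ p ^ i * r := by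
    rw [Algebra.smul_def, algebraMap_src]; rfl
  have h2 : (show Src p R i from c) • (show ASrc p R (BB R u v) i from a) =
      (show ASrc p R (BB R u v) i from algebraMap R (BB R u v) c * a) := by
    rw [Algebra.smul_def, algebraMap_aSrc]; rfl
  rw [h1, h2] at h
  exact h.symm

theorem algebraMap_twist (i : ℕ) (r : R) :
    algebraMap R (Twist p R (BB R u v) i) r = tm p R u v i r 1 := by
  rw [Algebra.TensorProduct.algebraMap_apply, Algebra.algebraMap_self, RingHom.id_apply]
  rfl

theorem exists_normal_twist (i : ℕ) (y : Twist p R (BB R u v) i) :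
    ∃ r s : R, y = tm p R u v i r 1 + tm p R u v i s (al R u v) := by
  induction y using TensorProduct.induction_on with
  | zero => exact ⟨0, 0, by rw [tm_zero_left, tm_zero_left, add_zero]⟩
  | tmul r a =>
    obtain ⟨b0, b1, hb⟩ := exists_normal_BB R u v (show BB R u v from a)
    refine ⟨b0 ^ p ^ i * r, b1 ^ p ^ i * r, ?_⟩
    change tm p R u v i r (show BB R u v from a) = _
    rw [hb, tm_add_right, ← tm_balanced, ← tm_balanced, mul_one]
  | add y y' hy hy' =>
    obtain ⟨r, s, rfl⟩ := hy
    obtain ⟨r', s', rfl⟩ := hy'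
    refine ⟨r + r', s + s', ?_⟩
    rw [tm_add_left, tm_add_left]; abel

variable [CharP (BB R u v) p]

theorem relFrob_tm (i : ℕ) (r : R) (a : BB R u v) :
    relFrob p R (BB R u v) i (tm p R u v (i + 1) r a) = tm p R u v i r (a ^ p) := by
  change relFrobAux p R (BB R u v) i (r ⊗ₜ[Src p R (i + 1)]
    (show ASrc p R (BB R u v) (i + 1) from a)) = _
  rw [relFrobAux, Algebra.TensorProduct.lift_tmul]
  change (algebraMap R (Twist p R (BB R u v) i) r) *
    ((1 : R) ⊗ₜ[Src p R i] (show ASrc p R (BB R u v) i from a ^ p)) = _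
  rw [Algebra.TensorProduct.algebraMap_apply, Algebra.algebraMap_self, RingHom.id_apply,
    Algebra.TensorProduct.tmul_mul_tmul, mul_one, one_mul]
  rfl

end Aux2

section Aux3

open Polynomial TensorProduct W4c1imperftorsors

variable (p : ℕ) [Fact p.Prime] (R : Type u) [CommRing R] [CharP R p] (u v : R)

/-- the right factor of `rho i` -/
noncomputable def rhoRight (huv : u * v = 0) (i : ℕ) :
    ASrc p R (BB R u v) i →ₐ[Src p R i] R where
  toRingHom := (iterateFrobenius R p i).comp
    ((rho0 R u v huv).toRingHom.comp (aEquiv p R (BB R u v) i : ASrc p R (BB R u v) i →+* BB R u v))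
  commutes' s := by
    change (iterateFrobenius R p i) ((rho0 R u v huv) (algebraMap R (BB R u v) (srcEquiv p R i s)))
      = algebraMap (Src p R i) R s
    rw [AlgHom.commutes, algebraMap_src, iterateFrobenius_def]
    rfl

/-- the retraction on the `i`-th twist -/
noncomputable def rho (huv : u * v = 0) (i : ℕ) : Twist p R (BB R u v) i →ₐ[Src p R i] R :=
  Algebra.TensorProduct.lift (AlgHom.id (Src p R i) R) (rhoRight p R u v huv i)
    (fun _ _ => Commute.all _ _)

theorem rho_tm (huv : u * v = 0) (i : ℕ) (r : R) (a : BB R u v) :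
    rho p R u v huv i (tm p R u v i r a) = r * (rho0 R u v huv a) ^ p ^ i := by
  change Algebra.TensorProduct.lift (AlgHom.id (Src p R i) R) (rhoRight p R u v huv i) _
    (r ⊗ₜ[Src p R i] (show ASrc p R (BB R u v) i from a)) = _
  rw [Algebra.TensorProduct.lift_tmul]
  change r * (iterateFrobenius R p i) ((rho0 R u v huv) a) = _
  rw [iterateFrobenius_def]

/-- `R / (u^(p^i))` -/
abbrev Ri (i : ℕ) : Type u := R ⧸ Ideal.span {u ^ p ^ i}

/-- the quadratic algebra over `R/(u^(p^i))` with `ω² = v^(2p^i)` -/
abbrev Qi (i : ℕ) : Type u :=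
  QuadraticAlgebra (Ri p R u i) (Ideal.Quotient.mk (Ideal.span {u ^ p ^ i}) (v ^ (2 * p ^ i))) 0

/-- `R → Q_i`, `r ↦ [r]` -/
noncomputable def toQ (i : ℕ) : R →+* Qi p R u v i :=
  (algebraMap (Ri p R u i) (Qi p R u v i)).comp (Ideal.Quotient.mk (Ideal.span {u ^ p ^ i}))

theorem toQ_apply (i : ℕ) (r : R) :
    toQ p R u v i r = ⟨Ideal.Quotient.mk (Ideal.span {u ^ p ^ i}) r, 0⟩ := rfl

/-- the element `ω` -/
def om (i : ℕ) : Qi p R u v i := ⟨0, 1⟩

theorem algebraMap_Q (i : ℕ) (s : Src p R i) :
    algebraMap (Src p R i) (Qi p R u v i) s = toQ p R u v i ((srcEquiv p R i s) ^ p ^ i) := rfl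

/-- `B → Q_i`, semilinear for the `p^i`-Frobenius, `α ↦ ω` -/
noncomputable def psi (i : ℕ) : BB R u v →+* Qi p R u v i :=
  Ideal.Quotient.lift (Ideal.span {(C u * X : R[X]), X ^ 2 - C (v ^ 2)})
    (Polynomial.eval₂RingHom ((toQ p R u v i).comp (iterateFrobenius R p i)) (om p R u v i)) (by
    intro a ha
    have hle : Ideal.span {(C u * X : R[X]), X ^ 2 - C (v ^ 2)} ≤
        RingHom.ker (Polynomial.eval₂RingHom ((toQ p R u v i).comp (iterateFrobenius R p i))
          (om p R u v i)) := by
      rw [Ideal.span_le]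
      rintro x hx
      rcases hx with rfl | hx
      · change Polynomial.eval₂ _ _ (C u * X) = 0
        rw [Polynomial.eval₂_mul, Polynomial.eval₂_C, Polynomial.eval₂_X, RingHom.comp_apply,
          iterateFrobenius_def, toQ_apply]
        have h0 : Ideal.Quotient.mk (Ideal.span {u ^ p ^ i}) (u ^ p ^ i) = 0 :=
          Ideal.Quotient.eq_zero_iff_mem.mpr (Ideal.subset_span rfl)
        rw [h0]
        ext <;> simp [om]
      · rw [Set.mem_singleton_iff] at hx
        subst hx
        change Polynomial.eval₂ _ _ (X ^ 2 - C (v ^ 2)) = 0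
        rw [Polynomial.eval₂_sub, Polynomial.eval₂_pow, Polynomial.eval₂_C, Polynomial.eval₂_X,
          RingHom.comp_apply, iterateFrobenius_def, toQ_apply, ← pow_mul]
        ext <;> simp [om, sq]
    exact hle ha)

theorem psi_algebraMap (i : ℕ) (r : R) :
    psi p R u v i (algebraMap R (BB R u v) r) = toQ p R u v i (r ^ p ^ i) := by
  change Polynomial.eval₂ _ _ (C r) = _
  rw [Polynomial.eval₂_C, RingHom.comp_apply, iterateFrobenius_def]

theorem psi_al (i : ℕ) : psi p R u v i (al R u v) = om p R u v i := by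
  change Polynomial.eval₂ _ _ X = _
  rw [Polynomial.eval₂_X]

/-- the left factor of `theta i` -/
noncomputable def thetaLeft (i : ℕ) : R →ₐ[Src p R i] Qi p R u v i where
  toRingHom := toQ p R u v i
  commutes' _ := rfl

/-- the right factor of `theta i` -/
noncomputable def thetaRight (i : ℕ) : ASrc p R (BB R u v) i →ₐ[Src p R i] Qi p R u v i where
  toRingHom := (psi p R u v i).comp
    (aEquiv p R (BB R u v) i : ASrc p R (BB R u v) i →+* BB R u v)
  commutes' s := by
    change psi p R u v i (algebraMap R (BB R u v) (srcEquiv p R i s)) = _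
    rw [psi_algebraMap, algebraMap_Q]

/-- the coordinate map on the `i`-th twist -/
noncomputable def theta (i : ℕ) : Twist p R (BB R u v) i →ₐ[Src p R i] Qi p R u v i :=
  Algebra.TensorProduct.lift (thetaLeft p R u v i) (thetaRight p R u v i)
    (fun _ _ => Commute.all _ _)

theorem theta_tm (i : ℕ) (r : R) (a : BB R u v) :
    theta p R u v i (tm p R u v i r a) = toQ p R u v i r * psi p R u v i a := by
  change Algebra.TensorProduct.lift (thetaLeft p R u v i) (thetaRight p R u v i) _
    (r ⊗ₜ[Src p R i] (show ASrc p R (BB R u v) i from a)) = _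
  rw [Algebra.TensorProduct.lift_tmul]
  rfl

theorem theta_normal_im (i : ℕ) (r s : R) :
    (theta p R u v i (tm p R u v i r 1 + tm p R u v i s (al R u v))).im =
      Ideal.Quotient.mk (Ideal.span {u ^ p ^ i}) s := by
  rw [map_add, theta_tm, theta_tm, map_one, mul_one, psi_al, toQ_apply, toQ_apply]
  simp [om]

end Aux3

open Polynomial in
/-- Let p be an odd prime, R a commutative ring of characteristic p and u, v ∈ R with uv = 0, such that
for every N ≥ 1 an element of R lying in (v^n) + (u^N) for all n lies in (u^N) (v-adic separatedness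
of R/(u^N)). Let B = R[α]/(uα, α² − v²), an R-algebra of characteristic p, with Frobenius twists
B^{p^i/R} = R ⊗_{F^i,R} B and preperfection B^{p^∞/R} = lim_i B^{p^i/R} along the relative Frobenius
maps. Then the structure map R → B^{p^∞/R} is bijective: the preperfection of B is R. (The published
statement is for R = F_p[[u, v]]/(uv), where B arises as the preperfection of R[x, y, 1/(x − y)]/(xy
− u), so that the second preperfection of that algebra is R although the first is not perfect; the
printed computation uses only the hypotheses listed here, which that R satisfies.) -/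
theorem result
    (p : ℕ) [Fact p.Prime] (hp : p ≠ 2) (R : Type u) [CommRing R] [CharP R p]
    (u v : R) (huv : u * v = 0)
    (hsep : ∀ N : ℕ, 1 ≤ N → ∀ g : R,
      (∀ n : ℕ, g ∈ Ideal.span {v ^ n} ⊔ Ideal.span {u ^ N}) → g ∈ Ideal.span {u ^ N})
    [CharP (R[X] ⧸ Ideal.span {(C u * X : R[X]), X ^ 2 - C (v ^ 2)}) p] :
    Function.Bijective
      (algebraMap R ↥(W4c1imperftorsors.prePerf p R
        (R[X] ⧸ Ideal.span {(C u * X : R[X]), X ^ 2 - C (v ^ 2)}))) := by
  classical
  have hppos : 0 < p := (Fact.out : p.Prime).pos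
  obtain ⟨k, hk⟩ : ∃ k, p = 2 * k + 1 := by
    have hodd : Odd p := (Fact.out : p.Prime).odd_of_ne_two hp
    obtain ⟨k, hk⟩ := hodd
    exact ⟨k, hk⟩
  have hpk : 2 * k = p - 1 := by omega
  have halp : al R u v ^ p = algebraMap R (BB R u v) (v ^ (p - 1)) * al R u v := by
    rw [← hpk]
    conv_lhs => rw [hk]
    exact al_pow_odd R u v k
  constructor
  · rw [injective_iff_map_eq_zero]
    intro r hr
    have h0 : algebraMap R (W4c1imperftorsors.Twist p R (BB R u v) 0) r = 0 := by
      have := congrArg (fun x : ↥(W4c1imperftorsors.prePerf p R (BB R u v)) => x.1 0) hr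
      exact this
    rw [algebraMap_twist] at h0
    have := congrArg (rho p R u v huv 0) h0
    rw [rho_tm, map_one, one_pow, mul_one, map_zero] at this
    exact this
  · intro x
    have hx : ∀ j, W4c1imperftorsors.relFrob p R (BB R u v) j (x.1 (j + 1)) = x.1 j := by
      intro j
      have h := x.2
      unfold W4c1imperftorsors.prePerf at h
      rw [Algebra.mem_iInf] at h
      exact h j
    choose r s hrs using fun j => exists_normal_twist p R u v j (x.1 j)
    have key : ∀ j, tm p R u v j (r j) 1 + tm p R u v j (s j) (al R u v) =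
        tm p R u v j (r (j + 1)) 1 +
          tm p R u v j ((v ^ (p - 1)) ^ p ^ j * s (j + 1)) (al R u v) := by
      intro j
      have h := hx j
      rw [hrs (j + 1), hrs j, map_add, relFrob_tm, relFrob_tm, one_pow, halp, tm_balanced] at h
      exact h.symm
    have him : ∀ j, s j - (v ^ (p - 1)) ^ p ^ j * s (j + 1) ∈ Ideal.span {u ^ p ^ j} := by
      intro j
      have h := congrArg (fun y => (theta p R u v j y).im) (key j)
      simp only [theta_normal_im] at h
      exact Ideal.Quotient.eq.mp h
    have hre : ∀ j, r j = r (j + 1) := by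
      intro j
      have h1 := congrArg (rho p R u v huv j) (key j)
      simp only [map_add, rho_tm, map_one, one_pow, mul_one, rho0_al] at h1
      obtain ⟨c, hc⟩ := Ideal.mem_span_singleton'.mp (him j)
      have h2 : (s j - (v ^ (p - 1)) ^ p ^ j * s (j + 1)) * v ^ p ^ j = 0 := by
        rw [← hc, mul_assoc, ← mul_pow, huv, zero_pow (pow_pos hppos j).ne', mul_zero]
      have h3 : s j * v ^ p ^ j = (v ^ (p - 1)) ^ p ^ j * s (j + 1) * v ^ p ^ j := by
        rw [sub_mul] at h2
        exact sub_eq_zero.mp h2
      rw [h3] at h1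
      exact add_right_cancel h1
    have hrconst : ∀ j, r j = r 0 := by
      intro j
      induction j with
      | zero => rfl
      | succ j ih => rw [← hre j, ih]
    have hclaim : ∀ n j, s j ∈ Ideal.span {v ^ n} ⊔ Ideal.span {u ^ p ^ j} := by
      intro n
      induction n with
      | zero =>
        intro j
        rw [pow_zero, Ideal.span_singleton_one, top_sup_eq]
        trivial
      | succ n ih =>
        intro j
        have h1 := him j
        obtain ⟨a, ha, b, hb, hab⟩ := Submodule.mem_sup.mp (ih (j + 1))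
        obtain ⟨t, rfl⟩ := Ideal.mem_span_singleton'.mp ha
        obtain ⟨c, rfl⟩ := Ideal.mem_span_singleton'.mp hb
        have e : s j = (v ^ (p - 1)) ^ p ^ j * (t * v ^ n) +
            ((s j - (v ^ (p - 1)) ^ p ^ j * s (j + 1)) +
              (v ^ (p - 1)) ^ p ^ j * (c * u ^ p ^ (j + 1))) := by
          rw [← hab]; ring
        rw [e]
        refine Submodule.add_mem_sup ?_ (Ideal.add_mem _ h1 ?_)
        · rw [Ideal.mem_span_singleton]
          have hm : 1 ≤ (p - 1) * p ^ j := by
            have h2 : 2 ≤ p := (Fact.out : p.Prime).two_le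
            exact Nat.mul_pos (by omega) (pow_pos hppos j)
          obtain ⟨m, hm'⟩ := Nat.exists_eq_add_of_le hm
          refine ⟨v ^ m * t, ?_⟩
          rw [← pow_mul, hm']
          ring
        · rw [Ideal.mem_span_singleton]
          exact ((pow_dvd_pow u
            (Nat.pow_le_pow_right hppos (Nat.le_succ j))).mul_left c).mul_left _
    have hs : ∀ j, s j ∈ Ideal.span {u ^ p ^ j} := fun j =>
      hsep (p ^ j) (Nat.succ_le_of_lt (pow_pos hppos j)) (s j) (fun n => hclaim n j)
    have hsz : ∀ j, tm p R u v j (s j) (al R u v) = 0 := by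
      intro j
      obtain ⟨c, hc⟩ := Ideal.mem_span_singleton'.mp (hs j)
      rw [← hc, mul_comm c (u ^ p ^ j), ← tm_balanced, u_mul_al, tm_zero_right]
    refine ⟨r 0, ?_⟩
    apply Subtype.ext
    funext j
    change algebraMap R (W4c1imperftorsors.Twist p R (BB R u v) j) (r 0) = x.1 j
    rw [algebraMap_twist, hrs j, hsz j, add_zero, hrconst j]

end Groth.Agent.S13047
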