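import Groth.Statements.S13048
import Mathlib

set_option autoImplicit false
universe u
open FrobAlg

namespace Groth.Agent.S13048

/-- Let k be an algebraically closed field of characteristic p > 0 and let A be a reduced finitely
generated commutative k-algebra with connected spectrum (A ≠ 0 and 0, 1 are its only idempotents).
If x ∈ A is a p^n-th power in A for every n ≥ 0, then x lies in the image of k; that is, ⋂_n A^{p^n}
= k. (The published statement is: for an artinian local ring R of characteristic p and a flat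
R-algebra A of finite type, the maps A^ét → O(π₀(A)) → A^{p^∞/R} from the largest étale subalgebra
to the preperfection are isomorphisms. This row is the case R = k algebraically closed and A reduced
with connected spectrum, where A^ét = k and the preperfection is ⋂_n A^{p^n}; the printed proof
reduces to this case and its last step proves it.) -/
theorem result
    (p : ℕ) [Fact p.Prime] (k : Type u) [Field k] [IsAlgClosed k] [CharP k p]
    (A : Type u) [CommRing A] [Algebra k A] [Algebra.FiniteType k A] [IsReduced A] [Nontrivial A]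
    (hconn : ∀ e : A, IsIdempotentElem e → e = 0 ∨ e = 1)
    (x : A) (hx : ∀ n : ℕ, ∃ a : A, a ^ p ^ n = x) :
    x ∈ (algebraMap k A).range := by
  classical
  haveI : IsNoetherianRing A := Algebra.FiniteType.isNoetherianRing k A
  haveI : CharP A p := charP_of_injective_algebraMap (algebraMap k A).injective p
  have hppos : 0 < p := (Fact.out : p.Prime).pos
  -- (1) for each maximal ideal there is a constant value
  have h1 : ∀ m : Ideal A, m.IsMaximal → ∃ c : k, x - algebraMap k A c ∈ m := by
    intro m hm
    letI := Ideal.Quotient.field m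
    haveI : Algebra.FiniteType k (A ⧸ m) :=
      Algebra.FiniteType.of_surjective (Ideal.Quotient.mkₐ k m) (Ideal.Quotient.mkₐ_surjective k m)
    haveI := finite_of_finite_type_of_isJacobsonRing k (A ⧸ m)
    haveI : Algebra.IsIntegral k (A ⧸ m) := Algebra.IsIntegral.of_finite k (A ⧸ m)
    obtain ⟨c, hc⟩ := (IsAlgClosed.algebraMap_bijective_of_isIntegral (k := k) (K := A ⧸ m)).2
      (Ideal.Quotient.mk m x)
    refine ⟨c, ?_⟩
    rw [← Ideal.Quotient.eq_zero_iff_mem, map_sub, ← hc]
    exact sub_self _
  -- (2) Krull intersection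
  have h2 : ∀ m : Ideal A, m.IsMaximal → ∀ c : k, x - algebraMap k A c ∈ m →
      ∃ s : A, s ∉ m ∧ s * (x - algebraMap k A c) = 0 := by
    intro m hm c hc
    have hy : ∀ n : ℕ, x - algebraMap k A c ∈ m ^ n := by
      intro n
      obtain ⟨a, ha⟩ := hx n
      obtain ⟨d, hd⟩ : ∃ d : k, d ^ p ^ n = c := IsAlgClosed.exists_pow_nat_eq c (pow_pos hppos n)
      have hy' : x - algebraMap k A c = (a - algebraMap k A d) ^ p ^ n := by
        rw [sub_pow_char_pow, ha, ← map_pow, hd]
      have hmem : a - algebraMap k A d ∈ m := by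
        have : (a - algebraMap k A d) ^ p ^ n ∈ m := hy' ▸ hc
        exact hm.isPrime.mem_of_pow_mem _ this
      have h3 : x - algebraMap k A c ∈ m ^ (p ^ n) := hy' ▸ Ideal.pow_mem_pow hmem _
      exact Ideal.pow_le_pow_right (Nat.lt_pow_self (Fact.out : p.Prime).one_lt).le h3
    have hy2 : x - algebraMap k A c ∈ (⨅ i : ℕ, m ^ i • ⊤ : Submodule A A) := by
      rw [Submodule.mem_iInf]
      intro i
      rw [smul_eq_mul, Ideal.mul_top]
      exact hy i
    obtain ⟨r, hr⟩ := (m.mem_iInf_smul_pow_eq_bot_iff (x - algebraMap k A c)).mp hy2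
    refine ⟨1 - r, ?_, ?_⟩
    · intro h
      apply hm.ne_top
      rw [Ideal.eq_top_iff_one]
      have := m.add_mem h r.2
      simpa using this
    · rw [sub_mul, one_mul, ← smul_eq_mul (r : A), hr, sub_self]
  obtain ⟨m0, hm0⟩ := Ideal.exists_maximal A
  obtain ⟨c0, hc0⟩ := h1 m0 hm0
  let I : Ideal A := Ideal.span {a | a * (x - algebraMap k A c0) = 0}
  let J : Ideal A := Ideal.span {b | ∃ c' : k, c' ≠ c0 ∧ b * (x - algebraMap k A c') = 0}
  have hIJtop : I ⊔ J = ⊤ := by
    by_contra hne
    obtain ⟨m, hm, hle⟩ := Ideal.exists_le_maximal _ hne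
    obtain ⟨c, hc⟩ := h1 m hm
    obtain ⟨s, hsm, hs⟩ := h2 m hm c hc
    by_cases hcc : c = c0
    · subst hcc
      exact hsm (hle (Ideal.mem_sup_left (Ideal.subset_span hs)))
    · exact hsm (hle (Ideal.mem_sup_right (Ideal.subset_span ⟨c, hcc, hs⟩)))
  have hIy : ∀ a ∈ I, a * (x - algebraMap k A c0) = 0 := by
    intro a ha
    refine Submodule.span_induction ?_ ?_ ?_ ?_ ha
    · intro a ha; exact ha
    · exact zero_mul _
    · intro a b _ _ ha hb; rw [add_mul, ha, hb, add_zero]
    · intro r a _ ha; rw [smul_eq_mul, mul_assoc, ha, mul_zero]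
  have hIJ : ∀ a ∈ I, ∀ b ∈ J, a * b = 0 := by
    intro a ha b hb
    refine Submodule.span_induction ?_ ?_ ?_ ?_ hb
    · rintro b ⟨c', hc', hb⟩
      have hay := hIy a ha
      have hu : IsUnit (algebraMap k A (c' - c0)) :=
        (IsUnit.mk0 _ (sub_ne_zero.mpr hc')).map _
      have h0 : a * b * algebraMap k A (c' - c0) = 0 := by
        have e : algebraMap k A (c' - c0) =
            (x - algebraMap k A c0) - (x - algebraMap k A c') := by
          rw [map_sub]; ring
        rw [e, mul_sub, mul_right_comm, hay, zero_mul, mul_assoc, hb, mul_zero, sub_zero]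
      exact hu.mul_left_eq_zero.mp h0
    · exact mul_zero _
    · intro b b' _ _ hb hb'; rw [mul_add, hb, hb', add_zero]
    · intro r b _ hb; rw [smul_eq_mul, mul_left_comm, hb, mul_zero]
  obtain ⟨e, he, f, hf, hef⟩ := Submodule.mem_sup.mp ((Ideal.eq_top_iff_one _).mp hIJtop)
  have hidem : IsIdempotentElem e := by
    have h0 : e * f = 0 := hIJ e he f hf
    unfold IsIdempotentElem
    calc e * e = e * e + e * f := by rw [h0, add_zero]
      _ = e * (e + f) := by ring
      _ = e := by rw [hef, mul_one]
  rcases hconn e hidem with h0 | h1'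
  · exfalso
    obtain ⟨s, hsm0, hs⟩ := h2 m0 hm0 c0 hc0
    have hsI : s ∈ I := Ideal.subset_span hs
    have hf1 : f = 1 := by rw [← hef, h0, zero_add]
    have : s = 0 := by
      have := hIJ s hsI f hf
      rwa [hf1, mul_one] at this
    exact hsm0 (this ▸ m0.zero_mem)
  · have h0 : x - algebraMap k A c0 = 0 := by
      have := hIy 1 (h1' ▸ he)
      rwa [one_mul] at this
    exact ⟨c0, (sub_eq_zero.mp h0).symm⟩

end Groth.Agent.S13048
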