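import Groth.Statements.S13049
import Mathlib

set_option autoImplicit false
universe u
open FrobAlg

namespace Groth.Agent.S13049

/-- Let p be a prime and A a commutative ring of characteristic p whose nilradical N satisfies x^(p^e) =
0 for all x ∈ N and some fixed e (for instance A Noetherian). Then the map between the inverse-limit
perfections along the absolute Frobenius, lim (⋯ → A → A) → lim (⋯ → A/N → A/N), induced by the
projection A → A/N, is bijective. (The published argument takes A of finite type over a field, where
the nilradical is finitely generated; this row assumes only that the nilradical is killed by one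
fixed iterate of Frobenius, which is all that argument uses.) -/
theorem result
    (p : ℕ) [Fact p.Prime] (A : Type u) [CommRing A] [CharP A p]
    [CharP (A ⧸ nilradical A) p] (e : ℕ) (he : ∀ x ∈ nilradical A, x ^ p ^ e = 0) :
    Function.Bijective (Perfection.map p (Ideal.Quotient.mk (nilradical A))) := by
  classical
  have hpow : ∀ (f : Perfection (A ⧸ nilradical A) p) (m n : ℕ),
      Perfection.coeff (A ⧸ nilradical A) p (m + n) f ^ p ^ n =
        Perfection.coeff (A ⧸ nilradical A) p m f := fun f m n =>
    Perfection.coeffMonoidHom_pow_p_pow' f m n
  have hpowA : ∀ (f : Perfection A p) (m n : ℕ),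
      Perfection.coeff A p (m + n) f ^ p ^ n = Perfection.coeff A p m f := fun f m n =>
    Perfection.coeffMonoidHom_pow_p_pow' f m n
  have hkey : ∀ x y : A, Ideal.Quotient.mk (nilradical A) x = Ideal.Quotient.mk (nilradical A) y →
      x ^ p ^ e = y ^ p ^ e := by
    intro x y hxy
    have hmem : x - y ∈ nilradical A := by
      rw [← Ideal.Quotient.eq_zero_iff_mem, map_sub, hxy, sub_self]
    have h0 := he _ hmem
    rw [sub_pow_char_pow, sub_eq_zero] at h0
    exact h0
  constructor
  · rw [injective_iff_map_eq_zero]
    intro f hf
    apply Perfection.ext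
    intro n
    have hn : Perfection.coeff A p (n + e) f ∈ nilradical A := by
      rw [← Ideal.Quotient.eq_zero_iff_mem]
      have := congrArg (Perfection.coeff (A ⧸ nilradical A) p (n + e)) hf
      rw [Perfection.coeff_map] at this
      rw [this]
      rfl
    rw [← hpowA f n e, he _ hn]
    rfl
  · intro g
    choose c hc using fun n : ℕ =>
      Ideal.Quotient.mk_surjective (Perfection.coeff (A ⧸ nilradical A) p n g)
    have hstep : ∀ n, Ideal.Quotient.mk (nilradical A) (c (n + 1) ^ p) =
        Ideal.Quotient.mk (nilradical A) (c n) := by
      intro n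
      rw [map_pow, hc, hc]
      exact Perfection.coeff_pow_p' g n
    let a : ℕ → A := fun n => c (n + e) ^ p ^ e
    have ha : ∀ n, a (n + 1) ^ p = a n := by
      intro n
      change (c (n + 1 + e) ^ p ^ e) ^ p = c (n + e) ^ p ^ e
      rw [← pow_mul, mul_comm, pow_mul, Nat.add_right_comm n 1 e]
      exact hkey _ _ (hstep (n + e))
    refine ⟨⟨a, ha⟩, ?_⟩
    apply Perfection.ext
    intro n
    rw [Perfection.coeff_map]
    change Ideal.Quotient.mk (nilradical A) (c (n + e) ^ p ^ e) = _
    rw [map_pow, hc, hpow g n e]

end Groth.Agent.S13049
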