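import Groth.Statements.S1305
import Groth.Agent.Lib.Helper28.Thick.Affine
import Groth.Agent.Lib.Helper1.Thickening

set_option autoImplicit false
universe u
open FlatMor

namespace Groth.Agent.S1305

open AlgebraicGeometry CategoryTheory Limits in
/-- For a morphism of thickenings, that is a commutative square whose horizontal maps are thickenings
(closed immersions that are surjective on points), the morphism between the thin schemes is integral
if and only if the morphism between the thick ones is. -/
theorem result {X X' S S' : Scheme.{u}} (iX : X ⟶ X') (iS : S ⟶ S') (f : X ⟶ S) (f' : X' ⟶ S')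
    (hX : MoreMor.IsThickening iX) (hS : MoreMor.IsThickening iS) (w : iX ≫ f' = f ≫ iS) :
    IsIntegralHom f ↔ IsIntegralHom f' := by
  have hX' := hX
  have hS' := hS
  obtain ⟨hX1, hX2⟩ := hX
  obtain ⟨hS1, hS2⟩ := hS
  haveI := hX1
  haveI := hS1
  constructor
  · intro hf
    rw [IsIntegralHom.iff_universallyClosed_and_isAffineHom] at hf ⊢
    obtain ⟨hf1, hf2⟩ := hf
    refine ⟨(Groth.Agent.Lib.Helper1.Thickening.universallyClosed_iff iX iS f f' hX' hS' w).mp hf1,
      ?_⟩
    haveI : IsAffineHom (iX ≫ f') := by rw [w]; infer_instance
    exact Groth.Agent.Lib.Helper28.Thick.isAffineHom_of_comp iX hX2.surj f'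
  · intro hf'
    haveI : IsIntegralHom (f ≫ iS) := by rw [← w]; infer_instance
    exact IsIntegralHom.of_comp f iS

end Groth.Agent.S1305
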