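import Groth.Statements.S13051
import Mathlib
import Groth.Agent.Lib.Helper18.ExpLog

set_option autoImplicit false
universe u
open CategoryTheory AlgebraicGeometry
open Zeta

namespace Groth.Agent.S13051

/-- For a scheme X of finite type over a finite field k, Z(X, t) = ∏ over the closed points x of (1 −
t^{deg x})^{−1}, that is ∏_{r ≥ 1} (1 − t^r)^{−a_r} with a_r the number of closed points of residue
degree r; equivalently, for every n the product Z(X, t) · ∏_{r = 1}^{n} (1 − t^r)^{a_r} is ≡ 1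
modulo t^{n+1}. In particular Z(X, t) has integer coefficients. (Stated for any scheme of finite
type over k; reducedness plays no role.) -/
theorem result {k : Type u} [Field k] [Finite k] {X : Scheme.{u}}
    (f : X ⟶ Spec (CommRingCat.of k)) [LocallyOfFiniteType f] [QuasiCompact f] :
    (∀ n : ℕ, PowerSeries.trunc (n + 1)
        (Zeta.zetaFun f * ∏ r ∈ Finset.Icc 1 n, (1 - PowerSeries.X ^ r) ^ Zeta.degCount f r) = 1) ∧
      ∀ n : ℕ, ∃ z : ℤ, PowerSeries.coeff n (Zeta.zetaFun f) = (z : ℚ) := by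
  classical
  have hcz : ∀ (r : ℚ) (φ : PowerSeries ℚ), PowerSeries.constantCoeff φ = 0 →
      PowerSeries.constantCoeff (r • φ) = 0 := by
    intro r φ h
    rw [← PowerSeries.coeff_zero_eq_constantCoeff_apply, PowerSeries.coeff_smul,
      PowerSeries.coeff_zero_eq_constantCoeff_apply, h, smul_zero]
  have hmu0 : ∀ r : ℕ, PowerSeries.constantCoeff (-Groth.Agent.Lib.Helper18.ExpLog.mu r) = 0 := by
    intro r
    rw [map_neg, Groth.Agent.Lib.Helper18.ExpLog.constantCoeff_mu, neg_zero]
  have hlogZ0 : PowerSeries.constantCoeff (Zeta.logZeta f) = 0 := by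
    rw [← PowerSeries.coeff_zero_eq_constantCoeff_apply, Zeta.logZeta, PowerSeries.coeff_mk]
    simp
  have key : ∀ n : ℕ, ∀ m, m < n + 1 →
      PowerSeries.coeff m (Zeta.zetaFun f * ∏ r ∈ Finset.Icc 1 n,
        (1 - PowerSeries.X ^ r) ^ Zeta.degCount f r) = PowerSeries.coeff m (1 : PowerSeries ℚ) := by
    intro n
    have hfac : ∀ r ∈ Finset.Icc 1 n, (1 - (PowerSeries.X : PowerSeries ℚ) ^ r) ^ Zeta.degCount f r =
        (PowerSeries.exp ℚ).subst ((Zeta.degCount f r : ℚ) •
          (-Groth.Agent.Lib.Helper18.ExpLog.mu r)) := by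
      intro r hr
      rw [Nat.cast_smul_eq_nsmul, Groth.Agent.Lib.Helper18.ExpLog.exp_subst_nsmul _ (hmu0 r),
        Groth.Agent.Lib.Helper18.ExpLog.exp_subst_neg_mu r (Finset.mem_Icc.mp hr).1]
    have hsum0 : PowerSeries.constantCoeff (∑ r ∈ Finset.Icc 1 n, (Zeta.degCount f r : ℚ) •
        (-Groth.Agent.Lib.Helper18.ExpLog.mu r)) = 0 := by
      rw [map_sum]
      exact Finset.sum_eq_zero fun r _ => hcz _ _ (hmu0 r)
    rw [Finset.prod_congr rfl hfac, Zeta.zetaFun,
      ← Groth.Agent.Lib.Helper18.ExpLog.exp_subst_sum _ _ (fun r _ => hcz _ _ (hmu0 r)),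
      ← Groth.Agent.Lib.Helper18.ExpLog.exp_subst_add hlogZ0 hsum0]
    apply Groth.Agent.Lib.Helper18.ExpLog.coeff_exp_subst_of_coeff_eq_zero n
    intro m hm
    rw [map_add, map_sum, Zeta.logZeta, PowerSeries.coeff_mk]
    simp only [PowerSeries.coeff_smul, map_neg, Groth.Agent.Lib.Helper18.ExpLog.mu,
      PowerSeries.coeff_mk, smul_eq_mul]
    by_cases hm0 : m = 0
    · subst hm0; simp
    · have hsum : ∑ r ∈ Finset.Icc 1 n, (Zeta.degCount f r : ℚ) *
          -(if r ∣ m ∧ m ≠ 0 then (r : ℚ) / m else 0) = -((Zeta.nPts f m : ℚ) / m) := by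
        rw [Zeta.nPts]
        push_cast
        rw [Finset.sum_div, ← Finset.sum_neg_distrib]
        have hfilter : m.divisors = (Finset.Icc 1 n).filter (fun r => r ∣ m ∧ m ≠ 0) := by
          ext r
          rw [Nat.mem_divisors, Finset.mem_filter, Finset.mem_Icc]
          constructor
          · rintro ⟨hd, h0⟩
            have h1 := Nat.le_of_dvd (Nat.pos_of_ne_zero h0) hd
            have h2 := Nat.pos_of_dvd_of_pos hd (Nat.pos_of_ne_zero h0)
            exact ⟨⟨by omega, by omega⟩, hd, h0⟩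
          · rintro ⟨_, hd, h0⟩; exact ⟨hd, h0⟩
        rw [hfilter, Finset.sum_filter]
        refine Finset.sum_congr rfl fun r _ => ?_
        split_ifs with h
        · ring
        · ring
      rw [hsum]; ring
  constructor
  · intro n
    ext m
    rw [PowerSeries.coeff_trunc, Polynomial.coeff_one]
    by_cases h1 : m < n + 1
    · rw [if_pos h1, key n m h1, PowerSeries.coeff_one]
    · rw [if_neg h1, if_neg (by omega)]
  · intro n
    set Uz : PowerSeries ℤ :=
      ∏ r ∈ Finset.Icc 1 n, (1 - PowerSeries.X ^ r) ^ Zeta.degCount f r with hUz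
    have hUmap : PowerSeries.map (Int.castRingHom ℚ) Uz =
        ∏ r ∈ Finset.Icc 1 n, (1 - (PowerSeries.X : PowerSeries ℚ) ^ r) ^ Zeta.degCount f r := by
      rw [hUz, map_prod]
      refine Finset.prod_congr rfl fun r _ => ?_
      rw [map_pow, map_sub, map_one, map_pow, PowerSeries.map_X]
    have hunit : IsUnit Uz := by
      rw [PowerSeries.isUnit_iff_constantCoeff, hUz, map_prod, Finset.prod_eq_one]
      · exact isUnit_one
      · intro r hr
        have hr1 := (Finset.mem_Icc.mp hr).1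
        rw [map_pow, map_sub, map_one, map_pow, PowerSeries.constantCoeff_X,
          zero_pow (by omega), sub_zero, one_pow]
    obtain ⟨Vz, hV⟩ := hunit.exists_right_inv
    refine ⟨PowerSeries.coeff n Vz, ?_⟩
    have hUV : (∏ r ∈ Finset.Icc 1 n,
        (1 - (PowerSeries.X : PowerSeries ℚ) ^ r) ^ Zeta.degCount f r) *
        PowerSeries.map (Int.castRingHom ℚ) Vz = 1 := by
      rw [← hUmap, ← map_mul, hV, map_one]
    have hdvd : (PowerSeries.X : PowerSeries ℚ) ^ (n + 1) ∣ Zeta.zetaFun f *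
        (∏ r ∈ Finset.Icc 1 n,
          (1 - (PowerSeries.X : PowerSeries ℚ) ^ r) ^ Zeta.degCount f r) - 1 := by
      rw [PowerSeries.X_pow_dvd_iff]
      intro m hm
      rw [map_sub, key n m hm, sub_self]
    have hdvd2 : (PowerSeries.X : PowerSeries ℚ) ^ (n + 1) ∣
        Zeta.zetaFun f - PowerSeries.map (Int.castRingHom ℚ) Vz := by
      have h : Zeta.zetaFun f - PowerSeries.map (Int.castRingHom ℚ) Vz =
          (Zeta.zetaFun f * (∏ r ∈ Finset.Icc 1 n,
            (1 - (PowerSeries.X : PowerSeries ℚ) ^ r) ^ Zeta.degCount f r) - 1) *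
            PowerSeries.map (Int.castRingHom ℚ) Vz := by
        rw [sub_mul, one_mul, mul_assoc, hUV, mul_one]
      rw [h]
      exact Dvd.dvd.mul_right hdvd _
    have h3 := PowerSeries.X_pow_dvd_iff.mp hdvd2 n (Nat.lt_succ_self n)
    rw [map_sub, sub_eq_zero] at h3
    rw [h3, PowerSeries.coeff_map]
    rfl

end Groth.Agent.S13051
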