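import Groth.Statements.S13056
import Mathlib
import Groth.Agent.Lib.Helper18.ExpLog

set_option autoImplicit false
universe u v
open Zeta

namespace Groth.Agent.S13056

open PowerSeries in
/-- the ring homomorphism `f ↦ f + f' ε` into the dual numbers. -/
noncomputable def dualHom (K : Type u) [Field K] : K⟦X⟧ →+* TrivSqZeroExt K⟦X⟧ K⟦X⟧ where
  toFun f := TrivSqZeroExt.inl f + TrivSqZeroExt.inr (d⁄dX K f)
  map_one' := by ext <;> simp
  map_mul' f g := by
    ext
    · simp
    · simp [Derivation.leibniz]
      ring
  map_zero' := by ext <;> simp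
  map_add' f g := by
    ext
    · simp
    · simp

open PowerSeries TrivSqZeroExt in
/-- Jacobi's formula for an invertible matrix of power series. -/
theorem derivative_det_eq {K : Type u} [Field K] {n : Type v} [Fintype n] [DecidableEq n]
    (B N B' : Matrix n n K⟦X⟧) (hBN : B * N = 1) (hB' : ∀ i j, d⁄dX K (B i j) = B' i j) :
    d⁄dX K B.det = B.det * (N * B').trace := by
  set ι : K⟦X⟧ →+* TrivSqZeroExt K⟦X⟧ K⟦X⟧ := inlHom K⟦X⟧ K⟦X⟧ with hι
  set ε : TrivSqZeroExt K⟦X⟧ K⟦X⟧ := inr 1 with hε
  have hεε : ε * ε = 0 := inr_mul_inr _ _ _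
  have h1 : (dualHom K).mapMatrix B = ι.mapMatrix B * (1 + ε • ι.mapMatrix (N * B')) := by
    have h2 : ι.mapMatrix B * ι.mapMatrix N = 1 := by rw [← map_mul, hBN, map_one]
    rw [mul_add, mul_one, Matrix.mul_smul, map_mul, ← mul_assoc, h2, one_mul]
    refine Matrix.ext fun i j => ?_
    simp only [RingHom.mapMatrix_apply, Matrix.map_apply, Matrix.add_apply, Matrix.smul_apply,
      smul_eq_mul]
    rw [← hB' i j]
    ext <;> simp [dualHom, ι, ε]
  have h3 : dualHom K B.det = ι B.det * (1 + ι ((N * B').trace) * ε) := by
    rw [RingHom.map_det, h1, Matrix.det_mul, ← RingHom.map_det, Matrix.det_one_add_smul]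
    rw [pow_two, hεε, mul_zero, add_zero]
    congr 3
    rw [RingHom.mapMatrix_apply]
    exact (AddMonoidHom.map_trace ι _).symm
  have h4 := congrArg TrivSqZeroExt.snd h3
  simpa [dualHom, ι, ε] using h4

/-- For an endomorphism φ of a finite-dimensional vector space over a field K, det(Id − tφ) = exp(−∑_{m
≥ 1} tr(φ^m) t^m / m) as power series in t. Stated for a square matrix M, with det(1 − tM) Mathlib's
reversed characteristic polynomial, and over a field of characteristic zero (the exponential series
needs ℚ ⊆ K; this is the case in which the identity is used). -/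
theorem result {K : Type u} [Field K] [CharZero K]
    {n : Type v} [Fintype n] [DecidableEq n] (M : Matrix n n K) :
    ((M.charpolyRev : Polynomial K) : PowerSeries K) =
      PowerSeries.subst (PowerSeries.mk fun m : ℕ => -(Matrix.trace (M ^ m)) / (m : K))
        (PowerSeries.exp K) := by
  classical
  set a : PowerSeries K := PowerSeries.mk fun m : ℕ => -(Matrix.trace (M ^ m)) / (m : K) with ha
  have ha0 : PowerSeries.constantCoeff a = 0 := by
    rw [← PowerSeries.coeff_zero_eq_constantCoeff_apply, ha, PowerSeries.coeff_mk]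
    simp
  set B : Matrix n n (PowerSeries K) :=
    1 - (PowerSeries.X : PowerSeries K) • M.map (PowerSeries.C) with hB
  set N : Matrix n n (PowerSeries K) :=
    Matrix.of fun i j => PowerSeries.mk fun m => (M ^ m) i j with hN
  have hcoe : ((M.charpolyRev : Polynomial K) : PowerSeries K) = B.det := by
    change Polynomial.coeToPowerSeries.ringHom
      (Matrix.det (1 - (Polynomial.X : Polynomial K) • M.map Polynomial.C)) = _
    rw [RingHom.map_det]
    congr 1
    refine Matrix.ext fun i j => ?_
    simp only [hB, RingHom.mapMatrix_apply, Matrix.map_apply, Matrix.sub_apply, Matrix.one_apply,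
      Matrix.smul_apply, smul_eq_mul, Polynomial.coeToPowerSeries.ringHom_apply,
      Polynomial.coe_sub, Polynomial.coe_mul, Polynomial.coe_X, Polynomial.coe_C]
    split_ifs <;> simp
  have hBN : B * N = 1 := by
    refine Matrix.ext fun i j => ?_
    rw [hB, Matrix.sub_mul, Matrix.one_mul, Matrix.smul_mul, Matrix.sub_apply, Matrix.smul_apply,
      smul_eq_mul, Matrix.mul_apply]
    ext m
    rw [map_sub]
    cases m with
    | zero =>
      rw [PowerSeries.coeff_zero_X_mul, sub_zero]
      simp only [hN, Matrix.of_apply, PowerSeries.coeff_mk, pow_zero, Matrix.one_apply]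
      split_ifs <;> simp
    | succ m =>
      rw [PowerSeries.coeff_succ_X_mul, map_sum]
      simp only [hN, Matrix.of_apply, Matrix.map_apply, PowerSeries.coeff_C_mul,
        PowerSeries.coeff_mk]
      rw [pow_succ', Matrix.mul_apply, sub_self, Matrix.one_apply]
      split_ifs <;> simp [PowerSeries.coeff_one]
  have hB' : ∀ i j, PowerSeries.derivative K (B i j) = (-(M.map PowerSeries.C)) i j := by
    intro i j
    simp only [hB, Matrix.sub_apply, Matrix.smul_apply, Matrix.map_apply, Matrix.neg_apply,
      smul_eq_mul, map_sub, Matrix.one_apply]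
    rw [Derivation.leibniz, PowerSeries.derivative_X, PowerSeries.derivative_C]
    split_ifs <;> simp
  have hder := derivative_det_eq B N _ hBN hB'
  have htr : (N * (-(M.map PowerSeries.C))).trace = PowerSeries.derivative K a := by
    ext m
    have hm : ((m : K) + 1) ≠ 0 := by exact_mod_cast Nat.succ_ne_zero m
    rw [PowerSeries.coeff_derivative, ha, PowerSeries.coeff_mk, Matrix.trace, map_sum]
    simp only [Matrix.diag_apply, Matrix.mul_apply, map_sum, Matrix.neg_apply, Matrix.map_apply,
      hN, Matrix.of_apply, mul_neg, map_neg, PowerSeries.coeff_mul_C, PowerSeries.coeff_mk]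
    rw [pow_succ, Matrix.trace]
    simp only [Matrix.diag_apply, Matrix.mul_apply, Finset.sum_neg_distrib]
    push_cast
    field_simp
  have hc1 : PowerSeries.constantCoeff B.det = 1 := by
    rw [← hcoe, Polynomial.constantCoeff_coe, Polynomial.coeff_zero_eq_eval_zero,
      Matrix.eval_charpolyRev]
  rw [hcoe]
  exact (Groth.Agent.Lib.Helper18.ExpLog.exp_subst_eq_of_derivative' ha0 hc1
    (hder.trans (by rw [htr]))).symm

end Groth.Agent.S13056
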