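import Groth.Statements.S13057
import Mathlib

set_option autoImplicit false
universe u
open Zeta

namespace Groth.Agent.S13057

section Aux

/-- coefficient of `f * Σ_k C (c k) X^k` -/
theorem coeff_mul_sum {L : Type*} [Field L] (f : PowerSeries L) (s : Finset ℕ) (c : ℕ → L)
    (m : ℕ) :
    PowerSeries.coeff m (f * ∑ k ∈ s, PowerSeries.C (c k) * PowerSeries.X ^ k) =
      ∑ k ∈ s, c k * (if k ≤ m then PowerSeries.coeff (m - k) f else 0) := by
  rw [Finset.mul_sum, map_sum]
  refine Finset.sum_congr rfl fun k _ => ?_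
  rw [mul_left_comm, PowerSeries.coeff_C_mul, PowerSeries.coeff_mul_X_pow']

theorem coe_sum_C_mul_X_pow {L : Type*} [Field L] (s : Finset ℕ) (c : ℕ → L) :
    ((∑ k ∈ s, Polynomial.C (c k) * Polynomial.X ^ k : Polynomial L) : PowerSeries L) =
      ∑ k ∈ s, PowerSeries.C (c k) * PowerSeries.X ^ k := by
  rw [← Polynomial.coeToPowerSeries.ringHom_apply, map_sum]
  refine Finset.sum_congr rfl fun k _ => ?_
  rw [map_mul, map_pow, Polynomial.coeToPowerSeries.ringHom_apply,
    Polynomial.coeToPowerSeries.ringHom_apply, Polynomial.coe_C, Polynomial.coe_X]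

/-- the key computation: for a window starting at `i`, the reversed pairing with the
coefficients `c` is a coefficient of the product. -/
theorem coeff_mul_window {L : Type*} [Field L] (f : PowerSeries L) (N : ℕ) (c : ℕ → L) (i : ℕ) :
    PowerSeries.coeff (i + N) (f * ∑ k ∈ Finset.range (N + 1), PowerSeries.C (c k) * PowerSeries.X ^ k)
      = ∑ j : Fin (N + 1), c (N - j) * PowerSeries.coeff (i + (j : ℕ)) f := by
  rw [coeff_mul_sum, Fin.sum_univ_eq_sum_range (fun j => c (N - j) * PowerSeries.coeff (i + j) f)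
    (N + 1), ← Finset.sum_range_reflect _ (N + 1)]
  refine Finset.sum_congr rfl fun j hj => ?_
  rw [Finset.mem_range] at hj
  have h1 : N + 1 - 1 - j ≤ i + N := by omega
  have h2 : i + N - (N + 1 - 1 - j) = i + j := by omega
  have h3 : N + 1 - 1 - j = N - j := by omega
  rw [if_pos h1, h2, h3]

end Aux

/-- A power series f = ∑_{m ≥ 0} a_m t^m over a field L lies in L(t), i.e. f · Q = P for some
polynomials P, Q with Q ≠ 0, if and only if there are natural numbers M, N such that the vectors
(a_i, a_{i+1}, …, a_{i+N}) ∈ L^{N+1}, i ≥ M, span a proper subspace. -/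
theorem result {L : Type u} [Field L]
    (f : PowerSeries L) :
    (∃ P Q : Polynomial L, Q ≠ 0 ∧ f * (Q : PowerSeries L) = (P : PowerSeries L)) ↔
      ∃ M N : ℕ, Submodule.span L
          {v : Fin (N + 1) → L | ∃ i : ℕ, M ≤ i ∧ v = fun j : Fin (N + 1) => PowerSeries.coeff (i + (j : ℕ)) f} ≠ ⊤ := by
  classical
  constructor
  · rintro ⟨P, Q, hQ, hfQ⟩
    refine ⟨P.natDegree + 1, Q.natDegree, ?_⟩
    set N := Q.natDegree with hN
    -- the functional
    let φ : (Fin (N + 1) → L) →ₗ[L] L :=
      ∑ j : Fin (N + 1), (Q.coeff (N - j)) • LinearMap.proj j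
    have hφ : ∀ v, φ v = ∑ j : Fin (N + 1), Q.coeff (N - j) * v j := by
      intro v
      simp [φ, LinearMap.sum_apply]
    intro htop
    have hker : Submodule.span L
        {v : Fin (N + 1) → L | ∃ i : ℕ, P.natDegree + 1 ≤ i ∧
          v = fun j : Fin (N + 1) => PowerSeries.coeff (i + (j : ℕ)) f} ≤ LinearMap.ker φ := by
      rw [Submodule.span_le]
      rintro v ⟨i, hi, rfl⟩
      rw [SetLike.mem_coe, LinearMap.mem_ker, hφ]
      have hQsum : Q = ∑ k ∈ Finset.range (N + 1),
          Polynomial.C (Q.coeff k) * Polynomial.X ^ k := Q.as_sum_range_C_mul_X_pow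
      have h1 := coeff_mul_window f N (fun k => Q.coeff k) i
      rw [← coe_sum_C_mul_X_pow, ← hQsum, hfQ, Polynomial.coeff_coe] at h1
      rw [← h1]
      exact Polynomial.coeff_eq_zero_of_natDegree_lt (by omega)
    rw [htop] at hker
    have h0 : φ (Pi.single 0 1) = 0 := hker trivial
    rw [hφ, Finset.sum_eq_single (0 : Fin (N + 1))] at h0
    · simp only [Fin.val_zero, Nat.sub_zero, Pi.single_eq_same, mul_one] at h0
      exact hQ (Polynomial.leadingCoeff_eq_zero.mp h0)
    · intro j _ hj
      rw [Pi.single_eq_of_ne hj, mul_zero]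
    · intro h; exact absurd (Finset.mem_univ _) h
  · rintro ⟨M, N, hspan⟩
    obtain ⟨φ, hφ0, hle⟩ := Submodule.exists_le_ker_of_lt_top _ (lt_top_iff_ne_top.mpr hspan)
    -- coefficients of φ, reversed
    let c : ℕ → L := fun k => if h : N - k < N + 1 then
      φ (Pi.single (⟨N - k, h⟩ : Fin (N + 1)) 1) else 0
    have hφv : ∀ v : Fin (N + 1) → L, φ v = ∑ j : Fin (N + 1), c (N - j) * v j := by
      intro v
      rw [LinearMap.pi_apply_eq_sum_univ φ v]
      refine Finset.sum_congr rfl fun j _ => ?_
      have hj : N - (N - (j : ℕ)) = j := by have := j.2; omega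
      have hlt : N - (N - (j : ℕ)) < N + 1 := by omega
      simp only [c, dif_pos hlt]
      rw [smul_eq_mul, mul_comm]
      congr 2
      ext i
      simp only [Pi.single_apply]
      by_cases hij : j = i
      · subst hij
        simp [Fin.ext_iff, hj]
      · rw [if_neg hij, if_neg]
        intro h
        apply hij
        rw [h]
        exact Fin.ext hj.symm
    set Q : Polynomial L := ∑ k ∈ Finset.range (N + 1), Polynomial.C (c k) * Polynomial.X ^ k
      with hQdef
    have hQcoe : (Q : PowerSeries L) =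
        ∑ k ∈ Finset.range (N + 1), PowerSeries.C (c k) * PowerSeries.X ^ k :=
      coe_sum_C_mul_X_pow _ _
    have hvanish : ∀ m, M + N ≤ m → PowerSeries.coeff m (f * (Q : PowerSeries L)) = 0 := by
      intro m hm
      obtain ⟨i, rfl⟩ : ∃ i, m = i + N := ⟨m - N, by omega⟩
      rw [hQcoe, coeff_mul_window, ← hφv]
      have hmem : (fun j : Fin (N + 1) => PowerSeries.coeff (i + (j : ℕ)) f) ∈
          Submodule.span L {v : Fin (N + 1) → L | ∃ i : ℕ, M ≤ i ∧
            v = fun j : Fin (N + 1) => PowerSeries.coeff (i + (j : ℕ)) f} :=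
        Submodule.subset_span ⟨i, by omega, rfl⟩
      exact LinearMap.mem_ker.mp (hle hmem)
    refine ⟨PowerSeries.trunc (M + N) (f * (Q : PowerSeries L)), Q, ?_, ?_⟩
    · -- Q ≠ 0
      intro hQ0
      apply hφ0
      apply LinearMap.ext
      intro v
      rw [hφv, LinearMap.zero_apply]
      refine Finset.sum_eq_zero fun j _ => ?_
      have hck : c (N - j) = Q.coeff (N - j) := by
        rw [hQdef, Polynomial.finsetSum_coeff]
        rw [Finset.sum_eq_single (N - (j : ℕ))]
        · rw [Polynomial.coeff_C_mul, Polynomial.coeff_X_pow, if_pos rfl, mul_one]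
        · intro k _ hk
          rw [Polynomial.coeff_C_mul, Polynomial.coeff_X_pow, if_neg (Ne.symm hk), mul_zero]
        · intro h
          exfalso; apply h
          rw [Finset.mem_range]; omega
      rw [hck, hQ0, Polynomial.coeff_zero, zero_mul]
    · ext m
      rw [Polynomial.coeff_coe, PowerSeries.coeff_trunc]
      split_ifs with hm
      · rfl
      · exact hvanish m (by omega)

end Groth.Agent.S13057
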