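import Groth.Statements.S13058
import Mathlib
import Groth.Agent.S13057

set_option autoImplicit false
universe u v
open Zeta

namespace Groth.Agent.S13058

/-- If L'/L is a field extension, a power series f ∈ L⟦t⟧ belongs to L(t) exactly when it belongs to
L'(t); here membership in L(t) means f · Q = P for polynomials P, Q over the field in question with
Q ≠ 0. -/
theorem result {L : Type u} {L' : Type v} [Field L] [Field L']
    [Algebra L L'] (f : PowerSeries L) :
    (∃ P Q : Polynomial L', Q ≠ 0 ∧
        PowerSeries.map (algebraMap L L') f * (Q : PowerSeries L') = (P : PowerSeries L')) ↔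
      ∃ P Q : Polynomial L, Q ≠ 0 ∧ f * (Q : PowerSeries L) = (P : PowerSeries L) := by
  classical
  constructor
  · intro h
    obtain ⟨M, N, hspan⟩ :=
      (Groth.Agent.S13057.result (PowerSeries.map (algebraMap L L') f)).mp h
    apply (Groth.Agent.S13057.result f).mpr
    refine ⟨M, N, fun htop => hspan ?_⟩
    rw [eq_top_iff]
    have key : ∀ v ∈ Submodule.span L {v : Fin (N + 1) → L | ∃ i : ℕ, M ≤ i ∧
          v = fun j : Fin (N + 1) => PowerSeries.coeff (i + (j : ℕ)) f},
        (fun t => algebraMap L L' (v t)) ∈ Submodule.span L'
          {v : Fin (N + 1) → L' | ∃ i : ℕ, M ≤ i ∧ v = fun j : Fin (N + 1) =>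
            PowerSeries.coeff (i + (j : ℕ)) (PowerSeries.map (algebraMap L L') f)} := by
      intro v hv
      refine Submodule.span_induction ?_ ?_ ?_ ?_ hv
      · rintro v ⟨i, hi, rfl⟩
        apply Submodule.subset_span
        refine ⟨i, hi, ?_⟩
        funext t
        rw [PowerSeries.coeff_map]
      · have h0 : (fun t => algebraMap L L' ((0 : Fin (N + 1) → L) t)) = 0 := by
          funext t; simp
        rw [h0]; exact Submodule.zero_mem _
      · intro x y _ _ hx hy
        have h0 : (fun t => algebraMap L L' ((x + y) t)) =
            (fun t => algebraMap L L' (x t)) + (fun t => algebraMap L L' (y t)) := by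
          funext t; simp
        rw [h0]; exact Submodule.add_mem _ hx hy
      · intro a x _ hx
        have h0 : (fun t => algebraMap L L' ((a • x) t)) =
            algebraMap L L' a • (fun t => algebraMap L L' (x t)) := by
          funext t; simp
        rw [h0]; exact Submodule.smul_mem _ _ hx
    intro v _
    rw [pi_eq_sum_univ v]
    refine Submodule.sum_mem _ fun j _ => Submodule.smul_mem _ _ ?_
    have hj : (fun t : Fin (N + 1) => if j = t then (1 : L) else 0) ∈
        Submodule.span L {v : Fin (N + 1) → L | ∃ i : ℕ, M ≤ i ∧
          v = fun j : Fin (N + 1) => PowerSeries.coeff (i + (j : ℕ)) f} := by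
      rw [htop]; trivial
    have h1 := key _ hj
    have h2 : (fun t : Fin (N + 1) => algebraMap L L' (if j = t then (1 : L) else 0)) =
        fun t : Fin (N + 1) => if j = t then (1 : L') else 0 := by
      funext t
      split_ifs <;> simp
    rw [h2] at h1
    exact h1
  · rintro ⟨P, Q, hQ, hfQ⟩
    refine ⟨P.map (algebraMap L L'), Q.map (algebraMap L L'), ?_, ?_⟩
    · exact (Polynomial.map_ne_zero_iff (algebraMap L L').injective).mpr hQ
    · rw [Polynomial.polynomial_map_coe, Polynomial.polynomial_map_coe, ← map_mul, hfQ]

end Groth.Agent.S13058
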