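import Groth.Statements.S13059
import Mathlib

set_option autoImplicit false
universe u
open Zeta

namespace Groth.Agent.S13059

section Aux
open Polynomial Matrix

theorem matrix_identity {ι K : Type*} [Fintype ι] [DecidableEq ι] [Field K]
    (F G : Matrix ι ι K) (c : K) (hc : c ≠ 0) (hFG : Fᵀ * G = c • (1 : Matrix ι ι K)) :
    F.det • G.charpoly.reverse =
      ((-1) ^ Fintype.card ι * c ^ Fintype.card ι) • (c⁻¹ • F).charpoly := by
  rw [Matrix.reverse_charpoly, Matrix.charpolyRev, Matrix.charpoly, Matrix.charmatrix,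
    Polynomial.smul_eq_C_mul, Polynomial.smul_eq_C_mul]
  set A : Matrix ι ι K[X] := F.map C with hA
  set G' : Matrix ι ι K[X] := G.map C with hG'
  have hcc : (C c : K[X]) * C c⁻¹ = 1 := by rw [← C_mul, mul_inv_cancel₀ hc, C_1]
  have hdetA : C F.det = A.det := RingHom.map_det C F
  have hAG : Aᵀ * G' = C c • (1 : Matrix ι ι K[X]) := by
    have h := congrArg (fun M : Matrix ι ι K => M.map (C : K → K[X])) hFG
    simp only [Matrix.map_mul, Matrix.transpose_map] at h
    rw [hA, hG', h]
    ext i j
    rw [Matrix.map_apply, Matrix.smul_apply, Matrix.smul_apply, Matrix.one_apply,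
      Matrix.one_apply]
    split_ifs <;> simp
  have hL : C F.det * (1 - (X : K[X]) • G').det =
      (Aᵀ - (C c * X) • (1 : Matrix ι ι K[X])).det := by
    rw [hdetA, ← Matrix.det_transpose A, ← Matrix.det_mul, Matrix.mul_sub, Matrix.mul_one,
      Matrix.mul_smul, hAG, smul_smul, mul_comm X (C c)]
  have hR : C ((-1) ^ Fintype.card ι * c ^ Fintype.card ι) *
      (Matrix.scalar ι (X : K[X]) - (C : K →+* K[X]).mapMatrix (c⁻¹ • F)).det =
      (A - (C c * X) • (1 : Matrix ι ι K[X])).det := by
    have h1 : C ((-1) ^ Fintype.card ι * c ^ Fintype.card ι) =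
        (C (-c) : K[X]) ^ Fintype.card ι := by
      rw [← C_pow, neg_pow c]
    rw [h1, ← Matrix.det_smul]
    congr 1
    refine Matrix.ext fun i j => ?_
    rw [Matrix.smul_apply, Matrix.sub_apply, Matrix.sub_apply, Matrix.smul_apply,
      Matrix.scalar_apply, Matrix.diagonal_apply, RingHom.mapMatrix_apply, Matrix.map_apply,
      Matrix.smul_apply, Matrix.one_apply, hA, Matrix.map_apply, smul_eq_mul, smul_eq_mul,
      smul_eq_mul, C_neg, C_mul]
    split_ifs
    · linear_combination (C (F i j)) * hcc
    · linear_combination (C (F i j)) * hcc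
  rw [hL, hR, ← Matrix.det_transpose (A - _), Matrix.transpose_sub, Matrix.transpose_smul,
    Matrix.transpose_one]

end Aux

/-- Let B : V × W → K be a perfect pairing of finite-dimensional vector spaces over a field K, c ∈ K
nonzero, and f, g endomorphisms of V, W with B(f v, g w) = c · B(v, w) for all v, w. Then det(Id − t
g) = (−1)^r c^r t^r det(f)^{−1} det(Id − c^{−1} t^{−1} f) with r the common dimension; stated
cleared of denominators as det(f) · det(Id − t g) = (−1)^r c^r · det(t Id − c^{−1} f) in K[t],
det(Id − t g) being the reverse of the characteristic polynomial of g. -/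
theorem result (K : Type u) [Field K] (V W : Type u)
    [AddCommGroup V] [Module K V] [FiniteDimensional K V] [AddCommGroup W] [Module K W]
    [FiniteDimensional K W] (B : V →ₗ[K] W →ₗ[K] K) [B.IsPerfPair] (f : V →ₗ[K] V) (g : W →ₗ[K] W)
    (c : K) (hc : c ≠ 0) (hfg : ∀ (v : V) (w : W), B (f v) (g w) = c * B v w) :
    LinearMap.det f • (LinearMap.charpoly g).reverse =
      ((-1) ^ Module.finrank K W * c ^ Module.finrank K W) • (c⁻¹ • f).charpoly := by
  classical
  let bW : Module.Basis (Module.Free.ChooseBasisIndex K W) K W := Module.Free.chooseBasis K W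
  let bV : Module.Basis (Module.Free.ChooseBasisIndex K W) K V :=
    bW.dualBasis.map B.toPerfPair.symm
  have hB : LinearMap.toMatrix₂ bV bW B = 1 := by
    ext i j
    rw [LinearMap.toMatrix₂_apply, Matrix.one_apply]
    change B (B.toPerfPair.symm (bW.dualBasis i)) (bW j) = _
    rw [LinearMap.apply_symm_toPerfPair_self, Module.Basis.dualBasis_apply_self]
    simp only [eq_comm]
  have hcomp : B.compl₁₂ f g = c • B := by
    ext v w
    rw [LinearMap.compl₁₂_apply, hfg, LinearMap.smul_apply, LinearMap.smul_apply, smul_eq_mul]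
  have hFG : Matrix.transpose (LinearMap.toMatrix bV bV f) * LinearMap.toMatrix bW bW g =
      c • (1 : Matrix _ _ K) := by
    have h := LinearMap.toMatrix₂_compl₁₂ bV bW bV bW B f g
    rw [hcomp, hB, Matrix.mul_one, map_smul, hB] at h
    exact h.symm
  have hmain := matrix_identity (LinearMap.toMatrix bV bV f) (LinearMap.toMatrix bW bW g) c hc hFG
  rw [LinearMap.det_toMatrix, LinearMap.charpoly_toMatrix, ← map_smul,
    LinearMap.charpoly_toMatrix, ← Module.finrank_eq_card_chooseBasisIndex K W] at hmain
  exact hmain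

end Groth.Agent.S13059
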