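import Groth.Statements.S13060
import Mathlib

set_option autoImplicit false
universe u v w x
open TensorProduct
open Zeta

namespace Groth.Agent.S13060

/-- Let k be a field, V and W vector spaces over k and G a group acting on V by k-linear automorphisms;
for the induced action on V ⊗_k W (trivial on W) one has (V ⊗_k W)^G = V^G ⊗_k W, i.e. the
invariants of V ⊗ W are the image of V^G ⊗ W → V ⊗ W. -/
theorem result {k : Type u} [Field k] {G : Type v} [Group G]
    {V : Type w} {W : Type x} [AddCommGroup V] [Module k V] [AddCommGroup W] [Module k W]
    (ρ : Representation k G V) :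
    (ρ.tprod (Representation.trivial k G W)).invariants =
      LinearMap.range (TensorProduct.map ρ.invariants.subtype (LinearMap.id : W →ₗ[k] W)) := by
  classical
  apply le_antisymm
  · intro t ht
    rw [Representation.mem_invariants] at ht
    let b := Module.Free.chooseBasis k W
    set e := TensorProduct.equivFinsuppOfBasisRight (M := V) b with he
    -- the action commutes with the coordinates
    have hcomm : ∀ (g : G) (s : V ⊗[k] W) (j : Module.Free.ChooseBasisIndex k W),
        e (TensorProduct.map (ρ g) (LinearMap.id : W →ₗ[k] W) s) j = ρ g (e s j) := by
      intro g s j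
      induction s using TensorProduct.induction_on with
      | zero => simp
      | tmul v w =>
        rw [TensorProduct.map_tmul, LinearMap.id_apply, he,
          TensorProduct.equivFinsuppOfBasisRight_apply_tmul_apply,
          TensorProduct.equivFinsuppOfBasisRight_apply_tmul_apply, map_smul]
      | add s s' hs hs' =>
        rw [map_add, map_add, Finsupp.add_apply, hs, hs', map_add, Finsupp.add_apply, map_add]
    have hinv : ∀ j, e t j ∈ ρ.invariants := by
      intro j
      rw [Representation.mem_invariants]
      intro g
      rw [← hcomm g t j]
      have := ht g
      rw [Representation.tprod_apply] at this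
      have h1 : (Representation.trivial k G W) g = LinearMap.id := rfl
      rw [h1] at this
      rw [this]
    have ht' : t = (e t).sum fun j m => m ⊗ₜ[k] b j := by
      rw [← TensorProduct.equivFinsuppOfBasisRight_symm_apply, ← he, LinearEquiv.symm_apply_apply]
    rw [ht']
    refine Submodule.sum_mem _ fun j _ => ?_
    exact ⟨(⟨e t j, hinv j⟩ : ρ.invariants) ⊗ₜ[k] b j, by
      rw [TensorProduct.map_tmul]; rfl⟩
  · rintro _ ⟨s, rfl⟩
    rw [Representation.mem_invariants]
    intro g
    induction s using TensorProduct.induction_on with
    | zero => simp
    | tmul v w =>
      rw [TensorProduct.map_tmul, Representation.tprod_apply, TensorProduct.map_tmul]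
      have hv := (Representation.mem_invariants ρ v.1).mp v.2 g
      change ρ g v.1 ⊗ₜ[k] w = v.1 ⊗ₜ[k] w
      rw [hv]
    | add s s' hs hs' =>
      rw [map_add, map_add, hs, hs']

end Groth.Agent.S13060
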