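import Groth.Statements.S13061
import Mathlib

set_option autoImplicit false
universe u v w
open Zeta

namespace Groth.Agent.S13061

/-- Let A be a commutative algebra over a field k, G a finite group acting on A by k-algebra
automorphisms and I ⊆ A an ideal preserved by G. If p^n is the largest power of p = char(k) dividing
|G| (with p^n = 1 when char(k) = 0), then for every G-invariant b ∈ A/I the power b^{p^n} lies in
the image of A^G → (A/I)^G. (The published statement takes A finitely generated over k, which the
proof does not use.) -/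
theorem result {k : Type u} [Field k]
    {A : Type v} [CommRing A] [Algebra k A] {G : Type w} [Group G] [Finite G]
    [MulSemiringAction G A] [SMulCommClass G k A] (I : Ideal A)
    (hI : ∀ (g : G) (a : A), a ∈ I → g • a ∈ I) (u : A) (hu : ∀ g : G, g • u - u ∈ I) :
    ∃ a : A, (∀ g : G, g • a = a) ∧
      Ideal.Quotient.mk I a =
        Ideal.Quotient.mk I u ^ (ringChar k ^ (Nat.card G).factorization (ringChar k)) := by
  classical
  haveI : Fintype G := Fintype.ofFinite G
  haveI hcp : CharP k (ringChar k) := ringChar.charP k
  have hN0 : Nat.card G ≠ 0 := Nat.card_pos.ne'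
  have hNqm : ringChar k ^ (Nat.card G).factorization (ringChar k) *
      (Nat.card G / ringChar k ^ (Nat.card G).factorization (ringChar k)) = Nat.card G :=
    Nat.ordProj_mul_ordCompl_eq_self (Nat.card G) (ringChar k)
  generalize hq : ringChar k ^ (Nat.card G).factorization (ringChar k) = q at hNqm ⊢
  generalize hm : Nat.card G / q = m at hNqm
  have hm1 : 1 ≤ m := by
    rcases Nat.eq_zero_or_pos m with h | h
    · rw [h, mul_zero] at hNqm; exact absurd hNqm.symm hN0
    · exact h
  have hq1 : 1 ≤ q := by
    rcases Nat.eq_zero_or_pos q with h | h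
    · rw [h, zero_mul] at hNqm; exact absurd hNqm.symm hN0
    · exact h
  have hmk : (m : k) ≠ 0 := by
    rw [Ne, CharP.cast_eq_zero_iff k (ringChar k)]
    rcases CharP.char_is_prime_or_zero k (ringChar k) with hpp | hp0
    · rw [← hm, ← hq]
      exact Nat.not_dvd_ordCompl hpp hN0
    · rw [hp0, zero_dvd_iff]
      omega
  -- the polynomial
  set P : Polynomial A := ∏ g : G, (Polynomial.X + Polynomial.C (g • u)) with hP
  have hinv : ∀ (g : G) (j : ℕ), g • P.coeff j = P.coeff j := by
    intro g j
    have h1 : P.map (MulSemiringAction.toRingHom G A g) = P := by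
      rw [hP, Polynomial.map_prod]
      simp only [Polynomial.map_add, Polynomial.map_X, Polynomial.map_C,
        MulSemiringAction.toRingHom_apply]
      exact Fintype.prod_equiv (Equiv.mulLeft g) _ _ (fun h => by simp [mul_smul])
    have h2 := congrArg (fun Q : Polynomial A => Q.coeff j) h1
    simpa [Polynomial.coeff_map] using h2
  set b := Ideal.Quotient.mk I u with hb
  have hPbar : P.map (Ideal.Quotient.mk I) = (Polynomial.X + Polynomial.C b) ^ (q * m) := by
    rw [hP, Polynomial.map_prod]
    simp only [Polynomial.map_add, Polynomial.map_X, Polynomial.map_C]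
    have hgu : ∀ g : G, Ideal.Quotient.mk I (g • u) = b := fun g => by
      rw [← sub_eq_zero, ← map_sub]
      exact Ideal.Quotient.eq_zero_iff_mem.mpr (hu g)
    simp only [hgu, Finset.prod_const, Finset.card_univ]
    rw [hNqm, Nat.card_eq_fintype_card]
  have hcoef : (P.map (Ideal.Quotient.mk I)).coeff (q * (m - 1)) = (m : A ⧸ I) * b ^ q := by
    rcases subsingleton_or_nontrivial (A ⧸ I) with hs | hnt
    · exact Subsingleton.elim _ _
    · have hfrob : (Polynomial.X + Polynomial.C b) ^ q =
          Polynomial.X ^ q + Polynomial.C (b ^ q) := by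
        rcases CharP.char_is_prime_or_zero k (ringChar k) with hpp | hp0
        · haveI : Fact (ringChar k).Prime := ⟨hpp⟩
          haveI : CharP (A ⧸ I) (ringChar k) :=
            charP_of_injective_algebraMap (algebraMap k (A ⧸ I)).injective (ringChar k)
          rw [← hq, add_pow_char_pow, ← Polynomial.C_pow]
        · have hq' : q = 1 := by
            rw [← hq, hp0]
            simp
          rw [hq', pow_one, pow_one, pow_one]
      have hexp : (Polynomial.X + Polynomial.C b) ^ (q * m) =
          Polynomial.expand (A ⧸ I) q ((Polynomial.X + Polynomial.C (b ^ q)) ^ m) := by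
        have hgen : ∀ c : A ⧸ I, Polynomial.expand (A ⧸ I) q
            ((Polynomial.X + Polynomial.C c) ^ m) = (Polynomial.X ^ q + Polynomial.C c) ^ m := by
          intro c
          rw [map_pow, map_add, Polynomial.expand_X, Polynomial.expand_C]
        rw [pow_mul, hfrob, hgen]
      rw [hPbar, hexp, Polynomial.coeff_expand_mul' hq1, Polynomial.coeff_X_add_C_pow]
      have h1 : m - (m - 1) = 1 := by omega
      have h2 : m.choose (m - 1) = m := by
        obtain ⟨m', rfl⟩ : ∃ m', m = m' + 1 := ⟨m - 1, by omega⟩
        simp
      rw [h1, h2, pow_one, mul_comm]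
  refine ⟨algebraMap k A (m : k)⁻¹ * P.coeff (q * (m - 1)), ?_, ?_⟩
  · intro g
    rw [smul_mul', smul_algebraMap, hinv]
  · rw [map_mul, ← Polynomial.coeff_map, hcoef, ← mul_assoc]
    have h3 : Ideal.Quotient.mk I (algebraMap k A (m : k)⁻¹) * (m : A ⧸ I) = 1 := by
      have h4 : (m : A ⧸ I) = Ideal.Quotient.mk I (algebraMap k A (m : k)) := by
        rw [map_natCast, map_natCast]
      rw [h4, ← map_mul, ← map_mul, inv_mul_cancel₀ hmk, map_one, map_one]
    rw [h3, one_mul]

end Groth.Agent.S13061
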