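import Groth.Statements.S13062
import Groth.Agent.Lib.Lead.PtCount4

set_option autoImplicit false
universe u
open CategoryTheory AlgebraicGeometry
open Zeta

namespace Groth.Agent.S13062

/-- If X is a variety of dimension r over a finite field k with q elements, there is a constant c_X > 0
with #X(F_{q^e}) ≤ c_X q^{re} for every e ≥ 1. Stated for any scheme of finite type over k of
dimension at most r, with a natural-number constant. -/
theorem result {k : Type u} [Field k] [Finite k] {X : Scheme.{u}}
    (f : X ⟶ Spec (CommRingCat.of k)) [LocallyOfFiniteType f] [QuasiCompact f] (r : ℕ)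
    (hr : topologicalKrullDim X ≤ r) :
    ∃ c : ℕ, ∀ (k' : Type u) [Field k'] [Algebra k k'] [Finite k'],
      SgaExt.pointCount f k' ≤ c * Nat.card k ^ (r * Module.finrank k k') := by
  classical
  let φ : ULift.{u} ℤ →+* k :=
    (Int.castRingHom k).comp (ULift.ringEquiv : ULift.{u} ℤ ≃+* ℤ).toRingHom
  have hφ : φ.FiniteType := RingHom.FiniteType.of_finite (by
    unfold RingHom.Finite
    exact @Module.Finite.of_finite (ULift.{u} ℤ) k _ _ φ.toAlgebra.toModule _)
  let g : Spec (CommRingCat.of k) ⟶ Spec (CommRingCat.of (ULift.{u} ℤ)) :=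
    Spec.map (CommRingCat.ofHom φ)
  haveI : LocallyOfFiniteType g :=
    (HasRingHomProperty.Spec_iff (P := @LocallyOfFiniteType)).mpr hφ
  haveI : LocallyOfFiniteType (f ≫ g) := inferInstance
  haveI : QuasiCompact (f ≫ g) := inferInstance
  obtain ⟨c, p₀, h⟩ := Groth.Agent.Lib.Lead.PtCount.exists_card_points_le (f ≫ g) r hr
  obtain ⟨p, hpk⟩ := CharP.exists k
  have hp : p.Prime := CharP.char_is_prime k p
  refine ⟨c, fun k' _ _ _ => ?_⟩
  haveI : CharP k' p := charP_of_injective_algebraMap (algebraMap k k').injective p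
  obtain ⟨hfin, -, hle⟩ := h k' p hp
  have h1 : SgaExt.pointCount f k' ≤ Nat.card (Spec (CommRingCat.of k') ⟶ X) := by
    unfold SgaExt.pointCount
    exact Nat.card_le_card_of_injective Subtype.val Subtype.val_injective
  have h2 : Nat.card k' = Nat.card k ^ Module.finrank k k' := Module.natCard_eq_pow_finrank
  calc SgaExt.pointCount f k' ≤ Nat.card (Spec (CommRingCat.of k') ⟶ X) := h1
    _ ≤ c * Nat.card k' ^ r := hle
    _ = c * Nat.card k ^ (r * Module.finrank k k') := by rw [h2, ← pow_mul, mul_comm r]

end Groth.Agent.S13062
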