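import Groth.Statements.S13066
import Mathlib

set_option autoImplicit false
universe u
open Zeta

namespace Groth.Agent.S13066

section Aux
open MvPolynomial

/-- `geoS p e = 1 + p + … + p^(e-1)` -/
def geoS (p : ℕ) : ℕ → ℕ
  | 0 => 0
  | (e + 1) => 1 + p * geoS p e

theorem eq_cst_of_sum_eq {n N : ℕ} (a : Fin (n + 1) →₀ ℕ) (hsum : a.degree = (n + 1) * N)
    (hle : ∀ j, N ≤ a j) : a = Finsupp.equivFunOnFinite.symm fun _ : Fin (n + 1) => N := by
  have h1 : ∑ _j : Fin (n + 1), N = ∑ j : Fin (n + 1), a j := by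
    rw [← Finsupp.degree_eq_sum, hsum, Finset.sum_const, Finset.card_univ, Fintype.card_fin,
      smul_eq_mul]
  have h2 := (Finset.sum_eq_sum_iff_of_le (s := Finset.univ) (f := fun _ : Fin (n + 1) => N)
    (g := fun j => a j) (fun j _ => hle j)).mp h1
  ext j
  change a j = N
  exact (h2 j (Finset.mem_univ j)).symm

theorem coeff_pow_geo {k : Type*} [Field k] (p : ℕ) [hp : Fact p.Prime] [CharP k p] (n : ℕ)
    (f : MvPolynomial (Fin (n + 1)) k) (hf : f.IsHomogeneous (n + 1)) (e : ℕ) :
    coeff (Finsupp.equivFunOnFinite.symm fun _ : Fin (n + 1) => p ^ e - 1) (f ^ (p ^ e - 1)) =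
      (coeff (Finsupp.equivFunOnFinite.symm fun _ : Fin (n + 1) => p - 1) (f ^ (p - 1))) ^
        geoS p e := by
  classical
  haveI : ExpChar k p := ExpChar.prime hp.out
  have hp1 : 1 ≤ p := hp.out.one_lt.le
  induction e with
  | zero =>
    have h0 : (Finsupp.equivFunOnFinite.symm fun _ : Fin (n + 1) => p ^ 0 - 1) = 0 := by
      ext j
      change p ^ 0 - 1 = 0
      simp
    rw [h0]
    simp [geoS]
  | succ e ih =>
    set g := f ^ (p - 1) with hg
    set h := f ^ (p ^ e - 1) with hh
    have hPe : 1 ≤ p ^ e := Nat.one_le_pow _ _ hp.out.pos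
    have hexp : p ^ (e + 1) - 1 = (p - 1) + (p ^ e - 1) * p := by
      rw [pow_succ, Nat.sub_mul, one_mul]
      have : p ≤ p ^ e * p := Nat.le_mul_of_pos_left p hPe
      omega
    have hfact : f ^ (p ^ (e + 1) - 1) = g * h ^ p := by
      rw [hexp, pow_add, pow_mul]
    have hghom : g.IsHomogeneous ((n + 1) * (p - 1)) := hf.pow (p - 1)
    rw [hfact, coeff_mul]
    have hb : (Finsupp.equivFunOnFinite.symm fun _ : Fin (n + 1) => p ^ (e + 1) - 1) =
        (Finsupp.equivFunOnFinite.symm fun _ : Fin (n + 1) => p - 1) +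
          p • (Finsupp.equivFunOnFinite.symm fun _ : Fin (n + 1) => p ^ e - 1) := by
      ext j
      change p ^ (e + 1) - 1 = (p - 1) + p * (p ^ e - 1)
      rw [hexp, mul_comm]
    rw [Finset.sum_eq_single
      ((⟨Finsupp.equivFunOnFinite.symm fun _ : Fin (n + 1) => p - 1,
        p • (Finsupp.equivFunOnFinite.symm fun _ : Fin (n + 1) => p ^ e - 1)⟩ :
        (Fin (n + 1) →₀ ℕ) × (Fin (n + 1) →₀ ℕ)))]
    · simp only
      rw [← map_frobenius_expand p (f := h), coeff_map, coeff_expand_smul p hp.out.ne_zero,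
        frobenius_def, ih, show geoS p (e + 1) = 1 + p * geoS p e from rfl, pow_add, pow_one,
        mul_comm p, pow_mul]
    · rintro ⟨a, b⟩ hab hne
      replace hab : a + b = _ := Finset.HasAntidiagonal.mem_antidiagonal.mp hab
      simp only
      by_contra hcon
      have ha : coeff a g ≠ 0 := left_ne_zero_of_mul hcon
      have hb' : coeff b (h ^ p) ≠ 0 := right_ne_zero_of_mul hcon
      have hdvd : ∀ j, p ∣ b j := by
        intro j
        by_contra hnd
        apply hb'
        rw [← map_frobenius_expand p (f := h), coeff_map, coeff_expand_of_not_dvd h hnd,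
          map_zero]
      have hdeg : a.degree = (n + 1) * (p - 1) := by
        by_contra hd
        exact ha (hghom.coeff_eq_zero hd)
      have hle : ∀ j, p - 1 ≤ a j := by
        intro j
        have hj : a j + b j = p ^ (e + 1) - 1 := by
          have := congrArg (fun m : Fin (n + 1) →₀ ℕ => m j) hab
          exact this
        have hPe1 : 1 ≤ p ^ (e + 1) := Nat.one_le_pow _ _ hp.out.pos
        have h1 : p ∣ a j + 1 := by
          have h2 : a j + 1 + b j = p ^ (e + 1) := by omega
          have h3 : p ∣ a j + 1 + b j := h2 ▸ dvd_pow_self p (Nat.succ_ne_zero e)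
          exact (Nat.dvd_add_iff_left (hdvd j)).mpr h3
        have := Nat.le_of_dvd (Nat.succ_pos _) h1
        omega
      have haeq := eq_cst_of_sum_eq a hdeg hle
      apply hne
      have hbeq : b = p • (Finsupp.equivFunOnFinite.symm fun _ : Fin (n + 1) => p ^ e - 1) := by
        rw [haeq, hb] at hab
        exact add_left_cancel hab
      rw [haeq, hbeq]
    · intro hnot
      exfalso
      apply hnot
      exact Finset.HasAntidiagonal.mem_antidiagonal.mpr hb.symm

theorem geoS_ne_zero (p e : ℕ) (he : e ≠ 0) : geoS p e ≠ 0 := by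
  obtain ⟨e', rfl⟩ := Nat.exists_eq_succ_of_ne_zero he
  change 1 + p * geoS p e' ≠ 0
  omega

end Aux

/-- Let k be a finite field with q elements and characteristic p, n ≥ 2, and f ∈ k[x_0, …, x_n]
homogeneous of degree n + 1. Then the coefficient of (x_0 ⋯ x_n)^{q−1} in f^{q−1} is nonzero if and
only if the coefficient of (x_0 ⋯ x_n)^{p−1} in f^{p−1} is nonzero. -/
theorem result {k : Type u} [Field k] [Finite k]
    (p : ℕ) [CharP k p] (n : ℕ) (hn : 2 ≤ n) (f : MvPolynomial (Fin (n + 1)) k)
    (hf : f.IsHomogeneous (n + 1)) :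
    MvPolynomial.coeff (Finsupp.equivFunOnFinite.symm fun _ : Fin (n + 1) => Nat.card k - 1)
        (f ^ (Nat.card k - 1)) ≠ 0 ↔
      MvPolynomial.coeff (Finsupp.equivFunOnFinite.symm fun _ : Fin (n + 1) => p - 1)
        (f ^ (p - 1)) ≠ 0 := by
  classical
  haveI : Fintype k := Fintype.ofFinite k
  haveI hp : Fact p.Prime := ⟨CharP.char_is_prime k p⟩
  obtain ⟨e, -, hq⟩ := FiniteField.card k p
  have hq' : Nat.card k = p ^ (e : ℕ) := by rw [Nat.card_eq_fintype_card, hq]
  rw [hq', coeff_pow_geo p n f hf (e : ℕ)]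
  exact pow_ne_zero_iff (geoS_ne_zero p e e.pos.ne')

end Groth.Agent.S13066
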