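import Groth.Statements.S13065
import Mathlib
import Groth.Agent.S13066

set_option autoImplicit false
universe u
open Zeta

namespace Groth.Agent.S13065

section Aux
open MvPolynomial Finset

theorem sum_pow_all {K : Type*} [Field K] [Fintype K] [DecidableEq K] (i : ℕ) :
    ∑ x : K, x ^ i = if i ≠ 0 ∧ (Fintype.card K - 1) ∣ i then (-1 : K) else 0 := by
  by_cases hi : i = 0
  · subst hi
    simp [FiniteField.cast_card_eq_zero]
  · let φ : Kˣ ↪ K := ⟨fun x ↦ x, Units.val_injective⟩
    have hmap : univ.map φ = univ \ {0} := by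
      ext x
      simp only [mem_map, mem_univ, Function.Embedding.coeFn_mk, true_and, mem_sdiff,
        mem_singleton, φ]
      exact isUnit_iff_ne_zero
    have h1 : ∑ x : K, x ^ i = ∑ x : Kˣ, (x ^ i : K) := by
      calc ∑ x : K, x ^ i = ∑ x ∈ univ \ {(0 : K)}, x ^ i := by
            rw [← sum_sdiff ({0} : Finset K).subset_univ, sum_singleton, zero_pow hi, add_zero]
        _ = ∑ x : Kˣ, (x ^ i : K) := by simp [φ, ← hmap, univ.sum_map φ]
    rw [h1, FiniteField.sum_pow_units K i]
    simp [hi]

end Aux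

/-- Let k be a finite field with q elements and characteristic p, n ≥ 2, and f ∈ k[x_0, …, x_n]
homogeneous of degree n + 1, defining the hypersurface Z ⊂ P^n_k. Then #Z(F_q) ≢ 1 (mod p) if and
only if the coefficient of (x_0 ⋯ x_n)^{q−1} in f^{q−1} is nonzero. Stated through the affine count:
#Z(F_q) ≡ 1 (mod p) exactly when p divides the number of zeros of f in k^{n+1} (as (q − 1) #Z(F_q) +
1 is that number). -/
theorem result {k : Type u} [Field k] [Finite k] (p : ℕ)
    [CharP k p] (n : ℕ) (hn : 2 ≤ n) (f : MvPolynomial (Fin (n + 1)) k)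
    (hf : f.IsHomogeneous (n + 1)) :
    p ∣ Nat.card {a : Fin (n + 1) → k // MvPolynomial.eval a f = 0} ↔
      MvPolynomial.coeff (Finsupp.equivFunOnFinite.symm fun _ : Fin (n + 1) => Nat.card k - 1)
        (f ^ (Nat.card k - 1)) = 0 := by
  classical
  haveI : Fintype k := Fintype.ofFinite k
  have hq : Nat.card k = Fintype.card k := Nat.card_eq_fintype_card
  rw [hq]
  set q := Fintype.card k with hqdef
  have hq2 : 1 < q := Fintype.one_lt_card
  have hq1 : q - 1 ≠ 0 := by omega
  set F := f ^ (q - 1) with hF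
  have hFhom : F.IsHomogeneous ((n + 1) * (q - 1)) := hf.pow (q - 1)
  set c := MvPolynomial.coeff (Finsupp.equivFunOnFinite.symm fun _ : Fin (n + 1) => q - 1) F
    with hc
  have hsumF : ∑ a : Fin (n + 1) → k, MvPolynomial.eval a F = c * (-1) ^ (n + 1) := by
    have h1 : ∀ a : Fin (n + 1) → k, MvPolynomial.eval a F =
        ∑ m ∈ F.support, MvPolynomial.coeff m F * ∏ j, a j ^ m j :=
      fun a => MvPolynomial.eval_eq' a F
    simp_rw [h1]
    rw [Finset.sum_comm]
    have h2 : ∀ m : Fin (n + 1) →₀ ℕ,
        ∑ a : Fin (n + 1) → k, MvPolynomial.coeff m F * ∏ j, a j ^ m j =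
          MvPolynomial.coeff m F * ∏ j, (∑ x : k, x ^ m j) := by
      intro m
      rw [← Finset.mul_sum, Finset.prod_univ_sum, Fintype.piFinset_univ]
    simp_rw [h2]
    rw [Finset.sum_eq_single (Finsupp.equivFunOnFinite.symm fun _ : Fin (n + 1) => q - 1)]
    · congr 1
      have hj : ∀ j : Fin (n + 1),
          (∑ x : k, x ^ ((Finsupp.equivFunOnFinite.symm fun _ : Fin (n + 1) => q - 1) j)) =
            -1 := by
        intro j
        change ∑ x : k, x ^ (q - 1) = -1
        rw [sum_pow_all, if_pos ⟨hq1, dvd_rfl⟩]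
      rw [Finset.prod_congr rfl (fun j _ => hj j), Finset.prod_const, Finset.card_univ,
        Fintype.card_fin]
    · intro m hm hne
      by_contra hcon
      have hprod : ∏ j, (∑ x : k, x ^ m j) ≠ 0 := right_ne_zero_of_mul hcon
      have hcoef : MvPolynomial.coeff m F ≠ 0 := left_ne_zero_of_mul hcon
      have hj : ∀ j, q - 1 ≤ m j := by
        intro j
        have hne0 : (∑ x : k, x ^ m j) ≠ 0 := fun h0 =>
          hprod (Finset.prod_eq_zero (Finset.mem_univ j) h0)
        rw [sum_pow_all] at hne0
        by_contra hlt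
        apply hne0
        rw [if_neg]
        rintro ⟨h0, hd⟩
        exact hlt (Nat.le_of_dvd (Nat.pos_of_ne_zero h0) hd)
      have hdeg : m.degree = (n + 1) * (q - 1) := by
        by_contra hd
        exact hcoef (hFhom.coeff_eq_zero hd)
      exact hne (Groth.Agent.S13066.eq_cst_of_sum_eq m hdeg hj)
    · intro hnot
      rw [MvPolynomial.notMem_support_iff.mp hnot, zero_mul]
  have hcount : ((Nat.card {a : Fin (n + 1) → k // MvPolynomial.eval a f = 0} : ℕ) : k) =
      ∑ a : Fin (n + 1) → k, (1 - MvPolynomial.eval a F) := by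
    rw [Nat.card_eq_fintype_card, Fintype.card_subtype, Finset.card_filter, Nat.cast_sum]
    refine Finset.sum_congr rfl fun a _ => ?_
    rw [hF, map_pow]
    by_cases ha : MvPolynomial.eval a f = 0
    · rw [if_pos ha, ha, zero_pow hq1, sub_zero, Nat.cast_one]
    · rw [if_neg ha, FiniteField.pow_card_sub_one_eq_one _ ha, sub_self, Nat.cast_zero]
  have hone : ∑ _a : Fin (n + 1) → k, (1 : k) = 0 := by
    rw [Finset.sum_const, Finset.card_univ, Fintype.card_fun, nsmul_eq_mul, mul_one,
      Nat.cast_pow, FiniteField.cast_card_eq_zero, Fintype.card_fin,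
      zero_pow (Nat.succ_ne_zero n)]
  rw [← CharP.cast_eq_zero_iff k p, hcount, Finset.sum_sub_distrib, hone, hsumF, zero_sub,
    neg_eq_zero]
  constructor
  · intro h
    exact (mul_eq_zero.mp h).resolve_right (pow_ne_zero _ (neg_ne_zero.mpr one_ne_zero))
  · intro h
    rw [h, zero_mul]

end Groth.Agent.S13065
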