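import Groth.Statements.S13070
import Groth.Agent.Lib.Lead.PtCount3
import Groth.Agent.Lib.Helper6.FtIntPoints

set_option autoImplicit false
universe u
open CategoryTheory AlgebraicGeometry
open Zeta

namespace Groth.Agent.S13070

open Groth.Agent.Lib.Lead.PtCount in
theorem charP_of_card {F : Type*} [Field F] {p m : ℕ} (hp : p.Prime)
    (hF : Nat.card F = p ^ m) : CharP F p := by
  haveI : Finite F := Nat.finite_of_card_ne_zero (by rw [hF]; exact pow_ne_zero _ hp.ne_zero)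
  haveI : Fintype F := Fintype.ofFinite F
  obtain ⟨p', hp'⟩ := CharP.exists F
  have h0 : ((p ^ m : ℕ) : F) = 0 := by
    rw [← hF, Nat.card_eq_fintype_card]
    exact Nat.cast_card_eq_zero F
  have h1 : p' ∣ p ^ m := (CharP.cast_eq_zero_iff F p' _).mp h0
  have hp'prime : p'.Prime := by
    rcases CharP.char_is_prime_or_zero F p' with h | h
    · exact h
    · subst h
      exact absurd (zero_dvd_iff.mp h1) (pow_ne_zero _ hp.ne_zero)
  have : p' = p := (Nat.prime_dvd_prime_iff_eq hp'prime hp).mp (hp'prime.dvd_of_dvd_pow h1)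
  exact this ▸ hp'

theorem rpow_aux (p m r : ℕ) :
    (p : ℝ) ^ ((m : ℝ) * (r : ℝ)) = ((p ^ m : ℕ) : ℝ) ^ r := by
  rw [Real.rpow_mul (Nat.cast_nonneg p), Real.rpow_natCast, Real.rpow_natCast, Nat.cast_pow]

theorem rpow_aux' (p m r : ℕ) (hp : 0 < p) :
    (p : ℝ) ^ ((m : ℝ) * ((r : ℝ) - 1)) * ((p ^ m : ℕ) : ℝ) = ((p ^ m : ℕ) : ℝ) ^ r := by
  have hQ : (0 : ℝ) < (p : ℝ) ^ m := by positivity
  rw [Real.rpow_mul (Nat.cast_nonneg p), Real.rpow_natCast, Nat.cast_pow,
    Real.rpow_sub_one hQ.ne', Real.rpow_natCast, div_mul_cancel₀ _ hQ.ne']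


/-- For an arithmetic scheme X (of finite type over ℤ) of dimension r there are c_X > 0 and p₀ such that
#X(F_{p^m}) ≤ c_X p^{m(r−1)} for all primes p ≥ p₀ and m ≥ 1, and #X(F_{p^m}) ≤ c_X p^{mr} for p <
p₀ and m ≥ 1. Here #X(F) is the number of morphisms Spec F → X, and the dimension is only assumed ≤
r. -/
theorem result {X : Scheme.{u}}
    (f : X ⟶ Spec (CommRingCat.of (ULift.{u} ℤ))) [LocallyOfFiniteType f] [QuasiCompact f] (r : ℕ)
    (hr : topologicalKrullDim X ≤ r) :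
    ∃ (c : ℝ) (p₀ : ℕ), 0 < c ∧ ∀ (p m : ℕ), p.Prime → 1 ≤ m →
      ∀ (F : Type u) [Field F], Nat.card F = p ^ m →
        (p₀ ≤ p → (Nat.card (Spec (CommRingCat.of F) ⟶ X) : ℝ) ≤
            c * (p : ℝ) ^ ((m : ℝ) * ((r : ℝ) - 1))) ∧
        (p < p₀ → (Nat.card (Spec (CommRingCat.of F) ⟶ X) : ℝ) ≤ c * (p : ℝ) ^ ((m : ℝ) * r)) := by
  classical
  haveI : CompactSpace X := QuasiCompact.compactSpace_of_compactSpace f
  obtain ⟨s, hsfin, hscov⟩ :=
    (isCompact_iff_finite_and_eq_biUnion_affineOpens (U := (⊤ : X.Opens))).mp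
      (by simpa using isCompact_univ)
  haveI : Fintype s := hsfin.fintype
  have hA : ∀ U : s, IsAffineOpen (U.1.1 : X.Opens) := fun U => U.1.2
  have hFT : ∀ U : s, Algebra.FiniteType ℤ Γ(X, U.1.1) := fun U =>
    Groth.Agent.Lib.Helper6.FtInt.finiteType_int_sections f U.1.1 U.1.2
  have hdim : ∀ U : s, ringKrullDim Γ(X, U.1.1) ≤ r := by
    intro U
    rw [← PrimeSpectrum.topologicalKrullDim_eq_ringKrullDim]
    exact ((hA U).fromSpec.isOpenEmbedding.isInducing.topologicalKrullDim_le).trans hr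
  have hbound : ∀ U : s, ∃ c p₀ : ℕ,
      ∀ (F : Type u) [Field F] [Finite F] (p : ℕ) [CharP F p], p.Prime →
      (p₀ ≤ p → Nat.card (Γ(X, U.1.1) →+* F) * Nat.card F ≤ c * Nat.card F ^ r) ∧
        Nat.card (Γ(X, U.1.1) →+* F) ≤ c * Nat.card F ^ r := by
    intro U
    haveI := hFT U
    exact Groth.Agent.Lib.Lead.PtCount.exists_bound.{u, u} Γ(X, U.1.1) r (hdim U)
  choose c p₀ hcp using hbound
  refine ⟨((∑ U, c U : ℕ) : ℝ) + 1, ∑ U, p₀ U, by positivity, fun p m hp hm F _ hF => ?_⟩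
  haveI : Finite F := Nat.finite_of_card_ne_zero (by rw [hF]; exact pow_ne_zero _ hp.ne_zero)
  haveI : CharP F p := charP_of_card hp hF
  have hfinU : ∀ U : s, Finite (Γ(X, U.1.1) →+* F) := fun U => by
    haveI := hFT U
    exact Groth.Agent.Lib.Helper6.FtInt.finite_ringHom_of_finiteType_int _ F
  let Θ : (Σ U : s, (Γ(X, U.1.1) →+* F)) → (Spec (CommRingCat.of F) ⟶ X) :=
    fun x => Spec.map (CommRingCat.ofHom x.2) ≫ (hA x.1).fromSpec
  have hΘ : Function.Surjective Θ := by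
    intro g
    let pt : Spec (CommRingCat.of F) := (⊥ : PrimeSpectrum F)
    have hx : g pt ∈ (⊤ : X.Opens) := trivial
    rw [hscov] at hx
    simp only [TopologicalSpace.Opens.mem_iSup] at hx
    obtain ⟨U, hUs, hxU⟩ := hx
    have hU : IsAffineOpen (U : X.Opens) := U.2
    have hrange : Set.range g ⊆ Set.range hU.fromSpec := by
      rw [hU.range_fromSpec]
      rintro _ ⟨y, rfl⟩
      have : y = pt := Subsingleton.elim (α := PrimeSpectrum F) y pt
      rw [this]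
      exact hxU
    let lft := IsOpenImmersion.lift hU.fromSpec g hrange
    refine ⟨⟨⟨U, hUs⟩, (Spec.preimage lft).hom⟩, ?_⟩
    show Spec.map (CommRingCat.ofHom (Spec.preimage lft).hom) ≫ hU.fromSpec = g
    rw [CommRingCat.ofHom_hom, Spec.map_preimage]
    exact IsOpenImmersion.lift_fac hU.fromSpec g hrange
  have hcard : Nat.card (Spec (CommRingCat.of F) ⟶ X) ≤
      ∑ U : s, Nat.card (Γ(X, U.1.1) →+* F) := by
    calc Nat.card (Spec (CommRingCat.of F) ⟶ X)
        ≤ Nat.card (Σ U : s, (Γ(X, U.1.1) →+* F)) := Nat.card_le_card_of_surjective Θ hΘ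
      _ = ∑ U : s, Nat.card (Γ(X, U.1.1) →+* F) := Nat.card_sigma
  have hqpos : 0 < Nat.card F := Nat.card_pos
  have hq' : (0 : ℝ) < (Nat.card F : ℝ) := by exact_mod_cast hqpos
  constructor
  · intro hp₀
    have h1 : Nat.card (Spec (CommRingCat.of F) ⟶ X) * Nat.card F ≤
        (∑ U, c U) * Nat.card F ^ r := by
      calc Nat.card (Spec (CommRingCat.of F) ⟶ X) * Nat.card F
          ≤ (∑ U : s, Nat.card (Γ(X, U.1.1) →+* F)) * Nat.card F :=
            Nat.mul_le_mul_right _ hcard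
        _ = ∑ U : s, Nat.card (Γ(X, U.1.1) →+* F) * Nat.card F := Finset.sum_mul _ _ _
        _ ≤ ∑ U : s, c U * Nat.card F ^ r := Finset.sum_le_sum fun U _ =>
            ((hcp U F p hp).1 ((Finset.single_le_sum (fun _ _ => Nat.zero_le _)
              (Finset.mem_univ U)).trans hp₀))
        _ = (∑ U, c U) * Nat.card F ^ r := (Finset.sum_mul _ _ _).symm
    have h2 : ((Nat.card (Spec (CommRingCat.of F) ⟶ X) : ℝ)) * (Nat.card F : ℝ) ≤
        ((∑ U, c U : ℕ) : ℝ) * (Nat.card F : ℝ) ^ r := by exact_mod_cast h1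
    have h3 := rpow_aux' p m r hp.pos
    rw [← hF] at h3
    have hP : 0 < (p : ℝ) ^ ((m : ℝ) * ((r : ℝ) - 1)) :=
      Real.rpow_pos_of_pos (by exact_mod_cast hp.pos) _
    rw [← h3] at h2
    have h4 : ((Nat.card (Spec (CommRingCat.of F) ⟶ X) : ℝ)) ≤
        ((∑ U, c U : ℕ) : ℝ) * (p : ℝ) ^ ((m : ℝ) * ((r : ℝ) - 1)) := by
      refine le_of_mul_le_mul_right ?_ hq'
      rw [mul_assoc]
      exact h2
    nlinarith
  · intro _
    have h1 : Nat.card (Spec (CommRingCat.of F) ⟶ X) ≤ (∑ U, c U) * Nat.card F ^ r := by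
      calc Nat.card (Spec (CommRingCat.of F) ⟶ X)
          ≤ ∑ U : s, Nat.card (Γ(X, U.1.1) →+* F) := hcard
        _ ≤ ∑ U : s, c U * Nat.card F ^ r := Finset.sum_le_sum fun U _ => (hcp U F p hp).2
        _ = (∑ U, c U) * Nat.card F ^ r := (Finset.sum_mul _ _ _).symm
    have h2 : ((Nat.card (Spec (CommRingCat.of F) ⟶ X) : ℝ)) ≤
        ((∑ U, c U : ℕ) : ℝ) * (Nat.card F : ℝ) ^ r := by exact_mod_cast h1
    have h3 := rpow_aux p m r
    rw [← hF] at h3
    rw [h3]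
    have hQ : (0 : ℝ) ≤ (Nat.card F : ℝ) ^ r := by positivity
    nlinarith

end Groth.Agent.S13070
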