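import Groth.Statements.S13071
import Mathlib
import Groth.Agent.Lib.Helper11.SepFibre

set_option autoImplicit false
universe u
open CategoryTheory AlgebraicGeometry Limits
open Zeta

namespace Groth.Agent.S13071

open Groth.Agent.Lib.Helper11.FBaseLib Groth.Agent.Lib.Helper11.FBaseLib2
  Groth.Agent.Lib.Helper11.BcLevels Groth.Agent.Lib.Helper11.SepFibre

/-- For a variety X over a perfect field k with algebraic closure k̄, the fibres of the projection π :
X_{k̄} → X are exactly the orbits of G(k̄/k) acting on X_{k̄} (σ acting as id × Spec σ). Stated for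
any scheme of finite type over k; each τ_σ is pinned by τ_σ ≫ pr_1 = pr_1 and τ_σ ≫ pr_2 = pr_2 ≫
Spec σ. -/
theorem result {k : Type u} [Field k] [PerfectField k]
    {X : Scheme.{u}} (f : X ⟶ Spec (CommRingCat.of k)) [LocallyOfFiniteType f] [QuasiCompact f]
    (τ : (AlgebraicClosure k ≃ₐ[k] AlgebraicClosure k) →
      (pullback f (Spec.map (CommRingCat.ofHom (algebraMap k (AlgebraicClosure k)))) ⟶
        pullback f (Spec.map (CommRingCat.ofHom (algebraMap k (AlgebraicClosure k))))))
    (hτ1 : ∀ σ, τ σ ≫ pullback.fst f _ = pullback.fst f _)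
    (hτ2 : ∀ σ, τ σ ≫ pullback.snd f (Spec.map (CommRingCat.ofHom (algebraMap k (AlgebraicClosure k)))) =
        pullback.snd f _ ≫ Spec.map (CommRingCat.ofHom (σ : AlgebraicClosure k →+* AlgebraicClosure k)))
    (x y : ↑(pullback f (Spec.map (CommRingCat.ofHom (algebraMap k (AlgebraicClosure k)))))) :
    (pullback.fst f (Spec.map (CommRingCat.ofHom (algebraMap k (AlgebraicClosure k))))).base x =
        (pullback.fst f (Spec.map (CommRingCat.ofHom (algebraMap k (AlgebraicClosure k))))).base y ↔
      ∃ σ, (τ σ).base x = y := by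

  have hτ : ∀ σ : AlgebraicClosure k ≃ₐ[k] AlgebraicClosure k,
      τ σ = bcHom f (σ : AlgebraicClosure k →ₐ[k] AlgebraicClosure k) := by
    intro σ
    apply pullback.hom_ext
    · rw [hτ1 σ]
      exact (bcHom_π f (σ : AlgebraicClosure k →ₐ[k] AlgebraicClosure k)).symm
    · rw [hτ2 σ]
      exact (bcHom_str f (σ : AlgebraicClosure k →ₐ[k] AlgebraicClosure k)).symm
  constructor
  · intro h
    obtain ⟨σ, hσ⟩ := exists_bcHom_eq f (AlgebraicClosure k) y x h.symm
    refine ⟨σ, ?_⟩
    rw [hτ σ]
    exact hσ.symm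
  · rintro ⟨σ, rfl⟩
    have h1 := hτ1 σ
    have h2 : (τ σ ≫ pullback.fst f (Spec.map (CommRingCat.ofHom
      (algebraMap k (AlgebraicClosure k))))) x = (pullback.fst f (Spec.map (CommRingCat.ofHom
      (algebraMap k (AlgebraicClosure k))))) x := by rw [h1]
    exact h2.symm

end Groth.Agent.S13071
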