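import Groth.Statements.S13072
import Mathlib
import Groth.Agent.Lib.Helper11.GalInv

set_option autoImplicit false
universe u
open CategoryTheory AlgebraicGeometry Limits
open Zeta

namespace Groth.Agent.S13072

open Groth.Agent.Lib.Helper11.FBaseLib Groth.Agent.Lib.Helper11.FBaseLib2
  Groth.Agent.Lib.Helper11.BcLevels Groth.Agent.Lib.Helper11.SepFibre
  Groth.Agent.Lib.Helper11.GalComp

theorem specMap_appTop_pow {L : Type u} [Field L] (q : ℕ) (frobL : L →+* L)
    (hfrobL : ∀ x, frobL x = x ^ q) (y : Γ(Spec (CommRingCat.of L), ⊤)) :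
    (Spec.map (CommRingCat.ofHom frobL)).appTop y = y ^ q := by
  have h := ConcreteCategory.congr_hom (Scheme.ΓSpecIso_naturality (CommRingCat.ofHom frobL)) y
  have hinj : Function.Injective (Scheme.ΓSpecIso (CommRingCat.of L)).hom := by
    intro x1 x2 hx
    have := congrArg (Scheme.ΓSpecIso (CommRingCat.of L)).inv hx
    simpa using this
  apply hinj
  rw [map_pow]
  rw [CommRingCat.comp_apply, CommRingCat.comp_apply] at h
  rw [h]
  exact hfrobL _

theorem frob_naturality {X : Scheme.{u}} (q : ℕ) (FX : X ⟶ X)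
    (hle : ∀ U : X.Opens, U ≤ FX ⁻¹ᵁ U)
    (hFapp : ∀ (U : X.Opens) (s : Γ(X, U)), (FX.appLE U U (hle U)).hom s = s ^ q)
    {L : Type u} [Field L] (frobL : L →+* L) (hfrobL : ∀ x, frobL x = x ^ q)
    (t : Spec (CommRingCat.of L) ⟶ X) :
    t ≫ FX = Spec.map (CommRingCat.ofHom frobL) ≫ t := by
  haveI : Subsingleton ↥(Spec (CommRingCat.of L)) :=
    inferInstanceAs (Subsingleton (PrimeSpectrum L))
  haveI : Nonempty ↥(Spec (CommRingCat.of L)) :=
    inferInstanceAs (Nonempty (PrimeSpectrum L))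
  let pt : ↥(Spec (CommRingCat.of L)) := Nonempty.some inferInstance
  obtain ⟨U, hU, hxU⟩ : ∃ U : X.Opens, IsAffineOpen U ∧ t pt ∈ U := by
    obtain ⟨_, ⟨U, hU, rfl⟩, hxU, -⟩ := X.isBasis_affineOpens.exists_subset_of_mem_open
      (Set.mem_univ (t pt)) isOpen_univ
    exact ⟨U, hU, hxU⟩
  haveI : IsAffine U.toScheme := hU
  have hrange : Set.range t ⊆ Set.range U.ι := by
    rintro _ ⟨z, rfl⟩
    rw [Scheme.Opens.range_ι, Subsingleton.elim z pt]
    exact hxU
  let tU : Spec (CommRingCat.of L) ⟶ U.toScheme := IsOpenImmersion.lift U.ι t hrange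
  have htU : tU ≫ U.ι = t := IsOpenImmersion.lift_fac _ _ _
  have key : tU ≫ FX.resLE U U (hle U) = Spec.map (CommRingCat.ofHom frobL) ≫ tU := by
    apply ext_of_isAffine
    rw [Scheme.Hom.comp_appTop, Scheme.Hom.comp_appTop]
    ext s
    have h1 : (FX.resLE U U (hle U)).appTop s = s ^ q := by
      change ((FX.resLE U U (hle U)).app ⊤) s = s ^ q
      rw [Scheme.Hom.resLE_app_top]
      change U.topIso.inv.hom ((FX.appLE U U (hle U)).hom (U.topIso.hom.hom s)) = s ^ q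
      rw [hFapp, map_pow]
      congr 1
      exact CommRingCat.inv_hom_apply _ _
    simp only [CommRingCat.comp_apply]
    rw [h1, map_pow, specMap_appTop_pow q frobL hfrobL]
  rw [← htU, Category.assoc, ← Scheme.Hom.resLE_comp_ι FX (hle U), ← Category.assoc, key,
    Category.assoc]

section
variable {k K : Type u} [Field k] [Field K] [Algebra k K] {X : Scheme.{u}}
  (a : X ⟶ Spec (CommRingCat.of k))

theorem base_fixed (q : ℕ) (FX : X ⟶ X)
    (hle : ∀ U : X.Opens, U ≤ FX ⁻¹ᵁ U)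
    (hFapp : ∀ (U : X.Opens) (s : Γ(X, U)), (FX.appLE U U (hle U)).hom s = s ^ q)
    (σ : K →+* K) (hσ : ∀ c, σ c = c ^ q)
    (hq : ∀ (L : Type u) [Field L] (θ : K →+* L), ∃ frobL : L →+* L, ∀ x, frobL x = x ^ q)
    (G : FBase.bc a K ⟶ FBase.bc a K) (hG1 : G ≫ FBase.bcπ a K = FBase.bcπ a K ≫ FX)
    (hG2 : G ≫ FBase.bcStr a K = FBase.bcStr a K ≫ Spec.map (CommRingCat.ofHom σ))
    (w : ↥(FBase.bc a K)) : G w = w := by
  let i := (FBase.bc a K).fromSpecResidueField w
  let θc : CommRingCat.of K ⟶ (FBase.bc a K).residueField w :=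
    Spec.preimage (i ≫ FBase.bcStr a K)
  have hθ : Spec.map θc = i ≫ FBase.bcStr a K := Spec.map_preimage _
  obtain ⟨frobL, hfrobL⟩ := hq ((FBase.bc a K).residueField w) θc.hom
  have hcomm : i ≫ G = Spec.map (CommRingCat.ofHom frobL) ≫ i := by
    apply pullback.hom_ext
    · change _ ≫ FBase.bcπ a K = _ ≫ FBase.bcπ a K
      rw [Category.assoc, hG1, ← Category.assoc,
        frob_naturality q FX hle hFapp frobL hfrobL (i ≫ FBase.bcπ a K), Category.assoc]
    · change _ ≫ FBase.bcStr a K = _ ≫ FBase.bcStr a K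
      rw [Category.assoc, hG2, ← Category.assoc, ← hθ, Category.assoc, ← hθ, ← Spec.map_comp,
        ← Spec.map_comp]
      congr 1
      ext c
      simp [hσ, hfrobL]
  haveI : Subsingleton ↥(Spec ((FBase.bc a K).residueField w)) :=
    inferInstanceAs (Subsingleton (PrimeSpectrum ((FBase.bc a K).residueField w)))
  haveI : Nonempty ↥(Spec ((FBase.bc a K).residueField w)) :=
    inferInstanceAs (Nonempty (PrimeSpectrum ((FBase.bc a K).residueField w)))
  let pt : ↥(Spec ((FBase.bc a K).residueField w)) := Nonempty.some inferInstance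
  have hi : i pt = w := Scheme.fromSpecResidueField_apply _ _
  have h1 : G (i pt) = i ((Spec.map (CommRingCat.ofHom frobL)) pt) := by
    rw [← Scheme.Hom.comp_apply, hcomm, Scheme.Hom.comp_apply]
  rw [Subsingleton.elim ((Spec.map (CommRingCat.ofHom frobL)) pt) pt, hi] at h1
  exact h1

theorem stable_of_inv_frob_stable [Fintype k] [Algebra.IsAlgebraic k K]
    (W : Set ↥(FBase.bc a K)) (hW : IsClosed W)
    (hψ : ∀ w ∈ W, (bcHom a ((FiniteField.frobeniusAlgEquivOfAlgebraic k K).symm : K →ₐ[k] K)) w ∈ W)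
    (σ : K ≃ₐ[k] K) : ∀ w ∈ W, (bcHom a (σ : K →ₐ[k] K)) w ∈ W := by
  intro w hw
  by_contra hne
  obtain ⟨L, hL, V, hV, hyV, hVW⟩ := exists_level_nhds a K ((bcHom a (σ : K →ₐ[k] K)) w) Wᶜ
    hW.isOpen_compl hne
  haveI := hL
  haveI : Finite ↥L := Module.finite_of_finite k
  haveI : Normal k ↥L := inferInstance
  let Fr := FiniteField.frobeniusAlgEquivOfAlgebraic k K
  let ρ : (K ≃ₐ[k] K) →* (↥L ≃ₐ[k] ↥L) := AlgEquiv.restrictNormalHom ↥L
  have hcomm : ∀ (χ : K ≃ₐ[k] K) (x : ↥L), ((ρ χ x : ↥L) : K) = χ (x : K) := fun χ x =>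
    AlgEquiv.restrictNormal_commutes χ ↥L x
  have hρFr : ρ Fr = FiniteField.frobeniusAlgEquivOfAlgebraic k ↥L := by
    ext x
    rw [hcomm]
    rfl
  have hgen : ρ σ ∈ Subgroup.zpowers (ρ Fr) := by
    rw [hρFr]
    obtain ⟨n, hn⟩ := (FiniteField.bijective_frobeniusAlgEquivOfAlgebraic_pow k ↥L).2 (ρ σ)
    exact ⟨(n.1 : ℤ), by simpa using hn⟩
  rw [← Subgroup.zpowers_inv, ← mem_powers_iff_mem_zpowers] at hgen
  obtain ⟨N, hN⟩ := hgen
  have hτ : ρ (Fr⁻¹ ^ N) = ρ σ := by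
    rw [map_pow, map_inv]
    exact hN
  have hagree : ((σ : K →ₐ[k] K)).comp L.val = (((Fr⁻¹ ^ N : K ≃ₐ[k] K) : K →ₐ[k] K)).comp L.val := by
    ext x
    show σ (x : K) = (Fr⁻¹ ^ N : K ≃ₐ[k] K) (x : K)
    rw [← hcomm, ← hcomm, hτ]
  have hstab : ∀ N : ℕ, ∀ w ∈ W, (bcHom a (((Fr⁻¹ ^ N : K ≃ₐ[k] K)) : K →ₐ[k] K)) w ∈ W := by
    intro N
    induction N with
    | zero =>
      intro w hw
      have : (((Fr⁻¹ ^ 0 : K ≃ₐ[k] K)) : K →ₐ[k] K) = AlgHom.id k K := rfl
      rw [this, bcHom_id]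
      exact hw
    | succ n ih =>
      intro w hw
      have : (((Fr⁻¹ ^ (n + 1) : K ≃ₐ[k] K)) : K →ₐ[k] K) =
          (((Fr⁻¹ ^ n : K ≃ₐ[k] K)) : K →ₐ[k] K).comp ((Fr.symm : K ≃ₐ[k] K) : K →ₐ[k] K) := by
        rw [pow_succ]
        rfl
      rw [this, ← bcHom_comp_apply]
      exact hψ _ (ih w hw)
  have h1 : (bcHom a L.val) ((bcHom a (σ : K →ₐ[k] K)) w) =
      (bcHom a L.val) ((bcHom a (((Fr⁻¹ ^ N : K ≃ₐ[k] K)) : K →ₐ[k] K)) w) := by
    rw [bcHom_comp_apply, bcHom_comp_apply, hagree]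
  rw [h1] at hyV
  exact hVW hyV (hstab N w hw)

end

theorem core2 {k : Type u} [Field k] [Fintype k] {X : Scheme.{u}}
    (f : X ⟶ Spec (CommRingCat.of k)) (FX : X ⟶ X)
    (hle : ∀ U : X.Opens, U ≤ FX ⁻¹ᵁ U)
    (hFapp : ∀ (U : X.Opens) (s : Γ(X, U)), (FX.appLE U U (hle U)).hom s = s ^ Fintype.card k)
    (F : FBase.bc f (AlgebraicClosure k) ⟶ FBase.bc f (AlgebraicClosure k))
    (hF1 : F ≫ FBase.bcπ f (AlgebraicClosure k) = FBase.bcπ f (AlgebraicClosure k) ≫ FX)
    (hF2 : F ≫ FBase.bcStr f (AlgebraicClosure k) = FBase.bcStr f (AlgebraicClosure k))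
    (W : Set ↥(FBase.bc f (AlgebraicClosure k))) (hW : IsClosed W)
    (hFW : ∀ w ∈ W, F w ∈ W) :
    ∃ Y : Set X, IsClosed Y ∧ (FBase.bcπ f (AlgebraicClosure k)) ⁻¹' Y = W := by
  classical
  let Fr := FiniteField.frobeniusAlgEquivOfAlgebraic k (AlgebraicClosure k)
  have hG : ∀ w, (bcHom f (Fr : AlgebraicClosure k →ₐ[k] AlgebraicClosure k)) (F w) = w := by
    intro w
    exact base_fixed f (Fintype.card k) FX hle hFapp
      ((Fr : AlgebraicClosure k →ₐ[k] AlgebraicClosure k) : AlgebraicClosure k →+* AlgebraicClosure k)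
      (fun c => rfl)
      (fun L _ θ => by
        letI : Algebra k L := (θ.comp (algebraMap k (AlgebraicClosure k))).toAlgebra
        exact ⟨(FiniteField.frobeniusAlgHom k L : L →+* L), fun x => rfl⟩)
      (F ≫ bcHom f (Fr : AlgebraicClosure k →ₐ[k] AlgebraicClosure k))
      (by rw [Category.assoc, bcHom_π]; exact hF1)
      (by rw [Category.assoc, bcHom_str]; exact (reassoc_of% hF2) _) w
  have hψ : ∀ w ∈ W, (bcHom f (Fr.symm : AlgebraicClosure k →ₐ[k] AlgebraicClosure k)) w ∈ W := by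
    intro w hw
    have h1 : F w ∈ W := hFW w hw
    have h2 : (bcHom f (Fr.symm : AlgebraicClosure k →ₐ[k] AlgebraicClosure k)) w = F w := by
      conv_lhs => rw [← hG w]
      rw [bcHom_comp_apply]
      have : (Fr : AlgebraicClosure k →ₐ[k] AlgebraicClosure k).comp
          (Fr.symm : AlgebraicClosure k →ₐ[k] AlgebraicClosure k) = AlgHom.id k _ := by
        ext x; simp
      rw [this, bcHom_id]
      rfl
    rw [h2]
    exact h1
  have hall := stable_of_inv_frob_stable f W hW hψ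
  haveI := isIntegralHom_bcπ f (AlgebraicClosure k)
  refine ⟨(FBase.bcπ f (AlgebraicClosure k)) '' W,
    (FBase.bcπ f (AlgebraicClosure k)).isClosedMap W hW, ?_⟩
  apply Set.Subset.antisymm _ (Set.subset_preimage_image _ _)
  rintro y ⟨t, ht, hty⟩
  obtain ⟨σ, hσ⟩ := exists_bcHom_eq f (AlgebraicClosure k) y t hty.symm
  rw [hσ]
  exact hall σ t ht

/-- Case r = 1, to which the general case reduces by passing to X ×_k F_{q^r}. Let X be a variety over k
= F_q, k̄ an algebraic closure and F = Frob_{X,q} × id the induced endomorphism of X_{k̄}. A closed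
subset W ⊆ X_{k̄} is of the form Y_{k̄} for a closed Y ⊆ X (i.e. W = π⁻¹(Y), π the projection) if
and only if F(W) ⊆ W. Stated for schemes of finite type over k; F_X is pinned as the endomorphism
that is the identity on points and the q-th power on sections, F by F ≫ pr_1 = pr_1 ≫ F_X and F ≫
pr_2 = pr_2. -/
theorem result {k : Type u} [Field k] [Finite k]
    {X : Scheme.{u}} (f : X ⟶ Spec (CommRingCat.of k)) [LocallyOfFiniteType f] [QuasiCompact f]
    (FX : X ⟶ X) (hFb : FX.base = 𝟙 _) (hle : ∀ U : X.Opens, U ≤ FX ⁻¹ᵁ U)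
    (hFapp : ∀ (U : X.Opens) (s : Γ(X, U)), (FX.appLE U U (hle U)).hom s = s ^ Nat.card k)
    (F : FinFr.ext (AlgebraicClosure k) f ⟶ FinFr.ext (AlgebraicClosure k) f)
    (hF1 : F ≫ FinFr.extπ (AlgebraicClosure k) f = FinFr.extπ (AlgebraicClosure k) f ≫ FX)
    (hF2 : F ≫ FinFr.extStr (AlgebraicClosure k) f = FinFr.extStr (AlgebraicClosure k) f)
    (W : Set ↑(FinFr.ext (AlgebraicClosure k) f)) (hW : IsClosed W) :
    (∃ Y : Set X, IsClosed Y ∧ (FinFr.extπ (AlgebraicClosure k) f).base ⁻¹' Y = W) ↔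
      F.base '' W ⊆ W := by

  classical
  haveI : Fintype k := Fintype.ofFinite k
  have hq : Nat.card k = Fintype.card k := Nat.card_eq_fintype_card
  have hFbx : ∀ x : X, FX.base x = x := fun x => by rw [hFb]; rfl
  constructor
  · rintro ⟨Y, hY, rfl⟩
    rintro _ ⟨w, hw, rfl⟩
    show (FinFr.extπ (AlgebraicClosure k) f).base (F.base w) ∈ Y
    have h1 : (FinFr.extπ (AlgebraicClosure k) f).base (F.base w) =
        FX.base ((FinFr.extπ (AlgebraicClosure k) f).base w) := by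
      have := congrArg (fun g : FinFr.ext (AlgebraicClosure k) f ⟶ X => g.base w) hF1
      exact this
    rw [h1, hFbx]
    exact hw
  · intro hFW
    exact core2 f FX hle (fun U s => by rw [hFapp, hq]) F hF1 hF2 W hW
      (fun w hw => hFW ⟨w, hw, rfl⟩)

end Groth.Agent.S13072
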