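import Groth.Statements.S13079
import Groth.Agent.Lib.Helper11.FB2
import Groth.Agent.Lib.Helper11.ST1

set_option autoImplicit false
universe u
open CategoryTheory AlgebraicGeometry Limits
open Zeta

namespace Groth.Agent.S13079

section act
variable {S Y XG : Scheme.{u}} {H : Type u} [Group H]
  (gX : XG ⟶ S) (fY : Y ⟶ S) (σ : H →* Aut Y) (hσ : ∀ h, (σ h).hom ≫ fY = fY)

noncomputable def actHom (h : H) : pullback gX fY ⟶ pullback gX fY :=
  pullback.map gX fY gX fY (𝟙 _) (σ h).hom (𝟙 _) (by simp) (by simp [hσ h])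

theorem actHom_fst (h : H) : actHom gX fY σ hσ h ≫ pullback.fst gX fY = pullback.fst gX fY := by
  unfold actHom
  rw [pullback.lift_fst, Category.comp_id]

theorem actHom_snd (h : H) :
    actHom gX fY σ hσ h ≫ pullback.snd gX fY = pullback.snd gX fY ≫ (σ h).hom := by
  unfold actHom
  rw [pullback.lift_snd]

theorem actHom_mul (h₁ h₂ : H) :
    actHom gX fY σ hσ (h₁ * h₂) = actHom gX fY σ hσ h₂ ≫ actHom gX fY σ hσ h₁ := by
  apply pullback.hom_ext
  · rw [Category.assoc, actHom_fst, actHom_fst, actHom_fst]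
  · rw [Category.assoc, actHom_snd, actHom_snd, reassoc_of% (actHom_snd gX fY σ hσ h₂), map_mul]
    rfl

theorem actHom_one : actHom gX fY σ hσ 1 = 𝟙 _ := by
  apply pullback.hom_ext
  · rw [actHom_fst, Category.id_comp]
  · rw [actHom_snd, Category.id_comp, map_one]
    exact Category.comp_id _

noncomputable def act : H →* Aut (pullback gX fY) where
  toFun h :=
    { hom := actHom gX fY σ hσ h
      inv := actHom gX fY σ hσ h⁻¹
      hom_inv_id := by rw [← actHom_mul, inv_mul_cancel, actHom_one]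
      inv_hom_id := by rw [← actHom_mul, mul_inv_cancel, actHom_one] }
  map_one' := Iso.ext (actHom_one gX fY σ hσ)
  map_mul' h₁ h₂ := Iso.ext (actHom_mul gX fY σ hσ h₁ h₂)

end act

/-- Suppose the finite groups G and H act by algebraic k-automorphisms on schemes X and Y of finite type
over k, both admitting quotients X → X/G and Y → Y/H (equivalently, covered by invariant affine
opens). Then X × Y has the same property for the product action of G × H and (X × Y)/(G × H) ≅ X/G ×
Y/H: the morphism X ×_k Y → X/G ×_k Y/H with components the two quotient maps is a quotient for the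
product action. The product action θ and that morphism π are pinned by their composites with the
projections. -/
theorem result {k : Type u} [Field k] {G H : Type u} [Group G] [Finite G] [Group H]
    [Finite H] {X Y XG YH : Scheme.{u}} (fX : X ⟶ Spec (CommRingCat.of k))
    (fY : Y ⟶ Spec (CommRingCat.of k)) [LocallyOfFiniteType fX] [QuasiCompact fX]
    [LocallyOfFiniteType fY] [QuasiCompact fY] (gX : XG ⟶ Spec (CommRingCat.of k))
    (gY : YH ⟶ Spec (CommRingCat.of k)) (ρ : G →* Aut X) (σ : H →* Aut Y)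
    (hρ : ∀ g, (ρ g).hom ≫ fX = fX) (hσ : ∀ h, (σ h).hom ≫ fY = fY)
    (p : X ⟶ XG) (hp : p ≫ gX = fX) (q : Y ⟶ YH) (hq : q ≫ gY = fY)
    (hP : SGA1.IsQuot ρ p) (hQ : SGA1.IsQuot σ q)
    (θ : G × H →* Aut (pullback fX fY))
    (hθ1 : ∀ gh : G × H, (θ gh).hom ≫ pullback.fst fX fY = pullback.fst fX fY ≫ (ρ gh.1).hom)
    (hθ2 : ∀ gh : G × H, (θ gh).hom ≫ pullback.snd fX fY = pullback.snd fX fY ≫ (σ gh.2).hom)
    (π : pullback fX fY ⟶ pullback gX gY) (hπ1 : π ≫ pullback.fst gX gY = pullback.fst fX fY ≫ p)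
    (hπ2 : π ≫ pullback.snd gX gY = pullback.snd fX fY ≫ q) :
    SGA1.IsQuot θ π := by
  classical
  haveI : Flat fY := inferInstance
  haveI : Flat gX := inferInstance
  let π₁ : pullback fX fY ⟶ pullback gX fY :=
    pullback.map fX fY gX fY p (𝟙 _) (𝟙 _) (by simp [hp]) (by simp)
  let π₂ : pullback gX fY ⟶ pullback gX gY :=
    pullback.map gX fY gX gY (𝟙 _) q (𝟙 _) (by simp) (by simp [hq])
  have hπ₁f : π₁ ≫ pullback.fst gX fY = pullback.fst fX fY ≫ p := pullback.lift_fst _ _ _
  have hπ₁s : π₁ ≫ pullback.snd gX fY = pullback.snd fX fY := by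
    have : π₁ ≫ pullback.snd gX fY = pullback.snd fX fY ≫ 𝟙 _ := pullback.lift_snd _ _ _
    rw [Category.comp_id] at this
    exact this
  have hπ₂f : π₂ ≫ pullback.fst gX gY = pullback.fst gX fY := by
    have : π₂ ≫ pullback.fst gX gY = pullback.fst gX fY ≫ 𝟙 _ := pullback.lift_fst _ _ _
    rw [Category.comp_id] at this
    exact this
  have hπ₂s : π₂ ≫ pullback.snd gX gY = pullback.snd gX fY ≫ q := pullback.lift_snd _ _ _
  have hπ : π = π₁ ≫ π₂ := by
    apply pullback.hom_ext
    · rw [hπ1, Category.assoc, hπ₂f, hπ₁f]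
    · rw [hπ2, Category.assoc, hπ₂s, reassoc_of% hπ₁s]
  have hpb₁ : IsPullback (pullback.fst fX fY) π₁ p (pullback.fst gX fY) := by
    refine (IsPullback.of_right ?_ hπ₁f (IsPullback.of_hasPullback gX fY).flip).flip
    rw [hπ₁s, hp]
    exact (IsPullback.of_hasPullback fX fY).flip
  have hpb₂ : IsPullback (pullback.snd gX fY) π₂ q (pullback.snd gX gY) := by
    refine (IsPullback.of_right ?_ hπ₂s (IsPullback.of_hasPullback gX gY)).flip
    rw [hπ₂f, hq]
    exact IsPullback.of_hasPullback gX fY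
  have h₁ : SGA1.IsQuot (θ.comp (MonoidHom.inl G H)) π₁ := by
    refine Groth.Agent.Lib.Helper11.FB2.isQuot_baseChange ρ p hP (pullback.fst gX fY)
      (pullback.fst fX fY) π₁ hpb₁ (θ.comp (MonoidHom.inl G H)) (fun g => hθ1 (g, 1)) ?_
    intro g
    apply pullback.hom_ext
    · rw [Category.assoc, hπ₁f]
      have := hθ1 (g, 1)
      simp only [MonoidHom.comp_apply, MonoidHom.inl_apply]
      rw [reassoc_of% this, hP.inv]
    · rw [Category.assoc, hπ₁s]
      have := hθ2 (g, 1)
      simp only [MonoidHom.comp_apply, MonoidHom.inl_apply]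
      rw [this, map_one]
      exact Category.comp_id _
  have h₂ : SGA1.IsQuot (act gX fY σ hσ) π₂ := by
    refine Groth.Agent.Lib.Helper11.FB2.isQuot_baseChange σ q hQ (pullback.snd gX gY)
      (pullback.snd gX fY) π₂ hpb₂ (act gX fY σ hσ) (fun h => actHom_snd gX fY σ hσ h) ?_
    intro h
    apply pullback.hom_ext
    · rw [Category.assoc, hπ₂f]
      exact actHom_fst gX fY σ hσ h
    · rw [Category.assoc, hπ₂s]
      have := actHom_snd gX fY σ hσ h
      change actHom gX fY σ hσ h ≫ _ = _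
      rw [reassoc_of% this, hQ.inv]
  rw [hπ]
  refine Groth.Agent.Lib.Helper11.ST1.isQuot_stages θ (MonoidHom.inl G H) (MonoidHom.snd G H)
    (fun h => ⟨(1, h), rfl⟩) (act gX fY σ hσ) π₁ π₂ h₁ h₂ ?_
  intro γ
  apply pullback.hom_ext
  · rw [Category.assoc, hπ₁f, reassoc_of% (hθ1 γ), hP.inv, Category.assoc]
    change _ = π₁ ≫ actHom gX fY σ hσ γ.2 ≫ _
    rw [actHom_fst, hπ₁f]
  · rw [Category.assoc, hπ₁s, hθ2 γ, Category.assoc]
    change _ = π₁ ≫ actHom gX fY σ hσ γ.2 ≫ _
    rw [actHom_snd, reassoc_of% hπ₁s]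

end Groth.Agent.S13079
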