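import Groth.Statements.S13081
import Groth.Agent.Lib.Helper5.EffEpi
import Groth.Agent.Lib.Helper5.GroupQuot

set_option autoImplicit false
universe u
open CategoryTheory AlgebraicGeometry Limits
open Zeta

namespace Groth.Agent.S13081

open CategoryTheory CategoryTheory.Limits AlgebraicGeometry Groth.Agent.Lib.Helper5

theorem appLE_congr_hom' {X Y : Scheme.{u}} {f f' : X ⟶ Y} (h : f = f') (U : Y.Opens) (V : X.Opens)
    (e : V ≤ f ⁻¹ᵁ U) (e' : V ≤ f' ⁻¹ᵁ U) : f.appLE U V e = f'.appLE U V e' := by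
  subst h; rfl

/-- Let G be a finite group acting by algebraic automorphisms over k on a scheme X of finite type over k
admitting a quotient X → X/G, and H a normal subgroup of G. Then X/H carries an induced action of
G/H and its quotient by this action is X/G: the induced morphism r : X/H → X/G is a quotient of X/H
by G/H. The induced action ρ̄ is pinned by p_H ≫ ρ̄(ḡ) = ρ(g) ≫ p_H and r by p_H ≫ r = p. -/
theorem result {k : Type u} [Field k] {G : Type u} [Group G]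
    [Finite G] {X XG XH : Scheme.{u}} (fX : X ⟶ Spec (CommRingCat.of k)) [LocallyOfFiniteType fX]
    [QuasiCompact fX] (ρ : G →* Aut X) (hρ : ∀ g, (ρ g).hom ≫ fX = fX) (p : X ⟶ XG)
    (hP : SGA1.IsQuot ρ p) (H : Subgroup G) [H.Normal] (pH : X ⟶ XH)
    (hPH : SGA1.IsQuot (ρ.comp H.subtype) pH) (ρbar : G ⧸ H →* Aut XH)
    (hρbar : ∀ g : G, pH ≫ (ρbar (QuotientGroup.mk g)).hom = (ρ g).hom ≫ pH)
    (r : XH ⟶ XG) (hr : pH ≫ r = p) :
    SGA1.IsQuot ρbar r := by
  classical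
  subst hr
  have hepi : Epi pH := EffEpi.epi_of_surjective_of_app_injective pH (GroupQuot.surjective hPH)
    hPH.injective
  have hinv : ∀ c : G ⧸ H, (ρbar c).hom ≫ r = r := by
    intro c
    obtain ⟨g, rfl⟩ := QuotientGroup.mk_surjective c
    rw [← cancel_epi pH, ← Category.assoc, hρbar g, Category.assoc, hP.inv g]
  have haff : IsAffineHom r := by
    haveI : IsAffineHom (pH ≫ r) := hP.affine
    exact GroupQuot.isAffineHom_of_comp hPH r
  refine ⟨haff, hinv, ?_, ?_⟩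
  · intro U a b hab
    apply hP.injective U
    show (pH.app (r ⁻¹ᵁ U)).hom ((r.app U).hom a) = (pH.app (r ⁻¹ᵁ U)).hom ((r.app U).hom b)
    rw [hab]
  · intro U s
    constructor
    · rintro ⟨a, rfl⟩ c
      have e1 : r.app U ≫ (ρbar c).hom.appLE (r ⁻¹ᵁ U) (r ⁻¹ᵁ U)
          (SGA1.preimage_le_of_inv ρbar r hinv c U) = r.app U := by
        rw [Scheme.Hom.app_eq_appLE, Scheme.Hom.appLE_comp_appLE]
        exact appLE_congr_hom' (hinv c) _ _ _ _
      exact congrArg (fun f => f.hom a) e1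
    · intro hs
      have hG : ∀ g : G, ((ρ g).hom.appLE ((pH ≫ r) ⁻¹ᵁ U) ((pH ≫ r) ⁻¹ᵁ U)
          (SGA1.preimage_le_of_inv ρ (pH ≫ r) hP.inv g U)).hom ((pH.app (r ⁻¹ᵁ U)).hom s) =
          (pH.app (r ⁻¹ᵁ U)).hom s := by
        intro g
        have e1 : pH.app (r ⁻¹ᵁ U) ≫ (ρ g).hom.appLE (pH ⁻¹ᵁ (r ⁻¹ᵁ U)) (pH ⁻¹ᵁ (r ⁻¹ᵁ U))
            (SGA1.preimage_le_of_inv ρ (pH ≫ r) hP.inv g U) =
            (ρbar (QuotientGroup.mk g)).hom.appLE (r ⁻¹ᵁ U) (r ⁻¹ᵁ U)
              (SGA1.preimage_le_of_inv ρbar r hinv _ U) ≫ pH.app (r ⁻¹ᵁ U) := by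
          rw [Scheme.Hom.app_eq_appLE, Scheme.Hom.appLE_comp_appLE,
            Scheme.Hom.appLE_comp_appLE]
          exact (appLE_congr_hom' (hρbar g) _ _ _ _).symm
        have e2 := congrArg (fun f => f.hom s) e1
        simp only [CommRingCat.comp_apply] at e2
        exact e2.trans (congrArg _ (hs _))
      obtain ⟨a, ha⟩ := (hP.range_iff U ((pH.app (r ⁻¹ᵁ U)).hom s)).mpr hG
      refine ⟨a, hPH.injective (r ⁻¹ᵁ U) ?_⟩
      rw [← ha]
      rfl

end Groth.Agent.S13081
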