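import Groth.Statements.S13084
import Groth.Agent.Lib.Lead.ZCyc4

set_option autoImplicit false
universe u
open CategoryTheory AlgebraicGeometry
open Zeta

namespace Groth.Agent.S13084

/-- If Y is a scheme of finite type over F_p (here: over any finite field) of dimension r, then the
Dirichlet series L_Y(s) = Σ_{n ≥ 1} a_n n^{−s}, where a_n is the number of effective 0-cycles on Y
of norm n, is convergent for Re(s) > r and has no zeros in this half-plane. The dimension is only
assumed ≤ r. -/
theorem result {k : Type u} [Field k] [Finite k]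
    {Y : Scheme.{u}} (f : Y ⟶ Spec (CommRingCat.of k)) [LocallyOfFiniteType f] [QuasiCompact f] (r : ℕ)
    (hr : topologicalKrullDim Y ≤ r) :
    LSeries.abscissaOfAbsConv (Zeta.arithCoeff Y) ≤ (r : ℝ) ∧
      ∀ s : ℂ, (r : ℝ) < s.re → LSeries (Zeta.arithCoeff Y) s ≠ 0 := by
  classical
  let φ : ULift.{u} ℤ →+* k :=
    (Int.castRingHom k).comp (ULift.ringEquiv : ULift.{u} ℤ ≃+* ℤ).toRingHom
  have hφ : φ.FiniteType := RingHom.FiniteType.of_finite (by
    unfold RingHom.Finite
    exact @Module.Finite.of_finite (ULift.{u} ℤ) k _ _ φ.toAlgebra.toModule _)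
  let g : Spec (CommRingCat.of k) ⟶ Spec (CommRingCat.of (ULift.{u} ℤ)) :=
    Spec.map (CommRingCat.ofHom φ)
  have : LocallyOfFiniteType g :=
    (HasRingHomProperty.Spec_iff (P := @LocallyOfFiniteType)).mpr hφ
  have : LocallyOfFiniteType (f ≫ g) := inferInstance
  have : QuasiCompact (f ≫ g) := inferInstance
  exact Groth.Agent.Lib.Lead.ZCyc.main (f ≫ g) r hr (Zeta.arithCoeff Y) (fun n => rfl)

end Groth.Agent.S13084
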