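-- Statement S1309.
import Groth.Statements.S1309
import Mathlib
import Groth.Agent.Lib.Helper1.ThickSq

set_option autoImplicit false
universe u
open FlatMor

namespace Groth.Agent.S1309

open AlgebraicGeometry CategoryTheory Limits in
/-- Let S ⟶ S' be a finite order thickening and let X be the base change of a scheme X' over S' to S (so
X ⟶ X' is again a thickening). Then X ⟶ S is locally of finite type if and only if X' ⟶ S' is. -/
theorem result {X X' S S' : Scheme.{u}} (iX : X ⟶ X') (iS : S ⟶ S') (f : X ⟶ S) (f' : X' ⟶ S')
    (hS : MoreMor.IsFiniteOrderThickening iS) (hc : IsPullback iX f f' iS) :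
    LocallyOfFiniteType f ↔ LocallyOfFiniteType f' := by
  haveI := hS.1.1
  constructor
  · intro hf
    exact Groth.Agent.Lib.Helper1.ThickSq.locallyOfFiniteType_of_isPullback hc
      (Groth.Agent.Lib.Helper1.ThickSq.isNilpotent_ker_app_of_isNilpotent_ker iS hS.2)
  · intro hf'
    exact MorphismProperty.of_isPullback hc hf'

end Groth.Agent.S1309
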