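import Groth.Statements.S13096
import Mathlib

set_option autoImplicit false
universe u v
open CAlg

namespace Groth.Agent.S13096

theorem inj_of_surj_noeth {Q : Type*} [CommRing Q] [IsNoetherianRing Q] (φ : Q →+* Q)
    (hφ : Function.Surjective φ) : Function.Injective φ := by
  have hmono : Monotone (fun n : ℕ => RingHom.ker (φ ^ n)) := by
    apply monotone_nat_of_le_succ
    intro n
    show RingHom.ker (φ ^ n) ≤ RingHom.ker (φ ^ (n + 1))
    intro x hx
    rw [RingHom.mem_ker] at hx ⊢
    rw [pow_succ', RingHom.mul_def, RingHom.comp_apply, hx, map_zero]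
  obtain ⟨n, hn⟩ := (monotone_stabilizes_iff_noetherian.2 (inferInstance : IsNoetherian Q Q))
    ⟨fun n : ℕ => RingHom.ker (φ ^ n), hmono⟩
  rw [injective_iff_map_eq_zero]
  intro x hx
  have hsurj : Function.Surjective (φ ^ n) := by
    rw [RingHom.coe_pow]
    exact hφ.iterate n
  obtain ⟨y, rfl⟩ := hsurj x
  have h1 : y ∈ RingHom.ker (φ ^ (n + 1)) := by
    rw [RingHom.mem_ker, pow_succ', RingHom.mul_def, RingHom.comp_apply]
    exact hx
  have h2 : y ∈ RingHom.ker (φ ^ n) := by
    have h3 := hn (n + 1) (Nat.le_succ n)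
    change RingHom.ker (φ ^ n) = RingHom.ker (φ ^ (n + 1)) at h3
    rw [h3]; exact h1
  exact (RingHom.mem_ker).1 h2

theorem exists_subring {R : Type*} [CommRing R] {σ : Type*} (F : Set (MvPolynomial σ R))
    (hF : F.Finite) :
    ∃ R₀ : Subring R, IsNoetherianRing R₀ ∧
      ∀ p ∈ F, ∃ p₀ : MvPolynomial σ R₀, MvPolynomial.map R₀.subtype p₀ = p := by
  refine ⟨Subring.closure (⋃ p ∈ F, (↑p.coeffs : Set R)), ?_, ?_⟩
  · apply is_noetherian_subring_closure
    exact hF.biUnion (fun p _ => Finset.finite_toSet _)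
  · intro p hp
    have h : p ∈ Set.range (MvPolynomial.map (σ := σ)
        (Subring.closure (⋃ p ∈ F, (↑p.coeffs : Set R))).subtype) := by
      rw [MvPolynomial.mem_range_map_iff_coeffs_subset]
      intro c hc
      exact ⟨⟨c, Subring.subset_closure (Set.mem_biUnion hp hc)⟩, rfl⟩
    exact h

theorem map_aeval_comm {R₀ R : Type*} [CommRing R₀] [CommRing R] (f : R₀ →+* R) {σ τ : Type*}
    (a₀ : σ → MvPolynomial τ R₀) (p₀ : MvPolynomial σ R₀) :
    MvPolynomial.map f (MvPolynomial.aeval a₀ p₀) =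
      MvPolynomial.aeval (fun i => MvPolynomial.map f (a₀ i)) (MvPolynomial.map f p₀) := by
  induction p₀ using MvPolynomial.induction_on with
  | C r => simp [MvPolynomial.algebraMap_eq]
  | add p q hp hq => simp only [map_add, hp, hq]
  | mul_X p i hp => simp only [map_mul, hp, MvPolynomial.aeval_X, MvPolynomial.map_X]

theorem descent {R₀ : Type*} [CommRing R₀] [IsNoetherianRing R₀] {n : ℕ} {J : Type*}
    (g₀ : J → MvPolynomial (Fin n) R₀) (a₀ b₀ : Fin n → MvPolynomial (Fin n) R₀)
    (h1 : ∀ j, MvPolynomial.aeval a₀ (g₀ j) ∈ Ideal.span (Set.range g₀))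
    (h2 : ∀ i, MvPolynomial.aeval a₀ (b₀ i) - MvPolynomial.X i ∈ Ideal.span (Set.range g₀)) :
    (∀ j, MvPolynomial.aeval b₀ (g₀ j) ∈ Ideal.span (Set.range g₀)) ∧
    (∀ i, MvPolynomial.aeval b₀ (a₀ i) - MvPolynomial.X i ∈ Ideal.span (Set.range g₀)) := by
  have hle : Ideal.span (Set.range g₀) ≤
      Ideal.comap (MvPolynomial.aeval a₀ : MvPolynomial (Fin n) R₀ →ₐ[R₀] MvPolynomial (Fin n) R₀).toRingHom
        (Ideal.span (Set.range g₀)) := by
    rw [Ideal.span_le]
    intro x hx
    obtain ⟨j, rfl⟩ := hx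
    exact Ideal.mem_comap.2 (h1 j)
  have hφmk : ∀ p, Ideal.quotientMap (Ideal.span (Set.range g₀)) _ hle
      (Ideal.Quotient.mk (Ideal.span (Set.range g₀)) p) =
      Ideal.Quotient.mk (Ideal.span (Set.range g₀)) (MvPolynomial.aeval a₀ p) := fun p => Ideal.quotientMap_mk
  have key : ∀ p, Ideal.Quotient.mk (Ideal.span (Set.range g₀)) (MvPolynomial.aeval a₀ (MvPolynomial.aeval b₀ p)) =
      Ideal.Quotient.mk (Ideal.span (Set.range g₀)) p := by
    intro p
    induction p using MvPolynomial.induction_on with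
    | C r => rw [MvPolynomial.aeval_C, MvPolynomial.algebraMap_eq, MvPolynomial.aeval_C,
        MvPolynomial.algebraMap_eq]
    | add p q hp hq => simp only [map_add, hp, hq]
    | mul_X p i hp => simp only [map_mul, MvPolynomial.aeval_X, hp, Ideal.Quotient.eq.2 (h2 i)]
  have hsurj : Function.Surjective (Ideal.quotientMap (Ideal.span (Set.range g₀)) _ hle) := by
    intro q
    obtain ⟨p, rfl⟩ := Ideal.Quotient.mk_surjective q
    exact ⟨Ideal.Quotient.mk _ (MvPolynomial.aeval b₀ p), by rw [hφmk, key]⟩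
  have hinj := inj_of_surj_noeth _ hsurj
  constructor
  · intro j
    rw [← Ideal.Quotient.eq_zero_iff_mem]
    apply hinj
    rw [map_zero, hφmk, key, Ideal.Quotient.eq_zero_iff_mem]
    exact Ideal.subset_span ⟨j, rfl⟩
  · intro i
    refine Ideal.Quotient.eq.1 (hinj ?_)
    rw [hφmk, hφmk, key, MvPolynomial.aeval_X]

theorem main_aux {R : Type*} [CommRing R] {R' : Type*} [CommRing R'] [Algebra R R'] {n : ℕ}
    (π : MvPolynomial (Fin n) R →ₐ[R] R') (hπ : Function.Surjective π)
    {J : Type*} [Fintype J] (g : J → MvPolynomial (Fin n) R)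
    (hI : ∀ p, p ∈ Ideal.span (Set.range g) ↔ π p = 0)
    (α : R' →ₐ[R] R') (hα : Function.Surjective α) : Function.Injective α := by
  choose a ha using fun i : Fin n => hπ (α (π (MvPolynomial.X i)))
  choose b' hb' using fun i : Fin n => hα (π (MvPolynomial.X i))
  choose b hb using fun i : Fin n => hπ (b' i)
  have hcomm : ∀ p, π (MvPolynomial.aeval a p) = α (π p) := by
    have h : (π.comp (MvPolynomial.aeval a)) = α.comp π := by
      apply MvPolynomial.algHom_ext
      intro i
      simp only [AlgHom.comp_apply, MvPolynomial.aeval_X, ha]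
    intro p
    exact DFunLike.congr_fun h p
  have h1 : ∀ j, MvPolynomial.aeval a (g j) ∈ Ideal.span (Set.range g) := by
    intro j
    rw [hI, hcomm, (hI (g j)).1 (Ideal.subset_span ⟨j, rfl⟩), map_zero]
  have h2 : ∀ i, MvPolynomial.aeval a (b i) - MvPolynomial.X i ∈ Ideal.span (Set.range g) := by
    intro i
    rw [hI, map_sub, hcomm, hb, hb', sub_self]
  choose c hc using fun j => (Ideal.mem_span_range_iff_exists_fun).1 (h1 j)
  choose d hd using fun i => (Ideal.mem_span_range_iff_exists_fun).1 (h2 i)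
  obtain ⟨R₀, hN, hF⟩ := exists_subring
    (Set.range g ∪ Set.range a ∪ Set.range b ∪ Set.range (fun x : J × J => c x.1 x.2) ∪
      Set.range (fun x : Fin n × J => d x.1 x.2))
    (((((Set.finite_range g).union (Set.finite_range a)).union (Set.finite_range b)).union
      (Set.finite_range _)).union (Set.finite_range _))
  haveI := hN
  have hM : Function.Injective (MvPolynomial.map (σ := Fin n) R₀.subtype) :=
    MvPolynomial.map_injective _ Subtype.val_injective
  choose g₀ hg₀ using fun j => hF (g j) (Or.inl (Or.inl (Or.inl (Or.inl ⟨j, rfl⟩))))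
  choose a₀ ha₀ using fun i => hF (a i) (Or.inl (Or.inl (Or.inl (Or.inr ⟨i, rfl⟩))))
  choose b₀ hb₀ using fun i => hF (b i) (Or.inl (Or.inl (Or.inr ⟨i, rfl⟩)))
  choose c₀ hc₀ using fun (j j' : J) => hF (c j j') (Or.inl (Or.inr ⟨(j, j'), rfl⟩))
  choose d₀ hd₀ using fun (i : Fin n) (j' : J) => hF (d i j') (Or.inr ⟨(i, j'), rfl⟩)
  have h1₀ : ∀ j, MvPolynomial.aeval a₀ (g₀ j) ∈ Ideal.span (Set.range g₀) := by
    intro j
    rw [Ideal.mem_span_range_iff_exists_fun]
    refine ⟨c₀ j, ?_⟩
    apply hM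
    rw [map_sum, map_aeval_comm]
    simp only [map_mul, hc₀, hg₀, ha₀]
    exact hc j
  have h2₀ : ∀ i, MvPolynomial.aeval a₀ (b₀ i) - MvPolynomial.X i ∈ Ideal.span (Set.range g₀) := by
    intro i
    rw [Ideal.mem_span_range_iff_exists_fun]
    refine ⟨d₀ i, ?_⟩
    apply hM
    rw [map_sum, map_sub, map_aeval_comm, MvPolynomial.map_X]
    simp only [map_mul, hd₀, hg₀, ha₀, hb₀]
    exact hd i
  obtain ⟨c1, c2⟩ := descent g₀ a₀ b₀ h1₀ h2₀
  have hpush : ∀ p₀ ∈ Ideal.span (Set.range g₀),
      MvPolynomial.map R₀.subtype p₀ ∈ Ideal.span (Set.range g) := by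
    intro p₀ hp₀
    have h := Ideal.mem_map_of_mem (MvPolynomial.map (σ := Fin n) R₀.subtype) hp₀
    rw [Ideal.map_span] at h
    refine Ideal.span_mono ?_ h
    rintro _ ⟨_, ⟨j, rfl⟩, rfl⟩
    exact ⟨j, (hg₀ j).symm⟩
  have B1 : ∀ j, MvPolynomial.aeval b (g j) ∈ Ideal.span (Set.range g) := by
    intro j
    have h := hpush _ (c1 j)
    rw [map_aeval_comm] at h
    simp only [hb₀, hg₀] at h
    exact h
  have B2 : ∀ i, MvPolynomial.aeval b (a i) - MvPolynomial.X i ∈ Ideal.span (Set.range g) := by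
    intro i
    have h := hpush _ (c2 i)
    rw [map_sub, map_aeval_comm, MvPolynomial.map_X] at h
    simp only [hb₀, ha₀] at h
    exact h
  have hB : ∀ p ∈ Ideal.span (Set.range g), MvPolynomial.aeval b p ∈ Ideal.span (Set.range g) := by
    have hle : Ideal.span (Set.range g) ≤ Ideal.comap
        (MvPolynomial.aeval b : MvPolynomial (Fin n) R →ₐ[R] MvPolynomial (Fin n) R).toRingHom
        (Ideal.span (Set.range g)) := by
      rw [Ideal.span_le]
      intro x hx
      obtain ⟨j, rfl⟩ := hx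
      exact Ideal.mem_comap.2 (B1 j)
    intro p hp
    exact Ideal.mem_comap.1 (hle hp)
  have hπBA : ∀ p, π (MvPolynomial.aeval b (MvPolynomial.aeval a p)) = π p := by
    have h : (π.comp (MvPolynomial.aeval b)).comp (MvPolynomial.aeval a) = π := by
      apply MvPolynomial.algHom_ext
      intro i
      simp only [AlgHom.comp_apply, MvPolynomial.aeval_X]
      have h' := (hI _).1 (B2 i)
      rw [map_sub, sub_eq_zero] at h'
      exact h'
    intro p
    exact DFunLike.congr_fun h p
  rw [injective_iff_map_eq_zero]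
  intro y hy
  obtain ⟨p, rfl⟩ := hπ y
  rw [← hcomm] at hy
  have h5 := (hI _).1 (hB _ ((hI _).2 hy))
  rw [hπBA] at h5
  exact h5

/-- Let R be a commutative ring and R' a commutative R-algebra of finite presentation. Then every
surjective R-algebra endomorphism α : R' → R' is bijective (an automorphism). -/
theorem result (R : Type u) [CommRing R]
    (R' : Type v) [CommRing R'] [Algebra R R'] [Algebra.FinitePresentation R R']
    (α : R' →ₐ[R] R') (hα : Function.Surjective α) : Function.Bijective α := by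
  refine ⟨?_, hα⟩
  obtain ⟨n, π, hπ, hker⟩ := (inferInstance : Algebra.FinitePresentation R R').out
  obtain ⟨G, hG⟩ := hker
  have hG' : Ideal.span (↑G : Set (MvPolynomial (Fin n) R)) = RingHom.ker π.toRingHom := hG
  refine main_aux π hπ (fun j : G => (j : MvPolynomial (Fin n) R)) ?_ α hα
  intro p
  have h : Set.range (fun j : G => (j : MvPolynomial (Fin n) R)) =
      (↑G : Set (MvPolynomial (Fin n) R)) := by
    ext x; simp
  rw [h, hG']
  exact RingHom.mem_ker

end Groth.Agent.S13096
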