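import Groth.Statements.S13097
import Groth.Agent.Lib.Helper11.AWNScheme

set_option autoImplicit false
universe u
open FlatMor

namespace Groth.Agent.S13097

open Groth.Agent.Lib.Helper11.AWNScheme Groth.Agent.Lib.Helper11.UHRing CategoryTheory CategoryTheory.Limits
  AlgebraicGeometry

theorem dense_of_isSchematicallyDense {X : Scheme.{u}} (W : X.Opens)
    (h : CInt.IsSchematicallyDense W) : Dense (W : Set X) := by
  rw [dense_iff_inter_open]
  intro V₀ hV₀ hne
  obtain ⟨x, hx⟩ := hne
  let V : X.Opens := ⟨V₀, hV₀⟩
  by_contra hcon
  have hempty : V ⊓ W = ⊥ := by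
    rw [eq_bot_iff]
    intro z hz
    exact hcon ⟨z, hz.1, hz.2⟩
  have hinj := h V
  have h1 : (1 : Γ(X, V)) = 0 := by
    apply hinj
    have hsub : Subsingleton Γ(X, V ⊓ W) := by
      rw [hempty]
      infer_instance
    exact Subsingleton.elim _ _
  haveI : Nonempty V := ⟨⟨x, hx⟩⟩
  exact one_ne_zero h1

open CategoryTheory AlgebraicGeometry in
/-- Let f : X → S be a quasi-compact, separated morphism of schemes with a section e : S → X (e followed
by f is the identity of S), and U ⊆ S an open subscheme such that f⁻¹(U) is schematically dense in X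
(for every open V of X, restriction of functions from V to V ∩ f⁻¹(U) is injective) and such that
the restriction f⁻¹(U) → U of f is a homeomorphism of underlying spaces. Then f is universally a
homeomorphism (every base change of f is a homeomorphism), and f is finite as soon as it is locally
of finite type. (The published statement also lists surjectivity of f, which a section forces, and
offers as an alternative to the section the hypothesis that f be flat, still with f⁻¹(U) → U only a
homeomorphism; that flat alternative fails: the spectrum of a separable quadratic field extension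
over the spectrum of the ground field, with U the whole base, is flat, surjective, quasi-compact,
separated and a homeomorphism over U, yet not universally injective. Only the case of a section,
whose published proof is complete, is stated here.) -/
theorem result {X S : Scheme.{u}} (f : X ⟶ S)
    [QuasiCompact f] [IsSeparated f] (U : S.Opens)
    (hdense : CInt.IsSchematicallyDense (f ⁻¹ᵁ U)) (hU : IsHomeomorph (f ∣_ U).base)
    (e : S ⟶ X) (he : e ≫ f = 𝟙 S) :
    FlatMor.IsUnivHomeo f ∧ (LocallyOfFiniteType f → IsFinite f) := by
  haveI : IsClosedImmersion (e ≫ f) := by rw [he]; infer_instance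
  haveI hcl : IsClosedImmersion e := IsClosedImmersion.of_comp e f
  have hUinj : Function.Injective (f ∣_ U).base := hU.injective
  have hfe : ∀ x : X, f (e (f x)) = f x := by
    intro x
    rw [← Scheme.Hom.comp_apply, he]; rfl
  have hsub : ((f ⁻¹ᵁ U : X.Opens) : Set X) ⊆ Set.range e := by
    intro x hx
    refine ⟨f x, ?_⟩
    have hx' : e (f x) ∈ f ⁻¹ᵁ U := by
      show f (e (f x)) ∈ U
      rw [hfe]; exact hx
    have := @hUinj ⟨e (f x), hx'⟩ ⟨x, hx⟩ (Subtype.ext (by
      show ((f ∣_ U) ⟨e (f x), hx'⟩).1 = ((f ∣_ U) ⟨x, hx⟩).1
      rw [morphismRestrict_base_coe, morphismRestrict_base_coe]; exact hfe x))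
    exact congrArg Subtype.val this
  have hdense' := dense_of_isSchematicallyDense _ hdense
  have hsurj : Function.Surjective e := by
    have hclosed : IsClosed (Set.range e) := e.isClosedEmbedding.isClosed_range
    have h1 : closure ((f ⁻¹ᵁ U : X.Opens) : Set X) ⊆ Set.range e :=
      closure_minimal hsub hclosed
    rw [hdense'.closure_eq] at h1
    intro x
    exact h1 (Set.mem_univ x)
  haveI : Surjective e := ⟨hsurj⟩
  haveI : UniversallyClosed (e ≫ f) := by rw [he]; infer_instance
  haveI : UniversallyInjective (e ≫ f) := by rw [he]; infer_instance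
  haveI h1 : UniversallyClosed f := UniversallyClosed.of_comp_surjective e f
  haveI h2 : UniversallyInjective f := universallyInjective_of_comp_surjective e f
  haveI h3 : Surjective f := ⟨fun s => ⟨e s, by rw [← Scheme.Hom.comp_apply, he]; rfl⟩⟩
  have hUH : FlatMor.IsUnivHomeo f := (isUnivHomeo_iff f).mpr ⟨h1, h2, h3⟩
  refine ⟨hUH, fun hlft => ?_⟩
  haveI := isAffineHom_of_isUnivHomeo f hUH
  haveI : IsIntegralHom f :=
    IsIntegralHom.iff_universallyClosed_and_isAffineHom.mpr ⟨h1, inferInstance⟩
  exact (IsFinite.iff_isIntegralHom_and_locallyOfFiniteType f).mpr ⟨inferInstance, hlft⟩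

end Groth.Agent.S13097
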