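import Mathlib
import Groth.Statements.S13098


set_option autoImplicit false
universe u v
open Lie3Mod

namespace Aux13098

theorem main (R : Type u) [CommRing R] (M : Type v) [AddCommGroup M] [Module R M]
    (bs : Module.Basis (Fin 3) R M) (B : M →ₗ[R] M →ₗ[R] M) (halt : ∀ m : M, B m m = 0)
    (a b c d e f g h i : R)
    (hxy : B (bs 0) (bs 1) = a • bs 0 + b • bs 1 + c • bs 2)
    (hxz : B (bs 0) (bs 2) = d • bs 0 + e • bs 1 + f • bs 2)
    (hyz : B (bs 1) (bs 2) = g • bs 0 + h • bs 1 + i • bs 2) :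
    (∀ u v w : M, B u (B v w) + B v (B w u) + B w (B u v) = 0) ↔
      (a * h + d * i - f * g - b * g = 0 ∧ i * e + b * d - f * h - a * e = 0 ∧
        h * c + d * c - a * f - b * i = 0) := by
  have hskew : ∀ m n : M, B m n = - B n m := by
    intro m n
    have h1 := halt (m + n)
    simp only [map_add, LinearMap.add_apply, halt, zero_add, add_zero] at h1
    exact eq_neg_of_add_eq_zero_right h1
  have hyx : B (bs 1) (bs 0) = -(a • bs 0 + b • bs 1 + c • bs 2) := by rw [hskew, hxy]
  have hzx : B (bs 2) (bs 0) = -(d • bs 0 + e • bs 1 + f • bs 2) := by rw [hskew, hxz]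
  have hzy : B (bs 2) (bs 1) = -(g • bs 0 + h • bs 1 + i • bs 2) := by rw [hskew, hyz]
  have key : ∀ u0 u1 u2 v0 v1 v2 : R,
      B (u0 • bs 0 + u1 • bs 1 + u2 • bs 2) (v0 • bs 0 + v1 • bs 1 + v2 • bs 2) =
        ((u0 * v1 - u1 * v0) * a + (u0 * v2 - u2 * v0) * d + (u1 * v2 - u2 * v1) * g) • bs 0 +
        ((u0 * v1 - u1 * v0) * b + (u0 * v2 - u2 * v0) * e + (u1 * v2 - u2 * v1) * h) • bs 1 +
        ((u0 * v1 - u1 * v0) * c + (u0 * v2 - u2 * v0) * f + (u1 * v2 - u2 * v1) * i) • bs 2 := by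
    intro u0 u1 u2 v0 v1 v2
    simp only [map_add, map_smul, LinearMap.add_apply, LinearMap.smul_apply, halt, hxy, hxz, hyz,
      hyx, hzx, hzy]
    module
  have hrep : ∀ m : M, ∃ m0 m1 m2 : R, m = m0 • bs 0 + m1 • bs 1 + m2 • bs 2 := by
    intro m
    refine ⟨bs.repr m 0, bs.repr m 1, bs.repr m 2, ?_⟩
    conv_lhs => rw [← bs.sum_repr m, Fin.sum_univ_three]
  have hli : ∀ r0 r1 r2 : R, r0 • bs 0 + r1 • bs 1 + r2 • bs 2 = 0 → r0 = 0 ∧ r1 = 0 ∧ r2 = 0 := by
    intro r0 r1 r2 hr
    have h1 := Fintype.linearIndependent_iff.1 bs.linearIndependent ![r0, r1, r2]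
      (by rw [Fin.sum_univ_three]; exact hr)
    exact ⟨h1 0, h1 1, h1 2⟩
  constructor
  · intro hJ
    have h1 := hJ ((1 : R) • bs 0 + (0 : R) • bs 1 + (0 : R) • bs 2)
      ((0 : R) • bs 0 + (1 : R) • bs 1 + (0 : R) • bs 2)
      ((0 : R) • bs 0 + (0 : R) • bs 1 + (1 : R) • bs 2)
    simp only [key] at h1
    have h2 : (a * h + d * i - f * g - b * g) • bs 0 + (i * e + b * d - f * h - a * e) • bs 1 +
        (h * c + d * c - a * f - b * i) • bs 2 = 0 := by
      rw [← h1]
      module
    exact hli _ _ _ h2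
  · rintro ⟨h1, h2, h3⟩ u v w
    obtain ⟨u0, u1, u2, rfl⟩ := hrep u
    obtain ⟨v0, v1, v2, rfl⟩ := hrep v
    obtain ⟨w0, w1, w2, rfl⟩ := hrep w
    simp only [key]
    have e0 : ∀ D : R, (D * (a * h + d * i - f * g - b * g)) • bs 0 +
        (D * (i * e + b * d - f * h - a * e)) • bs 1 +
        (D * (h * c + d * c - a * f - b * i)) • bs 2 = 0 := by
      intro D
      rw [h1, h2, h3, mul_zero, zero_smul, zero_smul, zero_smul, add_zero, add_zero]
    rw [← e0 (u0 * (v1 * w2 - v2 * w1) - u1 * (v0 * w2 - v2 * w0) + u2 * (v0 * w1 - v1 * w0))]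
    module

end Aux13098

namespace Groth.Agent.S13098

/-- Let R be a commutative ring, M an R-module with a basis x = bs 0, y = bs 1, z = bs 2 indexed by Fin
3, and B an R-bilinear alternating map on M (B m m = 0) with B x y = a x + b y + c z, B x z = d x +
e y + f z and B y z = g x + h y + i z. Then B satisfies the Jacobi identity for all triples if and
only if the three Jacobi polynomials vanish: ah + di − fg − bg = 0, ie + bd − fh − ae = 0 and hc +
dc − af − bi = 0. (This is the statement that Lie brackets on a based free module of rank 3 are the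
points of the closed subscheme of affine 9-space defined by these three equations.) -/
theorem result (R : Type u) [CommRing R] (M : Type v) [AddCommGroup M] [Module R M]
    (bs : Module.Basis (Fin 3) R M) (B : M →ₗ[R] M →ₗ[R] M) (halt : ∀ m : M, B m m = 0)
    (a b c d e f g h i : R)
    (hxy : B (bs 0) (bs 1) = a • bs 0 + b • bs 1 + c • bs 2)
    (hxz : B (bs 0) (bs 2) = d • bs 0 + e • bs 1 + f • bs 2)
    (hyz : B (bs 1) (bs 2) = g • bs 0 + h • bs 1 + i • bs 2) :
    (∀ u v w : M, B u (B v w) + B v (B w u) + B w (B u v) = 0) ↔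
      (a * h + d * i - f * g - b * g = 0 ∧ i * e + b * d - f * h - a * e = 0 ∧
        h * c + d * c - a * f - b * i = 0) := by
  exact Aux13098.main R M bs B halt a b c d e f g h i hxy hxz hyz

end Groth.Agent.S13098
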