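import Mathlib
import Groth.Statements.S13099

set_option autoImplicit false
universe u
open GrpSch

namespace Groth.Agent.S13099

open Polynomial

section Aux

variable (p : ℕ) [Fact p.Prime] (A : Type u) [CommRing A] [CharP A p]

/-- integers prime to `p` are units in characteristic `p` -/
lemma isUnit_natCast_of_not_dvd (m : ℕ) (h : ¬ p ∣ m) : IsUnit (m : A) := by
  have h1 : (m : ZMod p) ≠ 0 := fun h0 => h ((ZMod.natCast_eq_zero_iff m p).1 h0)
  have h2 : IsUnit (m : ZMod p) := isUnit_iff_ne_zero.2 h1
  have h3 := h2.map (ZMod.castHom (dvd_refl p) A)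
  rwa [map_natCast] at h3

omit [CharP A p] in
lemma exists_choose_not_dvd (n : ℕ) (h2 : 2 ≤ n) (hn : n < p ^ 2) (hnp : n ≠ p) :
    ∃ j, 0 < j ∧ j < n ∧ ¬ p ∣ n.choose j := by
  have hp : p.Prime := Fact.out
  have hp2 : 2 ≤ p := hp.two_le
  have hlucas : ∀ k, n.choose k ≡ (n % p).choose (k % p) * (n / p).choose (k / p) [MOD p] :=
    fun k => Choose.choose_modEq_choose_mod_mul_choose_div_nat
  have hdiv : n / p < p := by
    rw [Nat.div_lt_iff_lt_mul hp.pos]
    rw [pow_two] at hn
    exact hn
  have hmod : n % p < p := Nat.mod_lt _ hp.pos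
  have hdecomp : n % p + p * (n / p) = n := Nat.mod_add_div n p
  obtain ⟨d, hd⟩ : ∃ d, n / p = d := ⟨_, rfl⟩
  obtain ⟨r, hr⟩ : ∃ r, n % p = r := ⟨_, rfl⟩
  simp only [hd, hr] at hlucas
  rw [hd] at hdiv
  rw [hr] at hmod
  rw [hd, hr] at hdecomp
  by_cases h0 : d = 0
  · have hnlt : n < p := by
      rw [h0, mul_zero, add_zero] at hdecomp
      omega
    refine ⟨1, Nat.one_pos, by omega, ?_⟩
    rw [Nat.choose_one_right]
    exact Nat.not_dvd_of_pos_of_lt (by omega) hnlt
  · by_cases h1 : r = 0
    · have hq2 : 2 ≤ d := by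
        by_contra hlt
        have h3 : d = 1 := by omega
        rw [h3, h1] at hdecomp
        omega
      have hmul : p * 2 ≤ p * d := Nat.mul_le_mul_left p hq2
      refine ⟨p, hp.pos, by omega, ?_⟩
      intro hdvd
      have hl := hlucas p
      rw [Nat.mod_self, Nat.div_self hp.pos, Nat.choose_zero_right, Nat.choose_one_right,
        one_mul] at hl
      have h0' : n.choose p ≡ 0 [MOD p] := (Nat.modEq_zero_iff_dvd).2 hdvd
      have h4 : d ≡ 0 [MOD p] := hl.symm.trans h0'
      have hd' : p ∣ d := (Nat.modEq_zero_iff_dvd).1 h4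
      exact Nat.not_dvd_of_pos_of_lt (Nat.pos_of_ne_zero h0) hdiv hd'
    · have hmul : p * 1 ≤ p * d := Nat.mul_le_mul_left p (Nat.one_le_iff_ne_zero.2 h0)
      refine ⟨r, Nat.pos_of_ne_zero h1, by omega, ?_⟩
      intro hdvd
      have hl := hlucas r
      rw [Nat.mod_eq_of_lt hmod, Nat.div_eq_of_lt hmod, Nat.choose_self, Nat.choose_zero_right,
        mul_one] at hl
      have h0' : n.choose r ≡ 0 [MOD p] := (Nat.modEq_zero_iff_dvd).2 hdvd
      have h4 : 1 ≡ 0 [MOD p] := hl.symm.trans h0'
      have hd' : p ∣ 1 := (Nat.modEq_zero_iff_dvd).1 h4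
      exact hp.one_lt.ne' (Nat.dvd_one.1 hd')

omit [Fact p.Prime] [CharP A p] in
lemma coeff_aeval_C_mul_X (w : A[X]) (q : A[X]) (n : ℕ) :
    (Polynomial.aeval (Polynomial.C w * Polynomial.X : A[X][X]) q).coeff n =
      q.coeff n • w ^ n := by
  induction q using Polynomial.induction_on' with
  | add q r hq hr => rw [map_add, Polynomial.coeff_add, hq, hr, Polynomial.coeff_add, add_smul]
  | monomial i c =>
    rw [Polynomial.aeval_monomial, mul_pow, ← Polynomial.C_pow, Polynomial.algebraMap_apply,
      ← mul_assoc, ← Polynomial.C_mul, Polynomial.coeff_C_mul_X_pow, Polynomial.coeff_monomial]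
    by_cases h : n = i
    · subst h
      rw [if_pos rfl, if_pos rfl, Algebra.smul_def]
    · rw [if_neg h, if_neg (Ne.symm h), zero_smul]

omit [Fact p.Prime] [CharP A p] in
lemma totalDegree_aeval_le (g : MvPolynomial (Fin 2) A) (hg : g.totalDegree ≤ 1) (q : A[X]) :
    (Polynomial.aeval g q).totalDegree ≤ q.natDegree := by
  rw [Polynomial.aeval_eq_sum_range]
  apply MvPolynomial.totalDegree_finsetSum_le
  intro i hi
  rw [Finset.mem_range] at hi
  calc (q.coeff i • g ^ i).totalDegree ≤ (g ^ i).totalDegree := MvPolynomial.totalDegree_smul_le _ _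
    _ ≤ i * g.totalDegree := MvPolynomial.totalDegree_pow _ _
    _ ≤ i * 1 := Nat.mul_le_mul_left i hg
    _ ≤ q.natDegree := by omega

omit [Fact p.Prime] [CharP A p] in
/-- the evaluation at dual numbers sees only the linear coefficient -/
lemma snd_aeval (a : A) (g : A[X]) :
    ∃ c : A, TrivSqZeroExt.snd (Polynomial.aeval (a • (DualNumber.eps : DualNumber A)) g) =
      c * a := by
  induction g using Polynomial.induction_on' with
  | add g h hg hh =>
    obtain ⟨c₁, h₁⟩ := hg
    obtain ⟨c₂, h₂⟩ := hh
    exact ⟨c₁ + c₂, by rw [map_add, TrivSqZeroExt.snd_add, h₁, h₂, add_mul]⟩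
  | monomial n r =>
    have hn : n = 0 ∨ n = 1 ∨ 2 ≤ n := by omega
    rcases hn with rfl | rfl | hn
    · refine ⟨0, ?_⟩
      rw [Polynomial.aeval_monomial, pow_zero, mul_one, TrivSqZeroExt.algebraMap_eq_inl,
        TrivSqZeroExt.snd_inl, zero_mul]
    · refine ⟨r, ?_⟩
      rw [Polynomial.aeval_monomial, pow_one, DualNumber.snd_mul,
        TrivSqZeroExt.algebraMap_eq_inl, TrivSqZeroExt.snd_inl, TrivSqZeroExt.fst_inl,
        TrivSqZeroExt.snd_smul, DualNumber.snd_eps, zero_mul, add_zero, smul_eq_mul, mul_one]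
    · refine ⟨0, ?_⟩
      have hz : (a • (DualNumber.eps : DualNumber A)) ^ n = 0 :=
        pow_eq_zero_of_le hn (by rw [_root_.smul_pow, DualNumber.eps_pow_two, smul_zero])
      rw [Polynomial.aeval_monomial, hz, mul_zero, TrivSqZeroExt.snd_zero, zero_mul]

theorem part1 (q : A[X]) (hq : q.natDegree < p ^ 2) :
    (Polynomial.aeval (MvPolynomial.X 0 + MvPolynomial.X 1 : MvPolynomial (Fin 2) A) q -
        Polynomial.aeval (MvPolynomial.X 0 : MvPolynomial (Fin 2) A) q -
        Polynomial.aeval (MvPolynomial.X 1 : MvPolynomial (Fin 2) A) q ∈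
      Ideal.span ({MvPolynomial.X 0 ^ p ^ 2, MvPolynomial.X 1 ^ p ^ 2} :
        Set (MvPolynomial (Fin 2) A)) ↔
    ∃ a₁ ap : A, q = Polynomial.C a₁ * X + Polynomial.C ap * X ^ p) := by
  have hp : p.Prime := Fact.out
  constructor
  · intro hD
    set D : MvPolynomial (Fin 2) A :=
      Polynomial.aeval (MvPolynomial.X 0 + MvPolynomial.X 1 : MvPolynomial (Fin 2) A) q -
        Polynomial.aeval (MvPolynomial.X 0 : MvPolynomial (Fin 2) A) q -
        Polynomial.aeval (MvPolynomial.X 1 : MvPolynomial (Fin 2) A) q with hDdef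
    -- Step 1 : `D = 0`
    have hD0 : D = 0 := by
      rcases subsingleton_or_nontrivial A with hs | hnt
      · exact Subsingleton.elim _ _
      · have htd : D.totalDegree < p ^ 2 := by
          have hX0 : (MvPolynomial.X 0 : MvPolynomial (Fin 2) A).totalDegree ≤ 1 :=
            (MvPolynomial.totalDegree_X _).le
          have hX1 : (MvPolynomial.X 1 : MvPolynomial (Fin 2) A).totalDegree ≤ 1 :=
            (MvPolynomial.totalDegree_X _).le
          have hX01 : (MvPolynomial.X 0 + MvPolynomial.X 1 :
              MvPolynomial (Fin 2) A).totalDegree ≤ 1 :=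
            (MvPolynomial.totalDegree_add _ _).trans (max_le hX0 hX1)
          have h1 := totalDegree_aeval_le A _ hX01 q
          have h2 := totalDegree_aeval_le A _ hX0 q
          have h3 := totalDegree_aeval_le A _ hX1 q
          have h4 := MvPolynomial.totalDegree_sub
            (Polynomial.aeval (MvPolynomial.X 0 + MvPolynomial.X 1 : MvPolynomial (Fin 2) A) q)
            (Polynomial.aeval (MvPolynomial.X 0 : MvPolynomial (Fin 2) A) q)
          have h5 := MvPolynomial.totalDegree_sub
            (Polynomial.aeval (MvPolynomial.X 0 + MvPolynomial.X 1 : MvPolynomial (Fin 2) A) q -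
              Polynomial.aeval (MvPolynomial.X 0 : MvPolynomial (Fin 2) A) q)
            (Polynomial.aeval (MvPolynomial.X 1 : MvPolynomial (Fin 2) A) q)
          have h6 : D.totalDegree ≤ q.natDegree := by
            rw [hDdef]
            exact h5.trans (max_le (h4.trans (max_le h1 h2)) h3)
          omega
        have hset : ({MvPolynomial.X 0 ^ p ^ 2, MvPolynomial.X 1 ^ p ^ 2} :
            Set (MvPolynomial (Fin 2) A)) =
            (fun s => MvPolynomial.monomial s (1 : A)) ''
              {Finsupp.single 0 (p ^ 2), Finsupp.single 1 (p ^ 2)} := by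
          rw [Set.image_pair, MvPolynomial.X_pow_eq_monomial, MvPolynomial.X_pow_eq_monomial]
        rw [hset, MvPolynomial.mem_ideal_span_monomial_image] at hD
        by_contra hne
        obtain ⟨m, hm⟩ : D.support.Nonempty := by
          rw [Finset.nonempty_iff_ne_empty]
          intro he
          exact hne (MvPolynomial.support_eq_empty.1 he)
        obtain ⟨si, hsi, hle⟩ := hD m hm
        have hsum : (m.sum fun _ e => e) = m 0 + m 1 := by
          rw [Finsupp.sum_fintype _ _ (fun _ => rfl), Fin.sum_univ_two]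
        have hdeg := MvPolynomial.le_totalDegree hm
        rw [hsum] at hdeg
        rcases hsi with rfl | rfl
        · have h7 := Finsupp.le_def.1 hle 0
          rw [Finsupp.single_eq_same] at h7
          omega
        · have h7 := Finsupp.le_def.1 hle 1
          rw [Finsupp.single_eq_same] at h7
          omega
    -- Step 2 : coefficient equations
    let ψ : MvPolynomial (Fin 2) A →ₐ[A] A[X][X] :=
      MvPolynomial.aeval
        (![(Polynomial.X : A[X][X]), Polynomial.C (Polynomial.X : A[X]) * Polynomial.X])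
    have hψ0 : ψ (MvPolynomial.X 0) = Polynomial.C (1 : A[X]) * Polynomial.X := by
      simp [ψ]
    have hψ1 : ψ (MvPolynomial.X 1) = Polynomial.C (Polynomial.X : A[X]) * Polynomial.X := by
      simp [ψ]
    have hψ01 : ψ (MvPolynomial.X 0 + MvPolynomial.X 1) =
        Polynomial.C (1 + Polynomial.X : A[X]) * Polynomial.X := by
      rw [map_add, hψ0, hψ1, ← add_mul, ← Polynomial.C_add]
    have hψD : ψ D = 0 := by rw [hD0, map_zero]
    have hψD' : Polynomial.aeval (Polynomial.C (1 + Polynomial.X : A[X]) * Polynomial.X) q -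
        Polynomial.aeval (Polynomial.C (1 : A[X]) * Polynomial.X) q -
        Polynomial.aeval (Polynomial.C (Polynomial.X : A[X]) * Polynomial.X) q = 0 := by
      rw [← hψ01, ← hψ0, ← hψ1, Polynomial.aeval_algHom_apply, Polynomial.aeval_algHom_apply,
        Polynomial.aeval_algHom_apply, ← map_sub, ← map_sub]
      exact hψD
    have hE : ∀ n j : ℕ, q.coeff n * (n.choose j : A) - q.coeff n * (if j = 0 then 1 else 0) -
        q.coeff n * (if j = n then 1 else 0) = 0 := by
      intro n j
      have h1 := congrArg (fun P : A[X][X] => (P.coeff n).coeff j) hψD'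
      simp only [Polynomial.coeff_sub, coeff_aeval_C_mul_X, Polynomial.coeff_smul,
        Polynomial.coeff_one_add_X_pow, one_pow, Polynomial.coeff_one, Polynomial.coeff_X_pow,
        Polynomial.coeff_zero, smul_eq_mul] at h1
      exact h1
    have hc0 : q.coeff 0 = 0 := by
      have h := hE 0 0
      simp only [Nat.choose_self, Nat.cast_one, mul_one, if_true] at h
      linear_combination -h
    have hcn : ∀ n, 2 ≤ n → n < p ^ 2 → n ≠ p → q.coeff n = 0 := by
      intro n h2 hn hnp
      obtain ⟨j, hj0, hjn, hj⟩ := exists_choose_not_dvd p n h2 hn hnp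
      have h := hE n j
      rw [if_neg (by omega), if_neg (by omega), mul_zero, sub_zero, sub_zero] at h
      exact (isUnit_natCast_of_not_dvd p A _ hj).mul_left_eq_zero.1 h
    -- Step 3 : conclusion
    refine ⟨q.coeff 1, q.coeff p, ?_⟩
    ext n
    rw [Polynomial.coeff_add, Polynomial.coeff_C_mul, Polynomial.coeff_C_mul,
      Polynomial.coeff_X_pow]
    by_cases h1 : n = 1
    · subst h1
      rw [Polynomial.coeff_X_one, mul_one, if_neg hp.one_lt.ne, mul_zero, add_zero]
    · by_cases hnp : n = p
      · subst hnp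
        rw [Polynomial.coeff_X_of_ne_one h1, mul_zero, zero_add, if_pos rfl, mul_one]
      · rw [Polynomial.coeff_X_of_ne_one h1, if_neg hnp, mul_zero, mul_zero, add_zero]
        by_cases hlt : n < p ^ 2
        · by_cases hn0 : n = 0
          · subst hn0; exact hc0
          · exact hcn n (by omega) hlt hnp
        · exact Polynomial.coeff_eq_zero_of_natDegree_lt (by omega)
  · rintro ⟨a₁, ap, rfl⟩
    have h0 : Polynomial.aeval (MvPolynomial.X 0 + MvPolynomial.X 1 : MvPolynomial (Fin 2) A)
          (Polynomial.C a₁ * X + Polynomial.C ap * X ^ p) -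
        Polynomial.aeval (MvPolynomial.X 0 : MvPolynomial (Fin 2) A)
          (Polynomial.C a₁ * X + Polynomial.C ap * X ^ p) -
        Polynomial.aeval (MvPolynomial.X 1 : MvPolynomial (Fin 2) A)
          (Polynomial.C a₁ * X + Polynomial.C ap * X ^ p) = 0 := by
      simp only [map_add, map_mul, map_pow, Polynomial.aeval_C, Polynomial.aeval_X]
      rw [add_pow_char]
      ring
    rw [h0]
    exact Ideal.zero_mem _

local notation "II" => Ideal.span ({(X : A[X]) ^ p ^ 2} : Set A[X])

theorem part2 (a₁ ap : A)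
    (φ : (A[X] ⧸ Ideal.span ({X ^ p ^ 2} : Set A[X])) →ₐ[A]
      (A[X] ⧸ Ideal.span ({X ^ p ^ 2} : Set A[X])))
    (hφ : φ (Ideal.Quotient.mk (Ideal.span ({X ^ p ^ 2} : Set A[X])) X) =
      Ideal.Quotient.mk (Ideal.span ({X ^ p ^ 2} : Set A[X]))
        (Polynomial.C a₁ * X + Polynomial.C ap * X ^ p)) :
    Function.Bijective φ ↔ IsUnit a₁ := by
  have hp : p.Prime := Fact.out
  have hp2 : 2 ≤ p := hp.two_le
  have hN2 : 2 ≤ p ^ 2 := by nlinarith
  constructor
  · intro hbij
    -- the map to dual numbers
    have hker : ∀ g : A[X], g ∈ II →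
        (Polynomial.aeval (DualNumber.eps : DualNumber A) : A[X] →ₐ[A] DualNumber A) g = 0 := by
      intro g hg
      obtain ⟨h, rfl⟩ := Ideal.mem_span_singleton.1 hg
      rw [map_mul, map_pow, Polynomial.aeval_X,
        pow_eq_zero_of_le hN2 (DualNumber.eps_pow_two), zero_mul]
    let ψ : (A[X] ⧸ II) →ₐ[A] DualNumber A :=
      Ideal.Quotient.liftₐ II (Polynomial.aeval (DualNumber.eps : DualNumber A)) hker
    have hψmk : ∀ g : A[X], ψ (Ideal.Quotient.mk II g) =
        Polynomial.aeval (DualNumber.eps : DualNumber A) g := fun g => rfl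
    obtain ⟨b, hb⟩ := hbij.2 (Ideal.Quotient.mk II X)
    obtain ⟨g, rfl⟩ := Ideal.Quotient.mk_surjective b
    let F : A[X] →ₐ[A] DualNumber A := (ψ.comp φ).comp (Ideal.Quotient.mkₐ A II)
    have hFX : F X = a₁ • (DualNumber.eps : DualNumber A) := by
      show ψ (φ (Ideal.Quotient.mk II X)) = _
      rw [hφ, hψmk]
      simp only [map_add, map_mul, map_pow, Polynomial.aeval_C, Polynomial.aeval_X]
      rw [pow_eq_zero_of_le hp2 (DualNumber.eps_pow_two), mul_zero, add_zero, Algebra.smul_def]
    have hFg : F g = Polynomial.aeval (F X) g := by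
      have h := Polynomial.aeval_algHom_apply F X g
      rw [Polynomial.aeval_X_left_apply] at h
      exact h.symm
    have hFg' : F g = (DualNumber.eps : DualNumber A) := by
      show ψ (φ (Ideal.Quotient.mk II g)) = _
      rw [hb, hψmk, Polynomial.aeval_X]
    rw [hFX, hFg'] at hFg
    obtain ⟨c, hc⟩ := snd_aeval A a₁ g
    rw [← hFg, DualNumber.snd_eps] at hc
    exact isUnit_iff_exists_inv.2 ⟨c, by rw [mul_comm]; exact hc.symm⟩
  · intro hu
    obtain ⟨u, hu⟩ := hu.exists_left_inv
    set Q : A[X] := Polynomial.C a₁ * X + Polynomial.C ap * X ^ p with hQ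
    have hφmk : ∀ g : A[X], φ (Ideal.Quotient.mk II g) =
        Ideal.Quotient.mk II (Polynomial.aeval Q g) := by
      intro g
      have h : (φ.comp (Ideal.Quotient.mkₐ A II)) =
          (Ideal.Quotient.mkₐ A II).comp (Polynomial.aeval Q : A[X] →ₐ[A] A[X]) := by
        apply Polynomial.algHom_ext
        show φ (Ideal.Quotient.mk II X) = Ideal.Quotient.mk II (Polynomial.aeval Q X)
        rw [Polynomial.aeval_X, hφ]
      exact congrArg (fun G : A[X] →ₐ[A] (A[X] ⧸ II) => G g) h
    have hQp : Q ^ p = Polynomial.C a₁ ^ p * X ^ p + Polynomial.C ap ^ p * X ^ (p * p) := by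
      rw [hQ, add_pow_char, mul_pow, mul_pow, ← pow_mul]
    have h1 : (Polynomial.C u : A[X]) * Polynomial.C a₁ = 1 := by
      rw [← Polynomial.C_mul, hu, Polynomial.C_1]
    have h1p : (Polynomial.C u : A[X]) ^ p * Polynomial.C a₁ ^ p = 1 := by
      rw [← mul_pow, h1, one_pow]
    set Z : A[X] := Polynomial.C u * (X - Polynomial.C ap * (Polynomial.C u ^ p * X ^ p))
      with hZ
    have hQZ : Polynomial.aeval Q Z =
        X - Polynomial.C u * Polynomial.C ap * Polynomial.C u ^ p * Polynomial.C ap ^ p *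
          X ^ (p * p) := by
      rw [hZ]
      simp only [map_mul, map_sub, map_pow, Polynomial.aeval_C, Polynomial.aeval_X,
        Polynomial.algebraMap_eq]
      rw [hQp, hQ]
      linear_combination (X : A[X]) * h1 - (Polynomial.C u * Polynomial.C ap * X ^ p) * h1p
    have hXpp : Ideal.Quotient.mk II (X ^ (p * p)) = 0 :=
      Ideal.Quotient.eq_zero_iff_mem.2
        (Ideal.subset_span (Set.mem_singleton_iff.2 (by rw [sq])))
    have hmk : Ideal.Quotient.mk II (X - Polynomial.C u * Polynomial.C ap * Polynomial.C u ^ p *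
        Polynomial.C ap ^ p * X ^ (p * p)) = Ideal.Quotient.mk II X := by
      rw [map_sub, map_mul, hXpp, mul_zero, sub_zero]
    have hsurj : Function.Surjective φ := by
      intro b
      obtain ⟨g, rfl⟩ := Ideal.Quotient.mk_surjective b
      refine ⟨Ideal.Quotient.mk II (Polynomial.aeval Z g), ?_⟩
      rw [hφmk]
      have e1 : Polynomial.aeval Q (Polynomial.aeval Z g) =
          Polynomial.aeval (Polynomial.aeval Q Z) g :=
        (Polynomial.aeval_algHom_apply (Polynomial.aeval Q : A[X] →ₐ[A] A[X]) Z g).symm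
      rw [e1, hQZ]
      have e2 : ∀ P : A[X], Ideal.Quotient.mk II (Polynomial.aeval P g) =
          Polynomial.aeval (Ideal.Quotient.mk II P) g := fun P =>
        (Polynomial.aeval_algHom_apply (Ideal.Quotient.mkₐ A II) P g).symm
      rw [e2, hmk, ← e2, Polynomial.aeval_X_left_apply]
    haveI : Module.Finite A (A[X] ⧸ II) := (Polynomial.monic_X_pow (p ^ 2)).finite_adjoinRoot
    have hsurj' : Function.Surjective φ.toLinearMap := hsurj
    have hinj : Function.Injective φ.toLinearMap :=
      OrzechProperty.injective_of_surjective_endomorphism _ hsurj'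
    exact ⟨hinj, hsurj⟩

end Aux


open Polynomial in
/-- Let p be a prime and A a commutative ring of characteristic p, and consider the infinitesimal group
scheme Spec A[X]/(X^{p²}) with the additive group law. In coordinates: (1) a polynomial q ∈ A[X] of
degree less than p² satisfies q(Y + Z) − q(Y) − q(Z) ∈ (Y^{p²}, Z^{p²}) in A[Y, Z] (that is, X ↦ q
respects the comultiplication) if and only if q = a₁ X + a_p X^p for some a₁, a_p ∈ A; (2) an
A-algebra endomorphism of A[X]/(X^{p²}) that sends the class of X to the class of a₁ X + a_p X^p is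
bijective if and only if a₁ is a unit of A. (The printed statement is that the automorphism group
scheme of this group scheme is the semidirect product of the additive group by the multiplicative
group, v acting on u by v^{p−1}u; this row records the two computations it consists of, in
coordinates.) -/
theorem result (p : ℕ) [Fact p.Prime] (A : Type u) [CommRing A] [CharP A p] :
    (∀ q : A[X], q.natDegree < p ^ 2 →
      (Polynomial.aeval (MvPolynomial.X 0 + MvPolynomial.X 1 : MvPolynomial (Fin 2) A) q -
            Polynomial.aeval (MvPolynomial.X 0 : MvPolynomial (Fin 2) A) q -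
            Polynomial.aeval (MvPolynomial.X 1 : MvPolynomial (Fin 2) A) q ∈
          Ideal.span ({MvPolynomial.X 0 ^ p ^ 2, MvPolynomial.X 1 ^ p ^ 2} : Set (MvPolynomial (Fin 2) A)) ↔
        ∃ a₁ ap : A, q = Polynomial.C a₁ * X + Polynomial.C ap * X ^ p)) ∧
    (∀ (a₁ ap : A) (φ : (A[X] ⧸ Ideal.span ({X ^ p ^ 2} : Set A[X])) →ₐ[A] (A[X] ⧸ Ideal.span ({X ^ p ^ 2} : Set A[X]))),
      φ (Ideal.Quotient.mk (Ideal.span ({X ^ p ^ 2} : Set A[X])) X) =
          Ideal.Quotient.mk (Ideal.span ({X ^ p ^ 2} : Set A[X])) (Polynomial.C a₁ * X + Polynomial.C ap * X ^ p) →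
        (Function.Bijective φ ↔ IsUnit a₁)) := by
  exact ⟨fun q hq => part1 p A q hq, fun a₁ ap φ hφ => part2 p A a₁ ap φ hφ⟩

end Groth.Agent.S13099
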