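import Groth.Statements.S13100
import Mathlib

set_option autoImplicit false
universe u
open GrpSch

namespace Groth.Agent.S13100


namespace S13100aux

variable {k : Type*} [Field k]

/-- coefficient recursion for a square root of a power series -/
noncomputable def sq (a : ℕ → k) (s : k) : ℕ → k
  | 0 => s
  | (n+1) => (a (n+1) - ∑ i : Fin n, sq a s (i.1+1) * sq a s (n - i.1)) / (2*s)
termination_by n => n
decreasing_by
  all_goals (have := i.2; omega)

theorem sq_zero (a : ℕ → k) (s : k) : sq a s 0 = s := by
  rw [sq]

theorem sq_succ (a : ℕ → k) (s : k) (n : ℕ) :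
    sq a s (n+1) = (a (n+1) - ∑ i : Fin n, sq a s (i.1+1) * sq a s (n - i.1)) / (2*s) := by
  rw [sq]

theorem mk_sq_mul_self (a : ℕ → k) (s : k) (hs : s * s = a 0) (h2s : (2 : k) * s ≠ 0) :
    PowerSeries.mk (sq a s) * PowerSeries.mk (sq a s) = PowerSeries.mk a := by
  ext n
  rw [PowerSeries.coeff_mul, PowerSeries.coeff_mk]
  simp only [PowerSeries.coeff_mk]
  rw [Finset.Nat.sum_antidiagonal_eq_sum_range_succ (fun i j => sq a s i * sq a s j)]
  cases n with
  | zero =>
    simp [sq_zero, hs]
  | succ m =>
    rw [Finset.sum_range_succ, Finset.sum_range_succ']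
    simp only [Nat.add_sub_add_right, Nat.sub_zero, Nat.sub_self, sq_zero]
    have h := sq_succ a s m
    rw [Fin.sum_univ_eq_sum_range (fun i => sq a s (i+1) * sq a s (m - i)) m] at h
    rw [h]
    have hs0 : s ≠ 0 := right_ne_zero_of_mul h2s
    have h20 : (2:k) ≠ 0 := left_ne_zero_of_mul h2s
    field_simp
    ring

end S13100aux

/-- Let k be an algebraically closed field of characteristic different from 2 and K = k((t)) the field
of Laurent series over k. Then a non-zero Laurent series f is a square in K if and only if its order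
in t is even; consequently the group Kˣ/Kˣ² of non-zero elements modulo squares has exactly two
elements, represented by 1 and t. -/
theorem result (k : Type u) [Field k] [IsAlgClosed k] (h2 : (2 : k) ≠ 0)
    (f : LaurentSeries k) (hf : f ≠ 0) : IsSquare f ↔ Even f.order := by
  constructor
  · rintro ⟨r, rfl⟩
    have hr : r ≠ 0 := by
      rintro rfl
      exact hf (by simp)
    rw [HahnSeries.order_mul hr hr]
    exact ⟨r.order, rfl⟩
  · rintro ⟨m, hm⟩
    set F := f.powerSeriesPart with hF
    have hfF := LaurentSeries.single_order_mul_powerSeriesPart f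
    set a : ℕ → k := fun n => PowerSeries.coeff n F with ha
    have ha0 : a 0 ≠ 0 := by
      simp only [ha, hF, LaurentSeries.powerSeriesPart_coeff]
      simpa using (HahnSeries.coeff_order_eq_zero (x := f)).not.mpr hf
    obtain ⟨s, hs⟩ := IsAlgClosed.exists_eq_mul_self (a 0)
    have hs0 : s ≠ 0 := by
      rintro rfl
      exact ha0 (by simpa using hs)
    have key := S13100aux.mk_sq_mul_self a s hs.symm (mul_ne_zero h2 hs0)
    have hFa : PowerSeries.mk a = F := by
      ext n
      simp [ha]
    set b := PowerSeries.mk (S13100aux.sq a s) with hb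
    refine ⟨HahnSeries.single m 1 * (b : LaurentSeries k), ?_⟩
    rw [mul_mul_mul_comm, HahnSeries.single_mul_single, ← PowerSeries.coe_mul, key, hFa, ← hm,
      mul_one]
    exact hfF.symm

end Groth.Agent.S13100
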