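import Mathlib
import Groth.Statements.S13101
import Groth.Agent.Lib.Helper29.Lie3Coord

set_option autoImplicit false
universe u v
open GrpSch

namespace Aux13101

open Groth.Agent.Lib.Helper29.Lie3Coord

theorem main (A : Type u) [CommRing A] (h2 : IsUnit (2 : A))
    (L : Type v) [LieRing L] [LieAlgebra A L] (bs : Module.Basis (Fin 3) A L)
    (hxy : ⁅bs 0, bs 1⁆ = bs 1) (hxz : ⁅bs 0, bs 2⁆ = bs 1 + bs 2) (hyz : ⁅bs 1, bs 2⁆ = 0)
    (φ : L ≃ₗ⁅A⁆ L) :
    ∃ b c h i : A, IsUnit i ∧ φ (bs 0) = bs 0 + b • bs 1 + c • bs 2 ∧ φ (bs 1) = i • bs 1 ∧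
      φ (bs 2) = h • bs 1 + i • bs 2 := by
  obtain ⟨a, b, c, hx⟩ := exists_coords bs (φ (bs 0))
  obtain ⟨d, e, f, hy⟩ := exists_coords bs (φ (bs 1))
  obtain ⟨g, h, i, hz⟩ := exists_coords bs (φ (bs 2))
  obtain ⟨a', b', c', hx'⟩ := exists_coords bs (φ.symm (bs 0))
  obtain ⟨d', e', f', hy'⟩ := exists_coords bs (φ.symm (bs 1))
  obtain ⟨g', h', i', hz'⟩ := exists_coords bs (φ.symm (bs 2))
  have B1 := φ.map_lie (bs 0) (bs 1)
  rw [hxy, hx, hy, bracket_comb, hxy, hxz, hyz] at B1
  have B1' : d • bs 0 + e • bs 1 + f • bs 2 =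
      (0 : A) • bs 0 + (a * e - b * d + (a * f - c * d)) • bs 1 + (a * f - c * d) • bs 2 := by
    rw [B1]; module
  obtain ⟨hd, E1, E2⟩ := comb_eq bs B1'
  have B2 := φ.map_lie (bs 0) (bs 2)
  rw [hxz, map_add, hx, hy, hz, bracket_comb, hxy, hxz, hyz] at B2
  have B2' : (d + g) • bs 0 + (e + h) • bs 1 + (f + i) • bs 2 =
      (0 : A) • bs 0 + (a * h - b * g + (a * i - c * g)) • bs 1 + (a * i - c * g) • bs 2 := by
    have e1 : (d + g) • bs 0 + (e + h) • bs 1 + (f + i) • bs 2 =
        (d • bs 0 + e • bs 1 + f • bs 2) + (g • bs 0 + h • bs 1 + i • bs 2) := by module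
    rw [e1, B2]; module
  obtain ⟨hdg, E3, E4⟩ := comb_eq bs B2'
  have C1 := φ.symm_apply_apply (bs 1)
  rw [hy] at C1
  simp only [map_add, map_smul] at C1
  rw [hx', hy', hz'] at C1
  have C1' : (d * a' + e * d' + f * g') • bs 0 + (d * b' + e * e' + f * h') • bs 1 +
      (d * c' + e * f' + f * i') • bs 2 = (0 : A) • bs 0 + (1 : A) • bs 1 + (0 : A) • bs 2 := by
    exact Eq.trans (by module) (C1.trans (by module))
  obtain ⟨-, F1, F2⟩ := comb_eq bs C1'
  have C2 := φ.symm_apply_apply (bs 2)
  rw [hz] at C2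
  simp only [map_add, map_smul] at C2
  rw [hx', hy', hz'] at C2
  have C2' : (g * a' + h * d' + i * g') • bs 0 + (g * b' + h * e' + i * h') • bs 1 +
      (g * c' + h * f' + i * i') • bs 2 = (0 : A) • bs 0 + (0 : A) • bs 1 + (1 : A) • bs 2 := by
    exact Eq.trans (by module) (C2.trans (by module))
  obtain ⟨-, F3, F4⟩ := comb_eq bs C2'
  have hg : g = 0 := by linear_combination hdg - hd
  subst hd
  subst hg
  have hdet : (e * i - f * h) * (e' * i' - f' * h') = 1 := by
    linear_combination (h * f' + i * i') * F1 + F4 - (h * e' + i * h') * F2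
  have hTe : (a - 1) * e = -f := by linear_combination (-1 : A) * E1 + E2
  have hTf : (a - 1) * f = 0 := by linear_combination (-1 : A) * E2
  have hTi : (a - 1) * i = f := by linear_combination (-1 : A) * E4
  have hTh : (a - 1) * h = e - f - i := by linear_combination (-1 : A) * E3 + E4
  have hT2 : (a - 1) ^ 2 = 0 := by
    linear_combination ((e' * i' - f' * h') * (a - 1) * i) * hTe
      - ((e' * i' - f' * h') * i + (e' * i' - f' * h') * (a - 1) * h) * hTf
      - ((a - 1) ^ 2) * hdet
  have h2f : 2 * f = 0 := by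
    linear_combination (a - 1) * hTh + hTe - hTf - hTi - h * hT2
  have hf : f = 0 := (h2.mul_right_eq_zero).1 h2f
  have ha : a = 1 := by
    linear_combination ((e' * i' - f' * h') * i) * hTe - ((e' * i' - f' * h') * i) * hf
      - ((e' * i' - f' * h') * h) * hTf - (a - 1) * hdet
  have hei : e = i := by linear_combination h * ha + hf - hTh
  have hiu : IsUnit i := IsUnit.of_mul_eq_one (i * (e' * i' - f' * h')) (by
    linear_combination hdet - (i * (e' * i' - f' * h')) * hei + (h * (e' * i' - f' * h')) * hf)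
  refine ⟨b, c, h, i, hiu, ?_, ?_, ?_⟩
  · rw [hx, ha, one_smul]
  · rw [hy, hei, hf, zero_smul, zero_smul, zero_add, add_zero]
  · rw [hz, zero_smul, zero_add]

end Aux13101

namespace Groth.Agent.S13101

/-- Let A be a commutative ring in which 2 is a unit, and L a Lie algebra over A, free as a module with
basis x = bs 0, y = bs 1, z = bs 2 and brackets [x,y] = y, [x,z] = y + z, [y,z] = 0. Then for every
Lie algebra automorphism φ of L over A there are b, c, h ∈ A and a unit i of A with φ(x) = x + b y +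
c z, φ(y) = i y and φ(z) = h y + i z. Only the form of an automorphism is stated, not that every map
of this form is one. (The published statement identifies the automorphism group scheme with a
semidirect product of two additive groups by the product of the multiplicative and additive group,
for algebras over a field of Laurent series of characteristic not 2, and deduces the vanishing of
its first cohomology; this row records the determination of the automorphisms, over any base ring
with 2 invertible; the cohomological consequence is not restated.) -/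
theorem result (A : Type u) [CommRing A] (h2 : IsUnit (2 : A))
    (L : Type v) [LieRing L] [LieAlgebra A L] (bs : Module.Basis (Fin 3) A L)
    (hxy : ⁅bs 0, bs 1⁆ = bs 1) (hxz : ⁅bs 0, bs 2⁆ = bs 1 + bs 2) (hyz : ⁅bs 1, bs 2⁆ = 0)
    (φ : L ≃ₗ⁅A⁆ L) :
    ∃ b c h i : A, IsUnit i ∧ φ (bs 0) = bs 0 + b • bs 1 + c • bs 2 ∧ φ (bs 1) = i • bs 1 ∧
      φ (bs 2) = h • bs 1 + i • bs 2 := by
  exact Aux13101.main A h2 L bs hxy hxz hyz φ

end Groth.Agent.S13101
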