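import Mathlib
import Groth.Statements.S13102
import Groth.Agent.Lib.Helper29.Lie3Coord

set_option autoImplicit false
universe u v w
open GrpSch

namespace Aux13102

open Groth.Agent.Lib.Helper29.Lie3Coord

theorem main (K : Type u) [Field K] (α : K) (A : Type v) [CommRing A] [Algebra K A]
    (L : Type w) [LieRing L] [LieAlgebra A L] (bs : Module.Basis (Fin 3) A L)
    (hxy : ⁅bs 0, bs 1⁆ = bs 1) (hxz : ⁅bs 0, bs 2⁆ = algebraMap K A α • bs 2) (hyz : ⁅bs 1, bs 2⁆ = 0)
    (φ : L ≃ₗ⁅A⁆ L) :
    (α ^ 2 ≠ 1 → ∃ b c e i : A, IsUnit e ∧ IsUnit i ∧ φ (bs 0) = bs 0 + b • bs 1 + c • bs 2 ∧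
        φ (bs 1) = e • bs 1 ∧ φ (bs 2) = i • bs 2) ∧
    (α = 1 → ∃ b c e f h i : A, IsUnit (e * i - f * h) ∧ φ (bs 0) = bs 0 + b • bs 1 + c • bs 2 ∧
        φ (bs 1) = e • bs 1 + f • bs 2 ∧ φ (bs 2) = h • bs 1 + i • bs 2) := by
  obtain ⟨α', hα'⟩ : ∃ α' : A, α' = algebraMap K A α := ⟨_, rfl⟩
  rw [← hα'] at hxz
  have eqs : ∀ (θ : L ≃ₗ⁅A⁆ L) (a b c d e f g h i : A),
      θ (bs 0) = a • bs 0 + b • bs 1 + c • bs 2 → θ (bs 1) = d • bs 0 + e • bs 1 + f • bs 2 →
      θ (bs 2) = g • bs 0 + h • bs 1 + i • bs 2 →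
      d = 0 ∧ e = a * e - b * d ∧ f = α' * (a * f - c * d) ∧ α' * g = 0 ∧
        α' * h = a * h - b * g ∧ α' * i = α' * (a * i - c * g) ∧ d * h - e * g = 0 := by
    intro θ a b c d e f g h i hx hy hz
    have B1 := θ.map_lie (bs 0) (bs 1)
    rw [hxy, hx, hy, bracket_comb, hxy, hxz, hyz] at B1
    have B1' : d • bs 0 + e • bs 1 + f • bs 2 =
        (0 : A) • bs 0 + (a * e - b * d) • bs 1 + (α' * (a * f - c * d)) • bs 2 := by
      rw [B1]; module
    obtain ⟨hd, E1, E2⟩ := comb_eq bs B1'
    have B2 := θ.map_lie (bs 0) (bs 2)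
    rw [hxz, map_smul, hx, hz, bracket_comb, hxy, hxz, hyz] at B2
    have B2' : (α' * g) • bs 0 + (α' * h) • bs 1 + (α' * i) • bs 2 =
        (0 : A) • bs 0 + (a * h - b * g) • bs 1 + (α' * (a * i - c * g)) • bs 2 :=
      Eq.trans (by module) (B2.trans (by module))
    obtain ⟨E3, E4, E5⟩ := comb_eq bs B2'
    have B3 := θ.map_lie (bs 1) (bs 2)
    rw [hyz, map_zero, hy, hz, bracket_comb, hxy, hxz, hyz] at B3
    have B3' : (0 : A) • bs 0 + (d * h - e * g) • bs 1 + (α' * (d * i - f * g)) • bs 2 = 0 :=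
      Eq.trans (by module) B3.symm
    obtain ⟨-, E6, -⟩ := comb_eq_zero bs B3'
    exact ⟨hd, E1, E2, E3, E4, E5, E6⟩
  obtain ⟨a, b, c, hx⟩ := exists_coords bs (φ (bs 0))
  obtain ⟨d, e, f, hy⟩ := exists_coords bs (φ (bs 1))
  obtain ⟨g, h, i, hz⟩ := exists_coords bs (φ (bs 2))
  obtain ⟨a', b', c', hx'⟩ := exists_coords bs (φ.symm (bs 0))
  obtain ⟨d', e', f', hy'⟩ := exists_coords bs (φ.symm (bs 1))
  obtain ⟨g', h', i', hz'⟩ := exists_coords bs (φ.symm (bs 2))
  obtain ⟨hd, E1, E2, E3, E4, E5, E6⟩ := eqs φ a b c d e f g h i hx hy hz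
  obtain ⟨hd', E1', E2', E3', E4', E5', E6'⟩ := eqs φ.symm a' b' c' d' e' f' g' h' i' hx' hy' hz'
  have C0 := φ.symm_apply_apply (bs 0)
  rw [hx] at C0
  simp only [map_add, map_smul] at C0
  rw [hx', hy', hz'] at C0
  have C0' : (a * a' + b * d' + c * g') • bs 0 + (a * b' + b * e' + c * h') • bs 1 +
      (a * c' + b * f' + c * i') • bs 2 = (1 : A) • bs 0 + (0 : A) • bs 1 + (0 : A) • bs 2 :=
    Eq.trans (by module) (C0.trans (by module))
  obtain ⟨H00, -, -⟩ := comb_eq bs C0'
  have C1 := φ.symm_apply_apply (bs 1)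
  rw [hy] at C1
  simp only [map_add, map_smul] at C1
  rw [hx', hy', hz'] at C1
  have C1' : (d * a' + e * d' + f * g') • bs 0 + (d * b' + e * e' + f * h') • bs 1 +
      (d * c' + e * f' + f * i') • bs 2 = (0 : A) • bs 0 + (1 : A) • bs 1 + (0 : A) • bs 2 :=
    Eq.trans (by module) (C1.trans (by module))
  obtain ⟨-, H11, H12⟩ := comb_eq bs C1'
  have C2 := φ.symm_apply_apply (bs 2)
  rw [hz] at C2
  simp only [map_add, map_smul] at C2
  rw [hx', hy', hz'] at C2
  have C2' : (g * a' + h * d' + i * g') • bs 0 + (g * b' + h * e' + i * h') • bs 1 +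
      (g * c' + h * f' + i * i') • bs 2 = (0 : A) • bs 0 + (0 : A) • bs 1 + (1 : A) • bs 2 :=
    Eq.trans (by module) (C2.trans (by module))
  obtain ⟨-, H21, H22⟩ := comb_eq bs C2'
  subst hd
  subst hd'
  refine ⟨fun hα => ?_, fun hα => ?_⟩
  · by_cases hα0 : α = 0
    · have hα'0 : α' = 0 := by rw [hα', hα0, map_zero]
      have hf : f = 0 := by linear_combination E2 + (a * f - c * 0) * hα'0
      have hf' : f' = 0 := by linear_combination E2' + (a' * f' - c' * 0) * hα'0
      have hee : e * e' = 1 := by linear_combination H11 - h' * hf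
      have hg : g = 0 := by linear_combination (-e') * E6 - g * hee
      have hg' : g' = 0 := by linear_combination (-e) * E6' - g' * hee
      have haa : a * a' = 1 := by linear_combination H00 - c * hg'
      have hh : h = 0 := by
        linear_combination (a' * h) * hα'0 + (a' * b) * hg - a' * E4 - h * haa
      have ha : a = 1 := by linear_combination (-e') * E1 - (a - 1) * hee
      have hii : i * i' = 1 := by linear_combination H22 - c' * hg - f' * hh
      refine ⟨b, c, e, i, IsUnit.of_mul_eq_one e' hee, IsUnit.of_mul_eq_one i' hii, ?_, ?_, ?_⟩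
      · rw [hx, ha, one_smul]
      · rw [hy, hf, zero_smul, zero_smul, zero_add, add_zero]
      · rw [hz, hg, hh, zero_smul, zero_smul, zero_add, zero_add]
    · have hαu : IsUnit α' := by
        rw [hα']
        exact (IsUnit.mk0 α hα0).map (algebraMap K A)
      obtain ⟨β, hβ⟩ := hαu.exists_right_inv
      have hα2u : IsUnit (α' ^ 2 - 1) := by
        have h1 : (α ^ 2 - 1 : K) ≠ 0 := sub_ne_zero.2 hα
        have h2 := (IsUnit.mk0 _ h1).map (algebraMap K A)
        rw [map_sub, map_pow, map_one, ← hα'] at h2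
        exact h2
      obtain ⟨γ, hγ⟩ := hα2u.exists_right_inv
      have hα1u : IsUnit (α' - 1) := by
        have h1 : (α - 1 : K) ≠ 0 := by
          intro h
          apply hα
          rw [sub_eq_zero.1 h, one_pow]
        have h2 := (IsUnit.mk0 _ h1).map (algebraMap K A)
        rw [map_sub, map_one, ← hα'] at h2
        exact h2
      obtain ⟨δ, hδ⟩ := hα1u.exists_right_inv
      have hg : g = 0 := by linear_combination β * E3 - g * hβ
      have hdet : (e * i - f * h) * (e' * i' - f' * h') = 1 := by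
        linear_combination (h * f' + i * i') * H11 + H22 - c' * hg - (h * e' + i * h') * H12
      have hhf : h * f = 0 := by
        linear_combination (-(γ * h)) * E2 + (γ * α' * f) * E4 - (h * f) * hγ
          - (γ * α' * f * b) * hg
      have ha : a = 1 := by
        linear_combination (-(i * (e' * i' - f' * h'))) * E1
          - ((a - 1) * (e' * i' - f' * h')) * hhf - (a - 1) * hdet
      have hf : f = 0 := by
        linear_combination (-(δ * α' * f)) * ha - δ * E2 - f * hδ
      have hh : h = 0 := by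
        linear_combination δ * E4 + (δ * h) * ha - h * hδ - (δ * b) * hg
      have hee : e * e' = 1 := by linear_combination H11 - h' * hf
      have hii : i * i' = 1 := by linear_combination H22 - c' * hg - f' * hh
      refine ⟨b, c, e, i, IsUnit.of_mul_eq_one e' hee, IsUnit.of_mul_eq_one i' hii, ?_, ?_, ?_⟩
      · rw [hx, ha, one_smul]
      · rw [hy, hf, zero_smul, zero_smul, zero_add, add_zero]
      · rw [hz, hg, hh, zero_smul, zero_smul, zero_add, zero_add]
  · have hα1 : α' = 1 := by rw [hα', hα, map_one]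
    have hg : g = 0 := by linear_combination E3 - g * hα1
    have hdet : (e * i - f * h) * (e' * i' - f' * h') = 1 := by
      linear_combination (h * f' + i * i') * H11 + H22 - c' * hg - (h * e' + i * h') * H12
    have ha : a = 1 := by
      linear_combination (-(i * (e' * i' - f' * h'))) * E1 + (h * (e' * i' - f' * h')) * E2
        + (h * (e' * i' - f' * h') * a * f) * hα1 - (a - 1) * hdet
    refine ⟨b, c, e, f, h, i, IsUnit.of_mul_eq_one _ hdet, ?_, ?_, ?_⟩
    · rw [hx, ha, one_smul]
    · rw [hy, zero_smul, zero_add]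
    · rw [hz, hg, zero_smul, zero_add]

end Aux13102

namespace Groth.Agent.S13102

/-- Let K be a field, α ∈ K, A a commutative K-algebra and L a Lie algebra over A which is free as an
A-module with basis x = bs 0, y = bs 1, z = bs 2 and brackets [x,y] = y, [x,z] = α z, [y,z] = 0. If
α² ≠ 1 then every Lie algebra automorphism φ of L over A satisfies φ(x) = x + b y + c z, φ(y) = e y,
φ(z) = i z for some b, c ∈ A and units e, i of A. If α = 1 then every such φ satisfies φ(x) = x + b
y + c z, φ(y) = e y + f z, φ(z) = h y + i z with e i − f h a unit of A. (The printed statement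
identifies the automorphism group schemes with the corresponding semidirect products, treats also α
= −1 in characteristic not 2, and computes first cohomology over a field of Laurent series; those
clauses are not restated here.) -/
theorem result (K : Type u) [Field K] (α : K) (A : Type v) [CommRing A] [Algebra K A]
    (L : Type w) [LieRing L] [LieAlgebra A L] (bs : Module.Basis (Fin 3) A L)
    (hxy : ⁅bs 0, bs 1⁆ = bs 1) (hxz : ⁅bs 0, bs 2⁆ = algebraMap K A α • bs 2) (hyz : ⁅bs 1, bs 2⁆ = 0)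
    (φ : L ≃ₗ⁅A⁆ L) :
    (α ^ 2 ≠ 1 → ∃ b c e i : A, IsUnit e ∧ IsUnit i ∧ φ (bs 0) = bs 0 + b • bs 1 + c • bs 2 ∧
        φ (bs 1) = e • bs 1 ∧ φ (bs 2) = i • bs 2) ∧
    (α = 1 → ∃ b c e f h i : A, IsUnit (e * i - f * h) ∧ φ (bs 0) = bs 0 + b • bs 1 + c • bs 2 ∧
        φ (bs 1) = e • bs 1 + f • bs 2 ∧ φ (bs 2) = h • bs 1 + i • bs 2) := by
  exact Aux13102.main K α A L bs hxy hxz hyz φ

end Groth.Agent.S13102
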