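import Groth.Statements.S13105
import Mathlib
import Groth.Agent.Lib.Helper12.DimFT
import Groth.Agent.Lib.Helper4.FaltHt

set_option autoImplicit false
set_option linter.style.haveILetI false
universe u
open Lie3Mod

namespace Groth.Agent.S13105

section aux

open MvPolynomial

lemma spanFinrank_span_range_le {R M : Type*} [Semiring R] [AddCommMonoid M] [Module R M] {n : ℕ}
    (f : Fin n → M) : (Submodule.span R (Set.range f)).spanFinrank ≤ n := by
  have h := Submodule.spanFinrank_span_le_ncard_of_finite (R := R) (Set.finite_range f)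
  refine h.trans ?_
  rw [← Set.image_univ]
  calc (f '' Set.univ).ncard ≤ (Set.univ : Set (Fin n)).ncard :=
        Set.ncard_image_le Set.finite_univ
    _ = n := by rw [Set.ncard_univ, Nat.card_eq_fintype_card, Fintype.card_fin]

variable (k : Type u) [Field k]

/-- The cofactor-type unit `s = L2 + C12 = b + f + e c - b f`. -/
noncomputable def sU : D k := X 1 + X 5 + X 4 * X 2 - X 1 * X 5

theorem id1 : sU k * Q1 k = (X 1 + X 5) * (Q1 k + detM k) - (X 7 * X 2 + X 8 * X 5) * Q2 k
    + (X 7 * X 1 + X 8 * X 4) * Q3 k := by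
  simp only [sU, Q1, Q2, Q3, detM, va, vb, vc, vd, ve, vf, vg, vh, vi]
  ring

theorem id3 : (1 : D k) - sU k = (X 1 - 1) * (X 5 - 1) - X 4 * X 2 := by
  simp only [sU]
  ring

theorem id4 : sU k * X 6 = (X 0 * X 7 + X 3 * X 8 - X 2 * X 7 ^ 2 + X 4 * X 8 ^ 2
    + X 7 * X 1 * X 8 - X 8 * X 7 * X 5) - (Q1 k + detM k) := by
  simp only [sU, Q1, detM, va, vb, vc, vd, ve, vf, vg, vh, vi]
  ring

theorem id5 : (X 1 * X 3 : D k) = Q2 k - X 8 * X 4 + X 5 * X 7 + X 0 * X 4 := by
  simp only [Q2, va, vb, vc, vd, ve, vf, vg, vh, vi]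
  ring

theorem id6 : (X 1 * X 8 : D k) = X 7 * X 2 + X 3 * X 2 - X 0 * X 5 - Q3 k := by
  simp only [Q3, va, vb, vc, vd, ve, vf, vg, vh, vi]
  ring

end aux

open MvPolynomial in
theorem core (k : Type u) [Field k] (t : k)
    (P : Ideal (Lie3Mod.D k ⧸ Lie3Mod.idJ k)) [P.IsPrime]
    (hP : P = Ideal.map (Ideal.Quotient.mk (Lie3Mod.idJ k))
      (Ideal.span ({X 0, X 1 - 1, X 2, X 3, X 4, X 5 - C t, X 6, X 7, X 8} : Set (Lie3Mod.D k))))
    (R : Type u) [CommRing R] [Algebra (Lie3Mod.D k ⧸ Lie3Mod.idJ k) R]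
    [IsLocalization.AtPrime R P] :
    IsRegularLocalRing R ∧ ringKrullDim R = 6 := by
  classical
  haveI : IsLocalRing R := IsLocalization.AtPrime.isLocalRing R P
  obtain ⟨m, hm⟩ : ∃ m : Ideal (D k), m = Ideal.span
      ({X 0, X 1 - 1, X 2, X 3, X 4, X 5 - C t, X 6, X 7, X 8} : Set (D k)) := ⟨_, rfl⟩
  rw [← hm] at hP
  have hJdef : idJ k = Ideal.span {Q1 k, Q2 k, Q3 k, detM k} := rfl
  set m' : Ideal (D k) := P.comap (Ideal.Quotient.mk (idJ k)) with hm'
  haveI hm'prime : m'.IsPrime := Ideal.comap_isPrime _ _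
  have hmm' : m ≤ m' := by rw [hm', hP]; exact Ideal.le_comap_map
  have hJm' : idJ k ≤ m' := by
    intro x hx
    rw [hm', Ideal.mem_comap, Ideal.Quotient.eq_zero_iff_mem.mpr hx]; exact zero_mem _
  have hPmap : m'.map (Ideal.Quotient.mk (idJ k)) = P :=
    Ideal.map_comap_of_surjective _ Ideal.Quotient.mk_surjective P
  have h1m' : (1 : D k) ∉ m' := fun h => hm'prime.ne_top ((Ideal.eq_top_iff_one _).mpr h)
  -- generators in m
  have g0 : (X 0 : D k) ∈ m := by rw [hm]; exact Ideal.subset_span (by simp)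
  have g1 : (X 1 - 1 : D k) ∈ m := by rw [hm]; exact Ideal.subset_span (by simp)
  have g2 : (X 2 : D k) ∈ m := by rw [hm]; exact Ideal.subset_span (by simp)
  have g3 : (X 3 : D k) ∈ m := by rw [hm]; exact Ideal.subset_span (by simp)
  have g4 : (X 4 : D k) ∈ m := by rw [hm]; exact Ideal.subset_span (by simp)
  have g5 : (X 5 - C t : D k) ∈ m := by rw [hm]; exact Ideal.subset_span (by simp)
  have g6 : (X 6 : D k) ∈ m := by rw [hm]; exact Ideal.subset_span (by simp)
  have g7 : (X 7 : D k) ∈ m := by rw [hm]; exact Ideal.subset_span (by simp)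
  have g8 : (X 8 : D k) ∈ m := by rw [hm]; exact Ideal.subset_span (by simp)
  have hX : ∀ i : Fin 9, ∃ v : k, (X i - C v : D k) ∈ m := by
    intro i
    fin_cases i
    · exact ⟨0, by simpa using g0⟩
    · exact ⟨1, by simpa using g1⟩
    · exact ⟨0, by simpa using g2⟩
    · exact ⟨0, by simpa using g3⟩
    · exact ⟨0, by simpa using g4⟩
    · exact ⟨t, by simpa using g5⟩
    · exact ⟨0, by simpa using g6⟩
    · exact ⟨0, by simpa using g7⟩
    · exact ⟨0, by simpa using g8⟩
  have hconst : ∀ p : D k, ∃ c : k, p - C c ∈ m := by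
    intro p
    induction p using MvPolynomial.induction_on with
    | C c => exact ⟨c, by simp⟩
    | add p q hp hq =>
      obtain ⟨c1, h1⟩ := hp
      obtain ⟨c2, h2⟩ := hq
      refine ⟨c1 + c2, ?_⟩
      have : p + q - C (c1 + c2) = (p - C c1) + (q - C c2) := by rw [map_add]; ring
      rw [this]; exact add_mem h1 h2
    | mul_X p i hp =>
      obtain ⟨c1, h1⟩ := hp
      obtain ⟨v, hv⟩ := hX i
      refine ⟨c1 * v, ?_⟩
      have : p * X i - C (c1 * v) = (p - C c1) * X i + C c1 * (X i - C v) := by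
        rw [map_mul]; ring
      rw [this]; exact add_mem (Ideal.mul_mem_right _ _ h1) (Ideal.mul_mem_left _ _ hv)
  have hmax : m'.IsMaximal := by
    rw [Ideal.isMaximal_iff]
    refine ⟨h1m', fun K x hK hx hxK => ?_⟩
    obtain ⟨c, hc⟩ := hconst x
    have hc0 : c ≠ 0 := by
      rintro rfl
      apply hx
      simpa using hmm' hc
    have hCK : C c ∈ K := by
      have : (C c : D k) = x - (x - C c) := by ring
      rw [this]; exact sub_mem hxK (hK (hmm' hc))
    have : (1 : D k) = C c⁻¹ * C c := by rw [← map_mul, inv_mul_cancel₀ hc0, map_one]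
    rw [this]; exact Ideal.mul_mem_left _ _ hCK
  have hs : sU k ∉ m' := by
    intro h
    apply h1m'
    have h2 : (1 : D k) - sU k ∈ m' := by
      rw [id3]
      exact sub_mem (Ideal.mul_mem_right _ _ (hmm' g1)) (Ideal.mul_mem_right _ _ (hmm' g4))
    have : (1 : D k) = (1 - sU k) + sU k := by ring
    rw [this]; exact add_mem h2 h
  have hQ1J : Q1 k ∈ idJ k := by rw [hJdef]; exact Ideal.subset_span (by simp)
  have hQ2J : Q2 k ∈ idJ k := by rw [hJdef]; exact Ideal.subset_span (by simp)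
  have hQ3J : Q3 k ∈ idJ k := by rw [hJdef]; exact Ideal.subset_span (by simp)
  have hdetJ : detM k ∈ idJ k := by rw [hJdef]; exact Ideal.subset_span (by simp)
  -- a minimal prime
  obtain ⟨q, hq, hqm'⟩ := Ideal.exists_minimalPrimes_le hJm'
  haveI hqp : q.IsPrime := hq.1.1
  have hJq : idJ k ≤ q := hq.1.2
  obtain ⟨S3, hS3⟩ : ∃ S3 : Set (D k), S3 = {Q1 k + detM k, Q2 k, Q3 k} := ⟨_, rfl⟩
  have hqmin3 : q ∈ (Ideal.span S3).minimalPrimes := by
    refine ⟨⟨hqp, ?_⟩, ?_⟩
    · rw [Ideal.span_le]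
      intro x hx
      rw [hS3] at hx
      simp only [Set.mem_insert_iff, Set.mem_singleton_iff] at hx
      rcases hx with rfl | rfl | rfl
      · exact hJq (add_mem hQ1J hdetJ)
      · exact hJq hQ2J
      · exact hJq hQ3J
    · rintro q' ⟨hq'p, hq'le⟩ hq'q
      apply hq.2 ⟨hq'p, ?_⟩ hq'q
      have hG : Q1 k + detM k ∈ q' := hq'le (Ideal.subset_span (by rw [hS3]; simp))
      have h2 : Q2 k ∈ q' := hq'le (Ideal.subset_span (by rw [hS3]; simp))
      have h3 : Q3 k ∈ q' := hq'le (Ideal.subset_span (by rw [hS3]; simp))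
      have hsq' : sU k ∉ q' := fun h => hs (hqm' (hq'q h))
      have h1 : Q1 k ∈ q' := by
        have : sU k * Q1 k ∈ q' := by
          rw [id1]
          exact add_mem (sub_mem (Ideal.mul_mem_left _ _ hG) (Ideal.mul_mem_left _ _ h2))
            (Ideal.mul_mem_left _ _ h3)
        exact (hq'p.mem_or_mem this).resolve_left hsq'
      have h4 : detM k ∈ q' := by
        have : detM k = (Q1 k + detM k) - Q1 k := by ring
        rw [this]; exact sub_mem hG h1
      rw [hJdef, Ideal.span_le]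
      intro x hx
      simp only [Set.mem_insert_iff, Set.mem_singleton_iff] at hx
      rcases hx with rfl | rfl | rfl | rfl
      exacts [h1, h2, h3, h4]
  have hq3 : q.height ≤ 3 := by
    have hfin : S3.Finite := by rw [hS3]; simp
    have h := Ideal.height_le_card_of_mem_minimalPrimes_span hfin hqmin3
    refine h.trans ?_
    have : S3.ncard ≤ 3 := by
      rw [hS3]
      calc ({Q1 k + detM k, Q2 k, Q3 k} : Set (D k)).ncard
          ≤ ({Q2 k, Q3 k} : Set (D k)).ncard + 1 := Set.ncard_insert_le _ _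
        _ ≤ (({Q3 k} : Set (D k)).ncard + 1) + 1 := by
            gcongr; exact Set.ncard_insert_le _ _
        _ = 3 := by rw [Set.ncard_singleton]
    exact_mod_cast this
  -- dimension theory
  have hdimD : ringKrullDim (D k) = ((9 : ℕ) : WithBot ℕ∞) :=
    Groth.Agent.Lib.Helper12.ringKrullDim_mvPolynomial_field k 9
  let y : PrimeSpectrum (D k) := ⟨q, hqp⟩
  have hyh : Order.height y = q.height := (PrimeSpectrum.height_eq_orderHeight y).symm
  obtain ⟨n, hn⟩ : ∃ n : ℕ, Order.height y = n := by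
    have : Order.height y ≠ ⊤ := by
      rw [hyh]; exact ne_top_of_le_ne_top (by simp) hq3
    exact (ENat.ne_top_iff_exists.mp this).imp fun n hn => hn.symm
  have key := Groth.Agent.Lib.Helper12.DimFT.height_add_coheight k (D k) 9 hdimD n y hn
  have hn3 : n ≤ 3 := by
    have : (n : ℕ∞) ≤ 3 := by rw [← hn, hyh]; exact hq3
    exact_mod_cast this
  obtain ⟨c, hc⟩ : ∃ c : ℕ, Order.coheight y = c := by
    have : Order.coheight y ≠ ⊤ := by
      intro h
      rw [h, add_top] at key
      exact absurd key (by simp)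
    exact (ENat.ne_top_iff_exists.mp this).imp fun n hn => hn.symm
  have hnc : n + c = 9 := by
    rw [hn, hc] at key; exact_mod_cast key
  have hc6 : 6 ≤ c := by omega
  have hdimq : ringKrullDim (D k ⧸ q) = (c : WithBot ℕ∞) := by
    have := Groth.Agent.Lib.Helper12.DimFT.ringKrullDim_quotient_eq_coheight y
    rw [hc] at this
    exact_mod_cast this
  haveI : IsDomain (D k ⧸ q) := Ideal.Quotient.isDomain q
  haveI : Algebra.FiniteType k (D k ⧸ q) :=
    Algebra.FiniteType.of_surjective (Ideal.Quotient.mkₐ k q) (Ideal.Quotient.mkₐ_surjective k q)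
  obtain ⟨mq, hmq⟩ : ∃ mq : Ideal (D k ⧸ q), mq = m'.map (Ideal.Quotient.mk q) := ⟨_, rfl⟩
  haveI hmqmax : mq.IsMaximal := by
    rw [hmq]
    rcases Ideal.map_eq_top_or_isMaximal_of_surjective (Ideal.Quotient.mk q)
      Ideal.Quotient.mk_surjective hmax with h | h
    · exfalso
      have h2 := congrArg (Ideal.comap (Ideal.Quotient.mk q)) h
      rw [Ideal.comap_map_of_surjective _ Ideal.Quotient.mk_surjective, Ideal.comap_top,
        ← RingHom.ker_eq_comap_bot, Ideal.mk_ker, sup_of_le_left hqm'] at h2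
      exact hm'prime.ne_top h2
    · exact h
  have hmqh : mq.height = c :=
    Groth.Agent.Lib.Helper12.DimFT.height_eq_of_isMaximal k (D k ⧸ q) c hdimq mq
  let φ : (D k ⧸ idJ k) →+* (D k ⧸ q) := Ideal.Quotient.factor hJq
  have hφs : Function.Surjective φ := Ideal.Quotient.factor_surjective hJq
  have hkerP : RingHom.ker φ ≤ P := by
    rw [Ideal.Quotient.factor_ker hJq, ← hPmap]; exact Ideal.map_mono hqm'
  have hPφ : P.map φ = mq := by
    rw [hmq, ← hPmap, Ideal.map_map, Ideal.Quotient.factor_comp_mk]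
  have hht := Groth.Agent.Lib.Helper4.Falt.height_ker_add_height_map_le φ hφs P hkerP
  have hP6 : (6 : ℕ∞) ≤ P.height := by
    calc (6 : ℕ∞) ≤ c := by exact_mod_cast hc6
      _ = mq.height := hmqh.symm
      _ = (P.map φ).height := by rw [hPφ]
      _ ≤ (RingHom.ker φ).height + (P.map φ).height := le_add_self
      _ ≤ P.height := hht
  -- Part 2: generators of the maximal ideal
  let ι : D k →+* R :=
    (algebraMap (D k ⧸ idJ k) (R)).comp (Ideal.Quotient.mk (idJ k))
  have hιJ : ∀ x ∈ idJ k, ι x = 0 := by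
    intro x hx
    simp only [ι, RingHom.comp_apply, Ideal.Quotient.eq_zero_iff_mem.mpr hx, map_zero]
  have hιunit : ∀ x, x ∉ m' → IsUnit (ι x) := by
    intro x hx
    exact IsLocalization.map_units (R)
      (⟨Ideal.Quotient.mk (idJ k) x, hx⟩ : P.primeCompl)
  have hmaxeq : m.map ι = IsLocalRing.maximalIdeal (R) := by
    have h1 := IsLocalization.AtPrime.map_eq_maximalIdeal P (R)
    calc m.map ι = (m.map (Ideal.Quotient.mk (idJ k))).map
          (algebraMap (D k ⧸ idJ k) (R)) := (Ideal.map_map _ _).symm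
      _ = P.map (algebraMap (D k ⧸ idJ k) (R)) := by rw [← hP]
      _ = _ := h1
  let v : Fin 6 → R :=
    ![ι (X 0), ι (X 1 - 1), ι (X 2), ι (X 4), ι (X 5 - C t), ι (X 7)]
  obtain ⟨N, hN⟩ : ∃ N : Ideal (R), N = Ideal.span (Set.range v) := ⟨_, rfl⟩
  have n0 : ι (X 0) ∈ N := by rw [hN]; exact Ideal.subset_span ⟨0, rfl⟩
  have n1 : ι (X 1 - 1) ∈ N := by rw [hN]; exact Ideal.subset_span ⟨1, rfl⟩
  have n2 : ι (X 2) ∈ N := by rw [hN]; exact Ideal.subset_span ⟨2, rfl⟩
  have n4 : ι (X 4) ∈ N := by rw [hN]; exact Ideal.subset_span ⟨3, rfl⟩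
  have n5 : ι (X 5 - C t) ∈ N := by rw [hN]; exact Ideal.subset_span ⟨4, rfl⟩
  have n7 : ι (X 7) ∈ N := by rw [hN]; exact Ideal.subset_span ⟨5, rfl⟩
  have hb : IsUnit (ι (X 1)) := hιunit _ (fun h => h1m' (by
    have : (1 : D k) = X 1 - (X 1 - 1) := by ring
    rw [this]; exact sub_mem h (hmm' g1)))
  have hsu : IsUnit (ι (sU k)) := hιunit _ hs
  have n3 : ι (X 3) ∈ N := by
    have h : ι (X 1) * ι (X 3) ∈ N := by
      have e : ι (X 1) * ι (X 3) = ι (X 5) * ι (X 7) + ι (X 0) * ι (X 4) - ι (X 8) * ι (X 4) := by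
        have h1 := hιJ _ hQ2J
        have h3 := congrArg ι (id5 k)
        simp only [map_sub, map_add, map_mul] at h3
        rw [h3, h1]; ring
      rw [e]
      exact sub_mem (add_mem (Ideal.mul_mem_left _ _ n7) (Ideal.mul_mem_left _ _ n4))
        (Ideal.mul_mem_left _ _ n4)
    exact (Ideal.unit_mul_mem_iff_mem N hb).mp h
  have n8 : ι (X 8) ∈ N := by
    have h : ι (X 1) * ι (X 8) ∈ N := by
      have e : ι (X 1) * ι (X 8) = ι (X 7) * ι (X 2) + ι (X 3) * ι (X 2) - ι (X 0) * ι (X 5) := by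
        have h1 := hιJ _ hQ3J
        have h3 := congrArg ι (id6 k)
        simp only [map_sub, map_add, map_mul] at h3
        rw [h3, h1]; ring
      rw [e]
      exact sub_mem (add_mem (Ideal.mul_mem_left _ _ n2) (Ideal.mul_mem_left _ _ n2))
        (Ideal.mul_mem_right _ _ n0)
    exact (Ideal.unit_mul_mem_iff_mem N hb).mp h
  have n6 : ι (X 6) ∈ N := by
    have h : ι (sU k) * ι (X 6) ∈ N := by
      have e : ι (sU k) * ι (X 6) = ι (X 0) * ι (X 7) + ι (X 3) * ι (X 8)
          - ι (X 2) * ι (X 7) ^ 2 + ι (X 4) * ι (X 8) ^ 2 + ι (X 7) * ι (X 1) * ι (X 8)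
          - ι (X 8) * ι (X 7) * ι (X 5) := by
        have h1 := hιJ _ (add_mem hQ1J hdetJ)
        have h3 := congrArg ι (id4 k)
        rw [map_mul, map_sub, h1, sub_zero] at h3
        simp only [map_sub, map_add, map_mul, map_pow] at h3
        exact h3
      rw [e]
      refine sub_mem (add_mem (add_mem (sub_mem (add_mem ?_ ?_) ?_) ?_) ?_) ?_
      · exact Ideal.mul_mem_left _ _ n7
      · exact Ideal.mul_mem_left _ _ n8
      · exact Ideal.mul_mem_right _ _ n2
      · exact Ideal.mul_mem_right _ _ n4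
      · exact Ideal.mul_mem_left _ _ n8
      · exact Ideal.mul_mem_right _ _ (Ideal.mul_mem_left _ _ n7)
    exact (Ideal.unit_mul_mem_iff_mem N hsu).mp h
  have hmaxle : IsLocalRing.maximalIdeal (R) ≤ N := by
    rw [← hmaxeq, Ideal.map_le_iff_le_comap, hm, Ideal.span_le]
    intro x hx
    simp only [Set.mem_insert_iff, Set.mem_singleton_iff] at hx
    rcases hx with rfl | rfl | rfl | rfl | rfl | rfl | rfl | rfl | rfl
    exacts [n0, n1, n2, n3, n4, n5, n6, n7, n8]
  have hNle : N ≤ IsLocalRing.maximalIdeal (R) := by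
    rw [hN, Ideal.span_le]
    rintro _ ⟨j, rfl⟩
    rw [← hmaxeq]
    fin_cases j
    · exact Ideal.mem_map_of_mem ι g0
    · exact Ideal.mem_map_of_mem ι g1
    · exact Ideal.mem_map_of_mem ι g2
    · exact Ideal.mem_map_of_mem ι g4
    · exact Ideal.mem_map_of_mem ι g5
    · exact Ideal.mem_map_of_mem ι g7
  have hspan : (IsLocalRing.maximalIdeal (R)).spanFinrank ≤ 6 := by
    rw [le_antisymm hmaxle hNle, hN]
    exact spanFinrank_span_range_le v
  haveI : IsNoetherianRing (R) :=
    IsLocalization.isNoetherianRing P.primeCompl R inferInstance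
  have hdimR : ringKrullDim (R) = P.height :=
    IsLocalization.AtPrime.ringKrullDim_eq_height P R
  have hge : (6 : WithBot ℕ∞) ≤ ringKrullDim (R) := by
    rw [hdimR]
    have h66 : ((6 : ℕ∞) : WithBot ℕ∞) ≤ P.height := WithBot.coe_le_coe.mpr hP6
    exact h66
  have hle := ringKrullDim_le_spanFinrank_maximalIdeal (R)
  have h6 : ((IsLocalRing.maximalIdeal (R)).spanFinrank : WithBot ℕ∞) ≤ 6 := by
    exact_mod_cast hspan
  exact ⟨IsRegularLocalRing.of_spanFinrank_maximalIdeal_le _ (h6.trans hge),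
    le_antisymm (hle.trans h6) hge⟩


open MvPolynomial in
/-- Let k be a field, t ∈ k, D = k[a,b,c,d,e,f,g,h,i] and J = (Q1, Q2, Q3, det M) with Q1 = ah + di − fg
− bg, Q2 = ie + bd − fh − ae, Q3 = hc + dc − af − bi, det M = −ch² + gbf + ei² − gec + hbi − ihf.
The maximal ideal (a, b − 1, c, d, e, f − t, g, h, i) of D contains J (it is the point given by the
Lie algebra with [x,y] = y, [x,z] = t z, [y,z] = 0), and the localization of D/J at the
corresponding prime is a regular local ring of Krull dimension 6: the scheme Spec(D/J) has a smooth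
k-rational point. -/
theorem result (k : Type u) [Field k] (t : k)
    (P : Ideal (Lie3Mod.D k ⧸ Lie3Mod.idJ k)) [P.IsPrime]
    (hP : P = Ideal.map (Ideal.Quotient.mk (Lie3Mod.idJ k))
      (Ideal.span ({X 0, X 1 - 1, X 2, X 3, X 4, X 5 - C t, X 6, X 7, X 8} : Set (Lie3Mod.D k)))) :
    IsRegularLocalRing (Localization.AtPrime P) ∧ ringKrullDim (Localization.AtPrime P) = 6 := by
  exact core k t P hP (Localization.AtPrime P)

end Groth.Agent.S13105
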