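-- Statement S13106.
import Groth.Statements.S13106
import Mathlib

set_option autoImplicit false
universe u
open GrpSch

namespace Groth.Agent.S13106

open CategoryTheory AlgebraicGeometry Limits in
lemma aux {E W Y : Scheme.{u}} (e : E ⟶ Y) (j : W ⟶ E) (k : W ⟶ Y) (hk : j ≫ e = k)
    (V : Y.Opens) (s : Γ(Y, V)) (hs : (e.app V).hom s = 0) : (k.app V).hom s = 0 := by
  subst hk
  have h1 : ((j ≫ e).app V).hom s = (j.app (e ⁻¹ᵁ V)).hom ((e.app V).hom s) := rfl
  refine h1.trans ?_
  rw [hs]
  exact map_zero _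

open CategoryTheory AlgebraicGeometry Limits in
/-- Let f : X → Y be a morphism of schemes and U ⊆ Y a schematically dense open subscheme (for every
open V of Y, restriction of functions from V to V ∩ U is injective) such that the restriction f⁻¹(U)
→ U of f is an isomorphism. Then two morphisms from Y to a scheme separated over a base T that agree
after composing with f and have the same composite to T are equal: if Z → T is separated and v₁, v₂
: Y → Z satisfy v₁ ≫ (Z → T) = v₂ ≫ (Z → T) and f ≫ v₁ = f ≫ v₂, then v₁ = v₂. (The published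
statement is the case of a morphism between two prolongations over A[[t]] of a finite group scheme
over A((t)), where U is the generic fibre, schematically dense by flatness; uniqueness of
prolongation maps follows.) -/
theorem result {X Y Z T : Scheme.{u}} (f : X ⟶ Y)
    (U : Y.Opens) (hU : CInt.IsSchematicallyDense U) [IsIso (f ∣_ U)]
    (z : Z ⟶ T) [IsSeparated z] (v₁ v₂ : Y ⟶ Z) (hz : v₁ ≫ z = v₂ ≫ z) (h : f ≫ v₁ = f ≫ v₂) :
    v₁ = v₂ := by
  have hUeq : U.ι ≫ v₁ = U.ι ≫ v₂ := by
    have h1 : U.ι = inv (f ∣_ U) ≫ (f ⁻¹ᵁ U).ι ≫ f := by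
      rw [IsIso.eq_inv_comp]; exact (morphismRestrict_ι f U)
    rw [h1]; simp only [Category.assoc, h]
  let X' : Over T := Over.mk (v₁ ≫ z)
  let Y' : Over T := Over.mk z
  let U' : Over T := Over.mk (U.ι ≫ v₁ ≫ z)
  let f' : X' ⟶ Y' := Over.homMk v₁
  let g' : X' ⟶ Y' := Over.homMk v₂ (by simpa [X', Y'] using hz.symm)
  let ι' : U' ⟶ X' := Over.homMk U.ι
  have : IsSeparated Y'.hom := ‹_›
  have he : IsClosedImmersion (equalizer.ι f' g').left := inferInstance
  have hj : (equalizer.lift ι' (by ext1; exact hUeq)).left ≫ (equalizer.ι f' g').left = U.ι := by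
    rw [← Over.comp_left, equalizer.lift_ι]; rfl
  have : IsIso (equalizer.ι f' g').left := by
    rw [IsClosedImmersion.isIso_iff_ker_eq_bot]
    refine Scheme.IdealSheafData.ext ?_
    funext V
    rw [Scheme.Hom.ker_apply, Scheme.IdealSheafData.ideal_bot, Pi.bot_apply, eq_bot_iff]
    intro s hs
    rw [RingHom.mem_ker] at hs
    rw [Ideal.mem_bot]
    have h2 : (U.ι.app V.1).hom s = 0 := aux _ _ _ hj V.1 s hs
    rw [Scheme.Opens.ι_app] at h2
    apply hU V.1
    rw [map_zero]
    have hle : V.1 ⊓ U ≤ U.ι ''ᵁ U.ι ⁻¹ᵁ V.1 := by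
      rw [Scheme.Hom.image_preimage_eq_opensRange_inf, Scheme.Opens.opensRange_ι]
      exact le_of_eq (inf_comm _ _)
    have h4 := congrArg (fun t => (Y.presheaf.map (homOfLE hle).op).hom t) h2
    have h5 : (Y.presheaf.map (homOfLE hle).op).hom (0 : Γ(Y, U.ι ''ᵁ U.ι ⁻¹ᵁ V.1)) = 0 :=
      map_zero _
    refine Eq.trans ?_ (h4.trans h5)
    change _ = (Y.presheaf.map _ ≫ Y.presheaf.map _).hom s
    rw [← Functor.map_comp]
    rfl
  rw [← cancel_epi (equalizer.ι f' g').left]
  exact congr($(equalizer.condition f' g').left)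

end Groth.Agent.S13106
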