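import Mathlib
import Groth.Statements.S13107
import Groth.Agent.Lib.Helper29.Lie3Coord

set_option autoImplicit false
universe u v w
open GrpSch

namespace Aux13107

open Groth.Agent.Lib.Helper29.Lie3Coord

theorem aux (K : Type u) [Field K] (T : K)
    (F : Type v) [LieRing F] [LieAlgebra K F] (bF : Module.Basis (Fin 3) K F)
    (hF01 : ⁅bF 0, bF 1⁆ = bF 2) (hF02 : ⁅bF 0, bF 2⁆ = T • bF 1)
    (hF12 : ⁅bF 1, bF 2⁆ = 0)
    (L : Type w) [LieRing L] [LieAlgebra K L] (bL : Module.Basis (Fin 3) K L)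
    (hL01 : ⁅bL 0, bL 1⁆ = bL 1)
    (φ : L ≃ₗ⁅K⁆ F) : ∃ a : K, T * a * a = 1 := by
  obtain ⟨a, b, c, hx⟩ := exists_coords bF (φ (bL 0))
  obtain ⟨d, e, f, hy⟩ := exists_coords bF (φ (bL 1))
  have B1 := φ.map_lie (bL 0) (bL 1)
  rw [hL01, hx, hy, bracket_comb, hF01, hF02, hF12] at B1
  have B1' : d • bF 0 + e • bF 1 + f • bF 2 =
      (0 : K) • bF 0 + (T * (a * f - c * d)) • bF 1 + (a * e - b * d) • bF 2 := by
    rw [B1]; module
  obtain ⟨hd, E1, E2⟩ := comb_eq bF B1'
  subst hd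
  have hne : e ≠ 0 := by
    intro he
    have hf : f = 0 := by rw [E2, he]; ring
    have h0 : φ (bL 1) = 0 := by rw [hy, he, hf]; simp
    have h1 : bL 1 = 0 := EquivLike.injective φ (h0.trans (map_zero φ).symm)
    exact bL.ne_zero 1 h1
  refine ⟨a, ?_⟩
  have h3 : (T * a * a - 1) * e = 0 := by linear_combination (-1 : K) * E1 - (T * a) * E2
  rcases mul_eq_zero.1 h3 with h4 | h4
  · exact sub_eq_zero.1 h4
  · exact absurd h4 hne

theorem main (k : Type u) [Field k]
    (F : Type v) [LieRing F] [LieAlgebra (LaurentSeries k) F] (bF : Module.Basis (Fin 3) (LaurentSeries k) F)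
    (hF01 : ⁅bF 0, bF 1⁆ = bF 2) (hF02 : ⁅bF 0, bF 2⁆ = (HahnSeries.single 1 (1 : k) : LaurentSeries k) • bF 1)
    (hF12 : ⁅bF 1, bF 2⁆ = 0)
    (L : Type w) [LieRing L] [LieAlgebra (LaurentSeries k) L] (bL : Module.Basis (Fin 3) (LaurentSeries k) L)
    (hL01 : ⁅bL 0, bL 1⁆ = bL 1) (hL02 : ⁅bL 0, bL 2⁆ = -bL 2) (hL12 : ⁅bL 1, bL 2⁆ = 0) :
    IsEmpty (L ≃ₗ⁅LaurentSeries k⁆ F) := by
  refine ⟨fun φ => ?_⟩
  obtain ⟨a, hTaa⟩ := aux (LaurentSeries k) (HahnSeries.single 1 (1 : k) : LaurentSeries k)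
    F bF hF01 hF02 hF12 L bL hL01 φ
  have ha : a ≠ 0 := by
    rintro rfl
    simp at hTaa
  have hT0 : (HahnSeries.single 1 (1 : k) : LaurentSeries k) ≠ 0 := by
    intro h
    rw [h] at hTaa
    simp at hTaa
  have hord := congrArg HahnSeries.order hTaa
  rw [HahnSeries.order_mul (mul_ne_zero hT0 ha) ha, HahnSeries.order_mul hT0 ha,
    HahnSeries.order_single one_ne_zero, HahnSeries.order_one] at hord
  omega

end Aux13107

namespace Groth.Agent.S13107

/-- Let k be a field, K = k((t)) the field of Laurent series over k, F a Lie algebra over K with a basis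
x' = bF 0, y' = bF 1, z' = bF 2 and brackets [x',y'] = z', [x',z'] = t y', [y',z'] = 0, and L a Lie
algebra over K with a basis x = bL 0, y = bL 1, z = bL 2 and brackets [x,y] = y, [x,z] = −z, [y,z] =
0. Then there is no K-linear isomorphism of Lie algebras between L and F: F is a non-trivial form of
L over K. (The published result is the classification of three-dimensional Lie algebras over k((t))
for k algebraically closed of characteristic not 2, with F its only non-split entry; this row states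
the non-isomorphism of F and L over k((t)) for every field k.) -/
theorem result (k : Type u) [Field k]
    (F : Type v) [LieRing F] [LieAlgebra (LaurentSeries k) F] (bF : Module.Basis (Fin 3) (LaurentSeries k) F)
    (hF01 : ⁅bF 0, bF 1⁆ = bF 2) (hF02 : ⁅bF 0, bF 2⁆ = (HahnSeries.single 1 (1 : k) : LaurentSeries k) • bF 1)
    (hF12 : ⁅bF 1, bF 2⁆ = 0)
    (L : Type w) [LieRing L] [LieAlgebra (LaurentSeries k) L] (bL : Module.Basis (Fin 3) (LaurentSeries k) L)
    (hL01 : ⁅bL 0, bL 1⁆ = bL 1) (hL02 : ⁅bL 0, bL 2⁆ = -bL 2) (hL12 : ⁅bL 1, bL 2⁆ = 0) :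
    IsEmpty (L ≃ₗ⁅LaurentSeries k⁆ F) := by
  exact Aux13107.main k F bF hF01 hF02 hF12 L bL hL01 hL02 hL12

end Groth.Agent.S13107
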