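import Mathlib
import Groth.Statements.S13108
import Groth.Agent.Lib.Helper29.Lie3Coord

set_option autoImplicit false
universe u v w
open GrpSch

namespace Aux13108

open Groth.Agent.Lib.Helper29.Lie3Coord

theorem iso_of_linear (k : Type u) [Field k] (t : k)
    (L : Type v) [LieRing L] [LieAlgebra k L] (b : Module.Basis (Fin 3) k L)
    (h01 : ⁅b 0, b 1⁆ = b 1) (h02 : ⁅b 0, b 2⁆ = t • b 2) (h12 : ⁅b 1, b 2⁆ = 0)
    (L' : Type w) [LieRing L'] [LieAlgebra k L'] (f : L ≃ₗ[k] L') (x' y' z' : L')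
    (hf0 : f (b 0) = x') (hf1 : f (b 1) = y') (hf2 : f (b 2) = z')
    (e01 : ⁅x', y'⁆ = y') (e02 : ⁅x', z'⁆ = t • z') (e12 : ⁅y', z'⁆ = 0) :
    Nonempty (L ≃ₗ⁅k⁆ L') := by
  have hlie : ∀ u v : L, f ⁅u, v⁆ = ⁅f u, f v⁆ := by
    intro u v
    obtain ⟨u0, u1, u2, rfl⟩ := exists_coords b u
    obtain ⟨v0, v1, v2, rfl⟩ := exists_coords b v
    rw [bracket_comb, h01, h02, h12]
    simp only [map_add, map_smul, map_zero, hf0, hf1, hf2]
    rw [bracket_comb, e01, e02, e12]
  exact ⟨{ toLieHom := { toLinearMap := f.toLinearMap, map_lie' := by intro u v; exact hlie u v }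
           invFun := f.symm
           left_inv := fun u => f.symm_apply_apply u
           right_inv := fun u => f.apply_symm_apply u }⟩

theorem main (k : Type u) [Field k] (t t' : k) (ht : t ≠ 0) (ht' : t' ≠ 0)
    (L : Type v) [LieRing L] [LieAlgebra k L] (b : Module.Basis (Fin 3) k L)
    (h01 : ⁅b 0, b 1⁆ = b 1) (h02 : ⁅b 0, b 2⁆ = t • b 2) (h12 : ⁅b 1, b 2⁆ = 0)
    (L' : Type w) [LieRing L'] [LieAlgebra k L'] (b' : Module.Basis (Fin 3) k L')
    (h01' : ⁅b' 0, b' 1⁆ = b' 1) (h02' : ⁅b' 0, b' 2⁆ = t' • b' 2) (h12' : ⁅b' 1, b' 2⁆ = 0) :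
    Nonempty (L ≃ₗ⁅k⁆ L') ↔ (t' = t ∨ t' = t⁻¹) := by
  constructor
  · rintro ⟨φ⟩
    obtain ⟨p0, p1, p2, hx⟩ := exists_coords b' (φ (b 0))
    obtain ⟨q0, q1, q2, hy⟩ := exists_coords b' (φ (b 1))
    obtain ⟨r0, r1, r2, hz⟩ := exists_coords b' (φ (b 2))
    have B1 := φ.map_lie (b 0) (b 1)
    rw [h01, hx, hy, bracket_comb, h01', h02', h12'] at B1
    have B1' : q0 • b' 0 + q1 • b' 1 + q2 • b' 2 =
        (0 : k) • b' 0 + (p0 * q1 - p1 * q0) • b' 1 + (t' * (p0 * q2 - p2 * q0)) • b' 2 := by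
      rw [B1]; module
    obtain ⟨hq0, E1, E2⟩ := comb_eq b' B1'
    have B2 := φ.map_lie (b 0) (b 2)
    rw [h02, map_smul, hx, hz, bracket_comb, h01', h02', h12'] at B2
    have B2' : (t * r0) • b' 0 + (t * r1) • b' 1 + (t * r2) • b' 2 =
        (0 : k) • b' 0 + (p0 * r1 - p1 * r0) • b' 1 + (t' * (p0 * r2 - p2 * r0)) • b' 2 :=
      Eq.trans (by module) (B2.trans (by module))
    obtain ⟨E3, E4, E5⟩ := comb_eq b' B2'
    have hr0 : r0 = 0 := by
      rcases mul_eq_zero.1 E3 with h | h
      · exact absurd h ht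
      · exact h
    subst hq0
    subst hr0
    have hinj : ∀ l m : k, l • φ (b 1) + m • φ (b 2) = 0 → l = 0 ∧ m = 0 := by
      intro l m hlm
      have h1 : φ (l • b 1 + m • b 2) = 0 := by rw [map_add, map_smul, map_smul, hlm]
      have h2 : l • b 1 + m • b 2 = 0 := EquivLike.injective φ (h1.trans (map_zero φ).symm)
      have h3 : (0 : k) • b 0 + l • b 1 + m • b 2 = 0 := Eq.trans (by module) h2
      exact (comb_eq_zero b h3).2
    have hD : q1 * r2 - q2 * r1 ≠ 0 := by
      intro hD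
      have h1 := hinj r2 (-q2) (by
        rw [hy, hz]
        have e1 : r2 • ((0 : k) • b' 0 + q1 • b' 1 + q2 • b' 2) +
            (-q2) • ((0 : k) • b' 0 + r1 • b' 1 + r2 • b' 2) = (q1 * r2 - q2 * r1) • b' 1 := by
          module
        rw [e1, hD, zero_smul])
      have h2 := hinj r1 (-q1) (by
        rw [hy, hz]
        have e1 : r1 • ((0 : k) • b' 0 + q1 • b' 1 + q2 • b' 2) +
            (-q1) • ((0 : k) • b' 0 + r1 • b' 1 + r2 • b' 2) = (-(q1 * r2 - q2 * r1)) • b' 2 := by
          module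
        rw [e1, hD, neg_zero, zero_smul])
      have hq1 : q1 = 0 := neg_eq_zero.1 h2.2
      have hq2 : q2 = 0 := neg_eq_zero.1 h1.2
      have h3 := hinj 1 0 (by rw [hy, hq1, hq2]; simp)
      exact one_ne_zero h3.1
    have F1 : (p0 - 1) * q1 = 0 := by linear_combination (-1 : k) * E1
    have F2 : (t' * p0 - 1) * q2 = 0 := by linear_combination (-1 : k) * E2
    have F3 : (p0 - t) * r1 = 0 := by linear_combination (-1 : k) * E4
    have F4 : (t' * p0 - t) * r2 = 0 := by linear_combination (-1 : k) * E5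
    by_cases hq1 : q1 = 0
    · have hq2 : q2 ≠ 0 := by
        intro hq2
        apply hD
        rw [hq1, hq2]; ring
      have hr1 : r1 ≠ 0 := by
        intro hr1
        apply hD
        rw [hq1, hr1]; ring
      have G1 : t' * p0 = 1 := by
        rcases mul_eq_zero.1 F2 with h | h
        · exact sub_eq_zero.1 h
        · exact absurd h hq2
      have G2 : p0 = t := by
        rcases mul_eq_zero.1 F3 with h | h
        · exact sub_eq_zero.1 h
        · exact absurd h hr1
      right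
      rw [G2] at G1
      exact eq_inv_of_mul_eq_one_left G1
    · have hp0 : p0 = 1 := by
        rcases mul_eq_zero.1 F1 with h | h
        · exact sub_eq_zero.1 h
        · exact absurd h hq1
      by_cases hr2 : r2 = 0
      · have hq2 : q2 ≠ 0 := by
          intro hq2
          apply hD
          rw [hr2, hq2]; ring
        have hr1 : r1 ≠ 0 := by
          intro hr1
          apply hD
          rw [hr2, hr1]; ring
        have G1 : t' * p0 = 1 := by
          rcases mul_eq_zero.1 F2 with h | h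
          · exact sub_eq_zero.1 h
          · exact absurd h hq2
        have G2 : p0 = t := by
          rcases mul_eq_zero.1 F3 with h | h
          · exact sub_eq_zero.1 h
          · exact absurd h hr1
        left
        linear_combination G1 - t' * hp0 + G2 - hp0
      · left
        rcases mul_eq_zero.1 F4 with h | h
        · linear_combination h - t' * hp0
        · exact absurd h hr2
  · rintro (rfl | rfl)
    · exact iso_of_linear k t' L b h01 h02 h12 L' (b.equiv b' (Equiv.refl _)) (b' 0) (b' 1) (b' 2)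
        (by simp) (by simp) (by simp) h01' h02' h12'
    · have htt : t * t⁻¹ = 1 := mul_inv_cancel₀ ht
      have e01 : ⁅t • b' 0, b' 2⁆ = b' 2 := by rw [smul_lie, h02', smul_smul, htt, one_smul]
      have e02 : ⁅t • b' 0, b' 1⁆ = t • b' 1 := by rw [smul_lie, h01']
      have e12 : ⁅b' 2, b' 1⁆ = 0 := by rw [← lie_skew, h12', neg_zero]
      obtain ⟨b'', hb0, hb1, hb2⟩ : ∃ b'' : Module.Basis (Fin 3) k L',
          b'' 0 = t • b' 0 ∧ b'' 1 = b' 2 ∧ b'' 2 = b' 1 := by
        refine ⟨(b'.reindex (Equiv.swap (1 : Fin 3) 2)).unitsSMul ![Units.mk0 t ht, 1, 1],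
          ?_, ?_, ?_⟩
        · rw [Module.Basis.unitsSMul_apply, Module.Basis.reindex_apply]
          have h0 : (Equiv.swap (1 : Fin 3) 2).symm 0 = 0 := by decide
          rw [h0]
          simp [Units.smul_def]
        · rw [Module.Basis.unitsSMul_apply, Module.Basis.reindex_apply]
          have h0 : (Equiv.swap (1 : Fin 3) 2).symm 1 = 2 := by decide
          rw [h0]
          simp
        · rw [Module.Basis.unitsSMul_apply, Module.Basis.reindex_apply]
          have h0 : (Equiv.swap (1 : Fin 3) 2).symm 2 = 1 := by decide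
          rw [h0]
          simp
      exact iso_of_linear k t L b h01 h02 h12 L' (b.equiv b'' (Equiv.refl _))
        (t • b' 0) (b' 2) (b' 1)
        (by simp [hb0]) (by simp [hb1]) (by simp [hb2]) e01 e02 e12

end Aux13108

namespace Groth.Agent.S13108

/-- Let k be a field and t, t' ∈ k both non-zero; let L be a Lie algebra over k with a basis x = b 0, y
= b 1, z = b 2 and brackets [x,y] = y, [x,z] = t z, [y,z] = 0, and L' a Lie algebra over k with a
basis x' = b' 0, y' = b' 1, z' = b' 2 and brackets [x',y'] = y', [x',z'] = t' z', [y',z'] = 0. Then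
L and L' are isomorphic Lie algebras over k if and only if t' = t or t' = t⁻¹. -/
theorem result (k : Type u) [Field k] (t t' : k) (ht : t ≠ 0) (ht' : t' ≠ 0)
    (L : Type v) [LieRing L] [LieAlgebra k L] (b : Module.Basis (Fin 3) k L)
    (h01 : ⁅b 0, b 1⁆ = b 1) (h02 : ⁅b 0, b 2⁆ = t • b 2) (h12 : ⁅b 1, b 2⁆ = 0)
    (L' : Type w) [LieRing L'] [LieAlgebra k L'] (b' : Module.Basis (Fin 3) k L')
    (h01' : ⁅b' 0, b' 1⁆ = b' 1) (h02' : ⁅b' 0, b' 2⁆ = t' • b' 2) (h12' : ⁅b' 1, b' 2⁆ = 0) :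
    Nonempty (L ≃ₗ⁅k⁆ L') ↔ (t' = t ∨ t' = t⁻¹) := by
  exact Aux13108.main k t t' ht ht' L b h01 h02 h12 L' b' h01' h02' h12'

end Groth.Agent.S13108
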