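import Groth.Statements.S15941

set_option autoImplicit false
universe u
open HTop

namespace Groth.Agent.S15941

/-- An integrally closed integral domain is a seminormal ring, that is, whenever x^3 = y^2 there is
exactly one element a with x = a^2 and y = a^3. (The published statement is for a normal Noetherian
scheme and reduces at once to this affine integral case; the Noetherian hypothesis plays no role.) -/
theorem result (A : Type u) [CommRing A] [IsDomain A]
    [IsIntegrallyClosed A] : HTop.IsSeminormalRing A := by
  intro x y hxy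
  have huniq : ∀ a b : A, x = a ^ 2 → y = a ^ 3 → x = b ^ 2 → y = b ^ 3 → a = b := by
    intro a b ha2 ha3 hb2 hb3
    by_cases ha : a = 0
    · subst ha
      have : b ^ 2 = 0 := by rw [← hb2, ha2]; ring
      have hb : b = 0 := by simpa using this
      rw [hb]
    · have h2 : a ^ 2 = b ^ 2 := by rw [← ha2, ← hb2]
      have h3 : a ^ 3 = b ^ 3 := by rw [← ha3, ← hb3]
      have h4 : a ^ 2 * a = a ^ 2 * b := by
        calc a ^ 2 * a = a ^ 3 := by ring
          _ = b ^ 3 := h3
          _ = b ^ 2 * b := by ring
          _ = a ^ 2 * b := by rw [h2]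
      exact mul_left_cancel₀ (pow_ne_zero 2 ha) h4
  by_cases hx : x = 0
  · subst hx
    have hy : y = 0 := by
      have : y ^ 2 = 0 := by rw [← hxy]; ring
      simpa using this
    subst hy
    refine ⟨0, ⟨by ring, by ring⟩, ?_⟩
    intro b hb
    exact (huniq 0 b (by ring) (by ring) hb.1 hb.2).symm
  · let K := FractionRing A
    have hxK : algebraMap A K x ≠ 0 := by
      simpa using hx
    obtain ⟨a', ha'⟩ : ∃ a' : K, a' * algebraMap A K x = algebraMap A K y :=
      ⟨algebraMap A K y / algebraMap A K x, div_mul_cancel₀ _ hxK⟩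
    have h : (algebraMap A K x) ^ 3 = (algebraMap A K y) ^ 2 := by
      rw [← map_pow, ← map_pow, hxy]
    have ha'2 : a' ^ 2 = algebraMap A K x := by
      have h5 : a' ^ 2 * (algebraMap A K x) ^ 2 = algebraMap A K x * (algebraMap A K x) ^ 2 := by
        calc a' ^ 2 * (algebraMap A K x) ^ 2 = (a' * algebraMap A K x) ^ 2 := by ring
          _ = (algebraMap A K y) ^ 2 := by rw [ha']
          _ = (algebraMap A K x) ^ 3 := h.symm
          _ = algebraMap A K x * (algebraMap A K x) ^ 2 := by ring
      exact mul_right_cancel₀ (pow_ne_zero 2 hxK) h5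
    have hint : IsIntegral A a' := by
      refine ⟨Polynomial.X ^ 2 - Polynomial.C x, Polynomial.monic_X_pow_sub_C x (by norm_num), ?_⟩
      simp [ha'2]
    obtain ⟨a, ha⟩ := IsIntegrallyClosed.isIntegral_iff.mp hint
    have ha2 : x = a ^ 2 := by
      apply IsFractionRing.injective A K
      rw [map_pow, ha, ha'2]
    have ha3 : y = a ^ 3 := by
      apply IsFractionRing.injective A K
      rw [map_pow, ha]
      have : a' ^ 3 = a' * a' ^ 2 := by ring
      rw [this, ha'2, ha']
    refine ⟨a, ⟨ha2, ha3⟩, ?_⟩
    intro b hb
    exact (huniq a b ha2 ha3 hb.1 hb.2).symm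

end Groth.Agent.S15941
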