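import Groth.Statements.S13111
import Groth.Agent.Lib.Helper11.AWNRing2
import Groth.Agent.S15941

set_option autoImplicit false
universe u
open HTop

namespace Groth.Agent.S13111

open Groth.Agent.Lib.Helper11.UHRing CategoryTheory AlgebraicGeometry W4c1hilbchowinc

theorem field_root {k : Type u} [Field k] (X Y : k) (h : X ^ 3 = Y ^ 2) :
    ∃ a : k, a ^ 2 = X ∧ a ^ 3 = Y := by
  by_cases hX : X = 0
  · subst hX
    have hY : Y = 0 := by
      have : Y ^ 2 = 0 := by rw [← h]; ring
      exact pow_eq_zero_iff (by norm_num) |>.mp this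
    exact ⟨0, by ring, by rw [hY]; ring⟩
  · refine ⟨Y / X, ?_, ?_⟩
    · field_simp
      rw [← h]
    · field_simp
      calc Y ^ 3 = Y * Y ^ 2 := by ring
        _ = Y * X ^ 3 := by rw [h]

theorem field_root_unique {k : Type u} [Field k] (a b : k) (h2 : a ^ 2 = b ^ 2)
    (h3 : a ^ 3 = b ^ 3) : a = b := eq_of_sq_cube_eq a b h2 h3

theorem ofSection_inv (R : CommRingCat.{u}) (r : R) (q : Spec R) :
    PtFun.ofSection (Spec R) ((Scheme.ΓSpecIso R).inv r) q = ev R q r := rfl

open AlgebraicGeometry W4c1hilbchowinc in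
/-- Let A be a reduced Noetherian ring whose integral closure in its total ring of fractions is a finite
A-module. Suppose that any pointwise function on Spec A that is algebraic along every discrete
valuation ring (for every discrete valuation ring R and every morphism Spec R → Spec A there is an
element of R whose values at the two points of Spec R are the images of the chosen values) is the
family of values of exactly one global section. Then A is seminormal: whenever x^3 = y^2 there is
exactly one a with x = a^2 and y = a^3. Test rings range over the universe of A. -/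
theorem result
    (A : Type u) [CommRing A] [IsReduced A] [IsNoetherianRing A]
    (hfin : Module.Finite A (integralClosure A (FractionRing A)))
    (h : ∀ f : PtFun (Spec (CommRingCat.of A)), f.VariesAlongDVR →
      ∃! a : Γ(Spec (CommRingCat.of A), ⊤), PtFun.ofSection (Spec (CommRingCat.of A)) a = f) :
    HTop.IsSeminormalRing A := by
  intro x y hxy
  let R₀ : CommRingCat.{u} := CommRingCat.of A
  -- the pointwise root
  have hpt : ∀ p : Spec R₀, ∃ a : (Spec R₀).residueField p,
      a ^ 2 = ev R₀ p x ∧ a ^ 3 = ev R₀ p y := fun p =>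
    field_root _ _ (by rw [← map_pow, ← map_pow, hxy])
  choose f hf2 hf3 using hpt
  have hvar : PtFun.VariesAlongDVR (X := Spec R₀) f := by
    intro R _ _ _ g
    obtain ⟨φ, rfl⟩ := Spec.map_surjective g
    have hφ : (φ.hom x) ^ 3 = (φ.hom y) ^ 2 := by rw [← map_pow, ← map_pow, hxy]
    obtain ⟨r, ⟨hr2, hr3⟩, -⟩ := Groth.Agent.S15941.result R (φ.hom x) (φ.hom y) hφ
    refine ⟨(Scheme.ΓSpecIso (CommRingCat.of R)).inv r, ?_⟩
    funext q
    rw [ofSection_inv]
    apply field_root_unique
    · rw [← map_pow, ← hr2]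
      show _ = ((Spec.map φ).residueFieldMap q (f ((Spec.map φ) q))) ^ 2
      rw [← map_pow, hf2, residueFieldMap_ev]
    · rw [← map_pow, ← hr3]
      show _ = ((Spec.map φ).residueFieldMap q (f ((Spec.map φ) q))) ^ 3
      rw [← map_pow, hf3, residueFieldMap_ev]
  obtain ⟨a, ha, -⟩ := h f hvar
  set a₀ : A := (Scheme.ΓSpecIso R₀).hom a with ha₀
  have hev : ∀ p : Spec R₀, ev R₀ p a₀ = f p := by
    intro p
    have h1 := congrFun ha p
    rw [← h1]
    show ((Scheme.ΓSpecIso R₀).inv ≫ (Spec R₀).Γevaluation p) ((Scheme.ΓSpecIso R₀).hom a) = _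
    rw [← CommRingCat.comp_apply, Iso.hom_inv_id_assoc]
    rfl
  have hzero : ∀ z : A, (∀ p : Spec R₀, ev R₀ p z = 0) → z = 0 := by
    intro z hz
    have hnil : z ∈ nilradical A := by
      rw [nilradical_eq_sInf, Ideal.mem_sInf]
      intro P hP
      exact (ev_eq_zero_iff R₀ ⟨P, hP⟩ z).mp (hz ⟨P, hP⟩)
    rw [nilradical_eq_zero] at hnil
    exact hnil
  have h2 : x = a₀ ^ 2 := by
    have := hzero (x - a₀ ^ 2) (fun p => by rw [map_sub, map_pow, hev, hf2, sub_self])
    exact sub_eq_zero.mp this
  have h3 : y = a₀ ^ 3 := by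
    have := hzero (y - a₀ ^ 3) (fun p => by rw [map_sub, map_pow, hev, hf3, sub_self])
    exact sub_eq_zero.mp this
  refine ⟨a₀, ⟨h2, h3⟩, ?_⟩
  rintro b ⟨hb2, hb3⟩
  exact eq_of_sq_cube_eq b a₀ (by rw [← hb2, h2]) (by rw [← hb3, h3])

end Groth.Agent.S13111
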