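-- Statement S13114.
import Groth.Statements.S13114
import Mathlib

set_option autoImplicit false
universe u
open HilbChow

namespace Groth.Agent.S13114

/-- Let k be an algebraically closed field, A a commutative local k-algebra of finite dimension n over k
and u a unit of A. Then the determinant of multiplication by u on the k-vector space A, mapped to
the residue field of A, equals the n-th power of the residue class of u. -/
theorem result
    (k A : Type u) [Field k] [IsAlgClosed k] [CommRing A] [Algebra k A] [IsLocalRing A]
    [Module.Finite k A] (u : Aˣ) :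
    algebraMap k (IsLocalRing.ResidueField A) (Algebra.norm k (u : A)) =
      IsLocalRing.residue A (u : A) ^ Module.finrank k A := by
  classical
  haveI : IsArtinianRing A := IsArtinianRing.of_finite k A
  haveI : IsNoetherianRing A := inferInstance
  -- residue field is k
  haveI : Module.Finite k (IsLocalRing.ResidueField A) :=
    Module.Finite.of_surjective (IsScalarTower.toAlgHom k A (IsLocalRing.ResidueField A)).toLinearMap
      IsLocalRing.residue_surjective
  have hsurj : Function.Surjective (algebraMap k (IsLocalRing.ResidueField A)) :=
    (IsAlgClosed.algebraMap_bijective_of_isIntegral (k := k)).2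
  obtain ⟨lam, hlam⟩ := hsurj (IsLocalRing.residue A (u : A))
  -- N = u - lam is nilpotent
  set N : A := (u : A) - algebraMap k A lam with hN
  have hNm : N ∈ IsLocalRing.maximalIdeal A := by
    rw [← IsLocalRing.residue_eq_zero_iff, hN, map_sub, ← hlam]
    have : IsLocalRing.residue A (algebraMap k A lam) =
        algebraMap k (IsLocalRing.ResidueField A) lam := rfl
    rw [this, sub_self]
  have hnilI : IsNilpotent (IsLocalRing.maximalIdeal A) :=
    (isArtinianRing_iff_isNilpotent_maximalIdeal A).mp inferInstance
  have hNnil : IsNilpotent N := by
    obtain ⟨n, hn⟩ := hnilI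
    refine ⟨n, ?_⟩
    have : N ^ n ∈ IsLocalRing.maximalIdeal A ^ n := Ideal.pow_mem_pow hNm n
    rw [hn] at this
    simpa using this
  -- the endomorphism
  have hφnil : IsNilpotent (-(Algebra.lmul k A N)) := by
    obtain ⟨n, hn⟩ := hNnil
    refine ⟨n, ?_⟩
    rw [neg_pow (Algebra.lmul k A N), ← map_pow, hn, map_zero, mul_zero]
  have hchar := hφnil.charpoly_eq_X_pow_finrank
  have hdet : LinearMap.det (Algebra.lmul k A (u : A)) = lam ^ Module.finrank k A := by
    have h1 := LinearMap.eval_charpoly (-(Algebra.lmul k A N)) lam
    rw [hchar, Polynomial.eval_pow, Polynomial.eval_X] at h1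
    rw [h1]
    congr 1
    rw [sub_neg_eq_add, hN, map_sub, Algebra.lmul_algebraMap]
    ext x
    simp [Algebra.algebraMap_eq_smul_one]
  rw [Algebra.norm_apply, hdet, map_pow, hlam]

end Groth.Agent.S13114
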