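import Groth.Statements.S13115
import Mathlib


set_option autoImplicit false
universe u
open scoped TensorProduct
open HilbChow

namespace Groth.Agent.S13115

open Module

/-- the monomial exponent attached to a tuple of variables -/
noncomputable def monq {κ : Type*} {m : ℕ} (g : Fin m → κ) : κ →₀ ℕ :=
  ∑ i, Finsupp.single (g i) 1

lemma monq_prod {κ : Type*} {k : Type*} [CommSemiring k] {m : ℕ} (g : Fin m → κ) (t : κ → k) :
    (monq g).prod (fun n e => t n ^ e) = ∏ i, t (g i) := by
  unfold monq
  rw [← Finsupp.prod_finsetSum_index (fun a => pow_zero _) (fun a b₁ b₂ => pow_add _ _ _)]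
  refine Finset.prod_congr rfl fun i _ => ?_
  exact (Finsupp.prod_single_index (h := fun n e => t n ^ e) (pow_zero _)).trans (pow_one _)

lemma exists_perm_q {κ : Type*} {m : ℕ} (f g : Fin m → κ) (h : monq f = monq g) :
    ∃ σ : Equiv.Perm (Fin m), g = f ∘ σ := by
  classical
  have hcard : ∀ a : κ, Fintype.card {i // g i = a} = Fintype.card {i // f i = a} := by
    intro a
    have h1 := DFunLike.congr_fun h a
    unfold monq at h1
    simp only [Finsupp.coe_finset_sum, Finset.sum_apply, Finsupp.single_apply,
      Finset.sum_boole] at h1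
    rw [Fintype.card_subtype, Fintype.card_subtype]
    exact_mod_cast h1.symm
  let e : ∀ a : κ, {i // g i = a} ≃ {i // f i = a} := fun a => Fintype.equivOfCardEq (hcard a)
  refine ⟨(Equiv.sigmaFiberEquiv g).symm.trans
    ((Equiv.sigmaCongrRight e).trans (Equiv.sigmaFiberEquiv f)), ?_⟩
  funext i
  exact ((e (g i)) ⟨i, rfl⟩).2.symm

/-- Let k be an infinite field, V a k-vector space and m a natural number. Then every symmetric tensor
in the m-fold tensor power of V — one fixed by every permutation of the factors — is a k-linear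
combination of pure powers v ⊗ ⋯ ⊗ v with v in V. (The published statement concerns the ring of
functions of an affine scheme over an infinite field, where it gives the uniqueness of the algebra
map defining the Hilbert-to-Chow morphism for zero-cycles; this row states it for any vector space.) -/
theorem result
    (k V : Type u) [Field k] [Infinite k] [AddCommGroup V] [Module k V] (m : ℕ)
    (x : ⨂[k] _ : Fin m, V)
    (hx : ∀ σ : Equiv.Perm (Fin m), PiTensorProduct.reindex k (fun _ : Fin m => V) σ x = x) :
    x ∈ Submodule.span k (Set.range fun v : V => PiTensorProduct.tprod k (fun _ : Fin m => v)) := by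
  classical
  by_contra hxS
  obtain ⟨φ, hφx, hφS⟩ := Submodule.exists_le_ker_of_notMem hxS
  apply hφx
  have hB : ∀ g : Fin m → Basis.ofVectorSpaceIndex k V,
      Basis.piTensorProduct (fun _ : Fin m => Basis.ofVectorSpace k V) g =
        PiTensorProduct.tprod k (fun i => Basis.ofVectorSpace k V (g i)) :=
    fun g => Basis.piTensorProduct_apply _ g
  generalize hBdef : Basis.piTensorProduct (fun _ : Fin m => Basis.ofVectorSpace k V) = B at hB
  generalize hbdef : Basis.ofVectorSpace k V = b at hB
  have hreindexB : ∀ (σ : Equiv.Perm (Fin m)) (g : Fin m → Basis.ofVectorSpaceIndex k V),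
      PiTensorProduct.reindex k (fun _ : Fin m => V) σ (B g) = B (g ∘ σ.symm) := by
    intro σ g
    rw [hB, hB, PiTensorProduct.reindex_tprod]
    rfl
  have hsym : ∀ (σ : Equiv.Perm (Fin m)) (g : Fin m → Basis.ofVectorSpaceIndex k V),
      B.repr x (g ∘ σ.symm) = B.repr x g := by
    intro σ g
    have hfun : (Finsupp.lapply (g ∘ σ.symm) ∘ₗ B.repr.toLinearMap) ∘ₗ
        (PiTensorProduct.reindex k (fun _ : Fin m => V) σ).toLinearMap =
        Finsupp.lapply g ∘ₗ B.repr.toLinearMap := by
      apply B.ext
      intro h
      show B.repr (PiTensorProduct.reindex k (fun _ : Fin m => V) σ (B h)) (g ∘ σ.symm) =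
        B.repr (B h) g
      rw [hreindexB, B.repr_self, B.repr_self, Finsupp.single_apply, Finsupp.single_apply]
      by_cases hh : h = g
      · subst hh
        rw [if_pos rfl, if_pos rfl]
      · rw [if_neg hh, if_neg]
        intro e
        apply hh
        funext i
        have := congrFun e (σ i)
        simpa using this
    have h2 := LinearMap.congr_fun hfun x
    have h3 : B.repr (PiTensorProduct.reindex k (fun _ : Fin m => V) σ x) (g ∘ σ.symm) =
        B.repr x g := h2
    rw [hx σ] at h3
    exact h3
  -- the finite set of variables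
  let J : Finset (Basis.ofVectorSpaceIndex k V) :=
    (B.repr x).support.biUnion (fun f => Finset.univ.image f)
  let T : Finset (Fin m → Basis.ofVectorSpaceIndex k V) := Fintype.piFinset (fun _ : Fin m => J)
  have hsuppT : (B.repr x).support ⊆ T := by
    intro f hf
    rw [Fintype.mem_piFinset]
    intro i
    exact Finset.mem_biUnion.mpr ⟨f, hf, Finset.mem_image_of_mem f (Finset.mem_univ i)⟩
  have heval : ∀ t : Basis.ofVectorSpaceIndex k V → k,
      ∑ g ∈ T, φ (B g) * ∏ i, t (g i) = 0 := by
    intro t
    have hmem : PiTensorProduct.tprod k (fun _ : Fin m => ∑ j ∈ J, t j • b j) ∈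
        Submodule.span k (Set.range fun v : V => PiTensorProduct.tprod k (fun _ : Fin m => v)) :=
      Submodule.subset_span ⟨_, rfl⟩
    have h0 : φ (PiTensorProduct.tprod k (fun _ : Fin m => ∑ j ∈ J, t j • b j)) = 0 :=
      LinearMap.mem_ker.mp (hφS hmem)
    rw [(PiTensorProduct.tprod k).map_sum_finset (fun (_ : Fin m) j => t j • b j)
      (fun _ => J), map_sum] at h0
    refine Eq.trans (Finset.sum_congr rfl fun g _ => ?_) h0
    rw [MultilinearMap.map_smul_univ, map_smul, smul_eq_mul, mul_comm, hB]
  have hp : (∑ g ∈ T, MvPolynomial.monomial (monq g) (φ (B g)) :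
      MvPolynomial (Basis.ofVectorSpaceIndex k V) k) = 0 := by
    apply MvPolynomial.funext
    intro t
    rw [map_zero, map_sum]
    refine Eq.trans (Finset.sum_congr rfl fun g _ => ?_) (heval t)
    rw [MvPolynomial.eval_monomial, monq_prod]
  have hcoeff : ∀ μ : Basis.ofVectorSpaceIndex k V →₀ ℕ,
      ∑ g ∈ T.filter (fun g => monq g = μ), φ (B g) = 0 := by
    intro μ
    have h1 := congrArg (MvPolynomial.coeff μ) hp
    rw [MvPolynomial.coeff_sum, MvPolynomial.coeff_zero] at h1
    simp only [MvPolynomial.coeff_monomial] at h1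
    rw [Finset.sum_filter]
    exact h1
  have hφx' : φ x = ∑ g ∈ T, B.repr x g * φ (B g) := by
    conv_lhs => rw [← B.linearCombination_repr x]
    rw [Finsupp.linearCombination_apply, Finsupp.sum, map_sum, Finset.sum_subset hsuppT]
    · refine Finset.sum_congr rfl fun g _ => ?_
      rw [map_smul, smul_eq_mul]
    · intro g _ hg
      rw [Finsupp.notMem_support_iff.mp hg, zero_smul, map_zero]
  rw [hφx', ← Finset.sum_fiberwise_of_maps_to (s := T) (t := T.image monq) (g := monq)
    (fun g hg => Finset.mem_image_of_mem _ hg) (fun g => B.repr x g * φ (B g))]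
  refine Finset.sum_eq_zero fun μ hμ => ?_
  obtain ⟨g₀, hg₀T, rfl⟩ := Finset.mem_image.mp hμ
  have hconst : ∀ g ∈ T.filter (fun g => monq g = monq g₀),
      B.repr x g * φ (B g) = B.repr x g₀ * φ (B g) := by
    intro g hg
    have hmon : monq g = monq g₀ := (Finset.mem_filter.mp hg).2
    obtain ⟨σ, hσ⟩ := exists_perm_q g₀ g hmon.symm
    have h4 := hsym σ.symm g₀
    rw [Equiv.symm_symm] at h4
    rw [hσ, h4]
  rw [Finset.sum_congr rfl hconst, ← Finset.mul_sum, hcoeff, mul_zero]

end Groth.Agent.S13115
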