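import Groth.Statements.S13116
import Mathlib
import Groth.Agent.S2857
import Groth.Agent.Lib.Helper3.PbBasic
import Groth.Agent.Lib.Helper3.InvGen
import Groth.Agent.Lib.Helper3.FreeBasis
import Groth.Agent.Lib.Helper5.UnitSections

set_option autoImplicit false
universe u
open HilbChow

namespace Groth.Agent.S13116

open CategoryTheory CategoryTheory.Limits AlgebraicGeometry in
/-- Let k be a field, X an integral scheme smooth over k that is a closed subscheme of a projective
space over k, R a discrete valuation ring containing k, Z a subscheme of X ×_k Spec R which is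
finite over Spec R, and L an invertible module on X. Then the pullback of L to Z along Z → X ×_k
Spec R → X is isomorphic to the structure sheaf of Z (an isomorphism exists; none is singled out). -/
theorem result
    {k : Type u} [Field k] {X : Scheme.{u}} (sX : X ⟶ Spec (CommRingCat.of k))
    [IsIntegral X] [Smooth sX] (hproj : RelProj.IsHProjective sX)
    (R : Type u) [CommRing R] [IsDomain R] [IsDiscreteValuationRing R] [Algebra k R]
    {Z : Scheme.{u}}
    (i : Z ⟶ pullback sX (Spec.map (CommRingCat.ofHom (algebraMap k R)))) [IsImmersion i]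
    [IsFinite (i ≫ pullback.snd sX (Spec.map (CommRingCat.ofHom (algebraMap k R))))]
    (L : X.Modules) (hL : PicF.IsInvertible L) :
    Nonempty ((Scheme.Modules.pullback
        (i ≫ pullback.fst sX (Spec.map (CommRingCat.ofHom (algebraMap k R))))).obj L ≅
      Coh.structureModule Z) := by
  classical
  open Groth.Agent.Lib.Helper3 Groth.Agent.Lib.Helper3.QCSec Groth.Agent.Lib.Helper3.InvGen
    Groth.Agent.Lib.Helper3.FreeBasis in
  -- the finite (hence integral) morphism to `Spec R`
  set g : Z ⟶ Spec (CommRingCat.of R) :=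
    i ≫ pullback.snd sX (Spec.map (CommRingCat.ofHom (algebraMap k R))) with hg
  set M : Z.Modules := (Scheme.Modules.pullback
    (i ≫ pullback.fst sX (Spec.map (CommRingCat.ofHom (algebraMap k R))))).obj L with hM
  have hMinv : PicF.IsInvertible M := Groth.Agent.Lib.Helper3.PbBasic.isInvertible_pullback _ hL
  have hM1 : FlatMod.IsFinLocFreeOfRank 1 M := by
    intro z
    obtain ⟨U, hzU, ⟨e⟩⟩ := hMinv z
    exact ⟨U, hzU, ⟨e ≪≫ (coproductUniqueIso (fun _ : Fin 1 => Coh.structureModule ↑U)).symm⟩⟩
  have : IsIntegralHom g := inferInstance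
  obtain ⟨U, hxU, ⟨φ⟩⟩ := Groth.Agent.S2857.result g 1 M hM1
    (IsLocalRing.closedPoint R)
  have hU : U = ⊤ := (IsLocalRing.closedPoint_mem_iff (R := R) (U := U)).mp hxU
  subst hU
  obtain ⟨e, he⟩ := exists_isBasis_of_iso φ
  -- the hom `O ⟶ M` with global section `e 0`
  have htop : (⊤ : Z.Opens) ≤ g ⁻¹ᵁ ⊤ := le_of_eq rfl
  obtain ⟨ψ, hψ⟩ := (Groth.Agent.Lib.Helper5.bijective_evTop M).2 (res M htop (e 0))
  have hsec : sec ψ ⊤ = res M htop (e 0) := hψ
  haveI : IsIso ψ := by
    rw [Scheme.Modules.Hom.isIso_iff_isIso_app]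
    intro V
    apply (ConcreteCategory.isIso_iff_bijective (ψ.app V)).mpr
    rw [bijective_app_iff]
    have h1 : sec ψ V = res M (le_top : V ≤ g ⁻¹ᵁ ⊤) (e 0) := by
      rw [← res_sec ψ (le_top : V ≤ ⊤), hsec, res_res]
      rfl
    rw [h1]
    have h2 := he V le_top
    unfold IsBasisAt at h2
    unfold IsGenAt
    have h3 : (fun a : Γ(Z, V) => a • res M (le_top : V ≤ g ⁻¹ᵁ ⊤) (e 0)) =
        (fun a : Fin 1 → Γ(Z, V) => ∑ j, a j • res M (le_top : V ≤ g ⁻¹ᵁ ⊤) (e j)) ∘
          (fun a : Γ(Z, V) => fun _ : Fin 1 => a) := by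
      funext a
      simp
    rw [h3]
    refine h2.comp ⟨fun a b hab => congrFun hab 0, fun a => ⟨a 0, ?_⟩⟩
    funext j
    rw [Subsingleton.elim j 0]
  exact ⟨(asIso ψ).symm⟩

end Groth.Agent.S13116
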