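import Groth.Statements.S13117
import Mathlib


set_option autoImplicit false
universe u
open HilbChow

namespace Groth.Agent.S13117

lemma det_blockDiagonal'_q {o : Type*} [Fintype o] [DecidableEq o] {m' : o → Type*}
    [∀ i, Fintype (m' i)] [∀ i, DecidableEq (m' i)] {R : Type*} [CommRing R]
    (d : ∀ i, Matrix (m' i) (m' i) R) :
    (Matrix.blockDiagonal' d).det = ∏ i, (d i).det := by
  classical
  letI : LinearOrder o := LinearOrder.lift' (Fintype.equivFin o) (Fintype.equivFin o).injective
  rw [(Matrix.blockTriangular_blockDiagonal' d).det_fintype]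
  refine Finset.prod_congr rfl (fun k _ => ?_)
  rw [← Matrix.det_submatrix_equiv_self (Equiv.sigmaSubtype k).symm]
  congr 1
  ext a c
  simp only [Matrix.toSquareBlock_def, Matrix.submatrix_apply, Matrix.of_apply]
  exact Matrix.blockDiagonal'_apply_eq d k a c

lemma norm_pi_q {k : Type u} [Field k] {X : Type u} [Fintype X] [DecidableEq X]
    (B : X → Type u) [∀ m, CommRing (B m)] [∀ m, Algebra k (B m)]
    [∀ m, Module.Finite k (B m)] (x : ∀ m, B m) :
    Algebra.norm k x = ∏ m, Algebra.norm k (x m) := by
  classical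
  let b : ∀ m, Module.Basis (Module.Free.ChooseBasisIndex k (B m)) k (B m) :=
    fun m => Module.Free.chooseBasis k (B m)
  rw [Algebra.norm_eq_matrix_det (Pi.basis b)]
  have hblock : Algebra.leftMulMatrix (Pi.basis b) x
      = Matrix.blockDiagonal' (fun m => Algebra.leftMulMatrix (b m) (x m)) := by
    ext ⟨i, a⟩ ⟨j, c⟩
    by_cases h : i = j
    · subst h
      simp [Matrix.blockDiagonal'_apply_eq, Algebra.leftMulMatrix_eq_repr_mul, Pi.basis_repr,
        Pi.basis_apply]
    · rw [Matrix.blockDiagonal'_apply_ne _ _ _ h]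
      simp [Algebra.leftMulMatrix_eq_repr_mul, Pi.basis_repr, Pi.basis_apply,
        Pi.single_eq_of_ne h]
  rw [hblock, det_blockDiagonal'_q]
  refine Finset.prod_congr rfl (fun m _ => ?_)
  rw [Algebra.norm_eq_matrix_det (b m)]

lemma loc_finite_q (k A : Type u) [Field k] [CommRing A] [Algebra k A] [Module.Finite k A]
    (p : Ideal A) [p.IsPrime] : Module.Finite k (Localization.AtPrime p) := by
  haveI : IsArtinianRing A := IsArtinianRing.of_finite k A
  have hsurj : Function.Surjective (algebraMap A (Localization.AtPrime p)) :=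
    IsArtinianRing.localization_surjective p.primeCompl _
  exact Module.Finite.of_surjective
    (IsScalarTower.toAlgHom k A (Localization.AtPrime p)).toLinearMap hsurj

lemma hmax_q {k A : Type u} [Field k] [CommRing A] [Algebra k A] (φ : A →ₐ[k] k) :
    (Ideal.comap φ ⊥).IsMaximal := by
  have hsurj : Function.Surjective φ := fun c => ⟨algebraMap k A c, by
    rw [AlgHom.commutes]; rfl⟩
  exact Ideal.comap_isMaximal_of_surjective φ hsurj

lemma exists_hom_q (k A : Type u) [Field k] [IsAlgClosed k] [CommRing A] [Algebra k A]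
    [Module.Finite k A] (m : MaximalSpectrum A) :
    ∃ φ : A →ₐ[k] k, Ideal.comap φ ⊥ = m.asIdeal := by
  haveI := m.isMaximal
  letI : Field (A ⧸ m.asIdeal) := Ideal.Quotient.field m.asIdeal
  haveI : Module.Finite k (A ⧸ m.asIdeal) :=
    Module.Finite.of_surjective (Ideal.Quotient.mkₐ k m.asIdeal).toLinearMap
      (Ideal.Quotient.mkₐ_surjective k _)
  haveI : Algebra.IsIntegral k (A ⧸ m.asIdeal) := Algebra.IsIntegral.of_finite k _
  have hbij : Function.Bijective (algebraMap k (A ⧸ m.asIdeal)) :=
    IsAlgClosed.algebraMap_bijective_of_isIntegral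
  let ε : k ≃ₐ[k] (A ⧸ m.asIdeal) := AlgEquiv.ofBijective (Algebra.ofId k _) hbij
  refine ⟨(ε.symm : (A ⧸ m.asIdeal) →ₐ[k] k).comp (Ideal.Quotient.mkₐ k m.asIdeal), ?_⟩
  ext a
  rw [Ideal.mem_comap, Ideal.mem_bot]
  show ε.symm (Ideal.Quotient.mk m.asIdeal a) = 0 ↔ a ∈ m.asIdeal
  rw [map_eq_zero_iff ε.symm ε.symm.injective, Ideal.Quotient.eq_zero_iff_mem]

lemma local_norm_q (k A : Type u) [Field k] [CommRing A] [Algebra k A] [Module.Finite k A]
    (f : A) (φ : A →ₐ[k] k) (p : Ideal A) [p.IsPrime] (hp : p = Ideal.comap φ ⊥) :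
    Algebra.norm k (algebraMap A (Localization.AtPrime p) f)
      = φ f ^ Module.finrank k (Localization.AtPrime p) := by
  haveI : Module.Finite k (Localization.AtPrime p) := loc_finite_q k A p
  haveI : IsArtinianRing (Localization.AtPrime p) :=
    IsArtinianRing.of_finite k (Localization.AtPrime p)
  obtain ⟨N, hN⟩ : IsNilpotent (IsLocalRing.maximalIdeal (Localization.AtPrime p)) := by
    have h := IsArtinianRing.isNilpotent_jacobson_bot (R := Localization.AtPrime p)
    rw [IsLocalRing.jacobson_eq_maximalIdeal ⊥ bot_ne_top] at h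
    exact h
  obtain ⟨a₀, ha₀⟩ : ∃ a₀ : A, a₀ = algebraMap k A (φ f) - f := ⟨_, rfl⟩
  have ha₀p : a₀ ∈ p := by
    rw [hp, Ideal.mem_comap, Ideal.mem_bot, ha₀, map_sub, AlgHom.commutes,
      Algebra.algebraMap_self, RingHom.id_apply, sub_self]
  have hν : IsNilpotent (algebraMap A (Localization.AtPrime p) a₀) := by
    refine ⟨N, ?_⟩
    have h1 : algebraMap A (Localization.AtPrime p) a₀
        ∈ IsLocalRing.maximalIdeal (Localization.AtPrime p) :=
      (IsLocalization.AtPrime.to_map_mem_maximal_iff (Localization.AtPrime p) p a₀).mpr ha₀p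
    have h2 := Ideal.pow_mem_pow h1 N
    rw [hN] at h2
    simpa using h2
  have hg : algebraMap A (Localization.AtPrime p) f
      = algebraMap k (Localization.AtPrime p) (φ f)
        - algebraMap A (Localization.AtPrime p) a₀ := by
    rw [ha₀, map_sub, ← IsScalarTower.algebraMap_apply]
    ring
  rw [hg, Algebra.norm_apply, map_sub, AlgHom.commutes, ← LinearMap.eval_charpoly,
    (hν.map (Algebra.lmul k (Localization.AtPrime p))).charpoly_eq_X_pow_finrank,
    Polynomial.eval_pow, Polynomial.eval_X]

/-- Let k be an algebraically closed field, A a finite-dimensional commutative k-algebra (the coordinate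
ring of a zero-dimensional subscheme Z of length dim_k A) and f ∈ A. Then the determinant of
multiplication by f on A is the product over the points x of Z — the k-algebra homomorphisms A → k —
of the value f(x) raised to the length of the local ring of Z at x, that length being the
k-dimension of the localisation of A at the corresponding maximal ideal. This is the formula by
which the Hilbert-to-Chow morphism for zero-cycles sends Z to its fundamental cycle Σ ℓ(O_{Z,x})[x]. -/
theorem result
    (k A : Type u) [Field k] [IsAlgClosed k] [CommRing A] [Algebra k A] [Module.Finite k A] (f : A) :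
    Algebra.norm k f =
      ∏ᶠ φ : A →ₐ[k] k, φ f ^ Module.finrank k (Localization.AtPrime (Ideal.comap φ ⊥)) := by
  classical
  haveI : IsArtinianRing A := IsArtinianRing.of_finite k A
  haveI : Fintype (MaximalSpectrum A) := Fintype.ofFinite _
  haveI hfinloc : ∀ m : MaximalSpectrum A,
      Module.Finite k (Localization.AtPrime m.asIdeal) := fun m => loc_finite_q k A m.asIdeal
  have h1 : Algebra.norm k f = ∏ m : MaximalSpectrum A,
      Algebra.norm k (algebraMap A (Localization.AtPrime m.asIdeal) f) := by
    rw [← Algebra.norm_eq_of_algEquiv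
      ((MaximalSpectrum.toPiLocalizationEquiv A).restrictScalars k) f]
    exact norm_pi_q (fun m : MaximalSpectrum A => Localization.AtPrime m.asIdeal) _
  rw [h1, ← finprod_eq_prod_of_fintype]
  symm
  refine finprod_eq_of_bijective
    (fun φ : A →ₐ[k] k => (⟨Ideal.comap φ ⊥, hmax_q φ⟩ : MaximalSpectrum A)) ⟨?_, ?_⟩
    (fun φ => ?_)
  · intro φ φ' h
    have h' : Ideal.comap φ ⊥ = Ideal.comap φ' ⊥ := congrArg MaximalSpectrum.asIdeal h
    ext a
    have ha : algebraMap k A (φ a) - a ∈ Ideal.comap φ ⊥ := by
      rw [Ideal.mem_comap, Ideal.mem_bot, map_sub, AlgHom.commutes, Algebra.algebraMap_self,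
        RingHom.id_apply, sub_self]
    rw [h', Ideal.mem_comap, Ideal.mem_bot, map_sub, AlgHom.commutes, Algebra.algebraMap_self,
      RingHom.id_apply, sub_eq_zero] at ha
    exact ha
  · intro m
    obtain ⟨φ, hφ⟩ := exists_hom_q k A m
    exact ⟨φ, MaximalSpectrum.ext hφ⟩
  · exact (local_norm_q k A f φ (Ideal.comap φ ⊥) rfl).symm

end Groth.Agent.S13117
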