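-- Statement S13120.
import Groth.Statements.S13120
import Mathlib
import Groth.Agent.Lib.Helper1.KumFamLib

set_option autoImplicit false
universe u
open KumFam

namespace Groth.Agent.S13120

open MvPolynomial Groth.Agent.Lib.Helper1.KumFamLib in
/-- Let R be a commutative ring of characteristic 2 and l0, l2, l4, s0, s2, s4, τ ∈ R with τ a unit.
Inside R[u, v] (u = X 0, v = X 1) let A = R[u², u³, v², v³] be the coordinate ring of the product of
two cuspidal curves, and let D be the R-derivation of R[u, v] with D(u) = v²(l0 u⁴ + τ u³ + l2 u² +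
l4) and D(v) = u²(s0 v⁴ + τ v³ + s2 v² + s4); D is u²v² times the rational vector field (l0 u² + τ u
+ l2 + l4 u⁻²) ∂_u + (s0 v² + τ v + s2 + s4 v⁻²) ∂_v, which maps A into itself, and u²v² is a
non-zero-divisor, so the kernel of that vector field on A is the set of a ∈ A with D(a) = 0. Then
for a ∈ A: D(a) = 0 if and only if a ∈ R[u², v², g], where g = (s0 v⁴ + s2 v² + s4) u³ + (l0 u⁴ + l2
u² + l4) v³ + τ u³ v³. (The published statement identifies this kernel with the ring of invariants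
of the corresponding action of the group scheme of square roots of unity; this row states the kernel
computation that is actually carried out.) -/
theorem result (R : Type u) [CommRing R] [CharP R 2]
    (l0 l2 l4 s0 s2 s4 τ : R) (hτ : IsUnit τ) (a : MvPolynomial (Fin 2) R)
    (ha : a ∈ Algebra.adjoin R
      ({X 0 ^ 2, X 0 ^ 3, X 1 ^ 2, X 1 ^ 3} : Set (MvPolynomial (Fin 2) R))) :
    MvPolynomial.mkDerivation R
        (![X 1 ^ 2 * (C l0 * X 0 ^ 4 + C τ * X 0 ^ 3 + C l2 * X 0 ^ 2 + C l4),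
          X 0 ^ 2 * (C s0 * X 1 ^ 4 + C τ * X 1 ^ 3 + C s2 * X 1 ^ 2 + C s4)] :
          Fin 2 → MvPolynomial (Fin 2) R) a = 0 ↔
      a ∈ Algebra.adjoin R
        ({X 0 ^ 2, X 1 ^ 2,
          (C s0 * X 1 ^ 4 + C s2 * X 1 ^ 2 + C s4) * X 0 ^ 3 +
            (C l0 * X 0 ^ 4 + C l2 * X 0 ^ 2 + C l4) * X 1 ^ 3 +
            C τ * X 0 ^ 3 * X 1 ^ 3} : Set (MvPolynomial (Fin 2) R)) := by
  obtain ⟨τi, hτi⟩ := hτ.exists_right_inv
  have h2 := two_zero (R := R)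
  have hC : (C τ * C τi : MvPolynomial (Fin 2) R) = 1 := by rw [← C_mul, hτi, C_1]
  obtain ⟨Lq, hLq⟩ : ∃ Lq : MvPolynomial (Fin 2) R, Lq = C l0 * X 0 ^ 2 + C l2 * X 0 + C l4 :=
    ⟨_, rfl⟩
  obtain ⟨Sq, hSq⟩ : ∃ Sq : MvPolynomial (Fin 2) R, Sq = C s0 * X 1 ^ 2 + C s2 * X 1 + C s4 :=
    ⟨_, rfl⟩
  have heL : e Lq = C l0 * X 0 ^ 4 + C l2 * X 0 ^ 2 + C l4 := by
    rw [hLq]; simp only [map_add, map_mul, map_pow, expand_X, expand_C]; ring
  have heS : e Sq = C s0 * X 1 ^ 4 + C s2 * X 1 ^ 2 + C s4 := by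
    rw [hSq]; simp only [map_add, map_mul, map_pow, expand_X, expand_C]; ring
  obtain ⟨g, hg⟩ : ∃ g : MvPolynomial (Fin 2) R, g =
          (C s0 * X 1 ^ 4 + C s2 * X 1 ^ 2 + C s4) * X 0 ^ 3 +
            (C l0 * X 0 ^ 4 + C l2 * X 0 ^ 2 + C l4) * X 1 ^ 3 +
            C τ * X 0 ^ 3 * X 1 ^ 3 := ⟨_, rfl⟩
  rw [← hg]
  have hg' : g = e Sq * X 0 ^ 3 + e Lq * X 1 ^ 3 + e (C τ) * (X 0 ^ 3 * X 1 ^ 3) := by
    rw [hg, heS, heL, expand_C]; ring
  obtain ⟨D, hD⟩ : ∃ D : Derivation R (MvPolynomial (Fin 2) R) (MvPolynomial (Fin 2) R),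
      D = MvPolynomial.mkDerivation R
        (![X 1 ^ 2 * (C l0 * X 0 ^ 4 + C τ * X 0 ^ 3 + C l2 * X 0 ^ 2 + C l4),
          X 0 ^ 2 * (C s0 * X 1 ^ 4 + C τ * X 1 ^ 3 + C s2 * X 1 ^ 2 + C s4)] :
          Fin 2 → MvPolynomial (Fin 2) R) := ⟨_, rfl⟩
  rw [← hD]
  have hD0 : D (X 0) = X 1 ^ 2 * (e Lq + C τ * X 0 ^ 3) := by
    rw [hD, mkDerivation_X, heL]; simp only [Matrix.cons_val]; ring
  have hD1 : D (X 1) = X 0 ^ 2 * (e Sq + C τ * X 1 ^ 3) := by
    rw [hD, mkDerivation_X, heS]; simp only [Matrix.cons_val]; ring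
  have hDU : D (X 0 ^ 3) = 3 * (X 0 ^ 2 * (X 1 ^ 2 * (e Lq + C τ * X 0 ^ 3))) := by
    rw [Derivation.leibniz_pow, hD0]
    simp only [smul_eq_mul, nsmul_eq_mul]
    norm_num
  have hDV : D (X 1 ^ 3) = 3 * (X 1 ^ 2 * (X 0 ^ 2 * (e Sq + C τ * X 1 ^ 3))) := by
    rw [Derivation.leibniz_pow, hD1]
    simp only [smul_eq_mul, nsmul_eq_mul]
    norm_num
  have hDg : D g = 0 := by
    rw [hg', map_add, map_add, deriv_e_mul, deriv_e_mul, deriv_e_mul, Derivation.leibniz, hDU,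
      hDV, expand_C]
    simp only [smul_eq_mul]
    linear_combination (3 * X 0 ^ 2 * X 1 ^ 2 * (e Sq * e Lq + C τ * e Sq * X 0 ^ 3
      + C τ * e Lq * X 1 ^ 3 + C τ * C τ * X 0 ^ 3 * X 1 ^ 3)) * h2
  -- the kernel of `D` as a subalgebra
  let K : Subalgebra R (MvPolynomial (Fin 2) R) :=
    { carrier := {z | D z = 0}
      mul_mem' := by
        intro x y hx hy
        simp only [Set.mem_setOf_eq] at hx hy ⊢
        rw [Derivation.leibniz, hx, hy, smul_zero, smul_zero, add_zero]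
      add_mem' := by
        intro x y hx hy
        simp only [Set.mem_setOf_eq] at hx hy ⊢
        rw [map_add, hx, hy, add_zero]
      algebraMap_mem' := by
        intro r
        simp only [Set.mem_setOf_eq]
        exact D.map_algebraMap r }
  -- the elements of the form `e p₀ + e p₁ u³ + e p₂ v³ + e p₃ u³v³`
  let T : Subalgebra R (MvPolynomial (Fin 2) R) :=
    { carrier := {z | ∃ p₀ p₁ p₂ p₃ : MvPolynomial (Fin 2) R,
        z = e p₀ + e p₁ * X 0 ^ 3 + e p₂ * X 1 ^ 3 + e p₃ * (X 0 ^ 3 * X 1 ^ 3)}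
      mul_mem' := by
        rintro x y ⟨p₀, p₁, p₂, p₃, rfl⟩ ⟨q₀, q₁, q₂, q₃, rfl⟩
        refine ⟨p₀ * q₀ + p₁ * q₁ * X 0 ^ 3 + p₂ * q₂ * X 1 ^ 3 + p₃ * q₃ * (X 0 ^ 3 * X 1 ^ 3),
          p₀ * q₁ + p₁ * q₀ + (p₂ * q₃ + p₃ * q₂) * X 1 ^ 3,
          p₀ * q₂ + p₂ * q₀ + (p₁ * q₃ + p₃ * q₁) * X 0 ^ 3,
          p₀ * q₃ + p₃ * q₀ + p₁ * q₂ + p₂ * q₁, ?_⟩
        simp only [map_add, map_mul, map_pow, expand_X]
        ring
      add_mem' := by
        rintro x y ⟨p₀, p₁, p₂, p₃, rfl⟩ ⟨q₀, q₁, q₂, q₃, rfl⟩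
        refine ⟨p₀ + q₀, p₁ + q₁, p₂ + q₂, p₃ + q₃, ?_⟩
        simp only [map_add]
        ring
      algebraMap_mem' := by
        intro r
        refine ⟨C r, 0, 0, 0, ?_⟩
        simp [e, MvPolynomial.algebraMap_eq] }
  constructor
  · intro hDa
    have haT : a ∈ T := by
      refine Algebra.adjoin_le ?_ ha
      intro z hz
      simp only [Set.mem_insert_iff, Set.mem_singleton_iff] at hz
      rcases hz with rfl | rfl | rfl | rfl
      · exact ⟨X 0, 0, 0, 0, by simp [expand_X]⟩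
      · exact ⟨0, 1, 0, 0, by simp⟩
      · exact ⟨X 1, 0, 0, 0, by simp [expand_X]⟩
      · exact ⟨0, 0, 1, 0, by simp⟩
    obtain ⟨p₀, p₁, p₂, p₃, rfl⟩ := haT
    have hDp : D (e p₀ + e p₁ * X 0 ^ 3 + e p₂ * X 1 ^ 3 + e p₃ * (X 0 ^ 3 * X 1 ^ 3))
        = e (X 0 * X 1 * (p₁ * Lq + p₂ * Sq)) + e (X 0 * X 1 * (C τ * p₁ + p₃ * Sq) * X 0) * X 0
          + e (X 0 * X 1 * (C τ * p₂ + p₃ * Lq) * X 1) * X 1 + e 0 * (X 0 * X 1) := by
      rw [map_add, map_add, map_add, deriv_e, deriv_e_mul, deriv_e_mul, deriv_e_mul,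
        Derivation.leibniz, hDU, hDV]
      simp only [smul_eq_mul, map_add, map_mul, expand_C, expand_X, map_zero]
      linear_combination (X 0 ^ 2 * X 1 ^ 2 * (e p₁ * e Lq + C τ * e p₁ * X 0 ^ 3 + e p₂ * e Sq
        + C τ * e p₂ * X 1 ^ 3 + e p₃ * X 0 ^ 3 * e Sq + e p₃ * X 1 ^ 3 * e Lq)
        + 3 * X 0 ^ 2 * X 1 ^ 2 * C τ * e p₃ * X 0 ^ 3 * X 1 ^ 3) * h2
    rw [hDp] at hDa
    obtain ⟨-, h₁', h₂', -⟩ := coeffs_zero _ _ _ _ hDa
    have h₁ : C τ * p₁ + p₃ * Sq = 0 := by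
      have h3 : (C τ * p₁ + p₃ * Sq) * X 1 * X 0 * X 0 = 0 := by rw [← h₁']; ring
      have h4 := (isRegular_X (n := (0 : Fin 2))).right (by simpa using h3)
      have h5 := (isRegular_X (n := (0 : Fin 2))).right (by simpa using h4)
      exact (isRegular_X (n := (1 : Fin 2))).right (by simpa using h5)
    have h₂ : C τ * p₂ + p₃ * Lq = 0 := by
      have h3 : (C τ * p₂ + p₃ * Lq) * X 0 * X 1 * X 1 = 0 := by rw [← h₂']; ring
      have h4 := (isRegular_X (n := (1 : Fin 2))).right (by simpa using h3)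
      have h5 := (isRegular_X (n := (1 : Fin 2))).right (by simpa using h4)
      exact (isRegular_X (n := (0 : Fin 2))).right (by simpa using h5)
    have hcore := core τ τi hτi p₁ p₂ p₃ Sq Lq (X 0 ^ 3) (X 1 ^ 3) h₁ h₂
    have hg'' : g = e Sq * X 0 ^ 3 + e Lq * X 1 ^ 3 + C τ * (X 0 ^ 3 * X 1 ^ 3) := by
      rw [hg', expand_C]
    have heq : e p₀ + e p₁ * X 0 ^ 3 + e p₂ * X 1 ^ 3 + e p₃ * (X 0 ^ 3 * X 1 ^ 3)
        = e p₀ + e (C τi * p₃) * g := by
      rw [hg'']; linear_combination hcore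
    rw [heq]
    set W := Algebra.adjoin R ({X 0 ^ 2, X 1 ^ 2, g} : Set (MvPolynomial (Fin 2) R)) with hW
    have hx0 : (X 0 ^ 2 : MvPolynomial (Fin 2) R) ∈ W :=
      Algebra.subset_adjoin (by simp)
    have hx1 : (X 1 ^ 2 : MvPolynomial (Fin 2) R) ∈ W :=
      Algebra.subset_adjoin (by simp)
    have hgW : g ∈ W := Algebra.subset_adjoin (by simp)
    exact W.add_mem (e_mem W hx0 hx1 _) (W.mul_mem (e_mem W hx0 hx1 _) hgW)
  · intro haW
    have : a ∈ K := by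
      refine Algebra.adjoin_le ?_ haW
      intro z hz
      simp only [Set.mem_insert_iff, Set.mem_singleton_iff] at hz
      rcases hz with rfl | rfl | rfl
      · change D (X 0 ^ 2) = 0
        rw [← expand_X (R := R)]; exact deriv_e D _
      · change D (X 1 ^ 2) = 0
        rw [← expand_X (R := R)]; exact deriv_e D _
      · exact hDg
    exact this

end Groth.Agent.S13120
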