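-- Statement S13121.
import Groth.Statements.S13121
import Mathlib
import Groth.Agent.Lib.Helper1.KumFamLib

set_option autoImplicit false
universe u
open KumFam

namespace Groth.Agent.S13121

open MvPolynomial Groth.Agent.Lib.Helper1.KumFamLib in
/-- Let R be a commutative ring of characteristic 2 and l0, l2, l4, s0, s2, s4, τ ∈ R with τ a unit. In
R[u, v] (u = X 0, v = X 1) put g = (s0 v⁴ + s2 v² + s4) u³ + (l0 u⁴ + l2 u² + l4) v³ + τ u³ v³. Then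
the kernel of the R-algebra homomorphism R[a, b, c] → R[u, v] (a = X 0, b = X 1, c = X 2) with a ↦
u², b ↦ v², c ↦ g is the ideal generated by c² + s0² a³ b⁴ + s2² a³ b² + s4² a³ + l0² a⁴ b³ + l2² a²
b³ + l4² b³ + τ² a³ b³; its image is the subalgebra R[u², v², g], which is therefore presented by
this one equation. -/
theorem result (R : Type u) [CommRing R] [CharP R 2]
    (l0 l2 l4 s0 s2 s4 τ : R) (hτ : IsUnit τ) :
    RingHom.ker (MvPolynomial.aeval (R := R) (S₁ := MvPolynomial (Fin 2) R)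
        ![X 0 ^ 2, X 1 ^ 2,
          (C s0 * X 1 ^ 4 + C s2 * X 1 ^ 2 + C s4) * X 0 ^ 3 +
            (C l0 * X 0 ^ 4 + C l2 * X 0 ^ 2 + C l4) * X 1 ^ 3 +
            C τ * X 0 ^ 3 * X 1 ^ 3]) =
      Ideal.span {(X 2 ^ 2 + C (s0 ^ 2) * X 0 ^ 3 * X 1 ^ 4 + C (s2 ^ 2) * X 0 ^ 3 * X 1 ^ 2 +
        C (s4 ^ 2) * X 0 ^ 3 + C (l0 ^ 2) * X 0 ^ 4 * X 1 ^ 3 + C (l2 ^ 2) * X 0 ^ 2 * X 1 ^ 3 +
        C (l4 ^ 2) * X 1 ^ 3 + C (τ ^ 2) * X 0 ^ 3 * X 1 ^ 3 : MvPolynomial (Fin 3) R)} := by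
  obtain ⟨τi, hτi⟩ := hτ.exists_right_inv
  have hC : (C τ * C τi : MvPolynomial (Fin 2) R) = 1 := by rw [← C_mul, hτi, C_1]
  obtain ⟨Lq, hLq⟩ : ∃ Lq : MvPolynomial (Fin 2) R, Lq = C l0 * X 0 ^ 2 + C l2 * X 0 + C l4 :=
    ⟨_, rfl⟩
  obtain ⟨Sq, hSq⟩ : ∃ Sq : MvPolynomial (Fin 2) R, Sq = C s0 * X 1 ^ 2 + C s2 * X 1 + C s4 :=
    ⟨_, rfl⟩
  have heL : e Lq = C l0 * X 0 ^ 4 + C l2 * X 0 ^ 2 + C l4 := by
    rw [hLq]; simp only [map_add, map_mul, map_pow, expand_X, expand_C]; ring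
  have heS : e Sq = C s0 * X 1 ^ 4 + C s2 * X 1 ^ 2 + C s4 := by
    rw [hSq]; simp only [map_add, map_mul, map_pow, expand_X, expand_C]; ring
  obtain ⟨G, hG⟩ : ∃ G : MvPolynomial (Fin 2) R, G = C (s0 ^ 2) * X 0 ^ 3 * X 1 ^ 4 +
        C (s2 ^ 2) * X 0 ^ 3 * X 1 ^ 2 +
        C (s4 ^ 2) * X 0 ^ 3 + C (l0 ^ 2) * X 0 ^ 4 * X 1 ^ 3 + C (l2 ^ 2) * X 0 ^ 2 * X 1 ^ 3 +
        C (l4 ^ 2) * X 1 ^ 3 + C (τ ^ 2) * X 0 ^ 3 * X 1 ^ 3 := ⟨_, rfl⟩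
  have hιG : (X 2 ^ 2 + C (s0 ^ 2) * X 0 ^ 3 * X 1 ^ 4 + C (s2 ^ 2) * X 0 ^ 3 * X 1 ^ 2 +
        C (s4 ^ 2) * X 0 ^ 3 + C (l0 ^ 2) * X 0 ^ 4 * X 1 ^ 3 + C (l2 ^ 2) * X 0 ^ 2 * X 1 ^ 3 +
        C (l4 ^ 2) * X 1 ^ 3 + C (τ ^ 2) * X 0 ^ 3 * X 1 ^ 3 : MvPolynomial (Fin 3) R)
      = X 2 ^ 2 + ι G := by
    rw [hG]
    simp only [ι, map_add, map_mul, map_pow, rename_X, rename_C, Fin.castSucc_zero,
      Fin.castSucc_one]
    ring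
  rw [hιG]
  obtain ⟨φ, hφ⟩ : ∃ φ : Fin 3 → MvPolynomial (Fin 2) R, φ = ![X 0 ^ 2, X 1 ^ 2,
          (C s0 * X 1 ^ 4 + C s2 * X 1 ^ 2 + C s4) * X 0 ^ 3 +
            (C l0 * X 0 ^ 4 + C l2 * X 0 ^ 2 + C l4) * X 1 ^ 3 +
            C τ * X 0 ^ 3 * X 1 ^ 3] := ⟨_, rfl⟩
  rw [← hφ]
  have hφ0 : φ 0 = X 0 ^ 2 := by rw [hφ]; rfl
  have hφ1 : φ 1 = X 1 ^ 2 := by rw [hφ]; rfl
  have hφ2 : φ 2 = e (Sq * X 0) * X 0 + e (Lq * X 1) * X 1 + e (C τ * X 0 * X 1) * (X 0 * X 1) := by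
    rw [map_mul, map_mul, map_mul, map_mul, heL, heS, hφ, expand_C, expand_X, expand_X]
    simp only [Matrix.cons_val]
    ring
  refine ker_aeval_eq φ hφ0 hφ1 G _ _ _ hφ2 ?_ ?_
  · intro q hq
    have h1 := congrArg (· * C τi) hq
    have h3 : q * X 0 * X 1 = 0 := by
      have : q * (C τ * X 0 * X 1) * C τi = q * X 0 * X 1 * (C τ * C τi) := by ring
      simp only [zero_mul] at h1
      rw [this, hC, mul_one] at h1
      exact h1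
    have h4 : q * X 0 = 0 := (isRegular_X (n := (1 : Fin 2))).right (by simpa using h3)
    exact (isRegular_X (n := (0 : Fin 2))).right (by simpa using h4)
  · have hG' : e G = φ 2 ^ 2 := by
      rw [hφ2, map_mul, map_mul, map_mul, map_mul, heS, heL, hG, expand_C]
      simp only [CharTwo.add_sq, map_add, map_mul, map_pow, expand_X, expand_C, mul_pow, C_pow]
      ring
    rw [hG']
    exact CharTwo.add_self_eq_zero _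

end Groth.Agent.S13121
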