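-- Statement S13122.
import Groth.Statements.S13122
import Mathlib
import Groth.Agent.Lib.Helper1.KumFamLib

set_option autoImplicit false
universe u
open KumFam

namespace Groth.Agent.S13122

open MvPolynomial Groth.Agent.Lib.Helper1.KumFamLib in
/-- Let R be a commutative ring of characteristic 2 and l0, l2, l4, s0, s2, s4, τ ∈ R with τ a unit. On
R[x, y] (x = X 0, y = X 1; the coordinates u⁻¹, v⁻¹ of the smooth chart of the product of two
cuspidal curves) let D be the R-derivation with D(x) = l4 x⁴ + l2 x² + τ x + l0 and D(y) = s4 y⁴ +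
s2 y² + τ y + s0, and put h = (s4 y⁴ + s2 y² + s0) x + (l4 x⁴ + l2 x² + l0) y + τ x y. Then: (1) for
p ∈ R[x, y], D(p) = 0 if and only if p lies in the image of the R-algebra homomorphism R[a, b, c] →
R[x, y] (a = X 0, b = X 1, c = X 2) with a ↦ x², b ↦ y², c ↦ h; (2) the kernel of that homomorphism
is the ideal generated by c² + τ² a b + (s4² b⁴ + s2² b² + s0²) a + (l4² a⁴ + l2² a² + l0²) b. (The
published statement asserts that the ring of invariants of the action of the group scheme of square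
roots of unity given by this vector field is R[a, b, c] modulo this equation, by the same
computation as on the other chart; this row pins the generator h and states the kernel computation.) -/
theorem result (R : Type u) [CommRing R]
    [CharP R 2] (l0 l2 l4 s0 s2 s4 τ : R) (hτ : IsUnit τ) :
    (∀ p : MvPolynomial (Fin 2) R,
      MvPolynomial.mkDerivation R
          (![C l4 * X 0 ^ 4 + C l2 * X 0 ^ 2 + C τ * X 0 + C l0,
            C s4 * X 1 ^ 4 + C s2 * X 1 ^ 2 + C τ * X 1 + C s0] :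
            Fin 2 → MvPolynomial (Fin 2) R) p = 0 ↔
        p ∈ (MvPolynomial.aeval (R := R) (S₁ := MvPolynomial (Fin 2) R)
          ![X 0 ^ 2, X 1 ^ 2,
            (C s4 * X 1 ^ 4 + C s2 * X 1 ^ 2 + C s0) * X 0 +
              (C l4 * X 0 ^ 4 + C l2 * X 0 ^ 2 + C l0) * X 1 + C τ * X 0 * X 1]).range) ∧
    RingHom.ker (MvPolynomial.aeval (R := R) (S₁ := MvPolynomial (Fin 2) R)
        ![X 0 ^ 2, X 1 ^ 2,
          (C s4 * X 1 ^ 4 + C s2 * X 1 ^ 2 + C s0) * X 0 +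
            (C l4 * X 0 ^ 4 + C l2 * X 0 ^ 2 + C l0) * X 1 + C τ * X 0 * X 1]) =
      Ideal.span {(X 2 ^ 2 + C (τ ^ 2) * X 0 * X 1 +
        (C (s4 ^ 2) * X 1 ^ 4 + C (s2 ^ 2) * X 1 ^ 2 + C (s0 ^ 2)) * X 0 +
        (C (l4 ^ 2) * X 0 ^ 4 + C (l2 ^ 2) * X 0 ^ 2 + C (l0 ^ 2)) * X 1 : MvPolynomial (Fin 3) R)} := by
  obtain ⟨τi, hτi⟩ := hτ.exists_right_inv
  have h2 := two_zero (R := R)
  have hC : (C τ * C τi : MvPolynomial (Fin 2) R) = 1 := by rw [← C_mul, hτi, C_1]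
  obtain ⟨Lq, hLq⟩ : ∃ Lq : MvPolynomial (Fin 2) R, Lq = C l4 * X 0 ^ 2 + C l2 * X 0 + C l0 :=
    ⟨_, rfl⟩
  obtain ⟨Sq, hSq⟩ : ∃ Sq : MvPolynomial (Fin 2) R, Sq = C s4 * X 1 ^ 2 + C s2 * X 1 + C s0 :=
    ⟨_, rfl⟩
  have heL : e Lq = C l4 * X 0 ^ 4 + C l2 * X 0 ^ 2 + C l0 := by
    rw [hLq]; simp only [map_add, map_mul, map_pow, expand_X, expand_C]; ring
  have heS : e Sq = C s4 * X 1 ^ 4 + C s2 * X 1 ^ 2 + C s0 := by
    rw [hSq]; simp only [map_add, map_mul, map_pow, expand_X, expand_C]; ring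
  obtain ⟨G, hG⟩ : ∃ G : MvPolynomial (Fin 2) R, G = C (τ ^ 2) * X 0 * X 1 +
        (C (s4 ^ 2) * X 1 ^ 4 + C (s2 ^ 2) * X 1 ^ 2 + C (s0 ^ 2)) * X 0 +
        (C (l4 ^ 2) * X 0 ^ 4 + C (l2 ^ 2) * X 0 ^ 2 + C (l0 ^ 2)) * X 1 := ⟨_, rfl⟩
  have hιG : (X 2 ^ 2 + C (τ ^ 2) * X 0 * X 1 +
        (C (s4 ^ 2) * X 1 ^ 4 + C (s2 ^ 2) * X 1 ^ 2 + C (s0 ^ 2)) * X 0 +
        (C (l4 ^ 2) * X 0 ^ 4 + C (l2 ^ 2) * X 0 ^ 2 + C (l0 ^ 2)) * X 1 : MvPolynomial (Fin 3) R)
      = X 2 ^ 2 + ι G := by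
    rw [hG]
    simp only [ι, map_add, map_mul, map_pow, rename_X, rename_C, Fin.castSucc_zero,
      Fin.castSucc_one]
    ring
  rw [hιG]
  obtain ⟨φ, hφ⟩ : ∃ φ : Fin 3 → MvPolynomial (Fin 2) R, φ = ![X 0 ^ 2, X 1 ^ 2,
            (C s4 * X 1 ^ 4 + C s2 * X 1 ^ 2 + C s0) * X 0 +
              (C l4 * X 0 ^ 4 + C l2 * X 0 ^ 2 + C l0) * X 1 + C τ * X 0 * X 1] := ⟨_, rfl⟩
  rw [← hφ]
  have hφ0 : φ 0 = X 0 ^ 2 := by rw [hφ]; rfl
  have hφ1 : φ 1 = X 1 ^ 2 := by rw [hφ]; rfl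
  have hφ2 : φ 2 = e Sq * X 0 + e Lq * X 1 + e (C τ) * (X 0 * X 1) := by
    rw [heL, heS, hφ, expand_C]
    simp only [Matrix.cons_val]
    ring
  obtain ⟨D, hD⟩ : ∃ D : Derivation R (MvPolynomial (Fin 2) R) (MvPolynomial (Fin 2) R),
      D = MvPolynomial.mkDerivation R
          (![C l4 * X 0 ^ 4 + C l2 * X 0 ^ 2 + C τ * X 0 + C l0,
            C s4 * X 1 ^ 4 + C s2 * X 1 ^ 2 + C τ * X 1 + C s0] :
            Fin 2 → MvPolynomial (Fin 2) R) := ⟨_, rfl⟩
  rw [← hD]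
  have hD0 : D (X 0) = e Lq + C τ * X 0 := by
    rw [hD, mkDerivation_X, heL]; simp only [Matrix.cons_val]; ring
  have hD1 : D (X 1) = e Sq + C τ * X 1 := by
    rw [hD, mkDerivation_X, heS]; simp only [Matrix.cons_val]; ring
  have hDφ2 : D (φ 2) = 0 := by
    rw [hφ2]
    rw [map_add, map_add, deriv_e_mul, deriv_e_mul, deriv_e_mul, Derivation.leibniz, hD0, hD1,
      expand_C]
    simp only [smul_eq_mul]
    linear_combination (e Sq * e Lq + C τ * e Sq * X 0 + C τ * e Lq * X 1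
      + C τ * C τ * X 0 * X 1) * h2
  have hDrange : ∀ q : MvPolynomial (Fin 3) R, D (aeval φ q) = 0 := by
    intro q
    induction q using MvPolynomial.induction_on with
    | C r => simp
    | add p q hp hq => rw [map_add, map_add, hp, hq, add_zero]
    | mul_X p i hp =>
      rw [map_mul, aeval_X, Derivation.leibniz, hp]
      fin_cases i
      · have : D (φ 0) = 0 := by
          rw [hφ0, ← expand_X (R := R)]; exact deriv_e D _
        simp [this]
      · have : D (φ 1) = 0 := by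
          rw [hφ1, ← expand_X (R := R)]; exact deriv_e D _
        simp [this]
      · simp [hDφ2]
  refine ⟨?_, ?_⟩
  · intro p
    constructor
    · intro hp
      obtain ⟨p₀, p₁, p₂, p₃, rfl⟩ := exists_decomp p
      have hDp : D (e p₀ + e p₁ * X 0 + e p₂ * X 1 + e p₃ * (X 0 * X 1))
          = e (p₁ * Lq + p₂ * Sq) + e (C τ * p₁ + p₃ * Sq) * X 0
            + e (C τ * p₂ + p₃ * Lq) * X 1 + e 0 * (X 0 * X 1) := by
        rw [map_add, map_add, map_add, deriv_e, deriv_e_mul, deriv_e_mul, deriv_e_mul,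
          Derivation.leibniz, hD0, hD1]
        simp only [smul_eq_mul, map_add, map_mul, expand_C, map_zero]
        linear_combination (C τ * e p₃ * X 0 * X 1) * h2
      rw [hDp] at hp
      obtain ⟨-, h₁, h₂, -⟩ := coeffs_zero _ _ _ _ hp
      refine ⟨ι p₀ + ι (C τi * p₃) * X 2, ?_⟩
      have hcore := core τ τi hτi p₁ p₂ p₃ Sq Lq (X 0) (X 1) h₁ h₂
      change aeval φ (ι p₀ + ι (C τi * p₃) * X 2) = _
      rw [map_add, map_mul, aeval_X, aeval_ι φ hφ0 hφ1, aeval_ι φ hφ0 hφ1, hφ2, expand_C]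
      linear_combination -hcore
    · rintro ⟨q, rfl⟩
      exact hDrange q
  · refine ker_aeval_eq φ hφ0 hφ1 G Sq Lq (C τ) hφ2 ?_ ?_
    · intro q hq
      have := congrArg (· * C τi) hq
      simpa [mul_assoc, hC] using this
    · have hG' : e G = φ 2 ^ 2 := by
        rw [hφ2, heS, heL, hG, expand_C]
        simp only [CharTwo.add_sq, map_add, map_mul, map_pow, expand_X, expand_C, mul_pow, C_pow]
        ring
      rw [hG']
      exact CharTwo.add_self_eq_zero _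

end Groth.Agent.S13122
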