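-- Statement S13124.
import Groth.Statements.S13124
import Mathlib

set_option autoImplicit false
universe u v w
open KumFam

namespace Groth.Agent.S13124

open TensorProduct in
/-- Let k be a commutative ring, A a commutative k-bialgebra that is flat over k, and R a commutative
k-algebra which is an integrally closed domain, with a coaction R → R ⊗ A that is an algebra
homomorphism. Then the ring of invariants (the elements f with coaction f ⊗ 1) is an integrally
closed domain. (The published statement is for a finite group scheme acting on a normal scheme whose
quotient is, locally, the spectrum of the ring of invariants; this row is the affine integral case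
and allows any commutative bialgebra flat over k, flatness being automatic over a field.) -/
theorem result (k : Type u) [CommRing k]
    (A : Type v) [CommRing A] [Bialgebra k A] [Module.Flat k A]
    (R : Type w) [CommRing R] [Algebra k R] [IsDomain R] [IsIntegrallyClosed R]
    [HopfRep.Comod k A R] [GLin.IsCoactAlg k A R] :
    IsIntegrallyClosed (GLin.invariants k A R) := by
  classical
  rw [isIntegrallyClosed_iff (FractionRing (GLin.invariants k A R))]
  intro x hx
  obtain ⟨a, b, hb, rfl⟩ := IsFractionRing.div_surjective (A := GLin.invariants k A R) x
  have hb0 : (b : R) ≠ 0 := by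
    intro h
    have : b = 0 := Subtype.ext h
    exact (nonZeroDivisors.ne_zero hb) this
  -- the map to the fraction field of `R`
  let g : GLin.invariants k A R →+* FractionRing R :=
    (algebraMap R (FractionRing R)).comp (GLin.invariants k A R).val.toRingHom
  have hg : Function.Injective g := by
    intro u v huv
    apply Subtype.ext
    exact IsFractionRing.injective R (FractionRing R) huv
  let j : FractionRing (GLin.invariants k A R) →+* FractionRing R := IsFractionRing.lift hg
  have hj : ∀ s, j (algebraMap _ _ s) = g s := fun s => IsFractionRing.lift_algebraMap hg s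
  -- integrality over `R`
  obtain ⟨p, hpm, hp0⟩ := hx
  have hint : IsIntegral R (j (algebraMap _ _ a / algebraMap _ _ b)) := by
    refine ⟨p.map (GLin.invariants k A R).val.toRingHom, hpm.map _, ?_⟩
    rw [Polynomial.eval₂_map]
    have h1 : (algebraMap R (FractionRing R)).comp (GLin.invariants k A R).val.toRingHom
        = j.comp (algebraMap (GLin.invariants k A R) (FractionRing (GLin.invariants k A R))) := by
      ext s
      exact (hj s).symm
    rw [h1, ← Polynomial.hom_eval₂, hp0, map_zero]
  obtain ⟨r, hr⟩ := IsIntegrallyClosed.algebraMap_eq_of_integral hint
  have hbK : algebraMap (GLin.invariants k A R) (FractionRing (GLin.invariants k A R)) b ≠ 0 := by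
    intro h
    exact nonZeroDivisors.ne_zero hb
      ((IsFractionRing.injective _ (FractionRing (GLin.invariants k A R))) (by rw [h, map_zero]))
  have hrb : r * (b : R) = (a : R) := by
    apply IsFractionRing.injective R (FractionRing R)
    rw [map_mul, hr]
    have h1 : g b = algebraMap R (FractionRing R) (b : R) := rfl
    have h2 : g a = algebraMap R (FractionRing R) (a : R) := rfl
    rw [← h1, ← h2, ← hj b, ← hj a, ← map_mul, div_mul_cancel₀ _ hbK]
  -- `r` is invariant
  have hinj : Function.Injective (LinearMap.mulLeft k ((b : R) ⊗ₜ[k] (1 : A))) := by
    have h1 : Function.Injective (LinearMap.mulLeft k (b : R)) := mul_right_injective₀ hb0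
    have h2 := Module.Flat.rTensor_preserves_injective_linearMap (M := A)
      (LinearMap.mulLeft k (b : R)) h1
    have h3 : (LinearMap.mulLeft k (b : R)).rTensor A
        = LinearMap.mulLeft k ((b : R) ⊗ₜ[k] (1 : A)) := by
      ext u v
      simp [Algebra.TensorProduct.tmul_mul_tmul]
    rw [h3] at h2
    exact h2
  have hrinv : r ∈ GLin.invariants k A R := by
    rw [GLin.mem_invariants_iff]
    apply hinj
    simp only [LinearMap.mulLeft_apply]
    have ha := (GLin.mem_invariants_iff (k := k) (A := A) (R := R) (a : R)).mp a.2
    have hb' := (GLin.mem_invariants_iff (k := k) (A := A) (R := R) (b : R)).mp b.2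
    rw [← hb', ← GLin.IsCoactAlg.coact_mul, mul_comm (b : R) r, hrb, ha, hb',
      Algebra.TensorProduct.tmul_mul_tmul, one_mul, mul_comm (b : R) r, hrb]
  refine ⟨⟨r, hrinv⟩, ?_⟩
  apply j.injective
  rw [hj, ← hr]
  rfl

end Groth.Agent.S13124
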