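import Groth.Statements.S13125
import Mathlib

set_option autoImplicit false
universe u v
open KumFam

namespace Groth.Agent.S13125

section Aux
variable {ι : Type u} [DecidableEq ι] [AddMonoid ι]
  {A : Type v} [CommRing A] (𝒜 : ι → AddSubgroup A) [GradedRing 𝒜] (I : Ideal A)

abbrev Bq (i : ι) : AddSubgroup (A ⧸ I) := (𝒜 i).map (Ideal.Quotient.mk I : A →+ A ⧸ I)

noncomputable def rest (i : ι) : 𝒜 i →+ Bq 𝒜 I i :=
  (Ideal.Quotient.mk I : A →+ A ⧸ I).addSubgroupMap (𝒜 i)

theorem rest_coe (i : ι) (a : 𝒜 i) :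
    ((rest 𝒜 I i a : Bq 𝒜 I i) : A ⧸ I) = Ideal.Quotient.mk I (a : A) := rfl

theorem rest_surj (i : ι) : Function.Surjective (rest 𝒜 I i) :=
  AddMonoidHom.addSubgroupMap_surjective _ _

noncomputable def Phi : A →+ DirectSum ι (fun i => Bq 𝒜 I i) :=
  (DirectSum.map (rest 𝒜 I)).comp (DirectSum.decomposeAddEquiv 𝒜).toAddMonoidHom

theorem Phi_apply (a : A) :
    Phi 𝒜 I a = DirectSum.map (rest 𝒜 I) (DirectSum.decompose 𝒜 a) := rfl

theorem coe_map (z : DirectSum ι (fun i => 𝒜 i)) :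
    DirectSum.coeAddMonoidHom (Bq 𝒜 I) (DirectSum.map (rest 𝒜 I) z) =
      Ideal.Quotient.mk I (DirectSum.coeAddMonoidHom 𝒜 z) := by
  have : (DirectSum.coeAddMonoidHom (Bq 𝒜 I)).comp (DirectSum.map (rest 𝒜 I)) =
      (Ideal.Quotient.mk I : A →+ A ⧸ I).comp (DirectSum.coeAddMonoidHom 𝒜) := by
    apply DirectSum.addHom_ext
    intro i a
    simp [rest_coe]
  exact DFunLike.congr_fun this z

theorem coe_Phi (a : A) :
    DirectSum.coeAddMonoidHom (Bq 𝒜 I) (Phi 𝒜 I a) = Ideal.Quotient.mk I a := by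
  rw [Phi_apply, coe_map]
  congr 1
  exact (DirectSum.decompose 𝒜).left_inv a

theorem Phi_eq_zero (hI : I.IsHomogeneous 𝒜) {a : A} (ha : a ∈ I) : Phi 𝒜 I a = 0 := by
  rw [Phi_apply]
  apply DFinsupp.ext
  intro i
  rw [DirectSum.map_apply]
  apply Subtype.ext
  rw [rest_coe]
  exact Ideal.Quotient.eq_zero_iff_mem.2 (hI i ha)

noncomputable def dec (hI : I.IsHomogeneous 𝒜) : DirectSum.Decomposition (Bq 𝒜 I) where
  decompose' x := Phi 𝒜 I (Function.surjInv Ideal.Quotient.mk_surjective x)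
  left_inv x := by
    rw [coe_Phi]; exact Function.surjInv_eq _ x
  right_inv z := by
    obtain ⟨z', rfl⟩ := (DirectSum.map_surjective (rest 𝒜 I)).2 (rest_surj 𝒜 I) z
    have h1 : Ideal.Quotient.mk I (Function.surjInv Ideal.Quotient.mk_surjective
        (DirectSum.coeAddMonoidHom (Bq 𝒜 I) (DirectSum.map (rest 𝒜 I) z'))) =
        Ideal.Quotient.mk I (DirectSum.coeAddMonoidHom 𝒜 z') := by
      rw [Function.surjInv_eq (Ideal.Quotient.mk_surjective (I := I)), coe_map]
    have h2 := Ideal.Quotient.eq.1 h1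
    have h3 := Phi_eq_zero 𝒜 I hI h2
    rw [map_sub, sub_eq_zero] at h3
    show Phi 𝒜 I _ = _
    rw [h3, Phi_apply]
    congr 1
    exact (DirectSum.decompose 𝒜).right_inv z'

theorem gm : SetLike.GradedMonoid (Bq 𝒜 I) where
  one_mem := ⟨1, SetLike.one_mem_graded 𝒜, map_one (Ideal.Quotient.mk I)⟩
  mul_mem := by
    rintro i j _ _ ⟨a, ha, rfl⟩ ⟨b, hb, rfl⟩
    exact ⟨a * b, SetLike.mul_mem_graded ha hb, map_mul (Ideal.Quotient.mk I) a b⟩

end Aux

/-- Let A be a commutative ring graded by an additive monoid ι (an abelian group in the published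
statement) through additive subgroups 𝒜 i, and I an ideal of A. Then I is a homogeneous ideal if and
only if A/I carries a structure of ι-graded ring ℬ for which the quotient map sends 𝒜 i into ℬ i for
all i. -/
theorem result (ι : Type u) [DecidableEq ι] [AddMonoid ι]
    (A : Type v) [CommRing A] (𝒜 : ι → AddSubgroup A) [GradedRing 𝒜] (I : Ideal A) :
    I.IsHomogeneous 𝒜 ↔
      ∃ ℬ : ι → AddSubgroup (A ⧸ I), Nonempty (GradedRing ℬ) ∧
        ∀ i : ι, (𝒜 i).map (Ideal.Quotient.mk I : A →+ A ⧸ I) ≤ ℬ i := by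
  constructor
  · intro hI
    exact ⟨Bq 𝒜 I, ⟨{ toGradedMonoid := gm 𝒜 I, toDecomposition := dec 𝒜 I hI }⟩, fun i => le_rfl⟩
  · rintro ⟨ℬ, ⟨gr⟩, hle⟩
    letI := gr
    intro i r hr
    have key : ∀ a : A, ∀ i, ((DirectSum.decompose ℬ (Ideal.Quotient.mk I a)) i : A ⧸ I) =
        Ideal.Quotient.mk I ((DirectSum.decompose 𝒜 a) i : A) := by
      intro a
      refine DirectSum.Decomposition.inductionOn 𝒜 (motive := fun a => ∀ i,
        ((DirectSum.decompose ℬ (Ideal.Quotient.mk I a)) i : A ⧸ I) =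
          Ideal.Quotient.mk I ((DirectSum.decompose 𝒜 a) i : A)) ?_ ?_ ?_ a
      · intro i; simp [DirectSum.decompose_zero]
      · intro j m i
        have hm : Ideal.Quotient.mk I (m : A) ∈ ℬ j := hle j ⟨m, m.2, rfl⟩
        by_cases hij : j = i
        · subst hij
          rw [DirectSum.decompose_of_mem_same ℬ hm, DirectSum.decompose_of_mem_same 𝒜 m.2]
        · rw [DirectSum.decompose_of_mem_ne ℬ hm hij, DirectSum.decompose_of_mem_ne 𝒜 m.2 hij,
            map_zero]
      · intro m m' h h' i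
        rw [map_add, DirectSum.decompose_add, DirectSum.decompose_add, DirectSum.add_apply,
          DirectSum.add_apply, AddSubgroup.coe_add, AddSubgroup.coe_add, map_add, h i, h' i]
    have h := key r i
    rw [Ideal.Quotient.eq_zero_iff_mem.2 hr] at h
    simp only [DirectSum.decompose_zero, DirectSum.zero_apply, ZeroMemClass.coe_zero] at h
    exact Ideal.Quotient.eq_zero_iff_mem.1 h.symm

end Groth.Agent.S13125
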