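-- Statement S13126.
import Groth.Statements.S13126
import Mathlib

set_option autoImplicit false
universe u
open KumFam

namespace Groth.Agent.S13126

open Polynomial in
/-- Let R be a commutative ring, n a natural number which is a unit in R, and ζ ∈ R with ζ^n = 1 and 1 −
ζ^i a unit for 0 < i < n (a primitive n-th root of unity in the fibrewise sense: the powers ζ^0, …,
ζ^(n−1) are roots of X^n − 1 with pairwise unit differences; over an integral domain in which n is a
unit this is the same as ζ having multiplicative order n). Then the R-algebra homomorphism R[X] →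
(Fin n → R) sending a polynomial to its values at ζ^0, …, ζ^(n−1) is surjective and its kernel is
the ideal generated by X^n − 1; hence R[X]/(X^n − 1) ≅ R^n as R-algebras, i.e. the scheme of n-th
roots of unity over Spec R is the disjoint union of n copies of Spec R. (The published statement
asks that R contain a primitive n-th root of unity without defining the term; its Chinese-remainder
argument uses that the ideals (X − ζ^i), i < n, are pairwise comaximal, which is the unit-difference
condition taken as the hypothesis here, whereas under the reading 'ζ has multiplicative order n'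
alone the surjectivity fails over a product of two fields. The published statement also asserts that
the isomorphism respects the group-scheme structures of the n-th roots of unity and of the constant
group ℤ/n; this row does not state that.) -/
theorem result (R : Type u) [CommRing R]
    (n : ℕ) (hn : IsUnit (n : R)) (ζ : R) (hζ : ζ ^ n = 1)
    (hprim : ∀ i : ℕ, 0 < i → i < n → IsUnit (1 - ζ ^ i)) :
    Function.Surjective (AlgHom.pi (fun i : Fin n => Polynomial.aeval (R := R) (ζ ^ (i : ℕ)))) ∧
      RingHom.ker (AlgHom.pi (fun i : Fin n => Polynomial.aeval (R := R) (ζ ^ (i : ℕ)))) =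
        Ideal.span {(X ^ n - 1 : R[X])} := by
  classical
  rcases subsingleton_or_nontrivial R with hsub | hnt
  · refine ⟨fun v => ⟨0, Subsingleton.elim _ _⟩, ?_⟩
    apply le_antisymm
    · intro x _
      rw [Subsingleton.elim x 0]
      exact Ideal.zero_mem _
    · intro x _
      rw [RingHom.mem_ker]
      exact Subsingleton.elim _ _
  have hn0 : n ≠ 0 := by
    rintro rfl
    simp at hn
  have hζu : IsUnit ζ := by
    refine IsUnit.of_mul_eq_one (ζ ^ (n - 1)) ?_
    rw [← pow_succ', Nat.sub_add_cancel (Nat.one_le_iff_ne_zero.mpr hn0), hζ]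
  -- unit differences
  have hdiff : ∀ i j : ℕ, i < n → j < n → i ≠ j → IsUnit (ζ ^ j - ζ ^ i) := by
    intro i j hi hj hij
    rcases Nat.lt_or_gt_of_ne hij with h | h
    · have : ζ ^ j - ζ ^ i = -(ζ ^ i * (1 - ζ ^ (j - i))) := by
        rw [mul_sub, mul_one, ← pow_add, Nat.add_sub_cancel' h.le]; ring
      rw [this]
      exact ((hζu.pow i).mul (hprim (j - i) (Nat.sub_pos_of_lt h) (lt_of_le_of_lt (Nat.sub_le _ _) hj))).neg
    · have : ζ ^ j - ζ ^ i = ζ ^ j * (1 - ζ ^ (i - j)) := by
        rw [mul_sub, mul_one, ← pow_add, Nat.add_sub_cancel' h.le]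
      rw [this]
      exact (hζu.pow j).mul (hprim (i - j) (Nat.sub_pos_of_lt h) (lt_of_le_of_lt (Nat.sub_le _ _) hi))
  have happ : ∀ (p : R[X]) (i : Fin n),
      (AlgHom.pi (fun i : Fin n => Polynomial.aeval (R := R) (ζ ^ (i : ℕ)))) p i =
        p.eval (ζ ^ (i : ℕ)) := by
    intro p i
    rw [AlgHom.pi_apply, Polynomial.coe_aeval_eq_eval]
  constructor
  · -- surjectivity by Lagrange interpolation
    intro v
    let P : Fin n → R[X] := fun j => ∏ i ∈ Finset.univ.erase j, (X - C (ζ ^ (i : ℕ)))
    have hPj : ∀ j : Fin n, IsUnit ((P j).eval (ζ ^ (j : ℕ))) := by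
      intro j
      simp only [P, Polynomial.eval_prod, Polynomial.eval_sub, Polynomial.eval_X, Polynomial.eval_C]
      rw [IsUnit.prod_iff]  
      intro i hi
      have hij : i ≠ j := (Finset.mem_erase.mp hi).1
      exact hdiff i j i.2 j.2 (fun h => hij (Fin.ext h))
    have hPi : ∀ i j : Fin n, i ≠ j → (P j).eval (ζ ^ (i : ℕ)) = 0 := by
      intro i j hij
      simp only [P, Polynomial.eval_prod, Polynomial.eval_sub, Polynomial.eval_X, Polynomial.eval_C]
      exact Finset.prod_eq_zero (Finset.mem_erase.mpr ⟨hij, Finset.mem_univ i⟩) (sub_self _)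
    refine ⟨∑ j : Fin n, C (v j * ((hPj j).unit⁻¹ : Rˣ)) * P j, ?_⟩
    funext i
    rw [happ, Polynomial.eval_finset_sum, Finset.sum_eq_single i]
    · rw [Polynomial.eval_mul, Polynomial.eval_C, mul_assoc]
      have : (((hPj i).unit⁻¹ : Rˣ) : R) * (P i).eval (ζ ^ (i : ℕ)) = 1 := by
        have := (hPj i).unit.inv_mul
        simpa using this
      rw [this, mul_one]
    · intro j _ hji
      rw [Polynomial.eval_mul, hPi i j (Ne.symm hji), mul_zero]
    · intro h; exact (h (Finset.mem_univ i)).elim
  · -- kernel
    let Q : ℕ → R[X] := fun k => ∏ i ∈ Finset.range k, (X - C (ζ ^ i))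
    have hQdvd : ∀ k : ℕ, k ≤ n → ∀ p : R[X], (∀ i : ℕ, i < n → p.eval (ζ ^ i) = 0) → Q k ∣ p := by
      intro k
      induction k with
      | zero => intro _ p _; simp [Q]
      | succ k ih =>
        intro hk p hp
        obtain ⟨q, rfl⟩ := ih (Nat.le_of_succ_le hk) p hp
        have hkn : k < n := hk
        have h0 := hp k hkn
        rw [Polynomial.eval_mul] at h0
        have hunit : IsUnit ((Q k).eval (ζ ^ k)) := by
          simp only [Q, Polynomial.eval_prod, Polynomial.eval_sub, Polynomial.eval_X,
            Polynomial.eval_C]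
          rw [IsUnit.prod_iff]
          intro i hi
          have hik : i < k := Finset.mem_range.mp hi
          exact hdiff i k (hik.trans hkn) hkn hik.ne
        have hq0 : q.eval (ζ ^ k) = 0 := hunit.mul_right_eq_zero.mp h0
        have hdvd : (X - C (ζ ^ k)) ∣ q := Polynomial.dvd_iff_isRoot.mpr hq0
        obtain ⟨q', rfl⟩ := hdvd
        refine ⟨q', ?_⟩
        simp only [Q]
        rw [Finset.prod_range_succ, mul_assoc]
    have hXn : ∀ i : ℕ, i < n → (X ^ n - 1 : R[X]).eval (ζ ^ i) = 0 := by
      intro i _
      rw [Polynomial.eval_sub, Polynomial.eval_pow, Polynomial.eval_X, Polynomial.eval_one,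
        ← pow_mul, mul_comm, pow_mul, hζ, one_pow, sub_self]
    have hQmonic : (Q n).Monic := Polynomial.monic_prod_of_monic _ _ fun i _ => Polynomial.monic_X_sub_C _
    have hQdeg : (Q n).natDegree = n := by
      simp only [Q]
      rw [Polynomial.natDegree_prod_of_monic _ _ fun i _ => Polynomial.monic_X_sub_C _]
      have : ∀ x ∈ Finset.range n, (X - C (ζ ^ x) : R[X]).natDegree = 1 :=
        fun x _ => Polynomial.natDegree_X_sub_C _
      rw [Finset.sum_congr rfl this]
      simp
    have hXmonic : (X ^ n - 1 : R[X]).Monic := by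
      have := Polynomial.monic_X_pow_sub_C (1 : R) hn0
      simpa using this
    have hXdeg : (X ^ n - 1 : R[X]).natDegree = n := by
      have := Polynomial.natDegree_X_pow_sub_C (R := R) (n := n) (r := 1)
      simpa using this
    have hEq : (X ^ n - 1 : R[X]) = Q n :=
      Polynomial.eq_of_monic_of_dvd_of_natDegree_le hQmonic hXmonic
        (hQdvd n le_rfl _ hXn) (by rw [hXdeg, hQdeg])
    apply le_antisymm
    · intro p hp
      rw [RingHom.mem_ker] at hp
      have hp' : ∀ i : ℕ, i < n → p.eval (ζ ^ i) = 0 := by
        intro i hi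
        have := congrFun hp ⟨i, hi⟩
        rw [happ] at this
        exact this
      rw [Ideal.mem_span_singleton, hEq]
      exact hQdvd n le_rfl p hp'
    · rw [Ideal.span_le, Set.singleton_subset_iff, SetLike.mem_coe, RingHom.mem_ker]
      funext i
      rw [happ]
      exact hXn i i.2

end Groth.Agent.S13126
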