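import Groth.Statements.S13127
import Groth.Agent.Lib.Helper14.FormalIFT

set_option autoImplicit false
universe u
open KumFam

namespace Groth.Agent.S13127

open MvPowerSeries in
/-- Let R be a commutative ring of characteristic 2 and l0, l2, l4, s0, s2, s4, τ, lam, sig ∈ R with l4,
s4, lam, sig units, and let κ₁, κ₂ ∈ R satisfy s4² κ₁³ = sig² and l4² κ₂³ = lam² (cube roots of
sig²/s4² and lam²/l4²). In the power series ring R[[a, b, c]] (a = X 0, b = X 1, c = X 2) put F = c²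
+ s0² a³ b⁴ + s2² a³ b² + s4² a³ + l0² a⁴ b³ + l2² a² b³ + l4² b³ + τ² a³ b³ and F₀ = c² + sig² a³ +
lam² b³. Then some R-algebra automorphism of R[[a, b, c]] maps F to F₀; consequently R[[a, b,
c]]/(F) ≅ R[[a, b, c]]/(F₀). (In the published statement lam, sig are the representatives in the
ground field of the residues of l4, s4 at a rational point, so that F₀ is the equation of the
special fibre made constant; this row takes them to be arbitrary units.) -/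
theorem result (R : Type u) [CommRing R] [CharP R 2]
    (l0 l2 l4 s0 s2 s4 τ lam sig κ₁ κ₂ : R) (hl4 : IsUnit l4) (hs4 : IsUnit s4) (hlam : IsUnit lam)
    (hsig : IsUnit sig) (h₁ : s4 ^ 2 * κ₁ ^ 3 = sig ^ 2) (h₂ : l4 ^ 2 * κ₂ ^ 3 = lam ^ 2) :
    ∃ φ : MvPowerSeries (Fin 3) R ≃ₐ[R] MvPowerSeries (Fin 3) R,
      φ ((X 2 ^ 2 + C (s0 ^ 2) * X 0 ^ 3 * X 1 ^ 4 + C (s2 ^ 2) * X 0 ^ 3 * X 1 ^ 2 +
          C (s4 ^ 2) * X 0 ^ 3 + C (l0 ^ 2) * X 0 ^ 4 * X 1 ^ 3 + C (l2 ^ 2) * X 0 ^ 2 * X 1 ^ 3 +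
          C (l4 ^ 2) * X 1 ^ 3 + C (τ ^ 2) * X 0 ^ 3 * X 1 ^ 3 : MvPowerSeries (Fin 3) R)) =
        (X 2 ^ 2 + C (sig ^ 2) * X 0 ^ 3 + C (lam ^ 2) * X 1 ^ 3 : MvPowerSeries (Fin 3) R) := by
  classical
  have h2 : (2 : R) = 0 := CharTwo.two_eq_zero
  have h3 : IsUnit ((3 : ℕ) : R) := by
    have : ((3 : ℕ) : R) = 1 := by push_cast; linear_combination h2
    rw [this]; exact isUnit_one
  obtain ⟨ul4, rfl⟩ := hl4
  obtain ⟨us4, rfl⟩ := hs4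
  obtain ⟨ulam, rfl⟩ := hlam
  obtain ⟨usig, rfl⟩ := hsig
  obtain ⟨s4i, hs4i⟩ : ∃ x : R, x = ↑us4⁻¹ := ⟨_, rfl⟩
  have hs4s4i : (↑us4 : R) * s4i = 1 := by rw [hs4i]; simp
  obtain ⟨l4i, hl4i⟩ : ∃ x : R, x = ↑ul4⁻¹ := ⟨_, rfl⟩
  have hl4l4i : (↑ul4 : R) * l4i = 1 := by rw [hl4i]; simp
  obtain ⟨sigi, hsigi⟩ : ∃ x : R, x = ↑usig⁻¹ := ⟨_, rfl⟩
  have hsigsigi : (↑usig : R) * sigi = 1 := by rw [hsigi]; simp
  obtain ⟨lami, hlami⟩ : ∃ x : R, x = ↑ulam⁻¹ := ⟨_, rfl⟩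
  have hlamlami : (↑ulam : R) * lami = 1 := by rw [hlami]; simp
  obtain ⟨κ₁i, hκ₁i⟩ : ∃ x : R, x = κ₁ ^ 2 * (↑us4 : R) ^ 2 * sigi ^ 2 := ⟨_, rfl⟩
  have hκ₁ : κ₁ * κ₁i = 1 := by
    rw [hκ₁i]
    linear_combination (sigi ^ 2) * h₁ + ((↑usig : R) * sigi + 1) * hsigsigi
  obtain ⟨κ₂i, hκ₂i⟩ : ∃ x : R, x = κ₂ ^ 2 * (↑ul4 : R) ^ 2 * lami ^ 2 := ⟨_, rfl⟩
  have hκ₂ : κ₂ * κ₂i = 1 := by
    rw [hκ₂i]
    linear_combination (lami ^ 2) * h₂ + ((↑ulam : R) * lami + 1) * hlamlami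
  -- the two units
  obtain ⟨U, hU⟩ : ∃ U : MvPowerSeries (Fin 3) R, U = C ((↑us4 : R) ^ 2) + C (s2 ^ 2) * X 1 ^ 2 +
      C (τ ^ 2) * X 1 ^ 3 + C (s0 ^ 2) * X 1 ^ 4 := ⟨_, rfl⟩
  obtain ⟨V, hV⟩ : ∃ V : MvPowerSeries (Fin 3) R, V = C ((↑ul4 : R) ^ 2) + C (l2 ^ 2) * X 0 ^ 2 +
      C (l0 ^ 2) * X 0 ^ 4 := ⟨_, rfl⟩
  have hUc : constantCoeff U = (↑us4 : R) ^ 2 := by rw [hU]; simp
  have hVc : constantCoeff V = (↑ul4 : R) ^ 2 := by rw [hV]; simp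
  have hwU : constantCoeff (C (s4i ^ 2) * U) = 1 := by
    rw [map_mul, constantCoeff_C, hUc]
    linear_combination ((↑us4 : R) * s4i + 1) * hs4s4i
  have hwV : constantCoeff (C (l4i ^ 2) * V) = 1 := by
    rw [map_mul, constantCoeff_C, hVc]
    linear_combination ((↑ul4 : R) * l4i + 1) * hl4l4i
  obtain ⟨γU, hγU, hγUc⟩ := Groth.Agent.Lib.Helper14.FormalIFT.exists_pow_eq 3 (by norm_num) h3
    (C (s4i ^ 2) * U) hwU
  obtain ⟨γV, hγV, hγVc⟩ := Groth.Agent.Lib.Helper14.FormalIFT.exists_pow_eq 3 (by norm_num) h3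
    (C (l4i ^ 2) * V) hwV
  obtain ⟨A0, hA0⟩ : ∃ A0 : MvPowerSeries (Fin 3) R, A0 = C κ₁i * γU := ⟨_, rfl⟩
  obtain ⟨B0, hB0⟩ : ∃ B0 : MvPowerSeries (Fin 3) R, B0 = C κ₂i * γV := ⟨_, rfl⟩
  have hA0c : constantCoeff A0 = κ₁i := by rw [hA0, map_mul, constantCoeff_C, hγUc, mul_one]
  have hB0c : constantCoeff B0 = κ₂i := by rw [hB0, map_mul, constantCoeff_C, hγVc, mul_one]
  have hA : A0 ^ 3 * C ((↑usig : R) ^ 2) = U := by
    have hc : κ₁i ^ 3 * s4i ^ 2 * (↑usig : R) ^ 2 = 1 := by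
      linear_combination (-(κ₁i ^ 3 * s4i ^ 2)) * h₁ +
        ((κ₁ * κ₁i) ^ 2 + κ₁ * κ₁i + 1) * ((↑us4 : R) * s4i) ^ 2 * hκ₁ +
        ((↑us4 : R) * s4i + 1) * hs4s4i
    have hC : (C κ₁i : MvPowerSeries (Fin 3) R) ^ 3 * C (s4i ^ 2) * C ((↑usig : R) ^ 2) = 1 := by
      rw [← map_pow, ← map_mul, ← map_mul, hc, map_one]
    rw [hA0, mul_pow, hγU]
    calc (C κ₁i : MvPowerSeries (Fin 3) R) ^ 3 * (C (s4i ^ 2) * U) * C ((↑usig : R) ^ 2)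
        = ((C κ₁i : MvPowerSeries (Fin 3) R) ^ 3 * C (s4i ^ 2) * C ((↑usig : R) ^ 2)) * U := by ring
      _ = U := by rw [hC, one_mul]
  have hB : B0 ^ 3 * C ((↑ulam : R) ^ 2) = V := by
    have hc : κ₂i ^ 3 * l4i ^ 2 * (↑ulam : R) ^ 2 = 1 := by
      linear_combination (-(κ₂i ^ 3 * l4i ^ 2)) * h₂ +
        ((κ₂ * κ₂i) ^ 2 + κ₂ * κ₂i + 1) * ((↑ul4 : R) * l4i) ^ 2 * hκ₂ +
        ((↑ul4 : R) * l4i + 1) * hl4l4i
    have hC : (C κ₂i : MvPowerSeries (Fin 3) R) ^ 3 * C (l4i ^ 2) * C ((↑ulam : R) ^ 2) = 1 := by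
      rw [← map_pow, ← map_mul, ← map_mul, hc, map_one]
    rw [hB0, mul_pow, hγV]
    calc (C κ₂i : MvPowerSeries (Fin 3) R) ^ 3 * (C (l4i ^ 2) * V) * C ((↑ulam : R) ^ 2)
        = ((C κ₂i : MvPowerSeries (Fin 3) R) ^ 3 * C (l4i ^ 2) * C ((↑ulam : R) ^ 2)) * V := by ring
      _ = V := by rw [hC, one_mul]
  obtain ⟨J, hJdef⟩ : ∃ J : Matrix (Fin 3) (Fin 3) R,
      J = !![κ₁i, 0, 0; 0, κ₂i, 0; 0, 0, 1] := ⟨_, rfl⟩
  have ha : ∀ i, constantCoeff ((![X 0 * A0, X 1 * B0, X 2] :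
      Fin 3 → MvPowerSeries (Fin 3) R) i) = 0 := by
    intro i
    fin_cases i <;> simp
  have hJ0 : Groth.Agent.Lib.Helper14.FormalIFT.Fil 2
      ((![X 0 * A0, X 1 * B0, X 2] : Fin 3 → MvPowerSeries (Fin 3) R) 0 -
        Groth.Agent.Lib.Helper14.FormalIFT.linForm J 0) := by
    have : (![X 0 * A0, X 1 * B0, X 2] : Fin 3 → MvPowerSeries (Fin 3) R) 0 -
        Groth.Agent.Lib.Helper14.FormalIFT.linForm J 0 = X 0 * (A0 - C κ₁i) := by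
      simp [hJdef, Groth.Agent.Lib.Helper14.FormalIFT.linForm, Fin.sum_univ_three]
      ring
    rw [this]
    exact (Groth.Agent.Lib.Helper14.FormalIFT.fil_X 0).mul
      (Groth.Agent.Lib.Helper14.FormalIFT.fil_one_of_constantCoeff
        (by rw [map_sub, hA0c, constantCoeff_C, sub_self]))
  have hJ1 : Groth.Agent.Lib.Helper14.FormalIFT.Fil 2
      ((![X 0 * A0, X 1 * B0, X 2] : Fin 3 → MvPowerSeries (Fin 3) R) 1 -
        Groth.Agent.Lib.Helper14.FormalIFT.linForm J 1) := by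
    have : (![X 0 * A0, X 1 * B0, X 2] : Fin 3 → MvPowerSeries (Fin 3) R) 1 -
        Groth.Agent.Lib.Helper14.FormalIFT.linForm J 1 = X 1 * (B0 - C κ₂i) := by
      simp [hJdef, Groth.Agent.Lib.Helper14.FormalIFT.linForm, Fin.sum_univ_three]
      ring
    rw [this]
    exact (Groth.Agent.Lib.Helper14.FormalIFT.fil_X 1).mul
      (Groth.Agent.Lib.Helper14.FormalIFT.fil_one_of_constantCoeff
        (by rw [map_sub, hB0c, constantCoeff_C, sub_self]))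
  have hJ2 : Groth.Agent.Lib.Helper14.FormalIFT.Fil 2
      ((![X 0 * A0, X 1 * B0, X 2] : Fin 3 → MvPowerSeries (Fin 3) R) 2 -
        Groth.Agent.Lib.Helper14.FormalIFT.linForm J 2) := by
    have : (![X 0 * A0, X 1 * B0, X 2] : Fin 3 → MvPowerSeries (Fin 3) R) 2 -
        Groth.Agent.Lib.Helper14.FormalIFT.linForm J 2 = 0 := by
      simp [hJdef, Groth.Agent.Lib.Helper14.FormalIFT.linForm, Fin.sum_univ_three]
    rw [this]
    exact Groth.Agent.Lib.Helper14.FormalIFT.fil_zero_right _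
  have hJ : ∀ i, Groth.Agent.Lib.Helper14.FormalIFT.Fil 2
      ((![X 0 * A0, X 1 * B0, X 2] : Fin 3 → MvPowerSeries (Fin 3) R) i -
        Groth.Agent.Lib.Helper14.FormalIFT.linForm J i) := by
    intro i
    fin_cases i
    · exact hJ0
    · exact hJ1
    · exact hJ2
  have hdet : IsUnit J.det := by
    have : J.det = κ₁i * κ₂i := by
      rw [hJdef]; simp [Matrix.det_fin_three]
    rw [this]
    exact (IsUnit.of_mul_eq_one κ₁ (by rw [mul_comm]; exact hκ₁)).mul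
      (IsUnit.of_mul_eq_one κ₂ (by rw [mul_comm]; exact hκ₂))
  obtain ⟨ψ, hψ⟩ := Groth.Agent.Lib.Helper14.FormalIFT.exists_algEquiv_of_isLinPart
    (![X 0 * A0, X 1 * B0, X 2] : Fin 3 → MvPowerSeries (Fin 3) R) ha J hJ hdet
  have hψ0 : ψ (X 0) = X 0 * A0 := hψ 0
  have hψ1 : ψ (X 1) = X 1 * B0 := hψ 1
  have hψ2 : ψ (X 2) = X 2 := hψ 2
  have hψC : ∀ r : R, ψ (C r) = C r := by
    intro r
    rw [c_eq_algebraMap]
    exact ψ.commutes r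
  refine ⟨ψ.symm, ?_⟩
  rw [AlgEquiv.symm_apply_eq, map_add ψ, map_add ψ, map_mul ψ, map_mul ψ, map_pow ψ, map_pow ψ,
    map_pow ψ, hψC, hψC, hψ0, hψ1, hψ2]
  rw [hU] at hA
  rw [hV] at hB
  linear_combination (-(X 0 : MvPowerSeries (Fin 3) R) ^ 3) * hA +
    (-(X 1 : MvPowerSeries (Fin 3) R) ^ 3) * hB


end Groth.Agent.S13127
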