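import Groth.Statements.S13128
import Groth.Agent.Lib.Helper14.FormalIFT

set_option autoImplicit false
universe u
open KumFam

namespace Groth.Agent.S13128

open MvPowerSeries in
/-- Let R be a commutative ring of characteristic 2, l0, l2, l4, s0, s2, s4, τ ∈ R with τ a unit, and α,
β ∈ R with l4² α⁴ + l2² α² + τ² α + l0² = 0 and s4² β⁴ + s2² β² + τ² β + s0² = 0. In characteristic
2 these relations give τ² α = (l4 α² + l2 α + l0)² and τ² β = (s4 β² + s2 β + s0)², so α = α′² and β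
= β′² with α′ = (l4 α² + l2 α + l0)/τ and β′ = (s4 β² + s2 β + s0)/τ. In R[[a, b, c]] (a = X 0, b =
X 1, c = X 2) put h = c² + τ² a b + (s4² b⁴ + s2² b²) a + (l4² a⁴ + l2² a²) b + l4² β a⁴ + l2² β a²
+ s4² α b⁴ + s2² α b²; this is the chart equation c² + τ² a b + (s4² b⁴ + s2² b² + s0²) a + (l4² a⁴
+ l2² a² + l0²) b after the substitution a ↦ a + α, b ↦ b + β, c ↦ c + τ α′ β′, which moves the
point (α, β, τ α′ β′) of that surface, where all partial derivatives vanish, to the origin. Then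
some R-algebra automorphism of R[[a, b, c]] maps h to c² + a b; consequently R[[a, b, c]]/(h) ≅
R[[a, b, c]]/(c² + a b), the completed local ring of an ordinary double point, constant over R. (The
published statement translates only a and b, so that its h carries the additional constant term τ² α
β; with that term h is a unit of R[[a, b, c]] whenever τ α β is a unit, for instance c² + a b + 1
over the field with two elements with l0 = s0 = τ = α = β = 1 and l2 = l4 = s2 = s4 = 0, and no ring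
automorphism carries a unit to c² + a b. The published proof begins by shifting c by a polynomial in
a, b whose constant term is τ α′ β′, a substitution of the polynomial ring which removes the term τ²
α β, and the rest of its argument takes place in R[[a, b, c]]; this row states the result for the
fully translated equation, which is what that argument proves.) -/
theorem result (R : Type u) [CommRing R] [CharP R 2]
    (l0 l2 l4 s0 s2 s4 τ α β : R) (hτ : IsUnit τ)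
    (hα : l4 ^ 2 * α ^ 4 + l2 ^ 2 * α ^ 2 + τ ^ 2 * α + l0 ^ 2 = 0)
    (hβ : s4 ^ 2 * β ^ 4 + s2 ^ 2 * β ^ 2 + τ ^ 2 * β + s0 ^ 2 = 0) :
    ∃ φ : MvPowerSeries (Fin 3) R ≃ₐ[R] MvPowerSeries (Fin 3) R,
      φ ((X 2 ^ 2 + C (τ ^ 2) * X 0 * X 1 + (C (s4 ^ 2) * X 1 ^ 4 + C (s2 ^ 2) * X 1 ^ 2) * X 0 +
          (C (l4 ^ 2) * X 0 ^ 4 + C (l2 ^ 2) * X 0 ^ 2) * X 1 + C (l4 ^ 2 * β) * X 0 ^ 4 +
          C (l2 ^ 2 * β) * X 0 ^ 2 + C (s4 ^ 2 * α) * X 1 ^ 4 + C (s2 ^ 2 * α) * X 1 ^ 2 :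
          MvPowerSeries (Fin 3) R)) =
        (X 2 ^ 2 + X 0 * X 1 : MvPowerSeries (Fin 3) R) := by
  classical
  have h2 : (2 : R) = 0 := CharTwo.two_eq_zero
  obtain ⟨u, rfl⟩ := hτ
  obtain ⟨τ', hτ'⟩ : ∃ τ' : R, τ' = ↑u⁻¹ := ⟨_, rfl⟩
  have hττ' : (↑u : R) * τ' = 1 := by rw [hτ']; simp
  obtain ⟨α', hα'⟩ : ∃ α' : R, α' = (l4 * α ^ 2 + l2 * α + l0) * τ' := ⟨_, rfl⟩
  obtain ⟨β', hβ'⟩ : ∃ β' : R, β' = (s4 * β ^ 2 + s2 * β + s0) * τ' := ⟨_, rfl⟩
  have hα2 : α' ^ 2 = α := by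
    rw [hα']
    linear_combination (τ' ^ 2) * hα - α * (↑u * τ' + 1) * hττ' +
      ((l4 * l2 * α ^ 3 + l4 * l0 * α ^ 2 + l2 * l0 * α) * τ' ^ 2 - α) * h2
  have hβ2 : β' ^ 2 = β := by
    rw [hβ']
    linear_combination (τ' ^ 2) * hβ - β * (↑u * τ' + 1) * hττ' +
      ((s4 * s2 * β ^ 3 + s4 * s0 * β ^ 2 + s2 * s0 * β) * τ' ^ 2 - β) * h2
  have h2A : (2 : MvPowerSeries (Fin 3) R) = 0 := by
    have : (2 : MvPowerSeries (Fin 3) R) = C (2 : R) := (map_ofNat C 2).symm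
    rw [this, h2, map_zero]
  have sq_add : ∀ a b : MvPowerSeries (Fin 3) R, (a + b) ^ 2 = a ^ 2 + b ^ 2 := by
    intro a b; linear_combination (a * b) * h2A
  obtain ⟨W, hW⟩ : ∃ W : MvPowerSeries (Fin 3) R, W = C ((u : R) ^ 2) + C (s4 ^ 2) * X 1 ^ 3 +
      C (s2 ^ 2) * X 1 + C (l4 ^ 2) * X 0 ^ 3 + C (l2 ^ 2) * X 0 := ⟨_, rfl⟩
  obtain ⟨P, hP⟩ : ∃ P : MvPowerSeries (Fin 3) R, P = C (l4 * β') * X 0 ^ 2 + C (l2 * β') * X 0 +
      C (s4 * α') * X 1 ^ 2 + C (s2 * α') * X 1 := ⟨_, rfl⟩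
  obtain ⟨J, hJdef⟩ : ∃ J : Matrix (Fin 3) (Fin 3) R,
      J = !![(↑u : R) ^ 2, 0, 0; 0, 1, 0; l2 * β', s2 * α', 1] := ⟨_, rfl⟩
  have ha : ∀ i, constantCoeff ((![X 0 * W, X 1, X 2 + P] : Fin 3 → MvPowerSeries (Fin 3) R) i) = 0 := by
    intro i
    fin_cases i <;> simp [hP]
  have hJ0 : Groth.Agent.Lib.Helper14.FormalIFT.Fil 2
      ((![X 0 * W, X 1, X 2 + P] : Fin 3 → MvPowerSeries (Fin 3) R) 0 -
        Groth.Agent.Lib.Helper14.FormalIFT.linForm J 0) := by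
    have : (![X 0 * W, X 1, X 2 + P] : Fin 3 → MvPowerSeries (Fin 3) R) 0 -
        Groth.Agent.Lib.Helper14.FormalIFT.linForm J 0 = X 0 * (C (s4 ^ 2) * X 1 ^ 3 +
          C (s2 ^ 2) * X 1 + C (l4 ^ 2) * X 0 ^ 3 + C (l2 ^ 2) * X 0) := by
      simp [hJdef, Groth.Agent.Lib.Helper14.FormalIFT.linForm, Fin.sum_univ_three, hW]
      ring
    rw [this]
    exact (Groth.Agent.Lib.Helper14.FormalIFT.fil_X 0).mul
      (Groth.Agent.Lib.Helper14.FormalIFT.fil_one_of_constantCoeff (by simp))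
  have hJ1 : Groth.Agent.Lib.Helper14.FormalIFT.Fil 2
      ((![X 0 * W, X 1, X 2 + P] : Fin 3 → MvPowerSeries (Fin 3) R) 1 -
        Groth.Agent.Lib.Helper14.FormalIFT.linForm J 1) := by
    have : (![X 0 * W, X 1, X 2 + P] : Fin 3 → MvPowerSeries (Fin 3) R) 1 -
        Groth.Agent.Lib.Helper14.FormalIFT.linForm J 1 = 0 := by
      simp [hJdef, Groth.Agent.Lib.Helper14.FormalIFT.linForm, Fin.sum_univ_three]
    rw [this]
    exact Groth.Agent.Lib.Helper14.FormalIFT.fil_zero_right _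
  have hJ2 : Groth.Agent.Lib.Helper14.FormalIFT.Fil 2
      ((![X 0 * W, X 1, X 2 + P] : Fin 3 → MvPowerSeries (Fin 3) R) 2 -
        Groth.Agent.Lib.Helper14.FormalIFT.linForm J 2) := by
    have : (![X 0 * W, X 1, X 2 + P] : Fin 3 → MvPowerSeries (Fin 3) R) 2 -
        Groth.Agent.Lib.Helper14.FormalIFT.linForm J 2 =
          C (l4 * β') * (X 0 * X 0) + C (s4 * α') * (X 1 * X 1) := by
      simp [hJdef, Groth.Agent.Lib.Helper14.FormalIFT.linForm, Fin.sum_univ_three, hP]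
      ring
    rw [this]
    exact (((Groth.Agent.Lib.Helper14.FormalIFT.fil_X 0).mul
      (Groth.Agent.Lib.Helper14.FormalIFT.fil_X 0)).C_mul _).add
      (((Groth.Agent.Lib.Helper14.FormalIFT.fil_X 1).mul
      (Groth.Agent.Lib.Helper14.FormalIFT.fil_X 1)).C_mul _)
  have hJ : ∀ i, Groth.Agent.Lib.Helper14.FormalIFT.Fil 2
      ((![X 0 * W, X 1, X 2 + P] : Fin 3 → MvPowerSeries (Fin 3) R) i -
        Groth.Agent.Lib.Helper14.FormalIFT.linForm J i) := by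
    intro i
    fin_cases i
    · exact hJ0
    · exact hJ1
    · exact hJ2
  have hdet : IsUnit J.det := by
    have : J.det = (↑u : R) ^ 2 := by
      rw [hJdef]; simp [Matrix.det_fin_three]
    rw [this]
    exact u.isUnit.pow 2
  obtain ⟨ψ, hψ⟩ := Groth.Agent.Lib.Helper14.FormalIFT.exists_algEquiv_of_isLinPart
    (![X 0 * W, X 1, X 2 + P] : Fin 3 → MvPowerSeries (Fin 3) R) ha J hJ hdet
  have hψ0 : ψ (X 0) = X 0 * W := hψ 0
  have hψ1 : ψ (X 1) = X 1 := hψ 1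
  have hψ2 : ψ (X 2) = X 2 + P := hψ 2
  refine ⟨ψ.symm, ?_⟩
  rw [AlgEquiv.symm_apply_eq, map_add ψ, map_pow ψ, map_mul ψ, hψ0, hψ1, hψ2]
  have hsq : (X 2 + P) ^ 2 = X 2 ^ 2 + (C (l4 * β') * X 0 ^ 2) ^ 2 + (C (l2 * β') * X 0) ^ 2 +
      (C (s4 * α') * X 1 ^ 2) ^ 2 + (C (s2 * α') * X 1) ^ 2 := by
    rw [sq_add, hP, sq_add, sq_add, sq_add]; ring
  have hβC : (C β' : MvPowerSeries (Fin 3) R) ^ 2 = C β := by rw [← map_pow, hβ2]
  have hαC : (C α' : MvPowerSeries (Fin 3) R) ^ 2 = C α := by rw [← map_pow, hα2]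
  rw [hsq, hW]
  simp only [map_mul, map_pow]
  linear_combination (-(C l4 ^ 2 * X 0 ^ 4 + C l2 ^ 2 * X 0 ^ 2)) * hβC +
    (-(C s4 ^ 2 * X 1 ^ 4 + C s2 ^ 2 * X 1 ^ 2)) * hαC


end Groth.Agent.S13128
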