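-- Statement S13130.
import Groth.Statements.S13130
import Mathlib

set_option autoImplicit false
universe u v
open KumFam

namespace Groth.Agent.S13130

/-- Let R be a nontrivial commutative ring and M a commutative group, with group algebra R[M], the
coordinate ring of the diagonalizable group scheme D(M) over Spec R. Then D(M) is integral over Spec
R, i.e. R[M] is an integral R-algebra, if and only if M is a torsion group. (The published statement
is over an arbitrary base scheme; the question is local and this row is the affine form, with R
nontrivial so that the elements of M are R-linearly independent.) -/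
theorem result (R : Type u) [CommRing R] [Nontrivial R]
    (M : Type v) [CommGroup M] :
    Algebra.IsIntegral R (MonoidAlgebra R M) ↔ IsMulTorsion M := by
  classical
  constructor
  · intro hint m
    -- `of m` is integral
    obtain ⟨q, hq, hq0⟩ := hint.isIntegral (MonoidAlgebra.of R M m)
    rw [isOfFinOrder_iff_pow_eq_one]
    by_contra hno
    push_neg at hno
    -- powers of m are pairwise distinct
    have hinj : Function.Injective (fun i : ℕ => m ^ i) := by
      intro i j hij
      by_contra hne
      rcases Nat.lt_or_gt_of_ne hne with h | h
      · have : m ^ (j - i) = 1 := by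
          have h1 : m ^ i * m ^ (j - i) = m ^ i * 1 := by
            rw [← pow_add, Nat.add_sub_cancel' h.le, mul_one]; exact hij.symm
          exact mul_left_cancel h1
        exact hno (j - i) (Nat.sub_pos_of_lt h) this
      · have : m ^ (i - j) = 1 := by
          have h1 : m ^ j * m ^ (i - j) = m ^ j * 1 := by
            rw [← pow_add, Nat.add_sub_cancel' h.le, mul_one]; exact hij
          exact mul_left_cancel h1
        exact hno (i - j) (Nat.sub_pos_of_lt h) this
    -- evaluate the relation at the coefficient of m ^ natDegree
    rw [Polynomial.eval₂_eq_sum_range] at hq0
    have hterm : ∀ i : ℕ, (algebraMap R (MonoidAlgebra R M) (q.coeff i) *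
        (MonoidAlgebra.of R M m) ^ i) = MonoidAlgebra.single (m ^ i) (q.coeff i) := by
      intro i
      rw [← map_pow, MonoidAlgebra.single_eq_algebraMap_mul_of]
    simp only [hterm] at hq0
    have hcoef := congrArg (fun x : MonoidAlgebra R M => x.coeff (m ^ q.natDegree)) hq0
    simp only [MonoidAlgebra.coeff_sum, MonoidAlgebra.coeff_single, MonoidAlgebra.coeff_zero,
      Finsupp.coe_zero, Pi.zero_apply] at hcoef
    rw [Finsupp.finset_sum_apply, Finset.sum_eq_single q.natDegree] at hcoef
    · rw [Finsupp.single_apply, if_pos rfl, hq.coeff_natDegree] at hcoef
      exact one_ne_zero hcoef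
    · intro i _ hi
      rw [Finsupp.single_apply, if_neg]
      intro h
      exact hi (hinj h)
    · intro h
      exact (h (Finset.mem_range.mpr (Nat.lt_succ_self _))).elim
  · intro htor
    constructor
    intro x
    induction x using MonoidAlgebra.induction_on with
    | of m =>
      obtain ⟨n, hn, hmn⟩ := (isOfFinOrder_iff_pow_eq_one.mp (htor m))
      refine IsIntegral.of_pow hn ?_
      rw [← map_pow, hmn, map_one]
      exact isIntegral_one
    | add a b ha hb => exact ha.add hb
    | smul r a ha => exact ha.smul r

end Groth.Agent.S13130
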