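-- Statement S13131.
import Groth.Statements.S13131
import Mathlib

set_option autoImplicit false
universe u
open CategoryTheory CategoryTheory.Limits AlgebraicGeometry
open KumFam

namespace Groth.Agent.S13131

/-- Let S be a scheme, M a set and p : T → S a scheme over S. The S-morphisms T → ∐_{m ∈ M} S (the
constant S-scheme on M, with its structure map the codiagonal) are in bijection with the locally
constant maps T → M, a morphism f corresponding to the function sending t to the index of the copy
of S containing f(t). (In the published statement M is a group and ∐_M S the constant group scheme;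
the group structures play no role in this description of T-points.) -/
theorem result (S : Scheme.{u}) (M : Type u)
    (T : Scheme.{u}) (p : T ⟶ S) :
    ∃ e : {f : T ⟶ ∐ (fun _ : M => S) // f ≫ Sigma.desc (fun _ : M => 𝟙 S) = p} ≃
        LocallyConstant T M,
      ∀ (f : {f : T ⟶ ∐ (fun _ : M => S) // f ≫ Sigma.desc (fun _ : M => 𝟙 S) = p}) (t : T),
        e f t = ((sigmaMk (fun _ : M => S)).symm (f.1.base t)).1 := by
  classical
  let σ : (Σ _ : M, S) ≃ₜ ↑(∐ fun _ : M => S) := sigmaMk (fun _ : M => S)
  -- the index function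
  let idx : (T ⟶ ∐ (fun _ : M => S)) → T → M := fun f t => (σ.symm (f.base t)).1
  have hidx : ∀ f : T ⟶ ∐ (fun _ : M => S), IsLocallyConstant (idx f) := by
    intro f
    have h1 : IsLocallyConstant (Sigma.fst : (Σ _ : M, S) → M) := by
      intro s
      exact isOpen_sigma_fst_preimage s
    exact h1.comp_continuous (σ.symm.continuous.comp f.continuous)
  have hidx_spec : ∀ (f : T ⟶ ∐ (fun _ : M => S)) (t : T),
      ∃ s : S, f.base t = (Sigma.ι (fun _ : M => S) (idx f t)).base s := by
    intro f t
    refine ⟨(σ.symm (f.base t)).2, ?_⟩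
    have := sigmaMk_mk (fun _ : M => S) (idx f t) (σ.symm (f.base t)).2
    rw [← this]
    show f.base t = σ ⟨(σ.symm (f.base t)).1, (σ.symm (f.base t)).2⟩
    rw [Sigma.eta, Homeomorph.apply_symm_apply]
  have hidx_ι : ∀ (m : M) (s : S), σ.symm ((Sigma.ι (fun _ : M => S) m).base s) = ⟨m, s⟩ := by
    intro m s
    rw [← sigmaMk_mk (fun _ : M => S) m s]
    exact σ.symm_apply_apply _
  -- the open pieces attached to a locally constant function
  let U : LocallyConstant T M → M → T.Opens := fun g m =>
    ⟨g ⁻¹' {m}, g.isLocallyConstant.isOpen_fiber m⟩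
  have hcov : ∀ g : LocallyConstant T M, ⨆ m, ((U g m).ι).opensRange = ⊤ := by
    intro g
    rw [eq_top_iff]
    intro t _
    rw [TopologicalSpace.Opens.mem_iSup]
    refine ⟨g t, ?_⟩
    rw [Scheme.Opens.opensRange_ι]
    show g t ∈ ({g t} : Set M)
    rfl
  have hdisj : ∀ g : LocallyConstant T M,
      Pairwise (Function.onFun Disjoint fun m => ((U g m).ι).opensRange) := by
    intro g m m' hmm'
    show Disjoint ((U g m).ι).opensRange ((U g m').ι).opensRange
    rw [Scheme.Opens.opensRange_ι, Scheme.Opens.opensRange_ι, disjoint_iff]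
    ext t
    simp only [TopologicalSpace.Opens.coe_inf, Set.mem_inter_iff, SetLike.mem_coe,
      TopologicalSpace.Opens.coe_bot, Set.mem_empty_iff_false, iff_false]
    rintro ⟨h1, h2⟩
    have h1' : g t = m := h1
    have h2' : g t = m' := h2
    exact hmm' (h1'.symm.trans h2')
  let hc : ∀ g : LocallyConstant T M, IsColimit (Cofan.mk T (fun m => (U g m).ι)) := fun g =>
    (nonempty_isColimit_cofanMk_of (fun m => (U g m).ι) (hcov g) (hdisj g)).some
  let fg : LocallyConstant T M → (T ⟶ ∐ (fun _ : M => S)) := fun g =>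
    Cofan.IsColimit.desc (hc g) (fun m => (U g m).ι ≫ p ≫ Sigma.ι (fun _ : M => S) m)
  have hfg : ∀ (g : LocallyConstant T M) (m : M),
      (U g m).ι ≫ fg g = (U g m).ι ≫ p ≫ Sigma.ι (fun _ : M => S) m := fun g m =>
    Cofan.IsColimit.fac (hc g) _ m
  have hfg_p : ∀ g : LocallyConstant T M, fg g ≫ Sigma.desc (fun _ : M => 𝟙 S) = p := by
    intro g
    apply Cofan.IsColimit.hom_ext (hc g)
    intro m
    show (U g m).ι ≫ fg g ≫ Sigma.desc (fun _ : M => 𝟙 S) = (U g m).ι ≫ p
    rw [← Category.assoc, hfg, Category.assoc, Category.assoc, Sigma.ι_desc, Category.comp_id]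
  have hidx_fg : ∀ (g : LocallyConstant T M) (t : T), idx (fg g) t = g t := by
    intro g t
    have ht : t ∈ U g (g t) := rfl
    have h1 : (fg g).base t = ((U g (g t)).ι ≫ fg g).base ⟨t, ht⟩ := rfl
    show (σ.symm ((fg g).base t)).1 = g t
    rw [h1, hfg]
    have h2 : ((U g (g t)).ι ≫ p ≫ Sigma.ι (fun _ : M => S) (g t)).base ⟨t, ht⟩ =
        (Sigma.ι (fun _ : M => S) (g t)).base (p.base t) := rfl
    rw [h2, hidx_ι]
  refine ⟨{ toFun := fun f => ⟨idx f.1, hidx f.1⟩
            invFun := fun g => ⟨fg g, hfg_p g⟩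
            left_inv := ?_
            right_inv := ?_ }, ?_⟩
  · rintro ⟨f, hf⟩
    apply Subtype.ext
    show fg ⟨idx f, hidx f⟩ = f
    set g : LocallyConstant T M := ⟨idx f, hidx f⟩ with hg
    apply Cofan.IsColimit.hom_ext (hc g)
    intro m
    show (U g m).ι ≫ fg g = (U g m).ι ≫ f
    rw [hfg]
    have hrange : Set.range ((U g m).ι ≫ f).base ⊆
        Set.range (Sigma.ι (fun _ : M => S) m).base := by
      rintro _ ⟨x, rfl⟩
      obtain ⟨s, hs⟩ := hidx_spec f x.1
      have hx : idx f x.1 = m := x.2
      rw [hx] at hs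
      exact ⟨s, hs.symm⟩
    have hlift := IsOpenImmersion.lift_fac (Sigma.ι (fun _ : M => S) m) ((U g m).ι ≫ f) hrange
    have h3 : IsOpenImmersion.lift (Sigma.ι (fun _ : M => S) m) ((U g m).ι ≫ f) hrange =
        (U g m).ι ≫ p := by
      have h4 : IsOpenImmersion.lift (Sigma.ι (fun _ : M => S) m) ((U g m).ι ≫ f) hrange ≫
          (Sigma.ι (fun _ : M => S) m ≫ Sigma.desc (fun _ : M => 𝟙 S)) =
          ((U g m).ι ≫ f) ≫ Sigma.desc (fun _ : M => 𝟙 S) := by
        rw [← Category.assoc, hlift]
      rw [Sigma.ι_desc, Category.comp_id, Category.assoc, hf] at h4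
      exact h4
    rw [← hlift, h3, Category.assoc]
  · intro g
    apply LocallyConstant.ext
    intro t
    exact hidx_fg g t
  · intro f t
    rfl

end Groth.Agent.S13131
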