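import Groth.Statements.S13132
import Groth.Agent.Lib.Helper9.NilpFlat

set_option autoImplicit false
universe u v
open CAlg

namespace Groth.Agent.S13132


open Groth.Agent.Lib.Helper9

/-- Let A' be an Artinian local ring, I a proper ideal of A' and S' a flat A'-algebra. An element f' of
S' is a non-zero-divisor exactly when its image in S'/IS' is one; and when f' is a non-zero-divisor,
the quotient S'/(f') is flat over A'. (The published statement is for local Artinian algebras with a
fixed residue field over a ring of Witt vectors and a surjection between two of them; the argument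
uses only that A' is Artinian local and I is a proper ideal, which is the form taken here.) -/
theorem result
    {A' : Type u} [CommRing A'] [IsArtinianRing A'] [IsLocalRing A'] (I : Ideal A') (hI : I ≠ ⊤)
    {S' : Type v} [CommRing S'] [Algebra A' S'] [Module.Flat A' S'] (f' : S') :
    (f' ∈ nonZeroDivisors S' ↔
      Ideal.Quotient.mk (I.map (algebraMap A' S')) f' ∈ nonZeroDivisors (S' ⧸ I.map (algebraMap A' S'))) ∧
    (f' ∈ nonZeroDivisors S' → Module.Flat A' (S' ⧸ Ideal.span {f'})) := by
  have hnil : IsNilpotent (IsLocalRing.maximalIdeal A') := by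
    rw [← IsLocalRing.jacobson_eq_maximalIdeal ⊥ bot_ne_top]
    exact IsArtinianRing.isNilpotent_jacobson_bot
  let φ : S' →ₗ[A'] S' := LinearMap.mulLeft A' f'
  have hφ : ∀ x, φ x = f' * x := fun x => rfl
  obtain ⟨h1, h2⟩ := NilpFlat.lemmaS hnil I hI φ
  have hinj : f' ∈ nonZeroDivisors S' ↔ Function.Injective φ := by
    rw [mem_nonZeroDivisors_iff_left, injective_iff_map_eq_zero]
    exact Iff.rfl
  have hquot : Ideal.Quotient.mk (I.map (algebraMap A' S')) f' ∈
      nonZeroDivisors (S' ⧸ I.map (algebraMap A' S')) ↔
      ∀ x, φ x ∈ I • (⊤ : Submodule A' S') → x ∈ I • (⊤ : Submodule A' S') := by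
    rw [mem_nonZeroDivisors_iff_left]
    constructor
    · intro h x hx
      rw [Ideal.smul_top_eq_map, Submodule.restrictScalars_mem] at hx ⊢
      rw [hφ] at hx
      have := h (Ideal.Quotient.mk _ x) (by
        rw [← map_mul, Ideal.Quotient.eq_zero_iff_mem]; exact hx)
      exact Ideal.Quotient.eq_zero_iff_mem.mp this
    · intro h x hx
      obtain ⟨x, rfl⟩ := Ideal.Quotient.mk_surjective x
      rw [← map_mul, Ideal.Quotient.eq_zero_iff_mem] at hx
      rw [Ideal.Quotient.eq_zero_iff_mem]
      have := h x (by
        rw [Ideal.smul_top_eq_map, Submodule.restrictScalars_mem, hφ]; exact hx)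
      rwa [Ideal.smul_top_eq_map, Submodule.restrictScalars_mem] at this
  refine ⟨by rw [hinj, hquot]; exact h1, ?_⟩
  intro hf
  haveI := h2 (hinj.mp hf)
  have hrange : LinearMap.range φ = (Ideal.span {f'}).restrictScalars A' := by
    apply Submodule.ext
    intro x
    rw [LinearMap.mem_range, Submodule.restrictScalars_mem, Ideal.mem_span_singleton']
    constructor
    · rintro ⟨y, hy⟩
      exact ⟨y, by rw [mul_comm, ← hφ]; exact hy⟩
    · rintro ⟨y, hy⟩
      exact ⟨y, by rw [hφ, mul_comm]; exact hy⟩
  exact Module.Flat.of_linearEquiv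
    ((Submodule.quotEquivOfEq _ _ hrange).trans
      (Submodule.Quotient.restrictScalarsEquiv A' (Ideal.span {f'}))).symm

end Groth.Agent.S13132
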