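import Groth.Statements.S13134
import Groth.Agent.Lib.Helper9.NilpFlat

set_option autoImplicit false
universe u v
open CAlg

namespace Groth.Agent.S13134


open Groth.Agent.Lib.Helper9

/-- Let A' be an Artinian local ring, I a proper ideal, A = A'/I and f_1, …, f_m ∈ A[x_1, …, x_n]. Every
flat A'-algebra B' equipped with a surjection π onto A[x]/(f_1, …, f_m) with kernel I·B', compatible
with A' → A, is a quotient of A'[x_1, …, x_n] by the ideal generated by some lifts f'_1, …, f'_m of
the f_i, compatibly with π and with reduction of polynomials modulo I. (The published statement is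
for a surjection of local Artinian algebras with a fixed residue field over a ring of Witt vectors;
only the Artinian local base and the proper ideal are used, which is the form taken here.) -/
theorem result
    {A' : Type u} [CommRing A'] [IsArtinianRing A'] [IsLocalRing A'] (I : Ideal A') (hI : I ≠ ⊤)
    {n m : ℕ} (f : Fin m → MvPolynomial (Fin n) (A' ⧸ I))
    {B' : Type v} [CommRing B'] [Algebra A' B'] [Module.Flat A' B']
    (π : B' →+* MvPolynomial (Fin n) (A' ⧸ I) ⧸ Ideal.span (Set.range f))
    (hπ : Function.Surjective π) (hker : RingHom.ker π = I.map (algebraMap A' B'))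
    (hcomp : π.comp (algebraMap A' B') =
      ((Ideal.Quotient.mk (Ideal.span (Set.range f))).comp MvPolynomial.C).comp (Ideal.Quotient.mk I)) :
    ∃ (f' : Fin m → MvPolynomial (Fin n) A') (ψ : MvPolynomial (Fin n) A' →ₐ[A'] B'),
      (∀ i, MvPolynomial.map (Ideal.Quotient.mk I) (f' i) = f i) ∧
      Function.Surjective ψ ∧ RingHom.ker ψ.toRingHom = Ideal.span (Set.range f') ∧
      ∀ q, π (ψ q) = Ideal.Quotient.mk (Ideal.span (Set.range f)) (MvPolynomial.map (Ideal.Quotient.mk I) q) := by
  classical
  have hnil : IsNilpotent (IsLocalRing.maximalIdeal A') := by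
    rw [← IsLocalRing.jacobson_eq_maximalIdeal ⊥ bot_ne_top]
    exact IsArtinianRing.isNilpotent_jacobson_bot
  have hle : I ≤ IsLocalRing.maximalIdeal A' := IsLocalRing.le_maximalIdeal hI
  have hInil : IsNilpotent I := by
    obtain ⟨k, hk⟩ := hnil
    refine ⟨k, ?_⟩
    have h1 := Ideal.pow_right_mono hle k
    rw [hk] at h1
    exact le_bot_iff.mp h1
  -- Step 1
  have hX : ∀ j : Fin n, ∃ b : B',
      π b = Ideal.Quotient.mk (Ideal.span (Set.range f)) (MvPolynomial.X j) := fun j => hπ _
  choose b hb using hX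
  let ψ : MvPolynomial (Fin n) A' →ₐ[A'] B' := MvPolynomial.aeval b
  have hψC : ∀ a, ψ (MvPolynomial.C a) = algebraMap A' B' a := fun a => MvPolynomial.aeval_C b a
  have hψX : ∀ j, ψ (MvPolynomial.X j) = b j := fun j => MvPolynomial.aeval_X b j
  have hπψ : ∀ q, π (ψ q) = Ideal.Quotient.mk (Ideal.span (Set.range f))
      (MvPolynomial.map (Ideal.Quotient.mk I) q) := by
    have h : π.comp ψ.toRingHom = (Ideal.Quotient.mk (Ideal.span (Set.range f))).comp
        (MvPolynomial.map (Ideal.Quotient.mk I)) := by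
      apply MvPolynomial.ringHom_ext
      · intro a
        have h1 := RingHom.congr_fun hcomp a
        simp only [RingHom.comp_apply] at h1 ⊢
        rw [MvPolynomial.map_C]
        show π (ψ (MvPolynomial.C a)) = _
        rw [hψC]
        exact h1
      · intro j
        simp only [RingHom.comp_apply]
        rw [MvPolynomial.map_X]
        show π (ψ (MvPolynomial.X j)) = _
        rw [hψX]
        exact hb j
    intro q
    exact RingHom.congr_fun h q
  have hkerπ : ∀ x : B', π x = 0 ↔ x ∈ I • (⊤ : Submodule A' B') := by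
    intro x
    rw [← RingHom.mem_ker, hker, Ideal.smul_top_eq_map, Submodule.restrictScalars_mem]
  have hred_surj : Function.Surjective (MvPolynomial.map (Ideal.Quotient.mk I) :
      MvPolynomial (Fin n) A' → MvPolynomial (Fin n) (A' ⧸ I)) :=
    MvPolynomial.map_surjective _ Ideal.Quotient.mk_surjective
  -- Step 3
  have hψsurj : Function.Surjective ψ := by
    have hall : ∀ c : B' ⧸ LinearMap.range ψ.toLinearMap,
        c ∈ I • (⊤ : Submodule A' (B' ⧸ LinearMap.range ψ.toLinearMap)) := by
      intro c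
      obtain ⟨b0, rfl⟩ := Submodule.mkQ_surjective _ c
      obtain ⟨p0, hp0⟩ := Ideal.Quotient.mk_surjective (π b0)
      obtain ⟨q, rfl⟩ := hred_surj p0
      have h1 : b0 - ψ q ∈ I • (⊤ : Submodule A' B') := by
        rw [← hkerπ, map_sub, hπψ, hp0, sub_self]
      have h3 : (LinearMap.range ψ.toLinearMap).mkQ (ψ q) = 0 := by
        rw [Submodule.mkQ_apply, Submodule.Quotient.mk_eq_zero]
        exact ⟨q, rfl⟩
      have h2 : (LinearMap.range ψ.toLinearMap).mkQ b0 =
          (LinearMap.range ψ.toLinearMap).mkQ (b0 - ψ q) := by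
        rw [map_sub, h3, sub_zero]
      rw [h2]
      have h4 := Submodule.mem_map_of_mem (f := (LinearMap.range ψ.toLinearMap).mkQ) h1
      rw [Submodule.map_smul''] at h4
      exact Submodule.smul_mono le_rfl le_top h4
    have hz := NilpFlat.eq_zero_of_forall_mem_smul I hInil _ hall
    intro b0
    have := hz ((LinearMap.range ψ.toLinearMap).mkQ b0)
    rw [Submodule.mkQ_apply, Submodule.Quotient.mk_eq_zero] at this
    obtain ⟨q, hq⟩ := this
    exact ⟨q, hq⟩
  -- Step 4
  have hkerred : ∀ x : MvPolynomial (Fin n) A', MvPolynomial.map (Ideal.Quotient.mk I) x = 0 ↔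
      x ∈ I.map (MvPolynomial.C : A' →+* MvPolynomial (Fin n) A') := by
    intro x
    rw [← RingHom.mem_ker, MvPolynomial.ker_map, Ideal.mk_ker]
  have hmapψ : (I.map (MvPolynomial.C : A' →+* MvPolynomial (Fin n) A')).map ψ.toRingHom =
      I.map (algebraMap A' B') := by
    rw [Ideal.map_map]
    congr 1
    ext a
    exact hψC a
  have hf'ex : ∀ i, ∃ fi : MvPolynomial (Fin n) A',
      MvPolynomial.map (Ideal.Quotient.mk I) fi = f i ∧ ψ fi = 0 := by
    intro i
    obtain ⟨g, hg⟩ := hred_surj (f i)
    have h1 : ψ g ∈ I.map (algebraMap A' B') := by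
      rw [← hker, RingHom.mem_ker, hπψ, hg, Ideal.Quotient.eq_zero_iff_mem]
      exact Ideal.subset_span ⟨i, rfl⟩
    rw [← hmapψ, Ideal.mem_map_iff_of_surjective ψ.toRingHom hψsurj] at h1
    obtain ⟨h, hh, hhg⟩ := h1
    refine ⟨g - h, ?_, ?_⟩
    · rw [map_sub, hg, (hkerred h).mpr hh, sub_zero]
    · rw [map_sub, sub_eq_zero]
      exact hhg.symm
  choose f' hf'1 hf'2 using hf'ex
  have hspanle : Ideal.span (Set.range f') ≤ RingHom.ker ψ.toRingHom := by
    rw [Ideal.span_le]
    rintro _ ⟨i, rfl⟩
    show f' i ∈ RingHom.ker ψ.toRingHom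
    rw [RingHom.mem_ker]
    exact hf'2 i
  refine ⟨f', ψ, hf'1, hψsurj, ?_, hπψ⟩
  apply le_antisymm _ hspanle
  -- ker ⊆ span
  have hK'le : (Ideal.span (Set.range f')).restrictScalars A' ≤ LinearMap.ker ψ.toLinearMap := by
    intro x hx
    rw [Submodule.restrictScalars_mem] at hx
    rw [LinearMap.mem_ker]
    have h0 := hspanle hx
    rw [RingHom.mem_ker] at h0
    exact h0
  let ψbar : (MvPolynomial (Fin n) A' ⧸ (Ideal.span (Set.range f')).restrictScalars A') →ₗ[A'] B' :=
    Submodule.liftQ _ ψ.toLinearMap hK'le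
  have hψbar : ∀ q, ψbar (Submodule.Quotient.mk q) = ψ q := fun q => rfl
  have hψbar_surj : Function.Surjective ψbar := by
    intro b0
    obtain ⟨q, hq⟩ := hψsurj b0
    exact ⟨Submodule.Quotient.mk q, by rw [hψbar]; exact hq⟩
  have hmapK : (Ideal.span (Set.range f')).map (MvPolynomial.map (Ideal.Quotient.mk I)) =
      Ideal.span (Set.range f) := by
    rw [Ideal.map_span]
    congr 1
    ext y
    constructor
    · rintro ⟨_, ⟨i, rfl⟩, rfl⟩
      exact ⟨i, (hf'1 i).symm⟩
    · rintro ⟨i, rfl⟩
      exact ⟨f' i, ⟨i, rfl⟩, hf'1 i⟩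
  have hu : ∀ x, ψbar x ∈ I • (⊤ : Submodule A' B') →
      x ∈ I • (⊤ : Submodule A'
        (MvPolynomial (Fin n) A' ⧸ (Ideal.span (Set.range f')).restrictScalars A')) := by
    intro x hx
    obtain ⟨q, rfl⟩ := Submodule.mkQ_surjective _ x
    rw [Submodule.mkQ_apply, hψbar] at hx
    have h1 : π (ψ q) = 0 := (hkerπ _).mpr hx
    rw [hπψ, Ideal.Quotient.eq_zero_iff_mem, ← hmapK,
      Ideal.mem_map_iff_of_surjective _ hred_surj] at h1
    obtain ⟨k, hk, hkq⟩ := h1
    have h2 : q - k ∈ I • (⊤ : Submodule A' (MvPolynomial (Fin n) A')) := by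
      rw [Ideal.smul_top_eq_map, Submodule.restrictScalars_mem, MvPolynomial.algebraMap_eq,
        ← hkerred, map_sub, hkq, sub_self]
    have h5 : ((Ideal.span (Set.range f')).restrictScalars A').mkQ k = 0 := by
      rw [Submodule.mkQ_apply, Submodule.Quotient.mk_eq_zero]
      exact hk
    have h3 : ((Ideal.span (Set.range f')).restrictScalars A').mkQ q =
        ((Ideal.span (Set.range f')).restrictScalars A').mkQ (q - k) := by
      rw [map_sub, h5, sub_zero]
    rw [h3]
    have h4 := Submodule.mem_map_of_mem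
      (f := ((Ideal.span (Set.range f')).restrictScalars A').mkQ) h2
    rw [Submodule.map_smul''] at h4
    exact Submodule.smul_mono le_rfl le_top h4
  have hinj := NilpFlat.injective_of_surjective_of_flat I hInil ψbar hψbar_surj hu
  intro q hq
  have h1 : ψbar (Submodule.Quotient.mk q) = ψbar 0 := by
    rw [hψbar, map_zero]
    rw [RingHom.mem_ker] at hq
    exact hq
  have h2 := hinj h1
  rw [Submodule.Quotient.mk_eq_zero] at h2
  exact h2

end Groth.Agent.S13134
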