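import Groth.Statements.S13135
import Groth.Agent.Lib.Helper9.NilpFlat

set_option autoImplicit false
universe u
open CAlg

namespace Groth.Agent.S13135


open Groth.Agent.Lib.Helper9 RingTheory.Sequence

/-- Let A' be an Artinian local ring, I a proper ideal, A = A'/I and f_1, …, f_m a regular sequence in
A[x_1, …, x_n]. For every choice of lifts f'_1, …, f'_m in A'[x_1, …, x_n] the quotient A'[x]/(f'_1,
…, f'_m) is flat over A' (so it is a flat lifting of A[x]/(f_1, …, f_m)). (The published statement
is for a surjection of local Artinian algebras with a fixed residue field over a ring of Witt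
vectors; only the Artinian local base and the proper ideal are used, which is the form taken here.) -/
theorem result
    {A' : Type u} [CommRing A'] [IsArtinianRing A'] [IsLocalRing A'] (I : Ideal A') (hI : I ≠ ⊤)
    {n m : ℕ} (f : Fin m → MvPolynomial (Fin n) (A' ⧸ I))
    (hreg : RingTheory.Sequence.IsRegular (MvPolynomial (Fin n) (A' ⧸ I)) (List.ofFn f))
    (f' : Fin m → MvPolynomial (Fin n) A') (hf' : ∀ i, MvPolynomial.map (Ideal.Quotient.mk I) (f' i) = f i) :
    Module.Flat A' (MvPolynomial (Fin n) A' ⧸ Ideal.span (Set.range f')) := by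
  have hnil : IsNilpotent (IsLocalRing.maximalIdeal A') := by
    rw [← IsLocalRing.jacobson_eq_maximalIdeal ⊥ bot_ne_top]
    exact IsArtinianRing.isNilpotent_jacobson_bot
  letI : Algebra (MvPolynomial (Fin n) A') (MvPolynomial (Fin n) (A' ⧸ I)) :=
    (MvPolynomial.map (Ideal.Quotient.mk I)).toAlgebra
  have halg : ∀ x, algebraMap (MvPolynomial (Fin n) A') (MvPolynomial (Fin n) (A' ⧸ I)) x =
      MvPolynomial.map (Ideal.Quotient.mk I) x := fun x => rfl
  obtain ⟨hR1, hR2⟩ := NilpFlat.weaklyRegular_iff_and_flat hnil I hI (List.ofFn f')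
    (MvPolynomial (Fin n) A')
  have hlist : List.ofFn f = (List.ofFn f').map
      (algebraMap (MvPolynomial (Fin n) A') (MvPolynomial (Fin n) (A' ⧸ I))) := by
    rw [List.map_ofFn]
    congr 1
    funext i
    exact (hf' i).symm
  have hW : IsWeaklyRegular (MvPolynomial (Fin n) (A' ⧸ I)) (List.ofFn f') := by
    rw [← isWeaklyRegular_map_algebraMap_iff (MvPolynomial (Fin n) (A' ⧸ I))
      (MvPolynomial (Fin n) (A' ⧸ I)) (List.ofFn f'), ← hlist]
    exact hreg.toIsWeaklyRegular
  have hsurj : Function.Surjective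
      (Algebra.linearMap (MvPolynomial (Fin n) A') (MvPolynomial (Fin n) (A' ⧸ I))) :=
    MvPolynomial.map_surjective _ Ideal.Quotient.mk_surjective
  have hker : LinearMap.ker
      (Algebra.linearMap (MvPolynomial (Fin n) A') (MvPolynomial (Fin n) (A' ⧸ I))) =
      (I.map (algebraMap A' (MvPolynomial (Fin n) A'))) •
        (⊤ : Submodule (MvPolynomial (Fin n) A') (MvPolynomial (Fin n) A')) := by
    rw [Ideal.smul_eq_mul, Ideal.mul_top]
    apply Submodule.ext
    intro x
    rw [LinearMap.mem_ker, Algebra.linearMap_apply, halg, ← RingHom.mem_ker, MvPolynomial.ker_map,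
      Ideal.mk_ker, MvPolynomial.algebraMap_eq]
  let e := (Submodule.quotEquivOfEq _ _ hker.symm) ≪≫ₗ
    (Algebra.linearMap (MvPolynomial (Fin n) A')
      (MvPolynomial (Fin n) (A' ⧸ I))).quotKerEquivOfSurjective hsurj
  have hW' := (e.isWeaklyRegular_congr (List.ofFn f')).mpr hW
  have hW'' : IsWeaklyRegular (MvPolynomial (Fin n) A') (List.ofFn f') := hR1.mpr hW'
  haveI := hR2 hW''
  have hJ : Ideal.ofList (List.ofFn f') •
      (⊤ : Submodule (MvPolynomial (Fin n) A') (MvPolynomial (Fin n) A')) =
      Ideal.span (Set.range f') := by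
    rw [Ideal.smul_eq_mul, Ideal.mul_top]
    unfold Ideal.ofList
    congr 1
    ext x
    simp [List.mem_ofFn]
  exact Module.Flat.of_linearEquiv ((Submodule.quotEquivOfEq _ _ hJ).restrictScalars A').symm

end Groth.Agent.S13135
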