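import Groth.Statements.S13137
import Groth.Agent.Lib.Helper20.W2

set_option autoImplicit false
universe u v
open FrobAlg

namespace Groth.Agent.S13137

open Groth.Agent.Lib.Helper20

/-- For a perfect field k of characteristic p, a flat W₂(k)-algebra B and an ideal J of B, the quotient
B/J is flat over W₂(k) if and only if (p) ∩ J = pJ in B. (With B a flat lifting of A = B/pB this
says: B/J is a flat lifting of A modulo the image of J exactly when (p) ∩ J = pJ.) -/
theorem result
    (p : ℕ) [Fact p.Prime] (k : Type u) [Field k] [CharP k p] [PerfectRing k p]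
    (B : Type v) [CommRing B] [Algebra (FrobAlg.W2 p k) B] [Module.Flat (FrobAlg.W2 p k) B]
    (J : Ideal B) :
    Module.Flat (FrobAlg.W2 p k) (B ⧸ J) ↔
      Ideal.span {(p : B)} ⊓ J = Ideal.span {(p : B)} * J := by
  rw [flat_iff p k (B ⧸ J)]
  have hBflat := (flat_iff p k B).mp inferInstance
  have hsmulB : ∀ b : B, (p : W2 p k) • b = (p : B) * b := by
    intro b
    rw [Algebra.smul_def, map_natCast]
  have hsmul : ∀ b : B, (p : W2 p k) • (Ideal.Quotient.mk J b) = Ideal.Quotient.mk J ((p : B) * b) := by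
    intro b
    rw [← hsmulB]
    rfl
  have hpp : (p : B) * (p : B) = 0 := by
    have := congrArg (algebraMap (W2 p k) B) (p_mul_p p k)
    simpa using this
  constructor
  · intro h
    apply le_antisymm
    · rintro x ⟨hx1, hx2⟩
      obtain ⟨b, rfl⟩ := Ideal.mem_span_singleton.mp hx1
      have h0 : (p : W2 p k) • (Ideal.Quotient.mk J b) = 0 := by
        rw [hsmul]
        exact Ideal.Quotient.eq_zero_iff_mem.mpr hx2
      obtain ⟨m', hm'⟩ := h _ h0
      obtain ⟨b', rfl⟩ := Ideal.Quotient.mk_surjective m'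
      rw [hsmul, Ideal.Quotient.eq] at hm'
      have : (p : B) * b = (p : B) * (b - (p : B) * b') := by
        rw [mul_sub, ← mul_assoc, hpp, zero_mul, sub_zero]
      rw [this]
      exact Ideal.mul_mem_mul (Ideal.subset_span rfl) hm'
    · exact Ideal.mul_le_inf
  · intro h m hm
    obtain ⟨b, rfl⟩ := Ideal.Quotient.mk_surjective m
    rw [hsmul, Ideal.Quotient.eq_zero_iff_mem] at hm
    have hmem : (p : B) * b ∈ Ideal.span {(p : B)} ⊓ J :=
      ⟨Ideal.mem_span_singleton.mpr ⟨b, rfl⟩, hm⟩
    rw [h, Ideal.mem_span_singleton_mul] at hmem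
    obtain ⟨j, hj, hjb⟩ := hmem
    have h0 : (p : W2 p k) • (b - j) = 0 := by
      rw [hsmulB, mul_sub, hjb, sub_self]
    obtain ⟨b', hb'⟩ := hBflat _ h0
    refine ⟨Ideal.Quotient.mk J b', ?_⟩
    rw [hsmul, Ideal.Quotient.eq]
    have : b - (p : B) * b' = j := by
      rw [hsmulB] at hb'
      rw [← hb']
      ring
    rw [this]
    exact hj

end Groth.Agent.S13137
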