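import Groth.Statements.S13138
import Groth.Agent.Lib.Helper20.PolyFrob

set_option autoImplicit false
universe u
open scoped BigOperators
open FrobAlg

namespace Groth.Agent.S13138

open Groth.Agent.Lib.Helper20

/-- Flatness of `R'/J'` over `W₂(k)` gives `(p) ∩ J' ≤ p J'`. -/
theorem inf_le_mul_of_flat
    (p : ℕ) [Fact p.Prime] (k : Type u) [Field k] [CharP k p] [PerfectRing k p]
    {n : ℕ} (J' : Ideal (MvPolynomial (Fin n) (FrobAlg.W2 p k)))
    (hflat : ((Ideal.Quotient.mk J').comp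
      (MvPolynomial.C : FrobAlg.W2 p k →+* MvPolynomial (Fin n) (FrobAlg.W2 p k))).Flat) :
    Ideal.span {(p : MvPolynomial (Fin n) (FrobAlg.W2 p k))} ⊓ J' ≤
      Ideal.span {(p : MvPolynomial (Fin n) (FrobAlg.W2 p k))} * J' := by
  have hfl := (flat_ringHom_iff _).mp hflat
  rintro x ⟨hx1, hx2⟩
  obtain ⟨b, rfl⟩ := Ideal.mem_span_singleton.mp hx1
  have h0 : (p : MvPolynomial (Fin n) (W2 p k) ⧸ J') * (Ideal.Quotient.mk J' b) = 0 := by
    rw [← map_natCast (Ideal.Quotient.mk J'), ← map_mul]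
    exact Ideal.Quotient.eq_zero_iff_mem.mpr hx2
  obtain ⟨m', hm'⟩ := hfl _ h0
  obtain ⟨b', rfl⟩ := Ideal.Quotient.mk_surjective m'
  rw [← map_natCast (Ideal.Quotient.mk J'), ← map_mul, Ideal.Quotient.eq] at hm'
  have : (p : MvPolynomial (Fin n) (W2 p k)) * b =
      (p : MvPolynomial (Fin n) (W2 p k)) * (b - (p : MvPolynomial (Fin n) (W2 p k)) * b') := by
    rw [mul_sub, ← mul_assoc, mvPoly_p_mul_p, zero_mul, sub_zero]
  rw [this]
  exact Ideal.mul_mem_mul (Ideal.subset_span rfl) hm'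

/-- Reduction of coefficients modulo `p`. -/
noncomputable abbrev rho (p : ℕ) [Fact p.Prime] (k : Type u) [CommRing k] (n : ℕ) :
    MvPolynomial (Fin n) (FrobAlg.W2 p k) →+* MvPolynomial (Fin n) k :=
  MvPolynomial.map (FrobAlg.res p k)

theorem aux
    (p : ℕ) [Fact p.Prime] (k : Type u) [Field k] [CharP k p] [PerfectRing k p]
    {n m : ℕ} (f' : Fin m → MvPolynomial (Fin n) (FrobAlg.W2 p k))
    (J' : Ideal (MvPolynomial (Fin n) (FrobAlg.W2 p k))) (hJ' : J' = Ideal.span (Set.range f'))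
    (hflat : ((Ideal.Quotient.mk J').comp
      (MvPolynomial.C : FrobAlg.W2 p k →+* MvPolynomial (Fin n) (FrobAlg.W2 p k))).Flat) :
    (∃ Φ : (MvPolynomial (Fin n) (FrobAlg.W2 p k) ⧸ J') →+*
        (MvPolynomial (Fin n) (FrobAlg.W2 p k) ⧸ J'),
      Φ.comp ((Ideal.Quotient.mk J').comp MvPolynomial.C) =
        ((Ideal.Quotient.mk J').comp MvPolynomial.C).comp (FrobAlg.sigma p k) ∧
      ∀ b, Ideal.quotientMap (J'.map (MvPolynomial.map (FrobAlg.res p k)))
          (MvPolynomial.map (FrobAlg.res p k)) Ideal.le_comap_map (Φ b) =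
        (Ideal.quotientMap (J'.map (MvPolynomial.map (FrobAlg.res p k)))
          (MvPolynomial.map (FrobAlg.res p k)) Ideal.le_comap_map b) ^ p) ↔
    ∃ h : Fin n → MvPolynomial (Fin n) (FrobAlg.W2 p k), ∀ i,
      FrobAlg.polyFrob p k (Fin n) (f' i) - f' i ^ p
        - (p : MvPolynomial (Fin n) (FrobAlg.W2 p k)) * ∑ j, MvPolynomial.pderiv j (f' i) ^ p * h j
        ∈ Ideal.span {(p : MvPolynomial (Fin n) (FrobAlg.W2 p k))} * J' := by
  have hp : p.Prime := Fact.out
  have hρsurj : Function.Surjective (rho p k n) := by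
    apply MvPolynomial.map_surjective
    intro a
    exact ⟨mk2 p k a 0, by rw [res_apply, mk2_coeff_zero]⟩
  have hkerρ : ∀ g, rho p k n g = 0 ↔ g ∈ Ideal.span {(p : MvPolynomial (Fin n) (W2 p k))} := by
    intro g
    rw [← ker_map_res, RingHom.mem_ker]
  have hfJ : ∀ i, f' i ∈ J' := fun i => by rw [hJ']; exact Ideal.subset_span ⟨i, rfl⟩
  -- the value of `frobWith h` on `f' i`
  have hEi : ∀ (h : Fin n → MvPolynomial (Fin n) (W2 p k)) (i : Fin m),
      polyFrob p k (Fin n) (f' i) - f' i ^ p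
        - (p : MvPolynomial (Fin n) (W2 p k)) * ∑ j, MvPolynomial.pderiv j (f' i) ^ p * h j =
      frobWith p k (Fin n) h (f' i) - f' i ^ p := by
    intro h i
    rw [frobWith_apply]
    ring
  have hρfrob : ∀ (h : Fin n → MvPolynomial (Fin n) (W2 p k)) (g : MvPolynomial (Fin n) (W2 p k)),
      (rho p k n) (frobWith p k (Fin n) h g) = (rho p k n) (g ^ p) := by
    intro h g
    rw [← sub_eq_zero, ← map_sub, hkerρ, frobWith_apply]
    have : polyFrob p k (Fin n) g -
        (p : MvPolynomial (Fin n) (W2 p k)) * ∑ j, MvPolynomial.pderiv j g ^ p * h j - g ^ p =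
        (polyFrob p k (Fin n) g - g ^ p) -
          (p : MvPolynomial (Fin n) (W2 p k)) * ∑ j, MvPolynomial.pderiv j g ^ p * h j := by ring
    rw [this]
    exact Ideal.sub_mem _ (polyFrob_sub_pow_mem p k (Fin n) g)
      (Ideal.mem_span_singleton.mpr ⟨_, rfl⟩)
  constructor
  · rintro ⟨Φ, hΦ1, hΦ2⟩
    have hΦ1' : ∀ w, Φ (Ideal.Quotient.mk J' (MvPolynomial.C w)) =
        Ideal.Quotient.mk J' (MvPolynomial.C (sigma p k w)) := fun w => RingHom.congr_fun hΦ1 w
    -- lift the images of the variables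
    have hex : ∀ j : Fin n, ∃ h : MvPolynomial (Fin n) (W2 p k),
        Ideal.Quotient.mk J' (MvPolynomial.X j ^ p - (p : MvPolynomial (Fin n) (W2 p k)) * h) =
          Φ (Ideal.Quotient.mk J' (MvPolynomial.X j)) := by
      intro j
      obtain ⟨g, hg⟩ := Ideal.Quotient.mk_surjective (Φ (Ideal.Quotient.mk J' (MvPolynomial.X j)))
      have h2 := hΦ2 (Ideal.Quotient.mk J' (MvPolynomial.X j))
      rw [← hg, Ideal.quotientMap_mk, Ideal.quotientMap_mk, ← map_pow, ← map_pow, Ideal.Quotient.eq,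
        Ideal.mem_map_iff_of_surjective (rho p k n) hρsurj] at h2
      obtain ⟨a, haJ, ha⟩ := h2
      have h3 : (rho p k n) (g - MvPolynomial.X j ^ p - a) = 0 := by
        rw [map_sub, map_sub, ha, sub_self]
      rw [hkerρ] at h3
      obtain ⟨u, hu⟩ := Ideal.mem_span_singleton.mp h3
      refine ⟨-u, ?_⟩
      rw [← hg, Ideal.Quotient.eq]
      have : MvPolynomial.X j ^ p - (p : MvPolynomial (Fin n) (W2 p k)) * -u - g = -a := by
        rw [mul_neg, sub_neg_eq_add, ← hu]
        ring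
      rw [this]
      exact J'.neg_mem haJ
    choose h hh using hex
    refine ⟨h, fun i => ?_⟩
    have hcomm : (Ideal.Quotient.mk J').comp (frobWith p k (Fin n) h) =
        Φ.comp (Ideal.Quotient.mk J') := by
      apply MvPolynomial.ringHom_ext
      · intro w
        rw [RingHom.comp_apply, RingHom.comp_apply, frobWith_C, hΦ1']
      · intro j
        rw [RingHom.comp_apply, RingHom.comp_apply, frobWith_X, hh j]
    have hmem : frobWith p k (Fin n) h (f' i) ∈ J' := by
      rw [← Ideal.Quotient.eq_zero_iff_mem, ← RingHom.comp_apply, hcomm, RingHom.comp_apply,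
        Ideal.Quotient.eq_zero_iff_mem.mpr (hfJ i), map_zero]
    rw [hEi h i]
    apply inf_le_mul_of_flat p k J' hflat
    refine ⟨(hkerρ _).mp ?_, J'.sub_mem hmem (Ideal.pow_mem_of_mem J' (hfJ i) p hp.pos)⟩
    rw [map_sub, hρfrob, sub_self]
  · rintro ⟨h, hcond⟩
    have hle : J' ≤ J'.comap (frobWith p k (Fin n) h) := by
      conv_lhs => rw [hJ']
      rw [Ideal.span_le]
      rintro _ ⟨i, rfl⟩
      show frobWith p k (Fin n) h (f' i) ∈ J'
      have h1 := hcond i
      rw [hEi h i] at h1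
      have h2 : frobWith p k (Fin n) h (f' i) - f' i ^ p ∈ J' :=
        (Ideal.mul_le_right : Ideal.span {(p : MvPolynomial (Fin n) (W2 p k))} * J' ≤ J') h1
      have h3 := J'.add_mem h2 (Ideal.pow_mem_of_mem J' (hfJ i) p hp.pos)
      rwa [sub_add_cancel] at h3
    refine ⟨Ideal.quotientMap J' (frobWith p k (Fin n) h) hle, ?_, ?_⟩
    · ext w
      rw [RingHom.comp_apply, RingHom.comp_apply, RingHom.comp_apply, RingHom.comp_apply,
        Ideal.quotientMap_mk, frobWith_C]
    · intro b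
      obtain ⟨g, rfl⟩ := Ideal.Quotient.mk_surjective b
      rw [Ideal.quotientMap_mk, Ideal.quotientMap_mk, Ideal.quotientMap_mk, ← map_pow, hρfrob,
        map_pow]


/-- Let k be a perfect field of characteristic p, R' = W₂(k)[x_1, …, x_n], f'_1, …, f'_m ∈ R' with
reductions f_1, …, f_m ∈ R = k[x_1, …, x_n], J' = (f'_1, …, f'_m), J = (f_1, …, f_m), and assume B'
= R'/J' is flat over W₂(k), so that it is a flat lifting of B = R/J. The Frobenius of B lifts to B'
— there is a ring endomorphism of B' semilinear for the Witt-vector Frobenius σ₂ of W₂(k) and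
reducing to the p-th power map of B — if and only if there are h_1, …, h_n ∈ R' with F'(f'_i) −
f'_i^p − p·Σ_j (∂f'_i/∂x_j)^p h_j ∈ pJ' for every i, where F' is the standard Frobenius lift of R'
(σ₂ on coefficients, x_j ↦ x_j^p). Since multiplication by p identifies R with pR', this is the
congruence P(f'_i) ≡ Σ_j (∂f_i/∂x_j)^p h_j modulo J for the Frobenius residues P(f'_i) = (F'(f'_i) −
f'_i^p)/p. -/
theorem result
    (p : ℕ) [Fact p.Prime] (k : Type u) [Field k] [CharP k p] [PerfectRing k p]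
    {n m : ℕ} (f' : Fin m → MvPolynomial (Fin n) (FrobAlg.W2 p k))
    (hflat : ((Ideal.Quotient.mk (Ideal.span (Set.range f'))).comp
      (MvPolynomial.C : FrobAlg.W2 p k →+* MvPolynomial (Fin n) (FrobAlg.W2 p k))).Flat) :
    (∃ Φ : (MvPolynomial (Fin n) (FrobAlg.W2 p k) ⧸ Ideal.span (Set.range f')) →+*
        (MvPolynomial (Fin n) (FrobAlg.W2 p k) ⧸ Ideal.span (Set.range f')),
      Φ.comp ((Ideal.Quotient.mk (Ideal.span (Set.range f'))).comp MvPolynomial.C) =
        ((Ideal.Quotient.mk (Ideal.span (Set.range f'))).comp MvPolynomial.C).comp (FrobAlg.sigma p k) ∧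
      ∀ b, Ideal.quotientMap ((Ideal.span (Set.range f')).map (MvPolynomial.map (FrobAlg.res p k)))
          (MvPolynomial.map (FrobAlg.res p k)) Ideal.le_comap_map (Φ b) =
        (Ideal.quotientMap ((Ideal.span (Set.range f')).map (MvPolynomial.map (FrobAlg.res p k)))
          (MvPolynomial.map (FrobAlg.res p k)) Ideal.le_comap_map b) ^ p) ↔
    ∃ h : Fin n → MvPolynomial (Fin n) (FrobAlg.W2 p k), ∀ i,
      FrobAlg.polyFrob p k (Fin n) (f' i) - f' i ^ p
        - (p : MvPolynomial (Fin n) (FrobAlg.W2 p k)) * ∑ j, MvPolynomial.pderiv j (f' i) ^ p * h j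
        ∈ Ideal.span {(p : MvPolynomial (Fin n) (FrobAlg.W2 p k))} * Ideal.span (Set.range f') := by
  exact aux p k f' (Ideal.span (Set.range f')) rfl hflat

end Groth.Agent.S13138
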