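import Groth.Statements.S13139
import Groth.Agent.S13138

set_option autoImplicit false
universe u
open scoped BigOperators
open FrobAlg

namespace Groth.Agent.S13139

open Groth.Agent.Lib.Helper20 Groth.Agent.S13138

section helpers

variable (p : ℕ) [Fact p.Prime] (k : Type u) [Field k] [CharP k p] [PerfectRing k p] {n : ℕ}

theorem rho_surj : Function.Surjective (rho p k n) := by
  apply MvPolynomial.map_surjective
  intro a
  exact ⟨mk2 p k a 0, by rw [res_apply, mk2_coeff_zero]⟩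

theorem rho_eq_zero_iff (g : MvPolynomial (Fin n) (W2 p k)) :
    rho p k n g = 0 ↔ g ∈ Ideal.span {(p : MvPolynomial (Fin n) (W2 p k))} := by
  rw [← ker_map_res, RingHom.mem_ker]

theorem rho_p : rho p k n (p : MvPolynomial (Fin n) (W2 p k)) = 0 := by
  rw [rho_eq_zero_iff]
  exact Ideal.subset_span rfl

theorem p_mul_eq_zero_imp (b : MvPolynomial (Fin n) (W2 p k))
    (h : (p : MvPolynomial (Fin n) (W2 p k)) * b = 0) :
    b ∈ Ideal.span {(p : MvPolynomial (Fin n) (W2 p k))} := by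
  rw [← rho_eq_zero_iff]
  ext d
  rw [MvPolynomial.coeff_map, MvPolynomial.coeff_zero]
  have h1 : (p : W2 p k) * b.coeff d = 0 := by
    have := congrArg (MvPolynomial.coeff d) h
    rw [← map_natCast (MvPolynomial.C : W2 p k →+* MvPolynomial (Fin n) (W2 p k)),
      MvPolynomial.coeff_C_mul, MvPolynomial.coeff_zero] at this
    exact this
  have := mem_span_p_of_p_mul_eq_zero p k _ h1
  rwa [← ker_res, RingHom.mem_ker] at this

theorem flat_claim {m : ℕ} (f : Fin m → MvPolynomial (Fin n) k)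
    (hreg : RingTheory.Sequence.IsWeaklyRegular (MvPolynomial (Fin n) k) (List.ofFn f))
    (f' : Fin m → MvPolynomial (Fin n) (W2 p k))
    (hf' : ∀ i, MvPolynomial.map (res p k) (f' i) = f i) :
    ∀ i, i ≤ m → ∀ b : MvPolynomial (Fin n) (W2 p k),
      (p : MvPolynomial (Fin n) (W2 p k)) * b ∈ Ideal.ofList ((List.ofFn f').take i) →
      ∃ j ∈ Ideal.ofList ((List.ofFn f').take i), ∃ c,
        b = j + (p : MvPolynomial (Fin n) (W2 p k)) * c := by
  intro i
  induction i with
  | zero =>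
    intro _ b hb
    rw [List.take_zero, Ideal.ofList_nil, Ideal.mem_bot] at hb
    obtain ⟨c, hc⟩ := Ideal.mem_span_singleton.1 (p_mul_eq_zero_imp p k b hb)
    exact ⟨0, Ideal.zero_mem _, c, by rw [zero_add, hc]⟩
  | succ i ih =>
    intro hi b hb
    have him : i < m := hi
    have htake' : (List.ofFn f').take (i + 1) = (List.ofFn f').take i ++ [f' ⟨i, him⟩] := by
      rw [List.take_add_one]
      simp [him]
    rw [htake', Ideal.ofList_append, Ideal.ofList_singleton] at hb ⊢
    obtain ⟨j, hj, y, hy, hjy⟩ := Submodule.mem_sup.1 hb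
    obtain ⟨c, rfl⟩ := Ideal.mem_span_singleton.1 hy
    have hρ : rho p k n j + f ⟨i, him⟩ * rho p k n c = 0 := by
      have := congrArg (rho p k n) hjy
      rw [map_add, map_mul, map_mul, rho_p, zero_mul] at this
      rw [← this]
      congr 2
      exact (hf' _).symm
    have hregi := hreg.regular_mod_prev i (by simpa using him)
    have hmap : Ideal.map (rho p k n) (Ideal.ofList ((List.ofFn f').take i)) =
        Ideal.ofList ((List.ofFn f).take i) := by
      rw [Ideal.map_ofList, List.map_take, List.map_ofFn]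
      congr
      funext i
      exact hf' i
    have hmem : rho p k n c ∈ Ideal.ofList ((List.ofFn f).take i) := by
      have h1 : (List.ofFn f)[i]'(by simpa using him) • rho p k n c ∈
          (Ideal.ofList ((List.ofFn f).take i) • ⊤ : Submodule (MvPolynomial (Fin n) k) _) := by
        rw [smul_eq_mul, Ideal.mul_top, smul_eq_mul]
        have h2 : (List.ofFn f)[i]'(by simpa using him) = f ⟨i, him⟩ := by simp
        rw [h2, ← hmap]
        have h3 : f ⟨i, him⟩ * rho p k n c = - rho p k n j := by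
          rw [eq_neg_iff_add_eq_zero, add_comm]; exact hρ
        rw [h3]
        exact neg_mem (Ideal.mem_map_of_mem _ hj)
      have := mem_of_isSMulRegular_quotient_of_smul_mem hregi h1
      rwa [smul_eq_mul, Ideal.mul_top] at this
    rw [← hmap, Ideal.mem_map_iff_of_surjective (rho p k n) (rho_surj p k)] at hmem
    obtain ⟨j₁, hj₁, hj₁c⟩ := hmem
    have hcj : c - j₁ ∈ Ideal.span {(p : MvPolynomial (Fin n) (W2 p k))} := by
      rw [← rho_eq_zero_iff, map_sub, hj₁c, sub_self]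
    obtain ⟨c', hc'⟩ := Ideal.mem_span_singleton.1 hcj
    have hc : c = j₁ + (p : MvPolynomial (Fin n) (W2 p k)) * c' := by rw [← hc']; ring
    have hIH : (p : MvPolynomial (Fin n) (W2 p k)) * (b - f' ⟨i, him⟩ * c') ∈
        Ideal.ofList ((List.ofFn f').take i) := by
      have : (p : MvPolynomial (Fin n) (W2 p k)) * (b - f' ⟨i, him⟩ * c') =
          j + f' ⟨i, him⟩ * j₁ := by
        rw [mul_sub, ← hjy, hc]; ring
      rw [this]
      exact add_mem hj (Ideal.mul_mem_left _ _ hj₁)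
    obtain ⟨j₂, hj₂, c₂, hc₂⟩ := ih (by omega) _ hIH
    refine ⟨j₂ + f' ⟨i, him⟩ * c', ?_, c₂, ?_⟩
    · exact Submodule.add_mem_sup hj₂ (Ideal.mem_span_singleton.2 ⟨c', rfl⟩)
    · rw [add_right_comm, ← hc₂]; ring

theorem span_range_eq_ofList {R : Type*} [CommRing R] {m : ℕ} (g : Fin m → R) :
    Ideal.span (Set.range g) = Ideal.ofList ((List.ofFn g).take m) := by
  rw [List.take_of_length_le (by simp)]
  unfold Ideal.ofList
  congr 1
  ext x
  simp [List.mem_ofFn]

theorem flat_of_regular {m : ℕ} (f : Fin m → MvPolynomial (Fin n) k)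
    (hreg : RingTheory.Sequence.IsWeaklyRegular (MvPolynomial (Fin n) k) (List.ofFn f))
    (f' : Fin m → MvPolynomial (Fin n) (W2 p k))
    (hf' : ∀ i, MvPolynomial.map (res p k) (f' i) = f i) :
    ((Ideal.Quotient.mk (Ideal.span (Set.range f'))).comp
      (MvPolynomial.C : W2 p k →+* MvPolynomial (Fin n) (W2 p k))).Flat := by
  rw [flat_ringHom_iff]
  intro b' hb
  obtain ⟨b, rfl⟩ := Ideal.Quotient.mk_surjective b'
  have hb' : (p : MvPolynomial (Fin n) (W2 p k)) * b ∈ Ideal.span (Set.range f') := by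
    rw [← Ideal.Quotient.eq_zero_iff_mem, map_mul, map_natCast]; exact hb
  rw [span_range_eq_ofList] at hb'
  obtain ⟨j, hj, c, hc⟩ := flat_claim p k f hreg f' hf' m le_rfl b hb'
  rw [← span_range_eq_ofList] at hj
  refine ⟨Ideal.Quotient.mk _ c, ?_⟩
  rw [hc, map_add, map_mul, map_natCast, Ideal.Quotient.eq_zero_iff_mem.2 hj, zero_add]

theorem backward {m : ℕ} (f : Fin m → MvPolynomial (Fin n) k)
    (hreg : RingTheory.Sequence.IsWeaklyRegular (MvPolynomial (Fin n) k) (List.ofFn f))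
    (f' : Fin m → MvPolynomial (Fin n) (W2 p k)) (h : Fin n → MvPolynomial (Fin n) (W2 p k))
    (hf' : ∀ i, MvPolynomial.map (res p k) (f' i) = f i)
    (hcond : ∀ i, FrobAlg.polyFrob p k (Fin n) (f' i) - f' i ^ p
        - (p : MvPolynomial (Fin n) (FrobAlg.W2 p k)) * ∑ j, MvPolynomial.pderiv j (f' i) ^ p * h j
        ∈ Ideal.span {(p : MvPolynomial (Fin n) (FrobAlg.W2 p k))} * Ideal.span (Set.range f')) :
    ∀ (J : Ideal (MvPolynomial (Fin n) k)), J = (Ideal.span (Set.range f')).map (rho p k n) →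
      FrobAlg.IsFLiftable p k (MvPolynomial (Fin n) k ⧸ J) := by
  intro J hJ
  subst hJ
  have hflat := flat_of_regular p k f hreg f' hf'
  obtain ⟨Φ, hΦ1, hΦ2⟩ := (aux p k f' (Ideal.span (Set.range f')) rfl hflat).2 ⟨h, hcond⟩
  refine ⟨MvPolynomial (Fin n) (W2 p k) ⧸ Ideal.span (Set.range f'), inferInstance,
    (Ideal.Quotient.mk _).comp MvPolynomial.C,
    Ideal.quotientMap ((Ideal.span (Set.range f')).map (rho p k n)) (rho p k n) Ideal.le_comap_map,
    Φ, ?_⟩
  refine { flat := hflat, surj := Ideal.quotientMap_surjective (rho_surj p k), ker_eq := ?_,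
           comm := ?_, semi := hΦ1, red := hΦ2 }
  · have hR : Ideal.map ((Ideal.Quotient.mk (Ideal.span (Set.range f'))).comp
        (MvPolynomial.C : W2 p k →+* MvPolynomial (Fin n) (W2 p k))) (RingHom.ker (res p k)) =
        Ideal.span {(p : MvPolynomial (Fin n) (W2 p k) ⧸ Ideal.span (Set.range f'))} := by
      rw [ker_res, Ideal.map_span, Set.image_singleton, map_natCast]
    rw [hR]
    ext b'
    obtain ⟨b, rfl⟩ := Ideal.Quotient.mk_surjective b'
    rw [RingHom.mem_ker, Ideal.quotientMap_mk, Ideal.Quotient.eq_zero_iff_mem,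
      Ideal.mem_span_singleton]
    constructor
    · intro hb
      rw [Ideal.mem_map_iff_of_surjective _ (rho_surj p k)] at hb
      obtain ⟨j, hj, hjb⟩ := hb
      have : b - j ∈ Ideal.span {(p : MvPolynomial (Fin n) (W2 p k))} := by
        rw [← rho_eq_zero_iff, map_sub, hjb, sub_self]
      obtain ⟨c, hc⟩ := Ideal.mem_span_singleton.1 this
      refine ⟨Ideal.Quotient.mk _ c, ?_⟩
      rw [← map_natCast (Ideal.Quotient.mk (Ideal.span (Set.range f'))), ← map_mul, ← hc, map_sub,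
        Ideal.Quotient.eq_zero_iff_mem.2 hj, sub_zero]
    · rintro ⟨c', hc'⟩
      obtain ⟨c, rfl⟩ := Ideal.Quotient.mk_surjective c'
      rw [← map_natCast (Ideal.Quotient.mk (Ideal.span (Set.range f'))), ← map_mul,
        Ideal.Quotient.eq] at hc'
      have : rho p k n b = rho p k n (b - (p : MvPolynomial (Fin n) (W2 p k)) * c) := by
        rw [map_sub, map_mul, rho_p, zero_mul, sub_zero]
      rw [this]
      exact Ideal.mem_map_of_mem _ hc'
  · ext w
    simp only [RingHom.comp_apply, Ideal.quotientMap_mk]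
    rw [MvPolynomial.map_C]
    rfl

theorem forward {m : ℕ} (f : Fin m → MvPolynomial (Fin n) k)
    (B : Type u) [CommRing B] (ι : W2 p k →+* B)
    (π : B →+* MvPolynomial (Fin n) k ⧸ Ideal.span (Set.range f)) (Φ : B →+* B)
    (hB : FrobAlg.IsFrobLift p k (MvPolynomial (Fin n) k ⧸ Ideal.span (Set.range f)) B ι π Φ) :
    ∃ (f' : Fin m → MvPolynomial (Fin n) (FrobAlg.W2 p k))
      (h : Fin n → MvPolynomial (Fin n) (FrobAlg.W2 p k)),
      (∀ i, MvPolynomial.map (FrobAlg.res p k) (f' i) = f i) ∧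
      ∀ i, FrobAlg.polyFrob p k (Fin n) (f' i) - f' i ^ p
        - (p : MvPolynomial (Fin n) (FrobAlg.W2 p k)) * ∑ j, MvPolynomial.pderiv j (f' i) ^ p * h j
        ∈ Ideal.span {(p : MvPolynomial (Fin n) (FrobAlg.W2 p k))} * Ideal.span (Set.range f') := by
  have hL : IsLift p k _ B ι π := hB.toIsLift
  have hex : ∀ j : Fin n, ∃ b : B, π b = Ideal.Quotient.mk (Ideal.span (Set.range f)) (MvPolynomial.X j) :=
    fun j => hL.surj _
  choose bv hbv using hex
  let ψ : MvPolynomial (Fin n) (W2 p k) →+* B := MvPolynomial.eval₂Hom ι bv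
  have hψC : ∀ w, ψ (MvPolynomial.C w) = ι w := fun w => by simp [ψ]
  have hπψ : π.comp ψ = (Ideal.Quotient.mk (Ideal.span (Set.range f))).comp (rho p k n) := by
    apply MvPolynomial.ringHom_ext
    · intro w
      simp only [RingHom.comp_apply, hψC, rho, MvPolynomial.map_C]
      have := RingHom.congr_fun hL.comm w
      simp only [RingHom.comp_apply] at this
      rw [this]; rfl
    · intro j
      simp only [RingHom.comp_apply, ψ, MvPolynomial.eval₂Hom_X', rho, MvPolynomial.map_X]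
      exact hbv j
  have hπψ' : ∀ g, π (ψ g) = Ideal.Quotient.mk (Ideal.span (Set.range f)) (rho p k n g) := fun g => RingHom.congr_fun hπψ g
  have hkerπ : ∀ y : B, π y = 0 → ∃ y', y = (p : B) * y' := by
    intro y hy
    rw [← RingHom.mem_ker, lift_ker_eq_span hL, Ideal.mem_span_singleton] at hy
    exact hy
  have hpp : (p : B) * (p : B) = 0 := lift_p_mul_p_eq_zero ι
  have hstep : ∀ y : B, ∃ g : MvPolynomial (Fin n) (W2 p k), ∃ y', y = ψ g + (p : B) * y' := by
    intro y
    obtain ⟨g0, hg0⟩ := Ideal.Quotient.mk_surjective (π y)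
    obtain ⟨g, rfl⟩ := rho_surj p k g0
    obtain ⟨y', hy'⟩ := hkerπ (y - ψ g) (by rw [map_sub, hπψ', hg0, sub_self])
    exact ⟨g, y', by rw [← hy']; ring⟩
  have hψsurj : Function.Surjective ψ := by
    intro y
    obtain ⟨g, y₁, hy⟩ := hstep y
    obtain ⟨g₁, y₂, hy₁⟩ := hstep y₁
    refine ⟨g + (p : MvPolynomial (Fin n) (W2 p k)) * g₁, ?_⟩
    rw [map_add, map_mul, map_natCast, hy, hy₁, mul_add, ← mul_assoc, hpp, zero_mul, add_zero]
  set J'' := RingHom.ker ψ with hJ''
  let θ : (MvPolynomial (Fin n) (W2 p k) ⧸ J'') ≃+* B := RingHom.quotientKerEquivOfSurjective hψsurj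
  have hθ : ∀ g, θ (Ideal.Quotient.mk J'' g) = ψ g :=
    fun g => RingHom.quotientKerEquivOfSurjective_apply_mk hψsurj g
  have hflat'' : ((Ideal.Quotient.mk J'').comp
      (MvPolynomial.C : W2 p k →+* MvPolynomial (Fin n) (W2 p k))).Flat := by
    have h1 : (Ideal.Quotient.mk J'').comp MvPolynomial.C =
        (θ.symm : B →+* MvPolynomial (Fin n) (W2 p k) ⧸ J'').comp ι := by
      ext w
      simp only [RingHom.comp_apply, RingHom.coe_coe]
      rw [← hψC, ← hθ, RingEquiv.symm_apply_apply]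
    rw [h1]
    exact RingHom.Flat.comp hL.flat (RingHom.Flat.of_bijective θ.symm.bijective)
  have hinf := inf_le_mul_of_flat p k J'' hflat''
  have hρJ'' : ∀ a ∈ J'', rho p k n a ∈ (Ideal.span (Set.range f)) := by
    intro a ha
    rw [← Ideal.Quotient.eq_zero_iff_mem, ← hπψ', RingHom.mem_ker.1 ha, map_zero]
  have hlift : ∀ g ∈ (Ideal.span (Set.range f)), ∃ g'' ∈ J'', rho p k n g'' = g := by
    intro g hg
    obtain ⟨g', rfl⟩ := rho_surj p k g
    have h0 : π (ψ g') = 0 := by rw [hπψ', Ideal.Quotient.eq_zero_iff_mem.2 hg]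
    obtain ⟨y, hy⟩ := hkerπ _ h0
    obtain ⟨b', rfl⟩ := hψsurj y
    refine ⟨g' - (p : MvPolynomial (Fin n) (W2 p k)) * b', ?_, ?_⟩
    · rw [hJ'', RingHom.mem_ker, map_sub, map_mul, map_natCast, hy, sub_self]
    · rw [map_sub, map_mul, rho_p, zero_mul, sub_zero]
  have hf_ex : ∀ i, ∃ g ∈ J'', rho p k n g = f i := fun i => hlift _ (Ideal.subset_span ⟨i, rfl⟩)
  choose f' hf'mem hf'ρ using hf_ex
  have hle : Ideal.span (Set.range f') ≤ J'' := by
    rw [Ideal.span_le]; rintro _ ⟨i, rfl⟩; exact hf'mem i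
  have hmapspan : (Ideal.span (Set.range f')).map (rho p k n) = (Ideal.span (Set.range f)) := by
    rw [Ideal.map_span]
    congr 1
    ext x
    constructor
    · rintro ⟨_, ⟨i, rfl⟩, rfl⟩
      exact ⟨i, (hf'ρ i).symm⟩
    · rintro ⟨i, rfl⟩
      exact ⟨f' i, ⟨i, rfl⟩, hf'ρ i⟩
  have hstep2 : ∀ a ∈ J'', ∃ s ∈ Ideal.span (Set.range f'), ∃ c,
      a = s + (p : MvPolynomial (Fin n) (W2 p k)) * c := by
    intro a ha
    have := hρJ'' a ha
    rw [← hmapspan, Ideal.mem_map_iff_of_surjective _ (rho_surj p k)] at this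
    obtain ⟨s, hs, hsa⟩ := this
    have : a - s ∈ Ideal.span {(p : MvPolynomial (Fin n) (W2 p k))} := by
      rw [← rho_eq_zero_iff, map_sub, hsa, sub_self]
    obtain ⟨c, hc⟩ := Ideal.mem_span_singleton.1 this
    exact ⟨s, hs, c, by rw [← hc]; ring⟩
  have hJeq : J'' = Ideal.span (Set.range f') := by
    apply le_antisymm _ hle
    intro a ha
    obtain ⟨s, hs, c, rfl⟩ := hstep2 a ha
    have hpc : (p : MvPolynomial (Fin n) (W2 p k)) * c ∈ J'' := by
      have := J''.sub_mem ha (hle hs); rwa [add_sub_cancel_left] at this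
    have := hinf ⟨Ideal.mem_span_singleton.2 ⟨c, rfl⟩, hpc⟩
    obtain ⟨a₁, ha₁, ha₁c⟩ := Ideal.mem_span_singleton_mul.1 this
    obtain ⟨s₁, hs₁, c₁, rfl⟩ := hstep2 a₁ ha₁
    rw [← ha₁c, mul_add, ← mul_assoc, mvPoly_p_mul_p, zero_mul, add_zero]
    exact add_mem hs (Ideal.mul_mem_left _ _ hs₁)
  have haux := (aux p k f' J'' hJeq hflat'').1 ?_
  · obtain ⟨h, hh⟩ := haux
    refine ⟨f', h, hf'ρ, fun i => ?_⟩
    rw [← hJeq]; exact hh i
  · refine ⟨(θ.symm : B →+* MvPolynomial (Fin n) (W2 p k) ⧸ J'').comp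
      (Φ.comp (θ : MvPolynomial (Fin n) (W2 p k) ⧸ J'' →+* B)), ?_, ?_⟩
    · ext w
      simp only [RingHom.comp_apply, RingHom.coe_coe]
      rw [hθ, hψC]
      have := RingHom.congr_fun hB.semi w
      simp only [RingHom.comp_apply] at this
      rw [this, ← hψC, ← hθ, RingEquiv.symm_apply_apply]
    · intro b'
      obtain ⟨g, rfl⟩ := Ideal.Quotient.mk_surjective b'
      simp only [RingHom.comp_apply, RingHom.coe_coe]
      rw [hθ]
      obtain ⟨g₂, hg₂⟩ := hψsurj (Φ (ψ g))
      have h1 : π (ψ g₂) = π (ψ (g ^ p)) := by rw [hg₂, hB.red, map_pow, map_pow]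
      rw [hπψ', hπψ', Ideal.Quotient.eq] at h1
      obtain ⟨g'', hg''mem, hg''⟩ := hlift _ h1
      rw [← hg₂, ← hθ, RingEquiv.symm_apply_apply, Ideal.quotientMap_mk, Ideal.quotientMap_mk,
        ← map_pow, ← map_pow, Ideal.Quotient.eq, ← map_sub]
      have h2 : rho p k n (g₂ - g ^ p) = rho p k n g'' := by rw [hg'', map_sub]
      change rho p k n (g₂ - g ^ p) ∈ _
      rw [h2]
      exact Ideal.mem_map_of_mem _ hg''mem

end helpers

/-- Let k be a perfect field of characteristic p and f_1, …, f_m a regular sequence in R = k[x_1, …,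
x_n]. The complete intersection A = R/(f_1, …, f_m) lifts to W₂(k) compatibly with Frobenius if and
only if for some lifts f'_1, …, f'_m ∈ R' = W₂(k)[x_1, …, x_n] of the f_i and some h_1, …, h_n ∈ R'
one has F'(f'_i) − f'_i^p − p·Σ_j (∂f'_i/∂x_j)^p h_j ∈ p·(f'_1, …, f'_m) for every i, F' being the
standard Frobenius lift of R'. In terms of Frobenius residues P(f') = (F'(f') − f'^p)/p ∈ R, which
change by g^p when f' changes by pg, this is the congruence P_{f_i} + g_i^p ≡ Σ_j (∂f_i/∂x_j)^p h_j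
modulo (f_1, …, f_m) for some g_i, h_j. -/
theorem result
    (p : ℕ) [Fact p.Prime] (k : Type u) [Field k] [CharP k p] [PerfectRing k p]
    {n m : ℕ} (f : Fin m → MvPolynomial (Fin n) k)
    (hreg : RingTheory.Sequence.IsRegular (MvPolynomial (Fin n) k) (List.ofFn f)) :
    FrobAlg.IsFLiftable p k (MvPolynomial (Fin n) k ⧸ Ideal.span (Set.range f)) ↔
    ∃ (f' : Fin m → MvPolynomial (Fin n) (FrobAlg.W2 p k)) (h : Fin n → MvPolynomial (Fin n) (FrobAlg.W2 p k)),
      (∀ i, MvPolynomial.map (FrobAlg.res p k) (f' i) = f i) ∧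
      ∀ i, FrobAlg.polyFrob p k (Fin n) (f' i) - f' i ^ p
        - (p : MvPolynomial (Fin n) (FrobAlg.W2 p k)) * ∑ j, MvPolynomial.pderiv j (f' i) ^ p * h j
        ∈ Ideal.span {(p : MvPolynomial (Fin n) (FrobAlg.W2 p k))} * Ideal.span (Set.range f') := by
  constructor
  · rintro ⟨B, instB, ι, π, Φ, hB⟩
    exact forward p k f B ι π Φ hB
  · rintro ⟨f', h, hf', hcond⟩
    refine backward p k f hreg.toIsWeaklyRegular f' h hf' hcond _ ?_
    rw [Ideal.map_span]
    congr 1
    ext x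
    constructor
    · rintro ⟨i, rfl⟩
      exact ⟨f' i, ⟨i, rfl⟩, hf' i⟩
    · rintro ⟨_, ⟨i, rfl⟩, rfl⟩
      exact ⟨i, (hf' i).symm⟩

end Groth.Agent.S13139
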