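-- Statement S1314.
import Groth.Statements.S1314
import Mathlib
import Groth.Agent.Lib.Helper1.ThickSq

set_option autoImplicit false
universe u
open FlatMor

namespace Groth.Agent.S1314

open AlgebraicGeometry CategoryTheory Limits in
/-- Let Y ⟶ Y' be a thickening, let X be the base change to Y of a scheme X' over Y', and assume both X
⟶ Y and X' ⟶ Y' are locally of finite type. Then X ⟶ Y is formally unramified if and only if X' ⟶ Y'
is. (The source states this as the vanishing of the sheaf of relative differentials; formal
unramifiedness is the equivalent phrasing available here.) -/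
theorem result {X X' Y Y' : Scheme.{u}} (iX : X ⟶ X') (iY : Y ⟶ Y') (f : X ⟶ Y) (f' : X' ⟶ Y')
    (hY : MoreMor.IsThickening iY) (hc : IsPullback iX f f' iY) [LocallyOfFiniteType f] [LocallyOfFiniteType f'] :
    FormallyUnramified f ↔ FormallyUnramified f' := by
  haveI := hY.1
  constructor
  · intro hf
    exact Groth.Agent.Lib.Helper1.ThickSq.formallyUnramified_of_isPullback_of_lft hc hY.2.surj
  · intro hf'
    exact MorphismProperty.of_isPullback hc hf'

end Groth.Agent.S1314
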