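import Groth.Statements.S13141
import Mathlib

set_option autoImplicit false
universe u v w w'
open scoped TensorProduct
open GrpAlg

namespace Groth.Agent.S13141

/-- Let G be a finite group, R a commutative ring with |G| invertible in R, M a projective R-module with
an R-linear G-action and S an R-algebra. The natural map M^G ⊗_R S → M ⊗_R S is injective and its
image is the submodule of G-invariants of M ⊗_R S (G acting on the first factor); that is, M^G ⊗_R S
→ (M ⊗_R S)^G is bijective. -/
theorem result
    (R : Type u) [CommRing R] (G : Type v) [Group G] [Finite G] (hG : IsUnit ((Nat.card G : ℕ) : R))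
    (M : Type w) [AddCommGroup M] [Module R M] [Module.Projective R M] (ρ : Representation R G M)
    (S : Type w') [CommRing S] [Algebra R S] :
    Function.Injective (TensorProduct.map ρ.invariants.subtype (LinearMap.id : S →ₗ[R] S)) ∧
    LinearMap.range (TensorProduct.map ρ.invariants.subtype (LinearMap.id : S →ₗ[R] S)) =
      ⨅ g : G, LinearMap.eqLocus (LinearMap.rTensor S (ρ g)) LinearMap.id := by
  classical
  haveI : Fintype G := Fintype.ofFinite G
  rw [Nat.card_eq_fintype_card] at hG
  letI : Invertible ((Fintype.card G : ℕ) : R) := hG.invertible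
  have hproj := ρ.isProj_averageMap
  have havg : ρ.averageMap = ⅟((Fintype.card G : ℕ) : R) • ∑ g : G, ρ g := by
    simp [Representation.averageMap, GroupAlgebra.average, map_sum, Representation.asAlgebraHom_single]
  let π' : M →ₗ[R] ρ.invariants := hproj.codRestrict
  have hπ'i : π' ∘ₗ ρ.invariants.subtype = LinearMap.id := by
    ext x
    simp [π', LinearMap.IsProj.codRestrict_apply_cod]
  have hiπ' : ρ.invariants.subtype ∘ₗ π' = ρ.averageMap := by
    ext x
    simp [π', LinearMap.IsProj.codRestrict_apply]
  have hsplit : (TensorProduct.map π' (LinearMap.id : S →ₗ[R] S)) ∘ₗ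
      (TensorProduct.map ρ.invariants.subtype LinearMap.id) = LinearMap.id := by
    rw [← TensorProduct.map_comp, hπ'i, LinearMap.comp_id, TensorProduct.map_id]
  constructor
  · exact Function.LeftInverse.injective (g := TensorProduct.map π' LinearMap.id)
      (fun z => LinearMap.congr_fun hsplit z)
  · apply le_antisymm
    · rintro _ ⟨z, rfl⟩
      simp only [Submodule.mem_iInf, LinearMap.mem_eqLocus]
      intro g
      have : LinearMap.rTensor S (ρ g) ∘ₗ TensorProduct.map ρ.invariants.subtype LinearMap.id =
          TensorProduct.map ρ.invariants.subtype (LinearMap.id : S →ₗ[R] S) := by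
        rw [LinearMap.rTensor, ← TensorProduct.map_comp]
        congr 1
        ext x
        exact x.2 g
      exact LinearMap.congr_fun this z
    · intro z hz
      simp only [Submodule.mem_iInf, LinearMap.mem_eqLocus] at hz
      refine ⟨TensorProduct.map π' LinearMap.id z, ?_⟩
      have h1 : TensorProduct.map ρ.invariants.subtype (LinearMap.id : S →ₗ[R] S)
          (TensorProduct.map π' LinearMap.id z) = LinearMap.rTensor S ρ.averageMap z := by
        rw [← LinearMap.comp_apply, ← TensorProduct.map_comp, hiπ', LinearMap.comp_id]
        rfl
      rw [h1, havg]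
      have h2 : LinearMap.rTensor S (⅟((Fintype.card G : ℕ) : R) • ∑ g : G, ρ g) =
          ⅟((Fintype.card G : ℕ) : R) • ∑ g : G, LinearMap.rTensor S (ρ g) := by
        rw [← LinearMap.coe_rTensorHom, map_smul, map_sum]
      rw [h2]
      simp only [LinearMap.smul_apply, LinearMap.sum_apply, hz, LinearMap.id_apply,
        Finset.sum_const, Finset.card_univ]
      rw [← Nat.cast_smul_eq_nsmul R, smul_smul, invOf_mul_self, one_smul]

end Groth.Agent.S13141
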