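import Groth.Statements.S13142
import Mathlib

set_option autoImplicit false
universe u v
open GrpAlg

namespace Groth.Agent.S13142

theorem projective_of_isProj {R M : Type*} [CommRing R] [AddCommGroup M] [Module R M]
    [Module.Projective R M] (N : Submodule R M) (π : M →ₗ[R] M) (h : LinearMap.IsProj N π) :
    Module.Projective R N :=
  Module.Projective.of_split N.subtype h.codRestrict (by
    ext x
    simp [LinearMap.IsProj.codRestrict_apply_cod])

/-- Let G be a finite group and R a commutative ring with |G| invertible in R, acting on R[x_1, …, x_n]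
by R-algebra automorphisms. The invariant subring R[x_1, …, x_n]^G is a flat R-module (so the
quotient of affine n-space over R by G is flat over R). -/
theorem result
    (R : Type u) [CommRing R] (G : Type v) [Group G] [Finite G] (hG : IsUnit ((Nat.card G : ℕ) : R))
    (n : ℕ) (ρ : G →* (MvPolynomial (Fin n) R ≃ₐ[R] MvPolynomial (Fin n) R)) :
    Module.Flat R ↥(⨅ g : G, LinearMap.eqLocus (ρ g).toLinearMap (LinearMap.id : MvPolynomial (Fin n) R →ₗ[R] MvPolynomial (Fin n) R)) := by
  classical
  haveI : Fintype G := Fintype.ofFinite G
  rw [Nat.card_eq_fintype_card] at hG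
  letI : Invertible ((Fintype.card G : ℕ) : R) := hG.invertible
  let ρ' : Representation R G (MvPolynomial (Fin n) R) :=
    { toFun := fun g => (ρ g).toLinearMap
      map_one' := by ext; simp
      map_mul' := fun g h => by ext; simp }
  have heq : ρ'.invariants = ⨅ g : G, LinearMap.eqLocus (ρ g).toLinearMap
      (LinearMap.id : MvPolynomial (Fin n) R →ₗ[R] MvPolynomial (Fin n) R) := by
    ext x
    simp [ρ', Submodule.mem_iInf, LinearMap.mem_eqLocus]
  have hproj := ρ'.isProj_averageMap
  rw [heq] at hproj
  haveI := projective_of_isProj _ _ hproj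
  infer_instance

end Groth.Agent.S13142
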