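import Groth.Statements.S13143
import Groth.Agent.Lib.Helper20.Lift

set_option autoImplicit false
universe u
open FrobAlg

namespace Groth.Agent.S13143

open Groth.Agent.Lib.Helper20

/-- Let k be a perfect field of characteristic p and A → B a homomorphism of Noetherian k-algebras with
an A-linear retraction B → A. If B lifts flatly to W₂(k), so does A. (The published statement
phrases the descent for finite surjective morphisms of degree prime to p, via a trace splitting; the
argument uses exactly an A-linear splitting of A → B for an affine morphism, which is the hypothesis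
taken here.) -/
theorem result
    (p : ℕ) [Fact p.Prime] (k : Type u) [Field k] [CharP k p] [PerfectRing k p]
    (A B : Type u) [CommRing A] [CommRing B] [Algebra k A] [Algebra k B]
    [IsNoetherianRing A] [IsNoetherianRing B] [Algebra A B] [IsScalarTower k A B]
    (r : B →ₗ[A] A) (hr : ∀ a : A, r (algebraMap A B a) = a)
    (hB : FrobAlg.IsW2Liftable p k B) : FrobAlg.IsW2Liftable p k A := by
  classical
  obtain ⟨B', _, ιB, πB, hB⟩ := hB
  have hcommB : ∀ w, πB (ιB w) = algebraMap k B (res p k w) := fun w => RingHom.congr_fun hB.comm w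
  -- the subring of elements reducing into the image of `A`
  let S : Subring B' := (algebraMap A B).range.comap πB
  have hS : ∀ s : S, ∃ a : A, algebraMap A B a = πB (s : B') := fun s => s.2
  -- the ideal of multiples of `p` coming from the kernel of the retraction
  let N : Ideal S :=
    { carrier := {s | ∃ c : B, r c = 0 ∧ (s : B') = lift_theta hB c}
      zero_mem' := ⟨0, map_zero r, by rw [lift_theta_zero]; rfl⟩
      add_mem' := by
        rintro s t ⟨c, hc, hs⟩ ⟨d, hd, ht⟩
        exact ⟨c + d, by rw [map_add, hc, hd, add_zero],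
          by rw [Subring.coe_add, hs, ht, lift_theta_add]⟩
      smul_mem' := by
        rintro x s ⟨c, hc, hs⟩
        obtain ⟨a, ha⟩ := hS x
        refine ⟨πB x * c, ?_, ?_⟩
        · rw [← ha, ← Algebra.smul_def, map_smul, hc, smul_zero]
        · rw [smul_eq_mul, Subring.coe_mul, hs, lift_mul_theta] }
  have hN : ∀ s : S, s ∈ N ↔ ∃ c : B, r c = 0 ∧ (s : B') = lift_theta hB c := fun s => Iff.rfl
  -- the reduction map
  let ψ : S →+* A :=
    { toFun := fun s => r (πB (s : B'))
      map_one' := by
        show r (πB ((1 : S) : B')) = 1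
        rw [Subring.coe_one, map_one, ← map_one (algebraMap A B), hr]
      map_mul' := by
        intro s t
        show r (πB ((s * t : S) : B')) = r (πB (s : B')) * r (πB (t : B'))
        obtain ⟨a, ha⟩ := hS s
        obtain ⟨b, hb⟩ := hS t
        rw [Subring.coe_mul, map_mul, ← ha, ← hb, ← map_mul, hr, hr, hr]
      map_zero' := by
        show r (πB ((0 : S) : B')) = 0
        rw [Subring.coe_zero, map_zero, map_zero]
      map_add' := by
        intro s t
        show r (πB ((s + t : S) : B')) = r (πB (s : B')) + r (πB (t : B'))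
        rw [Subring.coe_add, map_add, map_add] }
  have hψ : ∀ s : S, ψ s = r (πB (s : B')) := fun s => rfl
  have hψ0 : ∀ s : S, ψ s = 0 → πB (s : B') = 0 := by
    intro s hs
    obtain ⟨a, ha⟩ := hS s
    rw [hψ, ← ha, hr] at hs
    rw [← ha, hs, map_zero]
  let πA' : S ⧸ N →+* A := Ideal.Quotient.lift N ψ (by
    intro s hs
    obtain ⟨c, hc, hsc⟩ := (hN s).mp hs
    rw [hψ, hsc, lift_pi_theta, map_zero])
  have hπA' : ∀ s : S, πA' (Ideal.Quotient.mk N s) = r (πB (s : B')) := fun s => rfl
  let ιS : W2 p k →+* S := ιB.codRestrict S (fun w => by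
    show πB (ιB w) ∈ (algebraMap A B).range
    rw [hcommB, IsScalarTower.algebraMap_apply k A B]
    exact ⟨_, rfl⟩)
  have hιS : ∀ w, ((ιS w : S) : B') = ιB w := fun w => rfl
  let ιA' : W2 p k →+* S ⧸ N := (Ideal.Quotient.mk N).comp ιS
  -- key: elements of `S` reducing to `0` become multiples of `p` in the quotient
  have key : ∀ s : S, πB (s : B') = 0 → ∃ t : S ⧸ N, Ideal.Quotient.mk N s = (p : S ⧸ N) * t := by
    intro s hs
    obtain ⟨c, hc⟩ := lift_exists_theta_of_pi_eq_zero hB _ hs
    obtain ⟨t₀, ht₀⟩ := hB.surj (algebraMap A B (r c))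
    let t : S := ⟨t₀, ⟨r c, ht₀.symm⟩⟩
    refine ⟨Ideal.Quotient.mk N t, ?_⟩
    rw [← map_natCast (Ideal.Quotient.mk N), ← map_mul, Ideal.Quotient.eq, hN]
    refine ⟨c - algebraMap A B (r c), by rw [map_sub, hr, sub_self], ?_⟩
    rw [AddSubgroupClass.coe_sub, Subring.coe_mul, Subring.coe_natCast, hc, lift_theta_sub, ← ht₀,
      lift_theta_apply]
  have hpA : ((p : ℕ) : A) = 0 := by
    rw [← map_natCast (algebraMap k A), CharP.cast_eq_zero, map_zero]
  have hker : RingHom.ker πA' = Ideal.span {((p : ℕ) : S ⧸ N)} := by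
    apply le_antisymm
    · intro x hx
      obtain ⟨s, rfl⟩ := Ideal.Quotient.mk_surjective x
      rw [RingHom.mem_ker, hπA'] at hx
      obtain ⟨t, ht⟩ := key s (hψ0 s hx)
      rw [ht]
      exact Ideal.mem_span_singleton.mpr ⟨t, rfl⟩
    · rw [Ideal.span_singleton_le_iff_mem, RingHom.mem_ker, map_natCast, hpA]
  refine ⟨S ⧸ N, inferInstance, ιA', πA', ?_, ?_, ?_, ?_⟩
  · -- flatness
    letI : Algebra (W2 p k) (S ⧸ N) := ιA'.toAlgebra
    have hsmul : ∀ m : S ⧸ N, (p : W2 p k) • m = (p : S ⧸ N) * m := by
      intro m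
      rw [Algebra.smul_def]
      change ιA' (p : W2 p k) * m = _
      rw [map_natCast]
    have : Module.Flat (W2 p k) (S ⧸ N) := by
      rw [flat_iff p k (S ⧸ N)]
      intro m hm
      obtain ⟨s, rfl⟩ := Ideal.Quotient.mk_surjective m
      rw [hsmul, ← map_natCast (Ideal.Quotient.mk N), ← map_mul, Ideal.Quotient.eq_zero_iff_mem,
        hN] at hm
      obtain ⟨c, hc, hsc⟩ := hm
      rw [Subring.coe_mul, Subring.coe_natCast, ← lift_theta_apply hB] at hsc
      have h1 : πB (s : B') = c := lift_theta_injective hB hsc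
      obtain ⟨a, ha⟩ := hS s
      have h2 : πB (s : B') = 0 := by
        have : a = 0 := by rw [← hr a, ha, h1, hc]
        rw [← ha, this, map_zero]
      obtain ⟨t, ht⟩ := key s h2
      exact ⟨t, by rw [hsmul, ht]⟩
    exact this
  · intro a
    obtain ⟨b', hb'⟩ := hB.surj (algebraMap A B a)
    refine ⟨Ideal.Quotient.mk N ⟨b', ⟨a, hb'.symm⟩⟩, ?_⟩
    rw [hπA']
    show r (πB b') = a
    rw [hb', hr]
  · rw [hker, ker_res, Ideal.map_span, Set.image_singleton, map_natCast]
  · ext w
    rw [RingHom.comp_apply, RingHom.comp_apply]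
    show πA' (Ideal.Quotient.mk N (ιS w)) = _
    rw [hπA', hιS, hcommB, IsScalarTower.algebraMap_apply k A B, hr]
    rfl

end Groth.Agent.S13143
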