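import Groth.Statements.S13144
import Groth.Agent.Lib.Helper20.Lift

set_option autoImplicit false
universe u
open FrobAlg

namespace Groth.Agent.S13144

open Groth.Agent.Lib.Helper20

/-- Let k be a perfect field of characteristic p, A → B a homomorphism of Noetherian k-algebras with an
A-linear retraction B → A, and A' → B' a homomorphism over W₂(k) between flat liftings of A and B
which reduces to A → B. If the Frobenius of B lifts to B' (a σ₂-semilinear ring endomorphism
reducing to the p-th power map), then the Frobenius of A lifts to A'. (The published statement is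
for an affine morphism whose map on structure sheaves splits linearly; the affine case with an
A-linear splitting is taken here.) -/
theorem result
    (p : ℕ) [Fact p.Prime] (k : Type u) [Field k] [CharP k p] [PerfectRing k p]
    (A B : Type u) [CommRing A] [CommRing B] [Algebra k A] [Algebra k B]
    [IsNoetherianRing A] [IsNoetherianRing B] [Algebra A B] [IsScalarTower k A B]
    (r : B →ₗ[A] A) (hr : ∀ a : A, r (algebraMap A B a) = a)
    (A' B' : Type u) [CommRing A'] [CommRing B']
    (ιA : FrobAlg.W2 p k →+* A') (πA : A' →+* A) (hA : FrobAlg.IsLift p k A A' ιA πA)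
    (ιB : FrobAlg.W2 p k →+* B') (πB : B' →+* B) (hB : FrobAlg.IsLift p k B B' ιB πB)
    (φ' : A' →+* B') (hφι : φ'.comp ιA = ιB) (hφπ : πB.comp φ' = (algebraMap A B).comp πA)
    (ΦB : B' →+* B') (hΦB : FrobAlg.IsFrobLift p k B B' ιB πB ΦB) :
    ∃ ΦA : A' →+* A', FrobAlg.IsFrobLift p k A A' ιA πA ΦA := by
  classical
  have hp : p.Prime := Fact.out
  have hφπ' : ∀ a', πB (φ' a') = algebraMap A B (πA a') := fun a' => RingHom.congr_fun hφπ a'
  have hφι' : ∀ w, φ' (ιA w) = ιB w := fun w => RingHom.congr_fun hφι w
  have hsemiB : ∀ w, ΦB (ιB w) = ιB (sigma p k w) := fun w => RingHom.congr_fun hΦB.semi w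
  have hcommA : ∀ w, πA (ιA w) = algebraMap k A (res p k w) := fun w => RingHom.congr_fun hA.comm w
  have hcommB : ∀ w, πB (ιB w) = algebraMap k B (res p k w) := fun w => RingHom.congr_fun hB.comm w
  -- the defect of `ΦB` from the `p`-th power map
  have hker : ∀ a' : A', πB (ΦB (φ' a') - (φ' a') ^ p) = 0 := by
    intro a'
    rw [map_sub, hΦB.red, map_pow, sub_self]
  choose δ hδ using fun a' => lift_exists_theta_of_pi_eq_zero hB _ (hker a')
  have hWB : ∀ a b : A', lift_theta hB (algebraMap A B (Wp p (πA a) (πA b))) =
      (p : B') * Wp p (φ' a) (φ' b) := by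
    intro a b
    have e : πB (Wp p (φ' a) (φ' b)) = algebraMap A B (Wp p (πA a) (πA b)) := by
      rw [map_Wp, map_Wp, hφπ', hφπ']
    rw [← e, lift_theta_apply]
  have hWA : ∀ a b : A', lift_theta hA (Wp p (πA a) (πA b)) = (p : A') * Wp p a b := by
    intro a b
    rw [← map_Wp, lift_theta_apply]
  have hδadd : ∀ a b : A', δ (a + b) = δ a + δ b - algebraMap A B (Wp p (πA a) (πA b)) := by
    intro a b
    apply lift_theta_injective hB
    rw [lift_theta_sub, lift_theta_add, ← hδ (a + b), ← hδ a, ← hδ b, hWB]
    simp only [map_add]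
    rw [add_pow_eq_Wp hp]
    ring
  have hδmul : ∀ a b : A', δ (a * b) =
      algebraMap A B (πA a) ^ p * δ b + algebraMap A B (πA b) ^ p * δ a := by
    intro a b
    apply lift_theta_injective hB
    have e1 : lift_theta hB (algebraMap A B (πA a) ^ p * δ b) = (φ' a) ^ p * lift_theta hB (δ b) := by
      rw [lift_mul_theta hB, map_pow, hφπ']
    have e2 : lift_theta hB (algebraMap A B (πA b) ^ p * δ a) = (φ' b) ^ p * lift_theta hB (δ a) := by
      rw [lift_mul_theta hB, map_pow, hφπ']
    have hzero : (ΦB (φ' a) - φ' a ^ p) * (ΦB (φ' b) - φ' b ^ p) = 0 := by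
      rw [hδ a, hδ b, lift_theta_mul_theta]
    rw [lift_theta_add, e1, e2, ← hδ (a * b), ← hδ a, ← hδ b]
    simp only [map_mul]
    linear_combination hzero
  have hδone : δ 1 = 0 := by
    apply lift_theta_injective hB
    rw [lift_theta_zero, ← hδ 1, map_one, map_one, one_pow, sub_self]
  have hδzero : δ 0 = 0 := by
    apply lift_theta_injective hB
    rw [lift_theta_zero, ← hδ 0, map_zero, map_zero, zero_pow hp.ne_zero, sub_zero]
  have hrlin : ∀ (x : A) (y : B), r (algebraMap A B x ^ p * y) = x ^ p * r y := by
    intro x y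
    rw [← map_pow, ← Algebra.smul_def, map_smul, smul_eq_mul]
  let ΦA : A' →+* A' :=
    { toFun := fun a => a ^ p + lift_theta hA (r (δ a))
      map_one' := by
        show (1 : A') ^ p + lift_theta hA (r (δ 1)) = 1
        rw [hδone, map_zero, lift_theta_zero, one_pow, add_zero]
      map_mul' := by
        intro a b
        show (a * b) ^ p + lift_theta hA (r (δ (a * b))) =
          (a ^ p + lift_theta hA (r (δ a))) * (b ^ p + lift_theta hA (r (δ b)))
        have e1 : lift_theta hA (πA a ^ p * r (δ b)) = a ^ p * lift_theta hA (r (δ b)) := by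
          rw [lift_mul_theta hA, map_pow]
        have e2 : lift_theta hA (πA b ^ p * r (δ a)) = b ^ p * lift_theta hA (r (δ a)) := by
          rw [lift_mul_theta hA, map_pow]
        have hzero := lift_theta_mul_theta hA (r (δ a)) (r (δ b))
        rw [hδmul, map_add, hrlin, hrlin, lift_theta_add, e1, e2]
        linear_combination (-1 : A') * hzero
      map_zero' := by
        show (0 : A') ^ p + lift_theta hA (r (δ 0)) = 0
        rw [hδzero, map_zero, lift_theta_zero, zero_pow hp.ne_zero, add_zero]
      map_add' := by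
        intro a b
        show (a + b) ^ p + lift_theta hA (r (δ (a + b))) =
          (a ^ p + lift_theta hA (r (δ a))) + (b ^ p + lift_theta hA (r (δ b)))
        rw [hδadd, map_sub, map_add, hr, lift_theta_sub, lift_theta_add, hWA, add_pow_eq_Wp hp]
        ring }
  have hΦA : ∀ a, ΦA a = a ^ p + lift_theta hA (r (δ a)) := fun a => rfl
  refine ⟨ΦA, hA, ?_, ?_⟩
  · ext w
    rw [RingHom.comp_apply, RingHom.comp_apply, hΦA]
    obtain ⟨v, hv⟩ := exists_sigma_eq p k w
    have hδι : δ (ιA w) = πB (ιB v) := by
      apply lift_theta_injective hB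
      rw [← hδ, lift_theta_apply, hφι', hsemiB, hv, map_add, map_pow, map_mul, map_natCast]
      ring
    rw [hδι, hcommB, IsScalarTower.algebraMap_apply k A B, hr, ← hcommA, lift_theta_apply, hv,
      map_add, map_pow, map_mul, map_natCast]
  · intro a
    rw [hΦA, map_add, map_pow, lift_pi_theta, add_zero]

end Groth.Agent.S13144
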