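import Groth.Statements.S13147
import Groth.Agent.Lib.Helper20.FrobLift

set_option autoImplicit false
universe u
open FrobAlg

namespace Groth.Agent.S13147

open Groth.Agent.Lib.Helper20

theorem main_nontrivial
    (p : ℕ) [Fact p.Prime] (k : Type u) [Field k] [CharP k p] [PerfectRing k p]
    (A : Type u) [CommRing A] [Algebra k A] [CharP A p] (φ : A →+ A)
    (hφ : ∀ a b : A, φ (a ^ p * b) = a * φ b) (hφ1 : φ 1 = 1) :
    FrobAlg.IsLift p k A (FrobAlg.W2 p A ⧸ FrobAlg.splitIdeal p A φ)
      ((Ideal.Quotient.mk (FrobAlg.splitIdeal p A φ)).comp (WittGrp.truncMap p 2 (algebraMap k A)))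
      (FrobAlg.splitRes p A φ) := by
  have hp : p.Prime := Fact.out
  have hpA : ((p : ℕ) : A) = 0 := CharP.cast_eq_zero A p
  have hW00 : Wp p (0 : A) 0 = 0 := Wp_zero_right p A 0
  -- the split ideal, described explicitly
  let J : Ideal (W2 p A) :=
    { carrier := {x | x.coeff 0 = 0 ∧ φ (x.coeff 1) = 0}
      zero_mem' := ⟨by rw [TruncatedWittVector.coeff_zero], by
        rw [TruncatedWittVector.coeff_zero, map_zero]⟩
      add_mem' := by
        rintro x y ⟨hx0, hx1⟩ ⟨hy0, hy1⟩
        refine ⟨by rw [w2_add_coeff_zero, hx0, hy0, add_zero], ?_⟩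
        rw [w2_add_coeff_one, hx0, hy0, hW00, sub_zero, map_add, hx1, hy1, add_zero]
      smul_mem' := by
        rintro c x ⟨hx0, hx1⟩
        refine ⟨by rw [smul_eq_mul, w2_mul_coeff_zero, hx0, mul_zero], ?_⟩
        rw [smul_eq_mul, w2_mul_coeff_one, hx0, zero_pow hp.ne_zero, mul_zero, add_zero, hpA,
          zero_mul, zero_mul, add_zero, hφ, hx1, mul_zero] }
  have hI : splitIdeal p A φ = J := by
    unfold splitIdeal
    have : {x : W2 p A | res p A x = 0 ∧ φ (x.coeff 1) = 0} = (J : Set (W2 p A)) := by
      ext x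
      simp only [Set.mem_ofPred_eq, res_apply]
      rfl
    rw [this, Ideal.span_eq]
  have hmem : ∀ x : W2 p A, x ∈ splitIdeal p A φ ↔ x.coeff 0 = 0 ∧ φ (x.coeff 1) = 0 := by
    intro x
    rw [hI]
    rfl
  have hres : ∀ x : W2 p A, splitRes p A φ (Ideal.Quotient.mk _ x) = x.coeff 0 := by
    intro x
    rw [← res_apply]
    rfl
  -- key: classes of vectors with vanishing zeroth component are multiples of `p`
  have key : ∀ x : W2 p A, x.coeff 0 = 0 →
      ∃ t : W2 p A ⧸ splitIdeal p A φ, Ideal.Quotient.mk _ x = (p : W2 p A ⧸ splitIdeal p A φ) * t := by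
    intro x hx0
    let y : W2 p A := mk2 p A (φ (x.coeff 1)) 0
    let z : W2 p A := mk2 p A 0 (x.coeff 1 - φ (x.coeff 1) ^ p)
    have hz : z ∈ splitIdeal p A φ := by
      rw [hmem]
      refine ⟨mk2_coeff_zero p A _ _, ?_⟩
      rw [mk2_coeff_one, map_sub]
      have := hφ (φ (x.coeff 1)) 1
      rw [mul_one, hφ1, mul_one] at this
      rw [this, sub_self]
    have hxyz : x = (p : W2 p A) * y + z := by
      apply w2_ext
      · rw [w2_add_coeff_zero, coeff_p_mul_zero, mk2_coeff_zero, add_zero, hx0]
      · rw [w2_add_coeff_one, coeff_p_mul_one, coeff_p_mul_zero, mk2_coeff_zero, mk2_coeff_zero,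
          mk2_coeff_one, hW00]
        ring
    refine ⟨Ideal.Quotient.mk _ y, ?_⟩
    rw [hxyz, map_add, map_mul, map_natCast, Ideal.Quotient.eq_zero_iff_mem.mpr hz, add_zero]
  have hker : RingHom.ker (splitRes p A φ) =
      Ideal.span {((p : ℕ) : W2 p A ⧸ splitIdeal p A φ)} := by
    apply le_antisymm
    · intro q hq
      obtain ⟨x, rfl⟩ := Ideal.Quotient.mk_surjective q
      rw [RingHom.mem_ker, hres] at hq
      obtain ⟨t, ht⟩ := key x hq
      rw [ht]
      exact Ideal.mem_span_singleton.mpr ⟨t, rfl⟩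
    · rw [Ideal.span_singleton_le_iff_mem, RingHom.mem_ker, map_natCast, hpA]
  refine ⟨?_, ?_, ?_, ?_⟩
  · -- flatness
    letI : Algebra (W2 p k) (W2 p A ⧸ splitIdeal p A φ) :=
      ((Ideal.Quotient.mk (splitIdeal p A φ)).comp (WittGrp.truncMap p 2 (algebraMap k A))).toAlgebra
    have hsmul : ∀ m : W2 p A ⧸ splitIdeal p A φ,
        (p : W2 p k) • m = (p : W2 p A ⧸ splitIdeal p A φ) * m := by
      intro m
      rw [Algebra.smul_def]
      change ((Ideal.Quotient.mk (splitIdeal p A φ)).comp (WittGrp.truncMap p 2 (algebraMap k A)))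
        (p : W2 p k) * m = _
      rw [map_natCast]
    have : Module.Flat (W2 p k) (W2 p A ⧸ splitIdeal p A φ) := by
      rw [flat_iff p k]
      intro m hm
      obtain ⟨x, rfl⟩ := Ideal.Quotient.mk_surjective m
      rw [hsmul, ← map_natCast (Ideal.Quotient.mk (splitIdeal p A φ)), ← map_mul,
        Ideal.Quotient.eq_zero_iff_mem, hmem, coeff_p_mul_one] at hm
      have hx0 : x.coeff 0 = 0 := by
        have := hφ (x.coeff 0) 1
        rw [mul_one, hφ1, mul_one, hm.2] at this
        exact this.symm
      obtain ⟨t, ht⟩ := key x hx0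
      exact ⟨t, by rw [hsmul, ht]⟩
    exact this
  · intro a
    refine ⟨Ideal.Quotient.mk _ (mk2 p A a 0), ?_⟩
    rw [hres, mk2_coeff_zero]
  · rw [hker, ker_res, Ideal.map_span, Set.image_singleton, map_natCast]
  · ext w
    rw [RingHom.comp_apply, RingHom.comp_apply, RingHom.comp_apply, hres, WittGrp.coeff_truncMap,
      res_apply]

/-- Let k be a perfect field of characteristic p and (A, φ) a k-algebra with a Frobenius splitting (φ
additive, φ(a^p b) = a φ(b), φ(1) = 1). The quotient of W₂(A) by the ideal generated by the Witt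
vectors (0, a) with φ(a) = 0 — the ring of twisted Witt vectors of (A, φ) — is a flat lifting of A
over W₂(k): flat over W₂(k), with reduction map onto A induced by (a₀, a₁) ↦ a₀ whose kernel is
generated by the maximal ideal of W₂(k). (The published statement also asserts that a morphism of
algebras with Frobenius splittings compatible with the splittings induces a ring map between these
quotients; that part is not stated here.) -/
theorem result
    (p : ℕ) [Fact p.Prime] (k : Type u) [Field k] [CharP k p] [PerfectRing k p]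
    (A : Type u) [CommRing A] [Algebra k A] (φ : A →+ A)
    (hφ : ∀ a b : A, φ (a ^ p * b) = a * φ b) (hφ1 : φ 1 = 1) :
    FrobAlg.IsLift p k A (FrobAlg.W2 p A ⧸ FrobAlg.splitIdeal p A φ)
      ((Ideal.Quotient.mk (FrobAlg.splitIdeal p A φ)).comp (WittGrp.truncMap p 2 (algebraMap k A)))
      (FrobAlg.splitRes p A φ) := by
  rcases subsingleton_or_nontrivial A with hA | hA
  · -- the zero ring
    haveI : Subsingleton (W2 p A) := by
      constructor
      intro x y
      apply w2_ext <;> exact Subsingleton.elim _ _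
    haveI : Subsingleton (W2 p A ⧸ splitIdeal p A φ) := by
      constructor
      intro x y
      obtain ⟨x, rfl⟩ := Ideal.Quotient.mk_surjective x
      obtain ⟨y, rfl⟩ := Ideal.Quotient.mk_surjective y
      rw [Subsingleton.elim x y]
    refine ⟨?_, ?_, ?_, ?_⟩
    · letI : Algebra (W2 p k) (W2 p A ⧸ splitIdeal p A φ) :=
        ((Ideal.Quotient.mk (splitIdeal p A φ)).comp (WittGrp.truncMap p 2 (algebraMap k A))).toAlgebra
      have : Module.Flat (W2 p k) (W2 p A ⧸ splitIdeal p A φ) := inferInstance
      exact this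
    · intro a
      exact ⟨0, Subsingleton.elim _ _⟩
    · ext x
      rw [Subsingleton.elim x 0]
      simp
    · ext w
      exact Subsingleton.elim _ _
  · haveI : CharP A p := charP_of_injective_algebraMap (algebraMap k A).injective p
    exact main_nontrivial p k A φ hφ hφ1

end Groth.Agent.S13147
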