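import Groth.Statements.S13148
import Groth.Agent.Lib.Helper19.NilSmoothLift
import Groth.Agent.Lib.Helper24.FrobLiftEtale
import Groth.Agent.Lib.Helper20.W2
import Groth.Agent.Lib.Helper20.Lift

set_option autoImplicit false
universe u
open FrobAlg

namespace Groth.Agent.S13148

/-- Over a perfect field k of characteristic p, every smooth affine scheme Spec A admits a flat lifting
over W₂(k) together with a lifting of Frobenius (not necessarily unique). -/
theorem result
    (p : ℕ) [Fact p.Prime] (k : Type u) [Field k] [CharP k p] [PerfectRing k p]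
    (A : Type u) [CommRing A] [Algebra k A] [Algebra.Smooth k A] :
    FrobAlg.IsFLiftable p k A := by
  classical
  obtain ⟨I, hIdef⟩ : ∃ I : Ideal (FrobAlg.W2 p k), I = RingHom.ker (FrobAlg.res p k) := ⟨_, rfl⟩
  have hres_surj : Function.Surjective (FrobAlg.res p k) := by
    intro a
    exact ⟨WittVector.truncate 2 (WittVector.teichmuller p a), by
      rw [FrobAlg.res_truncate, WittVector.teichmuller_coeff_zero]⟩
  have hIspan : I = Ideal.span {(p : FrobAlg.W2 p k)} := by
    rw [hIdef]; exact Groth.Agent.Lib.Helper20.ker_res p k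
  have hIsq : I ^ 2 = 0 := by
    rw [hIspan, Ideal.span_singleton_pow, pow_two, Groth.Agent.Lib.Helper20.p_mul_p p k]
    simp
  obtain ⟨φ, hφ⟩ : ∃ φ : (FrobAlg.W2 p k ⧸ I) →+* k,
      ∀ w, φ (Ideal.Quotient.mk I w) = FrobAlg.res p k w :=
    ⟨Ideal.Quotient.lift I (FrobAlg.res p k) (fun w hw => by rw [hIdef] at hw; exact hw),
      fun _ => rfl⟩
  have hφbij : Function.Bijective φ := by
    constructor
    · rw [injective_iff_map_eq_zero]
      intro x hx
      obtain ⟨w, rfl⟩ := Ideal.Quotient.mk_surjective x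
      rw [hφ] at hx
      exact Ideal.Quotient.eq_zero_iff_mem.2 (by rw [hIdef]; exact hx)
    · intro a
      obtain ⟨w, hw⟩ := hres_surj a
      exact ⟨Ideal.Quotient.mk I w, by rw [hφ, hw]⟩
  letI algWk : Algebra (FrobAlg.W2 p k ⧸ I) k := φ.toAlgebra
  letI algWA : Algebra (FrobAlg.W2 p k ⧸ I) A := ((algebraMap k A).comp φ).toAlgebra
  haveI : IsScalarTower (FrobAlg.W2 p k ⧸ I) k A := IsScalarTower.of_algebraMap_eq (fun _ => rfl)
  haveI : Algebra.Smooth (FrobAlg.W2 p k ⧸ I) k := by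
    let eq : (FrobAlg.W2 p k ⧸ I) ≃ₐ[FrobAlg.W2 p k ⧸ I] k :=
      AlgEquiv.ofRingEquiv (f := RingEquiv.ofBijective φ hφbij) (fun x => rfl)
    exact Algebra.Smooth.of_equiv eq
  haveI : Algebra.Smooth (FrobAlg.W2 p k ⧸ I) A := Algebra.Smooth.comp (FrobAlg.W2 p k ⧸ I) k A
  obtain ⟨B, _, _, hBsm, ⟨Θ⟩⟩ :=
    Groth.Agent.Lib.Helper19.NilSmoothLift.exists_smooth_lift_of_nilpotent
      (R := FrobAlg.W2 p k) I ⟨2, hIsq⟩ (A₀ := A)
  haveI : Algebra.FormallySmooth (FrobAlg.W2 p k) B := hBsm.formallySmooth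
  obtain ⟨π, hπ⟩ : ∃ π : B →+* A,
      ∀ b, π b = Θ (Ideal.Quotient.mk (I.map (algebraMap (FrobAlg.W2 p k) B)) b) :=
    ⟨Θ.toAlgHom.toRingHom.comp (Ideal.Quotient.mk _), fun _ => rfl⟩
  have hπsurj : Function.Surjective π := by
    intro a
    obtain ⟨y, rfl⟩ := Θ.surjective a
    obtain ⟨b, rfl⟩ := Ideal.Quotient.mk_surjective y
    exact ⟨b, hπ b⟩
  have hπker : RingHom.ker π =
      Ideal.map (algebraMap (FrobAlg.W2 p k) B) (RingHom.ker (FrobAlg.res p k)) := by
    rw [← hIdef]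
    ext b
    rw [RingHom.mem_ker, hπ, map_eq_zero_iff Θ Θ.injective, Ideal.Quotient.eq_zero_iff_mem]
  have hcomm : π.comp (algebraMap (FrobAlg.W2 p k) B) =
      (algebraMap k A).comp (FrobAlg.res p k) := by
    ext w
    simp only [RingHom.comp_apply]
    rw [hπ, ← hφ w]
    exact Θ.commutes (Ideal.Quotient.mk I w)
  have hflat : (algebraMap (FrobAlg.W2 p k) B).Flat := by
    rw [RingHom.flat_algebraMap_iff]
    infer_instance
  have hpA : (p : A) = 0 := by
    rw [← map_natCast (algebraMap k A), CharP.cast_eq_zero, map_zero]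
  have hπnil : IsNilpotent (RingHom.ker π) := by
    refine ⟨2, ?_⟩
    rw [hπker, ← hIdef, ← Ideal.map_pow, hIsq]
    simp
  have h1 : ∀ w', π (algebraMap (FrobAlg.W2 p k) B w') = algebraMap k A (FrobAlg.res p k w') :=
    fun w' => RingHom.congr_fun hcomm w'
  have hg : ((Groth.Agent.Lib.Helper24.FrobLiftEtale.powHom p A hpA).comp π).comp
      (algebraMap (FrobAlg.W2 p k) B) =
      π.comp ((algebraMap (FrobAlg.W2 p k) B).comp (FrobAlg.sigma p k)) := by
    ext w
    simp only [RingHom.comp_apply, Groth.Agent.Lib.Helper24.FrobLiftEtale.powHom_apply]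
    rw [h1, h1]
    obtain ⟨v, hv⟩ := Groth.Agent.Lib.Helper20.exists_sigma_eq p k w
    rw [hv, map_add, map_pow, map_mul, map_natCast, CharP.cast_eq_zero, zero_mul, add_zero,
      map_pow]
  obtain ⟨Φ, hΦ1, hΦ2⟩ := Groth.Agent.Lib.Helper24.FrobLiftEtale.exists_lift_ringHom
    (R := FrobAlg.W2 p k) (S := B) π hπsurj hπnil
    ((algebraMap (FrobAlg.W2 p k) B).comp (FrobAlg.sigma p k))
    ((Groth.Agent.Lib.Helper24.FrobLiftEtale.powHom p A hpA).comp π) hg
  refine ⟨B, inferInstance, algebraMap (FrobAlg.W2 p k) B, π, Φ, ?_⟩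
  refine { toIsLift := ⟨hflat, hπsurj, hπker, hcomm⟩, semi := hΦ1, red := ?_ }
  intro b
  have := RingHom.congr_fun hΦ2 b
  simpa [Groth.Agent.Lib.Helper24.FrobLiftEtale.powHom_apply] using this

end Groth.Agent.S13148
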