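import Mathlib
import Groth.Statements.S13149


set_option autoImplicit false
universe u
open CAlg

namespace Aux13149

def mk3 {K : Type*} (a b c : K) : Fin 3 → K := ![a, b, c]

@[simp] theorem mk3_zero {K : Type*} (a b c : K) : mk3 a b c 0 = a := rfl
@[simp] theorem mk3_one {K : Type*} (a b c : K) : mk3 a b c 1 = b := rfl
@[simp] theorem mk3_two {K : Type*} (a b c : K) : mk3 a b c 2 = c := rfl

theorem mk3_ext {K : Type*} {a b c a' b' c' : K} (h0 : a = a') (h1 : b = b') (h2 : c = c') :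
    mk3 a b c = mk3 a' b' c' := by rw [h0, h1, h2]

theorem forall_fin3 {P : Fin 3 → Prop} (h0 : P 0) (h1 : P 1) (h2 : P 2) : ∀ i, P i := by
  intro i
  fin_cases i
  exacts [h0, h1, h2]

def dot3 {K : Type*} [CommRing K] (v n : Fin 3 → K) : K := v 0 * n 0 + v 1 * n 1 + v 2 * n 2

def cr {K : Type*} [CommRing K] (a b : Fin 3 → K) : Fin 3 → K :=
  mk3 (a 1 * b 2 - a 2 * b 1) (a 2 * b 0 - a 0 * b 2) (a 0 * b 1 - a 1 * b 0)

def det3 {K : Type*} [CommRing K] (u v w : Fin 3 → K) : K :=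
  u 0 * v 1 * w 2 - u 0 * v 2 * w 1 - u 1 * v 0 * w 2 + u 1 * v 2 * w 0
    + u 2 * v 0 * w 1 - u 2 * v 1 * w 0

theorem det_eq {K : Type*} [CommRing K] (u v w : Fin 3 → K) :
    Matrix.det (Matrix.of ![u, v, w]) = det3 u v w := by
  rw [Matrix.det_fin_three]
  rfl

theorem dot_eq {K : Type*} [CommRing K] (v n : Fin 3 → K) : dotProduct v n = dot3 v n := by
  simp [dotProduct, Fin.sum_univ_three, dot3]

variable {A : Type u} [CommRing A]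

def Tm (P1 P2 P3 : Fin 3 → A) (a b c : A) (v : Fin 3 → A) : Fin 3 → A :=
  mk3 (det3 v P2 P3 * (b * c)) (det3 P1 v P3 * (a * c)) (det3 P1 P2 v * (a * b))

def Ts (P1 P2 P3 : Fin 3 → A) (a b c : A) (n : Fin 3 → A) : Fin 3 → A :=
  mk3 (a * dot3 P1 n) (b * dot3 P2 n) (c * dot3 P3 n)

macro "m3" : tactic =>
  `(tactic| (simp only [mk3_zero, mk3_one, mk3_two, det3, dot3, cr, Tm, Ts] <;> ring))

def Prim (v : Fin 3 → A) : Prop := ∃ i, IsUnit (v i)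

def Sim (x y : Fin 3 → A) : Prop := ∃ t, IsUnit t ∧ ∀ i, x i = t * y i

theorem dot3_comm (v n : Fin 3 → A) : dot3 v n = dot3 n v := by
  simp only [dot3]; ring

theorem sim_dot {x y n : Fin 3 → A} (h : Sim x y) (hx : dot3 x n = 0) : dot3 y n = 0 := by
  obtain ⟨t, ht, hxy⟩ := h
  have e : dot3 x n = t * dot3 y n := by
    simp only [dot3, hxy]; ring
  rw [e] at hx
  exact ht.mul_right_eq_zero.1 hx

theorem dot_of_smul {v l n : Fin 3 → A} {s : A} (hs : IsUnit s) (hl : ∀ i, l i = s * n i)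
    (h : dot3 v l = 0) : dot3 v n = 0 := by
  have e : dot3 v l = s * dot3 v n := by
    simp only [dot3, hl]; ring
  rw [e] at h
  exact hs.mul_right_eq_zero.1 h

theorem cross_unique {a b v : Fin 3 → A} (hc : Prim (cr a b)) (hva : dot3 v a = 0)
    (hvb : dot3 v b = 0) : ∃ t, ∀ i, v i = t * cr a b i := by
  have hva' : v 0 * a 0 + v 1 * a 1 + v 2 * a 2 = 0 := hva
  have hvb' : v 0 * b 0 + v 1 * b 1 + v 2 * b 2 = 0 := hvb
  have c0 : cr a b 0 = a 1 * b 2 - a 2 * b 1 := rfl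
  have c1 : cr a b 1 = a 2 * b 0 - a 0 * b 2 := rfl
  have c2 : cr a b 2 = a 0 * b 1 - a 1 * b 0 := rfl
  have e0 : v 1 * cr a b 2 = v 2 * cr a b 1 := by
    rw [c2, c1]; linear_combination (a 0) * hvb' - (b 0) * hva'
  have e1 : v 2 * cr a b 0 = v 0 * cr a b 2 := by
    rw [c0, c2]; linear_combination (a 1) * hvb' - (b 1) * hva'
  have e2 : v 0 * cr a b 1 = v 1 * cr a b 0 := by
    rw [c1, c0]; linear_combination (a 2) * hvb' - (b 2) * hva'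
  have sym : ∀ i j : Fin 3, v i * cr a b j = v j * cr a b i := by
    intro i j
    fin_cases i <;> fin_cases j
    · rfl
    · exact e2
    · exact e1.symm
    · exact e2.symm
    · rfl
    · exact e0
    · exact e1
    · exact e0.symm
    · rfl
  obtain ⟨k, hk⟩ := hc
  obtain ⟨uk, huk⟩ := hk
  refine ⟨v k * ↑uk⁻¹, fun i => ?_⟩
  calc v i = v i * cr a b k * ↑uk⁻¹ := by rw [← huk, mul_assoc, Units.mul_inv, mul_one]
    _ = v k * cr a b i * ↑uk⁻¹ := by rw [sym i k]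
    _ = v k * ↑uk⁻¹ * cr a b i := by ring

theorem step {p : ℕ} (ρ : (Fin 3 → ZMod p) → (Fin 3 → A))
    (hpt : ∀ v, v ≠ 0 → Prim (ρ v))
    (hcol : ∀ u v w, u ≠ 0 → v ≠ 0 → w ≠ 0 → det3 u v w = 0 →
      ∃ n, Prim n ∧ dot3 (ρ u) n = 0 ∧ dot3 (ρ v) n = 0 ∧ dot3 (ρ w) n = 0)
    {Q1 Q2 Q3 Q4 P : Fin 3 → ZMod p} {q1 q2 q3 q4 n n' r : Fin 3 → A}
    (hQ1 : Q1 ≠ 0) (hQ2 : Q2 ≠ 0) (hQ3 : Q3 ≠ 0) (hQ4 : Q4 ≠ 0) (hP : P ≠ 0)
    (d1 : det3 Q1 Q2 P = 0) (d2 : det3 Q3 Q4 P = 0)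
    (h1 : Sim (ρ Q1) q1) (h2 : Sim (ρ Q2) q2) (h3 : Sim (ρ Q3) q3) (h4 : Sim (ρ Q4) q4)
    (hn : cr q1 q2 = n) (hn' : cr q3 q4 = n') (hr : cr n n' = r)
    (pn : Prim n) (pn' : Prim n') (pr : Prim r) : Sim (ρ P) r := by
  have key : ∀ {Qa Qb : Fin 3 → ZMod p} {qa qb m : Fin 3 → A}, Qa ≠ 0 → Qb ≠ 0 →
      det3 Qa Qb P = 0 → Sim (ρ Qa) qa → Sim (ρ Qb) qb → cr qa qb = m → Prim m →
      dot3 (ρ P) m = 0 := by
    intro Qa Qb qa qb m hQa hQb d ha hb hm pm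
    obtain ⟨l, hl, la, lb, lP⟩ := hcol Qa Qb P hQa hQb hP d
    have la' : dot3 l qa = 0 := by rw [dot3_comm]; exact sim_dot ha la
    have lb' : dot3 l qb = 0 := by rw [dot3_comm]; exact sim_dot hb lb
    subst hm
    obtain ⟨s, hs⟩ := cross_unique pm la' lb'
    have hsu : IsUnit s := by
      obtain ⟨i, hi⟩ := hl
      rw [hs i] at hi
      exact isUnit_of_mul_isUnit_left hi
    exact dot_of_smul hsu hs lP
  have e1 := key hQ1 hQ2 d1 h1 h2 hn pn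
  have e2 := key hQ3 hQ4 d2 h3 h4 hn' pn'
  subst hr
  obtain ⟨t, ht⟩ := cross_unique pr e1 e2
  refine ⟨t, ?_, ht⟩
  obtain ⟨i, hi⟩ := hpt P hP
  rw [ht i] at hi
  exact isUnit_of_mul_isUnit_left hi

theorem normalized {p : ℕ} [Fact p.Prime] (ρ : (Fin 3 → ZMod p) → (Fin 3 → A))
    (hpt : ∀ v, v ≠ 0 → Prim (ρ v))
    (hcol : ∀ u v w, u ≠ 0 → v ≠ 0 → w ≠ 0 → det3 u v w = 0 →
      ∃ n, Prim n ∧ dot3 (ρ u) n = 0 ∧ dot3 (ρ v) n = 0 ∧ dot3 (ρ w) n = 0)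
    (h1 : Sim (ρ (mk3 1 0 0)) (mk3 1 0 0)) (h2 : Sim (ρ (mk3 0 1 0)) (mk3 0 1 0))
    (h3 : Sim (ρ (mk3 0 0 1)) (mk3 0 0 1)) (hU : Sim (ρ (mk3 1 1 1)) (mk3 1 1 1)) :
    (p : A) = 0 := by
  have ne0 : ∀ (b c : ZMod p), mk3 1 b c ≠ 0 := fun b c h => one_ne_zero (congrFun h 0)
  have ne1 : ∀ (a c : ZMod p), mk3 a 1 c ≠ 0 := fun a c h => one_ne_zero (congrFun h 1)
  have ne2 : ∀ (a b : ZMod p), mk3 a b 1 ≠ 0 := fun a b h => one_ne_zero (congrFun h 2)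
  -- D = (1,1,0)
  have hD : Sim (ρ (mk3 1 1 0)) (mk3 1 1 0) :=
    step ρ hpt hcol (Q1 := mk3 0 0 1) (Q2 := mk3 1 1 1) (Q3 := mk3 1 0 0) (Q4 := mk3 0 1 0)
      (P := mk3 1 1 0)
      (q1 := mk3 0 0 1) (q2 := mk3 1 1 1) (q3 := mk3 1 0 0) (q4 := mk3 0 1 0)
      (n := mk3 (-1) 1 0) (n' := mk3 0 0 1) (r := mk3 1 1 0)
      (ne2 _ _) (ne0 _ _) (ne0 _ _) (ne1 _ _) (ne0 _ _)
      (by m3) (by m3) h3 hU h1 h2
      (mk3_ext (by m3) (by m3) (by m3)) (mk3_ext (by m3) (by m3) (by m3))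
      (mk3_ext (by m3) (by m3) (by m3))
      ⟨1, isUnit_one⟩ ⟨2, isUnit_one⟩ ⟨0, isUnit_one⟩
  -- F = (0,1,1)
  have hF : Sim (ρ (mk3 0 1 1)) (mk3 0 1 1) :=
    step ρ hpt hcol (Q1 := mk3 1 0 0) (Q2 := mk3 1 1 1) (Q3 := mk3 0 1 0) (Q4 := mk3 0 0 1)
      (P := mk3 0 1 1)
      (q1 := mk3 1 0 0) (q2 := mk3 1 1 1) (q3 := mk3 0 1 0) (q4 := mk3 0 0 1)
      (n := mk3 0 (-1) 1) (n' := mk3 1 0 0) (r := mk3 0 1 1)
      (ne0 _ _) (ne0 _ _) (ne1 _ _) (ne2 _ _) (ne1 _ _)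
      (by m3) (by m3) h1 hU h2 h3
      (mk3_ext (by m3) (by m3) (by m3)) (mk3_ext (by m3) (by m3) (by m3))
      (mk3_ext (by m3) (by m3) (by m3))
      ⟨2, isUnit_one⟩ ⟨0, isUnit_one⟩ ⟨1, isUnit_one⟩
  -- C' = (-1,0,1)
  have hC : Sim (ρ (mk3 (-1) 0 1)) (mk3 (-1) 0 1) :=
    step ρ hpt hcol (Q1 := mk3 1 0 0) (Q2 := mk3 0 0 1) (Q3 := mk3 1 1 0) (Q4 := mk3 0 1 1)
      (P := mk3 (-1) 0 1)
      (q1 := mk3 1 0 0) (q2 := mk3 0 0 1) (q3 := mk3 1 1 0) (q4 := mk3 0 1 1)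
      (n := mk3 0 (-1) 0) (n' := mk3 1 (-1) 1) (r := mk3 (-1) 0 1)
      (ne0 _ _) (ne2 _ _) (ne0 _ _) (ne1 _ _) (ne2 _ _)
      (by m3) (by m3) h1 h3 hD hF
      (mk3_ext (by m3) (by m3) (by m3)) (mk3_ext (by m3) (by m3) (by m3))
      (mk3_ext (by m3) (by m3) (by m3))
      ⟨1, isUnit_one.neg⟩ ⟨0, isUnit_one⟩ ⟨2, isUnit_one⟩
  have hX : ∀ k : ℕ, Sim (ρ (mk3 (k : ZMod p) 1 0)) (mk3 (k : A) 1 0) := by
    intro k
    induction k with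
    | zero =>
      rw [Nat.cast_zero, Nat.cast_zero]; exact h2
    | succ k ih =>
      have hY : Sim (ρ (mk3 (k : ZMod p) 1 1)) (mk3 (k : A) 1 1) :=
        step ρ hpt hcol (Q1 := mk3 0 0 1) (Q2 := mk3 (k : ZMod p) 1 0) (Q3 := mk3 1 0 0)
          (Q4 := mk3 1 1 1) (P := mk3 (k : ZMod p) 1 1)
          (q1 := mk3 0 0 1) (q2 := mk3 (k : A) 1 0) (q3 := mk3 1 0 0) (q4 := mk3 1 1 1)
          (n := mk3 (-1) (k : A) 0) (n' := mk3 0 (-1) 1) (r := mk3 (k : A) 1 1)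
          (ne2 _ _) (ne1 _ _) (ne0 _ _) (ne0 _ _) (ne1 _ _)
          (by m3) (by m3) h3 ih h1 hU
          (mk3_ext (by m3) (by m3) (by m3)) (mk3_ext (by m3) (by m3) (by m3))
          (mk3_ext (by m3) (by m3) (by m3))
          ⟨0, isUnit_one.neg⟩ ⟨2, isUnit_one⟩ ⟨1, isUnit_one⟩
      have hX' : Sim (ρ (mk3 ((k : ZMod p) + 1) 1 0)) (mk3 ((k : A) + 1) 1 0) :=
        step ρ hpt hcol (Q1 := mk3 (-1) 0 1) (Q2 := mk3 (k : ZMod p) 1 1) (Q3 := mk3 1 0 0)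
          (Q4 := mk3 0 1 0) (P := mk3 ((k : ZMod p) + 1) 1 0)
          (q1 := mk3 (-1) 0 1) (q2 := mk3 (k : A) 1 1) (q3 := mk3 1 0 0) (q4 := mk3 0 1 0)
          (n := mk3 (-1) ((k : A) + 1) (-1)) (n' := mk3 0 0 1) (r := mk3 ((k : A) + 1) 1 0)
          (ne2 _ _) (ne1 _ _) (ne0 _ _) (ne1 _ _) (ne1 _ _)
          (by m3) (by m3) hC hY h1 h2
          (mk3_ext (by m3) (by m3) (by m3)) (mk3_ext (by m3) (by m3) (by m3))
          (mk3_ext (by m3) (by m3) (by m3))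
          ⟨0, isUnit_one.neg⟩ ⟨2, isUnit_one⟩ ⟨1, isUnit_one⟩
      rw [Nat.cast_succ, Nat.cast_succ]; exact hX'
  have hp := hX p
  rw [ZMod.natCast_self] at hp
  obtain ⟨t, ht, ht'⟩ := hp
  obtain ⟨s, hs, hs'⟩ := h2
  have e := ht' 0
  have e' := hs' 0
  simp only [mk3_zero] at e e'
  rw [e, mul_zero] at e'
  exact ht.mul_right_eq_zero.1 e'

theorem prim_of_combo [IsLocalRing A] {v w α β γ : Fin 3 → A} {d : A} (hd : IsUnit d)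
    (hv : Prim v) (h : ∀ i, d * v i = w 0 * α i + w 1 * β i + w 2 * γ i) : Prim w := by
  obtain ⟨i, hi⟩ := hv
  have h2 : IsUnit (w 0 * α i + w 1 * β i + w 2 * γ i) := by
    rw [← h i]; exact hd.mul hi
  rcases IsLocalRing.isUnit_or_isUnit_of_isUnit_add h2 with h3 | h3
  · rcases IsLocalRing.isUnit_or_isUnit_of_isUnit_add h3 with h4 | h4
    · exact ⟨0, isUnit_of_mul_isUnit_left h4⟩
    · exact ⟨1, isUnit_of_mul_isUnit_left h4⟩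
  · exact ⟨2, isUnit_of_mul_isUnit_left h3⟩

theorem Tm_cramer (P1 P2 P3 : Fin 3 → A) (a b c : A) (v : Fin 3 → A) :
    ∀ i, a * b * c * det3 P1 P2 P3 * v i =
      Tm P1 P2 P3 a b c v 0 * (a * P1 i) + Tm P1 P2 P3 a b c v 1 * (b * P2 i)
        + Tm P1 P2 P3 a b c v 2 * (c * P3 i) := by
  refine forall_fin3 ?_ ?_ ?_ <;> m3

theorem Ts_cramer (P1 P2 P3 : Fin 3 → A) (a b c : A) (n : Fin 3 → A) :
    ∀ i, a * b * c * det3 P1 P2 P3 * n i =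
      Ts P1 P2 P3 a b c n 0 * (b * c * cr P2 P3 i) + Ts P1 P2 P3 a b c n 1 * (a * c * cr P3 P1 i)
        + Ts P1 P2 P3 a b c n 2 * (a * b * cr P1 P2 i) := by
  refine forall_fin3 ?_ ?_ ?_ <;> m3

theorem Tm_dot (P1 P2 P3 : Fin 3 → A) (a b c : A) (v n : Fin 3 → A) :
    dot3 (Tm P1 P2 P3 a b c v) (Ts P1 P2 P3 a b c n) = a * b * c * det3 P1 P2 P3 * dot3 v n := by
  m3

theorem general {p : ℕ} [Fact p.Prime] [IsLocalRing A] (ρ : (Fin 3 → ZMod p) → (Fin 3 → A))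
    (hpt : ∀ v, v ≠ 0 → Prim (ρ v))
    (hcol : ∀ u v w, u ≠ 0 → v ≠ 0 → w ≠ 0 → det3 u v w = 0 →
      ∃ n, Prim n ∧ dot3 (ρ u) n = 0 ∧ dot3 (ρ v) n = 0 ∧ dot3 (ρ w) n = 0)
    (hΔ : IsUnit (det3 (ρ (mk3 1 0 0)) (ρ (mk3 0 1 0)) (ρ (mk3 0 0 1))))
    (ha : IsUnit (det3 (ρ (mk3 1 1 1)) (ρ (mk3 0 1 0)) (ρ (mk3 0 0 1))))
    (hb : IsUnit (det3 (ρ (mk3 1 0 0)) (ρ (mk3 1 1 1)) (ρ (mk3 0 0 1))))
    (hc : IsUnit (det3 (ρ (mk3 1 0 0)) (ρ (mk3 0 1 0)) (ρ (mk3 1 1 1)))) : (p : A) = 0 := by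
  obtain ⟨P1, hP1⟩ : ∃ P1, ρ (mk3 1 0 0) = P1 := ⟨_, rfl⟩
  obtain ⟨P2, hP2⟩ : ∃ P2, ρ (mk3 0 1 0) = P2 := ⟨_, rfl⟩
  obtain ⟨P3, hP3⟩ : ∃ P3, ρ (mk3 0 0 1) = P3 := ⟨_, rfl⟩
  obtain ⟨P4, hP4⟩ : ∃ P4, ρ (mk3 1 1 1) = P4 := ⟨_, rfl⟩
  rw [hP1, hP2, hP3] at hΔ
  rw [hP4, hP2, hP3] at ha
  rw [hP1, hP4, hP3] at hb
  rw [hP1, hP2, hP4] at hc
  obtain ⟨a, hae⟩ : ∃ a, det3 P4 P2 P3 = a := ⟨_, rfl⟩
  obtain ⟨b, hbe⟩ : ∃ b, det3 P1 P4 P3 = b := ⟨_, rfl⟩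
  obtain ⟨c, hce⟩ : ∃ c, det3 P1 P2 P4 = c := ⟨_, rfl⟩
  rw [hae] at ha
  rw [hbe] at hb
  rw [hce] at hc
  have hd : IsUnit (a * b * c * det3 P1 P2 P3) := ((ha.mul hb).mul hc).mul hΔ
  refine normalized (fun u => Tm P1 P2 P3 a b c (ρ u)) ?_ ?_ ?_ ?_ ?_ ?_
  · intro v hv
    exact prim_of_combo hd (hpt v hv) (Tm_cramer P1 P2 P3 a b c (ρ v))
  · intro u v w hu hv hw h
    obtain ⟨n, hn, e1, e2, e3⟩ := hcol u v w hu hv hw h
    refine ⟨Ts P1 P2 P3 a b c n, prim_of_combo hd hn (Ts_cramer P1 P2 P3 a b c n), ?_, ?_, ?_⟩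
    · rw [Tm_dot, e1, mul_zero]
    · rw [Tm_dot, e2, mul_zero]
    · rw [Tm_dot, e3, mul_zero]
  · show Sim (Tm P1 P2 P3 a b c (ρ (mk3 1 0 0))) (mk3 1 0 0)
    rw [hP1]
    exact ⟨det3 P1 P2 P3 * (b * c), hΔ.mul (hb.mul hc), forall_fin3 (by m3) (by m3) (by m3)⟩
  · show Sim (Tm P1 P2 P3 a b c (ρ (mk3 0 1 0))) (mk3 0 1 0)
    rw [hP2]
    exact ⟨det3 P1 P2 P3 * (a * c), hΔ.mul (ha.mul hc), forall_fin3 (by m3) (by m3) (by m3)⟩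
  · show Sim (Tm P1 P2 P3 a b c (ρ (mk3 0 0 1))) (mk3 0 0 1)
    rw [hP3]
    exact ⟨det3 P1 P2 P3 * (a * b), hΔ.mul (ha.mul hb), forall_fin3 (by m3) (by m3) (by m3)⟩
  · show Sim (Tm P1 P2 P3 a b c (ρ (mk3 1 1 1))) (mk3 1 1 1)
    rw [hP4]
    refine ⟨a * b * c, (ha.mul hb).mul hc, forall_fin3 ?_ ?_ ?_⟩
    · simp only [Tm, mk3_zero, hae]; ring
    · simp only [Tm, mk3_one, hbe]; ring
    · simp only [Tm, mk3_two, hce]; ring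

theorem main
    (p : ℕ) [Fact p.Prime] (A : Type u) [CommRing A] [IsLocalRing A]
    (ρ : (Fin 3 → ZMod p) → (Fin 3 → A))
    (hpt : ∀ v : Fin 3 → ZMod p, v ≠ 0 → ∃ i, IsUnit (ρ v i))
    (hcol : ∀ u v w : Fin 3 → ZMod p, u ≠ 0 → v ≠ 0 → w ≠ 0 →
      Matrix.det (Matrix.of ![u, v, w]) = 0 →
      ∃ n : Fin 3 → A, (∃ i, IsUnit (n i)) ∧
        dotProduct (ρ u) n = 0 ∧ dotProduct (ρ v) n = 0 ∧ dotProduct (ρ w) n = 0)
    (hgen : IsUnit (Matrix.det (Matrix.of ![ρ (Pi.single 0 1), ρ (Pi.single 1 1), ρ (Pi.single 2 1)])) ∧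
      IsUnit (Matrix.det (Matrix.of ![ρ (Pi.single 0 1), ρ (Pi.single 1 1), ρ (fun _ => 1)])) ∧
      IsUnit (Matrix.det (Matrix.of ![ρ (Pi.single 0 1), ρ (Pi.single 2 1), ρ (fun _ => 1)])) ∧
      IsUnit (Matrix.det (Matrix.of ![ρ (Pi.single 1 1), ρ (Pi.single 2 1), ρ (fun _ => 1)]))) :
    (p : A) = 0 := by
  have e1 : (Pi.single 0 1 : Fin 3 → ZMod p) = mk3 1 0 0 := by
    funext i; fin_cases i <;> simp [mk3]
  have e2 : (Pi.single 1 1 : Fin 3 → ZMod p) = mk3 0 1 0 := by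
    funext i; fin_cases i <;> simp [mk3]
  have e3 : (Pi.single 2 1 : Fin 3 → ZMod p) = mk3 0 0 1 := by
    funext i; fin_cases i <;> simp [mk3]
  have e4 : ((fun _ => 1) : Fin 3 → ZMod p) = mk3 1 1 1 := by
    funext i; fin_cases i <;> rfl
  rw [e1, e2, e3, e4] at hgen
  simp only [det_eq] at hgen
  obtain ⟨g1, g2, g3, g4⟩ := hgen
  refine general ρ (fun v hv => hpt v hv) ?_ g1 ?_ ?_ g2
  · intro u v w hu hv hw h
    obtain ⟨n, hn, h1, h2, h3⟩ := hcol u v w hu hv hw (by rw [det_eq]; exact h)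
    rw [dot_eq] at h1 h2 h3
    exact ⟨n, hn, h1, h2, h3⟩
  · have e : det3 (ρ (mk3 1 1 1)) (ρ (mk3 0 1 0)) (ρ (mk3 0 0 1))
        = det3 (ρ (mk3 0 1 0)) (ρ (mk3 0 0 1)) (ρ (mk3 1 1 1)) := by
      simp only [det3]; ring
    rw [e]; exact g4
  · have e : det3 (ρ (mk3 1 0 0)) (ρ (mk3 1 1 1)) (ρ (mk3 0 0 1))
        = - det3 (ρ (mk3 1 0 0)) (ρ (mk3 0 0 1)) (ρ (mk3 1 1 1)) := by
      simp only [det3]; ring
    rw [e]; exact g3.neg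

end Aux13149

namespace Groth.Agent.S13149

/-- Let A be a local ring and ρ a map from the points of the projective plane over F_p to the points of
the projective plane over A (vectors with a unit coordinate, up to units) taking collinear triples
to collinear triples (three points are collinear when a vector with a unit coordinate is orthogonal
to all three). If ρ sends the standard frame (1:0:0), (0:1:0), (0:0:1), (1:1:1) to four points in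
general position, then p = 0 in A. (The published statement asks only that ρ preserve collinearity;
a constant map does so over any ring, and the published argument begins by moving the images of the
standard frame to the standard frame, which needs them in general position — that condition is made
a hypothesis here.) -/
theorem result
    (p : ℕ) [Fact p.Prime] (A : Type u) [CommRing A] [IsLocalRing A]
    (ρ : (Fin 3 → ZMod p) → (Fin 3 → A))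
    (hpt : ∀ v : Fin 3 → ZMod p, v ≠ 0 → ∃ i, IsUnit (ρ v i))
    (hcol : ∀ u v w : Fin 3 → ZMod p, u ≠ 0 → v ≠ 0 → w ≠ 0 →
      Matrix.det (Matrix.of ![u, v, w]) = 0 →
      ∃ n : Fin 3 → A, (∃ i, IsUnit (n i)) ∧
        dotProduct (ρ u) n = 0 ∧ dotProduct (ρ v) n = 0 ∧ dotProduct (ρ w) n = 0)
    (hgen : IsUnit (Matrix.det (Matrix.of ![ρ (Pi.single 0 1), ρ (Pi.single 1 1), ρ (Pi.single 2 1)])) ∧
      IsUnit (Matrix.det (Matrix.of ![ρ (Pi.single 0 1), ρ (Pi.single 1 1), ρ (fun _ => 1)])) ∧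
      IsUnit (Matrix.det (Matrix.of ![ρ (Pi.single 0 1), ρ (Pi.single 2 1), ρ (fun _ => 1)])) ∧
      IsUnit (Matrix.det (Matrix.of ![ρ (Pi.single 1 1), ρ (Pi.single 2 1), ρ (fun _ => 1)]))) :
    (p : A) = 0 := by
  exact Aux13149.main p A ρ hpt hcol hgen

end Groth.Agent.S13149
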