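-- Statement S1315.
import Groth.Statements.S1315
import Mathlib
import Groth.Agent.Lib.Helper1.ThickSq
import Groth.Agent.Lib.Helper1.Thickening

set_option autoImplicit false
universe u
open FlatMor

namespace Groth.Agent.S1315

open AlgebraicGeometry CategoryTheory Limits in
/-- Let Y ⟶ Y' be a thickening, let X be the base change to Y of a scheme X' over Y', and assume both X
⟶ Y and X' ⟶ Y' are locally of finite type. Then X ⟶ Y is a monomorphism if and only if X' ⟶ Y' is. -/
theorem result {X X' Y Y' : Scheme.{u}} (iX : X ⟶ X') (iY : Y ⟶ Y') (f : X ⟶ Y) (f' : X' ⟶ Y')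
    (hY : MoreMor.IsThickening iY) (hc : IsPullback iX f f' iY) [LocallyOfFiniteType f] [LocallyOfFiniteType f'] :
    Mono f ↔ Mono f' := by
  haveI := hY.1
  have hX : MoreMor.IsThickening iX :=
    ⟨MorphismProperty.of_isPullback hc.flip hY.1, MorphismProperty.of_isPullback hc.flip hY.2⟩
  constructor
  · intro hf
    haveI : IsIso (pullback.diagonal f) := (pullback.isIso_diagonal_iff f).mpr hf
    haveI : FormallyUnramified f := inferInstance
    haveI : FormallyUnramified f' :=
      Groth.Agent.Lib.Helper1.ThickSq.formallyUnramified_of_isPullback_of_lft hc hY.2.surj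
    haveI : IsOpenImmersion (pullback.diagonal f') := inferInstance
    haveI : UniversallyInjective f' :=
      (Groth.Agent.Lib.Helper1.Thickening.universallyInjective_iff iX iY f f' hX hY hc.w).mp
        inferInstance
    haveI : Surjective (pullback.diagonal f') := (UniversallyInjective.iff_diagonal f').mp ‹_›
    haveI : IsIso (pullback.diagonal f') := (isIso_iff_isOpenImmersion_and_surjective _).mpr ⟨‹_›, ‹_›⟩
    exact (pullback.isIso_diagonal_iff f').mp inferInstance
  · intro hf'
    exact MorphismProperty.of_isPullback (P := MorphismProperty.monomorphisms Scheme.{u}) hc hf'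

end Groth.Agent.S1315
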