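import Groth.Statements.S13150
import Groth.Agent.Lib.Helper20.FrobLift

set_option autoImplicit false
universe u
open FrobAlg

namespace Groth.Agent.S13150

open Groth.Agent.Lib.Helper20

/-- Let k be a perfect field of characteristic p and (B, ι, π) a flat lifting over W₂(k) of a Noetherian
k-algebra A. The Frobenius of A lifts to B (a σ₂-semilinear ring endomorphism of B reducing to the
p-th power map) if and only if there is a ring homomorphism θ : B → W₂(A) over A (the zeroth Witt
component of θ(b) is π(b)) with θ ∘ ι equal to the map W₂(k) → W₂(A) induced by k → A. (The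
published statement is for a flat W₂(k)-extension of the structure sheaf of a scheme and says: the
push-out of that extension along the Frobenius O_X → F_*O_X is isomorphic, as an extension by F_*O_X
over W₂(k), to W₂(O_X); by the universal property of the push-out this is the existence of a
morphism of extensions to W₂(O_X), which in the affine case taken here is the map θ.) -/
theorem result
    (p : ℕ) [Fact p.Prime] (k : Type u) [Field k] [CharP k p] [PerfectRing k p]
    (A B : Type u) [CommRing A] [Algebra k A] [IsNoetherianRing A] [CommRing B]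
    (ι : FrobAlg.W2 p k →+* B) (π : B →+* A) (hB : FrobAlg.IsLift p k A B ι π) :
    (∃ Φ : B →+* B, FrobAlg.IsFrobLift p k A B ι π Φ) ↔
      ∃ θ : B →+* FrobAlg.W2 p A,
        (FrobAlg.res p A).comp θ = π ∧ θ.comp ι = WittGrp.truncMap p 2 (algebraMap k A) := by
  have hp : p.Prime := Fact.out
  have hpA : ((p : ℕ) : A) = 0 := by
    rw [← map_natCast (algebraMap k A), CharP.cast_eq_zero, map_zero]
  have hcomm : ∀ w, π (ι w) = algebraMap k A (res p k w) := fun w => RingHom.congr_fun hB.comm w
  constructor
  · rintro ⟨Φ, hΦ⟩
    obtain ⟨δ, hδ, hadd, hmul, hone, hzero⟩ := exists_delta hB Φ hΦ.red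
    let θ : B →+* W2 p A :=
      { toFun := fun b => mk2 p A (π b) (δ b)
        map_one' := by
          apply w2_ext
          · rw [mk2_coeff_zero, map_one, w2_one_coeff_zero]
          · rw [mk2_coeff_one, hone, w2_one_coeff_one]
        map_mul' := by
          intro a b
          apply w2_ext
          · rw [w2_mul_coeff_zero, mk2_coeff_zero, mk2_coeff_zero, mk2_coeff_zero, map_mul]
          · rw [w2_mul_coeff_one, mk2_coeff_zero, mk2_coeff_zero, mk2_coeff_one, mk2_coeff_one,
              mk2_coeff_one, hmul, hpA]
            ring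
        map_zero' := by
          apply w2_ext
          · rw [mk2_coeff_zero, map_zero, TruncatedWittVector.coeff_zero]
          · rw [mk2_coeff_one, hzero, TruncatedWittVector.coeff_zero]
        map_add' := by
          intro a b
          apply w2_ext
          · rw [w2_add_coeff_zero, mk2_coeff_zero, mk2_coeff_zero, mk2_coeff_zero, map_add]
          · rw [w2_add_coeff_one, mk2_coeff_zero, mk2_coeff_zero, mk2_coeff_one, mk2_coeff_one,
              mk2_coeff_one, hadd] }
    have hθ : ∀ b, θ b = mk2 p A (π b) (δ b) := fun b => rfl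
    refine ⟨θ, ?_, ?_⟩
    · ext b
      rw [RingHom.comp_apply, res_apply, hθ, mk2_coeff_zero]
    · ext w : 1
      rw [RingHom.comp_apply, hθ]
      apply w2_ext
      · rw [mk2_coeff_zero, WittGrp.coeff_truncMap, hcomm, res_apply]
      · rw [mk2_coeff_one, WittGrp.coeff_truncMap]
        exact (semi_iff hB Φ δ hδ w).mp (RingHom.congr_fun hΦ.semi w)
  · rintro ⟨θ, hθ1, hθ2⟩
    have h0 : ∀ b, (θ b).coeff 0 = π b := by
      intro b
      rw [← res_apply, ← RingHom.comp_apply, hθ1]
    have hadd : ∀ a b, (θ (a + b)).coeff 1 =
        (θ a).coeff 1 + (θ b).coeff 1 - Wp p (π a) (π b) := by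
      intro a b
      rw [map_add, w2_add_coeff_one, h0, h0]
    have hmul : ∀ a b, (θ (a * b)).coeff 1 = π a ^ p * (θ b).coeff 1 + π b ^ p * (θ a).coeff 1 := by
      intro a b
      rw [map_mul, w2_mul_coeff_one, h0, h0, hpA]
      ring
    have hone : (θ 1).coeff 1 = 0 := by rw [map_one, w2_one_coeff_one]
    have hzero : (θ 0).coeff 1 = 0 := by rw [map_zero, TruncatedWittVector.coeff_zero]
    obtain ⟨Φ, hΦ⟩ := exists_ringHom_of_delta hB (fun b => (θ b).coeff 1) hadd hmul hone hzero
    refine ⟨Φ, hB, ?_, ?_⟩
    · ext w
      rw [RingHom.comp_apply, RingHom.comp_apply, semi_iff hB Φ (fun b => (θ b).coeff 1) hΦ]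
      show (θ (ι w)).coeff 1 = _
      rw [← RingHom.comp_apply, hθ2, WittGrp.coeff_truncMap]
    · intro b
      rw [hΦ, map_add, map_pow, lift_pi_theta, add_zero]

end Groth.Agent.S13150
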