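import Groth.Statements.S13151
import Mathlib

set_option autoImplicit false
universe u
open CAlg

namespace Groth.Agent.S13151

theorem key {A B : Type u} [CommRing A] [CommRing B]
    [IsDomain A] [IsDomain B] [IsIntegrallyClosed A] [Algebra A B] [Algebra.IsIntegral A B]
    (hinj : Function.Injective (algebraMap A B)) (π : A) (a : A)
    (h : algebraMap A B π ∣ algebraMap A B a) : π ∣ a := by
  obtain ⟨b, hb⟩ := h
  by_cases hπ : π = 0
  · subst hπ
    simp only [map_zero, zero_mul] at hb
    have := hinj (hb.trans (map_zero _).symm)
    simp [this]
  let K := FractionRing A
  let L := FractionRing B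
  haveI : FaithfulSMul A L := (faithfulSMul_iff_algebraMap_injective A L).mpr (by
    rw [IsScalarTower.algebraMap_eq A B L]
    exact (IsFractionRing.injective B L).comp hinj)
  letI := FractionRing.liftAlgebra A L
  haveI := FractionRing.isScalarTower_liftAlgebra A L
  have hbint : IsIntegral A (algebraMap B L b) := (Algebra.IsIntegral.isIntegral b).algebraMap
  have hπK : algebraMap A K π ≠ 0 := fun h0 =>
    hπ ((injective_iff_map_eq_zero _).1 (IsFractionRing.injective A K) _ h0)
  let x : K := algebraMap A K a / algebraMap A K π
  have hx : algebraMap K L x = algebraMap B L b := by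
    have hπL : algebraMap K L (algebraMap A K π) ≠ 0 := by
      intro h0
      exact hπK ((injective_iff_map_eq_zero _).1 (algebraMap K L).injective _ h0)
    have e1 : algebraMap K L (algebraMap A K a) = algebraMap K L (algebraMap A K π) * algebraMap B L b := by
      rw [← IsScalarTower.algebraMap_apply A K L, ← IsScalarTower.algebraMap_apply A K L,
        IsScalarTower.algebraMap_apply A B L, IsScalarTower.algebraMap_apply A B L, hb, map_mul]
    simp only [x, map_div₀]
    rw [e1, mul_div_cancel_left₀ _ hπL]
  have hxint : IsIntegral A x := (isIntegral_algebraMap_iff (algebraMap K L).injective).mp (hx ▸ hbint)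
  obtain ⟨y, hy⟩ := IsIntegrallyClosed.algebraMap_eq_of_integral hxint
  refine ⟨y, IsFractionRing.injective A K ?_⟩
  rw [map_mul, hy, mul_div_cancel₀ _ hπK]

/-- Let A → B be an injective ring homomorphism of integral domains which is integral, with A integrally
closed, and let π be an element of A. Then the contraction to A of the ideal πB is πA, i.e. an
element of A which is a multiple of π in B is already a multiple of π in A; in particular if B/πB is
an integral domain then A/πA is an integral domain. (The published statement is for an integral
dominant morphism of integral schemes flat over a discrete valuation ring, with normal target and π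
a uniformizer; flatness and the valuation ring play no role, so π is an arbitrary element here.) -/
theorem result {A B : Type u} [CommRing A] [CommRing B]
    [IsDomain A] [IsDomain B] [IsIntegrallyClosed A] [Algebra A B] [Algebra.IsIntegral A B]
    (hinj : Function.Injective (algebraMap A B)) (π : A) :
    (Ideal.span {algebraMap A B π}).comap (algebraMap A B) = Ideal.span {π} ∧
      (IsDomain (B ⧸ Ideal.span {algebraMap A B π}) → IsDomain (A ⧸ Ideal.span {π})) := by
  have h1 : (Ideal.span {algebraMap A B π}).comap (algebraMap A B) = Ideal.span {π} := by
    ext a
    simp only [Ideal.mem_comap, Ideal.mem_span_singleton]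
    exact ⟨key hinj π a, fun h => map_dvd _ h⟩
  refine ⟨h1, fun hd => ?_⟩
  rw [Ideal.Quotient.isDomain_iff_prime] at hd ⊢
  rw [← h1]
  exact Ideal.comap_isPrime _ _

end Groth.Agent.S13151
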