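import Groth.Statements.S13153
import Mathlib

set_option autoImplicit false
universe u
open CAlg

namespace Groth.Agent.S13153


open MvPolynomial TensorProduct in
/-- in characteristic zero, an element of a field extension with vanishing differential is
algebraic over the base -/
theorem isAlgebraic_of_D_eq_zero (K L : Type u) [Field K] [Field L] [Algebra K L] [CharZero K]
    (x : L) (hx : KaehlerDifferential.D K L x = 0) : IsAlgebraic K x := by
  classical
  by_contra htr
  have htr' : Transcendental K x := htr
  have hind : AlgebraicIndepOn K id ({x} : Set L) := by
    show AlgebraicIndependent K (fun i : ({x} : Set L) => id (i : L))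
    rw [algebraicIndependent_singleton_iff (⟨x, rfl⟩ : ({x} : Set L))]
    exact htr'
  obtain ⟨t, hxt, ht⟩ := exists_isTranscendenceBasis_superset hind
  have hb : AlgebraicIndependent K ((↑) : t → L) := ht.1
  let i0 : t := ⟨x, hxt (Set.mem_singleton x)⟩
  let P := MvPolynomial t K
  let Q := FractionRing P
  let E := IntermediateField.adjoin K (Set.range ((↑) : t → L))
  let e : Q ≃ₐ[K] E := AlgebraicIndependent.aevalEquivField hb
  letI algQL : Algebra Q L := ((algebraMap E L).comp e.toAlgHom.toRingHom).toAlgebra
  letI algPL : Algebra P L := ((algebraMap Q L).comp (algebraMap P Q)).toAlgebra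
  haveI : IsScalarTower P Q L := IsScalarTower.of_algebraMap_eq' rfl
  haveI : IsScalarTower K P L := IsScalarTower.of_algebraMap_eq' (by
    ext y
    show algebraMap K L y = algebraMap E L (e (algebraMap P Q (algebraMap K P y)))
    rw [← IsScalarTower.algebraMap_apply K P Q, e.commutes, ← IsScalarTower.algebraMap_apply K E L])
  haveI : CharZero L := charZero_of_injective_algebraMap (algebraMap K L).injective
  haveI : CharZero E := charZero_of_injective_algebraMap (algebraMap K E).injective
  haveI : Algebra.IsAlgebraic E L := ht.isAlgebraic_field
  haveI : Algebra.IsSeparable E L := inferInstance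
  haveI : Algebra.IsSeparable Q L :=
    Algebra.IsSeparable.of_equiv_equiv (e.symm : E ≃+* Q) (RingEquiv.refl L) (by
      ext y
      show algebraMap E L (e (e.symm y)) = algebraMap E L y
      rw [e.apply_symm_apply])
  haveI : Algebra.FormallyEtale Q L := Algebra.FormallyEtale.of_isSeparable Q L
  haveI : Algebra.FormallyEtale P Q := inferInstance
  haveI : Algebra.FormallyEtale P L := Algebra.FormallyEtale.comp P Q L
  have h1 := KaehlerDifferential.tensorKaehlerEquivOfFormallyEtale_symm_D_algebraMap K P L (X i0)
  have hX : algebraMap P L (X i0) = x := by
    show algebraMap E L (e (algebraMap P Q (X i0))) = x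
    rw [IntermediateField.algebraMap_apply,
      AlgebraicIndependent.aevalEquivField_algebraMap_apply_coe, aeval_X]
  rw [hX, hx, map_zero] at h1
  have hne := ((KaehlerDifferential.mvPolynomialBasis K t).baseChange L).ne_zero i0
  rw [Module.Basis.baseChange_apply, KaehlerDifferential.mvPolynomialBasis_apply] at hne
  exact hne h1.symm

/-- Let R be a discrete valuation ring whose fraction field K has characteristic zero, A an integral
domain which is a faithfully flat R-algebra, with fraction field L, such that K is algebraically
closed in L (every element of L algebraic over K is in the image of K). If f ∈ A has vanishing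
differential, df = 0 in Ω_{A/R}, then f is the image of an element of R. (The published statement is
the sheaf form: for a faithfully flat morphism X → Spec R with geometrically integral generic fibre,
the kernel of d : O_X → Ω¹_{X/R} is the inverse image of O_{Spec R}; for integral X, geometric
integrality of the generic fibre in characteristic zero amounts to K being algebraically closed in
the function field, which is the form used here, and this row is the case of global sections over an
affine X = Spec A.) -/
theorem result (R : Type u) [CommRing R] [IsDomain R]
    [IsDiscreteValuationRing R] [CharZero R] (K : Type u) [Field K] [Algebra R K] [IsFractionRing R K]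
    (A : Type u) [CommRing A] [IsDomain A] [Algebra R A] [Module.FaithfullyFlat R A]
    (L : Type u) [Field L] [Algebra A L] [IsFractionRing A L] [Algebra R L] [Algebra K L]
    [IsScalarTower R A L] [IsScalarTower R K L]
    (hac : ∀ x : L, IsAlgebraic K x → x ∈ (algebraMap K L).range)
    (f : A) (hf : KaehlerDifferential.D R A f = 0) : f ∈ (algebraMap R A).range := by
  haveI : CharZero K := charZero_of_injective_algebraMap (IsFractionRing.injective R K)
  have h1 : KaehlerDifferential.D K L (algebraMap A L f) = 0 := by
    have h := KaehlerDifferential.map_D R K A L f
    rw [hf, map_zero] at h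
    exact h.symm
  have h2 := isAlgebraic_of_D_eq_zero K L _ h1
  obtain ⟨c, hc⟩ := hac _ h2
  have hinjA : Function.Injective (algebraMap A L) := IsFractionRing.injective A L
  have key : ∀ r : R, algebraMap R K r = c → algebraMap R A r = f := by
    intro r hr
    apply hinjA
    rw [← hc, ← hr, ← IsScalarTower.algebraMap_apply, ← IsScalarTower.algebraMap_apply]
  rcases ValuationRing.isInteger_or_isInteger R c with ⟨r, hr⟩ | ⟨s, hs⟩
  · exact ⟨r, key r hr⟩
  · by_cases hc0 : c = 0
    · exact ⟨0, key 0 (by simp [hc0])⟩
    by_cases hsu : IsUnit s
    · obtain ⟨t, rfl⟩ := hsu
      have ht : algebraMap R K ((t⁻¹ : Rˣ) : R) = c := by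
        have h3 : algebraMap R K ((t⁻¹ : Rˣ) : R) * algebraMap R K (t : R) = 1 := by
          rw [← map_mul, Units.inv_mul, map_one]
        rw [hs] at h3
        field_simp at h3
        exact h3
      exact ⟨_, key _ ht⟩
    · exfalso
      have h1' : (1 : A) = algebraMap R A s * f := by
        apply hinjA
        rw [map_one, map_mul, ← hc, ← IsScalarTower.algebraMap_apply R A L,
          IsScalarTower.algebraMap_apply R K L, hs, ← map_mul, inv_mul_cancel₀ hc0, map_one]
      have hm : s ∈ IsLocalRing.maximalIdeal R := (IsLocalRing.mem_maximalIdeal s).2 hsu
      have hne := Module.FaithfullyFlat.submodule_ne_top (R := R) (M := A)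
        (IsLocalRing.maximalIdeal.isMaximal R)
      apply hne
      rw [eq_top_iff]
      rintro y -
      have hy : y = s • (f * y) := by rw [Algebra.smul_def, ← mul_assoc, ← h1', one_mul]
      rw [hy]
      exact Submodule.smul_mem_smul hm trivial

end Groth.Agent.S13153
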