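import Groth.Statements.S13154
import Mathlib

set_option autoImplicit false
universe u
open scoped TensorProduct
open CAlg

namespace Groth.Agent.S13154

section helpers

open TensorProduct

variable (R : Type u) [CommRing R] [IsDomain R] [IsDiscreteValuationRing R]
  (K : Type u) [Field K] [Algebra R K] [IsFractionRing R K]
  (A : Type u) [CommRing A] [Algebra R A] [Module.FaithfullyFlat R A]

/-- `R = K ∩ A` inside `K ⊗ A` for a valuation ring `R` and faithfully flat `A`. -/
theorem ring_level (x : K) (a : A) (h : x ⊗ₜ[R] (1 : A) = (1 : K) ⊗ₜ[R] a) :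
    ∃ r : R, algebraMap R K r = x ∧ algebraMap R A r = a := by
  have hinjA : Function.Injective (Algebra.TensorProduct.includeRight : A →ₐ[R] K ⊗[R] A) :=
    Algebra.TensorProduct.includeRight_injective (IsFractionRing.injective R K)
  have key : ∀ r : R, algebraMap R K r = x → algebraMap R A r = a := by
    intro r hr
    apply hinjA
    simp only [Algebra.TensorProduct.includeRight_apply]
    rw [← h, ← hr, Algebra.algebraMap_eq_smul_one, Algebra.algebraMap_eq_smul_one,
      TensorProduct.smul_tmul]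
  rcases ValuationRing.isInteger_or_isInteger R x with ⟨r, hr⟩ | ⟨s, hs⟩
  · exact ⟨r, hr, key r hr⟩
  · by_cases hx : x = 0
    · exact ⟨0, by simp [hx], key 0 (by simp [hx])⟩
    by_cases hsu : IsUnit s
    · obtain ⟨t, rfl⟩ := hsu
      have ht : algebraMap R K ((t⁻¹ : Rˣ) : R) = x := by
        have h1 : algebraMap R K ((t⁻¹ : Rˣ) : R) * algebraMap R K (t : R) = 1 := by
          rw [← map_mul, Units.inv_mul, map_one]
        rw [hs] at h1
        field_simp at h1
        exact h1
      exact ⟨_, ht, key _ ht⟩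
    · exfalso
      have h1 : (1 : A) = s • a := by
        apply hinjA
        simp only [Algebra.TensorProduct.includeRight_apply]
        rw [TensorProduct.tmul_smul, ← h, TensorProduct.smul_tmul', Algebra.smul_def, hs,
          inv_mul_cancel₀ hx]
      have hm : s ∈ IsLocalRing.maximalIdeal R := (IsLocalRing.mem_maximalIdeal s).2 hsu
      have hne := Module.FaithfullyFlat.submodule_ne_top (R := R) (M := A)
        (IsLocalRing.maximalIdeal.isMaximal R)
      apply hne
      rw [eq_top_iff]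
      rintro y -
      have hy : y = s • (a * y) := by rw [← smul_mul_assoc, ← h1, one_mul]
      rw [hy]
      exact Submodule.smul_mem_smul hm trivial

theorem module_level (N : Type u) [AddCommGroup N] [Module R N] [Module.Flat R N]
    (y : K ⊗[R] N) (z : A ⊗[R] N)
    (h : (Algebra.TensorProduct.includeLeft : K →ₐ[R] K ⊗[R] A).toLinearMap.rTensor N y
       = (Algebra.TensorProduct.includeRight : A →ₐ[R] K ⊗[R] A).toLinearMap.rTensor N z) :
    ∃ c : N, y = 1 ⊗ₜ c ∧ z = 1 ⊗ₜ c := by
  let f : R →ₗ[R] K × A := (Algebra.linearMap R K).prod (Algebra.linearMap R A)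
  let iL : K →ₗ[R] K ⊗[R] A := (Algebra.TensorProduct.includeLeft : K →ₐ[R] K ⊗[R] A).toLinearMap
  let iR : A →ₗ[R] K ⊗[R] A := (Algebra.TensorProduct.includeRight : A →ₐ[R] K ⊗[R] A).toLinearMap
  let g : K × A →ₗ[R] K ⊗[R] A := iL.coprod (-iR)
  have hex : Function.Exact f g := by
    intro w
    constructor
    · intro hw
      have hw' : w.1 ⊗ₜ[R] (1 : A) = (1 : K) ⊗ₜ[R] w.2 := by
        have : w.1 ⊗ₜ[R] (1 : A) - (1 : K) ⊗ₜ[R] w.2 = 0 := by
          simpa [g, iL, iR, sub_eq_add_neg] using hw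
        exact sub_eq_zero.1 this
      obtain ⟨r, h1, h2⟩ := ring_level R K A w.1 w.2 hw'
      exact ⟨r, Prod.ext h1 h2⟩
    · rintro ⟨r, rfl⟩
      change (algebraMap R K r) ⊗ₜ[R] (1 : A) + -((1 : K) ⊗ₜ[R] algebraMap R A r) = 0
      rw [Algebra.algebraMap_eq_smul_one, Algebra.algebraMap_eq_smul_one, TensorProduct.smul_tmul,
        add_neg_cancel]
  have hexN := Module.Flat.rTensor_exact N hex
  let w : (K × A) ⊗[R] N := (LinearMap.inl R K A).rTensor N y + (LinearMap.inr R K A).rTensor N z
  have e1 : g ∘ₗ LinearMap.inl R K A = iL := by ext; simp [g]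
  have e2 : g ∘ₗ LinearMap.inr R K A = -iR := by ext; simp [g]
  have hw : g.rTensor N w = 0 := by
    simp only [w, map_add, ← LinearMap.comp_apply, ← LinearMap.rTensor_comp]
    rw [e1, e2, LinearMap.rTensor_neg, LinearMap.neg_apply, h]
    exact add_neg_cancel _
  obtain ⟨t, ht⟩ := (hexN w).1 hw
  obtain ⟨c, rfl⟩ : ∃ c, t = 1 ⊗ₜ c := ⟨TensorProduct.lid R N t, by
    rw [← TensorProduct.lid_symm_apply, LinearEquiv.symm_apply_apply]⟩
  have f1 : LinearMap.fst R K A ∘ₗ f = Algebra.linearMap R K := by ext; simp [f]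
  have f2 : LinearMap.snd R K A ∘ₗ f = Algebra.linearMap R A := by ext; simp [f]
  have g1 : LinearMap.fst R K A ∘ₗ LinearMap.inl R K A = LinearMap.id := by ext; simp
  have g2 : LinearMap.fst R K A ∘ₗ LinearMap.inr R K A = 0 := by ext; simp
  have g3 : LinearMap.snd R K A ∘ₗ LinearMap.inl R K A = 0 := by ext; simp
  have g4 : LinearMap.snd R K A ∘ₗ LinearMap.inr R K A = LinearMap.id := by ext; simp
  refine ⟨c, ?_, ?_⟩
  · have := congrArg ((LinearMap.fst R K A).rTensor N) ht
    simp only [w, map_add, ← LinearMap.comp_apply, ← LinearMap.rTensor_comp, f1, g1, g2] at this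
    simpa using this.symm
  · have := congrArg ((LinearMap.snd R K A).rTensor N) ht
    simp only [w, map_add, ← LinearMap.comp_apply, ← LinearMap.rTensor_comp, f2, g3, g4] at this
    simpa using this.symm

end helpers

/-- Let R be a discrete valuation ring with fraction field K, A a faithfully flat R-algebra (an affine
faithfully flat base change S' → S = Spec R) and B₁, B₂ flat R-algebras (two affine S-schemes X₁ =
Spec B₁, X₂ = Spec B₂, flat over S). Suppose given a K-algebra homomorphism φ_K : K ⊗ B₂ → K ⊗ B₁ (a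
morphism of the generic fibres X₁,K → X₂,K) and an A-algebra homomorphism φ_A : A ⊗ B₂ → A ⊗ B₁ (a
morphism X₁ ×_S S' → X₂ ×_S S' over S') which coincide after base change to K ⊗ A, in the sense that
for every b ∈ B₂ the images of φ_K(1 ⊗ b) and φ_A(1 ⊗ b) in (K ⊗ A) ⊗ B₁ agree. Then there is
exactly one R-algebra homomorphism φ : B₂ → B₁ (a morphism X₁ → X₂) whose base changes to K and to A
are φ_K and φ_A. (The published statement assumes only X₂ flat over S; flatness of X₁ is also
needed: with B₂ = R[t], B₁ = R[e]/(e², πe) for a uniformizer π and A = R[x], the maps t ↦ 0 over K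
and t ↦ e x over A agree over K ⊗ A = K[x] but come from no map over R.) -/
theorem result (R : Type u) [CommRing R] [IsDomain R]
    [IsDiscreteValuationRing R] (K : Type u) [Field K] [Algebra R K] [IsFractionRing R K]
    (A : Type u) [CommRing A] [Algebra R A] [Module.FaithfullyFlat R A]
    (B₁ B₂ : Type u) [CommRing B₁] [CommRing B₂] [Algebra R B₁] [Algebra R B₂]
    [Module.Flat R B₁] [Module.Flat R B₂]
    (φK : K ⊗[R] B₂ →ₐ[K] K ⊗[R] B₁) (φA : A ⊗[R] B₂ →ₐ[A] A ⊗[R] B₁)
    (hcomp : ∀ b : B₂,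
      Algebra.TensorProduct.map (Algebra.TensorProduct.includeLeft : K →ₐ[R] K ⊗[R] A) (AlgHom.id R B₁)
          (φK (1 ⊗ₜ b)) =
        Algebra.TensorProduct.map (Algebra.TensorProduct.includeRight : A →ₐ[R] K ⊗[R] A) (AlgHom.id R B₁)
          (φA (1 ⊗ₜ b))) :
    ∃! φ : B₂ →ₐ[R] B₁, (∀ b : B₂, φK (1 ⊗ₜ b) = 1 ⊗ₜ φ b) ∧ (∀ b : B₂, φA (1 ⊗ₜ b) = 1 ⊗ₜ φ b) := by
  have hinj₁ : Function.Injective (Algebra.TensorProduct.includeRight : B₁ →ₐ[R] K ⊗[R] B₁) :=
    Algebra.TensorProduct.includeRight_injective (IsFractionRing.injective R K)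
  have hex : ∀ b : B₂, ∃ c : B₁, φK (1 ⊗ₜ b) = 1 ⊗ₜ c ∧ φA (1 ⊗ₜ b) = 1 ⊗ₜ c := by
    intro b
    apply module_level R K A B₁
    exact hcomp b
  choose c hc using hex
  have hψ : ∀ b, (Algebra.TensorProduct.includeRight : B₁ →ₐ[R] K ⊗[R] B₁) (c b) = φK (1 ⊗ₜ b) :=
    fun b => (hc b).1.symm
  let φ : B₂ →ₐ[R] B₁ :=
    { toFun := c
      map_one' := hinj₁ (by rw [hψ, map_one]; exact map_one φK)
      map_mul' := fun x y => hinj₁ (by
        rw [map_mul, hψ, hψ, hψ, ← map_mul, Algebra.TensorProduct.tmul_mul_tmul, mul_one])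
      map_zero' := hinj₁ (by rw [hψ, map_zero, TensorProduct.tmul_zero, map_zero])
      map_add' := fun x y => hinj₁ (by
        rw [map_add, hψ, hψ, hψ, TensorProduct.tmul_add, map_add])
      commutes' := fun r => hinj₁ (by
        rw [hψ, AlgHom.commutes]
        have : (1 : K) ⊗ₜ[R] (algebraMap R B₂ r) = algebraMap R (K ⊗[R] B₂) r := by
          rw [Algebra.algebraMap_eq_smul_one, Algebra.algebraMap_eq_smul_one,
            TensorProduct.tmul_smul]
          rfl
        rw [this]
        exact (φK.restrictScalars R).commutes r) }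
  refine ⟨φ, ⟨fun b => (hc b).1, fun b => (hc b).2⟩, ?_⟩
  rintro φ' ⟨h1, _⟩
  ext b
  apply hinj₁
  simp only [Algebra.TensorProduct.includeRight_apply]
  rw [← h1 b, (hc b).1]
  rfl

end Groth.Agent.S13154
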