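import Groth.Statements.S13156
import Mathlib

set_option autoImplicit false
universe u
open scoped Polynomial
open CAlg

namespace Groth.Agent.S13156

theorem coeff_identity (A : Type u) [CommRing A] (μ c : A) (F : A[X]) :
    F * Polynomial.C c = Polynomial.derivative F * (1 + Polynomial.C μ * Polynomial.X) ↔
      ∀ n : ℕ, F.coeff n * c = F.coeff (n + 1) * ((n : A) + 1) + μ * ((n : A) * F.coeff n) := by
  rw [Polynomial.ext_iff]
  refine forall_congr' fun n => ?_
  have h1 : Polynomial.derivative F * (1 + Polynomial.C μ * Polynomial.X) =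
      Polynomial.derivative F + Polynomial.C μ * (Polynomial.derivative F * Polynomial.X) := by ring
  rw [h1, Polynomial.coeff_mul_C, Polynomial.coeff_add, Polynomial.coeff_C_mul,
    Polynomial.coeff_derivative]
  cases n with
  | zero => simp
  | succ m =>
    rw [Polynomial.coeff_mul_X, Polynomial.coeff_derivative]
    push_cast
    constructor <;> intro h <;> rw [h] <;> ring

/-- Uniqueness for the differential equation `c Q = Q' (1 + μ X)` among polynomials of degree `< p`
with vanishing constant term. -/
theorem ode_unique (B : Type u) [CommRing B] (p : ℕ)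
    (hu : IsUnit ((Nat.factorial (p - 1) : ℕ) : B)) (μ c : B) (Q : B[X]) (hQ : Q.natDegree < p)
    (hode : Q * Polynomial.C c = Polynomial.derivative Q * (1 + Polynomial.C μ * Polynomial.X))
    (h0 : Q.coeff 0 = 0) : Q = 0 := by
  rw [coeff_identity] at hode
  have hunit : ∀ n, 1 ≤ n → n < p → IsUnit ((n : ℕ) : B) := by
    intro n hn1 hn
    have hdvd : n ∣ (p - 1).factorial := Nat.dvd_factorial (by omega) (by omega)
    exact isUnit_of_dvd_unit (Nat.cast_dvd_cast (α := B) hdvd) hu
  ext n
  rw [Polynomial.coeff_zero]
  induction n with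
  | zero => exact h0
  | succ n ih =>
    by_cases hn : n + 1 < p
    · have h := hode n
      rw [ih] at h
      simp only [zero_mul, mul_zero, add_zero] at h
      have hu' := hunit (n + 1) (by omega) hn
      push_cast at hu'
      exact (hu'.mul_left_eq_zero).mp h.symm
    · exact Polynomial.coeff_eq_zero_of_natDegree_lt (by omega)


open Polynomial in
theorem coeff_rel (A : Type u) [CommRing A] (μ : A) (F : A[X])
    (h : F * C (F.coeff 1) = derivative F * (1 + C μ * X)) :
    F.coeff 0 * F.coeff 1 = F.coeff 1 := by
  have := (coeff_identity A μ (F.coeff 1) F).mp h 0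
  simpa using this

open Polynomial in
theorem step1 (A : Type u) [CommRing A] (p : ℕ)
    (hu : IsUnit ((Nat.factorial (p - 1) : ℕ) : A)) (μ : A) (F : A[X]) (hF : F.natDegree < p)
    (h : F * C (F.coeff 1) = derivative F * (1 + C μ * X)) :
    C (F.coeff 0 - 1) * (F - C (F.coeff 0)) = 0 := by
  have h01 := coeff_rel A μ F h
  apply ode_unique A p hu μ (F.coeff 1)
  · refine lt_of_le_of_lt (natDegree_C_mul_le _ _) (lt_of_le_of_lt (natDegree_sub_le _ _) ?_)
    simpa using hF
  · rw [derivative_C_mul, derivative_sub, derivative_C, sub_zero, mul_assoc (C _) (derivative F), ← h]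
    have : C (F.coeff 0 - 1) * (F - C (F.coeff 0)) * C (F.coeff 1) =
        C (F.coeff 0 - 1) * (F * C (F.coeff 1)) - C ((F.coeff 0 - 1) * F.coeff 0 * F.coeff 1) := by
      simp only [map_mul, map_sub, map_one]; ring
    rw [this]
    have : (F.coeff 0 - 1) * F.coeff 0 * F.coeff 1 = 0 := by
      calc (F.coeff 0 - 1) * F.coeff 0 * F.coeff 1
          = F.coeff 0 * (F.coeff 0 * F.coeff 1) - F.coeff 0 * F.coeff 1 := by ring
        _ = 0 := by rw [h01, h01, sub_self]
    rw [this, map_zero, sub_zero]
  · simp [coeff_C_mul]


open Polynomial in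
theorem step2 (A : Type u) [CommRing A] (p : ℕ)
    (hu : IsUnit ((Nat.factorial (p - 1) : ℕ) : A)) (μ : A) (F : A[X]) (hF : F.natDegree < p)
    (h : F * C (F.coeff 1) = derivative F * (1 + C μ * X)) :
    aeval (C X : A[X][X]) F * aeval (X : A[X][X]) F - C (C (F.coeff 0 ^ 2)) -
      (aeval ((C X : A[X][X]) + X + C (C μ) * C X * X) F - C (C (F.coeff 0))) = 0 := by
  have h01 := coeff_rel A μ F h
  have hAlg : ∀ a : A, algebraMap A A[X][X] a = C (C a) := fun a => rfl
  set u : A[X][X] := (C X : A[X][X]) + X + C (C μ) * C X * X with hu_def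
  have hu_eq : u = C X + C (1 + C μ * X) * X := by
    simp only [hu_def, map_add, map_mul, map_one]; ring
  have hs : aeval (C X : A[X][X]) F = C F := by
    have := Polynomial.aeval_algebraMap_apply (A := A[X]) (B := A[X][X]) (X : A[X]) F
    rw [Polynomial.aeval_X_left_apply] at this
    exact this
  have ht : aeval (X : A[X][X]) F = F.map C := Polynomial.aeval_X_left_eq_map F
  have ht' : aeval (X : A[X][X]) (derivative F) = (derivative F).map C :=
    Polynomial.aeval_X_left_eq_map _
  -- the key consequence of the hypothesis, evaluated at an arbitrary point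
  have hev : ∀ v : A[X][X], aeval v F * C (C (F.coeff 1)) =
      aeval v (derivative F) * (1 + C (C μ) * v) := by
    intro v
    have := congrArg (aeval v) h
    simpa [hAlg] using this
  have huB : IsUnit ((Nat.factorial (p - 1) : ℕ) : A[X]) := by
    have := hu.map (C : A →+* A[X])
    simpa using this
  apply ode_unique A[X] p huB (C μ) (C (F.coeff 1))
  · -- degree bound
    have hdu : u.natDegree ≤ 1 := by
      rw [hu_eq]
      refine le_trans (natDegree_add_le _ _) (max_le (by simp) ?_)
      exact le_trans (natDegree_C_mul_le _ _) natDegree_X_le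
    have h1 : (aeval (C X : A[X][X]) F * aeval (X : A[X][X]) F).natDegree < p := by
      rw [hs, ht]
      exact lt_of_le_of_lt (natDegree_C_mul_le _ _) (lt_of_le_of_lt natDegree_map_le hF)
    have h2 : (aeval u F).natDegree < p := by
      rw [aeval_eq_sum_range]
      refine lt_of_le_of_lt (natDegree_sum_le_of_forall_le _ _ (n := F.natDegree) ?_) hF
      intro i hi
      refine le_trans (natDegree_smul_le _ _) (le_trans natDegree_pow_le ?_)
      have := Finset.mem_range.mp hi
      calc i * u.natDegree ≤ i * 1 := Nat.mul_le_mul_left _ hdu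
        _ ≤ F.natDegree := by omega
    have hp : 0 < p := by omega
    refine lt_of_le_of_lt (natDegree_sub_le _ _) (max_lt ?_ ?_)
    · exact lt_of_le_of_lt (natDegree_sub_le _ _) (max_lt h1 (by rw [natDegree_C]; exact hp))
    · exact lt_of_le_of_lt (natDegree_sub_le _ _) (max_lt h2 (by rw [natDegree_C]; exact hp))
  · -- the differential equation
    let D : Derivation A A[X][X] A[X][X] := (Polynomial.derivative' (R := A[X])).restrictScalars A
    have hD : ∀ q : A[X][X], D q = derivative q := fun q => rfl
    have hDu : derivative (aeval u F) = aeval u (derivative F) * derivative u := by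
      rw [← hD, Derivation.map_aeval, smul_eq_mul, hD]
    have hdu' : derivative u = C (1 + C μ * X) := by
      rw [hu_eq]; simp
    have hprod : C (1 + C μ * X) * (1 + C (C μ) * (X : A[X][X])) = 1 + C (C μ) * u := by
      rw [hu_eq]; simp only [map_add, map_mul, map_one]; ring
    have e1 : derivative (aeval (C X : A[X][X]) F * aeval (X : A[X][X]) F - C (C (F.coeff 0 ^ 2)) -
        (aeval u F - C (C (F.coeff 0)))) =
        C F * (derivative F).map C - aeval u (derivative F) * C (1 + C μ * X) := by
      rw [hs, ht, derivative_sub, derivative_sub, derivative_sub, derivative_C, derivative_C,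
        derivative_C_mul, hDu, hdu', derivative_map]
      ring
    have rhs : (C F * map C (derivative F) - aeval u (derivative F) * C (1 + C μ * X)) *
        (1 + C (C μ) * (X : A[X][X])) =
        C F * (aeval (X : A[X][X]) F * C (C (F.coeff 1))) - aeval u F * C (C (F.coeff 1)) := by
      calc (C F * map C (derivative F) - aeval u (derivative F) * C (1 + C μ * X)) *
            (1 + C (C μ) * (X : A[X][X]))
          = C F * (map C (derivative F) * (1 + C (C μ) * (X : A[X][X]))) -
              aeval u (derivative F) * (C (1 + C μ * X) * (1 + C (C μ) * (X : A[X][X]))) := by ring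
        _ = C F * (aeval (X : A[X][X]) (derivative F) * (1 + C (C μ) * (X : A[X][X]))) -
              aeval u (derivative F) * (1 + C (C μ) * u) := by rw [hprod, ht']
        _ = _ := by rw [← hev, ← hev]
    rw [e1, rhs, hs]
    have : C (C (F.coeff 0 ^ 2)) * C (C (F.coeff 1)) = C (C (F.coeff 0)) * C (C (F.coeff 1)) := by
      rw [← map_mul, ← map_mul, ← map_mul, ← map_mul, pow_two, mul_assoc, h01, h01]
    calc (C F * aeval (X : A[X][X]) F - C (C (F.coeff 0 ^ 2)) - (aeval u F - C (C (F.coeff 0)))) * C (C (F.coeff 1))
        = C F * (aeval (X : A[X][X]) F * C (C (F.coeff 1))) - aeval u F * C (C (F.coeff 1))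
          - (C (C (F.coeff 0 ^ 2)) * C (C (F.coeff 1)) - C (C (F.coeff 0)) * C (C (F.coeff 1))) := by ring
      _ = _ := by rw [this, sub_self, sub_zero]
  · -- the constant term
    have hstep1 := step1 A p hu μ F hF h
    let ε : A[X][X] →ₐ[A] A[X] := (Polynomial.aeval (0 : A[X])).restrictScalars A
    have hε : ∀ q : A[X][X], q.coeff 0 = ε q := fun q => Polynomial.coeff_zero_eq_aeval_zero q
    rw [hε, map_sub, map_sub, map_sub, map_mul, ← Polynomial.aeval_algHom_apply,
      ← Polynomial.aeval_algHom_apply, ← Polynomial.aeval_algHom_apply]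
    have e1 : ε (C X : A[X][X]) = X := by simp [ε]
    have e2 : ε (X : A[X][X]) = 0 := by simp [ε]
    have e3 : ε u = X := by rw [hu_eq]; simp [ε]
    have e4 : ∀ a : A, ε (C (C a)) = C a := by intro a; simp [ε]
    rw [e1, e2, e3, e4, e4, Polynomial.aeval_X_left_apply, ← Polynomial.coeff_zero_eq_aeval_zero']
    have : (algebraMap A A[X]) (F.coeff 0) = C (F.coeff 0) := rfl
    rw [this]
    calc F * C (F.coeff 0) - C (F.coeff 0 ^ 2) - (F - C (F.coeff 0))
        = C (F.coeff 0 - 1) * (F - C (F.coeff 0)) := by
          simp only [map_sub, map_one, map_pow]; ring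
      _ = 0 := hstep1


/-- Let p be a prime number, A a commutative ring in which (p−1)! is invertible, μ an element of A, and
F ∈ A[X] a polynomial of degree at most p − 1 with coefficients a_0, a_1, …. Then the identity
F(S)·F(T) − a_0² = F(S + T + μST) − a_0 holds in the polynomial ring A[S, T] if and only if a_1·F(S)
= F′(S)·(1 + μS) holds in A[S], F′ the formal derivative. (The published statement is over the
quotient of a discrete valuation ring of residue characteristic p by a nonzero element of its
maximal ideal; only the invertibility of 1, …, p − 1 is used, so an arbitrary such ring A is allowed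
here.) -/
theorem result (A : Type u) [CommRing A] (p : ℕ) [Fact p.Prime]
    (hu : IsUnit ((Nat.factorial (p - 1) : ℕ) : A)) (μ : A) (F : A[X]) (hF : F.natDegree < p) :
    (Polynomial.aeval (MvPolynomial.X 0 : MvPolynomial (Fin 2) A) F *
          Polynomial.aeval (MvPolynomial.X 1 : MvPolynomial (Fin 2) A) F - MvPolynomial.C (F.coeff 0 ^ 2) =
        Polynomial.aeval (MvPolynomial.X 0 + MvPolynomial.X 1 +
            MvPolynomial.C μ * MvPolynomial.X 0 * MvPolynomial.X 1 : MvPolynomial (Fin 2) A) F -
          MvPolynomial.C (F.coeff 0)) ↔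
      F * Polynomial.C (F.coeff 1) = Polynomial.derivative F * (1 + Polynomial.C μ * Polynomial.X) := by
  constructor
  · intro hI
    let D : Derivation A (MvPolynomial (Fin 2) A) (MvPolynomial (Fin 2) A) :=
      MvPolynomial.pderiv (1 : Fin 2)
    have hDx : D (MvPolynomial.X 0) = 0 := MvPolynomial.pderiv_X_of_ne (by decide)
    have hDy : D (MvPolynomial.X 1) = 1 := MvPolynomial.pderiv_X_self 1
    have hDC : ∀ a : A, D (MvPolynomial.C a) = 0 := fun a => MvPolynomial.pderiv_C
    have hDU : D (MvPolynomial.X 0 + MvPolynomial.X 1 +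
        MvPolynomial.C μ * MvPolynomial.X 0 * MvPolynomial.X 1) =
        1 + MvPolynomial.C μ * MvPolynomial.X 0 := by
      rw [map_add, map_add, Derivation.leibniz, Derivation.leibniz, hDx, hDy, hDC]
      simp
    have h1 := congrArg D hI
    rw [map_sub, map_sub, hDC, hDC, sub_zero, sub_zero, Derivation.leibniz, Derivation.map_aeval,
      Derivation.map_aeval, Derivation.map_aeval, hDx, hDy, hDU] at h1
    simp only [smul_eq_mul, mul_one, mul_zero, add_zero] at h1
    let φ : MvPolynomial (Fin 2) A →ₐ[A] A[X] := MvPolynomial.aeval ![Polynomial.X, 0]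
    have hφx : φ (MvPolynomial.X 0) = Polynomial.X := by simp [φ]
    have hφy : φ (MvPolynomial.X 1) = 0 := by simp [φ]
    have hφC : ∀ a : A, φ (MvPolynomial.C a) = Polynomial.C a := by intro a; simp [φ]
    have h2 := congrArg φ h1
    rw [map_mul, map_mul, ← Polynomial.aeval_algHom_apply, ← Polynomial.aeval_algHom_apply,
      ← Polynomial.aeval_algHom_apply, map_add, map_add, map_add, map_mul, map_mul, map_one,
      hφx, hφy, hφC, mul_zero, add_zero, add_zero, Polynomial.aeval_X_left_apply,
      Polynomial.aeval_X_left_apply, ← Polynomial.coeff_zero_eq_aeval_zero',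
      Polynomial.coeff_derivative] at h2
    simpa using h2
  · intro h
    have h2 := step2 A p hu μ F hF h
    let θ : A[X][X] →ₐ[A] MvPolynomial (Fin 2) A :=
      Polynomial.aevalTower (Polynomial.aeval (MvPolynomial.X 0)) (MvPolynomial.X 1)
    have hθs : θ (Polynomial.C Polynomial.X) = MvPolynomial.X 0 := by simp [θ]
    have hθt : θ Polynomial.X = MvPolynomial.X 1 := by simp [θ]
    have hθC : ∀ a : A, θ (Polynomial.C (Polynomial.C a)) = MvPolynomial.C a := by
      intro a; simp [θ]
    have h3 := congrArg θ h2
    rw [map_zero, map_sub, map_sub, map_sub, map_mul, ← Polynomial.aeval_algHom_apply,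
      ← Polynomial.aeval_algHom_apply, ← Polynomial.aeval_algHom_apply, map_add, map_add, map_mul,
      map_mul, hθs, hθt, hθC, hθC, hθC] at h3
    exact sub_eq_zero.mp h3

end Groth.Agent.S13156
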