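import Groth.Statements.S13157
import Mathlib

set_option autoImplicit false
universe u
open scoped Polynomial
open CAlg

namespace Groth.Agent.S13157

theorem coeff_identity (A : Type u) [CommRing A] (μ c : A) (F : A[X]) :
    F * Polynomial.C c = Polynomial.derivative F * (1 + Polynomial.C μ * Polynomial.X) ↔
      ∀ n : ℕ, F.coeff n * c = F.coeff (n + 1) * ((n : A) + 1) + μ * ((n : A) * F.coeff n) := by
  rw [Polynomial.ext_iff]
  refine forall_congr' fun n => ?_
  have h1 : Polynomial.derivative F * (1 + Polynomial.C μ * Polynomial.X) =
      Polynomial.derivative F + Polynomial.C μ * (Polynomial.derivative F * Polynomial.X) := by ring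
  rw [h1, Polynomial.coeff_mul_C, Polynomial.coeff_add, Polynomial.coeff_C_mul,
    Polynomial.coeff_derivative]
  cases n with
  | zero => simp
  | succ m =>
    rw [Polynomial.coeff_mul_X, Polynomial.coeff_derivative]
    push_cast
    constructor <;> intro h <;> rw [h] <;> ring

/-- (i) ⇔ (ii): let p be a prime number, A a commutative ring in which (p−1)! is invertible, μ ∈ A, and
F ∈ A[X] a polynomial of degree at most p − 1 with constant term a_0 = 1 and coefficients a_1, a_2,
…. Then the relations a_{r−1}·a_1 = (r − 1)μ·a_{r−1} + r·a_r for 1 ≤ r ≤ p (with a_p = 0), written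
here as the single identity a_1·F = F′·(1 + μX), hold if and only if r!·a_r = ∏_{k=0}^{r−1} (a_1 −
kμ) for every 1 ≤ r ≤ p − 1 and ∏_{k=0}^{p−1} (a_1 − kμ) = 0. (The published statement lists the
relations only for 1 ≤ r ≤ p − 1, while its proof uses and derives the relation for r = p as well,
which is needed for the vanishing of the last product; it is included here. The published setting is
the quotient of a discrete valuation ring of residue characteristic p by a nonzero non-unit; only
the invertibility of 1, …, p − 1 is used.) -/
theorem result (A : Type u) [CommRing A] (p : ℕ) [Fact p.Prime]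
    (hu : IsUnit ((Nat.factorial (p - 1) : ℕ) : A)) (μ : A) (F : A[X]) (hF : F.natDegree < p)
    (h0 : F.coeff 0 = 1) :
    F * Polynomial.C (F.coeff 1) = Polynomial.derivative F * (1 + Polynomial.C μ * Polynomial.X) ↔
      ((∀ r : ℕ, 1 ≤ r → r < p →
          (r.factorial : A) * F.coeff r = ∏ k ∈ Finset.range r, (F.coeff 1 - (k : A) * μ)) ∧
        ∏ k ∈ Finset.range p, (F.coeff 1 - (k : A) * μ) = 0) := by
  rw [coeff_identity]
  have hp : 0 < p := (Fact.out : p.Prime).pos
  have hzero : ∀ n, p ≤ n → F.coeff n = 0 := fun n hn =>
    Polynomial.coeff_eq_zero_of_natDegree_lt (lt_of_lt_of_le hF hn)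
  have hunit : ∀ n, n < p → IsUnit ((n.factorial : ℕ) : A) := by
    intro n hn
    have hdvd : n.factorial ∣ (p - 1).factorial := Nat.factorial_dvd_factorial (by omega)
    exact isUnit_of_dvd_unit (Nat.cast_dvd_cast (α := A) hdvd) hu
  constructor
  · intro h
    have hall : ∀ r : ℕ, (r.factorial : A) * F.coeff r = ∏ k ∈ Finset.range r, (F.coeff 1 - (k : A) * μ) := by
      intro r
      induction r with
      | zero => simp [h0]
      | succ r ih =>
        rw [Finset.prod_range_succ, ← ih, Nat.factorial_succ]
        push_cast
        have := h r
        calc ((r : A) + 1) * (r.factorial : A) * F.coeff (r + 1)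
            = (r.factorial : A) * (F.coeff (r + 1) * ((r : A) + 1)) := by ring
          _ = (r.factorial : A) * (F.coeff r * F.coeff 1 - μ * ((r : A) * F.coeff r)) := by
              rw [this]; ring
          _ = (r.factorial : A) * F.coeff r * (F.coeff 1 - (r : A) * μ) := by ring
    refine ⟨fun r _ _ => hall r, ?_⟩
    rw [← hall p, hzero p le_rfl, mul_zero]
  · rintro ⟨h1, h2⟩ n
    have hall : ∀ r : ℕ, r < p →
        (r.factorial : A) * F.coeff r = ∏ k ∈ Finset.range r, (F.coeff 1 - (k : A) * μ) := by
      intro r hr
      rcases Nat.eq_zero_or_pos r with rfl | hr0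
      · simp [h0]
      · exact h1 r hr0 hr
    rcases lt_trichotomy (n + 1) p with hlt | heq | hgt
    · -- n + 1 < p
      have hu' := hunit n (by omega)
      have e1 := hall (n + 1) hlt
      have e2 := hall n (by omega)
      rw [Finset.prod_range_succ, ← e2, Nat.factorial_succ] at e1
      push_cast at e1
      have : (n.factorial : A) * (F.coeff n * F.coeff 1) =
          (n.factorial : A) * (F.coeff (n + 1) * ((n : A) + 1) + μ * ((n : A) * F.coeff n)) := by
        have e1' : (n.factorial : A) * (F.coeff (n + 1) * ((n : A) + 1)) =
            (n.factorial : A) * F.coeff n * (F.coeff 1 - (n : A) * μ) := by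
          rw [← e1]; ring
        calc (n.factorial : A) * (F.coeff n * F.coeff 1)
            = (n.factorial : A) * F.coeff n * (F.coeff 1 - (n : A) * μ) +
                (n.factorial : A) * (μ * ((n : A) * F.coeff n)) := by ring
          _ = _ := by rw [← e1']; ring
      exact hu'.mul_left_cancel this
    · -- n + 1 = p
      have hu' := hunit n (by omega)
      have e2 := hall n (by omega)
      rw [← heq, Finset.prod_range_succ, ← e2] at h2
      rw [hzero (n + 1) (by omega), zero_mul, zero_add]
      have : (n.factorial : A) * (F.coeff n * F.coeff 1) =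
          (n.factorial : A) * (μ * ((n : A) * F.coeff n)) := by
        have : (n.factorial : A) * (F.coeff n * F.coeff 1) - (n.factorial : A) * (μ * ((n : A) * F.coeff n))
            = (n.factorial : A) * F.coeff n * (F.coeff 1 - (n : A) * μ) := by ring
        rw [h2] at this
        exact sub_eq_zero.mp this
      exact hu'.mul_left_cancel this
    · rw [hzero n (by omega), hzero (n + 1) (by omega)]
      simp

end Groth.Agent.S13157
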