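import Groth.Statements.S13160
import Mathlib

set_option autoImplicit false
universe u
open CAlg

namespace Groth.Agent.S13160


namespace H13160
open MvPolynomial WittVector

section poly
variable {σ : Type*}

def HighDeg (N : ℕ) (q : MvPolynomial σ ℤ) : Prop := ∀ m ∈ q.support, N ≤ Finsupp.degree m

theorem hd_zero (N : ℕ) : HighDeg N (0 : MvPolynomial σ ℤ) := by
  intro m hm; simp at hm

theorem hd_any (q : MvPolynomial σ ℤ) : HighDeg 0 q := fun _ _ => Nat.zero_le _

theorem hd_mono {N M : ℕ} {q : MvPolynomial σ ℤ} (h : HighDeg N q) (hMN : M ≤ N) : HighDeg M q :=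
  fun m hm => le_trans hMN (h m hm)

theorem hd_add {N : ℕ} {q r : MvPolynomial σ ℤ} (hq : HighDeg N q) (hr : HighDeg N r) :
    HighDeg N (q + r) := by
  classical
  intro m hm
  have := MvPolynomial.support_add hm
  rcases Finset.mem_union.1 this with h | h
  · exact hq m h
  · exact hr m h

theorem hd_neg {N : ℕ} {q : MvPolynomial σ ℤ} (hq : HighDeg N q) : HighDeg N (-q) := by
  intro m hm
  rw [MvPolynomial.support_neg] at hm
  exact hq m hm

theorem hd_sub {N : ℕ} {q r : MvPolynomial σ ℤ} (hq : HighDeg N q) (hr : HighDeg N r) :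
    HighDeg N (q - r) := by
  rw [sub_eq_add_neg]; exact hd_add hq (hd_neg hr)

theorem hd_mul {N M : ℕ} {q r : MvPolynomial σ ℤ} (hq : HighDeg N q) (hr : HighDeg M r) :
    HighDeg (N + M) (q * r) := by
  classical
  intro m hm
  have := MvPolynomial.support_mul q r hm
  obtain ⟨a, ha, b, hb, rfl⟩ := Finset.mem_add.1 this
  rw [map_add]
  exact add_le_add (hq a ha) (hr b hb)

theorem hd_mul_left {N : ℕ} (r : MvPolynomial σ ℤ) {q : MvPolynomial σ ℤ} (hq : HighDeg N q) :
    HighDeg N (r * q) := by
  have := hd_mul (hd_any r) hq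
  rwa [zero_add] at this

theorem hd_pow {q : MvPolynomial σ ℤ} (hq : HighDeg 1 q) (k : ℕ) : HighDeg k (q ^ k) := by
  induction k with
  | zero => exact hd_any _
  | succ k ih => rw [pow_succ]; exact hd_mul ih hq

theorem hd_of_constantCoeff {q : MvPolynomial σ ℤ} (hq : constantCoeff q = 0) : HighDeg 1 q := by
  intro m hm
  rw [Nat.one_le_iff_ne_zero]
  intro h0
  rw [Finsupp.degree_eq_zero_iff] at h0
  subst h0
  rw [MvPolynomial.mem_support_iff] at hm
  have : coeff 0 q = 0 := hq
  exact hm this

theorem hd_of_C_mul {N : ℕ} {c : ℤ} (hc : c ≠ 0) {q : MvPolynomial σ ℤ}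
    (h : HighDeg N (C c * q)) : HighDeg N q := by
  intro m hm
  apply h m
  rw [MvPolynomial.mem_support_iff] at hm ⊢
  rw [MvPolynomial.coeff_C_mul]
  exact mul_ne_zero hc hm

theorem hd_sum {ι : Type*} {N : ℕ} (s : Finset ι) (g : ι → MvPolynomial σ ℤ)
    (h : ∀ i ∈ s, HighDeg N (g i)) : HighDeg N (∑ i ∈ s, g i) := by
  classical
  induction s using Finset.induction_on with
  | empty => simpa using hd_zero N
  | insert a s ha ih =>
    rw [Finset.sum_insert ha]
    exact hd_add (h a (Finset.mem_insert_self a s))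
      (ih fun i hi => h i (Finset.mem_insert_of_mem hi))

end poly

theorem wittAdd_highDeg (p : ℕ) [hp : Fact p.Prime] (n : ℕ) :
    HighDeg p (wittAdd p n - X (0, n) - X (1, n)) := by
  have hp1 : 1 ≤ p := hp.out.one_le
  have key := wittStructureInt_prop p (X 0 + X 1 : MvPolynomial (Fin 2) ℤ) n
  have hL0 : bind₁ (wittStructureInt p (X 0 + X 1 : MvPolynomial (Fin 2) ℤ)) (wittPolynomial p ℤ n)
      = ∑ i ∈ Finset.range (n + 1), C ((p : ℤ) ^ i) *
        (wittStructureInt p (X 0 + X 1 : MvPolynomial (Fin 2) ℤ) i) ^ (p ^ (n - i)) := by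
    rw [wittPolynomial_eq_sum_C_mul_X_pow, map_sum]
    refine Finset.sum_congr rfl fun i _ => ?_
    rw [map_mul, bind₁_C_right]
    congr 1
    rw [map_pow, bind₁_X_right]
  have hL : bind₁ (wittStructureInt p (X 0 + X 1 : MvPolynomial (Fin 2) ℤ)) (wittPolynomial p ℤ n)
      = ∑ i ∈ Finset.range (n + 1), C ((p : ℤ) ^ i) * (wittAdd p i) ^ (p ^ (n - i)) := hL0
  have hR : bind₁ (fun i : Fin 2 => rename (Prod.mk i) (wittPolynomial p ℤ n))
        (X 0 + X 1 : MvPolynomial (Fin 2) ℤ)
      = ∑ i ∈ Finset.range (n + 1), C ((p : ℤ) ^ i) * (X (0, i)) ^ (p ^ (n - i))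
        + ∑ i ∈ Finset.range (n + 1), C ((p : ℤ) ^ i) * (X (1, i)) ^ (p ^ (n - i)) := by
    rw [map_add, bind₁_X_right, bind₁_X_right, wittPolynomial_eq_sum_C_mul_X_pow, map_sum, map_sum]
    congr 1 <;>
      exact Finset.sum_congr rfl fun i _ => by
        rw [map_mul, rename_C]
        congr 1
        rw [map_pow, rename_X]
  have e := hL.symm.trans (key.trans hR)
  rw [Finset.sum_range_succ, Finset.sum_range_succ, Finset.sum_range_succ, Nat.sub_self,
    pow_zero, pow_one, pow_one, pow_one] at e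
  have e2 : C ((p : ℤ) ^ n) * (wittAdd p n - X (0, n) - X (1, n))
      = ∑ i ∈ Finset.range n, C ((p : ℤ) ^ i) *
        ((X (0, i)) ^ (p ^ (n - i)) + (X (1, i)) ^ (p ^ (n - i)) - (wittAdd p i) ^ (p ^ (n - i))) := by
    simp only [mul_sub, mul_add, Finset.sum_sub_distrib, Finset.sum_add_distrib]
    linear_combination e
  apply hd_of_C_mul (c := (p : ℤ) ^ n) (pow_ne_zero _ (by exact_mod_cast hp.out.ne_zero))
  rw [e2]
  apply hd_sum
  intro i hi
  have hi' : i < n := Finset.mem_range.1 hi
  have hpk : p ≤ p ^ (n - i) := by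
    calc p = p ^ 1 := (pow_one p).symm
      _ ≤ p ^ (n - i) := Nat.pow_le_pow_right hp1 (by omega)
  apply hd_mul_left
  refine hd_sub (hd_add ?_ ?_) ?_
  · exact hd_mono (hd_pow (hd_of_constantCoeff (by simp)) _) hpk
  · exact hd_mono (hd_pow (hd_of_constantCoeff (by simp)) _) hpk
  · exact hd_mono (hd_pow (hd_of_constantCoeff (constantCoeff_wittAdd (p := p) i)) _) hpk

section chain
variable {S : Type*} [CommRing S]

theorem exists_dvd_all (hch : ∀ x y : S, x ∣ y ∨ y ∣ x) {ι : Type*} (f : ι → S) (s : Finset ι)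
    (hs : s.Nonempty) : ∃ i₀ ∈ s, ∀ i ∈ s, f i₀ ∣ f i := by
  classical
  induction s using Finset.induction_on with
  | empty => exact absurd hs (by simp)
  | insert a s ha ih =>
    rcases s.eq_empty_or_nonempty with rfl | hne
    · exact ⟨a, by simp, by simp⟩
    · obtain ⟨i₀, hi₀, h⟩ := ih hne
      rcases hch (f a) (f i₀) with h1 | h1
      · refine ⟨a, Finset.mem_insert_self a s, ?_⟩
        intro i hi
        rcases Finset.mem_insert.1 hi with hia | hi
        · rw [hia]
        · exact dvd_trans h1 (h i hi)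
      · refine ⟨i₀, Finset.mem_insert_of_mem hi₀, ?_⟩
        intro i hi
        rcases Finset.mem_insert.1 hi with hia | hi
        · rw [hia]; exact h1
        · exact h i hi

theorem prod_eq_zero_of_degree (hch : ∀ x y : S, x ∣ y ∨ y ∣ x) {ι : Type*} (f : ι → S) (p : ℕ)
    (hp : 1 ≤ p) (hf : ∀ i, f i ^ p = 0) (s : Finset ι) (e : ι → ℕ) (he : p ≤ ∑ i ∈ s, e i) :
    ∏ i ∈ s, f i ^ e i = 0 := by
  classical
  have hs : s.Nonempty := by
    rw [Finset.nonempty_iff_ne_empty]
    rintro rfl
    simp at he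
    omega
  obtain ⟨i₀, hi₀, h⟩ := exists_dvd_all hch f s hs
  choose! d hd using h
  have : ∏ i ∈ s, f i ^ e i = ∏ i ∈ s, (f i₀ ^ e i * d i ^ e i) :=
    Finset.prod_congr rfl fun i hi => by rw [← mul_pow, ← hd i hi]
  rw [this, Finset.prod_mul_distrib, Finset.prod_pow_eq_pow_sum]
  obtain ⟨k, hk⟩ := Nat.exists_eq_add_of_le he
  rw [hk, pow_add, hf, zero_mul, zero_mul]

theorem aeval_eq_zero_of_highDeg (hch : ∀ x y : S, x ∣ y ∨ y ∣ x) {σ : Type*} (f : σ → S) (p : ℕ)
    (hp : 1 ≤ p) (hf : ∀ i, f i ^ p = 0) (q : MvPolynomial σ ℤ) (hq : HighDeg p q) :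
    aeval f q = 0 := by
  rw [aeval_def, eval₂_eq]
  apply Finset.sum_eq_zero
  intro m hm
  rw [prod_eq_zero_of_degree hch f p hp hf m.support m (hq m hm), mul_zero]

end chain

end H13160

/-- Let R be a discrete valuation ring, p a prime number and λ an element of R dividing p (so that R/λR
is an 𝔽_p-algebra), and let a and b be p-typical Witt vectors with coefficients in R/λR which are
killed by the Frobenius endomorphism. Then the Witt sum a + b has components a_n + b_n for every n.
(The published statement allows an arbitrary λ ∈ R and is stated for Witt vectors with finitely many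
nonzero components; this row assumes that λ divides p, so that p = 0 in R/λR, and allows all Witt
vectors.) -/
theorem result (R : Type u) [CommRing R] [IsDomain R]
    [IsDiscreteValuationRing R] (p : ℕ) [Fact p.Prime] (lam : R) (hlam : lam ∣ (p : R))
    (a b : WittVector p (R ⧸ Ideal.span {lam})) (ha : WittVector.frobenius a = 0)
    (hb : WittVector.frobenius b = 0) (n : ℕ) : (a + b).coeff n = a.coeff n + b.coeff n := by
  classical
  by_cases hu : IsUnit lam
  · have : Subsingleton (R ⧸ Ideal.span {lam}) := by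
      rw [Ideal.Quotient.subsingleton_iff, Ideal.span_singleton_eq_top]; exact hu
    exact Subsingleton.elim _ _
  · have hchar : CharP (R ⧸ Ideal.span {lam}) p := by
      refine ⟨fun x => ?_⟩
      rw [← map_natCast (Ideal.Quotient.mk (Ideal.span {lam})) x, Ideal.Quotient.eq_zero_iff_mem,
        Ideal.mem_span_singleton]
      constructor
      · intro hx
        by_contra hpx
        have hcop : Nat.Coprime x p := ((Nat.Prime.coprime_iff_not_dvd (Fact.out)).2 hpx).symm
        have hcop' : IsCoprime (x : ℤ) (p : ℤ) := Nat.isCoprime_iff_coprime.2 hcop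
        obtain ⟨u, v, huv⟩ := hcop'
        have h1 : (u : R) * (x : R) + (v : R) * (p : R) = 1 := by
          have := congrArg (Int.cast : ℤ → R) huv
          push_cast at this
          exact this
        apply hu
        apply isUnit_of_dvd_one
        rw [← h1]
        exact dvd_add (Dvd.dvd.mul_left hx _) (Dvd.dvd.mul_left hlam _)
      · intro hpx
        exact dvd_trans hlam (Nat.cast_dvd_cast hpx)
    have hch : ∀ x y : R ⧸ Ideal.span {lam}, x ∣ y ∨ y ∣ x := by
      intro x y
      obtain ⟨a', rfl⟩ := Ideal.Quotient.mk_surjective x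
      obtain ⟨b', rfl⟩ := Ideal.Quotient.mk_surjective y
      rcases ValuationRing.dvd_total a' b' with h | h
      · exact Or.inl (map_dvd _ h)
      · exact Or.inr (map_dvd _ h)
    have hp1 : 1 ≤ p := (Fact.out : p.Prime).one_le
    have hf : ∀ i : Fin 2 × ℕ, (Function.uncurry ![a.coeff, b.coeff] i) ^ p = 0 := by
      rintro ⟨i, k⟩
      fin_cases i
      · show a.coeff k ^ p = 0
        rw [← WittVector.coeff_frobenius_charP, ha, WittVector.zero_coeff]
      · show b.coeff k ^ p = 0
        rw [← WittVector.coeff_frobenius_charP, hb, WittVector.zero_coeff]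
    rw [WittVector.add_coeff, WittVector.peval]
    have hq := H13160.aeval_eq_zero_of_highDeg hch _ p hp1 hf _ (H13160.wittAdd_highDeg p n)
    rw [map_sub, map_sub, MvPolynomial.aeval_X, MvPolynomial.aeval_X, sub_sub, sub_eq_zero] at hq
    rw [hq]
    rfl

end Groth.Agent.S13160
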