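import Groth.Statements.S13161
import Mathlib

set_option autoImplicit false
universe u
open scoped TensorProduct
open CAlg

namespace Groth.Agent.S13161

open TensorProduct

section helpers

variable (R : Type u) [CommRing R] [IsDomain R] (K : Type u) [Field K] [Algebra R K]
  [IsFractionRing R K] (A : Type u) [CommRing A] [Algebra R A]

/-- clearing denominators in `A ⊗[R] K` -/
theorem exists_den (z : A ⊗[R] K) : ∃ s : R, s ≠ 0 ∧ ∃ a : A, s • z = a ⊗ₜ[R] (1 : K) := by
  induction z using TensorProduct.induction_on with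
  | zero => exact ⟨1, one_ne_zero, 0, by simp⟩
  | tmul a x =>
    obtain ⟨⟨r, s⟩, hrs⟩ := IsLocalization.surj (nonZeroDivisors R) x
    refine ⟨s, nonZeroDivisors.ne_zero s.2, r • a, ?_⟩
    simp only at hrs
    rw [TensorProduct.smul_tmul', TensorProduct.smul_tmul, TensorProduct.smul_tmul, Algebra.smul_def,
      mul_comm, hrs, Algebra.smul_def, mul_one]
  | add z₁ z₂ h₁ h₂ =>
    obtain ⟨s₁, hs₁, a₁, h₁⟩ := h₁
    obtain ⟨s₂, hs₂, a₂, h₂⟩ := h₂
    refine ⟨s₁ * s₂, mul_ne_zero hs₁ hs₂, s₂ • a₁ + s₁ • a₂, ?_⟩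
    have e1 : (s₁ * s₂) • z₁ = s₂ • (a₁ ⊗ₜ[R] (1 : K)) := by rw [mul_comm, mul_smul, h₁]
    have e2 : (s₁ * s₂) • z₂ = s₁ • (a₂ ⊗ₜ[R] (1 : K)) := by rw [mul_smul, h₂]
    rw [smul_add, e1, e2, TensorProduct.add_tmul, TensorProduct.smul_tmul',
      TensorProduct.smul_tmul']

theorem smul_eq_zero_imp (s : R) (hs : s ≠ 0) (z : A ⊗[R] K) (h : s • z = 0) : z = 0 := by
  have hsK : algebraMap R K s ≠ 0 := by
    rw [Ne, map_eq_zero_iff _ (IsFractionRing.injective R K)]; exact hs
  let μ : K →ₗ[R] K := LinearMap.mulLeft R ((algebraMap R K s)⁻¹)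
  have key : ∀ z : A ⊗[R] K, LinearMap.lTensor A μ (s • z) = z := by
    intro z
    induction z using TensorProduct.induction_on with
    | zero => simp
    | tmul a x =>
      rw [TensorProduct.smul_tmul', TensorProduct.smul_tmul, LinearMap.lTensor_tmul]
      congr 1
      simp only [μ, LinearMap.mulLeft_apply, Algebra.smul_def]
      field_simp
    | add z₁ z₂ h₁ h₂ => rw [smul_add, map_add, h₁, h₂]
  rw [← key z, h, map_zero]

end helpers

/-- Let R be a discrete valuation ring with fraction field K, A an R-algebra which is semireflexive as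
an R-module (the map to its double dual is injective: every nonzero a ∈ A has an R-linear form f : A
→ R with f(a) ≠ 0), and B an A-algebra which is finitely generated as an A-module and flat over R.
Suppose B ⊗ K is semireflexive as a module over A ⊗ K, which for such B amounts to: every nonzero b
∈ B has an A-linear map g : B → A ⊗_R K with g(b) ≠ 0. Then B is semireflexive as an R-module: every
nonzero b ∈ B has an R-linear form h : B → R with h(b) ≠ 0. (The published statement phrases the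
hypothesis on B_K as an A_K-module; for B flat over R and finite over A this is the elementwise
condition used here.) -/
theorem result (R : Type u) [CommRing R] [IsDomain R]
    [IsDiscreteValuationRing R] (K : Type u) [Field K] [Algebra R K] [IsFractionRing R K]
    (A B : Type u) [CommRing A] [CommRing B] [Algebra R A] [Algebra R B] [Algebra A B] [IsScalarTower R A B]
    [Module.Finite A B] [Module.Flat R B]
    (hA : ∀ a : A, a ≠ 0 → ∃ f : A →ₗ[R] R, f a ≠ 0)
    (hBK : ∀ b : B, b ≠ 0 → ∃ g : B →ₗ[A] A ⊗[R] K, g b ≠ 0) :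
    ∀ b : B, b ≠ 0 → ∃ h : B →ₗ[R] R, h b ≠ 0 := by
  classical
  intro b hb
  obtain ⟨g, hg⟩ := hBK b hb
  -- a common denominator for `g` on all of `B`
  have hden : ∃ s : R, s ≠ 0 ∧ ∀ y : B, ∃ a : A, s • g y = a ⊗ₜ[R] (1 : K) := by
    obtain ⟨S, hS⟩ := (Module.Finite.fg_top : (⊤ : Submodule A B).FG)
    have hgen : ∀ y ∈ S, ∃ s : R, s ≠ 0 ∧ ∃ a : A, s • g y = a ⊗ₜ[R] (1 : K) :=
      fun y _ => exists_den R K A (g y)
    choose! sf hsf af haf using hgen
    refine ⟨∏ y ∈ S, sf y, Finset.prod_ne_zero_iff.2 (fun y hy => hsf y hy), ?_⟩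
    intro y
    have hy : y ∈ Submodule.span A (S : Set B) := by rw [hS]; trivial
    induction hy using Submodule.span_induction with
    | mem y hy =>
      refine ⟨(∏ y' ∈ S.erase y, sf y') • af y, ?_⟩
      rw [← Finset.mul_prod_erase S sf hy, mul_comm, mul_smul, haf y hy, TensorProduct.smul_tmul']
    | zero => exact ⟨0, by simp⟩
    | add y₁ y₂ _ _ h₁ h₂ =>
      obtain ⟨a₁, h₁⟩ := h₁
      obtain ⟨a₂, h₂⟩ := h₂
      exact ⟨a₁ + a₂, by rw [map_add, smul_add, h₁, h₂, TensorProduct.add_tmul]⟩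
    | smul c y _ h₁ =>
      obtain ⟨a₁, h₁⟩ := h₁
      refine ⟨c * a₁, ?_⟩
      rw [map_smul, smul_comm, h₁, TensorProduct.smul_tmul', smul_eq_mul]
  obtain ⟨s, hs, hsg⟩ := hden
  obtain ⟨a, ha⟩ := hsg b
  have hsK : algebraMap R K s ≠ 0 := by
    rw [Ne, map_eq_zero_iff _ (IsFractionRing.injective R K)]; exact hs
  have ha0 : a ≠ 0 := by
    rintro rfl
    rw [TensorProduct.zero_tmul] at ha
    exact hg (smul_eq_zero_imp R K A s hs _ ha)
  obtain ⟨f, hf⟩ := hA a ha0
  -- the `R`-linear map `B → K`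
  let fK : A ⊗[R] K →ₗ[R] K := (TensorProduct.lid R K).toLinearMap ∘ₗ (LinearMap.rTensor K f)
  have hfK : ∀ a' : A, fK (a' ⊗ₜ[R] (1 : K)) = algebraMap R K (f a') := by
    intro a'
    simp [fK, Algebra.smul_def]
  let hK : B →ₗ[R] K := s • (fK ∘ₗ (g.restrictScalars R))
  have hrange : ∀ y : B, hK y ∈ LinearMap.range (Algebra.linearMap R K) := by
    intro y
    obtain ⟨a', ha'⟩ := hsg y
    refine ⟨f a', ?_⟩
    simp only [hK, LinearMap.smul_apply, LinearMap.comp_apply, LinearMap.restrictScalars_apply,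
      Algebra.linearMap_apply]
    rw [← map_smul, ha', hfK]
  let e := LinearEquiv.ofInjective (Algebra.linearMap R K) (IsFractionRing.injective R K)
  refine ⟨e.symm.toLinearMap ∘ₗ (hK.codRestrict _ hrange), ?_⟩
  simp only [LinearMap.comp_apply, LinearEquiv.coe_coe]
  rw [Ne, LinearEquiv.map_eq_zero_iff]
  intro h0
  have h1 : hK b = 0 := congrArg Subtype.val h0
  simp only [hK, LinearMap.smul_apply, LinearMap.comp_apply, LinearMap.restrictScalars_apply] at h1
  rw [← map_smul, ha, hfK, map_eq_zero_iff _ (IsFractionRing.injective R K)] at h1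
  exact hf h1

end Groth.Agent.S13161
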