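import Groth.Statements.S13162
import Mathlib

set_option autoImplicit false
universe u v
open ZeroCyc

namespace Groth.Agent.S13162

/-- Let a finite group G act on a commutative ring A by ring automorphisms and let p be a prime such
that every integer prime to p is a unit in A. If I is an ideal of A and f ∈ A has G-invariant class
modulo I, then f^(p^k) is congruent modulo I to a G-invariant element of A, where p^k is the exact
power of p dividing the order of G. (The published statement assumes I stable under G, so that G
acts on A/I and the claim reads: the p^k-th power of an invariant of A/I lies in the image of the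
invariants of A; the form here asks only that the class of f be invariant.) -/
theorem result {A : Type u} [CommRing A] {G : Type v} [Group G] [Fintype G]
    [MulSemiringAction G A] (p : ℕ) [Fact p.Prime]
    (hA : ∀ m : ℕ, ¬ p ∣ m → IsUnit (m : A))
    (I : Ideal A) (f : A) (hf : ∀ g : G, g • f - f ∈ I) :
    ∃ a : A, (∀ g : G, g • a = a) ∧ a - f ^ (p ^ (Fintype.card G).factorization p) ∈ I := by
  classical
  obtain ⟨P⟩ : Nonempty (Sylow p G) := inferInstance
  let H : Subgroup G := P
  haveI : Fintype H := Fintype.ofFinite _
  haveI : Fintype (G ⧸ H) := Fintype.ofFinite _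
  -- norm along a coset
  let N : G → A := fun g => ∏ h : H, (g * (h : G)) • f
  have hN : ∀ g (h' : H), N (g * h') = N g := by
    intro g h'
    simp only [N]
    exact Fintype.prod_equiv (Equiv.mulLeft h') _ _ (fun h => by simp [mul_assoc])
  let Nq : G ⧸ H → A := Quotient.lift (s := QuotientGroup.leftRel H) N (by
    intro a b hab
    have hmem : a⁻¹ * b ∈ H := QuotientGroup.leftRel_apply.mp hab
    have := hN a ⟨a⁻¹ * b, hmem⟩
    simpa using this.symm)
  have hNq : ∀ g : G, Nq (g : G ⧸ H) = N g := fun g => rfl
  let S : A := ∑ c : G ⧸ H, Nq c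
  have hsmulN : ∀ (σ g : G), σ • N g = N (σ * g) := by
    intro σ g
    simp only [N]
    rw [← MulSemiringAction.toRingHom_apply G A σ, map_prod]
    refine Finset.prod_congr rfl (fun h _ => ?_)
    rw [MulSemiringAction.toRingHom_apply, smul_smul, mul_assoc]
  have hsmulNq : ∀ (σ : G) (c : G ⧸ H), σ • Nq c = Nq (σ • c) := by
    intro σ c
    induction c using QuotientGroup.induction_on with
    | H g =>
      rw [hNq, hsmulN]
      rfl
  have hS : ∀ σ : G, σ • S = S := by
    intro σ
    simp only [S]
    rw [Finset.smul_sum]
    simp_rw [hsmulNq]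
    exact Fintype.sum_equiv (MulAction.toPerm σ) _ _ (fun c => rfl)
  -- the index is a unit
  have hu : IsUnit ((H.index : ℕ) : A) := hA _ P.not_dvd_index
  obtain ⟨v, hv⟩ := isUnit_iff_exists_inv.mp hu
  have hsmulnat : ∀ (σ : G) (n : ℕ), σ • (n : A) = (n : A) := by
    intro σ n
    rw [← MulSemiringAction.toRingHom_apply G A σ, map_natCast]
  have hvinv : ∀ σ : G, σ • v = v := by
    intro σ
    have h1 : ((H.index : ℕ) : A) * (σ • v) = 1 := by
      have := congrArg (fun z => σ • z) hv
      simp only [smul_mul', smul_one, hsmulnat] at this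
      exact this
    calc σ • v = (v * ((H.index : ℕ) : A)) * (σ • v) := by rw [mul_comm v, hv, one_mul]
      _ = v * (((H.index : ℕ) : A) * (σ • v)) := by ring
      _ = v := by rw [h1, mul_one]
  refine ⟨v * S, fun σ => by rw [smul_mul', hvinv, hS], ?_⟩
  -- congruence
  rw [← Ideal.Quotient.eq]
  have hmk : ∀ g : G, Ideal.Quotient.mk I (g • f) = Ideal.Quotient.mk I f :=
    fun g => Ideal.Quotient.eq.mpr (hf g)
  have hmkN : ∀ g : G, Ideal.Quotient.mk I (N g) = (Ideal.Quotient.mk I f) ^ (Fintype.card H) := by
    intro g
    simp only [N, map_prod, hmk, Finset.prod_const, Finset.card_univ]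
  have hmkNq : ∀ c : G ⧸ H, Ideal.Quotient.mk I (Nq c) = (Ideal.Quotient.mk I f) ^ (Fintype.card H) := by
    intro c
    induction c using QuotientGroup.induction_on with
    | H g => rw [hNq, hmkN]
  have hcardH : Fintype.card H = p ^ (Fintype.card G).factorization p := by
    have := P.card_eq_multiplicity
    rw [Nat.card_eq_fintype_card (α := G)] at this
    rw [← this, Nat.card_eq_fintype_card]
  have hidx : H.index = Fintype.card (G ⧸ H) := by
    rw [Subgroup.index, Nat.card_eq_fintype_card]
  rw [map_mul, map_sum]
  simp_rw [hmkNq]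
  rw [Finset.sum_const, Finset.card_univ, ← hidx, nsmul_eq_mul, ← mul_assoc, ← map_natCast (Ideal.Quotient.mk I),
    ← map_mul, mul_comm v, hv, map_one, one_mul, hcardH, map_pow]

end Groth.Agent.S13162
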