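import Groth.Statements.S13163
import Mathlib

set_option autoImplicit false
universe u
open ZeroCyc

namespace Groth.Agent.S13163

open Polynomial in
/-- Let P_d(T) = ∏_{0 ≤ i < j ≤ d} (T^i − T^j) − 1 ∈ ℤ[T]. Every residue field of ℤ[T]/(P_d), i.e. every
field receiving a ring homomorphism from it, has at least d + 1 elements. -/
theorem result (d : ℕ) (k : Type u) [Field k]
    (φ : (ℤ[X] ⧸ Ideal.span {(∏ j ∈ Finset.range (d + 1), ∏ i ∈ Finset.range j,
        ((X : ℤ[X]) ^ i - X ^ j)) - 1}) →+* k) :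
    ((d + 1 : ℕ) : Cardinal) ≤ Cardinal.mk k := by
  by_contra hlt
  push_neg at hlt
  have hfin : Finite k := Cardinal.lt_aleph0_iff_finite.mp (hlt.trans (Cardinal.nat_lt_aleph0 (d+1)))
  haveI := Fintype.ofFinite k
  rw [Cardinal.mk_fintype, Nat.cast_lt] at hlt
  set P : ℤ[X] := (∏ j ∈ Finset.range (d + 1), ∏ i ∈ Finset.range j, ((X : ℤ[X]) ^ i - X ^ j)) - 1 with hP
  set t : k := φ (Ideal.Quotient.mk _ X) with ht
  -- pigeonhole
  obtain ⟨a, b, hab, hpow⟩ : ∃ a b : Fin (d+1), a ≠ b ∧ t ^ (a : ℕ) = t ^ (b : ℕ) := by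
    have : ¬ Function.Injective (fun a : Fin (d+1) => t ^ (a : ℕ)) := by
      intro hinj
      have := Fintype.card_le_of_injective _ hinj
      simp at this
      omega
    simpa [Function.Injective, and_comm] using this
  have h0 : φ (Ideal.Quotient.mk _ P) = 0 := by
    have : Ideal.Quotient.mk (Ideal.span {P}) P = 0 :=
      Ideal.Quotient.eq_zero_iff_mem.mpr (Ideal.subset_span rfl)
    rw [this, map_zero]
  have h1 : φ (Ideal.Quotient.mk _ P) = (∏ j ∈ Finset.range (d + 1), ∏ i ∈ Finset.range j, (t ^ i - t ^ j)) - 1 := by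
    simp [hP, ht, map_sub, map_prod, map_pow]
  have h2 : (∏ j ∈ Finset.range (d + 1), ∏ i ∈ Finset.range j, (t ^ i - t ^ j)) = 0 := by
    rcases lt_or_gt_of_ne (Fin.val_ne_of_ne hab) with h | h
    · apply Finset.prod_eq_zero (i := (b : ℕ)) (Finset.mem_range.mpr b.2)
      apply Finset.prod_eq_zero (i := (a : ℕ)) (Finset.mem_range.mpr h)
      rw [hpow, sub_self]
    · apply Finset.prod_eq_zero (i := (a : ℕ)) (Finset.mem_range.mpr a.2)
      apply Finset.prod_eq_zero (i := (b : ℕ)) (Finset.mem_range.mpr h)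
      rw [hpow, sub_self]
  rw [h1, h2] at h0
  simp at h0

end Groth.Agent.S13163
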