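import Groth.Statements.S13166
import Mathlib

set_option autoImplicit false
universe u
open ZeroCyc

namespace Groth.Agent.S13166

/-- A vector space over `K` is not the union of `n ≤ #K` proper subspaces. -/
theorem exists_not_mem {ι K M : Type*} [Field K] [AddCommGroup M] [Module K M]
    (s : Finset ι) (p : ι → Submodule K M) (h₁ : ∀ i ∈ s, p i ≠ ⊤)
    (h₂ : (s.card : Cardinal) ≤ Cardinal.mk K) : ∃ x : M, ∀ i ∈ s, x ∉ p i := by
  classical
  induction s using Finset.induction_on with
  | empty => exact ⟨0, by simp⟩
  | insert j s hj ih =>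
    have hcard : (insert j s).card = s.card + 1 := Finset.card_insert_of_notMem hj
    have h₂' : (s.card : Cardinal) ≤ Cardinal.mk K := by
      refine le_trans ?_ h₂
      rw [hcard]; exact_mod_cast Nat.le_succ _
    obtain ⟨x, hx⟩ := ih (fun i hi => h₁ i (Finset.mem_insert_of_mem hi)) h₂'
    by_cases hxj : x ∉ p j
    · exact ⟨x, fun i hi => by
        rcases Finset.mem_insert.mp hi with rfl | hi
        · exact hxj
        · exact hx i hi⟩
    rw [not_not] at hxj
    obtain ⟨y, hy⟩ : ∃ y, y ∉ p j := by
      have := h₁ j (Finset.mem_insert_self j s)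
      contrapose! this
      ext z; simp [this z]
    by_contra hcon
    push Not at hcon
    -- every point y + t x lies in some p i, i ∈ s
    have hbad : ∀ t : K, ∃ i ∈ s, y + t • x ∈ p i := by
      intro t
      obtain ⟨i, hi, hmem⟩ := hcon (y + t • x)
      rcases Finset.mem_insert.mp hi with rfl | hi
      · exfalso
        apply hy
        have : y = (y + t • x) - t • x := by abel
        rw [this]
        exact sub_mem hmem ((p i).smul_mem t hxj)
      · exact ⟨i, hi, hmem⟩
    choose f hfs hf using hbad
    have finj : Function.Injective (fun t : K => (⟨f t, hfs t⟩ : s)) := by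
      intro t t' htt'
      simp only [Subtype.mk.injEq] at htt'
      by_contra hne
      have h1 := hf t
      have h2 := hf t'
      rw [htt'] at h1
      have : (t - t') • x ∈ p (f t') := by
        have : (t - t') • x = (y + t • x) - (y + t' • x) := by
          rw [sub_smul]; abel
        rw [this]; exact sub_mem h1 h2
      have hxm : x ∈ p (f t') := ((p (f t')).smul_mem_iff (sub_ne_zero.mpr hne)).mp this
      exact hx _ (hfs t') hxm
    have hle : Cardinal.mk K ≤ (s.card : Cardinal) := by
      haveI : Finite K := Finite.of_injective _ finj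
      have h3 := Nat.card_le_card_of_injective _ finj
      rw [Nat.card_eq_fintype_card (α := s), Fintype.card_coe] at h3
      rw [← Nat.cast_card]
      exact_mod_cast h3
    have : ((s.card + 1 : ℕ) : Cardinal) ≤ (s.card : Cardinal) := by
      rw [← hcard]; exact h₂.trans hle
    have := Nat.cast_le.mp this
    omega

/-- Let k be a field, B a k-algebra generated as an algebra by a k-subspace V, k'/k a field extension
and x_1, …, x_d pairwise distinct k'-points of B ⊗_k k' (equivalently, distinct k-algebra
homomorphisms B → k'). If k has at least d(d − 1)/2 elements, then there is b ∈ V whose values at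
x_1, …, x_d are pairwise distinct. -/
theorem result {k : Type u} [Field k] {B : Type u} [CommRing B] [Algebra k B] (V : Submodule k B)
    (hV : Algebra.adjoin k (V : Set B) = ⊤) {k' : Type u} [Field k'] [Algebra k k']
    {d : ℕ} (x : Fin d → (B →ₐ[k] k')) (hx : Function.Injective x)
    (hk : ((d.choose 2 : ℕ) : Cardinal) ≤ Cardinal.mk k) :
    ∃ b ∈ V, Function.Injective fun i => x i b := by
  classical
  -- subspace of V where x i and x j agree
  let q : Fin d → Fin d → Submodule k V := fun i j =>
    (LinearMap.eqLocus (x i).toLinearMap (x j).toLinearMap).comap V.subtype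
  have hqsymm : ∀ i j, q i j = q j i := by
    intro i j; ext b; simp [q, LinearMap.mem_eqLocus, eq_comm]
  have hqne : ∀ i j, i ≠ j → q i j ≠ ⊤ := by
    intro i j hij htop
    apply hij
    apply hx
    apply AlgHom.ext_of_adjoin_eq_top hV
    intro b hb
    have : (⟨b, hb⟩ : V) ∈ q i j := by rw [htop]; trivial
    simpa [q, LinearMap.mem_eqLocus] using this
  let P : Sym2 (Fin d) → Submodule k V :=
    Sym2.lift ⟨q, hqsymm⟩
  let ι := {z : Sym2 (Fin d) // ¬ z.IsDiag}
  have hcard : (Finset.univ : Finset ι).card = d.choose 2 := by
    rw [Finset.card_univ, Sym2.card_subtype_not_diag, Fintype.card_fin]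
  obtain ⟨b, hb⟩ := exists_not_mem (K := k) (M := V) (Finset.univ : Finset ι) (fun z => P z.1)
    (by
      rintro ⟨z, hz⟩ -
      induction z using Sym2.ind with
      | _ i j =>
        simp only [P, Sym2.lift_mk]
        exact hqne i j (by simpa using hz))
    (by rw [hcard]; exact hk)
  refine ⟨b.1, b.2, ?_⟩
  intro i j hij
  by_contra hne
  have := hb ⟨s(i, j), by simpa using hne⟩ (Finset.mem_univ _)
  apply this
  simp only [P, Sym2.lift_mk, q, Submodule.mem_comap, LinearMap.mem_eqLocus]
  exact hij

end Groth.Agent.S13166
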