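import Groth.Statements.S13167
import Groth.Agent.Lib.Helper20.Graded

set_option autoImplicit false
universe u
open AlgebraicGeometry
open ZeroCyc

namespace Groth.Agent.S13167

open Cardinal

section helpers

variable {R A : Type u} [CommRing R] [CommRing A] [Algebra R A] (𝒜 : ℕ → Submodule R A)
  [GradedAlgebra 𝒜]

theorem exists_frac (p : Ideal R) [p.IsPrime] (t : p.ResidueField) :
    ∃ c s : R, s ∉ p ∧ t * algebraMap R p.ResidueField s = algebraMap R p.ResidueField c := by
  obtain ⟨⟨a, b⟩, hab⟩ := IsLocalization.surj (nonZeroDivisors (R ⧸ p)) t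
  obtain ⟨c, rfl⟩ := Ideal.Quotient.mk_surjective a
  obtain ⟨s, hs⟩ := Ideal.Quotient.mk_surjective (b : R ⧸ p)
  refine ⟨c, s, ?_, ?_⟩
  · intro hsp
    have h0 : (b : R ⧸ p) = 0 := by rw [← hs]; exact Ideal.Quotient.eq_zero_iff_mem.2 hsp
    exact (nonZeroDivisors.ne_zero b.2) h0
  · simp only at hab
    rw [← hs] at hab
    exact hab

theorem avoid (p : Ideal R) [p.IsPrime]
    (hv : ∀ y : Proj 𝒜, (y.asHomogeneousIdeal.toIdeal).comap (algebraMap R A) = p →
      ∃ v ∈ 𝒜 1, v ∉ y.asHomogeneousIdeal.toIdeal) :
    ∀ (d : ℕ) (x : Fin d → Proj 𝒜),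
      (∀ i, ((x i).asHomogeneousIdeal.toIdeal).comap (algebraMap R A) = p) →
      (d : Cardinal) ≤ Cardinal.mk p.ResidueField →
      ∃ g ∈ 𝒜 1, ∀ i, g ∉ (x i).asHomogeneousIdeal.toIdeal := by
  classical
  intro d
  induction d with
  | zero =>
    intro x _ _
    exact ⟨0, Submodule.zero_mem _, fun i => i.elim0⟩
  | succ d ih =>
    intro x hx hcard
    have hcard' : (d : Cardinal) ≤ Cardinal.mk p.ResidueField :=
      le_trans (by exact_mod_cast Nat.le_succ d) hcard
    obtain ⟨u, hu1, hu⟩ := ih (fun i => x (Fin.castSucc i)) (fun i => hx _) hcard'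
    by_cases hul : u ∈ (x (Fin.last d)).asHomogeneousIdeal.toIdeal
    · obtain ⟨v, hv1, hvl⟩ := hv (x (Fin.last d)) (hx _)
      obtain ⟨T, hT⟩ := Cardinal.exists_finset_le_card p.ResidueField (d + 1) (by exact_mod_cast hcard)
      have hfrac := fun t : p.ResidueField => exists_frac p t
      choose c s hs hcs using hfrac
      by_cases hgood : ∃ t ∈ T, ∀ i : Fin d,
          s t • v + c t • u ∉ (x (Fin.castSucc i)).asHomogeneousIdeal.toIdeal
      · obtain ⟨t, _, ht⟩ := hgood
        refine ⟨s t • v + c t • u, Submodule.add_mem _ (Submodule.smul_mem _ _ hv1)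
          (Submodule.smul_mem _ _ hu1), ?_⟩
        intro i
        refine Fin.lastCases ?_ (fun i => ht i) i
        intro hmem
        have h1 : c t • u ∈ (x (Fin.last d)).asHomogeneousIdeal.toIdeal := by
          rw [Algebra.smul_def]; exact Ideal.mul_mem_left _ _ hul
        have h2 : s t • v ∈ (x (Fin.last d)).asHomogeneousIdeal.toIdeal := by
          have := Ideal.sub_mem _ hmem h1
          rwa [add_sub_cancel_right] at this
        rw [Algebra.smul_def] at h2
        rcases (x (Fin.last d)).isPrime.mem_or_mem h2 with h3 | h3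
        · apply hs t
          rw [← hx (Fin.last d)]
          exact h3
        · exact hvl h3
      · exfalso
        push Not at hgood
        choose φ hφ using hgood
        have hinj : Function.Injective (fun t : T => φ t.1 t.2) := by
          rintro ⟨t, ht⟩ ⟨t', ht'⟩ hEq
          simp only at hEq
          have m1 := hφ t ht
          have m2 := hφ t' ht'
          rw [← hEq] at m2
          set I := (x (Fin.castSucc (φ t ht))).asHomogeneousIdeal.toIdeal with hI
          have hprime : I.IsPrime := (x (Fin.castSucc (φ t ht))).isPrime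
          have m3 : (s t' * c t - s t * c t') • u ∈ I := by
            have e : (s t' * c t - s t * c t') • u =
                s t' • (s t • v + c t • u) - s t • (s t' • v + c t' • u) := by
              simp only [Algebra.smul_def, map_sub, map_mul]; ring
            rw [e]
            refine Ideal.sub_mem _ ?_ ?_
            · rw [Algebra.smul_def (s t')]; exact Ideal.mul_mem_left _ _ m1
            · rw [Algebra.smul_def (s t)]; exact Ideal.mul_mem_left _ _ m2
          rw [Algebra.smul_def] at m3
          have m4 : s t' * c t - s t * c t' ∈ p := by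
            rcases hprime.mem_or_mem m3 with h3 | h3
            · rw [← hx (Fin.castSucc (φ t ht))]; exact h3
            · exact absurd h3 (hu _)
          have m5 := Ideal.algebraMap_residueField_eq_zero.2 m4
          rw [map_sub, map_mul, map_mul, sub_eq_zero, ← hcs t, ← hcs t'] at m5
          have hs1 : algebraMap R p.ResidueField (s t) ≠ 0 := fun h0 =>
            hs t (Ideal.algebraMap_residueField_eq_zero.1 h0)
          have hs2 : algebraMap R p.ResidueField (s t') ≠ 0 := fun h0 =>
            hs t' (Ideal.algebraMap_residueField_eq_zero.1 h0)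
          have : t = t' := by
            have h6 : (algebraMap R p.ResidueField (s t') * algebraMap R p.ResidueField (s t)) * t =
                (algebraMap R p.ResidueField (s t') * algebraMap R p.ResidueField (s t)) * t' := by
              linear_combination m5
            exact mul_left_cancel₀ (mul_ne_zero hs2 hs1) h6
          exact Subtype.ext this
        have := Fintype.card_le_of_injective _ hinj
        simp only [Fintype.card_coe, Fintype.card_fin] at this
        omega
    · exact ⟨u, hu1, fun i => Fin.lastCases hul (fun i => hu i) i⟩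

end helpers

/-- Let B be a graded R-algebra generated by its degree-one part B_1, with B_1 a finitely generated
R-module, and let x_1, …, x_d be points of X = Proj B lying over one and the same prime p of R. If
the residue field of p has at least d elements, then some f ∈ B_1 ⊆ Γ(X, O_X(1)) has all the x_i in
D_+(f). (Without the hypothesis on the residue field such an f exists in some B_n with n ≥ 1; that
first assertion is a known property of ample sheaves and is not restated here.) -/
theorem result {R A : Type u} [CommRing R] [CommRing A] [Algebra R A] (𝒜 : ℕ → Submodule R A) [GradedAlgebra 𝒜]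
    (hgen : Algebra.adjoin R (𝒜 1 : Set A) = ⊤) (hfg : (𝒜 1).FG)
    (p : Ideal R) [p.IsPrime] {d : ℕ} (x : Fin d → Proj 𝒜)
    (hx : ∀ i, ((x i).asHomogeneousIdeal.toIdeal).comap (algebraMap R A) = p)
    (hcard : (d : Cardinal) ≤ Cardinal.mk p.ResidueField) :
    ∃ g ∈ 𝒜 1, ∀ i, x i ∈ Proj.basicOpen 𝒜 g := by
  classical
  obtain ⟨s, f, hf⟩ := Submodule.fg_iff_exists_fin_generating_family.1 hfg
  have hfmem : ∀ i, f i ∈ 𝒜 1 := fun i => hf ▸ Submodule.subset_span ⟨i, rfl⟩
  have hgen' : Algebra.adjoin R (Set.range f) = ⊤ := by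
    rw [eq_top_iff, ← hgen]
    apply Algebra.adjoin_le
    intro a ha
    have : a ∈ Submodule.span R (Set.range f) := by rw [hf]; exact ha
    exact Algebra.span_le_adjoin R _ this
  have hv : ∀ y : Proj 𝒜, (y.asHomogeneousIdeal.toIdeal).comap (algebraMap R A) = p →
      ∃ v ∈ 𝒜 1, v ∉ y.asHomogeneousIdeal.toIdeal := by
    intro y _
    obtain ⟨i, hi⟩ := Groth.Agent.Lib.Helper20.Graded.exists_generator_notMem 𝒜 f (fun _ => 1)
      (fun _ => Nat.one_pos) hfmem hgen' y.asHomogeneousIdeal y.not_irrelevant_le
    exact ⟨f i, hfmem i, hi⟩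
  obtain ⟨g, hg1, hg⟩ := avoid 𝒜 p hv d x hx hcard
  exact ⟨g, hg1, fun i => (Proj.mem_basicOpen 𝒜 _ (x i)).2 (hg i)⟩

end Groth.Agent.S13167
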