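import Groth.Statements.S13169
import Groth.Agent.Lib.Helper3.TwistProj

set_option autoImplicit false
universe u
open AlgebraicGeometry
open ZeroCyc

namespace Groth.Agent.S13169

open Groth.Agent.Lib.Helper3 in
/-- a power of a homogeneous element lying in a prescribed degree -/
theorem exists_pow_mem13169 {R A : Type u} [CommRing R] [CommRing A] [Algebra R A]
    (𝒜 : ℕ → Submodule R A) [GradedAlgebra 𝒜] {e d : ℕ} {g : A} (hg : g ∈ 𝒜 e) (he : 0 < e)
    (hd : e ∣ d) (hd0 : 0 < d) :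
    ∃ g' : 𝒜 d, Proj.basicOpen 𝒜 (g' : A) = Proj.basicOpen 𝒜 g := by
  have h1 : g ^ (d / e) ∈ 𝒜 ((d / e) • e) := SetLike.pow_mem_graded (d / e) hg
  have h2 : (d / e) • e = d := by rw [smul_eq_mul, Nat.div_mul_cancel hd]
  rw [h2] at h1
  refine ⟨⟨g ^ (d / e), h1⟩, ?_⟩
  exact Proj.basicOpen_pow 𝒜 g (d / e) (Nat.div_pos (Nat.le_of_dvd hd0 hd) he)

open Groth.Agent.Lib.Helper3 in

/-- Let B be a graded R-algebra generated by homogeneous elements f_1, …, f_s of positive degrees d_1,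
…, d_s, let l be the least common multiple of the d_i and X = Proj B. For n = a l with a ≥ 1, the
twisting sheaf O_X(n) is ample and is generated by its global sections b/1, b ∈ B_n. -/
theorem result {R A : Type u} [CommRing R] [CommRing A] [Algebra R A] (𝒜 : ℕ → Submodule R A) [GradedAlgebra 𝒜]
    {s : ℕ} (f : Fin s → A) (deg : Fin s → ℕ) (hdeg : ∀ i, 0 < deg i) (hf : ∀ i, f i ∈ 𝒜 (deg i))
    (hgen : Algebra.adjoin R (Set.range f) = ⊤) (a : ℕ) (ha : 0 < a) :
    CohB1.IsAmple (Twist.twist 𝒜 ((a * Finset.univ.lcm deg : ℕ) : ℤ)) ∧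
      ProjUP.GeneratedBy (Twist.twist 𝒜 ((a * Finset.univ.lcm deg : ℕ) : ℤ))
        (fun b : 𝒜 (a * Finset.univ.lcm deg) =>
          (Twist.globalOf 𝒜 b : ProjUP.Γm (Twist.twist 𝒜 ((a * Finset.univ.lcm deg : ℕ) : ℤ)))) := by
  have hl : 0 < Finset.univ.lcm deg := by
    apply Nat.pos_of_ne_zero
    intro h0
    rw [Finset.lcm_eq_zero_iff] at h0
    obtain ⟨i, -, hi⟩ := h0
    exact (hdeg i).ne' hi
  have hd0 : 0 < a * Finset.univ.lcm deg := Nat.mul_pos ha hl
  have hcov : ∀ x : Proj 𝒜, ∃ g : 𝒜 (a * Finset.univ.lcm deg), x ∈ Proj.basicOpen 𝒜 (g : A) := by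
    intro x
    obtain ⟨i, hxi⟩ := TwistProj.exists_mem_basicOpen_of_adjoin f deg hf hgen x
    have hdvd : deg i ∣ a * Finset.univ.lcm deg :=
      Dvd.dvd.mul_left (Finset.dvd_lcm (Finset.mem_univ i)) a
    obtain ⟨g', hg'⟩ := exists_pow_mem13169 𝒜 (hf i) (hdeg i) hdvd hd0
    exact ⟨g', hg' ▸ hxi⟩
  have : CompactSpace (Proj 𝒜) :=
    TwistProj.compactSpace_of_finite_affine_cover (fun i => Proj.basicOpen 𝒜 (f i))
      (fun i => Proj.isAffineOpen_basicOpen 𝒜 (f i) (hf i) (hdeg i))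
      (TwistProj.exists_mem_basicOpen_of_adjoin f deg hf hgen)
  exact ⟨TwistProj.isAmple_twist_of_cover hd0 hcov, TwistProj.generatedBy_gsec_of_cover hcov⟩

end Groth.Agent.S13169
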