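import Groth.Statements.S13171
import Groth.Agent.Lib.Helper3.TwistProj
import Groth.Agent.Lib.Helper3.ProjFrac
import Groth.Agent.Lib.Helper20.Graded

set_option autoImplicit false
universe u
open CategoryTheory CategoryTheory.Limits AlgebraicGeometry TopologicalSpace Opposite
open ZeroCyc

namespace Groth.Agent.S13171

open Scheme.Modules
open Groth.Agent.Lib.Helper3 Groth.Agent.Lib.Helper3.QCSec Groth.Agent.Lib.Helper3.TwistBasic
  Groth.Agent.Lib.Helper3.TwistProj Groth.Agent.Lib.Helper3.ProjFrac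

variable {R A : Type u} [CommRing R] [CommRing A] [Algebra R A] {𝒜 : ℕ → Submodule R A}
  [GradedAlgebra 𝒜]

/-- germs of fractions `z / b` with `z ∈ 𝒜 n * 𝒜 m`, `b ∈ 𝒜 m` lie in the span of the germs of the
global sections `p / 1`, `p ∈ 𝒜 n`. -/
theorem germ_frac_mem_span (n m : ℕ) (W : (Proj 𝒜).Opens) (x : Proj 𝒜) (hxW : x ∈ W)
    (b : 𝒜 m) (hb : ∀ y : W, b.1 ∉ y.1.asHomogeneousIdeal) (z : A) (hz : z ∈ 𝒜 n * 𝒜 m) :
    z ∈ 𝒜 (n + m) ∧ ∀ (hz' : z ∈ 𝒜 (n + m)),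
      (Twist.twist 𝒜 (n : ℤ)).presheaf.germ W x hxW
        (frac W (⟨z, hz'⟩ : 𝒜 (n + m)) b hb (n : ℤ) (by push_cast; ring)) ∈
      Submodule.span ((Proj 𝒜).presheaf.stalk x)
        (Set.range fun p : 𝒜 n => ((Twist.twist 𝒜 (n : ℤ)).presheaf.germ ⊤ x trivial).hom
          (Twist.globalOf 𝒜 p : ProjUP.Γm (Twist.twist 𝒜 (n : ℤ)))) := by
  refine Submodule.mul_induction_on hz ?_ ?_
  · intro p hp q hq
    refine ⟨SetLike.mul_mem_graded hp hq, fun hz' => ?_⟩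
    have hG : Good W q b.1 := good_of_mem hq b.2 hb
    have h1 : frac W (⟨p * q, hz'⟩ : 𝒜 (n + m)) b hb (n : ℤ) (by push_cast; ring) =
        fn W q b.1 • res (Twist.twist 𝒜 (n : ℤ)) (le_top : W ≤ ⊤) (gsec (⟨p, hp⟩ : 𝒜 n)) := by
      apply val_ext
      intro y
      rw [val_smul, fval_fn hG, res_gsec, val_frac, val_frac, Localization.mk_mul]
      congr 1
      · exact mul_comm p q
      · exact Subtype.ext (by simp)
    rw [h1, QS.germ_smul]
    refine Submodule.smul_mem _ _ (Submodule.subset_span ⟨⟨p, hp⟩, ?_⟩)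
    exact (TopCat.Presheaf.germ_res_apply (Twist.twist 𝒜 (n : ℤ)).presheaf
      (homOfLE (le_top : W ≤ ⊤)) x hxW (gsec (⟨p, hp⟩ : 𝒜 n))).symm
  · intro z z' ih ih'
    obtain ⟨hz1, ih⟩ := ih
    obtain ⟨hz2, ih'⟩ := ih'
    refine ⟨add_mem hz1 hz2, fun hz' => ?_⟩
    have h1 : frac W (⟨z + z', hz'⟩ : 𝒜 (n + m)) b hb (n : ℤ) (by push_cast; ring) =
        frac W (⟨z, hz1⟩ : 𝒜 (n + m)) b hb (n : ℤ) (by push_cast; ring) +
        frac W (⟨z', hz2⟩ : 𝒜 (n + m)) b hb (n : ℤ) (by push_cast; ring) := by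
      apply val_ext
      intro y
      rw [val_add, val_frac, val_frac, val_frac, Localization.add_mk_self]
    rw [h1, map_add]
    exact add_mem (ih hz1) (ih' hz2)

theorem result {R A : Type u} [CommRing R] [CommRing A] [Algebra R A] (𝒜 : ℕ → Submodule R A) [GradedAlgebra 𝒜]
    {s : ℕ} (f : Fin s → A) (deg : Fin s → ℕ) (hdeg : ∀ i, 0 < deg i) (hf : ∀ i, f i ∈ 𝒜 (deg i))
    (hgen : Algebra.adjoin R (Set.range f) = ⊤) (n : ℕ) (hn : (s - 1) * (Finset.univ.lcm deg - 1) ≤ n) :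
    ProjUP.GeneratedBy (Twist.twist 𝒜 (n : ℤ))
      (fun b : 𝒜 n => (Twist.globalOf 𝒜 b : ProjUP.Γm (Twist.twist 𝒜 (n : ℤ)))) := by
  classical
  intro x
  rw [eq_top_iff]
  intro y _
  obtain ⟨V, hxV, t, rfl⟩ := TopCat.Presheaf.exists_germ_eq (Twist.twist 𝒜 (n : ℤ)).presheaf y
  obtain ⟨W, hxW, hWV, i, j, a, b, hb, hd, hv⟩ := isLocFrac_val t ⟨x, hxV⟩
  have hgerm : (Twist.twist 𝒜 (n : ℤ)).presheaf.germ V x hxV t =
      (Twist.twist 𝒜 (n : ℤ)).presheaf.germ W x hxW (res (Twist.twist 𝒜 (n : ℤ)) hWV t) :=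
    (TopCat.Presheaf.germ_res_apply (Twist.twist 𝒜 (n : ℤ)).presheaf (homOfLE hWV) x hxW t).symm
  rw [hgerm]
  have hl0 : Finset.univ.lcm deg ≠ 0 := by
    intro h0
    rw [Finset.lcm_eq_zero_iff] at h0
    obtain ⟨i, -, hi⟩ := h0
    exact (hdeg i).ne' hi
  rcases hd with hd | h0
  · -- genuine fraction a / b with deg a = deg b + n
    have hij : i = j + n := by exact_mod_cast hd
    obtain ⟨l', hl'⟩ : ∃ l', Finset.univ.lcm deg = l' + 1 := ⟨Finset.univ.lcm deg - 1, by omega⟩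
    have hbl : b.1 ^ (l' + 1) ∈ 𝒜 (j * (l' + 1)) := by
      have := SetLike.pow_mem_graded (l' + 1) b.2
      rwa [smul_eq_mul, mul_comm] at this
    have hnum : a.1 * b.1 ^ l' ∈ 𝒜 (n + j * (l' + 1)) := by
      have h1 := SetLike.mul_mem_graded a.2 (SetLike.pow_mem_graded l' b.2)
      have h2 : i + l' • j = n + j * (l' + 1) := by rw [hij, smul_eq_mul]; ring
      rwa [h2] at h1
    have hnum' : a.1 * b.1 ^ l' ∈ 𝒜 n * 𝒜 (j * (l' + 1)) := by
      have := Groth.Agent.Lib.Helper20.Graded.eq_mul_mul_lcm 𝒜 f deg hdeg hf hgen n hn j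
      rw [hl'] at this
      rw [← this]
      exact hnum
    have hbl' : ∀ y : W, (⟨b.1 ^ (l' + 1), hbl⟩ : 𝒜 (j * (l' + 1))).1 ∉ y.1.asHomogeneousIdeal :=
      fun y => notMem_pow (hb y) (l' + 1)
    have key := (germ_frac_mem_span n (j * (l' + 1)) W x hxW ⟨b.1 ^ (l' + 1), hbl⟩ hbl'
      (a.1 * b.1 ^ l') hnum').2 hnum
    have heq : res (Twist.twist 𝒜 (n : ℤ)) hWV t =
        frac W (⟨a.1 * b.1 ^ l', hnum⟩ : 𝒜 (n + j * (l' + 1)))
          (⟨b.1 ^ (l' + 1), hbl⟩ : 𝒜 (j * (l' + 1))) hbl' (n : ℤ) (by push_cast; ring) := by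
      apply val_ext
      intro y
      rw [val_res, val_frac]
      have h1 := hv y
      change val t ⟨y.1, hWV y.2⟩ = _ at h1
      rw [h1, Localization.mk_eq_mk_iff, Localization.r_iff_exists]
      refine ⟨1, ?_⟩
      simp only [OneMemClass.coe_one, one_mul]
      ring
    rw [heq]
    exact key
  · -- the zero fraction
    have heq : res (Twist.twist 𝒜 (n : ℤ)) hWV t = 0 := by
      apply val_ext
      intro y
      rw [val_res, val_zero]
      have h1 := hv y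
      change val t ⟨y.1, hWV y.2⟩ = _ at h1
      rw [h1, h0, Localization.mk_zero]
    rw [heq, map_zero]
    exact zero_mem _

end Groth.Agent.S13171
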