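import Groth.Statements.S13173
import Groth.Agent.Lib.Helper3.TwistProj

set_option autoImplicit false
universe u
open AlgebraicGeometry
open ZeroCyc

namespace Groth.Agent.S13173

open Groth.Agent.Lib.Helper3 in
/-- cover by `D₊(g)`, `g` of degree `n`, from a cover in degree one -/
theorem cover13173 {R A : Type u} [CommRing R] [CommRing A] [Algebra R A]
    (𝒜 : ℕ → Submodule R A) [GradedAlgebra 𝒜]
    (hcov : (⨆ g : 𝒜 1, Proj.basicOpen 𝒜 (g : A)) = ⊤) (n : ℕ) (hn : 0 < n) (x : Proj 𝒜) :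
    ∃ g : 𝒜 n, x ∈ Proj.basicOpen 𝒜 (g : A) := by
  have hx : x ∈ (⨆ g : 𝒜 1, Proj.basicOpen 𝒜 (g : A)) := by rw [hcov]; trivial
  obtain ⟨g, hxg⟩ := TopologicalSpace.Opens.mem_iSup.mp hx
  have h1 : (g : A) ^ n ∈ 𝒜 (n • 1) := SetLike.pow_mem_graded n g.2
  have h2 : n • 1 = n := by simp
  rw [h2] at h1
  refine ⟨⟨(g : A) ^ n, h1⟩, ?_⟩
  change x ∈ Proj.basicOpen 𝒜 ((g : A) ^ n)
  rw [Proj.basicOpen_pow 𝒜 (g : A) n hn]
  exact hxg

open Groth.Agent.Lib.Helper3 in

/-- Let B be a graded R-algebra generated by elements of degree at most d, such that X = Proj B is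
quasi-compact and covered by the opens D_+(g), g ∈ B_1. Then O_X(n) is ample for every n ≥ 1. (The
published statement does not assume X quasi-compact, which ampleness as used here requires and which
fails for a polynomial ring in infinitely many degree-one variables; this row assumes it.) -/
theorem result {R A : Type u} [CommRing R] [CommRing A] [Algebra R A] (𝒜 : ℕ → Submodule R A) [GradedAlgebra 𝒜]
    (d : ℕ) (hgen : Algebra.adjoin R (⋃ i ∈ Finset.range (d + 1), (𝒜 i : Set A)) = ⊤)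
    (hcov : (⨆ g : 𝒜 1, Proj.basicOpen 𝒜 (g : A)) = ⊤) [CompactSpace (Proj 𝒜)] (n : ℕ) (hn : 0 < n) :
    CohB1.IsAmple (Twist.twist 𝒜 (n : ℤ)) := by
  exact TwistProj.isAmple_twist_of_cover hn (cover13173 𝒜 hcov n hn)

end Groth.Agent.S13173
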