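import Groth.Statements.S13175
import Mathlib

set_option autoImplicit false
universe u v w
open scoped TensorProduct
open ZeroCyc

namespace Groth.Agent.S13175

theorem rTensor_eq_map {A : Type u} [CommRing A] {B : Type v} [CommRing B] [Algebra A B]
    {P S : Type u} [CommRing P] [Algebra A P] [CommRing S] [Algebra A S] (ψ : P →ₐ[A] S)
    (z : P ⊗[A] B) :
    ψ.toLinearMap.rTensor B z = Algebra.TensorProduct.map ψ (AlgHom.id A B) z := rfl

theorem exists_lift₂ {A : Type u} [CommRing A] {B : Type v} [CommRing B] [Algebra A B]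
    {S : Type u} [CommRing S] [Algebra A S] (x y : S ⊗[A] B) :
    ∃ (n : ℕ) (ψ : MvPolynomial (Fin n) A →ₐ[A] S) (px py : MvPolynomial (Fin n) A ⊗[A] B),
      ψ.toLinearMap.rTensor B px = x ∧ ψ.toLinearMap.rTensor B py = y := by
  obtain ⟨Bx, hBx, hx⟩ := TensorProduct.Algebra.exists_of_fg x
  obtain ⟨By, hBy, hy⟩ := TensorProduct.Algebra.exists_of_fg y
  have hB : (Bx ⊔ By).FG := hBx.sup hBy
  obtain ⟨gen, hgen⟩ := PolynomialLaw.exists_range_φ_eq_of_fg hB
  obtain ⟨px, hpx⟩ := PolynomialLaw.exists_lift_of_mem_range_rTensor Bx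
    (φ := PolynomialLaw.φ A gen) (by rw [hgen]; exact le_sup_left) hx
  obtain ⟨py, hpy⟩ := PolynomialLaw.exists_lift_of_mem_range_rTensor By
    (φ := PolynomialLaw.φ A gen) (by rw [hgen]; exact le_sup_right) hy
  exact ⟨gen.card, PolynomialLaw.φ A gen, px, py, hpx, hpy⟩

/-- Let B and C be A-algebras and F : B → C a polynomial law. If the maps F over the polynomial rings
A[t_1, …, t_n], n ≥ 0, are multiplicative (send 1 to 1 and products to products), then F is a
multiplicative law: F sends 1 to 1 and products to products over every A-algebra. -/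
theorem result {A : Type u} [CommRing A] {B : Type v} [CommRing B] [Algebra A B] {C : Type w} [CommRing C] [Algebra A C]
    (F : B →ₚₗ[A] C)
    (h1 : ∀ n : ℕ, F.toFun' (MvPolynomial (Fin n) A) 1 = 1)
    (hmul : ∀ (n : ℕ) (x y : MvPolynomial (Fin n) A ⊗[A] B),
      F.toFun' (MvPolynomial (Fin n) A) (x * y) = F.toFun' (MvPolynomial (Fin n) A) x * F.toFun' (MvPolynomial (Fin n) A) y) :
    ∀ (S : Type u) [CommRing S] [Algebra A S], F.toFun' S 1 = 1 ∧
      ∀ x y : S ⊗[A] B, F.toFun' S (x * y) = F.toFun' S x * F.toFun' S y := by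
  intro S _ _
  constructor
  · let ψ : MvPolynomial (Fin 0) A →ₐ[A] S := MvPolynomial.aeval Fin.elim0
    have e1 : ψ.toLinearMap.rTensor B (1 : MvPolynomial (Fin 0) A ⊗[A] B) = 1 := by
      rw [rTensor_eq_map, map_one]
    rw [← e1, ← PolynomialLaw.isCompat_apply', h1, rTensor_eq_map, map_one]
  · intro x y
    obtain ⟨n, ψ, px, py, rfl, rfl⟩ := exists_lift₂ x y
    have e1 : ψ.toLinearMap.rTensor B px * ψ.toLinearMap.rTensor B py =
        ψ.toLinearMap.rTensor B (px * py) := by
      rw [rTensor_eq_map, rTensor_eq_map, rTensor_eq_map, map_mul]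
    rw [e1, ← PolynomialLaw.isCompat_apply', ← PolynomialLaw.isCompat_apply',
      ← PolynomialLaw.isCompat_apply', hmul, rTensor_eq_map, rTensor_eq_map, rTensor_eq_map, map_mul]

end Groth.Agent.S13175
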