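import Groth.Statements.S13176
import Groth.Agent.Lib.Helper11.GT2
import Groth.Agent.Lib.Helper11.UHRing

set_option autoImplicit false
universe u
open CategoryTheory CategoryTheory.Limits AlgebraicGeometry
open ZeroCyc

namespace Groth.Agent.S13176

open Groth.Agent.Lib.Helper11 Groth.Agent.Lib.Helper5

/-- Let a finite group G act on a scheme X over S through ρ, let q : X → Y be a quotient of X by G over
S (affine, G-invariant, O_Y = the G-invariant sections of O_X), let S' → S be any morphism and X' =
X ×_S S' with the induced action ρ', and let r : X' → Y' be a quotient of X' by G. Then the morphism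
Y' → Y ×_S S' through which the canonical map X' → Y ×_S S' factors via r is a universal
homeomorphism. (The published statement assumes every G-orbit lies in an affine open, which is what
makes the quotients exist; here the two quotients are hypotheses.) -/
theorem result {X Y S S' Y' : Scheme.{u}} {G : Type u} [Group G] [Finite G]
    (ρ : G →* Aut X) (f : X ⟶ S) (hρ : ∀ σ : G, (ρ σ).hom ≫ f = f)
    (q : X ⟶ Y) (h : Y ⟶ S) (hq : q ≫ h = f) (hquot : SGA1.IsQuot ρ q)
    (g : S' ⟶ S)
    (ρ' : G →* Aut (pullback f g))
    (hρ' : ∀ σ : G, (ρ' σ).hom ≫ pullback.fst f g = pullback.fst f g ≫ (ρ σ).hom ∧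
      (ρ' σ).hom ≫ pullback.snd f g = pullback.snd f g)
    (r : pullback f g ⟶ Y') (hr : SGA1.IsQuot ρ' r)
    (m : Y' ⟶ pullback h g)
    (hm : r ≫ m = pullback.map f g h g q (𝟙 S') (𝟙 S)
      ((Category.comp_id f).trans hq.symm) ((Category.comp_id g).trans (Category.id_comp g).symm)) :
    FlatMor.IsUnivHomeo m := by
  rw [UHRing.isUnivHomeo_iff]
  haveI hqint : IsIntegralHom q := GroupQuot.isIntegralHom hquot
  haveI : UniversallyClosed q := (IsIntegralHom.iff_universallyClosed_and_isAffineHom.mp hqint).1
  haveI : Surjective q := ⟨GroupQuot.surjective hquot⟩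
  haveI : Surjective r := ⟨GroupQuot.surjective hr⟩
  have e₁ : f = q ≫ h := hq.symm
  have e₂ : g = 𝟙 S' ≫ g := (Category.id_comp g).symm
  haveI hUC : UniversallyClosed (r ≫ m) := by
    rw [hm]
    exact MorphismProperty.pullbackMap (P := @UniversallyClosed)
      (inferInstance : UniversallyClosed q) (inferInstance : UniversallyClosed (𝟙 S')) e₁ e₂
  haveI hSj : Surjective (r ≫ m) := by
    rw [hm]
    exact MorphismProperty.pullbackMap (P := @Surjective)
      (inferInstance : Surjective q) (inferInstance : Surjective (𝟙 S')) e₁ e₂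
  refine ⟨UniversallyClosed.of_comp_surjective r m, ?_, Surjective.of_comp r m⟩
  apply GT2.universallyInjective_of_geom hr m
  intro Ω _ _ a' b' hab
  rw [hm] at hab
  have hf1 : pullback.map f g h g q (𝟙 S') (𝟙 S)
      ((Category.comp_id f).trans hq.symm) ((Category.comp_id g).trans (Category.id_comp g).symm) ≫
      pullback.fst h g = pullback.fst f g ≫ q := pullback.lift_fst _ _ _
  have hf2 : pullback.map f g h g q (𝟙 S') (𝟙 S)
      ((Category.comp_id f).trans hq.symm) ((Category.comp_id g).trans (Category.id_comp g).symm) ≫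
      pullback.snd h g = pullback.snd f g ≫ 𝟙 S' := pullback.lift_snd _ _ _
  have h1 : (a' ≫ pullback.fst f g) ≫ q = (b' ≫ pullback.fst f g) ≫ q := by
    have h0 := congrArg (fun t => t ≫ pullback.fst h g) hab
    simp only [Category.assoc] at h0
    rw [hf1] at h0
    simpa only [Category.assoc] using h0
  have h2 : a' ≫ pullback.snd f g = b' ≫ pullback.snd f g := by
    have h0 := congrArg (fun t => t ≫ pullback.snd h g) hab
    simp only [Category.assoc] at h0
    rw [hf2, Category.comp_id] at h0
    exact h0
  obtain ⟨σ, hσ⟩ := GT2.geomTransitive_of_isQuot hquot Ω _ _ h1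
  refine ⟨σ, ?_⟩
  apply pullback.hom_ext
  · rw [Category.assoc, (hρ' σ).1, ← Category.assoc]
    exact hσ
  · rw [Category.assoc, (hρ' σ).2, h2]

end Groth.Agent.S13176
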