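import Groth.Statements.S13177
import Groth.Agent.Lib.Helper11.GT2
import Groth.Agent.Lib.Helper11.UHRing

set_option autoImplicit false
universe u
open CategoryTheory CategoryTheory.Limits AlgebraicGeometry
open ZeroCyc

namespace Groth.Agent.S13177

open Groth.Agent.Lib.Helper11 Groth.Agent.Lib.Helper5

theorem toImage_ker_eq_bot {X Y : Scheme.{u}} (F : X ⟶ Y) [QuasiCompact F] :
    F.toImage.ker = ⊥ := by
  rw [eq_bot_iff, Scheme.IdealSheafData.le_def]
  intro U
  refine (Scheme.Hom.ideal_ker_le F.toImage U).trans ?_
  have hinj : Function.Injective (F.toImage.app U.1).hom :=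
    TopCat.Presheaf.app_injective_of_stalkFunctor_map_injective (F := F.image.sheaf)
      F.toImage.c U.1 (fun x _ => Scheme.Hom.stalkFunctor_toImage_injective F x)
  rw [(RingHom.injective_iff_ker_eq_bot _).mp hinj]
  exact bot_le

/-- Let a finite group G act on a scheme X with quotient q : X → Y (affine, G-invariant, O_Y = the
invariant sections), let i : Z → X be a G-stable closed subscheme with the induced action and r : Z
→ W a quotient of Z by G, and let q(Z) be the scheme-theoretic image of Z in Y. Then the morphism W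
→ q(Z) through which Z → q(Z) factors via r is a schematically dominant universal homeomorphism.
(The published statement assumes the quotient of X exists; here both quotients are hypotheses.) -/
theorem result {X Y Z W : Scheme.{u}} {G : Type u} [Group G] [Finite G]
    (ρ : G →* Aut X) (q : X ⟶ Y) (hquot : SGA1.IsQuot ρ q)
    (i : Z ⟶ X) [IsClosedImmersion i] (ρZ : G →* Aut Z) (hρZ : ∀ σ : G, (ρZ σ).hom ≫ i = i ≫ (ρ σ).hom)
    (r : Z ⟶ W) (hr : SGA1.IsQuot ρZ r)
    (m : W ⟶ (i ≫ q).ker.subscheme) (hm : r ≫ m ≫ (i ≫ q).ker.subschemeι = i ≫ q) :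
    FlatMor.IsUnivHomeo m ∧ IsSchemeTheoreticallyDominant m := by
  haveI hqint : IsIntegralHom q := GroupQuot.isIntegralHom hquot
  haveI : UniversallyClosed q := (IsIntegralHom.iff_universallyClosed_and_isAffineHom.mp hqint).1
  haveI : UniversallyClosed (i ≫ q) := inferInstance
  haveI : QuasiCompact (i ≫ q) := inferInstance
  haveI : Surjective r := ⟨GroupQuot.surjective hr⟩
  have hrm : r ≫ m = (i ≫ q).toImage := by
    rw [← cancel_mono (i ≫ q).imageι, Category.assoc, hm, Scheme.Hom.toImage_imageι]
  haveI : UniversallyClosed (r ≫ m) := by rw [hrm]; infer_instance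
  have hUC : UniversallyClosed m := UniversallyClosed.of_comp_surjective r m
  haveI : Surjective (r ≫ m) := by
    rw [hrm]
    constructor
    have hcl : IsClosedMap (i ≫ q).toImage := (i ≫ q).toImage.isClosedMap
    have hd : DenseRange (i ≫ q).toImage := (i ≫ q).toImage.denseRange
    have hr2 : Set.range (i ≫ q).toImage = Set.univ := by
      rw [← hcl.isClosed_range.closure_eq]; exact hd.closure_range
    intro y
    have hy : y ∈ Set.range (i ≫ q).toImage := hr2 ▸ Set.mem_univ y
    exact hy
  have hS : Surjective m := Surjective.of_comp r m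
  have hUI : UniversallyInjective m := by
    apply GT2.universallyInjective_of_geom hr m
    intro Ω _ _ a' b' hab
    have h1 : (a' ≫ i) ≫ q = (b' ≫ i) ≫ q := by
      have h0 := congrArg (fun t => t ≫ (i ≫ q).ker.subschemeι) hab
      simp only [Category.assoc] at h0
      rw [hm] at h0
      simpa only [Category.assoc] using h0
    obtain ⟨σ, hσ⟩ := GT2.geomTransitive_of_isQuot hquot Ω _ _ h1
    refine ⟨σ, ?_⟩
    rw [← cancel_mono i, Category.assoc, hρZ σ, ← Category.assoc]
    exact hσ
  refine ⟨(UHRing.isUnivHomeo_iff m).mpr ⟨hUC, hUI, hS⟩, ⟨?_⟩⟩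
  rw [eq_bot_iff]
  refine (Scheme.Hom.le_ker_comp r m).trans ?_
  rw [hrm]
  exact (toImage_ker_eq_bot (i ≫ q)).le

end Groth.Agent.S13177
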