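import Groth.Statements.S13178
import Mathlib
import Groth.Agent.Lib.Helper24.InsepB
import Groth.Agent.Lib.Helper24.InsepC

set_option autoImplicit false
universe u
open scoped TensorProduct
open ZeroCyc

namespace Groth.Agent.S13178

/-- Let K/k be a finite field extension with separable degree d_s and exponent e (the least e ≥ 1 such
that x^e is separable over k for every x ∈ K), and let d ≥ 0. The k-points of Γ^d(Spec K / Spec k)
are the multiplicative polynomial laws K → k over k that are homogeneous of degree d; there is at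
most one such law, and one exists if and only if the quasi-degree d_s·e divides d. (The
identification of k-points of Γ^d with multiplicative homogeneous laws is the universal property of
the algebra of divided powers; the row is stated directly for laws.) -/
theorem result {k : Type u} [Field k] {K : Type u} [Field K] [Algebra k K]
    [FiniteDimensional k K] (d e : ℕ) (he : 0 < e) (hexp : ∀ x : K, x ^ e ∈ separableClosure k K)
    (hmin : ∀ n : ℕ, 0 < n → (∀ x : K, x ^ n ∈ separableClosure k K) → e ≤ n) :
    (∀ F F' : K →ₚₗ[k] k,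
      ((∀ (S : Type u) [CommRing S] [Algebra k S], F.toFun' S 1 = 1 ∧
        ∀ x y : S ⊗[k] K, F.toFun' S (x * y) = F.toFun' S x * F.toFun' S y) ∧
      ∀ (S : Type u) [CommRing S] [Algebra k S] (a : S) (z : S ⊗[k] K), F.toFun' S (a • z) = a ^ d • F.toFun' S z) →
      ((∀ (S : Type u) [CommRing S] [Algebra k S], F'.toFun' S 1 = 1 ∧
        ∀ x y : S ⊗[k] K, F'.toFun' S (x * y) = F'.toFun' S x * F'.toFun' S y) ∧
      ∀ (S : Type u) [CommRing S] [Algebra k S] (a : S) (z : S ⊗[k] K), F'.toFun' S (a • z) = a ^ d • F'.toFun' S z) → F = F') ∧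
    ((∃ F : K →ₚₗ[k] k, ((∀ (S : Type u) [CommRing S] [Algebra k S], F.toFun' S 1 = 1 ∧
        ∀ x y : S ⊗[k] K, F.toFun' S (x * y) = F.toFun' S x * F.toFun' S y) ∧
      ∀ (S : Type u) [CommRing S] [Algebra k S] (a : S) (z : S ⊗[k] K), F.toFun' S (a • z) = a ^ d • F.toFun' S z)) ↔ Field.finSepDegree k K * e ∣ d) := by
  classical
  refine ⟨?_, ?_, ?_⟩
  · intro F F' hF hF'
    have h := Groth.Agent.Lib.Helper24.InsepB.unique
      (Groth.Agent.Lib.Helper24.InsepC.ofRing (d := d) F hF.1 hF.2)
      (Groth.Agent.Lib.Helper24.InsepC.ofRing (d := d) F' hF'.1 hF'.2)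
    exact congrArg PolLaw.MulLaw.law h
  · rintro ⟨F, hF⟩
    exact Groth.Agent.Lib.Helper24.InsepB.dvd_of_exists
      (Groth.Agent.Lib.Helper24.InsepC.ofRing (d := d) F hF.1 hF.2) e he hexp hmin
  · rintro ⟨m₁, hm₁⟩
    obtain ⟨a, ha⟩ := Groth.Agent.Lib.Helper24.InsepA.exists_exponent_eq (ringExpChar k) e he
      hexp hmin
    have hexp' : ∀ x : K, x ^ (ringExpChar k) ^ a ∈ separableClosure k K := by
      intro x
      rw [← ha]
      exact hexp x
    have hd : Module.finrank k (separableClosure k K) = Field.finSepDegree k K :=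
      (Field.finSepDegree_eq k K).symm
    obtain ⟨G, -⟩ : ∃ G : PolLaw.MulLaw k K k (Field.finSepDegree k K * (ringExpChar k) ^ a * m₁),
        True :=
      ⟨Groth.Agent.Lib.Helper24.InsepC.theLaw (separableClosure k K) (ringExpChar k) a hexp'
        (PolLaw.normLaw k (separableClosure k K) (Field.finSepDegree k K) hd) m₁, trivial⟩
    rw [← ha, ← hm₁] at G
    exact ⟨G.law, fun S _ _ => G.mult S, fun S _ _ s z => G.homog S s z⟩

end Groth.Agent.S13178
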