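import Groth.Statements.S13179
import Groth.Agent.Lib.Helper3.QuotProj
import Groth.Agent.S4418
import Groth.Agent.S4419

set_option autoImplicit false
universe u
open CategoryTheory CategoryTheory.Limits AlgebraicGeometry
open ZeroCyc

namespace Groth.Agent.S13179

/-- Let S be a Noetherian scheme, X → S projective and G a finite group acting on X by S-automorphisms.
Then a quotient q : X → X/G by G exists (affine, G-invariant, O_{X/G} = invariant sections) with X/G
→ S projective. -/
theorem result {X S : Scheme.{u}} (f : X ⟶ S) [IsNoetherian S]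
    {G : Type u} [Group G] [Finite G] (ρ : G →* Aut X) (hρ : ∀ σ : G, (ρ σ).hom ≫ f = f)
    (hf : RelProj.IsProjective f) :
    ∃ (Y : Scheme.{u}) (q : X ⟶ Y) (h : Y ⟶ S), q ≫ h = f ∧ SGA1.IsQuot ρ q ∧ RelProj.IsProjective h := by
  obtain ⟨hq, hp⟩ := Groth.Agent.S4418.result f hf
  haveI := hp
  obtain ⟨Y, q, h, hh, hQ, hqp, hprop⟩ :=
    Groth.Agent.Lib.H3.QuotProj.exists_quot_projective f ρ hρ hq
  haveI := hprop
  exact ⟨Y, q, h, hh, hQ, Groth.Agent.S4419.result (Or.inr inferInstance) h hqp⟩

end Groth.Agent.S13179
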