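import Mathlib
import Groth.Agent.Lib.Helper20.ProjVA
import Groth.Statements.S13182
-- import your own Groth.Agent.* helpers here

set_option autoImplicit false
universe u
open CategoryTheory CategoryTheory.Limits AlgebraicGeometry
open ZeroCyc

namespace Groth.Agent.S13182

/-- Let B be a graded R-algebra generated by homogeneous elements f_1, …, f_s of positive degrees d_1,
…, d_s, let l be the least common multiple of the d_i and X = Proj B. For n = a l with a ≥ max(1, s
− 1) there is a closed immersion i of X into a projective space over R, over Spec R, with O_X(n) ≅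
i^*O(1); in particular O_X(n) is very ample relative to Spec R. (The published statement takes for i
the canonical morphism into P(B_n) given by the sections B_n; this row asserts only a closed
immersion into some projective space P^N over R with an isomorphism O_X(n) ≅ i^*O(1).) -/
theorem result {R A : Type u} [CommRing R] [CommRing A] [Algebra R A] (𝒜 : ℕ → Submodule R A) [GradedAlgebra 𝒜]
    {s : ℕ} (f : Fin s → A) (deg : Fin s → ℕ) (hdeg : ∀ i, 0 < deg i) (hf : ∀ i, f i ∈ 𝒜 (deg i))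
    (hgen : Algebra.adjoin R (Set.range f) = ⊤) (a : ℕ) (ha : 0 < a) (has : s - 1 ≤ a) :
    ∃ (N : ℕ) (i : Proj 𝒜 ⟶ CohB1.ProjSpaceOver N (Spec (CommRingCat.of R))), IsClosedImmersion i ∧
      i ≫ pullback.snd (CohB1.ProjSpace.toSpec N (ULift.{u} ℤ)) (specULiftZIsTerminal.from (Spec (CommRingCat.of R))) =
        Proj.toSpecZero 𝒜 ≫ Spec.map (CommRingCat.ofHom (algebraMap R (𝒜 0))) ∧
      Nonempty (Twist.twist 𝒜 ((a * Finset.univ.lcm deg : ℕ) : ℤ) ≅
        (Scheme.Modules.pullback i).obj (Twist.twistOver N (Spec (CommRingCat.of R)) 1)) := by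
  classical
  set n := a * Finset.univ.lcm deg with hn_def
  have hl0 : Finset.univ.lcm deg ≠ 0 := by
    intro h0
    rw [Finset.lcm_eq_zero_iff] at h0
    obtain ⟨i, -, hi⟩ := h0
    exact (hdeg i).ne' hi
  have hn : 0 < n := Nat.mul_pos ha (Nat.pos_of_ne_zero hl0)
  have hdvd : ∀ i, deg i ∣ n := fun i =>
    Dvd.dvd.mul_left (Finset.dvd_lcm (Finset.mem_univ i)) a
  have : Algebra.FiniteType R A :=
    ⟨⟨Finset.univ.image f, by
      rw [Finset.coe_image, Finset.coe_univ, Set.image_univ]; exact hgen⟩⟩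
  have : IsScalarTower R ↥(𝒜 0) A :=
    ⟨fun r x y => by
      change (r • (x : A)) * y = r • ((x : A) * y)
      exact smul_mul_assoc r _ y⟩
  have : Algebra.FiniteType (𝒜 0) A := Algebra.FiniteType.of_restrictScalars_finiteType R _ _
  have h01 := Groth.Agent.Lib.Helper20.Graded.zero_eq_one 𝒜 f deg hdeg hf hgen
  have hsurj : Function.Surjective (algebraMap R (𝒜 0)) := by
    intro w
    have hw : (w : A) ∈ (1 : Submodule R A) := h01 ▸ w.2
    rw [Submodule.mem_one] at hw
    obtain ⟨r, hr⟩ := hw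
    exact ⟨r, Subtype.ext hr⟩
  -- the sections
  let κ := ULift.{u} (Fin s ⊕ (Fin s → Fin (n + 1)))
  have hpowmem : ∀ i, f i ^ (n / deg i) ∈ 𝒜 n := by
    intro i
    have := SetLike.pow_mem_graded (n / deg i) (hf i)
    rwa [smul_eq_mul, Nat.div_mul_cancel (hdvd i)] at this
  let b : κ → 𝒜 n := fun k =>
    match k.down with
    | Sum.inl i => ⟨f i ^ (n / deg i), hpowmem i⟩
    | Sum.inr e =>
      if h : ∑ j, (e j : ℕ) * deg j = n then
        ⟨∏ j, f j ^ (e j : ℕ), by
          have := Groth.Agent.Lib.Helper20.Graded.monomial_mem 𝒜 f deg hf (fun j => (e j : ℕ))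
          rwa [h] at this⟩
      else 0
  let K : Set κ := {k | ∃ i, k = ULift.up (Sum.inl i)}
  have hcov : ∀ x : Proj 𝒜, ∃ k ∈ K, x ∈ Proj.basicOpen 𝒜 ((b k : A)) := by
    intro x
    obtain ⟨i, hi⟩ := Groth.Agent.Lib.Helper3.TwistProj.exists_mem_basicOpen_of_adjoin f deg hf hgen x
    refine ⟨ULift.up (Sum.inl i), ⟨i, rfl⟩, ?_⟩
    change x ∈ Proj.basicOpen 𝒜 (f i ^ (n / deg i))
    rw [Proj.basicOpen_pow 𝒜 (f i) (n / deg i)
      (Nat.div_pos (Nat.le_of_dvd hn (hdvd i)) (hdeg i))]
    exact hi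
  have hspan : 𝒜 n ≤ Submodule.span R (Set.range fun k => (b k : A)) := by
    intro z hz
    have h1 := Groth.Agent.Lib.Helper20.Graded.mem_span_monomials 𝒜 f deg hf hgen n z hz
    refine Submodule.span_mono ?_ h1
    rintro x ⟨e, he, rfl⟩
    have hle : ∀ j, e j < n + 1 := by
      intro j
      have h2 : e j * deg j ≤ ∑ i, e i * deg i :=
        Finset.single_le_sum (f := fun i => e i * deg i) (fun _ _ => Nat.zero_le _)
          (Finset.mem_univ j)
      have h3 : e j ≤ e j * deg j := Nat.le_mul_of_pos_right _ (hdeg j)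
      omega
    refine ⟨ULift.up (Sum.inr (fun j => ⟨e j, hle j⟩)), ?_⟩
    change ((if h : ∑ j, ((⟨e j, hle j⟩ : Fin (n + 1)) : ℕ) * deg j = n then
        (⟨∏ j, f j ^ ((⟨e j, hle j⟩ : Fin (n + 1)) : ℕ), _⟩ : 𝒜 n) else 0 : 𝒜 n) : A) = _
    rw [dif_pos he]
  have hpow : ∀ m : ℕ, 𝒜 (m • n) ≤ (𝒜 n) ^ m := by
    intro m
    rw [smul_eq_mul]
    exact (Groth.Agent.Lib.Helper20.Graded.pow_eq 𝒜 f deg hdeg hf hgen a has m).le
  have hVA := Groth.Agent.Lib.Helper20.ProjVA.isVA_twist hn b K (fun k => (b k : A))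
    (fun _ _ => rfl) hcov
    (fun k _ => Groth.Agent.Lib.Helper20.ProjVA.closure_eq_top_of_pow hn (b k).2 b hspan hpow)
  exact Groth.Agent.Lib.Helper20.ProjVA.exists_closedImmersion_of_isVA hsurj hVA

end Groth.Agent.S13182
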