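import Mathlib
import Groth.Agent.Lib.Helper20.ProjVA2
import Groth.Statements.S13183
-- import your own Groth.Agent.* helpers here

set_option autoImplicit false
universe u
open CategoryTheory CategoryTheory.Limits AlgebraicGeometry
open ZeroCyc

namespace Groth.Agent.S13183

/-- Let B be a graded R-algebra of finite type, generated by elements of degrees between 1 and d, such
that X = Proj B is covered by the opens D_+(g), g ∈ B_1. For n ≥ d, n ≥ 1, there is a closed
immersion i of X into a projective space over R, over Spec R, with O_X(n) ≅ i^*O(1); in particular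
O_X(n) is very ample relative to Spec R. (The published statement assumes neither finite generation
nor that the generators have positive degree, and its target is P(B_n) with i the canonical morphism
given by B_n; a closed immersion into a projective space of finite type over R needs X proper over
R, so B is taken of finite type with generators of positive degree; existence of the isomorphism
only.) -/
theorem result {R A : Type u} [CommRing R] [CommRing A] [Algebra R A] (𝒜 : ℕ → Submodule R A) [GradedAlgebra 𝒜]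
    (d : ℕ) (hgen : Algebra.adjoin R (⋃ i ∈ Finset.Icc 1 d, (𝒜 i : Set A)) = ⊤)
    (hcov : (⨆ g : 𝒜 1, Proj.basicOpen 𝒜 (g : A)) = ⊤) [Algebra.FiniteType R A] (n : ℕ) (hn : d ≤ n) (hn1 : 0 < n) :
    ∃ (N : ℕ) (i : Proj 𝒜 ⟶ CohB1.ProjSpaceOver N (Spec (CommRingCat.of R))), IsClosedImmersion i ∧
      i ≫ pullback.snd (CohB1.ProjSpace.toSpec N (ULift.{u} ℤ)) (specULiftZIsTerminal.from (Spec (CommRingCat.of R))) =
        Proj.toSpecZero 𝒜 ≫ Spec.map (CommRingCat.ofHom (algebraMap R (𝒜 0))) ∧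
      Nonempty (Twist.twist 𝒜 (n : ℤ) ≅
        (Scheme.Modules.pullback i).obj (Twist.twistOver N (Spec (CommRingCat.of R)) 1)) := by
  classical
  -- finite homogeneous generating set
  obtain ⟨Y, hYS, hYtop⟩ := Groth.Agent.Lib.Helper20.ProjVA2.exists_finset_subset_adjoin_eq_top
    (R := R) (⋃ i ∈ Finset.Icc 1 d, (𝒜 i : Set A)) hgen
  have hYe : ∀ y : Y, ∃ e : ℕ, 1 ≤ e ∧ e ≤ d ∧ (y : A) ∈ 𝒜 e := by
    intro y
    have := hYS y.2
    simp only [Set.mem_iUnion, Finset.mem_Icc, SetLike.mem_coe] at this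
    obtain ⟨e, ⟨h1, h2⟩, h3⟩ := this
    exact ⟨e, h1, h2, h3⟩
  choose e he1 hed hye using hYe
  -- degree zero part
  let q := Y.card
  let f : Fin q → A := fun j => ((Y.equivFin.symm j : Y) : A)
  have hfrange : Set.range f = (Y : Set A) := by
    have h1 : Set.range f = Set.range (fun y : Y => (y : A)) :=
      Y.equivFin.symm.surjective.range_comp (fun y : Y => (y : A))
    rw [h1]
    exact Subtype.range_coe
  have h01 := Groth.Agent.Lib.Helper20.Graded.zero_eq_one 𝒜 f (fun j => e (Y.equivFin.symm j))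
    (fun j => he1 _) (fun j => hye _) (by rw [hfrange]; exact hYtop)
  have hsurj : Function.Surjective (algebraMap R (𝒜 0)) := by
    intro w
    have hw : (w : A) ∈ (1 : Submodule R A) := h01 ▸ w.2
    rw [Submodule.mem_one] at hw
    obtain ⟨r, hr⟩ := hw
    exact ⟨r, Subtype.ext hr⟩
  have : IsScalarTower R ↥(𝒜 0) A :=
    ⟨fun r x y => by
      change (r • (x : A)) * y = r • ((x : A) * y)
      exact smul_mul_assoc r _ y⟩
  have : Algebra.FiniteType (𝒜 0) A := Algebra.FiniteType.of_restrictScalars_finiteType R _ _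
  -- finite cover by degree one charts
  have : CompactSpace (Proj 𝒜) :=
    QuasiCompact.compactSpace_of_compactSpace (Proj.toSpecZero 𝒜)
  have hcov' : ∀ x : Proj 𝒜, ∃ g : 𝒜 1, x ∈ Proj.basicOpen 𝒜 (g : A) := by
    intro x
    have hx : x ∈ (⨆ g : 𝒜 1, Proj.basicOpen 𝒜 (g : A)) := by rw [hcov]; trivial
    exact TopologicalSpace.Opens.mem_iSup.mp hx
  obtain ⟨G, hG⟩ := isCompact_univ.elim_finite_subcover
    (fun g : 𝒜 1 => ((Proj.basicOpen 𝒜 (g : A) : (Proj 𝒜).Opens) : Set (Proj 𝒜)))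
    (fun g => (Proj.basicOpen 𝒜 (g : A)).isOpen)
    (fun x _ => by
      obtain ⟨g, hg⟩ := hcov' x
      exact Set.mem_iUnion.mpr ⟨g, hg⟩)
  -- sections
  let κ := ↥G ⊕ (↥G × ↥Y)
  have hpowmem : ∀ g : 𝒜 1, (g : A) ^ n ∈ 𝒜 n := fun g =>
    Groth.Agent.Lib.Helper3.ProjFrac.pow_mem_of_mem_one g.2 n
  have hmulmem : ∀ (g : 𝒜 1) (y : Y), (y : A) * (g : A) ^ (n - e y) ∈ 𝒜 n := by
    intro g y
    have h1 := SetLike.mul_mem_graded (hye y)
      (Groth.Agent.Lib.Helper3.ProjFrac.pow_mem_of_mem_one g.2 (n - e y))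
    have h2 : e y + (n - e y) = n := Nat.add_sub_cancel' ((hed y).trans hn)
    rwa [h2] at h1
  let b : κ → 𝒜 n := fun k =>
    match k with
    | Sum.inl g => ⟨(g.1 : A) ^ n, hpowmem g.1⟩
    | Sum.inr (g, y) => ⟨(y : A) * (g.1 : A) ^ (n - e y), hmulmem g.1 y⟩
  let K : Set κ := Set.range Sum.inl
  let g0 : κ → A := fun k =>
    match k with
    | Sum.inl g => (g.1 : A)
    | Sum.inr _ => 0
  have hVA := Groth.Agent.Lib.Helper20.ProjVA.isVA_twist hn1 b K g0
    (by
      rintro _ ⟨g, rfl⟩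
      exact Proj.basicOpen_pow 𝒜 (g.1 : A) n hn1)
    (by
      intro x
      have hx := hG (Set.mem_univ x)
      simp only [Set.mem_iUnion] at hx
      obtain ⟨g, hgG, hxg⟩ := hx
      refine ⟨Sum.inl ⟨g, hgG⟩, ⟨_, rfl⟩, ?_⟩
      change x ∈ Proj.basicOpen 𝒜 ((g : A) ^ n)
      rw [Proj.basicOpen_pow 𝒜 (g : A) n hn1]
      exact hxg)
    (by
      rintro _ ⟨g, rfl⟩
      exact Groth.Agent.Lib.Helper20.ProjVA.closure_eq_top_of_degOne g.1.2 b (Y : Set A) hYtop
        (fun y hy => ⟨e ⟨y, hy⟩, (hed _).trans hn, hye ⟨y, hy⟩, Sum.inr (g, ⟨y, hy⟩), rfl⟩))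
  exact Groth.Agent.Lib.Helper20.ProjVA.exists_closedImmersion_of_isVA hsurj hVA

end Groth.Agent.S13183
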