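import Groth.Statements.S13184
import Mathlib

set_option autoImplicit false
universe u
open ZeroCyc

namespace Groth.Agent.S13184

open Polynomial

section helpers

/-- Separability of an element is witnessed by any separable annihilating polynomial. -/
theorem isSeparable_of_root {F Ω : Type*} [Field F] [Field Ω] [Algebra F Ω] {x : Ω}
    (P : F[X]) (hP : P.Separable) (hx : aeval x P = 0) : IsSeparable F x :=
  hP.of_dvd (minpoly.dvd F x hx)

/-- Transport of separability along a ring endomorphism of the big field. -/
theorem transport {F₁ F₂ Ω : Type*} [Field F₁] [Field F₂] [Field Ω] [Algebra F₁ Ω] [Algebra F₂ Ω]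
    (τ : Ω →+* Ω) (hτ : ∀ a : F₁, τ (algebraMap F₁ Ω a) ∈ Set.range (algebraMap F₂ Ω))
    {x : Ω} (hx : IsSeparable F₁ x) : IsSeparable F₂ (τ x) := by
  set P := minpoly F₁ x with hPdef
  have hPsep : P.Separable := hx
  set P' : Polynomial Ω := P.map (τ.comp (algebraMap F₁ Ω)) with hP'
  have hlift : P' ∈ Polynomial.lifts (algebraMap F₂ Ω) := by
    rw [Polynomial.lifts_iff_coeff_lifts]
    intro n
    rw [hP', Polynomial.coeff_map]
    exact hτ _
  obtain ⟨P₂, hP₂⟩ := (Polynomial.mem_lifts _).1 hlift
  have hsep₂ : P₂.Separable := by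
    rw [← Polynomial.separable_map (algebraMap F₂ Ω), hP₂, hP']
    exact hPsep.map
  refine isSeparable_of_root P₂ hsep₂ ?_
  rw [Polynomial.aeval_def, ← Polynomial.eval_map, hP₂, hP', ← Polynomial.map_map,
    Polynomial.eval_map, Polynomial.eval₂_hom, Polynomial.eval_map, ← Polynomial.aeval_def,
    minpoly.aeval, map_zero]

end helpers

/-- Let k ⊆ K be a finite extension of fields of characteristic p > 0, viewed inside an algebraically
closed field Ω, and for e ≥ 0 let k^{p^{-e}} ⊆ Ω be the field of elements whose p^e-th power lies in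
k. Then the compositum k^{p^{-e}}K is separable over k^{p^{-e}} if and only if x^{p^e} is separable
over k for every x ∈ K; hence the exponent of K/k (the least n ≥ 1 with K^n separable over k, a
power of p) is the least p^e for which k^{p^{-e}} ⊆ k^{p^{-e}}K is separable. -/
theorem result {k : Type u} [Field k] (p : ℕ) [Fact p.Prime] [CharP k p]
    {K : Type u} [Field K] [Algebra k K] [FiniteDimensional k K]
    {Ω : Type u} [Field Ω] [Algebra k Ω] [Algebra K Ω] [IsScalarTower k K Ω] [IsAlgClosed Ω] (e : ℕ) :
    (∀ x : Ω, x ∈ IntermediateField.adjoin k {y : Ω | y ^ (p ^ e) ∈ Set.range (algebraMap k Ω)} ⊔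
        IntermediateField.adjoin k (Set.range (algebraMap K Ω)) →
      IsSeparable (IntermediateField.adjoin k {y : Ω | y ^ (p ^ e) ∈ Set.range (algebraMap k Ω)}) x) ↔
    ∀ x : K, x ^ (p ^ e) ∈ separableClosure k K := by
  classical
  haveI : CharP Ω p := charP_of_injective_algebraMap (algebraMap k Ω).injective p
  haveI : ExpChar Ω p := ExpChar.prime (Fact.out : p.Prime)
  haveI : PerfectRing Ω p := PerfectField.toPerfectRing p
  set S : Set Ω := {y : Ω | y ^ (p ^ e) ∈ Set.range (algebraMap k Ω)} with hS
  set L := IntermediateField.adjoin k S with hL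
  -- `L` is contained in `S`
  have hLS : ∀ y ∈ L, y ∈ S := by
    intro y hy
    let L' : IntermediateField k Ω :=
      { carrier := S
        mul_mem' := by
          rintro a b ⟨a', ha'⟩ ⟨b', hb'⟩
          exact ⟨a' * b', by rw [map_mul, ha', hb', mul_pow]⟩
        one_mem' := ⟨1, by simp⟩
        add_mem' := by
          rintro a b ⟨a', ha'⟩ ⟨b', hb'⟩
          exact ⟨a' + b', by rw [map_add, ha', hb', add_pow_char_pow]⟩
        zero_mem' := ⟨0, by simp [(Fact.out : p.Prime).pos.ne']⟩
        algebraMap_mem' := fun r => ⟨r ^ (p ^ e), by simp⟩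
        inv_mem' := by
          rintro a ⟨a', ha'⟩
          exact ⟨a'⁻¹, by rw [map_inv₀, ha', inv_pow]⟩ }
    have hle : L ≤ L' := IntermediateField.adjoin_le_iff.2 (fun z hz => hz)
    exact hle hy
  have hSL : ∀ y ∈ S, y ∈ L := fun y hy => IntermediateField.subset_adjoin k S hy
  set σ := iterateFrobeniusEquiv Ω p e with hσ
  have hσ_apply : ∀ y, σ y = y ^ (p ^ e) := fun y => rfl
  constructor
  · intro h x
    rw [mem_separableClosure_iff]
    have h1 : IsSeparable L (algebraMap K Ω x) := by
      apply h
      apply (le_sup_right : IntermediateField.adjoin k (Set.range (algebraMap K Ω)) ≤ L ⊔ _)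
      exact IntermediateField.subset_adjoin k _ ⟨x, rfl⟩
    have h2 : IsSeparable k ((σ : Ω →+* Ω) (algebraMap K Ω x)) := by
      refine transport (F₁ := L) (F₂ := k) (σ : Ω →+* Ω) ?_ h1
      intro a
      exact hLS a.1 a.2
    have h3 : (σ : Ω →+* Ω) (algebraMap K Ω x) = algebraMap K Ω (x ^ (p ^ e)) := by
      rw [map_pow]; rfl
    rw [h3] at h2
    unfold IsSeparable at h2 ⊢
    rwa [minpoly.algebraMap_eq (algebraMap K Ω).injective] at h2
  · intro h
    have hle : L ⊔ IntermediateField.adjoin k (Set.range (algebraMap K Ω)) ≤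
        (separableClosure L Ω).restrictScalars k := by
      apply sup_le
      · intro y hy
        change y ∈ separableClosure L Ω
        rw [mem_separableClosure_iff]
        exact isSeparable_algebraMap (⟨y, hy⟩ : L)
      · rw [IntermediateField.adjoin_le_iff]
        rintro _ ⟨x, rfl⟩
        change algebraMap K Ω x ∈ separableClosure L Ω
        rw [mem_separableClosure_iff]
        have h1 : IsSeparable k (algebraMap K Ω (x ^ (p ^ e))) := by
          have := h x
          rw [mem_separableClosure_iff] at this
          unfold IsSeparable at this ⊢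
          rwa [minpoly.algebraMap_eq (algebraMap K Ω).injective]
        have h2 : IsSeparable L ((σ.symm : Ω →+* Ω) (algebraMap K Ω (x ^ (p ^ e)))) := by
          refine transport (F₁ := k) (F₂ := L) (σ.symm : Ω →+* Ω) ?_ h1
          intro a
          refine ⟨⟨σ.symm (algebraMap k Ω a), hSL _ ?_⟩, rfl⟩
          change (σ.symm (algebraMap k Ω a)) ^ (p ^ e) ∈ Set.range (algebraMap k Ω)
          rw [← hσ_apply, RingEquiv.apply_symm_apply]
          exact ⟨a, rfl⟩
        have h3 : (σ.symm : Ω →+* Ω) (algebraMap K Ω (x ^ (p ^ e))) = algebraMap K Ω x := by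
          change σ.symm (algebraMap K Ω (x ^ (p ^ e))) = _
          rw [map_pow, ← hσ_apply, RingEquiv.symm_apply_apply]
        rwa [h3] at h2
    intro x hx
    have := hle hx
    change x ∈ separableClosure L Ω at this
    rwa [mem_separableClosure_iff] at this

end Groth.Agent.S13184
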