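import Groth.Statements.S13185
import Mathlib

set_option autoImplicit false
universe u v w x
open GalCoh

namespace Groth.Agent.S13185

/-- Let a group G act by automorphisms on groups A, B, C and let 1 → A → B → C → 1 (maps ι, π) be a
G-equivariant short exact sequence. For G-fixed elements c, c' of C, the connecting map to H¹(G, A)
takes equal values on c and c' if and only if c' = π(b) · c for some G-fixed b in B: the fibres of
the connecting map are the orbits of the fixed points of B acting on the fixed points of C by left
multiplication. (The published statement is for a Galois group acting on discrete modules; this row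
takes an arbitrary group acting on groups, which is what the argument proves.) -/
theorem result {G : Type u} {A : Type v} {B : Type w} {C : Type x}
    [Group G] [Group A] [Group B] [Group C]
    [MulDistribMulAction G A] [MulDistribMulAction G B] [MulDistribMulAction G C]
    {ι : A →* B} {π : B →* C} (h : GpH1.IsGExt G ι π)
    (c c' : MulAction.fixedPoints G C) :
    GpH1.delta0 h c = GpH1.delta0 h c' ↔
      ∃ b : B, b ∈ MulAction.fixedPoints G B ∧ (c' : C) = π b * (c : C) := by
  set β := (h.surjective c.1).choose with hβdef
  have hβ : π β = c.1 := (h.surjective c.1).choose_spec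
  set β' := (h.surjective c'.1).choose with hβ'def
  have hβ' : π β' = c'.1 := (h.surjective c'.1).choose_spec
  have hfix : π β ∈ MulAction.fixedPoints G C := hβ.symm ▸ c.2
  have hfix' : π β' ∈ MulAction.fixedPoints G C := hβ'.symm ▸ c'.2
  have hdef : GpH1.delta0 h c = (h.cocycleOfLift β hfix).cl := rfl
  have hdef' : GpH1.delta0 h c' = (h.cocycleOfLift β' hfix').cl := rfl
  rw [hdef, hdef', GpH1.OneCocycle.cl_eq_cl_iff]
  constructor
  · rintro ⟨x, hx⟩
    -- b = β' ι(x) β⁻¹
    have hx' : ∀ σ : G, β⁻¹ * σ • β = (ι x)⁻¹ * (β'⁻¹ * σ • β') * σ • ι x := by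
      intro σ
      have := congrArg ι (hx σ)
      rw [map_mul, map_mul, map_inv, h.ι_cocycleOfLift, h.ι_cocycleOfLift, h.smul_ι] at this
      exact this
    refine ⟨β' * ι x * β⁻¹, ?_, ?_⟩
    · intro σ
      rw [smul_mul', smul_mul', smul_inv']
      have e := hx' σ
      have e2 : σ • β' * σ • ι x = β' * ι x * (β⁻¹ * σ • β) := by
        rw [e]; group
      rw [e2]; group
    · rw [map_mul, map_mul, map_inv, hβ, hβ']
      have : π (ι x) = 1 := (h.exact _).2 ⟨x, rfl⟩
      rw [this, mul_one, inv_mul_cancel_right]
  · rintro ⟨b, hb, hcb⟩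
    -- β' = b β ι(x)
    have hmem : (b * β)⁻¹ * β' ∈ ι.range := by
      rw [← h.exact, map_mul, map_inv, map_mul, hβ, hβ', hcb]
      group
    obtain ⟨x, hx⟩ := hmem
    apply GpH1.Cohomologous.symm
    refine ⟨x, fun σ => ?_⟩
    apply h.injective
    rw [map_mul, map_mul, map_inv, h.ι_cocycleOfLift, h.ι_cocycleOfLift, h.smul_ι, hx]
    have hβ'eq : β' = b * β * ((b * β)⁻¹ * β') := by group
    have hbσ : σ • b = b := hb σ
    conv_lhs => rw [hβ'eq]
    rw [smul_mul', smul_mul', hbσ]
    group

end Groth.Agent.S13185
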