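import Groth.Statements.S13186
import Groth.Agent.Lib.Helper20.Hilbert90GL

set_option autoImplicit false
universe u
open GalCoh

namespace Groth.Agent.S13186

/-- Let L/K be a finite Galois extension of fields, n a natural number, and B a map from the Galois
group of L over K to the invertible n × n matrices over L such that B(σ) · σ(B(τ)) = B(στ) for all
σ, τ (σ acting on matrices entrywise, στ applying τ first) and det B(σ) = 1 for every σ. Then there
is an invertible matrix A over L of determinant 1 with B(σ) = A⁻¹ · σ(A) for every σ; that is, every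
1-cocycle of the Galois group with values in SL_n(L) is the coboundary of an element of SL_n(L), so
H¹ of the Galois group with values in SL_n(L) is a point. (The published statement says that every
torsor under the special linear group over K is trivial; this row is the finite-Galois-level cocycle
form that its proof establishes.) -/
theorem result (K L : Type u) [Field K] [Field L]
    [Algebra K L] [FiniteDimensional K L] [IsGalois K L] (n : ℕ)
    (B : (L ≃ₐ[K] L) → GL (Fin n) L)
    (hB : ∀ σ τ : L ≃ₐ[K] L,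
      (B σ : Matrix (Fin n) (Fin n) L) * (B τ : Matrix (Fin n) (Fin n) L).map σ =
        (B (σ * τ) : Matrix (Fin n) (Fin n) L))
    (hdet : ∀ σ : L ≃ₐ[K] L, Matrix.det (B σ : Matrix (Fin n) (Fin n) L) = 1) :
    ∃ A : GL (Fin n) L, Matrix.det (A : Matrix (Fin n) (Fin n) L) = 1 ∧ ∀ σ : L ≃ₐ[K] L,
      (B σ : Matrix (Fin n) (Fin n) L) =
        ((A⁻¹ : GL (Fin n) L) : Matrix (Fin n) (Fin n) L) * (A : Matrix (Fin n) (Fin n) L).map σ := by
  classical
  obtain ⟨A₀, hA₀, hAB⟩ := Lib.Helper20.Hilbert90GL.hilbert90 (k := K) (K := L)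
    (fun σ => ((B σ : GL (Fin n) L) : Matrix (Fin n) (Fin n) L)) (B 1).isUnit
    (fun σ τ => (hB σ τ).symm)
  -- the entrywise action on GL as a monoid hom
  let mapGL : (L ≃ₐ[K] L) → GL (Fin n) L →* GL (Fin n) L := fun σ =>
    Units.map (((σ : L →+* L).mapMatrix :
      Matrix (Fin n) (Fin n) L →+* Matrix (Fin n) (Fin n) L) :
        Matrix (Fin n) (Fin n) L →* Matrix (Fin n) (Fin n) L)
  have hmap : ∀ (σ : L ≃ₐ[K] L) (g : GL (Fin n) L),
      ((mapGL σ g : GL (Fin n) L) : Matrix (Fin n) (Fin n) L) =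
        (g : Matrix (Fin n) (Fin n) L).map σ := fun σ g => rfl
  have key : ∀ σ : L ≃ₐ[K] L, B σ * mapGL σ hA₀.unit = hA₀.unit := fun σ =>
    Units.ext (by rw [Units.val_mul, hmap]; exact hAB σ)
  have h1 : ∀ σ : L ≃ₐ[K] L, B σ = (hA₀.unit⁻¹)⁻¹ * mapGL σ (hA₀.unit⁻¹) := fun σ => by
    rw [map_inv, inv_inv, eq_mul_inv_iff_mul_eq]; exact key σ
  obtain ⟨A₁, hA₁⟩ : ∃ A₁ : GL (Fin n) L, A₁ = hA₀.unit⁻¹ := ⟨_, rfl⟩
  rw [← hA₁] at h1
  -- determinant
  have hdetmap : ∀ (σ : L ≃ₐ[K] L) (g : GL (Fin n) L),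
      Matrix.det ((mapGL σ g : GL (Fin n) L) : Matrix (Fin n) (Fin n) L) =
        σ (Matrix.det (g : Matrix (Fin n) (Fin n) L)) := fun σ g =>
    ((σ : L →+* L).map_det (g : Matrix (Fin n) (Fin n) L)).symm
  have hinvdet : Matrix.det ((A₁⁻¹ : GL (Fin n) L) : Matrix (Fin n) (Fin n) L) *
      Matrix.det (A₁ : Matrix (Fin n) (Fin n) L) = 1 := by
    rw [← Matrix.det_mul, ← Units.val_mul, inv_mul_cancel, Units.val_one, Matrix.det_one]
  have hδ0 : Matrix.det (A₁ : Matrix (Fin n) (Fin n) L) ≠ 0 := by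
    intro h0; rw [h0, mul_zero] at hinvdet; exact zero_ne_one hinvdet
  have hδfix : ∀ σ : L ≃ₐ[K] L, σ (Matrix.det (A₁ : Matrix (Fin n) (Fin n) L)) =
      Matrix.det (A₁ : Matrix (Fin n) (Fin n) L) := by
    intro σ
    have h2 := congrArg (fun g : GL (Fin n) L => Matrix.det (g : Matrix (Fin n) (Fin n) L)) (h1 σ)
    simp only [Units.val_mul, Matrix.det_mul, hdet, hdetmap] at h2
    -- h2 : 1 = det ↑A₁⁻¹ * σ (det ↑A₁)
    have h3 : Matrix.det ((A₁⁻¹ : GL (Fin n) L) : Matrix (Fin n) (Fin n) L) =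
        (Matrix.det (A₁ : Matrix (Fin n) (Fin n) L))⁻¹ := eq_inv_of_mul_eq_one_left hinvdet
    rw [h3] at h2
    field_simp at h2
    exact h2.symm
  obtain ⟨d, hd⟩ := (IsGalois.mem_range_algebraMap_iff_fixed
    (Matrix.det (A₁ : Matrix (Fin n) (Fin n) L))).2 hδfix
  -- case split on n
  rcases Nat.eq_zero_or_pos n with hn | hn
  · subst hn
    refine ⟨A₁, Matrix.det_isEmpty, fun σ => ?_⟩
    have := congrArg (fun g : GL (Fin 0) L => (g : Matrix (Fin 0) (Fin 0) L)) (h1 σ)
    simpa only [Units.val_mul, hmap] using this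
  · obtain ⟨m, rfl⟩ : ∃ m, n = m + 1 := ⟨n - 1, by omega⟩
    have hd0 : d ≠ 0 := by
      rintro rfl; rw [map_zero] at hd; exact hδ0 hd.symm
    -- the correcting diagonal matrix
    let Dm : Matrix (Fin (m + 1)) (Fin (m + 1)) L :=
      Matrix.diagonal (fun i => if i = 0 then algebraMap K L d⁻¹ else 1)
    have hDdet : Matrix.det Dm = algebraMap K L d⁻¹ := by
      simp only [Dm, Matrix.det_diagonal]
      rw [Finset.prod_ite_eq' Finset.univ (0 : Fin (m + 1)) (fun _ => algebraMap K L d⁻¹)] <;> simp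
    have hDunit : IsUnit Dm := by
      rw [Matrix.isUnit_iff_isUnit_det, hDdet]
      exact IsUnit.mk0 _ (by simp [hd0])
    have hDfix : ∀ σ : L ≃ₐ[K] L, mapGL σ hDunit.unit = hDunit.unit := by
      intro σ
      apply Units.ext
      rw [hmap]
      ext i j
      simp only [IsUnit.unit_spec, Matrix.map_apply, Dm, Matrix.diagonal_apply]
      split_ifs <;> simp
    refine ⟨hDunit.unit * A₁, ?_, fun σ => ?_⟩
    · rw [Units.val_mul, Matrix.det_mul, IsUnit.unit_spec, hDdet, ← hd, ← map_mul,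
        inv_mul_cancel₀ hd0, map_one]
    · have h4 : B σ = (hDunit.unit * A₁)⁻¹ * mapGL σ (hDunit.unit * A₁) := by
        rw [map_mul, hDfix, h1 σ]; group
      have := congrArg (fun g : GL (Fin (m + 1)) L => (g : Matrix (Fin (m + 1)) (Fin (m + 1)) L)) h4
      simpa only [Units.val_mul, hmap] using this

end Groth.Agent.S13186
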