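import Groth.Statements.S13188
import Mathlib

set_option autoImplicit false
universe u v w
open Brauer

namespace Groth.Agent.S13188

section helpers

/-- scaling property of homogeneous polynomials -/
theorem eval_smul_of_isHomogeneous {K : Type*} [Field K] {ι : Type*} [Fintype ι]
    (F : MvPolynomial ι K) (d : ℕ) (hF : F.IsHomogeneous d) (c : K) (x : ι → K) :
    MvPolynomial.eval (fun i => c * x i) F = c ^ d * MvPolynomial.eval x F := by
  classical
  rw [MvPolynomial.eval_eq', MvPolynomial.eval_eq', Finset.mul_sum]
  refine Finset.sum_congr rfl fun s hs => ?_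
  have hdeg : ∑ i, s i = d := by
    have h1 := hF (MvPolynomial.mem_support_iff.mp hs)
    rw [← Finsupp.degree_eq_sum]
    rw [Finsupp.degree_eq_weight_one]
    exact h1
  simp only [mul_pow, Finset.prod_mul_distrib, Finset.prod_pow_eq_pow_sum, hdeg]
  ring

end helpers

/-- Let K be a field with property C_2 for systems of forms and D a finite-dimensional central division
algebra over K with dim_K D = d². Let N : D → K be multiplicative, a reduced norm of D over K, and
given in the coordinates of a K-basis b of D by a homogeneous polynomial F of degree d, i.e. N(Σ x_i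
b_i) = F(x) for every coordinate vector x (the reduced norm of a central simple algebra of dimension
d² is such a polynomial map of degree d; these data record it). Then N : D → K is surjective. -/
theorem result (K : Type u) [Field K] (hK : Curves.IsCi K 2)
    (D : Type v) [DivisionRing D] [Algebra K D] [Algebra.IsCentral K D] [FiniteDimensional K D]
    (d : ℕ) (hd : Module.finrank K D = d ^ 2)
    (N : D →* K) (hN : CSAGal.IsRedNorm K D N)
    {ι : Type w} [Fintype ι] (b : Module.Basis ι K D)
    (F : MvPolynomial ι K) (hF : F.IsHomogeneous d)
    (hNF : ∀ x : ι → K, N (∑ i, x i • b i) = MvPolynomial.eval x F) :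
    Function.Surjective N := by
  classical
  intro a
  have hdpos : 0 < d := by
    have h1 : 0 < Module.finrank K D := Module.finrank_pos
    rw [hd] at h1
    exact Nat.pos_of_ne_zero (fun h0 => by rw [h0] at h1; simp at h1)
  have hcard : Fintype.card (Option ι) = d ^ 2 + 1 := by
    rw [Fintype.card_option, ← Module.finrank_eq_card_basis b, hd]
  let e : Option ι ≃ Fin (d ^ 2 + 1) := Fintype.equivFinOfCardEq hcard
  let G' : MvPolynomial (Option ι) K :=
    MvPolynomial.rename some F - MvPolynomial.C a * MvPolynomial.X none ^ d
  have hG' : G'.IsHomogeneous d := by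
    apply MvPolynomial.IsHomogeneous.sub
    · exact hF.rename_isHomogeneous
    · have := (MvPolynomial.isHomogeneous_C (Option ι) a).mul
        (MvPolynomial.isHomogeneous_X_pow (R := K) (none : Option ι) d)
      simpa using this
  let G : MvPolynomial (Fin (d ^ 2 + 1)) K := MvPolynomial.rename e G'
  have hG : G.IsHomogeneous d := hG'.rename_isHomogeneous
  obtain ⟨v, hv0, hv⟩ := hK 1 (d ^ 2 + 1) (fun _ => G) (fun _ => d) (fun _ => hG)
    (fun _ => hdpos) (by simp)
  have hv1 := hv 0
  simp only [G, MvPolynomial.eval_rename] at hv1
  set w : Option ι → K := v ∘ e with hw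
  have hw0 : w ≠ 0 := by
    intro h0
    apply hv0
    funext j
    have := congrFun h0 (e.symm j)
    simpa [hw] using this
  have hw1 : MvPolynomial.eval (w ∘ some) F = a * w none ^ d := by
    have : MvPolynomial.eval w G' = 0 := hv1
    simp only [G', map_sub, MvPolynomial.eval_rename, map_mul, MvPolynomial.eval_C, map_pow,
      MvPolynomial.eval_X] at this
    exact sub_eq_zero.1 this
  set x : ι → K := w ∘ some with hx
  set t : K := w none with ht
  have hunit : ∀ y : D, y ≠ 0 → N y ≠ 0 := by
    intro y hy h0
    have h1 : N y * N y⁻¹ = 1 := by rw [← map_mul, mul_inv_cancel₀ hy, map_one]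
    rw [h0, zero_mul] at h1
    exact zero_ne_one h1
  by_cases ht0 : t = 0
  · exfalso
    have hx0 : x ≠ 0 := by
      intro h0
      apply hw0
      funext o
      cases o with
      | none => exact ht0
      | some i => exact congrFun h0 i
    have hy : (∑ i, x i • b i) ≠ 0 := by
      intro h0
      apply hx0
      funext i
      have := Fintype.linearIndependent_iff.1 b.linearIndependent x h0 i
      exact this
    apply hunit _ hy
    rw [hNF, hw1, ht0, zero_pow hdpos.ne', mul_zero]
  · refine ⟨∑ i, (t⁻¹ * x i) • b i, ?_⟩
    rw [hNF, eval_smul_of_isHomogeneous F d hF, hw1, inv_pow]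
    field_simp

end Groth.Agent.S13188
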