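import Groth.Statements.S13189
import Mathlib

set_option autoImplicit false
universe u
open CAlg

namespace Groth.Agent.S13189

section helpers

/-- exponent reduction: if `x ^ q = x` then every power of `x` is a power with exponent `≤ q - 1`. -/
theorem exists_red (q : ℕ) (hq : 2 ≤ q) (e : ℕ) :
    ∃ e' : ℕ, e' ≤ q - 1 ∧ ∀ {S : Type u} [CommRing S] (x : S), x ^ q = x → x ^ e = x ^ e' := by
  induction e using Nat.strong_induction_on with
  | _ e ih =>
    by_cases he : e ≤ q - 1
    · exact ⟨e, he, fun _ _ => rfl⟩
    · have hlt : e - q + 1 < e := by omega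
      obtain ⟨e', he', h⟩ := ih (e - q + 1) hlt
      refine ⟨e', he', fun {S} _ x hx => ?_⟩
      rw [← h x hx]
      have : e = (e - q) + q := by omega
      conv_lhs => rw [this, pow_add, hx]
      rw [pow_succ]

end helpers

/-- For a finite field K of cardinality q and n ≥ 0, a polynomial p in n variables over K vanishes at
every point of K^n if and only if p belongs to the ideal generated by the X_i^q − X_i, i = 1, …, n;
in other words that ideal is the kernel of the evaluation homomorphism from K[X_1, …, X_n] to the
ring of K-valued functions on K^n. -/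
theorem result (K : Type u) [Field K] [Fintype K]
    (n : ℕ) (p : MvPolynomial (Fin n) K) :
    (∀ a : Fin n → K, MvPolynomial.eval a p = 0) ↔
      p ∈ Ideal.span (Set.range fun i : Fin n =>
        (MvPolynomial.X i ^ Fintype.card K - MvPolynomial.X i : MvPolynomial (Fin n) K)) := by
  classical
  set q := Fintype.card K with hq
  have hq2 : 2 ≤ q := Fintype.one_lt_card
  set I : Ideal (MvPolynomial (Fin n) K) := Ideal.span (Set.range fun i : Fin n =>
        (MvPolynomial.X i ^ q - MvPolynomial.X i : MvPolynomial (Fin n) K)) with hI
  -- every element of `I` vanishes everywhere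
  have hIvan : ∀ g ∈ I, ∀ a : Fin n → K, MvPolynomial.eval a g = 0 := by
    intro g hg a
    have hle : I ≤ RingHom.ker (MvPolynomial.eval a) := by
      rw [hI, Ideal.span_le]
      rintro _ ⟨i, rfl⟩
      show MvPolynomial.eval a (MvPolynomial.X i ^ q - MvPolynomial.X i) = 0
      rw [map_sub, map_pow, MvPolynomial.eval_X, hq, FiniteField.pow_card, sub_self]
    exact hle hg
  constructor
  · intro hp
    -- reduction modulo `I`
    have hXq : ∀ i : Fin n, (Ideal.Quotient.mk I (MvPolynomial.X i)) ^ q =
        Ideal.Quotient.mk I (MvPolynomial.X i) := by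
      intro i
      rw [← map_pow, Ideal.Quotient.eq]
      exact Ideal.subset_span ⟨i, rfl⟩
    choose red hred1 hred2 using exists_red.{u} q hq2
    have hreduce : ∀ g : MvPolynomial (Fin n) K, ∃ r : MvPolynomial (Fin n) K,
        (∀ i, r.degreeOf i ≤ q - 1) ∧ g - r ∈ I := by
      intro g
      induction g using MvPolynomial.induction_on' with
      | monomial d c =>
        let d' : Fin n →₀ ℕ := Finsupp.equivFunOnFinite.symm (fun i => red (d i))
        refine ⟨MvPolynomial.monomial d' c, fun i => ?_, ?_⟩
        · rw [MvPolynomial.degreeOf_le_iff]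
          intro m hm
          have := MvPolynomial.support_monomial_subset hm
          rw [Finset.mem_singleton] at this
          rw [this]
          exact hred1 (d i)
        · rw [← Ideal.Quotient.eq, MvPolynomial.monomial_eq, MvPolynomial.monomial_eq, map_mul,
            map_mul, Finsupp.prod_fintype _ _ (fun _ => pow_zero _),
            Finsupp.prod_fintype _ _ (fun _ => pow_zero _), map_prod, map_prod]
          congr 1
          refine Finset.prod_congr rfl fun i _ => ?_
          rw [map_pow, map_pow]
          exact hred2 (d i) _ (hXq i)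
      | add g₁ g₂ h₁ h₂ =>
        obtain ⟨r₁, hr₁, hg₁⟩ := h₁
        obtain ⟨r₂, hr₂, hg₂⟩ := h₂
        refine ⟨r₁ + r₂, fun i => ?_, ?_⟩
        · exact le_trans (MvPolynomial.degreeOf_add_le i r₁ r₂) (max_le (hr₁ i) (hr₂ i))
        · have : g₁ + g₂ - (r₁ + r₂) = (g₁ - r₁) + (g₂ - r₂) := by ring
          rw [this]
          exact I.add_mem hg₁ hg₂
    obtain ⟨r, hrdeg, hr⟩ := hreduce p
    have hr0 : r = 0 := by
      apply MvPolynomial.eq_zero_of_eval_zero_at_prod_finset r (fun _ => Finset.univ)
      · intro i
        rw [Finset.card_univ]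
        have := hrdeg i
        omega
      · intro a _
        have h1 := hIvan _ hr a
        rw [map_sub, hp a, zero_sub, neg_eq_zero] at h1
        exact h1
    rw [hr0, sub_zero] at hr
    exact hr
  · intro hp a
    exact hIvan p hp a

end Groth.Agent.S13189
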