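-- Statement S1319.
import Groth.Statements.S1319
import Mathlib
import Groth.Agent.Lib.Helper1.Deform3

set_option autoImplicit false
universe u
open FlatMor

namespace Groth.Agent.S1319

open AlgebraicGeometry CategoryTheory Limits in
/-- Let S ⟶ S' be a finite order thickening, let X' ⟶ Y' be a morphism of schemes over S' with X' flat
over S', and let X ⟶ Y be its base change to S. Then X' ⟶ Y' is an open immersion exactly when X ⟶ Y
is one. -/
theorem result {X X' Y Y' S S' : Scheme.{u}} (iX : X ⟶ X') (iY : Y ⟶ Y') (iS : S ⟶ S')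
    (f : X ⟶ Y) (f' : X' ⟶ Y') (g : Y ⟶ S) (g' : Y' ⟶ S')
    (hS : MoreMor.IsFiniteOrderThickening iS) (hcX : IsPullback iX (f ≫ g) (f' ≫ g') iS) (hcY : IsPullback iY g g' iS)
    (w : iX ≫ f' = f ≫ iY) [Flat (f' ≫ g')] :
    IsOpenImmersion f ↔ IsOpenImmersion f' := by
  haveI := hS.1.1
  have hcXY : IsPullback iX f f' iY := IsPullback.of_bot hcX w hcY
  constructor
  · intro hf
    exact Groth.Agent.Lib.Helper1.Deform.isOpenImmersion_of_deform hS.1
      (Groth.Agent.Lib.Helper1.ThickSq.isNilpotent_ker_app_of_isNilpotent_ker iS hS.2) hcX hcY w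
  · intro hf'
    exact MorphismProperty.of_isPullback hcXY hf'

end Groth.Agent.S1319
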