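import Groth.Statements.S13197
import Groth.Agent.Lib.Helper20.KrullCocycle

set_option autoImplicit false
universe u
open GalCoh

namespace Groth.Agent.S13197

/-- Let K be a field, n ≥ 1 an integer invertible in K, L a separable closure of K, and a a map from the
automorphism group of L over K to the units of L, locally constant for the Krull topology, with
a(στ) = a(σ) · σ(a(τ)) and a(σ)^n = 1 for all σ, τ. Then there is a unit α of L with α^n in K and
a(σ) = α⁻¹ · σ(α) for every σ; that is, every continuous 1-cocycle of the absolute Galois group with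
values in the n-th roots of unity is the Kummer boundary of the class of α^n. -/
theorem result (K L : Type u) [Field K] [Field L]
    [Algebra K L] [IsSepClosure K L] (n : ℕ) (hn : 0 < n) (hnK : (n : K) ≠ 0)
    (a : (L ≃ₐ[K] L) → Lˣ)
    (ha : ∀ σ τ : L ≃ₐ[K] L, a (σ * τ) = a σ * σ • a τ) (hroot : ∀ σ : L ≃ₐ[K] L, a σ ^ n = 1)
    (hlc : IsLocallyConstant a) :
    ∃ α : Lˣ, ((α ^ n : Lˣ) : L) ∈ Set.range (algebraMap K L) ∧
      ∀ σ : L ≃ₐ[K] L, a σ = α⁻¹ * σ • α := by
  obtain ⟨α, hα⟩ := Groth.Agent.Lib.Helper20.KrullCocycle.mult_core a ha hlc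
  refine ⟨α, ?_, hα⟩
  rw [InfiniteGalois.mem_range_algebraMap_iff_fixed]
  intro σ
  have h1 : (α ^ n)⁻¹ * σ • (α ^ n) = 1 := by
    rw [smul_pow', ← inv_pow, ← mul_pow, ← hα σ, hroot σ]
  have h2 : σ • (α ^ n) = α ^ n := by
    rw [← mul_right_inj (α ^ n)⁻¹, h1, inv_mul_cancel]
  have h3 := congrArg (fun u : Lˣ => (u : L)) h2
  simpa [AlgEquiv.smul_units_def] using h3

end Groth.Agent.S13197
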