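import Groth.Statements.S13198
import Mathlib

set_option autoImplicit false
universe u
open scoped TensorProduct
open Hensel

namespace Groth.Agent.S13198


namespace H13198

open TensorProduct IsLocalRing

section

variable {R A B : Type*} [CommRing R] [CommRing A] [CommRing B] [Algebra R A] [Algebra R B]

theorem includeRight_isIntegral [Algebra.IsIntegral R A] :
    (Algebra.TensorProduct.includeRight : B →ₐ[R] A ⊗[R] B).toRingHom.IsIntegral := by
  intro x
  induction x using TensorProduct.induction_on with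
  | zero => exact RingHom.isIntegralElem_zero _
  | tmul a b =>
    have h1 : a ⊗ₜ[R] b = (Algebra.TensorProduct.includeLeftRingHom a : A ⊗[R] B) *
        (Algebra.TensorProduct.includeRight : B →ₐ[R] A ⊗[R] B).toRingHom b := by
      show a ⊗ₜ[R] b = (a ⊗ₜ[R] (1 : B)) * ((1 : A) ⊗ₜ[R] b)
      rw [Algebra.TensorProduct.tmul_mul_tmul, mul_one, one_mul]
    rw [h1]
    refine RingHom.IsIntegralElem.mul _ ?_ (RingHom.isIntegralElem_map _)
    have ha : (algebraMap R A).IsIntegralElem a := Algebra.IsIntegral.isIntegral (R := R) a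
    have h2 := ha.map (Algebra.TensorProduct.includeLeftRingHom : A →+* A ⊗[R] B)
    rw [Algebra.TensorProduct.includeLeftRingHom_comp_algebraMap] at h2
    exact h2.of_comp
  | add x y hx hy => exact RingHom.IsIntegralElem.add _ hx hy

variable [IsLocalRing R] [IsLocalRing A] [IsLocalRing B] [IsLocalHom (algebraMap R A)]
  [IsLocalHom (algebraMap R B)]

theorem mem_of_isMaximal [Algebra.IsIntegral R A] (𝔫 : Ideal (A ⊗[R] B)) [h𝔫 : 𝔫.IsMaximal] :
    (∀ m ∈ maximalIdeal A, (m ⊗ₜ[R] (1 : B)) ∈ 𝔫) ∧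
      (∀ m ∈ maximalIdeal B, ((1 : A) ⊗ₜ[R] m) ∈ 𝔫) := by
  have hint := includeRight_isIntegral (R := R) (A := A) (B := B)
  have hmaxB : (𝔫.comap
      (Algebra.TensorProduct.includeRight : B →ₐ[R] A ⊗[R] B).toRingHom).IsMaximal :=
    Ideal.isMaximal_comap_of_isIntegral_of_isMaximal' _ hint 𝔫
  have eB : 𝔫.comap (Algebra.TensorProduct.includeRight : B →ₐ[R] A ⊗[R] B).toRingHom =
      maximalIdeal B := eq_maximalIdeal hmaxB
  haveI : 𝔫.IsPrime := h𝔫.isPrime
  haveI hP : (𝔫.comap (Algebra.TensorProduct.includeLeftRingHom : A →+* A ⊗[R] B)).IsPrime :=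
    Ideal.comap_isPrime _ _
  have hPR : (𝔫.comap (Algebra.TensorProduct.includeLeftRingHom : A →+* A ⊗[R] B)).comap
      (algebraMap R A) = maximalIdeal R := by
    rw [Ideal.comap_comap, Algebra.TensorProduct.includeLeftRingHom_comp_algebraMap,
      ← Ideal.comap_comap, eB]
    exact ((maximalIdeal B).over_def (maximalIdeal R)).symm
  have hPmax : (𝔫.comap (Algebra.TensorProduct.includeLeftRingHom : A →+* A ⊗[R] B)).IsMaximal :=
    Ideal.isMaximal_of_isIntegral_of_isMaximal_comap _ (by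
      rw [hPR]
      exact maximalIdeal.isMaximal R)
  have eA := eq_maximalIdeal hPmax
  constructor
  · intro m hm
    have h1 : m ∈ 𝔫.comap (Algebra.TensorProduct.includeLeftRingHom : A →+* A ⊗[R] B) := by
      rw [eA]
      exact hm
    exact h1
  · intro m hm
    have h1 : m ∈ 𝔫.comap (Algebra.TensorProduct.includeRight : B →ₐ[R] A ⊗[R] B).toRingHom := by
      rw [eB]
      exact hm
    exact h1

end

theorem exists_ringHom_field {R A B : Type u} [CommRing R] [CommRing A] [CommRing B]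
    [Algebra R A] [Algebra R B] [IsLocalRing R] [IsLocalRing A] [IsLocalRing B]
    [IsLocalHom (algebraMap R A)] [IsLocalHom (algebraMap R B)]
    [IsPurelyInseparable (ResidueField R) (ResidueField A)] :
    ∃ (Ω : Type u) (_ : Field Ω) (Φ : A ⊗[R] B →+* Ω),
      (∀ m ∈ maximalIdeal A, Φ (m ⊗ₜ[R] (1 : B)) = 0) ∧
      (∀ m ∈ maximalIdeal B, Φ ((1 : A) ⊗ₜ[R] m) = 0) := by
  classical
  letI : Algebra (ResidueField R) (AlgebraicClosure (ResidueField B)) :=
    ((algebraMap (ResidueField B) (AlgebraicClosure (ResidueField B))).comp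
      (algebraMap (ResidueField R) (ResidueField B))).toAlgebra
  obtain ⟨lift⟩ : Nonempty (ResidueField A →ₐ[ResidueField R]
      AlgebraicClosure (ResidueField B)) := ⟨IsAlgClosed.lift⟩
  obtain ⟨gA, hgA⟩ : ∃ gA : A →+* AlgebraicClosure (ResidueField B),
      ∀ a, gA a = lift (residue A a) := ⟨lift.toRingHom.comp (residue A), fun a => rfl⟩
  obtain ⟨gB, hgB⟩ : ∃ gB : B →+* AlgebraicClosure (ResidueField B),
      ∀ b, gB b = algebraMap (ResidueField B) (AlgebraicClosure (ResidueField B)) (residue B b) :=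
    ⟨(algebraMap (ResidueField B) (AlgebraicClosure (ResidueField B))).comp (residue B),
      fun b => rfl⟩
  have hcompat : ∀ r : R, gA (algebraMap R A r) = gB (algebraMap R B r) := by
    intro r
    rw [hgA, hgB, ← ResidueField.algebraMap_residue, ← ResidueField.algebraMap_residue,
      lift.commutes]
    rfl
  letI : Algebra R (AlgebraicClosure (ResidueField B)) := (gB.comp (algebraMap R B)).toAlgebra
  obtain ⟨gA', hgA'⟩ : ∃ gA' : A →ₐ[R] AlgebraicClosure (ResidueField B), ∀ a, gA' a = gA a :=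
    ⟨{ gA with commutes' := fun r => hcompat r }, fun a => rfl⟩
  obtain ⟨gB', hgB'⟩ : ∃ gB' : B →ₐ[R] AlgebraicClosure (ResidueField B), ∀ b, gB' b = gB b :=
    ⟨{ gB with commutes' := fun r => rfl }, fun b => rfl⟩
  refine ⟨AlgebraicClosure (ResidueField B), inferInstance,
    (Algebra.TensorProduct.productMap gA' gB').toRingHom, ?_, ?_⟩
  · intro m hm
    show Algebra.TensorProduct.productMap gA' gB' (m ⊗ₜ[R] (1 : B)) = 0
    rw [Algebra.TensorProduct.productMap_apply_tmul, hgA', hgA, (residue_eq_zero_iff m).mpr hm,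
      map_zero, zero_mul]
  · intro m hm
    show Algebra.TensorProduct.productMap gA' gB' ((1 : A) ⊗ₜ[R] m) = 0
    rw [Algebra.TensorProduct.productMap_apply_tmul, hgB', hgB, (residue_eq_zero_iff m).mpr hm,
      map_zero, mul_zero]

theorem main (R A B : Type u) [CommRing R] [IsLocalRing R]
    [CommRing A] [IsLocalRing A] [Algebra R A] [IsLocalHom (algebraMap R A)]
    [Algebra.IsIntegral R A]
    [IsPurelyInseparable (IsLocalRing.ResidueField R) (IsLocalRing.ResidueField A)]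
    [CommRing B] [IsLocalRing B] [Algebra R B] [IsLocalHom (algebraMap R B)] :
    ∃ _ : IsLocalRing (A ⊗[R] B),
      IsLocalHom (Algebra.TensorProduct.includeRight : B →ₐ[R] A ⊗[R] B).toRingHom ∧
      ∀ x : A ⊗[R] B, ∃ (n : ℕ) (b : B),
        x ^ (ringExpChar (IsLocalRing.ResidueField B)) ^ n - (1 : A) ⊗ₜ[R] b ∈
          IsLocalRing.maximalIdeal (A ⊗[R] B) := by
  classical
  obtain ⟨p, hp⟩ : ∃ p, p = ringExpChar (ResidueField B) := ⟨_, rfl⟩
  haveI hpB : ExpChar (ResidueField B) p := by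
    rw [hp]
    infer_instance
  haveI hpR : ExpChar (ResidueField R) p :=
    RingHom.expChar (algebraMap (ResidueField R) (ResidueField B)) (RingHom.injective _) p
  obtain ⟨𝔎, h𝔎⟩ : ∃ 𝔎 : Ideal (A ⊗[R] B), 𝔎 = Ideal.span
      ({x | ∃ m ∈ maximalIdeal A, x = m ⊗ₜ[R] (1 : B)} ∪
        {x | ∃ m ∈ maximalIdeal B, x = (1 : A) ⊗ₜ[R] m}) := ⟨_, rfl⟩
  have hKA : ∀ m ∈ maximalIdeal A, m ⊗ₜ[R] (1 : B) ∈ 𝔎 := fun m hm => by
    rw [h𝔎]
    exact Ideal.subset_span (Or.inl ⟨m, hm, rfl⟩)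
  have hKB : ∀ m ∈ maximalIdeal B, (1 : A) ⊗ₜ[R] m ∈ 𝔎 := fun m hm => by
    rw [h𝔎]
    exact Ideal.subset_span (Or.inr ⟨m, hm, rfl⟩)
  have hKmax : ∀ (𝔫 : Ideal (A ⊗[R] B)), 𝔫.IsMaximal → 𝔎 ≤ 𝔫 := by
    intro 𝔫 h𝔫
    haveI := h𝔫
    obtain ⟨h1, h2⟩ := mem_of_isMaximal (R := R) 𝔫
    rw [h𝔎, Ideal.span_le]
    rintro x (⟨m, hm, rfl⟩ | ⟨m, hm, rfl⟩)
    · exact h1 m hm
    · exact h2 m hm
  obtain ⟨Ω, _, Φ, hΦA, hΦB⟩ := exists_ringHom_field (R := R) (A := A) (B := B)
  have hKker : 𝔎 ≤ RingHom.ker Φ := by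
    rw [h𝔎, Ideal.span_le]
    rintro x (⟨m, hm, rfl⟩ | ⟨m, hm, rfl⟩)
    · exact hΦA m hm
    · exact hΦB m hm
  have hKne : 𝔎 ≠ ⊤ := by
    intro h
    have h1 : (1 : A ⊗[R] B) ∈ RingHom.ker Φ := hKker (h ▸ Submodule.mem_top)
    rw [RingHom.mem_ker, map_one] at h1
    exact one_ne_zero h1
  haveI hDnt : Nontrivial ((A ⊗[R] B) ⧸ 𝔎) := Ideal.Quotient.nontrivial_iff.mpr hKne
  haveI hCnt : Nontrivial (A ⊗[R] B) := by
    refine ⟨⟨0, 1, fun h => hKne ?_⟩⟩
    rw [Ideal.eq_top_iff_one, ← h]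
    exact zero_mem _
  obtain ⟨π, hπ⟩ : ∃ π : A ⊗[R] B →+* (A ⊗[R] B) ⧸ 𝔎, π = Ideal.Quotient.mk 𝔎 := ⟨_, rfl⟩
  have hπ0 : ∀ x, π x = 0 ↔ x ∈ 𝔎 := fun x => by
    rw [hπ]
    exact Ideal.Quotient.eq_zero_iff_mem
  obtain ⟨ψ, hψ⟩ : ∃ ψ : ResidueField B →+* (A ⊗[R] B) ⧸ 𝔎,
      ∀ b : B, ψ (residue B b) = π ((1 : A) ⊗ₜ[R] b) :=
    ⟨Ideal.Quotient.lift (maximalIdeal B)
      (π.comp (Algebra.TensorProduct.includeRight : B →ₐ[R] A ⊗[R] B).toRingHom)
      (fun b hb => (hπ0 _).mpr (hKB b hb)), fun b => rfl⟩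
  haveI hpD : ExpChar ((A ⊗[R] B) ⧸ 𝔎) p :=
    expChar_of_injective_ringHom (RingHom.injective ψ) p
  have hfrob : ∀ x : A ⊗[R] B, ∃ (n : ℕ) (b : B), π x ^ p ^ n = π ((1 : A) ⊗ₜ[R] b) := by
    intro x
    induction x using TensorProduct.induction_on with
    | zero => exact ⟨0, 0, by rw [map_zero, tmul_zero, map_zero, pow_zero, pow_one]⟩
    | tmul a b =>
      obtain ⟨n, r', hr'⟩ := IsPurelyInseparable.pow_mem (ResidueField R) p (residue A a)
      obtain ⟨r, rfl⟩ := residue_surjective r'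
      have h1 : a ^ p ^ n - algebraMap R A r ∈ maximalIdeal A := by
        rw [← residue_eq_zero_iff, map_sub, map_pow, ← hr', ResidueField.algebraMap_residue,
          sub_self]
      refine ⟨n, r • b ^ p ^ n, ?_⟩
      rw [← map_pow, ← sub_eq_zero, ← map_sub, hπ0]
      have h2 : (a ⊗ₜ[R] b) ^ p ^ n - (1 : A) ⊗ₜ[R] (r • b ^ p ^ n) =
          ((a ^ p ^ n - algebraMap R A r) ⊗ₜ[R] (1 : B)) * ((1 : A) ⊗ₜ[R] (b ^ p ^ n)) := by
        rw [Algebra.TensorProduct.tmul_pow, Algebra.TensorProduct.tmul_mul_tmul, mul_one, one_mul,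
          TensorProduct.sub_tmul, TensorProduct.tmul_smul, TensorProduct.smul_tmul',
          Algebra.algebraMap_eq_smul_one]
      rw [h2]
      exact 𝔎.mul_mem_right _ (hKA _ h1)
    | add x y hx hy =>
      obtain ⟨n, b, hb⟩ := hx
      obtain ⟨m, c, hc⟩ := hy
      refine ⟨n + m, b ^ p ^ m + c ^ p ^ n, ?_⟩
      have e1 : π x ^ p ^ (n + m) = π ((1 : A) ⊗ₜ[R] (b ^ p ^ m)) := by
        rw [pow_add, pow_mul, hb, ← map_pow, Algebra.TensorProduct.tmul_pow, one_pow]
      have e2 : π y ^ p ^ (n + m) = π ((1 : A) ⊗ₜ[R] (c ^ p ^ n)) := by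
        rw [pow_add, mul_comm, pow_mul, hc, ← map_pow, Algebra.TensorProduct.tmul_pow, one_pow]
      rw [map_add, add_pow_expChar_pow, e1, e2, tmul_add, map_add]
  have hJ : 𝔎 ≤ Ideal.jacobson ⊥ := by
    unfold Ideal.jacobson
    exact le_sInf (fun 𝔫 h => hKmax 𝔫 h.2)
  have hunit : ∀ x : A ⊗[R] B, IsUnit (π x) → IsUnit x := by
    intro x hx
    obtain ⟨y', hy'⟩ := hx.exists_right_inv
    obtain ⟨y, rfl⟩ : ∃ y, π y = y' := by
      rw [hπ]
      exact Ideal.Quotient.mk_surjective y'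
    have h1 : x * y - 1 ∈ 𝔎 := by
      rw [← hπ0, map_sub, map_mul, hy', map_one, sub_self]
    have h2 : IsUnit (x * y) := Ideal.isUnit_of_sub_one_mem_jacobson_bot _ (hJ h1)
    exact isUnit_of_mul_isUnit_left h2
  have hdich : ∀ x : A ⊗[R] B, IsUnit (π x) ∨ IsNilpotent (π x) := by
    intro x
    obtain ⟨n, b, hb⟩ := hfrob x
    by_cases hbu : IsUnit b
    · left
      have h1 : IsUnit (π ((1 : A) ⊗ₜ[R] b)) := by
        have h3 : IsUnit ((1 : A) ⊗ₜ[R] b) :=
          hbu.map (Algebra.TensorProduct.includeRight : B →ₐ[R] A ⊗[R] B)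
        exact h3.map π
      rw [← hb] at h1
      exact (isUnit_pow_iff (pow_pos (expChar_pos (ResidueField B) p) n).ne').mp h1
    · right
      have hbm : b ∈ maximalIdeal B := (mem_maximalIdeal b).mpr hbu
      refine ⟨p ^ n, ?_⟩
      rw [hb]
      exact (hπ0 _).mpr (hKB b hbm)
  have hloc : IsLocalRing (A ⊗[R] B) := by
    apply IsLocalRing.of_isUnit_or_isUnit_one_sub_self
    intro x
    rcases hdich x with h | h
    · exact Or.inl (hunit x h)
    · right
      apply hunit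
      rw [map_sub, map_one]
      exact h.isUnit_one_sub
  refine ⟨hloc, ?_, ?_⟩
  · constructor
    intro b hb
    by_contra hbu
    have hbm : b ∈ maximalIdeal B := (mem_maximalIdeal b).mpr hbu
    have h1 : (1 : A) ⊗ₜ[R] b ∈ 𝔎 := hKB b hbm
    have h2 : (1 : A) ⊗ₜ[R] b ∈ maximalIdeal (A ⊗[R] B) :=
      hKmax _ (maximalIdeal.isMaximal _) h1
    exact (mem_maximalIdeal _).mp h2 hb
  · intro x
    obtain ⟨n, b, hb⟩ := hfrob x
    refine ⟨n, b, ?_⟩
    rw [← hp]
    apply hKmax _ (maximalIdeal.isMaximal _)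
    rw [← hπ0, map_sub, map_pow, hb, sub_self]

end H13198

/-- Let R be a local ring which is strictly henselian (henselian, with separably closed residue field),
A a local ring which is an integral R-algebra with local structure map and whose residue field is
purely inseparable over that of R, and B a local ring with a local homomorphism R → B. Then A ⊗_R B
is a local ring, the map B → A ⊗_R B is local, and the residue field extension of A ⊗_R B over B is
purely inseparable: every element of A ⊗_R B has a p^n-th power, p the characteristic exponent of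
the residue field of B, congruent modulo the maximal ideal to an element 1 ⊗ b. -/
theorem result
    (R A B : Type u) [CommRing R] [HenselianLocalRing R] [IsSepClosed (IsLocalRing.ResidueField R)]
    [CommRing A] [IsLocalRing A] [Algebra R A] [IsLocalHom (algebraMap R A)] [Algebra.IsIntegral R A]
    [IsPurelyInseparable (IsLocalRing.ResidueField R) (IsLocalRing.ResidueField A)]
    [CommRing B] [IsLocalRing B] [Algebra R B] [IsLocalHom (algebraMap R B)] :
    ∃ _ : IsLocalRing (A ⊗[R] B),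
      IsLocalHom (Algebra.TensorProduct.includeRight : B →ₐ[R] A ⊗[R] B).toRingHom ∧
      ∀ x : A ⊗[R] B, ∃ (n : ℕ) (b : B),
        x ^ (ringExpChar (IsLocalRing.ResidueField B)) ^ n - (1 : A) ⊗ₜ[R] b ∈ IsLocalRing.maximalIdeal (A ⊗[R] B) := by
  exact H13198.main R A B

end Groth.Agent.S13198
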