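import Groth.Statements.S13200
import Groth.Agent.S2811
import Groth.Agent.S4754
import Groth.Agent.S0505
import Groth.Agent.Lib.Helper14.IadicFibresReg
import Groth.Agent.Lib.Helper26.RegularNormal
import Groth.Agent.Lib.Helper14.ComplQuot
open Groth.Agent.Lib.Helper27 TensorProduct

set_option autoImplicit false
universe u
open Hensel

namespace Groth.Agent.S13200

open IsLocalRing
set_option linter.style.haveILetI false
set_option linter.unusedSectionVars false

theorem isNormalRing_of_isRegularRing (T : Type u) [CommRing T] [IsRegularRing T] :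
    EGA4.IsNormalRing T := by
  intro q hq
  haveI : IsRegularLocalRing (Localization.AtPrime q) :=
    IsRegularRing.isRegularLocalRing_localization q
  exact ⟨Groth.Agent.Lib.Helper9.RegLocal.isDomain_of_isRegularLocalRing _,
    Groth.Agent.Lib.Helper26.RegularNormal.isIntegrallyClosed_of_isRegularLocalRing _⟩

theorem hasGeomNormalFormalFibres_of_isGRing (R : Type u) [CommRing R] [IsLocalRing R]
    (hG : CAlg.IsGRing R) : EGA4.HasGeomNormalFormalFibres R := by
  have hreg := Groth.Agent.Lib.Helper14.IadicFibresReg.isRegularHom_adicCompletion R hG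
    (maximalIdeal R)
  intro p hp k' _ _ hfin
  haveI := (hreg.2 p).2 k' hfin
  exact isNormalRing_of_isRegularRing _

section
variable (R : Type u) [CommRing R] [HenselianLocalRing R] (hR : EGA4.IsExcellent R) (Δ : R)

include hR in
theorem main13200 :
    Prime Δ ↔ Prime (algebraMap R (AdicCompletion (IsLocalRing.maximalIdeal R) R) Δ) := by
  haveI : IsNoetherianRing R := hR.1
  have hA := hasGeomNormalFormalFibres_of_isGRing R hR.2.2.1
  set Rhat := AdicCompletion (maximalIdeal R) R with hRhat
  haveI : Module.FaithfullyFlat R Rhat := Module.FaithfullyFlat.of_flat_of_isLocalHom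
  have hinj : Function.Injective (algebraMap R Rhat) := FaithfulSMul.algebraMap_injective R Rhat
  constructor
  · intro hΔ
    have h0 : algebraMap R Rhat Δ ≠ 0 := fun h => hΔ.ne_zero (hinj (h.trans (map_zero _).symm))
    rw [← Ideal.span_singleton_prime h0]
    haveI hp : (Ideal.span {Δ}).IsPrime := (Ideal.span_singleton_prime hΔ.ne_zero).mpr hΔ
    haveI : Nontrivial (R ⧸ Ideal.span {Δ}) := Ideal.Quotient.nontrivial_iff.mpr hp.ne_top
    haveI : HenselianLocalRing (R ⧸ Ideal.span {Δ}) := Groth.Agent.S0505.result R _
    have hA0 := Groth.Agent.S4754.result R hA (Ideal.span {Δ})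
    haveI hd0 : IsDomain (EGA4.Cpl (R ⧸ Ideal.span {Δ})) := Groth.Agent.S2811.result _ hA0
    have hker := Groth.Agent.Lib.Helper14.ComplQuot.ker_cplMap R (Ideal.span {Δ})
    have hk2 : (RingHom.ker (Groth.Agent.Lib.Helper14.ComplFlat.cplMap R
        (R ⧸ Ideal.span {Δ}))).IsPrime := RingHom.ker_isPrime _
    rw [hker, Ideal.map_span, Set.image_singleton] at hk2
    exact hk2
  · intro hΔ
    have h0 : Δ ≠ 0 := fun h => hΔ.ne_zero (by rw [h, map_zero])
    refine ⟨h0, fun hu => hΔ.not_isUnit (hu.map _), fun a b hab => ?_⟩
    have hab' : algebraMap R Rhat Δ ∣ algebraMap R Rhat a * algebraMap R Rhat b := by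
      rw [← map_mul]
      exact map_dvd _ hab
    have key : ∀ c : R, algebraMap R Rhat Δ ∣ algebraMap R Rhat c → Δ ∣ c := by
      intro c hc
      have h1 : algebraMap R Rhat c ∈ (Ideal.span {Δ}).map (algebraMap R Rhat) := by
        rw [Ideal.map_span, Set.image_singleton]
        exact Ideal.mem_span_singleton.mpr hc
      have h2 : c ∈ ((Ideal.span {Δ}).map (algebraMap R Rhat)).comap (algebraMap R Rhat) := h1
      rw [Ideal.comap_map_eq_self_of_faithfullyFlat] at h2
      exact Ideal.mem_span_singleton.mp h2
    rcases hΔ.dvd_or_dvd hab' with h | h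
    · exact Or.inl (key a h)
    · exact Or.inr (key b h)


end

/-- Let R be an excellent local ring which is strictly henselian (henselian with separably closed
residue field), and let R^ denote its completion at the maximal ideal. An element Δ of R is a prime
element of R exactly when its image in R^ is a prime element of R^. -/
theorem result
    (R : Type u) [CommRing R] [HenselianLocalRing R] [IsSepClosed (IsLocalRing.ResidueField R)]
    (hR : EGA4.IsExcellent R) (Δ : R) :
    Prime Δ ↔ Prime (algebraMap R (AdicCompletion (IsLocalRing.maximalIdeal R) R) Δ) := by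
  exact main13200 R hR Δ

end Groth.Agent.S13200
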