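import Groth.Statements.S13202
import Mathlib
import Groth.Agent.Lib.Helper8.SmoothBranchesPrime

set_option autoImplicit false
universe u
open Hensel

namespace Groth.Agent.S13202

/-- Let R be a Noetherian regular ring (every localization at a prime ideal is a regular local ring) and
Δ ∈ R. The element Δ is étale-universally prime — meaning that for every prime ideal p of R
containing Δ and every strict henselization T of R_p, the image of Δ in T is a prime element —
exactly when for every smooth R-algebra R', every prime ideal q of R' and every strict henselization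
T of R'_q, the image of Δ in T is either invertible or a prime element. (Smooth R-algebras and their
strict henselizations are taken in the universe of R.) -/
theorem result
    (R : Type u) [CommRing R] [IsNoetherianRing R]
    (hreg : ∀ (p : Ideal R) [p.IsPrime], IsRegularLocalRing (Localization.AtPrime p)) (Δ : R) :
    (∀ (p : Ideal R) [p.IsPrime], Δ ∈ p →
        ∀ (T : Type u) [CommRing T] [IsLocalRing T] [Algebra (Localization.AtPrime p) T]
          [IsLocalHom (algebraMap (Localization.AtPrime p) T)]
          [Hensel.IsStrictHenselization (Localization.AtPrime p) T],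
          Prime (algebraMap (Localization.AtPrime p) T (algebraMap R (Localization.AtPrime p) Δ))) ↔
    (∀ (R' : Type u) [CommRing R'] [Algebra R R'] [Algebra.Smooth R R'] (q : Ideal R') [q.IsPrime]
        (T : Type u) [CommRing T] [IsLocalRing T] [Algebra (Localization.AtPrime q) T]
          [IsLocalHom (algebraMap (Localization.AtPrime q) T)]
          [Hensel.IsStrictHenselization (Localization.AtPrime q) T],
        IsUnit (algebraMap (Localization.AtPrime q) T (algebraMap R' (Localization.AtPrime q) (algebraMap R R' Δ))) ∨
          Prime (algebraMap (Localization.AtPrime q) T (algebraMap R' (Localization.AtPrime q) (algebraMap R R' Δ)))) := by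
  constructor
  · intro h R' _ _ _ q _ T _ _ _ _ _
    by_cases hΔ : algebraMap R R' Δ ∈ q
    · right
      obtain ⟨p, hpdef⟩ : ∃ p : Ideal R, p = q.comap (algebraMap R R') := ⟨_, rfl⟩
      haveI hpp : p.IsPrime := hpdef ▸ Ideal.comap_isPrime _ _
      haveI hlo : q.LiesOver p := ⟨hpdef⟩
      have hΔp : Δ ∈ p := by rw [hpdef]; exact hΔ
      haveI hRh := Groth.Agent.Lib.Helper8.Hzl.isStrictHenselization (Localization.AtPrime p)
      have hx := h p hΔp (Groth.Agent.Lib.Helper8.Hzl.SHens (Localization.AtPrime p))
      obtain ⟨g, hg⟩ := Groth.Agent.Lib.Helper8.SmoothBranchesPrime.exists_compat R R' p q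
        (Groth.Agent.Lib.Helper8.Hzl.SHens (Localization.AtPrime p)) T
      have h1 := Groth.Agent.Lib.Helper8.SmoothBranchesPrime.prime_map_of_prime R R' p q
        (Groth.Agent.Lib.Helper8.Hzl.SHens (Localization.AtPrime p)) T g hg _ hx
      have h2 := RingHom.congr_fun hg (algebraMap R (Localization.AtPrime p) Δ)
      rw [RingHom.comp_apply, RingHom.comp_apply, Localization.localRingHom_to_map] at h2
      rw [← h2]
      exact h1
    · left
      exact (IsLocalization.map_units (Localization.AtPrime q) (⟨algebraMap R R' Δ, hΔ⟩ : q.primeCompl)).map _
  · intro h p _ hΔp T _ _ _ _ _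
    haveI : Algebra.Smooth R R := ⟨inferInstance, inferInstance⟩
    rcases h R p T with hu | hp
    · exfalso
      have h1 : algebraMap R (Localization.AtPrime p) Δ ∈ IsLocalRing.maximalIdeal (Localization.AtPrime p) :=
        (IsLocalization.AtPrime.to_map_mem_maximal_iff (Localization.AtPrime p) p Δ).mpr hΔp
      exact (map_nonunit (algebraMap (Localization.AtPrime p) T) _ h1) hu
    · exact hp


end Groth.Agent.S13202
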