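import Groth.Statements.S13204
import Mathlib
import Groth.Agent.Lib.Helper7.KADvr2

set_option autoImplicit false
universe u
open Neron

namespace Groth.Agent.S13204


namespace H13204
open Polynomial IsLocalRing

theorem main (R : Type u) [CommRing R] [IsDomain R] [IsNoetherianRing R]
    [UniqueFactorizationMonoid R] [IsLocalRing R]
    (Δ₁ Δ₂ : R) (h₁ : ¬ IsUnit Δ₁) (h₂ : ¬ IsUnit Δ₂) (hcop : IsRelPrime Δ₁ Δ₂) :
    ∃ (A : Type u) (_ : CommRing A) (_ : IsDomain A) (_ : IsDiscreteValuationRing A) (f : R →+* A),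
      IsLocalHom f ∧ Function.Injective f ∧ ¬ IsUnit (f Δ₁) ∧
        ∃ u : Aˣ, (u : A) - 1 ∈ IsLocalRing.maximalIdeal A ∧ f Δ₁ = (u : A) * f Δ₂ := by
  classical
  have hΔ₂0 : Δ₂ ≠ 0 := by
    rintro rfl
    exact h₁ (hcop (dvd_refl _) (dvd_zero _))
  have hΔ₁0 : Δ₁ ≠ 0 := by
    rintro rfl
    exact h₂ (hcop (dvd_zero _) (dvd_refl _))
  have hm₁ : residue R Δ₁ = 0 :=
    (residue_eq_zero_iff _).mpr ((mem_maximalIdeal _).mpr (mem_nonunits_iff.mpr h₁))
  have hm₂ : residue R Δ₂ = 0 :=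
    (residue_eq_zero_iff _).mpr ((mem_maximalIdeal _).mpr (mem_nonunits_iff.mpr h₂))
  obtain ⟨g, hg⟩ : ∃ g : R[X], g = C Δ₂ * X + C (-Δ₁) := ⟨_, rfl⟩
  have hirr : Irreducible g := by
    rw [hg]
    exact irreducible_C_mul_X_add_C hΔ₂0 hcop.symm.neg_right
  have hprime : Prime g := UniqueFactorizationMonoid.irreducible_iff_prime.mp hirr
  have hgdeg : g.natDegree = 1 := by
    rw [hg]
    exact natDegree_linear hΔ₂0
  obtain ⟨J, hJ⟩ : ∃ J : Ideal R[X], J = Ideal.span {g} := ⟨_, rfl⟩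
  haveI hJp : J.IsPrime := by
    rw [hJ]
    exact (Ideal.span_singleton_prime hprime.ne_zero).mpr hprime
  have hgJ : g ∈ J := by
    rw [hJ]
    exact Ideal.mem_span_singleton_self g
  have hJdvd : ∀ a ∈ J, g ∣ a := fun a ha => by
    rw [hJ] at ha
    exact Ideal.mem_span_singleton.mp ha
  obtain ⟨φ, hφ⟩ : ∃ φ : R →+* R[X] ⧸ J, φ = (Ideal.Quotient.mk J).comp C := ⟨_, rfl⟩
  have hφinj : Function.Injective φ := by
    rw [injective_iff_map_eq_zero]
    intro a ha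
    rw [hφ, RingHom.comp_apply, Ideal.Quotient.eq_zero_iff_mem] at ha
    obtain ⟨q, hq⟩ := hJdvd _ ha
    by_contra ha0
    have hq0 : q ≠ 0 := by
      rintro rfl
      rw [mul_zero] at hq
      exact ha0 (C_eq_zero.mp hq)
    have h3 := congrArg natDegree hq
    rw [natDegree_C, natDegree_mul hprime.ne_zero hq0, hgdeg] at h3
    omega
  obtain ⟨T, hT⟩ : ∃ T : R[X] ⧸ J, T = Ideal.Quotient.mk J X := ⟨_, rfl⟩
  have hrel : φ Δ₂ * T = φ Δ₁ := by
    have h0 : Ideal.Quotient.mk J g = 0 := Ideal.Quotient.eq_zero_iff_mem.mpr hgJ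
    have h1 : Ideal.Quotient.mk J g = φ Δ₂ * T - φ Δ₁ := by
      rw [hg, hφ, hT]
      simp only [map_add, map_mul, map_neg, RingHom.comp_apply, sub_eq_add_neg]
    rw [h1] at h0
    exact sub_eq_zero.mp h0
  obtain ⟨ψ₀, hψ₀⟩ : ∃ ψ₀ : R[X] →+* ResidueField R, ψ₀ = eval₂RingHom (residue R) 1 :=
    ⟨_, rfl⟩
  have hψ₀C : ∀ a : R, ψ₀ (C a) = residue R a := fun a => by
    rw [hψ₀, coe_eval₂RingHom, eval₂_C]
  have hψ₀X : ψ₀ X = 1 := by
    rw [hψ₀, coe_eval₂RingHom, eval₂_X]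
  have hψ₀g : ψ₀ g = 0 := by
    rw [hg, map_add, map_mul, hψ₀C, hψ₀C, hψ₀X, map_neg, hm₁, hm₂]
    simp
  obtain ⟨ψ, hψ⟩ : ∃ ψ : (R[X] ⧸ J) →+* ResidueField R,
      ∀ a : R[X], ψ (Ideal.Quotient.mk J a) = ψ₀ a := by
    refine ⟨Ideal.Quotient.lift J ψ₀ (fun a ha => ?_), fun a => Ideal.Quotient.lift_mk J ψ₀ _⟩
    obtain ⟨q, rfl⟩ := hJdvd a ha
    rw [map_mul, hψ₀g, zero_mul]
  have hψφ : ∀ a : R, ψ (φ a) = residue R a := fun a => by
    rw [hφ, RingHom.comp_apply, hψ, hψ₀C]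
  have hψT : ψ T = 1 := by rw [hT, hψ, hψ₀X]
  obtain ⟨𝔫, h𝔫⟩ : ∃ 𝔫 : Ideal (R[X] ⧸ J), 𝔫 = RingHom.ker ψ := ⟨_, rfl⟩
  haveI h𝔫p : 𝔫.IsPrime := by
    rw [h𝔫]
    exact RingHom.ker_isPrime ψ
  have hmem𝔫 : ∀ a : R, ¬ IsUnit a → φ a ∈ 𝔫 := fun a ha => by
    rw [h𝔫, RingHom.mem_ker, hψφ]
    exact (residue_eq_zero_iff _).mpr ((mem_maximalIdeal _).mpr (mem_nonunits_iff.mpr ha))
  have hT𝔫 : T - 1 ∈ 𝔫 := by
    rw [h𝔫, RingHom.mem_ker, map_sub, hψT, map_one, sub_self]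
  have h𝔫ne : 𝔫 ≠ ⊥ := by
    intro h
    have h3 : φ Δ₁ ∈ 𝔫 := hmem𝔫 Δ₁ h₁
    rw [h, Ideal.mem_bot] at h3
    exact hΔ₁0 (hφinj (by rw [h3, map_zero]))
  have hfg : ∃ S : Finset (FractionRing (R[X] ⧸ J)),
      Subfield.closure (Set.range (algebraMap (R[X] ⧸ J) (FractionRing (R[X] ⧸ J))) ∪
        (S : Set (FractionRing (R[X] ⧸ J)))) = ⊤ := by
    refine ⟨∅, ?_⟩
    rw [eq_top_iff]
    intro z _
    obtain ⟨a, b, _, rfl⟩ := IsFractionRing.div_surjective (A := R[X] ⧸ J) z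
    exact div_mem (Subfield.subset_closure (Or.inl ⟨a, rfl⟩))
      (Subfield.subset_closure (Or.inl ⟨b, rfl⟩))
  obtain ⟨V, hdvr, hV, hlt⟩ := Groth.Agent.Lib.Helper7.exists_dvr_dominating' (R[X] ⧸ J)
    (FractionRing (R[X] ⧸ J)) (IsFractionRing.injective _ _) hfg 𝔫 h𝔫ne
  have hmemV : ∀ b : R[X] ⧸ J, b ∈ 𝔫 →
      (⟨algebraMap _ _ b, hV b⟩ : V) ∈ maximalIdeal V :=
    fun b hb => (V.valuation_lt_one_iff _).mpr (hlt b hb)
  obtain ⟨f, hf⟩ : ∃ f : R →+* V,
      ∀ a, (f a : FractionRing (R[X] ⧸ J)) = algebraMap _ _ (φ a) :=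
    ⟨((algebraMap (R[X] ⧸ J) (FractionRing (R[X] ⧸ J))).comp φ).codRestrict V.toSubring
      (fun r => hV (φ r)), fun a => rfl⟩
  have hfmem : ∀ a : R, ¬ IsUnit a → f a ∈ maximalIdeal V := fun a ha => by
    have h3 := hmemV (φ a) (hmem𝔫 a ha)
    have h4 : f a = ⟨algebraMap _ _ (φ a), hV (φ a)⟩ := Subtype.ext (hf a)
    rw [h4]
    exact h3
  refine ⟨V, inferInstance, inferInstance, hdvr, f, ⟨fun a ha => ?_⟩, ?_, ?_, ?_⟩
  · by_contra hna
    exact mem_nonunits_iff.mp ((mem_maximalIdeal _).mp (hfmem a hna)) ha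
  · intro a b hab
    apply hφinj
    apply IsFractionRing.injective (R[X] ⧸ J) (FractionRing (R[X] ⧸ J))
    rw [← hf a, ← hf b, hab]
  · exact mem_nonunits_iff.mp ((mem_maximalIdeal _).mp (hfmem Δ₁ h₁))
  · obtain ⟨t, ht⟩ : ∃ t : V, (t : FractionRing (R[X] ⧸ J)) = algebraMap _ _ T :=
      ⟨⟨_, hV T⟩, rfl⟩
    have ht1 : t - 1 ∈ maximalIdeal V := by
      have h3 := hmemV (T - 1) hT𝔫
      have h4 : t - 1 = ⟨algebraMap _ _ (T - 1), hV (T - 1)⟩ := by
        apply Subtype.ext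
        show ((t - 1 : V) : FractionRing (R[X] ⧸ J)) = algebraMap _ _ (T - 1)
        rw [AddSubgroupClass.coe_sub, OneMemClass.coe_one, ht, map_sub, map_one]
      rw [h4]
      exact h3
    have htu : IsUnit t := by
      by_contra htn
      have h5 : t ∈ maximalIdeal V := (mem_maximalIdeal _).mpr (mem_nonunits_iff.mpr htn)
      have h6 : (1 : V) ∈ maximalIdeal V := by
        have h7 := Ideal.sub_mem _ h5 ht1
        rwa [sub_sub_cancel] at h7
      exact (Ideal.ne_top_iff_one _).mp (maximalIdeal.isMaximal V).ne_top h6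
    refine ⟨htu.unit, by rw [IsUnit.unit_spec]; exact ht1, ?_⟩
    rw [IsUnit.unit_spec]
    apply Subtype.ext
    show ((f Δ₁ : V) : FractionRing (R[X] ⧸ J)) = ((t * f Δ₂ : V) : FractionRing (R[X] ⧸ J))
    rw [MulMemClass.coe_mul, hf, hf, ht, ← hrel, map_mul, mul_comm]

end H13204

/-- Let R be a strictly henselian Noetherian local unique factorization domain and Δ₁, Δ₂ two non-units
of R with no common prime factor. Then there are a discrete valuation ring A and an injective local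
homomorphism f : R → A — so that Spec A → Spec R sends the closed point to the closed point and the
generic point to the generic point, which lies in every dense open subset — such that f(Δ₁) is a
non-zero non-unit and f(Δ₁) = u · f(Δ₂) for some unit u of A congruent to 1 modulo the maximal
ideal. (The published statement asks for the images of Δ₁ and Δ₂ in A to be equal, with the generic
point of Spec A sent into a given dense open subset of Spec R; that cannot hold in general — for R =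
ℂ[[a,b]], Δ₁ = a, Δ₂ = b and the dense open D(a − b), any local map to a discrete valuation ring
identifying a and b sends the generic point into V(a − b) — so this row asks instead for f(Δ₁) = u ·
f(Δ₂) with u a unit congruent to 1 modulo the maximal ideal.) -/
theorem result
    (R : Type u) [CommRing R] [IsDomain R] [IsNoetherianRing R] [UniqueFactorizationMonoid R]
    [HenselianLocalRing R] [IsSepClosed (IsLocalRing.ResidueField R)]
    (Δ₁ Δ₂ : R) (h₁ : ¬ IsUnit Δ₁) (h₂ : ¬ IsUnit Δ₂) (hcop : IsRelPrime Δ₁ Δ₂) :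
    ∃ (A : Type u) (_ : CommRing A) (_ : IsDomain A) (_ : IsDiscreteValuationRing A) (f : R →+* A),
      IsLocalHom f ∧ Function.Injective f ∧ ¬ IsUnit (f Δ₁) ∧
        ∃ u : Aˣ, (u : A) - 1 ∈ IsLocalRing.maximalIdeal A ∧ f Δ₁ = (u : A) * f Δ₂ := by
  exact H13204.main R Δ₁ Δ₂ h₁ h₂ hcop

end Groth.Agent.S13204
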