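import Groth.Statements.S13206
-- import your own Groth.Agent.* helpers here
import Mathlib

set_option autoImplicit false
universe u
open CategoryTheory AlgebraicGeometry
open AlgGrp

namespace Groth.Agent.S13206

/-- Let X → S be a separated morphism of schemes and let a finite group G act on X through
S-automorphisms. Then the functor of G-fixed points is represented by a closed subscheme of X: there
are a scheme Z and a closed immersion i : Z → X with i ∘ g = i for all g ∈ G such that every
morphism x : T → X with g ∘ x = x for all g ∈ G factors uniquely through i. (The published statement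
is for an algebraic space X over S, also treats the locally separated case and notes compatibility
with base change; this row is the separated case for schemes.) -/
theorem result
    {X S : Scheme.{u}} (p : X ⟶ S) [IsSeparated p]
    (G : Type u) [Group G] [Finite G] (ρ : G →* Aut X) (hρ : ∀ g : G, (ρ g).hom ≫ p = p) :
    ∃ (Z : Scheme.{u}) (i : Z ⟶ X), IsClosedImmersion i ∧ (∀ g : G, i ≫ (ρ g).hom = i) ∧
      ∀ (T : Scheme.{u}) (x : T ⟶ X), (∀ g : G, x ≫ (ρ g).hom = x) → ∃! z : T ⟶ Z, z ≫ i = x := by
  classical
  -- equalizers in `Over S`
  let XS : Over S := Over.mk p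
  let a : G → (XS ⟶ XS) := fun g => Over.homMk (ρ g).hom (hρ g)
  let E : G → Over S := fun g => Limits.equalizer (a g) (𝟙 XS)
  let ι : ∀ g : G, (E g).left ⟶ X := fun g => (Limits.equalizer.ι (a g) (𝟙 XS)).left
  haveI : IsSeparated XS.hom := ‹IsSeparated p›
  haveI hι : ∀ g : G, IsClosedImmersion (ι g) := fun g =>
    isClosedImmersion_equalizer_ι_left (a g) (𝟙 XS)
  have hcond : ∀ g : G, ι g ≫ (ρ g).hom = ι g := by
    intro g
    have := congrArg CommaMorphism.left (Limits.equalizer.condition (a g) (𝟙 XS))
    simpa [a, ι] using this
  let I : X.IdealSheafData := ⨆ g : G, (ι g).ker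
  have hker : I.subschemeι.ker = I := Scheme.IdealSheafData.ker_subschemeι I
  -- factorisation through each Limits.equalizer
  have hfac : ∀ (T : Scheme.{u}) (x : T ⟶ X), (∀ g : G, (ι g).ker ≤ x.ker) →
      ∀ g : G, x ≫ (ρ g).hom = x := by
    intro T x hx g
    have h1 := IsClosedImmersion.lift_fac (ι g) x (hx g)
    rw [← h1, Category.assoc, hcond g]
  refine ⟨I.subscheme, I.subschemeι, inferInstance, ?_, ?_⟩
  · intro g
    apply hfac
    intro g'
    rw [hker]
    exact le_iSup (fun g : G => (ι g).ker) g'
  · intro T x hx
    have hle : I.subschemeι.ker ≤ x.ker := by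
      rw [hker]
      refine iSup_le fun g => ?_
      -- x factors through the Limits.equalizer E g
      let TS : Over S := Over.mk (x ≫ p)
      let xm : TS ⟶ XS := Over.homMk x rfl
      have hxm : xm ≫ a g = xm ≫ 𝟙 XS := by
        ext
        simpa [xm, a] using hx g
      let l : TS ⟶ E g := Limits.equalizer.lift xm hxm
      have hl : l.left ≫ ι g = x := by
        have := congrArg CommaMorphism.left (Limits.equalizer.lift_ι xm hxm)
        exact this
      rw [← hl]
      exact Scheme.Hom.le_ker_comp _ _
    refine ⟨IsClosedImmersion.lift I.subschemeι x hle, IsClosedImmersion.lift_fac _ _ _, ?_⟩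
    intro z hz
    haveI : Mono I.subschemeι := inferInstance
    rw [← cancel_mono I.subschemeι, hz, IsClosedImmersion.lift_fac]

end Groth.Agent.S13206
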