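import Groth.Statements.S13209
import Groth.Agent.Lib.Helper16.DimZero
import Groth.Agent.Lib.Helper16.MonoDescent
open Groth.Agent.Lib.Helper16 AlgSp

set_option autoImplicit false
universe u
open CategoryTheory CategoryTheory.Limits AlgebraicGeometry
open Neron

namespace Groth.Agent.S13209

/-- Let S be a scheme, U ⊆ S a schematically dense open subscheme and N → S a smooth S-scheme with the
Néron mapping property for schemes with respect to U: for every smooth S-scheme Y, composition with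
the projection Y ×_S U → Y is a bijection from S-morphisms Y → N onto S-morphisms Y ×_S U → N
(equivalently, onto U-morphisms Y ×_S U → N ×_S U). Then N also has the Néron mapping property with
respect to smooth algebraic spaces: for every algebraic space F over S (an fppf sheaf of sets on
S-schemes with representable diagonal and an étale surjective chart from a scheme) whose structure
map to h_S is smooth, composition with the first projection F × h_U → F is a bijection from
morphisms of sheaves F → h_N onto morphisms F × h_U → h_N. -/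
theorem result
    {S : Scheme.{u}} (U : S.Opens) (hU : CInt.IsSchematicallyDense U) (N : Over S) [Smooth N.hom]
    (hN : ∀ Y : Over S, Smooth Y.hom →
      Function.Bijective (fun g : Y ⟶ N => (Over.mapPullbackAdj U.ι).counit.app Y ≫ g))
    (F : AlgSp.Sp S) (hF : AlgSp.IsAlgSpace F)
    (sF : F ⟶ (AlgSp.yon S).obj (Over.mk (𝟙 S))) (hsm : AlgSp.LocP @Smooth sF) :
    Function.Bijective (fun φ : F ⟶ (AlgSp.yon S).obj N =>
      (Limits.prod.fst : F ⨯ (AlgSp.yon S).obj (Over.mk U.ι) ⟶ F) ≫ φ) := by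

  obtain ⟨W, a, hae, has⟩ := hF.atlas
  obtain ⟨R, pr₂, ρ₀, sqR⟩ := hae.rep a
  obtain ⟨pr₁, rfl⟩ := (yon S).map_surjective ρ₀
  have hpr₂e : Etale pr₂.left := hae.property _ _ _ sqR
  have hWsm : Smooth W.hom := DimZero.prop_of_locP_terminal sF hsm a hae
  have hRsm : Smooth R.hom := DimZero.prop_of_locP_terminal sF hsm ((yon S).map pr₂ ≫ a)
    ((RepWith @Etale).comp_mem _ _ ((repWith_yon_map_iff _ _).2 hpr₂e) hae)
  haveI : Epi a := epi_of_etale_surjective a hae has
  haveI : IsRegularEpi a := IsRegularEpiCategory.regularEpiOfEpi a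
  obtain ⟨ε, hε⟩ : ∃ ε : ∀ Y : Over S, (Over.map U.ι).obj ((Over.pullback U.ι).obj Y) ⟶ Y,
      ∀ Y, ε Y = (Over.mapPullbackAdj U.ι).counit.app Y :=
    ⟨fun Y => (Over.mapPullbackAdj U.ι).counit.app Y, fun _ => rfl⟩
  obtain ⟨j, hj⟩ : ∃ j : ∀ Y : Over S, (Over.map U.ι).obj ((Over.pullback U.ι).obj Y) ⟶ Over.mk U.ι,
      ∀ Y, (j Y).left = pullback.snd Y.hom U.ι :=
    ⟨fun Y => Over.homMk (pullback.snd Y.hom U.ι) rfl, fun _ => rfl⟩
  have hεl : ∀ Y, (ε Y).left = pullback.fst Y.hom U.ι := fun Y => by rw [hε]; rfl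
  have hεnat : ∀ {Y Y' : Over S} (m : Y ⟶ Y'),
      (Over.map U.ι).map ((Over.pullback U.ι).map m) ≫ ε Y' = ε Y ≫ m := by
    intro Y Y' m
    rw [hε, hε]
    exact (Over.mapPullbackAdj U.ι).counit.naturality m
  have hjnat : ∀ {Y Y' : Over S} (m : Y ⟶ Y'),
      (Over.map U.ι).map ((Over.pullback U.ι).map m) ≫ j Y' = j Y := by
    intro Y Y' m
    ext1
    rw [Over.comp_left, hj, hj]
    exact Over.w ((Over.pullback U.ι).map m)
  have hN' : ∀ Y : Over S, Smooth Y.hom → Function.Bijective (fun g : Y ⟶ N => ε Y ≫ g) := by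
    intro Y hY
    have h := hN Y hY
    rw [← hε] at h
    exact h
  obtain ⟨cc, hcc1, hcc2⟩ : ∃ cc : ∀ (Y : Over S) (_ : (yon S).obj Y ⟶ F),
      (yon S).obj ((Over.map U.ι).obj ((Over.pullback U.ι).obj Y)) ⟶ F ⨯ (yon S).obj (Over.mk U.ι),
      (∀ Y y, cc Y y ≫ prod.fst = (yon S).map (ε Y) ≫ y) ∧
        (∀ Y y, cc Y y ≫ prod.snd = (yon S).map (j Y)) :=
    ⟨fun Y y => prod.lift ((yon S).map (ε Y) ≫ y) ((yon S).map (j Y)), fun _ _ => prod.lift_fst _ _,
      fun _ _ => prod.lift_snd _ _⟩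
  -- the product square in `Over S`
  have sqO : IsPullback (ε W) (j W) (Over.mkIdTerminal.from W) (Over.mkIdTerminal.from (Over.mk U.ι)) := by
    refine isPullback_of_exists_lift (Over.mkIdTerminal.hom_ext _ _) ?_ ?_
    · intro Q a' b' _
      have hw : a'.left ≫ W.hom = b'.left ≫ U.ι := by
        rw [Over.w a']
        exact (Over.w b').symm
      refine ⟨Over.homMk (pullback.lift a'.left b'.left hw) ?_, ?_, ?_⟩
      · show pullback.lift a'.left b'.left hw ≫ pullback.snd W.hom U.ι ≫ U.ι = Q.hom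
        rw [← Category.assoc, pullback.lift_snd]
        exact Over.w b'
      · ext1
        rw [Over.comp_left, hεl]
        exact pullback.lift_fst _ _ _
      · ext1
        rw [Over.comp_left, hj]
        exact pullback.lift_snd _ _ _
    · intro Q l l' h1 h2
      ext1
      have h1' : (l ≫ ε W).left = (l' ≫ ε W).left := congrArg CommaMorphism.left h1
      have h2' : (l ≫ j W).left = (l' ≫ j W).left := congrArg CommaMorphism.left h2
      rw [Over.comp_left, Over.comp_left, hεl] at h1'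
      rw [Over.comp_left, Over.comp_left, hj] at h2'
      exact pullback.hom_ext h1' h2'
  have sqY := sqO.map (yon S)
  have sqc : IsPullback (cc W a) ((yon S).map (ε W)) prod.fst a := by
    refine isPullback_of_exists_lift (hcc1 W a) ?_ ?_
    · intro Q α β hαβ
      refine ⟨sqY.lift β (α ≫ prod.snd) (DimZero.hom_yon_terminal_ext _ _), ?_, sqY.lift_fst _ _ _⟩
      apply Limits.prod.hom_ext
      · rw [Category.assoc, hcc1, ← Category.assoc, sqY.lift_fst, hαβ]
      · rw [Category.assoc, hcc2, sqY.lift_snd]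
    · intro Q l l' h1 h2
      apply sqY.hom_ext h2
      have := congrArg (· ≫ prod.snd) h1
      simpa only [Category.assoc, hcc2] using this
  have hcce : RepWith @Etale (cc W a) := MorphismProperty.of_isPullback (P := RepWith @Etale) sqc.flip hae
  have hccs : RepWith @Surjective (cc W a) :=
    MorphismProperty.of_isPullback (P := RepWith @Surjective) sqc.flip has
  haveI : Epi (cc W a) := epi_of_etale_surjective _ hcce hccs
  constructor
  · intro φ₁ φ₂ h
    have h' : (prod.fst : F ⨯ (yon S).obj (Over.mk U.ι) ⟶ F) ≫ φ₁ = prod.fst ≫ φ₂ := h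
    obtain ⟨g₁, hg₁⟩ := (yon S).map_surjective (a ≫ φ₁)
    obtain ⟨g₂, hg₂⟩ := (yon S).map_surjective (a ≫ φ₂)
    have e1 : ε W ≫ g₁ = ε W ≫ g₂ := by
      apply (yon S).map_injective
      rw [Functor.map_comp, Functor.map_comp, hg₁, hg₂]
      calc (yon S).map (ε W) ≫ a ≫ φ₁ = (cc W a ≫ prod.fst) ≫ φ₁ := by rw [hcc1, Category.assoc]
        _ = cc W a ≫ prod.fst ≫ φ₁ := Category.assoc _ _ _
        _ = cc W a ≫ prod.fst ≫ φ₂ := by rw [h']
        _ = (yon S).map (ε W) ≫ a ≫ φ₂ := by rw [← Category.assoc, hcc1, Category.assoc]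
    have e2 : g₁ = g₂ := (hN' W hWsm).1 e1
    rw [← cancel_epi a, ← hg₁, ← hg₂, e2]
  · intro χ
    obtain ⟨γ, hγ⟩ := (yon S).map_surjective (cc W a ≫ χ)
    obtain ⟨g, hg⟩ := (hN' W hWsm).2 γ
    have hg' : ε W ≫ g = γ := hg
    have hcond : pr₁ ≫ g = pr₂ ≫ g := by
      apply (hN' R hRsm).1
      show ε R ≫ pr₁ ≫ g = ε R ≫ pr₂ ≫ g
      rw [← Category.assoc, ← hεnat pr₁, ← Category.assoc (ε R), ← hεnat pr₂, Category.assoc, Category.assoc,
        hg']
      apply (yon S).map_injective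
      rw [Functor.map_comp, Functor.map_comp, hγ, ← Category.assoc, ← Category.assoc]
      congr 1
      apply Limits.prod.hom_ext
      · rw [Category.assoc, Category.assoc, hcc1, ← Category.assoc, ← Category.assoc, ← Functor.map_comp,
          ← Functor.map_comp, hεnat, hεnat, Functor.map_comp, Functor.map_comp, Category.assoc,
          Category.assoc, sqR.w]
      · rw [Category.assoc, Category.assoc, hcc2, ← Functor.map_comp, ← Functor.map_comp, hjnat, hjnat]
    have hdesc : ∀ {Z : Sp S} (g₁ g₂ : Z ⟶ (yon S).obj W), g₁ ≫ a = g₂ ≫ a →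
        g₁ ≫ (yon S).map g = g₂ ≫ (yon S).map g := by
      intro Z g₁ g₂ h12
      have e1 : sqR.lift g₁ g₂ h12 ≫ (yon S).map pr₁ = g₁ := sqR.lift_fst _ _ _
      have e2 : sqR.lift g₁ g₂ h12 ≫ (yon S).map pr₂ = g₂ := sqR.lift_snd _ _ _
      calc g₁ ≫ (yon S).map g = (sqR.lift g₁ g₂ h12 ≫ (yon S).map pr₁) ≫ (yon S).map g := by rw [e1]
        _ = sqR.lift g₁ g₂ h12 ≫ (yon S).map (pr₁ ≫ g) := by rw [Category.assoc, ← Functor.map_comp]
        _ = sqR.lift g₁ g₂ h12 ≫ (yon S).map (pr₂ ≫ g) := by rw [hcond]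
        _ = (sqR.lift g₁ g₂ h12 ≫ (yon S).map pr₂) ≫ (yon S).map g := by
            rw [Category.assoc, ← Functor.map_comp]
        _ = g₂ ≫ (yon S).map g := by rw [e2]
    obtain ⟨φ, hφ⟩ : ∃ φ : F ⟶ (yon S).obj N, a ≫ φ = (yon S).map g :=
      ⟨EffectiveEpi.desc a ((yon S).map g) hdesc, EffectiveEpi.fac a ((yon S).map g) hdesc⟩
    refine ⟨φ, ?_⟩
    show (prod.fst : F ⨯ (yon S).obj (Over.mk U.ι) ⟶ F) ≫ φ = χ
    rw [← cancel_epi (cc W a), ← Category.assoc, hcc1, Category.assoc, hφ, ← Functor.map_comp, hg', hγ]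

end Groth.Agent.S13209
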