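-- Statement S1323.
import Groth.Statements.S1323
import Mathlib
import Groth.Agent.Lib.Helper1.Deform5

set_option autoImplicit false
universe u
open FlatMor

namespace Groth.Agent.S1323

open AlgebraicGeometry CategoryTheory Limits in
/-- Let S ⟶ S' be a finite order thickening, let X' ⟶ Y' be a morphism of schemes over S' with X' flat
over S', and let X ⟶ Y be its base change to S. Then X ⟶ Y is finite locally free of rank d if and
only if X' ⟶ Y' is. -/
theorem result (d : ℕ) {X X' Y Y' S S' : Scheme.{u}} (iX : X ⟶ X') (iY : Y ⟶ Y') (iS : S ⟶ S')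
    (f : X ⟶ Y) (f' : X' ⟶ Y') (g : Y ⟶ S) (g' : Y' ⟶ S')
    (hS : MoreMor.IsFiniteOrderThickening iS) (hcX : IsPullback iX (f ≫ g) (f' ≫ g') iS) (hcY : IsPullback iY g g' iS)
    (w : iX ≫ f' = f ≫ iY) [Flat (f' ≫ g')] :
    Mor2.IsFinLocFreeOfDeg d f ↔ Mor2.IsFinLocFreeOfDeg d f' := by
  haveI := hS.1.1
  have hcXY : IsPullback iX f f' iY := IsPullback.of_bot hcX w hcY
  have hnil := Groth.Agent.Lib.Helper1.ThickSq.isNilpotent_ker_app_of_isNilpotent_ker iS hS.2
  have hY : MoreMor.IsThickening iY :=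
    ⟨MorphismProperty.of_isPullback hcY.flip hS.1.1,
      MorphismProperty.of_isPullback hcY.flip hS.1.2⟩
  constructor
  · rintro ⟨⟨h1, h2, h3⟩, h4⟩
    haveI : IsFinite f' := Groth.Agent.Lib.Helper1.Deform.isFinite_of_deform hS.1 hnil hcX hcY w
    haveI : Flat f' := Groth.Agent.Lib.Helper1.Deform.flat_of_deform hnil hcX hcY w
    haveI : LocallyOfFinitePresentation f' :=
      Groth.Agent.Lib.Helper1.Deform.locallyOfFinitePresentation_of_deform hnil hcX hcY w
    refine ⟨⟨inferInstance, inferInstance, inferInstance⟩, fun y' ↦ ?_⟩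
    haveI := hY.2
    obtain ⟨y, rfl⟩ := iY.surjective y'
    rw [← Scheme.Hom.finrank_of_isPullback iX f f' iY hcXY y]
    exact h4 y
  · rintro ⟨⟨h1, h2, h3⟩, h4⟩
    refine ⟨⟨MorphismProperty.of_isPullback hcXY h1, MorphismProperty.of_isPullback hcXY h2,
      MorphismProperty.of_isPullback hcXY h3⟩, fun y ↦ ?_⟩
    rw [Scheme.Hom.finrank_of_isPullback iX f f' iY hcXY y]
    exact h4 (iY y)

end Groth.Agent.S1323
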