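import Groth.Statements.S1846
import Mathlib.RingTheory.HopfAlgebra.Convolution
import Mathlib.RingTheory.Kaehler.Basic
import Mathlib.LinearAlgebra.TensorProduct.Basis

set_option autoImplicit false
universe u v
open GrpSch

namespace Groth.Agent.S1846

open TensorProduct Coalgebra HopfAlgebra

section
variable (K : Type u) [Field K] (B : Type v) [CommRing B] [HopfAlgebra K B]

/-- scalar action `B ⊗ Ω → Ω` as a `K`-linear map -/
noncomputable def act : B ⊗[K] Ω[B⁄K] →ₗ[K] Ω[B⁄K] :=
  TensorProduct.lift ((Algebra.lsmul K K Ω[B⁄K]).toLinearMap)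

@[simp] lemma act_tmul (b : B) (m : Ω[B⁄K]) : act K B (b ⊗ₜ m) = b • m := by
  simp [act]

/-- the differential as a linear map -/
noncomputable def d' : B →ₗ[K] Ω[B⁄K] := (KaehlerDifferential.D K B).toLinearMap

@[simp] lemma d'_apply (b : B) : d' K B b = KaehlerDifferential.D K B b := rfl

/-- `x ⊗ y ↦ S x • d y` -/
noncomputable def sd : B ⊗[K] B →ₗ[K] Ω[B⁄K] :=
  act K B ∘ₗ TensorProduct.map (antipode K) (d' K B)

@[simp] lemma sd_tmul (x y : B) :
    sd K B (x ⊗ₜ y) = antipode K x • KaehlerDifferential.D K B y := by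
  simp [sd]

/-- the "invariant differential" map `x ↦ Σ S x₁ d x₂`. -/
noncomputable def θ : B →ₗ[K] Ω[B⁄K] := sd K B ∘ₗ comul

lemma sd_mul (s t : B ⊗[K] B) :
    sd K B (s * t) =
      LinearMap.mul' K B ((antipode K).rTensor B s) • sd K B t +
      LinearMap.mul' K B ((antipode K).rTensor B t) • sd K B s := by
  induction s using TensorProduct.induction_on with
  | zero => simp
  | add s₁ s₂ h₁ h₂ =>
    simp only [add_mul, map_add, h₁, h₂, add_smul, smul_add]
    abel
  | tmul x y =>
    induction t using TensorProduct.induction_on with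
    | zero => simp
    | add t₁ t₂ h₁ h₂ =>
      simp only [mul_add, map_add, h₁, h₂, add_smul, smul_add]
      abel
    | tmul x' y' =>
      simp only [Algebra.TensorProduct.tmul_mul_tmul, sd_tmul, antipode_mul_distrib,
        Derivation.leibniz, LinearMap.rTensor_tmul, LinearMap.mul'_apply, smul_add, smul_smul]
      congr 1 <;> congr 1 <;> ring

lemma θ_mul (x y : B) :
    θ K B (x * y) = counit (R := K) x • θ K B y + counit (R := K) y • θ K B x := by
  simp only [θ, LinearMap.comp_apply, Bialgebra.comul_mul, sd_mul,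
    mul_antipode_rTensor_comul_apply, algebraMap_smul]

/-- the space of invariant differentials -/
noncomputable def W : Submodule K Ω[B⁄K] := LinearMap.range (θ K B)

noncomputable def θW : B →ₗ[K] W K B := (θ K B).rangeRestrict

@[simp] lemma coe_θW (x : B) : ((θW K B x : W K B) : Ω[B⁄K]) = θ K B x := rfl

lemma θW_mul (x y : B) :
    θW K B (x * y) = counit (R := K) x • θW K B y + counit (R := K) y • θW K B x := by
  apply Subtype.ext
  simp [θ_mul]

/-- `id ⊗ ε` -/
noncomputable def r : B ⊗[K] B →ₗ[K] B := (TensorProduct.rid K B).toLinearMap ∘ₗ counit.lTensor B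

@[simp] lemma r_tmul (x y : B) : r K B (x ⊗ₜ y) = counit (R := K) y • x := by simp [r]

lemma r_comul (b : B) : r K B (comul b) = b := by
  simp [r, lTensor_counit_comul]

lemma lT_mul (s t : B ⊗[K] B) :
    (θW K B).lTensor B (s * t) =
      r K B s • (θW K B).lTensor B t + r K B t • (θW K B).lTensor B s := by
  induction s using TensorProduct.induction_on with
  | zero => simp
  | add s₁ s₂ h₁ h₂ =>
    simp only [add_mul, map_add, h₁, h₂, add_smul, smul_add]
    abel
  | tmul x y =>
    induction t using TensorProduct.induction_on with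
    | zero => simp
    | add t₁ t₂ h₁ h₂ =>
      simp only [mul_add, map_add, h₁, h₂, add_smul, smul_add]
      abel
    | tmul x' y' =>
      simp only [Algebra.TensorProduct.tmul_mul_tmul, LinearMap.lTensor_tmul, θW_mul, r_tmul,
        tmul_add, tmul_smul, TensorProduct.smul_tmul', smul_eq_mul, Algebra.smul_mul_assoc]
      rw [mul_comm x' x]

/-- the derivation `b ↦ Σ b₁ ⊗ θ b₂`. -/
noncomputable def Dd : Derivation K B (B ⊗[K] W K B) :=
  Derivation.mk' ((θW K B).lTensor B ∘ₗ comul) (fun a b => by
    simp only [LinearMap.comp_apply, Bialgebra.comul_mul, lT_mul, r_comul])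

lemma Dd_apply (b : B) : Dd K B b = (θW K B).lTensor B (comul b) := rfl

/-- multiplication map `B ⊗ W → Ω`. -/
noncomputable def mulMap : B ⊗[K] W K B →ₗ[B] Ω[B⁄K] :=
  LinearMap.liftBaseChange B (W K B).subtype

@[simp] lemma mulMap_tmul (b : B) (w : W K B) : mulMap K B (b ⊗ₜ w) = b • (w : Ω[B⁄K]) := by
  simp [mulMap]

noncomputable def liftD : Ω[B⁄K] →ₗ[B] B ⊗[K] W K B := (Dd K B).liftKaehlerDifferential

@[simp] lemma liftD_D (b : B) : liftD K B (KaehlerDifferential.D K B b) = Dd K B b :=
  Derivation.liftKaehlerDifferential_comp_D _ _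

/-- `(η ∘ ε) ⊗ f` applied to `Δ x`. -/
lemma map_unit_counit {M : Type*} [AddCommGroup M] [Module K M] (f : B →ₗ[K] M) (x : B) :
    TensorProduct.map (Algebra.linearMap K B ∘ₗ counit) f (comul x) = (1 : B) ⊗ₜ f x := by
  have h : ∀ t : B ⊗[K] B, TensorProduct.map (Algebra.linearMap K B ∘ₗ counit) f t =
      (1 : B) ⊗ₜ f (TensorProduct.lid K B (counit.rTensor B t)) := by
    intro t
    induction t using TensorProduct.induction_on with
    | zero => simp
    | add t₁ t₂ h₁ h₂ => simp only [map_add, h₁, h₂, tmul_add]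
    | tmul y z =>
      simp [Algebra.algebraMap_eq_smul_one, TensorProduct.smul_tmul]
  rw [h, rTensor_counit_comul]
  simp

/-- the key map `(x ⊗ y) ⊗ z ↦ (S x * y) ⊗ θ z`. -/
noncomputable def P : (B ⊗[K] B) ⊗[K] B →ₗ[K] B ⊗[K] W K B :=
  TensorProduct.map (LinearMap.mul' K B ∘ₗ (antipode K).rTensor B) (θW K B)

lemma aux1 (x : B) (u : B ⊗[K] B) :
    antipode K x • (θW K B).lTensor B u =
      P K B ((TensorProduct.assoc K B B B).symm (x ⊗ₜ u)) := by
  induction u using TensorProduct.induction_on with
  | zero => simp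
  | add u₁ u₂ h₁ h₂ => simp only [map_add, smul_add, tmul_add, h₁, h₂]
  | tmul y z => simp [P, TensorProduct.smul_tmul']

lemma liftD_sd (t : B ⊗[K] B) :
    liftD K B (sd K B t) =
      P K B ((TensorProduct.assoc K B B B).symm (comul.lTensor B t)) := by
  induction t using TensorProduct.induction_on with
  | zero => simp
  | add t₁ t₂ h₁ h₂ => simp only [map_add, h₁, h₂]
  | tmul x y =>
    simp only [sd_tmul, map_smul, liftD_D, Dd_apply, LinearMap.lTensor_tmul, aux1]

lemma liftD_θ (x : B) : liftD K B (θ K B x) = (1 : B) ⊗ₜ θW K B x := by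
  rw [θ, LinearMap.comp_apply, liftD_sd, ← coassoc_apply, LinearEquiv.symm_apply_apply, P,
    ← LinearMap.comp_apply, LinearMap.map_comp_rTensor, LinearMap.comp_assoc,
    mul_antipode_rTensor_comul, map_unit_counit]

/-- the map `(x ⊗ y) ⊗ z ↦ (x * S y) • d z`. -/
noncomputable def Q : (B ⊗[K] B) ⊗[K] B →ₗ[K] Ω[B⁄K] :=
  act K B ∘ₗ TensorProduct.map (LinearMap.mul' K B ∘ₗ (antipode K).lTensor B) (d' K B)

lemma aux2 (x : B) (u : B ⊗[K] B) :
    x • sd K B u = Q K B ((TensorProduct.assoc K B B B).symm (x ⊗ₜ u)) := by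
  induction u using TensorProduct.induction_on with
  | zero => simp
  | add u₁ u₂ h₁ h₂ => simp only [map_add, smul_add, tmul_add, h₁, h₂]
  | tmul y z => simp [Q, smul_smul]

lemma mulMap_lT (t : B ⊗[K] B) :
    mulMap K B ((θW K B).lTensor B t) =
      Q K B ((TensorProduct.assoc K B B B).symm (comul.lTensor B t)) := by
  induction t using TensorProduct.induction_on with
  | zero => simp
  | add t₁ t₂ h₁ h₂ => simp only [map_add, h₁, h₂]
  | tmul x y =>
    simp only [LinearMap.lTensor_tmul, mulMap_tmul, coe_θW, θ, LinearMap.comp_apply, aux2]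

lemma act_map_unit_counit (x : B) :
    act K B (TensorProduct.map (Algebra.linearMap K B ∘ₗ counit) (d' K B) (comul x)) =
      KaehlerDifferential.D K B x := by
  rw [map_unit_counit]; simp

lemma mulMap_Dd (b : B) : mulMap K B (Dd K B b) = KaehlerDifferential.D K B b := by
  rw [Dd_apply, mulMap_lT, ← coassoc_apply, LinearEquiv.symm_apply_apply, Q,
    LinearMap.comp_apply, ← LinearMap.comp_apply (TensorProduct.map _ _),
    LinearMap.map_comp_rTensor, LinearMap.comp_assoc,
    mul_antipode_lTensor_comul, act_map_unit_counit]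

lemma liftD_mulMap (t : B ⊗[K] W K B) : liftD K B (mulMap K B t) = t := by
  induction t using TensorProduct.induction_on with
  | zero => simp
  | add t₁ t₂ h₁ h₂ => simp only [map_add, h₁, h₂]
  | tmul b w =>
    obtain ⟨w, x, rfl⟩ := w
    have : (⟨θ K B x, ⟨x, rfl⟩⟩ : W K B) = θW K B x := rfl
    rw [this, mulMap_tmul, coe_θW, map_smul, liftD_θ, TensorProduct.smul_tmul', smul_eq_mul,
      mul_one]

lemma mulMap_bijective : Function.Bijective (mulMap K B) := by
  refine ⟨Function.LeftInverse.injective (liftD_mulMap K B), ?_⟩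
  rw [← LinearMap.range_eq_top, eq_top_iff, ← KaehlerDifferential.span_range_derivation,
    Submodule.span_le]
  rintro _ ⟨b, rfl⟩
  exact ⟨Dd K B b, mulMap_Dd K B b⟩

end

/-- Affine case of the last sentence: for a group scheme over a field the module of differentials is a
free module; stated for an affine group scheme Spec B, i.e. for a commutative Hopf algebra B over a
field K: Ω_{B/K} is a free B-module. -/
theorem result (K : Type u) [Field K] (B : Type v) [CommRing B] [HopfAlgebra K B] : Module.Free B (Ω[B⁄K]) := by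
  exact Module.Free.of_equiv (LinearEquiv.ofBijective (mulMap K B) (mulMap_bijective K B))

end Groth.Agent.S1846
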