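import Groth.Statements.S1332
-- import your own Groth.Agent.* helpers here
import Mathlib
import Groth.Agent.Lib.Helper12.GenericImageSch
import Groth.Agent.Lib.Helper12.GenImage

set_option autoImplicit false
universe u
open FlatMor

namespace Groth.Agent.S1332

open AlgebraicGeometry CategoryTheory Limits in
/-- Let f be of finite type with irreducible target. If the generic fibre has dimension n, then over
some nonempty open of the target every fibre has dimension n. -/
theorem result {X Y : Scheme.{u}} (f : X ⟶ Y) [IrreducibleSpace ↑Y] [LocallyOfFiniteType f] [QuasiCompact f] (n : ℕ)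
    (h : topologicalKrullDim ↑(f.fiber (genericPoint ↑Y)) = n) :
    ∃ V : Y.Opens, (V : Set ↑Y).Nonempty ∧ ∀ y ∈ V, topologicalKrullDim ↑(f.fiber y) = n := by
  classical
  set η := genericPoint ↑Y with hη
  have hηcomp : closure ({η} : Set Y) ∈ irreducibleComponents (Y : Type u) := by
    rw [(show closure ({η} : Set Y) = Set.univ from genericPoint_spec Y), irreducibleComponents_eq_singleton]
    exact Set.mem_singleton _
  -- the closed set where the fibre dimension is large
  have hZcl : IsClosed {x : X | FlatMor.fibreDimAt f x ≤ (n : WithBot ℕ∞)}ᶜ :=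
    (Groth.Agent.Lib.Helper12.Chevalley.isOpen_setOf_fibreDimAt_le f n).isClosed_compl
  let I := Scheme.IdealSheafData.vanishingIdeal
    ⟨{x : X | FlatMor.fibreDimAt f x ≤ (n : WithBot ℕ∞)}ᶜ, hZcl⟩
  have hrange : Set.range I.subschemeι = {x : X | FlatMor.fibreDimAt f x ≤ (n : WithBot ℕ∞)}ᶜ := by
    rw [Scheme.IdealSheafData.range_subschemeι]
    exact Scheme.IdealSheafData.coe_support_vanishingIdeal _
  have hle : topologicalKrullDim ↑(f.fiber η) ≤ (n : WithBot ℕ∞) := le_of_eq h
  have hfib := (Groth.Agent.Lib.Helper12.ChevalleyCor.dim_fiber_le_iff f η n).mp hle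
  have hnotdom : ¬ DenseRange (I.subschemeι ≫ f) := by
    intro hd
    haveI : IsDominant (I.subschemeι ≫ f) := ⟨hd⟩
    obtain ⟨w, hw⟩ := Groth.Agent.Lib.Helper12.GenImage.exists_preimage_of_generic
      (I.subschemeι ≫ f) η hηcomp
    have h1 : I.subschemeι w ∈ Set.range I.subschemeι := ⟨w, rfl⟩
    rw [hrange] at h1
    apply h1
    exact hfib _ (by rw [← hw]; rfl)
  have hηV1 : η ∉ closure (Set.range (I.subschemeι ≫ f)) := by
    intro hmem
    apply hnotdom
    intro y
    have h1 : closure ({η} : Set Y) ⊆ closure (Set.range (I.subschemeι ≫ f)) :=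
      closure_minimal (Set.singleton_subset_iff.mpr hmem) isClosed_closure
    rw [(show closure ({η} : Set Y) = Set.univ from genericPoint_spec Y)] at h1
    exact h1 (Set.mem_univ y)
  -- a point of the generic fibre of maximal fibre dimension
  obtain ⟨ξ, hξη, hξn⟩ : ∃ ξ : X, f ξ = η ∧ (n : WithBot ℕ∞) ≤ FlatMor.fibreDimAt f ξ := by
    by_contra hcon
    push Not at hcon
    rcases Nat.eq_zero_or_pos n with hn | hn
    · subst hn
      have h0 : topologicalKrullDim ↑(f.fiber η) ≤ ⊥ := by
        rw [Groth.Agent.Lib.Helper12.ChevalleyCor.dim_fiber_le_iff]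
        intro x hx
        exfalso
        have := hcon x hx
        apply not_le.mpr this
        refine le_trans ?_ (Groth.Agent.Lib.Helper12.FibreMax.trn_le_fibreDimAt_of_specializes f x x
          rfl specializes_rfl)
        exact WithBot.coe_le_coe.mpr zero_le
      rw [h] at h0
      simp at h0
    · obtain ⟨m, rfl⟩ : ∃ m, n = m + 1 := ⟨n - 1, by omega⟩
      have h0 : topologicalKrullDim ↑(f.fiber η) ≤ (m : WithBot ℕ∞) := by
        rw [Groth.Agent.Lib.Helper12.ChevalleyCor.dim_fiber_le_iff]
        intro x hx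
        have := hcon x hx
        by_contra h3
        exact (not_le.mpr this)
          ((Groth.Agent.Lib.Helper12.ChevalleyCor.succ_le_iff_not_le _ m).mpr h3)
      rw [h] at h0
      have : ((m + 1 : ℕ) : ℕ∞) ≤ (m : ℕ∞) := by exact_mod_cast h0
      have : m + 1 ≤ m := by exact_mod_cast this
      omega
  have hCcl := Groth.Agent.Lib.Helper12.FibreDimConstr.isClosed_setOf_le_fibreDimAt f n
  obtain ⟨V₂, hηV₂, hV₂⟩ :=
    Groth.Agent.Lib.Helper12.GenericImage.exists_open_inter_closure_subset_image f ξ
  rw [hξη] at hηV₂ hV₂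
  refine ⟨⟨(closure (Set.range (I.subschemeι ≫ f)))ᶜ, isClosed_closure.isOpen_compl⟩ ⊓ V₂,
    ⟨η, hηV1, hηV₂⟩, ?_⟩
  rintro y ⟨hy1, hy2⟩
  apply le_antisymm
  · rw [Groth.Agent.Lib.Helper12.ChevalleyCor.dim_fiber_le_iff]
    intro x hx
    by_contra hcon
    have hxZ : x ∈ Set.range I.subschemeι := by rw [hrange]; exact hcon
    obtain ⟨w, rfl⟩ := hxZ
    apply hy1
    apply subset_closure
    exact ⟨w, hx⟩
  · obtain ⟨x, hξx, hx⟩ := hV₂ y hy2 (genericPoint_specializes y)
    have hxC : (n : WithBot ℕ∞) ≤ FlatMor.fibreDimAt f x :=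
      hξx.mem_closed hCcl hξn
    refine hxC.trans ?_
    exact (Groth.Agent.Lib.Helper12.ChevalleyCor.dim_fiber_le_iff f y _).mp le_rfl x hx

end Groth.Agent.S1332
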