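import Groth.Statements.S13342

set_option autoImplicit false
set_option linter.style.haveILetI false
open CategoryTheory CategoryTheory.Limits
universe u
open FCompl

namespace Groth.Agent.S13342

open AlgebraicGeometry

/-- The restriction square of a morphism to an open and its (propositional) preimage. -/
theorem isPullback_resLE_of_eq {X Y : Scheme.{u}} (f : X ⟶ Y) (V : Y.Opens) (W : X.Opens)
    (e : f ⁻¹ᵁ V = W) : IsPullback (f.resLE V W e.ge) W.ι V.ι f := by
  subst e
  rw [Scheme.Hom.resLE_eq_morphismRestrict]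
  exact isPullback_morphismRestrict f V

theorem isClosedImmersion_resLE_of_eq {X Y : Scheme.{u}} (f : X ⟶ Y) [IsClosedImmersion f]
    (V : Y.Opens) (W : X.Opens) (e : f ⁻¹ᵁ V = W) : IsClosedImmersion (f.resLE V W e.ge) := by
  subst e
  rw [Scheme.Hom.resLE_eq_morphismRestrict]
  exact IsZariskiLocalAtTarget.restrict ‹_› V

theorem quasiCompact_toX (𝔛 : FSch.Sys.{u}) (h : 𝔛.IsFormal) : ∀ n, QuasiCompact (𝔛.toX n)
  | 0 => by
    change QuasiCompact (𝟙 _)
    infer_instance
  | n + 1 => by
    haveI := quasiCompact_toX 𝔛 h n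
    haveI := (h n).1
    change QuasiCompact (𝔛.toX n ≫ 𝔛.ι n)
    infer_instance

theorem isPullback_toX (𝔛 : FSch.Sys.{u}) (h : 𝔛.IsFormal) (U : (𝔛.X 0).Opens) :
    ∀ n, IsPullback ((𝔛.restrictOpen h U).toX n) (𝔛.lvU h 0 U).ι (𝔛.lvU h n U).ι (𝔛.toX n)
  | 0 => by
    change IsPullback (𝟙 _) (𝔛.lvU h 0 U).ι (𝔛.lvU h 0 U).ι (𝟙 _)
    exact IsPullback.of_horiz_isIso ⟨by simp⟩
  | n + 1 => by
    change IsPullback ((𝔛.restrictOpen h U).toX n ≫ (𝔛.restrictOpen h U).ι n) _ _
      (𝔛.toX n ≫ 𝔛.ι n)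
    exact (isPullback_toX 𝔛 h U n).paste_horiz
      (isPullback_resLE_of_eq (𝔛.ι n) _ _ (𝔛.lvU_succ h n U))

theorem comap_pow_of_iso {A B : CommRingCat.{u}} (e : A ≅ B) (I : Ideal A) (k : ℕ) :
    (I ^ k).comap e.inv.hom = (I.comap e.inv.hom) ^ k := by
  have h1 : ∀ J : Ideal A, J.comap e.inv.hom = J.map e.hom.hom := by
    intro J
    have := Ideal.comap_symm (I := J) e.commRingCatIsoToRingEquiv
    exact this
  rw [h1, h1, Ideal.map_pow]

open AlgebraicGeometry in
/-- The formal prescheme induced on an open subset of a formal prescheme (resp. of a locally Noetherian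
formal prescheme, resp. of a Noetherian formal prescheme) is a formal prescheme (resp. a locally
Noetherian formal prescheme, resp. a Noetherian formal prescheme). In the presentation by systems of
thickenings with common underlying space: for an open U, the induced system (the open subschemes of
the levels over U with the restricted transition maps) is again a system of thickenings; it is adic
with locally Noetherian levels when the given system is; and if moreover the common underlying space
is quasi-compact (a Noetherian formal prescheme), so is that of the induced system. -/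
theorem result (𝔛 : FSch.Sys.{u}) (h : 𝔛.IsFormal) (U : (𝔛.X 0).Opens) :
    (𝔛.restrictOpen h U).IsFormal ∧ (𝔛.IsLocNoethFormal → (𝔛.restrictOpen h U).IsLocNoethFormal) ∧
      (𝔛.IsLocNoethFormal → CompactSpace (𝔛.X 0) → CompactSpace ((𝔛.restrictOpen h U).X 0)) := by
  have hformal : (𝔛.restrictOpen h U).IsFormal := by
    intro n
    haveI := (h n).1
    refine ⟨isClosedImmersion_resLE_of_eq (𝔛.ι n) _ _ (𝔛.lvU_succ h n U), ?_⟩
    intro y
    obtain ⟨x, hx⟩ := (h n).2 y.1
    have hxU : x ∈ 𝔛.lvU h n U := by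
      rw [← 𝔛.lvU_succ h n U]
      change (𝔛.ι n) x ∈ 𝔛.lvU h (n + 1) U
      rw [show (𝔛.ι n) x = y.1 from hx]
      exact y.2
    refine ⟨⟨x, hxU⟩, Subtype.ext ?_⟩
    exact (Scheme.Hom.coe_resLE_apply (𝔛.ι n) (𝔛.lvU_le h n U) ⟨x, hxU⟩).trans hx
  refine ⟨hformal, ?_, ?_⟩
  · rintro ⟨_, hadic, hnoeth⟩
    refine ⟨hformal, ?_, fun n => ?_⟩
    · intro n
      haveI := (h n).1
      haveI := quasiCompact_toX 𝔛 h (n + 1)
      apply Scheme.IdealSheafData.ext
      funext W
      have H1 := isPullback_resLE_of_eq (𝔛.ι n) _ _ (𝔛.lvU_succ h n U)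
      have H2 := isPullback_toX 𝔛 h U (n + 1)
      rw [Scheme.IdealSheafData.ideal_pow, Pi.pow_apply]
      have e1 := Scheme.ker_ideal_of_isPullback_of_isOpenImmersion (𝔛.ι n) _ _ _ H1 W
      have e2 := @Scheme.ker_ideal_of_isPullback_of_isOpenImmersion _ _ _ _ (𝔛.toX (n + 1))
        _ _ _ (inferInstanceAs (IsOpenImmersion (𝔛.lvU h (n + 1) U).ι)) _ H2 W
      change ((𝔛.restrictOpen h U).ι n).ker.ideal W = _
      rw [show ((𝔛.restrictOpen h U).ι n).ker.ideal W = _ from e1, e2, hadic n,
        Scheme.IdealSheafData.ideal_pow, Pi.pow_apply]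
      exact comap_pow_of_iso _ _ _
    · haveI := hnoeth n
      change IsLocallyNoetherian (𝔛.lvU h n U).toScheme
      infer_instance
  · rintro ⟨_, _, hnoeth⟩ hc
    haveI := hnoeth 0
    haveI : IsNoetherian (𝔛.X 0) := {}
    change CompactSpace ↥(𝔛.lvU h 0 U)
    exact isCompact_iff_compactSpace.mp
      (TopologicalSpace.NoetherianSpace.isCompact (𝔛.lvU h 0 U : Set (𝔛.X 0)))

end Groth.Agent.S13342
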