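import Groth.Statements.S13352
import Groth.Agent.Lib.Helper27.FinTft
import Groth.Agent.Lib.Helper27.AdicBase
open Groth.Agent.Lib.Helper27

set_option autoImplicit false
universe u
open scoped TensorProduct
open AdicRing

namespace Groth.Agent.S13352

/-- Let R be a complete valuation ring of height one with t a nonzero element generating an ideal of
definition and K its field of fractions, A an admissible R-algebra, and f_1, ..., f_n elements of A
⊗_R K that are integral over A. Then A' = A[f_1, ..., f_n], a subalgebra of A ⊗_R K, is an
admissible R-algebra which is finite over A. (The published hypothesis is that each f_i has supremum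
seminorm at most 1 on the affinoid algebra A ⊗_R K; integrality of the f_i over A is what is derived
from it and used, and is the hypothesis taken here.) -/
theorem result
    (R : Type u) [CommRing R] [IsDomain R] [ValuationRing R] [Ring.KrullDimLE 1 R]
    (t : R) (ht : t ≠ 0) [IsAdicComplete (Ideal.span {t}) R]
    (A : Type u) [CommRing A] [Algebra R A] (hA : AdicRing.Admissible R (Ideal.span {t}) A)
    (n : ℕ) (f : Fin n → A ⊗[R] FractionRing R) (hf : ∀ i, IsIntegral A (f i)) :
    AdicRing.Admissible R (Ideal.span {t}) ↥(Algebra.adjoin A (Set.range f)) ∧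
      Module.Finite A ↥(Algebra.adjoin A (Set.range f)) := by
  classical
  haveI hfin : Module.Finite A ↥(Algebra.adjoin A (Set.range f)) :=
    Algebra.finite_adjoin_of_finite_of_isIntegral (Set.finite_range f)
      (by rintro _ ⟨i, rfl⟩; exact hf i)
  refine ⟨?_, hfin⟩
  apply FinTft.admissible_of_finite R t ht A (AdicBase.tft_of_tfp hA.1)
  intro x n hx
  have h1 : t ^ n • x = 0 :=
    hx _ (by rw [Ideal.span_singleton_pow]; exact Ideal.mem_span_singleton_self _)
  have h2 : t ^ n • (x : A ⊗[R] FractionRing R) = 0 := by
    have := congrArg Subtype.val h1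
    simpa using this
  haveI hloc : IsLocalization (Algebra.algebraMapSubmonoid A (nonZeroDivisors R))
      (A ⊗[R] FractionRing R) := IsLocalization.tensor _ (nonZeroDivisors R)
  have hu : IsUnit (algebraMap A (A ⊗[R] FractionRing R) (algebraMap R A (t ^ n))) :=
    IsLocalization.map_units _
      (⟨_, Algebra.mem_algebraMapSubmonoid_of_mem
        ⟨t ^ n, mem_nonZeroDivisors_of_ne_zero (pow_ne_zero n ht)⟩⟩ :
        Algebra.algebraMapSubmonoid A (nonZeroDivisors R))
  have h2' : algebraMap A (A ⊗[R] FractionRing R) (algebraMap R A (t ^ n)) *
      (x : A ⊗[R] FractionRing R) = 0 := by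
    rw [← IsScalarTower.algebraMap_apply R A (A ⊗[R] FractionRing R), ← Algebra.smul_def]
    exact h2
  have h3 : (x : A ⊗[R] FractionRing R) = 0 := (hu.mul_right_eq_zero).mp h2'
  exact Subtype.ext h3

end Groth.Agent.S13352
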