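import Groth.Statements.S13353
import Groth.Agent.Lib.Helper27.GenFibre
import Groth.Agent.Lib.Helper27.InvIntegral
open Groth.Agent.Lib.Helper27

set_option autoImplicit false
universe u
open scoped TensorProduct
open AdicRing

namespace Groth.Agent.S13353

/-- Let R be a complete valuation ring of height one with t a nonzero element generating an ideal of
definition and K its field of fractions, A an admissible R-algebra, f_1, ..., f_n elements of A ⊗_R
K integral over A, c a nonzero element of R and g_1, ..., g_n elements of A with g_i = c f_i in A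
⊗_R K; put 𝔞 = (c, g_1, ..., g_n) and A' = A[f_1, ..., f_n] ⊂ A ⊗_R K. If D is an admissible
R-algebra and φ : A → D an R-algebra homomorphism such that the ideal 𝔞D is generated by the image
of c, or by the image of some g_i, then 𝔞D is generated by c and φ extends to exactly one R-algebra
homomorphism A' → D. (This is the universal property through which Spf A' → Spf A is identified with
the formal blowing-up of 𝔞 on Spf A; the published hypothesis on the f_i is a supremum-seminorm
bound, from which their integrality over A is derived.) -/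
theorem result
    (R : Type u) [CommRing R] [IsDomain R] [ValuationRing R] [Ring.KrullDimLE 1 R]
    (t : R) (ht : t ≠ 0) [IsAdicComplete (Ideal.span {t}) R]
    (A : Type u) [CommRing A] [Algebra R A] (hA : AdicRing.Admissible R (Ideal.span {t}) A)
    (n : ℕ) (f : Fin n → A ⊗[R] FractionRing R) (hf : ∀ i, IsIntegral A (f i))
    (c : R) (hc : c ≠ 0) (g : Fin n → A)
    (hg : ∀ i, algebraMap A (A ⊗[R] FractionRing R) (g i) = c • f i)
    (D : Type u) [CommRing D] [Algebra R D] (hD : AdicRing.Admissible R (Ideal.span {t}) D)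
    (φ : A →ₐ[R] D)
    (hgen : (Ideal.span (insert (algebraMap R A c) (Set.range g))).map φ =
          Ideal.span {algebraMap R D c} ∨
      ∃ i, (Ideal.span (insert (algebraMap R A c) (Set.range g))).map φ = Ideal.span {φ (g i)}) :
    (Ideal.span (insert (algebraMap R A c) (Set.range g))).map φ = Ideal.span {algebraMap R D c} ∧
      ∃! ψ : ↥(Algebra.adjoin A (Set.range f)) →ₐ[R] D,
        ψ.comp (IsScalarTower.toAlgHom R A ↥(Algebra.adjoin A (Set.range f))) = φ := by
  classical
  have hTD := hD.2
  have hιinj : Function.Injective (algebraMap D (D ⊗[R] FractionRing R)) :=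
    GenFibre.injective_algebraMap R t hTD
  have hcu : IsUnit (algebraMap D (D ⊗[R] FractionRing R) (algebraMap R D c)) :=
    GenFibre.isUnit_algebraMap R D c hc
  set Φ : A ⊗[R] FractionRing R →ₐ[R] D ⊗[R] FractionRing R :=
    Algebra.TensorProduct.map φ (AlgHom.id R (FractionRing R)) with hΦdef
  have hΦ : ∀ a, Φ (algebraMap A (A ⊗[R] FractionRing R) a) =
      algebraMap D (D ⊗[R] FractionRing R) (φ a) := by
    intro a
    rw [hΦdef, Algebra.TensorProduct.algebraMap_apply, Algebra.TensorProduct.algebraMap_apply,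
      Algebra.TensorProduct.map_tmul]
    simp
  have hrel : ∀ i, algebraMap D (D ⊗[R] FractionRing R) (algebraMap R D c) * Φ (f i) =
      algebraMap D (D ⊗[R] FractionRing R) (φ (g i)) := by
    intro i
    have hsmE : ∀ y : D ⊗[R] FractionRing R,
        c • y = algebraMap D (D ⊗[R] FractionRing R) (algebraMap R D c) * y := by
      intro y
      rw [← IsScalarTower.algebraMap_apply R D (D ⊗[R] FractionRing R)]
      exact Algebra.smul_def c y
    rw [← hΦ, hg, map_smul, hsmE]
  have hint : ∀ i, IsIntegral D (Φ (f i)) := fun i =>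
    (hf i).map_of_comp_eq φ.toRingHom Φ.toRingHom (by
      ext a
      exact (hΦ a).symm)
  have part1 : (Ideal.span (insert (algebraMap R A c) (Set.range g))).map φ =
      Ideal.span {algebraMap R D c} := by
    rcases hgen with h | ⟨i, hi⟩
    · exact h
    · have hcmem : algebraMap R D c ∈ Ideal.span {φ (g i)} := by
        rw [← hi]
        have : algebraMap R D c = φ (algebraMap R A c) := (φ.commutes c).symm
        rw [this]
        exact Ideal.mem_map_of_mem _ (Ideal.subset_span (Set.mem_insert _ _))
      obtain ⟨d, hd⟩ := Ideal.mem_span_singleton'.mp hcmem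
      have hδ : Φ (f i) * algebraMap D (D ⊗[R] FractionRing R) d = 1 := by
        apply hcu.mul_left_cancel
        rw [← mul_assoc, hrel, ← map_mul, mul_comm (φ (g i)), hd, mul_one]
      have hdu : IsUnit d :=
        InvIntegral.isUnit_of_isIntegral_inv hιinj d (Φ (f i)) hδ (hint i)
      rw [hi, ← hd]
      exact (Ideal.span_singleton_mul_left_unit hdu _).symm
  have hd_ex : ∀ i, ∃ d : D, φ (g i) = algebraMap R D c * d := by
    intro i
    have : φ (g i) ∈ (Ideal.span (insert (algebraMap R A c) (Set.range g))).map φ :=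
      Ideal.mem_map_of_mem _ (Ideal.subset_span (Set.mem_insert_of_mem _ ⟨i, rfl⟩))
    rw [part1] at this
    obtain ⟨d, hd⟩ := Ideal.mem_span_singleton'.mp this
    exact ⟨d, by rw [← hd, mul_comm]⟩
  choose d hd using hd_ex
  have hΦf : ∀ i, Φ (f i) = algebraMap D (D ⊗[R] FractionRing R) (d i) := by
    intro i
    apply hcu.mul_left_cancel
    rw [hrel, hd, map_mul]
  set ιD : D →ₐ[R] D ⊗[R] FractionRing R :=
    IsScalarTower.toAlgHom R D (D ⊗[R] FractionRing R) with hιD
  have hrange : ∀ x ∈ Algebra.adjoin A (Set.range f), Φ x ∈ ιD.range := by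
    intro x hx
    induction hx using Algebra.adjoin_induction with
    | mem x hx =>
      obtain ⟨i, rfl⟩ := hx
      exact ⟨d i, (hΦf i).symm⟩
    | algebraMap a => exact ⟨φ a, (hΦ a).symm⟩
    | add x y _ _ hx hy => rw [map_add]; exact add_mem hx hy
    | mul x y _ _ hx hy => rw [map_mul]; exact mul_mem hx hy
  let Φ' : ↥(Algebra.adjoin A (Set.range f)) →ₐ[R] ιD.range :=
    (Φ.comp ((Algebra.adjoin A (Set.range f)).val.restrictScalars R)).codRestrict ιD.range
      (fun x => hrange x.1 x.2)
  let eD : D ≃ₐ[R] ιD.range := AlgEquiv.ofInjective ιD hιinj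
  let ψ : ↥(Algebra.adjoin A (Set.range f)) →ₐ[R] D := eD.symm.toAlgHom.comp Φ'
  have hψ : ∀ x : ↥(Algebra.adjoin A (Set.range f)),
      algebraMap D (D ⊗[R] FractionRing R) (ψ x) = Φ x.1 := by
    intro x
    have h1 : eD (ψ x) = Φ' x := eD.apply_symm_apply (Φ' x)
    have h2 := congrArg Subtype.val h1
    exact h2
  have hcnzd : ∀ y : D, algebraMap R D c * y = 0 → y = 0 :=
    fun y hy => GenFibre.eq_zero_of_mul_eq_zero R t hTD c hc y hy
  have hsm : ∀ i (hi : f i ∈ Algebra.adjoin A (Set.range f)),
      c • (⟨f i, hi⟩ : ↥(Algebra.adjoin A (Set.range f))) =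
        algebraMap A ↥(Algebra.adjoin A (Set.range f)) (g i) := by
    intro i hi
    apply Subtype.ext
    exact (hg i).symm
  have hχ : ∀ χ : ↥(Algebra.adjoin A (Set.range f)) →ₐ[R] D,
      χ.comp (IsScalarTower.toAlgHom R A ↥(Algebra.adjoin A (Set.range f))) = φ →
      ∀ i (hi : f i ∈ Algebra.adjoin A (Set.range f)),
        algebraMap R D c * χ ⟨f i, hi⟩ = φ (g i) := by
    intro χ hχ i hi
    rw [← Algebra.smul_def, ← map_smul, hsm i hi, ← hχ]
    rfl
  refine ⟨part1, ψ, ?_, ?_⟩
  · ext a
    apply hιinj
    rw [AlgHom.comp_apply, hψ]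
    exact hΦ a
  · intro ψ' hψ'
    have hψc : ψ.comp (IsScalarTower.toAlgHom R A ↥(Algebra.adjoin A (Set.range f))) = φ := by
      ext a
      apply hιinj
      rw [AlgHom.comp_apply, hψ]
      exact hΦ a
    have key : ∀ x (hx : x ∈ Algebra.adjoin A (Set.range f)), ψ' ⟨x, hx⟩ = ψ ⟨x, hx⟩ := by
      intro x hx
      induction hx using Algebra.adjoin_induction with
      | mem x hx =>
        obtain ⟨i, rfl⟩ := hx
        rw [← sub_eq_zero]
        apply hcnzd
        rw [mul_sub, hχ ψ' hψ' i, hχ ψ hψc i, sub_self]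
      | algebraMap a =>
        have h1 := AlgHom.congr_fun hψ' a
        have h2 := AlgHom.congr_fun hψc a
        exact h1.trans h2.symm
      | add x y hx hy hx' hy' =>
        have e : (⟨x + y, add_mem hx hy⟩ : ↥(Algebra.adjoin A (Set.range f))) =
            ⟨x, hx⟩ + ⟨y, hy⟩ := rfl
        rw [e, map_add, map_add, hx', hy']
      | mul x y hx hy hx' hy' =>
        have e : (⟨x * y, mul_mem hx hy⟩ : ↥(Algebra.adjoin A (Set.range f))) =
            ⟨x, hx⟩ * ⟨y, hy⟩ := rfl
        rw [e, map_mul, map_mul, hx', hy']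
    ext x
    exact key x.1 x.2

end Groth.Agent.S13353
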