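import Groth.Statements.S13354
import Groth.Agent.S11541
import Groth.Agent.Lib.Helper27.ValPoly
import Groth.Agent.Lib.Helper27.AdicHensel
import Groth.Agent.Lib.Helper12.IntegralDim
open Groth.Agent.Lib.Helper27

set_option autoImplicit false
universe u
open AdicRing

namespace Groth.Agent.S13354

/-- Let R be a complete valuation ring of height one with t a nonzero element generating an ideal of
definition, B an admissible R-algebra which is a local integral domain of Krull dimension one (the
algebra of a rig-point), and b_1, ..., b_n elements of B, not all zero. Then there is a B-subalgebra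
B' of the field of fractions of B which is finite over B, is again a local ring of Krull dimension
one, and in which the ideal generated by b_1, ..., b_n is generated by one of the b_i alone (hence
is invertible). (This is the algebraic step by which a rig-point is lifted along the formal
blowing-up of a finitely generated open ideal; the resulting bijection between rig-points of the
blowing-up and of the base is not stated here.) -/
theorem result
    (R : Type u) [CommRing R] [IsDomain R] [ValuationRing R] [Ring.KrullDimLE 1 R]
    (t : R) (ht : t ≠ 0) [IsAdicComplete (Ideal.span {t}) R]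
    (B : Type u) [CommRing B] [Algebra R B] [IsDomain B] [IsLocalRing B]
    (hB : AdicRing.Admissible R (Ideal.span {t}) B) (hdim : ringKrullDim B = 1)
    (n : ℕ) (b : Fin n → B) (hb : ∃ i, b i ≠ 0) :
    ∃ B' : Subalgebra B (FractionRing B), Module.Finite B ↥B' ∧ IsLocalRing ↥B' ∧ ringKrullDim ↥B' = 1 ∧
      ∃ i, Ideal.span (Set.range (fun j => algebraMap B ↥B' (b j))) =
        Ideal.span {algebraMap B ↥B' (b i)} := by
  classical
  obtain ⟨hfinR, hV⟩ := Groth.Agent.S11541.result R t ht B hB hdim
  haveI := hfinR
  haveI := hV
  obtain ⟨i0, _⟩ := hb
  obtain ⟨i, _, hdiv⟩ := ValPoly.exists_dvd_all (Finset.univ : Finset (Fin n))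
    ⟨i0, Finset.mem_univ _⟩
    (fun j => algebraMap B (integralClosure B (FractionRing B)) (b j))
  have hdiv' : ∀ j, ∃ v : integralClosure B (FractionRing B),
      algebraMap B (integralClosure B (FractionRing B)) (b j) =
        algebraMap B (integralClosure B (FractionRing B)) (b i) * v :=
    fun j => hdiv j (Finset.mem_univ _)
  choose v hv using hdiv'
  have hvF : ∀ j, algebraMap B (FractionRing B) (b j) =
      algebraMap B (FractionRing B) (b i) * (v j : FractionRing B) := by
    intro j
    have := congrArg Subtype.val (hv j)
    exact this
  set B' : Subalgebra B (FractionRing B) :=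
    Algebra.adjoin B (Set.range (fun j => (v j : FractionRing B))) with hB'
  haveI hfin : Module.Finite B ↥B' :=
    Algebra.finite_adjoin_of_finite_of_isIntegral (Set.finite_range _)
      (by rintro _ ⟨j, rfl⟩; exact (v j).2)
  letI algR : Algebra R ↥B' := ((algebraMap B ↥B').comp (algebraMap R B)).toAlgebra
  haveI : IsScalarTower R B ↥B' := IsScalarTower.of_algebraMap_eq (fun _ => rfl)
  haveI : Module.Finite R ↥B' := Module.Finite.trans B ↥B'
  have hloc : IsLocalRing ↥B' := AdicHensel.isLocalRing_of_finite_isDomain R t ht ↥B'
  haveI : Algebra.IsIntegral B ↥B' := Algebra.IsIntegral.of_finite B ↥B'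
  have hinj : Function.Injective (algebraMap B ↥B') := by
    intro x y hxy
    apply IsFractionRing.injective B (FractionRing B)
    exact congrArg Subtype.val hxy
  have hdim' : ringKrullDim ↥B' = 1 := by
    apply le_antisymm
    · rw [← hdim]
      exact Groth.Agent.Lib.Helper12.ringKrullDim_le_of_isIntegral (R := B)
    · rw [← hdim]
      exact Groth.Agent.Lib.Helper12.ringKrullDim_le_of_isIntegral_of_injective hinj
  refine ⟨B', hfin, hloc, hdim', i, ?_⟩
  apply le_antisymm
  · rw [Ideal.span_le]
    rintro _ ⟨j, rfl⟩
    have hvmem : (v j : FractionRing B) ∈ B' := Algebra.subset_adjoin ⟨j, rfl⟩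
    have e : algebraMap B ↥B' (b j) = algebraMap B ↥B' (b i) * ⟨(v j : FractionRing B), hvmem⟩ := by
      apply Subtype.ext
      exact hvF j
    show algebraMap B ↥B' (b j) ∈ Ideal.span {algebraMap B ↥B' (b i)}
    rw [e]
    exact Ideal.mul_mem_right _ _ (Ideal.mem_span_singleton_self _)
  · rw [Ideal.span_le]
    rintro _ rfl
    exact Ideal.subset_span ⟨i, rfl⟩

end Groth.Agent.S13354
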