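import Mathlib
import Groth.Statements.S13355
import Groth.Agent.Lib.Helper29.CharPChar
import Groth.Agent.Lib.Helper29.CharPCharPS

set_option autoImplicit false
universe u
open GaDual

namespace Aux13355

open Groth.Agent.Lib.Helper29.CharPChar

theorem main (A : Type u) [CommRing A] [Algebra ℚ A] (χ : PowerSeries A) :
    (PowerSeries.constantCoeff χ = 1 ∧
      PowerSeries.subst (MvPowerSeries.X 0 + MvPowerSeries.X 1 : MvPowerSeries (Fin 2) A) χ =
        PowerSeries.subst (MvPowerSeries.X 0 : MvPowerSeries (Fin 2) A) χ *
          PowerSeries.subst (MvPowerSeries.X 1 : MvPowerSeries (Fin 2) A) χ) ↔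
      ∃ a : A, χ = PowerSeries.rescale a (PowerSeries.exp A) := by
  constructor
  · rintro ⟨h0, hmul⟩
    have hstar := (ps_star_iff χ).1 hmul
    have h0' : PowerSeries.coeff 0 χ = 1 := by
      rw [PowerSeries.coeff_zero_eq_constantCoeff_apply, h0]
    have hf : ∀ k : ℕ, ((k.factorial : ℕ) : A) * PowerSeries.coeff k χ = PowerSeries.coeff 1 χ ^ k :=
      fact_mul_of_star (fun k => PowerSeries.coeff k χ) h0' hstar
    refine ⟨PowerSeries.coeff 1 χ, ?_⟩
    ext k
    rw [PowerSeries.coeff_rescale, PowerSeries.coeff_exp]
    exact coeff_of_fact_mul (fun k => PowerSeries.coeff k χ) hf k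
  · rintro ⟨a, rfl⟩
    constructor
    · rw [← PowerSeries.coeff_zero_eq_constantCoeff_apply, PowerSeries.coeff_rescale,
        PowerSeries.coeff_exp]
      simp
    · rw [ps_star_iff]
      intro i j
      rw [PowerSeries.coeff_rescale, PowerSeries.coeff_rescale, PowerSeries.coeff_rescale,
        PowerSeries.coeff_exp, PowerSeries.coeff_exp, PowerSeries.coeff_exp]
      exact exp_star a i j

end Aux13355

namespace Groth.Agent.S13355

/-- Over a commutative algebra A over the rationals, the formal characters (power series with constant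
term 1 satisfying χ(X+Y) = χ(X)χ(Y) in two variables) are exactly the power series exp(aX) for a in
A. -/
theorem result (A : Type u) [CommRing A] [Algebra ℚ A] (χ : PowerSeries A) :
    (PowerSeries.constantCoeff χ = 1 ∧
      PowerSeries.subst (MvPowerSeries.X 0 + MvPowerSeries.X 1 : MvPowerSeries (Fin 2) A) χ =
        PowerSeries.subst (MvPowerSeries.X 0 : MvPowerSeries (Fin 2) A) χ *
          PowerSeries.subst (MvPowerSeries.X 1 : MvPowerSeries (Fin 2) A) χ) ↔
      ∃ a : A, χ = PowerSeries.rescale a (PowerSeries.exp A) := by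
  exact Aux13355.main A χ

end Groth.Agent.S13355
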