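import Mathlib
import Groth.Statements.S13356
import Groth.Agent.Lib.Helper29.CharPChar
import Groth.Agent.Lib.Helper29.CharPCharPS

set_option autoImplicit false
universe u
open GaDual

namespace Aux13356

open Groth.Agent.Lib.Helper29.CharPChar

theorem main (A : Type u) [CommRing A] [Algebra ℚ A] (f : Polynomial A) :
    (f.eval 0 = 1 ∧
      Polynomial.aeval (MvPolynomial.X 0 + MvPolynomial.X 1 : MvPolynomial (Fin 2) A) f =
        Polynomial.aeval (MvPolynomial.X 0 : MvPolynomial (Fin 2) A) f *
          Polynomial.aeval (MvPolynomial.X 1 : MvPolynomial (Fin 2) A) f) ↔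
      ∃ a : A, IsNilpotent a ∧ (f : PowerSeries A) = PowerSeries.rescale a (PowerSeries.exp A) := by
  constructor
  · rintro ⟨h0, hmul⟩
    have hstar := star_of_mul f hmul
    have h0' : f.coeff 0 = 1 := by rw [Polynomial.coeff_zero_eq_eval_zero, h0]
    have hf : ∀ k : ℕ, ((k.factorial : ℕ) : A) * f.coeff k = f.coeff 1 ^ k :=
      fact_mul_of_star (fun k => f.coeff k) h0' hstar
    refine ⟨f.coeff 1, ⟨f.natDegree + 1, ?_⟩, ?_⟩
    · rw [← hf (f.natDegree + 1),
        Polynomial.coeff_eq_zero_of_natDegree_lt (Nat.lt_succ_self _), mul_zero]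
    · ext k
      rw [Polynomial.coeff_coe, PowerSeries.coeff_rescale, PowerSeries.coeff_exp]
      exact coeff_of_fact_mul (fun k => f.coeff k) hf k
  · rintro ⟨a, ⟨N, hN⟩, hfa⟩
    have hc : ∀ k, f.coeff k = a ^ k * algebraMap ℚ A (1 / (k.factorial : ℚ)) := by
      intro k
      rw [← Polynomial.coeff_coe, hfa, PowerSeries.coeff_rescale, PowerSeries.coeff_exp]
    constructor
    · rw [← Polynomial.coeff_zero_eq_eval_zero, hc]
      simp
    · refine mul_of_star f (fun i j => ?_) _ _
      rw [hc, hc, hc]
      exact exp_star a i j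

end Aux13356

namespace Groth.Agent.S13356

/-- Over a commutative algebra A over the rationals, the polynomials f with f(0) = 1 and f(X+Y) =
f(X)f(Y) (the characters of the additive group into the multiplicative group over A) are exactly the
polynomials exp(aX) with a in A nilpotent. -/
theorem result (A : Type u) [CommRing A] [Algebra ℚ A] (f : Polynomial A) :
    (f.eval 0 = 1 ∧
      Polynomial.aeval (MvPolynomial.X 0 + MvPolynomial.X 1 : MvPolynomial (Fin 2) A) f =
        Polynomial.aeval (MvPolynomial.X 0 : MvPolynomial (Fin 2) A) f *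
          Polynomial.aeval (MvPolynomial.X 1 : MvPolynomial (Fin 2) A) f) ↔
      ∃ a : A, IsNilpotent a ∧ (f : PowerSeries A) = PowerSeries.rescale a (PowerSeries.exp A) := by
  exact Aux13356.main A f

end Groth.Agent.S13356
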