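import Mathlib
import Groth.Statements.S13357
import Groth.Agent.Lib.Helper29.CharPChar

set_option autoImplicit false
universe u
open GaDual

namespace Aux13357

open Polynomial
open Groth.Agent.Lib.Helper29.CharPChar

theorem main (p : ℕ) [hp : Fact p.Prime] (A : Type u) [CommRing A] [CharP A p]
    (f : Polynomial A) :
    (f.eval 0 = 1 ∧
      Polynomial.aeval (MvPolynomial.X 0 + MvPolynomial.X 1 : MvPolynomial (Fin 2) A) f =
        Polynomial.aeval (MvPolynomial.X 0 : MvPolynomial (Fin 2) A) f *
          Polynomial.aeval (MvPolynomial.X 1 : MvPolynomial (Fin 2) A) f) ↔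
      ∃ (N : ℕ) (a : ℕ → A), (∀ n, a n ^ p = 0) ∧
        f = ∏ n ∈ Finset.range N, ∑ j ∈ Finset.range p,
          Polynomial.C (Ring.inverse (j.factorial : A) * a n ^ j) * Polynomial.X ^ (j * p ^ n) := by
  constructor
  · rintro ⟨h0, hmul⟩
    have hc : ∀ B, IsChar (fun k => f.coeff k) B := fun B =>
      ⟨by show f.coeff 0 = 1; rw [Polynomial.coeff_zero_eq_eval_zero, h0],
        fun i j _ _ => star_of_mul f hmul i j⟩
    refine ⟨f.natDegree, fun n => f.coeff (p ^ n), fun n => ?_, ?_⟩
    · exact IsChar.pow_p_pow_eq_zero n (n + 1) _ (hc _) (Nat.lt_succ_self n)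
    · calc f = ∑ k ∈ Finset.range (p ^ f.natDegree), C (f.coeff k) * X ^ k :=
            Polynomial.as_sum_range_C_mul_X_pow' f (Nat.lt_pow_self hp.out.one_lt)
        _ = _ := IsChar.sum_eq_prod f.natDegree _ (hc _)
  · rintro ⟨N, a, ha, rfl⟩
    constructor
    · rw [Polynomial.eval_prod]
      exact Finset.prod_eq_one fun n _ => Efac_eval_zero (a n) n
    · rw [map_prod, map_prod, map_prod, ← Finset.prod_mul_distrib]
      exact Finset.prod_congr rfl fun n _ => Efac_mul (a n) (ha n) n _ _

end Aux13357

namespace Groth.Agent.S13357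

/-- Over a commutative algebra A of prime characteristic p, the polynomials f with f(0) = 1 and f(X+Y) =
f(X)f(Y) (the characters of the additive group into the multiplicative group over A) are exactly the
finite products of truncated exponentials exp_p(a_n X^(p^n)) = Σ_{j<p} a_n^j X^(j p^n)/j! with a_n^p
= 0. -/
theorem result (p : ℕ) [Fact p.Prime] (A : Type u) [CommRing A] [CharP A p]
    (f : Polynomial A) :
    (f.eval 0 = 1 ∧
      Polynomial.aeval (MvPolynomial.X 0 + MvPolynomial.X 1 : MvPolynomial (Fin 2) A) f =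
        Polynomial.aeval (MvPolynomial.X 0 : MvPolynomial (Fin 2) A) f *
          Polynomial.aeval (MvPolynomial.X 1 : MvPolynomial (Fin 2) A) f) ↔
      ∃ (N : ℕ) (a : ℕ → A), (∀ n, a n ^ p = 0) ∧
        f = ∏ n ∈ Finset.range N, ∑ j ∈ Finset.range p,
          Polynomial.C (Ring.inverse (j.factorial : A) * a n ^ j) * Polynomial.X ^ (j * p ^ n) := by
  exact Aux13357.main p A f

end Groth.Agent.S13357
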