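import Mathlib
import Groth.Statements.S13358

set_option autoImplicit false
universe u
open GaDual

namespace Groth.Agent.S13358

open MvPolynomial

/-! ### exponent vectors -/

noncomputable def e2 (i l : ℕ) : Fin 2 →₀ ℕ := Finsupp.single 0 i + Finsupp.single 1 l

noncomputable def e3 (i j k : ℕ) : Fin 3 →₀ ℕ :=
  Finsupp.single 0 i + Finsupp.single 1 j + Finsupp.single 2 k

@[simp] lemma e2_zero (i l : ℕ) : e2 i l 0 = i := by simp [e2, Finsupp.single_apply]
@[simp] lemma e2_one (i l : ℕ) : e2 i l 1 = l := by simp [e2, Finsupp.single_apply]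
@[simp] lemma e3_zero (i j k : ℕ) : e3 i j k 0 = i := by simp [e3, Finsupp.single_apply]
@[simp] lemma e3_one (i j k : ℕ) : e3 i j k 1 = j := by simp [e3, Finsupp.single_apply]
@[simp] lemma e3_two (i j k : ℕ) : e3 i j k 2 = k := by simp [e3, Finsupp.single_apply]

lemma e2_eta (u : Fin 2 →₀ ℕ) : e2 (u 0) (u 1) = u :=
  Finsupp.ext (Fin.forall_fin_two.2 ⟨e2_zero _ _, e2_one _ _⟩)

lemma e2_inj {i l i' l' : ℕ} : e2 i l = e2 i' l' ↔ i = i' ∧ l = l' := by
  constructor
  · intro h
    have h0 := DFunLike.congr_fun h 0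
    have h1 := DFunLike.congr_fun h 1
    rw [e2_zero, e2_zero] at h0
    rw [e2_one, e2_one] at h1
    exact ⟨h0, h1⟩
  · rintro ⟨rfl, rfl⟩
    rfl

lemma e3_inj {i j k i' j' k' : ℕ} : e3 i j k = e3 i' j' k' ↔ i = i' ∧ j = j' ∧ k = k' := by
  constructor
  · intro h
    have h0 := DFunLike.congr_fun h 0
    have h1 := DFunLike.congr_fun h 1
    have h2 := DFunLike.congr_fun h 2
    rw [e3_zero, e3_zero] at h0
    rw [e3_one, e3_one] at h1
    rw [e3_two, e3_two] at h2
    exact ⟨h0, h1, h2⟩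
  · rintro ⟨rfl, rfl, rfl⟩
    rfl

lemma vec2_0 {α : Type*} (a b : α) : (![a, b] : Fin 2 → α) 0 = a := rfl
lemma vec2_1 {α : Type*} (a b : α) : (![a, b] : Fin 2 → α) 1 = b := rfl
lemma vec3_0 {α : Type*} (a b c : α) : (![a, b, c] : Fin 3 → α) 0 = a := rfl
lemma vec3_1 {α : Type*} (a b c : α) : (![a, b, c] : Fin 3 → α) 1 = b := rfl
lemma vec3_2 {α : Type*} (a b c : α) : (![a, b, c] : Fin 3 → α) 2 = c := rfl

section Coeffs

variable {R : Type u} [CommRing R]

lemma mon2 (i l : ℕ) : (X 0 ^ i * X 1 ^ l : MvPolynomial (Fin 2) R) = monomial (e2 i l) 1 := by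
  rw [e2, X_pow_eq_monomial, X_pow_eq_monomial, monomial_mul, one_mul]

lemma mon3 (i j k : ℕ) :
    (X 0 ^ i * X 1 ^ j * X 2 ^ k : MvPolynomial (Fin 3) R) = monomial (e3 i j k) 1 := by
  rw [e3, X_pow_eq_monomial, X_pow_eq_monomial, X_pow_eq_monomial, monomial_mul, monomial_mul,
    one_mul, one_mul]

lemma coeff_mon2 (i l a b : ℕ) (r : R) :
    coeff (e2 i l) (monomial (e2 a b) r) = if a = i ∧ b = l then r else 0 := by
  rw [coeff_monomial]
  by_cases h : a = i ∧ b = l
  · rw [if_pos h, if_pos (e2_inj.2 h)]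
  · rw [if_neg h, if_neg (fun h' => h (e2_inj.1 h'))]

lemma coeff_mon3 (i j k a b c : ℕ) (r : R) :
    coeff (e3 i j k) (monomial (e3 a b c) r) = if a = i ∧ b = j ∧ c = k then r else 0 := by
  rw [coeff_monomial]
  by_cases h : a = i ∧ b = j ∧ c = k
  · rw [if_pos h, if_pos (e3_inj.2 h)]
  · rw [if_neg h, if_neg (fun h' => h (e3_inj.1 h'))]

lemma sum_binom (n x y : ℕ) :
    (∑ t ∈ Finset.range (n + 1), if t = x ∧ n - t = y then ((n.choose t : ℕ) : R) else 0) =
      if n = x + y then (((x + y).choose x : ℕ) : R) else 0 := by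
  by_cases h : n = x + y
  · subst h
    rw [if_pos rfl, Finset.sum_eq_single x]
    · rw [if_pos ⟨rfl, Nat.add_sub_cancel_left x y⟩]
    · intro t _ ht
      exact if_neg (fun h' => ht h'.1)
    · intro hx
      exact absurd (Finset.mem_range.2 (by omega)) hx
  · rw [if_neg h]
    apply Finset.sum_eq_zero
    intro t ht
    rw [Finset.mem_range] at ht
    exact if_neg (fun h' => h (by omega))

lemma K1 (i j k a b : ℕ) :
    coeff (e3 i j k) (X 0 ^ a * (X 1 + X 2) ^ b : MvPolynomial (Fin 3) R) =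
      if a = i ∧ b = j + k then (((j + k).choose j : ℕ) : R) else 0 := by
  have h : (X 0 ^ a * (X 1 + X 2) ^ b : MvPolynomial (Fin 3) R) =
      ∑ t ∈ Finset.range (b + 1), monomial (e3 a t (b - t)) ((b.choose t : ℕ) : R) := by
    rw [add_pow, Finset.mul_sum]
    refine Finset.sum_congr rfl (fun t _ => ?_)
    rw [← map_natCast (C : R →+* MvPolynomial (Fin 3) R), ← mul_assoc, ← mul_assoc, mon3,
      mul_comm, C_mul_monomial, mul_one]
  rw [h, coeff_sum]
  simp only [coeff_mon3]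
  by_cases ha : a = i
  · have e : ∀ t, (if a = i ∧ t = j ∧ b - t = k then ((b.choose t : ℕ) : R) else 0) =
        if t = j ∧ b - t = k then ((b.choose t : ℕ) : R) else 0 := fun t =>
      if_congr (and_iff_right ha) rfl rfl
    simp only [e]
    rw [sum_binom]
    exact (if_congr (and_iff_right ha) rfl rfl).symm
  · rw [if_neg (fun h' => ha h'.1)]
    exact Finset.sum_eq_zero (fun t _ => if_neg (fun h' => ha h'.1))

lemma K3 (i j k a b : ℕ) :
    coeff (e3 i j k) ((X 0 + X 1) ^ a * X 2 ^ b : MvPolynomial (Fin 3) R) =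
      if a = i + j ∧ b = k then (((i + j).choose i : ℕ) : R) else 0 := by
  have h : ((X 0 + X 1) ^ a * X 2 ^ b : MvPolynomial (Fin 3) R) =
      ∑ s ∈ Finset.range (a + 1), monomial (e3 s (a - s) b) ((a.choose s : ℕ) : R) := by
    rw [add_pow, Finset.sum_mul]
    refine Finset.sum_congr rfl (fun s _ => ?_)
    rw [← map_natCast (C : R →+* MvPolynomial (Fin 3) R), mul_right_comm, mon3, mul_comm,
      C_mul_monomial, mul_one]
  rw [h, coeff_sum]
  simp only [coeff_mon3]
  by_cases hb : b = k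
  · have e : ∀ s, (if s = i ∧ a - s = j ∧ b = k then ((a.choose s : ℕ) : R) else 0) =
        if s = i ∧ a - s = j then ((a.choose s : ℕ) : R) else 0 := fun s =>
      if_congr ⟨fun h' => ⟨h'.1, h'.2.1⟩, fun h' => ⟨h'.1, h'.2, hb⟩⟩ rfl rfl
    simp only [e]
    rw [sum_binom]
    exact if_congr ⟨fun h' => ⟨h', hb⟩, fun h' => h'.1⟩ rfl rfl
  · rw [if_neg (fun h' => hb h'.2)]
    exact Finset.sum_eq_zero (fun s _ => if_neg (fun h' => hb h'.2.2))

lemma K2 (i j k a b : ℕ) :
    coeff (e3 i j k) (X 1 ^ a * X 2 ^ b : MvPolynomial (Fin 3) R) =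
      if i = 0 then (if a = j ∧ b = k then 1 else 0) else 0 := by
  have h : (X 1 ^ a * X 2 ^ b : MvPolynomial (Fin 3) R) = X 0 ^ 0 * X 1 ^ a * X 2 ^ b := by
    rw [pow_zero, one_mul]
  rw [h, mon3, coeff_mon3]
  by_cases hi : i = 0
  · rw [if_pos hi]
    exact if_congr (and_iff_right hi.symm) rfl rfl
  · rw [if_neg hi, if_neg (fun h' => hi h'.1.symm)]

lemma K4 (i j k a b : ℕ) :
    coeff (e3 i j k) (X 0 ^ a * X 1 ^ b : MvPolynomial (Fin 3) R) =
      if k = 0 then (if a = i ∧ b = j then 1 else 0) else 0 := by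
  have h : (X 0 ^ a * X 1 ^ b : MvPolynomial (Fin 3) R) = X 0 ^ a * X 1 ^ b * X 2 ^ 0 := by
    rw [pow_zero, mul_one]
  rw [h, mon3, coeff_mon3]
  by_cases hk : k = 0
  · rw [if_pos hk]
    exact if_congr ⟨fun h' => ⟨h'.1, h'.2.1⟩, fun h' => ⟨h'.1, h'.2, hk.symm⟩⟩ rfl rfl
  · rw [if_neg hk, if_neg (fun h' => hk h'.2.2.symm)]

lemma aeval_mon2 {B : Type*} [CommRing B] [Algebra R B] (f0 f1 : B) (x y : ℕ) (a : R) :
    aeval ![f0, f1] (monomial (e2 x y) a) = algebraMap R B a * (f0 ^ x * f1 ^ y) := by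
  rw [aeval_monomial, Finsupp.prod_fintype _ _ (fun _ => pow_zero _), Fin.prod_univ_two, e2_zero,
    e2_one] <;> rfl

lemma coeff_D (F : MvPolynomial (Fin 2) R) (i j k : ℕ) :
    coeff (e3 i j k)
      (aeval ![(X 0 : MvPolynomial (Fin 3) R), X 1 + X 2] F
        + aeval ![(X 1 : MvPolynomial (Fin 3) R), X 2] F
        - aeval ![(X 0 + X 1 : MvPolynomial (Fin 3) R), X 2] F
        - aeval ![(X 0 : MvPolynomial (Fin 3) R), X 1] F) =
      coeff (e2 i (j + k)) F * (((j + k).choose j : ℕ) : R)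
        + (if i = 0 then coeff (e2 j k) F else 0)
        - coeff (e2 (i + j) k) F * (((i + j).choose i : ℕ) : R)
        - (if k = 0 then coeff (e2 i j) F else 0) := by
  induction F using MvPolynomial.induction_on' with
  | monomial u a =>
    obtain ⟨x, y, rfl⟩ : ∃ x y, u = e2 x y := ⟨u 0, u 1, (e2_eta u).symm⟩
    rw [aeval_mon2, aeval_mon2, aeval_mon2, aeval_mon2, MvPolynomial.algebraMap_eq, coeff_sub,
      coeff_sub, coeff_add, coeff_C_mul, coeff_C_mul, coeff_C_mul, coeff_C_mul, K1, K2, K3, K4,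
      coeff_mon2, coeff_mon2, coeff_mon2, coeff_mon2]
    simp only [mul_ite, mul_one, mul_zero, ite_mul, zero_mul]
  | add p q hp hq =>
    simp only [map_add, coeff_add, coeff_sub] at hp hq ⊢
    split_ifs at hp hq ⊢ <;> linear_combination hp + hq

lemma coeff_swap (F : MvPolynomial (Fin 2) R) (i l : ℕ) :
    coeff (e2 i l) (aeval ![(X 1 : MvPolynomial (Fin 2) R), X 0] F) = coeff (e2 l i) F := by
  induction F using MvPolynomial.induction_on' with
  | monomial u a =>
    obtain ⟨x, y, rfl⟩ : ∃ x y, u = e2 x y := ⟨u 0, u 1, (e2_eta u).symm⟩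
    rw [aeval_mon2, MvPolynomial.algebraMap_eq, coeff_C_mul,
      mul_comm (X 1 ^ x : MvPolynomial (Fin 2) R) (X 0 ^ y), mon2, coeff_mon2, coeff_mon2,
      mul_ite, mul_one, mul_zero]
    exact if_congr and_comm rfl rfl
  | add p q hp hq => rw [map_add, coeff_add, coeff_add, hp, hq]

lemma K5 (i l n : ℕ) :
    coeff (e2 i l) ((X 0 + X 1) ^ n : MvPolynomial (Fin 2) R) =
      if n = i + l then (((i + l).choose i : ℕ) : R) else 0 := by
  have h : ((X 0 + X 1) ^ n : MvPolynomial (Fin 2) R) =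
      ∑ t ∈ Finset.range (n + 1), monomial (e2 t (n - t)) ((n.choose t : ℕ) : R) := by
    rw [add_pow]
    refine Finset.sum_congr rfl (fun t _ => ?_)
    rw [← map_natCast (C : R →+* MvPolynomial (Fin 2) R), mon2, mul_comm, C_mul_monomial,
      mul_one]
  rw [h, coeff_sum]
  simp only [coeff_mon2]
  exact sum_binom n i l

lemma coeff_aeval_add (G : Polynomial R) (i l : ℕ) :
    coeff (e2 i l) (Polynomial.aeval (X 0 + X 1 : MvPolynomial (Fin 2) R) G) =
      G.coeff (i + l) * (((i + l).choose i : ℕ) : R) := by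
  induction G using Polynomial.induction_on' with
  | add p q hp hq => rw [map_add, coeff_add, hp, hq, Polynomial.coeff_add, add_mul]
  | monomial n r =>
    rw [Polynomial.aeval_monomial, MvPolynomial.algebraMap_eq, coeff_C_mul, K5,
      Polynomial.coeff_monomial]
    by_cases h : n = i + l
    · rw [if_pos h, if_pos h]
    · rw [if_neg h, if_neg h, mul_zero, zero_mul]

lemma coeff_aeval_X0 (G : Polynomial R) (i l : ℕ) :
    coeff (e2 i l) (Polynomial.aeval (X 0 : MvPolynomial (Fin 2) R) G) =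
      (if l = 0 then 1 else 0) * G.coeff i := by
  induction G using Polynomial.induction_on' with
  | add p q hp hq => rw [map_add, coeff_add, hp, hq, Polynomial.coeff_add, mul_add]
  | monomial n r =>
    have h : (X 0 ^ n : MvPolynomial (Fin 2) R) = X 0 ^ n * X 1 ^ 0 := by rw [pow_zero, mul_one]
    rw [Polynomial.aeval_monomial, MvPolynomial.algebraMap_eq, coeff_C_mul, h, mon2, coeff_mon2,
      Polynomial.coeff_monomial]
    by_cases hl : l = 0
    · subst hl
      by_cases hn : n = i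
      · rw [if_pos ⟨hn, rfl⟩, if_pos (rfl : (0 : ℕ) = 0), if_pos hn, mul_one, one_mul]
      · rw [if_neg (fun h' => hn h'.1), if_pos (rfl : (0 : ℕ) = 0), if_neg hn, mul_zero, mul_zero]
    · rw [if_neg (fun h' => hl h'.2.symm), if_neg hl, mul_zero, zero_mul]

lemma coeff_aeval_X1 (G : Polynomial R) (i l : ℕ) :
    coeff (e2 i l) (Polynomial.aeval (X 1 : MvPolynomial (Fin 2) R) G) =
      (if i = 0 then 1 else 0) * G.coeff l := by
  induction G using Polynomial.induction_on' with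
  | add p q hp hq => rw [map_add, coeff_add, hp, hq, Polynomial.coeff_add, mul_add]
  | monomial n r =>
    have h : (X 1 ^ n : MvPolynomial (Fin 2) R) = X 0 ^ 0 * X 1 ^ n := by rw [pow_zero, one_mul]
    rw [Polynomial.aeval_monomial, MvPolynomial.algebraMap_eq, coeff_C_mul, h, mon2, coeff_mon2,
      Polynomial.coeff_monomial]
    by_cases hi : i = 0
    · subst hi
      by_cases hn : n = l
      · rw [if_pos ⟨rfl, hn⟩, if_pos (rfl : (0 : ℕ) = 0), if_pos hn, mul_one, one_mul]
      · rw [if_neg (fun h' => hn h'.2), if_pos (rfl : (0 : ℕ) = 0), if_neg hn, mul_zero, mul_zero]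
    · rw [if_neg (fun h' => hi h'.1.symm), if_neg hi, mul_zero, zero_mul]

end Coeffs

/-! ### the polynomial `S` and its coefficients -/

noncomputable def Spoly (p : ℕ) (R : Type u) [CommRing R] : MvPolynomial (Fin 2) R :=
  ∑ j ∈ Finset.Ioo 0 p, C ((p.choose j / p : ℕ) : R) * X 0 ^ j * X 1 ^ (p - j)

noncomputable def sig (p : ℕ) (R : Type u) [CommRing R] (q i l : ℕ) : R :=
  ∑ j ∈ Finset.Ioo 0 p, if q * j = i ∧ q * (p - j) = l then ((p.choose j / p : ℕ) : R) else 0

lemma K7 (p : ℕ) {R : Type u} [CommRing R] (q i l : ℕ) :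
    coeff (e2 i l) (aeval ![(X 0 ^ q : MvPolynomial (Fin 2) R), X 1 ^ q] (Spoly p R)) =
      sig p R q i l := by
  rw [Spoly, sig, map_sum, coeff_sum]
  refine Finset.sum_congr rfl (fun j _ => ?_)
  rw [map_mul, map_mul, map_pow, map_pow, aeval_C, aeval_X, aeval_X, vec2_0, vec2_1,
    MvPolynomial.algebraMap_eq, ← pow_mul, ← pow_mul, mul_assoc, mon2, coeff_C_mul, coeff_mon2,
    mul_ite, mul_one, mul_zero]

/-! ### `S` as a polynomial function -/

noncomputable def Sval (p : ℕ) {B : Type*} [CommRing B] (x y : B) : B :=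
  ∑ k ∈ Finset.Ioo 0 p, x ^ k * y ^ (p - k) * ((p.choose k / p : ℕ) : B)

lemma map_Sval (p : ℕ) {A B : Type*} [CommRing A] [CommRing B] {F : Type*} [FunLike F A B]
    [RingHomClass F A B] (f : F) (x y : A) : f (Sval p x y) = Sval p (f x) (f y) := by
  simp only [Sval, map_sum, map_mul, map_pow, map_natCast]

lemma add_pow_Sval (p : ℕ) [hp : Fact p.Prime] {B : Type*} [CommRing B] (x y : B) :
    (x + y) ^ p = x ^ p + y ^ p + (p : B) * Sval p x y :=
  add_pow_prime_eq' hp.out x y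

lemma natCast_p_ne_zero (p : ℕ) [hp : Fact p.Prime] :
    ((p : ℕ) : MvPolynomial (Fin 3) ℤ) ≠ 0 := by
  intro h0
  rw [← map_natCast (C : ℤ →+* MvPolynomial (Fin 3) ℤ), MvPolynomial.C_eq_zero] at h0
  exact hp.out.ne_zero (by exact_mod_cast h0)

lemma Sval_coc (p : ℕ) [hp : Fact p.Prime] {B : Type*} [CommRing B] (x y z : B) :
    Sval p x (y + z) + Sval p y z - Sval p (x + y) z - Sval p x y = 0 := by
  have huniv : Sval p (X 0 : MvPolynomial (Fin 3) ℤ) (X 1 + X 2)
      + Sval p (X 1 : MvPolynomial (Fin 3) ℤ) (X 2)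
      - Sval p ((X 0 : MvPolynomial (Fin 3) ℤ) + X 1) (X 2)
      - Sval p (X 0 : MvPolynomial (Fin 3) ℤ) (X 1) = 0 := by
    have e1 := add_pow_Sval p (X 0 : MvPolynomial (Fin 3) ℤ) (X 1 + X 2)
    have e2 := add_pow_Sval p (X 1 : MvPolynomial (Fin 3) ℤ) (X 2)
    have e3 := add_pow_Sval p ((X 0 : MvPolynomial (Fin 3) ℤ) + X 1) (X 2)
    have e4 := add_pow_Sval p (X 0 : MvPolynomial (Fin 3) ℤ) (X 1)
    have hmul : ((p : ℕ) : MvPolynomial (Fin 3) ℤ) *
        (Sval p (X 0 : MvPolynomial (Fin 3) ℤ) (X 1 + X 2)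
          + Sval p (X 1 : MvPolynomial (Fin 3) ℤ) (X 2)
          - Sval p ((X 0 : MvPolynomial (Fin 3) ℤ) + X 1) (X 2)
          - Sval p (X 0 : MvPolynomial (Fin 3) ℤ) (X 1)) = 0 := by
      linear_combination -e1 - e2 + e3 + e4
    exact (mul_eq_zero.1 hmul).resolve_left (natCast_p_ne_zero p)
  have h := congrArg (aeval ![x, y, z] : MvPolynomial (Fin 3) ℤ →ₐ[ℤ] B) huniv
  simp only [map_sub, map_add, map_Sval, map_zero, aeval_X, vec3_0, vec3_1, vec3_2] at h
  exact h

lemma Sval_symm (p : ℕ) [hp : Fact p.Prime] {B : Type*} [CommRing B] (x y : B) :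
    Sval p x y = Sval p y x := by
  have huniv : Sval p (X 0 : MvPolynomial (Fin 3) ℤ) (X 1) =
      Sval p (X 1 : MvPolynomial (Fin 3) ℤ) (X 0) := by
    have e1 := add_pow_Sval p (X 0 : MvPolynomial (Fin 3) ℤ) (X 1)
    have e2 := add_pow_Sval p (X 1 : MvPolynomial (Fin 3) ℤ) (X 0)
    have hmul : ((p : ℕ) : MvPolynomial (Fin 3) ℤ) *
        (Sval p (X 0 : MvPolynomial (Fin 3) ℤ) (X 1)
          - Sval p (X 1 : MvPolynomial (Fin 3) ℤ) (X 0)) = 0 := by
      linear_combination -e1 + e2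
    exact sub_eq_zero.1 ((mul_eq_zero.1 hmul).resolve_left (natCast_p_ne_zero p))
  have h := congrArg (aeval ![x, y, y] : MvPolynomial (Fin 3) ℤ →ₐ[ℤ] B) huniv
  simp only [map_Sval, aeval_X, vec3_0, vec3_1] at h
  exact h

lemma aeval_Spoly (p : ℕ) {R : Type u} [CommRing R] {B : Type*} [CommRing B] [Algebra R B]
    (x y : B) : aeval ![x, y] (Spoly p R) = Sval p x y := by
  rw [Spoly, Sval, map_sum]
  refine Finset.sum_congr rfl (fun j _ => ?_)
  rw [map_mul, map_mul, map_pow, map_pow, aeval_C, aeval_X, aeval_X, vec2_0, vec2_1,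
    map_natCast]
  ring

/-! ### the backward direction -/

section Backward

variable (p : ℕ) [hp : Fact p.Prime] (R : Type u) [CommRing R] [CharP R p]

lemma phi_delta {R : Type u} [CommRing R] {B : Type*} [CommRing B] [Algebra R B]
    (φ : MvPolynomial (Fin 2) R →ₐ[R] B) (G : Polynomial R) :
    φ (Polynomial.aeval (X 0 + X 1 : MvPolynomial (Fin 2) R) G
        - Polynomial.aeval (X 0 : MvPolynomial (Fin 2) R) G
        - Polynomial.aeval (X 1 : MvPolynomial (Fin 2) R) G) =
      Polynomial.aeval (φ (X 0) + φ (X 1)) G - Polynomial.aeval (φ (X 0)) G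
        - Polynomial.aeval (φ (X 1)) G := by
  rw [map_sub, map_sub, ← Polynomial.aeval_algHom_apply, ← Polynomial.aeval_algHom_apply,
    ← Polynomial.aeval_algHom_apply, map_add]

noncomputable def Dlin : MvPolynomial (Fin 2) R →ₗ[R] MvPolynomial (Fin 3) R :=
  (aeval ![(X 0 : MvPolynomial (Fin 3) R), X 1 + X 2]).toLinearMap
    + (aeval ![(X 1 : MvPolynomial (Fin 3) R), X 2]).toLinearMap
    - (aeval ![(X 0 + X 1 : MvPolynomial (Fin 3) R), X 2]).toLinearMap
    - (aeval ![(X 0 : MvPolynomial (Fin 3) R), X 1]).toLinearMap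

lemma Dlin_apply (F : MvPolynomial (Fin 2) R) :
    Dlin R F = aeval ![(X 0 : MvPolynomial (Fin 3) R), X 1 + X 2] F
        + aeval ![(X 1 : MvPolynomial (Fin 3) R), X 2] F
        - aeval ![(X 0 + X 1 : MvPolynomial (Fin 3) R), X 2] F
        - aeval ![(X 0 : MvPolynomial (Fin 3) R), X 1] F := rfl

theorem backward (F : MvPolynomial (Fin 2) R) (G : Polynomial R) (N : ℕ) (r : ℕ → R)
    (hF : F = Polynomial.aeval (X 0 + X 1 : MvPolynomial (Fin 2) R) G
          - Polynomial.aeval (X 0 : MvPolynomial (Fin 2) R) G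
          - Polynomial.aeval (X 1 : MvPolynomial (Fin 2) R) G
        + ∑ i ∈ Finset.range N, C (r i) *
            aeval ![(X 0 : MvPolynomial (Fin 2) R) ^ p ^ i, X 1 ^ p ^ i] (Spoly p R)) :
    aeval ![(X 1 : MvPolynomial (Fin 2) R), X 0] F = F ∧
      aeval ![(X 0 : MvPolynomial (Fin 3) R), X 1 + X 2] F
        + aeval ![(X 1 : MvPolynomial (Fin 3) R), X 2] F
        - aeval ![(X 0 + X 1 : MvPolynomial (Fin 3) R), X 2] F
        - aeval ![(X 0 : MvPolynomial (Fin 3) R), X 1] F = 0 := by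
  have hsymG : aeval ![(X 1 : MvPolynomial (Fin 2) R), X 0]
      (Polynomial.aeval (X 0 + X 1 : MvPolynomial (Fin 2) R) G
          - Polynomial.aeval (X 0 : MvPolynomial (Fin 2) R) G
          - Polynomial.aeval (X 1 : MvPolynomial (Fin 2) R) G) =
      Polynomial.aeval (X 0 + X 1 : MvPolynomial (Fin 2) R) G
          - Polynomial.aeval (X 0 : MvPolynomial (Fin 2) R) G
          - Polynomial.aeval (X 1 : MvPolynomial (Fin 2) R) G := by
    rw [phi_delta, aeval_X, aeval_X, vec2_0, vec2_1,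
      add_comm (X 1 : MvPolynomial (Fin 2) R) (X 0)]
    ring
  have hsymS : ∀ i : ℕ, aeval ![(X 1 : MvPolynomial (Fin 2) R), X 0]
      (aeval ![(X 0 : MvPolynomial (Fin 2) R) ^ p ^ i, X 1 ^ p ^ i] (Spoly p R)) =
      aeval ![(X 0 : MvPolynomial (Fin 2) R) ^ p ^ i, X 1 ^ p ^ i] (Spoly p R) := by
    intro i
    rw [aeval_Spoly, map_Sval, map_pow, map_pow, aeval_X, aeval_X, vec2_0, vec2_1, Sval_symm]
  have hcocG : Dlin R (Polynomial.aeval (X 0 + X 1 : MvPolynomial (Fin 2) R) G
          - Polynomial.aeval (X 0 : MvPolynomial (Fin 2) R) G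
          - Polynomial.aeval (X 1 : MvPolynomial (Fin 2) R) G) = 0 := by
    rw [Dlin_apply, phi_delta, phi_delta, phi_delta, phi_delta]
    simp only [aeval_X, vec2_0, vec2_1]
    rw [add_assoc (X 0 : MvPolynomial (Fin 3) R) (X 1) (X 2)]
    ring
  have hcocS : ∀ i : ℕ, Dlin R
      (aeval ![(X 0 : MvPolynomial (Fin 2) R) ^ p ^ i, X 1 ^ p ^ i] (Spoly p R)) = 0 := by
    intro i
    rw [aeval_Spoly, Dlin_apply]
    simp only [map_Sval, map_pow, aeval_X, vec2_0, vec2_1]
    rw [add_pow_char_pow, add_pow_char_pow]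
    exact Sval_coc p _ _ _
  constructor
  · rw [hF, map_add, map_sum, hsymG]
    congr 1
    refine Finset.sum_congr rfl (fun i _ => ?_)
    rw [map_mul, aeval_C, hsymS i, MvPolynomial.algebraMap_eq]
  · rw [← Dlin_apply, hF, map_add, map_sum, hcocG, zero_add]
    apply Finset.sum_eq_zero
    intro i _
    rw [C_mul', map_smul, hcocS i, smul_zero]

end Backward

/-! ### coefficient combinatorics -/

def IsSC {R : Type u} [CommRing R] (a : ℕ → ℕ → R) : Prop :=
  (∀ i l, a i l = a l i) ∧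
  ∀ i j k, a i (j + k) * (((j + k).choose j : ℕ) : R) + (if i = 0 then a j k else 0)
    - a (i + j) k * (((i + j).choose i : ℕ) : R) - (if k = 0 then a i j else 0) = 0

section IsSCBasic

variable {R : Type u} [CommRing R] {a : ℕ → ℕ → R}

lemma IsSC.zero_left (h : IsSC a) (k : ℕ) (hk : k ≠ 0) : a 0 k = 0 := by
  have h2 := h.2 0 0 k
  rw [if_pos (rfl : (0 : ℕ) = 0), if_neg hk] at h2
  simp only [zero_add, Nat.choose_zero_right, Nat.cast_one, mul_one] at h2
  linear_combination h2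

lemma IsSC.zero_right (h : IsSC a) (k : ℕ) (hk : k ≠ 0) : a k 0 = 0 := by
  rw [h.1 k 0]
  exact h.zero_left k hk

lemma IsSC.rel_one (h : IsSC a) (j k : ℕ) (hk : k ≠ 0) :
    ((j + 1 : ℕ) : R) * a (j + 1) k = a 1 (j + k) * (((j + k).choose j : ℕ) : R) := by
  have h2 := h.2 1 j k
  rw [if_neg Nat.one_ne_zero, if_neg hk, Nat.choose_one_right, add_comm 1 j] at h2
  linear_combination -h2

end IsSCBasic

section Comb

variable (p : ℕ) [hp : Fact p.Prime] (R : Type u) [CommRing R] [CharP R p]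

lemma isUnit_natCast_of_not_dvd (m : ℕ) (h : ¬ p ∣ m) : IsUnit (m : R) := by
  have h1 : (m : ZMod p) ≠ 0 := fun h0 => h ((ZMod.natCast_eq_zero_iff m p).1 h0)
  have h2 : IsUnit (m : ZMod p) := isUnit_iff_ne_zero.2 h1
  have h3 := h2.map (ZMod.castHom (dvd_refl p) R)
  rwa [map_natCast] at h3

lemma choose_mul_mul (n i : ℕ) :
    (((p * n).choose (p * i) : ℕ) : R) = ((n.choose i : ℕ) : R) := by
  apply CharP.natCast_eq_natCast' R p
  have h := Choose.choose_modEq_choose_mod_mul_choose_div_nat (p := p) (n := p * n) (k := p * i)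
  rw [Nat.mul_mod_right, Nat.mul_mod_right, Nat.mul_div_cancel_left _ hp.out.pos,
    Nat.mul_div_cancel_left _ hp.out.pos, Nat.choose_self, one_mul] at h
  exact h

lemma choose_mul_not_dvd (n i : ℕ) (hi : ¬ p ∣ i) : (((p * n).choose i : ℕ) : R) = 0 := by
  have h := Choose.choose_modEq_choose_mod_mul_choose_div_nat (p := p) (n := p * n) (k := i)
  have hi' : i % p ≠ 0 := fun h0 => hi (Nat.dvd_of_mod_eq_zero h0)
  rw [Nat.mul_mod_right, Nat.choose_eq_zero_of_lt (Nat.pos_of_ne_zero hi'), zero_mul] at h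
  have h1 : (((p * n).choose i : ℕ) : R) = ((0 : ℕ) : R) := CharP.natCast_eq_natCast' R p h
  rw [h1, Nat.cast_zero]

lemma choose_pred (m : ℕ) : (((p * m + (p - 1)).choose (p - 1) : ℕ) : R) = 1 := by
  have h := Choose.choose_modEq_choose_mod_mul_choose_div_nat (p := p)
    (n := p * m + (p - 1)) (k := p - 1)
  have hlt : p - 1 < p := Nat.sub_lt hp.out.pos Nat.one_pos
  rw [Nat.mul_add_mod, Nat.mod_eq_of_lt hlt, Nat.mul_add_div hp.out.pos, Nat.div_eq_of_lt hlt,
    Nat.choose_self, add_zero, Nat.choose_zero_right, mul_one] at h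
  have h1 : (((p * m + (p - 1)).choose (p - 1) : ℕ) : R) = ((1 : ℕ) : R) :=
    CharP.natCast_eq_natCast' R p h
  rw [h1, Nat.cast_one]

lemma sig_supp {q i l : ℕ} (h : i + l ≠ q * p) : sig p R q i l = 0 := by
  rw [sig]
  apply Finset.sum_eq_zero
  intro j hj
  rw [Finset.mem_Ioo] at hj
  refine if_neg (fun h' => h ?_)
  rw [← h'.1, ← h'.2, ← Nat.mul_add, Nat.add_sub_of_le hj.2.le]

lemma sig_one {i l : ℕ} (hil : i + l = p) :
    sig p R 1 i l = if 0 < i ∧ 0 < l then ((p.choose i / p : ℕ) : R) else 0 := by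
  rw [sig]
  by_cases h : 0 < i ∧ 0 < l
  · rw [if_pos h, Finset.sum_eq_single i]
    · rw [if_pos ⟨one_mul i, by rw [one_mul]; omega⟩]
    · intro j _ hj
      exact if_neg (fun h' => hj (by rw [← h'.1, one_mul]))
    · intro hi
      exact absurd (Finset.mem_Ioo.2 ⟨h.1, by omega⟩) hi
  · rw [if_neg h]
    apply Finset.sum_eq_zero
    intro j hj
    rw [Finset.mem_Ioo] at hj
    refine if_neg (fun h' => h ⟨?_, ?_⟩)
    · rw [← h'.1, one_mul]
      exact hj.1
    · rw [← h'.2, one_mul]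
      omega

lemma sig_twist (q i l : ℕ) : sig p R (p * q) (p * i) (p * l) = sig p R q i l := by
  have e : ∀ x y : ℕ, p * q * x = p * y ↔ q * x = y := fun x y => by
    rw [mul_assoc]
    exact ⟨fun h => Nat.eq_of_mul_eq_mul_left hp.out.pos h, fun h => by rw [h]⟩
  simp only [sig, e]

lemma sig_not_dvd (q : ℕ) {i l : ℕ} (hi : ¬ p ∣ i) : sig p R (p * q) i l = 0 := by
  rw [sig]
  apply Finset.sum_eq_zero
  intro j _
  refine if_neg (fun h' => hi ⟨q * j, ?_⟩)
  rw [← h'.1, mul_assoc]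

variable {R}

lemma caseA {a : ℕ → ℕ → R} (h : IsSC a) (n : ℕ) (hn0 : n ≠ 0) (hn : ¬ p ∣ n) :
    ∃ g : R, ∀ i l, i + l = n →
      a i l = g * ((n.choose i : ℕ) : R) - (if l = 0 then g else 0) - (if i = 0 then g else 0) := by
  obtain ⟨c, hc⟩ := (isUnit_natCast_of_not_dvd p R n hn).exists_right_inv
  have hint : ∀ m k, m + 1 + k = n → k ≠ 0 → ¬ p ∣ (m + 1) →
      a (m + 1) k = a 1 (n - 1) * c * ((n.choose (m + 1) : ℕ) : R) := by
    intro m k hmk hk hm
    have r1 := h.rel_one m k hk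
    have hnat := Nat.add_one_mul_choose_eq (m + k) m
    have hn' : n = m + k + 1 := by omega
    have hcast : ((n : ℕ) : R) * (((m + k).choose m : ℕ) : R) =
        ((n.choose (m + 1) : ℕ) : R) * ((m + 1 : ℕ) : R) := by
      rw [hn', ← Nat.cast_mul, ← Nat.cast_mul, hnat]
    have hn1 : n - 1 = m + k := by omega
    rw [hn1]
    apply (isUnit_natCast_of_not_dvd p R (m + 1) hm).mul_left_cancel
    rw [r1]
    linear_combination (a 1 (m + k) * c) * hcast
      - (a 1 (m + k) * (((m + k).choose m : ℕ) : R)) * hc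
  refine ⟨a 1 (n - 1) * c, fun i l hil => ?_⟩
  rcases Nat.eq_zero_or_pos i with hi | hi
  · obtain rfl : i = 0 := hi
    obtain rfl : l = n := by omega
    rw [h.zero_left _ hn0, Nat.choose_zero_right, Nat.cast_one, mul_one, if_neg hn0,
      if_pos (rfl : (0 : ℕ) = 0), sub_zero, sub_self]
  · rcases Nat.eq_zero_or_pos l with hl | hl
    · obtain rfl : l = 0 := hl
      obtain rfl : i = n := by omega
      rw [h.zero_right _ hn0, Nat.choose_self, Nat.cast_one, mul_one,
        if_pos (rfl : (0 : ℕ) = 0), if_neg hn0, sub_self, sub_zero]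
    · rw [if_neg hl.ne', if_neg hi.ne', sub_zero, sub_zero]
      obtain ⟨m, rfl⟩ : ∃ m, i = m + 1 := ⟨i - 1, by omega⟩
      by_cases hm : p ∣ (m + 1)
      · have hl' : ¬ p ∣ l := fun hd => hn (by rw [← hil]; exact Nat.dvd_add hm hd)
        obtain ⟨m', rfl⟩ : ∃ m', l = m' + 1 := ⟨l - 1, by omega⟩
        rw [h.1 (m + 1) (m' + 1), hint m' (m + 1) (by omega) (Nat.succ_ne_zero m) hl',
          Nat.choose_symm_of_eq_add (by omega : n = (m' + 1) + (m + 1))]
      · exact hint m l hil hl.ne' hm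

lemma caseB {a : ℕ → ℕ → R} (h : IsSC a) :
    ∃ r : R, ∀ i l, i + l = p → a i l = r * sig p R 1 i l := by
  refine ⟨a 1 (p - 1), fun i l hil => ?_⟩
  rw [sig_one p R hil]
  have hp0 : p ≠ 0 := hp.out.ne_zero
  by_cases h0 : 0 < i ∧ 0 < l
  · rw [if_pos h0]
    obtain ⟨m, rfl⟩ : ∃ m, i = m + 1 := ⟨i - 1, by omega⟩
    have hlt : m + 1 < p := by omega
    have r1 := h.rel_one m l h0.2.ne'
    obtain ⟨s, hs⟩ := hp.out.dvd_choose_self (Nat.succ_ne_zero m) hlt
    have hdiv : p.choose (m + 1) / p = s := by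
      rw [hs, Nat.mul_div_cancel_left _ hp.out.pos]
    have hml : m + l = p - 1 := by omega
    have hnat : (m + 1) * s = (p - 1).choose m := by
      have h1 := Nat.add_one_mul_choose_eq (p - 1) m
      rw [Nat.sub_add_cancel hp.out.one_le, hs] at h1
      have h2 : p * (p - 1).choose m = p * ((m + 1) * s) := by
        rw [h1]
        ring
      exact (Nat.eq_of_mul_eq_mul_left hp.out.pos h2).symm
    have hcast : ((m + 1 : ℕ) : R) * ((s : ℕ) : R) = (((p - 1).choose m : ℕ) : R) := by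
      rw [← Nat.cast_mul, hnat]
    rw [hdiv]
    apply (isUnit_natCast_of_not_dvd p R (m + 1)
      (Nat.not_dvd_of_pos_of_lt (Nat.succ_pos m) hlt)).mul_left_cancel
    rw [r1, hml]
    linear_combination (-a 1 (p - 1)) * hcast
  · rw [if_neg h0, mul_zero]
    rcases Nat.eq_zero_or_pos i with hi | hi
    · obtain rfl : i = 0 := hi
      exact h.zero_left l (by omega)
    · have hl : l = 0 := by omega
      obtain rfl : l = 0 := hl
      exact h.zero_right i (by omega)

lemma vanish {a : ℕ → ℕ → R} (h : IsSC a) (m : ℕ) (hm : m ≠ 0) (i l : ℕ)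
    (hil : i + l = p * (m + 1)) (hi : ¬ p ∣ i) : a i l = 0 := by
  have hp1 : 1 ≤ p := hp.out.one_le
  have hk : p * m ≠ 0 := Nat.mul_ne_zero hp.out.ne_zero hm
  have r1 := h.rel_one (p - 1) (p * m) hk
  rw [Nat.sub_add_cancel hp1, CharP.cast_eq_zero R p, zero_mul, add_comm (p - 1) (p * m),
    choose_pred p R m, mul_one] at r1
  have hi0 : i ≠ 0 := fun h0 => hi (by rw [h0]; exact dvd_zero p)
  have hl0 : l ≠ 0 := by
    intro h0
    apply hi
    rw [h0, add_zero] at hil
    exact ⟨m + 1, hil⟩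
  obtain ⟨t, rfl⟩ : ∃ t, i = t + 1 := ⟨i - 1, by omega⟩
  have r2 := h.rel_one t l hl0
  have htl : t + l = p * m + (p - 1) := by
    rw [Nat.mul_add, Nat.mul_one] at hil
    omega
  rw [htl, ← r1, zero_mul] at r2
  exact (isUnit_natCast_of_not_dvd p R (t + 1) hi).mul_right_eq_zero.1 r2

lemma descent {a : ℕ → ℕ → R} (h : IsSC a) : IsSC (fun i l => a (p * i) (p * l)) := by
  have e : ∀ x : ℕ, p * x = 0 ↔ x = 0 := fun x => by
    rw [Nat.mul_eq_zero]
    exact or_iff_right hp.out.ne_zero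
  refine ⟨fun i l => h.1 _ _, fun i j k => ?_⟩
  have h2 := h.2 (p * i) (p * j) (p * k)
  rw [← Nat.mul_add, ← Nat.mul_add, choose_mul_mul, choose_mul_mul] at h2
  simp only [e] at h2
  exact h2

lemma powCase (k : ℕ) : ∀ a : ℕ → ℕ → R, IsSC a →
    ∃ r : R, ∀ i l, i + l = p ^ (k + 1) → a i l = r * sig p R (p ^ k) i l := by
  induction k with
  | zero =>
    intro a h
    obtain ⟨r, hr⟩ := caseB p h
    refine ⟨r, fun i l hil => ?_⟩
    rw [zero_add, pow_one] at hil
    rw [pow_zero]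
    exact hr i l hil
  | succ k ih =>
    intro a h
    obtain ⟨r, hr⟩ := ih _ (descent p h)
    refine ⟨r, fun i l hil => ?_⟩
    rw [pow_succ' p (k + 1)] at hil
    rw [pow_succ' p k]
    by_cases hi : p ∣ i
    · obtain ⟨i', rfl⟩ := hi
      have hl : p ∣ l := by
        have h1 : p ∣ p * i' + l := by
          rw [hil]
          exact dvd_mul_right p _
        exact (Nat.dvd_add_right (dvd_mul_right p i')).1 h1
      obtain ⟨l', rfl⟩ := hl
      have hil' : i' + l' = p ^ (k + 1) := by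
        apply Nat.eq_of_mul_eq_mul_left hp.out.pos
        rw [Nat.mul_add]
        exact hil
      rw [sig_twist]
      exact hr i' l' hil'
    · obtain ⟨m, hm⟩ : ∃ m, p ^ (k + 1) = m + 1 :=
        Nat.exists_eq_succ_of_ne_zero (pow_pos hp.out.pos (k + 1)).ne'
      have hm0 : m ≠ 0 := by
        have h1 : 1 < p ^ (k + 1) := Nat.one_lt_pow (Nat.succ_ne_zero k) hp.out.one_lt
        omega
      rw [hm] at hil
      rw [vanish p h m hm0 i l hil hi, sig_not_dvd p R _ hi, mul_zero]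

lemma nonPowCase (n : ℕ) : (∀ k, n ≠ p ^ (k + 1)) → ∀ a : ℕ → ℕ → R, IsSC a →
    ∃ g : R, ∀ i l, i + l = n →
      a i l = g * ((n.choose i : ℕ) : R) - (if l = 0 then g else 0) - (if i = 0 then g else 0) := by
  induction n using Nat.strong_induction_on with
  | _ n ih =>
    intro hn a h
    by_cases h0 : n = 0
    · subst h0
      refine ⟨-a 0 0, fun i l hil => ?_⟩
      obtain ⟨rfl, rfl⟩ : i = 0 ∧ l = 0 := by omega
      rw [Nat.choose_self, Nat.cast_one, if_pos (rfl : (0 : ℕ) = 0)]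
      ring
    by_cases hd : p ∣ n
    · obtain ⟨n', rfl⟩ := hd
      have hn'0 : n' ≠ 0 := fun h' => h0 (by rw [h', mul_zero])
      have hn'1 : n' ≠ 1 := fun h' => hn 0 (by rw [h', mul_one, zero_add, pow_one])
      obtain ⟨m, rfl⟩ : ∃ m, n' = m + 1 := Nat.exists_eq_succ_of_ne_zero hn'0
      have hm0 : m ≠ 0 := fun h' => hn'1 (by omega)
      have hlt : m + 1 < p * (m + 1) :=
        calc m + 1 < 2 * (m + 1) := by omega
          _ ≤ p * (m + 1) := Nat.mul_le_mul_right _ hp.out.two_le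
      have hnp : ∀ k, m + 1 ≠ p ^ (k + 1) := fun k hk =>
        hn (k + 1) (by rw [hk, ← pow_succ'])
      obtain ⟨g, hg⟩ := ih (m + 1) hlt hnp _ (descent p h)
      refine ⟨g, fun i l hil => ?_⟩
      have e : ∀ x : ℕ, p * x = 0 ↔ x = 0 := fun x => by
        rw [Nat.mul_eq_zero]
        exact or_iff_right hp.out.ne_zero
      by_cases hi : p ∣ i
      · obtain ⟨i', rfl⟩ := hi
        have hl : p ∣ l := by
          have h1 : p ∣ p * i' + l := by
            rw [hil]
            exact dvd_mul_right p _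
          exact (Nat.dvd_add_right (dvd_mul_right p i')).1 h1
        obtain ⟨l', rfl⟩ := hl
        have hil' : i' + l' = m + 1 := by
          apply Nat.eq_of_mul_eq_mul_left hp.out.pos
          rw [Nat.mul_add]
          exact hil
        have h3 := hg i' l' hil'
        rw [choose_mul_mul]
        simp only [e]
        exact h3
      · have hi0 : i ≠ 0 := fun h' => hi (by rw [h']; exact dvd_zero p)
        have hl0 : l ≠ 0 := by
          intro h'
          apply hi
          rw [h', add_zero] at hil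
          exact ⟨m + 1, hil⟩
        rw [vanish p h m hm0 i l hil hi, choose_mul_not_dvd p R _ _ hi, mul_zero, if_neg hl0,
          if_neg hi0, sub_zero, sub_zero]
    · exact caseA p h n h0 hd

end Comb

/-! ### the forward direction -/

theorem forward (p : ℕ) [hp : Fact p.Prime] (R : Type u) [CommRing R] [CharP R p]
    (F : MvPolynomial (Fin 2) R)
    (hsym : aeval ![(X 1 : MvPolynomial (Fin 2) R), X 0] F = F)
    (hcoc : aeval ![(X 0 : MvPolynomial (Fin 3) R), X 1 + X 2] F
        + aeval ![(X 1 : MvPolynomial (Fin 3) R), X 2] F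
        - aeval ![(X 0 + X 1 : MvPolynomial (Fin 3) R), X 2] F
        - aeval ![(X 0 : MvPolynomial (Fin 3) R), X 1] F = 0) :
    ∃ (G : Polynomial R) (N : ℕ) (r : ℕ → R),
      F = Polynomial.aeval (X 0 + X 1 : MvPolynomial (Fin 2) R) G
          - Polynomial.aeval (X 0 : MvPolynomial (Fin 2) R) G
          - Polynomial.aeval (X 1 : MvPolynomial (Fin 2) R) G
        + ∑ i ∈ Finset.range N, C (r i) *
            aeval ![(X 0 : MvPolynomial (Fin 2) R) ^ p ^ i, X 1 ^ p ^ i] (Spoly p R) := by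
  obtain ⟨a, ha⟩ : ∃ a : ℕ → ℕ → R, ∀ i l, a i l = coeff (e2 i l) F := ⟨_, fun _ _ => rfl⟩
  have hSC : IsSC a := by
    refine ⟨fun i l => ?_, fun i j k => ?_⟩
    · have h1 := coeff_swap F i l
      rw [hsym] at h1
      rw [ha, ha]
      exact h1
    · have h1 := congrArg (coeff (e3 i j k)) hcoc
      rw [coeff_D, coeff_zero] at h1
      simp only [ha]
      exact h1
  obtain ⟨M, hM⟩ : ∃ M, ∀ i l, M ≤ i + l → a i l = 0 := by
    refine ⟨F.totalDegree + 1, fun i l h => ?_⟩
    rw [ha]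
    apply coeff_eq_zero_of_totalDegree_lt
    have hs : ((e2 i l).sum fun _ e => e) = i + l := by
      rw [Finsupp.sum_fintype _ _ (fun _ => rfl), Fin.sum_univ_two, e2_zero, e2_one]
    show F.totalDegree < (e2 i l).sum fun _ e => e
    rw [hs]
    omega
  have hg : ∀ n, ∃ g : R, (M ≤ n → g = 0) ∧ ((∃ k, n = p ^ (k + 1)) → g = 0) ∧
      ((∀ k, n ≠ p ^ (k + 1)) → ∀ i l, i + l = n →
        a i l = g * ((n.choose i : ℕ) : R) - (if l = 0 then g else 0)
          - (if i = 0 then g else 0)) := by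
    intro n
    by_cases hMn : M ≤ n
    · refine ⟨0, fun _ => rfl, fun _ => rfl, fun _ i l hil => ?_⟩
      rw [hM i l (by rw [hil]; exact hMn)]
      simp
    · by_cases hpw : ∃ k, n = p ^ (k + 1)
      · refine ⟨0, fun _ => rfl, fun _ => rfl, fun h' => ?_⟩
        obtain ⟨k, hk⟩ := hpw
        exact absurd hk (h' k)
      · push_neg at hpw
        obtain ⟨g, hg⟩ := nonPowCase p n hpw a hSC
        exact ⟨g, fun h' => absurd h' hMn, fun ⟨k, hk⟩ => absurd hk (hpw k), fun _ => hg⟩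
  have hr : ∀ k, ∃ r : R, (M ≤ p ^ (k + 1) → r = 0) ∧
      ∀ i l, i + l = p ^ (k + 1) → a i l = r * sig p R (p ^ k) i l := by
    intro k
    by_cases hMk : M ≤ p ^ (k + 1)
    · exact ⟨0, fun _ => rfl, fun i l hil => by rw [hM i l (by rw [hil]; exact hMk), zero_mul]⟩
    · obtain ⟨r, hr⟩ := powCase p k a hSC
      exact ⟨r, fun h' => absurd h' hMk, hr⟩
  choose g hg1 hg2 hg3 using hg
  choose r hr1 hr2 using hr
  have hG : ∀ n, (∑ m ∈ Finset.range M, Polynomial.monomial m (g m)).coeff n = g n := by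
    intro n
    rw [Polynomial.finset_sum_coeff]
    simp only [Polynomial.coeff_monomial]
    rw [Finset.sum_ite_eq']
    split_ifs with hmem
    · rfl
    · rw [Finset.mem_range, not_lt] at hmem
      exact (hg1 n hmem).symm
  refine ⟨∑ m ∈ Finset.range M, Polynomial.monomial m (g m), M, r, ?_⟩
  refine MvPolynomial.ext _ _ (fun u => ?_)
  obtain ⟨i, l, rfl⟩ : ∃ i l, u = e2 i l := ⟨u 0, u 1, (e2_eta u).symm⟩
  rw [coeff_add, coeff_sub, coeff_sub, coeff_aeval_add, coeff_aeval_X0, coeff_aeval_X1, coeff_sum,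
    hG, hG, hG]
  simp only [coeff_C_mul, K7]
  rw [← ha]
  by_cases hpw : ∃ k, i + l = p ^ (k + 1)
  · obtain ⟨k₀, hk₀⟩ := hpw
    have e0 : g (i + l) = 0 := hg2 _ ⟨k₀, hk₀⟩
    have e1 : (if l = 0 then (1 : R) else 0) * g i = 0 := by
      split_ifs with hl
      · subst hl
        rw [one_mul]
        simpa using e0
      · rw [zero_mul]
    have e2' : (if i = 0 then (1 : R) else 0) * g l = 0 := by
      split_ifs with hi
      · subst hi
        rw [one_mul]
        simpa using e0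
      · rw [zero_mul]
    have e3' : ∑ k ∈ Finset.range M, r k * sig p R (p ^ k) i l = r k₀ * sig p R (p ^ k₀) i l := by
      apply Finset.sum_eq_single k₀
      · intro k _ hk
        rw [sig_supp p R, mul_zero]
        rw [hk₀, ← pow_succ]
        exact fun h' => hk (Nat.succ_injective (Nat.pow_right_injective hp.out.two_le h')).symm
      · intro hk
        rw [Finset.mem_range, not_lt] at hk
        have h1 : k₀ + 1 < p ^ (k₀ + 1) := Nat.lt_pow_self hp.out.one_lt
        rw [hr1 k₀ (by omega), zero_mul]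
    rw [e0, e1, e2', e3', zero_mul, sub_zero, sub_zero, zero_add]
    exact hr2 k₀ i l hk₀
  · push_neg at hpw
    have e3' : ∑ k ∈ Finset.range M, r k * sig p R (p ^ k) i l = 0 :=
      Finset.sum_eq_zero (fun k _ => by
        rw [sig_supp p R, mul_zero]
        rw [← pow_succ]
        exact hpw k)
    have e1 : (if l = 0 then (1 : R) else 0) * g i = if l = 0 then g (i + l) else 0 := by
      split_ifs with hl
      · subst hl
        rw [one_mul, add_zero]
      · rw [zero_mul]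
    have e2' : (if i = 0 then (1 : R) else 0) * g l = if i = 0 then g (i + l) else 0 := by
      split_ifs with hi
      · subst hi
        rw [one_mul, zero_add]
      · rw [zero_mul]
    rw [e1, e2', e3', add_zero]
    exact hg3 (i + l) hpw i l rfl


/-- Over a commutative algebra R of prime characteristic p, a polynomial F(X,Y) is symmetric and
satisfies the two-cocycle identity F(X,Y+Z) + F(Y,Z) − F(X+Y,Z) − F(X,Y) = 0 if and only if it has
the form G(X+Y) − G(X) − G(Y) + Σ_i r_i S(X^(p^i), Y^(p^i)) with G a one-variable polynomial, r_i in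
R and S(X,Y) = Σ_{0<j<p} (C(p,j)/p) X^j Y^(p−j) the reduction mod p of ((X+Y)^p − X^p − Y^p)/p. -/
theorem result (p : ℕ) [Fact p.Prime] (R : Type u) [CommRing R] [CharP R p]
    (F : MvPolynomial (Fin 2) R) :
    (MvPolynomial.aeval ![MvPolynomial.X 1, MvPolynomial.X 0] F = F ∧
      MvPolynomial.aeval ![MvPolynomial.X 0, MvPolynomial.X 1 + MvPolynomial.X 2] F
          + MvPolynomial.aeval ![MvPolynomial.X 1, MvPolynomial.X 2] F
          - MvPolynomial.aeval ![MvPolynomial.X 0 + MvPolynomial.X 1, MvPolynomial.X 2] F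
          - MvPolynomial.aeval ![MvPolynomial.X 0, MvPolynomial.X 1] F = (0 : MvPolynomial (Fin 3) R)) ↔
      ∃ (G : Polynomial R) (N : ℕ) (r : ℕ → R),
        F = Polynomial.aeval (MvPolynomial.X 0 + MvPolynomial.X 1 : MvPolynomial (Fin 2) R) G
              - Polynomial.aeval (MvPolynomial.X 0 : MvPolynomial (Fin 2) R) G
              - Polynomial.aeval (MvPolynomial.X 1 : MvPolynomial (Fin 2) R) G
            + ∑ i ∈ Finset.range N, MvPolynomial.C (r i) *
                MvPolynomial.aeval ![MvPolynomial.X 0 ^ p ^ i, MvPolynomial.X 1 ^ p ^ i]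
                  (∑ j ∈ Finset.Ioo 0 p, MvPolynomial.C ((p.choose j / p : ℕ) : R) *
                    MvPolynomial.X 0 ^ j * MvPolynomial.X 1 ^ (p - j) : MvPolynomial (Fin 2) R) := by
  constructor
  · rintro ⟨hsym, hcoc⟩
    exact forward p R F hsym hcoc
  · rintro ⟨G, N, r, hF⟩
    exact backward p R F G N r hF

end Groth.Agent.S13358
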