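import Groth.Statements.S1336
-- import your own Groth.Agent.* helpers here
import Mathlib
import Groth.Agent.Lib.Helper12.GeomCompIrr
import Groth.Agent.Lib.Helper12.FibreInvCons

set_option autoImplicit false
universe u
open FlatMor

namespace Groth.Agent.S1336

open AlgebraicGeometry CategoryTheory Limits in
/-- Let f be of finite type and let y be a point of the target. Then the function counting the
irreducible components of the geometric fibres of f is constant on some subset of the closure of y
which is open in that closure and contains y. -/
theorem result {X Y : Scheme.{u}} (f : X ⟶ Y) [LocallyOfFiniteType f] [QuasiCompact f] (y : Y) :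
    ∃ V : Set ↑Y, V ⊆ closure {y} ∧ y ∈ V ∧ IsOpen (Subtype.val ⁻¹' V : Set ↑(closure ({y} : Set ↑Y))) ∧
      ∀ y' ∈ V, MoreMor.nGeomIrredComp f y' = MoreMor.nGeomIrredComp f y := by
  exact Groth.Agent.Lib.Helper12.FibreInvCons.const_near_point_of_closure
    (fun {X S} f s => MoreMor.nGeomIrredComp f s)
    (fun {X Y X' Y' f g f' g'} hc y' => Groth.Agent.S1334.result f f' g' g hc y')
    (fun {X S} f _ _ _ _ => Groth.Agent.Lib.Helper12.GeomCompIrr.nGeomIrredComp_const_near_generic f)
    f y

end Groth.Agent.S1336
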