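import Groth.Statements.S13360
import Groth.Agent.Lib.Helper20.PiLocal

set_option autoImplicit false
universe u
open UltraProd

namespace Groth.Agent.S13360

/-- If (R_i) is a nonempty family of valuation rings, then the localization of the product ring ∏ R_i at
any prime ideal is a valuation ring: a domain in which, of any two elements, one divides the other. -/
theorem result {ι : Type u} [Nonempty ι] (R : ι → Type u)
    [∀ i, CommRing (R i)] [∀ i, IsDomain (R i)] [∀ i, ValuationRing (R i)]
    (P : Ideal (∀ i, R i)) [P.IsPrime] :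
    IsDomain (Localization.AtPrime P) ∧ PreValuationRing (Localization.AtPrime P) := by
  classical
  have hdom := Groth.Agent.Lib.Helper20.PiLocal.isDomain R P (Localization.AtPrime P)
  refine ⟨hdom, ⟨fun a b => ?_⟩⟩
  obtain ⟨x, s, rfl⟩ := IsLocalization.exists_mk'_eq P.primeCompl a
  obtain ⟨y, t, rfl⟩ := IsLocalization.exists_mk'_eq P.primeCompl b
  have hq : ∀ i, ∃ q : R i, (x i ∣ y i → y i = x i * q) := fun i => by
    by_cases h : x i ∣ y i
    · obtain ⟨q, hq⟩ := h
      exact ⟨q, fun _ => hq⟩
    · exact ⟨0, fun h' => absurd h' h⟩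
  have hq' : ∀ i, ∃ q : R i, (¬ x i ∣ y i → x i = y i * q) := fun i => by
    by_cases h : x i ∣ y i
    · exact ⟨0, fun h' => absurd h h'⟩
    · obtain ⟨c, hc | hc⟩ := ValuationRing.cond (x i) (y i)
      · exact absurd ⟨c, hc.symm⟩ h
      · exact ⟨c, fun _ => hc.symm⟩
  choose q hq using hq
  choose q' hq' using hq'
  obtain ⟨us, hus⟩ := IsLocalization.map_units (Localization.AtPrime P) s
  obtain ⟨ut, hut⟩ := IsLocalization.map_units (Localization.AtPrime P) t
  have ha := IsLocalization.mk'_spec (Localization.AtPrime P) x s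
  have hb := IsLocalization.mk'_spec (Localization.AtPrime P) y t
  rcases Groth.Agent.Lib.Helper20.PiLocal.map_eq_or_map_eq R P (Localization.AtPrime P) (fun i => x i ∣ y i) y (x * q) x (y * q')
    (fun i h => hq i h) (fun i h => hq' i h) with h | h
  · refine ⟨algebraMap _ _ (s : ∀ i, R i) * algebraMap _ _ q * ↑ut⁻¹, Or.inl ?_⟩
    calc IsLocalization.mk' (Localization.AtPrime P) x s *
          (algebraMap _ _ (s : ∀ i, R i) * algebraMap _ _ q * ↑ut⁻¹)
        = (IsLocalization.mk' (Localization.AtPrime P) x s * algebraMap _ _ (s : ∀ i, R i)) *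
            algebraMap _ _ q * ↑ut⁻¹ := by ring
      _ = algebraMap _ _ y * ↑ut⁻¹ := by rw [ha, ← map_mul, ← h]
      _ = IsLocalization.mk' (Localization.AtPrime P) y t * (↑ut * ↑ut⁻¹) := by
          rw [← hb, hut]; ring
      _ = IsLocalization.mk' (Localization.AtPrime P) y t := by rw [Units.mul_inv, mul_one]
  · refine ⟨algebraMap _ _ (t : ∀ i, R i) * algebraMap _ _ q' * ↑us⁻¹, Or.inr ?_⟩
    calc IsLocalization.mk' (Localization.AtPrime P) y t *
          (algebraMap _ _ (t : ∀ i, R i) * algebraMap _ _ q' * ↑us⁻¹)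
        = (IsLocalization.mk' (Localization.AtPrime P) y t * algebraMap _ _ (t : ∀ i, R i)) *
            algebraMap _ _ q' * ↑us⁻¹ := by ring
      _ = algebraMap _ _ x * ↑us⁻¹ := by rw [hb, ← map_mul, ← h]
      _ = IsLocalization.mk' (Localization.AtPrime P) x s * (↑us * ↑us⁻¹) := by
          rw [← ha, hus]; ring
      _ = IsLocalization.mk' (Localization.AtPrime P) x s := by rw [Units.mul_inv, mul_one]

end Groth.Agent.S13360
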