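import Groth.Statements.S13361
import Groth.Agent.Lib.Helper20.EssentialGroup

set_option autoImplicit false
universe u
open ProCompl

namespace Groth.Agent.S13361

/-- A finite abelian group with a nonzero element contained in every nonzero subgroup is isomorphic to a
cyclic group of prime-power order Z/p^n. -/
theorem result {A : Type u} [AddCommGroup A] [Finite A]
    (a : A) (ha : a ≠ 0) (h : ∀ B : AddSubgroup A, B ≠ ⊥ → a ∈ B) :
    ∃ p n : ℕ, p.Prime ∧ Nonempty (A ≃+ ZMod (p ^ n)) := by
  classical
  haveI := Fintype.ofFinite A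
  have hcyc : IsAddCyclic A := by
    apply isAddCyclic_of_card_nsmul_eq_zero_le
    intro n hn0
    have hcardK : (Finset.univ.filter (fun x : A => n • x = 0)).card =
        Nat.card (nsmulAddMonoidHom n : A →+ A).ker := by
      rw [Nat.card_eq_fintype_card, Fintype.card_subtype]
      congr 1
      ext x
      simp only [Finset.mem_filter, Finset.mem_univ, true_and, AddMonoidHom.mem_ker,
        nsmulAddMonoidHom_apply]
    rw [hcardK]
    by_cases hK : (nsmulAddMonoidHom n : A →+ A).ker = ⊥
    · rw [hK, AddSubgroup.card_bot]; exact hn0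
    · have haK : a ∈ (nsmulAddMonoidHom n : A →+ A).ker := h _ hK
      refine (Lib.Helper20.EssentialGroup.card_le_of_essential n hn0
        (nsmulAddMonoidHom n : A →+ A).ker ⟨a, haK⟩ (fun h0 => ha (congrArg Subtype.val h0))
        (fun C hC => Lib.Helper20.EssentialGroup.essential_subgroup a h _ haK C hC) ?_).2
      rintro ⟨x, hx⟩
      apply Subtype.ext
      rw [AddSubgroup.coe_nsmul, AddSubgroup.coe_zero]
      exact hx
  -- the cardinality is a prime power
  have hnt : Nontrivial A := ⟨⟨a, 0, ha⟩⟩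
  have hN1 : 1 < Nat.card A := Finite.one_lt_card
  have hp : (Nat.card A).minFac.Prime := Nat.minFac_prime (by omega)
  have hkill : ∀ q : ℕ, q.Prime → q ∣ Nat.card A → q • a = 0 := by
    intro q hq hqd
    haveI : Fact q.Prime := ⟨hq⟩
    rw [Nat.card_eq_fintype_card] at hqd
    obtain ⟨x, hx⟩ := exists_prime_addOrderOf_dvd_card q hqd
    have hx0 : x ≠ 0 := by
      rintro rfl
      rw [addOrderOf_zero] at hx
      exact hq.one_lt.ne hx
    have hzx : AddSubgroup.zmultiples x ≠ ⊥ := by
      intro h0
      have : x ∈ AddSubgroup.zmultiples x := AddSubgroup.mem_zmultiples x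
      rw [h0, AddSubgroup.mem_bot] at this
      exact hx0 this
    obtain ⟨k, hk⟩ := AddSubgroup.mem_zmultiples_iff.1 (h _ hzx)
    rw [← hk, smul_comm, ← hx, addOrderOf_nsmul_eq_zero, smul_zero]
  have huniq : ∀ {d : ℕ}, d.Prime → d ∣ Nat.card A → d = (Nat.card A).minFac := by
    intro d hd hdd
    by_contra hne
    have h1 := hkill d hd hdd
    have h2 := hkill _ hp (Nat.minFac_dvd _)
    have hcop : Nat.Coprime d (Nat.card A).minFac := (Nat.coprime_primes hd hp).2 hne
    have hd1 : addOrderOf a ∣ 1 := by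
      rw [← hcop]
      exact Nat.dvd_gcd (addOrderOf_dvd_of_nsmul_eq_zero h1) (addOrderOf_dvd_of_nsmul_eq_zero h2)
    exact ha (AddMonoid.addOrderOf_eq_one_iff.1 (Nat.dvd_one.1 hd1))
  have hpow := Nat.eq_prime_pow_of_unique_prime_dvd (by omega : Nat.card A ≠ 0) huniq
  refine ⟨(Nat.card A).minFac, (Nat.card A).primeFactorsList.length, hp, ⟨?_⟩⟩
  exact (zmodAddCyclicAddEquiv hcyc).symm.trans (ZMod.ringEquivCongr hpow).toAddEquiv

end Groth.Agent.S13361
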