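import Groth.Statements.S13362
import Groth.Agent.Lib.Helper20.EssentialGroup

set_option autoImplicit false
universe u
open ProCompl

namespace Groth.Agent.S13362

/-- An abelian group of finite exponent having a nonzero element contained in every nonzero subgroup is
finite. -/
theorem result {A : Type u} [AddCommGroup A]
    (hA : AddMonoid.exponent A ≠ 0) (a : A) (ha : a ≠ 0) (h : ∀ B : AddSubgroup A, B ≠ ⊥ → a ∈ B) :
    Finite A := by
  have h1 := Lib.Helper20.EssentialGroup.card_le_of_essential (AddMonoid.exponent A)
    (Nat.pos_of_ne_zero hA) A a ha h (fun x => AddMonoid.exponent_nsmul_eq_zero x)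
  exact Nat.finite_of_card_ne_zero (Nat.pos_iff_ne_zero.1 h1.1)

end Groth.Agent.S13362
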