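import Groth.Statements.S13363
import Groth.Agent.Lib.Helper20.EssentialGroup

set_option autoImplicit false
universe u
open ProCompl

namespace Groth.Agent.S13363

/-- Let A be a topological abelian group such that the subgroup n·A is open for each n > 0, and a ∈ A.
Then A has an open subgroup of finite index not containing a if and only if a does not lie in the
subgroup of divisible elements ∩_n nA. -/
theorem result {A : Type u} [AddCommGroup A]
    [TopologicalSpace A] [IsTopologicalAddGroup A]
    (hn : ∀ n : ℕ, 0 < n → IsOpen (Set.range (fun x : A => n • x))) (a : A) :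
    (∃ B : AddSubgroup A, IsOpen (B : Set A) ∧ B.FiniteIndex ∧ a ∉ B) ↔
      ¬ (∀ n : ℕ, 0 < n → ∃ b : A, n • b = a) := by
  constructor
  · rintro ⟨B, hBo, hBfin, haB⟩ hdiv
    have hidx : 0 < B.index := Nat.pos_of_ne_zero hBfin.index_ne_zero
    obtain ⟨b, hb⟩ := hdiv B.index hidx
    apply haB
    rw [← hb]
    exact AddSubgroup.nsmul_index_mem B b
  · intro hnd
    push Not at hnd
    obtain ⟨n, hn0, hna⟩ := hnd
    -- the open subgroup nA
    let H : AddSubgroup A := (nsmulAddMonoidHom n : A →+ A).range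
    have hHo : IsOpen (H : Set A) := hn n hn0
    have haH : a ∉ H := by
      rintro ⟨b, hb⟩
      exact hna b hb
    -- Zorn
    obtain ⟨B, hHB, hBmax⟩ := zorn_le_nonempty₀ {B : AddSubgroup A | H ≤ B ∧ a ∉ B}
      (by
        intro c hc hchain y hy
        refine ⟨sSup c, ⟨le_trans (hc hy).1 (le_sSup hy), ?_⟩, fun z hz => le_sSup hz⟩
        rw [AddSubgroup.mem_sSup_of_directedOn ⟨y, hy⟩ hchain.directedOn]
        rintro ⟨s, hs, has⟩
        exact (hc hs).2 has) H ⟨le_refl _, haH⟩
    have hBS : H ≤ B ∧ a ∉ B := hBmax.prop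
    refine ⟨B, AddSubgroup.isOpen_mono hBS.1 hHo, ?_, hBS.2⟩
    -- finite index via the essential element
    have ha0 : (QuotientAddGroup.mk a : A ⧸ B) ≠ 0 := by
      rw [Ne, QuotientAddGroup.eq_zero_iff]; exact hBS.2
    have hess : ∀ C : AddSubgroup (A ⧸ B), C ≠ ⊥ → (QuotientAddGroup.mk a : A ⧸ B) ∈ C := by
      intro C hC
      by_contra haC
      have hle : B ≤ C.comap (QuotientAddGroup.mk' B) := by
        intro x hx
        rw [AddSubgroup.mem_comap]
        have : (QuotientAddGroup.mk' B) x = 0 := (QuotientAddGroup.eq_zero_iff x).2 hx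
        rw [this]; exact C.zero_mem
      have hmem : C.comap (QuotientAddGroup.mk' B) ∈ {B : AddSubgroup A | H ≤ B ∧ a ∉ B} :=
        ⟨le_trans hBS.1 hle, fun h => haC h⟩
      have hge := hBmax.le_of_ge hmem hle
      apply hC
      rw [eq_bot_iff]
      intro z hz
      obtain ⟨x, rfl⟩ := QuotientAddGroup.mk_surjective z
      have : x ∈ B := hge hz
      rw [AddSubgroup.mem_bot]
      exact (QuotientAddGroup.eq_zero_iff x).2 this
    have hexp : ∀ z : A ⧸ B, n • z = 0 := by
      intro z
      obtain ⟨x, rfl⟩ := QuotientAddGroup.mk_surjective z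
      have : n • x ∈ B := hBS.1 ⟨x, rfl⟩
      exact (QuotientAddGroup.eq_zero_iff (n • x)).2 this
    have hcard := Lib.Helper20.EssentialGroup.card_le_of_essential n hn0 (A ⧸ B) _ ha0 hess hexp
    exact ⟨by rw [AddSubgroup.index]; exact Nat.pos_iff_ne_zero.1 hcard.1⟩

end Groth.Agent.S13363
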