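import Groth.Statements.S13365
import Mathlib

set_option autoImplicit false
universe u
open ProCompl

namespace Groth.Agent.S13365

/-- The quotient of a profinite (compact, Hausdorff, totally disconnected) abelian topological group by
a compact subgroup is profinite. -/
theorem result {A : Type u} [AddCommGroup A] [TopologicalSpace A]
    [IsTopologicalAddGroup A] [CompactSpace A] [T2Space A] [TotallyDisconnectedSpace A]
    (B : AddSubgroup A) (hB : IsCompact (B : Set A)) :
    CompactSpace (A ⧸ B) ∧ T2Space (A ⧸ B) ∧ TotallyDisconnectedSpace (A ⧸ B) := by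
  have hBc : IsClosed (B : Set A) := hB.isClosed
  have : IsClosed (B : Set A) := hBc
  refine ⟨inferInstance, inferInstance, ?_⟩
  rw [totallyDisconnectedSpace_iff_connectedComponent_zero]
  apply Set.eq_singleton_iff_unique_mem.2 ⟨mem_connectedComponent, ?_⟩
  intro z hz
  by_contra hz0
  obtain ⟨a, rfl⟩ := QuotientAddGroup.mk_surjective z
  have haB : a ∉ B := fun h => hz0 ((QuotientAddGroup.eq_zero_iff a).2 h)
  have hUo : IsOpen (((fun b => a + b) '' (B : Set A))ᶜ) :=
    (hB.image (continuous_const.add continuous_id)).isClosed.isOpen_compl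
  have h0U : (0 : A) ∈ ((fun b => a + b) '' (B : Set A))ᶜ := by
    rintro ⟨b, hb, hab⟩
    have hab' : a + b = 0 := hab
    exact haB (by rw [eq_neg_of_add_eq_zero_left hab']; exact B.neg_mem hb)
  obtain ⟨N, hN⟩ := ProfiniteGrp.exist_openNormalAddSubgroup_sub_open_nhds_of_zero hUo h0U
  have hVo : IsOpen (((N : AddSubgroup A).map (QuotientAddGroup.mk' B) : AddSubgroup (A ⧸ B)) :
      Set (A ⧸ B)) := by
    have : ((((N : AddSubgroup A).map (QuotientAddGroup.mk' B) : AddSubgroup (A ⧸ B)) :
      Set (A ⧸ B))) = QuotientAddGroup.mk '' ((N : AddSubgroup A) : Set A) := rfl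
    rw [this]
    exact QuotientAddGroup.isOpenMap_coe _ N.isOpen'
  have hVc := AddSubgroup.isClosed_of_isOpen _ hVo
  have hsub := IsClopen.connectedComponent_subset ⟨hVc, hVo⟩
    (((N : AddSubgroup A).map (QuotientAddGroup.mk' B)).zero_mem)
  obtain ⟨n, hnN, hn⟩ := hsub hz
  have h1 : -a + n ∈ B := QuotientAddGroup.eq.1 hn.symm
  exact hN hnN ⟨-a + n, h1, add_neg_cancel_left a n⟩

end Groth.Agent.S13365
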