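import Mathlib
import Groth.Statements.S3213


set_option autoImplicit false
universe u v
open SGA7II

set_option linter.unusedSimpArgs false
open Polynomial
namespace Aux3213

variable {k : Type u} [Field k] {V : Type v} [AddCommGroup V] [Module k V]

/-- the auxiliary polynomials -/
noncomputable def P (q : ℕ) (c : ℕ → k) : ℕ → k[X]
  | 0 => C 1 + X ^ q * C (c 0)
  | (i+1) => (P q c i) ^ q + X ^ q * C (c (i+1))

theorem derivative_P (q : ℕ) (hq : (q : k) = 0) (c : ℕ → k) (i : ℕ) :
    derivative (P q c i) = 0 := by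
  have hq' : (C (q : k) : k[X]) = 0 := by rw [hq, map_zero]
  induction i with
  | zero =>
    simp only [P, derivative_add, derivative_C, derivative_mul, derivative_X_pow, zero_add,
      mul_zero, add_zero, hq', zero_mul]
  | succ i ih =>
    simp only [P, derivative_add, derivative_C, derivative_mul, derivative_X_pow, derivative_pow,
      mul_zero, add_zero, hq', zero_mul]

theorem core [IsSepClosed k] (q : ℕ) (hq : (q : k) = 0) (φ : V →+ V)
    (hφ : ∀ (c : k) (v : V), φ (c • v) = c ^ q • φ v) (w : V) (m : ℕ) (c : ℕ → k)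
    (hdep : (⇑φ)^[m+1] w = ∑ i ∈ Finset.range (m+1), c i • (⇑φ)^[i] w) :
    ∃ v : V, v - φ v = w := by
  set Q : k[X] := P q c m - X with hQ
  have hdQ : derivative Q = -1 := by
    rw [hQ, derivative_sub, derivative_P q hq, derivative_X, zero_sub]
  have hsep : Q.Separable := by
    rw [separable_def, hdQ]
    exact isCoprime_one_right.neg_right
  have hcoeff : Q.coeff 1 = -1 := by
    have h1 := coeff_derivative (P q c m) 0
    rw [derivative_P q hq] at h1
    simp only [coeff_zero, zero_add, Nat.cast_zero, mul_one] at h1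
    rw [hQ, coeff_sub, ← h1, coeff_X_one, zero_sub]
  have hdeg : Q.degree ≠ 0 := by
    intro h0
    rw [eq_C_of_degree_eq_zero h0, coeff_C] at hcoeff
    simp at hcoeff
  obtain ⟨t, ht⟩ := IsSepClosed.exists_root Q hdeg hsep
  have ht' : (P q c m).eval t = t := by
    have : (P q c m).eval t - t = 0 := by simpa [hQ, IsRoot.def] using ht
    exact sub_eq_zero.mp this
  let x : ℕ → k := fun i => (P q c i).eval t
  have hx0 : x 0 = 1 + t ^ q * c 0 := by simp only [x, P, eval_add, eval_C, eval_mul, eval_pow, eval_X]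
  have hxs : ∀ i, x (i+1) = (x i) ^ q + t ^ q * c (i+1) := by intro i; simp only [x, P, eval_add, eval_C, eval_mul, eval_pow, eval_X]
  have hxm : x m = t := ht'
  refine ⟨∑ i ∈ Finset.range (m+1), x i • (⇑φ)^[i] w, ?_⟩
  have hφv : φ (∑ i ∈ Finset.range (m+1), x i • (⇑φ)^[i] w) =
      ∑ i ∈ Finset.range (m+1), (x i) ^ q • (⇑φ)^[i+1] w := by
    rw [map_sum]
    refine Finset.sum_congr rfl fun i _ => ?_
    rw [hφ, Function.iterate_succ_apply']
  rw [hφv, Finset.sum_range_succ' (fun i => x i • (⇑φ)^[i] w),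
    Finset.sum_range_succ (fun i => (x i) ^ q • (⇑φ)^[i+1] w), hdep,
    Finset.sum_range_succ' (fun i => c i • (⇑φ)^[i] w), hxm, hx0]
  simp only [hxs, add_smul, one_smul, mul_smul, Finset.sum_add_distrib, smul_add, Finset.smul_sum,
    Function.iterate_zero, id_eq]
  abel

end Aux3213

namespace Aux3213
variable {k : Type u} [Field k] {V : Type v} [AddCommGroup V] [Module k V]

theorem exists_dep [FiniteDimensional k V] (e : ℕ → V) :
    ∃ (m : ℕ) (c : ℕ → k), e m = ∑ i ∈ Finset.range m, c i • e i := by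
  let W : ℕ →o Submodule k V :=
    ⟨fun m => Submodule.span k (e '' (Set.Iio m)), fun a b hab =>
      Submodule.span_mono (Set.image_mono (Set.Iio_subset_Iio hab))⟩
  obtain ⟨n, hn⟩ := monotone_stabilizes_iff_noetherian.mpr (inferInstance : IsNoetherian k V) W
  have hmem : e n ∈ W n := by
    rw [hn (n+1) (Nat.le_succ n)]
    exact Submodule.subset_span ⟨n, Nat.lt_succ_self n, rfl⟩
  have himg : e '' (Set.Iio n) = Set.range (fun i : Fin n => e i) := by
    ext y
    constructor
    · rintro ⟨i, hi, rfl⟩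
      exact ⟨⟨i, hi⟩, rfl⟩
    · rintro ⟨i, rfl⟩
      exact ⟨i, i.2, rfl⟩
  change e n ∈ Submodule.span k (e '' (Set.Iio n)) at hmem
  rw [himg, Submodule.mem_span_range_iff_exists_fun] at hmem
  obtain ⟨c, hc⟩ := hmem
  refine ⟨n, fun i => if h : i < n then c ⟨i, h⟩ else 0, ?_⟩
  rw [← hc, ← Fin.sum_univ_eq_sum_range (fun i => (if h : i < n then c ⟨i, h⟩ else 0) • e i)]
  refine Finset.sum_congr rfl fun i _ => ?_
  simp

theorem main [IsSepClosed k] [FiniteDimensional k V] (q : ℕ) (hq : (q : k) = 0) (φ : V →+ V)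
    (hφ : ∀ (c : k) (v : V), φ (c • v) = c ^ q • φ v) :
    Function.Surjective (fun v : V => v - φ v) := by
  intro w
  obtain ⟨m, c, hdep⟩ := exists_dep (k := k) (fun i => (⇑φ)^[i] w)
  cases m with
  | zero =>
    refine ⟨0, ?_⟩
    simpa using hdep.symm
  | succ m => exact core q hq φ hφ w m c hdep

end Aux3213

namespace Groth.Agent.S3213

/-- Let k be a separably closed field of characteristic p > 0, q = p^r (r >= 1), V a finite-dimensional
k-vector space and phi : V -> V additive with phi(c v) = c^q phi(v). Then the additive map v |-> v -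
phi(v) is surjective. -/
theorem result (k : Type u) [Field k] [IsSepClosed k] (p : ℕ) [Fact p.Prime] [CharP k p]
    (r : ℕ) (hr : 0 < r) (V : Type v) [AddCommGroup V] [Module k V] [FiniteDimensional k V] (φ : V →+ V)
    (hφ : ∀ (c : k) (v : V), φ (c • v) = c ^ (p ^ r) • φ v) :
    Function.Surjective (fun v : V => v - φ v) := by
  refine Aux3213.main (p ^ r) ?_ φ hφ
  rw [Nat.cast_pow, CharP.cast_eq_zero k p, zero_pow hr.ne']

end Groth.Agent.S3213
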