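import Groth.Statements.S3212
import Mathlib
import Groth.Agent.S3213

set_option autoImplicit false
universe u v
open SGA7II

namespace Groth.Agent.S3212

set_option linter.unusedSimpArgs false
open Polynomial

section aux
variable {k : Type u} [Field k] {V : Type v} [AddCommGroup V] [Module k V]

/-- the auxiliary additive polynomials -/
noncomputable def P (q : ℕ) (c : ℕ → k) : ℕ → k[X]
  | 0 => X ^ q * C (c 0)
  | (i+1) => (P q c i) ^ q + X ^ q * C (c (i+1))

theorem derivative_P (q : ℕ) (hq : (q : k) = 0) (c : ℕ → k) (i : ℕ) :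
    derivative (P q c i) = 0 := by
  have hq' : (C (q : k) : k[X]) = 0 := by rw [hq, map_zero]
  induction i with
  | zero =>
    simp only [P, derivative_add, derivative_C, derivative_mul, derivative_X_pow, zero_add,
      mul_zero, add_zero, hq', zero_mul]
  | succ i ih =>
    simp only [P, derivative_add, derivative_C, derivative_mul, derivative_X_pow, derivative_pow,
      mul_zero, add_zero, hq', zero_mul]

theorem eval_zero_P (q : ℕ) (hq0 : q ≠ 0) (c : ℕ → k) (i : ℕ) : (P q c i).eval 0 = 0 := by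
  induction i with
  | zero => simp [P, zero_pow hq0]
  | succ i ih => simp [P, ih, zero_pow hq0]

theorem P_eq_zero (q : ℕ) (hq0 : q ≠ 0) (c : ℕ → k) (i : ℕ) (h : ∀ j ≤ i, c j = 0) :
    P q c i = 0 := by
  induction i with
  | zero => simp [P, h 0 le_rfl]
  | succ i ih =>
    have := ih (fun j hj => h j (Nat.le_succ_of_le hj))
    simp [P, this, h (i+1) le_rfl, zero_pow hq0]

theorem natDegree_P (q : ℕ) (hq2 : 2 ≤ q) (c : ℕ → k) (i : ℕ) (h : ∃ j ≤ i, c j ≠ 0) :
    q ≤ (P q c i).natDegree := by
  have hq0 : q ≠ 0 := by omega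
  induction i with
  | zero =>
    obtain ⟨j, hj, hcj⟩ := h
    have : j = 0 := by omega
    subst this
    show q ≤ (X ^ q * C (c 0)).natDegree
    rw [natDegree_mul_C hcj, natDegree_X_pow]
  | succ i ih =>
    show q ≤ ((P q c i) ^ q + X ^ q * C (c (i+1))).natDegree
    by_cases h' : ∃ j ≤ i, c j ≠ 0
    · have h1 := ih h'
      have h2 : ((P q c i) ^ q).natDegree = q * (P q c i).natDegree := natDegree_pow _ _
      have h3 : (X ^ q * C (c (i+1)) : k[X]).natDegree ≤ q := by
        refine (natDegree_mul_C_le _ _).trans ?_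
        rw [natDegree_X_pow]
      have h4 : q < q * (P q c i).natDegree :=
        calc q < q * 2 := by omega
          _ ≤ q * (P q c i).natDegree := Nat.mul_le_mul_left q (by omega)
      rw [natDegree_add_eq_left_of_natDegree_lt (by omega), h2]
      exact Nat.le_mul_of_pos_right q (by omega)
    · push_neg at h'
      have hP := P_eq_zero q hq0 c i h'
      obtain ⟨j, hj, hcj⟩ := h
      have hj' : j = i + 1 := by
        by_contra hne
        exact hcj (h' j (by omega))
      subst hj'
      rw [hP, zero_pow hq0, zero_add, natDegree_mul_C hcj, natDegree_X_pow]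

theorem semilin_sum {ι : Type*} (q : ℕ) (φ : V →+ V)
    (hφ : ∀ (c : k) (v : V), φ (c • v) = c ^ q • φ v)
    (s : Finset ι) (c : ι → k) (e : ι → V) :
    φ (∑ i ∈ s, c i • e i) = ∑ i ∈ s, (c i) ^ q • φ (e i) := by
  rw [map_sum]
  exact Finset.sum_congr rfl fun i _ => hφ _ _

theorem inj [FiniteDimensional k V] (q : ℕ) (hq0 : q ≠ 0) (φ : V →+ V)
    (hφ : ∀ (c : k) (v : V), φ (c • v) = c ^ q • φ v)
    (hss : Submodule.span k (Set.range φ) = ⊤) : Function.Injective φ := by
  obtain ⟨b⟩ : Nonempty (Module.Basis (Fin (Module.finrank k V)) k V) := ⟨Module.finBasis k V⟩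
  have hexp : ∀ v : V, φ v = ∑ i, (b.repr v i) ^ q • φ (b i) := by
    intro v
    have h0 := semilin_sum q φ hφ Finset.univ (fun i => b.repr v i) b
    rw [b.sum_repr v] at h0
    exact h0
  have hspan : ⊤ ≤ Submodule.span k (Set.range (fun i => φ (b i))) := by
    rw [← hss, Submodule.span_le]
    rintro _ ⟨v, rfl⟩
    rw [hexp v]
    exact Submodule.sum_mem _ fun i _ => Submodule.smul_mem _ _ (Submodule.subset_span ⟨i, rfl⟩)
  have hli : LinearIndependent k (fun i => φ (b i)) :=
    linearIndependent_of_top_le_span_of_card_eq_finrank hspan (by simp)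
  rw [injective_iff_map_eq_zero]
  intro v hv
  rw [hexp v] at hv
  have hc := Fintype.linearIndependent_iff.mp hli (fun i => (b.repr v i) ^ q) hv
  have : b.repr v = 0 := by
    ext i
    exact (pow_eq_zero_iff hq0).mp (hc i)
  exact b.repr.map_eq_zero_iff.mp this

theorem exists_fixed [IsSepClosed k] [FiniteDimensional k V] (q : ℕ) (hq : (q : k) = 0)
    (hq2 : 2 ≤ q) (φ : V →+ V) (hφ : ∀ (c : k) (v : V), φ (c • v) = c ^ q • φ v)
    (hinj : Function.Injective φ) (v : V) (hv : v ≠ 0) : ∃ x : V, x ≠ 0 ∧ φ x = x := by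
  classical
  have hq0 : q ≠ 0 := by omega
  obtain ⟨e, he⟩ : ∃ e : ℕ → V, ∀ i, e i = (⇑φ)^[i] v := ⟨_, fun _ => rfl⟩
  have he0 : e 0 = v := by rw [he]; rfl
  have hes : ∀ i, φ (e i) = e (i+1) := by
    intro i; rw [he, he, Function.iterate_succ_apply']
  have hex : ∃ m, ∃ c : ℕ → k, e m = ∑ i ∈ Finset.range m, c i • e i :=
    Aux3213.exists_dep (k := k) e
  obtain ⟨m, hmdef⟩ : ∃ m, m = Nat.find hex := ⟨_, rfl⟩
  have hspec := Nat.find_spec hex
  rw [← hmdef] at hspec
  have hmin : ∀ j, j < m → ¬ ∃ c : ℕ → k, e j = ∑ i ∈ Finset.range j, c i • e i := by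
    intro j hj
    rw [hmdef] at hj
    exact Nat.find_min hex hj
  obtain ⟨c, hc⟩ := hspec
  cases m with
  | zero =>
    exfalso
    apply hv
    rw [Finset.range_zero, Finset.sum_empty, he0] at hc
    exact hc
  | succ m' =>
    have hne : ∃ j ≤ m', c j ≠ 0 := by
      by_contra hcon
      push_neg at hcon
      have hz : e (m'+1) = 0 := by
        rw [hc]
        refine Finset.sum_eq_zero fun i hi => ?_
        rw [hcon i (Nat.lt_succ_iff.mp (Finset.mem_range.mp hi)), zero_smul]
      apply hv
      apply hinj.iterate (m'+1)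
      rw [← he, hz, iterate_map_zero]
    obtain ⟨Q, hQ⟩ : ∃ Q : k[X], Q = P q c m' - X := ⟨_, rfl⟩
    have hdQ : derivative Q = -1 := by
      rw [hQ, derivative_sub, derivative_P q hq, derivative_X, zero_sub]
    have hsep : Q.Separable := by
      rw [separable_def, hdQ]
      exact isCoprime_one_right.neg_right
    have hdegP := natDegree_P q hq2 c m' hne
    have hdegQ : Q.natDegree = (P q c m').natDegree := by
      rw [hQ]
      apply natDegree_sub_eq_left_of_natDegree_lt
      rw [natDegree_X]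
      omega
    have hQ00 : Q.coeff 0 = 0 := by
      rw [coeff_zero_eq_eval_zero, hQ, eval_sub, eval_zero_P q hq0, eval_X, sub_zero]
    obtain ⟨Q₁, hQ₁⟩ := X_dvd_iff.mpr hQ00
    have hQne : Q ≠ 0 := by
      intro h0
      rw [h0, natDegree_zero] at hdegQ
      omega
    have hQ₁ne : Q₁ ≠ 0 := by
      rintro rfl
      exact hQne (by rw [hQ₁, mul_zero])
    have hsep₁ : Q₁.Separable := by
      rw [hQ₁] at hsep
      exact hsep.of_mul_right
    have hnd₁ : Q₁.natDegree + 1 = Q.natDegree := by
      rw [hQ₁, natDegree_X_mul hQ₁ne]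
    have hdeg₁ : Q₁.degree ≠ 0 := by
      intro h0
      have := natDegree_eq_zero_iff_degree_le_zero.mpr h0.le
      omega
    obtain ⟨t, ht⟩ := IsSepClosed.exists_root Q₁ hdeg₁ hsep₁
    have ht' : Q₁.eval t = 0 := IsRoot.def.mp ht
    have ht0 : t ≠ 0 := by
      rintro rfl
      have h1 : derivative Q = Q₁ + X * derivative Q₁ := by
        rw [hQ₁, derivative_mul, derivative_X, one_mul]
      have h2 := congrArg (eval 0) h1
      rw [hdQ, eval_add, eval_mul, eval_X, zero_mul, add_zero, ht'] at h2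
      simp at h2
    have hPt : (P q c m').eval t = t := by
      have h3 : Q.eval t = 0 := by rw [hQ₁, eval_mul, ht', mul_zero]
      rw [hQ, eval_sub, eval_X] at h3
      exact sub_eq_zero.mp h3
    obtain ⟨x, hx⟩ : ∃ x : ℕ → k, ∀ i, x i = (P q c i).eval t := ⟨_, fun _ => rfl⟩
    have hx0 : x 0 = t ^ q * c 0 := by
      rw [hx]; simp only [P, eval_mul, eval_pow, eval_X, eval_C]
    have hxs : ∀ i, x (i+1) = (x i) ^ q + t ^ q * c (i+1) := by
      intro i; rw [hx, hx]; simp only [P, eval_add, eval_mul, eval_pow, eval_X, eval_C]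
    have hxm : x m' = t := by rw [hx]; exact hPt
    refine ⟨∑ i ∈ Finset.range (m'+1), x i • e i, ?_, ?_⟩
    · intro hzero
      rw [Finset.sum_range_succ, hxm] at hzero
      have h1 : ∑ i ∈ Finset.range m', x i • e i = -(t • e m') :=
        eq_neg_of_add_eq_zero_left hzero
      refine hmin m' (Nat.lt_succ_self _) ⟨fun i => -(t⁻¹ * x i), ?_⟩
      have h2 : ∑ i ∈ Finset.range m', (-(t⁻¹ * x i)) • e i
          = -(t⁻¹ • ∑ i ∈ Finset.range m', x i • e i) := by
        rw [Finset.smul_sum, ← Finset.sum_neg_distrib]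
        exact Finset.sum_congr rfl fun i _ => by rw [neg_smul, mul_smul]
      rw [h2, h1, smul_neg, neg_neg, inv_smul_smul₀ ht0]
    · have hφv : φ (∑ i ∈ Finset.range (m'+1), x i • e i) =
          ∑ i ∈ Finset.range (m'+1), (x i) ^ q • e (i+1) := by
        rw [map_sum]
        exact Finset.sum_congr rfl fun i _ => by rw [hφ, hes]
      rw [hφv, Finset.sum_range_succ' (fun i => x i • e i),
        Finset.sum_range_succ (fun i => (x i) ^ q • e (i+1)), hc,
        Finset.sum_range_succ' (fun i => c i • e i), hxm, hx0]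
      simp only [hxs, add_smul, mul_smul, Finset.sum_add_distrib, smul_add, Finset.smul_sum]
      abel

theorem span_fixed_eq_top [IsSepClosed k] [FiniteDimensional k V] (q : ℕ) (hq : (q : k) = 0)
    (hq2 : 2 ≤ q) (φ : V →+ V) (hφ : ∀ (c : k) (v : V), φ (c • v) = c ^ q • φ v)
    (hss : Submodule.span k (Set.range φ) = ⊤) :
    Submodule.span k {v : V | φ v = v} = ⊤ := by
  have hq0 : q ≠ 0 := by omega
  obtain ⟨W, hWdef⟩ : ∃ W : Submodule k V, W = Submodule.span k {v : V | φ v = v} := ⟨_, rfl⟩
  rw [← hWdef]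
  have hfixW : ∀ v : V, φ v = v → v ∈ W := fun v hv => by
    rw [hWdef]; exact Submodule.subset_span hv
  have hWst : ∀ w ∈ W, φ w ∈ W := by
    intro w hw
    rw [hWdef] at hw
    induction hw using Submodule.span_induction with
    | mem x hx =>
      have hx' : φ x = x := hx
      rw [hx']; exact hfixW x hx'
    | zero => rw [map_zero]; exact W.zero_mem
    | add x y _ _ hx hy => rw [map_add]; exact W.add_mem hx hy
    | smul a x _ hx => rw [hφ]; exact W.smul_mem _ hx
  by_contra hWtop
  obtain ⟨W', hcompl⟩ := Submodule.exists_isCompl W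
  have hcompl' : IsCompl W' W := hcompl.symm
  obtain ⟨π, hπ⟩ : ∃ π : V →ₗ[k] W', π = Submodule.projectionOnto W' W hcompl' := ⟨_, rfl⟩
  have hπleft : ∀ u : W', π (u : V) = u := fun u => by
    rw [hπ]; exact Submodule.projectionOnto_apply_left hcompl' u
  have hπzero : ∀ x : V, π x = 0 ↔ x ∈ W := fun x => by
    rw [hπ]; exact Submodule.projectionOnto_apply_eq_zero_iff hcompl'
  have hW'ne : W' ≠ ⊥ := by
    rintro rfl
    apply hWtop
    have := hcompl.sup_eq_top
    rwa [sup_bot_eq] at this
  obtain ⟨u₀, hu₀⟩ : ∃ u₀ : W', u₀ ≠ 0 := by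
    obtain ⟨x, hx, hx0⟩ := Submodule.exists_mem_ne_zero_of_ne_bot hW'ne
    exact ⟨⟨x, hx⟩, fun h => hx0 (congrArg Subtype.val h)⟩
  obtain ⟨ψ, hψ⟩ : ∃ ψ : W' →+ W', ∀ u : W', ψ u = π (φ (u : V)) :=
    ⟨(π.toAddMonoidHom.comp φ).comp W'.subtype.toAddMonoidHom, fun u => rfl⟩
  have hψlin : ∀ (c : k) (u : W'), ψ (c • u) = c ^ q • ψ u := by
    intro c u
    simp only [hψ, Submodule.coe_smul, hφ, map_smul]
  have hπφ : ∀ v : V, π (φ v) = ψ (π v) := by
    intro v
    have hw : v - (π v : V) ∈ W := by
      rw [← hπzero, map_sub, hπleft, sub_self]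
    have hv : φ v = φ (v - (π v : V)) + φ (π v : V) := by
      rw [← map_add, sub_add_cancel]
    rw [hψ, hv, map_add, (hπzero _).mpr (hWst _ hw), zero_add]
  have hψss : Submodule.span k (Set.range ψ) = ⊤ := by
    rw [eq_top_iff]
    intro u' _
    have hall : ∀ x : V, x ∈ Submodule.span k (Set.range φ) →
        π x ∈ Submodule.span k (Set.range ψ) := by
      intro x hx
      induction hx using Submodule.span_induction with
      | mem y hy =>
        obtain ⟨v, rfl⟩ := hy
        rw [hπφ]
        exact Submodule.subset_span ⟨_, rfl⟩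
      | zero => rw [map_zero]; exact Submodule.zero_mem _
      | add x y _ _ hx hy => rw [map_add]; exact Submodule.add_mem _ hx hy
      | smul a x _ hx => rw [map_smul]; exact Submodule.smul_mem _ _ hx
    have := hall (u' : V) (by rw [hss]; exact Submodule.mem_top)
    rwa [hπleft] at this
  have hψinj := inj q hq0 ψ hψlin hψss
  obtain ⟨u, hu0, hufix⟩ := exists_fixed q hq hq2 ψ hψlin hψinj u₀ hu₀
  have hd : φ (u : V) - (u : V) ∈ W := by
    rw [← hπzero, map_sub, hπleft, ← hψ, hufix, sub_self]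
  obtain ⟨φW, hφW⟩ : ∃ φW : W →+ W, ∀ w : W, (φW w : V) = φ (w : V) :=
    ⟨{ toFun := fun w => ⟨φ w, hWst w w.2⟩
       map_zero' := Subtype.ext (by simp)
       map_add' := fun a b => Subtype.ext (by simp) }, fun w => rfl⟩
  have hφWlin : ∀ (c : k) (w : W), φW (c • w) = c ^ q • φW w := by
    intro c w
    apply Subtype.ext
    simp only [hφW, Submodule.coe_smul, hφ]
  obtain ⟨w, hw⟩ := Aux3213.main q hq φW hφWlin ⟨_, hd⟩
  have hw' : (w : V) - φ (w : V) = φ (u : V) - (u : V) := by
    have := congrArg Subtype.val hw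
    simpa [hφW] using this
  have hφw : φ (w : V) = (w : V) - (φ (u : V) - (u : V)) := by
    rw [← hw']; abel
  have hfix : φ ((u : V) + (w : V)) = (u : V) + (w : V) := by
    rw [map_add, hφw]; abel
  have huW : (u : V) ∈ W := by
    have := W.sub_mem (hfixW _ hfix) w.2
    rwa [add_sub_cancel_right] at this
  have : (u : V) = 0 := Submodule.disjoint_def.mp hcompl.disjoint _ huW u.2
  exact hu0 (Subtype.ext this)

end aux

/-- Let k be a separably closed field of characteristic p > 0, q = p^r (r >= 1), V a finite-dimensional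
k-vector space and phi : V -> V an additive map with phi(c v) = c^q phi(v) (a q-linear
endomorphism). If phi is semisimple, i.e. its image spans V over k, then V has a k-basis consisting
of fixed vectors of phi, and the coordinates of every fixed vector in such a basis satisfy c^q = c
(so V is obtained from the F_q-space of fixed vectors by extension of scalars). -/
theorem result (k : Type u) [Field k] [IsSepClosed k] (p : ℕ)
    [Fact p.Prime] [CharP k p] (r : ℕ) (hr : 0 < r) (V : Type v) [AddCommGroup V] [Module k V]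
    [FiniteDimensional k V] (φ : V →+ V) (hφ : ∀ (c : k) (v : V), φ (c • v) = c ^ (p ^ r) • φ v)
    (hss : Submodule.span k (Set.range φ) = ⊤) :
    ∃ b : Module.Basis (Fin (Module.finrank k V)) k V, (∀ i, φ (b i) = b i) ∧
      ∀ v : V, φ v = v → ∀ i, (b.repr v i) ^ (p ^ r) = b.repr v i := by
  have hpr : ((p ^ r : ℕ) : k) = 0 := by
    rw [Nat.cast_pow, CharP.cast_eq_zero k p, zero_pow hr.ne']
  have hq2 : 2 ≤ p ^ r := by
    have hp2 := (Fact.out : p.Prime).two_le
    calc 2 ≤ p := hp2
      _ = p ^ 1 := (pow_one p).symm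
      _ ≤ p ^ r := Nat.pow_le_pow_right (by omega) hr
  have hW := span_fixed_eq_top (p ^ r) hpr hq2 φ hφ hss
  obtain ⟨f, hfmem, hfspan, hfli⟩ :=
    Submodule.exists_fun_fin_finrank_span_eq k {v : V | φ v = v}
  have hcard : Module.finrank k (Submodule.span k {v : V | φ v = v}) = Module.finrank k V := by
    rw [hW]; exact finrank_top k V
  have hsp : ⊤ ≤ Submodule.span k (Set.range f) := by rw [hfspan, hW]
  obtain ⟨b, hb⟩ : ∃ b : Module.Basis (Fin (Module.finrank k V)) k V,
      ∀ i, b i = f ((finCongr hcard).symm i) :=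
    ⟨(Module.Basis.mk hfli hsp).reindex (finCongr hcard), fun i => by simp⟩
  have hbfix : ∀ i, φ (b i) = b i := fun i => by rw [hb]; exact hfmem _
  refine ⟨b, hbfix, ?_⟩
  intro v hv i
  have h0 := semilin_sum (p ^ r) φ hφ Finset.univ (fun j => b.repr v j) b
  rw [b.sum_repr v, hv] at h0
  have h1 : v = ∑ j, (b.repr v j) ^ (p ^ r) • b j :=
    h0.trans (Finset.sum_congr rfl fun j _ => by rw [hbfix j])
  have h2 := b.repr_sum_self (fun j => (b.repr v j) ^ (p ^ r))
  rw [← h1] at h2
  exact (congr_fun h2 i).symm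

end Groth.Agent.S3212
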