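import Groth.Statements.S13366
import Groth.Agent.S3212
import Groth.Agent.Lib.Helper8.MvHensel

set_option autoImplicit false
universe u v
open FrobMod

namespace Groth.Agent.S13366

open IsLocalRing Polynomial

section fieldcase
variable {k : Type u} [Field k] [IsSepClosed k] (p : ℕ) [Fact p.Prime] [CharP k p]

/-- Artin–Schreier equations are solvable over separably closed fields. -/
theorem exists_as_root (c : k) : ∃ y : k, y ^ p - y = c := by
  have hp1 : 1 < p := (Fact.out : p.Prime).one_lt
  have hdeg : (X ^ p - X - C c : k[X]).natDegree = p := by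
    rw [Polynomial.natDegree_sub_C]
    exact FiniteField.X_pow_card_sub_X_natDegree_eq k hp1
  have hder : Polynomial.derivative (X ^ p - X - C c : k[X]) = -1 := by
    simp [Polynomial.derivative_X_pow, CharP.cast_eq_zero k p]
  have hsep : (X ^ p - X - C c : k[X]).Separable := by
    rw [Polynomial.separable_def, hder]
    exact isCoprime_one_right.neg_right
  have hne : (X ^ p - X - C c : k[X]).degree ≠ 0 := by
    intro h
    have := Polynomial.natDegree_eq_zero_iff_degree_le_zero.mpr h.le
    rw [hdeg] at this
    omega
  obtain ⟨y, hy⟩ := IsSepClosed.exists_root _ hne hsep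
  refine ⟨y, ?_⟩
  have : y ^ p - y - c = 0 := by simpa [Polynomial.IsRoot] using hy
  exact sub_eq_zero.mp this

theorem field_case {V : Type u} [AddCommGroup V] [Module k V] [FiniteDimensional k V]
    (φ : V →+ V) (hφ : ∀ (c : k) (v : V), φ (c • v) = c ^ p • φ v)
    (hss : Submodule.span k (Set.range φ) = ⊤) :
    Function.Surjective (fun v => φ v - v) ∧
      Nat.card {v : V // φ v = v} = p ^ Module.finrank k V := by
  classical
  obtain ⟨b, hb, hb2⟩ := Groth.Agent.S3212.result k p 1 one_pos V φ
    (by intro c v; rw [pow_one]; exact hφ c v) hss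
  have hb2' : ∀ v, φ v = v → ∀ i, (b.repr v i) ^ p = b.repr v i := by
    intro v hv i
    have := hb2 v hv i
    rwa [pow_one] at this
  have hφsum : ∀ c : Fin (Module.finrank k V) → k,
      φ (∑ i, c i • b i) = ∑ i, (c i) ^ p • b i := by
    intro c
    rw [map_sum]
    exact Finset.sum_congr rfl (fun i _ => by rw [hφ, hb])
  constructor
  · intro w
    choose y hy using fun i => exists_as_root p (b.repr w i)
    refine ⟨∑ i, y i • b i, ?_⟩
    show φ (∑ i, y i • b i) - ∑ i, y i • b i = w
    rw [hφsum, ← Finset.sum_sub_distrib]
    conv_rhs => rw [← b.sum_repr w]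
    exact Finset.sum_congr rfl (fun i _ => by rw [← sub_smul, hy])
  · have e : {v : V // φ v = v} ≃ (Fin (Module.finrank k V) → {c : k // c ^ p = c}) :=
      { toFun := fun v i => ⟨b.repr v.1 i, hb2' v.1 v.2 i⟩
        invFun := fun c => ⟨∑ i, (c i).1 • b i, by
          rw [hφsum]
          exact Finset.sum_congr rfl (fun i _ => by rw [(c i).2])⟩
        left_inv := fun v => Subtype.ext (b.sum_repr v.1)
        right_inv := fun c => by
          funext i
          apply Subtype.ext
          exact congrFun (b.repr_sum_self (fun i => (c i).1)) i }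
    rw [Nat.card_congr e, Nat.card_fun, Nat.card_eq_fintype_card (α := Fin _), Fintype.card_fin]
    congr 1
    rw [Nat.card_congr (Equiv.subtypeEquivRight
      (fun x => (Subfield.mem_bot_iff_pow_eq_self k p).symm))]
    exact Subfield.card_bot k p

end fieldcase

/-- The coordinate Frobenius-semilinear map attached to a matrix. -/
def Phi {S : Type*} [CommRing S] (p : ℕ) {n : ℕ} (A : Fin n → Fin n → S) (r : Fin n → S) :
    Fin n → S :=
  fun j => ∑ i, A i j * r i ^ p

theorem Phi_add {S : Type*} [CommRing S] (p : ℕ) [Fact p.Prime] [CharP S p] {n : ℕ}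
    (A : Fin n → Fin n → S) (r s : Fin n → S) :
    Phi p A (r + s) = Phi p A r + Phi p A s := by
  funext j
  simp only [Phi, Pi.add_apply]
  rw [← Finset.sum_add_distrib]
  exact Finset.sum_congr rfl (fun i _ => by rw [add_pow_char (r i) (s i) p, mul_add])

theorem Phi_sub {S : Type*} [CommRing S] (p : ℕ) [Fact p.Prime] [CharP S p] {n : ℕ}
    (A : Fin n → Fin n → S) (r s : Fin n → S) :
    Phi p A (r - s) = Phi p A r - Phi p A s := by
  funext j
  simp only [Phi, Pi.sub_apply]
  rw [← Finset.sum_sub_distrib]
  exact Finset.sum_congr rfl (fun i _ => by rw [sub_pow_char (r i) (s i), mul_sub])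

theorem Phi_smul {S : Type*} [CommRing S] (p : ℕ) {n : ℕ}
    (A : Fin n → Fin n → S) (c : S) (r : Fin n → S) :
    Phi p A (c • r) = c ^ p • Phi p A r := by
  funext j
  simp only [Phi, Pi.smul_apply, smul_eq_mul, Finset.mul_sum]
  exact Finset.sum_congr rfl (fun i _ => by rw [mul_pow]; ring)

theorem map_Phi {S S' : Type*} [CommRing S] [CommRing S'] (f : S →+* S') (p : ℕ) {n : ℕ}
    (A : Fin n → Fin n → S) (r : Fin n → S) (j : Fin n) :
    f (Phi p A r j) = Phi p (fun i j => f (A i j)) (fun i => f (r i)) j := by
  simp only [Phi, map_sum, map_mul, map_pow]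

section ringcase
variable (p : ℕ) [Fact p.Prime] {R : Type u} [CommRing R] [HenselianLocalRing R] [CharP R p]
  {n : ℕ}

/-- The polynomial system `Φ(r) - r = c`. -/
noncomputable def Psys (A : Fin n → Fin n → R) (c : Fin n → R) (j : Fin n) :
    MvPolynomial (Fin n) R :=
  ∑ i, MvPolynomial.C (A i j) * MvPolynomial.X i ^ p - MvPolynomial.X j - MvPolynomial.C (c j)

omit [Fact p.Prime] [HenselianLocalRing R] [CharP R p] in
theorem eval_Psys (A : Fin n → Fin n → R) (c : Fin n → R) (a : Fin n → R) (j : Fin n) :
    MvPolynomial.eval a (Psys p A c j) = Phi p A a j - a j - c j := by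
  simp [Psys, Phi]

omit [Fact p.Prime] [HenselianLocalRing R] in
theorem pderiv_Psys (A : Fin n → Fin n → R) (c : Fin n → R) (a : Fin n → R) (i j : Fin n) :
    MvPolynomial.eval a (MvPolynomial.pderiv i (Psys p A c j)) = if j = i then -1 else 0 := by
  have hp0 : ((p : ℕ) : MvPolynomial (Fin n) R) = 0 := by
    rw [← map_natCast (MvPolynomial.C : R →+* MvPolynomial (Fin n) R), CharP.cast_eq_zero,
      map_zero]
  have h1 : ∀ i' : Fin n, MvPolynomial.pderiv i
      (MvPolynomial.C (A i' j) * MvPolynomial.X i' ^ p : MvPolynomial (Fin n) R) = 0 := by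
    intro i'
    rw [MvPolynomial.pderiv_C_mul, Derivation.leibniz_pow, nsmul_eq_mul, hp0, zero_mul, mul_zero]
  have h2 : MvPolynomial.pderiv i (Psys p A c j) =
      - MvPolynomial.pderiv i (MvPolynomial.X j : MvPolynomial (Fin n) R) := by
    unfold Psys
    rw [map_sub, map_sub, map_sum, MvPolynomial.pderiv_C, sub_zero,
      Finset.sum_eq_zero (fun i' _ => h1 i'), zero_sub]
  rw [h2, MvPolynomial.pderiv_X, map_neg]
  by_cases h : j = i
  · subst h
    simp
  · have h' : i ≠ j := fun e => h e.symm
    simp [h, h', Pi.single_apply]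

theorem exists_fix_lift (A : Fin n → Fin n → R) (c a₀ : Fin n → R)
    (h₀ : ∀ j, Phi p A a₀ j - a₀ j - c j ∈ maximalIdeal R) :
    ∃ a : Fin n → R, (∀ j, Phi p A a j - a j = c j) ∧ ∀ j, a j - a₀ j ∈ maximalIdeal R := by
  have hJ : IsUnit (Matrix.of (fun j i =>
      MvPolynomial.eval a₀ (MvPolynomial.pderiv i (Psys p A c j)))).det := by
    have hmat : Matrix.of (fun j i =>
        MvPolynomial.eval a₀ (MvPolynomial.pderiv i (Psys p A c j))) = (-1 : Matrix (Fin n) (Fin n) R) := by
      ext j i
      rw [Matrix.of_apply, pderiv_Psys, Matrix.neg_apply, Matrix.one_apply]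
      by_cases h : j = i <;> simp [h]
    rw [hmat, Matrix.det_neg, Matrix.det_one, mul_one]
    exact (isUnit_one.neg).pow _
  obtain ⟨a, ha, ha2⟩ := Groth.Agent.Lib.Helper8.MvHensel.exists_lift (Psys p A c) a₀
    (fun j => by rw [eval_Psys]; exact h₀ j) hJ
  refine ⟨a, fun j => ?_, ha2⟩
  have := ha j
  rw [eval_Psys] at this
  exact sub_eq_zero.mp this

omit [HenselianLocalRing R] [CharP R p] in
theorem eq_zero_of_fixed [IsLocalRing R] (A : Fin n → Fin n → R) (d : Fin n → R)
    (hd : Phi p A d = d) (hm : ∀ i, d i ∈ maximalIdeal R) : d = 0 := by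
  have hp2 : 2 ≤ p := (Fact.out : p.Prime).two_le
  have hfg : (Ideal.span (Set.range d) : Submodule R R).FG :=
    Submodule.fg_span (Set.finite_range d)
  have hle : Ideal.span (Set.range d) ≤ maximalIdeal R • Ideal.span (Set.range d) := by
    rw [Ideal.span_le]
    rintro _ ⟨j, rfl⟩
    show d j ∈ maximalIdeal R • Ideal.span (Set.range d)
    have hj : d j = ∑ i, A i j * d i ^ p := (congrFun hd j).symm
    rw [hj]
    refine Ideal.sum_mem _ (fun i _ => ?_)
    have h3 : A i j * d i ^ p = (A i j * d i ^ (p - 1)) * d i := by
      rw [mul_assoc, ← pow_succ, Nat.sub_add_cancel (by omega)]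
    rw [h3, smul_eq_mul]
    exact Ideal.mul_mem_mul
      (Ideal.mul_mem_left _ _ (Ideal.pow_mem_of_mem _ (hm i) _ (by omega)))
      (Ideal.subset_span ⟨i, rfl⟩)
  have hI : Ideal.span (Set.range d) = ⊥ :=
    Submodule.eq_bot_of_le_smul_of_le_jacobson_bot (maximalIdeal R) _ hfg hle
      (IsLocalRing.maximalIdeal_le_jacobson ⊥)
  funext i
  have h4 : d i ∈ Ideal.span (Set.range d) := Ideal.subset_span ⟨i, rfl⟩
  rw [hI] at h4
  simpa using h4

/-- Coordinate version of the theorem. -/
theorem coord_case [IsSepClosed (ResidueField R)] (A : Fin n → Fin n → R)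
    (hspan : ∀ x : Fin n → ResidueField R, x ∈ Submodule.span (ResidueField R)
      (Set.range (Phi p (fun i j => residue R (A i j))))) :
    (∀ c : Fin n → R, ∃ a : Fin n → R, Phi p A a - a = c) ∧
      Nat.card {r : Fin n → R // Phi p A r = r} = p ^ n := by
  classical
  haveI : CharP (ResidueField R) p := by
    have h0 : ((p : ℕ) : ResidueField R) = 0 := by
      rw [← map_natCast (residue R), CharP.cast_eq_zero, map_zero]
    have hdvd := ringChar.dvd h0
    rcases (Nat.dvd_prime (Fact.out : p.Prime)).1 hdvd with h1 | h1
    · exact absurd h1 (CharP.ringChar_ne_one)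
    · exact h1 ▸ ringChar.charP (ResidueField R)
  set Ab : Fin n → Fin n → ResidueField R := fun i j => residue R (A i j) with hAb
  let φ : (Fin n → ResidueField R) →+ (Fin n → ResidueField R) :=
    AddMonoidHom.mk' (Phi p Ab) (Phi_add p Ab)
  have hφapp : ∀ x, φ x = Phi p Ab x := fun x => rfl
  have hss : Submodule.span (ResidueField R) (Set.range φ) = ⊤ := by
    rw [eq_top_iff]
    intro x _
    have := hspan x
    exact this
  obtain ⟨hsurj, hcard⟩ := field_case p φ (fun c v => Phi_smul p Ab c v) hss
  rw [Module.finrank_fin_fun] at hcard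
  have hres : ∀ (a : Fin n → R) (j : Fin n),
      residue R (Phi p A a j) = Phi p Ab (fun i => residue R (a i)) j := by
    intro a j
    exact map_Phi (residue R) p A a j
  have hlift : ∀ x : Fin n → ResidueField R, ∃ a : Fin n → R, ∀ j, residue R (a j) = x j := by
    intro x
    choose a ha using fun j => IsLocalRing.residue_surjective (x j)
    exact ⟨a, ha⟩
  constructor
  · intro c
    obtain ⟨x, hx⟩ := hsurj (fun j => residue R (c j))
    obtain ⟨a₀, ha₀⟩ := hlift x
    have hx' : ∀ j, Phi p Ab x j - x j = residue R (c j) := fun j => by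
      have := congrFun hx j
      simpa [hφapp] using this
    have hfun : (fun i => residue R (a₀ i)) = x := funext ha₀
    obtain ⟨a, ha, -⟩ := exists_fix_lift p A c a₀ (fun j => by
      rw [← IsLocalRing.residue_eq_zero_iff, map_sub, map_sub, hres, hfun, ha₀, hx' j, sub_self])
    exact ⟨a, funext (fun j => ha j)⟩
  · rw [← hcard]
    have hredfix : ∀ r : {r : Fin n → R // Phi p A r = r},
        φ (fun j => residue R (r.1 j)) = (fun j => residue R (r.1 j)) := by
      intro r
      funext j
      rw [hφapp, ← hres, r.2]
    refine Nat.card_eq_of_bijective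
      (fun r => (⟨fun j => residue R (r.1 j), hredfix r⟩ : {v // φ v = v})) ⟨?_, ?_⟩
    · intro r r' h
      have h' : (fun j => residue R (r.1 j)) = (fun j => residue R (r'.1 j)) :=
        congrArg Subtype.val h
      have hd : Phi p A (r.1 - r'.1) = r.1 - r'.1 := by rw [Phi_sub, r.2, r'.2]
      have hm : ∀ i, (r.1 - r'.1) i ∈ maximalIdeal R := by
        intro i
        rw [← IsLocalRing.residue_eq_zero_iff, Pi.sub_apply, map_sub, sub_eq_zero]
        exact congrFun h' i
      have := eq_zero_of_fixed p A _ hd hm
      exact Subtype.ext (sub_eq_zero.mp this)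
    · rintro ⟨x, hx⟩
      obtain ⟨a₀, ha₀⟩ := hlift x
      have hfun : (fun i => residue R (a₀ i)) = x := funext ha₀
      have hx' : ∀ j, Phi p Ab x j = x j := fun j => congrFun hx j
      obtain ⟨a, ha, ha2⟩ := exists_fix_lift p A 0 a₀ (fun j => by
        rw [← IsLocalRing.residue_eq_zero_iff, map_sub, map_sub, hres, hfun, ha₀, hx' j,
          Pi.zero_apply, map_zero, sub_self, sub_zero])
      have hafix : Phi p A a = a := funext (fun j => sub_eq_zero.mp (by simpa using ha j))
      refine ⟨⟨a, hafix⟩, ?_⟩
      apply Subtype.ext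
      funext j
      show residue R (a j) = x j
      rw [← ha₀ j, ← sub_eq_zero, ← map_sub, IsLocalRing.residue_eq_zero_iff]
      exact ha2 j

end ringcase


/-- Over a strictly Henselian local ring R of prime characteristic p (Henselian, separably closed
residue field), let M be a free module of finite rank n and T an additive Frobenius-semilinear
self-map of M (T(rm) = r^p T(m)) whose values generate M as an R-module; for a basis (e_i) this says
that the matrix of coefficients of the elements T(e_i) is invertible. Then the map T − 1 is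
surjective and its kernel has cardinality p^n. (The published statement calls T a
Frobenius-semilinear isomorphism; this row asks only that the values of T generate M over R, which
is the property of T the published proof uses. Requiring T itself to be bijective would, for M ≠ 0,
force the Frobenius of R to be surjective.) -/
theorem result (p : ℕ) [Fact p.Prime] {R : Type u} [CommRing R]
    [HenselianLocalRing R] [IsSepClosed (IsLocalRing.ResidueField R)] [CharP R p]
    {M : Type v} [AddCommGroup M] [Module R M] [Module.Free R M] [Module.Finite R M]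
    (T : M →+ M) (hT : ∀ (r : R) (m : M), T (r • m) = r ^ p • T m)
    (hspan : Submodule.span R (Set.range T) = ⊤) :
    Function.Surjective (fun m => T m - m) ∧ Nat.card {m : M // T m = m} = p ^ Module.finrank R M := by
  classical
  haveI : IsLocalRing R := inferInstance
  set n := Module.finrank R M with hn
  let b : Module.Basis (Fin n) R M := Module.finBasis R M
  obtain ⟨A, hA⟩ : ∃ A : Fin n → Fin n → R, ∀ i j, A i j = b.equivFun (T (b i)) j :=
    ⟨_, fun _ _ => rfl⟩
  have key : ∀ m : M, b.equivFun (T m) = Phi p A (b.equivFun m) := by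
    intro m
    have hm : T m = ∑ i, (b.equivFun m i) ^ p • T (b i) := by
      conv_lhs => rw [← b.sum_equivFun m]
      rw [map_sum]
      exact Finset.sum_congr rfl (fun i _ => hT _ _)
    rw [hm, map_sum]
    funext j
    rw [Finset.sum_apply]
    simp only [Phi]
    refine Finset.sum_congr rfl (fun i _ => ?_)
    rw [map_smul, Pi.smul_apply, smul_eq_mul, hA]
    exact mul_comm _ _
  have hspan' : ∀ x : Fin n → ResidueField R, x ∈ Submodule.span (ResidueField R)
      (Set.range (Phi p (fun i j => residue R (A i j)))) := by
    have hρ : ∀ m : M, (fun j => residue R (b.equivFun m j)) ∈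
        Submodule.span (ResidueField R)
          (Set.range (Phi p (fun i j => residue R (A i j)))) := by
      intro m
      have hmem : m ∈ Submodule.span R (Set.range T) := by rw [hspan]; trivial
      induction hmem using Submodule.span_induction with
      | mem x hx =>
        obtain ⟨m', rfl⟩ := hx
        apply Submodule.subset_span
        refine ⟨fun j => residue R (b.equivFun m' j), ?_⟩
        funext j
        rw [key, map_Phi]
      | zero =>
        have h0 : (fun j => residue R (b.equivFun (0 : M) j)) = 0 := by
          funext j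
          simp
        rw [h0]
        exact Submodule.zero_mem _
      | add x y _ _ ihx ihy =>
        have h0 : (fun j => residue R (b.equivFun (x + y) j)) =
            (fun j => residue R (b.equivFun x j)) + (fun j => residue R (b.equivFun y j)) := by
          funext j
          simp
        rw [h0]
        exact Submodule.add_mem _ ihx ihy
      | smul a x _ ih =>
        have h0 : (fun j => residue R (b.equivFun (a • x) j)) =
            residue R a • (fun j => residue R (b.equivFun x j)) := by
          funext j
          simp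
        rw [h0]
        exact Submodule.smul_mem _ _ ih
    intro x
    choose a ha using fun j => IsLocalRing.residue_surjective (x j)
    have h2 : (fun j => residue R (b.equivFun (b.equivFun.symm a) j)) = x := by
      funext j
      rw [LinearEquiv.apply_symm_apply]
      exact ha j
    rw [← h2]
    exact hρ _
  obtain ⟨hsurj, hcard⟩ := coord_case p A hspan'
  constructor
  · intro c
    obtain ⟨a, ha⟩ := hsurj (b.equivFun c)
    refine ⟨b.equivFun.symm a, ?_⟩
    apply b.equivFun.injective
    show b.equivFun (T (b.equivFun.symm a) - b.equivFun.symm a) = b.equivFun c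
    rw [map_sub, key, LinearEquiv.apply_symm_apply, ha]
  · rw [← hcard]
    exact Nat.card_congr (Equiv.subtypeEquiv b.equivFun.toEquiv (fun m => by
      show T m = m ↔ Phi p A (b.equivFun m) = b.equivFun m
      rw [← key]
      exact b.equivFun.injective.eq_iff.symm))


end Groth.Agent.S13366
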