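import Groth.Statements.S13367
import Groth.Agent.S13366

set_option autoImplicit false
universe u v
open FrobMod

namespace Groth.Agent.S13367

open IsLocalRing TensorProduct
open Groth.Agent.S13366 (Phi Phi_add Phi_sub Phi_smul map_Phi field_case coord_case eq_zero_of_fixed)

theorem charP_residue (p : ℕ) [Fact p.Prime] (R : Type u) [CommRing R] [IsLocalRing R] [CharP R p] :
    CharP (ResidueField R) p := by
  have h0 : ((p : ℕ) : ResidueField R) = 0 := by
    rw [← map_natCast (residue R), CharP.cast_eq_zero, map_zero]
  have hdvd := ringChar.dvd h0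
  rcases (Nat.dvd_prime (Fact.out : p.Prime)).1 hdvd with h1 | h1
  · exact absurd h1 (CharP.ringChar_ne_one)
  · exact h1 ▸ ringChar.charP (ResidueField R)

/-- Semilinear maps raise the `I`-adic filtration. -/
theorem T_smul_top {R : Type u} [CommRing R] {M : Type v} [AddCommGroup M] [Module R M] (p : ℕ)
    (T : M →+ M) (hT : ∀ (r : R) (m : M), T (r • m) = r ^ p • T m) (I : Ideal R) (x : M)
    (hx : x ∈ I • (⊤ : Submodule R M)) : T x ∈ (I ^ p) • (⊤ : Submodule R M) := by
  refine Submodule.smul_induction_on hx ?_ ?_
  · intro r hr m _
    rw [hT]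
    exact Submodule.smul_mem_smul (Ideal.pow_mem_pow hr p) Submodule.mem_top
  · intro x y hx hy
    rw [map_add]
    exact Submodule.add_mem _ hx hy

theorem fixed_eq_zero {R : Type u} [CommRing R] [IsLocalRing R] [IsNoetherianRing R]
    {M : Type v} [AddCommGroup M] [Module R M] [Module.Finite R M] (p : ℕ) (hp : 2 ≤ p)
    (T : M →+ M) (hT : ∀ (r : R) (m : M), T (r • m) = r ^ p • T m) (d : M) (hd : T d = d)
    (hm : d ∈ maximalIdeal R • (⊤ : Submodule R M)) : d = 0 := by
  have hk : ∀ k : ℕ, d ∈ (maximalIdeal R) ^ (k + 1) • (⊤ : Submodule R M) := by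
    intro k
    induction k with
    | zero => simpa using hm
    | succ k ih =>
      have h1 := T_smul_top p T hT _ d ih
      rw [hd, ← pow_mul] at h1
      refine Submodule.smul_mono_left (Ideal.pow_le_pow_right ?_) h1
      have := Nat.mul_le_mul_left (k + 1) hp
      omega
  have hbot := Ideal.iInf_pow_smul_eq_bot_of_isLocalRing (M := M) (maximalIdeal R)
    (IsLocalRing.maximalIdeal.isMaximal R).ne_top
  have h2 : d ∈ (⨅ i : ℕ, (maximalIdeal R) ^ i • ⊤ : Submodule R M) := by
    rw [Submodule.mem_iInf]
    intro i
    cases i with
    | zero => simp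
    | succ i => exact hk i
  rw [hbot] at h2
  simpa using h2


/-- Over a strictly Henselian discrete valuation ring R of prime characteristic p with residue field κ,
for a finitely generated module M with n = dim_κ(κ ⊗ M) and a Frobenius-semilinear additive
bijection T of M (T(rm) = r^p T(m)), the map T − 1 is surjective and its kernel has cardinality p^n. -/
theorem result (p : ℕ) [Fact p.Prime] {R : Type u} [CommRing R] [IsDomain R]
    [IsDiscreteValuationRing R] [HenselianLocalRing R] [IsSepClosed (IsLocalRing.ResidueField R)] [CharP R p]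
    {M : Type v} [AddCommGroup M] [Module R M] [Module.Finite R M]
    (T : M →+ M) (hT : ∀ (r : R) (m : M), T (r • m) = r ^ p • T m) (hbij : Function.Bijective T) :
    Function.Surjective (fun m => T m - m) ∧
      Nat.card {m : M // T m = m} =
        p ^ Module.finrank (IsLocalRing.ResidueField R) (TensorProduct R (IsLocalRing.ResidueField R) M) := by
  classical
  haveI : CharP (ResidueField R) p := charP_residue p R
  have hp2 : 2 ≤ p := (Fact.out : p.Prime).two_le
  set n := Module.finrank (ResidueField R) (TensorProduct R (ResidueField R) M) with hn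
  let bκ : Module.Basis (Fin n) (ResidueField R) (TensorProduct R (ResidueField R) M) :=
    Module.finBasis (ResidueField R) (TensorProduct R (ResidueField R) M)
  have hmk : Function.Surjective (TensorProduct.mk R (ResidueField R) M 1) :=
    TensorProduct.mk_surjective R M (ResidueField R) IsLocalRing.residue_surjective
  choose v hv using fun i => hmk (bκ i)
  have hv' : ∀ i, (1 : ResidueField R) ⊗ₜ[R] v i = bκ i := hv
  have hvspan : Submodule.span R (Set.range v) = ⊤ :=
    IsLocalRing.span_eq_top_of_tmul_eq_basis v bκ hv'
  let π : (Fin n → R) →ₗ[R] M := Fintype.linearCombination R v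
  have hπ : ∀ r, π r = ∑ i, r i • v i := fun r => Fintype.linearCombination_apply R v r
  have hπsurj : Function.Surjective π := by
    rw [← LinearMap.range_eq_top, Fintype.range_linearCombination, hvspan]
  have hmin : ∀ r : Fin n → R, π r = 0 → ∀ i, r i ∈ maximalIdeal R := by
    intro r hr i
    have h1 : ∑ i, residue R (r i) • bκ i = 0 := by
      have h2 := congrArg (TensorProduct.mk R (ResidueField R) M 1) hr
      rw [hπ, map_sum, map_zero] at h2
      refine Eq.trans ?_ h2
      refine Finset.sum_congr rfl (fun i _ => ?_)
      rw [map_smul, hv i, ← algebraMap_smul (ResidueField R) (r i) (bκ i),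
        IsLocalRing.ResidueField.algebraMap_eq]
    have h3 := Fintype.linearIndependent_iff.mp bκ.linearIndependent _ h1 i
    exact (IsLocalRing.residue_eq_zero_iff _).mp h3
  choose et het using fun i => hπsurj (T (v i))
  have key : ∀ r : Fin n → R, π (Phi p et r) = T (π r) := by
    intro r
    rw [hπ, hπ, map_sum]
    simp only [Phi, Finset.sum_smul, mul_smul]
    rw [Finset.sum_comm]
    refine Finset.sum_congr rfl (fun i _ => ?_)
    rw [hT, ← het i, hπ, Finset.smul_sum]
    refine Finset.sum_congr rfl (fun j _ => ?_)
    exact smul_comm _ _ _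
  have hres : ∀ (a : Fin n → R) (j : Fin n),
      residue R (Phi p et a j) =
        Phi p (fun i j => residue R (et i j)) (fun i => residue R (a i)) j :=
    fun a j => map_Phi (residue R) p et a j
  have hspan' : ∀ x : Fin n → ResidueField R, x ∈ Submodule.span (ResidueField R)
      (Set.range (Phi p (fun i j => residue R (et i j)))) := by
    have hstd : ∀ j : Fin n, (fun i => if j = i then (1 : ResidueField R) else 0) ∈
        Set.range (Phi p (fun i j => residue R (et i j))) := by
      intro j
      obtain ⟨m, hm⟩ := hbij.2 (v j)
      obtain ⟨r, rfl⟩ := hπsurj m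
      have h1 : π (Phi p et r - fun i => if j = i then (1 : R) else 0) = 0 := by
        rw [map_sub, key, hm, hπ, sub_eq_zero]
        simp [ite_smul]
      have h2 := hmin _ h1
      refine ⟨fun i => residue R (r i), ?_⟩
      funext i
      rw [← hres]
      have h3 := h2 i
      rw [Pi.sub_apply, ← IsLocalRing.residue_eq_zero_iff, map_sub, sub_eq_zero] at h3
      rw [h3]
      split_ifs <;> simp
    intro x
    have hx : x = ∑ j, x j • (fun i => if j = i then (1 : ResidueField R) else 0) := by
      funext i
      simp [Finset.sum_apply]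
    rw [hx]
    exact Submodule.sum_mem _
      (fun j _ => Submodule.smul_mem _ _ (Submodule.subset_span (hstd j)))
  obtain ⟨hsurjF, hcardF⟩ := coord_case p et hspan'
  constructor
  · intro c
    obtain ⟨ct, rfl⟩ := hπsurj c
    obtain ⟨a, ha⟩ := hsurjF ct
    refine ⟨π a, ?_⟩
    show T (π a) - π a = π ct
    rw [← key, ← map_sub, ha]
  · have hcardκ : Nat.card {x : Fin n → ResidueField R //
        Phi p (fun i j => residue R (et i j)) x = x} = p ^ n := by
      let φ : (Fin n → ResidueField R) →+ (Fin n → ResidueField R) :=
        AddMonoidHom.mk' (Phi p (fun i j => residue R (et i j))) (Phi_add p _)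
      have hss : Submodule.span (ResidueField R) (Set.range φ) = ⊤ := by
        rw [eq_top_iff]
        intro x _
        exact hspan' x
      have h5 := (field_case p φ (fun c v => Phi_smul p _ c v) hss).2
      rw [Module.finrank_fin_fun] at h5
      exact h5
    haveI hfin2 : Finite {x : Fin n → ResidueField R //
        Phi p (fun i j => residue R (et i j)) x = x} :=
      Nat.finite_of_card_ne_zero
        (by rw [hcardκ]; exact pow_ne_zero _ (Fact.out : p.Prime).ne_zero)
    have hσ : ∀ m, π (Function.surjInv hπsurj m) = m := Function.surjInv_eq hπsurj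
    have hι₂fix : ∀ m : {m : M // T m = m},
        Phi p (fun i j => residue R (et i j))
          (fun i => residue R (Function.surjInv hπsurj m.1 i)) =
          fun i => residue R (Function.surjInv hπsurj m.1 i) := by
      intro m
      funext i
      rw [← hres]
      have h1 : π (Phi p et (Function.surjInv hπsurj m.1) - Function.surjInv hπsurj m.1) = 0 := by
        rw [map_sub, key, hσ, m.2, sub_self]
      have h2 := hmin _ h1 i
      rw [Pi.sub_apply, ← IsLocalRing.residue_eq_zero_iff, map_sub, sub_eq_zero] at h2
      exact h2
    let ι₂ : {m : M // T m = m} → {x : Fin n → ResidueField R //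
        Phi p (fun i j => residue R (et i j)) x = x} :=
      fun m => ⟨fun i => residue R (Function.surjInv hπsurj m.1 i), hι₂fix m⟩
    have hinj₂ : Function.Injective ι₂ := by
      intro m m' h
      have h' : (fun i => residue R (Function.surjInv hπsurj m.1 i)) =
          (fun i => residue R (Function.surjInv hπsurj m'.1 i)) := congrArg Subtype.val h
      have hd : T (m.1 - m'.1) = m.1 - m'.1 := by rw [map_sub, m.2, m'.2]
      have e1 : m.1 - m'.1 =
          π (Function.surjInv hπsurj m.1 - Function.surjInv hπsurj m'.1) := by
        rw [map_sub, hσ, hσ]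
      have hmem : m.1 - m'.1 ∈ maximalIdeal R • (⊤ : Submodule R M) := by
        rw [e1, hπ]
        refine Submodule.sum_mem _ (fun i _ => Submodule.smul_mem_smul ?_ Submodule.mem_top)
        rw [Pi.sub_apply, ← IsLocalRing.residue_eq_zero_iff, map_sub, sub_eq_zero]
        exact congrFun h' i
      have h6 := fixed_eq_zero p hp2 T hT _ hd hmem
      exact Subtype.ext (sub_eq_zero.mp h6)
    let ι₁ : {r : Fin n → R // Phi p et r = r} → {m : M // T m = m} :=
      fun r => ⟨π r.1, by rw [← key, r.2]⟩
    have hinj₁ : Function.Injective ι₁ := by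
      intro r r' h
      have h' : π r.1 = π r'.1 := congrArg Subtype.val h
      have hd : Phi p et (r.1 - r'.1) = r.1 - r'.1 := by rw [Phi_sub, r.2, r'.2]
      have hm : ∀ i, (r.1 - r'.1) i ∈ maximalIdeal R :=
        hmin _ (by rw [map_sub, h', sub_self])
      have h6 := eq_zero_of_fixed p et _ hd hm
      exact Subtype.ext (sub_eq_zero.mp h6)
    haveI : Finite {m : M // T m = m} := Finite.of_injective ι₂ hinj₂
    apply le_antisymm
    · rw [← hcardκ]
      exact Nat.card_le_card_of_injective ι₂ hinj₂
    · rw [← hcardF]
      exact Nat.card_le_card_of_injective ι₁ hinj₁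


end Groth.Agent.S13367
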