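-- Statement S13371.
import Groth.Statements.S13371
import Mathlib
import Groth.Agent.Lib.Helper1.AffUnits
set_option linter.style.haveILetI false

set_option autoImplicit false
universe u
open GaDual

namespace Groth.Agent.S13371
open CategoryTheory MonoidalCategory CartesianMonoidalCategory MonObj GrpObj AlgebraicGeometry Limits
open Red Groth.Agent.Lib.Helper13 AffineSpace

open CategoryTheory AlgebraicGeometry MonObj CartesianMonoidalCategory in
/-- If S is a reduced scheme, every homomorphism of S-group schemes from the additive group to the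
multiplicative group over S is the trivial homomorphism. -/
theorem result (S : Scheme.{u}) [IsReduced S] (φ : Red.Ga S ⟶ Red.Gm S)
    [IsMonHom φ] : φ = 1 := by
  let n : Type u := PUnit.{u+1}
  let A : Over S := Over.mk (𝔸(n; S) ↘ S)
  obtain ⟨α, hα⟩ := exists_gaFn_eq (S := S) (X := A) (coord S PUnit.unit)
  let f := gmFn φ
  have hf : IsUnit f := isUnit_gmFn φ
  obtain ⟨v, hv, hpv⟩ := Groth.Agent.Lib.Helper1.AffUnits.units_affineSpace n S
    (α.left.appTop f) (hf.map α.left.appTop.hom)
  have key : ∀ (X : Over S) (x : X ⟶ Ga S), gmFn (x ≫ φ) = X.hom.appTop v := by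
    intro X x
    let h : X ⟶ A := Over.homMk (homOfVector X.hom (fun _ => gaFn x)) (homOfVector_over _ _)
    have hx : h ≫ α = x := by
      apply gaFn_injective
      rw [gaFn_comp, hα]
      exact homOfVector_appTop_coord _ _ _
    rw [gmFn_comp, ← hx, Over.comp_left, Scheme.Hom.comp_appTop, CommRingCat.comp_apply]
    change h.left.appTop (α.left.appTop f) = _
    rw [← hpv, ← CommRingCat.comp_apply, ← Scheme.Hom.comp_appTop]
    congr 3
    exact homOfVector_over _ _
  have hv1 : v = 1 := by
    have h1 := key (𝟙_ (Over S)) 1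
    have h0 : (1 : 𝟙_ (Over S) ⟶ Ga S) ≫ φ = 1 := MonObj.one_comp φ
    rw [h0, gmFn_one] at h1
    have : (𝟙_ (Over S)).hom = 𝟙 S := rfl
    rw [this] at h1
    simpa using h1.symm
  apply gmFn_injective
  have h2 := key (Ga S) (𝟙 _)
  rw [Category.id_comp, hv1, map_one] at h2
  rw [h2, gmFn_one]

end Groth.Agent.S13371
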