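import Mathlib
import Groth.Statements.S13373
import Groth.Agent.Lib.Helper29.CharPChar
import Groth.Agent.Lib.Helper29.CharPCharPS

set_option autoImplicit false
universe u
open GaDual

namespace Aux13373

open Polynomial
open Groth.Agent.Lib.Helper29.CharPChar

theorem main (p : ℕ) [hp : Fact p.Prime] (A : Type u) [CommRing A] [CharP A p]
    (χ : PowerSeries A) :
    (PowerSeries.constantCoeff χ = 1 ∧
      PowerSeries.subst (MvPowerSeries.X 0 + MvPowerSeries.X 1 : MvPowerSeries (Fin 2) A) χ =
        PowerSeries.subst (MvPowerSeries.X 0 : MvPowerSeries (Fin 2) A) χ *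
          PowerSeries.subst (MvPowerSeries.X 1 : MvPowerSeries (Fin 2) A) χ) ↔
      ∃ a : ℕ → A, (∀ n, a n ^ p = 0) ∧ ∀ m : ℕ,
        PowerSeries.trunc (p ^ m) χ = ∏ n ∈ Finset.range m, ∑ j ∈ Finset.range p,
          Polynomial.C (Ring.inverse (j.factorial : A) * a n ^ j) * Polynomial.X ^ (j * p ^ n) := by
  constructor
  · rintro ⟨h0, hmul⟩
    have hstar := (ps_star_iff χ).1 hmul
    have hc : ∀ B, IsChar (fun k => PowerSeries.coeff k χ) B := fun B =>
      ⟨by show PowerSeries.coeff 0 χ = 1
          rw [PowerSeries.coeff_zero_eq_constantCoeff_apply, h0],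
        fun i j _ _ => hstar i j⟩
    refine ⟨fun n => PowerSeries.coeff (p ^ n) χ, fun n => ?_, fun m => ?_⟩
    · exact IsChar.pow_p_pow_eq_zero n (n + 1) _ (hc _) (Nat.lt_succ_self n)
    · rw [trunc_eq_sum]
      exact IsChar.sum_eq_prod m _ (hc _)
  · rintro ⟨a, ha, htr⟩
    have htr' : ∀ m : ℕ, PowerSeries.trunc (p ^ m) χ = ∏ n ∈ Finset.range m, Efac p (a n) n := htr
    have hPmul : ∀ m i j : ℕ,
        (∏ n ∈ Finset.range m, Efac p (a n) n).coeff i *
          (∏ n ∈ Finset.range m, Efac p (a n) n).coeff j =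
        (∏ n ∈ Finset.range m, Efac p (a n) n).coeff (i + j) * ((i + j).choose j : A) := by
      intro m
      refine star_of_mul _ ?_
      rw [map_prod, map_prod, map_prod, ← Finset.prod_mul_distrib]
      exact Finset.prod_congr rfl fun n _ => Efac_mul (a n) (ha n) n _ _
    have hcoef : ∀ m k : ℕ, k < p ^ m →
        PowerSeries.coeff k χ = (∏ n ∈ Finset.range m, Efac p (a n) n).coeff k := by
      intro m k hk
      rw [← htr' m, PowerSeries.coeff_trunc, if_pos hk]
    constructor
    · have h1 := hcoef 0 0 (by simp)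
      rw [Finset.range_zero, Finset.prod_empty, coeff_one_zero] at h1
      rw [← PowerSeries.coeff_zero_eq_constantCoeff_apply]
      exact h1
    · rw [ps_star_iff]
      intro i j
      have hlt : i + j < p ^ (i + j + 1) :=
        lt_trans (Nat.lt_succ_self _) (Nat.lt_pow_self hp.out.one_lt)
      rw [hcoef (i + j + 1) i (lt_of_le_of_lt (Nat.le_add_right i j) hlt),
        hcoef (i + j + 1) j (lt_of_le_of_lt (Nat.le_add_left j i) hlt),
        hcoef (i + j + 1) (i + j) hlt]
      exact hPmul _ i j

end Aux13373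

namespace Groth.Agent.S13373

/-- Over a commutative algebra A of prime characteristic p, the formal characters (power series χ with
constant term 1 and χ(X+Y) = χ(X)χ(Y)) are exactly the infinite products ∏_n exp_p(a_n X^(p^n)) with
a_n^p = 0, where exp_p(Y) = Σ_{j<p} Y^j/j!; the infinite product is expressed through its
truncations: χ mod X^(p^m) equals the finite product over n < m. -/
theorem result (p : ℕ) [Fact p.Prime] (A : Type u) [CommRing A] [CharP A p]
    (χ : PowerSeries A) :
    (PowerSeries.constantCoeff χ = 1 ∧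
      PowerSeries.subst (MvPowerSeries.X 0 + MvPowerSeries.X 1 : MvPowerSeries (Fin 2) A) χ =
        PowerSeries.subst (MvPowerSeries.X 0 : MvPowerSeries (Fin 2) A) χ *
          PowerSeries.subst (MvPowerSeries.X 1 : MvPowerSeries (Fin 2) A) χ) ↔
      ∃ a : ℕ → A, (∀ n, a n ^ p = 0) ∧ ∀ m : ℕ,
        PowerSeries.trunc (p ^ m) χ = ∏ n ∈ Finset.range m, ∑ j ∈ Finset.range p,
          Polynomial.C (Ring.inverse (j.factorial : A) * a n ^ j) * Polynomial.X ^ (j * p ^ n) := by
  exact Aux13373.main p A χ

end Groth.Agent.S13373
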