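import Mathlib
import Groth.Statements.S13374
import Groth.Agent.Lib.Helper29.CharPChar

set_option autoImplicit false
universe u
open GaDual

namespace Aux13374

open Polynomial
open Groth.Agent.Lib.Helper29.CharPChar

theorem main (p : ℕ) [hp : Fact p.Prime] (A : Type u) [CommRing A] [CharP A p]
    (n : ℕ) (f : Polynomial A) (hdeg : f.natDegree < p ^ n) (h0 : f.eval 0 = 1)
    (hmul : Ideal.Quotient.mk
        (Ideal.span {(MvPolynomial.X 0 ^ p ^ n : MvPolynomial (Fin 2) A), MvPolynomial.X 1 ^ p ^ n})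
        (Polynomial.aeval (MvPolynomial.X 0 + MvPolynomial.X 1 : MvPolynomial (Fin 2) A) f) =
      Ideal.Quotient.mk
        (Ideal.span {(MvPolynomial.X 0 ^ p ^ n : MvPolynomial (Fin 2) A), MvPolynomial.X 1 ^ p ^ n})
        (Polynomial.aeval (MvPolynomial.X 0 : MvPolynomial (Fin 2) A) f *
          Polynomial.aeval (MvPolynomial.X 1 : MvPolynomial (Fin 2) A) f)) :
    ∃ a : ℕ → A, (∀ i, a i ^ p = 0) ∧
      f = ∏ i ∈ Finset.range n, ∑ j ∈ Finset.range p,
          Polynomial.C (Ring.inverse (j.factorial : A) * a i ^ j) * Polynomial.X ^ (j * p ^ i) := by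
  have hc : IsChar (fun k => f.coeff k) (p ^ n) := by
    refine ⟨?_, fun i j hi hj => star_of_mul_trunc (p ^ n) f hmul i j hi hj⟩
    show f.coeff 0 = 1
    rw [Polynomial.coeff_zero_eq_eval_zero, h0]
  refine ⟨fun i => if i < n then f.coeff (p ^ i) else 0, fun i => ?_, ?_⟩
  · show (if i < n then f.coeff (p ^ i) else 0) ^ p = 0
    split_ifs with hi
    · exact IsChar.pow_p_pow_eq_zero i n _ hc hi
    · exact zero_pow hp.out.ne_zero
  · have h1 := IsChar.sum_eq_prod n _ hc
    calc f = ∑ k ∈ Finset.range (p ^ n), C (f.coeff k) * X ^ k :=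
          Polynomial.as_sum_range_C_mul_X_pow' f hdeg
      _ = ∏ i ∈ Finset.range n, Efac p (f.coeff (p ^ i)) i := h1
      _ = _ := Finset.prod_congr rfl (fun i hi => by
          rw [Finset.mem_range] at hi
          show _ = ∑ j ∈ Finset.range p, Polynomial.C (Ring.inverse (j.factorial : A) *
            (if i < n then f.coeff (p ^ i) else 0) ^ j) * Polynomial.X ^ (j * p ^ i)
          rw [if_pos hi]
          rfl)

end Aux13374

namespace Groth.Agent.S13374

/-- Over a commutative algebra A of prime characteristic p, every character of the kernel α_(p^n) of the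
n-th Frobenius of the additive group — i.e. every polynomial f of degree < p^n with f(0) = 1 and
f(X+Y) ≡ f(X)f(Y) modulo (X^(p^n), Y^(p^n)) — is the product ∏_{i<n} exp_p(a_i X^(p^i)) for some a_i
with a_i^p = 0, exp_p(Y) = Σ_{j<p} Y^j/j!. -/
theorem result (p : ℕ) [Fact p.Prime] (A : Type u) [CommRing A] [CharP A p]
    (n : ℕ) (f : Polynomial A) (hdeg : f.natDegree < p ^ n) (h0 : f.eval 0 = 1)
    (hmul : Ideal.Quotient.mk
        (Ideal.span {(MvPolynomial.X 0 ^ p ^ n : MvPolynomial (Fin 2) A), MvPolynomial.X 1 ^ p ^ n})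
        (Polynomial.aeval (MvPolynomial.X 0 + MvPolynomial.X 1 : MvPolynomial (Fin 2) A) f) =
      Ideal.Quotient.mk
        (Ideal.span {(MvPolynomial.X 0 ^ p ^ n : MvPolynomial (Fin 2) A), MvPolynomial.X 1 ^ p ^ n})
        (Polynomial.aeval (MvPolynomial.X 0 : MvPolynomial (Fin 2) A) f *
          Polynomial.aeval (MvPolynomial.X 1 : MvPolynomial (Fin 2) A) f)) :
    ∃ a : ℕ → A, (∀ i, a i ^ p = 0) ∧
      f = ∏ i ∈ Finset.range n, ∑ j ∈ Finset.range p,
          Polynomial.C (Ring.inverse (j.factorial : A) * a i ^ j) * Polynomial.X ^ (j * p ^ i) := by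
  exact Aux13374.main p A n f hdeg h0 hmul

end Groth.Agent.S13374
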