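import Groth.Statements.S13378
import Groth.Agent.Lib.Helper20.ProCompl
import Groth.Agent.S13363

set_option autoImplicit false
universe u
open ProCompl

namespace Groth.Agent.S13378


open CategoryTheory ProfiniteGrp ProfiniteGrp.ProfiniteCompletion Groth.Agent.Lib.Helper20.ProCompl

/-- multiplicative form of S13363 for discrete groups -/
theorem exists_finiteIndex_not_mem {B : Type u} [CommGroup B] (f : B) (n : ℕ) (hn : 0 < n)
    (hf : ∀ b : B, b ^ n ≠ f) : ∃ H : Subgroup B, H.FiniteIndex ∧ f ∉ H := by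
  let _ : TopologicalSpace (Additive B) := ⊥
  have : DiscreteTopology (Additive B) := ⟨rfl⟩
  have h := (Groth.Agent.S13363.result (A := Additive B) (fun _ _ => isOpen_discrete _)
    (Additive.ofMul f)).mpr (by
      intro hdiv
      obtain ⟨b, hb⟩ := hdiv n hn
      exact hf (Additive.toMul b) (by
        have h1 := congrArg Additive.toMul hb
        simpa using h1))
  obtain ⟨B0, -, hfi, hnot⟩ := h
  refine ⟨AddSubgroup.toSubgroup' B0, ?_, ?_⟩
  · rw [← Subgroup.finiteIndex_toAddSubgroup_iff]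
    have h2 : Subgroup.toAddSubgroup (AddSubgroup.toSubgroup' B0) = B0 :=
      OrderIso.apply_symm_apply _ _
    rw [h2]
    exact hfi
  · rw [AddSubgroup.mem_toSubgroup']
    exact hnot

/-- the profinite topology of `A` induces that of `A'` -/
theorem exists_comap_le (A : Type u) [CommGroup A] (A' : Subgroup A)
    (htors : ∃ N : ℕ, 0 < N ∧ ∀ x : A ⧸ A', IsOfFinOrder x → x ^ N = 1)
    (M' : FiniteIndexNormalSubgroup A') :
    ∃ H : FiniteIndexNormalSubgroup A, H.comap A'.subtype ≤ M' := by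
  classical
  obtain ⟨N, hN0, hN⟩ := htors
  have he : 0 < M'.toSubgroup.index := Nat.pos_of_ne_zero Subgroup.FiniteIndex.index_ne_zero
  have hpow : ∀ t : A', t ^ M'.toSubgroup.index ∈ M'.toSubgroup := by
    intro t
    rw [← QuotientGroup.eq_one_iff, QuotientGroup.mk_pow]
    exact pow_card_eq_one'
  have hc : ∀ c : A' ⧸ M'.toSubgroup, c ≠ 1 → ∃ Hc : Subgroup A, Hc.FiniteIndex ∧
      ∀ a' : A', (a' : A' ⧸ M'.toSubgroup) = c → (a' : A) ∉ Hc := by
    intro c hc1
    obtain ⟨a', rfl⟩ := QuotientGroup.mk_surjective c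
    have ha'M : a' ∉ M'.toSubgroup := fun h => hc1 ((QuotientGroup.eq_one_iff _).mpr h)
    let M2 : Subgroup A := M'.toSubgroup.map A'.subtype
    have hM2A : M2 ≤ A' := by
      rintro _ ⟨m, -, rfl⟩
      exact m.2
    have hnd : ∀ b : A ⧸ M2, b ^ (M'.toSubgroup.index * N) ≠ ((a' : A) : A ⧸ M2) := by
      intro b hb
      obtain ⟨a0, rfl⟩ := QuotientGroup.mk_surjective b
      rw [← QuotientGroup.mk_pow] at hb
      have h1 : (a0 ^ (M'.toSubgroup.index * N))⁻¹ * (a' : A) ∈ M2 := QuotientGroup.eq.mp hb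
      have h2 : a0 ^ (M'.toSubgroup.index * N) ∈ A' := by
        have h3 := A'.mul_mem (A'.inv_mem (hM2A h1)) a'.2
        have e : ((a0 ^ (M'.toSubgroup.index * N))⁻¹ * (a' : A))⁻¹ * (a' : A) =
            a0 ^ (M'.toSubgroup.index * N) := by
          rw [mul_inv_rev, inv_inv, mul_assoc, mul_comm _ (a' : A), inv_mul_cancel_left]
        rwa [e] at h3
      have h4 : ((a0 : A ⧸ A')) ^ (M'.toSubgroup.index * N) = 1 := by
        rw [← QuotientGroup.mk_pow]
        exact (QuotientGroup.eq_one_iff _).mpr h2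
      have h5 : IsOfFinOrder (a0 : A ⧸ A') :=
        isOfFinOrder_iff_pow_eq_one.mpr ⟨_, Nat.mul_pos he hN0, h4⟩
      have h6 : a0 ^ N ∈ A' := by
        rw [← QuotientGroup.eq_one_iff, QuotientGroup.mk_pow]
        exact hN _ h5
      have h7 : a0 ^ (M'.toSubgroup.index * N) ∈ M2 := by
        refine ⟨(⟨a0 ^ N, h6⟩ : A') ^ M'.toSubgroup.index, hpow _, ?_⟩
        rw [pow_mul']
        rfl
      have h8 : ((a' : A) : A ⧸ M2) = 1 := by
        rw [← hb]
        exact (QuotientGroup.eq_one_iff _).mpr h7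
      rw [QuotientGroup.eq_one_iff] at h8
      obtain ⟨m, hm, hma⟩ := h8
      have : m = a' := Subtype.ext hma
      exact ha'M (this ▸ hm)
    obtain ⟨H0, hH0, hfH0⟩ := exists_finiteIndex_not_mem ((a' : A) : A ⧸ M2) _
      (Nat.mul_pos he hN0) hnd
    refine ⟨H0.comap (QuotientGroup.mk' M2), ?_, ?_⟩
    · refine ⟨?_⟩
      rw [Subgroup.index_comap_of_surjective H0 (QuotientGroup.mk'_surjective M2)]
      exact hH0.index_ne_zero
    · intro a'' ha'' hmem
      apply hfH0
      have h1 : a'⁻¹ * a'' ∈ M'.toSubgroup := QuotientGroup.eq.mp ha''.symm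
      have h2 : ((a' : A) : A ⧸ M2) = ((a'' : A) : A ⧸ M2) := by
        apply QuotientGroup.eq.mpr
        exact ⟨a'⁻¹ * a'', h1, rfl⟩
      rw [h2]
      exact hmem
  choose Hc hHc1 hHc2 using hc
  let H : Subgroup A := ⨅ c : {c : A' ⧸ M'.toSubgroup // c ≠ 1}, Hc c.1 c.2
  have : H.FiniteIndex := Subgroup.finiteIndex_iInf (fun c => hHc1 c.1 c.2)
  refine ⟨FiniteIndexNormalSubgroup.ofSubgroup H, ?_⟩
  intro a' ha'
  by_contra hnot
  have hc1 : (a' : A' ⧸ M'.toSubgroup) ≠ 1 := fun h => hnot ((QuotientGroup.eq_one_iff _).mp h)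
  have h1 : (a' : A) ∈ H := ha'
  have h2 : (a' : A) ∈ Hc _ hc1 := (iInf_le (fun c : {c : A' ⧸ M'.toSubgroup // c ≠ 1} =>
    Hc c.1 c.2) ⟨_, hc1⟩) h1
  exact hHc2 _ hc1 a' rfl h2

/-- For an abelian group A (written multiplicatively, discrete) and a subgroup A' such that the quotient
A/A' has no nontrivial divisible element and its torsion elements are killed by one positive
integer, the map induced on profinite completions by the inclusion of A' in A is injective. (The
published statement is for topological abelian groups in which every nA is open, with completions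
formed from open subgroups of finite index; this row is the case of the discrete topology.) -/
theorem result (A : Type u) [CommGroup A] (A' : Subgroup A)
    (hdiv : ∀ x : A ⧸ A', (∀ n : ℕ, 0 < n → ∃ y : A ⧸ A', y ^ n = x) → x = 1)
    (htors : ∃ N : ℕ, 0 < N ∧ ∀ x : A ⧸ A', IsOfFinOrder x → x ^ N = 1) :
    Function.Injective (ProfiniteGrp.profiniteCompletion.map (GrpCat.ofHom A'.subtype)).hom := by
  rw [injective_iff_map_eq_one]
  intro y hy
  apply Subtype.ext
  funext M'
  obtain ⟨H, hH⟩ := exists_comap_le A A' htors M'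
  have hH' : H.comap (GrpCat.ofHom A'.subtype).hom ≤ M' := hH
  have h1 := map_val (GrpCat.ofHom A'.subtype) y H
  rw [hy] at h1
  have h2 : y.val (H.comap (GrpCat.ofHom A'.subtype).hom) = 1 := by
    obtain ⟨a', ha'⟩ := QuotientGroup.mk_surjective (y.val (H.comap (GrpCat.ofHom A'.subtype).hom))
    rw [← ha'] at h1 ⊢
    have h3 : ((a' : A) : A ⧸ H.toSubgroup) = 1 := h1.symm
    have h3' : (a' : A) ∈ H.toSubgroup := (QuotientGroup.eq_one_iff _).mp h3
    exact (QuotientGroup.eq_one_iff
      (N := (H.comap (GrpCat.ofHom A'.subtype).hom).toSubgroup) a').mpr h3'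
  have h4 := val_compat _ y hH'
  rw [h2] at h4
  exact h4.symm.trans (map_one (QuotientGroup.map _ _ (MonoidHom.id _) hH'))

end Groth.Agent.S13378
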