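import Groth.Statements.S13379
import Groth.Agent.Lib.Helper20.ProCompl

set_option autoImplicit false
universe u
open ProCompl

namespace Groth.Agent.S13379

open CategoryTheory ProfiniteGrp ProfiniteGrp.ProfiniteCompletion Groth.Agent.Lib.Helper20.ProCompl

/-- Profinite completion is right exact: for an abelian group A (written multiplicatively, discrete) and
a subgroup A', the map on profinite completions induced by A → A/A' is surjective and its kernel is
the image of the completion of A'. (The published statement is right-exactness for topological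
abelian groups with completions formed from open subgroups of finite index; this row is the case of
the discrete topology.) -/
theorem result (A : Type u) [CommGroup A] (A' : Subgroup A) :
    Function.Surjective (ProfiniteGrp.profiniteCompletion.map (GrpCat.ofHom (QuotientGroup.mk' A'))).hom ∧
      (ProfiniteGrp.profiniteCompletion.map (GrpCat.ofHom (QuotientGroup.mk' A'))).hom.toMonoidHom.ker =
        (ProfiniteGrp.profiniteCompletion.map (GrpCat.ofHom A'.subtype)).hom.toMonoidHom.range := by
  classical
  constructor
  · -- surjectivity: compact image containing a dense subset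
    have hcl : IsClosed (Set.range
        (ProfiniteGrp.profiniteCompletion.map (GrpCat.ofHom (QuotientGroup.mk' A'))).hom) :=
      (isCompact_range
        (ProfiniteGrp.profiniteCompletion.map (GrpCat.ofHom (QuotientGroup.mk' A'))).hom.continuous_toFun).isClosed
    have hd : Dense (Set.range
        (ProfiniteGrp.profiniteCompletion.map (GrpCat.ofHom (QuotientGroup.mk' A'))).hom) := by
      apply (denseRange (GrpCat.of (A ⧸ A'))).mono
      rintro _ ⟨q, rfl⟩
      obtain ⟨a, rfl⟩ := QuotientGroup.mk_surjective q
      exact ⟨etaFn (GrpCat.of A) a, map_etaFn (GrpCat.ofHom (QuotientGroup.mk' A')) a⟩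
    have hu : Set.range
        (ProfiniteGrp.profiniteCompletion.map (GrpCat.ofHom (QuotientGroup.mk' A'))).hom = Set.univ := by
      rw [← hcl.closure_eq]
      exact hd.closure_eq
    exact Set.range_eq_univ.mp hu
  · ext x
    rw [MonoidHom.mem_ker, MonoidHom.mem_range]
    constructor
    · intro hx
      have hcl : IsClosed (Set.range
          (ProfiniteGrp.profiniteCompletion.map (GrpCat.ofHom A'.subtype)).hom) :=
        (isCompact_range
          (ProfiniteGrp.profiniteCompletion.map (GrpCat.ofHom A'.subtype)).hom.continuous_toFun).isClosed
      have hmem : x ∈ closure (Set.range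
          (ProfiniteGrp.profiniteCompletion.map (GrpCat.ofHom A'.subtype)).hom) := by
        rw [mem_closure_iff]
        intro U hU hxU
        obtain ⟨M, hM⟩ := exists_subgroup_nhds x U hU hxU
        have hsurj : Function.Surjective (QuotientGroup.mk' A') := QuotientGroup.mk'_surjective A'
        have : (M.toSubgroup.map (QuotientGroup.mk' A')).FiniteIndex :=
          ⟨fun h0 => M.toSubgroup.index_ne_zero_of_finite <| by
            exact Nat.eq_zero_of_zero_dvd (h0 ▸ Subgroup.index_map_dvd M.toSubgroup hsurj)⟩
        let Nb : FiniteIndexNormalSubgroup (A ⧸ A') :=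
          { toSubgroup := M.toSubgroup.map (QuotientGroup.mk' A') }
        have hMK : M ≤ Nb.comap (GrpCat.ofHom (QuotientGroup.mk' A')).hom := by
          intro m hm
          exact ⟨m, hm, rfl⟩
        obtain ⟨a, ha⟩ := QuotientGroup.mk_surjective (x.val M)
        have h1 := map_val (GrpCat.ofHom (QuotientGroup.mk' A')) x Nb
        have hx' : (ProfiniteGrp.profiniteCompletion.map (GrpCat.ofHom (QuotientGroup.mk' A'))).hom x
            = 1 := hx
        rw [hx', ← val_compat _ x hMK, ← ha] at h1
        have h2 : (QuotientGroup.mk (QuotientGroup.mk' A' a) : (A ⧸ A') ⧸ Nb.toSubgroup) = 1 :=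
          h1.symm
        rw [QuotientGroup.eq_one_iff] at h2
        obtain ⟨m, hm, hma⟩ := h2
        have ha' : m⁻¹ * a ∈ A' := by
          have := QuotientGroup.eq.mp hma
          exact this
        refine ⟨etaFn (GrpCat.of A) (m⁻¹ * a), hM _ ?_,
          ⟨etaFn (GrpCat.of A') ⟨m⁻¹ * a, ha'⟩, map_etaFn (GrpCat.ofHom A'.subtype) _⟩⟩
        rw [etaFn_val, ← ha]
        exact QuotientGroup.eq.mpr (by
          show (m⁻¹ * a)⁻¹ * a ∈ M.toSubgroup
          have : (m⁻¹ * a)⁻¹ * a = m := by
            rw [mul_inv_rev, inv_inv, mul_assoc, mul_comm m a, inv_mul_cancel_left]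
          rw [this]
          exact hm)
      rw [hcl.closure_eq] at hmem
      exact hmem
    · rintro ⟨y, rfl⟩
      have h := Continuous.ext_on (denseRange (GrpCat.of A'))
        ((ProfiniteGrp.profiniteCompletion.map (GrpCat.ofHom (QuotientGroup.mk' A'))).hom.continuous_toFun.comp
          (ProfiniteGrp.profiniteCompletion.map (GrpCat.ofHom A'.subtype)).hom.continuous_toFun)
        (continuous_const (y := (1 : completion (GrpCat.of (A ⧸ A'))))) (by
          rintro _ ⟨a', rfl⟩
          show (ProfiniteGrp.profiniteCompletion.map (GrpCat.ofHom (QuotientGroup.mk' A'))).hom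
            ((ProfiniteGrp.profiniteCompletion.map (GrpCat.ofHom A'.subtype)).hom
              (etaFn (GrpCat.of A') a')) = 1
          rw [map_etaFn, map_etaFn]
          have h0 : (QuotientGroup.mk' A') (A'.subtype a') = 1 :=
            (QuotientGroup.eq_one_iff _).mpr a'.2
          show etaFn (GrpCat.of (A ⧸ A')) ((QuotientGroup.mk' A') (A'.subtype a')) = 1
          rw [h0]
          rfl)
      exact congrFun h y

end Groth.Agent.S13379
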