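import Mathlib
import Groth.Statements.S13380
import Groth.Agent.S13358

set_option autoImplicit false
universe u
open GaDual

namespace Groth.Agent.S13380

open MvPolynomial
open Groth.Agent.S13358 (Sval map_Sval Sval_coc Sval_symm aeval_Spoly add_pow_Sval vec2_0 vec2_1)

/-! ### abstract commutative-algebra identities -/

section Alg

variable {B : Type*} [CommRing B]

lemma alg_unit (a b c a' b' c' : B) (e1 : a * a' = 1) (e2 : b * b' = 1) (e3 : c * c' = 1) :
    (a * b' * c') * (a' * b * c) = 1 := by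
  calc (a * b' * c') * (a' * b * c) = (a * a') * (b * b') * (c * c') := by ring
    _ = 1 := by rw [e1, e2, e3, one_mul, one_mul]

lemma alg_coc (gyz fy fz gxyz fx fyz fxy gxy : B) (e1 : fyz * gyz = 1) (e2 : fxy * gxy = 1) :
    (gyz * fy * fz) * (gxyz * fx * fyz) = (gxyz * fxy * fz) * (gxy * fx * fy) := by
  linear_combination (gxyz * fx * fy * fz) * e1 - (gxyz * fx * fy * fz) * e2

lemma alg_mul (a₁ b₁ c₁ d₁ a₂ b₂ c₂ d₂ : B) (e1 : a₁ * b₁ = c₁ * d₁) (e2 : a₂ * b₂ = c₂ * d₂) :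
    (a₁ * a₂) * (b₁ * b₂) = (c₁ * c₂) * (d₁ * d₂) := by
  linear_combination (a₂ * b₂) * e1 + (c₁ * d₁) * e2

lemma alg_div (a b c a' b' c' h g : B) (e1 : c * g = 1)
    (e' : c' = a' * b' * (h * (g * a * b))) : c' * c = (a' * a) * (b' * b) * h := by
  rw [e']; linear_combination (a' * b' * h * a * b) * e1

lemma alg_LL (H g a b F : B) (hfb : F = a * b * H) (e1 : F * g = 1) : H * (g * a * b) = 1 := by
  rw [← e1, hfb]; ring

lemma alg_S (β s1 s2 s3 s4 : B) (hβ : β * β = 0) (hc : s2 + s1 - s3 - s4 = 0) :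
    (1 + β * s1) * (1 + β * s2) = (1 + β * s3) * (1 + β * s4) := by
  linear_combination β * hc + (s1 * s2 - s3 * s4) * hβ

lemma alg_unit2 (β S : B) (hβ : β * β = 0) : (1 + β * S) * (1 - β * S) = 1 := by
  linear_combination (-(S * S)) * hβ

lemma alg_coc2 (ε n1 n2 n3 n4 : B) (hε : ε * ε = 0)
    (h : (1 + ε * n1) * (1 + ε * n2) = (1 + ε * n3) * (1 + ε * n4)) :
    ε * (n2 + n1 - n3 - n4) = ε * 0 := by
  linear_combination h - (n1 * n2 - n3 * n4) * hε

lemma alg_fac (ε δ sg : B) (hε : ε * ε = 0) :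
    1 + ε * (δ + sg) = (1 + ε * δ) * (1 + ε * sg) := by
  linear_combination (-(δ * sg)) * hε

lemma sqzero_id (ε u v w : B) (hε : ε * ε = 0) :
    1 + ε * u = (1 + ε * v) * (1 + ε * w) * (1 + ε * (u - v - w)) := by
  linear_combination
    (-(v * w + v * (u - v - w) + w * (u - v - w) + ε * v * w * (u - v - w))) * hε

lemma prod_one_add (ε : B) (hε : ε * ε = 0) (t : ℕ → B) (n : ℕ) :
    ∏ i ∈ Finset.range n, (1 + ε * t i) = 1 + ε * ∑ i ∈ Finset.range n, t i := by
  induction n with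
  | zero => simp
  | succ n ih =>
    rw [Finset.prod_range_succ, Finset.sum_range_succ, ih]
    linear_combination ((∑ i ∈ Finset.range n, t i) * t n) * hε

lemma alg2 (eX eY eXY gX gY α β S R₁ γ₀ γ₁ P Q : B)
    (hE : eX * eY = eXY - P * S + Q * R₁) (hX : eX * gX = 1) (hY : eY * gY = 1)
    (hgX : gX = 1 + α * γ₀) (hgY : gY = 1 + α * γ₁) (hP : P = -β) (hQ : Q = P * α)
    (hβ : β * β = 0) :
    (1 + β * S) * (eXY * gX * gY) =
      1 + Q * ((γ₀ + γ₁ + α * γ₀ * γ₁) * S - R₁ * (gX * gY)) := by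
  have h1 : eXY = eX * eY + P * S - Q * R₁ := by linear_combination -hE
  have h2 : eXY * gX * gY = 1 + (P * S - Q * R₁) * (gX * gY) := by
    rw [h1]; linear_combination (eY * gY) * hX + hY
  have h3 : gX * gY = 1 + α * (γ₀ + γ₁ + α * γ₀ * γ₁) := by rw [hgX, hgY]; ring
  rw [h2, hQ, hP]
  linear_combination (-(β * S)) * h3 +
    (-(S * S * (gX * gY)) + S * α * R₁ * (gX * gY)) * hβ

end Alg

/-! ### truncated exponential -/

noncomputable def Etr (p : ℕ) {B : Type*} [CommRing B] (w : ℕ → B) (α x : B) : B :=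
  ∑ j ∈ Finset.range p, w j * α ^ j * x ^ j

noncomputable def Tterm {B : Type*} [CommRing B] (w : ℕ → B) (α x y : B) (i j : ℕ) : B :=
  w i * w j * α ^ (i + j) * x ^ i * y ^ j

noncomputable def Fterm {B : Type*} [CommRing B] (w : ℕ → B) (α x y : B) (i j : ℕ) : B :=
  w (i + j) * α ^ (i + j) * x ^ i * y ^ j * (((i + j).choose i : ℕ) : B)

noncomputable def Rterm (p : ℕ) {B : Type*} [CommRing B] (w : ℕ → B) (α x y : B) : B :=
  ∑ i ∈ Finset.Ioo 0 p, ∑ j ∈ Finset.Ico (p - i + 1) p,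
    w i * w j * α ^ (i + j - (p + 1)) * x ^ i * y ^ j

section EMul

variable {B : Type*} [CommRing B]

lemma Etr_add (p : ℕ) (w : ℕ → B) (α x y : B)
    (hw1 : ∀ i j, i + j < p → w i * w j = w (i + j) * (((i + j).choose i : ℕ) : B)) :
    Etr p w α (x + y) =
      ∑ i ∈ Finset.range p, ∑ j ∈ Finset.range (p - i), Tterm w α x y i j := by
  have h1 : ∀ n ∈ Finset.range p, w n * α ^ n * (x + y) ^ n =
      ∑ k ∈ Finset.range (n + 1), Fterm w α x y k (n - k) := by
    intro n _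
    rw [add_pow, Finset.mul_sum]
    refine Finset.sum_congr rfl (fun k hk => ?_)
    have hk' : k + (n - k) = n := by
      have := Finset.mem_range.1 hk
      omega
    rw [Fterm, hk']
    ring
  rw [Etr, Finset.sum_congr rfl h1, Finset.sum_range_diag_flip p (Fterm w α x y)]
  refine Finset.sum_congr rfl (fun i hi => Finset.sum_congr rfl (fun j hj => ?_))
  have hij : i + j < p := by
    have := Finset.mem_range.1 hi
    have := Finset.mem_range.1 hj
    omega
  rw [Fterm, Tterm, hw1 i j hij]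
  ring

lemma E_mul (p : ℕ) (hp : 0 < p) (w : ℕ → B) (α x y : B)
    (hw1 : ∀ i j, i + j < p → w i * w j = w (i + j) * (((i + j).choose i : ℕ) : B))
    (hw2 : ∀ i, 0 < i → i < p → w i * w (p - i) = -(((p.choose i / p : ℕ)) : B)) :
    Etr p w α x * Etr p w α y =
      Etr p w α (x + y) - α ^ p * Sval p x y + α ^ (p + 1) * Rterm p w α x y := by
  have hL : Etr p w α x * Etr p w α y =
      ∑ i ∈ Finset.range p, ∑ j ∈ Finset.range p, Tterm w α x y i j := by
    rw [Etr, Etr, Finset.sum_mul_sum]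
    refine Finset.sum_congr rfl (fun i _ => Finset.sum_congr rfl (fun j _ => ?_))
    rw [Tterm, pow_add]
    ring
  have hsplit : ∀ i ∈ Finset.range p, ∑ j ∈ Finset.range p, Tterm w α x y i j =
      ∑ j ∈ Finset.range (p - i), Tterm w α x y i j +
        ∑ j ∈ Finset.Ico (p - i) p, Tterm w α x y i j := by
    intro i _
    exact (Finset.sum_range_add_sum_Ico (fun j => Tterm w α x y i j) (Nat.sub_le p i)).symm
  have hrest : ∑ i ∈ Finset.range p, ∑ j ∈ Finset.Ico (p - i) p, Tterm w α x y i j =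
      -α ^ p * Sval p x y + α ^ (p + 1) * Rterm p w α x y := by
    rw [Finset.range_eq_Ico, Finset.sum_eq_sum_Ico_succ_bot hp, Nat.sub_zero, Finset.Ico_self,
      Finset.sum_empty, zero_add]
    have hI : Finset.Ico (0 + 1) p = Finset.Ioo 0 p := by
      ext k
      rw [Finset.mem_Ico, Finset.mem_Ioo]
      omega
    rw [hI]
    have hterm : ∀ i ∈ Finset.Ioo 0 p, ∑ j ∈ Finset.Ico (p - i) p, Tterm w α x y i j =
        -α ^ p * (x ^ i * y ^ (p - i) * (((p.choose i / p : ℕ)) : B)) +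
          α ^ (p + 1) * ∑ j ∈ Finset.Ico (p - i + 1) p,
            w i * w j * α ^ (i + j - (p + 1)) * x ^ i * y ^ j := by
      intro i hi
      obtain ⟨hi0, hip⟩ := Finset.mem_Ioo.1 hi
      rw [Finset.sum_eq_sum_Ico_succ_bot (by omega : p - i < p), Finset.mul_sum]
      congr 1
      · have hipp : i + (p - i) = p := by omega
        rw [Tterm, hipp, hw2 i hi0 hip]
        ring
      · refine Finset.sum_congr rfl (fun j hj => ?_)
        obtain ⟨hj1, hj2⟩ := Finset.mem_Ico.1 hj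
        have e : α ^ (i + j) = α ^ (p + 1) * α ^ (i + j - (p + 1)) := by
          rw [← pow_add]
          congr 1
          omega
        rw [Tterm, e]
        ring
    rw [Finset.sum_congr rfl hterm, Finset.sum_add_distrib, Sval, Rterm, Finset.mul_sum,
      Finset.mul_sum]
  rw [hL, Finset.sum_congr rfl hsplit, Finset.sum_add_distrib, ← Etr_add p w α x y hw1, hrest]
  ring

end EMul

/-! ### generalities on multiplicative cocycles -/

section Gen

variable {A : Type u} [CommRing A]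

/-- multiplicative symmetric 2-cocycles (units) -/
def MCoc (h : MvPolynomial (Fin 2) A) : Prop :=
  IsUnit h ∧ aeval ![(X 1 : MvPolynomial (Fin 2) A), X 0] h = h ∧
    aeval ![(X 1 : MvPolynomial (Fin 3) A), X 2] h * aeval ![X 0, X 1 + X 2] h =
      aeval ![X 0 + X 1, X 2] h * aeval ![X 0, X 1] h

/-- multiplicative coboundaries -/
def Triv (h : MvPolynomial (Fin 2) A) : Prop :=
  ∃ f : Polynomial A, IsUnit f ∧
    Polynomial.aeval (X 0 + X 1 : MvPolynomial (Fin 2) A) f =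
      Polynomial.aeval (X 0 : MvPolynomial (Fin 2) A) f *
        Polynomial.aeval (X 1 : MvPolynomial (Fin 2) A) f * h

noncomputable def bd (f g : Polynomial A) : MvPolynomial (Fin 2) A :=
  Polynomial.aeval (X 0 + X 1 : MvPolynomial (Fin 2) A) f *
    Polynomial.aeval (X 0 : MvPolynomial (Fin 2) A) g *
      Polynomial.aeval (X 1 : MvPolynomial (Fin 2) A) g

lemma aeval_paeval {τ : Type*} (u v : MvPolynomial τ A) (x : MvPolynomial (Fin 2) A)
    (f : Polynomial A) :
    aeval ![u, v] (Polynomial.aeval x f) = Polynomial.aeval (aeval ![u, v] x) f :=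
  (Polynomial.aeval_algHom_apply (aeval ![u, v]) x f).symm

lemma aeval_bd {τ : Type*} (u v : MvPolynomial τ A) (f g : Polynomial A) :
    aeval ![u, v] (bd f g) =
      Polynomial.aeval (u + v) f * Polynomial.aeval u g * Polynomial.aeval v g := by
  rw [bd, map_mul, map_mul, aeval_paeval, aeval_paeval, aeval_paeval, map_add, aeval_X, aeval_X,
    vec2_0, vec2_1]

lemma paeval_mul_eq_one {B : Type*} [CommRing B] [Algebra A B] {f g : Polynomial A}
    (hfg : f * g = 1) (x : B) : Polynomial.aeval x f * Polynomial.aeval x g = 1 := by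
  rw [← map_mul, hfg, map_one]

lemma MCoc_bd {f g : Polynomial A} (hfg : f * g = 1) : MCoc (bd g f) := by
  have hgf : g * f = 1 := by rw [mul_comm]; exact hfg
  refine ⟨?_, ?_, ?_⟩
  · refine IsUnit.of_mul_eq_one (bd f g) ?_
    rw [bd, bd]
    exact alg_unit _ _ _ _ _ _ (paeval_mul_eq_one hgf _) (paeval_mul_eq_one hgf _)
      (paeval_mul_eq_one hgf _)
  · rw [aeval_bd, bd, add_comm (X 1 : MvPolynomial (Fin 2) A) (X 0)]
    ring
  · rw [aeval_bd, aeval_bd, aeval_bd, aeval_bd, ← add_assoc]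
    exact alg_coc _ _ _ _ _ _ _ _ (paeval_mul_eq_one hfg _) (paeval_mul_eq_one hfg _)

lemma MCoc_mul {h₁ h₂ : MvPolynomial (Fin 2) A} (H₁ : MCoc h₁) (H₂ : MCoc h₂) :
    MCoc (h₁ * h₂) := by
  obtain ⟨u₁, s₁, c₁⟩ := H₁
  obtain ⟨u₂, s₂, c₂⟩ := H₂
  refine ⟨u₁.mul u₂, ?_, ?_⟩
  · rw [map_mul, s₁, s₂]
  · rw [map_mul, map_mul, map_mul, map_mul]
    exact alg_mul _ _ _ _ _ _ _ _ c₁ c₂

lemma Triv_one : Triv (1 : MvPolynomial (Fin 2) A) :=
  ⟨1, isUnit_one, by simp only [map_one, mul_one]⟩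

lemma Triv_mul {h₁ h₂ : MvPolynomial (Fin 2) A} (H₁ : Triv h₁) (H₂ : Triv h₂) :
    Triv (h₁ * h₂) := by
  obtain ⟨f₁, u₁, e₁⟩ := H₁
  obtain ⟨f₂, u₂, e₂⟩ := H₂
  refine ⟨f₁ * f₂, u₁.mul u₂, ?_⟩
  rw [map_mul, map_mul, map_mul, e₁, e₂]
  ring

lemma Triv_prod (t : ℕ → MvPolynomial (Fin 2) A) (n : ℕ) (ht : ∀ i, Triv (t i)) :
    Triv (∏ i ∈ Finset.range n, t i) := by
  induction n with
  | zero => rw [Finset.prod_range_zero]; exact Triv_one
  | succ n ih => rw [Finset.prod_range_succ]; exact Triv_mul ih (ht n)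

lemma Triv_of_div {f g : Polynomial A} (hfg : f * g = 1) (h : MvPolynomial (Fin 2) A)
    (H : Triv (h * bd g f)) : Triv h := by
  obtain ⟨f', u', e'⟩ := H
  refine ⟨f' * f, u'.mul (IsUnit.of_mul_eq_one g hfg), ?_⟩
  rw [map_mul, map_mul, map_mul]
  rw [bd] at e'
  exact alg_div _ _ _ _ _ _ _ _ (paeval_mul_eq_one hfg _) e'

/-! ### base change -/

lemma map_aeval2 {B' : Type*} [CommRing B'] {τ : Type*} (π : A →+* B')
    (u v : MvPolynomial τ A) (F : MvPolynomial (Fin 2) A) :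
    map π (aeval ![u, v] F) = aeval ![map π u, map π v] (map π F) := by
  have hi : ∀ i : Fin 2, map π (![u, v] i) = ![map π u, map π v] i :=
    Fin.forall_fin_two.2 ⟨rfl, rfl⟩
  induction F using MvPolynomial.induction_on with
  | C a => simp only [aeval_C, algebraMap_eq, map_C]
  | add P Q hP hQ => simp only [map_add, hP, hQ]
  | mul_X P i hP => simp only [map_mul, aeval_X, map_X, hP, hi]

lemma map_paeval {B' : Type*} [CommRing B'] {τ : Type*} (π : A →+* B')
    (x : MvPolynomial τ A) (G : Polynomial A) :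
    map π (Polynomial.aeval x G) = Polynomial.aeval (map π x) (Polynomial.map π G) := by
  refine Polynomial.map_aeval_eq_aeval_map ?_ G x
  exact RingHom.ext (fun a => by simp only [RingHom.comp_apply, algebraMap_eq, map_C])

lemma map_bd {B' : Type*} [CommRing B'] (π : A →+* B') (f g : Polynomial A) :
    map π (bd f g) = bd (Polynomial.map π f) (Polynomial.map π g) := by
  rw [bd, bd, map_mul, map_mul, map_paeval, map_paeval, map_paeval, map_add, map_X, map_X]

lemma MCoc_map {B' : Type*} [CommRing B'] (π : A →+* B') {h : MvPolynomial (Fin 2) A}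
    (H : MCoc h) : MCoc (map π h) := by
  obtain ⟨u, s, c⟩ := H
  refine ⟨u.map (map π), ?_, ?_⟩
  · have := congrArg (map π) s
    rwa [map_aeval2, map_X, map_X] at this
  · have := congrArg (map π) c
    simp only [map_mul, map_aeval2, map_add, map_X] at this
    exact this

lemma map_mk_eq_one_iff {σ : Type*} (J : Ideal A) (h : MvPolynomial σ A) :
    map (Ideal.Quotient.mk J) h = 1 ↔ ∀ d, coeff d (h - 1) ∈ J := by
  have e : map (Ideal.Quotient.mk J) h = 1 ↔ map (Ideal.Quotient.mk J) (h - 1) = 0 := by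
    rw [map_sub, map_one, sub_eq_zero]
  rw [e, MvPolynomial.ext_iff]
  refine forall_congr' (fun d => ?_)
  rw [coeff_map, coeff_zero, Ideal.Quotient.eq_zero_iff_mem]

lemma exists_eq_one_add {σ : Type*} (c : A) (h : MvPolynomial σ A)
    (hh : map (Ideal.Quotient.mk (Ideal.span {c})) h = 1) : ∃ N, h = 1 + C c * N := by
  rw [map_mk_eq_one_iff] at hh
  have h1 : h - 1 ∈ Ideal.map (C : A →+* MvPolynomial σ A) (Ideal.span {c}) :=
    mem_map_C_iff.2 hh
  rw [Ideal.map_span, Set.image_singleton, Ideal.mem_span_singleton'] at h1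
  obtain ⟨N, hN⟩ := h1
  exact ⟨N, by rw [mul_comm, hN]; ring⟩

lemma aeval_one_add {τ : Type*} (g : Fin 2 → MvPolynomial τ A) (c : A)
    (N : MvPolynomial (Fin 2) A) : aeval g (1 + C c * N) = 1 + C c * aeval g N := by
  rw [map_add, map_one, map_mul, aeval_C, algebraMap_eq]

lemma constCoeff_aeval {τ : Type*} (g : Fin 2 → MvPolynomial τ A)
    (hg : ∀ i, constantCoeff (g i) = 0) (F : MvPolynomial (Fin 2) A) :
    constantCoeff (aeval g F) = constantCoeff F := by
  induction F using MvPolynomial.induction_on with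
  | C a => simp only [aeval_C, algebraMap_eq, constantCoeff_C]
  | add P Q hP hQ => simp only [map_add, hP, hQ]
  | mul_X P i hP => simp only [map_mul, aeval_X, hg, constantCoeff_X, mul_zero]

/-! ### lifting along a nil ideal -/

lemma LL (J : Ideal A) (hJ : J ≤ nilradical A) (h : MvPolynomial (Fin 2) A) (hh : MCoc h)
    (ht : Triv (map (Ideal.Quotient.mk J) h)) :
    ∃ h' : MvPolynomial (Fin 2) A, MCoc h' ∧ map (Ideal.Quotient.mk J) h' = 1 ∧
      (Triv h' → Triv h) := by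
  obtain ⟨fb, hfbu, hfb⟩ := ht
  obtain ⟨gb, hgb⟩ := hfbu.exists_right_inv
  obtain ⟨f, rfl⟩ :=
    Polynomial.map_surjective (Ideal.Quotient.mk J) Ideal.Quotient.mk_surjective fb
  obtain ⟨g0, rfl⟩ :=
    Polynomial.map_surjective (Ideal.Quotient.mk J) Ideal.Quotient.mk_surjective gb
  have hnil : IsNilpotent (f * g0 - 1) := by
    rw [Polynomial.isNilpotent_iff]
    intro i
    have hi : (f * g0 - 1).coeff i ∈ J := by
      rw [← Ideal.Quotient.eq_zero_iff_mem, ← Polynomial.coeff_map, Polynomial.map_sub,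
        Polynomial.map_mul, Polynomial.map_one, hgb, sub_self, Polynomial.coeff_zero]
    exact mem_nilradical.1 (hJ hi)
  have hunit : IsUnit (f * g0) := by
    have := hnil.isUnit_add_one
    rwa [sub_add_cancel] at this
  obtain ⟨w, hw⟩ := hunit.exists_right_inv
  have hfg : f * (g0 * w) = 1 := by rw [← mul_assoc]; exact hw
  refine ⟨h * bd (g0 * w) f, MCoc_mul hh (MCoc_bd hfg), ?_, Triv_of_div hfg h⟩
  have hfgb : Polynomial.map (Ideal.Quotient.mk J) f *
      Polynomial.map (Ideal.Quotient.mk J) (g0 * w) = 1 := by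
    rw [← Polynomial.map_mul, hfg, Polynomial.map_one]
  have e1 := paeval_mul_eq_one hfgb (X 0 + X 1 : MvPolynomial (Fin 2) (A ⧸ J))
  rw [map_mul, map_bd, bd]
  exact alg_LL _ _ _ _ _ hfb e1

/-! ### annihilators -/

def Ann (c : A) : Ideal A := LinearMap.ker (LinearMap.toSpanSingleton A A c)

lemma mem_Ann {c r : A} : r ∈ Ann c ↔ r * c = 0 := by
  rw [Ann, LinearMap.mem_ker, LinearMap.toSpanSingleton_apply, smul_eq_mul]

lemma C_mul_eq_iff {σ : Type*} (c : A) (M M' : MvPolynomial σ A) :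
    C c * M = C c * M' ↔
      map (Ideal.Quotient.mk (Ann c)) M = map (Ideal.Quotient.mk (Ann c)) M' := by
  rw [MvPolynomial.ext_iff, MvPolynomial.ext_iff]
  refine forall_congr' (fun d => ?_)
  rw [coeff_C_mul, coeff_C_mul, coeff_map, coeff_map, Ideal.Quotient.eq, mem_Ann, sub_mul,
    sub_eq_zero, mul_comm (coeff d M) c, mul_comm (coeff d M') c]

lemma Triv_dG (c : A) (hc : c * c = 0) (G : Polynomial A) :
    Triv (1 + C c * (Polynomial.aeval (X 0 + X 1 : MvPolynomial (Fin 2) A) G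
      - Polynomial.aeval (X 0 : MvPolynomial (Fin 2) A) G
      - Polynomial.aeval (X 1 : MvPolynomial (Fin 2) A) G)) := by
  have hε : (C c : MvPolynomial (Fin 2) A) * C c = 0 := by rw [← C_mul, hc, C_0]
  have hz : ∀ z : MvPolynomial (Fin 2) A,
      Polynomial.aeval z (1 + Polynomial.C c * G) = 1 + C c * Polynomial.aeval z G := by
    intro z
    rw [map_add, map_one, map_mul, Polynomial.aeval_C, algebraMap_eq]
  refine ⟨1 + Polynomial.C c * G, IsUnit.of_mul_eq_one (1 - Polynomial.C c * G) ?_, ?_⟩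
  · have hcc : (Polynomial.C c : Polynomial A) * Polynomial.C c = 0 := by
      rw [← Polynomial.C_mul, hc, Polynomial.C_0]
    exact alg_unit2 _ _ hcc
  · rw [hz, hz, hz]
    exact sqzero_id _ _ _ _ hε

def Pj (J : Ideal A) : Prop :=
  ∀ h : MvPolynomial (Fin 2) A, MCoc h → map (Ideal.Quotient.mk J) h = 1 → Triv h

lemma Pj_bot : Pj (⊥ : Ideal A) := by
  intro h _ h1
  rw [map_mk_eq_one_iff] at h1
  have h2 : h = 1 := by
    rw [← sub_eq_zero]
    ext d
    rw [coeff_zero]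
    exact Ideal.mem_bot.1 (h1 d)
  rw [h2]
  exact Triv_one

end Gen

/-! ### characteristic `p` -/

section CharPSec

variable (p : ℕ) [hp : Fact p.Prime] {A : Type u} [CommRing A]

lemma add_pow_p {B : Type*} [CommRing B] (hB : ((p : ℕ) : B) = 0) (u v : B) :
    (u + v) ^ p = u ^ p + v ^ p := by
  rw [add_pow_Sval, hB, zero_mul, add_zero]

lemma add_pow_pk {B : Type*} [CommRing B] (hB : ((p : ℕ) : B) = 0) (u v : B) (k : ℕ) :
    (u + v) ^ p ^ k = u ^ p ^ k + v ^ p ^ k := by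
  induction k with
  | zero => simp
  | succ k ih => rw [pow_succ, pow_mul, ih, add_pow_p p hB, ← pow_mul, ← pow_mul]

lemma aeval_one_add_S {τ : Type*} (b : A) (q : ℕ) (u v : MvPolynomial τ A) :
    aeval ![u, v] (1 + C b * Sval p ((X 0 : MvPolynomial (Fin 2) A) ^ q) (X 1 ^ q)) =
      1 + C b * Sval p (u ^ q) (v ^ q) := by
  rw [map_add, map_one, map_mul, aeval_C, algebraMap_eq, map_Sval, map_pow, map_pow, aeval_X,
    aeval_X, vec2_0, vec2_1]

lemma MCoc_S (hp0 : ((p : ℕ) : A) = 0) (b : A) (hb : b * b = 0) (k : ℕ) :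
    MCoc (1 + C b * Sval p ((X 0 : MvPolynomial (Fin 2) A) ^ p ^ k) (X 1 ^ p ^ k)) := by
  have hβ2 : (C b : MvPolynomial (Fin 2) A) * C b = 0 := by rw [← C_mul, hb, C_0]
  have hβ3 : (C b : MvPolynomial (Fin 3) A) * C b = 0 := by rw [← C_mul, hb, C_0]
  have hB3 : ((p : ℕ) : MvPolynomial (Fin 3) A) = 0 := by
    rw [← map_natCast (C : A →+* MvPolynomial (Fin 3) A), hp0, map_zero]
  refine ⟨IsUnit.of_mul_eq_one
    (1 - C b * Sval p ((X 0 : MvPolynomial (Fin 2) A) ^ p ^ k) (X 1 ^ p ^ k)) ?_, ?_, ?_⟩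
  · exact alg_unit2 _ _ hβ2
  · rw [aeval_one_add_S, Sval_symm p (X 1 ^ p ^ k) (X 0 ^ p ^ k)]
  · rw [aeval_one_add_S, aeval_one_add_S, aeval_one_add_S, aeval_one_add_S,
      add_pow_pk p hB3, add_pow_pk p hB3]
    exact alg_S _ _ _ _ _ hβ3 (Sval_coc p _ _ _)

/-! ### inverse factorials -/

noncomputable def wA (A : Type u) [CommRing A] (j : ℕ) : A :=
  Ring.inverse ((j.factorial : ℕ) : A)

noncomputable def wC (A : Type u) [CommRing A] (τ : Type*) (j : ℕ) : MvPolynomial τ A :=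
  C (wA A j)

lemma isUnit_of_coprime (hp0 : ((p : ℕ) : A) = 0) (m : ℕ) (h : Nat.Coprime m p) :
    IsUnit ((m : ℕ) : A) := by
  obtain ⟨u, v, huv⟩ := Nat.isCoprime_iff_coprime.2 h
  have h1 := congrArg (Int.cast : ℤ → A) huv
  push_cast at h1
  rw [hp0, mul_zero, add_zero] at h1
  exact IsUnit.of_mul_eq_one (u : A) (by rw [mul_comm]; exact h1)

lemma isUnit_fact (hp0 : ((p : ℕ) : A) = 0) (j : ℕ) (hj : j < p) :
    IsUnit ((j.factorial : ℕ) : A) := by
  apply isUnit_of_coprime p hp0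
  rw [Nat.coprime_comm, hp.out.coprime_iff_not_dvd, hp.out.dvd_factorial]
  omega

lemma wA_mul_cancel {j : ℕ} (hu : IsUnit ((j.factorial : ℕ) : A)) :
    wA A j * ((j.factorial : ℕ) : A) = 1 :=
  Ring.inverse_mul_cancel _ hu

lemma wilson_A (hp0 : ((p : ℕ) : A) = 0) : (((p - 1).factorial : ℕ) : A) = -1 := by
  have h := ZMod.wilsons_lemma p
  have h2 : (((p - 1).factorial + 1 : ℕ) : ZMod p) = 0 := by
    rw [Nat.cast_add, h, Nat.cast_one, neg_add_cancel]
  obtain ⟨k, hk⟩ := (ZMod.natCast_eq_zero_iff _ _).1 h2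
  have h3 : (((p - 1).factorial + 1 : ℕ) : A) = 0 := by
    rw [hk, Nat.cast_mul, hp0, zero_mul]
  rw [Nat.cast_add, Nat.cast_one] at h3
  exact eq_neg_of_add_eq_zero_left h3

lemma wA_mul (hp0 : ((p : ℕ) : A) = 0) (i j : ℕ) (hij : i + j < p) :
    wA A i * wA A j = wA A (i + j) * (((i + j).choose i : ℕ) : A) := by
  have ui := isUnit_fact p hp0 i (by omega)
  have uj := isUnit_fact p hp0 j (by omega)
  have uij := isUnit_fact p hp0 (i + j) hij
  have key : (((i + j).choose i : ℕ) : A) * ((i.factorial : ℕ) : A) * ((j.factorial : ℕ) : A) =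
      (((i + j).factorial : ℕ) : A) := by
    have h1 := Nat.choose_mul_factorial_mul_factorial (Nat.le_add_right i j)
    rw [Nat.add_sub_cancel_left] at h1
    rw [← h1, Nat.cast_mul, Nat.cast_mul]
  apply (ui.mul uj).mul_left_inj.1
  calc wA A i * wA A j * (((i.factorial : ℕ) : A) * ((j.factorial : ℕ) : A))
      = (wA A i * ((i.factorial : ℕ) : A)) * (wA A j * ((j.factorial : ℕ) : A)) := by ring
    _ = 1 := by rw [wA_mul_cancel ui, wA_mul_cancel uj, one_mul]
    _ = wA A (i + j) * (((i + j).factorial : ℕ) : A) := (wA_mul_cancel uij).symm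
    _ = wA A (i + j) * (((i + j).choose i : ℕ) : A) *
          (((i.factorial : ℕ) : A) * ((j.factorial : ℕ) : A)) := by rw [← key]; ring

lemma choose_div_fact (i : ℕ) (hi0 : 0 < i) (hip : i < p) :
    (p.choose i / p) * (i.factorial * (p - i).factorial) = (p - 1).factorial := by
  obtain ⟨m, hm⟩ := hp.out.dvd_choose_self (by omega) hip
  have h1 := Nat.choose_mul_factorial_mul_factorial hip.le
  have h2 := Nat.mul_factorial_pred hp.out.ne_zero
  rw [hm, Nat.mul_div_cancel_left m hp.out.pos]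
  apply Nat.eq_of_mul_eq_mul_left hp.out.pos
  rw [h2, ← h1, hm]
  ring

lemma wA_mul_compl (hp0 : ((p : ℕ) : A) = 0) (i : ℕ) (hi0 : 0 < i) (hip : i < p) :
    wA A i * wA A (p - i) = -(((p.choose i / p : ℕ)) : A) := by
  have ui := isUnit_fact p hp0 i hip
  have uj := isUnit_fact p hp0 (p - i) (by omega)
  have key : (((p.choose i / p : ℕ)) : A) *
      (((i.factorial : ℕ) : A) * (((p - i).factorial : ℕ) : A)) = -1 := by
    rw [← wilson_A p hp0, ← choose_div_fact p i hi0 hip, Nat.cast_mul, Nat.cast_mul]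
  apply (ui.mul uj).mul_left_inj.1
  calc wA A i * wA A (p - i) * (((i.factorial : ℕ) : A) * (((p - i).factorial : ℕ) : A))
      = (wA A i * ((i.factorial : ℕ) : A)) *
          (wA A (p - i) * (((p - i).factorial : ℕ) : A)) := by ring
    _ = 1 := by rw [wA_mul_cancel ui, wA_mul_cancel uj, one_mul]
    _ = -(((p.choose i / p : ℕ)) : A) *
          (((i.factorial : ℕ) : A) * (((p - i).factorial : ℕ) : A)) := by
        rw [neg_mul, key, neg_neg]

/-! ### the truncated exponential polynomial -/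

noncomputable def ePoly (A : Type u) [CommRing A] (a' : A) (q : ℕ) : Polynomial A :=
  ∑ j ∈ Finset.range p, Polynomial.C (wA A j * a' ^ j) * Polynomial.X ^ (q * j)

lemma aeval_ePoly {τ : Type*} (a' : A) (q : ℕ) (z : MvPolynomial τ A) :
    Polynomial.aeval z (ePoly p A a' q) = Etr p (wC A τ) (C a') (z ^ q) := by
  rw [ePoly, Etr, map_sum]
  refine Finset.sum_congr rfl (fun j _ => ?_)
  rw [map_mul, Polynomial.aeval_C, map_pow, Polynomial.aeval_X, algebraMap_eq, C_mul, C_pow,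
    pow_mul, wC]

lemma ePoly_eq (a' : A) (q : ℕ) :
    ∃ e₁ : Polynomial A, ePoly p A a' q = 1 + Polynomial.C a' * e₁ := by
  refine ⟨∑ j ∈ Finset.Ico 1 p, Polynomial.C (wA A j * a' ^ (j - 1)) * Polynomial.X ^ (q * j),
    ?_⟩
  rw [ePoly, Finset.range_eq_Ico, Finset.sum_eq_sum_Ico_succ_bot hp.out.pos, Finset.mul_sum]
  congr 1
  · simp [wA]
  · refine Finset.sum_congr rfl (fun j hj => ?_)
    have hj1 : 1 ≤ j := (Finset.mem_Ico.1 hj).1
    obtain ⟨j', rfl⟩ : ∃ j', j = j' + 1 := ⟨j - 1, by omega⟩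
    rw [Nat.add_sub_cancel]
    have e : wA A (j' + 1) * a' ^ (j' + 1) = a' * (wA A (j' + 1) * a' ^ j') := by ring
    rw [e, Polynomial.C_mul, mul_assoc]

lemma isUnit_ePoly (a' : A) (ha' : a' ^ (2 * p) = 0) (q : ℕ) : IsUnit (ePoly p A a' q) := by
  obtain ⟨e₁, he₁⟩ := ePoly_eq p a' q
  rw [he₁]
  apply IsNilpotent.isUnit_one_add
  exact ⟨2 * p, by rw [mul_pow, ← Polynomial.C_pow, ha', Polynomial.C_0, zero_mul]⟩

/-! ### the key step: `1 + b S(X^q, Y^q)` is a coboundary modulo higher order -/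

lemma W_of_PS (hp0 : ((p : ℕ) : A) = 0) (hroot : ∀ x : A, ∃ y, y ^ p = x) (a : A)
    (ha : a ^ (2 * p) = 0) (l : ℕ)
    (PSn : ∀ (h N : MvPolynomial (Fin 2) A), MCoc h →
      h = 1 + C (a ^ (p + (l + 1))) * N → Triv h)
    (r : A) (k : ℕ) :
    Triv (1 + C (a ^ (p + l) * r) *
      Sval p ((X 0 : MvPolynomial (Fin 2) A) ^ p ^ k) (X 1 ^ p ^ k)) := by
  obtain ⟨a₁, ha₁⟩ := hroot a
  obtain ⟨r₁, hr₁⟩ := hroot r
  obtain ⟨ν, hν⟩ := hroot (-1)
  obtain ⟨b, hb⟩ : ∃ b, b = a ^ (p + l) * r := ⟨_, rfl⟩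
  obtain ⟨a', ha'⟩ : ∃ a', a' = ν * a * a₁ ^ l * r₁ := ⟨_, rfl⟩
  rw [← hb]
  have ha'p : a' ^ p = -b := by
    rw [ha', hb]
    calc (ν * a * a₁ ^ l * r₁) ^ p = ν ^ p * a ^ p * (a₁ ^ p) ^ l * r₁ ^ p := by ring
      _ = -(a ^ (p + l) * r) := by rw [hν, ha₁, hr₁, pow_add]; ring
  have hbb : b * b = 0 := by
    have h1 : a ^ (p + l) * a ^ (p + l) = 0 := by
      rw [← pow_add]
      exact pow_eq_zero_of_le (by omega) ha
    rw [hb]
    calc a ^ (p + l) * r * (a ^ (p + l) * r) = (a ^ (p + l) * a ^ (p + l)) * (r * r) := by ring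
      _ = 0 := by rw [h1, zero_mul]
  have ha'nil : a' ^ (2 * p) = 0 := by
    rw [mul_comm, pow_mul, ha'p, neg_sq, sq, hbb]
  obtain ⟨ρ, hρ⟩ : ∃ ρ, ρ = -(r * ν * a₁ ^ l * r₁) := ⟨_, rfl⟩
  have ha'p1 : a' ^ (p + 1) = a ^ (p + (l + 1)) * ρ := by
    rw [pow_succ, ha'p, hb, ha', hρ]
    ring
  -- the polynomial `e`
  obtain ⟨e, he⟩ : ∃ e, e = ePoly p A a' (p ^ k) := ⟨_, rfl⟩
  have hue : IsUnit e := by rw [he]; exact isUnit_ePoly p a' ha'nil _
  obtain ⟨g, heg⟩ := hue.exists_right_inv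
  have hge : g * e = 1 := by rw [mul_comm]; exact heg
  obtain ⟨e₁, he₁⟩ := ePoly_eq p a' (p ^ k)
  rw [← he] at he₁
  have hg₁ : g = 1 + Polynomial.C a' * (-(e₁ * g)) := by
    have h1 := heg
    rw [he₁] at h1
    linear_combination h1
  have hgz : ∀ z : MvPolynomial (Fin 2) A,
      Polynomial.aeval z g = 1 + C a' * Polynomial.aeval z (-(e₁ * g)) := by
    intro z
    have h1 := congrArg (Polynomial.aeval z) hg₁
    rw [map_add, map_one, map_mul, Polynomial.aeval_C, algebraMap_eq] at h1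
    exact h1
  have hB : ((p : ℕ) : MvPolynomial (Fin 2) A) = 0 := by
    rw [← map_natCast (C : A →+* MvPolynomial (Fin 2) A), hp0, map_zero]
  have hw1 : ∀ i j, i + j < p → wC A (Fin 2) i * wC A (Fin 2) j =
      wC A (Fin 2) (i + j) * (((i + j).choose i : ℕ) : MvPolynomial (Fin 2) A) := by
    intro i j hij
    rw [wC, wC, wC, ← C_mul, wA_mul p hp0 i j hij, C_mul, map_natCast]
  have hw2 : ∀ i, 0 < i → i < p → wC A (Fin 2) i * wC A (Fin 2) (p - i) =
      -(((p.choose i / p : ℕ)) : MvPolynomial (Fin 2) A) := by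
    intro i hi0 hip
    rw [wC, wC, ← C_mul, wA_mul_compl p hp0 i hi0 hip, C_neg, map_natCast]
  have hE : Polynomial.aeval (X 0 : MvPolynomial (Fin 2) A) e *
      Polynomial.aeval (X 1 : MvPolynomial (Fin 2) A) e =
      Polynomial.aeval (X 0 + X 1 : MvPolynomial (Fin 2) A) e
        - (C a' : MvPolynomial (Fin 2) A) ^ p *
            Sval p ((X 0 : MvPolynomial (Fin 2) A) ^ p ^ k) (X 1 ^ p ^ k)
        + (C a' : MvPolynomial (Fin 2) A) ^ (p + 1) *
            Rterm p (wC A (Fin 2)) (C a') ((X 0 : MvPolynomial (Fin 2) A) ^ p ^ k)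
              (X 1 ^ p ^ k) := by
    rw [he, aeval_ePoly, aeval_ePoly, aeval_ePoly, add_pow_pk p hB]
    exact E_mul p hp.out.pos (wC A (Fin 2)) (C a') (X 0 ^ p ^ k) (X 1 ^ p ^ k) hw1 hw2
  have hP : (C a' : MvPolynomial (Fin 2) A) ^ p = -C b := by rw [← C_pow, ha'p, C_neg]
  have hββ : (C b : MvPolynomial (Fin 2) A) * C b = 0 := by rw [← C_mul, hbb, C_0]
  have hQ : (C a' : MvPolynomial (Fin 2) A) ^ (p + 1) = C (a ^ (p + (l + 1))) * C ρ := by
    rw [← C_pow, ha'p1, C_mul]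
  have key := alg2 _ _ _ _ _ _ _ _ _ _ _ _ _ hE (paeval_mul_eq_one heg _)
    (paeval_mul_eq_one heg _) (hgz _) (hgz _) hP (pow_succ _ _) hββ
  obtain ⟨M₀, hM₀⟩ : ∃ M₀, (1 + C b * Sval p ((X 0 : MvPolynomial (Fin 2) A) ^ p ^ k)
      (X 1 ^ p ^ k)) * (Polynomial.aeval (X 0 + X 1 : MvPolynomial (Fin 2) A) e *
        Polynomial.aeval (X 0 : MvPolynomial (Fin 2) A) g *
        Polynomial.aeval (X 1 : MvPolynomial (Fin 2) A) g) =
      1 + (C a' : MvPolynomial (Fin 2) A) ^ (p + 1) * M₀ := ⟨_, key⟩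
  have hM : (1 + C b * Sval p ((X 0 : MvPolynomial (Fin 2) A) ^ p ^ k)
      (X 1 ^ p ^ k)) * bd e g = 1 + C (a ^ (p + (l + 1))) * (C ρ * M₀) := by
    rw [bd, hM₀, hQ, mul_assoc]
  have hMC : MCoc ((1 + C b * Sval p ((X 0 : MvPolynomial (Fin 2) A) ^ p ^ k)
      (X 1 ^ p ^ k)) * bd e g) := MCoc_mul (MCoc_S p hp0 b hbb k) (MCoc_bd hge)
  exact Triv_of_div hge _ (PSn _ _ hMC hM)

/-! ### the square-zero step -/

lemma PS_of_W (hp0 : ((p : ℕ) : A) = 0) (c : A) (hc : c * c = 0)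
    (W : ∀ (r : A) (k : ℕ), Triv (1 + C (c * r) *
      Sval p ((X 0 : MvPolynomial (Fin 2) A) ^ p ^ k) (X 1 ^ p ^ k)))
    (h N : MvPolynomial (Fin 2) A) (hh : MCoc h) (hN : h = 1 + C c * N) : Triv h := by
  subst hN
  obtain ⟨-, hs, hcoc⟩ := hh
  have hε2 : (C c : MvPolynomial (Fin 2) A) * C c = 0 := by rw [← C_mul, hc, C_0]
  have hε3 : (C c : MvPolynomial (Fin 3) A) * C c = 0 := by rw [← C_mul, hc, C_0]
  have hsym' : C c * aeval ![(X 1 : MvPolynomial (Fin 2) A), X 0] N = C c * N := by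
    rw [aeval_one_add] at hs
    exact add_left_cancel hs
  have hcoc' : C c * (aeval ![(X 0 : MvPolynomial (Fin 3) A), X 1 + X 2] N
      + aeval ![(X 1 : MvPolynomial (Fin 3) A), X 2] N
      - aeval ![(X 0 : MvPolynomial (Fin 3) A) + X 1, X 2] N
      - aeval ![(X 0 : MvPolynomial (Fin 3) A), X 1] N) = C c * 0 := by
    rw [aeval_one_add, aeval_one_add, aeval_one_add, aeval_one_add] at hcoc
    exact alg_coc2 _ _ _ _ _ hε3 hcoc
  have hsymN : aeval ![(X 1 : MvPolynomial (Fin 2) (A ⧸ Ann c)), X 0]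
      (map (Ideal.Quotient.mk (Ann c)) N) = map (Ideal.Quotient.mk (Ann c)) N := by
    have h1 := (C_mul_eq_iff c _ _).1 hsym'
    rwa [map_aeval2, map_X, map_X] at h1
  have hcocN : aeval ![(X 0 : MvPolynomial (Fin 3) (A ⧸ Ann c)), X 1 + X 2]
        (map (Ideal.Quotient.mk (Ann c)) N)
      + aeval ![(X 1 : MvPolynomial (Fin 3) (A ⧸ Ann c)), X 2]
        (map (Ideal.Quotient.mk (Ann c)) N)
      - aeval ![(X 0 : MvPolynomial (Fin 3) (A ⧸ Ann c)) + X 1, X 2]
        (map (Ideal.Quotient.mk (Ann c)) N)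
      - aeval ![(X 0 : MvPolynomial (Fin 3) (A ⧸ Ann c)), X 1]
        (map (Ideal.Quotient.mk (Ann c)) N) = 0 := by
    have h1 := (C_mul_eq_iff c _ _).1 hcoc'
    simp only [map_sub, map_add, map_aeval2, map_X, map_zero] at h1
    exact h1
  rcases subsingleton_or_nontrivial (A ⧸ Ann c) with hsub | hnt
  · have h1 : (1 : A) ∈ Ann c := by
      rw [← Ideal.Quotient.eq_zero_iff_mem]
      exact Subsingleton.elim _ _
    have hc0 : c = 0 := by
      rw [mem_Ann, one_mul] at h1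
      exact h1
    rw [hc0, C_0, zero_mul, add_zero]
    exact Triv_one
  · haveI : CharP (A ⧸ Ann c) p := (CharP.charP_iff_prime_eq_zero hp.out).2 (by
      rw [← map_natCast (Ideal.Quotient.mk (Ann c)), hp0, map_zero])
    obtain ⟨Gt, n, rt, hNt⟩ :=
      (Groth.Agent.S13358.result p (A ⧸ Ann c) (map (Ideal.Quotient.mk (Ann c)) N)).1
        ⟨hsymN, hcocN⟩
    obtain ⟨G, hG⟩ :=
      Polynomial.map_surjective (Ideal.Quotient.mk (Ann c)) Ideal.Quotient.mk_surjective Gt
    have hrl : ∀ i, ∃ r, Ideal.Quotient.mk (Ann c) r = rt i :=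
      fun i => Ideal.Quotient.mk_surjective (rt i)
    choose r hr using hrl
    have hS : ∀ i : ℕ, aeval ![(X 0 : MvPolynomial (Fin 2) (A ⧸ Ann c)) ^ p ^ i, X 1 ^ p ^ i]
        (∑ j ∈ Finset.Ioo 0 p, C (((p.choose j / p : ℕ)) : A ⧸ Ann c) * X 0 ^ j *
          X 1 ^ (p - j)) = Sval p (X 0 ^ p ^ i) (X 1 ^ p ^ i) := fun i => aeval_Spoly p _ _
    simp only [hS] at hNt
    have hN' : map (Ideal.Quotient.mk (Ann c))
        (Polynomial.aeval (X 0 + X 1 : MvPolynomial (Fin 2) A) G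
          - Polynomial.aeval (X 0 : MvPolynomial (Fin 2) A) G
          - Polynomial.aeval (X 1 : MvPolynomial (Fin 2) A) G
          + ∑ i ∈ Finset.range n,
              C (r i) * Sval p ((X 0 : MvPolynomial (Fin 2) A) ^ p ^ i) (X 1 ^ p ^ i)) =
        map (Ideal.Quotient.mk (Ann c)) N := by
      rw [hNt]
      simp only [map_add, map_sub, map_sum, map_mul, map_C, map_paeval, map_X, map_Sval,
        map_pow, hG, hr]
    have hcN := (C_mul_eq_iff c _ _).2 hN'
    rw [← hcN]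
    have hfac : 1 + C c * (Polynomial.aeval (X 0 + X 1 : MvPolynomial (Fin 2) A) G
          - Polynomial.aeval (X 0 : MvPolynomial (Fin 2) A) G
          - Polynomial.aeval (X 1 : MvPolynomial (Fin 2) A) G
          + ∑ i ∈ Finset.range n,
              C (r i) * Sval p ((X 0 : MvPolynomial (Fin 2) A) ^ p ^ i) (X 1 ^ p ^ i)) =
        (1 + C c * (Polynomial.aeval (X 0 + X 1 : MvPolynomial (Fin 2) A) G
          - Polynomial.aeval (X 0 : MvPolynomial (Fin 2) A) G
          - Polynomial.aeval (X 1 : MvPolynomial (Fin 2) A) G)) *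
        ∏ i ∈ Finset.range n, (1 + C c *
          (C (r i) * Sval p ((X 0 : MvPolynomial (Fin 2) A) ^ p ^ i) (X 1 ^ p ^ i))) := by
      rw [prod_one_add (C c) hε2
        (fun i => C (r i) * Sval p ((X 0 : MvPolynomial (Fin 2) A) ^ p ^ i) (X 1 ^ p ^ i)) n]
      exact alg_fac _ _ _ hε2
    rw [hfac]
    refine Triv_mul (Triv_dG c hc G) (Triv_prod
      (fun i => 1 + C c *
        (C (r i) * Sval p ((X 0 : MvPolynomial (Fin 2) A) ^ p ^ i) (X 1 ^ p ^ i))) n
      (fun i => ?_))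
    have h1 := W (r i) i
    rwa [C_mul, mul_assoc] at h1

theorem PS_all (hp0 : ((p : ℕ) : A) = 0) (hroot : ∀ x : A, ∃ y, y ^ p = x) (a : A)
    (ha : a ^ (2 * p) = 0) :
    ∀ (k l : ℕ), p ≤ l + k → ∀ (h N : MvPolynomial (Fin 2) A), MCoc h →
      h = 1 + C (a ^ (p + l)) * N → Triv h := by
  intro k
  induction k with
  | zero =>
    intro l hl h N _ hN
    have h0 : a ^ (p + l) = 0 := pow_eq_zero_of_le (by omega) ha
    rw [hN, h0, C_0, zero_mul, add_zero]
    exact Triv_one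
  | succ k ih =>
    intro l hl h N hh hN
    have hc : a ^ (p + l) * a ^ (p + l) = 0 := by
      rw [← pow_add]
      exact pow_eq_zero_of_le (by omega) ha
    exact PS_of_W p hp0 (a ^ (p + l)) hc
      (W_of_PS p hp0 hroot a ha l (ih (l + 1) (by omega))) h N hh hN

theorem PS (hp0 : ((p : ℕ) : A) = 0) (hroot : ∀ x : A, ∃ y, y ^ p = x) (c : A)
    (hc : c * c = 0) (h : MvPolynomial (Fin 2) A) (hh : MCoc h)
    (h1 : map (Ideal.Quotient.mk (Ideal.span {c})) h = 1) : Triv h := by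
  obtain ⟨a, ha⟩ := hroot c
  obtain ⟨N, hN⟩ := exists_eq_one_add c h h1
  refine PS_all p hp0 hroot a ?_ p 0 (by omega) h N hh ?_
  · rw [mul_comm, pow_mul, ha, sq, hc]
  · rw [Nat.add_zero, ha]
    exact hN

/-! ### induction along a nilpotent ideal -/

lemma step (hp0 : ((p : ℕ) : A) = 0) (hroot : ∀ x : A, ∃ y, y ^ p = x) (J' : Ideal A)
    (hJ' : J' ≤ nilradical A) (c : A) (hc : c * c ∈ J') (hP : Pj J') :
    Pj (J' ⊔ Ideal.span {c}) := by
  intro h hh h1
  have hp0' : ((p : ℕ) : A ⧸ J') = 0 := by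
    rw [← map_natCast (Ideal.Quotient.mk J'), hp0, map_zero]
  have hroot' : ∀ x : A ⧸ J', ∃ y, y ^ p = x := by
    intro x
    obtain ⟨x, rfl⟩ := Ideal.Quotient.mk_surjective x
    obtain ⟨y, rfl⟩ := hroot x
    exact ⟨Ideal.Quotient.mk J' y, (map_pow _ _ _).symm⟩
  have hb : Triv (map (Ideal.Quotient.mk J') h) := by
    refine PS p hp0' hroot' (Ideal.Quotient.mk J' c) ?_ _ (MCoc_map _ hh) ?_
    · rw [← map_mul]
      exact Ideal.Quotient.eq_zero_iff_mem.2 hc
    · rw [map_mk_eq_one_iff] at h1 ⊢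
      intro d
      have e : map (Ideal.Quotient.mk J') h - 1 = map (Ideal.Quotient.mk J') (h - 1) := by
        rw [map_sub, map_one]
      rw [e, coeff_map]
      obtain ⟨j, hj, y, hy, hjy⟩ := Submodule.mem_sup.1 (h1 d)
      obtain ⟨t, rfl⟩ := Ideal.mem_span_singleton'.1 hy
      rw [← hjy, map_add, Ideal.Quotient.eq_zero_iff_mem.2 hj, zero_add, map_mul]
      exact Ideal.mem_span_singleton'.2 ⟨_, rfl⟩
  obtain ⟨h', hh', h1', himp⟩ := LL J' hJ' h hh hb
  exact himp (hP h' hh' h1')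

lemma Pj_sup_fg (hp0 : ((p : ℕ) : A) = 0) (hroot : ∀ x : A, ∃ y, y ^ p = x) (K : Ideal A)
    (hK : K.FG) :
    ∀ J' : Ideal A, (∀ x ∈ K, ∀ y ∈ K, x * y ∈ J') → J' ⊔ K ≤ nilradical A → Pj J' →
      Pj (J' ⊔ K) := by
  refine Submodule.fg_induction (R := A) (M := A)
    (motive := fun (K : Ideal A) _ => ∀ J' : Ideal A, (∀ x ∈ K, ∀ y ∈ K, x * y ∈ J') →
      J' ⊔ K ≤ nilradical A → Pj J' → Pj (J' ⊔ K)) ?_ ?_ K hK
  · intro c J' h1 h2 hP
    exact step p hp0 hroot J' (le_sup_left.trans h2) c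
      (h1 c (Submodule.mem_span_singleton_self c) c (Submodule.mem_span_singleton_self c)) hP
  · intro K₁ K₂ _ _ ih₁ ih₂ J' h1 h2 hP
    have hP1 : Pj (J' ⊔ K₁) :=
      ih₁ J' (fun x hx y hy => h1 x (Submodule.mem_sup_left hx) y (Submodule.mem_sup_left hy))
        ((sup_le_sup_left le_sup_left J').trans h2) hP
    have hP2 := ih₂ (J' ⊔ K₁)
      (fun x hx y hy => Submodule.mem_sup_left
        (h1 x (Submodule.mem_sup_right hx) y (Submodule.mem_sup_right hy)))
      (by rw [sup_assoc]; exact h2) hP1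
    rwa [sup_assoc] at hP2

lemma Pj_of_nilpotent (hp0 : ((p : ℕ) : A) = 0) (hroot : ∀ x : A, ∃ y, y ^ p = x)
    (I : Ideal A) (hI : I.FG) (hnil : I ≤ nilradical A) (m : ℕ) (hm : I ^ m = ⊥) : Pj I := by
  have hstep : ∀ j, 1 ≤ j → Pj (I ^ (j + 1)) → Pj (I ^ j) := by
    intro j hj hP
    have h1 : ∀ x ∈ I ^ j, ∀ y ∈ I ^ j, x * y ∈ I ^ (j + 1) := by
      intro x hx y hy
      have h3 := Ideal.mul_mem_mul hx hy
      rw [← pow_add] at h3
      exact Ideal.pow_le_pow_right (by omega) h3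
    have h2 : I ^ (j + 1) ⊔ I ^ j ≤ nilradical A :=
      sup_le ((Ideal.pow_le_self (by omega)).trans hnil)
        ((Ideal.pow_le_self (by omega)).trans hnil)
    have h := Pj_sup_fg p hp0 hroot (I ^ j) hI.pow (I ^ (j + 1)) h1 h2 hP
    rwa [sup_eq_right.2 (Ideal.pow_le_pow_right (Nat.le_succ j))] at h
  have hmain : ∀ d n, n + d = m + 1 → 1 ≤ n → Pj (I ^ n) := by
    intro d
    induction d with
    | zero =>
      intro n hn _
      have h0 : I ^ n = ⊥ := by
        rw [Nat.add_zero] at hn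
        rw [hn, pow_succ, hm, Ideal.bot_mul]
      rw [h0]
      exact Pj_bot
    | succ d ih =>
      intro n hn h1
      exact hstep n h1 (ih (n + 1) (by omega) (by omega))
  have h := hmain m 1 (by omega) le_rfl
  rwa [pow_one] at h

end CharPSec


/-- Over a commutative ring R of prime characteristic p whose Frobenius is surjective, every commutative
extension of the additive group by the multiplicative group that has a scheme-theoretic section
splits. In the coordinates given by such a section the extension is the product G_m × G_a with law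
(t,x)(t',x') = (tt'h(x,x'), x+x') for an invertible polynomial h with h(X,0) = 1, h symmetric and
h(Y,Z)h(X,Y+Z) = h(X+Y,Z)h(X,Y), and a group-theoretic section is an invertible polynomial f with
f(X+Y) = f(X)f(Y)h(X,Y); the row states the existence of such f for every such h. -/
theorem result (p : ℕ) [Fact p.Prime] (R : Type u)
    [CommRing R] [CharP R p] (hF : Function.Surjective (frobenius R p))
    (h : MvPolynomial (Fin 2) R) (hu : IsUnit h)
    (h0 : MvPolynomial.aeval ![(MvPolynomial.X 0 : MvPolynomial (Fin 2) R), 0] h = 1)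
    (hsymm : MvPolynomial.aeval ![(MvPolynomial.X 1 : MvPolynomial (Fin 2) R), MvPolynomial.X 0] h = h)
    (hcoc : MvPolynomial.aeval ![(MvPolynomial.X 1 : MvPolynomial (Fin 3) R), MvPolynomial.X 2] h *
        MvPolynomial.aeval ![MvPolynomial.X 0, MvPolynomial.X 1 + MvPolynomial.X 2] h =
      MvPolynomial.aeval ![MvPolynomial.X 0 + MvPolynomial.X 1, MvPolynomial.X 2] h *
        MvPolynomial.aeval ![MvPolynomial.X 0, MvPolynomial.X 1] h) :
    ∃ f : Polynomial R, IsUnit f ∧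
      Polynomial.aeval (MvPolynomial.X 0 + MvPolynomial.X 1 : MvPolynomial (Fin 2) R) f =
        Polynomial.aeval (MvPolynomial.X 0 : MvPolynomial (Fin 2) R) f *
          Polynomial.aeval (MvPolynomial.X 1 : MvPolynomial (Fin 2) R) f * h := by
  classical
  have hp0 : ((p : ℕ) : R) = 0 := CharP.cast_eq_zero R p
  have hroot : ∀ x : R, ∃ y, y ^ p = x := by
    intro x
    obtain ⟨y, hy⟩ := hF x
    exact ⟨y, by rw [← hy, frobenius_def]⟩
  have hMC : MCoc h := ⟨hu, hsymm, hcoc⟩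
  have hc0 : MvPolynomial.constantCoeff h = 1 := by
    have h1 := constCoeff_aeval ![(MvPolynomial.X 0 : MvPolynomial (Fin 2) R), 0]
      (Fin.forall_fin_two.2 ⟨MvPolynomial.constantCoeff_X R 0, map_zero _⟩) h
    rw [h0, map_one] at h1
    exact h1.symm
  have hc0' : MvPolynomial.coeff 0 h = 1 := hc0
  have hnilc : ∀ d, IsNilpotent (MvPolynomial.coeff d (h - 1)) := by
    intro d
    by_cases hd : d = 0
    · rw [hd, MvPolynomial.coeff_sub, hc0', MvPolynomial.coeff_one, if_pos rfl, sub_self]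
      exact IsNilpotent.zero
    · rw [MvPolynomial.coeff_sub, MvPolynomial.coeff_one, if_neg (Ne.symm hd), sub_zero]
      exact (MvPolynomial.isUnit_iff.1 hu).2 d hd
  obtain ⟨I, hIdef⟩ : ∃ I : Ideal R, I = Ideal.span
      (↑((h - 1).support.image (fun d => MvPolynomial.coeff d (h - 1))) : Set R) := ⟨_, rfl⟩
  have hIfg : I.FG := by rw [hIdef]; exact ⟨_, rfl⟩
  have hmem : ∀ d, MvPolynomial.coeff d (h - 1) ∈ I := by
    intro d
    by_cases hd : MvPolynomial.coeff d (h - 1) = 0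
    · rw [hd]; exact I.zero_mem
    · rw [hIdef]
      apply Ideal.subset_span
      rw [Finset.coe_image]
      exact ⟨d, Finset.mem_coe.2 (MvPolynomial.mem_support_iff.2 hd), rfl⟩
  have hInil : I ≤ nilradical R := by
    rw [hIdef, Ideal.span_le]
    intro x hx
    rw [Finset.coe_image] at hx
    obtain ⟨d, _, rfl⟩ := hx
    exact mem_nilradical.2 (hnilc d)
  obtain ⟨m, hm⟩ := (Ideal.FG.isNilpotent_iff_le_nilradical hIfg).2 hInil
  exact Pj_of_nilpotent p hp0 hroot I hIfg hInil m (hm.trans Ideal.zero_eq_bot) h hMC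
    ((map_mk_eq_one_iff I h).2 hmem)

end Groth.Agent.S13380
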