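import Groth.Statements.S13387
import Groth.Agent.Lib.Helper20.GammaSpan

set_option autoImplicit false
universe u
open ZeroCyc

namespace Groth.Agent.S13387

/-- Let A be a commutative ring, M an A-module and d ≥ 0. Suppose that at each prime p of A either k(p)
has d or more elements, or the localisation M_p is a cyclic A_p-module. Then the degree-d piece
Γ^d_A(M) of the divided power algebra Γ_A(M) is spanned over A by the d-th divided powers γ_d(m), m
∈ M. -/
theorem result {A M : Type u} [CommRing A] [AddCommGroup M]
    [Module A M] (d : ℕ)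
    (h : ∀ p : PrimeSpectrum A, (d : Cardinal) ≤ Cardinal.mk p.asIdeal.ResidueField ∨
      ∃ x : LocalizedModule p.asIdeal.primeCompl M, Submodule.span (Localization.AtPrime p.asIdeal) {x} = ⊤) :
    Submodule.span A (Set.range (DividedPowerAlgebra.dp A d : M → DividedPowerAlgebra A M)) =
      PolLaw.gammaPiece A M d := by
  classical
  apply le_antisymm
  · rw [Submodule.span_le]
    rintro _ ⟨m, rfl⟩
    apply Submodule.subset_span
    exact ⟨1, fun _ => d, fun _ => m, by simp, by simp⟩
  · unfold PolLaw.gammaPiece
    rw [Submodule.span_le]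
    rintro _ ⟨n, k, m, hk, rfl⟩
    by_contra hP
    let I : Ideal A := (Groth.Agent.Lib.Helper20.GammaSpan.Nspan A M d).comap
      (LinearMap.toSpanSingleton A _ (∏ i, DividedPowerAlgebra.dp A (k i) (m i)))
    have hI : ∀ a : A, a ∈ I ↔ a • (∏ i, DividedPowerAlgebra.dp A (k i) (m i)) ∈
        Groth.Agent.Lib.Helper20.GammaSpan.Nspan A M d := fun a => Iff.rfl
    have hne : I ≠ ⊤ := by
      intro htop
      apply hP
      have h1 : (1 : A) ∈ I := htop ▸ Submodule.mem_top
      have := (hI 1).mp h1
      rwa [one_smul] at this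
    obtain ⟨p, hp, hIp⟩ := Ideal.exists_le_maximal I hne
    have hprime : p.IsPrime := hp.isPrime
    obtain ⟨s, hs, hsP⟩ : ∃ s ∈ p.primeCompl, s • (∏ i, DividedPowerAlgebra.dp A (k i) (m i)) ∈
        Groth.Agent.Lib.Helper20.GammaSpan.Nspan A M d := by
      rcases h ⟨p, hprime⟩ with hcard | ⟨x, hx⟩
      · have hsurj := Ideal.algebraMap_residueField_surjective p
        have hc2 : Cardinal.lift.{u} (Cardinal.mk (Fin d)) ≤
            Cardinal.lift.{0} (Cardinal.mk p.ResidueField) := by simpa using hcard
        obtain ⟨g⟩ := Cardinal.lift_mk_le'.mp hc2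
        have hS : ∀ e ≤ d, ∃ c : Fin e → A, (Matrix.vandermonde c).det ∈ p.primeCompl := by
          intro e he
          choose c' hc' using fun i : Fin e => hsurj (g (Fin.castLE he i))
          refine ⟨c', ?_⟩
          intro hmem
          have h0 := Ideal.algebraMap_residueField_eq_zero.mpr hmem
          rw [Matrix.det_vandermonde] at h0
          simp only [map_prod, map_sub, hc'] at h0
          rw [Finset.prod_eq_zero_iff] at h0
          obtain ⟨i, -, hi⟩ := h0
          rw [Finset.prod_eq_zero_iff] at hi
          obtain ⟨j, hj, hij⟩ := hi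
          have h3 := g.injective (sub_eq_zero.mp hij)
          have h4 : j = i := Fin.castLE_injective he h3
          rw [h4] at hj
          simp at hj
        obtain ⟨s, hs, hsP⟩ := Groth.Agent.Lib.Helper20.GammaSpan.exists_smul_prod_mem_of_vandermonde
          p.primeCompl d hS n k m (le_of_eq hk)
        exact ⟨s, hs, hk ▸ hsP⟩
      · obtain ⟨x₀, s₀, rfl⟩ : ∃ x₀ s₀, x = LocalizedModule.mk x₀ s₀ := by
          induction x using LocalizedModule.induction_on with
          | _ m s => exact ⟨m, s, rfl⟩
        have hcyc : ∀ m : M, ∃ t ∈ p.primeCompl, ∃ a : A, t • m = a • x₀ := by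
          intro m
          have hm : LocalizedModule.mk m (1 : p.primeCompl) ∈
              Submodule.span (Localization.AtPrime p) {LocalizedModule.mk x₀ s₀} := by
            rw [hx]; trivial
          obtain ⟨r, hr⟩ := Submodule.mem_span_singleton.mp hm
          induction r using Localization.induction_on with
          | _ as =>
          obtain ⟨a, s₁⟩ := as
          rw [LocalizedModule.mk_smul_mk, LocalizedModule.mk_eq] at hr
          obtain ⟨u, hu⟩ := hr
          refine ⟨(u * (s₁ * s₀) : p.primeCompl), (u * (s₁ * s₀)).2, (u : A) * a, ?_⟩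
          simp only [Submonoid.smul_def, one_smul, Submonoid.coe_mul] at hu ⊢
          rw [mul_smul (u : A) a, hu, mul_smul]
        obtain ⟨s, hs, c, hsc⟩ := Groth.Agent.Lib.Helper20.GammaSpan.exists_smul_prod_eq_of_cyclic
          p.primeCompl x₀ hcyc n k m
        refine ⟨s, hs, ?_⟩
        rw [hsc, hk]
        exact Submodule.smul_mem _ _ (Submodule.subset_span ⟨_, rfl⟩)
    exact hs (hIp ((hI s).mpr hsP))

end Groth.Agent.S13387
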