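import Groth.Statements.S13388
import Groth.Agent.Lib.Helper19.GammaConv

set_option autoImplicit false
universe u
open ZeroCyc

namespace Groth.Agent.S13388

/-- Let A be a commutative ring, M a finitely generated A-module and d ≥ 0. If the degree-d piece
Γ^d_A(M) of Γ_A(M) is spanned over A by the divided powers γ_d(m), m ∈ M, then at each prime p of A
either k(p) has d or more elements, or the localisation M_p is a cyclic A_p-module. -/
theorem result {A M : Type u} [CommRing A] [AddCommGroup M]
    [Module A M] [Module.Finite A M] (d : ℕ)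
    (h : Submodule.span A (Set.range (DividedPowerAlgebra.dp A d : M → DividedPowerAlgebra A M)) =
      PolLaw.gammaPiece A M d)
    (p : PrimeSpectrum A) :
    (d : Cardinal) ≤ Cardinal.mk p.asIdeal.ResidueField ∨
      ∃ x : LocalizedModule p.asIdeal.primeCompl M, Submodule.span (Localization.AtPrime p.asIdeal) {x} = ⊤ := by
  classical
  by_contra hcon
  rw [not_or, not_le, not_exists] at hcon
  obtain ⟨hcard, hnc⟩ := hcon
  have hfin : Finite p.asIdeal.ResidueField :=
    Cardinal.lt_aleph0_iff_finite.mp (hcard.trans (Cardinal.nat_lt_aleph0 d))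
  letI : Fintype p.asIdeal.ResidueField := Fintype.ofFinite _
  have hq : Fintype.card p.asIdeal.ResidueField < d := by
    rw [Cardinal.mk_fintype] at hcard; exact_mod_cast hcard
  obtain ⟨φ1, φ2, n1, n2, h11, h21, h12, h22⟩ :=
    Groth.Agent.Lib.Helper19.GammaConv.exists_dual_pair (R := Localization.AtPrime p.asIdeal)
      (N := LocalizedModule p.asIdeal.primeCompl M) hnc
  obtain ⟨⟨m1, s1⟩, hs1⟩ := IsLocalizedModule.surj p.asIdeal.primeCompl
    (LocalizedModule.mkLinearMap p.asIdeal.primeCompl M) n1
  obtain ⟨⟨m2, s2⟩, hs2⟩ := IsLocalizedModule.surj p.asIdeal.primeCompl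
    (LocalizedModule.mkLinearMap p.asIdeal.primeCompl M) n2
  simp only at hs1 hs2
  have hu : ∀ s : p.asIdeal.primeCompl, algebraMap A p.asIdeal.ResidueField s ≠ 0 := by
    intro s hs
    exact s.2 ((Ideal.algebraMap_residueField_eq_zero).mp hs)
  have key : ∀ (φ : LocalizedModule p.asIdeal.primeCompl M →ₗ[Localization.AtPrime p.asIdeal]
      p.asIdeal.ResidueField) (n : LocalizedModule p.asIdeal.primeCompl M) (m : M)
      (s : p.asIdeal.primeCompl) (c : p.asIdeal.ResidueField),
      s • n = LocalizedModule.mkLinearMap p.asIdeal.primeCompl M m → φ n = c →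
      ((φ.restrictScalars A) ∘ₗ (LocalizedModule.mkLinearMap p.asIdeal.primeCompl M)) m
        = algebraMap A p.asIdeal.ResidueField s * c := by
    intro φ n m s c hs hc
    rw [LinearMap.comp_apply, LinearMap.restrictScalars_apply, ← hs, Submonoid.smul_def,
      ← algebraMap_smul (Localization.AtPrime p.asIdeal) (s : A) n, map_smul, hc, Algebra.smul_def,
      ← IsScalarTower.algebraMap_apply]
  have hx0 : DividedPowerAlgebra.dp A (d - 1) m1 * DividedPowerAlgebra.dp A 1 m2 ∈
      PolLaw.gammaPiece A M d := by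
    apply Submodule.subset_span
    refine ⟨2, ![d - 1, 1], ![m1, m2], ?_, ?_⟩
    · simp only [Fin.sum_univ_two, Matrix.cons_val_zero, Matrix.cons_val_one]; omega
    · simp only [Fin.prod_univ_two, Matrix.cons_val_zero, Matrix.cons_val_one]
  rw [← h] at hx0
  exact Groth.Agent.Lib.Helper19.GammaConv.false_of_span d hq
    ((φ1.restrictScalars A) ∘ₗ (LocalizedModule.mkLinearMap p.asIdeal.primeCompl M))
    ((φ2.restrictScalars A) ∘ₗ (LocalizedModule.mkLinearMap p.asIdeal.primeCompl M))
    m1 m2 (algebraMap A p.asIdeal.ResidueField s1) (algebraMap A p.asIdeal.ResidueField s2)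
    (hu s1) (hu s2)
    (by rw [key φ1 n1 m1 s1 1 hs1 h11, mul_one])
    (by rw [key φ2 n1 m1 s1 0 hs1 h21, mul_zero])
    (by rw [key φ1 n2 m2 s2 0 hs2 h12, mul_zero])
    (by rw [key φ2 n2 m2 s2 1 hs2 h22, mul_one])
    hx0

end Groth.Agent.S13388
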