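import Groth.Statements.S13389
import Groth.Agent.Lib.Helper20.GammaSpan

set_option autoImplicit false
universe u
open ZeroCyc

namespace Groth.Agent.S13389

open Polynomial in
/-- Let P_d(T) = ∏_{0 ≤ i < j ≤ d} (T^i − T^j) − 1 ∈ ℤ[T]. If A is an algebra over ℤ[T]/(P_d), i.e.
receives a ring homomorphism from it, then for every A-module M the degree-d piece Γ^d_A(M) of the
divided power algebra Γ_A(M) is spanned over A by the d-th divided powers γ_d(m), m ∈ M. (The
published statement adds that consequently every ring has a finite faithfully flat extension,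
independent of M, over which this holds; that clause is not restated.) -/
theorem result {A M : Type u} [CommRing A] [AddCommGroup M]
    [Module A M] (d : ℕ)
    (φ : (ℤ[X] ⧸ Ideal.span {(∏ j ∈ Finset.range (d + 1), ∏ i ∈ Finset.range j,
        ((X : ℤ[X]) ^ i - X ^ j)) - 1}) →+* A) :
    Submodule.span A (Set.range (DividedPowerAlgebra.dp A d : M → DividedPowerAlgebra A M)) =
      PolLaw.gammaPiece A M d := by
  classical
  obtain ⟨t, h1⟩ : ∃ t : A, ∏ j ∈ Finset.range (d + 1), ∏ i ∈ Finset.range j,
      (t ^ i - t ^ j) = 1 := by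
    refine ⟨φ (Ideal.Quotient.mk _ X), ?_⟩
    have h0 := Groth.Agent.Lib.Helper20.GammaSpan.map_mk_eq_one _ φ
    rw [← h0]
    simp only [map_prod, map_sub, map_pow]
  have ht := Groth.Agent.Lib.Helper20.GammaSpan.isUnit_of_prod_eq_one t d h1
  apply le_antisymm
  · rw [Submodule.span_le]
    rintro _ ⟨m, rfl⟩
    apply Submodule.subset_span
    exact ⟨1, fun _ => d, fun _ => m, by simp, by simp⟩
  · unfold PolLaw.gammaPiece
    rw [Submodule.span_le]
    rintro _ ⟨n, k, m, hk, rfl⟩
    have := Groth.Agent.Lib.Helper20.GammaSpan.prod_mem _ d ht n k m (le_of_eq hk)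
    rw [hk] at this
    exact this

end Groth.Agent.S13389
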