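import Groth.Statements.S13400
import Mathlib
import Groth.Agent.Lib.Helper24.EtNormD

set_option autoImplicit false
universe u
open scoped TensorProduct
open ZeroCyc

namespace Groth.Agent.S13400

/-- Let A be a commutative ring and B a finite étale A-algebra, free of rank d as an A-module, so that X
= Spec B is finite étale of constant rank d over S = Spec A, and let N : B → A be the determinant
law: the multiplicative polynomial law of degree d which on each A-algebra S is the norm of the free
S-algebra S ⊗_A B (N is taken as data characterised by this formula; it is the canonical family N_X
: S → Γ^d(X/S)). Then the kernel of N is the zero ideal, i.e. the image of N_X is X itself, and N is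
the unique multiplicative law B → A of degree d whose kernel consists of nilpotent elements, i.e.
whose support is all of X_red. (The published statement is over an arbitrary algebraic space S with
X/S finite étale of locally constant rank, phrased with morphisms to Γ^?(X/S); this row is its
content over an affine base with X free of rank d.) -/
theorem result {A B : Type u} [CommRing A] [CommRing B] [Algebra A B]
    [Module.Free A B] [Module.Finite A B] [Algebra.Etale A B] (d : ℕ) (hd : Module.finrank A B = d)
    (N : PolLaw.MulLaw A B A d)
    (hN : ∀ (S : Type u) [CommRing S] [Algebra A S] (x : S ⊗[A] B),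
      N.law.toFun' S x = Algebra.norm S x ⊗ₜ[A] (1 : A)) :
    PolLaw.ker N.law = ⊥ ∧
      ∀ F : PolLaw.MulLaw A B A d, PolLaw.ker F.law ≤ nilradical B → F = N := by
  classical
  have part1 : PolLaw.ker N.law = ⊥ :=
    Groth.Agent.Lib.Helper24.EtNormD.ker_norm_eq_bot d N hN
  refine ⟨part1, fun F hF => ?_⟩
  rcases subsingleton_or_nontrivial A with hA | hA
  · apply PolLaw.MulLaw.ext
    apply PolynomialLaw.ext
    funext S _ _ x
    haveI : Subsingleton (S ⊗[A] A) := Module.subsingleton A _
    exact Subsingleton.elim _ _
  · have hcard : d = Fintype.card (Module.Free.ChooseBasisIndex A B) :=
      hd.symm.trans (Module.finrank_eq_card_chooseBasisIndex A B)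
    subst hcard
    have hN0 : PolLaw.ker N.law ≤ nilradical B := by
      rw [part1]
      exact bot_le
    exact Groth.Agent.Lib.Helper24.EtNormD.unique_aux (Module.Free.chooseBasis A B) F N hF hN0

end Groth.Agent.S13400
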