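import Groth.Statements.S13404
import Groth.Agent.Lib.Helper26.HopfUnitComp

set_option autoImplicit false
universe u v
open Hopf

namespace Groth.Agent.S13404

/-- Let R be a henselian local ring and G = Spec A a finite flat group scheme over R (A a commutative
Hopf algebra over R, finite and flat as an R-module; G need not be commutative). Let e be an
idempotent of A on which the counit takes the value 1 and such that A/(1 - e) is a local ring, so
that Spec A/(1 - e) is the connected component G⁰ of G containing the unit section. Then the ideal
(1 - e) is a Hopf ideal (G⁰ is a closed subgroup scheme of G), A/(1 - e) is a henselian local ring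
with the same residue field as R (the composite R → A/(1 - e) → residue field is surjective), and
A/(1 - e) is flat over R. (The published statement also asserts that G⁰ is normal in G; this row
does not state normality.) -/
theorem result (R : Type u) [CommRing R] [HenselianLocalRing R]
    (A : Type v) [CommRing A] [HopfAlgebra R A] [Module.Finite R A] [Module.Flat R A]
    (e : A) (he : IsIdempotentElem e) (hε : Bialgebra.counitAlgHom R A e = 1)
    [IsLocalRing (A ⧸ Ideal.span ({1 - e} : Set A))] :
    (Ideal.span ({1 - e} : Set A)).IsHopfIdeal R ∧ HenselianLocalRing (A ⧸ Ideal.span ({1 - e} : Set A)) ∧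
      Function.Surjective (⇑(IsLocalRing.residue (A ⧸ Ideal.span ({1 - e} : Set A))) ∘ ⇑(algebraMap R (A ⧸ Ideal.span ({1 - e} : Set A)))) ∧
      Module.Flat R (A ⧸ Ideal.span ({1 - e} : Set A)) := by
  haveI : Algebra.IsIntegral R (A ⧸ Ideal.span ({1 - e} : Set A)) :=
    Algebra.IsIntegral.of_finite R _
  refine ⟨Groth.Agent.Lib.Helper26.HopfUnitComp.isHopfIdeal R A e he hε,
    Groth.Agent.Lib.Helper26.HopfUnitComp.henselianLocalRing_of_isIntegral' R _, ?_,
    Groth.Agent.Lib.Helper26.HopfUnitComp.flat_quot R A e he⟩
  intro z
  obtain ⟨x, rfl⟩ := IsLocalRing.residue_surjective z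
  refine ⟨Groth.Agent.Lib.Helper26.HopfUnitComp.counitBar R A e hε x, ?_⟩
  have h1 := Groth.Agent.Lib.Helper26.HopfUnitComp.sub_mem_maximalIdeal_of_retraction
    (Groth.Agent.Lib.Helper26.HopfUnitComp.counitBar R A e hε) x
  have h2 := (IsLocalRing.residue_eq_zero_iff _).mpr h1
  rw [map_sub, sub_eq_zero] at h2
  exact h2.symm

end Groth.Agent.S13404
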