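import Groth.Statements.S13422
import Groth.Agent.Lib.Helper27.WeakNmpA

set_option autoImplicit false
universe u
open CategoryTheory AlgebraicGeometry
open NeronHD

namespace Groth.Agent.S13422

/-- Let S be a locally Noetherian scheme over a field of characteristic 0, S₀ ⊆ S a scheme-theoretically
dense open, and N a smooth S-scheme with the weak Néron mapping property for S₀ ⊆ S: for every étale
S-scheme U, restriction to S₀ is a bijection from S-morphisms U → N onto S₀-morphisms U|S₀ → N|S₀.
Then N has the uniqueness half of the Néron mapping property: for every smooth S-scheme Z,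
restriction of S-morphisms Z → N to S₀ is injective. (Case of schemes of a statement about algebraic
spaces.) -/
theorem result {k : Type u} [Field k] [CharZero k] {S : Scheme.{u}} (σ : S ⟶ Spec (CommRingCat.of k)) [IsLocallyNoetherian S] (S₀ : S.Opens) (hS₀ : CInt.IsSchematicallyDense S₀)
    (N : Over S) [Smooth N.hom]
    (hN : ∀ U : Over S, Etale U.hom → Function.Bijective (fun g : U ⟶ N => (Over.pullback S₀.ι).map g))
    (Z : Over S) [Smooth Z.hom] :
    Function.Injective (fun g : Z ⟶ N => (Over.pullback S₀.ι).map g) := by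
  intro g₁ g₂ h12
  have h12b : (Over.pullback S₀.ι).map g₁ = (Over.pullback S₀.ι).map g₂ := h12
  have h12' : ((Over.pullback S₀.ι).map g₁).left = ((Over.pullback S₀.ι).map g₂).left :=
    congrArg CommaMorphism.left h12
  have hfst : Limits.pullback.fst Z.hom S₀.ι ≫ g₁.left =
      Limits.pullback.fst Z.hom S₀.ι ≫ g₂.left := by
    have e1 := congrArg (fun k => k ≫ Limits.pullback.fst _ _) h12'
    simp only [Over.pullback_map_left] at e1
    erw [Limits.pullback.lift_fst, Limits.pullback.lift_fst] at e1
    exact e1
  have hpb := (isPullback_morphismRestrict Z.hom S₀).flip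
  have h0 : (Z.hom ⁻¹ᵁ S₀).ι ≫ g₁.left = (Z.hom ⁻¹ᵁ S₀).ι ≫ g₂.left := by
    rw [← hpb.isoPullback_hom_fst, Category.assoc, Category.assoc, hfst]
  have hchar : ∀ s : S, CharZero (S.residueField s) :=
    fun s => Groth.Agent.Lib.Helper27.WeakNmpA.charZero_residueField σ s
  have key : g₁.left = g₂.left := by
    refine Groth.Agent.Lib.Helper27.WeakNmpA.eq_of_forall_etale hchar S₀ hS₀ Z.hom g₁.left g₂.left
      h0 ?_
    intro U h het
    obtain ⟨h', hh'⟩ : ∃ h' : Over.mk (h ≫ Z.hom) ⟶ Z, h'.left = h := ⟨Over.homMk h rfl, rfl⟩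
    have hinj := (hN (Over.mk (h ≫ Z.hom)) het).injective
    have heq : h' ≫ g₁ = h' ≫ g₂ := by
      apply hinj
      show (Over.pullback S₀.ι).map (h' ≫ g₁) = (Over.pullback S₀.ι).map (h' ≫ g₂)
      rw [Functor.map_comp, Functor.map_comp, h12b]
    have h3 : h'.left ≫ g₁.left = h'.left ≫ g₂.left := congrArg CommaMorphism.left heq
    rw [hh'] at h3
    exact h3
  exact Over.OverMorphism.ext key

end Groth.Agent.S13422
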