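import Groth.Statements.S13423
import Mathlib
import Groth.Agent.Lib.Helper25.SmoothFinite
import Groth.Agent.Lib.Helper8.UnramDichotomySch
import Groth.Agent.Lib.Helper8.SmoothUnibranchSch
import Groth.Agent.Lib.Helper11.UnramFib
import Groth.Agent.Lib.Helper11.Birat8
import Groth.Agent.Lib.Helper12.GenImage

set_option autoImplicit false
set_option linter.style.haveILetI false
universe u
open CategoryTheory AlgebraicGeometry
open NeronHD

namespace Groth.Agent.S13423

/-- Let S be a reduced, locally Noetherian scheme over a field of characteristic 0 whose local rings are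
all geometrically unibranch, and let f : X → S be quasi-finite (locally of finite type,
quasi-compact, with finite discrete fibres), separated and dominant, with X connected and nonempty,
such that every fibre X_s over the residue field k(s) is smooth. Then f is étale. (Case of schemes
of a statement about algebraic spaces.) -/
theorem result {k : Type u} [Field k] [CharZero k] {S : Scheme.{u}} (σ : S ⟶ Spec (CommRingCat.of k)) [IsLocallyNoetherian S] [IsReduced S]
    (hS : ∀ s : S, CAlg2.IsGeomUnibranch (S.presheaf.stalk s))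
    {X : Scheme.{u}} (f : X ⟶ S) [LocallyOfFiniteType f] [QuasiCompact f] [LocallyQuasiFinite f] [IsSeparated f] [IsDominant f]
    [ConnectedSpace X]
    (hfib : ∀ s : S, Smooth (Limits.pullback.snd f (S.fromSpecResidueField s))) :
    Etale f := by
  classical
  -- Step A: `f` is formally unramified
  haveI hunr : FormallyUnramified f := by
    apply Groth.Agent.Lib.Helper11.UnramFib.formallyUnramified_of_fiberToSpecResidueField f
    intro s
    haveI : Smooth (f.fiberToSpecResidueField s) := hfib s
    haveI : LocallyQuasiFinite (f.fiberToSpecResidueField s) :=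
      inferInstanceAs (LocallyQuasiFinite (Limits.pullback.snd f (S.fromSpecResidueField s)))
    exact Groth.Agent.Lib.Helper25.SmoothFinite.formallyUnramified_of_smooth_of_locallyQuasiFinite
      (Field.toIsField _) (f.fiberToSpecResidueField s)
  -- the local rings of `S` are domains
  have hdom : ∀ s : S, IsDomain (S.presheaf.stalk s) := by
    intro s
    haveI h1 : IsDomain (CAlg2.red (S.presheaf.stalk s)) := (hS s).1.1
    have hnil : (⊥ : Ideal (S.presheaf.stalk s)) = nilradical (S.presheaf.stalk s) :=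
      (nilradical_eq_zero _).symm
    let e : (S.presheaf.stalk s) ≃+* CAlg2.red (S.presheaf.stalk s) :=
      (RingEquiv.quotientBot _).symm.trans (Ideal.quotEquivOfEq hnil)
    exact MulEquiv.isDomain (CAlg2.red (S.presheaf.stalk s)) e.toMulEquiv
  let E : Set X := {x | ∃ U : X.Opens, x ∈ U ∧ Etale (U.ι ≫ f)}
  let Nn : Set X := {x | ∃ U : X.Opens, x ∈ U ∧
    ∀ w ∈ U, closure ({f.base w} : Set S) ∉ irreducibleComponents S}
  have hEopen : IsOpen E := by
    rw [isOpen_iff_forall_mem_open]
    rintro x ⟨U, hxU, hU⟩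
    exact ⟨U, fun y hy => ⟨U, hy, hU⟩, U.2, hxU⟩
  have hNopen : IsOpen Nn := by
    rw [isOpen_iff_forall_mem_open]
    rintro x ⟨U, hxU, hU⟩
    exact ⟨U, fun y hy => ⟨U, hy, hU⟩, U.2, hxU⟩
  have hcover : ∀ x, x ∈ E ∨ x ∈ Nn := by
    intro x
    haveI := hdom (f.base x)
    obtain ⟨W, hsW, hWint⟩ :=
      Groth.Agent.Lib.Helper11.Birat8.exists_integral_nbhd_of_isDomain_stalk (f.base x)
    haveI := hWint
    let fW : (f ⁻¹ᵁ W).toScheme ⟶ W.toScheme := f ∣_ W
    haveI : LocallyOfFiniteType fW :=
      IsZariskiLocalAtTarget.restrict (P := @LocallyOfFiniteType) inferInstance W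
    haveI : FormallyUnramified fW :=
      IsZariskiLocalAtTarget.restrict (P := @FormallyUnramified) hunr W
    have hWstalk : ∀ w : W.toScheme, CAlg2.IsGeomUnibranch (W.toScheme.presheaf.stalk w) :=
      fun w => Groth.Agent.Lib.Helper8.SmoothUnibranchSch.stalk_isGeomUnibranch_of_smooth
        W.ι w (hS _)
    have hres : ∀ w' : (f ⁻¹ᵁ W).toScheme,
        W.ι.base (fW.base w') = f.base ((f ⁻¹ᵁ W).ι.base w') := by
      intro w'
      exact congrArg (fun g : (f ⁻¹ᵁ W).toScheme ⟶ S => g.base w') (morphismRestrict_ι f W)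
    let x' : (f ⁻¹ᵁ W).toScheme := ⟨x, hsW⟩
    have hx'x : (f ⁻¹ᵁ W).ι.base x' = x := rfl
    have heq : ∀ U' : (f ⁻¹ᵁ W).toScheme.Opens,
        ((f ⁻¹ᵁ W).ι ''ᵁ U').ι ≫ f =
          ((f ⁻¹ᵁ W).ι.isoImage U').inv ≫ (U'.ι ≫ fW) ≫ W.ι := by
      intro U'
      rw [Iso.eq_inv_comp, Scheme.Hom.isoImage_hom_ι_assoc, Category.assoc,
        morphismRestrict_ι]
    rcases Groth.Agent.Lib.Helper8.UnramDichotomySch.etale_nhd_or_avoid_generic fW hWstalk x'
      with ⟨U', hxU', hU'⟩ | ⟨U', hxU', hU'⟩
    · left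
      refine ⟨(f ⁻¹ᵁ W).ι ''ᵁ U', ⟨x', hxU', hx'x⟩, ?_⟩
      rw [heq U']
      haveI : Etale (U'.ι ≫ fW) := hU'
      infer_instance
    · right
      refine ⟨(f ⁻¹ᵁ W).ι ''ᵁ U', ⟨x', hxU', hx'x⟩, ?_⟩
      rintro w ⟨w', hw'U, rfl⟩ hirr
      apply hU' w' hw'U
      have hirr' : closure ({W.ι.base (fW.base w')} : Set S) ∈ irreducibleComponents S := by
        rw [hres w']
        exact hirr
      have hsp : genericPoint W.toScheme ⤳ fW.base w' := genericPoint_specializes _
      have hsp' : W.ι.base (genericPoint W.toScheme) ⤳ W.ι.base (fW.base w') :=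
        hsp.map W.ι.continuous
      have := Groth.Agent.Lib.Helper12.eq_of_specializes_of_mem_irreducibleComponents hirr' hsp'
      exact (W.ι.isOpenEmbedding.injective this).symm
  have hdisj : ∀ x, x ∈ E → x ∈ Nn → False := by
    rintro x ⟨U₁, hx1, hU1⟩ ⟨U₂, hx2, hU2⟩
    obtain ⟨η, hη, hsp⟩ := Groth.Agent.Lib.Helper12.exists_generic_specializes (f.base x)
    haveI := hU1
    have hgen : GeneralizingMap (U₁.ι ≫ f).base := Flat.generalizingMap (U₁.ι ≫ f)
    have hsp2 : η ⤳ (U₁.ι ≫ f).base ⟨x, hx1⟩ := hsp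
    obtain ⟨w', hw', hfw'⟩ := hgen hsp2
    have hw : U₁.ι.base w' ⤳ x := hw'.map U₁.ι.continuous
    have hwU2 : U₁.ι.base w' ∈ U₂ := hw.mem_open U₂.2 hx2
    apply hU2 _ hwU2
    have : f.base (U₁.ι.base w') = η := hfw'
    rw [this]
    exact hη
  have hcompl : Eᶜ = Nn := by
    ext x
    constructor
    · intro hx
      rcases hcover x with h | h
      · exact absurd h hx
      · exact h
    · intro hx hE
      exact hdisj x hE hx
  have hEclosed : IsClosed E := by
    rw [← isOpen_compl_iff, hcompl]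
    exact hNopen
  by_cases hne : E.Nonempty
  · have hEuniv : E = Set.univ := IsClopen.eq_univ ⟨hEclosed, hEopen⟩ hne
    have hall : ∀ x : X, ∃ U : X.Opens, x ∈ U ∧ Etale (U.ι ≫ f) := by
      intro x
      have : x ∈ E := hEuniv ▸ Set.mem_univ x
      exact this
    choose U hxU hU using hall
    refine IsZariskiLocalAtSource.of_iSup_eq_top (P := @Etale) U ?_ hU
    rw [eq_top_iff]
    intro x _
    exact TopologicalSpace.Opens.mem_iSup.mpr ⟨x, hxU x⟩
  · exfalso
    rw [Set.not_nonempty_iff_eq_empty] at hne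
    obtain ⟨x₀⟩ := (inferInstance : Nonempty X)
    obtain ⟨η, hη, -⟩ := Groth.Agent.Lib.Helper12.exists_generic_specializes (f.base x₀)
    obtain ⟨y, hy⟩ := Groth.Agent.Lib.Helper12.GenImage.exists_preimage_of_generic f η hη
    rcases hcover y with h | ⟨U, hyU, hU⟩
    · rw [hne] at h
      exact h
    · apply hU y hyU
      have : f.base y = η := hy
      rw [this]
      exact hη

end Groth.Agent.S13423
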