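import Groth.Statements.S13424
import Groth.Agent.Lib.Helper27.AlignA

set_option autoImplicit false
universe u
open CategoryTheory AlgebraicGeometry
open GrpSch

namespace Groth.Agent.S13424

/-- Let S be a normal, locally Noetherian scheme over a field of characteristic 0. Let p : G → S and q :
H → S be smooth morphisms with sections e_G and e_H, and f : G → H an étale morphism over S with f ∘
e_G = e_H (the case in view: an étale homomorphism of smooth group schemes and their unit sections).
Call such a pointed S-scheme aligned when the scheme-theoretic image of its section is étale over S.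
If H is aligned then G is aligned. (The published statement has an arbitrary locally Noetherian
base; over the reducible curve xy = 0 the étale group scheme obtained from two copies of the base
glued along the complement of one branch maps to the trivial group by an étale homomorphism and is
not aligned, so the base is taken normal here, where the closure of the section is a union of
connected components of the preimage of the image of e_H. Schemes only.) -/
theorem result {k : Type u} [Field k] [CharZero k] {S : Scheme.{u}} (σ : S ⟶ Spec (CommRingCat.of k)) [IsLocallyNoetherian S] (hS : Pi1.IsNormalScheme S)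
    {G H : Scheme.{u}} (p : G ⟶ S) (q : H ⟶ S) [Smooth p] [Smooth q]
    (eG : S ⟶ G) (eH : S ⟶ H) (heG : eG ≫ p = 𝟙 S) (heH : eH ≫ q = 𝟙 S)
    (f : G ⟶ H) [Etale f] (hf : f ≫ q = p) (hfe : eG ≫ f = eH)
    (hH : Etale (eH.ker.subschemeι ≫ q)) :
    Etale (eG.ker.subschemeι ≫ p) := by
  haveI : Limits.HasPullback f eH.imageι := inferInstance
  have hcond : eG ≫ f = eH.toImage ≫ eH.imageι := by
    rw [hfe, Scheme.Hom.toImage_imageι]
  obtain ⟨s, hs⟩ : ∃ s : S ⟶ Limits.pullback f eH.imageι,
      s = Limits.pullback.lift eG eH.toImage hcond := ⟨_, rfl⟩
  have hsi : s ≫ Limits.pullback.fst f eH.imageι = eG := by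
    rw [hs, Limits.pullback.lift_fst]
  have hw : Limits.pullback.fst f eH.imageι ≫ p =
      Limits.pullback.snd f eH.imageι ≫ eH.imageι ≫ q := by
    rw [← hf, ← Category.assoc, Limits.pullback.condition, Category.assoc]
  haveI : Etale (eH.imageι ≫ q) := hH
  haveI : Etale (Limits.pullback.fst f eH.imageι ≫ p) := by
    rw [hw]; infer_instance
  have hsp : s ≫ Limits.pullback.fst f eH.imageι ≫ p = 𝟙 S := by
    rw [← Category.assoc, hsi, heG]
  have key := Groth.Agent.Lib.Helper27.AlignA.etale_imageι_comp_of_closedImmersion hS p
    (Limits.pullback.fst f eH.imageι) s hsp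
  rw [hsi] at key
  exact key

end Groth.Agent.S13424
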