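import Groth.Statements.S13426
import Groth.Agent.Lib.Helper27.AlignSepA
import Groth.Agent.S5331

set_option autoImplicit false
universe u
open CategoryTheory MonoidalCategory CartesianMonoidalCategory MonObj GrpObj AlgebraicGeometry
open GrpSch

namespace Groth.Agent.S13426

/-- Let S be a locally Noetherian scheme over a field of characteristic 0, S₀ ⊆ S a scheme-theoretically
dense open, and G a smooth S-scheme with the weak Néron mapping property for S₀ ⊆ S: for every étale
S-scheme U, restriction to S₀ is a bijection from S-morphisms U → G onto S₀-morphisms. Let H be a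
smooth group scheme over S together with a monomorphism H → G of S-schemes (the case in view: G a
group scheme and H a subgroup scheme), and assume that H is aligned, i.e. the scheme-theoretic image
of its unit section is étale over S, and that H ×_S S₀ → S₀ is separated. Then H → S is separated.
(Case of schemes of a statement about group algebraic spaces; only the injectivity of H → G on
morphisms is used of the subgroup condition.) -/
theorem result {k : Type u} [Field k] [CharZero k] {S : Scheme.{u}} (σ : S ⟶ Spec (CommRingCat.of k)) [IsLocallyNoetherian S] (S₀ : S.Opens) (hS₀ : CInt.IsSchematicallyDense S₀)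
    (G : Over S) [Smooth G.hom]
    (hG : ∀ U : Over S, Etale U.hom → Function.Bijective (fun g : U ⟶ G => (Over.pullback S₀.ι).map g))
    (H : Over S) [GrpObj H] [Smooth H.hom] (j : H ⟶ G) [Mono j.left]
    (hal : Etale (η[H].left.ker.subschemeι ≫ H.hom))
    (h0 : IsSeparated (Limits.pullback.snd H.hom S₀.ι)) :
    IsSeparated H.hom := by
  obtain ⟨e, hedef⟩ : ∃ e : S ⟶ H.left, e = η[H].left := ⟨_, rfl⟩
  have he : e ≫ H.hom = 𝟙 S := by
    rw [hedef]
    have := Over.w η[H]
    simpa using this
  have hjw : j.left ≫ G.hom = H.hom := Over.w j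
  haveI hcl : IsClosedImmersion η[H].left := by
    rw [← hedef]
    have hal' : Etale (e.imageι ≫ H.hom) := by rw [hedef]; exact hal
    refine Groth.Agent.Lib.Helper27.AlignSepA.isClosedImmersion_section S₀ H.hom e he hal' h0 ?_
    intro a₁ a₂ h1 h2 h12
    obtain ⟨b₁, hb₁⟩ : ∃ b₁ : Over.mk (e.imageι ≫ H.hom) ⟶ G, b₁.left = a₁ ≫ j.left :=
      ⟨Over.homMk (a₁ ≫ j.left) (by
        show (a₁ ≫ j.left) ≫ G.hom = e.imageι ≫ H.hom
        rw [Category.assoc, hjw, h1]), rfl⟩
    obtain ⟨b₂, hb₂⟩ : ∃ b₂ : Over.mk (e.imageι ≫ H.hom) ⟶ G, b₂.left = a₂ ≫ j.left :=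
      ⟨Over.homMk (a₂ ≫ j.left) (by
        show (a₂ ≫ j.left) ≫ G.hom = e.imageι ≫ H.hom
        rw [Category.assoc, hjw, h2]), rfl⟩
    have hb : b₁ = b₂ := by
      apply (hG (Over.mk (e.imageι ≫ H.hom)) hal').injective
      show (Over.pullback S₀.ι).map b₁ = (Over.pullback S₀.ι).map b₂
      apply Over.OverMorphism.ext
      apply Limits.pullback.hom_ext
      · simp only [Over.pullback_map_left]
        erw [Limits.pullback.lift_fst, Limits.pullback.lift_fst]
        rw [hb₁, hb₂]
        have h12' : Limits.pullback.fst (e.imageι ≫ H.hom) S₀.ι ≫ a₁ ≫ j.left =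
            Limits.pullback.fst (e.imageι ≫ H.hom) S₀.ι ≫ a₂ ≫ j.left := by
          rw [← Category.assoc, h12, Category.assoc]
        exact h12'
      · simp only [Over.pullback_map_left]
        erw [Limits.pullback.lift_snd, Limits.pullback.lift_snd]
    have h3 : b₁.left = b₂.left := congrArg CommaMorphism.left hb
    rw [hb₁, hb₂] at h3
    exact (cancel_mono j.left).mp h3
  have hpb := (Groth.Agent.S5331.isPullback_diag_unit H).map (Over.forget S)
  haveI : IsClosedImmersion ((Over.forget S).map
      (CartesianMonoidalCategory.lift (𝟙 H) (𝟙 H))) :=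
    MorphismProperty.of_isPullback (P := @IsClosedImmersion) hpb.flip hcl
  have hdiag : Limits.pullback.diagonal H.hom =
      (CartesianMonoidalCategory.lift (𝟙 H) (𝟙 H)).left := by
    have hl : (CartesianMonoidalCategory.lift (𝟙 H) (𝟙 H)).left =
        Limits.pullback.lift (𝟙 H.left) (𝟙 H.left) rfl := rfl
    rw [hl]
    rfl
  exact ⟨by rw [hdiag]; exact this⟩

end Groth.Agent.S13426
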