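import Groth.Statements.S13428
import Groth.Agent.Lib.Helper27.SmEtA

set_option autoImplicit false
universe u
open CategoryTheory AlgebraicGeometry
open NeronHD

namespace Groth.Agent.S13428

/-- Let S be a normal Noetherian scheme over a field of characteristic 0 and S₀ ⊆ S a
scheme-theoretically dense open. Let N be a smooth, separated and quasi-compact S-scheme with the
Néron mapping property for S₀ ⊆ S (restriction to S₀ of S-morphisms from smooth S-schemes is
bijective) such that N|S₀ → S₀ is étale, so that N is a quasi-projective Néron model of the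
quasi-projective étale S₀-scheme N|S₀. If M is a separated, quasi-compact, étale S-scheme and φ : M
→ N is an S-morphism restricting to an isomorphism over S₀ (so M is another quasi-projective étale
extension of N|S₀, and φ is its canonical map to the Néron model), then φ is an open immersion.
(Case of schemes of the published statement.) -/
theorem result {k : Type u} [Field k] [CharZero k] {S : Scheme.{u}} (σ : S ⟶ Spec (CommRingCat.of k)) [IsNoetherian S] (hS : Pi1.IsNormalScheme S) (S₀ : S.Opens) (hS₀ : CInt.IsSchematicallyDense S₀)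
    (N : Over S) [Smooth N.hom] [IsSeparated N.hom] [QuasiCompact N.hom]
    (hN : ∀ Z : Over S, Smooth Z.hom → Function.Bijective (fun g : Z ⟶ N => (Over.pullback S₀.ι).map g))
    [Etale ((Over.pullback S₀.ι).obj N).hom]
    (M : Over S) [Etale M.hom] [IsSeparated M.hom] [QuasiCompact M.hom]
    (φ : M ⟶ N) [IsIso ((Over.pullback S₀.ι).map φ)] :
    IsOpenImmersion φ.left := by
  classical
  have hS₀d : Dense (S₀ : Set S) :=
    Groth.Agent.Lib.Helper27.SmEtA.dense_of_isSchematicallyDense S₀ hS₀
  -- `N.hom` is étale over `S₀`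
  have hNres : Etale (N.hom ∣_ S₀) := by
    have h1 : Etale (Limits.pullback.snd N.hom S₀.ι) := ‹Etale ((Over.pullback S₀.ι).obj N).hom›
    have h2 : N.hom ∣_ S₀ = (pullbackRestrictIsoRestrict N.hom S₀).inv ≫ Limits.pullback.snd N.hom S₀.ι := by
      rw [← pullbackRestrictIsoRestrict_hom_morphismRestrict, Iso.inv_hom_id_assoc]
    rw [h2]
    infer_instance
  have hNu : FormallyUnramified N.hom :=
    Groth.Agent.Lib.Helper27.SmEtA.formallyUnramified_of_smooth_of_restrict N.hom S₀
      (Groth.Agent.Lib.Helper27.SmEtA.dense_preimage_of_flat N.hom S₀ hS₀d)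
  -- `φ.left` is étale
  have hφe : Etale φ.left := by
    have : Etale (φ.left ≫ N.hom) := by rw [Over.w φ]; infer_instance
    exact Etale.of_comp φ.left N.hom
  have hφs : IsSeparated φ.left := by
    have : IsSeparated (φ.left ≫ N.hom) := by rw [Over.w φ]; infer_instance
    exact IsSeparated.of_comp φ.left N.hom
  -- `φ.left` is a monomorphism over `S₀`
  have hiso : IsIso ((Over.pullback S₀.ι).map φ).left :=
    inferInstanceAs (IsIso ((Over.forget _).map ((Over.pullback S₀.ι).map φ)))
  have hsq : Limits.pullback.fst M.hom S₀.ι ≫ φ.left =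
      ((Over.pullback S₀.ι).map φ).left ≫ Limits.pullback.fst N.hom S₀.ι := by
    simp only [Over.pullback_map_left]
    rw [Limits.pullback.lift_fst]
  have hmono₀ : Mono (Limits.pullback.fst M.hom S₀.ι ≫ φ.left) := by
    rw [hsq]
    infer_instance
  have hmono : Mono ((M.hom ⁻¹ᵁ S₀).ι ≫ φ.left) := by
    rw [← pullbackRestrictIsoRestrict_inv_fst, Category.assoc]
    infer_instance
  -- density in the self-product
  have hdense : Dense ((Limits.pullback.fst φ.left φ.left) ⁻¹' ((M.hom ⁻¹ᵁ S₀ : M.left.Opens) : Set M.left) ∩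
      (Limits.pullback.snd φ.left φ.left) ⁻¹' ((M.hom ⁻¹ᵁ S₀ : M.left.Opens) : Set M.left)) := by
    have hd := Groth.Agent.Lib.Helper27.SmEtA.dense_preimage_of_flat
      (Limits.pullback.fst φ.left φ.left ≫ M.hom) S₀ hS₀d
    refine hd.mono ?_
    intro p hp
    have hp1 : M.hom (Limits.pullback.fst φ.left φ.left p) ∈ S₀ := by
      have := hp
      rw [SetLike.mem_coe, Scheme.Hom.mem_preimage, Scheme.Hom.comp_apply] at this
      exact this
    refine ⟨hp1, ?_⟩
    show M.hom (Limits.pullback.snd φ.left φ.left p) ∈ S₀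
    have e1 : M.hom (Limits.pullback.snd φ.left φ.left p) = M.hom (Limits.pullback.fst φ.left φ.left p) := by
      rw [← Over.w φ, Scheme.Hom.comp_apply, Scheme.Hom.comp_apply, ← Scheme.Hom.comp_apply _ φ.left,
        ← Scheme.Hom.comp_apply _ φ.left, Limits.pullback.condition]
    rw [e1]
    exact hp1
  have : Mono φ.left :=
    Groth.Agent.Lib.Helper27.SmEtA.mono_of_etale_of_dense φ.left (M.hom ⁻¹ᵁ S₀) hdense
  exact IsOpenImmersion.of_flat_of_mono φ.left

end Groth.Agent.S13428
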