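import Groth.Statements.S13429
import Groth.Agent.Lib.Helper27.NeronFinE
import Groth.Agent.Lib.Helper11.SD3

set_option autoImplicit false
universe u
open CategoryTheory AlgebraicGeometry
open NeronHD

namespace Groth.Agent.S13429

/-- Let S be a normal Noetherian scheme over a field of characteristic 0, S₀ ⊆ S a scheme-theoretically
dense open, and N₀ → S₀ separated, quasi-compact and étale (a quasi-projective étale S₀-scheme).
Then N₀ has a quasi-projective Néron model: there exist a separated, quasi-compact, étale S-scheme N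
and an isomorphism of S₀-schemes N|S₀ ≅ N₀ such that N has the Néron mapping property for S₀ ⊆ S,
i.e. for every smooth S-scheme Z restriction to S₀ is a bijection from S-morphisms Z → N onto
S₀-morphisms Z|S₀ → N|S₀ (this determines N up to unique isomorphism). (Case of schemes, with smooth
test schemes, of the published statement.) -/
theorem result {k : Type u} [Field k] [CharZero k] {S : Scheme.{u}} (σ : S ⟶ Spec (CommRingCat.of k)) [IsNoetherian S] (hS : Pi1.IsNormalScheme S) (S₀ : S.Opens) (hS₀ : CInt.IsSchematicallyDense S₀)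
    (N₀ : Over (S₀ : Scheme.{u})) [Etale N₀.hom] [IsSeparated N₀.hom] [QuasiCompact N₀.hom] :
    ∃ (N : Over S) (e : (Over.pullback S₀.ι).obj N ≅ N₀), Etale N.hom ∧ IsSeparated N.hom ∧ QuasiCompact N.hom ∧
      ∀ Z : Over S, Smooth Z.hom → Function.Bijective (fun g : Z ⟶ N => (Over.pullback S₀.ι).map g) := by
  have hchar : ∀ U : S.Opens, IsAffineOpen U → IsDomain Γ(S, U) → CharZero Γ(S, U) := by
    intro U _ hdom
    obtain ⟨φ, -⟩ : ∃ φ : k →+* Γ(S, U), True :=
      ⟨((Scheme.ΓSpecIso (CommRingCat.of k)).inv ≫ σ.appTop ≫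
        S.presheaf.map (homOfLE (le_top : U ≤ ⊤)).op).hom, trivial⟩
    exact charZero_of_injective_ringHom φ.injective
  have hS₀d : Dense (S₀ : Set S) :=
    Groth.Agent.Lib.Helper11.SD3.dense_of_isSchematicallyDense S₀ hS₀
  obtain ⟨N, q, ι, hqe, hqs, hqc, hιo, hιq, hιr, hNMP⟩ :=
    Groth.Agent.Lib.Helper27.NeronFinE.exists_neron_model hS hchar S₀ hS₀d N₀.hom
  haveI := hιo
  have hr : Set.range (Limits.pullback.fst q S₀.ι) = Set.range ι := by
    rw [Scheme.Pullback.range_fst, Scheme.Opens.range_ι, hιr]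
  let e₀ : Limits.pullback q S₀.ι ≅ N₀.left :=
    IsOpenImmersion.isoOfRangeEq (Limits.pullback.fst q S₀.ι) ι hr
  have he₀ : e₀.hom ≫ ι = Limits.pullback.fst q S₀.ι :=
    IsOpenImmersion.isoOfRangeEq_hom_fac _ _ _
  have hw : e₀.hom ≫ N₀.hom = Limits.pullback.snd q S₀.ι := by
    rw [← cancel_mono S₀.ι, Category.assoc, ← hιq, ← Category.assoc, he₀,
      Limits.pullback.condition]
  refine ⟨Over.mk q, Over.isoMk e₀ hw, hqe, hqs, hqc, ?_⟩
  intro Z hZsm
  haveI : Smooth Z.hom := hZsm
  have hrj : Set.range (Limits.pullback.fst Z.hom S₀.ι) = Z.hom ⁻¹' (S₀ : Set S) := by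
    rw [Scheme.Pullback.range_fst, Scheme.Opens.range_ι]
  constructor
  · intro g₁ g₂ h12
    have h12' : ((Over.pullback S₀.ι).map g₁).left = ((Over.pullback S₀.ι).map g₂).left :=
      congrArg CommaMorphism.left h12
    have hfst : Limits.pullback.fst Z.hom S₀.ι ≫ g₁.left =
        Limits.pullback.fst Z.hom S₀.ι ≫ g₂.left := by
      have e1 := congrArg (fun k => k ≫ Limits.pullback.fst _ _) h12'
      simp only [Over.pullback_map_left] at e1
      erw [Limits.pullback.lift_fst, Limits.pullback.lift_fst] at e1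
      exact e1
    have hw1 : g₁.left ≫ q = Z.hom := Over.w g₁
    have hw2 : g₂.left ≫ q = Z.hom := Over.w g₂
    obtain ⟨F, -, hFu⟩ := hNMP Z.hom (Limits.pullback.fst Z.hom S₀.ι) hrj
      (Limits.pullback.fst Z.hom S₀.ι ≫ g₁.left) (by rw [Category.assoc, hw1])
    have e1 : g₁.left = F := hFu _ ⟨hw1, rfl⟩
    have e2 : g₂.left = F := hFu _ ⟨hw2, hfst.symm⟩
    exact Over.OverMorphism.ext (e1.trans e2.symm)
  · intro g₀
    have hw0 : g₀.left ≫ Limits.pullback.snd q S₀.ι =
        Limits.pullback.snd Z.hom S₀.ι := Over.w g₀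
    obtain ⟨F, ⟨hF1, hF2⟩, -⟩ := hNMP Z.hom (Limits.pullback.fst Z.hom S₀.ι) hrj
      (g₀.left ≫ Limits.pullback.fst q S₀.ι)
      (by
        rw [Category.assoc, Limits.pullback.condition, ← Category.assoc, hw0,
          Limits.pullback.condition])
    refine ⟨Over.homMk F hF1, ?_⟩
    apply Over.OverMorphism.ext
    apply Limits.pullback.hom_ext
    · simp only [Over.pullback_map_left, Over.homMk_left, Limits.pullback.lift_fst]
      exact hF2
    · simp only [Over.pullback_map_left, Limits.pullback.lift_snd]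
      exact hw0.symm

end Groth.Agent.S13429
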