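import Groth.Statements.S13432
import Groth.Agent.Lib.Helper27.NeronFinC
import Groth.Agent.Lib.Helper11.SD3

set_option autoImplicit false
universe u
open CategoryTheory AlgebraicGeometry
open NeronHD

namespace Groth.Agent.S13432

/-- Let S be a normal Noetherian scheme over a field of characteristic 0 and S₀ ⊆ S a
scheme-theoretically dense open. Let π : T → S be finite with T normal, and let N ⊆ T be the open
subscheme where π is smooth (equivalently étale, π being finite). Then N → S has the Néron mapping
property for S₀ ⊆ S: for every smooth S-scheme Z, restriction to S₀ is a bijection from S-morphisms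
Z → N onto S₀-morphisms Z|S₀ → N|S₀. (In the published statement T is the normal finite S-scheme
compactifying a given quasi-projective étale S-scheme and N is the maximal quasi-projective étale
scheme containing it; that origin of T plays no role in this part of the proof, so any finite T → S
with T normal is allowed here. Case of schemes, with smooth test schemes, of a statement about
algebraic spaces.) -/
theorem result {k : Type u} [Field k] [CharZero k] {S : Scheme.{u}} (σ : S ⟶ Spec (CommRingCat.of k)) [IsNoetherian S] (hS : Pi1.IsNormalScheme S) (S₀ : S.Opens) (hS₀ : CInt.IsSchematicallyDense S₀)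
    {T : Scheme.{u}} (π : T ⟶ S) [IsFinite π] [LocallyOfFinitePresentation π] (hT : Pi1.IsNormalScheme T) :
    ∀ Z : Over S, Smooth Z.hom → Function.Bijective (fun g : Z ⟶ Over.mk (π.smoothLocus.ι ≫ π) => (Over.pullback S₀.ι).map g) := by
  intro Z hZsm
  haveI : Smooth Z.hom := hZsm
  have hdense : Dense (Set.range (Limits.pullback.fst Z.hom S₀.ι)) := by
    have h1 : Set.range (Limits.pullback.fst Z.hom S₀.ι) = Z.hom ⁻¹' (S₀ : Set S) := by
      rw [Scheme.Pullback.range_fst, Scheme.Opens.range_ι]
    rw [h1]
    exact (Groth.Agent.Lib.Helper11.SD3.dense_of_isSchematicallyDense S₀ hS₀).preimage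
      Z.hom.isOpenMap
  constructor
  · intro g₁ g₂ h12
    have h12' : ((Over.pullback S₀.ι).map g₁).left = ((Over.pullback S₀.ι).map g₂).left :=
      congrArg CommaMorphism.left h12
    have hfst : Limits.pullback.fst Z.hom S₀.ι ≫ g₁.left =
        Limits.pullback.fst Z.hom S₀.ι ≫ g₂.left := by
      have e1 := congrArg (fun k => k ≫ Limits.pullback.fst _ _) h12'
      simp only [Over.pullback_map_left] at e1
      erw [Limits.pullback.lift_fst, Limits.pullback.lift_fst] at e1
      exact e1
    obtain ⟨f₀, hf₀⟩ : ∃ f₀ : Limits.pullback Z.hom S₀.ι ⟶ π.smoothLocus.toScheme,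
        f₀ = Limits.pullback.fst Z.hom S₀.ι ≫ g₁.left := ⟨_, rfl⟩
    have hw1 : g₁.left ≫ π.smoothLocus.ι ≫ π = Z.hom := Over.w g₁
    have hw2 : g₂.left ≫ π.smoothLocus.ι ≫ π = Z.hom := Over.w g₂
    obtain ⟨F, -, hFu⟩ := Groth.Agent.Lib.Helper27.NeronFinC.existsUnique_extension hS π hT
      Z.hom (Limits.pullback.fst Z.hom S₀.ι) hdense f₀
      (by rw [hf₀, Category.assoc, hw1])
    have e1 : g₁.left = F := hFu _ ⟨hw1, hf₀.symm⟩
    have e2 : g₂.left = F := hFu _ ⟨hw2, by rw [hf₀, hfst]⟩
    exact Over.OverMorphism.ext (e1.trans e2.symm)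
  · intro g₀
    have hw0 : g₀.left ≫ Limits.pullback.snd (π.smoothLocus.ι ≫ π) S₀.ι =
        Limits.pullback.snd Z.hom S₀.ι := Over.w g₀
    obtain ⟨F, ⟨hF1, hF2⟩, -⟩ := Groth.Agent.Lib.Helper27.NeronFinC.existsUnique_extension hS π
      hT Z.hom (Limits.pullback.fst Z.hom S₀.ι) hdense
      (g₀.left ≫ Limits.pullback.fst (π.smoothLocus.ι ≫ π) S₀.ι)
      (by
        rw [Category.assoc, Limits.pullback.condition, ← Category.assoc, hw0,
          Limits.pullback.condition])
    refine ⟨Over.homMk F hF1, ?_⟩
    apply Over.OverMorphism.ext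
    apply Limits.pullback.hom_ext
    · simp only [Over.pullback_map_left, Over.homMk_left, Limits.pullback.lift_fst]
      exact hF2
    · simp only [Over.pullback_map_left, Limits.pullback.lift_snd]
      exact hw0.symm

end Groth.Agent.S13432
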