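import Groth.Statements.S13441
import Groth.Agent.Lib.Helper20.MonoIdeal

set_option autoImplicit false
universe u
open W4c1hilbpn

namespace Groth.Agent.S13441

open W4c1hilbpn in
/-- Let k be an infinite field, S = k[x,y,z] with variables ordered x > y > z, and I a strongly stable
ideal of finite colength, with staircase numbers b^z_{i,j} = the number of c with x^i y^j z^c
outside I and b^y_{i,j} = the number of b with x^i y^b z^j outside I. Then b^z_{i+1,j} ≤ b^z_{i,j+1}
and b^y_{i+1,j} ≤ b^y_{i,j+1} for all i and j (equivalently the maximum of the two neighbouring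
staircase numbers is the second one). -/
theorem result (k : Type u) [Field k] [Infinite k]
    (I : Ideal (MvPolynomial (Fin 3) k)) (hI : IsStronglyStable I) [Module.Finite k (MvPolynomial (Fin 3) k ⧸ I)] (i j : ℕ) :
    stairZ I (i + 1) j ≤ stairZ I i (j + 1) ∧ stairY I (i + 1) j ≤ stairY I i (j + 1) := by
  classical
  have hmono : IsMonomial I := hI.1
  have hfin := Groth.Agent.Lib.Helper20.MonoIdeal.finite_compl_exps I hmono
  have key : ∀ (f g : ℕ → (Fin 3 →₀ ℕ)), Function.Injective g →
      (∀ c, g c ∈ exps I → f c ∈ exps I) →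
      Nat.card {c : ℕ // f c ∉ exps I} ≤ Nat.card {c : ℕ // g c ∉ exps I} := by
    intro f g hg h
    have : Finite {c : ℕ // g c ∉ exps I} :=
      Finite.of_injective (fun c => (⟨g c.1, c.2⟩ : {β : Fin 3 →₀ ℕ // β ∉ exps I}))
        (fun a b hab => Subtype.ext (hg (congrArg Subtype.val hab)))
    exact Nat.card_le_card_of_injective
      (fun c : {c : ℕ // f c ∉ exps I} => (⟨c.1, fun hc => c.2 (h _ hc)⟩ : {c : ℕ // g c ∉ exps I}))
      (fun a b hab => by
        have := congrArg Subtype.val hab
        exact Subtype.ext this)
  have e0 : ∀ a b c, e3 a b c 0 = a := fun a b c => by simp [e3]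
  have e1 : ∀ a b c, e3 a b c 1 = b := fun a b c => by simp [e3]
  have e2 : ∀ a b c, e3 a b c 2 = c := fun a b c => by simp [e3]
  have hinj : ∀ a b : ℕ, Function.Injective (fun c => e3 a b c) := by
    intro a b c c' h
    have := DFunLike.congr_fun h 2
    simpa [e2] using this
  have hinjY : ∀ a c : ℕ, Function.Injective (fun b => e3 a b c) := by
    intro a c b b' h
    have := DFunLike.congr_fun h 1
    simpa [e1] using this
  constructor
  · unfold stairZ
    apply key (fun c => e3 (i + 1) j c) (fun c => e3 i (j + 1) c) (hinj _ _)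
    intro c hc
    have := hI.2 _ hc 0 1 (by decide) (by simp [e1])
    convert this using 1
    ext t
    fin_cases t <;> simp [Finsupp.single_apply, e0, e1, e2]
  · unfold stairY
    apply key (fun b => e3 (i + 1) b j) (fun b => e3 i b (j + 1)) (hinjY _ _)
    intro b hb
    have := hI.2 _ hb 0 2 (by decide) (by simp [e2])
    convert this using 1
    ext t
    fin_cases t <;> simp [Finsupp.single_apply, e0, e1, e2]

end Groth.Agent.S13441
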