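import Groth.Statements.S13455
import Mathlib

set_option autoImplicit false
universe u
open W4c1hilbpn

namespace Groth.Agent.S13455

/-- Let k be an algebraically closed field of characteristic different from 2, k0 ≥ 1 and n ≥ 2k0 - 1
natural numbers, S = k[x_0, ..., x_n], and e1 ≤ e2 ≤ k0 - 1. The ideal generated by all products x_p
x_q with e1 ≤ p, q ≤ e2 together with the products x_p x_{n-k0+1+q} for e1 ≤ p < q ≤ e2 is the
intersection, over j from e1 to e2, of the ideals generated by the variables x_i with e1 ≤ i ≤ e2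
and i ≠ j, the square x_j^2, and the variables x_{n-k0+1+q} for j < q ≤ e2 (a primary decomposition
of this monomial ideal). -/
theorem result (k : Type u) [Field k] [IsAlgClosed k] (hchar : ringChar k ≠ 2)
    (n k0 e1 e2 : ℕ) (hk : 1 ≤ k0) (hn : 2 * k0 ≤ n + 1) (he : e1 ≤ e2) (he2 : e2 + 1 ≤ k0) :
    Ideal.span ({f : MvPolynomial (Fin (n + 1)) k | ∃ p q : Fin (n + 1), e1 ≤ p.val ∧ p.val ≤ e2 ∧ e1 ≤ q.val ∧ q.val ≤ e2 ∧
        f = MvPolynomial.X p * MvPolynomial.X q} ∪
      {f : MvPolynomial (Fin (n + 1)) k | ∃ p q m : Fin (n + 1), e1 ≤ p.val ∧ p.val < q.val ∧ q.val ≤ e2 ∧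
        m.val + k0 = n + 1 + q.val ∧ f = MvPolynomial.X p * MvPolynomial.X m}) =
    ⨅ j : Fin (n + 1), ⨅ (_ : e1 ≤ j.val ∧ j.val ≤ e2),
      Ideal.span ({f : MvPolynomial (Fin (n + 1)) k | ∃ i : Fin (n + 1), e1 ≤ i.val ∧ i.val ≤ e2 ∧ i ≠ j ∧ f = MvPolynomial.X i} ∪
        {MvPolynomial.X j ^ 2} ∪
        {f : MvPolynomial (Fin (n + 1)) k | ∃ q m : Fin (n + 1), j.val < q.val ∧ q.val ≤ e2 ∧ m.val + k0 = n + 1 + q.val ∧
          f = MvPolynomial.X m}) := by
  classical
  have single_add_single_le : ∀ (β : Fin (n + 1) →₀ ℕ) (p i : Fin (n + 1)), p ≠ i → 1 ≤ β p → 1 ≤ β i →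
      Finsupp.single p 1 + Finsupp.single i 1 ≤ β := by
    intro β p i hne hp hi t
    rw [Finsupp.add_apply, Finsupp.single_apply, Finsupp.single_apply]
    split_ifs with h1 h2 h2
    · exact absurd (h1.trans h2.symm) hne
    · subst h1; simpa using hp
    · subst h2; simpa using hi
    · simp
  apply le_antisymm
  · -- LHS ≤ RHS
    rw [Ideal.span_le]
    intro f hf
    simp only [SetLike.mem_coe, Ideal.mem_iInf]
    intro j hj
    rcases hf with ⟨p, q, hp1, hp2, hq1, hq2, rfl⟩ | ⟨p, q, m, hp1, hpq, hq2, hm, rfl⟩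
    · by_cases hpj : p = j
      · by_cases hqj : q = j
        · subst hpj; subst hqj
          rw [← sq]
          exact Ideal.subset_span (Or.inl (Or.inr rfl))
        · exact Ideal.mul_mem_left _ _
            (Ideal.subset_span (Or.inl (Or.inl ⟨q, hq1, hq2, hqj, rfl⟩)))
      · exact Ideal.mul_mem_right _ _
          (Ideal.subset_span (Or.inl (Or.inl ⟨p, hp1, hp2, hpj, rfl⟩)))
    · by_cases hpj : p = j
      · subst hpj
        exact Ideal.mul_mem_left _ _ (Ideal.subset_span (Or.inr ⟨q, m, hpq, hq2, hm, rfl⟩))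
      · exact Ideal.mul_mem_right _ _
          (Ideal.subset_span (Or.inl (Or.inl ⟨p, hp1, by omega, hpj, rfl⟩)))
  · -- RHS ≤ LHS
    intro f hf
    simp only [Ideal.mem_iInf] at hf
    -- support condition for each j
    have hsupp : ∀ j : Fin (n + 1), e1 ≤ j.val ∧ j.val ≤ e2 → ∀ β ∈ f.support,
        (∃ i : Fin (n + 1), e1 ≤ i.val ∧ i.val ≤ e2 ∧ i ≠ j ∧ 1 ≤ β i) ∨ 2 ≤ β j ∨
        (∃ q m : Fin (n + 1), j.val < q.val ∧ q.val ≤ e2 ∧ m.val + k0 = n + 1 + q.val ∧ 1 ≤ β m) := by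
      intro j hj β hβ
      have hle : Ideal.span ({f : MvPolynomial (Fin (n + 1)) k | ∃ i : Fin (n + 1), e1 ≤ i.val ∧ i.val ≤ e2 ∧ i ≠ j ∧ f = MvPolynomial.X i} ∪
          {MvPolynomial.X j ^ 2} ∪
          {f : MvPolynomial (Fin (n + 1)) k | ∃ q m : Fin (n + 1), j.val < q.val ∧ q.val ≤ e2 ∧ m.val + k0 = n + 1 + q.val ∧
            f = MvPolynomial.X m}) ≤
          Ideal.span ((fun s => MvPolynomial.monomial s (1 : k)) ''
            ({s | ∃ i : Fin (n + 1), e1 ≤ i.val ∧ i.val ≤ e2 ∧ i ≠ j ∧ s = Finsupp.single i 1} ∪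
              {Finsupp.single j 2} ∪
              {s | ∃ q m : Fin (n + 1), j.val < q.val ∧ q.val ≤ e2 ∧ m.val + k0 = n + 1 + q.val ∧
                s = Finsupp.single m 1})) := by
        apply Ideal.span_mono
        rintro g ((⟨i, h1, h2, h3, rfl⟩ | hg) | ⟨q, m, h1, h2, h3, rfl⟩)
        · exact ⟨Finsupp.single i 1, Or.inl (Or.inl ⟨i, h1, h2, h3, rfl⟩), rfl⟩
        · rw [Set.mem_singleton_iff] at hg
          subst hg
          exact ⟨Finsupp.single j 2, Or.inl (Or.inr rfl), (MvPolynomial.X_pow_eq_monomial).symm⟩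
        · exact ⟨Finsupp.single m 1, Or.inr ⟨q, m, h1, h2, h3, rfl⟩, rfl⟩
      have := MvPolynomial.mem_ideal_span_monomial_image.mp (hle (hf j hj)) β hβ
      obtain ⟨s, hs, hsβ⟩ := this
      rcases hs with (⟨i, h1, h2, h3, rfl⟩ | hs) | ⟨q, m, h1, h2, h3, rfl⟩
      · exact Or.inl ⟨i, h1, h2, h3, Finsupp.single_le_iff.mp hsβ⟩
      · rw [Set.mem_singleton_iff] at hs
        subst hs
        exact Or.inr (Or.inl (Finsupp.single_le_iff.mp hsβ))
      · exact Or.inr (Or.inr ⟨q, m, h1, h2, h3, Finsupp.single_le_iff.mp hsβ⟩)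
    -- each monomial of f lies in LHS
    rw [← MvPolynomial.support_sum_monomial_coeff f]
    refine Ideal.sum_mem _ fun β hβ => ?_
    -- find a generator below β
    have hgen : ∃ s : Fin (n + 1) →₀ ℕ, s ≤ β ∧ MvPolynomial.monomial s (1 : k) ∈
        Ideal.span ({f : MvPolynomial (Fin (n + 1)) k | ∃ p q : Fin (n + 1), e1 ≤ p.val ∧ p.val ≤ e2 ∧ e1 ≤ q.val ∧ q.val ≤ e2 ∧
          f = MvPolynomial.X p * MvPolynomial.X q} ∪
        {f : MvPolynomial (Fin (n + 1)) k | ∃ p q m : Fin (n + 1), e1 ≤ p.val ∧ p.val < q.val ∧ q.val ≤ e2 ∧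
          m.val + k0 = n + 1 + q.val ∧ f = MvPolynomial.X p * MvPolynomial.X m}) := by
      have hmono : ∀ a b : Fin (n + 1), MvPolynomial.monomial (Finsupp.single a 1 + Finsupp.single b 1) (1 : k) =
          MvPolynomial.X a * MvPolynomial.X b := by
        intro a b
        simp [MvPolynomial.X, MvPolynomial.monomial_mul]
      by_cases h : ∃ p : Fin (n + 1), e1 ≤ p.val ∧ p.val ≤ e2 ∧ 1 ≤ β p
      · obtain ⟨p, hp1, hp2, hp3⟩ := h
        rcases hsupp p ⟨hp1, hp2⟩ β hβ with ⟨i, hi1, hi2, hi3, hi4⟩ | h2 | ⟨q, m, hq1, hq2, hm, hm2⟩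
        · refine ⟨Finsupp.single p 1 + Finsupp.single i 1, single_add_single_le β p i hi3.symm hp3 hi4, ?_⟩
          rw [hmono]
          exact Ideal.subset_span (Or.inl ⟨p, i, hp1, hp2, hi1, hi2, rfl⟩)
        · refine ⟨Finsupp.single p 1 + Finsupp.single p 1, ?_, ?_⟩
          · rw [← Finsupp.single_add]
            exact Finsupp.single_le_iff.mpr h2
          · rw [hmono]
            exact Ideal.subset_span (Or.inl ⟨p, p, hp1, hp2, hp1, hp2, rfl⟩)
        · have hpm : p ≠ m := by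
            intro hpm
            have : p.val = m.val := congrArg Fin.val hpm
            omega
          refine ⟨Finsupp.single p 1 + Finsupp.single m 1, single_add_single_le β p m hpm hp3 hm2, ?_⟩
          rw [hmono]
          exact Ideal.subset_span (Or.inr ⟨p, q, m, hp1, hq1, hq2, hm, rfl⟩)
      · exfalso
        push Not at h
        have he2n : e2 < n + 1 := by omega
        rcases hsupp ⟨e2, he2n⟩ ⟨he, le_refl _⟩ β hβ with ⟨i, hi1, hi2, hi3, hi4⟩ | h2 | ⟨q, m, hq1, hq2, hm, hm2⟩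
        · have := h i hi1 hi2
          omega
        · have := h ⟨e2, he2n⟩ he (le_refl _)
          omega
        · simp only at hq1
          omega
    obtain ⟨s, hsβ, hs⟩ := hgen
    have : MvPolynomial.monomial β (MvPolynomial.coeff β f) =
        MvPolynomial.monomial (β - s) (MvPolynomial.coeff β f) * MvPolynomial.monomial s (1 : k) := by
      rw [MvPolynomial.monomial_mul, mul_one, tsub_add_cancel_of_le hsβ]
    rw [this]
    exact Ideal.mul_mem_left _ _ hs

end Groth.Agent.S13455
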