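import Groth.Statements.S13503
import Mathlib
import Groth.Agent.S0597
import Groth.Agent.S14624

set_option autoImplicit false
universe u
open CategoryTheory CategoryTheory.Limits
open Hensel

namespace Groth.Agent.S13503

/-- Let A be a Noetherian henselian local ring with maximal ideal m such that the map from A to its
m-adic completion Â is a regular ring homomorphism (flat with Noetherian, geometrically regular
fibres; this holds when A is excellent, which is the published hypothesis — the proof uses only the
regularity of A → Â). Let F be a functor from the category of A-algebras (commutative rings under A)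
to sets which preserves filtered colimits, let n ≥ 1 and ξ ∈ F(Â). Then there is η ∈ F(A) such that
η and ξ have the same image in F(A/m^n). Here π is the A-algebra map Â → A/m^n (pinned by its
underlying ring map) and ρ the A-algebra map A → A/m^n. -/
theorem result (A : Type u) [CommRing A] [IsNoetherianRing A]
    [HenselianLocalRing A]
    (hreg : CAlg.IsRegularHom A (AdicCompletion (IsLocalRing.maximalIdeal A) A))
    (F : Under (CommRingCat.of A) ⥤ Type u)
    (hF : ∀ (J : Type u) [SmallCategory J] [IsFiltered J], PreservesColimitsOfShape J F)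
    (n : ℕ) (hn : 1 ≤ n)
    (π : Under.mk (CommRingCat.ofHom (algebraMap A (AdicCompletion (IsLocalRing.maximalIdeal A) A))) ⟶
      Under.mk (CommRingCat.ofHom (algebraMap A (A ⧸ IsLocalRing.maximalIdeal A ^ n))))
    (hπ : π.right = CommRingCat.ofHom
      (AdicCompletion.evalₐ (IsLocalRing.maximalIdeal A) n : AdicCompletion (IsLocalRing.maximalIdeal A) A →ₐ[A]
        A ⧸ IsLocalRing.maximalIdeal A ^ n).toRingHom)
    (ρ : Under.mk (𝟙 (CommRingCat.of A)) ⟶
      Under.mk (CommRingCat.ofHom (algebraMap A (A ⧸ IsLocalRing.maximalIdeal A ^ n))))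
    (ξ : F.obj (Under.mk (CommRingCat.ofHom (algebraMap A (AdicCompletion (IsLocalRing.maximalIdeal A) A))))) :
    ∃ η : F.obj (Under.mk (𝟙 (CommRingCat.of A))), F.map ρ η = F.map π ξ := by
  refine Groth.Agent.S14624.result A (IsLocalRing.maximalIdeal A)
    (IsLocalRing.maximalIdeal.isMaximal A).ne_top ?_ F hF n π hπ ρ ξ
  intro k l c f â hâ
  obtain ⟨b, hb, hab⟩ := Groth.Agent.S0597.result A (IsLocalRing.maximalIdeal A) hreg k l f â
    (fun i => by
      have := hâ i
      rw [MvPolynomial.aeval_def, MvPolynomial.eval₂_eq_eval_map] at this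
      exact this) c
  refine ⟨b, hb, fun j => ?_⟩
  have hle : (IsLocalRing.maximalIdeal A ^ c).map
      (algebraMap A (AdicCompletion (IsLocalRing.maximalIdeal A) A)) ≤
      RingHom.ker (AdicCompletion.evalₐ (IsLocalRing.maximalIdeal A) c).toRingHom := by
    rw [Ideal.map_le_iff_le_comap]
    intro r hr
    rw [Ideal.mem_comap, RingHom.mem_ker]
    show AdicCompletion.evalₐ (IsLocalRing.maximalIdeal A) c (algebraMap A _ r) = 0
    rw [AlgHom.commutes]
    exact Ideal.Quotient.eq_zero_iff_mem.mpr hr
  have h1 := hle (hab j)
  rw [RingHom.mem_ker] at h1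
  have h2 : AdicCompletion.evalₐ (IsLocalRing.maximalIdeal A) c (â j) =
      AdicCompletion.evalₐ (IsLocalRing.maximalIdeal A) c
        (algebraMap A (AdicCompletion (IsLocalRing.maximalIdeal A) A) (b j)) := by
    have h3 : AdicCompletion.evalₐ (IsLocalRing.maximalIdeal A) c
        (â j - algebraMap A (AdicCompletion (IsLocalRing.maximalIdeal A) A) (b j)) = 0 := h1
    rw [map_sub, sub_eq_zero] at h3
    exact h3
  rw [h2, AlgHom.commutes]
  rfl

end Groth.Agent.S13503
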