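import Groth.Statements.S13509
import Groth.Agent.Lib.Helper20.FibSiteCont

set_option autoImplicit false
universe v₁ u₁ v₂ u₂ v₃ u₃
open CategoryTheory Opposite Pseudofunctor.CoGrothendieck
open FibSite
open Groth.Agent.Lib.Helper20.FibSiteTop Groth.Agent.Lib.Helper20.FibSiteCont

namespace Groth.Agent.S13509

/-- For a fibred category `F` over `𝒮` with topologies `J` on its fibres all of whose inverse-image
functors are continuous, the topology induced on the fibre over `S` by the total topology (the
finest topology on `F(S)` for which the fibre inclusion is continuous towards the topology generated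
by the coverings of the fibres) is `J S` itself. (The published statement is for fibred sites; its
proof uses only the continuity of the inverse-image functors.) -/
theorem result {𝒮 : Type u₁} [Category.{v₁} 𝒮]
    (F : Pseudofunctor (LocallyDiscrete 𝒮ᵒᵖ) Cat.{v₂, u₂}) (J : FibSite.Topologies F)
    (hF : FibSite.IsPreFibSite F J) (S : 𝒮) :
    (ι F S).inducedTopology (FibSite.totalTopology F J) = J S := by
  apply le_antisymm
  · intro U T hT
    have hcp := (CoverPreserving.of_isContinuous (ι F S)
      ((ι F S).inducedTopology (totalTopology F J)) (totalTopology F J)).cover_preserve hT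
    have hco := (isCocontinuous_ι F J hF S).cover_lift hcp
    refine (J S).superset_covering ?_ hco
    rintro V r ⟨V', t, h, ht, hfac⟩
    have hb : h.base = 𝟙 S := base_eq_id_of_fac F r t h hfac
    obtain ⟨φ, rfl⟩ := exists_ι_map_eq F h hb
    rw [← Functor.map_comp] at hfac
    have : r = φ ≫ t := ι_map_injective F hfac
    rw [this]
    exact T.downward_closed ht φ
  · rw [Functor.le_inducedTopology_iff]
    exact isContinuous_ι hF S

end Groth.Agent.S13509
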