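import Groth.Statements.S1351
import Groth.Agent.Lib.Helper14.LCF.ValInj

set_option autoImplicit false
universe u
open FlatMor

namespace Groth.Agent.S1351

/-- Let A be a valuation ring, A → B a local homomorphism of local rings essentially of finite type, and
u : N → M a B-linear map of finite B-modules with M flat over A. If u is injective after tensoring
with the residue field of A (that is, modulo the maximal ideal of A), then u is injective and its
cokernel is flat over A. -/
theorem result {A B : Type u} [CommRing A] [IsDomain A] [ValuationRing A] [CommRing B] [IsLocalRing B]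
    [Algebra A B] [IsLocalHom (algebraMap A B)] [Algebra.EssFiniteType A B]
    {N M : Type u} [AddCommGroup N] [Module B N] [Module A N] [IsScalarTower A B N] [Module.Finite B N]
    [AddCommGroup M] [Module B M] [Module A M] [IsScalarTower A B M] [Module.Finite B M] [Module.Flat A M]
    (u : N →ₗ[B] M)
    (hu : Function.Injective (Submodule.mapQ (IsLocalRing.maximalIdeal A • ⊤ : Submodule A N) (IsLocalRing.maximalIdeal A • ⊤ : Submodule A M) (u.restrictScalars A)
      (fun n hn => Submodule.smul_top_le_comap_smul_top _ _ hn))) :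
    Function.Injective u ∧ Module.Flat A (M ⧸ LinearMap.range u) := by
  classical
  obtain ⟨s, hs⟩ := (Algebra.essFiniteType_iff A B).mp inferInstance
  let φ : MvPolynomial s A →ₐ[A] B := MvPolynomial.aeval (fun x : s => (x : B))
  have hrange : ∀ b ∈ Algebra.adjoin A (s : Set B), ∃ p, φ p = b := by
    intro b hb
    have : Algebra.adjoin A (s : Set B) = φ.range := by
      rw [← Algebra.adjoin_range_eq_range_aeval, Subtype.range_coe_subtype]
      rfl
    rw [this] at hb
    exact hb
  let q₀ : Ideal (MvPolynomial s A) := (IsLocalRing.maximalIdeal B).comap φ.toRingHom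
  haveI hq₀ : q₀.IsPrime := Ideal.comap_isPrime _ _
  have hunit : ∀ y : q₀.primeCompl, IsUnit (φ y) := by
    intro y
    by_contra h
    exact y.2 ((IsLocalRing.mem_maximalIdeal _).2 h)
  let ψ : Localization.AtPrime q₀ →ₐ[A] B := IsLocalization.liftAlgHom (M := q₀.primeCompl) hunit
  have hψ : Function.Surjective ψ := by
    intro b
    obtain ⟨t, ht, htu, hbt⟩ := hs b
    obtain ⟨p', hp'⟩ := hrange t ht
    obtain ⟨p, hp⟩ := hrange _ hbt
    have hp'q : p' ∈ q₀.primeCompl := by
      intro hmem
      have h1 : φ p' ∈ IsLocalRing.maximalIdeal B := hmem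
      rw [hp'] at h1
      exact (IsLocalRing.mem_maximalIdeal _).1 h1 htu
    refine ⟨IsLocalization.mk' (Localization.AtPrime q₀) p ⟨p', hp'q⟩, ?_⟩
    rw [IsLocalization.liftAlgHom_apply, IsLocalization.lift_mk'_spec]
    show φ p = φ p' * b
    rw [hp, hp', mul_comm]
  haveI : IsLocalHom (algebraMap A (Localization.AtPrime q₀)) := ⟨fun a ha => by
    have h1 : IsUnit (ψ (algebraMap A (Localization.AtPrime q₀) a)) := ha.map ψ
    rw [ψ.commutes] at h1
    exact isUnit_of_map_unit (algebraMap A B) a h1⟩
  refine Groth.Agent.Lib.Helper14.LCF.ValInj.of_surjective (A := A) (B := B)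
    (S₀ := MvPolynomial s A) (B₀ := Localization.AtPrime q₀) q₀.primeCompl ψ hψ u ?_
  intro x hx
  have h0 : (Submodule.mapQ (IsLocalRing.maximalIdeal A • ⊤ : Submodule A N)
      (IsLocalRing.maximalIdeal A • ⊤ : Submodule A M) (u.restrictScalars A)
      (fun n hn => Submodule.smul_top_le_comap_smul_top _ _ hn))
      (Submodule.Quotient.mk x) = 0 := by
    rw [Submodule.mapQ_apply]
    exact (Submodule.Quotient.mk_eq_zero _).2 hx
  have h1 := hu (h0.trans (map_zero _).symm)
  exact (Submodule.Quotient.mk_eq_zero _).1 h1

end Groth.Agent.S1351
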