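import Groth.Statements.S13513
import Groth.Agent.Lib.Helper20.FibSiteCont

set_option autoImplicit false
universe u
open CategoryTheory CategoryTheory.Limits Opposite Pseudofunctor.CoGrothendieck
open FibSite
open Groth.Agent.Lib.Helper20.FibSiteTop Groth.Agent.Lib.Helper20.FibSiteCont

namespace Groth.Agent.S13513

/-- Let `F` be a fibred site over a small category `𝒮` with small fibres (every inverse-image functor is
a morphism of sites) and let `i` be a final object of `𝒮`. Then the left adjoint `α_{i!}` of the
restriction of sheaves of sets from the total site to the fibre over `i` is full and faithful;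
equivalently the composite "extend from the fibre over `i`, then restrict back" is isomorphic to the
identity through the unit of the adjunction. The continuity of the fibre inclusion and the existence
of the left adjoint are carried as instance hypotheses. -/
theorem result {𝒮 : Type u} [SmallCategory 𝒮]
    (F : Pseudofunctor (LocallyDiscrete 𝒮ᵒᵖ) Cat.{u, u}) (J : FibSite.Topologies F)
    (hF : FibSite.IsFibSite F J) (i : 𝒮) (hi : IsTerminal i)
    [(ι F i).IsContinuous (J i) (FibSite.totalTopology F J)]
    [((ι F i).sheafPushforwardContinuous (Type u) (J i) (FibSite.totalTopology F J)).IsRightAdjoint] :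
    (FibSite.extend F J (Type u) i).Full ∧ (FibSite.extend F J (Type u) i).Faithful := by
  have hpre := hF.isPreFibSite
  have : (ι F i).Full := ⟨fun {V V'} h => exists_ι_map_eq F h (hi.hom_ext _ _)⟩
  have : (ι F i).Faithful := ⟨fun {V V'} φ ψ h => ι_map_injective F h⟩
  have := isCocontinuous_ι F J hpre i
  have : ∀ (P : (F.obj ⟨op i⟩)ᵒᵖ ⥤ Type u), (ι F i).op.HasPointwiseRightKanExtension P :=
    fun P => inferInstance
  let adj₁ := (ι F i).sheafAdjunctionContinuous (Type u) (J i) (totalTopology F J)
  let adj₂ := (ι F i).sheafAdjunctionCocontinuous (Type u) (J i) (totalTopology F J)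
  let t : Adjunction.Triple (extend F J (Type u) i) (restr F J (Type u) i)
    (coextend F J (Type u) i) := ⟨adj₁, adj₂⟩
  have : IsIso adj₂.counit := by
    apply (config := { allowSynthFailures := true }) NatIso.isIso_of_isIso_app
    intro a
    have h1 : IsIso ((sheafToPresheaf (J i) (Type u)).map (adj₂.counit.app a)) := by
      show IsIso (adj₂.counit.app a).hom
      rw [Functor.sheafAdjunctionCocontinuous_counit_app_hom]
      have e1 : (ι F i).op.Full := inferInstance
      have e2 : (ι F i).op.Faithful := inferInstance
      have e3 : (ι F i).op.HasPointwiseRightKanExtension a.obj := inferInstance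
      have e4 : ∀ (P : (F.obj ⟨op i⟩)ᵒᵖ ⥤ Type u), (ι F i).op.HasRightKanExtension P :=
        fun P => inferInstance
      rw [Functor.ranAdjunction_counit]
      exact Functor.instIsIsoAppRanCounit_1 (ι F i).op a.obj
    exact isIso_of_reflects_iso _ (sheafToPresheaf (J i) (Type u))
  have ff := t.fullyFaithfulEquiv.symm (adj₂.fullyFaithfulROfIsIsoCounit)
  exact ⟨ff.full, ff.faithful⟩

end Groth.Agent.S13513
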