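import Groth.Statements.S1352
-- import your own Groth.Agent.* helpers here
import Mathlib
import Groth.Agent.Lib.Helper12.AbsIrred2

set_option autoImplicit false
universe u
open FlatMor

namespace Groth.Agent.S1352

/-- For a domain A and a polynomial P in finitely many variables over A which is irreducible over an
algebraic closure of the fraction field of A: Then there is a nonzero f in A such that for every
ring map from A[1/f] to a field (in the same universe) the image of P is irreducible. (The source
leaves the nonvanishing of f implicit; for f = 0 the conclusion would be vacuous.) -/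
theorem result {A : Type u} [CommRing A] [IsDomain A] {n : ℕ} (P : MvPolynomial (Fin n) A)
    (hP : Irreducible (MvPolynomial.map (algebraMap A (AlgebraicClosure (FractionRing A))) P)) :
    ∃ f : A, f ≠ 0 ∧ ∀ (κ : Type u) [Field κ] (φ : Localization.Away f →+* κ),
      Irreducible (MvPolynomial.map (φ.comp (algebraMap A (Localization.Away f))) P) := by
  classical
  have key : ∀ (κ : Type u) [Field κ] (ψ : A →+* κ), Function.Injective ψ →
      Irreducible (MvPolynomial.map ψ P) := by
    intro κ _ ψ hψ
    let K := FractionRing A
    let ψK : K →+* κ := IsFractionRing.lift hψ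
    let Ω := AlgebraicClosure κ
    letI : Algebra K Ω := ((algebraMap κ Ω).comp ψK).toAlgebra
    let j : AlgebraicClosure K →ₐ[K] Ω := IsAlgClosed.lift
    letI : Algebra (AlgebraicClosure K) Ω := j.toRingHom.toAlgebra
    have h1 := Groth.Agent.Lib.Helper12.AbsIrred.irreducible_map_of_isAlgClosed
      (k := AlgebraicClosure K) (Ω := Ω) _ hP
    apply Groth.Agent.Lib.Helper12.AbsIrred.irreducible_of_map (algebraMap κ Ω)
    have heq : (algebraMap κ Ω).comp ψ =
        (algebraMap (AlgebraicClosure K) Ω).comp (algebraMap A (AlgebraicClosure K)) := by
      refine RingHom.ext fun x => ?_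
      change algebraMap κ Ω (ψ x) = j (algebraMap A (AlgebraicClosure K) x)
      rw [IsScalarTower.algebraMap_apply A K (AlgebraicClosure K), j.commutes]
      change _ = algebraMap κ Ω (ψK (algebraMap A K x))
      rw [IsFractionRing.lift_algebraMap]
    rw [MvPolynomial.map_map, heq, ← MvPolynomial.map_map]
    exact h1
  obtain ⟨a, ha, h⟩ := Groth.Agent.Lib.Helper12.AbsIrred.exists_ne_zero_forall_irreducible P key
  refine ⟨a, ha, fun κ _ φ => h κ _ ?_⟩
  have hu : IsUnit (algebraMap A (Localization.Away a) a) :=
    IsLocalization.Away.algebraMap_isUnit a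
  exact (hu.map φ).ne_zero

end Groth.Agent.S1352
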