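import Groth.Statements.S13568
import Mathlib
import Mathlib
import Groth.Agent.Lib.Helper10.AlgStPts
import Groth.Agent.Lib.Helper10.FibBC
import Groth.Agent.S12763

set_option autoImplicit false
universe u
open CategoryTheory AlgebraicGeometry
open AlgSt

namespace Groth.Agent.S13568



/-- The composition of two universally injective morphisms of algebraic stacks is universally injective
(universally injective: every base change to an algebraic stack is injective on points). -/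
theorem result {S : Scheme.{u}} {𝒳 𝒴 𝒵 : AlgSt.Cat S}
    (h𝒳 : AlgSt.IsAlgStack Scheme.fppfPrecoverage 𝒳) (h𝒴 : AlgSt.IsAlgStack Scheme.fppfPrecoverage 𝒴)
    (h𝒵 : AlgSt.IsAlgStack Scheme.fppfPrecoverage 𝒵)
    (f : 𝒳 ⥤ᵇ 𝒴) (g : 𝒴 ⥤ᵇ 𝒵) (hf : AlgSt.IsUnivInjective Scheme.fppfPrecoverage f)
    (hg : AlgSt.IsUnivInjective Scheme.fppfPrecoverage g) :
    AlgSt.IsUnivInjective Scheme.fppfPrecoverage (BasedFunctor.comp f g) := by
  intro 𝒲 h𝒲 h
  have alg : AlgSt.IsAlgStack Scheme.fppfPrecoverage (FibCat.fp h g) :=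
    Groth.Agent.S12763.result h𝒵.isStack h𝒵.diag h𝒲 h𝒴 h g
  have i1 := hf (FibCat.fp h g) alg (FibCat.fpSnd h g)
  have i2 := hg 𝒲 h𝒲 h
  have bij := Groth.Agent.Lib.Helper10.AlgStRep.points_map_bijective_of_isEquivOver
    (Groth.Agent.Lib.Helper10.Fib.paste2 h g f) (Groth.Agent.Lib.Helper10.Fib.isEquivOver_paste2 h g f)
  have eq : AlgSt.Points.map (FibCat.fpFst h (BasedFunctor.comp f g)) ∘
      AlgSt.Points.map (Groth.Agent.Lib.Helper10.Fib.paste2 h g f) =
      AlgSt.Points.map (FibCat.fpFst h g) ∘ AlgSt.Points.map (FibCat.fpFst (FibCat.fpSnd h g) f) := by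
    rw [← Groth.Agent.Lib.Helper10.AlgStRep.points_map_comp,
      ← Groth.Agent.Lib.Helper10.AlgStRep.points_map_comp]
    rfl
  intro a b hab
  obtain ⟨a', rfl⟩ := bij.2 a
  obtain ⟨b', rfl⟩ := bij.2 b
  have ha := congrFun eq a'
  have hb := congrFun eq b'
  simp only [Function.comp_apply] at ha hb
  rw [ha, hb] at hab
  rw [i1 (i2 hab)]

end Groth.Agent.S13568
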