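import Groth.Statements.S13569
import Mathlib
import Mathlib
import Groth.Agent.Lib.Helper10.AlgStPtsAffine
import Groth.Agent.Lib.Helper28.AlgSt.SpaceStack
import Groth.Agent.S12763

set_option autoImplicit false
universe u
open CategoryTheory AlgebraicGeometry
open AlgSt

namespace Groth.Agent.S13569



/-- (2) ⇒ (1): let `f : 𝒳 ⟶ 𝒴` be a morphism of algebraic stacks over `S`. If for every affine scheme
`Z` over `S` and every `Z ⟶ 𝒴` the projection `Z ×_𝒴 𝒳 ⟶ Z` is universally injective, then `f` is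
universally injective (every base change to an algebraic stack is injective on points). The converse
implication is the base-change property. -/
theorem result {S : Scheme.{u}} {𝒳 𝒴 : AlgSt.Cat S}
    (h𝒳 : AlgSt.IsAlgStack Scheme.fppfPrecoverage 𝒳) (h𝒴 : AlgSt.IsAlgStack Scheme.fppfPrecoverage 𝒴) (f : 𝒳 ⥤ᵇ 𝒴)
    (h : ∀ (Z : Over S) [IsAffine Z.left] (z : FibCat.overCat Z ⥤ᵇ 𝒴),
      AlgSt.IsUnivInjective Scheme.fppfPrecoverage (FibCat.fpFst z f)) :
    AlgSt.IsUnivInjective Scheme.fppfPrecoverage f := by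
  have hd : AlgSt.IsSurjective (FibCat.diag f) := by
    apply H10PT.isSurjective_diag_of_forall_field h𝒳.isStack.1 h𝒴.isStack.1 f
    intro K _ str z
    haveI : IsAffine (Over.mk str).left := (inferInstance : IsAffine (Spec (CommRingCat.of K)))
    have hZ : AlgSt.IsAlgStack Scheme.fppfPrecoverage (FibCat.overCat (Over.mk str)) :=
      Groth.Agent.Lib.Helper28.AlgSt.SpaceStack.isAlgStack_of_repByAlgSp
        (Groth.Agent.Lib.Helper28.AlgSt.DiagRep.repByAlgSp_overCat _)
    have hW : AlgSt.IsAlgStack Scheme.fppfPrecoverage (FibCat.fp z f) :=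
      Groth.Agent.S12763.result h𝒴.isStack h𝒴.diag hZ h𝒳 z f
    have hπ := h (Over.mk str) z
    have hdπ := H10PT.isSurjective_diag_of_injective_fpFst (FibCat.fpFst z f)
      (hπ (FibCat.fp z f) hW (FibCat.fpFst z f))
    exact H10PT.injective_of_isSurjective_diag hW.isStack.1 hZ.isStack.1 (FibCat.fpFst z f) hdπ
  intro 𝒵 h𝒵 g
  exact H10PT.injective_of_isSurjective_diag
    (Groth.Agent.Lib.Helper10.Fib.isFibGrpd_fp g f h𝒵.isStack.1 h𝒳.isStack.1 h𝒴.isStack.1)
    h𝒵.isStack.1 (FibCat.fpFst g f)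
    (H10PT.isSurjective_diag_fpFst h𝒳.isStack.1 h𝒴.isStack.1 h𝒵.isStack.1 f g hd)

end Groth.Agent.S13569
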