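import Groth.Statements.S1357
-- import your own Groth.Agent.* helpers here
import Mathlib
import Groth.Agent.Lib.Helper12.GeomIrrBaseChange
import Groth.Agent.Lib.Helper12.GeomCompLevel
import Groth.Agent.Lib.Helper12.FinEtCover2

set_option autoImplicit false
universe u
open FlatMor

namespace Groth.Agent.S1357

open AlgebraicGeometry CategoryTheory Limits in
/-- Let f be of finite type with irreducible target Y. Then there are a nonempty open V of Y and a
surjective finite étale morphism g from an irreducible affine scheme Y' to V such that, for the base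
change f' of f to Y', every irreducible component of the generic fibre of f' (with its reduced
induced structure) is geometrically irreducible over the residue field of the generic point of Y'. -/
theorem result {X Y : Scheme.{u}} (f : X ⟶ Y) [IrreducibleSpace ↑Y] [LocallyOfFiniteType f] [QuasiCompact f] :
    ∃ (V : Y.Opens) (Y' : Scheme.{u}) (g : Y' ⟶ (V : Scheme.{u})) (hY' : IrreducibleSpace ↑Y'), (V : Set ↑Y).Nonempty ∧ IsAffine Y' ∧ Surjective g ∧ IsFinite g ∧ Etale g ∧
      ∀ (Z : Set ↑((pullback.snd f (g ≫ V.ι)).fiber (genericPoint ↑Y'))) (hZ : Z ∈ irreducibleComponents ↑((pullback.snd f (g ≫ V.ι)).fiber (genericPoint ↑Y'))),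
        GeometricallyIrreducible ((Scheme.IdealSheafData.vanishingIdeal (⟨Z, isClosed_of_mem_irreducibleComponents Z hZ⟩ : TopologicalSpace.Closeds _)).subschemeι ≫
          (pullback.snd f (g ≫ V.ι)).fiberToSpecResidueField (genericPoint ↑Y')) := by
  classical
  let K : Type u := Y.residueField (genericPoint Y)
  let fη : f.fiber (genericPoint Y) ⟶ Spec (CommRingCat.of K) :=
    f.fiberToSpecResidueField (genericPoint Y)
  haveI : LocallyOfFiniteType fη :=
    MorphismProperty.pullback_snd (P := @LocallyOfFiniteType) _ _ inferInstance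
  haveI : QuasiCompact fη :=
    MorphismProperty.pullback_snd (P := @QuasiCompact) _ _ inferInstance
  obtain ⟨L, hLfin, hsat⟩ :=
    Groth.Agent.Lib.Helper12.GeomCompLevel.exists_level_saturated fη (SeparableClosure K)
  haveI : FiniteDimensional (Y.residueField (genericPoint Y)) L := hLfin
  haveI : Algebra.IsSeparable (Y.residueField (genericPoint Y)) L :=
    Algebra.isSeparable_tower_bot_of_isSeparable K L (SeparableClosure K)
  obtain ⟨V, Y', g, hY', hVne, haff, hsurj, hfin, het, h, θ, hθ⟩ :=
    Groth.Agent.Lib.Helper12.FinEtCover.exists_finEt_cover (Y := Y) L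
  refine ⟨V, Y', g, hY', hVne, haff, hsurj, hfin, het, fun Z hZ => ?_⟩
  refine Groth.Agent.Lib.Helper12.GeomIrrBaseChange.geomIrr_components_of_saturated f (g ≫ V.ι)
    (genericPoint Y') (genericPoint Y) h (SeparableClosure K) L hsat θ.inv
    (θ.hom ≫ CommRingCat.ofHom (algebraMap L (SeparableClosure K))) ?_ ?_ Z hZ
  · rw [hθ]
    simp
  · simp

end Groth.Agent.S1357
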