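import Groth.Statements.S13570
import Mathlib
import Mathlib
import Groth.Agent.Lib.Helper10.AlgStPtsDesc
import Groth.Agent.Lib.Helper10.AlgStPtsSurj
import Groth.Agent.Lib.Helper28.AlgSt.SpaceStack

set_option autoImplicit false
universe u
open CategoryTheory AlgebraicGeometry
open AlgSt

namespace Groth.Agent.S13570



/-- Let `f : 𝒳 ⟶ 𝒴` be a morphism of algebraic stacks over `S` and `W ⟶ 𝒴` a surjective, flat, locally
finitely presented morphism from an algebraic space. If the projection `W ×_𝒴 𝒳 ⟶ W` is universally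
injective (every base change to an algebraic stack is injective on points), then so is `f`. -/
theorem result {S : Scheme.{u}} {𝒳 𝒴 : AlgSt.Cat S}
    (h𝒳 : AlgSt.IsAlgStack Scheme.fppfPrecoverage 𝒳) (h𝒴 : AlgSt.IsAlgStack Scheme.fppfPrecoverage 𝒴) (f : 𝒳 ⥤ᵇ 𝒴)
    (W : AlgSp.Space S) (w : AlgSt.ofSp W.obj ⥤ᵇ 𝒴)
    (hw₁ : AlgSt.RepByAlgSpWith (AlgSp.LocP @Flat) w)
    (hw₂ : AlgSt.RepByAlgSpWith (AlgSp.LocP @LocallyOfFinitePresentation) w)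
    (hw₃ : AlgSt.RepByAlgSpWith AlgSp.IsSurjectiveMor w)
    (h : AlgSt.IsUnivInjective Scheme.fppfPrecoverage (FibCat.fpFst w f)) :
    AlgSt.IsUnivInjective Scheme.fppfPrecoverage f := by
  have hX := h𝒳.isStack.1
  have hY := h𝒴.isStack.1
  have hWf : FibCat.IsFibGrpd (AlgSt.ofSp W.obj).p := Stk.isFibGrpd_ofPsh _
  have hsurj : AlgSt.IsSurjective w := H10PT.isSurjective_of_rep hY w hw₃
  have hd : AlgSt.IsSurjective (FibCat.diag f) := by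
    apply H10PT.isSurjective_diag_of_forall_exists hX hY f
    intro y
    obtain ⟨ω, hω⟩ := hsurj (AlgSt.Points.mk y)
    obtain ⟨ω₀, rfl⟩ := AlgSt.Points.mk_surjective ω
    have hrel : AlgSt.FPt.Rel (ω₀.map w) y := by
      have h' : Relation.EqvGen (@AlgSt.FPt.Rel S 𝒴) (ω₀.map w) y := Quot.eqvGen_exact hω
      exact (H10PT.rel_equivalence hY).eqvGen_iff.mp h'
    obtain ⟨s, m₁, m₂, -⟩ : ∃ (s : AlgSt.FPt 𝒴) (_ : s.obj ⟶ w.obj ω₀.obj)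
        (_ : s.obj ⟶ y.obj), True := hrel
    obtain ⟨L, strL, s₀, hs₀⟩ := s
    have hwω : 𝒴.p.obj (w.obj ω₀.obj) = Over.mk ω₀.str := (w.w_obj _).trans ω₀.lies
    obtain ⟨β₁, hβ₁⟩ : ∃ β₁ : Over.mk strL ⟶ Over.mk ω₀.str, 𝒴.p.IsHomLift β₁ m₁ :=
      H10PT.exists_baseHom hs₀ hwω m₁
    obtain ⟨ω', c, hc⟩ := Groth.Agent.Lib.Helper10.Fib.IsFibGrpd.exists_lift' hWf ω₀.lies β₁
    have hc' : (AlgSt.ofSp W.obj).p.IsHomLift β₁ c := inferInstance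
    have hω' : (AlgSt.ofSp W.obj).p.obj ω' = Over.mk strL :=
      IsHomLift.domain_eq (AlgSt.ofSp W.obj).p β₁ c
    obtain ⟨ζ, -, ⟨i⟩⟩ := Groth.Agent.Lib.Helper10.Fib.yoneda_essSurj (Over.mk strL)
      (⟨ω', hω'⟩ : (AlgSt.ofSp W.obj).p.Fiber (Over.mk strL))
      (fun V g => Groth.Agent.Lib.Helper10.Fib.IsFibGrpd.exists_lift' hWf hω' g)
    obtain ⟨I₀, hI₀⟩ : ∃ I₀ : ζ.obj (Over.mk (𝟙 (Over.mk strL))) ⟶ ω',
        (AlgSt.ofSp W.obj).p.IsHomLift (𝟙 (Over.mk strL)) I₀ := ⟨i.hom.1, i.hom.2⟩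
    have hI₀c : (AlgSt.ofSp W.obj).p.IsHomLift β₁ (I₀ ≫ c) := inferInstance
    have he : 𝒴.p.IsHomLift β₁ (w.map (I₀ ≫ c)) :=
      BasedFunctor.preserves_isHomLift w β₁ (I₀ ≫ c)
    have scm₁ : 𝒴.p.IsStronglyCartesian β₁ m₁ := Groth.Agent.Lib.Helper10.Fib.IsFibGrpd.sc hY β₁ m₁
    obtain ⟨χ, ⟨hχ1, hχ2⟩, -⟩ := Functor.IsStronglyCartesian.universal_property 𝒴.p β₁ m₁
      (𝟙 _) β₁ (Category.id_comp _).symm (w.map (I₀ ≫ c))
    have hZ : AlgSt.IsAlgStack Scheme.fppfPrecoverage (FibCat.overCat (Over.mk strL)) :=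
      Groth.Agent.Lib.Helper28.AlgSt.SpaceStack.isAlgStack_of_repByAlgSp
        (Groth.Agent.Lib.Helper28.AlgSt.DiagRep.repByAlgSp_overCat _)
    refine ⟨L, inferInstance, strL, BasedFunctor.comp ζ w, χ ≫ m₂, ?_⟩
    exact H10PT.injective_fpFst_comp ζ w f (h (FibCat.overCat (Over.mk strL)) hZ ζ)
  intro 𝒵 h𝒵 g
  exact H10PT.injective_of_isSurjective_diag
    (Groth.Agent.Lib.Helper10.Fib.isFibGrpd_fp g f h𝒵.isStack.1 h𝒳.isStack.1 h𝒴.isStack.1)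
    h𝒵.isStack.1 (FibCat.fpFst g f)
    (H10PT.isSurjective_diag_fpFst h𝒳.isStack.1 h𝒴.isStack.1 h𝒵.isStack.1 f g hd)

end Groth.Agent.S13570
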