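import Groth.Statements.S13582
import Groth.Agent.Lib.Helper2.SuppAdj
import Groth.Agent.Lib.Helper2.SuppTensor
import Groth.Agent.Lib.Helper2.GSS.HomFunctor
import Groth.Agent.Lib.Helper2.GSS.DerivedDFun
import Groth.Agent.Lib.Helper2.ExtUnitH
-- import your own Groth.Agent.* helpers here

set_option autoImplicit false
universe u
open CategoryTheory CategoryTheory.Limits
open ExtSupp

namespace Groth.Agent.S13582

open Groth.Agent.Lib.Helper2 Groth.Agent.Lib.Helper2.GSS Groth.Agent.Lib.Helper2.SuppAdj
  Groth.Agent.Lib.Helper2.SuppTensor Groth.Agent.Lib.Helper2.ExtUnitH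
  Groth.Agent.Lib.Helper2.ModHomAcyclic Groth.Agent.Lib.Helper13.ModSiteUnitor
  Groth.Agent.Lib.Helper13.DerivedCommute

/-- On a ringed site, for an object `U` with closed complement `Z` and a sheaf of modules `M`, the
`q`-th right derived functor of `N ↦ Γ_Z(ℋom_O(M, N))`, which is the definition of Ext with supports
`Ext^q_{O,Z}(M, -)` as a derived functor, is isomorphic as a functor of `N` to `N ↦ Ext^q_O(M ⊗ O_Z,
N) = Ext^q_O(M/M_U, N)`. Existence of an isomorphism of functors only. The internal hom out of `M`,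
the right adjoint of restriction to `U` and injective resolutions of sheaves of modules are assumed
to exist. -/
theorem result {C : Type u} [SmallCategory C]
    {J : GrothendieckTopology C} {O : Sheaf J CommRingCat.{u}} [HasExt.{u} (ModSite.Mod O)]
    (U : C) [ModSite.HasPushOver O U] (M : ModSite.Mod O) [ModSite.HasSheafHom M]
    [HasInjectiveResolutions (ModSite.Mod O)] (q : ℕ) :
    Nonempty (ExtSupp.ExtZR U M q ≅ Abelian.extFunctorObj ((ModSite.quotOn O U).obj M) q) := by
  let e0 : preadditiveCoyoneda.obj (Opposite.op (ModSite.unit O)) ≅ homF (ModSite.unit O) :=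
    NatIso.ofComponents (fun _ => Iso.refl _)
  let e1 : ModSite.sheafHom M ⋙ homF (ModSite.unit O) ≅ homF M :=
    homFAdjIso (ModSite.sheafHomAdj M) (ModSite.unit O) ≪≫
      homFIsoOfIso ((leftUnitorIso O).app M)
  let e : (ModSite.sheafHom M ⋙ ModSite.sectOn O U) ⋙ homF (ModSite.unit O) ≅
      homF ((ModSite.quotOn O U).obj M) :=
    Functor.isoWhiskerRight (sheafHomSectOnIso O U M) (homF (ModSite.unit O)) ≪≫
      Functor.associator _ _ _ ≪≫ Functor.isoWhiskerLeft (ModSite.sectOn O U) e1 ≪≫
      homFAdjIso (adjQuotSect O U) M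
  let ε : ExtSupp.gammaZHom U M ≅ homF ((ModSite.quotOn O U).obj M) :=
    Functor.isoWhiskerLeft (ModSite.sheafHom M)
      (Functor.isoWhiskerLeft (ModSite.sectOn O U) e0) ≪≫
      (Functor.associator _ _ _).symm ≪≫ e
  haveI : (ExtSupp.gammaZHom U M).Additive := Functor.additive_of_iso ε.symm
  haveI : PreservesFiniteLimits (ExtSupp.gammaZHom U M) :=
    preservesFiniteLimits_of_natIso ε.symm
  exact DerivedDFun.nonempty_rightDerived_iso_ext ((ModSite.quotOn O U).obj M)
    (ExtSupp.gammaZHom U M) ε q

end Groth.Agent.S13582
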