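import Groth.Statements.S13585
import Groth.Agent.Lib.Helper25.SecSchN
import Groth.Agent.Lib.Helper25.ExtPowPull
import Groth.Agent.Lib.Helper25.ExtPowIso
import Groth.Agent.S5005
import Groth.Agent.S9386
import Groth.Agent.Lib.Helper1.DerCompat
import Groth.Agent.Lib.Helper1.DerSmooth
import Groth.Agent.Lib.Helper1.OmTransl
set_option linter.style.haveILetI false

set_option autoImplicit false
universe u
open CategoryTheory CategoryTheory.Limits AlgebraicGeometry
open Canon

namespace Groth.Agent.S13585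

/-- Let `f : X ⟶ Y` and `g : Y ⟶ Z` be morphisms of schemes with `g` smooth of relative dimension `n`,
and let `Γ : X ⟶ X ×_Z Y` be the graph of `f`. Then `Γ` is a regular immersion of codimension `n`,
and the top exterior power of its conormal sheaf is `f^* ω_{Y/Z}`, where `ω_{Y/Z} = Λ^n Ω_{Y/Z}`;
that is, the canonical sheaf of the immersion `Γ` is the dual of `f^* ω_{Y/Z}`. (This row takes `X`
locally Noetherian and `g` separated, so that the graph is a closed immersion and the criterion for
sections of smooth morphisms over a locally Noetherian base, through which the published proof goes,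
applies; the published statement has arbitrary preschemes.) -/
theorem result {X Y Z : Scheme.{u}} [IsLocallyNoetherian X]
    (f : X ⟶ Y) (g : Y ⟶ Z) (n : ℕ) [SmoothOfRelativeDimension n g] [IsSeparated g]
    (ωY : Y.Modules) (hω : Canon.IsTopDiff g n ωY) :
    RegImm.IsRegularImmersionOfCodim .regular n (pullback.lift (𝟙 X) f (Category.id_comp (f ≫ g))) ∧
      ExtPow.IsExtPow n (Omega.conormal (pullback.lift (𝟙 X) f (Category.id_comp (f ≫ g))))
        ((Scheme.Modules.pullback f).obj ωY) := by
  have hσ : pullback.lift (𝟙 X) f (Category.id_comp (f ≫ g)) ≫ pullback.fst (f ≫ g) g = 𝟙 X :=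
    pullback.lift_fst _ _ _
  have hσ₂ : pullback.lift (𝟙 X) f (Category.id_comp (f ≫ g)) ≫ pullback.snd (f ≫ g) g = f :=
    pullback.lift_snd _ _ _
  haveI := smoothOfRelativeDimension_isStableUnderBaseChange n
  haveI : SmoothOfRelativeDimension n (pullback.fst (f ≫ g) g) :=
    MorphismProperty.pullback_fst (P := @SmoothOfRelativeDimension n) _ _ inferInstance
  haveI : Smooth (pullback.fst (f ≫ g) g) := SmoothOfRelativeDimension.smooth n _
  refine ⟨Groth.Agent.Lib.Helper25.SecSchN.isRegularImmersionOfCodim_of_section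
    (pullback.fst (f ≫ g) g) n _ hσ, ?_⟩
  haveI : IsImmersion (pullback.lift (𝟙 X) f (Category.id_comp (f ≫ g))) :=
    Groth.Agent.Lib.Helper1.SecSch.isImmersion_of_section (pullback.fst (f ≫ g) g) _ hσ
  haveI : QuasiCompact (pullback.lift (𝟙 X) f (Category.id_comp (f ≫ g))) := by
    haveI : QuasiCompact (pullback.lift (𝟙 X) f (Category.id_comp (f ≫ g)) ≫
        pullback.fst (f ≫ g) g) := by rw [hσ]; infer_instance
    exact QuasiCompact.of_comp _ (pullback.fst (f ≫ g) g)
  have hd := Groth.Agent.S5005.result g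
  have hdP := Groth.Agent.S5005.result (pullback.fst (f ≫ g) g)
  obtain ⟨eC⟩ := Groth.Agent.Lib.Helper1.OmTransl.conormal_iso_of_section (pullback.fst (f ≫ g) g)
    _ hσ _ (OmegaSh.dOmega (pullback.fst (f ≫ g) g)) hdP
  have sq : IsPullback (pullback.snd (f ≫ g) g) (pullback.fst (f ≫ g) g) g (f ≫ g) :=
    (IsPullback.of_hasPullback (f ≫ g) g).flip
  obtain ⟨c, hc, -⟩ := Groth.Agent.Lib.Helper1.DerCompat.existsUnique_isDiffCompat g
    (pullback.fst (f ≫ g) g) (pullback.snd (f ≫ g) g) (f ≫ g) sq.w.symm (OmegaSh.dOmega g)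
    (OmegaSh.dOmega (pullback.fst (f ≫ g) g)) hd
  haveI : IsIso c := Groth.Agent.Lib.Helper1.OmBCApp.isIso_of_isPullback g (f ≫ g)
    (pullback.snd (f ≫ g) g) (pullback.fst (f ≫ g) g) sq _ (OmegaSh.dOmega g) hd _
    (OmegaSh.dOmega (pullback.fst (f ≫ g) g)) hdP c hc
  haveI : (Omega.sheaf g).IsQuasicoherent :=
    Groth.Agent.Lib.Helper1.DerSmooth.isQuasicoherent g (OmegaSh.dOmega g) hd
  let α : (Scheme.Modules.pullback f).obj (Omega.sheaf g) ≅
      Omega.conormal (pullback.lift (𝟙 X) f (Category.id_comp (f ≫ g))) :=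
    ((Scheme.Modules.pullbackCongr hσ₂).app (Omega.sheaf g)).symm ≪≫
    ((Scheme.Modules.pullbackComp _ (pullback.snd (f ≫ g) g)).app (Omega.sheaf g)).symm ≪≫
    (Scheme.Modules.pullback _).mapIso (asIso c) ≪≫ eC.symm
  exact Groth.Agent.Lib.Helper25.ExtPowIso.isExtPow_of_iso α (Iso.refl _)
    (Groth.Agent.Lib.Helper25.ExtPowPull.isExtPow_pullback f n
      (show ExtPow.IsExtPow n (Omega.sheaf g) ωY from hω))

end Groth.Agent.S13585
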