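import Groth.Statements.S13586
import Groth.Agent.Lib.Helper2.SuppAdj
import Groth.Agent.Lib.Helper2.SuppTensor
import Groth.Agent.Lib.Helper2.GSS.Main
import Groth.Agent.Lib.Helper2.GSS.HomFunctor
import Groth.Agent.Lib.Helper2.QuotZ.Compare
-- import your own Groth.Agent.* helpers here

set_option autoImplicit false
universe u
open CategoryTheory CategoryTheory.Limits
open ExtSupp

namespace Groth.Agent.S13586

open Groth.Agent.Lib.Helper2 Groth.Agent.Lib.Helper2.GSS Groth.Agent.Lib.Helper2.SuppAdj
  Groth.Agent.Lib.Helper2.SuppTensor Groth.Agent.Lib.Helper2.ExtUnitH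
  Groth.Agent.Lib.Helper2.ModHomAcyclic Groth.Agent.Lib.Helper13.ModSiteUnitor
  Groth.Agent.Lib.Helper13.DerivedCommute

/-- On a ringed site, for an object `U` with closed complement `Z` and sheaves of modules `M`, `N`,
there is a bounded `E_2` spectral sequence of abelian groups with `E_2^{p,q}` isomorphic to
`H^p_Z(ℰxt^q_O(M, N))` for `p, q ≥ 0` and zero otherwise, together with abutment data whose
filtrations are finite on `Ext^n_Z(M, N)` (`n ≥ 0`; zero for `n < 0`). The `E_2` identifications and
the abutment isomorphisms are asserted to exist only and are not pinned to the canonical maps, so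
edge maps are not part of this statement; the internal hom out of `M`, the right adjoint of
restriction to `U` and injective resolutions of sheaves of modules are assumed to exist. (The
published statement, on a ringed topos and likewise on a ringed space, is functorial in `M`, `N` and
in an object `X` of the topos; this row is the case of the final object.) -/
theorem result {C : Type u} [SmallCategory C]
    {J : GrothendieckTopology C} {O : Sheaf J CommRingCat.{u}} [HasExt.{u} (ModSite.Mod O)]
    (U : C) [ModSite.HasPushOver O U] (M N : ModSite.Mod O) [ModSite.HasSheafHom M]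
    [HasInjectiveResolutions (ModSite.Mod O)] :
    ∃ (E : E₂CohomologicalSpectralSequence AddCommGrpCat.{u})
      (a : SpSeq.Abutment E (fun n : ℤ =>
        if 0 ≤ n then AddCommGrpCat.of (ExtSupp.ExtZ U M N n.toNat) else AddCommGrpCat.of PUnit.{u + 1})),
      (∀ n, a.IsFinite n) ∧ SpSeq.IsBounded E ∧
      ∀ p q : ℤ, Nonempty ((E.page 2 le_rfl).X (p, q) ≅
        (if 0 ≤ p ∧ 0 ≤ q then AddCommGrpCat.of (ModSite.HZ U ((ModSite.extSh M q.toNat).obj N) p.toNat)
         else AddCommGrpCat.of PUnit.{u + 1})) := by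
  refine grothendieck_ss_ite (ModSite.sheafHom M) (homF (QuotZLib.OZ O U)) ?_ N
    (fun n => AddCommGrpCat.of (ExtSupp.ExtZ U M N n)) ?_
    (fun p q => AddCommGrpCat.of (ModSite.HZ U ((ModSite.extSh M q).obj N) p)) ?_
    (AddCommGrpCat.of PUnit.{u + 1}) (AddCommGrpCat.of PUnit.{u + 1})
    (AddCommGrpCat.isZero_of_subsingleton _) (AddCommGrpCat.isZero_of_subsingleton _)
  · intro Q hQ q hq
    obtain ⟨q', rfl⟩ : ∃ q', q = q' + 1 := ⟨q - 1, by omega⟩
    obtain ⟨e'⟩ := QuotZLib.nonempty_iso' O U ((ModSite.sheafHom M).obj Q) (q' + 1)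
    have hsub : Subsingleton (ModSite.HZ U ((ModSite.sheafHom M).obj Q) (q' + 1)) :=
      ⟨fun x y => (QuotZLib.ext_quotZ_toAb_sheafHom O M (ToposFin.eps J U) Q q' x).trans
        (QuotZLib.ext_quotZ_toAb_sheafHom O M (ToposFin.eps J U) Q q' y).symm⟩
    exact IsZero.of_iso (AddCommGrpCat.isZero_of_subsingleton _)
      (rightDerivedHomFIso (QuotZLib.OZ O U) ((ModSite.sheafHom M).obj Q) (q' + 1) ≪≫ e')
  · intro n
    let e1 : ModSite.sheafHom M ⋙ homF (ModSite.unit O) ≅ homF M :=
      homFAdjIso (ModSite.sheafHomAdj M) (ModSite.unit O) ≪≫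
        homFIsoOfIso ((leftUnitorIso O).app M)
    let e : (ModSite.sheafHom M ⋙ ModSite.sectOn O U) ⋙ homF (ModSite.unit O) ≅
        homF ((ModSite.quotOn O U).obj M) :=
      Functor.isoWhiskerRight (sheafHomSectOnIso O U M) (homF (ModSite.unit O)) ≪≫
        Functor.associator _ _ _ ≪≫ Functor.isoWhiskerLeft (ModSite.sectOn O U) e1 ≪≫
        homFAdjIso (adjQuotSect O U) M
    let e2 : ModSite.sheafHom M ⋙ homF (QuotZLib.OZ O U) ≅ homF ((ModSite.quotOn O U).obj M) :=
      Functor.isoWhiskerLeft (ModSite.sheafHom M)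
        (homFAdjIso (adjQuotSect O U) (ModSite.unit O)).symm ≪≫
        (Functor.associator _ _ _).symm ≪≫ e
    exact ⟨(rightDerivedHomFIso ((ModSite.quotOn O U).obj M) N n).symm ≪≫
      (rightDerivedObjIsoOfNatIso e2 n N).symm⟩
  · intro p q
    obtain ⟨e⟩ := QuotZLib.nonempty_iso' O U ((ModSite.extSh M q).obj N) p
    exact ⟨e.symm ≪≫
      (rightDerivedHomFIso (QuotZLib.OZ O U) ((ModSite.extSh M q).obj N) p).symm⟩

end Groth.Agent.S13586
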