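import Groth.Statements.S13595
import Mathlib
import Groth.Agent.Lib.Helper10.TQR4
import Groth.Agent.Lib.Helper16.SmoothEt

set_option autoImplicit false
universe u
open CategoryTheory AlgebraicGeometry MonoidalCategory
open AlgSt

namespace Groth.Agent.S13595

/-- For a group action: let `B` be an algebraic space over `S`, `G` a group algebraic space over `B`
with `G ⟶ B` smooth, and `X` an algebraic space over `B` with a `G`-action. Then the canonical
morphism `X ⟶ [X/G]` (a `T`-point `x` of `X` goes to the trivial torsor `G ×_B T` with the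
equivariant map `(g, t) ↦ g · x(t)`; torsors given as sheaves) is representable by algebraic spaces,
smooth, and surjective. (The published statement is for a smooth groupoid in algebraic spaces; this
row is the action groupoid.) -/
theorem result (S : Scheme.{u}) (B : AlgSp.Sp S)
    (hB : AlgSp.IsAlgSpace B) (G : Over B) [GrpObj G] (hG : AlgSp.IsAlgSpace G.left)
    (hs : AlgSp.LocP @Smooth G.hom)
    (X : Over B) (hX : AlgSp.IsAlgSpace X.left) (aX : AlgSp.GAction G X) :
    AlgSt.RepByAlgSpWith (AlgSp.LocP @Smooth) (AlgSt.spQuotMap Scheme.fppfPrecoverage G aX) ∧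
      AlgSt.RepByAlgSpWith AlgSp.IsSurjectiveMor (AlgSt.spQuotMap Scheme.fppfPrecoverage G aX) := by
  constructor
  · exact H10PT.TQR.repByAlgSpWith_spQuotMap _
      (fun A => H10PT.FD.isAlgSpace_torsor hB G hG aX A)
      (fun A U h => H10PT.TQR.locP_πc @Smooth Groth.Agent.Lib.Helper16.etLocalST_smooth hB hG hs A U h)
  · exact H10PT.TQR.repByAlgSpWith_spQuotMap _
      (fun A => H10PT.FD.isAlgSpace_torsor hB G hG aX A)
      (fun A U h => H10PT.TQR.isSurjectiveMor_πc A U h)

end Groth.Agent.S13595
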