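import Groth.Statements.S13596
import Mathlib

set_option autoImplicit false
universe u
open CategoryTheory AlgebraicGeometry
open SGA1

namespace Groth.Agent.S13596

/-- Let a finite group G act on a scheme X and let p : X ⟶ Y be a quotient of X by G (affine,
G-invariant, and identifying the sections of O_Y over every open with the G-invariant sections of
O_X over its preimage). Then p is an integral morphism. -/
theorem result {X Y : Scheme.{u}} {G : Type u} [Group G] [Finite G]
    (ρ : G →* Aut X) (p : X ⟶ Y) (hp : SGA1.IsQuot ρ p) :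
    IsIntegralHom p := by
  classical
  have := Fintype.ofFinite G
  have haff : IsAffineHom p := hp.affine
  have key : ∀ (f : X ⟶ X) (_ : f = 𝟙 X) (V : X.Opens) (e : V ≤ f ⁻¹ᵁ V) (s : Γ(X, V)),
      (f.appLE V V e).hom s = s := by
    intro f hf
    subst hf
    intro V e s
    have h1 : X.presheaf.map (homOfLE e).op = 𝟙 _ := by
      have h2 : (homOfLE e).op = 𝟙 (Opposite.op V) := Subsingleton.elim _ _
      rw [h2]
      exact X.presheaf.map_id _
    have h3 : (𝟙 X : X ⟶ X).appLE V V e = 𝟙 _ := by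
      rw [Scheme.Hom.appLE, h1]
      exact Category.comp_id _
    rw [h3]
    rfl
  have key2 : ∀ (f1 f2 f3 : X ⟶ X) (_ : f3 = f2 ≫ f1) (V : X.Opens) (e1 : V ≤ f1 ⁻¹ᵁ V)
      (e2 : V ≤ f2 ⁻¹ᵁ V) (e3 : V ≤ f3 ⁻¹ᵁ V) (s : Γ(X, V)),
      (f2.appLE V V e2).hom ((f1.appLE V V e1).hom s) = (f3.appLE V V e3).hom s := by
    intro f1 f2 f3 h
    subst h
    intro V e1 e2 e3 s
    have := Scheme.Hom.appLE_comp_appLE f2 f1 V V V e1 e2
    exact congrArg (fun φ => φ.hom s) this
  refine { isIntegral_app := fun U _ => ?_ }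
  intro s
  let α : G → (Γ(X, p ⁻¹ᵁ U) →+* Γ(X, p ⁻¹ᵁ U)) := fun g =>
    ((ρ g).hom.appLE (p ⁻¹ᵁ U) (p ⁻¹ᵁ U) (SGA1.preimage_le_of_inv ρ p hp.inv g U)).hom
  have hα1 : ∀ s, α 1 s = s := fun s => key _ (by rw [map_one]; rfl) _ _ s
  have hαmul : ∀ g h s, α h (α g s) = α (g * h) s := fun g h s =>
    key2 _ _ _ (by rw [map_mul]; rfl) _ _ _ _ s
  let P : Polynomial Γ(X, p ⁻¹ᵁ U) := ∏ g : G, (Polynomial.X - Polynomial.C (α g s))
  have hPmap : ∀ h, P.map (α h) = P := by
    intro h
    simp only [P, Polynomial.map_prod, Polynomial.map_sub, Polynomial.map_X, Polynomial.map_C,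
      hαmul]
    exact Fintype.prod_equiv (Equiv.mulRight h) _ _ (fun g => rfl)
  have hPlifts : P ∈ Polynomial.lifts (p.app U).hom := by
    rw [Polynomial.lifts_iff_coeff_lifts]
    intro n
    rw [hp.range_iff U]
    intro g
    show α g (P.coeff n) = P.coeff n
    rw [← Polynomial.coeff_map, hPmap]
  have hPmonic : P.Monic := Polynomial.monic_prod_of_monic _ _
    (fun g _ => Polynomial.monic_X_sub_C _)
  have hroot : P.eval s = 0 := by
    simp only [P, Polynomial.eval_prod]
    refine Finset.prod_eq_zero (Finset.mem_univ (1 : G)) ?_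
    simp [hα1]
  rcases subsingleton_or_nontrivial Γ(X, p ⁻¹ᵁ U) with hsub | hnt
  · exact ⟨1, Polynomial.monic_one, Subsingleton.elim _ _⟩
  · obtain ⟨Q, hQmap, -, hQmonic⟩ := Polynomial.lifts_and_degree_eq_and_monic hPlifts hPmonic
    exact ⟨Q, hQmonic, by rw [← Polynomial.eval_map, hQmap]; exact hroot⟩

end Groth.Agent.S13596
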