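-- Statement S13600.
import Groth.Statements.S13600
import Mathlib
import Groth.Agent.Lib.Helper1.CycSub5

set_option autoImplicit false
universe u
open CategoryTheory AlgebraicGeometry
open Cyc

namespace Groth.Agent.S13600

/-- Let X be a separated Noetherian scheme and W = Σ a_i z_i an effective cycle on X (a function from
the points of X to the integers, non-negative and with finite support) whose points z_i (those with
a_i ≠ 0) have codimension 1 with X regular there, i.e. O_{X,z_i} is a discrete valuation ring. Then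
X has a unique closed subscheme Z (a quasi-coherent ideal sheaf) such that (1) Z has no embedded
components (every point of Z at which the maximal ideal of the local ring of Z is an associated
prime is a maximal point of Z) and (2) the cycle of Z is W: every maximal point z of Z has O_{Z,z}
of length W(z), and every point with W ≠ 0 is a maximal point of Z. -/
theorem result (X : Scheme.{u}) [IsNoetherian X]
    [X.IsSeparated] (W : X → ℤ) (hfin : {x | W x ≠ 0}.Finite) (hpos : ∀ x, 0 ≤ W x)
    (hreg : ∀ x, W x ≠ 0 → ∃ _ : IsDomain ↑(X.presheaf.stalk x), IsDiscreteValuationRing ↑(X.presheaf.stalk x)) :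
    ∃! 𝓘 : X.IdealSheafData,
      (∀ z : ↥𝓘.subscheme,
        IsAssociatedPrime (IsLocalRing.maximalIdeal ↑(𝓘.subscheme.presheaf.stalk z))
          ↑(𝓘.subscheme.presheaf.stalk z) → ∀ z' : ↥𝓘.subscheme, z' ⤳ z → z' = z) ∧
      (∀ z : ↥𝓘.subscheme, (∀ z' : ↥𝓘.subscheme, z' ⤳ z → z' = z) →
        Module.length ↑(𝓘.subscheme.presheaf.stalk z) ↑(𝓘.subscheme.presheaf.stalk z) =
          ((W (𝓘.subschemeι.base z)).toNat : ℕ∞)) ∧
      (∀ x : X, W x ≠ 0 → ∃ z : ↥𝓘.subscheme, 𝓘.subschemeι.base z = x ∧
        ∀ z' : ↥𝓘.subscheme, z' ⤳ z → z' = z) := by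
  classical
  open Groth.Agent.Lib.Helper1.CycSub in
  refine ⟨theI W hfin, ⟨?_, ?_, ?_⟩, ?_⟩
  · intro z hass
    exact maximal_of_W_ne W hfin hreg z (W_ne_of_isAssociatedPrime W hfin z hass)
  · intro z hmax
    have hW : W ((theI W hfin).subschemeι z) ≠ 0 := by
      obtain ⟨y, hy, hWy⟩ := exists_specializes_of_mem W hfin z
      obtain ⟨ζ, hζ⟩ := exists_point_of_W_ne W hfin hpos y hWy
      rw [← hζ] at hy
      have h1 : ζ ⤳ z := (theI W hfin).subschemeι.isEmbedding.isInducing.specializes_iff.mp hy
      have h2 := hmax ζ h1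
      rw [← h2, hζ]
      exact hWy
    exact length_stalk_of_W_ne W hfin hreg z hW
  · intro x hW
    obtain ⟨ζ, hζ⟩ := exists_point_of_W_ne W hfin hpos x hW
    refine ⟨ζ, hζ, maximal_of_W_ne W hfin hreg ζ ?_⟩
    rw [hζ]
    exact hW
  · rintro 𝓘 ⟨h1, h2, h3⟩
    apply Scheme.IdealSheafData.ext
    funext U
    exact ideal_eq_of_props W hreg 𝓘 h1 h2 h3 U

end Groth.Agent.S13600
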