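import Groth.Statements.S13602
import Groth.Agent.Lib.Helper28.WideAff
import Groth.Agent.Lib.Helper28.Pinch.Avoid

set_option autoImplicit false
universe u
open CategoryTheory AlgebraicGeometry
open SymProd

namespace Groth.Agent.S13602

/-- Let f : X ⟶ S be a morphism of schemes satisfying (AF): every finite set of points of X over a
single point of S lies in an affine open of X. Then for every d ≥ 0 and every point x of the d-fold
fibre power X ×_S ⋯ ×_S X, some affine open of the fibre power contains the whole orbit of x under
the symmetric group on d letters permuting the factors. (With the existence of a quotient by a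
finite group whose orbits lie in affine opens, this is the existence of the symmetric power
Sym^d(X/S) for X/S satisfying (AF).) -/
theorem result {X S : Scheme.{u}} (f : X ⟶ S) (hAF : SymProd.IsAF f)
    (d : ℕ) (x : ↥(SymProd.fibPow f d)) :
    ∃ U : (SymProd.fibPow f d).Opens, IsAffineOpen U ∧
      ∀ σ : Equiv.Perm (Fin d), (SymProd.permHom f d σ).base x ∈ U := by
  classical
  let s : S := (CategoryTheory.Limits.WidePullback.base (fun _ : Fin d => f)).base x
  let T : Finset X := Finset.univ.image (fun i : Fin d => (CategoryTheory.Limits.WidePullback.π (fun _ : Fin d => f) i).base x)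
  have hTs : ∀ y ∈ T, f.base y = s := by
    intro y hy
    obtain ⟨i, -, rfl⟩ := Finset.mem_image.mp hy
    change f (CategoryTheory.Limits.WidePullback.π (fun _ : Fin d => f) i x) = CategoryTheory.Limits.WidePullback.base (fun _ : Fin d => f) x
    rw [← Scheme.Hom.comp_apply, CategoryTheory.Limits.WidePullback.π_arrow]
  obtain ⟨U, hU, hTU⟩ := hAF s T hTs
  obtain ⟨_, ⟨S₀, hS₀, rfl⟩, hsS₀, -⟩ := S.isBasis_affineOpens.exists_subset_of_mem_open
    (Set.mem_univ s) isOpen_univ
  have hTO : (T : Set X) ⊆ (f ⁻¹ᵁ S₀ : X.Opens) := by
    intro y hy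
    change f y ∈ S₀
    have := hTs y hy
    change f y = s at this
    rw [this]
    exact hsS₀
  obtain ⟨g, hgT, hgO⟩ := Groth.Agent.Lib.Helper28.Pinch.exists_basicOpen_finite hU (T : Set X)
    T.finite_toSet (fun y hy => hTU y hy) (f ⁻¹ᵁ S₀) hTO
  refine ⟨Groth.Agent.Lib.Helper28.WideAff.box f (J := Fin d) (X.basicOpen g) S₀,
    Groth.Agent.Lib.Helper28.WideAff.isAffineOpen_box f (X.basicOpen g) (hU.basicOpen g) S₀ hS₀ hgO,
    fun σ => ?_⟩
  rw [Groth.Agent.Lib.Helper28.WideAff.mem_box]
  constructor
  · intro i
    have h1 : CategoryTheory.Limits.WidePullback.π (fun _ : Fin d => f) i ((SymProd.permHom f d σ).base x) =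
        CategoryTheory.Limits.WidePullback.π (fun _ : Fin d => f) (σ.symm i) x := by
      change CategoryTheory.Limits.WidePullback.π (fun _ : Fin d => f) i ((SymProd.permHom f d σ) x) = _
      rw [← Scheme.Hom.comp_apply, SymProd.permHom_π]
    rw [h1]
    exact hgT (Finset.mem_coe.mpr (Finset.mem_image.mpr ⟨σ.symm i, Finset.mem_univ _, rfl⟩))
  · have h1 : CategoryTheory.Limits.WidePullback.base (fun _ : Fin d => f) ((SymProd.permHom f d σ).base x) =
        CategoryTheory.Limits.WidePullback.base (fun _ : Fin d => f) x := by
      change CategoryTheory.Limits.WidePullback.base (fun _ : Fin d => f) ((SymProd.permHom f d σ) x) = _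
      rw [← Scheme.Hom.comp_apply, SymProd.permHom_base]
    rw [h1]
    exact hsS₀

end Groth.Agent.S13602
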