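import Groth.Statements.S13603
import Mathlib

set_option autoImplicit false
universe u v
open CAlg

namespace Groth.Agent.S13603

/-- Let a group G act on a commutative ring B by ring automorphisms so that every element of B has a
finite orbit, and let S ⊆ B be a multiplicative set of G-fixed elements (so each g ∈ G induces an
endomorphism of the localization S⁻¹B; the hypothesis that g maps S into S is implied by the
previous one and is only carried to name that endomorphism). Then an element of S⁻¹B is fixed by all
of G if and only if it is a fraction b/s with b fixed by G and s ∈ S: the canonical map S⁻¹(B^G) →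
(S⁻¹B)^G is onto. -/
theorem result {B : Type u} [CommRing B]
    {G : Type v} [Group G] [MulSemiringAction G B] (hfin : ∀ b : B, (MulAction.orbit G b).Finite)
    (S : Submonoid B) (hS : ∀ (g : G) (s : B), s ∈ S → g • s = s)
    (hS' : ∀ g : G, S ≤ S.comap (MulSemiringAction.toRingHom G B g)) (x : Localization S) :
    (∀ g : G, IsLocalization.map (Localization S) (MulSemiringAction.toRingHom G B g) (hS' g) x = x) ↔
      ∃ (b : B) (s : S), (∀ g : G, g • b = b) ∧ x = IsLocalization.mk' (Localization S) b s := by
  classical
  constructor
  · intro hx
    obtain ⟨b, s, rfl⟩ := IsLocalization.exists_mk'_eq S x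
    have hg : ∀ g : G, ∃ c : S, (c : B) * ((s : B) * (g • b)) = c * (s * b) := by
      intro g
      have h := hx g
      rw [IsLocalization.map_mk', IsLocalization.mk'_eq_iff_eq,
        IsLocalization.eq_iff_exists S] at h
      obtain ⟨c, hc⟩ := h
      refine ⟨c, ?_⟩
      simp only [MulSemiringAction.toRingHom_apply] at hc
      rw [hS g s s.2] at hc
      exact hc
    choose c hc using hg
    let d : B → S := fun y =>
      if h : y ∈ MulAction.orbit G b then c (Classical.choose (MulAction.mem_orbit_iff.mp h)) else 1
    have hd : ∀ y ∈ MulAction.orbit G b, (d y : B) * ((s : B) * y) = d y * (s * b) := by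
      intro y hy
      have h2 := Classical.choose_spec (MulAction.mem_orbit_iff.mp hy)
      have h3 := hc (Classical.choose (MulAction.mem_orbit_iff.mp hy))
      rw [h2] at h3
      simp only [d, dif_pos hy]
      exact h3
    let F := (hfin b).toFinset
    let t : S := ∏ y ∈ F, d y
    have ht : ∀ g : G, (t : B) * ((s : B) * (g • b)) = t * (s * b) := by
      intro g
      have hy : g • b ∈ MulAction.orbit G b := MulAction.mem_orbit b g
      have hyF : g • b ∈ F := (Set.Finite.mem_toFinset _).mpr hy
      have e : (t : B) = (d (g • b) : B) * ((∏ y ∈ F.erase (g • b), d y : S) : B) := by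
        rw [← Submonoid.coe_mul, Finset.mul_prod_erase F (fun y => d y) hyF]
      rw [e, mul_assoc, mul_comm ((∏ y ∈ F.erase (g • b), d y : S) : B), ← mul_assoc,
        hd _ hy, mul_assoc, mul_comm (((s : B) * b)), ← mul_assoc]
    refine ⟨t * s * b, t * s * s, ?_, ?_⟩
    · intro g
      rw [smul_mul', smul_mul', hS g t t.2, hS g s s.2, mul_assoc, ht g, mul_assoc]
    · rw [IsLocalization.mk'_eq_iff_eq]
      congr 1
      simp only [Submonoid.coe_mul]
      ring
  · rintro ⟨b, s, hb, rfl⟩ g
    rw [IsLocalization.map_mk', IsLocalization.mk'_eq_iff_eq]
    simp only [MulSemiringAction.toRingHom_apply]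
    rw [hb g, hS g s s.2]

end Groth.Agent.S13603
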