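import Groth.Statements.S13605
import Groth.Agent.Lib.Helper28.WideAff
import Groth.Agent.Lib.Helper28.Pinch.Avoid
import Groth.Agent.Lib.Helper5.GroupQuot

set_option autoImplicit false
universe u
open CategoryTheory AlgebraicGeometry
open CategoryTheory.Limits
open SymProd

namespace Groth.Agent.S13605

/-- Let f : X ⟶ S be a morphism of schemes satisfying (AF) (every finite set of points of X over a
single point of S lies in an affine open of X), let 𝒮 be a cover of S by affine opens, let d ≥ 1 and
let (Y, q, g) be a d-th symmetric power of X over S: q : X ×_S ⋯ ×_S X ⟶ Y is a quotient by the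
symmetric group on d letters permuting the factors (affine, invariant, sections of O_Y = invariant
sections) and q ≫ g is the structure map of the fibre power. Then Y is covered by affine opens of
the form Sym^d(U/V) with V in the given cover: for every point y of Y there are V ∈ 𝒮 and an affine
open U ⊆ f⁻¹V of X such that the open W = ⋂_i pr_i⁻¹ U of the fibre power (the fibre power of U over
V) is affine and stable under every permutation of the factors, and an affine open W' of Y
containing y with q⁻¹ W' = W. (The published statement also fixes an affine open cover of X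
subordinate to the cover of S, in which any d points over a common point of a member V lie in a
common member mapping into V, and concludes that the corresponding opens Sym^d(U/V) cover Y; this
row states the pointwise form, producing U for each y.) -/
theorem result {X S Y : Scheme.{u}} (f : X ⟶ S) (hAF : SymProd.IsAF f)
    (𝒮 : Set S.Opens) (h𝒮 : ∀ V ∈ 𝒮, IsAffineOpen V) (hcov : ∀ s : S, ∃ V ∈ 𝒮, s ∈ V)
    (d : ℕ) (hd : 0 < d) (q : SymProd.fibPow f d ⟶ Y) (g : Y ⟶ S) (hq : SymProd.IsSymProd f d q g) (y : Y) :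
    ∃ V ∈ 𝒮, ∃ U : X.Opens, IsAffineOpen U ∧ U ≤ f ⁻¹ᵁ V ∧
      ∃ W : (SymProd.fibPow f d).Opens,
        (W : Set ↥(SymProd.fibPow f d)) =
          ⋂ i : Fin d, (WidePullback.π (fun _ : Fin d => f) i).base ⁻¹' (U : Set X) ∧
        IsAffineOpen W ∧ (∀ σ : Equiv.Perm (Fin d), (SymProd.permHom f d σ) ⁻¹ᵁ W = W) ∧
        ∃ W' : Y.Opens, y ∈ W' ∧ IsAffineOpen W' ∧ q ⁻¹ᵁ W' = W := by
  classical
  have hQ := hq.isQuot
  obtain ⟨w, rfl⟩ := Groth.Agent.Lib.Helper5.GroupQuot.surjective hQ y
  obtain ⟨V, hV𝒮, hsV⟩ := hcov (CategoryTheory.Limits.WidePullback.base (fun _ : Fin d => f) w)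
  have hπ : ∀ (i : Fin d) (p : (SymProd.fibPow f d : Scheme.{u})),
      f (CategoryTheory.Limits.WidePullback.π (fun _ : Fin d => f) i p) =
        CategoryTheory.Limits.WidePullback.base (fun _ : Fin d => f) p := by
    intro i p
    rw [← Scheme.Hom.comp_apply, CategoryTheory.Limits.WidePullback.π_arrow]
  let T : Finset X := Finset.univ.image
    (fun i : Fin d => CategoryTheory.Limits.WidePullback.π (fun _ : Fin d => f) i w)
  have hT : ∀ x ∈ T, f.base x =
      CategoryTheory.Limits.WidePullback.base (fun _ : Fin d => f) w := by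
    intro x hx
    obtain ⟨i, -, rfl⟩ := Finset.mem_image.mp hx
    exact hπ i w
  obtain ⟨U₀, hU₀, hTU₀⟩ := hAF _ T hT
  obtain ⟨h, hFh, hhO⟩ := Groth.Agent.Lib.Helper28.Pinch.exists_basicOpen_finite hU₀
    (T : Set X) T.finite_toSet (fun x hx => hTU₀ x hx) (f ⁻¹ᵁ V)
    (fun x hx => by
      change f.base x ∈ V
      rw [hT x hx]
      exact hsV)
  have hU : IsAffineOpen (X.basicOpen h) := hU₀.basicOpen h
  have hW : IsAffineOpen (Groth.Agent.Lib.Helper28.WideAff.box f (J := Fin d) (X.basicOpen h) V) :=
    Groth.Agent.Lib.Helper28.WideAff.isAffineOpen_box f (X.basicOpen h) hU V (h𝒮 V hV𝒮) hhO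
  have hwW : w ∈ Groth.Agent.Lib.Helper28.WideAff.box f (J := Fin d) (X.basicOpen h) V := by
    rw [Groth.Agent.Lib.Helper28.WideAff.mem_box]
    exact ⟨fun i => hFh (Finset.mem_image_of_mem _ (Finset.mem_univ i)), hsV⟩
  have hstab : ∀ (σ : Equiv.Perm (Fin d)) (p : (SymProd.fibPow f d : Scheme.{u})),
      SymProd.permHom f d σ p ∈
        Groth.Agent.Lib.Helper28.WideAff.box f (J := Fin d) (X.basicOpen h) V ↔
      p ∈ Groth.Agent.Lib.Helper28.WideAff.box f (J := Fin d) (X.basicOpen h) V := by
    intro σ p
    rw [Groth.Agent.Lib.Helper28.WideAff.mem_box, Groth.Agent.Lib.Helper28.WideAff.mem_box]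
    have h1 : ∀ i, CategoryTheory.Limits.WidePullback.π (fun _ : Fin d => f) i
        (SymProd.permHom f d σ p) =
        CategoryTheory.Limits.WidePullback.π (fun _ : Fin d => f) (σ.symm i) p := by
      intro i
      rw [← Scheme.Hom.comp_apply, SymProd.permHom_π]
    have h2 : CategoryTheory.Limits.WidePullback.base (fun _ : Fin d => f)
        (SymProd.permHom f d σ p) =
        CategoryTheory.Limits.WidePullback.base (fun _ : Fin d => f) p := by
      rw [← Scheme.Hom.comp_apply, SymProd.permHom_base]
    rw [h2]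
    refine and_congr_left fun _ => ⟨fun H i => ?_, fun H i => ?_⟩
    · have := H (σ i)
      rw [h1, Equiv.symm_apply_apply] at this
      exact this
    · rw [h1]
      exact H _
  refine ⟨V, hV𝒮, X.basicOpen h, hU, hhO,
    Groth.Agent.Lib.Helper28.WideAff.box f (J := Fin d) (X.basicOpen h) V, ?_, hW, ?_, ?_⟩
  · ext p
    rw [SetLike.mem_coe, Groth.Agent.Lib.Helper28.WideAff.mem_box]
    simp only [Set.mem_iInter, Set.mem_preimage, SetLike.mem_coe]
    constructor
    · exact fun H => H.1
    · intro H
      refine ⟨H, ?_⟩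
      have h1 := hhO (H ⟨0, hd⟩)
      change f.base _ ∈ V at h1
      rw [← hπ ⟨0, hd⟩ p]
      exact h1
  · intro σ
    ext p
    exact hstab σ p
  · have hsat : q.base ⁻¹' (q.base ''
        (Groth.Agent.Lib.Helper28.WideAff.box f (J := Fin d) (X.basicOpen h) V : Set _)) =
        (Groth.Agent.Lib.Helper28.WideAff.box f (J := Fin d) (X.basicOpen h) V : Set _) := by
      ext p
      constructor
      · rintro ⟨p', hp', hpp'⟩
        obtain ⟨g, hg⟩ := (Groth.Agent.Lib.Helper5.GroupQuot.map_eq_iff hQ p' p).mp hpp'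
        rw [← hg]
        exact (hstab g.down p').mpr hp'
      · intro hp
        exact ⟨p, hp, rfl⟩
    have hopen : IsOpen (q.base ''
        (Groth.Agent.Lib.Helper28.WideAff.box f (J := Fin d) (X.basicOpen h) V : Set _)) := by
      rw [← (Groth.Agent.Lib.Helper5.GroupQuot.isQuotientMap hQ).isOpen_preimage]
      erw [hsat]
      exact (Groth.Agent.Lib.Helper28.WideAff.box f (J := Fin d) (X.basicOpen h) V).isOpen
    have hqW' : q ⁻¹ᵁ (⟨_, hopen⟩ : Y.Opens) =
        Groth.Agent.Lib.Helper28.WideAff.box f (J := Fin d) (X.basicOpen h) V := by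
      apply TopologicalSpace.Opens.ext
      exact hsat
    refine ⟨⟨_, hopen⟩, ⟨w, hwW, rfl⟩, ?_, hqW'⟩
    apply Groth.Agent.Lib.Helper5.GroupQuot.isAffineOpen_of_preimage hQ
    rw [hqW']
    exact hW

end Groth.Agent.S13605
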