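import Groth.Statements.S13606
import Mathlib

set_option autoImplicit false
universe u
open CategoryTheory AlgebraicGeometry
open SGA1

namespace Groth.Agent.S13606

/-- Let a finite group G act on a scheme X and let p : X ⟶ Y be a quotient of X by G (affine,
G-invariant, sections of O_Y over every open = G-invariant sections of O_X over its preimage). Then
for every open U ⊆ Y, U is the quotient of p⁻¹U by G: the restriction p⁻¹U ⟶ U of p is again a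
quotient in the same sense, for the action ρU of G on the G-stable open p⁻¹U induced by ρ (pinned by
compatibility with the inclusion p⁻¹U ⟶ X). -/
theorem result {X Y : Scheme.{u}} {G : Type u} [Group G] [Finite G]
    (ρ : G →* Aut X) (p : X ⟶ Y) (hp : SGA1.IsQuot ρ p) (U : Y.Opens)
    (ρU : G →* Aut (p ⁻¹ᵁ U).toScheme)
    (hρU : ∀ g : G, (ρU g).hom ≫ (p ⁻¹ᵁ U).ι = (p ⁻¹ᵁ U).ι ≫ (ρ g).hom) :
    SGA1.IsQuot ρU (p ∣_ U) := by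
  have haff : IsAffineHom p := hp.affine
  have L0 : ∀ (V' : Y.Opens) (O : X.Opens) (hO : O = p ⁻¹ᵁ V'),
      Function.Injective (p.appLE V' O hO.le).hom := by
    intro V' O hO
    subst hO
    rw [Scheme.Hom.appLE_eq_app]
    exact hp.injective V'
  have L1 : ∀ (V' : Y.Opens) (O : X.Opens) (hO : O = p ⁻¹ᵁ V')
      (e : ∀ g : G, O ≤ (ρ g).hom ⁻¹ᵁ O) (s : Γ(X, O)),
      s ∈ Set.range (p.appLE V' O hO.le).hom ↔
        ∀ g : G, ((ρ g).hom.appLE O O (e g)).hom s = s := by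
    intro V' O hO
    subst hO
    intro e s
    rw [Scheme.Hom.appLE_eq_app]
    exact hp.range_iff V' s
  have hinv : ∀ g : G, (ρU g).hom ≫ p ∣_ U = p ∣_ U := by
    intro g
    rw [← cancel_mono U.ι, Category.assoc, morphismRestrict_ι, ← Category.assoc, hρU g,
      Category.assoc, hp.inv g]
  have haffU : IsAffineHom (p ∣_ U) := by
    set_option backward.isDefEq.respectTransparency.types false in
    exact IsZariskiLocalAtTarget.restrict haff U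
  refine ⟨haffU, hinv, ?_, ?_⟩
  · intro V
    rw [morphismRestrict_app']
    exact L0 _ _ (image_morphismRestrict_preimage p U V)
  · intro V s
    have hO := image_morphismRestrict_preimage p U V
    have e : ∀ g : G, (p ⁻¹ᵁ U).ι ''ᵁ ((p ∣_ U) ⁻¹ᵁ V) ≤
        (ρ g).hom ⁻¹ᵁ ((p ⁻¹ᵁ U).ι ''ᵁ ((p ∣_ U) ⁻¹ᵁ V)) := by
      intro g
      rw [hO]
      exact SGA1.preimage_le_of_inv ρ p hp.inv g _
    have L2 : ∀ (g : G) (e' : (p ∣_ U) ⁻¹ᵁ V ≤ (ρU g).hom ⁻¹ᵁ ((p ∣_ U) ⁻¹ᵁ V)),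
        (ρU g).hom.appLE ((p ∣_ U) ⁻¹ᵁ V) ((p ∣_ U) ⁻¹ᵁ V) e' =
          (ρ g).hom.appLE _ _ (e g) := by
      intro g e'
      have h1 := Scheme.Hom.appLE_comp_appLE (ρU g).hom (p ⁻¹ᵁ U).ι
        ((p ⁻¹ᵁ U).ι ''ᵁ ((p ∣_ U) ⁻¹ᵁ V)) ((p ∣_ U) ⁻¹ᵁ V) ((p ∣_ U) ⁻¹ᵁ V)
        ((p ⁻¹ᵁ U).ι.preimage_image_eq _).ge e'
      have h2 := Scheme.Hom.appLE_comp_appLE (p ⁻¹ᵁ U).ι (ρ g).hom
        ((p ⁻¹ᵁ U).ι ''ᵁ ((p ∣_ U) ⁻¹ᵁ V)) ((p ⁻¹ᵁ U).ι ''ᵁ ((p ∣_ U) ⁻¹ᵁ V)) ((p ∣_ U) ⁻¹ᵁ V)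
        (e g) ((p ⁻¹ᵁ U).ι.preimage_image_eq _).ge
      have h3 : (p ⁻¹ᵁ U).ι.appLE ((p ⁻¹ᵁ U).ι ''ᵁ ((p ∣_ U) ⁻¹ᵁ V)) ((p ∣_ U) ⁻¹ᵁ V)
          ((p ⁻¹ᵁ U).ι.preimage_image_eq _).ge = 𝟙 _ := by
        rw [Scheme.Opens.ι_appLE]
        exact X.presheaf.map_id _
      rw [h3] at h1 h2
      have h4 : ((ρU g).hom ≫ (p ⁻¹ᵁ U).ι).appLE ((p ⁻¹ᵁ U).ι ''ᵁ ((p ∣_ U) ⁻¹ᵁ V))
          ((p ∣_ U) ⁻¹ᵁ V) (e'.trans ((TopologicalSpace.Opens.map (ρU g).hom.base).map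
            (homOfLE ((p ⁻¹ᵁ U).ι.preimage_image_eq _).ge)).le) =
          ((p ⁻¹ᵁ U).ι ≫ (ρ g).hom).appLE ((p ⁻¹ᵁ U).ι ''ᵁ ((p ∣_ U) ⁻¹ᵁ V))
          ((p ∣_ U) ⁻¹ᵁ V) (((p ⁻¹ᵁ U).ι.preimage_image_eq _).ge.trans
            ((TopologicalSpace.Opens.map (p ⁻¹ᵁ U).ι.base).map (homOfLE (e g))).le) := by
        congr 1
        exact hρU g
      rw [← h1, ← h2] at h4
      exact (Category.id_comp _).symm.trans (h4.trans (Category.comp_id _))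
    have h5 := L1 _ _ hO e s
    rw [morphismRestrict_app']
    refine h5.trans ?_
    refine forall_congr' (fun g => ?_)
    rw [← L2 g (SGA1.preimage_le_of_inv ρU (p ∣_ U) hinv g V)]
    exact Iff.rfl

end Groth.Agent.S13606
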