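import Groth.Statements.S13621
import Mathlib

set_option autoImplicit false
open CategoryTheory CategoryTheory.Limits Opposite
universe v u
open ARSys

namespace Groth.Agent.S13621

section Helpers

variable {C : Type u} [Category.{v} C]

/-- The canonical map `X[r] ⟶ X`. -/
def T (r : ℕ) (X : ARSys.PS C) : (ARSys.shift C r).obj X ⟶ X where
  app n := X.map (homOfLE (Nat.le_add_right n.unop r)).op
  naturality := fun m n f => by
    have e : ((ARSys.addF r).op.map f) ≫ (homOfLE (Nat.le_add_right n.unop r)).op =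
        (homOfLE (Nat.le_add_right m.unop r)).op ≫ f := Quiver.Hom.unop_inj (Subsingleton.elim _ _)
    exact (X.map_comp _ _).symm.trans ((congrArg X.map e).trans (X.map_comp _ _))

lemma T_naturality (r : ℕ) {P P' : ARSys.PS C} (φ : P ⟶ P') :
    (ARSys.shift C r).map φ ≫ T r P' = T r P ≫ φ := by
  ext n
  show φ.app (op (n.unop + r)) ≫ P'.map (homOfLE (Nat.le_add_right n.unop r)).op =
    P.map (homOfLE (Nat.le_add_right n.unop r)).op ≫ φ.app n
  exact (φ.naturality _).symm

lemma T_eq_zero [HasZeroMorphisms C] {K : ARSys.PS C} {r : ℕ}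
    (h : ∀ n : ℕ, ARSys.shiftMap K r n = 0) : T r K = 0 := by
  ext ⟨n⟩
  exact h n

variable [Abelian C]

lemma lemA {X Y : ARSys.PS C} (u : X ⟶ Y) (a : ℕ) (hK : T a (kernel u) = 0) {P : ARSys.PS C}
    (t : P ⟶ X) (ht : t ≫ u = 0) : T a P ≫ t = 0 := by
  calc T a P ≫ t = T a P ≫ kernel.lift u t ht ≫ kernel.ι u := by rw [kernel.lift_ι]
    _ = ((ARSys.shift C a).map (kernel.lift u t ht) ≫ T a (kernel u)) ≫ kernel.ι u := by
      rw [T_naturality, Category.assoc]
    _ = 0 := by rw [hK, comp_zero, zero_comp]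

lemma lemB {X Y : ARSys.PS C} (u : X ⟶ Y) (b : ℕ) (hQ : T b (cokernel u) = 0) {P : ARSys.PS C}
    (s : Y ⟶ P) (hs : u ≫ s = 0) : T b Y ≫ s = 0 := by
  calc T b Y ≫ s = T b Y ≫ cokernel.π u ≫ cokernel.desc u s hs := by rw [cokernel.π_desc]
    _ = ((ARSys.shift C b).map (cokernel.π u) ≫ T b (cokernel u)) ≫ cokernel.desc u s hs := by
      rw [T_naturality, Category.assoc]
    _ = 0 := by rw [hQ, comp_zero, zero_comp]

lemma lemL [HasLimitsOfShape ℕᵒᵖ C] {X Y : ARSys.PS C} (f : X ⟶ Y) (r : ℕ)
    (g : (ARSys.shift C r).obj Y ⟶ X) (h1 : g ≫ f = T r Y)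
    (h2 : (ARSys.shift C r).map f ≫ g = T r X) : IsIso (limMap f) := by
  let g' : ∀ n : ℕᵒᵖ, Y.obj (op (n.unop + r)) ⟶ X.obj n := fun n => g.app n
  have h1' : ∀ n : ℕᵒᵖ, g' n ≫ f.app n = Y.map (homOfLE (Nat.le_add_right n.unop r)).op :=
    fun n => congrArg (fun φ => φ.app n) h1
  have h2' : ∀ n : ℕᵒᵖ, f.app (op (n.unop + r)) ≫ g' n =
      X.map (homOfLE (Nat.le_add_right n.unop r)).op := fun n =>
    congrArg (fun φ => φ.app n) h2
  have hg : ∀ {m n : ℕᵒᵖ} (φ : m ⟶ n), Y.map ((ARSys.addF r).op.map φ) ≫ g' n =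
      g' m ≫ X.map φ := fun φ => g.naturality φ
  have hw : ∀ {m n : ℕᵒᵖ} (φ : m ⟶ n), limit.π Y (op (m.unop + r)) ≫
      Y.map ((ARSys.addF r).op.map φ) = limit.π Y (op (n.unop + r)) := fun φ => limit.w Y _
  let c : Cone X :=
    { pt := limit Y
      π :=
        { app := fun n => limit.π Y (op (n.unop + r)) ≫ g' n
          naturality := by
            intro m n φ
            calc (𝟙 (limit Y)) ≫ (limit.π Y (op (n.unop + r)) ≫ g' n)
                = limit.π Y (op (n.unop + r)) ≫ g' n := Category.id_comp _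
              _ = (limit.π Y (op (m.unop + r)) ≫ Y.map ((ARSys.addF r).op.map φ)) ≫ g' n :=
                  congrArg (· ≫ g' n) (hw φ).symm
              _ = limit.π Y (op (m.unop + r)) ≫ (Y.map ((ARSys.addF r).op.map φ) ≫ g' n) :=
                  Category.assoc _ _ _
              _ = limit.π Y (op (m.unop + r)) ≫ (g' m ≫ X.map φ) :=
                  congrArg (limit.π Y (op (m.unop + r)) ≫ ·) (hg φ)
              _ = (limit.π Y (op (m.unop + r)) ≫ g' m) ≫ X.map φ :=
                  (Category.assoc _ _ _).symm } }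
  have hc : ∀ n : ℕᵒᵖ, limit.lift X c ≫ limit.π X n = limit.π Y (op (n.unop + r)) ≫ g' n :=
    fun n => limit.lift_π c n
  refine ⟨limit.lift X c, ?_, ?_⟩
  · apply limit.hom_ext
    intro n
    calc (limMap f ≫ limit.lift X c) ≫ limit.π X n
        = limMap f ≫ (limit.lift X c ≫ limit.π X n) := Category.assoc _ _ _
      _ = limMap f ≫ (limit.π Y (op (n.unop + r)) ≫ g' n) := by rw [hc]
      _ = (limMap f ≫ limit.π Y (op (n.unop + r))) ≫ g' n := (Category.assoc _ _ _).symm
      _ = (limit.π X (op (n.unop + r)) ≫ f.app (op (n.unop + r))) ≫ g' n := by rw [limMap_π]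
      _ = limit.π X (op (n.unop + r)) ≫ (f.app (op (n.unop + r)) ≫ g' n) := Category.assoc _ _ _
      _ = limit.π X (op (n.unop + r)) ≫ X.map (homOfLE (Nat.le_add_right n.unop r)).op := by
          rw [h2']
      _ = limit.π X n := limit.w X _
      _ = 𝟙 (limit X) ≫ limit.π X n := (Category.id_comp _).symm
  · apply limit.hom_ext
    intro n
    calc (limit.lift X c ≫ limMap f) ≫ limit.π Y n
        = limit.lift X c ≫ (limMap f ≫ limit.π Y n) := Category.assoc _ _ _
      _ = limit.lift X c ≫ (limit.π X n ≫ f.app n) := by rw [limMap_π]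
      _ = (limit.lift X c ≫ limit.π X n) ≫ f.app n := (Category.assoc _ _ _).symm
      _ = (limit.π Y (op (n.unop + r)) ≫ g' n) ≫ f.app n := by rw [hc]
      _ = limit.π Y (op (n.unop + r)) ≫ (g' n ≫ f.app n) := Category.assoc _ _ _
      _ = limit.π Y (op (n.unop + r)) ≫ Y.map (homOfLE (Nat.le_add_right n.unop r)).op := by
          rw [h1']
      _ = limit.π Y n := limit.w Y _
      _ = 𝟙 (limit Y) ≫ limit.π Y n := (Category.id_comp _).symm

instance (r : ℕ) : PreservesFiniteColimits (ARSys.shift C r) := by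
  unfold ARSys.shift
  infer_instance

instance (r : ℕ) : (ARSys.shift C r).PreservesZeroMorphisms where
  map_zero _ _ := rfl

end Helpers

/-- The inverse limit is a well-defined functor on projective systems up to translation. Concretely: in
an abelian category with limits of shape ℕᵒᵖ, a morphism u : X ⟶ Y of projective systems indexed by
the natural numbers whose kernel and cokernel are null up to translation induces an isomorphism lim
X ⟶ lim Y. (The published statement is the functoriality of lim on the category of systems up to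
translation; combined with the description of isomorphisms there as the morphisms with null kernel
and cokernel, this is the form stated.) -/
theorem result {C : Type u} [Category.{v} C] [Abelian C] [HasLimitsOfShape ℕᵒᵖ C]
    {X Y : ARSys.PS C} (u : X ⟶ Y) (hu : ARSys.IsARIso u) : IsIso (limMap u) := by
  obtain ⟨⟨a, ha⟩, ⟨b, hb⟩⟩ := hu
  have hK : T a (kernel u) = 0 := T_eq_zero ha
  have hQ : T b (cokernel u) = 0 := T_eq_zero hb
  -- factor `u` through its coimage
  let κ := kernel.ι u
  let π : X ⟶ Abelian.coimage u := Abelian.coimage.π u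
  let ι : Abelian.coimage u ⟶ Y := Abelian.factorThruCoimage u
  have hfac : π ≫ ι = u := Abelian.coimage.fac u
  -- second half: `ι`
  have hι : IsIso (limMap ι) := by
    have h0 : T b Y ≫ cokernel.π ι = 0 :=
      lemB u b hQ (cokernel.π ι) (by
        calc u ≫ cokernel.π ι = (π ≫ ι) ≫ cokernel.π ι := by rw [hfac]
          _ = 0 := by rw [Category.assoc, cokernel.condition, comp_zero])
    let w' : (ARSys.shift C b).obj Y ⟶ Abelian.coimage u := Abelian.monoLift ι (T b Y) h0
    have hw' : w' ≫ ι = T b Y := Abelian.monoLift_comp ι (T b Y) h0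
    refine lemL ι b w' hw' ?_
    rw [← cancel_mono ι, Category.assoc, hw', T_naturality]
  -- first half: `π`
  have hπ : IsIso (limMap π) := by
    let G := ARSys.shift C a
    have hκ : G.map κ ≫ T a X = 0 := by
      rw [T_naturality, hK, zero_comp]
    let w : G.obj (Abelian.coimage u) ⟶ X :=
      (PreservesCokernel.iso G κ).hom ≫ cokernel.desc (G.map κ) (T a X) hκ
    have hw : G.map π ≫ w = T a X := by
      show G.map (cokernel.π κ) ≫ (PreservesCokernel.iso G κ).hom ≫ _ = _
      rw [← Category.assoc, PreservesCokernel.π_iso_hom, cokernel.π_desc]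
    refine lemL π a w ?_ hw
    have : Epi (G.map π) := inferInstance
    rw [← cancel_epi (G.map π), ← Category.assoc, hw, T_naturality]
  have hcomp : limMap u = limMap π ≫ limMap ι := by
    have h3 : limMap (π ≫ ι) = limMap π ≫ limMap ι := by
      apply limit.hom_ext
      intro n
      simp
    rw [hfac] at h3
    exact h3
  rw [hcomp]
  infer_instance

end Groth.Agent.S13621
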