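import Groth.Statements.S13622
import Mathlib

set_option autoImplicit false
universe u v
open CAlg

namespace Groth.Agent.S13622

/-- Let A be a commutative ring, I a finitely generated ideal and (M_n) an inverse system of finitely
generated A-modules whose transition maps f_n : M_(n+1) → M_n are surjective with kernel I^(n+1)
M_(n+1), and with I^(n+1) M_n = 0 for all n. If L is an inverse limit of the system (projections π_n
compatible with the f_n, jointly injective, every compatible family lifting to L), endowed with a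
module structure over the I-adic completion A^ of A that is compatible with its A-module structure,
then L is finitely generated as an A^-module. No completeness of A is assumed. -/
theorem result
    (A : Type u) [CommRing A] (I : Ideal A) (hI : I.FG)
    (M : ℕ → Type v) [∀ n, AddCommGroup (M n)] [∀ n, Module A (M n)] [∀ n, Module.Finite A (M n)]
    (f : ∀ n, M (n + 1) →ₗ[A] M n) (hf : ∀ n, Function.Surjective (f n))
    (hker : ∀ n, LinearMap.ker (f n) = I ^ (n + 1) • (⊤ : Submodule A (M (n + 1))))
    (hkill : ∀ n, I ^ (n + 1) • (⊤ : Submodule A (M n)) = ⊥)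
    (L : Type v) [AddCommGroup L] [Module A L] (π : ∀ n, L →ₗ[A] M n)
    (hπ : ∀ n, f n ∘ₗ π (n + 1) = π n)
    (hinj : ∀ x : L, (∀ n, π n x = 0) → x = 0)
    (hlift : ∀ y : (∀ n, M n), (∀ n, f n (y (n + 1)) = y n) → ∃ x : L, ∀ n, π n x = y n)
    [Module (AdicCompletion I A) L] [IsScalarTower A (AdicCompletion I A) L] :
    Module.Finite (AdicCompletion I A) L := by
  classical
  obtain ⟨r, x0, hx0⟩ := Module.Finite.exists_fin (R := A) (M := M 0)
  have hfp : ∀ n (z : L), f n (π (n + 1) z) = π n z := fun n z => LinearMap.congr_fun (hπ n) z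
  have hsurj0 : Function.Surjective (π 0) := by
    intro m
    let y : ∀ n, M n := fun n => Nat.rec (motive := fun n => M n) m (fun n p => (hf n p).choose) n
    obtain ⟨x, hx⟩ := hlift y (fun n => (hf n (y n)).choose_spec)
    exact ⟨x, hx 0⟩
  choose y hy using fun i => hsurj0 (x0 i)
  have hle : ∀ n, (I ^ (n + 1) • ⊤ : Submodule A L) ≤ LinearMap.ker (π n) := by
    intro n x hx
    rw [LinearMap.mem_ker]
    have h3 : π n x ∈ (I ^ (n + 1) • ⊤ : Submodule A (M n)) := by
      have h2 : (I ^ (n + 1) • ⊤ : Submodule A L).map (π n) ≤ I ^ (n + 1) • ⊤ := by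
        rw [Submodule.map_smul'']
        exact Submodule.smul_mono (le_refl _) le_top
      exact h2 (Submodule.mem_map_of_mem hx)
    rw [hkill n] at h3
    exact (Submodule.mem_bot A).mp h3
  have hext : ∀ x x' : L, (∀ n, π n x = π n x') → x = x' := by
    intro x x' h
    have := hinj (x - x') (fun n => by rw [map_sub, h n, sub_self])
    exact sub_eq_zero.mp this
  have hN : ∀ n, Submodule.span A (Set.range (fun i => π n (y i))) = ⊤ := by
    intro n
    induction n with
    | zero =>
      have : (fun i => π 0 (y i)) = x0 := funext hy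
      rw [this]; exact hx0
    | succ n ih =>
      set N := Submodule.span A (Set.range (fun i => π (n + 1) (y i))) with hNdef
      have hmap : Submodule.map (f n) N = Submodule.span A (Set.range (fun i => π n (y i))) := by
        rw [hNdef, Submodule.map_span, ← Set.range_comp]
        congr 2
        funext i
        exact hfp n (y i)
      have h1 : (⊤ : Submodule A (M (n + 1))) ≤ N ⊔ I • ⊤ := by
        intro m _
        have hm : f n m ∈ Submodule.span A (Set.range (fun i => π n (y i))) := by
          rw [ih]; trivial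
        rw [← hmap] at hm
        obtain ⟨m', hm', hmm'⟩ := hm
        have hk : m - m' ∈ LinearMap.ker (f n) := by
          rw [LinearMap.mem_ker, map_sub, hmm', sub_self]
        rw [hker n] at hk
        have hk' : m - m' ∈ (I • ⊤ : Submodule A (M (n + 1))) :=
          Submodule.smul_mono_left (Ideal.pow_le_self (Nat.succ_ne_zero n)) hk
        have : m = m' + (m - m') := by abel
        rw [this]
        exact Submodule.add_mem_sup hm' hk'
      have h2 : ∀ k, (⊤ : Submodule A (M (n + 1))) ≤ N ⊔ I ^ k • ⊤ := by
        intro k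
        induction k with
        | zero => simp
        | succ k ihk =>
          calc (⊤ : Submodule A (M (n + 1))) ≤ N ⊔ I • ⊤ := h1
            _ ≤ N ⊔ I • (N ⊔ I ^ k • ⊤) :=
              sup_le_sup_left (Submodule.smul_mono le_rfl ihk) _
            _ ≤ N ⊔ I ^ (k + 1) • ⊤ := by
              rw [Submodule.smul_sup, pow_succ', Submodule.mul_smul]
              exact sup_le le_sup_left (sup_le_sup_right Submodule.smul_le_right _)
      have h3 := h2 (n + 1 + 1)
      rw [hkill (n + 1), sup_bot_eq] at h3
      exact eq_top_iff.mpr h3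
  have hstep : ∀ (x : L) (n : ℕ) (a : Fin r → A), π n x = ∑ i, a i • π n (y i) →
      ∃ a' : Fin r → A, π (n + 1) x = ∑ i, a' i • π (n + 1) (y i) ∧
        ∀ i, a' i - a i ∈ I ^ (n + 1) := by
    intro x n a ha
    have hk : π (n + 1) x - ∑ i, a i • π (n + 1) (y i) ∈ LinearMap.ker (f n) := by
      rw [LinearMap.mem_ker, map_sub, map_sum]
      simp_rw [map_smul, hfp]
      rw [ha, sub_self]
    rw [hker n, ← hN (n + 1), Submodule.mem_ideal_smul_span_iff_exists_sum] at hk
    obtain ⟨b, hb, hsum⟩ := hk
    rw [Finsupp.sum_fintype b (fun i c => c • π (n + 1) (y i)) (fun i => zero_smul _ _)] at hsum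
    refine ⟨fun i => a i + b i, ?_, fun i => by simpa using hb i⟩
    simp_rw [add_smul, Finset.sum_add_distrib]
    rw [hsum]; abel
  have hfam : ∀ x : L, ∃ a : ℕ → Fin r → A, (∀ n, π n x = ∑ i, a n i • π n (y i)) ∧
      ∀ n i, a (n + 1) i - a n i ∈ I ^ (n + 1) := by
    intro x
    have h0 : ∃ a : Fin r → A, π 0 x = ∑ i, a i • π 0 (y i) := by
      have : π 0 x ∈ Submodule.span A (Set.range fun i => π 0 (y i)) := by rw [hN 0]; trivial
      rw [Submodule.mem_span_range_iff_exists_fun] at this
      obtain ⟨c, hc⟩ := this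
      exact ⟨c, hc.symm⟩
    let P : ℕ → Type _ := fun n => {a : Fin r → A // π n x = ∑ i, a i • π n (y i)}
    let s : ∀ n, P n := fun n => Nat.rec (motive := P) ⟨h0.choose, h0.choose_spec⟩
      (fun n p => ⟨(hstep x n p.1 p.2).choose, (hstep x n p.1 p.2).choose_spec.1⟩) n
    exact ⟨fun n => (s n).1, fun n => (s n).2,
      fun n i => (hstep x n (s n).1 (s n).2).choose_spec.2 i⟩
  have hact : ∀ (n : ℕ) (c : AdicCompletion I A) (z : L),
      c ∈ (I ^ n • ⊤ : Submodule A (AdicCompletion I A)) →
      c • z ∈ (I ^ n • ⊤ : Submodule A L) := by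
    intro n c z hc
    refine Submodule.smul_induction_on hc (fun t ht s _ => ?_) (fun c1 c2 h1 h2 => ?_)
    · rw [smul_assoc]
      exact Submodule.smul_mem_smul ht trivial
    · rw [add_smul]
      exact add_mem h1 h2
  refine ⟨(Submodule.fg_def).2 ⟨Set.range y, Set.finite_range y, ?_⟩⟩
  refine eq_top_iff.2 (fun x _ => ?_)
  obtain ⟨a, ha, hcauchy⟩ := hfam x
  have hc : ∀ i n, a n i ≡ a (n + 1) i [SMOD (I ^ n • ⊤ : Submodule A A)] := by
    intro i n
    rw [SModEq.sub_mem]
    have h1 : a (n + 1) i - a n i ∈ I ^ n := Ideal.pow_le_pow_right (Nat.le_succ n) (hcauchy n i)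
    have h2 : a n i - a (n + 1) i ∈ I ^ n := by
      rw [← neg_sub]; exact neg_mem h1
    simpa using h2
  let ahat : Fin r → AdicCompletion I A := fun i =>
    AdicCompletion.mk I A (AdicCompletion.AdicCauchySequence.mk I A (fun n => a n i) (hc i))
  have hx : x = ∑ i, ahat i • y i := by
    refine hext _ _ (fun n => ?_)
    rw [map_sum, ha n]
    refine Finset.sum_congr rfl (fun i _ => ?_)
    have hmem : ahat i - algebraMap A (AdicCompletion I A) (a n i) ∈
        (I ^ (n + 1) • ⊤ : Submodule A (AdicCompletion I A)) := by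
      rw [AdicCompletion.pow_smul_top_eq_ker_eval hI, LinearMap.mem_ker, map_sub, sub_eq_zero]
      show Submodule.Quotient.mk (a (n + 1) i) = Submodule.Quotient.mk (a n i)
      rw [Submodule.Quotient.eq]
      have := hcauchy n i
      simpa using this
    have h0 := hle n (hact (n + 1) _ (y i) hmem)
    rw [LinearMap.mem_ker, sub_smul, map_sub, sub_eq_zero, algebraMap_smul, LinearMap.map_smul] at h0
    exact h0.symm
  rw [hx]
  exact Submodule.sum_mem _ (fun i _ => Submodule.smul_mem _ _ (Submodule.subset_span ⟨i, rfl⟩))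

end Groth.Agent.S13622
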