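import Groth.Statements.S13623
import Mathlib

set_option autoImplicit false
universe u
open TensorProduct
open CAlg

namespace Groth.Agent.S13623

set_option synthInstance.maxHeartbeats 400000 in
/-- Let A be a commutative ring and B a commutative A-algebra, graded by A-submodules B_m (m ≥ 0)
forming a graded-algebra structure, such that every B_m is a finitely generated A-module. If for
every algebraically closed field k and every A-algebra structure on k the k-algebra k ⊗_A B is
generated by the image of B_1 under b ↦ 1 ⊗ b, then its degree-one part B_1 generates the A-algebra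
B. (Algebraically closed fields are taken in the universe of A.) -/
theorem result
    (A : Type u) [CommRing A] (B : Type u) [CommRing B] [Algebra A B]
    (𝒜 : ℕ → Submodule A B) [GradedAlgebra 𝒜]
    (hfin : ∀ m : ℕ, Module.Finite A (𝒜 m))
    (hgen : ∀ (k : Type u) [Field k] [IsAlgClosed k] [Algebra A k],
      Algebra.adjoin k ((Algebra.TensorProduct.includeRight : B →ₐ[A] k ⊗[A] B) '' (𝒜 1 : Set B)) = ⊤) :
    Algebra.adjoin A (𝒜 1 : Set B) = ⊤ := by
  classical
  set B' : Subalgebra A B := Algebra.adjoin A (𝒜 1 : Set B) with hB'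
  have hhom : ∀ (m : ℕ) (b : B), b ∈ B' → (DirectSum.decompose 𝒜 b m : B) ∈ B' := by
    intro m b hb
    have h1 : DirectSum.SetLike.IsHomogeneous 𝒜
        (Subsemiring.closure (Set.range (algebraMap A B) ∪ (𝒜 1 : Set B))) := by
      apply IsHomogeneous.subsemiringClosure_of_isHomogeneousElem
      rintro x (⟨a, rfl⟩ | hx)
      · exact ⟨0, SetLike.algebraMap_mem_graded 𝒜 a⟩
      · exact ⟨1, hx⟩
    have hb' : b ∈ Subsemiring.closure (Set.range (algebraMap A B) ∪ (𝒜 1 : Set B)) := by
      rw [← Algebra.adjoin_toSubsemiring]; exact hb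
    have := h1 m hb'
    rw [← Algebra.adjoin_toSubsemiring] at this
    exact this
  have hpiece : ∀ m : ℕ, ∀ x ∈ 𝒜 m, x ∈ B' := by
    intro m
    let P : Submodule A (𝒜 m) := Submodule.comap (𝒜 m).subtype (Subalgebra.toSubmodule B')
    have : Module.Finite A (𝒜 m) := hfin m
    suffices hP : P = ⊤ by
      intro x hx
      have : (⟨x, hx⟩ : 𝒜 m) ∈ P := by rw [hP]; trivial
      exact this
    rw [← Submodule.Quotient.subsingleton_iff, ← Module.support_eq_empty_iff (R := A)]
    by_contra hne
    obtain ⟨p, hp⟩ := Set.nonempty_iff_ne_empty.mpr hne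
    rw [Module.mem_support_iff_nontrivial_residueField_tensorProduct] at hp
    let κ := p.asIdeal.ResidueField
    let k := AlgebraicClosure κ
    have hnt : Nontrivial (k ⊗[A] (𝒜 m ⧸ P)) := by
      have hfree : Module.Free κ k := Module.Free.of_divisionRing _ _
      have hff : Module.FaithfullyFlat κ k := inferInstance
      have h2 : Nontrivial (k ⊗[κ] (κ ⊗[A] (𝒜 m ⧸ P))) :=
        Module.FaithfullyFlat.lTensor_nontrivial κ k _
      exact (TensorProduct.AlgebraTensorModule.cancelBaseChange A κ k k
        (𝒜 m ⧸ P)).symm.toEquiv.nontrivial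
    -- the projection
    let pr : B →ₗ[A] 𝒜 m :=
      (DirectSum.component A ℕ (fun i => 𝒜 i) m) ∘ₗ (DirectSum.decomposeLinearEquiv 𝒜).toLinearMap
    let ψ : B →ₗ[A] (𝒜 m ⧸ P) := P.mkQ ∘ₗ pr
    have hψ0 : ∀ b ∈ B', ψ b = 0 := by
      intro b hb
      show P.mkQ (pr b) = 0
      rw [Submodule.mkQ_apply, Submodule.Quotient.mk_eq_zero]
      exact hhom m b hb
    have hψsurj : Function.Surjective ψ := by
      intro q
      obtain ⟨x, rfl⟩ := P.mkQ_surjective q
      refine ⟨x.1, ?_⟩
      show P.mkQ (pr x.1) = P.mkQ x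
      congr 1
      exact DirectSum.decompose_of_mem_same 𝒜 x.2 |> Subtype.ext
    have hsurj : Function.Surjective (LinearMap.baseChange k ψ) :=
      LinearMap.lTensor_surjective k hψsurj
    have hzero : ∀ t : k ⊗[A] B, LinearMap.baseChange k ψ t = 0 := by
      intro t
      let Φ : k ⊗[A] B' →ₐ[k] k ⊗[A] B := Algebra.TensorProduct.map (AlgHom.id k k) B'.val
      have hle : (⊤ : Subalgebra k (k ⊗[A] B)) ≤ Φ.range := by
        rw [← hgen k, Algebra.adjoin_le_iff]
        rintro _ ⟨b, hb, rfl⟩
        exact ⟨(1 : k) ⊗ₜ[A] (⟨b, Algebra.subset_adjoin hb⟩ : B'), by simp [Φ]⟩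
      obtain ⟨t', rfl⟩ := hle (Algebra.mem_top (x := t))
      induction t' using TensorProduct.induction_on with
      | zero => simp
      | tmul c b => 
        show LinearMap.baseChange k ψ (c ⊗ₜ[A] (b : B)) = 0
        rw [LinearMap.baseChange_tmul, hψ0 b b.2, TensorProduct.tmul_zero]
      | add x y hx hy => rw [map_add, map_add, hx, hy, add_zero]
    obtain ⟨q1, q2, hq⟩ := hnt.exists_pair_ne
    obtain ⟨t1, rfl⟩ := hsurj q1
    obtain ⟨t2, rfl⟩ := hsurj q2
    exact hq (by rw [hzero, hzero])
  refine eq_top_iff.mpr (fun b _ => ?_)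
  rw [← DirectSum.sum_support_decompose 𝒜 b]
  exact sum_mem (fun i _ => hpiece i _ (SetLike.coe_mem _))

end Groth.Agent.S13623
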