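import Groth.Statements.S13626
import Groth.Agent.Lib.Helper13.ProjFormulaLF
import Groth.Agent.Lib.Helper13.PushEdge

set_option autoImplicit false
universe u
open CategoryTheory CategoryTheory.Limits AlgebraicGeometry
open Coh

namespace Groth.Agent.S13626

/-- Let f : X → Y be a morphism of schemes with R^i f_* O_X = 0 for every i ≥ 1 and f_* O_X ≅ O_Y. Then
for every invertible O_Y-module L and every p ≥ 0 the groups H^p(X, f^* L) and H^p(Y, L) are
isomorphic (existence of a group isomorphism; the higher direct images are the right derived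
functors of f_* on O_X-modules, under the instance argument recording that O_X-modules have
injective resolutions). -/
theorem result
    {X Y : Scheme.{u}} (f : X ⟶ Y) [HasInjectiveResolutions X.Modules]
    (hR : ∀ i : ℕ, IsZero ((Coh.Rpush f (i + 1)).obj (Coh.structureModule X)))
    (h0 : Nonempty ((Coh.push f).obj (Coh.structureModule X) ≅ Coh.structureModule Y))
    (L : Y.Modules) (hL : PicF.IsInvertible L) (p : ℕ) :
    Nonempty (Coh.HH X ((Scheme.Modules.pullback f).obj L) p ≃+ Coh.HH Y L p) := by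
  classical
  have hE : FlatMod.IsFinLocFree L := by
    intro x
    obtain ⟨U, hx, ⟨e⟩⟩ := hL x
    exact ⟨U, 1, hx, ⟨e ≪≫ (coproductUniqueIso (fun _ : Fin 1 => Coh.structureModule ↑U)).symm⟩⟩
  have hEI : EnoughInjectives X.Modules :=
    Groth.Agent.Lib.Helper13.ModGrothendieck.enoughInjectives X.ringCatSheaf
  -- `f^*L ⊗ O_X ≅ f^*L`
  let eM : CohB1.tensorMod ((Scheme.Modules.pullback f).obj L) (Coh.structureModule X) ≅
      (Scheme.Modules.pullback f).obj L :=
    Groth.Agent.Lib.Helper3.InvMonoidal.braid _ _ ≪≫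
      Groth.Agent.Lib.Helper3.InvMonoidal.unitorL _
  let eL : CohB1.tensorMod L (Coh.structureModule Y) ≅ L :=
    Groth.Agent.Lib.Helper3.InvMonoidal.braid _ _ ≪≫
      Groth.Agent.Lib.Helper3.InvMonoidal.unitorL _
  -- vanishing of the higher direct images of `f^*L`
  have hvan : ∀ q : ℕ, 0 < q → IsZero ((Coh.Rpush f q).obj ((Scheme.Modules.pullback f).obj L)) := by
    intro q hq
    obtain ⟨k, rfl⟩ : ∃ k, q = k + 1 := ⟨q - 1, by omega⟩
    obtain ⟨e⟩ := Groth.Agent.Lib.Helper13.ProjFormulaLF.projection_formula f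
      (Coh.structureModule X) L hE (k + 1)
    have hz : IsZero (CohB1.tensorMod L ((Coh.Rpush f (k + 1)).obj (Coh.structureModule X))) :=
      (Groth.Agent.Lib.Helper13.ProjFormulaLF.TL L).map_isZero (hR k)
    exact (hz.of_iso e.symm).of_iso ((Coh.Rpush f (k + 1)).mapIso eM.symm)
  -- `f_* f^* L ≅ L`
  obtain ⟨e0⟩ := Groth.Agent.Lib.Helper13.ProjFormulaLF.projection_formula f
    (Coh.structureModule X) L hE 0
  obtain ⟨h0'⟩ := h0
  let z : Coh.Rpush f 0 ≅ Scheme.Modules.pushforward f :=
    (Scheme.Modules.pushforward f).rightDerivedZeroIsoSelf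
  let i1 : (Scheme.Modules.pushforward f).obj ((Scheme.Modules.pullback f).obj L) ≅ L :=
    (Scheme.Modules.pushforward f).mapIso eM.symm ≪≫ (z.app _).symm ≪≫ e0.symm ≪≫
      (Groth.Agent.Lib.Helper13.ProjFormulaLF.TL L).mapIso (z.app _ ≪≫ h0') ≪≫ eL
  -- cohomology
  have hb := Groth.Agent.Lib.Helper13.PushEdge.bijective_pushEdge f p
    ((Scheme.Modules.pullback f).obj L) hvan
  let E1 : Coh.HH Y ((Scheme.Modules.pushforward f).obj ((Scheme.Modules.pullback f).obj L)) p ≃+
      Coh.HH X ((Scheme.Modules.pullback f).obj L) p :=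
    AddEquiv.ofBijective (CohPull.pushEdge f _ p) hb
  let E2 : Coh.HH Y ((Scheme.Modules.pushforward f).obj ((Scheme.Modules.pullback f).obj L)) p ≃+
      Coh.HH Y L p :=
    ((Sheaf.functorH _ p).mapIso
      ((Groth.Agent.Lib.Helper13.SerreCrit1.TT Y).mapIso i1)).addCommGroupIsoToAddEquiv
  exact ⟨E1.symm.trans E2⟩

end Groth.Agent.S13626
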