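import Groth.Statements.S13631
import Mathlib

set_option autoImplicit false
universe u v w
open CAlg

namespace Groth.Agent.S13631

/-- Let k be a field, R an integral domain which is a k-algebra of infinite dimension over k, M a finite
free R-module, σ a ring automorphism of R mapping the image of k onto itself, and φ : M → M a
σ-semilinear map. If the cokernel of φ is finite-dimensional over k, in the sense that some finitely
generated k-subspace N of M satisfies M = N + φ(M), then φ is injective. -/
theorem result
    {k : Type u} {R : Type v} {M : Type w} [Field k] [CommRing R] [IsDomain R] [Algebra k R]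
    (hR : ¬ Module.Finite k R)
    [AddCommGroup M] [Module R M] [Module k M] [IsScalarTower k R M]
    [Module.Finite R M] [Module.Free R M]
    (σ : R ≃+* R)
    (hσ : ∀ x : k, ∃ y : k, σ (algebraMap k R x) = algebraMap k R y)
    (hσ' : ∀ y : k, ∃ x : k, σ (algebraMap k R x) = algebraMap k R y)
    (φ : M →ₛₗ[(σ : R →+* R)] M)
    (hcoker : ∃ N : Submodule k M, N.FG ∧ ∀ m : M, ∃ n ∈ N, ∃ m' : M, m = n + φ m') :
    Function.Injective φ := by
  classical
  obtain ⟨N, hNfg, hN⟩ := hcoker
  let b := Module.Free.chooseBasis R M
  let Alin : M →ₗ[R] M := b.constr R (fun j => φ (b j))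
  let Sfun : M → M := fun m => ∑ j, σ (b.repr m j) • b j
  have hAb : ∀ j, Alin (b j) = φ (b j) := fun j => by simp [Alin, Module.Basis.constr_basis]
  have hφ : ∀ m, φ m = Alin (Sfun m) := by
    intro m
    conv_lhs => rw [← b.sum_repr m]
    simp only [Sfun, map_sum, LinearMap.map_smulₛₗ, map_smul, hAb]
    rfl
  have hSinj : Function.Injective Sfun := by
    intro m m' h
    have h1 : ∀ j, σ (b.repr m j) = σ (b.repr m' j) := by
      intro j
      have h2 := congrArg (fun x => b.repr x j) h
      simpa [Sfun, map_sum, Finsupp.single_apply] using h2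
    apply b.repr.injective
    ext j
    exact σ.injective (h1 j)
  have hAinj : Function.Injective Alin := by
    let a := LinearMap.toMatrix b b Alin
    by_cases hdet : a.det = 0
    · exfalso
      obtain ⟨v, hv0, hva⟩ := Matrix.exists_vecMul_eq_zero_iff.mpr hdet
      let ℓ : M →ₗ[R] R := b.constr R v
      have hℓ : ∀ m, ℓ m = v ⬝ᵥ (b.repr m) := by
        intro m
        simp only [ℓ, Module.Basis.constr_apply_fintype, dotProduct, smul_eq_mul]
        exact Finset.sum_congr rfl (fun i _ => mul_comm _ _)
      have hℓA : ∀ m, ℓ (Alin m) = 0 := by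
        intro m
        rw [hℓ, ← LinearMap.toMatrix_mulVec_repr b b Alin m, Matrix.dotProduct_mulVec, hva,
          zero_dotProduct]
      obtain ⟨i, hi⟩ : ∃ i, v i ≠ 0 := by
        by_contra hcon
        push Not at hcon
        exact hv0 (funext hcon)
      have hℓb : ℓ (b i) = v i := by simp [ℓ, Module.Basis.constr_basis]
      let P : Submodule k R := N.map (ℓ.restrictScalars k)
      have hPfin : Module.Finite k P := Module.Finite.iff_fg.mpr (hNfg.map _)
      have hmem : ∀ r : R, (LinearMap.mulRight k (v i)) r ∈ P := by
        intro r
        obtain ⟨n, hn, m', hm'⟩ := hN (r • b i)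
        refine ⟨n, hn, ?_⟩
        show ℓ n = r * v i
        have h1 : ℓ (r • b i) = r * v i := by rw [map_smul, hℓb, smul_eq_mul]
        rw [← h1, hm', map_add, hφ, hℓA, add_zero]
      let g : R →ₗ[k] P := LinearMap.codRestrict P (LinearMap.mulRight k (v i)) hmem
      have hg : Function.Injective g := by
        intro r r' h
        have h1 : r * v i = r' * v i := congrArg Subtype.val h
        exact mul_right_cancel₀ hi h1
      exact hR (Module.Finite.of_injective g hg)
    · rw [injective_iff_map_eq_zero]
      intro m hm
      have h1 : a.mulVec (b.repr m) = 0 := by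
        rw [LinearMap.toMatrix_mulVec_repr b b Alin m, hm, map_zero]
        rfl
      have h2 := Matrix.eq_zero_of_mulVec_eq_zero hdet h1
      apply b.repr.injective
      rw [map_zero]
      ext j
      exact congrFun h2 j
  intro m m' h
  rw [hφ, hφ] at h
  exact hSinj (hAinj h)

end Groth.Agent.S13631
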