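import Groth.Statements.S13632
import Mathlib
import Groth.Agent.S11939

set_option autoImplicit false
universe u
open TensorProduct
open CAlg

namespace Groth.Agent.S13632


namespace S13632aux
open TensorProduct

universe uu

theorem mem_smul_top_of_tmul_eq_zero' {A : Type*} [CommRing A] (𝔪 : Ideal A) {K : Type*}
    [CommRing K] [Algebra A K]
    (hsurj : Function.Surjective (algebraMap A K)) (hker : ∀ a, algebraMap A K a = 0 ↔ a ∈ 𝔪)
    {B : Type*} [AddCommGroup B] [Module A B] (b : B)
    (hb : (1 : K) ⊗ₜ[A] b = 0) : b ∈ 𝔪 • (⊤ : Submodule A B) := by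
  have hex : Function.Exact (Submodule.subtype 𝔪 : 𝔪 →ₗ[A] A)
      (Algebra.linearMap A K) := by
    intro y
    rw [Algebra.linearMap_apply, hker]
    simp
  have hsurj' : Function.Surjective (Algebra.linearMap A K) := hsurj
  have hex2 := rTensor_exact B hex hsurj'
  have h1 : (LinearMap.rTensor B (Algebra.linearMap A K)) ((1 : A) ⊗ₜ b) = 0 := by
    rw [LinearMap.rTensor_tmul, Algebra.linearMap_apply, map_one]; exact hb
  obtain ⟨z, hz⟩ := (hex2 _).mp h1
  have h2 : ∀ z : 𝔪 ⊗[A] B, TensorProduct.lid A B
      (LinearMap.rTensor B (Submodule.subtype 𝔪) z) ∈ 𝔪 • (⊤ : Submodule A B) := by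
    intro z
    induction z using TensorProduct.induction_on with
    | zero => simp
    | tmul a b' =>
      rw [LinearMap.rTensor_tmul, TensorProduct.lid_tmul]
      exact Submodule.smul_mem_smul a.2 trivial
    | add x y hx hy => rw [map_add, map_add]; exact Submodule.add_mem _ hx hy
  have := h2 z
  rw [hz, TensorProduct.lid_tmul, one_smul] at this
  exact this

theorem surj_of_fibres {R A B : Type uu} [CommRing R] [CommRing A] [CommRing B] [Algebra R A]
    [Algebra R B] [Module.Finite R A] (f : B →ₐ[R] A)
    (hmax : ∀ (m : Ideal R) [m.IsMaximal],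
      Function.Surjective (LinearMap.lTensor m.ResidueField f.toLinearMap)) :
    Function.Surjective f := by
  have hN : LinearMap.range f.toLinearMap = ⊤ := by
    apply Groth.Agent.S11939.eq_top_of_forall_maximal_sup
    intro m hm
    haveI := hm
    rw [eq_top_iff]
    intro a _
    obtain ⟨y, hy⟩ := hmax m ((1 : m.ResidueField) ⊗ₜ a)
    obtain ⟨b, rfl⟩ := TensorProduct.mk_surjective R B m.ResidueField
      (Ideal.algebraMap_residueField_surjective m) y
    rw [TensorProduct.mk_apply, LinearMap.lTensor_tmul, AlgHom.toLinearMap_apply] at hy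
    have h0 : (1 : m.ResidueField) ⊗ₜ[R] (a - f b) = 0 := by
      rw [TensorProduct.tmul_sub, ← hy, sub_self]
    have h1 := Groth.Agent.S11939.mem_smul_top_of_tmul_eq_zero m (a - f b) h0
    have ha : a = f b + (a - f b) := by ring
    rw [ha]
    exact Submodule.add_mem_sup ⟨b, rfl⟩ h1
  intro a
  have h1 : a ∈ LinearMap.range f.toLinearMap := hN ▸ Submodule.mem_top
  obtain ⟨b, hb⟩ := h1
  exact ⟨b, hb⟩

theorem local_lemma {R' : Type uu} [CommRing R'] [IsLocalRing R'] {A' B' : Type uu}
    [CommRing A'] [CommRing B'] [Algebra R' A'] [Algebra R' B'] [Module.Finite R' A']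
    [Module.Flat R' A'] [Algebra.FiniteType R' B'] (f' : B' →ₐ[R'] A')
    (hf' : Function.Surjective f')
    (hrank : Module.rank (IsLocalRing.ResidueField R') (IsLocalRing.ResidueField R' ⊗[R'] B') =
       Module.rank (IsLocalRing.ResidueField R') (IsLocalRing.ResidueField R' ⊗[R'] A')) :
    ∃ r : B', r - 1 ∈ (IsLocalRing.maximalIdeal R').map (algebraMap R' B') ∧
      ∀ x, f' x = 0 → r * x = 0 := by
  classical
  haveI : Module.Free R' A' := Module.free_of_flat_of_isLocalRing
  haveI : Module.FinitePresentation R' A' := Module.finitePresentation_of_projective R' A'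
  haveI : Algebra.FinitePresentation R' A' := Algebra.FinitePresentation.of_finitePresentation R' A'
  have hfg : (RingHom.ker f'.toRingHom).FG := by
    letI : Algebra B' A' := f'.toRingHom.toAlgebra
    haveI : IsScalarTower R' B' A' :=
      IsScalarTower.of_algebraMap_eq (fun r => (f'.commutes r).symm)
    haveI : Algebra.FinitePresentation B' A' :=
      Algebra.FinitePresentation.of_restrict_scalars_finitePresentation R' B' A'
    exact Algebra.FinitePresentation.ker_fG_of_surjective (Algebra.ofId B' A') hf'
  obtain ⟨s, hs⟩ := Module.projective_lifting_property f'.toLinearMap LinearMap.id hf'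
  let P : B' →ₗ[R'] B' := LinearMap.id - s ∘ₗ f'.toLinearMap
  have hPker : ∀ b, f' (P b) = 0 := by
    intro b
    have h1 : f' (s (f' b)) = f' b := LinearMap.congr_fun hs (f' b)
    simp only [P, LinearMap.sub_apply, LinearMap.id_apply, LinearMap.comp_apply,
      AlgHom.toLinearMap_apply, map_sub, h1, sub_self]
  have hPid : ∀ x, f' x = 0 → P x = x := by
    intro x hx
    simp only [P, LinearMap.sub_apply, LinearMap.id_apply, LinearMap.comp_apply,
      AlgHom.toLinearMap_apply, hx, map_zero, sub_zero]
  let F : IsLocalRing.ResidueField R' ⊗[R'] B' →ₗ[IsLocalRing.ResidueField R']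
      IsLocalRing.ResidueField R' ⊗[R'] A' :=
    LinearMap.baseChange (IsLocalRing.ResidueField R') f'.toLinearMap
  have hFsurj : Function.Surjective F := by
    have : (F : _ → _) = LinearMap.lTensor (IsLocalRing.ResidueField R') f'.toLinearMap :=
      LinearMap.baseChange_eq_ltensor _
    rw [this]; exact LinearMap.lTensor_surjective _ hf'
  haveI : Module.Finite (IsLocalRing.ResidueField R') (IsLocalRing.ResidueField R' ⊗[R'] A') :=
    inferInstance
  haveI : Module.Finite (IsLocalRing.ResidueField R') (IsLocalRing.ResidueField R' ⊗[R'] B') := by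
    rw [← Module.rank_lt_aleph0_iff, hrank, Module.rank_lt_aleph0_iff]; infer_instance
  have hfin : Module.finrank (IsLocalRing.ResidueField R') (IsLocalRing.ResidueField R' ⊗[R'] B') =
      Module.finrank (IsLocalRing.ResidueField R') (IsLocalRing.ResidueField R' ⊗[R'] A') :=
    congrArg Cardinal.toNat hrank
  have hFinj : Function.Injective F :=
    (LinearMap.injective_iff_surjective_of_finrank_eq_finrank hfin).mpr hFsurj
  have hle : (RingHom.ker f'.toRingHom) ≤
      ((IsLocalRing.maximalIdeal R').map (algebraMap R' B')) • (RingHom.ker f'.toRingHom) := by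
    intro x hx
    have hx0 : f' x = 0 := hx
    have h1 : (1 : IsLocalRing.ResidueField R') ⊗ₜ[R'] x = 0 := by
      apply hFinj
      rw [map_zero]
      show LinearMap.baseChange _ f'.toLinearMap _ = 0
      rw [LinearMap.baseChange_tmul, AlgHom.toLinearMap_apply, hx0, TensorProduct.tmul_zero]
    have h2 : x ∈ IsLocalRing.maximalIdeal R' • (⊤ : Submodule R' B') :=
      mem_smul_top_of_tmul_eq_zero' (IsLocalRing.maximalIdeal R')
        (by rw [IsLocalRing.ResidueField.algebraMap_eq]; exact IsLocalRing.residue_surjective)
        (fun a => by rw [IsLocalRing.ResidueField.algebraMap_eq]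
                     exact IsLocalRing.residue_eq_zero_iff a) x h1
    have h3 : P x ∈ (IsLocalRing.maximalIdeal R' • (⊤ : Submodule R' B')).map P :=
      Submodule.mem_map_of_mem h2
    rw [Submodule.map_smul'', hPid x hx0] at h3
    have h4 : IsLocalRing.maximalIdeal R' • (Submodule.map P ⊤) ≤
        (((IsLocalRing.maximalIdeal R').map (algebraMap R' B')) •
          (RingHom.ker f'.toRingHom)).restrictScalars R' := by
      rw [Submodule.smul_le]
      intro a ha y hy
      obtain ⟨b, _, rfl⟩ := hy
      rw [Submodule.restrictScalars_mem, ← algebraMap_smul B' a (P b)]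
      exact Submodule.smul_mem_smul (Ideal.mem_map_of_mem (algebraMap R' B') ha)
        (show P b ∈ RingHom.ker f'.toRingHom from hPker b)
    exact h4 h3
  obtain ⟨r, hr1, hr0⟩ :=
    Submodule.exists_sub_one_mem_and_smul_eq_zero_of_fg_of_le_smul _ _ hfg hle
  exact ⟨r, hr1, fun x hx => hr0 x hx⟩

theorem main_aux {R A B : Type uu} [CommRing R] [CommRing A] [CommRing B] [Algebra R A]
    [Algebra R B] [Module.Finite R A] [Module.Flat R A] [Algebra.FiniteType R B]
    (f : B →ₐ[R] A) (hsurj : Function.Surjective f) (x : B) (hx : f x = 0)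
    (q : Ideal B) [q.IsPrime] (p : Ideal R) [p.IsPrime] (hpq : p = q.comap (algebraMap R B))
    (hrank : Module.rank p.ResidueField (p.ResidueField ⊗[R] B) =
        Module.rank p.ResidueField (p.ResidueField ⊗[R] A)) :
    ∃ t, t ∉ q ∧ t * x = 0 := by
  classical
  let f' : (Localization.AtPrime p) ⊗[R] B →ₐ[Localization.AtPrime p]
      (Localization.AtPrime p) ⊗[R] A :=
    Algebra.TensorProduct.map (AlgHom.id (Localization.AtPrime p) (Localization.AtPrime p)) f
  have hf' : Function.Surjective f' := by
    intro y
    induction y using TensorProduct.induction_on with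
    | zero => exact ⟨0, map_zero _⟩
    | tmul a b =>
      obtain ⟨c, rfl⟩ := hsurj b
      exact ⟨a ⊗ₜ c, by simp [f']⟩
    | add y z hy hz =>
      obtain ⟨y', rfl⟩ := hy
      obtain ⟨z', rfl⟩ := hz
      exact ⟨y' + z', map_add _ _ _⟩
  have hrank' : Module.rank (IsLocalRing.ResidueField (Localization.AtPrime p))
      (IsLocalRing.ResidueField (Localization.AtPrime p) ⊗[Localization.AtPrime p]
        ((Localization.AtPrime p) ⊗[R] B)) =
      Module.rank (IsLocalRing.ResidueField (Localization.AtPrime p))
      (IsLocalRing.ResidueField (Localization.AtPrime p) ⊗[Localization.AtPrime p]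
        ((Localization.AtPrime p) ⊗[R] A)) := by
    have e1 := (AlgebraTensorModule.cancelBaseChange R (Localization.AtPrime p)
      p.ResidueField p.ResidueField B).rank_eq
    have e2 := (AlgebraTensorModule.cancelBaseChange R (Localization.AtPrime p)
      p.ResidueField p.ResidueField A).rank_eq
    exact e1.trans (hrank.trans e2.symm)
  obtain ⟨r, hr1, hr0⟩ := local_lemma f' hf' hrank'
  let φ : Localization.AtPrime p →ₐ[R] Localization.AtPrime q :=
    { Localization.localRingHom p q (algebraMap R B) hpq with
      commutes' := fun a => by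
        show Localization.localRingHom p q (algebraMap R B) hpq
          (algebraMap R (Localization.AtPrime p) a) = algebraMap R (Localization.AtPrime q) a
        rw [Localization.localRingHom_to_map,
          IsScalarTower.algebraMap_apply R B (Localization.AtPrime q)] }
  have hφm : ∀ a ∈ IsLocalRing.maximalIdeal (Localization.AtPrime p),
      φ a ∈ IsLocalRing.maximalIdeal (Localization.AtPrime q) := by
    intro a ha
    rw [IsLocalRing.mem_maximalIdeal, mem_nonunits_iff] at ha ⊢
    intro hu
    exact ha (isUnit_of_map_unit (Localization.localRingHom p q (algebraMap R B) hpq) a hu)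
  let lam : (Localization.AtPrime p) ⊗[R] B →ₐ[R] Localization.AtPrime q :=
    Algebra.TensorProduct.productMap φ (IsScalarTower.toAlgHom R B (Localization.AtPrime q))
  have hlamJ : (IsLocalRing.maximalIdeal (Localization.AtPrime p)).map
      (algebraMap (Localization.AtPrime p) ((Localization.AtPrime p) ⊗[R] B)) ≤
      (IsLocalRing.maximalIdeal (Localization.AtPrime q)).comap lam.toRingHom := by
    rw [Ideal.map_le_iff_le_comap]
    intro a ha
    rw [Ideal.mem_comap, Ideal.mem_comap]
    have : lam.toRingHom (algebraMap (Localization.AtPrime p)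
        ((Localization.AtPrime p) ⊗[R] B) a) = φ a := by
      simp [lam, Algebra.TensorProduct.algebraMap_apply]
    rw [this]
    exact hφm a ha
  have h1 : lam r - 1 ∈ IsLocalRing.maximalIdeal (Localization.AtPrime q) := by
    have := hlamJ hr1
    rw [Ideal.mem_comap] at this
    simpa using this
  have hunit : IsUnit (lam r) := by
    apply IsLocalRing.isUnit_of_mem_nonunits_one_sub_self
    have h2 : 1 - lam r ∈ IsLocalRing.maximalIdeal (Localization.AtPrime q) := by
      have := Ideal.neg_mem_iff _ |>.mpr h1
      simpa using this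
    exact h2
  have h3 : f' ((1 : Localization.AtPrime p) ⊗ₜ[R] x) = 0 := by
    simp [f', hx]
  have h4 := hr0 _ h3
  have h5 : lam r * algebraMap B (Localization.AtPrime q) x = 0 := by
    have := congrArg lam h4
    rw [map_mul, map_zero] at this
    simpa [lam] using this
  have h6 : algebraMap B (Localization.AtPrime q) x = 0 := (hunit.mul_right_eq_zero).mp h5
  obtain ⟨t, ht⟩ := (IsLocalization.map_eq_zero_iff q.primeCompl (Localization.AtPrime q) x).mp h6
  exact ⟨t.1, t.2, ht⟩

theorem main {R A B : Type uu} [CommRing R] [CommRing A] [CommRing B] [Algebra R A] [Algebra R B]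
    [Module.Finite R A] [Module.Flat R A] [Algebra.FiniteType R B]
    (f : B →ₐ[R] A)
    (hrank : ∀ p : PrimeSpectrum R,
      Module.rank p.asIdeal.ResidueField (p.asIdeal.ResidueField ⊗[R] B) =
        Module.rank p.asIdeal.ResidueField (p.asIdeal.ResidueField ⊗[R] A))
    (hsurj : Function.Surjective f) : Function.Injective f := by
  classical
  rw [injective_iff_map_eq_zero]
  intro x hx
  by_contra hx0
  have hKmem : ∀ t, t ∈ (Submodule.span B {x}).annihilator ↔ t * x = 0 := fun t => by
    rw [Submodule.mem_annihilator_span_singleton, smul_eq_mul]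
  have hK : (Submodule.span B {x}).annihilator ≠ ⊤ := by
    intro h1
    have : (1 : B) ∈ (Submodule.span B {x}).annihilator := h1 ▸ Submodule.mem_top
    rw [hKmem, one_mul] at this
    exact hx0 this
  obtain ⟨q, hq, hKq⟩ := Ideal.exists_le_maximal _ hK
  haveI := hq.isPrime
  haveI : (q.comap (algebraMap R B)).IsPrime := Ideal.comap_isPrime _ _
  obtain ⟨t, htq, htx⟩ := main_aux f hsurj x hx q (q.comap (algebraMap R B)) rfl
    (hrank ⟨q.comap (algebraMap R B), inferInstance⟩)
  exact htq (hKq ((hKmem t).mpr htx))

end S13632aux

/-- Let S = Spec R, X = Spec A finite and flat over S, Y = Spec B of finite type over S, and φ : X → Y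
an S-morphism given by f : B → A. If for every point s of S the fibres X_s and Y_s have the same
order (the κ(s)-dimension of their rings of global sections κ(s) ⊗ A and κ(s) ⊗ B; equivalently at
every geometric point) and φ is an isomorphism over every closed point of S (κ(m) ⊗ f bijective for
every maximal ideal m), then φ is an isomorphism, i.e. f is bijective. (The published statement
allows an arbitrary base scheme S and Y separated of finite type over S; this row is the case of an
affine base with X and Y affine, the case its proof treats directly. Over a base with no closed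
points the general statement fails: the hypothesis at closed points is then empty.) -/
theorem result
    {R A B : Type u} [CommRing R] [CommRing A] [CommRing B] [Algebra R A] [Algebra R B]
    [Module.Finite R A] [Module.Flat R A] [Algebra.FiniteType R B]
    (f : B →ₐ[R] A)
    (hrank : ∀ p : PrimeSpectrum R,
      Module.rank p.asIdeal.ResidueField (p.asIdeal.ResidueField ⊗[R] B) =
        Module.rank p.asIdeal.ResidueField (p.asIdeal.ResidueField ⊗[R] A))
    (hmax : ∀ (m : Ideal R) [m.IsMaximal],
      Function.Bijective (LinearMap.lTensor m.ResidueField f.toLinearMap)) :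
    Function.Bijective f := by
  have hsurj : Function.Surjective f := S13632aux.surj_of_fibres f (fun m _ => (hmax m).2)
  exact ⟨S13632aux.main f hrank hsurj, hsurj⟩

end Groth.Agent.S13632
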