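import Groth.Statements.S13634
import Mathlib.CategoryTheory.Sites.LocallySurjective
import Mathlib.CategoryTheory.Sites.EpiMono

set_option autoImplicit false
universe u
open CategoryTheory CategoryTheory.Limits MonoidalCategory CartesianMonoidalCategory MonObj AlgebraicGeometry
open MultSch

namespace Groth.Agent.S13634

open CategoryTheory CategoryTheory.Limits Opposite MonObj MonoidalCategory
  CartesianMonoidalCategory AlgebraicGeometry CGrpSh in
theorem comp_tuple {C : Type*} [Category C] [CartesianMonoidalCategory C] [BraidedCategory C]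
    {M T T' : C} (f : T' ⟶ T) :
    ∀ {n : ℕ} (x : Fin n → (T ⟶ M)), f ≫ MultSch.tuple x = MultSch.tuple (fun l => f ≫ x l)
  | 0, _ => toUnit_unique _ _
  | n + 1, x => by
    change f ≫ (lift (x 0) (MultSch.tuple fun i => x i.succ) : T ⟶ M ⊗ MultSch.pow M n) =
      (lift (f ≫ x 0) (MultSch.tuple fun i => f ≫ x i.succ) : T' ⟶ M ⊗ MultSch.pow M n)
    exact (comp_lift f _ _).trans (by rw [comp_tuple f])

open CategoryTheory CategoryTheory.Limits Opposite MonObj MonoidalCategory
  CartesianMonoidalCategory AlgebraicGeometry CGrpSh in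
theorem main
    {S : Scheme.{u}} {M M'' H : Over S}
    [GrpObj M] [IsCommMonObj M] [GrpObj M''] [IsCommMonObj M''] [GrpObj H] [IsCommMonObj H]
    (π : M ⟶ M'') [IsMonHom π] (hπ : Epi (CGrpSh.ptsMap Scheme.fppfPrecoverage π))
    {r : ℕ} (φ : MultSch.pow M'' r ⟶ H)
    (halt : ∀ (T : Over S) (x : Fin r → (T ⟶ M)) (i j : Fin r), i ≠ j → x i = x j →
      MultSch.tuple (fun l => x l ≫ π) ≫ φ = 1) :
    MultSch.IsAlternating φ := by
  classical
  intro T x i j hij hx
  haveI hls : Sheaf.IsLocallySurjective (ptsMap Scheme.fppfPrecoverage π) :=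
    (Sheaf.isLocallySurjective_iff_epi' _ _).2 hπ
  let s : Fin r → (pts Scheme.fppfPrecoverage M'').obj.obj (op T) :=
    fun l => ULift.up (Additive.ofMul (x l))
  let R' : Fin r → Sieve T := fun l =>
    Presheaf.imageSieve (ptsMap Scheme.fppfPrecoverage π).hom (U := T) (s l)
  have hmem : ∀ l, R' l ∈ (QuotSh.J Scheme.fppfPrecoverage S) T := fun l =>
    Presheaf.imageSieve_mem (QuotSh.J Scheme.fppfPrecoverage S)
      (ptsMap Scheme.fppfPrecoverage π).hom (U := op T) (s l)
  let R : Sieve T := Finset.univ.inf R'
  have hR : R ∈ (QuotSh.J Scheme.fppfPrecoverage S) T := by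
    refine Finset.inf_induction (p := fun Q : Sieve T => Q ∈ (QuotSh.J Scheme.fppfPrecoverage S) T)
      ((QuotSh.J Scheme.fppfPrecoverage S).top_mem T)
      (fun a ha b hb => (QuotSh.J Scheme.fppfPrecoverage S).intersection_covering ha hb)
      (fun l _ => hmem l)
  have hsep := ((GrothendieckTopology.Subcanonical.isSheaf_of_isRepresentable
    (J := QuotSh.J Scheme.fppfPrecoverage S) (yoneda.obj H)).isSeparated R hR)
  refine hsep.ext ?_
  intro T' f hf
  change f ≫ (MultSch.tuple x ≫ φ) = f ≫ 1
  have hf' : ∀ l, R' l f := fun l => (Finset.inf_le (Finset.mem_univ l) : R ≤ R' l) _ hf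
  choose t ht using hf'
  let y : Fin r → (T' ⟶ M) := fun l => (t l).down.toMul
  have hy : ∀ l, y l ≫ π = f ≫ x l := by
    intro l
    have h1 := congrArg (fun z => (ULift.down z).toMul) (ht l)
    exact h1
  let y' : Fin r → (T' ⟶ M) := fun l => if l = j then y i else y l
  have hy' : ∀ l, y' l ≫ π = f ≫ x l := by
    intro l
    by_cases hl : l = j
    · subst hl
      simp only [y', if_true]
      rw [hy i, hx]
    · simp only [y', if_neg hl]
      exact hy l
  have hij' : y' i = y' j := by
    simp only [y', if_neg hij, if_true]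
  have h2 := halt T' y' i j hij hij'
  rw [MonObj.comp_one, ← Category.assoc, comp_tuple, ← h2]
  congr 2
  funext l
  exact (hy' l).symm

/-- Let π : M → M'' be a homomorphism of commutative group schemes over a scheme S which is an
epimorphism of fppf sheaves, H a commutative group scheme over S and φ : (M'')^r → H a multilinear
morphism. If the composite of φ with π^r : M^r → (M'')^r is alternating, then φ is alternating. (The
published statement is for module schemes over a ring R and an R-multilinear φ; the ring action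
plays no role, so this row states it for commutative group schemes, which contains that case.) -/
theorem result
    {S : Scheme.{u}} {M M'' H : Over S}
    [GrpObj M] [IsCommMonObj M] [GrpObj M''] [IsCommMonObj M''] [GrpObj H] [IsCommMonObj H]
    (π : M ⟶ M'') [IsMonHom π] (hπ : Epi (CGrpSh.ptsMap Scheme.fppfPrecoverage π))
    {r : ℕ} (φ : MultSch.pow M'' r ⟶ H) (hφ : MultSch.IsMultilinear φ)
    (halt : ∀ (T : Over S) (x : Fin r → (T ⟶ M)) (i j : Fin r), i ≠ j → x i = x j →
      MultSch.tuple (fun l => x l ≫ π) ≫ φ = 1) :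
    MultSch.IsAlternating φ := by
  exact main π hπ φ halt

end Groth.Agent.S13634
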