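import Groth.Statements.S13663
import Mathlib

set_option autoImplicit false
universe u
open GrRing

namespace Groth.Agent.S13663

/-- Let A be a commutative ring graded by the integers whose ideal generated by the homogeneous elements
of positive degree has homogeneous generators f_1, …, f_p, of positive degrees d_1, …, d_p, and let
d be a positive integer divisible by each d_i. Then A_N = A_d · A_{N-d} for every integer N > dp -
(d_1 + ⋯ + d_p). -/
theorem result {R A : Type u} [CommRing R] [CommRing A] [Algebra R A]
    (𝒜 : ℤ → Submodule R A) [GradedAlgebra 𝒜]
    {p : ℕ} (f : Fin p → A) (deg : Fin p → ℤ) (hdeg : ∀ i, 0 < deg i) (hf : ∀ i, f i ∈ 𝒜 (deg i))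
    (hgen : Ideal.span {a : A | ∃ n : ℤ, 0 < n ∧ a ∈ 𝒜 n} = Ideal.span (Set.range f))
    (d : ℤ) (hd : 0 < d) (hdvd : ∀ i, deg i ∣ d) (N : ℤ) (hN : d * p - ∑ i, deg i < N) :
    𝒜 N = 𝒜 d * 𝒜 (N - d) := by
  classical
  have hq : ∀ i, ∃ q : ℕ, deg i * (q : ℤ) = d := by
    intro i
    obtain ⟨c, hc⟩ := hdvd i
    have hcpos : 0 < c := by
      by_contra h
      push_neg at h
      have : deg i * c ≤ 0 := mul_nonpos_of_nonneg_of_nonpos (hdeg i).le h
      omega
    exact ⟨c.toNat, by rw [Int.toNat_of_nonneg hcpos.le]; exact hc.symm⟩
  choose q hq using hq
  have bound : ∀ M : ℤ, M ≤ 0 → ∀ e : Fin p → ℕ, (∀ i, e i < q i) →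
      M + ∑ i, (e i : ℤ) * deg i ≤ d * p - ∑ i, deg i := by
    intro M hM e he
    have h1 : ∑ i, (e i : ℤ) * deg i ≤ ∑ i, (d - deg i) := by
      apply Finset.sum_le_sum
      intro i _
      have h2 : (e i : ℤ) + 1 ≤ q i := by exact_mod_cast he i
      have h3 : ((e i : ℤ) + 1) * deg i ≤ q i * deg i := mul_le_mul_of_nonneg_right h2 (hdeg i).le
      have h4 := hq i
      nlinarith
    have h5 : ∑ i : Fin p, (d - deg i) = d * p - ∑ i, deg i := by
      rw [Finset.sum_sub_distrib]
      simp [mul_comm]
    linarith
  apply le_antisymm
  · have claim : ∀ n : ℕ, ∀ M : ℤ, M ≤ n → ∀ e : Fin p → ℕ, (∀ i, e i < q i) →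
        d * p - ∑ i, deg i < M + ∑ i, (e i : ℤ) * deg i → ∀ a ∈ 𝒜 M,
        (∏ i, f i ^ e i) * a ∈ 𝒜 d * 𝒜 (M + ∑ i, (e i : ℤ) * deg i - d) := by
      intro n
      induction n with
      | zero =>
        intro M hM e he hlt a ha
        exact absurd hlt (not_lt.mpr (bound M (by simpa using hM) e he))
      | succ n ih =>
        intro M hM e he hlt a ha
        by_cases hM0 : M ≤ 0
        · exact absurd hlt (not_lt.mpr (bound M hM0 e he))
        push_neg at hM0
        have hmem : a ∈ Ideal.span {a : A | ∃ n : ℤ, 0 < n ∧ a ∈ 𝒜 n} :=
          Ideal.subset_span ⟨M, hM0, ha⟩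
        rw [hgen] at hmem
        obtain ⟨c, hc⟩ := Ideal.mem_span_range_iff_exists_fun.mp hmem
        have ha' : a = ∑ i, (DirectSum.decompose 𝒜 (c i) (M - deg i) : A) * f i := by
          conv_lhs => rw [← DirectSum.decompose_of_mem_same 𝒜 ha]
          rw [← hc, DirectSum.decompose_sum, DFinsupp.finset_sum_apply,
            AddSubmonoidClass.coe_finset_sum]
          apply Finset.sum_congr rfl
          intro i _
          have := DirectSum.coe_decompose_mul_add_of_right_mem 𝒜 (i := M - deg i) (j := deg i)
            (a := c i) (hf i)
          rwa [sub_add_cancel] at this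
        rw [ha', Finset.mul_sum]
        apply Submodule.sum_mem
        intro i _
        set b := (DirectSum.decompose 𝒜 (c i) (M - deg i) : A) with hb
        have hbmem : b ∈ 𝒜 (M - deg i) := SetLike.coe_mem _
        by_cases hei : e i + 1 < q i
        · have hprod : ∏ k, f k ^ (Function.update e i (e i + 1) k) = (∏ k, f k ^ e k) * f i := by
            have : ∀ k, f k ^ (Function.update e i (e i + 1) k) =
                f k ^ e k * (if k = i then f i else 1) := by
              intro k
              by_cases hk : k = i
              · subst hk; simp [pow_succ]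
              · simp [Function.update_of_ne hk, hk]
            simp_rw [this, Finset.prod_mul_distrib]
            simp
          have hsum : ∑ k, ((Function.update e i (e i + 1) k : ℕ) : ℤ) * deg k =
              ∑ k, (e k : ℤ) * deg k + deg i := by
            have : ∀ k, ((Function.update e i (e i + 1) k : ℕ) : ℤ) * deg k =
                (e k : ℤ) * deg k + (if k = i then deg i else 0) := by
              intro k
              by_cases hk : k = i
              · subst hk; simp; ring
              · simp [Function.update_of_ne hk, hk]
            simp_rw [this, Finset.sum_add_distrib]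
            simp
          have key := ih (M - deg i) (by have := hdeg i; push_cast at hM; omega)
            (Function.update e i (e i + 1))
            (by
              intro k
              by_cases hk : k = i
              · subst hk; simpa using hei
              · simpa [Function.update_of_ne hk] using he k)
            (by rw [hsum]; linarith) b hbmem
          rw [hprod, hsum] at key
          have e1 : M - deg i + (∑ k, (e k : ℤ) * deg k + deg i) - d =
              M + ∑ k, (e k : ℤ) * deg k - d := by ring
          rw [e1] at key
          have e2 : (∏ i, f i ^ e i) * (b * f i) = (∏ k, f k ^ e k) * f i * b := by ring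
          rw [e2]
          exact key
        · have heq : e i + 1 = q i := by have := he i; omega
          have hP := Finset.mul_prod_erase Finset.univ (fun k => f k ^ e k) (Finset.mem_univ i)
          have hS := Finset.add_sum_erase Finset.univ (fun k => (e k : ℤ) * deg k) (Finset.mem_univ i)
          have e2 : (∏ i, f i ^ e i) * (b * f i) =
              f i ^ q i * ((∏ k ∈ Finset.univ.erase i, f k ^ e k) * b) := by
            rw [← hP, ← heq, pow_succ]; ring
          rw [e2]
          apply Submodule.mul_mem_mul
          · have := SetLike.pow_mem_graded (q i) (hf i)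
            have e3 : (q i) • deg i = d := by rw [nsmul_eq_mul, mul_comm]; exact hq i
            rwa [e3] at this
          · have h1 := SetLike.prod_pow_mem_graded 𝒜 deg f e (F := Finset.univ.erase i)
              (fun k _ => hf k)
            have h2 := SetLike.mul_mem_graded h1 hbmem
            have e4 : ∑ k ∈ Finset.univ.erase i, e k • deg k + (M - deg i) =
                M + ∑ k, (e k : ℤ) * deg k - d := by
              have : ∑ k ∈ Finset.univ.erase i, e k • deg k =
                  ∑ k ∈ Finset.univ.erase i, (e k : ℤ) * deg k := by
                apply Finset.sum_congr rfl; intro k _; rw [nsmul_eq_mul]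
              rw [this, ← hS]
              have h5 := hq i
              have h6 : (q i : ℤ) = e i + 1 := by exact_mod_cast heq.symm
              rw [h6] at h5
              linarith
            rwa [e4] at h2
    intro a ha
    have := claim N.toNat N (Int.self_le_toNat N) (fun _ => 0)
      (fun i => by
        have h1 := hq i
        by_contra h
        push_neg at h
        have : q i = 0 := by omega
        rw [this] at h1
        simp at h1
        omega)
      (by simpa using hN) a ha
    simpa using this
  · rw [Submodule.mul_le]
    intro m hm n hn
    have := SetLike.mul_mem_graded hm hn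
    rwa [add_sub_cancel] at this

end Groth.Agent.S13663
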