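import Groth.Statements.S13664
import Mathlib
import Groth.Agent.S13663

set_option autoImplicit false
universe u
open GrRing

namespace Groth.Agent.S13664

/-- Let A be a commutative ring graded by the integers whose ideal I generated by the homogeneous
elements of positive degree has homogeneous generators f_1, …, f_p, of positive degrees d_1, …, d_p,
let d be a positive integer divisible by each d_i, and let x be an element of an A-module M. The
following are equivalent: x is annihilated by some power of I; x is annihilated by (A_d)^n for all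
sufficiently large n; there is an integer s such that A_n x = 0 for all n ≥ s. (The published
statement is for a homogeneous element of a graded module; this row drops both the grading of M and
the homogeneity of x, which play no role.) -/
theorem result {R A : Type u} [CommRing R] [CommRing A] [Algebra R A]
    (𝒜 : ℤ → Submodule R A) [GradedAlgebra 𝒜]
    {p : ℕ} (f : Fin p → A) (deg : Fin p → ℤ) (hdeg : ∀ i, 0 < deg i) (hf : ∀ i, f i ∈ 𝒜 (deg i))
    (hgen : Ideal.span {a : A | ∃ n : ℤ, 0 < n ∧ a ∈ 𝒜 n} = Ideal.span (Set.range f))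
    (d : ℤ) (hd : 0 < d) (hdvd : ∀ i, deg i ∣ d)
    {M : Type u} [AddCommGroup M] [Module A M] (x : M) :
    [x ∈ GrLC.gam (Ideal.span (Set.range f)) M,
     ∃ n₀ : ℕ, ∀ n : ℕ, n₀ ≤ n → ∀ r ∈ (𝒜 d) ^ n, r • x = 0,
     ∃ s : ℤ, ∀ n : ℤ, s ≤ n → ∀ r ∈ 𝒜 n, r • x = 0].TFAE := by
  classical
  have hq : ∀ i, ∃ q : ℕ, deg i * (q : ℤ) = d := by
    intro i
    obtain ⟨c, hc⟩ := hdvd i
    have hcpos : 0 < c := by
      by_contra h
      push_neg at h
      have : deg i * c ≤ 0 := mul_nonpos_of_nonneg_of_nonpos (hdeg i).le h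
      omega
    exact ⟨c.toNat, by rw [Int.toNat_of_nonneg hcpos.le]; exact hc.symm⟩
  choose q hq using hq
  have hpowle : ∀ n : ℕ, (𝒜 d) ^ n ≤ 𝒜 (n • d) := by
    intro n
    induction n with
    | zero =>
      rw [pow_zero, zero_smul, Submodule.one_le]
      exact SetLike.GradedOne.one_mem
    | succ n ih =>
      rw [pow_succ, Submodule.mul_le]
      intro a ha b hb
      have := SetLike.mul_mem_graded (ih ha) hb
      rwa [succ_nsmul]
  have hposI : ∀ n : ℤ, 0 < n → ∀ a ∈ 𝒜 n, a ∈ Ideal.span (Set.range f) := by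
    intro n hn a ha
    rw [← hgen]
    exact Ideal.subset_span ⟨n, hn, ha⟩
  have hAI : ∀ k : ℕ, ∀ n : ℤ, d * p - ∑ i, deg i + k * d < n →
      ∀ a ∈ 𝒜 n, a ∈ Ideal.span (Set.range f) ^ k := by
    intro k
    induction k with
    | zero => intro n _ a _; simp
    | succ k ih =>
      intro n hn a ha
      have hn' : d * p - ∑ i, deg i < n := by
        have : (0 : ℤ) ≤ ((k + 1 : ℕ) : ℤ) * d := by positivity
        linarith
      rw [Groth.Agent.S13663.result 𝒜 f deg hdeg hf hgen d hd hdvd n hn'] at ha
      refine Submodule.mul_induction_on ha ?_ ?_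
      · intro m hm m' hm'
        rw [pow_succ']
        apply Ideal.mul_mem_mul (hposI d hd m hm)
        apply ih (n - d) _ m' hm'
        push_cast at hn
        linarith
      · intro x y hx hy
        exact Ideal.add_mem _ hx hy
  tfae_have 1 → 3 := by
    rintro ⟨k, hk⟩
    refine ⟨d * p - ∑ i, deg i + k * d + 1, fun n hn r hr => ?_⟩
    exact hk r (hAI k n (by linarith) r hr)
  tfae_have 3 → 2 := by
    rintro ⟨s, hs⟩
    refine ⟨s.toNat, fun n hn r hr => ?_⟩
    apply hs (n • d) _ r (hpowle n hr)
    rw [nsmul_eq_mul]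
    have h1 : s ≤ (s.toNat : ℤ) := Int.self_le_toNat s
    have h2 : (s.toNat : ℤ) ≤ n := by exact_mod_cast hn
    have h3 : (n : ℤ) ≤ n * d := by nlinarith
    linarith
  tfae_have 2 → 1 := by
    rintro ⟨n₀, hn₀⟩
    let J : Ideal A := (Submodule.span A {x}).annihilator
    have hJ : ∀ r : A, r ∈ J ↔ r • x = 0 := by
      intro r
      simp only [J, Submodule.mem_annihilator_span_singleton]
    have hle : Ideal.span (Set.range f) ≤ J.radical := by
      rw [Ideal.span_le]
      rintro _ ⟨i, rfl⟩
      refine ⟨q i * n₀, ?_⟩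
      rw [hJ, pow_mul]
      apply hn₀ n₀ le_rfl
      apply Submodule.pow_mem_pow
      have := SetLike.pow_mem_graded (q i) (hf i)
      have e3 : (q i) • deg i = d := by rw [nsmul_eq_mul, mul_comm]; exact hq i
      rwa [e3] at this
    obtain ⟨k, hk⟩ := Ideal.exists_pow_le_of_le_radical_of_fg hle
      ⟨Finset.univ.image f, by simp⟩
    exact ⟨k, fun r hr => (hJ r).mp (hk hr)⟩
  tfae_finish

end Groth.Agent.S13664
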