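import Groth.Statements.S13665
import Mathlib
import Groth.Agent.Lib.Helper18.GradedNoeth

set_option autoImplicit false
universe u
open GrRing

namespace Groth.Agent.S13665

/-- For a commutative ring A graded by the integers, with degree-zero subring A_0, the following are
equivalent: A is Noetherian; each homogeneous ideal of A has a finite generating set; A_0 is
Noetherian and the subalgebras A_{≥0}, A_{≤0} are each of finite type over A_0; A_0 is Noetherian
and A is an A_0-algebra of finite type. -/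
theorem result {R A : Type u} [CommRing R] [CommRing A] [Algebra R A]
    (𝒜 : ℤ → Submodule R A) [GradedAlgebra 𝒜] :
    [IsNoetherianRing A,
     ∀ I : Ideal A, I.IsHomogeneous 𝒜 → I.FG,
     IsNoetherianRing (𝒜 0) ∧ (Algebra.adjoin (𝒜 0) {a : A | ∃ n : ℤ, 0 ≤ n ∧ a ∈ 𝒜 n}).FG ∧
       (Algebra.adjoin (𝒜 0) {a : A | ∃ n : ℤ, n ≤ 0 ∧ a ∈ 𝒜 n}).FG,
     IsNoetherianRing (𝒜 0) ∧ Algebra.FiniteType (𝒜 0) A].TFAE := by
  classical
  tfae_have 1 → 2 := fun h I _ => (isNoetherianRing_iff_ideal_fg A).mp h I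
  tfae_have 2 → 3 := by
    intro H
    refine ⟨Groth.Agent.Lib.Helper18.GradedNoeth.isNoetherianRing_zero 𝒜 H, ?_, ?_⟩
    · have := Groth.Agent.Lib.Helper18.GradedNoeth.adjoin_halfline_fg 𝒜 H 1 (by norm_num)
      simpa using this
    · have := Groth.Agent.Lib.Helper18.GradedNoeth.adjoin_halfline_fg 𝒜 H (-1) (by norm_num)
      simpa using this
  tfae_have 3 → 4 := by
    rintro ⟨h0, ⟨s1, hs1⟩, ⟨s2, hs2⟩⟩
    refine ⟨h0, ⟨⟨s1 ∪ s2, ?_⟩⟩⟩
    rw [eq_top_iff]
    intro a _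
    rw [← DirectSum.sum_support_decompose 𝒜 a]
    apply Subalgebra.sum_mem
    intro i _
    have hmem : (DirectSum.decompose 𝒜 a i : A) ∈ 𝒜 i := SetLike.coe_mem _
    rcases le_total 0 i with hi | hi
    · have h1 : (DirectSum.decompose 𝒜 a i : A) ∈
          Algebra.adjoin (𝒜 0) {a : A | ∃ n : ℤ, 0 ≤ n ∧ a ∈ 𝒜 n} :=
        Algebra.subset_adjoin ⟨i, hi, hmem⟩
      rw [← hs1] at h1
      exact Algebra.adjoin_mono (by simp) h1
    · have h1 : (DirectSum.decompose 𝒜 a i : A) ∈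
          Algebra.adjoin (𝒜 0) {a : A | ∃ n : ℤ, n ≤ 0 ∧ a ∈ 𝒜 n} :=
        Algebra.subset_adjoin ⟨i, hi, hmem⟩
      rw [← hs2] at h1
      exact Algebra.adjoin_mono (by simp) h1
  tfae_have 4 → 1 := by
    rintro ⟨h0, hft⟩
    exact Algebra.FiniteType.isNoetherianRing (𝒜 0) A
  tfae_finish

end Groth.Agent.S13665
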