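import Groth.Statements.S13682
import Mathlib

set_option autoImplicit false
universe u v w
open scoped BigOperators
open BTGrp

namespace Groth.Agent.S13682

section Aux

variable {A : Type u} [CommRing A]

/-- the "divided difference" sum -/
def Dsum {r : ℕ} {M : Fin r → Type v} {N : Type w} [∀ i, AddCommGroup (M i)] [∀ i, Module A (M i)]
    [AddCommGroup N] [Module A N] (φ : MultilinearMap A M N) (u v t : ∀ i, M i) : N :=
  ∑ i : Fin r, φ (fun k => if k < i then v k else if k = i then t k else u k)

theorem Dsum_succ {r : ℕ} {M : Fin (r + 1) → Type v} {N : Type w} [∀ i, AddCommGroup (M i)]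
    [∀ i, Module A (M i)] [AddCommGroup N] [Module A N] (φ : MultilinearMap A M N)
    (u v t : ∀ i, M i) :
    Dsum φ u v t = φ (Fin.cons (t 0) (fun k => u k.succ)) +
      Dsum (φ.curryLeft (v 0)) (fun k => u k.succ) (fun k => v k.succ) (fun k => t k.succ) := by
  unfold Dsum
  rw [Fin.sum_univ_succ]
  congr 1
  · congr 1
    funext k
    refine Fin.cases ?_ (fun k' => ?_) k
    · simp
    · simp [Fin.succ_ne_zero]
  · apply Finset.sum_congr rfl
    intro i _
    rw [MultilinearMap.curryLeft_apply]
    congr 1
    funext k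
    refine Fin.cases ?_ (fun k' => ?_) k
    · simp [Fin.succ_pos]
    · simp [Fin.succ_lt_succ_iff, Fin.succ_inj]

theorem Dsum_add_map {r : ℕ} {M : Fin r → Type v} {N : Type w} [∀ i, AddCommGroup (M i)]
    [∀ i, Module A (M i)] [AddCommGroup N] [Module A N] (φ ψ : MultilinearMap A M N)
    (u v t : ∀ i, M i) : Dsum (φ + ψ) u v t = Dsum φ u v t + Dsum ψ u v t := by
  unfold Dsum
  simp [Finset.sum_add_distrib]

theorem Dsum_smul_map {r : ℕ} {M : Fin r → Type v} {N : Type w} [∀ i, AddCommGroup (M i)]
    [∀ i, Module A (M i)] [AddCommGroup N] [Module A N] (a : A) (φ : MultilinearMap A M N)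
    (u v t : ∀ i, M i) : Dsum (a • φ) u v t = a • Dsum φ u v t := by
  unfold Dsum
  simp [Finset.smul_sum]

theorem smul_Dsum (α : A) : ∀ {r : ℕ} {M : Fin r → Type v} {N : Type w} [∀ i, AddCommGroup (M i)]
    [∀ i, Module A (M i)] [AddCommGroup N] [Module A N] (φ : MultilinearMap A M N)
    (u v t : ∀ i, M i) (_h : ∀ i, v i = u i + α • t i), α • Dsum φ u v t = φ v - φ u := by
  intro r
  induction r with
  | zero =>
    intro M N _ _ _ _ φ u v t _
    have : v = u := Subsingleton.elim _ _
    simp [Dsum, this]
  | succ r ih =>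
    intro M N _ _ _ _ φ u v t h
    rw [Dsum_succ, smul_add, ih (φ.curryLeft (v 0)) _ _ _ (fun k => h k.succ)]
    rw [MultilinearMap.curryLeft_apply, MultilinearMap.curryLeft_apply, ← MultilinearMap.cons_smul]
    have h0 : α • t 0 = v 0 - u 0 := by rw [h 0]; abel
    have hv : (Fin.cons (v 0) (fun k => v k.succ) : ∀ i, M i) = v := Fin.cons_self_tail v
    have hu : (Fin.cons (u 0) (fun k => u k.succ) : ∀ i, M i) = u := Fin.cons_self_tail u
    have hsub : φ (Fin.cons (v 0 - u 0) (fun k => u k.succ)) =
        φ (Fin.cons (v 0) (fun k => u k.succ)) - φ (Fin.cons (u 0) (fun k => u k.succ)) := by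
      have := MultilinearMap.cons_add φ (fun k => u k.succ) (v 0 - u 0) (u 0)
      rw [sub_add_cancel] at this
      rw [this]; abel
    rw [h0, hsub, hv, hu]
    abel

theorem Dsum_cocycle (α : A) : ∀ {r : ℕ} {M : Fin r → Type v} {N : Type w} [∀ i, AddCommGroup (M i)]
    [∀ i, Module A (M i)] [AddCommGroup N] [Module A N] (φ : MultilinearMap A M N)
    (u v x t s : ∀ i, M i) (_h : ∀ i, v i = u i + α • t i) (_h' : ∀ i, x i = v i + α • s i),
    Dsum φ u v t + Dsum φ v x s = Dsum φ u x (fun i => t i + s i) := by
  intro r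
  induction r with
  | zero =>
    intro M N _ _ _ _ φ u v x t s _ _
    simp [Dsum]
  | succ r ih =>
    intro M N _ _ _ _ φ u v x t s h h'
    rw [Dsum_succ φ u v t, Dsum_succ φ v x s, Dsum_succ φ u x]
    have ih' := ih (φ.curryLeft (x 0)) (fun k => u k.succ) (fun k => v k.succ) (fun k => x k.succ)
      (fun k => t k.succ) (fun k => s k.succ) (fun k => h k.succ) (fun k => h' k.succ)
    rw [← ih']
    have hx0 : φ.curryLeft (x 0) = φ.curryLeft (v 0) + α • φ.curryLeft (s 0) := by
      rw [h' 0, map_add, map_smul]
    have hA := smul_Dsum α (φ.curryLeft (s 0)) (fun k => u k.succ) (fun k => v k.succ)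
      (fun k => t k.succ) (fun k => h k.succ)
    rw [MultilinearMap.curryLeft_apply, MultilinearMap.curryLeft_apply] at hA
    simp only [hx0, Dsum_add_map, Dsum_smul_map]
    rw [hA, MultilinearMap.cons_add]
    abel

end Aux

/-- Let A be a commutative ring, α ∈ A a non-zero-divisor, M_1, …, M_r and N modules over A and φ : M_1
× ⋯ × M_r → N an A-multilinear map. Let n be a natural number and let y_{i,j} (j < n) and w_{i,j} (j
≤ n) be elements of M_i with w_{i,j+1} = w_{i,j} + α y_{i,j} for all i and all j < n. Then Σ_i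
Σ_{j<n} φ(w_{1,j+1}, …, w_{i-1,j+1}, y_{i,j}, w_{i+1,j}, …, w_{r,j}) = Σ_i Σ_{j<n} φ(w_{1,n}, …,
w_{i-1,n}, y_{i,j}, w_{i+1,0}, …, w_{r,0}). (The published statement takes n ≥ 1; for n = 0 both
sides are empty sums. The families y, w are indexed by all natural numbers here and only the indices
named above enter.) -/
theorem result {A : Type u} [CommRing A] (α : A) (hα : α ∈ nonZeroDivisors A)
    {r : ℕ} (M : Fin r → Type v) (N : Type w) [∀ i, AddCommGroup (M i)] [∀ i, Module A (M i)]
    [AddCommGroup N] [Module A N] (φ : MultilinearMap A M N) (n : ℕ)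
    (y w : ∀ i, ℕ → M i) (hw : ∀ i, ∀ j < n, w i (j + 1) = w i j + α • y i j) :
    (∑ i : Fin r, ∑ j ∈ Finset.range n,
        φ (fun k => if k < i then w k (j + 1) else if k = i then y k j else w k j)) =
      ∑ i : Fin r, ∑ j ∈ Finset.range n,
        φ (fun k => if k < i then w k n else if k = i then y k j else w k 0) := by
  classical
  have hwm : ∀ m, m ≤ n → ∀ k, w k m = w k 0 + α • ∑ j ∈ Finset.range m, y k j := by
    intro m
    induction m with
    | zero => intro _ k; simp
    | succ m ih =>
      intro hm k
      rw [hw k m (by omega), ih (by omega) k, Finset.sum_range_succ, smul_add, add_assoc]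
  have main : ∀ m, m ≤ n →
      ∑ j ∈ Finset.range m, Dsum φ (fun k => w k j) (fun k => w k (j + 1)) (fun k => y k j) =
        Dsum φ (fun k => w k 0) (fun k => w k m) (fun k => ∑ j ∈ Finset.range m, y k j) := by
    intro m
    induction m with
    | zero =>
      intro _
      simp only [Finset.range_zero, Finset.sum_empty]
      unfold Dsum
      symm
      apply Finset.sum_eq_zero
      intro i _
      exact φ.map_coord_zero i (by simp)
    | succ m ih =>
      intro hm
      rw [Finset.sum_range_succ, ih (by omega)]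
      rw [Dsum_cocycle α φ (fun k => w k 0) (fun k => w k m) (fun k => w k (m + 1))
        (fun k => ∑ j ∈ Finset.range m, y k j) (fun k => y k m)
        (fun k => hwm m (by omega) k) (fun k => hw k m (by omega))]
      congr 1
      funext k
      rw [Finset.sum_range_succ]
  have hupd : ∀ (i : Fin r) (Y : ∀ k, M k),
      (fun k => if k < i then w k n else if k = i then Y k else w k 0) =
        Function.update (fun k => if k < i then w k n else w k 0) i (Y i) := by
    intro i Y
    funext k
    by_cases hk : k = i
    · subst hk; simp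
    · simp [hk, Function.update_of_ne hk]
  have hR : ∀ i : Fin r, ∑ j ∈ Finset.range n,
      φ (fun k => if k < i then w k n else if k = i then y k j else w k 0) =
      φ (fun k => if k < i then w k n else if k = i then ∑ j ∈ Finset.range n, y k j else w k 0) := by
    intro i
    rw [hupd i (fun k => ∑ j ∈ Finset.range n, y k j), MultilinearMap.map_update_sum]
    apply Finset.sum_congr rfl
    intro j _
    rw [hupd i (fun k => y k j)]
  rw [Finset.sum_comm]
  have := main n le_rfl
  unfold Dsum at this
  rw [this]
  apply Finset.sum_congr rfl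
  intro i _
  rw [hR i]

end Groth.Agent.S13682
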