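import Groth.Statements.S13692
import Groth.Agent.Lib.Helper9.NDC

set_option autoImplicit false
universe u v w
open scoped TensorProduct
attribute [local instance] CSAGal.tensorAction GpH1.unitsAction
open GalCoh

namespace Groth.Agent.S13692

/-- Let K be a finite Galois extension of a field k with Galois group G = Aut_k(K), and A a
finite-dimensional associative unital k-algebra, not assumed simple or central. Then H¹(G, (K ⊗_k
A)ˣ) is trivial, G acting on K ⊗_k A through the first factor. (The published statement allows any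
Galois extension and reduces to the finite case by a direct limit; the finite case is stated.) -/
theorem result (k : Type u) [Field k] (K : Type v)
    [Field K] [Algebra k K] [FiniteDimensional k K] [IsGalois k K]
    (A : Type w) [Ring A] [Algebra k A] [FiniteDimensional k A] :
    GpH1.H1.IsTrivial (K ≃ₐ[k] K) (K ⊗[k] A)ˣ := by
  intro x
  obtain ⟨a, rfl⟩ := GpH1.OneCocycle.cl_surjective x
  unfold GpH1.H1.pt
  rw [GpH1.OneCocycle.cl_eq_cl_iff]
  obtain ⟨c, hc⟩ := Lib.Helper9.NDC.exists_unit_of_cocycle (k := k) (K := K) (A := A)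
    (fun σ => a σ) (fun σ τ => by
      have := a.2 σ τ
      change a (σ * τ) = a σ * σ • a τ at this
      rw [this, Units.val_mul]
      rfl)
  refine ⟨c, fun σ => ?_⟩
  change a σ = c⁻¹ * 1 * σ • c
  rw [mul_one]
  apply Units.ext
  rw [Units.val_mul]
  have h : ((σ • c : (K ⊗[k] A)ˣ) : K ⊗[k] A) = σ • (c : K ⊗[k] A) := rfl
  have h2 := hc σ
  rw [h]
  exact (by
    have h3 : (c⁻¹ : (K ⊗[k] A)ˣ).val * (σ • (c : K ⊗[k] A)) = (a σ : K ⊗[k] A) := by
      refine Eq.trans (congrArg (fun z => (c⁻¹ : (K ⊗[k] A)ˣ).val * z) h2) ?_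
      change (c⁻¹ : (K ⊗[k] A)ˣ).val * ((c : K ⊗[k] A) * (a σ : K ⊗[k] A)) = _
      rw [← mul_assoc, Units.inv_mul, one_mul]
    exact h3.symm)

end Groth.Agent.S13692
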