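import Mathlib
import Groth.Statements.S13698
import Groth.Agent.Lib.Helper20.PolLawKer

set_option autoImplicit false
universe u
open scoped TensorProduct
open ZeroCyc
open Groth.Agent.Lib.Helper20.PolLawKer

namespace Groth.Agent.S13698

section main

variable {A : Type u} [CommRing A] {B : Type u} [CommRing B] [Algebra A B]

/-- the universal test ring argument: a single denominator works for all test rings -/
theorem exists_smul_eq (F : B →ₚₗ[A] A) (M : Submonoid A) (A' : Type u) [CommRing A']
    [Algebra A A'] [IsLocalization M A'] {n : ℕ} (s : Fin n → B)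
    (hs : Submodule.span A (Set.range s) = ⊤) (b : B)
    (hb : (1 : A') ⊗ₜ[A] b ∈ PolLaw.kerBC F A') :
    ∃ m : M, ∀ (S : Type u) [CommSemiring S] [Algebra A S] (x w : S ⊗[A] B),
      (m : A) • F.toFun' S (x + w * ((1 : S) ⊗ₜ[A] b)) = (m : A) • F.toFun' S x := by
  have hloc : IsLocalizedModule M (TensorProduct.mk A A' (MvPolynomial (Fin n ⊕ Fin n) A) 1) :=
    (isLocalizedModule_iff_isBaseChange M A' _).mpr (TensorProduct.isBaseChange A _ A')
  let x₀ : MvPolynomial (Fin n ⊕ Fin n) A ⊗[A] B :=
    ∑ i, (MvPolynomial.X (Sum.inl i) : MvPolynomial (Fin n ⊕ Fin n) A) ⊗ₜ[A] s i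
  let w₀ : MvPolynomial (Fin n ⊕ Fin n) A ⊗[A] B :=
    ∑ i, (MvPolynomial.X (Sum.inr i) : MvPolynomial (Fin n ⊕ Fin n) A) ⊗ₜ[A] s i
  let j : MvPolynomial (Fin n ⊕ Fin n) A →ₐ[A] A' ⊗[A] MvPolynomial (Fin n ⊕ Fin n) A :=
    Algebra.TensorProduct.includeRight
  let jB := Algebra.TensorProduct.map j (AlgHom.id A B)
  have h1 := (mem_kerBC_iff F A' _).mp hb (A' ⊗[A] MvPolynomial (Fin n ⊕ Fin n) A) (jB x₀) (jB w₀)
  have hθ : Algebra.TensorProduct.map
      (IsScalarTower.toAlgHom A A' (A' ⊗[A] MvPolynomial (Fin n ⊕ Fin n) A)) (AlgHom.id A B)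
      ((1 : A') ⊗ₜ[A] b) = jB ((1 : MvPolynomial (Fin n ⊕ Fin n) A) ⊗ₜ[A] b) := by
    simp [jB, j, Algebra.TensorProduct.one_def]
  rw [hθ, ← map_mul, ← map_add] at h1
  simp only [jB] at h1
  rw [← rTensor_eq_map, ← rTensor_eq_map, ← PolynomialLaw.isCompat_apply',
    ← PolynomialLaw.isCompat_apply'] at h1
  have h2 := congrArg (TensorProduct.rid A (A' ⊗[A] MvPolynomial (Fin n ⊕ Fin n) A)) h1
  rw [rid_rTensor, rid_rTensor] at h2
  obtain ⟨c, hc⟩ := (IsLocalizedModule.eq_iff_exists M
    (TensorProduct.mk A A' (MvPolynomial (Fin n ⊕ Fin n) A) 1)).mp h2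
  rw [Submonoid.smul_def, Submonoid.smul_def, ← map_smul, ← map_smul] at hc
  have hu := (TensorProduct.rid A (MvPolynomial (Fin n ⊕ Fin n) A)).injective hc
  refine ⟨c, fun S _ _ x w => ?_⟩
  obtain ⟨cx, rfl⟩ := exists_sum_tmul s hs x
  obtain ⟨cw, rfl⟩ := exists_sum_tmul s hs w
  let φ : MvPolynomial (Fin n ⊕ Fin n) A →ₐ[A] S := MvPolynomial.aeval (Sum.elim cx cw)
  have h3 := congrArg (φ.toLinearMap.rTensor A) hu
  rw [map_smul, map_smul, PolynomialLaw.isCompat_apply', PolynomialLaw.isCompat_apply',
    rTensor_eq_map, rTensor_eq_map] at h3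
  have hx : Algebra.TensorProduct.map φ (AlgHom.id A B) x₀ = ∑ i, cx i ⊗ₜ[A] s i := by
    simp [x₀, φ]
  have hw : Algebra.TensorProduct.map φ (AlgHom.id A B) w₀ = ∑ i, cw i ⊗ₜ[A] s i := by
    simp [w₀, φ]
  rw [map_add, map_mul, hx, hw] at h3
  simpa using h3

end main

/-- Let F : B → A be a multiplicative polynomial law homogeneous of degree d over the commutative ring
A, on a commutative A-algebra B which is finite as an A-module, and let A' be a localization of A at
a submonoid M. Then the kernel of the base change of F to A' is the ideal of A' ⊗_A B generated by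
the kernel of F: the kernel (hence the image of a family of zero-cycles) commutes with localization.
(The published statement has no finiteness hypothesis on B and is false without one: for a suitable
algebra B that is not finitely generated the conditions cutting out the kernel at an element are
infinitely many elements of A annihilated by elements of M but by no single one, and the kernel of
the localised law is then strictly larger than the localised kernel; the published proof's reduction
to finite B does not go through. This row assumes B finite over A, the case that proof establishes.) -/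
theorem result {A : Type u} [CommRing A] {B : Type u} [CommRing B] [Algebra A B]
    [Module.Finite A B] {d : ℕ} (F : PolLaw.MulLaw A B A d) (M : Submonoid A) (A' : Type u) [CommRing A'] [Algebra A A']
    [IsLocalization M A'] :
    (PolLaw.ker F.law).map (Algebra.TensorProduct.includeRight : B →ₐ[A] A' ⊗[A] B) =
      PolLaw.kerBC F.law A' := by
  apply le_antisymm (map_ker_le F.law A')
  intro b' hb'
  obtain ⟨n, s, hs⟩ := Module.Finite.exists_fin (R := A) (M := B)
  have hlocB : IsLocalizedModule M (TensorProduct.mk A A' B 1) :=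
    (isLocalizedModule_iff_isBaseChange M A' _).mpr (TensorProduct.isBaseChange A B A')
  obtain ⟨⟨b, m⟩, hbm⟩ := IsLocalizedModule.surj M (TensorProduct.mk A A' B 1) b'
  simp only [TensorProduct.mk_apply, Submonoid.smul_def] at hbm
  -- hbm : (m : A) • b' = 1 ⊗ b
  have hsm : ∀ (a : A) (z : A' ⊗[A] B), a • z = ((algebraMap A A' a) ⊗ₜ[A] (1 : B)) * z := by
    intro a z
    rw [tmul_one_mul, algebraMap_smul]
  have h1 : (1 : A') ⊗ₜ[A] b ∈ PolLaw.kerBC F.law A' := by
    rw [← hbm, hsm]
    exact Ideal.mul_mem_left _ _ hb'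
  obtain ⟨m', hm'⟩ := exists_smul_eq F.law M A' s hs b h1
  have h2 : (m' : A) • b ∈ PolLaw.ker F.law := smul_mem_ker_of_forall F.law m' b hm'
  have h3 : b' = ((IsLocalization.mk' A' (1 : A) (m' * m)) ⊗ₜ[A] (1 : B)) *
      (Algebra.TensorProduct.includeRight ((m' : A) • b) : A' ⊗[A] B) := by
    rw [Algebra.TensorProduct.includeRight_apply, TensorProduct.tmul_smul, ← hbm, smul_smul, hsm,
      ← mul_assoc, Algebra.TensorProduct.tmul_mul_tmul, mul_one]
    have : IsLocalization.mk' A' (1 : A) (m' * m) * algebraMap A A' ((m' : A) * (m : A)) = 1 := by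
      have := IsLocalization.mk'_spec A' (1 : A) (m' * m)
      simpa using this
    rw [this, ← Algebra.TensorProduct.one_def, one_mul]
  rw [h3]
  exact Ideal.mul_mem_left _ _ (Ideal.mem_map_of_mem _ h2)

end Groth.Agent.S13698
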