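import Mathlib
import Groth.Statements.S13699
-- import your own Groth.Agent.* helpers here

set_option autoImplicit false
universe u
open scoped TensorProduct
open ZeroCyc

namespace Groth.Agent.S13699

section helpers

variable {A : Type u} [CommRing A] {B : Type u} [CommRing B] [Algebra A B]
  {C : Type u} [CommRing C] [Algebra A C]

theorem mem_ker_iff (F : B →ₚₗ[A] C) (b : B) :
    b ∈ PolLaw.ker F ↔ ∀ (S : Type u) [CommSemiring S] [Algebra A S] (x w : S ⊗[A] B),
      F.toFun' S (x + w * (1 ⊗ₜ[A] b)) = F.toFun' S x := Iff.rfl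

theorem mem_kerBC_iff (F : B →ₚₗ[A] C) (A' : Type u) [CommRing A'] [Algebra A A']
    (b' : A' ⊗[A] B) :
    b' ∈ PolLaw.kerBC F A' ↔ ∀ (R : Type u) [CommSemiring R] [Algebra A R] [Algebra A' R]
      [IsScalarTower A A' R] (x w : R ⊗[A] B),
      F.toFun' R (x + w * Algebra.TensorProduct.map (IsScalarTower.toAlgHom A A' R)
        (AlgHom.id A B) b') = F.toFun' R x := Iff.rfl

theorem rTensor_eq_map {S S' : Type u} [CommSemiring S] [Algebra A S] [CommSemiring S']
    [Algebra A S'] (M : Type u) [CommRing M] [Algebra A M] (φ : S →ₐ[A] S') (z : S ⊗[A] M) :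
    (φ.toLinearMap.rTensor M) z = (Algebra.TensorProduct.map φ (AlgHom.id A M)) z := by
  induction z using TensorProduct.induction_on with
  | zero => simp
  | tmul a b => rfl
  | add a b ha hb => simp [ha, hb]

theorem map_map_apply {R1 R2 R3 : Type u} [CommSemiring R1] [Algebra A R1] [CommSemiring R2]
    [Algebra A R2] [CommSemiring R3] [Algebra A R3] (f : R1 →ₐ[A] R2) (g : R2 →ₐ[A] R3)
    (z : R1 ⊗[A] B) :
    Algebra.TensorProduct.map g (AlgHom.id A B)
      (Algebra.TensorProduct.map f (AlgHom.id A B) z) =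
      Algebra.TensorProduct.map (g.comp f) (AlgHom.id A B) z := by
  induction z using TensorProduct.induction_on with
  | zero => simp
  | tmul a b => rfl
  | add a b ha hb => simp [ha, hb]

theorem map_id_apply' {R1 : Type u} [CommSemiring R1] [Algebra A R1] (z : R1 ⊗[A] B) :
    Algebra.TensorProduct.map (AlgHom.id A R1) (AlgHom.id A B) z = z := by
  induction z using TensorProduct.induction_on with
  | zero => simp
  | tmul a b => rfl
  | add a b ha hb => simp [ha, hb]

/-- `(s ⊗ 1) * y = s • y`. -/
theorem tmul_one_mul {S : Type u} [CommSemiring S] [Algebra A S] (s : S) (y : S ⊗[A] B) :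
    (s ⊗ₜ[A] (1 : B)) * y = s • y := by
  induction y using TensorProduct.induction_on with
  | zero => simp
  | tmul a b => simp [TensorProduct.smul_tmul']
  | add a b ha hb => simp [mul_add, ha, hb]

/-- Cancellation of `T ^ d` in `R[T] ⊗[A] A`. -/
theorem X_pow_smul_cancel {R : Type u} [CommSemiring R] [Algebra A R] (d : ℕ)
    (u v : Polynomial R ⊗[A] A)
    (h : (Polynomial.X : Polynomial R) ^ d • u = (Polynomial.X : Polynomial R) ^ d • v) :
    u = v := by
  apply (Algebra.TensorProduct.rid A (Polynomial R) (Polynomial R)).injective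
  have h2 := congrArg (Algebra.TensorProduct.rid A (Polynomial R) (Polynomial R)) h
  rw [map_smul, map_smul, smul_eq_mul, smul_eq_mul] at h2
  ext n
  have h3 := congrArg (fun p => Polynomial.coeff p (n + d)) h2
  simpa [Polynomial.coeff_X_pow_mul] using h3

end helpers

section main

variable {A : Type u} [CommRing A] {B : Type u} [CommRing B] [Algebra A B]

/-- easy inclusion -/
theorem map_ker_le (F : B →ₚₗ[A] A) :
    (PolLaw.ker F).map
      (Algebra.TensorProduct.includeRight : B →ₐ[A] Polynomial A ⊗[A] B) ≤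
      PolLaw.kerBC F (Polynomial A) := by
  rw [Ideal.map_le_iff_le_comap]
  intro b hb
  rw [Ideal.mem_comap, mem_kerBC_iff]
  intro R _ _ _ _ x w
  rw [mem_ker_iff] at hb
  have := hb R x w
  simpa using this

/-- constant coefficient of an element of the base-changed kernel lies in the kernel -/
theorem coeff_zero_mem (F : B →ₚₗ[A] A) (n : ℕ) (c : ℕ → B)
    (h : (∑ i ∈ Finset.range (n + 1), ((Polynomial.X : Polynomial A) ^ i) ⊗ₜ[A] c i) ∈
      PolLaw.kerBC F (Polynomial A)) : c 0 ∈ PolLaw.ker F := by
  rw [mem_ker_iff]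
  intro S _ _ x w
  letI : Algebra (Polynomial A) S := (Polynomial.aeval (0 : S)).toRingHom.toAlgebra
  haveI : IsScalarTower A (Polynomial A) S := IsScalarTower.of_algebraMap_eq (fun a => by
    rw [RingHom.algebraMap_toAlgebra]
    simp [Polynomial.algebraMap_apply])
  rw [mem_kerBC_iff] at h
  have h1 := h S x w
  have h2 : Algebra.TensorProduct.map (IsScalarTower.toAlgHom A (Polynomial A) S)
      (AlgHom.id A B)
      (∑ i ∈ Finset.range (n + 1), ((Polynomial.X : Polynomial A) ^ i) ⊗ₜ[A] c i) =
      (1 : S) ⊗ₜ[A] c 0 := by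
    rw [map_sum, Finset.sum_range_succ']
    have hX : algebraMap (Polynomial A) S Polynomial.X = 0 := by
      rw [RingHom.algebraMap_toAlgebra]
      simp
    simp [hX, pow_succ]
  rw [h2] at h1
  exact h1

/-- divisibility by `X` can be removed inside the base-changed kernel (uses homogeneity only) -/
theorem of_X_mul_mem {d : ℕ} (F : B →ₚₗ[A] A) (hF : PolLaw.IsHomog F d)
    (e : Polynomial A ⊗[A] B)
    (h : ((Polynomial.X : Polynomial A) ⊗ₜ[A] (1 : B)) * e ∈ PolLaw.kerBC F (Polynomial A)) :
    e ∈ PolLaw.kerBC F (Polynomial A) := by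
  rw [mem_kerBC_iff] at h ⊢
  intro R _ _ _ _ x w
  -- the test ring `R[T]` with `X ↦ T`
  letI algR' : Algebra (Polynomial A) (Polynomial R) :=
    (Polynomial.aeval (Polynomial.X : Polynomial R)).toRingHom.toAlgebra
  haveI : IsScalarTower A (Polynomial A) (Polynomial R) :=
    IsScalarTower.of_algebraMap_eq (fun a => by
      rw [RingHom.algebraMap_toAlgebra]
      simp [Polynomial.algebraMap_apply])
  have hX : algebraMap (Polynomial A) (Polynomial R) Polynomial.X = Polynomial.X := by
    rw [RingHom.algebraMap_toAlgebra]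
    simp
  set r : R := algebraMap (Polynomial A) R Polynomial.X with hr
  let ι : R →ₐ[A] Polynomial R := Polynomial.CAlgHom
  let ev : Polynomial R →ₐ[A] R := (Polynomial.aeval r).restrictScalars A
  let ιB := Algebra.TensorProduct.map ι (AlgHom.id A B)
  let evB := Algebra.TensorProduct.map ev (AlgHom.id A B)
  let θ' := Algebra.TensorProduct.map (IsScalarTower.toAlgHom A (Polynomial A) (Polynomial R))
    (AlgHom.id A B)
  have hevι : ev.comp ι = AlgHom.id A R := by
    ext a
    simp [ev, ι, Polynomial.CAlgHom]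
  have hevθ : ev.comp (IsScalarTower.toAlgHom A (Polynomial A) (Polynomial R)) =
      IsScalarTower.toAlgHom A (Polynomial A) R := by
    apply Polynomial.algHom_ext
    simp [ev, hX, hr]
  have hevιB : ∀ z : R ⊗[A] B, evB (ιB z) = z := by
    intro z
    simp only [evB, ιB]
    rw [map_map_apply, hevι, map_id_apply']
  have hevθB : ∀ z : Polynomial A ⊗[A] B, evB (θ' z) =
      Algebra.TensorProduct.map (IsScalarTower.toAlgHom A (Polynomial A) R) (AlgHom.id A B) z := by
    intro z
    simp only [evB, θ']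
    rw [map_map_apply, hevθ]
  -- the hypothesis at `(T • x', w')`
  have h1 := h (Polynomial R) ((Polynomial.X : Polynomial R) • ιB x) (ιB w)
  have h2 : θ' (((Polynomial.X : Polynomial A) ⊗ₜ[A] (1 : B)) * e) =
      (Polynomial.X : Polynomial R) • θ' e := by
    rw [map_mul]
    simp only [θ']
    rw [Algebra.TensorProduct.map_tmul, IsScalarTower.toAlgHom_apply, hX, map_one, tmul_one_mul]
  have h3 : (Polynomial.X : Polynomial R) • ιB x + ιB w * θ' (((Polynomial.X : Polynomial A) ⊗ₜ[A] (1 : B)) * e) =
      (Polynomial.X : Polynomial R) • (ιB x + ιB w * θ' e) := by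
    rw [h2, mul_smul_comm, smul_add]
  change F.toFun' (Polynomial R) ((Polynomial.X : Polynomial R) • ιB x +
    ιB w * θ' (((Polynomial.X : Polynomial A) ⊗ₜ[A] (1 : B)) * e)) = _ at h1
  rw [h3, hF (Polynomial R) Polynomial.X, hF (Polynomial R) Polynomial.X] at h1
  have key := X_pow_smul_cancel d _ _ h1
  -- evaluate at `T ↦ r`
  have key2 := congrArg (ev.toLinearMap.rTensor A) key
  rw [PolynomialLaw.isCompat_apply', PolynomialLaw.isCompat_apply', rTensor_eq_map,
    rTensor_eq_map] at key2
  change F.toFun' R (evB (ιB x + ιB w * θ' e)) = F.toFun' R (evB (ιB x)) at key2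
  rw [map_add, map_mul, hevιB, hevιB, hevθB] at key2
  exact key2

/-- every element of `A[X] ⊗ B` is a finite sum `∑ X^i ⊗ c i` -/
theorem exists_repr (b' : Polynomial A ⊗[A] B) :
    ∃ (n : ℕ) (c : ℕ → B),
      b' = ∑ i ∈ Finset.range n, ((Polynomial.X : Polynomial A) ^ i) ⊗ₜ[A] c i := by
  suffices hq : ∃ q : Polynomial B,
      b' = q.sum (fun i b => ((Polynomial.X : Polynomial A) ^ i) ⊗ₜ[A] b) by
    obtain ⟨q, rfl⟩ := hq
    exact ⟨q.natDegree + 1, q.coeff, Polynomial.sum_over_range q (fun i => TensorProduct.tmul_zero _ _)⟩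
  have hadd : ∀ b₁ b₂ : Polynomial A ⊗[A] B,
      (∃ q : Polynomial B, b₁ = q.sum (fun i b => ((Polynomial.X : Polynomial A) ^ i) ⊗ₜ[A] b)) →
      (∃ q : Polynomial B, b₂ = q.sum (fun i b => ((Polynomial.X : Polynomial A) ^ i) ⊗ₜ[A] b)) →
      ∃ q : Polynomial B, b₁ + b₂ = q.sum (fun i b => ((Polynomial.X : Polynomial A) ^ i) ⊗ₜ[A] b) := by
    rintro b₁ b₂ ⟨q₁, rfl⟩ ⟨q₂, rfl⟩
    refine ⟨q₁ + q₂, ?_⟩
    rw [Polynomial.sum_add_index]
    · intro i; exact TensorProduct.tmul_zero _ _
    · intro i x y; exact TensorProduct.tmul_add _ _ _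
  induction b' using TensorProduct.induction_on with
  | zero => exact ⟨0, by simp⟩
  | tmul p b =>
    induction p using Polynomial.induction_on' with
    | add p q hp hq =>
      rw [TensorProduct.add_tmul]
      exact hadd _ _ hp hq
    | monomial n a =>
      refine ⟨Polynomial.monomial n (a • b), ?_⟩
      rw [Polynomial.sum_monomial_index (a • b)
        (fun i b => ((Polynomial.X : Polynomial A) ^ i) ⊗ₜ[A] b) (TensorProduct.tmul_zero _ _)]
      have hm : Polynomial.monomial n a = a • (Polynomial.X : Polynomial A) ^ n := by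
        rw [Polynomial.X_pow_eq_monomial, Polynomial.smul_monomial, smul_eq_mul, mul_one]
      rw [hm, TensorProduct.smul_tmul]
  | add x y hx hy => exact hadd _ _ hx hy

theorem main_induction {d : ℕ} (F : B →ₚₗ[A] A) (hF : PolLaw.IsHomog F d) (n : ℕ) :
    ∀ c : ℕ → B,
      (∑ i ∈ Finset.range n, ((Polynomial.X : Polynomial A) ^ i) ⊗ₜ[A] c i) ∈
        PolLaw.kerBC F (Polynomial A) → ∀ i < n, c i ∈ PolLaw.ker F := by
  induction n with
  | zero => intro c _ i hi; exact absurd hi (Nat.not_lt_zero i)
  | succ n ih =>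
    intro c hc
    have h0 : c 0 ∈ PolLaw.ker F := coeff_zero_mem F n c hc
    have hsplit : (∑ i ∈ Finset.range (n + 1), ((Polynomial.X : Polynomial A) ^ i) ⊗ₜ[A] c i) =
        ((Polynomial.X : Polynomial A) ⊗ₜ[A] (1 : B)) *
          (∑ i ∈ Finset.range n, ((Polynomial.X : Polynomial A) ^ i) ⊗ₜ[A] c (i + 1)) +
        Algebra.TensorProduct.includeRight (c 0) := by
      rw [Finset.sum_range_succ', Finset.mul_sum]
      congr 1
      · refine Finset.sum_congr rfl fun i _ => ?_
        rw [Algebra.TensorProduct.tmul_mul_tmul, one_mul, pow_succ']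
    rw [hsplit] at hc
    have h1 : (Algebra.TensorProduct.includeRight (c 0) : Polynomial A ⊗[A] B) ∈
        PolLaw.kerBC F (Polynomial A) :=
      map_ker_le F (Ideal.mem_map_of_mem _ h0)
    have h2 := (Ideal.add_mem_iff_left _ h1).mp hc
    have h3 := of_X_mul_mem F hF _ h2
    have h4 := ih (fun i => c (i + 1)) h3
    intro i hi
    cases i with
    | zero => exact h0
    | succ j => exact h4 j (Nat.lt_of_succ_lt_succ hi)

end main

/-- Let F : B → A be a multiplicative polynomial law homogeneous of degree d over the commutative ring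
A. Then the kernel of the base change of F to the polynomial ring A[X] is the ideal of A[X] ⊗_A B
generated by the kernel of F. -/
theorem result {A : Type u} [CommRing A] {B : Type u} [CommRing B] [Algebra A B]
    {d : ℕ} (F : PolLaw.MulLaw A B A d) :
    (PolLaw.ker F.law).map (Algebra.TensorProduct.includeRight : B →ₐ[A] Polynomial A ⊗[A] B) =
      PolLaw.kerBC F.law (Polynomial A) := by
  apply le_antisymm (map_ker_le F.law)
  intro b' hb'
  obtain ⟨n, c, rfl⟩ := exists_repr b'
  have hmem := main_induction F.law F.homog n c hb'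
  refine Ideal.sum_mem _ fun i hi => ?_
  have : ((Polynomial.X : Polynomial A) ^ i) ⊗ₜ[A] c i =
      (((Polynomial.X : Polynomial A) ^ i) ⊗ₜ[A] (1 : B)) *
        Algebra.TensorProduct.includeRight (c i) := by
    simp
  rw [this]
  exact Ideal.mul_mem_left _ _ (Ideal.mem_map_of_mem _ (hmem i (Finset.mem_range.mp hi)))

end Groth.Agent.S13699
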