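import Mathlib
import Groth.Agent.Lib.Helper20.MSet2
import Groth.Statements.S1370
-- import your own Groth.Agent.* helpers here

set_option autoImplicit false
universe u
open FlatMor

open Groth.Agent.Lib.Helper20

namespace Groth.Agent.S1370

open AlgebraicGeometry CategoryTheory Limits in
/-- Let f be of finite presentation, F a quasi-coherent module of finite presentation on the source, and
U an open of the source which is quasi-compact over the target. Then the set of points y of the
target such that all associated points of F restricted to the fibre over y lie in U is locally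
constructible. -/
theorem result {X Y : Scheme.{u}} (f : X ⟶ Y) [LocallyOfFinitePresentation f] [QuasiCompact f] [QuasiSeparated f]
    (F : X.Modules) (hFq : Coh.IsQCoh F) (hFp : CohB1.IsFP F) (U : X.Opens) [QuasiCompact (U.ι ≫ f)] :
    Topology.IsLocallyConstructible {y : ↑Y | ∀ x ∈ MoreMor.relAss f F, f x = y → x ∈ U} := by
  haveI : F.IsQuasicoherent := hFq
  have hW : ∀ V : Y.Opens, IsAffineOpen V → IsCompact ((U : Set X) ∩ f ⁻¹' V) := by
    intro V hV
    have h1 : IsCompact ((U.ι ≫ f) ⁻¹' (V : Set Y)) :=
      (U.ι ≫ f).isCompact_preimage hV.isCompact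
    have h2 : U.ι '' ((U.ι ≫ f) ⁻¹' (V : Set Y)) = (U : Set X) ∩ f ⁻¹' V := by
      ext x
      constructor
      · rintro ⟨t, ht, rfl⟩
        exact ⟨t.2, by simpa using ht⟩
      · rintro ⟨hxU, hxV⟩
        exact ⟨⟨x, hxU⟩, by simpa using hxV, rfl⟩
    rw [← h2]
    exact h1.image U.ι.continuous
  have h := MSet.isLocallyConstructible_of_rel MSet.bcStable_rAss MSet.genCons_rAss f F hFp U hW
  convert h using 1
  ext y
  simp only [Set.mem_ofPred_eq, MSet.RAss, Set.mem_compl_iff, SetLike.mem_coe, not_not]

end Groth.Agent.S1370
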