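import Mathlib
import Groth.Statements.S13702

set_option autoImplicit false
universe u
open scoped TensorProduct
open ZeroCyc

namespace Groth.Agent.S13702

section field

variable {k : Type u} [Field k] (p : ℕ) [Fact p.Prime] [CharP k p]

/-- A polynomial of degree `< deg g` killing `x ^ q` in `k[X]/(g)`, `g` separable, is zero. -/
theorem eq_zero_of_aeval_root_pow (g : Polynomial k) (hsep : g.Separable) (s : ℕ)
    (P : Polynomial k) (hP : ∀ m, g.natDegree ≤ m → P.coeff m = 0)
    (h : Polynomial.aeval (AdjoinRoot.root g ^ (p ^ s)) P = 0) : P = 0 := by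
  classical
  by_contra hP0
  have hdeg : P.natDegree < g.natDegree := by
    by_contra hcon
    push Not at hcon
    have := hP _ hcon
    rw [Polynomial.coeff_natDegree, Polynomial.leadingCoeff_eq_zero] at this
    exact hP0 this
  -- divisibility
  have h1 : Polynomial.aeval (AdjoinRoot.root g ^ (p ^ s)) P =
      AdjoinRoot.mk g (P.comp (Polynomial.X ^ (p ^ s))) := by
    rw [← AdjoinRoot.aeval_eq, Polynomial.aeval_comp, map_pow, Polynomial.aeval_X]
  rw [h1, AdjoinRoot.mk_eq_zero] at h
  -- pass to the algebraic closure
  let K := AlgebraicClosure k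
  let ι : k →+* K := algebraMap k K
  haveI : CharP K p := charP_of_injective_algebraMap (algebraMap k K).injective p
  have hinj : Function.Injective (fun a : K => a ^ (p ^ s)) := iterateFrobenius_inj K p s
  have hroots : Multiset.card (g.map ι).roots = g.natDegree := by
    rw [← Polynomial.natDegree_map ι]
    exact Polynomial.splits_iff_card_roots.mp (IsAlgClosed.splits _)
  have hnodup : (g.map ι).roots.Nodup := Polynomial.nodup_roots hsep.map
  have hcard : ((g.map ι).roots.toFinset.image (fun a : K => a ^ (p ^ s))).card = g.natDegree := by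
    rw [Finset.card_image_of_injective _ hinj, Multiset.toFinset_card_of_nodup hnodup, hroots]
  have hzero : P.map ι = 0 := by
    apply Polynomial.eq_zero_of_natDegree_lt_card_of_eval_eq_zero' _
      ((g.map ι).roots.toFinset.image (fun a : K => a ^ (p ^ s)))
    · intro b hb
      rw [Finset.mem_image] at hb
      obtain ⟨a, ha, rfl⟩ := hb
      rw [Multiset.mem_toFinset, Polynomial.mem_roots'] at ha
      have h2 : (g.map ι) ∣ (P.comp (Polynomial.X ^ (p ^ s))).map ι :=
        Polynomial.map_dvd ι h
      have h3 := Polynomial.eval_eq_zero_of_dvd_of_eval_eq_zero h2 ha.2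
      rw [Polynomial.map_comp, Polynomial.eval_comp, Polynomial.map_pow, Polynomial.map_X,
        Polynomial.eval_pow, Polynomial.eval_X] at h3
      exact h3
    · rw [hcard, Polynomial.natDegree_map]
      exact hdeg
  exact hP0 (Polynomial.map_injective ι ι.injective (by rw [hzero, Polynomial.map_zero]))

theorem linearIndependent_root_pow (g : Polynomial k) (hsep : g.Separable) (s : ℕ) :
    LinearIndependent k (fun i : Fin g.natDegree => (AdjoinRoot.root g ^ (p ^ s)) ^ (i : ℕ)) := by
  classical
  rw [Fintype.linearIndependent_iff]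
  intro c hc i
  set P : Polynomial k := ∑ j : Fin g.natDegree, Polynomial.monomial (j : ℕ) (c j) with hPdef
  have hcoeff : ∀ m, P.coeff m = ∑ j : Fin g.natDegree, if (j : ℕ) = m then c j else 0 := by
    intro m
    rw [hPdef, Polynomial.finset_sum_coeff]
    refine Finset.sum_congr rfl fun j _ => ?_
    rw [Polynomial.coeff_monomial]
  have hP : ∀ m, g.natDegree ≤ m → P.coeff m = 0 := by
    intro m hm
    rw [hcoeff]
    refine Finset.sum_eq_zero fun j _ => ?_
    rw [if_neg]
    have := j.2
    omega
  have haeval : Polynomial.aeval (AdjoinRoot.root g ^ (p ^ s)) P = 0 := by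
    rw [hPdef, map_sum, ← hc]
    refine Finset.sum_congr rfl fun j _ => ?_
    rw [Polynomial.aeval_monomial, Algebra.smul_def]
  have hzero := eq_zero_of_aeval_root_pow p g hsep s P hP haeval
  have h2 := hcoeff (i : ℕ)
  rw [hzero, Polynomial.coeff_zero, Finset.sum_eq_single i] at h2
  · rw [if_pos rfl] at h2
    exact h2.symm
  · intro j _ hji
    rw [if_neg]
    exact fun h => hji (Fin.ext h)
  · intro hi
    exact absurd (Finset.mem_univ i) hi

end field

/-- Let A be a local ring with residue field of characteristic p > 0, let g ∈ A[X] be monic and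
separable of degree n, so that A' = A[X]/(g) is an étale A-algebra, and let q = p^s with s ≥ 0. Then
the powers 1, t^q, t^{2q}, …, t^{(n-1)q} of the class t of X form a basis of A' as an A-module. -/
theorem result {A : Type u} [CommRing A] [IsLocalRing A] (p : ℕ) [Fact p.Prime]
    [CharP (IsLocalRing.ResidueField A) p] (g : Polynomial A) (hg : g.Monic) (hsep : g.Separable) (s : ℕ) :
    ∃ b : Module.Basis (Fin g.natDegree) A (AdjoinRoot g),
      ∀ i : Fin g.natDegree, b i = AdjoinRoot.root g ^ (p ^ s * (i : ℕ)) := by
  classical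
  let k := IsLocalRing.ResidueField A
  let res : A →+* k := IsLocalRing.residue A
  let gb : Polynomial k := g.map res
  have hgb : gb.Monic := hg.map res
  have hsepb : gb.Separable := hsep.map
  have hdeg : gb.natDegree = g.natDegree := hg.natDegree_map res
  let b : Module.Basis (Fin g.natDegree) A (AdjoinRoot g) := (AdjoinRoot.powerBasis' hg).basis
  let bb0 : Module.Basis (Fin gb.natDegree) k (AdjoinRoot gb) := (AdjoinRoot.powerBasis' hgb).basis
  let bb : Module.Basis (Fin g.natDegree) k (AdjoinRoot gb) := bb0.reindex (finCongr hdeg)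
  have hb : ∀ j : Fin g.natDegree, b j = AdjoinRoot.root g ^ (j : ℕ) := fun j =>
    (AdjoinRoot.powerBasis' hg).basis_eq_pow j
  have hbb : ∀ j : Fin g.natDegree, bb j = AdjoinRoot.root gb ^ (j : ℕ) := by
    intro j
    rw [Module.Basis.reindex_apply]
    exact (AdjoinRoot.powerBasis' hgb).basis_eq_pow _
  let Φ : AdjoinRoot g →+* AdjoinRoot gb := AdjoinRoot.map res g gb (dvd_refl _)
  have hΦsmul : ∀ (a : A) (y : AdjoinRoot g), Φ (a • y) = res a • Φ y := by
    intro a y
    rw [Algebra.smul_def, Algebra.smul_def, map_mul, AdjoinRoot.algebraMap_eq,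
      AdjoinRoot.algebraMap_eq, AdjoinRoot.map_of]
  let v : Fin g.natDegree → AdjoinRoot g := fun i => AdjoinRoot.root g ^ (p ^ s * (i : ℕ))
  let ub : Fin g.natDegree → AdjoinRoot gb := fun i => (AdjoinRoot.root gb ^ (p ^ s)) ^ (i : ℕ)
  have hΦv : ∀ i, Φ (v i) = ub i := by
    intro i
    simp only [v, ub]
    rw [map_pow, AdjoinRoot.map_root, pow_mul]
  -- the matrix of `ub` in `bb` is the reduction of the matrix of `v` in `b`
  have hmat : bb.toMatrix ub = (b.toMatrix v).map res := by
    ext j i
    rw [Module.Basis.toMatrix_apply, Matrix.map_apply]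
    have h1 : ub i = ∑ j : Fin g.natDegree, res (b.toMatrix v j i) • bb j := by
      rw [← hΦv, ← b.sum_toMatrix_smul_self v i, map_sum]
      refine Finset.sum_congr rfl fun j _ => ?_
      rw [hΦsmul, hb, hbb, map_pow, AdjoinRoot.map_root]
    rw [h1, map_sum]
    simp only [map_smul, Module.Basis.repr_self, Finsupp.smul_single, smul_eq_mul, mul_one]
    rw [Finset.sum_apply']
    simp [Finsupp.single_apply]
  -- `ub` is a basis of the residue algebra
  have hli : LinearIndependent k ub := linearIndependent_root_pow p gb hsepb s |>.comp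
    (finCongr hdeg).symm (finCongr hdeg).symm.injective |> fun h => by
      convert h using 1
      funext i
      rfl
  haveI : Module.Finite k (AdjoinRoot gb) := (AdjoinRoot.powerBasis' hgb).finite
  have hfr : Module.finrank k (AdjoinRoot gb) = g.natDegree := by
    rw [(AdjoinRoot.powerBasis' hgb).finrank]
    exact hdeg
  have hsp : Submodule.span k (Set.range ub) = ⊤ :=
    hli.span_eq_top_of_card_eq_finrank' (by rw [Fintype.card_fin, hfr])
  have hunit : IsUnit (bb.det ub) := (Module.Basis.is_basis_iff_det bb).mp ⟨hli, hsp⟩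
  rw [Module.Basis.det_apply, hmat] at hunit
  have hunit2 : IsUnit (res ((b.toMatrix v).det)) := by
    rw [RingHom.map_det]
    exact hunit
  have hunit3 : IsUnit (b.det v) := by
    rw [Module.Basis.det_apply]
    exact isUnit_of_map_unit res _ hunit2
  obtain ⟨hliA, hspA⟩ := (Module.Basis.is_basis_iff_det b).mpr hunit3
  exact ⟨Module.Basis.mk hliA hspA.ge, fun i => by rw [Module.Basis.mk_apply]⟩

end Groth.Agent.S13702
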