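import Mathlib
import Groth.Statements.S13708

set_option autoImplicit false
universe u
open scoped TensorProduct
open ZeroCyc
open AlgebraicGeometry CategoryTheory CategoryTheory.Limits

namespace Groth.Agent.S13708

/-- Let X be a scheme over S such that every finite set of points of X over a common point of S lies in
some affine open subscheme of X (the condition (AF)). Then X is separated over S. (The published
condition (AF) asks for an open U with U → S quasi-affine rather than U affine; with U affine, as
here, the same argument applies verbatim, and the two conditions agree over a quasi-separated base.) -/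
theorem result {X S : Scheme.{u}} (f : X ⟶ S) (hX : SymProd.IsAF f) :
    IsSeparated f := by
  classical
  refine ⟨IsClosedImmersion.of_isPreimmersion _ ?_⟩
  rw [← isOpen_compl_iff, isOpen_iff_forall_mem_open]
  intro z hz
  have hx : f (pullback.fst f f z) = f (pullback.snd f f z) := by
    rw [← Scheme.Hom.comp_apply, ← Scheme.Hom.comp_apply, pullback.condition]
  obtain ⟨U, hU, hUT⟩ := hX (f (pullback.fst f f z)) {pullback.fst f f z, pullback.snd f f z}
    (by
      intro x hxT
      rw [Finset.mem_insert, Finset.mem_singleton] at hxT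
      rcases hxT with rfl | rfl
      · rfl
      · exact hx.symm)
  have h1 : pullback.fst f f z ∈ U := hUT _ (by simp)
  have h2 : pullback.snd f f z ∈ U := hUT _ (by simp)
  haveI : IsAffine U := hU
  let j : pullback (U.ι ≫ f) (U.ι ≫ f) ⟶ pullback f f :=
    pullback.map _ _ _ _ U.ι U.ι (𝟙 S) (by simp) (by simp)
  have hrange : Set.range j = pullback.fst f f ⁻¹' U ∩ pullback.snd f f ⁻¹' U := by
    rw [Scheme.Pullback.range_map]
    simp [Scheme.Opens.range_ι]
  have hcl : IsClosed (Set.range (pullback.diagonal (U.ι ≫ f))) :=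
    (pullback.diagonal (U.ι ≫ f)).isClosedEmbedding.isClosed_range
  have hcomm : pullback.diagonal (U.ι ≫ f) ≫ j = U.ι ≫ pullback.diagonal f := by
    apply pullback.hom_ext
    · rw [Category.assoc, Category.assoc, pullback.lift_fst, pullback.diagonal_fst_assoc,
        pullback.diagonal_fst, Category.comp_id]
    · rw [Category.assoc, Category.assoc, pullback.lift_snd, pullback.diagonal_snd_assoc,
        pullback.diagonal_snd, Category.comp_id]
  have hfstj : j ≫ pullback.fst f f = pullback.fst _ _ ≫ U.ι := by
    rw [pullback.lift_fst]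
  refine ⟨j '' (Set.range (pullback.diagonal (U.ι ≫ f)))ᶜ, ?_, ?_, ?_⟩
  · rintro _ ⟨y, hy, rfl⟩ ⟨x, hxz⟩
    apply hy
    have hxU : x ∈ U := by
      have h3 : pullback.fst f f (pullback.diagonal f x) = x := by
        rw [← Scheme.Hom.comp_apply]
        simp
      rw [hxz, ← Scheme.Hom.comp_apply, hfstj, Scheme.Hom.comp_apply] at h3
      rw [← h3]
      exact (pullback.fst (U.ι ≫ f) (U.ι ≫ f) y).2
    have h5 : j (pullback.diagonal (U.ι ≫ f) ⟨x, hxU⟩) = pullback.diagonal f (U.ι ⟨x, hxU⟩) :=
      congrArg (fun g : (U : Scheme) ⟶ pullback f f => g ⟨x, hxU⟩) hcomm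
    have h4 : j (pullback.diagonal (U.ι ≫ f) ⟨x, hxU⟩) = j y := h5.trans hxz
    exact ⟨⟨x, hxU⟩, j.isOpenEmbedding.injective h4⟩
  · exact j.isOpenEmbedding.isOpenMap _ hcl.isOpen_compl
  · have hzr : z ∈ Set.range j := by
      rw [hrange]
      exact ⟨h1, h2⟩
    obtain ⟨y, rfl⟩ := hzr
    refine ⟨y, ?_, rfl⟩
    rintro ⟨u, rfl⟩
    apply hz
    have h5 : j (pullback.diagonal (U.ι ≫ f) u) = pullback.diagonal f (U.ι u) :=
      congrArg (fun g : (U : Scheme) ⟶ pullback f f => g u) hcomm
    exact ⟨U.ι u, h5.symm⟩

end Groth.Agent.S13708
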