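import Groth.Statements.S13712
import Groth.Agent.Lib.Helper28.Chev.Rel

set_option autoImplicit false
universe u
open CategoryTheory CategoryTheory.Limits AlgebraicGeometry
open ZeroCyc

namespace Groth.Agent.S13712

/-- Let f : X → Y and g : Y → S be morphisms of schemes with g separated, such that the composite X → S
is integral with topologically finite fibres (every fibre is a finite set). Then the
scheme-theoretic image Y' of f, with its closed immersion Y' → Y, is integral over S, and Y' → S
again has topologically finite fibres. (The published statement is for algebraic spaces; this row is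
the case of schemes.) -/
theorem result {X Y S : Scheme.{u}} (f : X ⟶ Y) (g : Y ⟶ S)
    [IsSeparated g] [IsIntegralHom (f ≫ g)] (hfin : ∀ s : S, Set.Finite ((f ≫ g).base ⁻¹' {s})) :
    IsIntegralHom (f.imageι ≫ g) ∧ ∀ s : S, Set.Finite ((f.imageι ≫ g).base ⁻¹' {s}) := by
  haveI : IsIntegralHom f := IsIntegralHom.of_comp f g
  have hfac : f.toImage ≫ f.imageι = f := f.toImage_imageι
  haveI : IsIntegralHom (f.toImage ≫ (f.imageι ≫ g)) := by
    rw [← Category.assoc, hfac]; infer_instance
  haveI : IsIntegralHom f.toImage := IsIntegralHom.of_comp f.toImage (f.imageι ≫ g)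
  have hsurj : Function.Surjective f.toImage :=
    Groth.Agent.Lib.Helper28.Chev.toImage_surjective_of_isIntegralHom f
  haveI : Surjective f.toImage := ⟨hsurj⟩
  refine ⟨Groth.Agent.Lib.Helper28.Chev.isIntegralHom_of_comp_surjective f.toImage
    (f.imageι ≫ g), fun s => ?_⟩
  refine ((hfin s).image f.toImage).subset ?_
  intro y hy
  obtain ⟨x, rfl⟩ := hsurj y
  refine ⟨x, ?_, rfl⟩
  have h1 : (f.imageι ≫ g) (f.toImage x) = s := hy
  have h2 : (f ≫ g) x = (f.imageι ≫ g) (f.toImage x) := by
    rw [← Scheme.Hom.comp_apply, ← Category.assoc, hfac]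
  exact h2.trans h1

end Groth.Agent.S13712
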