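import Mathlib
import Groth.Statements.S13717
import Groth.Agent.Lib.Helper20.PolLawKer
import Groth.Agent.Lib.Helper20.PolLawQuot

set_option autoImplicit false
universe u
open scoped TensorProduct
open ZeroCyc
open Groth.Agent.Lib.Helper20.PolLawKer
open Groth.Agent.Lib.Helper20.PolLawQuot

namespace Groth.Agent.S13717

/-- Let π : B → B' be a surjective map of commutative A-algebras and let (C, γ) and (C', γ') be the
degree-d divided power algebras Γ^d_A(B) and Γ^d_A(B') with their universal multiplicative laws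
homogeneous of degree d. If φ : C → C' is the A-algebra map with φ ∘ γ = γ' ∘ π, then φ is
surjective; geometrically, for a closed subscheme X of an affine Y over an affine S, Γ^d(X/S) →
Γ^d(Y/S) is a closed immersion. (The published statement is for Y affine over an algebraic space S;
this row is the case of an affine base.) -/
theorem result {A : Type u} [CommRing A] {B : Type u} [CommRing B] [Algebra A B]
    {B' : Type u} [CommRing B'] [Algebra A B'] {C : Type u} [CommRing C] [Algebra A C] {C' : Type u} [CommRing C'] [Algebra A C']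
    {d : ℕ} (γ : PolLaw.MulLaw A B C d) (hγ : PolLaw.IsGammaD γ) (γ' : PolLaw.MulLaw A B' C' d) (hγ' : PolLaw.IsGammaD γ')
    (π : B →ₐ[A] B') (hπ : Function.Surjective π) (φ : C →ₐ[A] C')
    (hφ : PolLaw.postcomp φ.toLinearMap γ.law = (γ'.precomp π).law) :
    Function.Surjective φ := by
  classical
  let j : φ.range →ₐ[A] C' := φ.range.val
  let φ'' : C →ₐ[A] φ.range := φ.rangeRestrict
  have hjφ : j.comp φ'' = φ := by
    ext c
    rfl
  let G : PolLaw.MulLaw A B φ.range d := γ.postcomp φ''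
  have hG : ∀ (S : Type u) [CommSemiring S] [Algebra A S] (x : S ⊗[A] B),
      G.law.toFun' S x = φ''.toLinearMap.lTensor S (γ.law.toFun' S x) := fun S _ _ x => rfl
  have hφ' : ∀ (S : Type u) [CommSemiring S] [Algebra A S] (x : S ⊗[A] B),
      φ.toLinearMap.lTensor S (γ.law.toFun' S x) =
        γ'.law.toFun' S (π.toLinearMap.lTensor S x) := by
    intro S _ _ x
    have h := congrArg (fun L : B →ₚₗ[A] C' => L.toFun' S x) hφ
    exact h
  have hjG : ∀ (S : Type u) [CommSemiring S] [Algebra A S] (x : S ⊗[A] B),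
      j.toLinearMap.lTensor S (G.law.toFun' S x) =
        γ'.law.toFun' S (π.toLinearMap.lTensor S x) := by
    intro S _ _ x
    rw [hG, ← LinearMap.comp_apply, ← LinearMap.lTensor_comp, ← AlgHom.comp_toLinearMap, hjφ, hφ']
  have hker : KerCond G.law π := by
    intro b hb S _ _ x w
    obtain ⟨t₁, rfl⟩ := TensorProduct.exists_finset x
    obtain ⟨t₂, rfl⟩ := TensorProduct.exists_finset w
    let ψ : MvPolynomial ((S × B) ⊕ (S × B)) A →ₐ[A] S :=
      MvPolynomial.aeval (Sum.elim Prod.fst Prod.fst)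
    let x₀ : MvPolynomial ((S × B) ⊕ (S × B)) A ⊗[A] B :=
      ∑ p ∈ t₁, (MvPolynomial.X (Sum.inl p) : MvPolynomial ((S × B) ⊕ (S × B)) A) ⊗ₜ[A] p.2
    let w₀ : MvPolynomial ((S × B) ⊕ (S × B)) A ⊗[A] B :=
      ∑ p ∈ t₂, (MvPolynomial.X (Sum.inr p) : MvPolynomial ((S × B) ⊕ (S × B)) A) ⊗ₜ[A] p.2
    have key : G.law.toFun' (MvPolynomial ((S × B) ⊕ (S × B)) A)
        (x₀ + w₀ * ((1 : MvPolynomial ((S × B) ⊕ (S × B)) A) ⊗ₜ[A] b)) =
        G.law.toFun' (MvPolynomial ((S × B) ⊕ (S × B)) A) x₀ := by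
      apply Module.Flat.lTensor_preserves_injective_linearMap
        (M := MvPolynomial ((S × B) ⊕ (S × B)) A) j.toLinearMap Subtype.val_injective
      rw [hjG, hjG]
      congr 1
      rw [PolLaw.lTensor_algHom_apply, PolLaw.lTensor_algHom_apply, map_add, map_mul,
        Algebra.TensorProduct.map_tmul, hb, TensorProduct.tmul_zero, mul_zero, add_zero]
    have h3 := congrArg (ψ.toLinearMap.rTensor φ.range) key
    rw [PolynomialLaw.isCompat_apply', PolynomialLaw.isCompat_apply', rTensor_eq_map,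
      rTensor_eq_map, map_add, map_mul] at h3
    have hx : Algebra.TensorProduct.map ψ (AlgHom.id A B) x₀ = ∑ p ∈ t₁, p.1 ⊗ₜ[A] p.2 := by
      simp [x₀, ψ]
    have hw : Algebra.TensorProduct.map ψ (AlgHom.id A B) w₀ = ∑ p ∈ t₂, p.1 ⊗ₜ[A] p.2 := by
      simp [w₀, ψ]
    rw [hx, hw] at h3
    simpa using h3
  let G' : PolLaw.MulLaw A B' φ.range d := descendMul G π hπ hker
  have hjG' : ∀ (S : Type u) [CommSemiring S] [Algebra A S] (y : S ⊗[A] B'),
      j.toLinearMap.lTensor S (G'.law.toFun' S y) = γ'.law.toFun' S y := by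
    intro S _ _ y
    obtain ⟨x, rfl⟩ := LinearMap.lTensor_surjective S (g := π.toLinearMap) hπ y
    rw [descendMul_apply, hjG]
  obtain ⟨g, hg, -⟩ := hγ' φ.range G'
  have hg' : ∀ (S : Type u) [CommSemiring S] [Algebra A S] (y : S ⊗[A] B'),
      g.toLinearMap.lTensor S (γ'.law.toFun' S y) = G'.law.toFun' S y := by
    intro S _ _ y
    have h := congrArg (fun L : B' →ₚₗ[A] φ.range => L.toFun' S y) hg
    exact h
  obtain ⟨f₀, -, huniq⟩ := hγ' C' γ'
  have h1 : j.comp g = f₀ := huniq _ (by
    apply PolynomialLaw.ext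
    funext S _ _ y
    show (j.comp g).toLinearMap.lTensor S (γ'.law.toFun' S y) = γ'.law.toFun' S y
    rw [AlgHom.comp_toLinearMap, LinearMap.lTensor_comp, LinearMap.comp_apply, hg', hjG'])
  have h2 : AlgHom.id A C' = f₀ := huniq _ (by
    apply PolynomialLaw.ext
    funext S _ _ y
    show (AlgHom.id A C').toLinearMap.lTensor S (γ'.law.toFun' S y) = γ'.law.toFun' S y
    rw [AlgHom.toLinearMap_id, LinearMap.lTensor_id, LinearMap.id_apply])
  intro c'
  have h3 : j (g c') = c' := by
    have := congrArg (fun f : C' →ₐ[A] C' => f c') (h1.trans h2.symm)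
    exact this
  obtain ⟨c, hc⟩ := (g c').2
  exact ⟨c, hc.trans h3⟩

end Groth.Agent.S13717
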