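import Mathlib
import Groth.Statements.S13719
import Groth.Agent.Lib.Helper20.PolLawKer

set_option autoImplicit false
universe u
open scoped TensorProduct
open ZeroCyc
open Groth.Agent.Lib.Helper20.PolLawKer

namespace Groth.Agent.S13719

section general

variable {A : Type u} [CommRing A]

theorem rid_eq {S : Type u} [CommSemiring S] [Algebra A S] (u : S ⊗[A] A) :
    TensorProduct.rid A S u = Algebra.TensorProduct.rid A S S u := by
  induction u using TensorProduct.induction_on with
  | zero => simp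
  | tmul s a => simp
  | add a b ha hb => simp [ha, hb]

theorem rid_mul {S : Type u} [CommSemiring S] [Algebra A S] (u v : S ⊗[A] A) :
    TensorProduct.rid A S (u * v) = TensorProduct.rid A S u * TensorProduct.rid A S v := by
  rw [rid_eq, rid_eq, rid_eq, map_mul]

theorem rid_one {S : Type u} [CommSemiring S] [Algebra A S] :
    TensorProduct.rid A S (1 : S ⊗[A] A) = 1 := by
  rw [rid_eq, map_one]

theorem eq_zero_or_one_of_idem [ConnectedSpace (PrimeSpectrum A)] (e : A)
    (he : IsIdempotentElem e) : e = 0 ∨ e = 1 := by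
  have hcl : IsClopen (PrimeSpectrum.basicOpen e : Set (PrimeSpectrum A)) :=
    PrimeSpectrum.isClopen_iff.mpr ⟨e, he, rfl⟩
  rcases isClopen_iff.mp hcl with h | h
  · left
    apply PrimeSpectrum.basicOpen_injOn_isIdempotentElem he IsIdempotentElem.zero
    apply TopologicalSpace.Opens.ext
    rw [h]
    simp
  · right
    apply PrimeSpectrum.basicOpen_injOn_isIdempotentElem he IsIdempotentElem.one
    apply TopologicalSpace.Opens.ext
    rw [h]
    simp

theorem pow_tmul_inj [Nontrivial A] {a b : ℕ}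
    (h : ((Polynomial.X : Polynomial A) ^ a) ⊗ₜ[A] (1 : A) =
      ((Polynomial.X : Polynomial A) ^ b) ⊗ₜ[A] (1 : A)) : a = b := by
  have h2 := congrArg (TensorProduct.rid A (Polynomial A)) h
  rw [TensorProduct.rid_tmul, TensorProduct.rid_tmul, one_smul, one_smul] at h2
  have h3 := congrArg Polynomial.natDegree h2
  rwa [Polynomial.natDegree_X_pow, Polynomial.natDegree_X_pow] at h3

/-- A natural multiplicative unital family `s ↦ P_S(s) ∈ S ⊗ A` over a ring with connected
spectrum is a pure power. -/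
theorem exists_pow_of_multiplicative [ConnectedSpace (PrimeSpectrum A)]
    (P : ∀ (S : Type u) [CommSemiring S] [Algebra A S], S → S ⊗[A] A)
    (hnat : ∀ (S S' : Type u) [CommSemiring S] [Algebra A S] [CommSemiring S'] [Algebra A S']
      (φ : S →ₐ[A] S') (s : S), φ.toLinearMap.rTensor A (P S s) = P S' (φ s))
    (hmul : ∀ (S : Type u) [CommSemiring S] [Algebra A S] (s s' : S),
      P S (s * s') = P S s * P S s')
    (hone : ∀ (S : Type u) [CommSemiring S] [Algebra A S], P S 1 = 1) :
    ∃ k : ℕ, ∀ (S : Type u) [CommSemiring S] [Algebra A S] (s : S),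
      P S s = (s ^ k) ⊗ₜ[A] (1 : A) := by
  classical
  haveI : Nontrivial A :=
    PrimeSpectrum.nonempty_iff_nontrivial.mp (ConnectedSpace.toNonempty)
  set p : Polynomial A := TensorProduct.rid A (Polynomial A) (P (Polynomial A) Polynomial.X)
    with hp
  have claim1 : ∀ (S : Type u) [CommSemiring S] [Algebra A S] (s : S),
      TensorProduct.rid A S (P S s) = Polynomial.aeval s p := by
    intro S _ _ s
    have h := hnat (Polynomial A) S (Polynomial.aeval s) Polynomial.X
    rw [Polynomial.aeval_X] at h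
    rw [← h, rid_rTensor]
  have claim2 : ∀ (S : Type u) [CommSemiring S] [Algebra A S] (s s' : S),
      Polynomial.aeval (s * s') p = Polynomial.aeval s p * Polynomial.aeval s' p := by
    intro S _ _ s s'
    rw [← claim1, ← claim1, ← claim1, hmul, rid_mul]
  have claim3 : ∀ k l, p.coeff k * p.coeff l = if k = l then p.coeff l else 0 := by
    intro k l
    have h := claim2 (Polynomial (Polynomial A)) (Polynomial.C Polynomial.X) Polynomial.X
    have h1 : Polynomial.aeval (Polynomial.C (Polynomial.X : Polynomial A) *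
        (Polynomial.X : Polynomial (Polynomial A))) p =
        (p.map (algebraMap A (Polynomial A))).comp
          (Polynomial.C (Polynomial.X : Polynomial A) * Polynomial.X) := by
      rw [Polynomial.comp, Polynomial.eval₂_map, Polynomial.aeval_def]
      rfl
    have h2 : Polynomial.aeval (Polynomial.C (Polynomial.X : Polynomial A) :
        Polynomial (Polynomial A)) p = Polynomial.C p := by
      have := Polynomial.aeval_algHom_apply
        (Polynomial.CAlgHom : Polynomial A →ₐ[A] Polynomial (Polynomial A))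
        (Polynomial.X : Polynomial A) p
      rw [Polynomial.aeval_X_left_apply] at this
      exact this
    have h3 : Polynomial.aeval (Polynomial.X : Polynomial (Polynomial A)) p =
        p.map (algebraMap A (Polynomial A)) := Polynomial.aeval_X_left_eq_map p
    rw [h1, h2, h3] at h
    have h4 := congrArg (fun q : Polynomial (Polynomial A) => (q.coeff l).coeff k) h
    simp only [Polynomial.comp_C_mul_X_coeff, Polynomial.coeff_map, Polynomial.coeff_C_mul,
      Polynomial.algebraMap_apply, Algebra.algebraMap_self, RingHom.id_apply,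
      Polynomial.coeff_C_mul_X_pow, Polynomial.coeff_mul_C] at h4
    rw [h4.symm, Polynomial.coeff_X_pow]
    split_ifs <;> simp
  have hidem : ∀ k, IsIdempotentElem (p.coeff k) := fun k => by
    have := claim3 k k
    simpa [IsIdempotentElem] using this
  have h01 : ∀ k, p.coeff k = 0 ∨ p.coeff k = 1 := fun k => eq_zero_or_one_of_idem _ (hidem k)
  have hp1 : p.eval 1 = 1 := by
    have := claim1 A 1
    rw [hone, rid_one, Polynomial.coe_aeval_eq_eval] at this
    exact this.symm
  have hpne : p ≠ 0 := by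
    intro h0
    rw [h0, Polynomial.eval_zero] at hp1
    exact zero_ne_one hp1
  obtain ⟨k, hk⟩ : ∃ k, p.coeff k ≠ 0 := by
    by_contra hcon
    push Not at hcon
    exact hpne (Polynomial.ext fun n => by simp [hcon n])
  have hk1 : p.coeff k = 1 := (h01 k).resolve_left hk
  have hpX : p = Polynomial.X ^ k := by
    ext l
    rw [Polynomial.coeff_X_pow]
    by_cases hlk : l = k
    · rw [if_pos hlk, hlk, hk1]
    · rw [if_neg hlk]
      have := claim3 k l
      rw [hk1, one_mul, if_neg (Ne.symm hlk)] at this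
      exact this
  refine ⟨k, fun S _ _ s => ?_⟩
  apply (TensorProduct.rid A S).injective
  rw [claim1, hpX, map_pow, Polynomial.aeval_X, TensorProduct.rid_tmul, one_smul]

theorem mulLaw_tmul_one {B' : Type u} [CommRing B'] [Algebra A B'] {k : ℕ}
    (G : PolLaw.MulLaw A B' A k) (S : Type u) [CommSemiring S] [Algebra A S] (s : S) :
    G.law.toFun' S (s ⊗ₜ[A] (1 : B')) = (s ^ k) ⊗ₜ[A] (1 : A) := by
  have h1 : s ⊗ₜ[A] (1 : B') = s • (1 : S ⊗[A] B') := by
    rw [Algebra.TensorProduct.one_def, TensorProduct.smul_tmul', smul_eq_mul, mul_one]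
  rw [h1, G.homog S s 1, (G.mult S).1, Algebra.TensorProduct.one_def, TensorProduct.smul_tmul',
    smul_eq_mul, mul_one]

/-- A natural multiplicative unital family of maps `E_S : S ⊗ B₁ → S ⊗ B` pulls a multiplicative
homogeneous law on `B` back to one on `B₁` (of some degree), over a connected base. -/
theorem exists_mulLaw_of_emb [ConnectedSpace (PrimeSpectrum A)] {B B₁ : Type u} [CommRing B]
    [Algebra A B] [CommRing B₁] [Algebra A B₁] {d : ℕ} (F : PolLaw.MulLaw A B A d)
    (E : ∀ (S : Type u) [CommSemiring S] [Algebra A S], S ⊗[A] B₁ → S ⊗[A] B)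
    (hone : ∀ (S : Type u) [CommSemiring S] [Algebra A S], E S 1 = 1)
    (hmul : ∀ (S : Type u) [CommSemiring S] [Algebra A S] (x y : S ⊗[A] B₁),
      E S (x * y) = E S x * E S y)
    (hnat : ∀ (S S' : Type u) [CommSemiring S] [Algebra A S] [CommSemiring S'] [Algebra A S']
      (φ : S →ₐ[A] S') (x : S ⊗[A] B₁),
      Algebra.TensorProduct.map φ (AlgHom.id A B) (E S x) =
        E S' (Algebra.TensorProduct.map φ (AlgHom.id A B₁) x)) :
    ∃ (k : ℕ) (G : PolLaw.MulLaw A B₁ A k), ∀ (S : Type u) [CommSemiring S] [Algebra A S]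
      (x : S ⊗[A] B₁), G.law.toFun' S x = F.law.toFun' S (E S x) := by
  let G₀ : B₁ →ₚₗ[A] A :=
    { toFun' := fun S _ _ x => F.law.toFun' S (E S x)
      isCompat' := by
        intro S _ _ S' _ _ φ
        funext x
        simp only [Function.comp_apply]
        rw [PolynomialLaw.isCompat_apply', rTensor_eq_map, hnat, ← rTensor_eq_map] }
  obtain ⟨k, hk⟩ := exists_pow_of_multiplicative
    (fun S _ _ s => F.law.toFun' S (E S (s ⊗ₜ[A] (1 : B₁))))
    (by
      intro S S' _ _ _ _ φ s
      rw [PolynomialLaw.isCompat_apply', rTensor_eq_map, hnat, Algebra.TensorProduct.map_tmul,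
        map_one])
    (by
      intro S _ _ s s'
      rw [← (F.mult S).2, ← hmul, Algebra.TensorProduct.tmul_mul_tmul, mul_one])
    (by
      intro S _ _
      rw [← Algebra.TensorProduct.one_def, hone, (F.mult S).1])
  have hk' : ∀ (S : Type u) [CommSemiring S] [Algebra A S] (s : S),
      F.law.toFun' S (E S (s ⊗ₜ[A] (1 : B₁))) = (s ^ k) ⊗ₜ[A] (1 : A) := hk
  refine ⟨k, ⟨G₀, ?_, ?_⟩, fun S _ _ x => rfl⟩
  · intro S _ _ s x
    show F.law.toFun' S (E S (s • x)) = s ^ k • F.law.toFun' S (E S x)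
    rw [← tmul_one_mul, hmul, (F.mult S).2, hk' S s, tmul_one_mul]
  · intro S _ _
    refine ⟨?_, fun x y => ?_⟩
    · show F.law.toFun' S (E S 1) = 1
      rw [hone, (F.mult S).1]
    · show F.law.toFun' S (E S (x * y)) = F.law.toFun' S (E S x) * F.law.toFun' S (E S y)
      rw [hmul, (F.mult S).2]

end general

section prod

variable (A : Type u) [CommRing A] (B₁ : Type u) [CommRing B₁] [Algebra A B₁]
  (B₂ : Type u) [CommRing B₂] [Algebra A B₂]

/-- `S ⊗ (B₁ × B₂) ≃ (S ⊗ B₁) × (S ⊗ B₂)` -/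
noncomputable def Ψ (S : Type u) [CommSemiring S] [Algebra A S] :
    S ⊗[A] (B₁ × B₂) ≃ₐ[S] (S ⊗[A] B₁) × (S ⊗[A] B₂) :=
  Algebra.TensorProduct.prodRight A S S B₁ B₂

variable {A B₁ B₂}

theorem Ψ_nat {S S' : Type u} [CommSemiring S] [Algebra A S] [CommSemiring S'] [Algebra A S']
    (φ : S →ₐ[A] S') (z : S ⊗[A] (B₁ × B₂)) :
    Ψ A B₁ B₂ S' (Algebra.TensorProduct.map φ (AlgHom.id A (B₁ × B₂)) z) =
      (Algebra.TensorProduct.map φ (AlgHom.id A B₁) (Ψ A B₁ B₂ S z).1,
        Algebra.TensorProduct.map φ (AlgHom.id A B₂) (Ψ A B₁ B₂ S z).2) := by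
  induction z using TensorProduct.induction_on with
  | zero =>
    simp only [map_zero, Prod.fst_zero, Prod.snd_zero]
    rfl
  | tmul s b => rfl
  | add x y hx hy =>
    simp only [map_add, hx, hy, Prod.fst_add, Prod.snd_add, Prod.mk_add_mk]

theorem Ψ_symm_nat {S S' : Type u} [CommSemiring S] [Algebra A S] [CommSemiring S']
    [Algebra A S'] (φ : S →ₐ[A] S') (x₁ : S ⊗[A] B₁) (x₂ : S ⊗[A] B₂) :
    Algebra.TensorProduct.map φ (AlgHom.id A (B₁ × B₂)) ((Ψ A B₁ B₂ S).symm (x₁, x₂)) =
      (Ψ A B₁ B₂ S').symm (Algebra.TensorProduct.map φ (AlgHom.id A B₁) x₁,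
        Algebra.TensorProduct.map φ (AlgHom.id A B₂) x₂) := by
  apply (Ψ A B₁ B₂ S').injective
  rw [Ψ_nat, AlgEquiv.apply_symm_apply, AlgEquiv.apply_symm_apply]

theorem Ψ_fst {S : Type u} [CommSemiring S] [Algebra A S] (z : S ⊗[A] (B₁ × B₂)) :
    (Ψ A B₁ B₂ S z).1 = LinearMap.lTensor S (LinearMap.fst A B₁ B₂) z := by
  induction z using TensorProduct.induction_on with
  | zero => simp
  | tmul s b => rfl
  | add x y hx hy => simp only [map_add, Prod.fst_add, hx, hy]

theorem Ψ_snd {S : Type u} [CommSemiring S] [Algebra A S] (z : S ⊗[A] (B₁ × B₂)) :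
    (Ψ A B₁ B₂ S z).2 = LinearMap.lTensor S (LinearMap.snd A B₁ B₂) z := by
  induction z using TensorProduct.induction_on with
  | zero => simp
  | tmul s b => rfl
  | add x y hx hy => simp only [map_add, Prod.snd_add, hx, hy]

end prod

/-- Let A be a commutative ring whose prime spectrum is connected, B₁, B₂ commutative A-algebras and F :
B₁ × B₂ → A a multiplicative polynomial law homogeneous of degree d (a family of zero-cycles of
degree d on the disjoint union Spec B₁ ⊔ Spec B₂ over Spec A). Then there are natural numbers d₁ +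
d₂ = d, the multiplicities of the family on the two pieces, and multiplicative laws F₁ : B₁ → A, F₂
: B₂ → A homogeneous of degrees d₁, d₂ with F(x) = F₁(x₁) F₂(x₂) for every test algebra S and x ∈ S
⊗ (B₁ × B₂) with components x₁, x₂; and the degrees d₁, d₂ of any such factorisation are uniquely
determined. (The published statement is for finitely many algebraic spaces affine over a connected
algebraic space S; this row is the case of two pieces over an affine base.) -/
theorem result {A : Type u} [CommRing A] [ConnectedSpace (PrimeSpectrum A)]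
    {B₁ : Type u} [CommRing B₁] [Algebra A B₁] {B₂ : Type u} [CommRing B₂] [Algebra A B₂]
    {d : ℕ} (F : PolLaw.MulLaw A (B₁ × B₂) A d) :
    ∃ d₁ d₂ : ℕ, d₁ + d₂ = d ∧
      (∃ (F₁ : PolLaw.MulLaw A B₁ A d₁) (F₂ : PolLaw.MulLaw A B₂ A d₂),
        ∀ (S : Type u) [CommSemiring S] [Algebra A S] (x : S ⊗[A] (B₁ × B₂)),
          F.law.toFun' S x = F₁.law.toFun' S (LinearMap.lTensor S (LinearMap.fst A B₁ B₂) x) *
            F₂.law.toFun' S (LinearMap.lTensor S (LinearMap.snd A B₁ B₂) x)) ∧
      ∀ (e₁ e₂ : ℕ) (G₁ : PolLaw.MulLaw A B₁ A e₁) (G₂ : PolLaw.MulLaw A B₂ A e₂),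
        (∀ (S : Type u) [CommSemiring S] [Algebra A S] (x : S ⊗[A] (B₁ × B₂)),
          F.law.toFun' S x = G₁.law.toFun' S (LinearMap.lTensor S (LinearMap.fst A B₁ B₂) x) *
            G₂.law.toFun' S (LinearMap.lTensor S (LinearMap.snd A B₁ B₂) x)) → e₁ = d₁ ∧ e₂ = d₂ := by
  haveI : Nontrivial A :=
    PrimeSpectrum.nonempty_iff_nontrivial.mp (ConnectedSpace.toNonempty)
  obtain ⟨d₁, F₁, hF₁⟩ := exists_mulLaw_of_emb F
    (fun S _ _ x => (Ψ A B₁ B₂ S).symm (x, 1))
    (by
      intro S _ _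
      rw [Prod.mk_one_one, map_one])
    (by
      intro S _ _ x y
      rw [← map_mul, Prod.mk_mul_mk, one_mul])
    (by
      intro S S' _ _ _ _ φ x
      rw [Ψ_symm_nat, map_one])
  obtain ⟨d₂, F₂, hF₂⟩ := exists_mulLaw_of_emb F
    (fun S _ _ x => (Ψ A B₁ B₂ S).symm (1, x))
    (by
      intro S _ _
      rw [Prod.mk_one_one, map_one])
    (by
      intro S _ _ x y
      rw [← map_mul, Prod.mk_mul_mk, one_mul])
    (by
      intro S S' _ _ _ _ φ x
      rw [Ψ_symm_nat, map_one])
  have hfac : ∀ (S : Type u) [CommSemiring S] [Algebra A S] (x : S ⊗[A] (B₁ × B₂)),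
      F.law.toFun' S x = F₁.law.toFun' S (LinearMap.lTensor S (LinearMap.fst A B₁ B₂) x) *
        F₂.law.toFun' S (LinearMap.lTensor S (LinearMap.snd A B₁ B₂) x) := by
    intro S _ _ x
    rw [hF₁, hF₂, ← (F.mult S).2, ← map_mul, Prod.mk_mul_mk, mul_one, one_mul, ← Ψ_fst, ← Ψ_snd,
      Prod.mk.eta, AlgEquiv.symm_apply_apply]
  -- the values at `s ⊗ 1`
  have hP₁ : ∀ (S : Type u) [CommSemiring S] [Algebra A S] (s : S),
      F.law.toFun' S ((Ψ A B₁ B₂ S).symm (s ⊗ₜ[A] (1 : B₁), 1)) = (s ^ d₁) ⊗ₜ[A] (1 : A) := by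
    intro S _ _ s
    rw [← hF₁, mulLaw_tmul_one]
  have hP₂ : ∀ (S : Type u) [CommSemiring S] [Algebra A S] (s : S),
      F.law.toFun' S ((Ψ A B₁ B₂ S).symm (1, s ⊗ₜ[A] (1 : B₂))) = (s ^ d₂) ⊗ₜ[A] (1 : A) := by
    intro S _ _ s
    rw [← hF₂, mulLaw_tmul_one]
  have hsum : d₁ + d₂ = d := by
    have h1 := mulLaw_tmul_one F (Polynomial A) Polynomial.X
    have h2 : (Polynomial.X : Polynomial A) ⊗ₜ[A] (1 : B₁ × B₂) =
        (Ψ A B₁ B₂ (Polynomial A)).symm (Polynomial.X ⊗ₜ[A] (1 : B₁), 1) *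
          (Ψ A B₁ B₂ (Polynomial A)).symm (1, Polynomial.X ⊗ₜ[A] (1 : B₂)) := by
      rw [← map_mul, Prod.mk_mul_mk, mul_one, one_mul]
      exact (Algebra.TensorProduct.prodRight_symm_tmul A (Polynomial A) (Polynomial A) B₁ B₂
        Polynomial.X 1 1).symm
    rw [h2, (F.mult _).2, hP₁, hP₂, Algebra.TensorProduct.tmul_mul_tmul, mul_one, ← pow_add] at h1
    exact pow_tmul_inj h1
  refine ⟨d₁, d₂, hsum, ⟨F₁, F₂, hfac⟩, ?_⟩
  intro e₁ e₂ G₁ G₂ hG
  constructor
  · have h1 := hG (Polynomial A)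
      ((Ψ A B₁ B₂ (Polynomial A)).symm (Polynomial.X ⊗ₜ[A] (1 : B₁), 1))
    rw [hP₁, ← Ψ_fst, ← Ψ_snd, AlgEquiv.apply_symm_apply, mulLaw_tmul_one, (G₂.mult _).1,
      mul_one] at h1
    exact (pow_tmul_inj h1).symm
  · have h1 := hG (Polynomial A)
      ((Ψ A B₁ B₂ (Polynomial A)).symm (1, Polynomial.X ⊗ₜ[A] (1 : B₂)))
    rw [hP₂, ← Ψ_fst, ← Ψ_snd, AlgEquiv.apply_symm_apply, mulLaw_tmul_one, (G₁.mult _).1,
      one_mul] at h1
    exact (pow_tmul_inj h1).symm

end Groth.Agent.S13719
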