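import Groth.Statements.S13720
import Mathlib

set_option autoImplicit false
universe u
open scoped TensorProduct
open ZeroCyc

namespace Groth.Agent.S13720

/-- Let B be the filtered direct limit of a directed system (B_i, t_ij : B_i → B_j) of commutative
algebras over the commutative ring A, with structure maps φ_i : B_i → B (jointly surjective, and an
element of B_i vanishing in B already vanishes in some B_j), and let F : B → C be a multiplicative
polynomial law homogeneous of degree d, with restrictions F_i = F ∘ φ_i. Then an element b of B lies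
in the kernel of F if and only if it is the image of some x ∈ B_i whose images in B_j lie in the
kernel of F_j for every j ≥ i; that is, the kernel of F is the direct limit of the kernels of the
F_i. -/
theorem result {A : Type u} [CommRing A] {B : Type u} [CommRing B] [Algebra A B]
    {C : Type u} [CommRing C] [Algebra A C] {ι : Type u} [Preorder ι] [IsDirected ι (fun i j => i ≤ j)] [Nonempty ι]
    (Bi : ι → Type u) [∀ i, CommRing (Bi i)] [∀ i, Algebra A (Bi i)]
    (t : ∀ i j : ι, i ≤ j → (Bi i →ₐ[A] Bi j)) (φ : ∀ i : ι, Bi i →ₐ[A] B)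
    (hcomp : ∀ (i j : ι) (h : i ≤ j), (φ j).comp (t i j h) = φ i)
    (hsurj : ∀ b : B, ∃ (i : ι) (x : Bi i), φ i x = b)
    (hzero : ∀ (i : ι) (x : Bi i), φ i x = 0 → ∃ (j : ι) (h : i ≤ j), t i j h x = 0)
    {d : ℕ} (F : PolLaw.MulLaw A B C d) (b : B) :
    b ∈ PolLaw.ker F.law ↔ ∃ (i : ι) (x : Bi i), φ i x = b ∧
      ∀ (j : ι) (h : i ≤ j), t i j h x ∈ PolLaw.ker (F.precomp (φ j)).law := by
  classical
  have hpre : ∀ (j : ι) (S : Type u) [CommSemiring S] [Algebra A S] (X : S ⊗[A] Bi j),
      (F.precomp (φ j)).law.toFun' S X =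
        F.law.toFun' S (Algebra.TensorProduct.map (AlgHom.id S S) (φ j) X) := by
    intro j S _ _ X
    rw [← PolLaw.lTensor_algHom_apply]
    rfl
  have hΨ : ∀ (S : Type u) [CommSemiring S] [Algebra A S] (j1 j2 : ι) (h : j1 ≤ j2)
      (z : S ⊗[A] Bi j1),
      Algebra.TensorProduct.map (AlgHom.id S S) (φ j2)
        (Algebra.TensorProduct.map (AlgHom.id S S) (t j1 j2 h) z) =
      Algebra.TensorProduct.map (AlgHom.id S S) (φ j1) z := by
    intro S _ _ j1 j2 h z
    induction z using TensorProduct.induction_on with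
    | zero => simp
    | tmul s y =>
      simp only [Algebra.TensorProduct.map_tmul, AlgHom.coe_id, id_eq]
      rw [← hcomp j1 j2 h]
      rfl
    | add z1 z2 h1 h2 => simp only [map_add, h1, h2]
  constructor
  · intro hb
    obtain ⟨i, x, hx⟩ := hsurj b
    refine ⟨i, x, hx, fun j h S _ _ X W => ?_⟩
    rw [hpre, hpre, map_add, map_mul]
    have h1 : Algebra.TensorProduct.map (AlgHom.id S S) (φ j) (1 ⊗ₜ[A] t i j h x) =
        1 ⊗ₜ[A] b := by
      simp only [Algebra.TensorProduct.map_tmul, map_one]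
      rw [← hx, ← hcomp i j h]
      rfl
    rw [h1]
    exact hb S _ _
  · rintro ⟨i, x, hx, hker⟩ S _ _ X W
    have hlift : ∀ (Z : S ⊗[A] B) (i0 : ι), ∃ (j : ι) (_ : i0 ≤ j) (Zj : S ⊗[A] Bi j),
        Algebra.TensorProduct.map (AlgHom.id S S) (φ j) Zj = Z := by
      intro Z
      induction Z using TensorProduct.induction_on with
      | zero => exact fun i0 => ⟨i0, le_rfl, 0, map_zero _⟩
      | tmul s c =>
        intro i0
        obtain ⟨i1, y, hy⟩ := hsurj c
        obtain ⟨j, h0, h1⟩ := exists_ge_ge i0 i1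
        refine ⟨j, h0, s ⊗ₜ[A] t i1 j h1 y, ?_⟩
        simp only [Algebra.TensorProduct.map_tmul, AlgHom.coe_id, id_eq]
        rw [← hy, ← hcomp i1 j h1]
        rfl
      | add Z1 Z2 ih1 ih2 =>
        intro i0
        obtain ⟨j1, h1, Z1', e1⟩ := ih1 i0
        obtain ⟨j2, h2, Z2', e2⟩ := ih2 j1
        refine ⟨j2, h1.trans h2,
          Algebra.TensorProduct.map (AlgHom.id S S) (t j1 j2 h2) Z1' + Z2', ?_⟩
        rw [map_add, hΨ, e1, e2]
    obtain ⟨j1, h1, X1, eX1⟩ := hlift X i
    obtain ⟨j2, h2, W2, eW2⟩ := hlift W j1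
    have hij : i ≤ j2 := h1.trans h2
    have h3 := hker j2 hij S (Algebra.TensorProduct.map (AlgHom.id S S) (t j1 j2 h2) X1) W2
    rw [hpre, hpre, map_add, map_mul, hΨ, eX1, eW2] at h3
    have h4 : Algebra.TensorProduct.map (AlgHom.id S S) (φ j2) (1 ⊗ₜ[A] t i j2 hij x) =
        1 ⊗ₜ[A] b := by
      simp only [Algebra.TensorProduct.map_tmul, map_one]
      rw [← hx, ← hcomp i j2 hij]
      rfl
    rw [h4] at h3
    exact h3

end Groth.Agent.S13720
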