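import Mathlib
import Groth.Statements.S13721
import Groth.Agent.Lib.Helper20.PolLawKer

set_option autoImplicit false
universe u
open scoped TensorProduct
open ZeroCyc
open Groth.Agent.Lib.Helper20.PolLawKer

namespace Groth.Agent.S13721

section univ

variable {A : Type u} [CommRing A] {B : Type u} [CommRing B] [Algebra A B]

/-- naturality of the comparison map `A₁ ⊗ B → R ⊗ B` -/
theorem theta_nat {A₁ A₂ : Type u} [CommRing A₁] [Algebra A A₁] [CommRing A₂] [Algebra A A₂]
    (g : A₁ →ₐ[A] A₂)
    {R₁ R₂ : Type u} [CommSemiring R₁] [Algebra A R₁] [Algebra A₁ R₁] [IsScalarTower A A₁ R₁]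
    [CommSemiring R₂] [Algebra A R₂] [Algebra A₂ R₂] [IsScalarTower A A₂ R₂]
    (ψ : R₁ →ₐ[A] R₂) (hψ : ∀ a, ψ (algebraMap A₁ R₁ a) = algebraMap A₂ R₂ (g a))
    (z : A₁ ⊗[A] B) :
    Algebra.TensorProduct.map ψ (AlgHom.id A B)
      (Algebra.TensorProduct.map (IsScalarTower.toAlgHom A A₁ R₁) (AlgHom.id A B) z) =
    Algebra.TensorProduct.map (IsScalarTower.toAlgHom A A₂ R₂) (AlgHom.id A B)
      (Algebra.TensorProduct.map g (AlgHom.id A B) z) := by
  have hcomp : ψ.comp (IsScalarTower.toAlgHom A A₁ R₁) =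
      (IsScalarTower.toAlgHom A A₂ R₂).comp g := AlgHom.ext fun a => by simp [hψ]
  rw [map_map_apply, map_map_apply, hcomp]

/-- the universal test ring over `A₁` -/
abbrev U (n : ℕ) (A₁ : Type u) [CommRing A₁] : Type u := MvPolynomial (Fin n ⊕ Fin n) A₁

noncomputable def x₀ {n : ℕ} (s : Fin n → B) (A₁ : Type u) [CommRing A₁] [Algebra A A₁] :
    U n A₁ ⊗[A] B := ∑ l, (MvPolynomial.X (Sum.inl l) : U n A₁) ⊗ₜ[A] s l

noncomputable def w₀ {n : ℕ} (s : Fin n → B) (A₁ : Type u) [CommRing A₁] [Algebra A A₁] :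
    U n A₁ ⊗[A] B := ∑ l, (MvPolynomial.X (Sum.inr l) : U n A₁) ⊗ₜ[A] s l

/-- the universal argument -/
noncomputable def y₀ {n : ℕ} (s : Fin n → B) (A₁ : Type u) [CommRing A₁] [Algebra A A₁]
    (b₁ : A₁ ⊗[A] B) : U n A₁ ⊗[A] B :=
  x₀ s A₁ + w₀ s A₁ * Algebra.TensorProduct.map (IsScalarTower.toAlgHom A A₁ (U n A₁))
    (AlgHom.id A B) b₁

theorem mem_kerBC_of_universal (F : B →ₚₗ[A] A) {n : ℕ} (s : Fin n → B)
    (hs : Submodule.span A (Set.range s) = ⊤) (A₁ : Type u) [CommRing A₁] [Algebra A A₁]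
    (b₁ : A₁ ⊗[A] B)
    (h : F.toFun' (U n A₁) (y₀ s A₁ b₁) = F.toFun' (U n A₁) (x₀ s A₁)) :
    b₁ ∈ PolLaw.kerBC F A₁ := by
  rw [mem_kerBC_iff]
  intro R _ _ _ _ x w
  obtain ⟨cx, rfl⟩ := exists_sum_tmul s hs x
  obtain ⟨cw, rfl⟩ := exists_sum_tmul s hs w
  let ψ : U n A₁ →ₐ[A] R :=
    (MvPolynomial.aeval (Sum.elim cx cw) : U n A₁ →ₐ[A₁] R).restrictScalars A
  have hψ : ∀ a, ψ (algebraMap A₁ (U n A₁) a) = algebraMap A₁ R (AlgHom.id A A₁ a) := by
    intro a
    simp [ψ]
  have h3 := congrArg (ψ.toLinearMap.rTensor A) h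
  rw [PolynomialLaw.isCompat_apply', PolynomialLaw.isCompat_apply', rTensor_eq_map,
    rTensor_eq_map, y₀, map_add, map_mul, theta_nat (AlgHom.id A A₁) ψ hψ, map_id_apply'] at h3
  have hx : Algebra.TensorProduct.map ψ (AlgHom.id A B) (x₀ s A₁) = ∑ i, cx i ⊗ₜ[A] s i := by
    simp [x₀, ψ]
  have hw : Algebra.TensorProduct.map ψ (AlgHom.id A B) (w₀ s A₁) = ∑ i, cw i ⊗ₜ[A] s i := by
    simp [w₀, ψ]
  rw [hx, hw] at h3
  exact h3

/-- change of coefficient ring in the universal test ring -/
theorem push (F : B →ₚₗ[A] A) {n : ℕ} (s : Fin n → B)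
    {A₁ A₂ : Type u} [CommRing A₁] [Algebra A A₁] [CommRing A₂] [Algebra A A₂]
    (g : A₁ →ₐ[A] A₂) (b₁ : A₁ ⊗[A] B) :
    ((MvPolynomial.mapAlgHom g : U n A₁ →ₐ[A] U n A₂).toLinearMap.rTensor A)
        (F.toFun' (U n A₁) (y₀ s A₁ b₁)) =
      F.toFun' (U n A₂) (y₀ s A₂ (Algebra.TensorProduct.map g (AlgHom.id A B) b₁)) ∧
    ((MvPolynomial.mapAlgHom g : U n A₁ →ₐ[A] U n A₂).toLinearMap.rTensor A)
        (F.toFun' (U n A₁) (x₀ s A₁)) = F.toFun' (U n A₂) (x₀ s A₂) := by
  have hψ : ∀ a, (MvPolynomial.mapAlgHom g : U n A₁ →ₐ[A] U n A₂) (algebraMap A₁ (U n A₁) a) =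
      algebraMap A₂ (U n A₂) (g a) := by
    intro a
    simp [MvPolynomial.algebraMap_eq]
  have hx : Algebra.TensorProduct.map (MvPolynomial.mapAlgHom g : U n A₁ →ₐ[A] U n A₂)
      (AlgHom.id A B) (x₀ s A₁) = x₀ s A₂ := by
    simp [x₀]
  have hw : Algebra.TensorProduct.map (MvPolynomial.mapAlgHom g : U n A₁ →ₐ[A] U n A₂)
      (AlgHom.id A B) (w₀ s A₁) = w₀ s A₂ := by
    simp [w₀]
  constructor
  · rw [PolynomialLaw.isCompat_apply', rTensor_eq_map, y₀, map_add, map_mul,
      theta_nat g _ hψ, hx, hw, y₀]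
  · rw [PolynomialLaw.isCompat_apply', rTensor_eq_map, hx]

end univ

/-- Let F : B → A be a multiplicative polynomial law homogeneous of degree d over the commutative ring
A, on a commutative A-algebra B which is finite as an A-module, and let A' be the filtered direct
limit of a directed system (A'_i, t_ij) of commutative A-algebras (t_ii the identity, t_jk ∘ t_ij =
t_ik) with structure maps φ_i : A'_i → A' (compatible with the t_ij, jointly surjective, and an
element of A'_i vanishing in A' already vanishes in some A'_j). Then the kernel of the base change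
of F to A', an ideal of A' ⊗_A B, is the supremum over i of the extensions along φ_i ⊗ B of the
kernels of the base changes of F to the A'_i: the kernel of the base-changed law is the direct limit
of the kernels. (The published statement has no finiteness hypothesis on B and is false without one:
for a suitable algebra B that is not finitely generated and a suitable directed system of quotients
of A, an element of A' ⊗_A B lies in the kernel over the limit although it comes from the kernel at
no finite stage, because the conditions cutting out the kernel at an element are infinitely many and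
die one at a time along the system; the published proof's reduction to finite B does not go through.
This row assumes B finite over A, the case that proof establishes.) -/
theorem result {A : Type u} [CommRing A] {B : Type u} [CommRing B] [Algebra A B]
    [Module.Finite A B] {A' : Type u} [CommRing A'] [Algebra A A'] {ι : Type u} [Preorder ι] [IsDirected ι (fun i j => i ≤ j)] [Nonempty ι]
    (Ai : ι → Type u) [∀ i, CommRing (Ai i)] [∀ i, Algebra A (Ai i)]
    (t : ∀ i j : ι, i ≤ j → (Ai i →ₐ[A] Ai j)) (φ : ∀ i : ι, Ai i →ₐ[A] A')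
    (hcomp : ∀ (i j : ι) (h : i ≤ j), (φ j).comp (t i j h) = φ i)
    (hsurj : ∀ a : A', ∃ (i : ι) (x : Ai i), φ i x = a)
    (hzero : ∀ (i : ι) (x : Ai i), φ i x = 0 → ∃ (j : ι) (h : i ≤ j), t i j h x = 0)
    (hid : ∀ (i : ι) (h : i ≤ i), t i i h = AlgHom.id A (Ai i))
    (htrans : ∀ (i j k : ι) (hij : i ≤ j) (hjk : j ≤ k), (t j k hjk).comp (t i j hij) = t i k (hij.trans hjk))
    {d : ℕ} (F : PolLaw.MulLaw A B A d) :
    PolLaw.kerBC F.law A' =
      ⨆ i : ι, (PolLaw.kerBC F.law (Ai i)).map (Algebra.TensorProduct.map (φ i) (AlgHom.id A B)) := by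
  classical
  obtain ⟨n, s, hs⟩ := Module.Finite.exists_fin (R := A) (M := B)
  apply le_antisymm
  · intro b' hb'
    -- Step 1: b' comes from a finite stage
    have hstage : ∀ z : A' ⊗[A] B, ∃ (i : ι) (bi : Ai i ⊗[A] B),
        Algebra.TensorProduct.map (φ i) (AlgHom.id A B) bi = z := by
      intro z
      induction z using TensorProduct.induction_on with
      | zero => exact ⟨Classical.arbitrary ι, 0, map_zero _⟩
      | tmul a b =>
        obtain ⟨i, x, rfl⟩ := hsurj a
        exact ⟨i, x ⊗ₜ[A] b, by simp⟩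
      | add z₁ z₂ h₁ h₂ =>
        obtain ⟨i₁, c₁, rfl⟩ := h₁
        obtain ⟨i₂, c₂, rfl⟩ := h₂
        obtain ⟨k, hk₁, hk₂⟩ := directed_of (fun i j : ι => i ≤ j) i₁ i₂
        refine ⟨k, Algebra.TensorProduct.map (t i₁ k hk₁) (AlgHom.id A B) c₁ +
          Algebra.TensorProduct.map (t i₂ k hk₂) (AlgHom.id A B) c₂, ?_⟩
        rw [map_add, map_map_apply, map_map_apply, hcomp, hcomp]
    obtain ⟨i, bi, rfl⟩ := hstage b'
    -- Step 2: the two universal values agree at a later stage
    set P := TensorProduct.rid A (U n (Ai i)) (F.law.toFun' (U n (Ai i)) (y₀ s (Ai i) bi)) with hP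
    set Q := TensorProduct.rid A (U n (Ai i)) (F.law.toFun' (U n (Ai i)) (x₀ s (Ai i))) with hQ
    have hPQ : MvPolynomial.map (φ i : Ai i →+* A') P = MvPolynomial.map (φ i : Ai i →+* A') Q := by
      have h1 := (push F.law s (φ i) bi).1
      have h2 := (push F.law s (φ i) bi).2
      have h3 := (mem_kerBC_iff F.law A' _).mp hb' (U n A') (x₀ s A') (w₀ s A')
      have e1 := rid_rTensor (MvPolynomial.mapAlgHom (φ i) : U n (Ai i) →ₐ[A] U n A')
        (F.law.toFun' (U n (Ai i)) (y₀ s (Ai i) bi))
      have e2 := rid_rTensor (MvPolynomial.mapAlgHom (φ i) : U n (Ai i) →ₐ[A] U n A')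
        (F.law.toFun' (U n (Ai i)) (x₀ s (Ai i)))
      rw [h1] at e1
      rw [h2] at e2
      rw [y₀, h3] at e1
      rw [MvPolynomial.mapAlgHom_apply] at e1 e2
      exact e1.symm.trans e2
    have hc : ∀ m, φ i (P.coeff m - Q.coeff m) = 0 := by
      intro m
      have := congrArg (MvPolynomial.coeff m) hPQ
      rw [MvPolynomial.coeff_map, MvPolynomial.coeff_map] at this
      rw [map_sub, sub_eq_zero]
      exact this
    choose jm hjm hz using fun m => hzero i _ (hc m)
    obtain ⟨j, hj⟩ := Finset.exists_le (insert i ((P.support ∪ Q.support).image jm))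
    have hij : i ≤ j := hj i (Finset.mem_insert_self _ _)
    have hPQj : MvPolynomial.map (t i j hij : Ai i →+* Ai j) P =
        MvPolynomial.map (t i j hij : Ai i →+* Ai j) Q := by
      ext m
      rw [MvPolynomial.coeff_map, MvPolynomial.coeff_map]
      by_cases hm : m ∈ P.support ∪ Q.support
      · have hmj : jm m ≤ j := hj _ (Finset.mem_insert_of_mem (Finset.mem_image_of_mem _ hm))
        have h2 : t i j hij (P.coeff m - Q.coeff m) = 0 := by
          rw [← htrans i (jm m) j (hjm m) hmj, AlgHom.comp_apply, hz m, map_zero]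
        rw [map_sub, sub_eq_zero] at h2
        exact h2
      · rw [Finset.mem_union, not_or, MvPolynomial.notMem_support_iff,
          MvPolynomial.notMem_support_iff] at hm
        simp only [RingHom.coe_coe]
        rw [hm.1, hm.2]
    -- Step 3: conclude at stage j
    have hmem : Algebra.TensorProduct.map (t i j hij) (AlgHom.id A B) bi ∈
        PolLaw.kerBC F.law (Ai j) := by
      apply mem_kerBC_of_universal F.law s hs
      have h1 := (push F.law s (t i j hij) bi).1
      have h2 := (push F.law s (t i j hij) bi).2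
      rw [← h1, ← h2]
      apply (TensorProduct.rid A (U n (Ai j))).injective
      rw [rid_rTensor, rid_rTensor, MvPolynomial.mapAlgHom_apply, MvPolynomial.mapAlgHom_apply]
      exact hPQj
    have hfin : Algebra.TensorProduct.map (φ i) (AlgHom.id A B) bi =
        Algebra.TensorProduct.map (φ j) (AlgHom.id A B)
          (Algebra.TensorProduct.map (t i j hij) (AlgHom.id A B) bi) := by
      rw [map_map_apply, hcomp]
    rw [hfin]
    exact (le_iSup (fun i : ι => (PolLaw.kerBC F.law (Ai i)).map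
      (Algebra.TensorProduct.map (φ i) (AlgHom.id A B))) j) (Ideal.mem_map_of_mem _ hmem)
  · refine iSup_le fun i => ?_
    rw [Ideal.map_le_iff_le_comap]
    intro bi hbi
    rw [Ideal.mem_comap, mem_kerBC_iff]
    intro R _ _ _ _ x w
    letI : Algebra (Ai i) R := ((algebraMap A' R).comp (φ i : Ai i →+* A')).toAlgebra
    haveI : IsScalarTower A (Ai i) R := IsScalarTower.of_algebraMap_eq (fun a => by
      rw [RingHom.algebraMap_toAlgebra]
      simp [IsScalarTower.algebraMap_apply A A' R])
    have hψ : ∀ a, (AlgHom.id A R) (algebraMap (Ai i) R a) = algebraMap A' R (φ i a) := by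
      intro a
      rw [RingHom.algebraMap_toAlgebra]
      simp
    have h1 := theta_nat (B := B) (φ i) (AlgHom.id A R) hψ bi
    rw [map_id_apply'] at h1
    rw [← h1]
    exact (mem_kerBC_iff F.law (Ai i) bi).mp hbi R x w

end Groth.Agent.S13721
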