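import Mathlib
import Groth.Statements.S13722
import Groth.Agent.Lib.Helper20.PolLawKer

set_option autoImplicit false
universe u
open scoped TensorProduct
open ZeroCyc
open Groth.Agent.Lib.Helper20.PolLawKer

namespace Groth.Agent.S13722

section key

/-- In a reduced ring, `P(t) P(-t)` constant forces `P` constant. -/
theorem eq_C_of_mul_comp_neg {R : Type u} [CommRing R] [IsReduced R] (P : Polynomial R) (a : R)
    (h : P * P.comp (-Polynomial.X) = Polynomial.C a) : P = Polynomial.C (P.coeff 0) := by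
  by_contra hne
  have hN : 0 < P.natDegree := by
    rcases Nat.eq_zero_or_pos P.natDegree with h0 | h0
    · exact absurd (Polynomial.eq_C_of_natDegree_eq_zero h0) hne
    · exact h0
  have hQ : P.comp (-Polynomial.X) = P.comp (Polynomial.C (-1) * Polynomial.X) := by
    congr 1
    simp
  have hQc : ∀ k, (P.comp (-Polynomial.X)).coeff k = P.coeff k * (-1) ^ k := by
    intro k
    rw [hQ, Polynomial.comp_C_mul_X_coeff]
  have hQdeg : (P.comp (-Polynomial.X)).natDegree ≤ P.natDegree := by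
    rw [Polynomial.natDegree_le_iff_coeff_eq_zero]
    intro k hk
    rw [hQc, Polynomial.coeff_eq_zero_of_natDegree_lt hk, zero_mul]
  have h1 := Polynomial.coeff_mul_add_eq_of_natDegree_le (le_refl P.natDegree) hQdeg
  rw [h, Polynomial.coeff_C, if_neg (by omega), hQc] at h1
  have hs : ((-1 : R) ^ P.natDegree) * (-1) ^ P.natDegree = 1 := by
    rw [← mul_pow]
    simp
  have h2 : P.coeff P.natDegree ^ 2 = 0 := by
    have : P.coeff P.natDegree ^ 2 =
        (P.coeff P.natDegree * (P.coeff P.natDegree * (-1) ^ P.natDegree)) *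
          (-1) ^ P.natDegree := by
      calc P.coeff P.natDegree ^ 2
          = P.coeff P.natDegree * P.coeff P.natDegree *
            (((-1 : R) ^ P.natDegree) * (-1) ^ P.natDegree) := by rw [hs]; ring
        _ = _ := by ring
    rw [this, ← h1, zero_mul]
  have h3 : P.coeff P.natDegree = 0 := IsReduced.eq_zero _ ⟨2, h2⟩
  have h4 : P.leadingCoeff = 0 := h3
  rw [Polynomial.leadingCoeff_eq_zero] at h4
  rw [h4] at hN
  simp at hN

end key

section Phi

variable {A : Type u} [CommRing A] {C : Type u} [CommRing C] [Algebra A C]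
  (S₀ : Type u) [CommRing S₀] [Algebra A S₀]

/-- the comparison map `S₀[t] ⊗ C → (S₀ ⊗ C)[t]` -/
noncomputable def Φ : Polynomial S₀ ⊗[A] C →ₐ[A] Polynomial (S₀ ⊗[A] C) :=
  Algebra.TensorProduct.lift
    (Polynomial.mapAlgHom (Algebra.TensorProduct.includeLeft : S₀ →ₐ[A] S₀ ⊗[A] C))
    ((Polynomial.CAlgHom : (S₀ ⊗[A] C) →ₐ[A] Polynomial (S₀ ⊗[A] C)).comp
      (Algebra.TensorProduct.includeRight : C →ₐ[A] S₀ ⊗[A] C))
    (fun _ _ => Commute.all _ _)

variable {S₀}

theorem Φ_tmul (p : Polynomial S₀) (c : C) :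
    Φ (A := A) S₀ (p ⊗ₜ[A] c) =
      p.map ((Algebra.TensorProduct.includeLeft : S₀ →ₐ[A] S₀ ⊗[A] C) : S₀ →+* S₀ ⊗[A] C) *
        Polynomial.C ((1 : S₀) ⊗ₜ[A] c) := by
  rw [Φ, Algebra.TensorProduct.lift_tmul]
  rfl

theorem Φ_ι (r : S₀ ⊗[A] C) :
    Φ (A := A) S₀ ((Polynomial.CAlgHom : S₀ →ₐ[A] Polynomial S₀).toLinearMap.rTensor C r) =
      Polynomial.C r := by
  induction r using TensorProduct.induction_on with
  | zero => simp
  | tmul s c =>
    rw [LinearMap.rTensor_tmul, Φ_tmul]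
    show Polynomial.map _ (Polynomial.C s) * _ = _
    rw [Polynomial.map_C, ← Polynomial.C_mul]
    simp
  | add x y hx hy => rw [map_add, map_add, hx, hy, Polynomial.C_add]

theorem Φ_ev (r : S₀) (u : Polynomial S₀ ⊗[A] C) :
    Polynomial.eval (r ⊗ₜ[A] (1 : C)) (Φ (A := A) S₀ u) =
      (ev (A := A) r).toLinearMap.rTensor C u := by
  induction u using TensorProduct.induction_on with
  | zero => simp
  | tmul p c =>
    rw [LinearMap.rTensor_tmul, Φ_tmul, Polynomial.eval_mul, Polynomial.eval_C,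
      Polynomial.eval_map]
    have : (r ⊗ₜ[A] (1 : C) : S₀ ⊗[A] C) =
        ((Algebra.TensorProduct.includeLeft : S₀ →ₐ[A] S₀ ⊗[A] C) : S₀ →+* S₀ ⊗[A] C) r := rfl
    rw [this, Polynomial.eval₂_hom]
    show (Polynomial.eval r p ⊗ₜ[A] (1 : C)) * _ = _
    rw [Algebra.TensorProduct.tmul_mul_tmul, mul_one, one_mul]
    show _ = (ev (A := A) r p) ⊗ₜ[A] c
    rw [ev_apply]
  | add x y hx hy => rw [map_add, Polynomial.eval_add, hx, hy, map_add]

/-- `t ↦ -t` -/
noncomputable def τ : Polynomial S₀ →ₐ[A] Polynomial S₀ :=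
  (Polynomial.aeval (-Polynomial.X : Polynomial S₀)).restrictScalars A

theorem τ_apply (p : Polynomial S₀) : τ (A := A) p = p.comp (-Polynomial.X) := rfl

theorem Φ_τ (u : Polynomial S₀ ⊗[A] C) :
    Φ (A := A) S₀ ((τ (A := A) (S₀ := S₀)).toLinearMap.rTensor C u) =
      (Φ (A := A) S₀ u).comp (-Polynomial.X) := by
  induction u using TensorProduct.induction_on with
  | zero => simp
  | tmul p c =>
    rw [LinearMap.rTensor_tmul, Φ_tmul, Φ_tmul]
    show Polynomial.map _ (τ (A := A) p) * _ = _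
    rw [τ_apply, Polynomial.map_comp, Polynomial.mul_comp, Polynomial.C_comp, Polynomial.map_neg,
      Polynomial.map_X]
  | add x y hx hy => rw [map_add, map_add, hx, hy, map_add, Polynomial.add_comp]

end Phi

section main

variable {A : Type u} [CommRing A] {B : Type u} [CommRing B] [Algebra A B]
  {C : Type u} [CommRing C] [Algebra A C]

theorem main2 {d : ℕ} (F : PolLaw.MulLaw A B C d) (b : B) (hb2 : b * b ∈ PolLaw.ker F.law)
    (S₀ : Type u) [CommRing S₀] [Algebra A S₀] [IsReduced (S₀ ⊗[A] C)] (x w : S₀ ⊗[A] B) :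
    F.law.toFun' S₀ (x + w * ((1 : S₀) ⊗ₜ[A] b)) = F.law.toFun' S₀ x := by
  let ι : S₀ →ₐ[A] Polynomial S₀ := Polynomial.CAlgHom
  let ιB := Algebra.TensorProduct.map ι (AlgHom.id A B)
  let τB := Algebra.TensorProduct.map (τ (A := A) (S₀ := S₀)) (AlgHom.id A B)
  let T : Polynomial S₀ := Polynomial.X
  have hτι : (τ (A := A) (S₀ := S₀)).comp ι = ι := by
    ext a
    simp [τ, ι, Polynomial.CAlgHom]
  have hτιB : ∀ z, τB (ιB z) = ιB z := by
    intro z
    simp only [τB, ιB]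
    rw [map_map_apply, hτι]
  have hτT : τ (A := A) T = -T := by
    simp [τ, T]
  have hτY : τB (ιB x + (T • ιB w) * ((1 : Polynomial S₀) ⊗ₜ[A] b)) =
      ιB x + ((-T) • ιB w) * ((1 : Polynomial S₀) ⊗ₜ[A] b) := by
    rw [map_add, map_mul, ← tmul_one_mul, map_mul, hτιB, hτιB]
    simp only [τB]
    rw [Algebra.TensorProduct.map_tmul, Algebra.TensorProduct.map_tmul, hτT, map_one, map_one,
      tmul_one_mul, AlgHom.id_apply]
  have hprod : (ιB x + (T • ιB w) * ((1 : Polynomial S₀) ⊗ₜ[A] b)) *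
      τB (ιB x + (T • ιB w) * ((1 : Polynomial S₀) ⊗ₜ[A] b)) =
      ιB x * ιB x + ((T • ιB w) * ((-T) • ιB w)) * ((1 : Polynomial S₀) ⊗ₜ[A] (b * b)) := by
    have hsum : T • ιB w + (-T) • ιB w = 0 := by
      rw [← add_smul, add_neg_cancel, zero_smul]
    have hbb : (1 : Polynomial S₀) ⊗ₜ[A] (b * b) = (1 ⊗ₜ[A] b) * (1 ⊗ₜ[A] b) := by
      rw [Algebra.TensorProduct.tmul_mul_tmul, one_mul]
    rw [hτY, hbb]
    have hring : (ιB x + (T • ιB w) * ((1 : Polynomial S₀) ⊗ₜ[A] b)) *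
        (ιB x + ((-T) • ιB w) * ((1 : Polynomial S₀) ⊗ₜ[A] b)) =
        ιB x * ιB x + ιB x * ((T • ιB w + (-T) • ιB w) * ((1 : Polynomial S₀) ⊗ₜ[A] b)) +
          ((T • ιB w) * ((-T) • ιB w)) *
            (((1 : Polynomial S₀) ⊗ₜ[A] b) * ((1 : Polynomial S₀) ⊗ₜ[A] b)) := by
      ring
    rw [hring, hsum, zero_mul, mul_zero, add_zero]
  set u := F.law.toFun' (Polynomial S₀) (ιB x + (T • ιB w) * ((1 : Polynomial S₀) ⊗ₜ[A] b))
    with hu
  have hc1 : ((τ (A := A) (S₀ := S₀)).toLinearMap.rTensor C) u =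
      F.law.toFun' (Polynomial S₀)
        (τB (ιB x + (T • ιB w) * ((1 : Polynomial S₀) ⊗ₜ[A] b))) := by
    rw [hu, PolynomialLaw.isCompat_apply', rTensor_eq_map]
  have hc2 : (ι.toLinearMap.rTensor C) (F.law.toFun' S₀ x) =
      F.law.toFun' (Polynomial S₀) (ιB x) := by
    rw [PolynomialLaw.isCompat_apply', rTensor_eq_map]
  have h1 : u * ((τ (A := A) (S₀ := S₀)).toLinearMap.rTensor C) u =
      (ι.toLinearMap.rTensor C) (F.law.toFun' S₀ x) *
        (ι.toLinearMap.rTensor C) (F.law.toFun' S₀ x) := by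
    rw [hc1, hc2, hu, ← (F.mult _).2, ← (F.mult _).2, hprod]
    exact (mem_ker_iff F.law (b * b)).mp hb2 (Polynomial S₀) _ _
  have h2 := congrArg (Φ (A := A) S₀) h1
  rw [map_mul, map_mul, Φ_τ, Φ_ι, ← Polynomial.C_mul] at h2
  have h3 := eq_C_of_mul_comp_neg (Φ (A := A) S₀ u) _ h2
  have e1 : Polynomial.eval ((1 : S₀) ⊗ₜ[A] (1 : C)) (Φ (A := A) S₀ u) =
      F.law.toFun' S₀ (x + w * ((1 : S₀) ⊗ₜ[A] b)) := by
    rw [Φ_ev, hu, PolynomialLaw.isCompat_apply', rTensor_eq_map, evB_univ, one_smul]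
  have e0 : Polynomial.eval ((0 : S₀) ⊗ₜ[A] (1 : C)) (Φ (A := A) S₀ u) =
      F.law.toFun' S₀ x := by
    rw [Φ_ev, hu, PolynomialLaw.isCompat_apply', rTensor_eq_map, evB_univ, zero_smul, zero_mul,
      add_zero]
  rw [← e1, ← e0, h3, Polynomial.eval_C, Polynomial.eval_C]

theorem sq_mem_ker [IsReduced C] {d : ℕ} (F : PolLaw.MulLaw A B C d) (b : B)
    (hb2 : b * b ∈ PolLaw.ker F.law) : b ∈ PolLaw.ker F.law := by
  classical
  rw [mem_ker_iff]
  intro S _ _ x w
  obtain ⟨t₁, rfl⟩ := TensorProduct.exists_finset x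
  obtain ⟨t₂, rfl⟩ := TensorProduct.exists_finset w
  let φ : MvPolynomial ((S × B) ⊕ (S × B)) A →ₐ[A] S :=
    MvPolynomial.aeval (Sum.elim Prod.fst Prod.fst)
  let x₀ : MvPolynomial ((S × B) ⊕ (S × B)) A ⊗[A] B :=
    ∑ p ∈ t₁, (MvPolynomial.X (Sum.inl p) : MvPolynomial ((S × B) ⊕ (S × B)) A) ⊗ₜ[A] p.2
  let w₀ : MvPolynomial ((S × B) ⊕ (S × B)) A ⊗[A] B :=
    ∑ p ∈ t₂, (MvPolynomial.X (Sum.inr p) : MvPolynomial ((S × B) ⊕ (S × B)) A) ⊗ₜ[A] p.2
  haveI : IsReduced (MvPolynomial ((S × B) ⊕ (S × B)) A ⊗[A] C) := by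
    let e : MvPolynomial ((S × B) ⊕ (S × B)) A ⊗[A] C ≃ₐ[A]
        C ⊗[A] MvPolynomial ((S × B) ⊕ (S × B)) A := Algebra.TensorProduct.comm A _ _
    let e2 : C ⊗[A] MvPolynomial ((S × B) ⊕ (S × B)) A ≃ₐ[C]
        MvPolynomial ((S × B) ⊕ (S × B)) C := MvPolynomial.scalarRTensorAlgEquiv
    exact isReduced_of_injective (e2.toRingEquiv.toRingHom.comp e.toRingEquiv.toRingHom)
      (e2.injective.comp e.injective)
  have h := main2 F b hb2 (MvPolynomial ((S × B) ⊕ (S × B)) A) x₀ w₀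
  have h3 := congrArg (φ.toLinearMap.rTensor C) h
  rw [PolynomialLaw.isCompat_apply', PolynomialLaw.isCompat_apply', rTensor_eq_map,
    rTensor_eq_map, map_add, map_mul] at h3
  have hx : Algebra.TensorProduct.map φ (AlgHom.id A B) x₀ = ∑ p ∈ t₁, p.1 ⊗ₜ[A] p.2 := by
    simp [x₀, φ]
  have hw : Algebra.TensorProduct.map φ (AlgHom.id A B) w₀ = ∑ p ∈ t₂, p.1 ⊗ₜ[A] p.2 := by
    simp [w₀, φ]
  rw [hx, hw] at h3
  simpa using h3

end main

/-- Let B and C be commutative algebras over the commutative ring A and F : B → C a multiplicative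
polynomial law homogeneous of degree d. If C is reduced, then the quotient of B by the kernel of F
is reduced. In particular the image of a family of zero-cycles parametrised by a reduced base is
reduced. -/
theorem result {A : Type u} [CommRing A] {B : Type u} [CommRing B] [Algebra A B]
    {C : Type u} [CommRing C] [Algebra A C] [IsReduced C] {d : ℕ} (F : PolLaw.MulLaw A B C d) :
    IsReduced (PolLaw.image F.law) := by
  rw [isReduced_iff_pow_one_lt 2 one_lt_two]
  intro x hx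
  obtain ⟨b, rfl⟩ := Ideal.Quotient.mk_surjective x
  rw [← map_pow, Ideal.Quotient.eq_zero_iff_mem, pow_two] at hx
  rw [Ideal.Quotient.eq_zero_iff_mem]
  exact sq_mem_ker F b hx

end Groth.Agent.S13722
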