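import Groth.Statements.S13725
import Mathlib

set_option autoImplicit false
universe u
open scoped TensorProduct
open ZeroCyc

namespace Groth.Agent.S13725

/-- Let k be a field of characteristic p > 0 and let F : k → k be the law x ↦ x^p, multiplicative and
homogeneous of degree p over k. The kernel of F is the zero ideal, but after the flat base change k
→ A' = k[X]/(X^p) the kernel of the base-changed law on A' ⊗_k k is not zero (the class of X lies in
it). So in characteristic p, forming the kernel of a multiplicative law is not compatible with flat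
base change. -/
theorem result {k : Type u} [Field k] (p : ℕ) [Fact p.Prime] [CharP k p] :
    PolLaw.ker (PolLaw.MulLaw.pow k k p).law = ⊥ ∧
      PolLaw.kerBC (PolLaw.MulLaw.pow k k p).law (AdjoinRoot ((Polynomial.X : Polynomial k) ^ p)) ≠ ⊥ := by
  have hp : p.Prime := Fact.out
  constructor
  · rw [eq_bot_iff]
    intro b hb
    have h1 := hb k (0 : k ⊗[k] k) (1 : k ⊗[k] k)
    have h2 : ((1 : k) ⊗ₜ[k] b : k ⊗[k] k) ^ p = 0 := by
      have h3 : (0 + 1 * ((1 : k) ⊗ₜ[k] b : k ⊗[k] k)) ^ p = (0 : k ⊗[k] k) ^ p := h1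
      rwa [zero_add, one_mul, zero_pow hp.ne_zero] at h3
    have h4 := congrArg (Algebra.TensorProduct.lid k k) h2
    rw [map_pow, Algebra.TensorProduct.lid_tmul, map_zero, one_smul] at h4
    exact (Submodule.mem_bot k).mpr (pow_eq_zero_iff hp.ne_zero |>.mp h4)
  · intro hbot
    set g : Polynomial k := (Polynomial.X : Polynomial k) ^ p with hg
    have hroot : (AdjoinRoot.root g) ^ p = 0 := by
      rw [← AdjoinRoot.mk_X, ← map_pow, ← hg, AdjoinRoot.mk_self]
    have hmem : (AdjoinRoot.root g ⊗ₜ[k] (1 : k) : AdjoinRoot g ⊗[k] k) ∈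
        PolLaw.kerBC (PolLaw.MulLaw.pow k k p).law (AdjoinRoot g) := by
      intro R _ _ _ _ x w
      show (x + w * _) ^ p = x ^ p
      rw [Algebra.TensorProduct.map_tmul, add_pow_prime_eq hp, mul_pow,
        Algebra.TensorProduct.tmul_pow]
      have h5 : ((IsScalarTower.toAlgHom k (AdjoinRoot g) R) (AdjoinRoot.root g)) ^ p = 0 := by
        rw [← map_pow, hroot, map_zero]
      have h6 : ((p : ℕ) : R ⊗[k] k) = 0 := by
        rw [← map_natCast (algebraMap k (R ⊗[k] k)), CharP.cast_eq_zero k p, map_zero]
      rw [h5, TensorProduct.zero_tmul, mul_zero, add_zero, h6, zero_mul, zero_mul, zero_mul,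
        add_zero]
    rw [hbot, Ideal.mem_bot] at hmem
    have h7 := congrArg (Algebra.TensorProduct.rid k k (AdjoinRoot g)) hmem
    rw [Algebra.TensorProduct.rid_tmul, one_smul, map_zero] at h7
    rw [← AdjoinRoot.mk_X, AdjoinRoot.mk_eq_zero] at h7
    have h8 := Polynomial.natDegree_le_of_dvd h7 Polynomial.X_ne_zero
    rw [hg, Polynomial.natDegree_X_pow, Polynomial.natDegree_X] at h8
    exact absurd hp.one_lt (not_lt.mpr h8)

end Groth.Agent.S13725
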