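import Groth.Statements.S13726
import Mathlib

set_option autoImplicit false
universe u
open scoped TensorProduct
open ZeroCyc

namespace Groth.Agent.S13726

section Helpers

variable (k : Type u) [Field k] (p : ℕ)

noncomputable abbrev Q : Ideal (MvPolynomial ℕ k) :=
  Ideal.span (Set.range fun i : ℕ => (MvPolynomial.X i : MvPolynomial ℕ k) ^ p)

noncomputable abbrev AA : Type u := MvPolynomial ℕ k ⧸ Q k p

noncomputable abbrev nn : Ideal (AA k p) :=
  (Ideal.span (Set.range fun i : ℕ => (MvPolynomial.X i : MvPolynomial ℕ k))).map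
    (Ideal.Quotient.mk (Q k p))

lemma nn_eq_span : nn k p = Ideal.span (Set.range fun i : ℕ =>
    Ideal.Quotient.mk (Q k p) (MvPolynomial.X i : MvPolynomial ℕ k)) := by
  unfold nn
  rw [Ideal.map_span, ← Set.range_comp]
  rfl

lemma mkX_pow (i : ℕ) :
    (Ideal.Quotient.mk (Q k p) (MvPolynomial.X i : MvPolynomial ℕ k)) ^ p = 0 := by
  rw [← map_pow, Ideal.Quotient.eq_zero_iff_mem]
  exact Ideal.subset_span ⟨i, rfl⟩

lemma ker_eq [Fact p.Prime] [CharP k p] :
    PolLaw.ker (PolLaw.MulLaw.pow (AA k p) (AA k p) p).law = nn k p := by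
  have hp : p.Prime := Fact.out
  apply le_antisymm
  · intro b hb
    have h1 := hb (AA k p) (0 : AA k p ⊗[AA k p] AA k p)
      ((1 : AA k p) ⊗ₜ[AA k p] (1 : AA k p))
    have h2 : ((1 : AA k p) ⊗ₜ[AA k p] b : AA k p ⊗[AA k p] AA k p) ^ p = 0 := by
      have h3 : (0 + ((1 : AA k p) ⊗ₜ[AA k p] (1 : AA k p)) *
          ((1 : AA k p) ⊗ₜ[AA k p] b : AA k p ⊗[AA k p] AA k p)) ^ p =
          (0 : AA k p ⊗[AA k p] AA k p) ^ p := h1
      rw [zero_add, Algebra.TensorProduct.tmul_mul_tmul, one_mul, one_mul] at h3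
      exact h3.trans (zero_pow (M₀ := AA k p ⊗[AA k p] AA k p) hp.ne_zero)
    have h4 := congrArg (Algebra.TensorProduct.lid (AA k p) (AA k p)) h2
    rw [map_pow, Algebra.TensorProduct.lid_tmul, map_zero, one_smul] at h4
    -- evaluation at zero
    let ev' : MvPolynomial ℕ k →ₐ[k] k := MvPolynomial.aeval (fun _ => (0 : k))
    have hev' : ∀ a ∈ Q k p, ev' a = 0 := by
      intro a ha
      have hle : Q k p ≤ RingHom.ker ev'.toRingHom := by
        rw [Ideal.span_le]
        rintro _ ⟨i, rfl⟩
        show ev' ((MvPolynomial.X i) ^ p) = 0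
        rw [map_pow, MvPolynomial.aeval_X, zero_pow hp.ne_zero]
      exact hle ha
    let ev : AA k p →ₐ[k] k := Ideal.Quotient.liftₐ (Q k p) ev' hev'
    obtain ⟨f, rfl⟩ := Ideal.Quotient.mk_surjective b
    have h5 : ev (Ideal.Quotient.mk (Q k p) f) ^ p = 0 := by
      rw [← map_pow, h4, map_zero]
    have h6 : ev' f = 0 := by
      have := pow_eq_zero_iff hp.ne_zero |>.mp h5
      exact this
    have h7 : MvPolynomial.constantCoeff f = 0 := by
      have h8 : ev' f = algebraMap k k (MvPolynomial.constantCoeff f) :=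
        MvPolynomial.aeval_zero f
      rw [h6] at h8
      exact h8.symm
    refine Ideal.mem_map_of_mem _ ?_
    rw [← Set.image_univ, MvPolynomial.mem_ideal_span_X_image]
    intro m hm
    by_contra hcon
    push Not at hcon
    have hm0 : m = 0 := by
      ext i
      exact hcon i (Set.mem_univ i)
    rw [hm0, MvPolynomial.mem_support_iff] at hm
    exact hm h7
  · rw [nn_eq_span, Ideal.span_le]
    rintro _ ⟨i, rfl⟩
    intro S _ _ x w
    show (x + w * _) ^ p = x ^ p
    have h6 : ((p : ℕ) : S ⊗[AA k p] AA k p) = 0 := by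
      have e1 : ((p : ℕ) : AA k p) = 0 := by
        have e0 := map_natCast (algebraMap k (AA k p)) p
        rw [CharP.cast_eq_zero k p, map_zero] at e0
        exact e0.symm
      have e3 : ((p : ℕ) : S) = 0 := by
        have e2 := map_natCast (algebraMap (AA k p) S) p
        rw [e1, map_zero] at e2
        exact e2.symm
      have e4 : ((p : ℕ) : S ⊗[AA k p] AA k p) = ((p : ℕ) : S) ⊗ₜ[AA k p] (1 : AA k p) :=
        Algebra.TensorProduct.natCast_def p
      rw [e4, e3, TensorProduct.zero_tmul]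
    rw [add_pow_prime_eq hp, mul_pow, Algebra.TensorProduct.tmul_pow, mkX_pow,
      TensorProduct.tmul_zero, mul_zero, add_zero, h6, zero_mul, zero_mul, zero_mul, add_zero]

lemma not_fg [Fact p.Prime] : ¬ (nn k p).FG := by
  classical
  have hp : p.Prime := Fact.out
  intro hfg
  rw [nn_eq_span] at hfg
  obtain ⟨s', hs', hspan⟩ := (Submodule.fg_span_iff_fg_span_finset_subset _).mp hfg
  rw [← Set.image_univ, Finset.subset_set_image_iff] at hs'
  obtain ⟨J, -, hJ⟩ := hs'
  let N : ℕ := J.sup id + 1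
  have hJN : ∀ i ∈ J, i ≠ N := by
    intro i hi h
    have : i ≤ J.sup id := Finset.le_sup (f := id) hi
    omega
  -- the test map
  let ψ' : MvPolynomial ℕ k →ₐ[k] DualNumber k :=
    MvPolynomial.aeval (fun i => if i = N then DualNumber.eps else 0)
  have heps : (DualNumber.eps : DualNumber k) ^ p = 0 := by
    obtain ⟨q, hq⟩ : ∃ q, p = 2 + q := ⟨p - 2, by have := hp.two_le; omega⟩
    rw [hq, pow_add, pow_two, DualNumber.eps_mul_eps, zero_mul]
  have hψ' : ∀ a ∈ Q k p, ψ' a = 0 := by
    intro a ha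
    have hle : Q k p ≤ RingHom.ker ψ'.toRingHom := by
      rw [Ideal.span_le]
      rintro _ ⟨i, rfl⟩
      show ψ' ((MvPolynomial.X i) ^ p) = 0
      rw [map_pow, MvPolynomial.aeval_X]
      split_ifs
      · exact heps
      · exact zero_pow hp.ne_zero
    exact hle ha
  let ψ : AA k p →ₐ[k] DualNumber k := Ideal.Quotient.liftₐ (Q k p) ψ' hψ'
  have hψX : ∀ i, ψ (Ideal.Quotient.mk (Q k p) (MvPolynomial.X i)) =
      if i = N then DualNumber.eps else 0 := by
    intro i
    show ψ' (MvPolynomial.X i) = _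
    rw [MvPolynomial.aeval_X]
  have hmem : Ideal.Quotient.mk (Q k p) (MvPolynomial.X N : MvPolynomial ℕ k) ∈
      Ideal.span (s' : Set (AA k p)) := by
    have : Ideal.Quotient.mk (Q k p) (MvPolynomial.X N : MvPolynomial ℕ k) ∈
        Ideal.span (Set.range fun i : ℕ =>
          Ideal.Quotient.mk (Q k p) (MvPolynomial.X i : MvPolynomial ℕ k)) :=
      Ideal.subset_span ⟨N, rfl⟩
    change _ ∈ Submodule.span _ _ at this
    rw [hspan] at this
    exact this
  have hle : Ideal.span (s' : Set (AA k p)) ≤ RingHom.ker ψ.toRingHom := by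
    rw [Ideal.span_le]
    intro y hy
    rw [← hJ] at hy
    obtain ⟨i, hi, rfl⟩ := Finset.mem_image.mp hy
    show ψ _ = 0
    rw [hψX, if_neg (hJN i hi)]
  have h0 : ψ (Ideal.Quotient.mk (Q k p) (MvPolynomial.X N)) = 0 := hle hmem
  rw [hψX, if_pos rfl] at h0
  have := congrArg TrivSqZeroExt.snd h0
  simp at this

end Helpers

/-- Let k be a field of characteristic p > 0 and A = k[t_i : i ∈ ℕ]/(t_i^p : i ∈ ℕ). The law x ↦ x^p
from A to A is multiplicative and homogeneous of degree p over A; its kernel is the ideal generated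
by the classes of the variables t_i, and this ideal is not finitely generated. Hence the image of a
family of zero-cycles need not be of finite presentation over the base even when X → S is. -/
theorem result {k : Type u} [Field k] (p : ℕ) [Fact p.Prime] [CharP k p] :
    PolLaw.ker (PolLaw.MulLaw.pow
        (MvPolynomial ℕ k ⧸ Ideal.span (Set.range fun i : ℕ => (MvPolynomial.X i : MvPolynomial ℕ k) ^ p))
        (MvPolynomial ℕ k ⧸ Ideal.span (Set.range fun i : ℕ => (MvPolynomial.X i : MvPolynomial ℕ k) ^ p)) p).law =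
      (Ideal.span (Set.range fun i : ℕ => (MvPolynomial.X i : MvPolynomial ℕ k))).map
        (Ideal.Quotient.mk (Ideal.span (Set.range fun i : ℕ => (MvPolynomial.X i : MvPolynomial ℕ k) ^ p))) ∧
    ¬ (PolLaw.ker (PolLaw.MulLaw.pow
        (MvPolynomial ℕ k ⧸ Ideal.span (Set.range fun i : ℕ => (MvPolynomial.X i : MvPolynomial ℕ k) ^ p))
        (MvPolynomial ℕ k ⧸ Ideal.span (Set.range fun i : ℕ => (MvPolynomial.X i : MvPolynomial ℕ k) ^ p)) p).law).FG := by
  exact ⟨ker_eq k p, by rw [ker_eq k p]; exact not_fg k p⟩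

end Groth.Agent.S13726
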