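import Groth.Statements.S1374
import Mathlib
import Groth.Agent.Lib.Helper8.QSSch

set_option autoImplicit false
universe u
open FlatMor

namespace Groth.Agent.S1374

open AlgebraicGeometry CategoryTheory Limits in
/-- Let f : X ⟶ S be locally of finite type and x ⤳ x' a specialization of points of X, with x' a closed
point of its fibre f⁻¹(f(x')) and f(x) ≠ f(x'). Then the points x₁ with f(x₁) = f(x) which are
closed in the fibre f⁻¹(f(x)) and satisfy x ⤳ x₁ ⤳ x' are dense in the closure of {x} intersected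
with the fibre f⁻¹(f(x)) (fibres taken as subspaces of X). (The published statement omits the
condition f(x) ≠ f(x'), but the claim fails without it; it is stated here with that condition.) -/
theorem result {X S : Scheme.{u}} (f : X ⟶ S) [LocallyOfFiniteType f] (x x' : X) (hsp : x ⤳ x') (hne : f x ≠ f x')
    (hcl : IsClosed (Subtype.val ⁻¹' {x'} : Set ↑(f ⁻¹' {f x'}))) :
    Dense (Subtype.val ⁻¹' {x₁ : ↑X | f x₁ = f x ∧ IsClosed (Subtype.val ⁻¹' {x₁} : Set ↑(f ⁻¹' {f x})) ∧ x ⤳ x₁ ∧ x₁ ⤳ x'} :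
      Set ↑(closure {x} ∩ f ⁻¹' {f x})) := by
  have h0 : Groth.Agent.Lib.Helper12.SchemeDimIneq.trn f x' = 0 :=
    Groth.Agent.Lib.Helper8.QSSch.trn_eq_zero_of_isClosed_in_fibre f x' hcl
  rw [dense_iff_inter_open]
  intro O hO hOne
  obtain ⟨O', hO', rfl⟩ := isOpen_induced_iff.mp hO
  obtain ⟨⟨z, hz⟩, hzO⟩ := hOne
  have hxz : x ⤳ z := specializes_iff_mem_closure.mpr hz.1
  have hxO' : x ∈ O' := hxz.mem_open hO' hzO
  obtain ⟨x₁, hx₁O, hfx₁, htrn, hxx₁, hx₁x'⟩ :=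
    Groth.Agent.Lib.Helper8.QSSch.exists_quasiSection_point f x x' hsp hne h0 ⟨O', hO'⟩ hxO'
  refine ⟨⟨x₁, specializes_iff_mem_closure.mp hxx₁, hfx₁⟩, hx₁O, ?_⟩
  exact ⟨hfx₁, Groth.Agent.Lib.Helper8.QSSch.isClosed_in_fibre_of_trn_eq_zero f x x₁ hfx₁ htrn,
    hxx₁, hx₁x'⟩

end Groth.Agent.S1374
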