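import Groth.Statements.S13742
-- import your own Groth.Agent.* helpers here
import Mathlib
import Groth.Agent.Lib.Helper12.FibMaxPt

set_option autoImplicit false
universe u
open Cyc

namespace Groth.Agent.S13742

open CategoryTheory CategoryTheory.Limits AlgebraicGeometry in
/-- Let S be a separated Noetherian scheme, f : X → S separated of finite type, z a point of X mapping
to a generic point of an irreducible component of S, and ι : Z → X a closed immersion from a reduced
scheme with image the closure of z (the closure of z with its reduced structure). Then Z ×_S Spec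
k(f z) is an integral scheme, and its image in the fibre X ×_S Spec k(f z) is the closure of the
unique point w of that fibre lying over z: Z ×_S Spec k(f z) is the closure of z in its fibre, with
reduced structure. -/
theorem result {X S Z : Scheme.{u}} [IsNoetherian S] [S.IsSeparated] [X.IsSeparated] (f : X ⟶ S) [LocallyOfFiniteType f] [QuasiCompact f] (z : X) (hz : closure {f z} ∈ irreducibleComponents ↥S) (ι : Z ⟶ X) [IsClosedImmersion ι] [IsReduced Z] (hZ : Set.range ι = closure {z}) : IsIntegral (pullback (ι ≫ f) (S.fromSpecResidueField (f z))) ∧ ∃ w : ↥(pullback f (S.fromSpecResidueField (f z))), pullback.fst f (S.fromSpecResidueField (f z)) w = z ∧ Set.range (pullback.map (ι ≫ f) (S.fromSpecResidueField (f z)) f (S.fromSpecResidueField (f z)) ι (𝟙 _) (𝟙 S) (Category.comp_id _) ((Category.comp_id _).trans (Category.id_comp _).symm)) = closure {w} := by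
  obtain ⟨hint, hgen⟩ := Groth.Agent.Lib.Helper12.FibMaxPt.isIntegral_of_range z ι hZ
  haveI := hint
  refine ⟨?_, f.asFiber z, f.fiberι_asFiber z, ?_⟩
  · have hs : (ι ≫ f) (genericPoint Z) = f z := by
      refine (Scheme.Hom.comp_apply _ _ _).trans ?_
      rw [hgen]
    exact Groth.Agent.Lib.Helper12.FibMaxPt.isIntegral_fiber_of_generic (ι ≫ f) (f z) hs
  · exact Groth.Agent.Lib.Helper12.FibMaxPt.range_map_eq f z ι hZ

end Groth.Agent.S13742
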