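import Groth.Statements.S13757
import Mathlib

set_option autoImplicit false
universe u
open LabGraph

namespace Groth.Agent.S13757

/-- Let G be a finite connected multigraph (loops and multiple edges allowed) with vertex set V, edge
set E, endpoint map E → V × V and a labelling of the edges by positive integers l. A vertex
labelling φ : V → ℤ is Cartier when l(e) divides the difference of the values of φ at the two
endpoints of every edge e; its multidegree is the vertex labelling whose value at v is the sum, over
the edge-ends at v, of (value of φ at the other endpoint − φ(v)) / l(e). Then the Cartier vertex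
labellings of multidegree zero are exactly the constant ones: the kernel of the multidegree operator
on Cartier labellings is ℤ, embedded as the constants. -/
theorem result
    {V E : Type u} [Fintype V] [Fintype E] [DecidableEq V] [DecidableEq E]
    (ends : E → V × V) (l : E → ℕ) (hl : ∀ e, 0 < l e) (hconn : LabGraph.Connected ends)
    (φ : V → ℤ) (hφ : LabGraph.IsCartier ends l φ) :
    (∀ v : V, LabGraph.mdeg ends l φ v = 0) ↔ ∀ v w : V, φ v = φ w := by
  constructor
  · intro h
    set d : E → ℤ := fun e => (φ (ends e).2 - φ (ends e).1) / (l e : ℤ) with hd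
    have hdvd : ∀ e, (l e : ℤ) ∣ φ (ends e).2 - φ (ends e).1 := fun e => by
      have := hφ e
      rwa [← dvd_neg, neg_sub] at this
    have hneg : ∀ e, (φ (ends e).1 - φ (ends e).2) / (l e : ℤ) = - d e := by
      intro e
      show _ = - ((φ (ends e).2 - φ (ends e).1) / (l e : ℤ))
      rw [← neg_sub (φ (ends e).2) (φ (ends e).1), Int.neg_ediv_of_dvd (hdvd e)]
    have hmul : ∀ e, (l e : ℤ) * d e = φ (ends e).2 - φ (ends e).1 :=
      fun e => Int.mul_ediv_cancel' (hdvd e)
    have hm : ∀ v, LabGraph.mdeg ends l φ v = ∑ e : E,
        ((if (ends e).1 = v then d e else 0) + (if (ends e).2 = v then - d e else 0)) := by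
      intro v
      unfold LabGraph.mdeg
      refine Finset.sum_congr rfl (fun e _ => ?_)
      rw [hneg e]
    have energy : ∑ v : V, φ v * LabGraph.mdeg ends l φ v = - ∑ e : E, (l e : ℤ) * d e ^ 2 := by
      simp_rw [hm, Finset.mul_sum]
      rw [Finset.sum_comm, ← Finset.sum_neg_distrib]
      refine Finset.sum_congr rfl (fun e _ => ?_)
      simp only [mul_add, mul_ite, mul_zero, Finset.sum_add_distrib, Finset.sum_ite_eq,
        Finset.mem_univ, if_true]
      have := hmul e
      linear_combination (d e) * this
    have hz : ∑ e : E, (l e : ℤ) * d e ^ 2 = 0 := by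
      have h0 : ∑ v : V, φ v * LabGraph.mdeg ends l φ v = 0 :=
        Finset.sum_eq_zero (fun v _ => by rw [h v, mul_zero])
      rw [energy] at h0
      linarith
    have hde : ∀ e, d e = 0 := by
      intro e
      have h1 := (Finset.sum_eq_zero_iff_of_nonneg
        (fun e _ => mul_nonneg (Int.natCast_nonneg (l e)) (sq_nonneg (d e)))).1 hz e (Finset.mem_univ e)
      have hl' : (l e : ℤ) ≠ 0 := by exact_mod_cast (hl e).ne'
      rcases mul_eq_zero.1 h1 with h2 | h2
      · exact absurd h2 hl'
      · exact (pow_eq_zero_iff two_ne_zero).1 h2
    have hedge : ∀ e, φ (ends e).1 = φ (ends e).2 := by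
      intro e
      have := hmul e
      rw [hde e, mul_zero] at this
      linarith
    have hadj : ∀ v w, LabGraph.Adj ends v w → φ v = φ w := by
      rintro v w ⟨e, he | he⟩
      · have := hedge e
        rw [he] at this
        exact this
      · have := hedge e
        rw [he] at this
        exact this.symm
    intro v w
    have hvw := hconn.2 v w
    induction hvw with
    | refl => rfl
    | tail _ hbc ih => exact ih.trans (hadj _ _ hbc)
  · intro h v
    unfold LabGraph.mdeg
    apply Finset.sum_eq_zero
    intro e _
    rw [h (ends e).2 (ends e).1, sub_self]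
    simp

end Groth.Agent.S13757
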