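import Groth.Statements.S1377
import Mathlib

set_option autoImplicit false
universe u
open FlatMor

namespace Groth.Agent.S1377

open AlgebraicGeometry CategoryTheory Limits in
/-- Let S be a scheme, U ⊆ S an open subscheme whose inclusion U → S is quasi-compact (U retrocompact in
S), and V → U a surjective integral morphism. Then there are a scheme V' and a surjective integral
morphism V' → S whose base change to U is V → U. (The published statement puts no condition on U,
and in that generality it is false: e.g. S = Spec ∏_i ℤ/4^i with U = D(2) ∪ ⋃_i D(e_i), e_i the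
idempotents, and V equal to U except that over D(2) it is cut out by x = (2^i)_i. Stated here with U
→ S quasi-compact, under which hypothesis the published argument applies.) -/
theorem result {S V : Scheme.{u}} (U : S.Opens) [QuasiCompact U.ι]
    (v : V ⟶ (U : Scheme.{u})) [IsIntegralHom v] [Surjective v] :
    ∃ (V' : Scheme.{u}) (π : V' ⟶ S) (i : V ⟶ V'), Surjective π ∧ IsIntegralHom π ∧ IsPullback i v π U.ι := by
  classical
  let h : V ⟶ S := v ≫ U.ι
  let N : Scheme.{u} := h.normalization
  let tN : V ⟶ N := h.toNormalization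
  let πN : N ⟶ S := h.fromNormalization
  have htπ : tN ≫ πN = v ≫ U.ι := h.toNormalization_fromNormalization
  -- the pullback of `h` along `U.ι`
  let p₁ := pullback.fst h U.ι
  let p₂ := pullback.snd h U.ι
  have hp : p₁ ≫ v = p₂ := by
    rw [← cancel_mono U.ι, Category.assoc]
    exact pullback.condition
  haveI : IsIso p₁ := by
    refine ⟨pullback.lift (𝟙 V) v (by simp [h]), ?_, ?_⟩
    · apply pullback.hom_ext
      · rw [Category.assoc, pullback.lift_fst, Category.id_comp]
        exact Category.comp_id _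
      · rw [Category.assoc, pullback.lift_snd, Category.id_comp]
        exact hp
    · exact pullback.lift_fst _ _ _
  haveI : IsIntegralHom p₂ := by
    rw [← hp]
    infer_instance
  let φ : V ≅ pullback πN U.ι :=
    (asIso p₁).symm ≪≫ asIso p₂.toNormalization ≪≫ asIso (h.normalizationPullback U.ι)
  have hφ1 : φ.hom ≫ pullback.fst πN U.ι = tN := by
    simp only [φ, Iso.trans_hom, Iso.symm_hom, asIso_inv, asIso_hom, Category.assoc]
    rw [Scheme.Hom.toNormalization_normalizationPullback_fst, IsIso.inv_hom_id_assoc]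
  have hφ2 : φ.hom ≫ pullback.snd πN U.ι = v := by
    simp only [φ, Iso.trans_hom, Iso.symm_hom, asIso_inv, asIso_hom, Category.assoc]
    rw [Scheme.Hom.normalizationPullback_snd, Scheme.Hom.toNormalization_fromNormalization,
      ← hp, IsIso.inv_hom_id_assoc]
  have hpb : IsPullback tN v πN U.ι :=
    IsPullback.of_iso_pullback ⟨htπ⟩ φ hφ1 hφ2
  -- the reduced complement
  let Zc : TopologicalSpace.Closeds S := ⟨(U : Set S)ᶜ, U.2.isClosed_compl⟩
  let I : S.IdealSheafData := Scheme.IdealSheafData.vanishingIdeal Zc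
  let Z : Scheme.{u} := I.subscheme
  let ιZ : Z ⟶ S := I.subschemeι
  have hιZ : Set.range ιZ = (U : Set S)ᶜ := by
    rw [Scheme.IdealSheafData.range_subschemeι]
    exact Scheme.IdealSheafData.coe_support_vanishingIdeal Zc
  let π : N ⨿ Z ⟶ S := coprod.desc πN ιZ
  have hinl : (coprod.inl : N ⟶ N ⨿ Z) ≫ π = πN := coprod.inl_desc _ _
  have hinr : (coprod.inr : Z ⟶ N ⨿ Z) ≫ π = ιZ := coprod.inr_desc _ _
  have hw : (tN ≫ coprod.inl) ≫ π = v ≫ U.ι := by
    rw [Category.assoc, hinl]; exact htπ
  -- morphisms to `N ⨿ Z` lying over `U` factor through `N`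
  have key : ∀ {T : Scheme.{u}} (a : T ⟶ N ⨿ Z) (b : T ⟶ (U : Scheme.{u})),
      a ≫ π = b ≫ U.ι → Set.range a ⊆ Set.range (coprod.inl : N ⟶ N ⨿ Z) := by
    intro T a b hab
    rintro _ ⟨t, rfl⟩
    have hcov : a t ∈ Set.range (coprod.inl : N ⟶ N ⨿ Z) ∪
        Set.range (coprod.inr : Z ⟶ N ⨿ Z) := by
      have h0 : Set.range (coprod.inl : N ⟶ N ⨿ Z) ∪ Set.range (coprod.inr : Z ⟶ N ⨿ Z) =
          Set.univ := (isCompl_range_inl_inr N Z).sup_eq_top
      rw [h0]; trivial
    rcases hcov with hl | ⟨z, hz⟩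
    · exact hl
    · exfalso
      have h1 : π (a t) ∈ (U : Set S) := by
        change (a ≫ π) t ∈ (U : Set S)
        rw [hab]
        exact (b t).2
      have h2 : π (a t) ∈ (U : Set S)ᶜ := by
        rw [← hz, ← hιZ]
        change (coprod.inr ≫ π) z ∈ Set.range ιZ
        rw [hinr]
        exact ⟨z, rfl⟩
      exact h2 h1
  refine ⟨N ⨿ Z, π, tN ≫ coprod.inl, ?_, inferInstance, ?_⟩
  · constructor
    intro s
    by_cases hs : s ∈ U
    · obtain ⟨y, hy⟩ := v.surjective ⟨s, hs⟩
      refine ⟨(coprod.inl : N ⟶ N ⨿ Z) (tN y), ?_⟩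
      change ((tN ≫ coprod.inl) ≫ π) y = s
      rw [hw]
      change U.ι (v y) = s
      rw [hy]
      rfl
    · obtain ⟨z, hz⟩ : s ∈ Set.range ιZ := by rw [hιZ]; exact hs
      refine ⟨(coprod.inr : Z ⟶ N ⨿ Z) z, ?_⟩
      change (coprod.inr ≫ π) z = s
      rw [hinr]
      exact hz
  · refine IsPullback.of_isLimit' ⟨hw⟩ ?_
    refine PullbackCone.IsLimit.mk _
      (fun c => hpb.lift (IsOpenImmersion.lift coprod.inl c.fst (key c.fst c.snd c.condition)) c.snd
        (by rw [← hinl, IsOpenImmersion.lift_fac_assoc]; exact c.condition)) ?_ ?_ ?_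
    · intro c
      rw [← Category.assoc, hpb.lift_fst, IsOpenImmersion.lift_fac]
    · intro c
      exact hpb.lift_snd _ _ _
    · intro c m hm1 hm2
      apply hpb.hom_ext
      · rw [hpb.lift_fst, ← cancel_mono (coprod.inl : N ⟶ N ⨿ Z), IsOpenImmersion.lift_fac,
          Category.assoc]
        exact hm1
      · rw [hpb.lift_snd]
        exact hm2

end Groth.Agent.S1377
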