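import Groth.Statements.S13771
import Mathlib

set_option autoImplicit false
universe u v w
open PLie

namespace Groth.Agent.S13771

section Aux
variable {R : Type u} [CommRing R] {p : ℕ} [CharP R p]
  {L₁ : Type v} [LieRing L₁] [LieAlgebra R L₁] {L' : Type w} [LieRing L'] [LieAlgebra R L']

theorem bracketWord_map (g : L₁ →ₗ⁅R⁆ L') (x₀ x₁ : L₁) (w : List Bool) :
    g (PLie.bracketWord (PLie.pair x₀ x₁) x₁ w) =
      PLie.bracketWord (PLie.pair (g x₀) (g x₁)) (g x₁) w := by
  induction w with
  | nil => rfl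
  | cons b w ih =>
    rw [PLie.bracketWord_cons, PLie.bracketWord_cons, LieHom.map_lie, ih]
    congr 1
    cases b <;> rfl

theorem map_jacobson (g : L₁ →ₗ⁅R⁆ L') (x₀ x₁ : L₁) :
    g (PLie.jacobson R p x₀ x₁) = PLie.jacobson R p (g x₀) (g x₁) := by
  unfold PLie.jacobson
  rw [map_sum]
  refine Finset.sum_congr rfl (fun t _ => ?_)
  rw [map_smul, bracketWord_map]

theorem bracketWord_zero {ι : Type} (x : ι → L') (w : List ι) :
    PLie.bracketWord x (0 : L') w = 0 := by
  induction w with
  | nil => rfl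
  | cons i w ih => rw [PLie.bracketWord_cons, ih, lie_zero]

theorem jacobson_zero (y : L') : PLie.jacobson R p y (0 : L') = 0 := by
  unfold PLie.jacobson
  apply Finset.sum_eq_zero
  intro t _
  rw [bracketWord_zero, smul_zero]

theorem pmap_ext {ψ ψ' : PLie.PMap R p L'} (h : ∀ y, ψ y = ψ' y) : ψ = ψ' := by
  obtain ⟨f1, a1, b1, c1⟩ := ψ
  obtain ⟨f2, a2, b2, c2⟩ := ψ'
  have : f1 = f2 := funext h
  subst this
  rfl

theorem ad_pow_map (g : L₁ →ₗ⁅R⁆ L') (x : L₁) (n : ℕ) (v : L₁) :
    ((LieAlgebra.ad R L' (g x)) ^ n) (g v) = g (((LieAlgebra.ad R L₁ x) ^ n) v) := by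
  induction n generalizing v with
  | zero => simp
  | succ n ih =>
    rw [pow_succ, pow_succ, Module.End.mul_apply, Module.End.mul_apply, LieAlgebra.ad_apply,
      LieAlgebra.ad_apply, ← LieHom.map_lie, ih]

theorem existsUnique_pmap_of_surjective (φ : PLie.PMap R p L₁) (g : L₁ →ₗ⁅R⁆ L')
    (hg : Function.Surjective g) (hker : ∀ x, g x = 0 → g (φ x) = 0) :
    ∃! ψ : PLie.PMap R p L', PLie.IsPHom φ ψ g := by
  have key : ∀ x x' : L₁, g x = g x' → g (φ x) = g (φ x') := by
    intro x x' h
    have hk : g (x' - x) = 0 := by rw [map_sub, h, sub_self]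
    have e : φ x' = φ (x + (x' - x)) := by congr 1; abel
    rw [e, φ.map_add, map_sub, map_add, hker _ hk, map_jacobson, hk, jacobson_zero, add_zero,
      sub_zero]
  have hs : ∀ y, g (Function.surjInv hg y) = y := Function.surjInv_eq hg
  let ψ : PLie.PMap R p L' :=
    { toFun := fun y => g (φ (Function.surjInv hg y))
      map_smul := by
        intro c y
        show g (φ (Function.surjInv hg (c • y))) = c ^ p • g (φ (Function.surjInv hg y))
        rw [key (Function.surjInv hg (c • y)) (c • Function.surjInv hg y)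
          (by rw [hs, map_smul, hs]), φ.map_smul, map_smul]
      ad_map := by
        intro y
        ext w
        obtain ⟨v, rfl⟩ := hg w
        show (LieAlgebra.ad R L' (g (φ (Function.surjInv hg y)))) (g v) = _
        rw [LieAlgebra.ad_apply, ← LieHom.map_lie]
        have e1 : ⁅φ (Function.surjInv hg y), v⁆ =
            ((LieAlgebra.ad R L₁ (Function.surjInv hg y)) ^ p) v := by
          rw [← φ.ad_map]; rfl
        rw [e1, ← ad_pow_map, hs]
      map_add := by
        intro y₀ y₁
        show g (φ (Function.surjInv hg (y₀ + y₁))) = g (φ (Function.surjInv hg y₀)) +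
          g (φ (Function.surjInv hg y₁)) - PLie.jacobson R p y₀ y₁
        rw [key (Function.surjInv hg (y₀ + y₁)) (Function.surjInv hg y₀ + Function.surjInv hg y₁)
          (by rw [hs, map_add, hs, hs]), φ.map_add, map_sub, map_add, map_jacobson, hs, hs] }
  refine ⟨ψ, fun x => (key _ _ (hs (g x))).symm, ?_⟩
  intro ψ' h'
  apply pmap_ext
  intro y
  show ψ' y = g (φ (Function.surjInv hg y))
  rw [h' (Function.surjInv hg y), hs]

end Aux

/-- Let R be a commutative ring of prime characteristic p, L₁ and L₂ Lie algebras over R, φ a p-mapping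
on L₁ and f : L₁ → L₂ a morphism of Lie algebras whose kernel is stable under φ (a p-ideal). Then
the image f(L₁), a Lie subalgebra of L₂, carries exactly one p-mapping ψ for which the corestriction
of f to its image is a morphism of p-Lie algebras, i.e. ψ (f x) = f (φ x) for all x. -/
theorem result (R : Type u) [CommRing R] (p : ℕ) [Fact p.Prime] [CharP R p]
    (L₁ : Type v) [LieRing L₁] [LieAlgebra R L₁] (L₂ : Type w) [LieRing L₂] [LieAlgebra R L₂]
    (φ : PLie.PMap R p L₁) (f : L₁ →ₗ⁅R⁆ L₂) (hker : ∀ x : L₁, f x = 0 → f (φ x) = 0) :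
    ∃! ψ : PLie.PMap R p f.range, PLie.IsPHom φ ψ f.rangeRestrict := by
  apply existsUnique_pmap_of_surjective φ f.rangeRestrict (LieHom.surjective_rangeRestrict f)
  intro x hx
  apply Subtype.ext
  have := congrArg Subtype.val hx
  exact hker x this

end Groth.Agent.S13771
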