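import Groth.Statements.S13772
import Mathlib

set_option autoImplicit false
universe u v
open PLie

namespace Groth.Agent.S13772

/-- Let R be a commutative ring of prime characteristic p and L a Lie algebra over R with a p-mapping γ.
For a map g : L → L, there is a p-mapping γ' on L with γ' x = γ x + g x for every x if and only if g
is additive, g (c • x) = c ^ p • g x for all scalars c, and every value g x lies in the centre of L.
(Both parts of the published statement at once: the difference of two p-mappings is a
Frobenius-semilinear map into the centre, and adding such a map to a p-mapping gives a p-mapping.) -/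
theorem result (R : Type u) [CommRing R] (p : ℕ) [Fact p.Prime] [CharP R p]
    (L : Type v) [LieRing L] [LieAlgebra R L] (γ : PLie.PMap R p L) (g : L → L) :
    (∃ γ' : PLie.PMap R p L, ∀ x : L, γ' x = γ x + g x) ↔
      ((∀ x y : L, g (x + y) = g x + g y) ∧ (∀ (c : R) (x : L), g (c • x) = c ^ p • g x) ∧
        ∀ x : L, g x ∈ LieAlgebra.center R L) := by
  constructor
  · rintro ⟨γ', hγ'⟩
    refine ⟨?_, ?_, ?_⟩
    · intro x y
      have h := hγ' (x + y)
      rw [γ'.map_add, γ.map_add, hγ' x, hγ' y] at h
      have e : g (x + y) = (γ x + g x + (γ y + g y) - PLie.jacobson R p x y) -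
          (γ x + γ y - PLie.jacobson R p x y) := by
        rw [h]; abel
      rw [e]; abel
    · intro c x
      have h := hγ' (c • x)
      rw [γ'.map_smul, γ.map_smul, hγ' x, smul_add] at h
      exact (add_left_cancel h).symm
    · intro x
      show _ ∈ LieModule.maxTrivSubmodule R L L
      rw [LieModule.mem_maxTrivSubmodule]
      intro y
      have h1 : LieAlgebra.ad R L (γ' x) = LieAlgebra.ad R L (γ x) := by
        rw [γ'.ad_map, γ.ad_map]
      rw [hγ' x, map_add] at h1
      have h2 : LieAlgebra.ad R L (g x) = 0 := by
        have := h1
        rwa [add_eq_left] at this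
      have h3 : ⁅g x, y⁆ = 0 := by
        have := congrArg (fun F => F y) h2
        simpa using this
      rw [← lie_skew, h3, neg_zero]
  · rintro ⟨hadd, hsmul, hcen⟩
    have had : ∀ x, LieAlgebra.ad R L (g x) = 0 := by
      intro x
      have hx : g x ∈ LieModule.maxTrivSubmodule R L L := hcen x
      rw [LieModule.mem_maxTrivSubmodule] at hx
      ext y
      rw [LieAlgebra.ad_apply, ← lie_skew, hx y, neg_zero]
      rfl
    refine ⟨{ toFun := fun x => γ x + g x, map_smul := ?_, ad_map := ?_, map_add := ?_ }, fun x => rfl⟩
    · intro c x
      rw [γ.map_smul, hsmul, smul_add]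
    · intro x
      rw [map_add, had, add_zero, γ.ad_map]
    · intro x₀ x₁
      rw [γ.map_add, hadd]; abel

end Groth.Agent.S13772
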