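import Mathlib
import Groth.Statements.S13774
import Groth.Agent.Lib.Helper29.JacobsonThm

set_option autoImplicit false
universe u v w
open PLie

namespace Aux13774

open PLie

lemma ad_pow_succ (R : Type u) [CommRing R] (L : Type v) [LieRing L] [LieAlgebra R L] (v : L)
    (f : L →ₗ[R] L →ₗ[R] R) (hf : ∀ x y : L, ⁅x, y⁆ = f x y • v) (x : L) :
    ∀ (n : ℕ) (z : L), ((LieAlgebra.ad R L x) ^ (n + 1)) z = (f x v) ^ n • ⁅x, z⁆ := by
  intro n
  induction n with
  | zero => intro z; simp
  | succ n ih =>
    intro z
    rw [pow_succ', Module.End.mul_apply, ih, LieAlgebra.ad_apply, lie_smul, hf x z, lie_smul, hf x v]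
    simp only [smul_smul]
    congr 1
    ring

theorem main (R : Type u) [CommRing R] (p : ℕ) [hp : Fact p.Prime] [CharP R p]
    (L : Type v) [LieRing L] [LieAlgebra R L] {ι : Type w} (b : Module.Basis ι R L) (v : L)
    (f : L →ₗ[R] L →ₗ[R] R) (hf : ∀ x y : L, ⁅x, y⁆ = f x y • v) :
    ∃ φ : PLie.PMap R p L, ∀ i : ι, φ (b i) = (f (b i) v) ^ (p - 1) • b i := by
  have hyp : ∀ i : ι, LieAlgebra.ad R L (b i) ^ p =
      LieAlgebra.ad R L ((f (b i) v) ^ (p - 1) • b i) := by
    intro i
    refine LinearMap.ext fun z => ?_
    have h := ad_pow_succ R L v f hf (b i) (p - 1) z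
    rw [Nat.sub_add_cancel hp.out.one_le] at h
    rw [h, LieAlgebra.ad_apply, smul_lie]
  obtain ⟨φ, hφ, -⟩ := Groth.Agent.Lib.Helper29.JacobsonThm.existsUnique_pmap R p b
    (fun i => (f (b i) v) ^ (p - 1) • b i) hyp
  exact ⟨φ, hφ⟩

end Aux13774

namespace Groth.Agent.S13774

/-- Let R be a commutative ring of prime characteristic p and L a Lie algebra over R, free as an
R-module with basis b indexed by ι, whose bracket is ⁅x, y⁆ = f x y • v for some vector v of L and
some R-bilinear form f on L. Then L carries a p-mapping φ with φ (b i) = (f (b i) v) ^ (p - 1) • b i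
for every i; in particular L is restrictable. (The published statement is made over a base scheme,
where the Lie algebra is a vector bundle of finite rank whose derived algebra is a subbundle of rank
one, and concludes that p-mappings exist Zariski-locally; this row is the case of a free module over
a ring, of any rank, with bracket of the displayed shape.) -/
theorem result (R : Type u) [CommRing R] (p : ℕ) [Fact p.Prime] [CharP R p]
    (L : Type v) [LieRing L] [LieAlgebra R L] {ι : Type w} (b : Module.Basis ι R L) (v : L)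
    (f : L →ₗ[R] L →ₗ[R] R) (hf : ∀ x y : L, ⁅x, y⁆ = f x y • v) :
    ∃ φ : PLie.PMap R p L, ∀ i : ι, φ (b i) = (f (b i) v) ^ (p - 1) • b i := by
  exact Aux13774.main R p L b v f hf

end Groth.Agent.S13774
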