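import Groth.Statements.S13775
import Mathlib

set_option autoImplicit false
universe u v
open PLie

namespace Groth.Agent.S13775

/-- Let R be a commutative ring of prime characteristic p and L a Lie algebra over R, free as a module
with basis x = bs 0, y = bs 1, z = bs 2 and brackets [x,y] = y, [x,z] = y + z, [y,z] = 0. Then L
carries no p-mapping. (The published statement is the corresponding entry of the classification
table of three-dimensional Lie algebras over an algebraically closed field of characteristic p; this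
row states it over every commutative ring of characteristic p.) -/
theorem result (R : Type u) [CommRing R] (p : ℕ) [Fact p.Prime] [CharP R p]
    (L : Type v) [LieRing L] [LieAlgebra R L] (bs : Module.Basis (Fin 3) R L)
    (hxy : ⁅bs 0, bs 1⁆ = bs 1) (hxz : ⁅bs 0, bs 2⁆ = bs 1 + bs 2) (hyz : ⁅bs 1, bs 2⁆ = 0) :
    IsEmpty (PLie.PMap R p L) := by
  constructor
  intro φ
  haveI : Nontrivial R := CharP.nontrivial_of_char_ne_one (R := R) (Fact.out : p.Prime).ne_one
  have hy : ∀ n : ℕ, ((LieAlgebra.ad R L (bs 0)) ^ n) (bs 1) = bs 1 := by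
    intro n
    induction n with
    | zero => simp
    | succ n ih => rw [pow_succ, Module.End.mul_apply, LieAlgebra.ad_apply, hxy, ih]
  have hz : ∀ n : ℕ, ((LieAlgebra.ad R L (bs 0)) ^ n) (bs 2) = (n : R) • bs 1 + bs 2 := by
    intro n
    induction n with
    | zero => simp
    | succ n ih =>
      rw [pow_succ, Module.End.mul_apply, LieAlgebra.ad_apply, hxz, map_add, hy, ih]
      push_cast
      module
  have hzy : ⁅bs 2, bs 1⁆ = 0 := by rw [← lie_skew, hyz, neg_zero]
  have e1 : ⁅φ (bs 0), bs 1⁆ = bs 1 := by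
    have h := congrArg (fun F : Module.End R L => F (bs 1)) (φ.ad_map (bs 0))
    simp only [LieAlgebra.ad_apply] at h
    rw [h]; exact hy p
  have e2 : ⁅φ (bs 0), bs 2⁆ = bs 2 := by
    have h := congrArg (fun F : Module.End R L => F (bs 2)) (φ.ad_map (bs 0))
    simp only [LieAlgebra.ad_apply] at h
    rw [h, hz p, CharP.cast_eq_zero R p, zero_smul, zero_add]
  obtain ⟨α, β, γ, hu⟩ : ∃ α β γ : R, φ (bs 0) = α • bs 0 + β • bs 1 + γ • bs 2 := by
    refine ⟨bs.repr (φ (bs 0)) 0, bs.repr (φ (bs 0)) 1, bs.repr (φ (bs 0)) 2, ?_⟩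
    conv_lhs => rw [← bs.sum_repr (φ (bs 0))]
    rw [Fin.sum_univ_three]
  rw [hu] at e1 e2
  simp only [add_lie, smul_lie, hxy, hxz, hyz, lie_self, hzy, smul_zero, add_zero] at e1 e2
  have c1 := congrArg (fun v => bs.repr v 1) e1
  have c2 := congrArg (fun v => bs.repr v 1) e2
  simp at c1 c2
  exact one_ne_zero (c1.symm.trans c2)

end Groth.Agent.S13775
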