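import Mathlib
import Groth.Statements.S13776
import Groth.Agent.Lib.Helper29.PLieMeta

set_option autoImplicit false
universe u v
open PLie

namespace Aux13776
open PLie Groth.Agent.Lib.Helper29.PLieMeta

theorem main (R : Type u) [CommRing R] (p : ℕ) [hp : Fact p.Prime] [CharP R p] (t : R)
    (L : Type v) [LieRing L] [LieAlgebra R L] (bs : Module.Basis (Fin 3) R L)
    (hxy : ⁅bs 0, bs 1⁆ = bs 1) (hxz : ⁅bs 0, bs 2⁆ = t • bs 2) (hyz : ⁅bs 1, bs 2⁆ = 0) :
    Nonempty (PLie.PMap R p L) ↔ t ^ p = t := by
  have hp0 : p ≠ 0 := hp.out.ne_zero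
  have c01 : bs.coord 0 (bs 1) = 0 := by simp [Module.Basis.coord_apply]
  have c02 : bs.coord 0 (bs 2) = 0 := by simp [Module.Basis.coord_apply]
  have c00 : bs.coord 0 (bs 0) = 1 := by simp [Module.Basis.coord_apply]
  have c11 : bs.coord 1 (bs 1) = 1 := by simp [Module.Basis.coord_apply]
  have c22 : bs.coord 2 (bs 2) = 1 := by simp [Module.Basis.coord_apply]
  have hDy : (LieAlgebra.ad R L (bs 0)) (bs 1) = (1 : R) • bs 1 := by
    rw [LieAlgebra.ad_apply, hxy, one_smul]
  have hDz : (LieAlgebra.ad R L (bs 0)) (bs 2) = t • bs 2 := by rw [LieAlgebra.ad_apply, hxz]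
  have hDx : (LieAlgebra.ad R L (bs 0)) (bs 0) = 0 := by rw [LieAlgebra.ad_apply, lie_self]
  have h1 := h1_basis bs hyz
  constructor
  · rintro ⟨φ⟩
    have had := φ.ad_map (bs 0)
    have hy := LinearMap.congr_fun had (bs 1)
    have hz := LinearMap.congr_fun had (bs 2)
    rw [pow_eigen _ _ _ hDy, LieAlgebra.ad_apply, h1, c01, zero_smul, sub_zero, hDy] at hy
    simp only [one_pow, one_smul] at hy
    rw [pow_eigen _ _ _ hDz, LieAlgebra.ad_apply, h1, c02, zero_smul, sub_zero, hDz, smul_smul] at hz
    have hα : bs.coord 0 (φ.toFun (bs 0)) = 1 := by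
      have h := congrArg (bs.coord 1) hy
      simp only [map_smul, c11, smul_eq_mul, mul_one] at h
      exact h
    have h := congrArg (bs.coord 2) hz
    simp only [map_smul, c22, smul_eq_mul, mul_one, hα, one_mul] at h
    exact h.symm
  · intro htp
    have h2 := h2_basis bs (by rw [hxy]; exact c01) (by rw [hxz, map_smul, c02, smul_zero])
    have h3 : ∀ v, ((LieAlgebra.ad R L (bs 0)) ^ p) v =
        (1 : R) • (LieAlgebra.ad R L (bs 0)) v := by
      have h3' : (LieAlgebra.ad R L (bs 0)) ^ p = (1 : R) • (LieAlgebra.ad R L (bs 0)) := by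
        apply bs.ext
        intro i
        fin_cases i
        · show ((LieAlgebra.ad R L (bs 0)) ^ p) (bs 0) =
            ((1 : R) • LieAlgebra.ad R L (bs 0)) (bs 0)
          rw [LinearMap.smul_apply, hDx, smul_zero,
            pow_eigen _ (bs 0) 0 (by rw [hDx, zero_smul]), zero_pow hp0, zero_smul]
        · show ((LieAlgebra.ad R L (bs 0)) ^ p) (bs 1) =
            ((1 : R) • LieAlgebra.ad R L (bs 0)) (bs 1)
          rw [LinearMap.smul_apply, pow_eigen _ _ _ hDy, hDy]
          simp only [one_pow, one_smul]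
        · show ((LieAlgebra.ad R L (bs 0)) ^ p) (bs 2) =
            ((1 : R) • LieAlgebra.ad R L (bs 0)) (bs 2)
          rw [LinearMap.smul_apply, pow_eigen _ _ _ hDz, hDz, htp, one_smul]
      intro v
      rw [h3']; rfl
    obtain ⟨φ, -⟩ := construct p (bs.coord 0) (LieAlgebra.ad R L (bs 0)) (bs 0) 1 c00 hDx h1 h2 h3
    exact ⟨φ⟩

end Aux13776
namespace Groth.Agent.S13776

/-- Let R be a commutative ring of prime characteristic p, t ∈ R, and L a Lie algebra over R, free as a
module with basis x = bs 0, y = bs 1, z = bs 2 and brackets [x,y] = y, [x,z] = t • z, [y,z] = 0.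
Then L carries a p-mapping if and only if t ^ p = t. (The published statement is the corresponding
entry of the classification table over an algebraically closed field of characteristic p, where the
condition reads: t lies in the prime field; this row states it over every commutative ring of
characteristic p.) -/
theorem result (R : Type u) [CommRing R] (p : ℕ) [Fact p.Prime] [CharP R p] (t : R)
    (L : Type v) [LieRing L] [LieAlgebra R L] (bs : Module.Basis (Fin 3) R L)
    (hxy : ⁅bs 0, bs 1⁆ = bs 1) (hxz : ⁅bs 0, bs 2⁆ = t • bs 2) (hyz : ⁅bs 1, bs 2⁆ = 0) :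
    Nonempty (PLie.PMap R p L) ↔ t ^ p = t := by
  exact Aux13776.main R p t L bs hxy hxz hyz

end Groth.Agent.S13776
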