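import Mathlib
import Groth.Statements.S13778
import Groth.Agent.Lib.Helper29.JacobsonThm
import Groth.Agent.Lib.Helper29.Lie3Mat

set_option autoImplicit false
universe u v
open PLie

namespace Aux13778

open DualNumber
open Groth.Agent.Lib.Helper29
open Groth.Agent.Lib.Helper29.Lie3Mat

macro "ds" : tactic => `(tactic| ((try simp) <;> (try ring)))
macro "dt" : tactic => `(tactic| (apply TrivSqZeroExt.ext <;> (try simp) <;> (try ring)))
macro "mt" : tactic => `(tactic| (simp only [Matrix.mul_fin_three, smul_mat3]; exact mat3_ext (by dt) (by dt) (by dt) (by dt) (by dt) (by dt) (by dt) (by dt) (by dt)))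

section Mat

variable {K : Type u} [Field K]

local notation "E" => (DualNumber.eps : DualNumber K)
local notation "IN" => (TrivSqZeroExt.inl : K → DualNumber K)

/-- geometric sums -/
def Gs (t : K) (n : ℕ) : K := ∑ j ∈ Finset.range (n + 1), t ^ j

lemma Gs_zero (t : K) : Gs t 0 = 1 := by simp [Gs]

lemma Gs_succ (t : K) (n : ℕ) : Gs t (n + 1) = t * Gs t n + 1 := by
  unfold Gs; exact geom_sum_succ

lemma Gs_succ' (t : K) (n : ℕ) : Gs t (n + 1) = Gs t n + t ^ (n + 1) := by
  unfold Gs; exact Finset.sum_range_succ _ _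

lemma Gs_one (n : ℕ) : Gs (1 : K) n = ((n + 1 : ℕ) : K) := by simp [Gs]

lemma Gs_mul (t : K) (n : ℕ) : Gs t n * (t - 1) = t ^ (n + 1) - 1 := by
  unfold Gs; exact geom_sum_mul t (n + 1)

lemma Mx_pow (a b c d e f t : K) (m : ℕ) :
    !![0, a • E, d • E; 0, 1 + b • E, e • E; 0, c • E, IN t + f • E] ^ (m + 1) =
    !![0, a • E, (d * t ^ m) • E;
       0, 1 + (((m + 1 : ℕ) : K) * b) • E, (e * Gs t m) • E;
       0, (c * Gs t m) • E, IN (t ^ (m + 1)) + (((m + 1 : ℕ) : K) * t ^ m * f) • E] := by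
  induction m with
  | zero =>
    simp only [zero_add, pow_one, pow_zero, Gs_zero]
    exact mat3_ext (by dt) (by dt) (by dt) (by dt) (by dt) (by dt) (by dt) (by dt) (by dt)
  | succ m ih =>
    conv_lhs => rw [pow_succ, ih]
    rw [Matrix.mul_fin_three]
    exact mat3_ext (by dt) (by dt) (by dt) (by dt) (by dt) (by rw [Gs_succ]; dt) (by dt)
      (by rw [Gs_succ']; dt) (by dt)

lemma pow_x (a b c d e f t : K) (m : ℕ)
    (hcast : ((m + 1 : ℕ) : K) = 0) (htp : t ^ (m + 1) = t) (hdt : d * t ^ m = d)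
    (heG : e * Gs t m = e) (hcG : c * Gs t m = c) (hbt : b * t = f) :
    !![0, a • E, d • E; 0, 1 + b • E, e • E; 0, c • E, IN t + f • E] ^ (m + 1) =
      (1 - b • E) • !![0, a • E, d • E; 0, 1 + b • E, e • E; 0, c • E, IN t + f • E] := by
  rw [Mx_pow a b c d e f t m, hcast, htp, hdt, heG, hcG, ← hbt]
  mt

lemma My_sq (a b c g h i : K) :
    !![-(a • E), 0, g • E; -(1 + b • E), 0, h • E; -(c • E), 0, i • E] *
      !![-(a • E), 0, g • E; -(1 + b • E), 0, h • E; -(c • E), 0, i • E] =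
    !![0, 0, 0; a • E, 0, -(g • E); 0, 0, 0] := by mt

lemma Y2_My (a b c g h i : K) :
    !![0, 0, 0; a • E, 0, -(g • E); 0, 0, 0] *
      !![-(a • E), 0, g • E; -(1 + b • E), 0, h • E; -(c • E), 0, i • E] =
    !![0, 0, 0; 0, 0, 0; 0, 0, 0] := by mt

lemma smul_My2 (a b c h i : K) :
    !![0, 0, 0; a • E, 0, -((0 : K) • E); 0, 0, 0] =
    (-(a • E)) • !![-(a • E), 0, (0 : K) • E; -(1 + b • E), 0, h • E; -(c • E), 0, i • E] := by mt

lemma Mz_sq (d e f g h i t : K) :
    !![-(d • E), -(g • E), 0; -(e • E), -(h • E), 0; -(IN t + f • E), -(i • E), 0] *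
      !![-(d • E), -(g • E), 0; -(e • E), -(h • E), 0; -(IN t + f • E), -(i • E), 0] =
    !![0, 0, 0; 0, 0, 0; (d * t) • E, (g * t) • E, 0] := by mt

lemma Z2_Mz (d e f g h i t : K) :
    !![0, 0, 0; 0, 0, 0; (d * t) • E, (g * t) • E, 0] *
      !![-(d • E), -(g • E), 0; -(e • E), -(h • E), 0; -(IN t + f • E), -(i • E), 0] =
    !![0, 0, 0; 0, 0, 0; 0, 0, 0] := by mt

lemma smul_Mz2 (d e f h i t : K) :
    !![0, 0, 0; 0, 0, 0; (d * t) • E, ((0 : K) * t) • E, 0] =
    (-(d • E)) • !![-(d • E), -((0 : K) • E), 0; -(e • E), -(h • E), 0;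
      -(IN t + f • E), -(i • E), 0] := by mt

lemma pow_y (a b c g h i : K) (p : ℕ) (hp : p.Prime) (hcond : p = 2 → g = 0) :
    ∃ s : DualNumber K,
      !![-(a • E), 0, g • E; -(1 + b • E), 0, h • E; -(c • E), 0, i • E] ^ p =
        s • !![-(a • E), 0, g • E; -(1 + b • E), 0, h • E; -(c • E), 0, i • E] := by
  by_cases h2 : p = 2
  · refine ⟨-(a • E), ?_⟩
    rw [h2, pow_two, My_sq, hcond h2]
    exact smul_My2 a b c h i
  · refine ⟨0, ?_⟩
    obtain ⟨q, rfl⟩ : ∃ q, p = 3 + q := ⟨p - 3, by have := hp.two_le; omega⟩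
    rw [pow_add, pow_succ, pow_two, My_sq, Y2_My, zero3, zero_mul, zero_smul]

lemma pow_z (d e f g h i t : K) (p : ℕ) (hp : p.Prime) (hcond : p = 2 → g = 0) :
    ∃ s : DualNumber K,
      !![-(d • E), -(g • E), 0; -(e • E), -(h • E), 0; -(IN t + f • E), -(i • E), 0] ^ p =
        s • !![-(d • E), -(g • E), 0; -(e • E), -(h • E), 0; -(IN t + f • E), -(i • E), 0] := by
  by_cases h2 : p = 2
  · refine ⟨-(d • E), ?_⟩
    rw [h2, pow_two, Mz_sq, hcond h2]
    exact smul_Mz2 d e f h i t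
  · refine ⟨0, ?_⟩
    obtain ⟨q, rfl⟩ : ∃ q, p = 3 + q := ⟨p - 3, by have := hp.two_le; omega⟩
    rw [pow_add, pow_succ, pow_two, Mz_sq, Z2_Mz, zero3, zero_mul, zero_smul]

lemma necessary_x (a b c d e f g h i t Gm : K) (m : ℕ) (hcast : ((m + 1 : ℕ) : K) = 0)
    (u0 u1 u2 : DualNumber K)
    (H : !![0, a • E, (d * t ^ m) • E;
       0, 1 + (((m + 1 : ℕ) : K) * b) • E, (e * Gm) • E;
       0, (c * Gm) • E, IN (t ^ (m + 1)) + (((m + 1 : ℕ) : K) * t ^ m * f) • E] =
      combM (a • E) (1 + b • E) (c • E) (d • E) (e • E) (IN t + f • E) (g • E) (h • E) (i • E)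
        u0 u1 u2) :
    b * t = f ∧ (t = 1 → Gm = 0 → c = 0 ∧ e = 0) := by
  have h11 : 1 + (((m + 1 : ℕ) : K) * b) • E = u0 * (1 + b • E) - u2 * (h • E) :=
    congrFun (congrFun H 1) 1
  have h22 : IN (t ^ (m + 1)) + (((m + 1 : ℕ) : K) * t ^ m * f) • E =
      u0 * (IN t + f • E) + u1 * (i • E) := congrFun (congrFun H 2) 2
  have h10 : (0 : DualNumber K) = -(u1 * (1 + b • E)) - u2 * (e • E) := congrFun (congrFun H 1) 0
  have h20 : (0 : DualNumber K) = -(u1 * (c • E)) - u2 * (IN t + f • E) :=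
    congrFun (congrFun H 2) 0
  have h12 : (e * Gm) • E = u0 * (e • E) + u1 * (h • E) := congrFun (congrFun H 1) 2
  have h21 : (c * Gm) • E = u0 * (c • E) - u2 * (i • E) := congrFun (congrFun H 2) 1
  have k11f : (1 : K) = u0.fst := fst_eq h11 (by ds) (by ds)
  have k11s : ((m + 1 : ℕ) : K) * b = u0.fst * b + u0.snd - u2.fst * h :=
    snd_eq h11 (by ds) (by ds)
  have k22s : ((m + 1 : ℕ) : K) * t ^ m * f = u0.fst * f + u0.snd * t + u1.fst * i :=
    snd_eq h22 (by ds) (by ds)
  have k10f : (0 : K) = -u1.fst := fst_eq h10 (by ds) (by ds)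
  have k20f : (0 : K) = -(u2.fst * t) := fst_eq h20 (by ds) (by ds)
  have k12s : e * Gm = u0.fst * e + u1.fst * h := snd_eq h12 (by ds) (by ds)
  have k21s : c * Gm = u0.fst * c - u2.fst * i := snd_eq h21 (by ds) (by ds)
  refine ⟨?_, fun ht1 hG => ⟨?_, ?_⟩⟩
  · linear_combination (-t) * k11s + k22s + (t * b - f) * k11f + i * k10f + h * k20f +
      (t * b - t ^ m * f) * hcast
  · linear_combination (-1 : K) * k21s + c * hG + c * k11f + i * k20f - (i * u2.fst) * ht1
  · linear_combination (-1 : K) * k12s + e * hG + e * k11f - h * k10f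

lemma necessary_y (a b c d e f g h i t : K) (u0 u1 u2 : DualNumber K)
    (H : !![0, 0, 0; a • E, 0, -(g • E); 0, 0, 0] =
      combM (a • E) (1 + b • E) (c • E) (d • E) (e • E) (IN t + f • E) (g • E) (h • E) (i • E)
        u0 u1 u2) :
    g = 0 := by
  have h11 : (0 : DualNumber K) = u0 * (1 + b • E) - u2 * (h • E) := congrFun (congrFun H 1) 1
  have h10 : a • E = -(u1 * (1 + b • E)) - u2 * (e • E) := congrFun (congrFun H 1) 0
  have h12 : -(g • E) = u0 * (e • E) + u1 * (h • E) := congrFun (congrFun H 1) 2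
  have k11f : (0 : K) = u0.fst := fst_eq h11 (by ds) (by ds)
  have k10f : (0 : K) = -u1.fst := fst_eq h10 (by ds) (by ds)
  have k12s : -g = u0.fst * e + u1.fst * h := snd_eq h12 (by ds) (by ds)
  linear_combination (-1 : K) * k12s + e * k11f - h * k10f

end Mat

open DualNumber in
theorem main (K : Type u) [Field K] (p : ℕ) [hp : Fact p.Prime] [CharP K p]
    [CharP (DualNumber K) p] (t a b c d e f g h i : K) (ht : t ^ p = t)
    (L : Type v) [LieRing L] [LieAlgebra (DualNumber K) L] (bs : Module.Basis (Fin 3) (DualNumber K) L)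
    (hxy : ⁅bs 0, bs 1⁆ = (a • ε : DualNumber K) • bs 0 + (1 + b • ε : DualNumber K) • bs 1 + (c • ε : DualNumber K) • bs 2)
    (hxz : ⁅bs 0, bs 2⁆ = (d • ε : DualNumber K) • bs 0 + (e • ε : DualNumber K) • bs 1 +
      (algebraMap K (DualNumber K) t + f • ε) • bs 2)
    (hyz : ⁅bs 1, bs 2⁆ = (g • ε : DualNumber K) • bs 0 + (h • ε : DualNumber K) • bs 1 + (i • ε : DualNumber K) • bs 2) :
    Nonempty (PLie.PMap (DualNumber K) p L) ↔ (b * t = f ∧ (t = 1 → c = 0 ∧ e = 0) ∧ (p = 2 → g = 0)) := by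
  have hT : algebraMap K (DualNumber K) t = TrivSqZeroExt.inl t := rfl
  rw [hT] at hxz
  have hMx := adM_bs0 bs hxy hxz
  have hMy := adM_bs1 bs hxy hyz
  have hMz := adM_bs2 bs hxz hyz
  have hp' : p.Prime := hp.out
  obtain ⟨m, hm⟩ : ∃ m, p = m + 1 := ⟨p - 1, by have := hp'.one_le; omega⟩
  have hcast : ((m + 1 : ℕ) : K) = 0 := by rw [← hm]; exact CharP.cast_eq_zero K p
  have htp : t ^ (m + 1) = t := by rw [← hm]; exact ht
  have hGone : t = 1 → Gs t m = 0 := by
    intro h1
    rw [h1, Gs_one]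
    exact hcast
  have hGne : t ≠ 1 → Gs t m = 1 := by
    intro hne
    have h1 : Gs t m * (t - 1) = 1 * (t - 1) := by rw [Gs_mul, htp, one_mul]
    exact mul_right_cancel₀ (sub_ne_zero.2 hne) h1
  constructor
  · rintro ⟨φ⟩
    have hx := (adM_pow_eq_iff bs (bs 0) (φ.toFun (bs 0)) p).1 (φ.ad_map (bs 0)).symm
    have ex : adM bs (bs 0) ^ p =
        !![0, a • ε, (d * t ^ m) • ε;
           0, 1 + (((m + 1 : ℕ) : K) * b) • ε, (e * Gs t m) • ε;
           0, (c * Gs t m) • ε,
             TrivSqZeroExt.inl (t ^ (m + 1)) + (((m + 1 : ℕ) : K) * t ^ m * f) • ε] := by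
      rw [hm, hMx, Mx_pow]
    rw [ex, adM_eq_comb bs hxy hxz hyz] at hx
    obtain ⟨h1, h2⟩ := necessary_x a b c d e f g h i t (Gs t m) m hcast _ _ _ hx
    refine ⟨h1, fun ht1 => h2 ht1 (hGone ht1), fun hp2 => ?_⟩
    have hy := (adM_pow_eq_iff bs (bs 1) (φ.toFun (bs 1)) p).1 (φ.ad_map (bs 1)).symm
    have ey : adM bs (bs 1) ^ p = !![0, 0, 0; a • ε, 0, -(g • ε); 0, 0, 0] := by
      rw [hp2, pow_two, hMy, My_sq]
    rw [ey, adM_eq_comb bs hxy hxz hyz] at hy
    exact necessary_y a b c d e f g h i t _ _ _ hy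
  · rintro ⟨hbt, h1, h2⟩
    have hJ : h = h + d - h * t := snd_eq (jacobi_scalar bs hxy hxz hyz).2.1 (by ds) (by ds)
    have hd : d = h * t := by linear_combination -hJ
    have hdt : d * t ^ m = d := by
      by_cases h0 : t = 0
      · rw [hd, h0, mul_zero, zero_mul]
      · have h3 : t ^ m * t = 1 * t := by rw [← pow_succ, htp, one_mul]
        rw [mul_right_cancel₀ h0 h3, mul_one]
    have heG : e * Gs t m = e := by
      by_cases ht1 : t = 1
      · rw [(h1 ht1).2, zero_mul]
      · rw [hGne ht1, mul_one]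
    have hcG : c * Gs t m = c := by
      by_cases ht1 : t = 1
      · rw [(h1 ht1).1, zero_mul]
      · rw [hGne ht1, mul_one]
    have H : ∀ j : Fin 3, ∃ w : L, LieAlgebra.ad (DualNumber K) L (bs j) ^ p =
        LieAlgebra.ad (DualNumber K) L w := by
      intro j
      fin_cases j
      · refine ⟨(1 - b • ε : DualNumber K) • bs 0, ?_⟩
        show LieAlgebra.ad (DualNumber K) L (bs 0) ^ p = _
        rw [adM_pow_eq_iff bs, adM_smul, hMx, hm]
        exact pow_x a b c d e f t m hcast htp hdt heG hcG hbt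
      · obtain ⟨s, hs⟩ := pow_y a b c g h i p hp' h2
        refine ⟨s • bs 1, ?_⟩
        show LieAlgebra.ad (DualNumber K) L (bs 1) ^ p = _
        rw [adM_pow_eq_iff bs, adM_smul, hMy]
        exact hs
      · obtain ⟨s, hs⟩ := pow_z d e f g h i t p hp' h2
        refine ⟨s • bs 2, ?_⟩
        show LieAlgebra.ad (DualNumber K) L (bs 2) ^ p = _
        rw [adM_pow_eq_iff bs, adM_smul, hMz]
        exact hs
    choose y hy using H
    obtain ⟨φ, -⟩ := (JacobsonThm.existsUnique_pmap (DualNumber K) p bs y hy).exists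
    exact ⟨φ⟩

end Aux13778

namespace Groth.Agent.S13778

open DualNumber in
/-- Let K be a field of prime characteristic p, K[ε] the ring of dual numbers (taken with its
characteristic-p structure), t ∈ K with t ^ p = t (an element of the prime field), and a, …, i ∈ K.
Let L be a Lie algebra over K[ε], free as a module with basis x = bs 0, y = bs 1, z = bs 2 and
brackets [x,y] = aε x + (1 + bε) y + cε z, [x,z] = dε x + eε y + (t + fε) z, [y,z] = gε x + hε y +
iε z. Then L carries a p-mapping over K[ε] if and only if b t = f, c = e = 0 when t = 1, and g = 0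
when p = 2. (The published statement determines the singular locus of the restrictable locus in the
centreless stratum of the moduli scheme of based three-dimensional Lie algebras, for t non-zero, and
the rank-one-centre stratum treats t = 0; this row states the restrictability criterion for the
first-order deformations of l_t that the proofs compute, over any field of characteristic p in place
of the prime field and for every t in the prime field.) -/
theorem result (K : Type u) [Field K] (p : ℕ) [Fact p.Prime] [CharP K p]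
    [CharP (DualNumber K) p] (t a b c d e f g h i : K) (ht : t ^ p = t)
    (L : Type v) [LieRing L] [LieAlgebra (DualNumber K) L] (bs : Module.Basis (Fin 3) (DualNumber K) L)
    (hxy : ⁅bs 0, bs 1⁆ = (a • ε : DualNumber K) • bs 0 + (1 + b • ε : DualNumber K) • bs 1 + (c • ε : DualNumber K) • bs 2)
    (hxz : ⁅bs 0, bs 2⁆ = (d • ε : DualNumber K) • bs 0 + (e • ε : DualNumber K) • bs 1 +
      (algebraMap K (DualNumber K) t + f • ε) • bs 2)
    (hyz : ⁅bs 1, bs 2⁆ = (g • ε : DualNumber K) • bs 0 + (h • ε : DualNumber K) • bs 1 + (i • ε : DualNumber K) • bs 2) :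
    Nonempty (PLie.PMap (DualNumber K) p L) ↔ (b * t = f ∧ (t = 1 → c = 0 ∧ e = 0) ∧ (p = 2 → g = 0)) := by
  exact Aux13778.main K p t a b c d e f g h i ht L bs hxy hxz hyz

end Groth.Agent.S13778
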