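import Mathlib
import Groth.Statements.S13779
import Groth.Agent.Lib.Helper29.PLieMeta

set_option autoImplicit false
universe u v
open PLie

namespace Aux13779
open PLie Groth.Agent.Lib.Helper29.PLieMeta

theorem main (R : Type u) [CommRing R] (p : ℕ) [hp : Fact p.Prime] [CharP R p] (hp2 : p ≠ 2)
    (t : R) (L : Type v) [LieRing L] [LieAlgebra R L] (bs : Module.Basis (Fin 3) R L)
    (hxy : ⁅bs 0, bs 1⁆ = bs 2) (hxz : ⁅bs 0, bs 2⁆ = t • bs 1) (hyz : ⁅bs 1, bs 2⁆ = 0) :
    ∃ φ : PLie.PMap R p L, φ (bs 0) = t ^ ((p - 1) / 2) • bs 0 ∧ φ (bs 1) = 0 ∧ φ (bs 2) = 0 := by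
  have hp0 : p ≠ 0 := hp.out.ne_zero
  have hp1 : p - 1 ≠ 0 := by have := hp.out.two_le; omega
  have hodd : Odd p := hp.out.eq_two_or_odd'.resolve_left hp2
  obtain ⟨k, hk⟩ := hodd
  have hk' : (p - 1) / 2 = k := by omega
  rw [hk']
  have c01 : bs.coord 0 (bs 1) = 0 := by simp [Module.Basis.coord_apply]
  have c02 : bs.coord 0 (bs 2) = 0 := by simp [Module.Basis.coord_apply]
  have c00 : bs.coord 0 (bs 0) = 1 := by simp [Module.Basis.coord_apply]
  obtain ⟨D, hD⟩ : ∃ D : L →ₗ[R] L, D = LieAlgebra.ad R L (bs 0) := ⟨_, rfl⟩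
  have hDy : D (bs 1) = bs 2 := by rw [hD, LieAlgebra.ad_apply, hxy]
  have hDz : D (bs 2) = t • bs 1 := by rw [hD, LieAlgebra.ad_apply, hxz]
  have hDx : D (bs 0) = 0 := by rw [hD, LieAlgebra.ad_apply, lie_self]
  have h1 : ∀ u v : L, ⁅u, v⁆ = bs.coord 0 u • D v - bs.coord 0 v • D u := by
    rw [hD]; exact h1_basis bs hyz
  have h2 : ∀ v, bs.coord 0 (D v) = 0 := by
    rw [hD]
    exact h2_basis bs (by rw [hxy]; exact c02) (by rw [hxz, map_smul, c01, smul_zero])
  have hE : ∀ j : ℕ, (D ^ (2 * j)) (bs 1) = t ^ j • bs 1 ∧ (D ^ (2 * j)) (bs 2) = t ^ j • bs 2 := by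
    intro j
    induction j with
    | zero => simp
    | succ j ih =>
      have e : 2 * (j + 1) = 2 * j + 1 + 1 := by ring
      constructor
      · rw [e, pow_succ D (2 * j + 1), pow_succ D (2 * j), Module.End.mul_apply,
          Module.End.mul_apply, hDy, hDz, map_smul, ih.1, smul_smul, pow_succ t j, mul_comm]
      · rw [e, pow_succ D (2 * j + 1), pow_succ D (2 * j), Module.End.mul_apply,
          Module.End.mul_apply, hDz, map_smul, hDy, map_smul, ih.2, smul_smul, pow_succ t j,
          mul_comm]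
  have h3 : ∀ v, (D ^ p) v = t ^ k • D v := by
    have h3' : D ^ p = t ^ k • D := by
      apply bs.ext
      intro i
      fin_cases i
      · show (D ^ p) (bs 0) = (t ^ k • D) (bs 0)
        rw [LinearMap.smul_apply, hDx, smul_zero, hk, pow_succ D (2 * k), Module.End.mul_apply,
          hDx, map_zero]
      · show (D ^ p) (bs 1) = (t ^ k • D) (bs 1)
        rw [LinearMap.smul_apply, hDy, hk, pow_succ D (2 * k), Module.End.mul_apply, hDy,
          (hE k).2]
      · show (D ^ p) (bs 2) = (t ^ k • D) (bs 2)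
        rw [LinearMap.smul_apply, hDz, hk, pow_succ D (2 * k), Module.End.mul_apply, hDz,
          map_smul, (hE k).1, smul_comm]
    intro v
    rw [h3']; rfl
  obtain ⟨φ, hφ⟩ := construct p (bs.coord 0) D (bs 0) (t ^ k) c00 hDx h1 h2 h3
  refine ⟨φ, ?_, ?_, ?_⟩
  · rw [hφ, c00, one_pow, one_pow, one_smul, one_smul,
      pow_eigen D (bs 0) 0 (by rw [hDx, zero_smul]), zero_pow hp1, zero_smul, add_zero]
  · rw [hφ, c01, zero_pow hp0, zero_pow hp1, zero_smul, zero_smul, add_zero]
  · rw [hφ, c02, zero_pow hp0, zero_pow hp1, zero_smul, zero_smul, add_zero]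

end Aux13779
namespace Groth.Agent.S13779

/-- Let p be an odd prime, R a commutative ring of characteristic p, t ∈ R, and L a Lie algebra over R,
free as a module with basis x = bs 0, y = bs 1, z = bs 2 and brackets [x,y] = z, [x,z] = t • y,
[y,z] = 0. Then L carries a p-mapping φ with φ x = t ^ ((p - 1) / 2) • x, φ y = 0 and φ z = 0. (The
published statement concerns the Lie algebra with these brackets over a field of Laurent series
k((t)), k algebraically closed of odd characteristic, t the variable; this row states its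
restrictability over every commutative ring of odd prime characteristic and every t.) -/
theorem result (R : Type u) [CommRing R] (p : ℕ) [Fact p.Prime] [CharP R p] (hp : p ≠ 2)
    (t : R) (L : Type v) [LieRing L] [LieAlgebra R L] (bs : Module.Basis (Fin 3) R L)
    (hxy : ⁅bs 0, bs 1⁆ = bs 2) (hxz : ⁅bs 0, bs 2⁆ = t • bs 1) (hyz : ⁅bs 1, bs 2⁆ = 0) :
    ∃ φ : PLie.PMap R p L, φ (bs 0) = t ^ ((p - 1) / 2) • bs 0 ∧ φ (bs 1) = 0 ∧ φ (bs 2) = 0 := by
  exact Aux13779.main R p hp t L bs hxy hxz hyz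

end Groth.Agent.S13779
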