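import Groth.Statements.S13780
import Mathlib

set_option autoImplicit false
universe u v w
open PLie

namespace Groth.Agent.S13780

/-- Let R be a commutative ring of prime characteristic p, L and L' Lie algebras over R with p-mappings
γ and γ', the centre of L' being zero, and φ : L ≃ L' an isomorphism of Lie algebras over R. Then φ
(γ x) = γ' (φ x) for every x: φ is an isomorphism of p-Lie algebras. (The published statement is the
case L' = L of a centreless restrictable Lie algebra over a field with its unique p-mapping and a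
Lie algebra automorphism; this row allows two algebras and any commutative base ring of
characteristic p.) -/
theorem result (R : Type u) [CommRing R] (p : ℕ) [Fact p.Prime] [CharP R p]
    (L : Type v) [LieRing L] [LieAlgebra R L] (L' : Type w) [LieRing L'] [LieAlgebra R L']
    (γ : PLie.PMap R p L) (γ' : PLie.PMap R p L') (hZ : LieAlgebra.center R L' = ⊥) (φ : L ≃ₗ⁅R⁆ L') :
    PLie.IsPHom γ γ' φ.toLieHom := by
  intro x
  have hsurj : ∀ y' : L', ∃ y : L, φ.toLieHom y = y' :=
    fun y' => ⟨φ.symm y', φ.apply_symm_apply y'⟩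
  have hpow : ∀ (n : ℕ) (y : L), ((LieAlgebra.ad R L' (φ.toLieHom x)) ^ n) (φ.toLieHom y) =
      φ.toLieHom (((LieAlgebra.ad R L x) ^ n) y) := by
    intro n
    induction n with
    | zero => intro y; simp
    | succ n ih =>
      intro y
      rw [pow_succ, pow_succ, Module.End.mul_apply, Module.End.mul_apply, LieAlgebra.ad_apply,
        LieAlgebra.ad_apply, ← LieHom.map_lie, ih]
  have hd : φ.toLieHom (γ x) - γ' (φ.toLieHom x) ∈ LieAlgebra.center R L' := by
    show _ ∈ LieModule.maxTrivSubmodule R L' L'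
    rw [LieModule.mem_maxTrivSubmodule]
    intro y'
    obtain ⟨y, rfl⟩ := hsurj y'
    have e1 : ⁅γ x, y⁆ = ((LieAlgebra.ad R L x) ^ p) y := by
      rw [← γ.ad_map x]; rfl
    have e2 : ⁅γ' (φ.toLieHom x), φ.toLieHom y⁆ =
        ((LieAlgebra.ad R L' (φ.toLieHom x)) ^ p) (φ.toLieHom y) := by
      rw [← γ'.ad_map]; rfl
    have h1 : ⁅φ.toLieHom (γ x), φ.toLieHom y⁆ = ⁅γ' (φ.toLieHom x), φ.toLieHom y⁆ := by
      rw [← LieHom.map_lie, e1, e2, hpow]
    rw [lie_sub, sub_eq_zero, ← lie_skew (φ.toLieHom y) (φ.toLieHom (γ x)),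
      ← lie_skew (φ.toLieHom y) (γ' (φ.toLieHom x)), h1]
  rw [hZ] at hd
  exact sub_eq_zero.1 ((LieSubmodule.mem_bot _).1 hd)

end Groth.Agent.S13780
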