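import Groth.Statements.S13784
import Mathlib

set_option autoImplicit false
universe u
open CAlg

namespace Groth.Agent.S13784

/-- Let A be a commutative local ring and G a finite subgroup of Aˣ. If the order of G is invertible in
A, then G is cyclic. -/
theorem result {A : Type u} [CommRing A] [IsLocalRing A]
    (G : Subgroup Aˣ) [Finite G] (hG : IsUnit ((Nat.card G : ℕ) : A)) : IsCyclic G := by
  let f : G →* IsLocalRing.ResidueField A :=
    ((IsLocalRing.residue A : A →* IsLocalRing.ResidueField A).comp (Units.coeHom A)).comp G.subtype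
  apply isCyclic_of_subgroup_isDomain f
  rw [injective_iff_map_eq_one]
  intro g hg
  have hg' : IsLocalRing.residue A ((g : Aˣ) : A) = 1 := hg
  have hpow : ((g : Aˣ) : A) ^ Nat.card G = 1 := by
    have h1 : g ^ Nat.card G = 1 := pow_card_eq_one'
    calc ((g : Aˣ) : A) ^ Nat.card G = (((g ^ Nat.card G : G) : Aˣ) : A) := by
          rw [Subgroup.coe_pow, Units.val_pow_eq_pow_val]
      _ = 1 := by rw [h1]; rfl
  have hsum : (∑ i ∈ Finset.range (Nat.card G), ((g : Aˣ) : A) ^ i) * (((g : Aˣ) : A) - 1) = 0 := by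
    rw [geom_sum_mul, hpow, sub_self]
  have hunit : IsUnit (∑ i ∈ Finset.range (Nat.card G), ((g : Aˣ) : A) ^ i) := by
    rw [← IsLocalRing.notMem_maximalIdeal, ← IsLocalRing.residue_eq_zero_iff, map_sum]
    simp only [map_pow, hg', one_pow, Finset.sum_const, Finset.card_range, nsmul_eq_mul, mul_one]
    have h2 := hG.map (IsLocalRing.residue A)
    rw [map_natCast] at h2
    exact h2.ne_zero
  have ha : ((g : Aˣ) : A) - 1 = 0 := (hunit.mul_right_eq_zero).1 hsum
  have h1 : ((g : Aˣ) : A) = 1 := sub_eq_zero.1 ha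
  exact Subtype.ext (Units.ext h1)

end Groth.Agent.S13784
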