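import Groth.Statements.S13789
import Groth.Agent.Lib.Helper21.FracSub
-- import your own Groth.Agent.* helpers here

set_option autoImplicit false
universe u
open CAlg

namespace Groth.Agent.S13789

/-- Let A be a commutative ring with total ring of fractions Q and let B be a ring with A ⊆ B ⊆ Q. Then
the inclusion A ⊆ B carries nonzerodivisors of A to nonzerodivisors of B, and every nonzerodivisor
of B has the form r/u with r and u nonzerodivisors of A. -/
theorem result {A Q : Type u} [CommRing A] [CommRing Q] [Algebra A Q] [IsFractionRing A Q] (B : Subalgebra A Q) :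
    (∀ a : A, a ∈ nonZeroDivisors A → algebraMap A B a ∈ nonZeroDivisors B) ∧
    (∀ b : B, b ∈ nonZeroDivisors B → ∃ r u : A, r ∈ nonZeroDivisors A ∧ u ∈ nonZeroDivisors A ∧
      (b : Q) * algebraMap A Q u = algebraMap A Q r) := by
  refine ⟨?_, ?_⟩
  · intro a ha
    have hs : IsUnit (algebraMap A Q a) := IsLocalization.map_units Q ⟨a, ha⟩
    exact Groth.Agent.Lib.Helper21.mem_nonZeroDivisors_of_isUnit_val B _ (by simpa using hs)
  · intro b hb
    exact Groth.Agent.Lib.Helper21.exists_nzd_fraction B b hb

end Groth.Agent.S13789
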