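import Groth.Statements.S13791
import Mathlib
import Groth.Agent.Lib.Helper21.ConstSheafSplit

set_option autoImplicit false
universe u
open CategoryTheory
open CohSite

namespace Groth.Agent.S13791

/-- On a site, for a short exact sequence 0 → A → B → C → 0 of abelian groups the map H¹(A) → H¹(B) on
the first cohomology of the associated constant sheaves is injective. Stated for an injective
homomorphism f : A → B (C being its cokernel), with H¹ the Ext-based sheaf cohomology of the site. -/
theorem result {C : Type u} [SmallCategory C] (J : GrothendieckTopology C)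
    {A B : Type u} [AddCommGroup A] [AddCommGroup B] (f : A →+ B) (hf : Function.Injective f) :
    Function.Injective
      (Sheaf.H.map ((constantSheaf J AddCommGrpCat.{u}).map (AddCommGrpCat.ofHom f)) 1) := by
  haveI h1 : Limits.PreservesFiniteLimits (constantSheaf J AddCommGrpCat.{u}) := by
    unfold constantSheaf
    infer_instance
  haveI h2 : Limits.PreservesFiniteColimits (constantSheaf J AddCommGrpCat.{u}) := by
    unfold constantSheaf
    infer_instance
  haveI : Mono (AddCommGrpCat.ofHom f) := (AddCommGrpCat.mono_iff_injective _).2 hf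
  let S : ShortComplex AddCommGrpCat.{u} :=
    ShortComplex.mk (AddCommGrpCat.ofHom f) (Limits.cokernel.π (AddCommGrpCat.ofHom f))
      (Limits.cokernel.condition _)
  have hS : S.ShortExact :=
    { exact := ShortComplex.exact_cokernel _
      mono_f := inferInstanceAs (Mono (AddCommGrpCat.ofHom f))
      epi_g := inferInstanceAs (Epi (Limits.cokernel.π _)) }
  have hS' : (S.map (constantSheaf J AddCommGrpCat.{u})).ShortExact :=
    hS.map_of_exact (constantSheaf J AddCommGrpCat.{u})
  have hsurj : Function.Surjective S.g.hom := by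
    have := hS.epi_g
    exact (AddCommGrpCat.epi_iff_surjective _).1 this
  rw [injective_iff_map_eq_zero]
  intro x hx
  have hx' : x.comp (Abelian.Ext.mk₀ (S.map (constantSheaf J AddCommGrpCat.{u})).f)
      (add_zero 1) = 0 := hx
  obtain ⟨x₃, hx₃⟩ := Abelian.Ext.covariant_sequence_exact₁ _ hS' x hx' (n₀ := 0) rfl
  obtain ⟨s, rfl⟩ := (Abelian.Ext.mk₀_bijective _ _).2 x₃
  obtain ⟨t, ht⟩ := Groth.Agent.Lib.Helper21.ConstSheafSplit.exists_lift J S.g hsurj s
  have ht' : t ≫ (S.map (constantSheaf J AddCommGrpCat.{u})).g = s := ht
  have h5 : (Abelian.Ext.mk₀ (S.map (constantSheaf J AddCommGrpCat.{u})).g).comp hS'.extClass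
      (zero_add 1) = 0 := hS'.comp_extClass
  rw [← hx₃, ← ht', ← Abelian.Ext.mk₀_comp_mk₀, Abelian.Ext.comp_assoc_of_second_deg_zero]
  erw [h5]
  exact Abelian.Ext.comp_zero ..

end Groth.Agent.S13791
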