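import Groth.Statements.S13792
import Mathlib

set_option autoImplicit false
universe u
open CategoryTheory AlgebraicGeometry
open Curves

namespace Groth.Agent.S13792

/-- Let k be a field and E an integral k-scheme of finite type whose underlying space has dimension 1,
and let ι : G → E be a closed immersion. Then either ι is an isomorphism or G is finite over k. (The
published statement is about a closed subgroup scheme of an elliptic curve and its proof states this
fact for E geometrically integral; this row assumes only that E is integral.) -/
theorem result {k : Type u} [Field k]
    {E G : Scheme.{u}} (f : E ⟶ Spec (CommRingCat.of k)) [LocallyOfFiniteType f] [QuasiCompact f]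
    [IsIntegral E] (hdim : topologicalKrullDim ↥E = 1) (ι : G ⟶ E) [IsClosedImmersion ι] :
    IsIso ι ∨ IsFinite (ι ≫ f) := by
  by_cases hsurj : Function.Surjective ι
  · left
    haveI : Surjective ι := ⟨hsurj⟩
    exact isIso_of_isClosedImmersion_of_surjective ι
  · right
    haveI hGN : IsNoetherian G :=
      { __ := LocallyOfFiniteType.isLocallyNoetherian (ι ≫ f)
        toCompactSpace := QuasiCompact.compactSpace_of_compactSpace (ι ≫ f) }
    have hone : ∀ x : TopologicalSpace.IrreducibleCloseds E, IsMin x ∨ IsMax x :=
      Order.krullDim_le_one_iff.mp hdim.le
    have hinj : Function.Injective ι := ι.isClosedEmbedding.injective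
    have hrange : IsClosed (Set.range ι) := ι.isClosedEmbedding.isClosed_range
    have hclosed : ∀ z w : G, z ⤳ w → z = w := by
      intro z w hzw
      by_contra hne
      have hzw' : ι z ⤳ ι w := hzw.map ι.continuous
      have hne' : ι z ≠ ι w := fun h => hne (hinj h)
      let a : TopologicalSpace.IrreducibleCloseds E :=
        ⟨closure {ι w}, isIrreducible_singleton.closure, isClosed_closure⟩
      let b : TopologicalSpace.IrreducibleCloseds E :=
        ⟨closure {ι z}, isIrreducible_singleton.closure, isClosed_closure⟩
      let c : TopologicalSpace.IrreducibleCloseds E :=
        ⟨Set.univ, IrreducibleSpace.isIrreducible_univ E, isClosed_univ⟩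
      have hab : a < b := by
        refine lt_of_le_of_ne ?_ ?_
        · show closure {ι w} ⊆ closure {ι z}
          exact closure_minimal (Set.singleton_subset_iff.mpr
            (specializes_iff_mem_closure.mp hzw')) isClosed_closure
        · intro h
          have h' : closure {ι w} = closure {ι z} :=
            congrArg (fun t : TopologicalSpace.IrreducibleCloseds E => (t : Set E)) h
          have hwz : ι w ⤳ ι z := by
            rw [specializes_iff_mem_closure, h']
            exact subset_closure rfl
          exact hne' (hzw'.antisymm hwz).eq
      have hbc : b < c := by
        refine lt_of_le_of_ne ?_ ?_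
        · show closure {ι z} ⊆ Set.univ
          exact Set.subset_univ _
        · intro h
          have h' : closure {ι z} = Set.univ :=
            congrArg (fun t : TopologicalSpace.IrreducibleCloseds E => (t : Set E)) h
          apply hsurj
          intro e
          have : e ∈ closure {ι z} := by rw [h']; trivial
          exact closure_minimal (Set.singleton_subset_iff.mpr (Set.mem_range_self z)) hrange this
      rcases hone b with hmin | hmax
      · exact absurd (hmin hab.le) (not_le_of_gt hab)
      · exact absurd (hmax hbc.le) (not_le_of_gt hbc)
    have hfinG : Finite G := by
      have hfin := finite_irreducibleComponents_of_isNoetherian (X := G)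
      have hsing : ∀ T ∈ irreducibleComponents G, T.Subsingleton := by
        intro T hT
        have hTirr : IsIrreducible T := hT.1
        have hTcl : IsClosed T := isClosed_of_mem_irreducibleComponents T hT
        obtain ⟨z, hz⟩ := QuasiSober.sober hTirr hTcl
        have key : ∀ a ∈ T, z = a := by
          intro a ha
          apply hclosed
          rw [specializes_iff_mem_closure, hz.def]
          exact ha
        intro a ha b hb
        rw [← key a ha, ← key b hb]
      rw [← Set.finite_univ_iff, ← sUnion_irreducibleComponents]
      exact hfin.sUnion (fun T hT => (hsing T hT).finite)
    haveI : LocallyQuasiFinite (ι ≫ f) :=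
      .of_finite_preimage_singleton _ (fun _ => Set.toFinite _)
    exact IsFinite.of_locallyQuasiFinite (ι ≫ f)

end Groth.Agent.S13792
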