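import Mathlib
import Groth.Statements.S13793

set_option autoImplicit false
universe u
open CAlg

namespace Groth.Agent.S13793

open AddMonoidAlgebra

/-! ### vectors and the coface maps on exponents -/

lemma mulVec32 (a b c d e f : ℤ) (v : Fin 2 → ℤ) :
    (!![a, b; c, d; e, f] : Matrix (Fin 3) (Fin 2) ℤ).mulVec v =
      ![a * v 0 + b * v 1, c * v 0 + d * v 1, e * v 0 + f * v 1] := by
  ext i; fin_cases i <;> simp [Matrix.mulVec, dotProduct, Fin.sum_univ_two]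

lemma mulVec21 (a b : ℤ) (v : Fin 1 → ℤ) :
    (!![a; b] : Matrix (Fin 2) (Fin 1) ℤ).mulVec v = ![a * v 0, b * v 0] := by
  ext i; fin_cases i <;> simp [Matrix.mulVec, dotProduct]

lemma eta1 (v : Fin 1 → ℤ) : ![v 0] = v := by
  ext i; fin_cases i; rfl

lemma eta2 (v : Fin 2 → ℤ) : ![v 0, v 1] = v := by
  ext i; fin_cases i <;> rfl

lemma vec2_eq {a b a' b' : ℤ} : (![a, b] : Fin 2 → ℤ) = ![a', b'] ↔ a = a' ∧ b = b' := by
  constructor
  · intro h
    exact ⟨congrFun h 0, congrFun h 1⟩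
  · rintro ⟨rfl, rfl⟩
    rfl

lemma vec3_eq {a b c a' b' c' : ℤ} :
    (![a, b, c] : Fin 3 → ℤ) = ![a', b', c'] ↔ a = a' ∧ b = b' ∧ c = c' := by
  constructor
  · intro h
    exact ⟨congrFun h 0, congrFun h 1, congrFun h 2⟩
  · rintro ⟨rfl, rfl, rfl⟩
    rfl

noncomputable def φ0 : (Fin 2 → ℤ) →+ (Fin 3 → ℤ) :=
  (Matrix.mulVecLin (!![0, 0; 1, 0; 0, 1] : Matrix (Fin 3) (Fin 2) ℤ)).toAddMonoidHom
noncomputable def φ1 : (Fin 2 → ℤ) →+ (Fin 3 → ℤ) :=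
  (Matrix.mulVecLin (!![1, 0; 1, 0; 0, 1] : Matrix (Fin 3) (Fin 2) ℤ)).toAddMonoidHom
noncomputable def φ2 : (Fin 2 → ℤ) →+ (Fin 3 → ℤ) :=
  (Matrix.mulVecLin (!![1, 0; 0, 1; 0, 1] : Matrix (Fin 3) (Fin 2) ℤ)).toAddMonoidHom
noncomputable def φ3 : (Fin 2 → ℤ) →+ (Fin 3 → ℤ) :=
  (Matrix.mulVecLin (!![1, 0; 0, 1; 0, 0] : Matrix (Fin 3) (Fin 2) ℤ)).toAddMonoidHom
noncomputable def ψ0 : (Fin 1 → ℤ) →+ (Fin 2 → ℤ) :=
  (Matrix.mulVecLin (!![0; 1] : Matrix (Fin 2) (Fin 1) ℤ)).toAddMonoidHom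
noncomputable def ψ1 : (Fin 1 → ℤ) →+ (Fin 2 → ℤ) :=
  (Matrix.mulVecLin (!![1; 1] : Matrix (Fin 2) (Fin 1) ℤ)).toAddMonoidHom
noncomputable def ψ2 : (Fin 1 → ℤ) →+ (Fin 2 → ℤ) :=
  (Matrix.mulVecLin (!![1; 0] : Matrix (Fin 2) (Fin 1) ℤ)).toAddMonoidHom

lemma φ0_apply (v : Fin 2 → ℤ) : φ0 v = ![0, v 0, v 1] := by
  show (!![0, 0; 1, 0; 0, 1] : Matrix (Fin 3) (Fin 2) ℤ).mulVec v = _
  rw [mulVec32]; simp
lemma φ1_apply (v : Fin 2 → ℤ) : φ1 v = ![v 0, v 0, v 1] := by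
  show (!![1, 0; 1, 0; 0, 1] : Matrix (Fin 3) (Fin 2) ℤ).mulVec v = _
  rw [mulVec32]; simp
lemma φ2_apply (v : Fin 2 → ℤ) : φ2 v = ![v 0, v 1, v 1] := by
  show (!![1, 0; 0, 1; 0, 1] : Matrix (Fin 3) (Fin 2) ℤ).mulVec v = _
  rw [mulVec32]; simp
lemma φ3_apply (v : Fin 2 → ℤ) : φ3 v = ![v 0, v 1, 0] := by
  show (!![1, 0; 0, 1; 0, 0] : Matrix (Fin 3) (Fin 2) ℤ).mulVec v = _
  rw [mulVec32]; simp
lemma ψ0_apply (v : Fin 1 → ℤ) : ψ0 v = ![0, v 0] := by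
  show (!![0; 1] : Matrix (Fin 2) (Fin 1) ℤ).mulVec v = _
  rw [mulVec21]; simp
lemma ψ1_apply (v : Fin 1 → ℤ) : ψ1 v = ![v 0, v 0] := by
  show (!![1; 1] : Matrix (Fin 2) (Fin 1) ℤ).mulVec v = _
  rw [mulVec21]; simp
lemma ψ2_apply (v : Fin 1 → ℤ) : ψ2 v = ![v 0, 0] := by
  show (!![1; 0] : Matrix (Fin 2) (Fin 1) ℤ).mulVec v = _
  rw [mulVec21]; simp

lemma cs1 : φ0.comp ψ0 = φ1.comp ψ0 := by
  refine AddMonoidHom.ext (fun v => ?_)
  rw [AddMonoidHom.comp_apply, AddMonoidHom.comp_apply, φ0_apply, φ1_apply, ψ0_apply] <;> rfl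
lemma cs2 : φ0.comp ψ2 = φ3.comp ψ0 := by
  refine AddMonoidHom.ext (fun v => ?_)
  rw [AddMonoidHom.comp_apply, AddMonoidHom.comp_apply, φ0_apply, φ3_apply, ψ0_apply, ψ2_apply]
    <;> rfl
lemma cs3 : φ0.comp ψ1 = φ2.comp ψ0 := by
  refine AddMonoidHom.ext (fun v => ?_)
  rw [AddMonoidHom.comp_apply, AddMonoidHom.comp_apply, φ0_apply, φ2_apply, ψ0_apply, ψ1_apply]
    <;> rfl
lemma cs4 : φ2.comp ψ2 = φ3.comp ψ2 := by
  refine AddMonoidHom.ext (fun v => ?_)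
  rw [AddMonoidHom.comp_apply, AddMonoidHom.comp_apply, φ2_apply, φ3_apply, ψ2_apply] <;> rfl
lemma cs5 : φ2.comp ψ1 = φ1.comp ψ1 := by
  refine AddMonoidHom.ext (fun v => ?_)
  rw [AddMonoidHom.comp_apply, AddMonoidHom.comp_apply, φ2_apply, φ1_apply, ψ1_apply] <;> rfl
lemma cs6 : φ1.comp ψ2 = φ3.comp ψ1 := by
  refine AddMonoidHom.ext (fun v => ?_)
  rw [AddMonoidHom.comp_apply, AddMonoidHom.comp_apply, φ1_apply, φ3_apply, ψ1_apply, ψ2_apply]
    <;> rfl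

/-! ### abstract identities -/

section Alg

variable {B : Type*} [CommRing B]

lemma alg_cs (p q r r' s t w w' : B) (h1 : r' * r = 1) (h2 : w * w' = 1) :
    (p * q * r) * (r' * s * t) = (p * w * t) * (q * s * w') := by
  linear_combination (p * q * s * t) * h1 - (p * q * s * t) * h2

lemma alg_unit3 (a b c a' b' c' : B) (e1 : a * a' = 1) (e2 : b * b' = 1) (e3 : c * c' = 1) :
    (a * b * c) * (a' * b' * c') = 1 := by
  calc (a * b * c) * (a' * b' * c') = (a * a') * (b * b') * (c * c') := by ring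
    _ = 1 := by rw [e1, e2, e3, one_mul, one_mul]

lemma alg_mul4 (a₁ b₁ c₁ d₁ a₂ b₂ c₂ d₂ : B) (e1 : a₁ * b₁ = c₁ * d₁) (e2 : a₂ * b₂ = c₂ * d₂) :
    (a₁ * a₂) * (b₁ * b₂) = (c₁ * c₂) * (d₁ * d₂) := by
  linear_combination (a₂ * b₂) * e1 + (c₁ * d₁) * e2

/-- `F = f' f`: from `e0 f' e2 f' = e1 f' (ξ e0 g e2 g e1 f)` and inverses -/
lemma alg_div (a0 a2 a1 b0 b2 b1 c0 c2 ξ : B) (h0 : b0 * c0 = 1) (h2 : b2 * c2 = 1)
    (e : a0 * a2 = a1 * (ξ * (c0 * c2 * b1))) :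
    (a0 * b0) * (a2 * b2) = (a1 * b1) * ξ := by
  calc (a0 * b0) * (a2 * b2) = (a0 * a2) * (b0 * b2) := by ring
    _ = (a1 * (ξ * (c0 * c2 * b1))) * (b0 * b2) := by rw [e]
    _ = (a1 * b1) * ξ * ((b0 * c0) * (b2 * c2)) := by ring
    _ = (a1 * b1) * ξ := by rw [h0, h2, one_mul, mul_one]

lemma alg_LL (X a0 a2 a1 c0 c2 : B) (h0 : a0 * c0 = 1) (h2 : a2 * c2 = 1)
    (e : a0 * a2 = a1 * X) : X * (c0 * c2 * a1) = 1 := by
  calc X * (c0 * c2 * a1) = (a1 * X) * (c0 * c2) := by ring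
    _ = (a0 * a2) * (c0 * c2) := by rw [e]
    _ = (a0 * c0) * (a2 * c2) := by ring
    _ = 1 := by rw [h0, h2, one_mul]

end Alg

lemma hom_mul_one {R S : Type*} [Semiring R] [Semiring S] (φ : R →+* S) {f g : R}
    (h : f * g = 1) : φ f * φ g = 1 := by
  rw [← map_mul, h, map_one]

/-! ### the cosimplicial ring -/

section Ring

variable (A : Type u) [CommRing A]

noncomputable def D0 : AddMonoidAlgebra A (Fin 2 → ℤ) →+* AddMonoidAlgebra A (Fin 3 → ℤ) :=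
  mapDomainRingHom A φ0
noncomputable def D1 : AddMonoidAlgebra A (Fin 2 → ℤ) →+* AddMonoidAlgebra A (Fin 3 → ℤ) :=
  mapDomainRingHom A φ1
noncomputable def D2 : AddMonoidAlgebra A (Fin 2 → ℤ) →+* AddMonoidAlgebra A (Fin 3 → ℤ) :=
  mapDomainRingHom A φ2
noncomputable def D3 : AddMonoidAlgebra A (Fin 2 → ℤ) →+* AddMonoidAlgebra A (Fin 3 → ℤ) :=
  mapDomainRingHom A φ3
noncomputable def E0 : AddMonoidAlgebra A (Fin 1 → ℤ) →+* AddMonoidAlgebra A (Fin 2 → ℤ) :=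
  mapDomainRingHom A ψ0
noncomputable def E1 : AddMonoidAlgebra A (Fin 1 → ℤ) →+* AddMonoidAlgebra A (Fin 2 → ℤ) :=
  mapDomainRingHom A ψ1
noncomputable def E2 : AddMonoidAlgebra A (Fin 1 → ℤ) →+* AddMonoidAlgebra A (Fin 2 → ℤ) :=
  mapDomainRingHom A ψ2

variable {A}

lemma DE {G H K : Type*} [AddMonoid G] [AddMonoid H] [AddMonoid K] {φ φ' : H →+ K} {ψ ψ' : G →+ H}
    (hcs : φ.comp ψ = φ'.comp ψ') (f : AddMonoidAlgebra A G) :
    mapDomainRingHom A φ (mapDomainRingHom A ψ f) =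
      mapDomainRingHom A φ' (mapDomainRingHom A ψ' f) := by
  rw [← RingHom.comp_apply, ← mapDomainRingHom_comp, hcs, mapDomainRingHom_comp,
    RingHom.comp_apply]

lemma map_D {B : Type*} [CommRing B] (π : A →+* B) {G H : Type*} [AddMonoid G] [AddMonoid H]
    (g : G →+ H) (x : AddMonoidAlgebra A G) :
    mapRingHom H π (mapDomainRingHom A g x) = mapDomainRingHom B g (mapRingHom G π x) := by
  rw [← RingHom.comp_apply, mapRingHom_comp_mapDomainRingHom, RingHom.comp_apply]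

/-- multiplicative 2-cocycles -/
def MCoc (ξ : AddMonoidAlgebra A (Fin 2 → ℤ)) : Prop :=
  (∃ θ, ξ * θ = 1) ∧ D0 A ξ * D2 A ξ = D1 A ξ * D3 A ξ

/-- coboundaries -/
def Triv (ξ : AddMonoidAlgebra A (Fin 2 → ℤ)) : Prop :=
  ∃ f g : AddMonoidAlgebra A (Fin 1 → ℤ), f * g = 1 ∧ E0 A f * E2 A f = E1 A f * ξ

noncomputable def bd (f g : AddMonoidAlgebra A (Fin 1 → ℤ)) : AddMonoidAlgebra A (Fin 2 → ℤ) :=
  E0 A f * E2 A f * E1 A g

lemma MCoc_bd {f g : AddMonoidAlgebra A (Fin 1 → ℤ)} (hfg : f * g = 1) : MCoc (bd f g) := by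
  have hgf : g * f = 1 := by rw [mul_comm]; exact hfg
  refine ⟨⟨bd g f, ?_⟩, ?_⟩
  · rw [bd, bd]
    exact alg_unit3 _ _ _ _ _ _ (hom_mul_one _ hfg) (hom_mul_one _ hfg) (hom_mul_one _ hgf)
  · rw [bd, map_mul, map_mul, map_mul, map_mul, map_mul, map_mul, map_mul, map_mul]
    have c1 : D1 A (E0 A f) = D0 A (E0 A f) := (DE cs1 f).symm
    have c2 : D3 A (E0 A f) = D0 A (E2 A f) := (DE cs2 f).symm
    have c3 : D2 A (E0 A f) = D0 A (E1 A f) := (DE cs3 f).symm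
    have c4 : D3 A (E2 A f) = D2 A (E2 A f) := (DE cs4 f).symm
    have c5 : D1 A (E1 A g) = D2 A (E1 A g) := (DE cs5 g).symm
    have c6 : D3 A (E1 A g) = D1 A (E2 A g) := (DE cs6 g).symm
    rw [c1, c2, c3, c4, c5, c6]
    exact alg_cs _ _ _ _ _ _ _ _ (hom_mul_one ((D0 A).comp (E1 A)) hfg)
      (hom_mul_one ((D1 A).comp (E2 A)) hfg)

lemma MCoc_mul {ξ₁ ξ₂ : AddMonoidAlgebra A (Fin 2 → ℤ)} (H₁ : MCoc ξ₁) (H₂ : MCoc ξ₂) :
    MCoc (ξ₁ * ξ₂) := by
  obtain ⟨⟨θ₁, u₁⟩, c₁⟩ := H₁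
  obtain ⟨⟨θ₂, u₂⟩, c₂⟩ := H₂
  refine ⟨⟨θ₁ * θ₂, ?_⟩, ?_⟩
  · calc ξ₁ * ξ₂ * (θ₁ * θ₂) = (ξ₁ * θ₁) * (ξ₂ * θ₂) := by ring
      _ = 1 := by rw [u₁, u₂, one_mul]
  · rw [map_mul, map_mul, map_mul, map_mul]
    exact alg_mul4 _ _ _ _ _ _ _ _ c₁ c₂

lemma Triv_one : Triv (1 : AddMonoidAlgebra A (Fin 2 → ℤ)) :=
  ⟨1, 1, one_mul 1, by simp only [map_one, mul_one]⟩

lemma Triv_mul {ξ₁ ξ₂ : AddMonoidAlgebra A (Fin 2 → ℤ)} (H₁ : Triv ξ₁) (H₂ : Triv ξ₂) :
    Triv (ξ₁ * ξ₂) := by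
  obtain ⟨f₁, g₁, u₁, e₁⟩ := H₁
  obtain ⟨f₂, g₂, u₂, e₂⟩ := H₂
  refine ⟨f₁ * f₂, g₁ * g₂, ?_, ?_⟩
  · calc f₁ * f₂ * (g₁ * g₂) = (f₁ * g₁) * (f₂ * g₂) := by ring
      _ = 1 := by rw [u₁, u₂, one_mul]
  · rw [map_mul, map_mul, map_mul]
    calc E0 A f₁ * E0 A f₂ * (E2 A f₁ * E2 A f₂)
        = (E0 A f₁ * E2 A f₁) * (E0 A f₂ * E2 A f₂) := by ring
      _ = (E1 A f₁ * ξ₁) * (E1 A f₂ * ξ₂) := by rw [e₁, e₂]
      _ = E1 A f₁ * E1 A f₂ * (ξ₁ * ξ₂) := by ring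

lemma Triv_of_div {f g : AddMonoidAlgebra A (Fin 1 → ℤ)} (hfg : f * g = 1)
    (ξ : AddMonoidAlgebra A (Fin 2 → ℤ)) (H : Triv (ξ * bd g f)) : Triv ξ := by
  obtain ⟨f', g', u', e'⟩ := H
  refine ⟨f' * f, g' * g, ?_, ?_⟩
  · calc f' * f * (g' * g) = (f' * g') * (f * g) := by ring
      _ = 1 := by rw [u', hfg, one_mul]
  · rw [map_mul, map_mul, map_mul]
    rw [bd] at e'
    exact alg_div _ _ _ _ _ _ _ _ _ (hom_mul_one _ hfg) (hom_mul_one _ hfg) e'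

/-! ### coefficients -/

/-- all coefficients lie in the ideal `K` -/
def InK {G : Type*} (K : Ideal A) (f : AddMonoidAlgebra A G) : Prop := ∀ x, f.coeff x ∈ K

lemma mul_eq_zero_of_InK {G : Type*} [AddMonoid G] (K : Ideal A)
    (hK : ∀ x ∈ K, ∀ y ∈ K, x * y = 0) {f g : AddMonoidAlgebra A G} (hf : InK K f)
    (hg : InK K g) : f * g = 0 := by
  conv_lhs => rw [← sum_coeff_single f, ← sum_coeff_single g]
  rw [Finsupp.sum, Finsupp.sum, Finset.sum_mul_sum]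
  refine Finset.sum_eq_zero (fun a _ => Finset.sum_eq_zero (fun b _ => ?_))
  rw [single_mul_single, hK _ (hf a) _ (hg b), single_zero]

lemma InK_mapDomain {G H : Type*} [AddMonoid G] [AddMonoid H] (K : Ideal A) (φ : G →+ H)
    {f : AddMonoidAlgebra A G} (hf : InK K f) : InK K (mapDomainRingHom A φ f) := by
  classical
  intro y
  rw [mapDomainRingHom_apply, coeff_mapDomain, Finsupp.mapDomain, Finsupp.sum,
    Finsupp.finsetSum_apply]
  refine K.sum_mem (fun a _ => ?_)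
  rw [Finsupp.single_apply]
  split_ifs
  · exact hf a
  · exact K.zero_mem

lemma coeff_mapDomain_eq {G H : Type*} [AddMonoid G] [AddMonoid H] (f : G →+ H) (g : H → G)
    (hgf : ∀ a, g (f a) = a) (N : AddMonoidAlgebra A G) (y : H) (P : Prop) [Decidable P]
    (hP : f (g y) = y ↔ P) :
    (mapDomainRingHom A f N).coeff y = if P then N.coeff (g y) else 0 := by
  have hinj : Function.Injective f := Function.LeftInverse.injective hgf
  rw [mapDomainRingHom_apply, coeff_mapDomain]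
  by_cases h : P
  · rw [if_pos h]
    have h' := hP.2 h
    conv_lhs => rw [← h']
    exact Finsupp.mapDomain_apply hinj _ _
  · rw [if_neg h]
    refine Finsupp.mapDomain_of_notMem_range _ _ ?_
    rintro ⟨a, rfl⟩
    exact h (hP.1 (by rw [hgf]))

lemma D0_coeff (N : AddMonoidAlgebra A (Fin 2 → ℤ)) (a b c : ℤ) :
    (D0 A N).coeff ![a, b, c] = if a = 0 then N.coeff ![b, c] else 0 := by
  refine coeff_mapDomain_eq φ0 (fun y => ![y 1, y 2]) ?_ N ![a, b, c] (a = 0) ?_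
  · intro v
    show ![(φ0 v) 1, (φ0 v) 2] = v
    rw [φ0_apply]
    exact eta2 v
  · show φ0 ![b, c] = ![a, b, c] ↔ a = 0
    rw [φ0_apply]
    show (![0, b, c] : Fin 3 → ℤ) = ![a, b, c] ↔ a = 0
    rw [vec3_eq]
    constructor
    · rintro ⟨h, -, -⟩
      exact h.symm
    · intro h
      exact ⟨h.symm, rfl, rfl⟩

lemma D1_coeff (N : AddMonoidAlgebra A (Fin 2 → ℤ)) (a b c : ℤ) :
    (D1 A N).coeff ![a, b, c] = if a = b then N.coeff ![a, c] else 0 := by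
  refine coeff_mapDomain_eq φ1 (fun y => ![y 0, y 2]) ?_ N ![a, b, c] (a = b) ?_
  · intro v
    show ![(φ1 v) 0, (φ1 v) 2] = v
    rw [φ1_apply]
    exact eta2 v
  · show φ1 ![a, c] = ![a, b, c] ↔ a = b
    rw [φ1_apply]
    show (![a, a, c] : Fin 3 → ℤ) = ![a, b, c] ↔ a = b
    rw [vec3_eq]
    constructor
    · rintro ⟨-, h, -⟩
      exact h
    · intro h
      exact ⟨rfl, h, rfl⟩

lemma D2_coeff (N : AddMonoidAlgebra A (Fin 2 → ℤ)) (a b c : ℤ) :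
    (D2 A N).coeff ![a, b, c] = if b = c then N.coeff ![a, b] else 0 := by
  refine coeff_mapDomain_eq φ2 (fun y => ![y 0, y 1]) ?_ N ![a, b, c] (b = c) ?_
  · intro v
    show ![(φ2 v) 0, (φ2 v) 1] = v
    rw [φ2_apply]
    exact eta2 v
  · show φ2 ![a, b] = ![a, b, c] ↔ b = c
    rw [φ2_apply]
    show (![a, b, b] : Fin 3 → ℤ) = ![a, b, c] ↔ b = c
    rw [vec3_eq]
    constructor
    · rintro ⟨-, -, h⟩
      exact h
    · intro h
      exact ⟨rfl, rfl, h⟩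

lemma D3_coeff (N : AddMonoidAlgebra A (Fin 2 → ℤ)) (a b c : ℤ) :
    (D3 A N).coeff ![a, b, c] = if c = 0 then N.coeff ![a, b] else 0 := by
  refine coeff_mapDomain_eq φ3 (fun y => ![y 0, y 1]) ?_ N ![a, b, c] (c = 0) ?_
  · intro v
    show ![(φ3 v) 0, (φ3 v) 1] = v
    rw [φ3_apply]
    exact eta2 v
  · show φ3 ![a, b] = ![a, b, c] ↔ c = 0
    rw [φ3_apply]
    show (![a, b, 0] : Fin 3 → ℤ) = ![a, b, c] ↔ c = 0
    rw [vec3_eq]
    constructor
    · rintro ⟨-, -, h⟩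
      exact h.symm
    · intro h
      exact ⟨rfl, rfl, h.symm⟩

lemma E0_coeff (M : AddMonoidAlgebra A (Fin 1 → ℤ)) (a b : ℤ) :
    (E0 A M).coeff ![a, b] = if a = 0 then M.coeff ![b] else 0 := by
  refine coeff_mapDomain_eq ψ0 (fun y => ![y 1]) ?_ M ![a, b] (a = 0) ?_
  · intro v
    show ![(ψ0 v) 1] = v
    rw [ψ0_apply]
    exact eta1 v
  · show ψ0 ![b] = ![a, b] ↔ a = 0
    rw [ψ0_apply]
    show (![0, b] : Fin 2 → ℤ) = ![a, b] ↔ a = 0
    rw [vec2_eq]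
    constructor
    · rintro ⟨h, -⟩
      exact h.symm
    · intro h
      exact ⟨h.symm, rfl⟩

lemma E1_coeff (M : AddMonoidAlgebra A (Fin 1 → ℤ)) (a b : ℤ) :
    (E1 A M).coeff ![a, b] = if a = b then M.coeff ![a] else 0 := by
  refine coeff_mapDomain_eq ψ1 (fun y => ![y 0]) ?_ M ![a, b] (a = b) ?_
  · intro v
    show ![(ψ1 v) 0] = v
    rw [ψ1_apply]
    exact eta1 v
  · show ψ1 ![a] = ![a, b] ↔ a = b
    rw [ψ1_apply]
    show (![a, a] : Fin 2 → ℤ) = ![a, b] ↔ a = b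
    rw [vec2_eq]
    constructor
    · rintro ⟨-, h⟩
      exact h
    · intro h
      exact ⟨rfl, h⟩

lemma E2_coeff (M : AddMonoidAlgebra A (Fin 1 → ℤ)) (a b : ℤ) :
    (E2 A M).coeff ![a, b] = if b = 0 then M.coeff ![a] else 0 := by
  refine coeff_mapDomain_eq ψ2 (fun y => ![y 0]) ?_ M ![a, b] (b = 0) ?_
  · intro v
    show ![(ψ2 v) 0] = v
    rw [ψ2_apply]
    exact eta1 v
  · show ψ2 ![a] = ![a, b] ↔ b = 0
    rw [ψ2_apply]
    show (![a, 0] : Fin 2 → ℤ) = ![a, b] ↔ b = 0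
    rw [vec2_eq]
    constructor
    · rintro ⟨-, h⟩
      exact h.symm
    · intro h
      exact ⟨rfl, h.symm⟩

/-! ### the square-zero step -/

noncomputable def ι : (Fin 1 → ℤ) → (Fin 2 → ℤ) := fun v => ![v 0, 0]

lemma ι_inj : Function.Injective ι := by
  intro v w h
  have h0 : v 0 = w 0 := congrFun h 0
  rw [← eta1 v, ← eta1 w, h0]

lemma SZ (K : Ideal A) (hK : ∀ x ∈ K, ∀ y ∈ K, x * y = 0)
    (ξ : AddMonoidAlgebra A (Fin 2 → ℤ)) (hξK : InK K (ξ - 1))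
    (hcoc : D0 A ξ * D2 A ξ = D1 A ξ * D3 A ξ) : Triv ξ := by
  obtain ⟨N, hN⟩ : ∃ N, N = ξ - 1 := ⟨_, rfl⟩
  have hξ : ξ = 1 + N := by rw [hN]; ring
  rw [← hN] at hξK
  have hD : ∀ φ : (Fin 2 → ℤ) →+ (Fin 3 → ℤ),
      mapDomainRingHom A φ ξ = 1 + mapDomainRingHom A φ N := by
    intro φ
    rw [hξ, map_add, map_one]
  have hcoc' : (1 + D0 A N) * (1 + D2 A N) = (1 + D1 A N) * (1 + D3 A N) := by
    have h0 : D0 A ξ = 1 + D0 A N := hD φ0
    have h1 : D1 A ξ = 1 + D1 A N := hD φ1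
    have h2 : D2 A ξ = 1 + D2 A N := hD φ2
    have h3 : D3 A ξ = 1 + D3 A N := hD φ3
    rw [← h0, ← h1, ← h2, ← h3]
    exact hcoc
  have h02 : D0 A N * D2 A N = 0 :=
    mul_eq_zero_of_InK K hK (InK_mapDomain K φ0 hξK) (InK_mapDomain K φ2 hξK)
  have h13 : D1 A N * D3 A N = 0 :=
    mul_eq_zero_of_InK K hK (InK_mapDomain K φ1 hξK) (InK_mapDomain K φ3 hξK)
  have hadd : D0 A N + D2 A N = D1 A N + D3 A N := by
    linear_combination hcoc' - h02 + h13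
  -- the primitive
  obtain ⟨M, hM⟩ : ∃ M, M = comapDomain ι ι_inj N := ⟨_, rfl⟩
  have hMc : ∀ a : ℤ, M.coeff ![a] = N.coeff ![a, 0] := by
    intro a
    rw [hM, coeff_comapDomain, Finsupp.comapDomain_apply]
    rfl
  have hMK : InK K M := by
    intro x
    rw [hM, coeff_comapDomain, Finsupp.comapDomain_apply]
    exact hξK _
  have hkey : N + E1 A M = E0 A M + E2 A M := by
    apply AddMonoidAlgebra.ext
    apply Finsupp.ext
    intro x
    obtain ⟨a, b, rfl⟩ : ∃ a b, x = ![a, b] := ⟨x 0, x 1, (eta2 x).symm⟩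
    have h3 := congrArg (fun f : AddMonoidAlgebra A (Fin 3 → ℤ) => f.coeff ![a, b, 0]) hadd
    simp only [coeff_add, Finsupp.add_apply] at h3
    rw [D0_coeff, D1_coeff, D2_coeff, D3_coeff, if_pos rfl] at h3
    rw [coeff_add, coeff_add, Finsupp.add_apply, Finsupp.add_apply, E0_coeff, E1_coeff,
      E2_coeff, hMc, hMc]
    by_cases hb : b = 0
    · subst hb
      simp only [if_true, eq_self_iff_true] at h3 ⊢
      linear_combination -h3
    · rw [if_neg hb] at h3 ⊢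
      linear_combination -h3
  have hMM : M * M = 0 := mul_eq_zero_of_InK K hK hMK hMK
  have h02' : E0 A M * E2 A M = 0 :=
    mul_eq_zero_of_InK K hK (InK_mapDomain K ψ0 hMK) (InK_mapDomain K ψ2 hMK)
  have h1N : E1 A M * N = 0 :=
    mul_eq_zero_of_InK K hK (InK_mapDomain K ψ1 hMK) hξK
  refine ⟨1 + M, 1 - M, ?_, ?_⟩
  · linear_combination (-1 : AddMonoidAlgebra A (Fin 1 → ℤ)) * hMM
  · rw [map_add, map_add, map_add, map_one, map_one, map_one, hξ]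
    linear_combination -hkey + h02' - h1N

/-! ### nilpotents and lifting -/

lemma isNilpotent_of_coeff {G : Type*} [AddCommMonoid G] (ν : AddMonoidAlgebra A G)
    (h : ∀ x, IsNilpotent (ν.coeff x)) : IsNilpotent ν := by
  rw [← sum_coeff_single ν, Finsupp.sum]
  refine isNilpotent_sum (fun a _ => ?_)
  obtain ⟨k, hk⟩ := h a
  exact ⟨k, by rw [single_pow, hk, single_zero]⟩

lemma mapRingHom_surjective {B : Type*} [CommRing B] (π : A →+* B)
    (hπ : Function.Surjective π) (G : Type*) [AddMonoid G] :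
    Function.Surjective (mapRingHom G π) := by
  rw [coe_mapRingHom]
  exact map_surjective _ hπ

lemma InK_of_map_eq_zero (J : Ideal A) {G : Type*} [AddMonoid G] (ν : AddMonoidAlgebra A G)
    (h : mapRingHom G (Ideal.Quotient.mk J) ν = 0) : InK J ν := by
  intro x
  rw [← Ideal.Quotient.eq_zero_iff_mem, ← coeff_mapRingHom, h]
  rfl

lemma LL (J : Ideal A) (hJ : J ≤ nilradical A) (ξ : AddMonoidAlgebra A (Fin 2 → ℤ))
    (hξ : MCoc ξ) (ht : Triv (mapRingHom (Fin 2 → ℤ) (Ideal.Quotient.mk J) ξ)) :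
    ∃ ξ' : AddMonoidAlgebra A (Fin 2 → ℤ), MCoc ξ' ∧ InK J (ξ' - 1) ∧ (Triv ξ' → Triv ξ) := by
  obtain ⟨fb, gb, hfgb, hb⟩ := ht
  obtain ⟨f, rfl⟩ := mapRingHom_surjective (Ideal.Quotient.mk J) Ideal.Quotient.mk_surjective
    (Fin 1 → ℤ) fb
  obtain ⟨g0, rfl⟩ := mapRingHom_surjective (Ideal.Quotient.mk J) Ideal.Quotient.mk_surjective
    (Fin 1 → ℤ) gb
  have hnil : IsNilpotent (f * g0 - 1) := by
    apply isNilpotent_of_coeff
    intro x
    have hJx : InK J (f * g0 - 1) := by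
      apply InK_of_map_eq_zero
      rw [map_sub, map_mul, map_one, hfgb, sub_self]
    exact mem_nilradical.1 (hJ (hJx x))
  have hunit : IsUnit (f * g0) := by
    have h1 := hnil.isUnit_add_one
    rwa [sub_add_cancel] at h1
  obtain ⟨w, hw⟩ := hunit.exists_right_inv
  have hfg : f * (g0 * w) = 1 := by rw [← mul_assoc]; exact hw
  have hgf : g0 * w * f = 1 := by rw [mul_comm]; exact hfg
  refine ⟨ξ * bd (g0 * w) f, MCoc_mul hξ (MCoc_bd hgf), ?_, Triv_of_div hfg ξ⟩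
  apply InK_of_map_eq_zero
  rw [map_sub, map_one, sub_eq_zero, map_mul, bd, map_mul, map_mul]
  have e0 : mapRingHom (Fin 2 → ℤ) (Ideal.Quotient.mk J) (E0 A (g0 * w)) =
      E0 (A ⧸ J) (mapRingHom (Fin 1 → ℤ) (Ideal.Quotient.mk J) (g0 * w)) := map_D _ ψ0 _
  have e2 : mapRingHom (Fin 2 → ℤ) (Ideal.Quotient.mk J) (E2 A (g0 * w)) =
      E2 (A ⧸ J) (mapRingHom (Fin 1 → ℤ) (Ideal.Quotient.mk J) (g0 * w)) := map_D _ ψ2 _
  have e1 : mapRingHom (Fin 2 → ℤ) (Ideal.Quotient.mk J) (E1 A f) =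
      E1 (A ⧸ J) (mapRingHom (Fin 1 → ℤ) (Ideal.Quotient.mk J) f) := map_D _ ψ1 _
  rw [e0, e2, e1]
  have hfgb' : mapRingHom (Fin 1 → ℤ) (Ideal.Quotient.mk J) f *
      mapRingHom (Fin 1 → ℤ) (Ideal.Quotient.mk J) (g0 * w) = 1 := by
    rw [← map_mul, hfg, map_one]
  exact alg_LL _ _ _ _ _ _ (hom_mul_one (E0 (A ⧸ J)) hfgb') (hom_mul_one (E2 (A ⧸ J)) hfgb') hb

lemma MCoc_map {B : Type*} [CommRing B] (π : A →+* B) {ξ : AddMonoidAlgebra A (Fin 2 → ℤ)}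
    (H : MCoc ξ) : MCoc (mapRingHom (Fin 2 → ℤ) π ξ) := by
  obtain ⟨⟨θ, u⟩, c⟩ := H
  refine ⟨⟨mapRingHom (Fin 2 → ℤ) π θ, hom_mul_one _ u⟩, ?_⟩
  have h := congrArg (mapRingHom (Fin 3 → ℤ) π) c
  rw [map_mul, map_mul] at h
  have e0 : mapRingHom (Fin 3 → ℤ) π (D0 A ξ) = D0 B (mapRingHom (Fin 2 → ℤ) π ξ) :=
    map_D _ φ0 _
  have e1 : mapRingHom (Fin 3 → ℤ) π (D1 A ξ) = D1 B (mapRingHom (Fin 2 → ℤ) π ξ) :=
    map_D _ φ1 _
  have e2 : mapRingHom (Fin 3 → ℤ) π (D2 A ξ) = D2 B (mapRingHom (Fin 2 → ℤ) π ξ) :=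
    map_D _ φ2 _
  have e3 : mapRingHom (Fin 3 → ℤ) π (D3 A ξ) = D3 B (mapRingHom (Fin 2 → ℤ) π ξ) :=
    map_D _ φ3 _
  rw [e0, e1, e2, e3] at h
  exact h

/-! ### induction along a nilpotent ideal -/

def Pj (J : Ideal A) : Prop :=
  ∀ ξ : AddMonoidAlgebra A (Fin 2 → ℤ), MCoc ξ → InK J (ξ - 1) → Triv ξ

lemma Pj_bot : Pj (⊥ : Ideal A) := by
  intro ξ _ h
  have h1 : ξ - 1 = 0 := by
    apply AddMonoidAlgebra.ext
    apply Finsupp.ext
    intro x
    exact Ideal.mem_bot.1 (h x)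
  rw [sub_eq_zero.1 h1]
  exact Triv_one

lemma step (J' K : Ideal A) (hK : K ≤ nilradical A) (hJK : J' ≤ K)
    (hKK : ∀ x ∈ K, ∀ y ∈ K, x * y ∈ J') (hP : Pj J') : Pj K := by
  intro ξ hξ hξK
  have hb : Triv (mapRingHom (Fin 2 → ℤ) (Ideal.Quotient.mk J') ξ) := by
    refine SZ (K.map (Ideal.Quotient.mk J')) ?_ _ ?_ (MCoc_map _ hξ).2
    · intro x hx y hy
      obtain ⟨x', hx', rfl⟩ :=
        (Ideal.mem_map_iff_of_surjective _ Ideal.Quotient.mk_surjective).1 hx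
      obtain ⟨y', hy', rfl⟩ :=
        (Ideal.mem_map_iff_of_surjective _ Ideal.Quotient.mk_surjective).1 hy
      rw [← map_mul]
      exact Ideal.Quotient.eq_zero_iff_mem.2 (hKK x' hx' y' hy')
    · intro x
      have e : mapRingHom (Fin 2 → ℤ) (Ideal.Quotient.mk J') ξ - 1 =
          mapRingHom (Fin 2 → ℤ) (Ideal.Quotient.mk J') (ξ - 1) := by
        rw [map_sub, map_one]
      rw [e, coeff_mapRingHom]
      exact Ideal.mem_map_of_mem _ (hξK x)
  obtain ⟨ξ', hξ', h1', himp⟩ := LL J' (hJK.trans hK) ξ hξ hb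
  exact himp (hP ξ' hξ' h1')

lemma Pj_of_nilpotent (I : Ideal A) (hnil : I ≤ nilradical A) (m : ℕ) (hm : I ^ m = ⊥) :
    Pj I := by
  have hstep : ∀ j, 1 ≤ j → Pj (I ^ (j + 1)) → Pj (I ^ j) := by
    intro j hj hP
    refine step (I ^ (j + 1)) (I ^ j) ((Ideal.pow_le_self (by omega)).trans hnil)
      (Ideal.pow_le_pow_right (Nat.le_succ j)) ?_ hP
    intro x hx y hy
    have h3 := Ideal.mul_mem_mul hx hy
    rw [← pow_add] at h3
    exact Ideal.pow_le_pow_right (by omega) h3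
  have hmain : ∀ d n, n + d = m + 1 → 1 ≤ n → Pj (I ^ n) := by
    intro d
    induction d with
    | zero =>
      intro n hn _
      have h0 : I ^ n = ⊥ := by
        rw [Nat.add_zero] at hn
        rw [hn, pow_succ, hm, Ideal.bot_mul]
      rw [h0]
      exact Pj_bot
    | succ d ih =>
      intro n hn h1
      exact hstep n h1 (ih (n + 1) (by omega) (by omega))
  have h := hmain m 1 (by omega) le_rfl
  rwa [pow_one] at h

end Ring

/-! ### units over a domain are monomials -/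

lemma unit_single {D : Type*} [CommRing D] [IsDomain D] {G : Type*} [AddCommGroup G]
    [TwoUniqueSums G] (u v : AddMonoidAlgebra D G) (huv : u * v = 1) :
    ∃ m a, u = single m a := by
  classical
  have hu0 : u ≠ 0 := by
    rintro rfl
    rw [zero_mul] at huv
    exact zero_ne_one huv
  have hv0 : v ≠ 0 := by
    rintro rfl
    rw [mul_zero] at huv
    exact zero_ne_one huv
  have hS : u.coeff.support.Nonempty :=
    Finsupp.support_nonempty_iff.2 (fun h => hu0 (coeff_eq_zero.1 h))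
  have hT : v.coeff.support.Nonempty :=
    Finsupp.support_nonempty_iff.2 (fun h => hv0 (coeff_eq_zero.1 h))
  have hcard : ¬ 1 < u.coeff.support.card * v.coeff.support.card := by
    intro h
    obtain ⟨p1, hp1, p2, hp2, hne, hu1, hu2⟩ := TwoUniqueSums.uniqueAdd_of_one_lt_card h
    have key : ∀ p ∈ u.coeff.support ×ˢ v.coeff.support,
        UniqueAdd u.coeff.support v.coeff.support p.1 p.2 → p.1 + p.2 = 0 := by
      intro p hp hup
      have h1 := coeff_mul_add_of_uniqueAdd hup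
      rw [huv, one_def, coeff_single, Finsupp.single_apply] at h1
      by_contra hne0
      rw [if_neg (fun h => hne0 h.symm)] at h1
      obtain ⟨ha, hb⟩ := Finset.mem_product.1 hp
      exact mul_ne_zero (Finsupp.mem_support_iff.1 ha) (Finsupp.mem_support_iff.1 hb) h1.symm
    have e1 := key p1 hp1 hu1
    have e2 := key p2 hp2 hu2
    obtain ⟨ha2, hb2⟩ := Finset.mem_product.1 hp2
    have h3 := hu1 ha2 hb2 (e2.trans e1.symm)
    exact hne (Prod.ext h3.1.symm h3.2.symm)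
  have hS1 : u.coeff.support.card = 1 := by
    have h1 := Finset.card_pos.2 hS
    have h2 := Finset.card_pos.2 hT
    by_contra hne1
    apply hcard
    have h3 : 2 ≤ u.coeff.support.card := by omega
    calc 1 < 2 * 1 := by norm_num
      _ ≤ u.coeff.support.card * v.coeff.support.card := Nat.mul_le_mul h3 h2
  obtain ⟨m, hm⟩ := Finset.card_eq_one.1 hS1
  refine ⟨m, u.coeff m, ?_⟩
  apply AddMonoidAlgebra.ext
  rw [coeff_single, Finsupp.eq_single_iff]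
  exact ⟨Finset.subset_of_eq hm, rfl⟩

/-! ### the reduced part -/

section Red

variable {A : Type u} [CommRing A]

lemma coeff_mod_prime (ξ θ : AddMonoidAlgebra A (Fin 2 → ℤ)) (hu : ξ * θ = 1)
    (hcoc : D0 A ξ * D2 A ξ = D1 A ξ * D3 A ξ) (P : Ideal A) [P.IsPrime] :
    (∀ x, x ≠ 0 → ξ.coeff x ∈ P) ∧ ξ.coeff 0 ∉ P := by
  classical
  have hMC : MCoc (mapRingHom (Fin 2 → ℤ) (Ideal.Quotient.mk P) ξ) :=
    MCoc_map _ ⟨⟨θ, hu⟩, hcoc⟩
  obtain ⟨⟨θb, hub⟩, hcb⟩ := hMC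
  obtain ⟨m, a, hma⟩ := unit_single _ _ hub
  have ha : a ≠ 0 := by
    rintro rfl
    rw [hma, single_zero, zero_mul] at hub
    exact zero_ne_one hub
  rw [hma] at hcb
  have hcb' : single (φ0 m + φ2 m) (a * a) = (single (φ1 m + φ3 m) (a * a) :
      AddMonoidAlgebra (A ⧸ P) (Fin 3 → ℤ)) := by
    have h0 : D0 (A ⧸ P) (single m a) = single (φ0 m) a := by
      rw [D0, mapDomainRingHom_apply, mapDomain_single]
    have h1 : D1 (A ⧸ P) (single m a) = single (φ1 m) a := by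
      rw [D1, mapDomainRingHom_apply, mapDomain_single]
    have h2 : D2 (A ⧸ P) (single m a) = single (φ2 m) a := by
      rw [D2, mapDomainRingHom_apply, mapDomain_single]
    have h3 : D3 (A ⧸ P) (single m a) = single (φ3 m) a := by
      rw [D3, mapDomainRingHom_apply, mapDomain_single]
    rw [h0, h1, h2, h3, single_mul_single, single_mul_single] at hcb
    exact hcb
  have hvec := (single_left_inj (mul_ne_zero ha ha)).1 hcb'
  have h0 := congrFun hvec 0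
  have h2 := congrFun hvec 2
  rw [Pi.add_apply, Pi.add_apply, φ0_apply, φ1_apply, φ2_apply, φ3_apply] at h0 h2
  have hm0 : m 0 = 0 := by
    have h0' : (0 : ℤ) + m 0 = m 0 + m 0 := h0
    omega
  have hm1 : m 1 = 0 := by
    have h2' : m 1 + m 1 = m 1 + (0 : ℤ) := h2
    omega
  have hm : m = 0 := by
    rw [← eta2 m, hm0, hm1]
    ext i
    fin_cases i <;> rfl
  rw [hm] at hma
  constructor
  · intro x hx
    rw [← Ideal.Quotient.eq_zero_iff_mem, ← coeff_mapRingHom, hma, coeff_single,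
      Finsupp.single_apply, if_neg (fun h => hx h.symm)]
  · intro hmem
    apply ha
    have h5 : (mapRingHom (Fin 2 → ℤ) (Ideal.Quotient.mk P) ξ).coeff 0 = a := by
      rw [hma, coeff_single, Finsupp.single_apply, if_pos rfl]
    rw [← h5, coeff_mapRingHom]
    exact Ideal.Quotient.eq_zero_iff_mem.2 hmem

lemma coeff_nilpotent (ξ θ : AddMonoidAlgebra A (Fin 2 → ℤ)) (hu : ξ * θ = 1)
    (hcoc : D0 A ξ * D2 A ξ = D1 A ξ * D3 A ξ) :
    (∀ x, x ≠ 0 → ξ.coeff x ∈ nilradical A) ∧ IsUnit (ξ.coeff 0) := by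
  constructor
  · intro x hx
    rw [nilradical_eq_sInf, Ideal.mem_sInf]
    intro P hP
    have : P.IsPrime := hP
    exact (coeff_mod_prime ξ θ hu hcoc P).1 x hx
  · by_contra hnu
    have hne : Ideal.span {ξ.coeff 0} ≠ ⊤ := fun h => hnu (Ideal.span_singleton_eq_top.1 h)
    obtain ⟨M, hM, hle⟩ := Ideal.exists_le_maximal _ hne
    have : M.IsPrime := hM.isPrime
    exact (coeff_mod_prime ξ θ hu hcoc M).2 (hle (Ideal.mem_span_singleton_self _))

end Red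


/-! ### assembling -/

lemma grp_rearr {G : Type*} [CommGroup G] (a b c d : G) (h : a * b⁻¹ * c * d⁻¹ = 1) :
    a * c = b * d := by
  have h1 : a * b⁻¹ * c = d := mul_inv_eq_one.1 h
  rw [← h1, mul_comm a b⁻¹, mul_assoc, mul_inv_cancel_left]

section Main

variable {A : Type u} [CommRing A]

lemma map_single0 {G H : Type*} [AddMonoid G] [AddMonoid H] (φ : G →+ H) (c : A) :
    mapDomainRingHom A φ (single 0 c) = single 0 c := by
  rw [mapDomainRingHom_apply, mapDomain_single, map_zero]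

lemma main_ring (X Θ : AddMonoidAlgebra A (Fin 2 → ℤ)) (hu : X * Θ = 1)
    (hcoc : D0 A X * D2 A X = D1 A X * D3 A X) : Triv X := by
  classical
  obtain ⟨hnil, hunit⟩ := coeff_nilpotent X Θ hu hcoc
  obtain ⟨c, hcdef⟩ : ∃ c, c = X.coeff 0 := ⟨_, rfl⟩
  rw [← hcdef] at hunit
  obtain ⟨c', hc⟩ := hunit.exists_right_inv
  have hc' : c' * c = 1 := by rw [mul_comm]; exact hc
  obtain ⟨X', hX'⟩ : ∃ X', X' = single 0 c' * X := ⟨_, rfl⟩
  have hss : (single 0 c : AddMonoidAlgebra A (Fin 2 → ℤ)) * single 0 c' = 1 := by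
    rw [single_mul_single, add_zero, hc, one_def]
  have hss' : (single 0 c' : AddMonoidAlgebra A (Fin 2 → ℤ)) * single 0 c = 1 := by
    rw [mul_comm]; exact hss
  have hMCs : MCoc (single 0 c' : AddMonoidAlgebra A (Fin 2 → ℤ)) := by
    refine ⟨⟨single 0 c, hss'⟩, ?_⟩
    rw [D0, D1, D2, D3, map_single0, map_single0, map_single0, map_single0]
  have hMC : MCoc X' := by
    rw [hX']
    exact MCoc_mul hMCs ⟨⟨Θ, hu⟩, hcoc⟩
  have hcoef : ∀ x, X'.coeff x = c' * X.coeff x := by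
    intro x
    rw [hX', coeff_single_zero_mul]
  obtain ⟨N, hN⟩ : ∃ N, N = X' - 1 := ⟨_, rfl⟩
  have hX1 : ∀ x, N.coeff x ∈ nilradical A := by
    intro x
    rw [hN, coeff_sub, Finsupp.sub_apply, hcoef, one_def, coeff_single, Finsupp.single_apply]
    by_cases hx : x = 0
    · subst hx
      rw [if_pos rfl, ← hcdef, hc', sub_self]
      exact (nilradical A).zero_mem
    · rw [if_neg (fun h => hx h.symm), sub_zero]
      exact (nilradical A).mul_mem_left _ (hnil x hx)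
  obtain ⟨I, hI⟩ : ∃ I : Ideal A, I = Ideal.span
      (↑(N.coeff.support.image (fun x => N.coeff x)) : Set A) := ⟨_, rfl⟩
  have hIfg : I.FG := by rw [hI]; exact ⟨_, rfl⟩
  have hInK : InK I N := by
    intro x
    by_cases hx : N.coeff x = 0
    · rw [hx]; exact I.zero_mem
    · rw [hI]
      apply Ideal.subset_span
      rw [Finset.coe_image]
      exact ⟨x, Finset.mem_coe.2 (Finsupp.mem_support_iff.2 hx), rfl⟩
  have hIle : I ≤ nilradical A := by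
    rw [hI, Ideal.span_le]
    intro y hy
    rw [Finset.coe_image] at hy
    obtain ⟨x, _, rfl⟩ := hy
    exact hX1 x
  obtain ⟨m, hm⟩ := (Ideal.FG.isNilpotent_iff_le_nilradical hIfg).2 hIle
  have hP := Pj_of_nilpotent I hIle m (hm.trans Ideal.zero_eq_bot)
  have hT' : Triv X' := hP X' hMC (by rw [← hN]; exact hInK)
  have hTs : Triv (single 0 c : AddMonoidAlgebra A (Fin 2 → ℤ)) := by
    refine ⟨single 0 c, single 0 c', ?_, ?_⟩
    · rw [single_mul_single, add_zero, hc, one_def]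
    · rw [E0, E1, E2, map_single0, map_single0, map_single0]
  have hX : X = single 0 c * X' := by
    rw [hX', ← mul_assoc, hss, one_mul]
  rw [hX]
  exact Triv_mul hTs hT'

end Main

/-- For any commutative ring A, the second cohomology of the complex of unit groups A[t₁^±]ˣ → A[t₁^±,
t₂^±]ˣ → A[t₁^±, t₂^±, t₃^±]ˣ → ⋯ attached to the cosimplicial ring of Laurent polynomial rings
(coface maps (t₁, t₂) ↦ (t₂, t₃), (t₁t₂, t₃), (t₁, t₂t₃), (t₁, t₂) and t₁ ↦ t₂, t₁t₂, t₁) vanishes: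
every unit ξ of A[t₁^±, t₂^±] with ξ(t₂,t₃) ξ(t₁t₂,t₃)⁻¹ ξ(t₁,t₂t₃) ξ(t₁,t₂)⁻¹ = 1 is of the form
η(t₂) η(t₁t₂)⁻¹ η(t₁) for a unit η of A[t^±]. Laurent polynomial rings are written as group algebras
of ℤ^p and the coface maps as the maps induced by the corresponding additive maps ℤ^p → ℤ^(p+1). -/
theorem result (A : Type u) [CommRing A] (ξ : (AddMonoidAlgebra A (Fin 2 → ℤ))ˣ)
    (hξ : Units.map (AddMonoidAlgebra.mapDomainRingHom A
          (Matrix.mulVecLin (!![0, 0; 1, 0; 0, 1] : Matrix (Fin 3) (Fin 2) ℤ)).toAddMonoidHom).toMonoidHom ξ *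
        (Units.map (AddMonoidAlgebra.mapDomainRingHom A
          (Matrix.mulVecLin (!![1, 0; 1, 0; 0, 1] : Matrix (Fin 3) (Fin 2) ℤ)).toAddMonoidHom).toMonoidHom ξ)⁻¹ *
        Units.map (AddMonoidAlgebra.mapDomainRingHom A
          (Matrix.mulVecLin (!![1, 0; 0, 1; 0, 1] : Matrix (Fin 3) (Fin 2) ℤ)).toAddMonoidHom).toMonoidHom ξ *
        (Units.map (AddMonoidAlgebra.mapDomainRingHom A
          (Matrix.mulVecLin (!![1, 0; 0, 1; 0, 0] : Matrix (Fin 3) (Fin 2) ℤ)).toAddMonoidHom).toMonoidHom ξ)⁻¹ = 1) :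
    ∃ η : (AddMonoidAlgebra A (Fin 1 → ℤ))ˣ,
      ξ = Units.map (AddMonoidAlgebra.mapDomainRingHom A
          (Matrix.mulVecLin (!![0; 1] : Matrix (Fin 2) (Fin 1) ℤ)).toAddMonoidHom).toMonoidHom η *
        (Units.map (AddMonoidAlgebra.mapDomainRingHom A
          (Matrix.mulVecLin (!![1; 1] : Matrix (Fin 2) (Fin 1) ℤ)).toAddMonoidHom).toMonoidHom η)⁻¹ *
        Units.map (AddMonoidAlgebra.mapDomainRingHom A
          (Matrix.mulVecLin (!![1; 0] : Matrix (Fin 2) (Fin 1) ℤ)).toAddMonoidHom).toMonoidHom η := by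
  have hu : (ξ : AddMonoidAlgebra A (Fin 2 → ℤ)) *
      ((ξ⁻¹ : (AddMonoidAlgebra A (Fin 2 → ℤ))ˣ) : AddMonoidAlgebra A (Fin 2 → ℤ)) = 1 :=
    Units.mul_inv ξ
  have hcoc : D0 A (ξ : AddMonoidAlgebra A (Fin 2 → ℤ)) *
      D2 A (ξ : AddMonoidAlgebra A (Fin 2 → ℤ)) =
      D1 A (ξ : AddMonoidAlgebra A (Fin 2 → ℤ)) * D3 A (ξ : AddMonoidAlgebra A (Fin 2 → ℤ)) := by
    have h2 : Units.map (D0 A).toMonoidHom ξ * (Units.map (D1 A).toMonoidHom ξ)⁻¹ *
        Units.map (D2 A).toMonoidHom ξ * (Units.map (D3 A).toMonoidHom ξ)⁻¹ = 1 := hξ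
    have h1 := grp_rearr _ _ _ _ h2
    have h3 := congrArg Units.val h1
    rw [Units.val_mul, Units.val_mul, Units.coe_map, Units.coe_map, Units.coe_map,
      Units.coe_map] at h3
    exact h3
  obtain ⟨f, g, hfg, e⟩ := main_ring _ _ hu hcoc
  have hgf : g * f = 1 := by rw [mul_comm]; exact hfg
  obtain ⟨η, hη⟩ : ∃ η : (AddMonoidAlgebra A (Fin 1 → ℤ))ˣ,
      (η : AddMonoidAlgebra A (Fin 1 → ℤ)) = f := ⟨⟨f, g, hfg, hgf⟩, rfl⟩
  refine ⟨η, ?_⟩
  have key : ξ * Units.map (E1 A).toMonoidHom η =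
      Units.map (E0 A).toMonoidHom η * Units.map (E2 A).toMonoidHom η := by
    apply Units.ext
    rw [Units.val_mul, Units.val_mul, Units.coe_map, Units.coe_map, Units.coe_map, hη]
    show (ξ : AddMonoidAlgebra A (Fin 2 → ℤ)) * E1 A f = E0 A f * E2 A f
    exact (mul_comm _ _).trans e.symm
  show ξ = Units.map (E0 A).toMonoidHom η * (Units.map (E1 A).toMonoidHom η)⁻¹ *
    Units.map (E2 A).toMonoidHom η
  calc ξ = ξ * Units.map (E1 A).toMonoidHom η * (Units.map (E1 A).toMonoidHom η)⁻¹ :=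
        (mul_inv_cancel_right _ _).symm
    _ = Units.map (E0 A).toMonoidHom η * Units.map (E2 A).toMonoidHom η *
        (Units.map (E1 A).toMonoidHom η)⁻¹ := by rw [key]
    _ = Units.map (E0 A).toMonoidHom η * (Units.map (E1 A).toMonoidHom η)⁻¹ *
        Units.map (E2 A).toMonoidHom η := mul_right_comm _ _ _

end Groth.Agent.S13793
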