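import Groth.Statements.S13794
import Mathlib.Tactic
import Mathlib.Algebra.Polynomial.Coeff
import Mathlib.Algebra.Polynomial.Eval.Defs
-- import your own Groth.Agent.* helpers here

set_option autoImplicit false
universe u
open Polynomial
open Curves

namespace Groth.Agent.S13794

theorem coeffs_eq {k : Type u} [Field k] (c3 c2 c1 c0 e3 e2 e1 e0 : k)
    (h : (C c3 * X ^ 3 + C c2 * X ^ 2 + C c1 * X + C c0 : k[X]) =
      C e3 * X ^ 3 + C e2 * X ^ 2 + C e1 * X + C e0) :
    c3 = e3 ∧ c2 = e2 ∧ c1 = e1 ∧ c0 = e0 := by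
  have h3 := congrArg (fun p => Polynomial.coeff p 3) h
  have h2 := congrArg (fun p => Polynomial.coeff p 2) h
  have h1 := congrArg (fun p => Polynomial.coeff p 1) h
  have h0 := congrArg (fun p => Polynomial.coeff p 0) h
  simp [Polynomial.coeff_X, Polynomial.coeff_C, Polynomial.coeff_X_pow] at h3 h2 h1 h0
  exact ⟨h3, h2, h1, h0⟩

/-- Let k be a field of characteristic not 3 and β ∈ k. If a line ax + by + c = 0 with a³ ≠ b³ is the
tangent line at a flex point of the affine cubic x³ + y³ + β = 3xy, then β is a cube in k. Here the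
line is normalised to b ≠ 0 (the roles of x and y are symmetric) and the flex-tangency is expressed
by the restriction of the cubic to the line being λ (x − x₀)³. -/
theorem result {k : Type u} [Field k] (h3 : (3 : k) ≠ 0)
    (β a b c : k) (hb : b ≠ 0) (hab : a ^ 3 ≠ b ^ 3) (lam x₀ : k)
    (hflex : (X : k[X]) ^ 3 + (C (-a / b) * X + C (-c / b)) ^ 3 + C β - 3 * X * (C (-a / b) * X + C (-c / b)) =
      C lam * (X - C x₀) ^ 3) :
    ∃ γ : k, β = γ ^ 3 := by
  set m : k := -a / b with hm
  set d : k := -c / b with hd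
  have hL : (X : k[X]) ^ 3 + (C m * X + C d) ^ 3 + C β - 3 * X * (C m * X + C d) =
      C (1 + m ^ 3) * X ^ 3 + C (3 * m ^ 2 * d - 3 * m) * X ^ 2 + C (3 * m * d ^ 2 - 3 * d) * X
        + C (d ^ 3 + β) := by
    simp only [map_add, map_sub, map_mul, map_pow, map_one, map_ofNat]
    ring
  have hR : C lam * (X - C x₀) ^ 3 =
      C lam * X ^ 3 + C (-3 * lam * x₀) * X ^ 2 + C (3 * lam * x₀ ^ 2) * X + C (-lam * x₀ ^ 3) := by
    simp only [map_add, map_sub, map_mul, map_pow, map_one, map_ofNat, map_neg]
    ring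
  rw [hL, hR] at hflex
  obtain ⟨e3, e2, e1, e0⟩ := coeffs_eq _ _ _ _ _ _ _ _ hflex
  -- m^3 ≠ -1
  have hm3 : 1 + m ^ 3 ≠ 0 := by
    intro h
    apply hab
    have : m * b = -a := by rw [hm]; field_simp
    have h' : (m * b) ^ 3 = - b ^ 3 := by
      have : m ^ 3 = -1 := by linear_combination h
      rw [mul_pow, this]; ring
    rw [this] at h'
    linear_combination -h'
  have hlam : lam ≠ 0 := by rw [← e3]; exact hm3
  have E2 : m * (m * d - 1) = -lam * x₀ := by
    apply mul_left_cancel₀ h3
    linear_combination e2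
  have E1 : d * (m * d - 1) = lam * x₀ ^ 2 := by
    apply mul_left_cancel₀ h3
    linear_combination e1
  by_cases he : m * d - 1 = 0
  · have hx : x₀ = 0 := by
      have : lam * x₀ = 0 := by rw [he] at E2; linear_combination E2
      rcases mul_eq_zero.1 this with h | h
      · exact absurd h hlam
      · exact h
    refine ⟨-d, ?_⟩
    rw [hx] at e0
    linear_combination e0
  · have hd' : d = -m * x₀ := by
      apply mul_right_cancel₀ he
      linear_combination E1 + x₀ * E2
    have hx : x₀ = m := by
      have : (m * d - 1) = -m^2 * x₀ - 1 := by rw [hd']; ring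
      rw [this] at E2
      linear_combination E2 + x₀ * e3
    refine ⟨-m, ?_⟩
    rw [hx] at hd'
    rw [hx, hd', ← e3] at e0
    linear_combination e0

end Groth.Agent.S13794
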