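import Groth.Statements.S13796
import Groth.Agent.Lib.Lead.TensorPowerEnd
import Groth.Agent.Lib.Lead.LocalSplit

set_option autoImplicit false
universe u
open scoped TensorProduct
open Brauer

namespace Groth.Agent.S13796

/-- In the case of an affine scheme — let R be a commutative ring and A an Azumaya R-algebra of constant
rank n². Then there exist a finitely generated projective R-module E of constant rank n^n and an
R-algebra isomorphism from the n-fold tensor power A ⊗ ⋯ ⊗ A to End_R(E) (existence of an
isomorphism only), so the Brauer class of A is n-torsion. For n = 0 the hypotheses force R = 0,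
where the statement holds trivially. (The published statement is for Azumaya algebras of constant
rank n² on any locally ringed site; this row is the case of the étale site of Spec R, written in
terms of modules: an Azumaya algebra here is one in the usual, étale-local sense.) -/
theorem result (R : Type u) [CommRing R] (A : Type u) [Ring A] [Algebra R A]
    [IsAzumaya R A] (n : ℕ) (hrk : ∀ p : PrimeSpectrum R, Module.rankAtStalk (R := R) A p = n ^ 2) :
    ∃ (E : Type u) (_ : AddCommGroup E) (_ : Module R E), Module.Finite R E ∧ Module.Projective R E ∧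
      (∀ p : PrimeSpectrum R, Module.rankAtStalk (R := R) E p = n ^ n) ∧
      Nonempty ((⨂[R] _ : Fin n, A) ≃ₐ[R] Module.End R E) := by
  classical
  rcases isEmpty_or_nonempty (PrimeSpectrum R) with hemp | ⟨⟨p₀⟩⟩
  · haveI : Subsingleton R := by
      by_contra h
      rw [not_subsingleton_iff_nontrivial] at h
      obtain ⟨m, hm⟩ := Ideal.exists_maximal R
      exact hemp.false ⟨m, hm.isPrime⟩
    haveI : Subsingleton (⨂[R] _ : Fin n, A) := Module.subsingleton R _
    haveI : Subsingleton (Module.End R PUnit.{u+1}) :=
      ⟨fun f g => LinearMap.ext fun x => Subsingleton.elim _ _⟩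
    refine ⟨PUnit.{u+1}, inferInstance, inferInstance, inferInstance, inferInstance,
      fun p => (hemp.false p).elim, ⟨?_⟩⟩
    exact
      { toFun := fun _ => 0
        invFun := fun _ => 0
        left_inv := fun _ => Subsingleton.elim _ _
        right_inv := fun _ => Subsingleton.elim _ _
        map_mul' := fun _ _ => Subsingleton.elim _ _
        map_add' := fun _ _ => Subsingleton.elim _ _
        commutes' := fun _ => Subsingleton.elim _ _ }
  · have hloc : ∀ p : PrimeSpectrum R, ∃ P : Polynomial (Localization.AtPrime p.asIdeal),
        P.Monic ∧ 1 ≤ P.natDegree ∧ 0 < n ∧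
          ∃ _ : A →ₐ[R] Matrix (Fin n) (Fin n) (AdjoinRoot P), True := by
      intro p
      haveI : IsAzumaya (Localization.AtPrime p.asIdeal) (Localization.AtPrime p.asIdeal ⊗[R] A) :=
        Groth.Agent.S19588.result R (Localization.AtPrime p.asIdeal) A
      have hfr : Module.finrank (Localization.AtPrime p.asIdeal)
          (Localization.AtPrime p.asIdeal ⊗[R] A) = n ^ 2 := by
        rw [← Module.rankAtStalk_eq_finrank_tensorProduct, hrk p]
      obtain ⟨P, h1, h2, -, h4, ⟨σ⟩⟩ := Groth.Agent.Lib.Lead.LocalSplit.exists_split
        (Localization.AtPrime p.asIdeal) (Localization.AtPrime p.asIdeal ⊗[R] A) n hfr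
      exact ⟨P, h1, by rw [h2]; exact h4, h4,
        (σ.restrictScalars R).comp Algebra.TensorProduct.includeRight, trivial⟩
    choose P hPm hPd hn ρ _ using hloc
    haveI : ∀ p, Module.Free (Localization.AtPrime p.asIdeal) (AdjoinRoot (P p)) := fun p =>
      Module.Free.of_basis (AdjoinRoot.powerBasis' (hPm p)).basis
    haveI : ∀ p, Nontrivial (AdjoinRoot (P p)) := fun p =>
      Groth.Agent.Lib.Lead.LocalSplit.nontrivial_adjoinRoot (P p) (hPm p) (hPd p)
    haveI : ∀ p, Module.FaithfullyFlat (Localization.AtPrime p.asIdeal) (AdjoinRoot (P p)) :=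
      fun p => inferInstance
    exact Groth.Agent.Lib.Lead.TensorPowerEnd.main_of_family A n (hn p₀) hrk
      (fun p => AdjoinRoot (P p)) ρ

end Groth.Agent.S13796
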