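import Groth.Statements.S13799
import Mathlib
import Groth.Agent.Lib.Helper21.H1Tors
import Groth.Agent.S13791

set_option autoImplicit false
universe u
open CategoryTheory Opposite
open CohSite

namespace Groth.Agent.S13799

/-- On a site, take a torsion-free abelian group A, and let φ be a locally nonzero global section of the
constant sheaf ℤ, viewed as an endomorphism of the constant abelian sheaf ℤ: there are objects U_i
which cover every object of the site locally and nonzero integers n_i such that φ is multiplication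
by n_i on every object over U_i. Then the first cohomology H¹(A) of the constant sheaf on A (the
Ext-based sheaf cohomology of the site) has no φ-torsion: a class x with φ · x = 0 is zero, where φ
acts on H¹(A) = Ext¹(ℤ, A) by precomposition. (The published statement takes the section in the
constant sheaf of A itself, with a module structure over its global sections that is defined for A =
ℤ; this row lets a locally nonzero section of the constant sheaf ℤ act on H¹(A), which is the
published statement when A = ℤ and is what the published proof establishes for any torsion-free A.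
The published definition of a locally nonzero section also asks the covering family to be nonempty;
when it is empty every sheaf is terminal and the conclusion holds trivially, so that condition is
omitted.) -/
theorem result {C : Type u} [SmallCategory C] (J : GrothendieckTopology C)
    {A : Type u} [AddCommGroup A] (hA : ∀ (m : ℤ) (a : A), m ≠ 0 → m • a = 0 → a = 0)
    (φ : (constantSheaf J AddCommGrpCat.{u}).obj (AddCommGrpCat.of (ULift.{u} ℤ)) ⟶
      (constantSheaf J AddCommGrpCat.{u}).obj (AddCommGrpCat.of (ULift.{u} ℤ)))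
    {ι : Type u} (U : ι → C) (n : ι → ℤ) (hn : ∀ i, n i ≠ 0)
    (hφ : ∀ (i : ι) (V : C) (_ : V ⟶ U i), φ.hom.app (op V) = n i • 𝟙 _)
    (hcov : ∀ V : C, ∃ R ∈ J V, ∀ ⦃W : C⦄ (g : W ⟶ V), R g → ∃ i, Nonempty (W ⟶ U i))
    (x : Sheaf.H ((constantSheaf J AddCommGrpCat.{u}).obj (AddCommGrpCat.of A)) 1)
    (hx : (Abelian.Ext.mk₀ φ).comp x (zero_add 1) = 0) :
    x = 0 := by
  let B : Type u := TensorProduct ℤ ℚ A
  let f : A →+ B := (TensorProduct.mk ℤ ℚ A 1).toAddMonoidHom
  have hf : Function.Injective f := by
    have hTF : Module.IsTorsionFree ℤ A := by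
      refine ⟨fun r hr a a' h => ?_⟩
      have hr0 : r ≠ 0 := hr.ne_zero
      have h2 : r • (a - a') = 0 := by
        rw [smul_sub, sub_eq_zero]
        exact h
      exact sub_eq_zero.1 (hA _ _ hr0 h2)
    have hFlat : Module.Flat ℤ A := inferInstance
    have h1 := Module.Flat.rTensor_preserves_injective_linearMap (M := A)
      (Algebra.linearMap ℤ ℚ) (by exact (algebraMap ℤ ℚ).injective_int)
    intro a a' h
    have h : (1 : ℚ) ⊗ₜ[ℤ] a = (1 : ℚ) ⊗ₜ[ℤ] a' := h
    have h2 : (LinearMap.rTensor A (Algebra.linearMap ℤ ℚ)) ((1 : ℤ) ⊗ₜ a) =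
        (LinearMap.rTensor A (Algebra.linearMap ℤ ℚ)) ((1 : ℤ) ⊗ₜ a') := by
      simpa using h
    have h3 := h1 h2
    have h4 := congrArg (TensorProduct.lid ℤ A) h3
    simpa using h4
  have hB : ∀ m : ℤ, m ≠ 0 → Function.Bijective (fun b : AddCommGrpCat.of B => m • b) := by
    intro m hm
    have hm' : (m : ℚ) ≠ 0 := Int.cast_ne_zero.2 hm
    refine ⟨fun b b' h => ?_, fun b => ⟨((m : ℚ)⁻¹ • (b : TensorProduct ℤ ℚ A) : TensorProduct ℤ ℚ A), ?_⟩⟩
    · have h0 : m • (b : TensorProduct ℤ ℚ A) = m • (b' : TensorProduct ℤ ℚ A) := h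
      have h' : (m : ℚ) • (b : TensorProduct ℤ ℚ A) = (m : ℚ) • (b' : TensorProduct ℤ ℚ A) := by
        rw [Int.cast_smul_eq_zsmul, Int.cast_smul_eq_zsmul]; exact h0
      have := congrArg (fun z => (m : ℚ)⁻¹ • z) h'
      simpa [smul_smul, inv_mul_cancel₀ hm'] using this
    · change m • ((m : ℚ)⁻¹ • (b : TensorProduct ℤ ℚ A)) = b
      rw [← Int.cast_smul_eq_zsmul ℚ, smul_smul, mul_inv_cancel₀ hm', one_smul]
  have hinj := Groth.Agent.S13791.result J f hf
  apply hinj
  rw [map_zero]
  refine Groth.Agent.Lib.Helper21.H1Tors.ext_eq_zero_of_divisible (A := AddCommGrpCat.of B)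
    hB φ U n hn hφ hcov _ ?_
  change (Abelian.Ext.mk₀ φ).comp (x.comp (Abelian.Ext.mk₀ _) (add_zero 1)) (zero_add 1) = 0
  rw [← Abelian.Ext.comp_assoc (Abelian.Ext.mk₀ φ) x (Abelian.Ext.mk₀ _) (zero_add 1) (add_zero 1)
    (by omega)]
  erw [hx]
  exact Abelian.Ext.zero_comp ..

end Groth.Agent.S13799
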