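import Groth.Statements.S13801
import Mathlib.Tactic
import Mathlib.Data.Nat.Factorial.BigOperators
import Mathlib.Data.Nat.Choose.Basic
-- import your own Groth.Agent.* helpers here

set_option autoImplicit false
open ChowMon

namespace Groth.Agent.S13801

theorem padicValNat_finset_prod {ι : Type*} (p : ℕ) [Fact p.Prime] (s : Finset ι) (f : ι → ℕ)
    (hf : ∀ i ∈ s, f i ≠ 0) :
    padicValNat p (∏ i ∈ s, f i) = ∑ i ∈ s, padicValNat p (f i) := by
  classical
  induction s using Finset.induction_on with
  | empty => simp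
  | insert a s ha ih =>
    rw [Finset.prod_insert ha, Finset.sum_insert ha, padicValNat.mul, ih]
    · intro i hi; exact hf i (Finset.mem_insert_of_mem hi)
    · exact hf a (Finset.mem_insert_self a s)
    · exact Finset.prod_ne_zero_iff.2 (fun i hi => hf i (Finset.mem_insert_of_mem hi))

theorem sum_le {ι : Type*} (p : ℕ) [Fact p.Prime] (s : Finset ι) (a : ι → ℕ) :
    ∑ i ∈ s, padicValNat p (a i).factorial ≤ padicValNat p (∑ i ∈ s, a i).factorial := by
  rw [← padicValNat_finset_prod p s (fun i => (a i).factorial) (fun i _ => Nat.factorial_ne_zero _)]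
  have hdvd := Nat.prod_factorial_dvd_factorial_sum s a
  have hne : (∑ i ∈ s, a i).factorial ≠ 0 := Nat.factorial_ne_zero _
  have h1 : p ^ padicValNat p (∏ i ∈ s, (a i).factorial) ∣ (∑ i ∈ s, a i).factorial :=
    dvd_trans pow_padicValNat_dvd hdvd
  exact (padicValNat_dvd_iff_le hne).1 h1

theorem dvd_choose (p : ℕ) [Fact p.Prime] (m r : ℕ) (hm : 0 < m)
    (h : ¬ p ^ padicValNat p (m + r) ∣ m) : 1 ≤ padicValNat p ((m + r).choose m) := by
  obtain ⟨m', rfl⟩ : ∃ m', m = m' + 1 := ⟨m - 1, by omega⟩
  -- (n+1) * choose n k = choose (n+1) (k+1) * (k+1)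
  have key := Nat.add_one_mul_choose_eq (m' + r) m'
  have e : m' + r + 1 = m' + 1 + r := by ring
  rw [e] at key
  have hc : ((m' + 1 + r).choose (m' + 1)) ≠ 0 := (Nat.choose_pos (by omega)).ne'
  have hc' : ((m' + r).choose m') ≠ 0 := (Nat.choose_pos (by omega)).ne'
  have h1 := congrArg (padicValNat p) key
  rw [padicValNat.mul (by omega) hc', padicValNat.mul hc (by omega)] at h1
  have h2 : padicValNat p (m' + 1) < padicValNat p (m' + 1 + r) := by
    by_contra hlt
    push_neg at hlt
    exact h ((padicValNat_dvd_iff_le (by omega)).2 hlt)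
  omega

/-- For a prime p and positive natural numbers a_1, ..., a_k with sum n one has v_p(a_1!) + ... +
v_p(a_k!) ≤ v_p(n!), and the inequality is strict whenever some a_i is not divisible by p^(v_p(n)). -/
theorem result {k : ℕ} (p : ℕ) [Fact p.Prime]
    (a : Fin k → ℕ) (ha : ∀ i, 0 < a i) :
    (∑ i, padicValNat p (a i).factorial ≤ padicValNat p (∑ i, a i).factorial) ∧
      ((∃ i, ¬ p ^ padicValNat p (∑ j, a j) ∣ a i) →
        ∑ i, padicValNat p (a i).factorial < padicValNat p (∑ i, a i).factorial) := by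
  refine ⟨sum_le p Finset.univ a, ?_⟩
  rintro ⟨i, hi⟩
  have hsplit : ∑ j, a j = a i + ∑ j ∈ Finset.univ.erase i, a j :=
    (Finset.add_sum_erase Finset.univ a (Finset.mem_univ i)).symm
  have hsplit2 : ∑ j, padicValNat p (a j).factorial =
      padicValNat p (a i).factorial + ∑ j ∈ Finset.univ.erase i, padicValNat p (a j).factorial :=
    (Finset.add_sum_erase Finset.univ (fun j => padicValNat p (a j).factorial) (Finset.mem_univ i)).symm
  set r := ∑ j ∈ Finset.univ.erase i, a j with hr
  have hrest := sum_le p (Finset.univ.erase i) a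
  rw [← hr] at hrest
  rw [hsplit] at hi ⊢
  rw [hsplit2]
  have hch := dvd_choose p (a i) r (ha i) hi
  have hfac := Nat.add_choose_mul_factorial_mul_factorial r (a i)
  rw [Nat.add_comm r (a i)] at hfac
  have h1 := congrArg (padicValNat p) hfac
  rw [padicValNat.mul (Nat.mul_ne_zero (Nat.choose_pos (by omega)).ne' (Nat.factorial_ne_zero _))
    (Nat.factorial_ne_zero _),
    padicValNat.mul (Nat.choose_pos (by omega)).ne' (Nat.factorial_ne_zero _)] at h1
  omega

end Groth.Agent.S13801
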