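import Groth.Statements.S1383
import Mathlib
import Groth.Agent.Lib.Helper6.ThickDeform

set_option autoImplicit false
universe u
open FlatMor

namespace Groth.Agent.S1383

open AlgebraicGeometry CategoryTheory Limits in
/-- Let S ⟶ S' be an arbitrary thickening, let X' ⟶ Y' be a morphism of schemes over S' with X' flat and
locally of finite presentation over S' and Y' locally of finite type over S', and let X ⟶ Y be its
base change to S. Then X' ⟶ Y' is an open immersion exactly when X ⟶ Y is one. -/
theorem result {X X' Y Y' S S' : Scheme.{u}} (iX : X ⟶ X') (iY : Y ⟶ Y') (iS : S ⟶ S')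
    (f : X ⟶ Y) (f' : X' ⟶ Y') (g : Y ⟶ S) (g' : Y' ⟶ S')
    (hS : MoreMor.IsThickening iS) (hcX : IsPullback iX (f ≫ g) (f' ≫ g') iS) (hcY : IsPullback iY g g' iS)
    (w : iX ≫ f' = f ≫ iY) [Flat (f' ≫ g')] [LocallyOfFinitePresentation (f' ≫ g')] [LocallyOfFiniteType g'] :
    IsOpenImmersion f ↔ IsOpenImmersion f' := by
  haveI := hS.1
  haveI := hS.2
  constructor
  · intro hf
    exact Groth.Agent.Lib.Helper6.ThickDeform.isOpenImmersion_of_thickening iX iY iS f f' g g' hcX hcY w
  · intro hf'
    exact Groth.Agent.Lib.Helper6.ThickDeform.base_change_of_thickening iX iY iS f f' g g' @IsOpenImmersion hcX hcY w hf'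

end Groth.Agent.S1383
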