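import Groth.Statements.S13831
import Groth.Agent.Lib.Helper11.ResDegScheme
import Groth.Agent.Lib.Helper11.UHRing

set_option autoImplicit false
universe u
open AlgebraicGeometry
open ChowMon

namespace Groth.Agent.S13831

open Groth.Agent.Lib.Helper11.ResDeg Groth.Agent.Lib.Helper11.UHRing

/-- For a finite universal homeomorphism p : T' → T of Noetherian schemes there is an integer d ≥ 1 such
that for every point t' of T' over t the residue field degree [k(t') : k(t)] is a power of the
exponential characteristic of k(t) dividing d. -/
theorem result {T' T : Scheme.{u}} (p : T' ⟶ T) [IsFinite p] (hp : FlatMor.IsUnivHomeo p)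
    [IsNoetherian T] [IsNoetherian T'] [T.IsSeparated] [T'.IsSeparated] :
    ∃ d : ℕ, 0 < d ∧ ∀ t' : T', ∃ e : ℕ,
      @Module.finrank (T.residueField (p t')) (T'.residueField t') _ _
          (p.residueFieldMap t').hom.toAlgebra.toModule =
        ringExpChar (T.residueField (p t')) ^ e ∧
      ringExpChar (T.residueField (p t')) ^ e ∣ d := by
  obtain ⟨N, hN⟩ := exists_bound p
  refine ⟨N.factorial, Nat.factorial_pos N, fun t' => ?_⟩
  obtain ⟨hfin, hle⟩ := hN t'
  have hUI : UniversallyInjective p := ((isUnivHomeo_iff p).mp hp).2.1
  have h02 : UniversallyInjective p ↔ (Function.Injective p ∧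
      ∀ x, (p.residueFieldMap x).hom.IsPurelyInseparable) := (tfae_universallyInjective p).out 0 2
  have hpi := (h02.mp hUI).2 t'
  letI := (p.residueFieldMap t').hom.toAlgebra
  haveI : IsPurelyInseparable (T.residueField (p t')) (T'.residueField t') := hpi
  haveI : FiniteDimensional (T.residueField (p t')) (T'.residueField t') := hfin
  haveI : ExpChar (T.residueField (p t')) (ringExpChar (T.residueField (p t'))) :=
    ringExpChar.expChar _
  obtain ⟨e, he⟩ := IsPurelyInseparable.finrank_eq_pow (F := T.residueField (p t'))
    (T'.residueField t') (ringExpChar (T.residueField (p t')))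
  refine ⟨e, he, ?_⟩
  have hpos : 0 < ringExpChar (T.residueField (p t')) ^ e :=
    pow_pos (expChar_pos (T.residueField (p t')) _) e
  exact Nat.dvd_factorial hpos (by rw [← he]; exact hle)

end Groth.Agent.S13831
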