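import Groth.Statements.S13834
import Mathlib.AlgebraicGeometry.Morphisms.UniversallyOpen
import Mathlib.AlgebraicGeometry.Fiber
import Mathlib.AlgebraicGeometry.Noetherian
import Mathlib.AlgebraicGeometry.Morphisms.FiniteType
import Mathlib.AlgebraicGeometry.Morphisms.QuasiSeparated

set_option autoImplicit false
universe u
open AlgebraicGeometry
open EtaPt

namespace Groth.Agent.S13834

open CategoryTheory TopologicalSpace

/-- A point with no proper generization. -/
def IsMaxPt {T : Type*} [TopologicalSpace T] (x : T) : Prop := ∀ y : T, y ⤳ x → y = x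

lemma finite_maxPts_of_finite_irreducibleComponents {T : Type*} [TopologicalSpace T] [T0Space T]
    [QuasiSober T]
    (h : (irreducibleComponents T).Finite) : {x : T | IsMaxPt x}.Finite := by
  have hinj : Set.InjOn (fun x : T => closure ({x} : Set T)) {x : T | IsMaxPt x} := by
    intro x _ y _ hxy
    exact (inseparable_iff_closure_eq.mpr hxy).eq
  refine Set.Finite.of_finite_image (h.subset ?_) hinj
  rintro _ ⟨x, hx, rfl⟩
  refine ⟨isIrreducible_singleton.closure, fun C hC hle => ?_⟩
  obtain ⟨c, hc⟩ := QuasiSober.sober hC.closure isClosed_closure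
  have hcx : c ⤳ x := by
    rw [specializes_iff_mem_closure, hc.def]
    exact subset_closure (hle (subset_closure (Set.mem_singleton x)))
  have hcx' : c = x := hx c hcx
  subst hcx'
  intro z hz
  have : z ∈ closure C := subset_closure hz
  rwa [← hc.def] at this

lemma finite_irreducibleComponents_of_finite_maxPts {T : Type*} [TopologicalSpace T] [T0Space T]
    [QuasiSober T]
    (h : {x : T | IsMaxPt x}.Finite) : (irreducibleComponents T).Finite := by
  refine (h.image (fun x => closure ({x} : Set T))).subset ?_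
  intro C hC
  have hCcl : IsClosed C := isClosed_of_mem_irreducibleComponents C hC
  obtain ⟨c, hc⟩ := QuasiSober.sober hC.1 hCcl
  refine ⟨c, ?_, hc.def⟩
  intro y hy
  have h1 : C ⊆ closure ({y} : Set T) := by
    rw [← hc.def]; exact specializes_iff_closure_subset.mp hy
  have h2 : closure ({y} : Set T) ⊆ C := hC.2 isIrreducible_singleton.closure h1
  have h3 : c ⤳ y := by
    rw [specializes_iff_mem_closure, hc.def]
    exact h2 (subset_closure (Set.mem_singleton y))
  exact (hy.antisymm h3).eq

lemma isMaxPt_subtype_iff {T : Type*} [TopologicalSpace T] (V : Opens T) (y : V) :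
    IsMaxPt y ↔ IsMaxPt (y : T) := by
  constructor
  · intro h z hz
    have hzV : z ∈ V := hz.mem_open V.isOpen y.2
    have := h ⟨z, hzV⟩ ((subtype_specializes_iff _ _).mpr hz)
    exact congrArg Subtype.val this
  · intro h z hz
    exact Subtype.ext (h z ((subtype_specializes_iff _ _).mp hz))

lemma finite_maxPts_affine {Y X : Scheme.{u}} (f : Y ⟶ X) [Flat f] [LocallyOfFinitePresentation f]
    (hX : ∀ U : X.Opens, IsCompact (U : Set X) → (irreducibleComponents (U : Type u)).Finite)
    (U : X.Opens) (hU : IsAffineOpen U) (V : Y.Opens) (hV : IsAffineOpen V) (e : V ≤ f ⁻¹ᵁ U) :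
    {y : Y | y ∈ V ∧ IsMaxPt y}.Finite := by
  have hM : {x : X | x ∈ U ∧ IsMaxPt x}.Finite := by
    have h1 := hX U hU.isCompact
    haveI : QuasiSober (U : Type u) := inferInstanceAs (QuasiSober U.toScheme)
    have h2 := finite_maxPts_of_finite_irreducibleComponents h1
    refine (h2.image Subtype.val).subset ?_
    rintro x ⟨hxU, hx⟩
    exact ⟨⟨x, hxU⟩, (isMaxPt_subtype_iff U ⟨x, hxU⟩).mpr hx, rfl⟩
  have hmap : ∀ y, y ∈ V ∧ IsMaxPt y → f.base y ∈ {x : X | x ∈ U ∧ IsMaxPt x} := by
    rintro y ⟨hyV, hy⟩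
    refine ⟨e hyV, fun x' hx' => ?_⟩
    obtain ⟨y', hy', rfl⟩ := Flat.generalizingMap f hx'
    rw [hy y' hy']
  have hfib : ∀ x : X, x ∈ U → {y : Y | (y ∈ V ∧ IsMaxPt y) ∧ f.base y = x}.Finite := by
    intro x hxU
    let x' : U.toScheme := ⟨x, hxU⟩
    let g : V.toScheme ⟶ U.toScheme := f.resLE U V e
    haveI : IsAffine V.toScheme := hV
    haveI : IsAffine U.toScheme := hU
    haveI : QuasiCompact g := inferInstance
    haveI : LocallyOfFiniteType (g.fiberToSpecResidueField x') :=
      MorphismProperty.pullback_snd _ _ inferInstance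
    haveI : IsLocallyNoetherian (g.fiber x') :=
      LocallyOfFiniteType.isLocallyNoetherian (g.fiberToSpecResidueField x')
    haveI : IsNoetherian (g.fiber x') := {}
    have hF : {z : g.fiber x' | IsMaxPt z}.Finite :=
      finite_maxPts_of_finite_irreducibleComponents finite_irreducibleComponents_of_isNoetherian
    refine (hF.image (fun z => (g.fiberι x' z).1)).subset ?_
    rintro y ⟨⟨hyV, hy⟩, hfy⟩
    let yV : V.toScheme := ⟨y, hyV⟩
    have hgy : g yV = x' := by
      apply Subtype.ext
      have h1 : (g ≫ U.ι) yV = (V.ι ≫ f) yV :=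
        congrArg (fun φ : V.toScheme ⟶ X => φ yV) (Scheme.Hom.resLE_comp_ι f e)
      change (g yV).1 = x
      have h2 : (g ≫ U.ι) yV = (g yV).1 := by first | rfl | simp
      have h3 : (V.ι ≫ f) yV = f.base y := by first | rfl | simp
      rw [← h2, h1, h3, hfy]
    let z : g.fiber x' := (g.fiberHomeo x').symm ⟨yV, hgy⟩
    have hz : g.fiberι x' z = yV := g.fiberι_fiberHomeo_symm x' ⟨yV, hgy⟩
    refine ⟨z, ?_, congrArg Subtype.val hz⟩
    intro z' hz'
    have h1 : g.fiberι x' z' ⤳ g.fiberι x' z := hz'.map (g.fiberι x').continuous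
    rw [hz] at h1
    have h2 : (g.fiberι x' z').1 ⤳ y := (subtype_specializes_iff _ _).mp h1
    have h3 := hy _ h2
    have h4 : g.fiberι x' z' = g.fiberι x' z := by
      rw [hz]; exact Subtype.ext h3
    exact (g.fiberι x').isEmbedding.injective h4
  refine (Set.Finite.biUnion hM (fun x hx => hfib x hx.1)).subset ?_
  intro y hy
  simp only [Set.mem_iUnion, Set.mem_ofPred_eq]
  exact ⟨f.base y, hmap y hy, hy, rfl⟩

/-- If f : Y → X is faithfully flat and locally of finite presentation and each quasi-compact open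
subset of X has only finitely many irreducible components, the same is true of each quasi-compact
open subset of Y. -/
theorem result {Y X : Scheme.{u}} (f : Y ⟶ X) [Flat f] [LocallyOfFinitePresentation f] [Surjective f]
    (hX : ∀ U : X.Opens, IsCompact (U : Set X) → (irreducibleComponents (U : Type u)).Finite)
    (V : Y.Opens) (hV : IsCompact (V : Set Y)) : (irreducibleComponents (V : Type u)).Finite := by
  haveI : QuasiSober (V : Type u) := inferInstanceAs (QuasiSober V.toScheme)
  apply finite_irreducibleComponents_of_finite_maxPts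
  have key : {y : Y | y ∈ V ∧ IsMaxPt y}.Finite := by
    have hex : ∀ y : Y, y ∈ V → ∃ (U : X.Opens) (W : Y.Opens), IsAffineOpen U ∧ IsAffineOpen W ∧
        y ∈ W ∧ W ≤ V ∧ W ≤ f ⁻¹ᵁ U := by
      intro y hy
      obtain ⟨_, ⟨U, hU, rfl⟩, hfU, -⟩ := (X.isBasis_affineOpens).exists_subset_of_mem_open
        (Set.mem_univ (f.base y)) isOpen_univ
      have hyW : y ∈ V ⊓ f ⁻¹ᵁ U := ⟨hy, hfU⟩
      obtain ⟨_, ⟨W, hW, rfl⟩, hyW', hWle⟩ := (Y.isBasis_affineOpens).exists_subset_of_mem_open
        hyW (V ⊓ f ⁻¹ᵁ U).isOpen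
      exact ⟨U, W, hU, hW, hyW', fun a ha => (hWle ha).1, fun a ha => (hWle ha).2⟩
    choose! U W hU hW hyW hWV hWU using hex
    obtain ⟨t, ht, htV⟩ := hV.elim_nhds_subcover (fun y => (W y : Set Y))
      (fun y hy => (W y).isOpen.mem_nhds (hyW y hy))
    refine (Set.Finite.biUnion t.finite_toSet
      (fun y hy => finite_maxPts_affine f hX (U y) (hU y (ht y hy)) (W y) (hW y (ht y hy))
        (hWU y (ht y hy)))).subset ?_
    rintro y ⟨hyV, hy⟩
    obtain ⟨a, ha, hya⟩ := Set.mem_iUnion₂.mp (htV hyV)
    simp only [Set.mem_iUnion, Set.mem_ofPred_eq]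
    exact ⟨a, ha, hya, hy⟩
  refine Set.Finite.of_finite_image (key.subset ?_) Subtype.val_injective.injOn
  rintro _ ⟨z, hz, rfl⟩
  exact ⟨z.2, (isMaxPt_subtype_iff V z).mp hz⟩

end Groth.Agent.S13834
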