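import Groth.Statements.S13835
import Groth.Agent.Lib.Helper11.AWNScheme

set_option autoImplicit false
universe u
open AlgebraicGeometry CategoryTheory
open ChowMon

namespace Groth.Agent.S13835

open Groth.Agent.Lib.Helper11.AWNScheme Groth.Agent.Lib.Helper11.UHRing CategoryTheory.Limits

/-- Let p : T' → T be a universal homeomorphism of separated schemes with T reduced and f' : T' → Y a
morphism (Y separated); if T has an open cover by affine opens U_i such that each restriction of f'
to p⁻¹(U_i) factors through p⁻¹(U_i) → U_i, then f' factors through p. -/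
theorem result {T' T Y : Scheme.{u}} (p : T' ⟶ T) (hp : FlatMor.IsUnivHomeo p) [IsReduced T]
    [T.IsSeparated] [T'.IsSeparated] [Y.IsSeparated] (f' : T' ⟶ Y)
    {ι : Type u} (U : ι → T.affineOpens) (hU : ⨆ i, (U i : T.Opens) = ⊤)
    (hloc : ∀ i, ∃ fi : ((U i : T.Opens) : Scheme.{u}) ⟶ Y, (p ⁻¹ᵁ (U i : T.Opens)).ι ≫ f' = (p ∣_ (U i : T.Opens)) ≫ fi) :
    ∃ f : T ⟶ Y, p ≫ f = f' := by
  choose fi hfi using hloc
  have hp3 := (isUnivHomeo_iff p).mp hp
  haveI : Surjective p := hp3.2.2
  let 𝒰 : T.OpenCover := T.openCoverOfIsOpenCover (fun i => (U i : T.Opens)) hU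
  -- compatibility on overlaps
  have hcompat : ∀ i j : ι, pullback.fst (𝒰.f i) (𝒰.f j) ≫ fi i =
      pullback.snd (𝒰.f i) (𝒰.f j) ≫ fi j := by
    intro i j
    let P := pullback (𝒰.f i) (𝒰.f j)
    let c : P ⟶ T := pullback.fst (𝒰.f i) (𝒰.f j) ≫ 𝒰.f i
    haveI : IsReduced P := isReduced_of_isOpenImmersion c
    let W := pullback p c
    let q : W ⟶ P := pullback.snd p c
    haveI : Surjective q := MorphismProperty.pullback_snd (P := @Surjective) p c inferInstance
    have key : ∀ (k : ι) (a : P ⟶ (U k : T.Opens)) (ha : a ≫ (U k : T.Opens).ι = c),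
        q ≫ a ≫ fi k = pullback.fst p c ≫ f' := by
      intro k a ha
      have hrange : Set.range (pullback.fst p c) ⊆ Set.range (p ⁻¹ᵁ (U k : T.Opens)).ι := by
        rintro _ ⟨w, rfl⟩
        rw [Scheme.Opens.range_ι]
        have e1 : (pullback.fst p c ≫ p) w = (q ≫ a ≫ (U k : T.Opens).ι) w := by
          rw [ha]; exact congrArg (fun m : W ⟶ T => m w) pullback.condition
        show p (pullback.fst p c w) ∈ (U k : T.Opens)
        have e2 : p (pullback.fst p c w) = (U k : T.Opens).ι (a (q w)) := e1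
        rw [e2]; exact (a (q w)).2
      let w := IsOpenImmersion.lift (p ⁻¹ᵁ (U k : T.Opens)).ι (pullback.fst p c) hrange
      have hw : w ≫ (p ⁻¹ᵁ (U k : T.Opens)).ι = pullback.fst p c := IsOpenImmersion.lift_fac _ _ _
      have hw2 : w ≫ (p ∣_ (U k : T.Opens)) = q ≫ a := by
        rw [← cancel_mono (U k : T.Opens).ι, Category.assoc, morphismRestrict_ι, ← Category.assoc,
          hw, Category.assoc, ha]
        exact pullback.condition
      rw [← Category.assoc, ← hw2, Category.assoc, ← hfi k, ← Category.assoc, hw]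
    refine ext_of_isDominant_of_isSeparated (terminal.from Y) (terminal.hom_ext _ _) q ?_
    exact (key i (pullback.fst (𝒰.f i) (𝒰.f j)) rfl).trans
      (key j (pullback.snd (𝒰.f i) (𝒰.f j)) pullback.condition.symm).symm
  refine ⟨𝒰.glueMorphisms fi hcompat, ?_⟩
  let 𝒱 : T'.OpenCover := T'.openCoverOfIsOpenCover (fun i => p ⁻¹ᵁ (U i : T.Opens))
    (.comap hU p.base.hom)
  apply 𝒱.hom_ext
  intro i
  show (p ⁻¹ᵁ (U i : T.Opens)).ι ≫ p ≫ _ = (p ⁻¹ᵁ (U i : T.Opens)).ι ≫ f'
  rw [← Category.assoc, ← morphismRestrict_ι, Category.assoc]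
  have : (U i : T.Opens).ι ≫ 𝒰.glueMorphisms fi hcompat = fi i := 𝒰.ι_glueMorphisms fi hcompat i
  rw [this, hfi i]

end Groth.Agent.S13835
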