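import Groth.Statements.S13836
import Groth.Agent.Lib.Helper11.UnibranchSch

set_option autoImplicit false
universe u
open AlgebraicGeometry CategoryTheory
open HTop

namespace Groth.Agent.S13836

/-- Let Y be a separated Noetherian integral scheme whose local rings are geometrically unibranch and
whose affine coordinate rings are Nagata, K its function field and L a finite purely inseparable
extension of K; then the normalization of Y in L, i.e. the normalization of Y relative to Spec L →
Spec K → Y, maps to Y by a universal homeomorphism. (The instance binders on Spec L → Y always hold;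
they are only needed to form the normalization.) -/
theorem result (Y : Scheme.{u}) [IsIntegral Y] [IsNoetherian Y] [Y.IsSeparated]
    (hY : ∀ y : Y, CAlg2.IsGeomUnibranch (Y.presheaf.stalk y))
    (hN : ∀ U : Y.affineOpens, CAlg.IsNagata Γ(Y, U))
    (L : Type u) [Field L] [Algebra Y.functionField L] [FiniteDimensional Y.functionField L]
    [IsPurelyInseparable Y.functionField L]
    [QuasiCompact (Spec.map (CommRingCat.ofHom (algebraMap Y.functionField L)) ≫ Y.fromSpecStalk (genericPoint Y))]
    [QuasiSeparated (Spec.map (CommRingCat.ofHom (algebraMap Y.functionField L)) ≫ Y.fromSpecStalk (genericPoint Y))] :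
    FlatMor.IsUnivHomeo
      (Spec.map (CommRingCat.ofHom (algebraMap Y.functionField L)) ≫ Y.fromSpecStalk (genericPoint Y)).fromNormalization := by
  apply Groth.Agent.Lib.Helper11.UnibranchSch.isUnivHomeo_fromNormalization _ hY
  intro U hU
  haveI : Nonempty U.1 := by
    obtain ⟨x, hx⟩ := (TopologicalSpace.Opens.ne_bot_iff_nonempty _).mp hU
    exact ⟨⟨x, hx⟩⟩
  have hη : genericPoint Y ∈ U.1 :=
    ((genericPoint_spec Y).mem_open_set_iff U.1.isOpen).mpr (by simpa using ‹Nonempty U.1›)
  obtain ⟨ε, hε, happ⟩ := Groth.Agent.Lib.Helper11.UnibranchSch.exists_bijective_app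
    (genericPoint Y) (CommRingCat.of L) (CommRingCat.ofHom (algebraMap Y.functionField L))
    (Spec.map (CommRingCat.ofHom (algebraMap Y.functionField L)) ≫
      Y.fromSpecStalk (genericPoint Y)) rfl U.1 hη
  haveI : IsFractionRing Γ(Y, U.1) Y.functionField :=
    functionField_isFractionRing_of_isAffineOpen Y U.1 U.2
  have happ' : ∀ s : Γ(Y, U.1), ((Spec.map (CommRingCat.ofHom (algebraMap Y.functionField L)) ≫
      Y.fromSpecStalk (genericPoint Y)).app U.1).hom s =
      ε (algebraMap Y.functionField L (algebraMap Γ(Y, U.1) Y.functionField s)) := by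
    intro s
    rw [happ]
    rfl
  obtain ⟨q, hq⟩ := ExpChar.exists Y.functionField
  haveI := hq
  refine ⟨hε.injective.nontrivial, ?_, q, ?_, ?_⟩
  · intro s hs
    rw [happ']
    apply IsUnit.map
    apply IsUnit.mk0
    rw [map_ne_zero]
    exact (map_ne_zero_iff _ (IsFractionRing.injective Γ(Y, U.1) Y.functionField)).mpr hs
  · rcases hq with _ | hprime
    · exact Or.inl rfl
    · refine Or.inr ⟨hprime, ?_⟩
      apply IsFractionRing.injective Γ(Y, U.1) Y.functionField
      rw [map_natCast, map_zero]
      exact CharP.cast_eq_zero _ q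
  · intro x
    obtain ⟨l, rfl⟩ := hε.surjective x
    obtain ⟨n, k, hk⟩ := IsPurelyInseparable.pow_mem Y.functionField q l
    obtain ⟨a, b, hb, hab⟩ := IsFractionRing.div_surjective (A := Γ(Y, U.1)) k
    have hb0 : b ≠ 0 := nonZeroDivisors.ne_zero hb
    have hbK : algebraMap Γ(Y, U.1) Y.functionField b ≠ 0 :=
      (map_ne_zero_iff _ (IsFractionRing.injective Γ(Y, U.1) Y.functionField)).mpr hb0
    refine ⟨n, a, b, hb0, ?_⟩
    rw [happ', happ', ← map_pow, ← map_mul, ← hk, ← map_mul, ← hab]
    congr 2
    exact mul_div_cancel₀ _ hbK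

end Groth.Agent.S13836
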