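import Groth.Statements.S13838
import Groth.Agent.Lib.Helper11.UHCore

set_option autoImplicit false
universe u
open AlgebraicGeometry
open HTop

namespace Groth.Agent.S13838

open Groth.Agent.Lib.Helper11.UHRing CategoryTheory

theorem exists_residueField_div {A : Type u} [CommRing A] (p : Ideal A) [p.IsPrime]
    (z : p.ResidueField) :
    ∃ a s : A, s ∉ p ∧ z * algebraMap A p.ResidueField s = algebraMap A p.ResidueField a := by
  obtain ⟨l, hl⟩ := IsLocalRing.residue_surjective (R := Localization.AtPrime p) z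
  obtain ⟨⟨r, s⟩, hrs⟩ := IsLocalization.mk'_surjective p.primeCompl l
  refine ⟨r, s.1, s.2, ?_⟩
  rw [← hl, ← hrs]
  show IsLocalRing.residue _ _ * IsLocalRing.residue _ (algebraMap A _ s.1) =
    IsLocalRing.residue _ (algebraMap A _ r)
  rw [← map_mul, IsLocalization.mk'_spec]

theorem resTriv_of_hpi {A B : Type u} [CommRing A] [CommRing B] [Algebra A B]
    (hpi : ∀ p : PrimeSpectrum A, ∃ q : PrimeSpectrum B,
      ∃ hq : p.asIdeal = Ideal.comap (algebraMap A B) q.asIdeal,
      ∀ x : q.asIdeal.ResidueField,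
        (∃ n : ℕ, x ^ ringExpChar p.asIdeal.ResidueField ^ n ∈
            Set.range (Ideal.ResidueField.map p.asIdeal q.asIdeal (algebraMap A B) hq)) →
        x ∈ Set.range (Ideal.ResidueField.map p.asIdeal q.asIdeal (algebraMap A B) hq))
    (C : Subalgebra A B) (hC : UH (algebraMap A C)) : ResTriv (algebraMap A C) := by
  intro qC c
  set p : PrimeSpectrum A := PrimeSpectrum.comap (algebraMap A C) qC with hp
  obtain ⟨q, hq, hroot⟩ := hpi p
  -- q ∩ C = qC
  have hqC : PrimeSpectrum.comap C.val.toRingHom q = qC := by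
    apply hC.bijective_comap.1
    apply PrimeSpectrum.ext
    show Ideal.comap (algebraMap A C) (Ideal.comap C.val.toRingHom q.asIdeal) = p.asIdeal
    rw [hq]; rfl
  have hmemq : ∀ c' : C, c' ∈ qC.asIdeal ↔ (c' : B) ∈ q.asIdeal := by
    intro c'
    rw [← hqC]; rfl
  set m := Ideal.ResidueField.map p.asIdeal q.asIdeal (algebraMap A B) hq with hm
  set κq := q.asIdeal.ResidueField
  set π : B →+* κq := algebraMap B κq with hπ
  have hmπ : ∀ a : A, m (algebraMap A p.asIdeal.ResidueField a) = π (algebraMap A B a) :=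
    fun a => Ideal.ResidueField.map_algebraMap _ _ _ hq a
  have hπ0 : ∀ b : B, π b = 0 ↔ b ∈ q.asIdeal := fun b => Ideal.algebraMap_residueField_eq_zero
  obtain ⟨ℓ, hℓ, hpow⟩ := hC.exists_expChar qC
  obtain ⟨n, a, s, hs, hsa⟩ := hpow c
  have hsq : algebraMap A B s ∉ q.asIdeal := fun h => hs ((hmemq _).mpr h)
  have hσ : π (algebraMap A B s) ≠ 0 := fun h => hsq ((hπ0 _).mp h)
  have hrel : π (algebraMap A B s) * π (c : B) ^ (ℓ ^ n) = π (algebraMap A B a) := by
    have h1 : ((algebraMap A C s * c ^ (ℓ ^ n) - algebraMap A C a : C) : B) ∈ q.asIdeal :=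
      (hmemq _).mp hsa
    have h2 := (hπ0 _).mpr h1
    have h3 : ((algebraMap A C s * c ^ (ℓ ^ n) - algebraMap A C a : C) : B) =
        algebraMap A B s * (c : B) ^ (ℓ ^ n) - algebraMap A B a := by
      simp
    rw [h3, map_sub, map_mul, map_pow, sub_eq_zero] at h2
    exact h2
  have hxpow : π (c : B) ^ (ℓ ^ n) ∈ Set.range m := by
    refine ⟨algebraMap A _ a / algebraMap A _ s, ?_⟩
    rw [map_div₀, hmπ, hmπ, div_eq_iff hσ, mul_comm]
    exact hrel.symm
  have hx : π (c : B) ∈ Set.range m := by
    rcases hℓ with rfl | ⟨hprime, hℓq⟩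
    · simpa using hxpow
    · apply hroot
      have hℓp : (ℓ : A) ∈ p.asIdeal := hℓq
      haveI : CharP p.asIdeal.ResidueField ℓ := by
        rw [CharP.charP_iff_prime_eq_zero hprime]
        have : algebraMap A p.asIdeal.ResidueField (ℓ : A) = 0 :=
          Ideal.algebraMap_residueField_eq_zero.mpr hℓp
        rwa [map_natCast] at this
      haveI : ExpChar p.asIdeal.ResidueField ℓ := .prime hprime
      rw [ringExpChar.eq p.asIdeal.ResidueField ℓ]
      exact ⟨n, hxpow⟩
  obtain ⟨z, hz⟩ := hx
  obtain ⟨a', s', hs', hzs⟩ := exists_residueField_div p.asIdeal z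
  refine ⟨a', s', ?_, ?_⟩
  · exact hs'
  · rw [hmemq]
    have h3 : ((algebraMap A C s' * c - algebraMap A C a' : C) : B) =
        algebraMap A B s' * (c : B) - algebraMap A B a' := by
      simp
    rw [h3, ← hπ0, map_sub, map_mul, sub_eq_zero, ← hz, ← hmπ, ← hmπ, ← hzs, map_mul, mul_comm]

/-- Let A ⊆ B be an integral ring extension where A and B have finitely many minimal prime ideals, such
that every prime p of A has a prime q of B above it for which k(p) is closed under extracting
p-power roots inside k(q) (the purely inseparable closure of k(p) in k(q) is k(p)); then the semi-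
and weak normalizations of A in B coincide: every A-subalgebra C of B with Spec C → Spec A a
universal homeomorphism already induces isomorphisms on residue fields. -/
theorem result (A B : Type u) [CommRing A] [CommRing B] [Algebra A B] (hinj : Function.Injective (algebraMap A B))
    [Algebra.IsIntegral A B] (hA : (minimalPrimes A).Finite) (hB : (minimalPrimes B).Finite)
    (hpi : ∀ p : PrimeSpectrum A, ∃ q : PrimeSpectrum B, ∃ hq : p.asIdeal = Ideal.comap (algebraMap A B) q.asIdeal,
      ∀ x : q.asIdeal.ResidueField,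
        (∃ n : ℕ, x ^ ringExpChar p.asIdeal.ResidueField ^ n ∈
            Set.range (Ideal.ResidueField.map p.asIdeal q.asIdeal (algebraMap A B) hq)) →
        x ∈ Set.range (Ideal.ResidueField.map p.asIdeal q.asIdeal (algebraMap A B) hq)) :
    ∀ C : Subalgebra A B, FlatMor.IsUnivHomeo (Spec.map (CommRingCat.ofHom (algebraMap A C))) →
      HTop.ResidueFieldsIso (Spec.map (CommRingCat.ofHom (algebraMap A C))) := by
  intro C hC
  rw [isUnivHomeo_SpecMap_iff] at hC
  have hRT := resTriv_of_hpi hpi C hC
  rw [← residueFieldMap_surjective_iff] at hRT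
  intro y
  rw [ConcreteCategory.isIso_iff_bijective]
  exact ⟨RingHom.injective _, hRT y⟩

end Groth.Agent.S13838
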