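import Groth.Statements.S13839
import Groth.Agent.Lib.Helper11.SymSN

set_option autoImplicit false
universe u
open AlgebraicGeometry
open scoped TensorProduct
open ChowMon

namespace Groth.Agent.S13839

open Groth.Agent.Lib.Helper11.UHRing Groth.Agent.Lib.Helper11.SymSN

/-- Let C be a Noetherian seminormal A-algebra, g : C → C' an A-algebra map with C' reduced such that
Spec C' → Spec C is a finite universal homeomorphism, and d ≥ 1 an integer divisible by every
residue degree [k(q) : k(g⁻¹q)]; let B be a flat A-algebra and φ : B → C' an A-algebra map. Then for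
every symmetric tensor x ∈ TS^d_A(B) the element φ(m_d(x)) of C', m_d : B^{⊗d} → B the
multiplication, lies in the image of C. (The published statement does not assume C' reduced and is
false without it: take A = C = k a field, C' = k[ε]/(ε²), d = 1, B = k[t] and φ(t) = ε; then ε is
not in k.) -/
theorem result (A C C' B : Type u) [CommRing A] [CommRing C] [CommRing C'] [CommRing B]
    [Algebra A C] [Algebra A C'] [Algebra A B] [IsNoetherianRing C] (hC : HTop.IsSeminormalRing C)
    (g : C →ₐ[A] C') [IsReduced C'] (hfin : g.toRingHom.Finite)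
    (hg : FlatMor.IsUnivHomeo (Spec.map (CommRingCat.ofHom g.toRingHom)))
    (d : ℕ) (hd : 0 < d)
    (hdeg : ∀ q : PrimeSpectrum C',
      @Module.finrank (PrimeSpectrum.comap g.toRingHom q).asIdeal.ResidueField q.asIdeal.ResidueField _ _
          (Ideal.ResidueField.map (PrimeSpectrum.comap g.toRingHom q).asIdeal q.asIdeal g.toRingHom
            rfl).toAlgebra.toModule ∣ d)
    [Module.Flat A B] (φ : B →ₐ[A] C') (x : ⨂[A] _ : Fin d, B) (hx : x ∈ SymTen.TS A B d) :
    φ (PiTensorProduct.lift (MultilinearMap.mkPiAlgebra A (Fin d) B) x) ∈ g.range := by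
  classical
  have hUH : UH g.toRingHom := (isUnivHomeo_SpecMap_iff g.toRingHom).mp hg
  letI algCC' : Algebra C C' := g.toRingHom.toAlgebra
  have hrange : ∀ y : C', y ∈ (algebraMap C C').range → y ∈ g.range := by
    rintro y ⟨c, hc⟩
    exact ⟨c, hc⟩
  apply hrange
  apply mem_range_of_forall_resAlg (C := C) (C' := C') hUH hC
  intro q
  letI algkK : Algebra (PrimeSpectrum.comap g.toRingHom q).asIdeal.ResidueField
      q.asIdeal.ResidueField :=
    (Ideal.ResidueField.map (PrimeSpectrum.comap g.toRingHom q).asIdeal q.asIdeal g.toRingHom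
      rfl).toAlgebra
  haveI : Module.Finite (PrimeSpectrum.comap g.toRingHom q).asIdeal.ResidueField
      q.asIdeal.ResidueField := finite_residueField g.toRingHom hfin q
  haveI : IsPurelyInseparable (PrimeSpectrum.comap g.toRingHom q).asIdeal.ResidueField
      q.asIdeal.ResidueField := isPurelyInseparable_residueField g.toRingHom hUH q
  have hmap : ∀ c : C, algebraMap (PrimeSpectrum.comap g.toRingHom q).asIdeal.ResidueField
      q.asIdeal.ResidueField (algebraMap C _ c) = algebraMap C' _ (g c) :=
    fun c => Ideal.ResidueField.map_algebraMap _ _ g.toRingHom rfl c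
  have hcore := core' (A := A) (B := B)
    (k := (PrimeSpectrum.comap g.toRingHom q).asIdeal.ResidueField)
    (K := q.asIdeal.ResidueField)
    ((algebraMap C (PrimeSpectrum.comap g.toRingHom q).asIdeal.ResidueField).comp
      (algebraMap A C))
    ((algebraMap C' q.asIdeal.ResidueField).comp φ.toRingHom)
    (by
      intro a
      show algebraMap C' q.asIdeal.ResidueField (φ (algebraMap A B a)) = _
      rw [φ.commutes, ← g.commutes]
      exact (hmap _).symm)
    d (hdeg q) x hx
  obtain ⟨z, hz⟩ := hcore
  obtain ⟨a, s, hs, hzs⟩ := exists_residueField_div' (PrimeSpectrum.comap g.toRingHom q).asIdeal z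
  refine ⟨a, s, hs, ?_⟩
  rw [← Ideal.algebraMap_residueField_eq_zero, map_sub, map_mul, sub_eq_zero]
  have h1 := congrArg (algebraMap (PrimeSpectrum.comap g.toRingHom q).asIdeal.ResidueField
      q.asIdeal.ResidueField) hzs
  rw [map_mul, hmap, hmap, hz] at h1
  rw [mul_comm]
  exact h1

end Groth.Agent.S13839
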