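import Groth.Statements.S1556
import Mathlib
import Groth.Agent.Lib.Helper25.RegSepSmooth
import Groth.Agent.Lib.Helper14.CplReducedCrit
import Groth.Agent.Lib.Helper16.EtDim
set_option linter.style.haveILetI false

set_option autoImplicit false
universe u
open CategoryTheory CategoryTheory.Limits AlgebraicGeometry
attribute [local instance] Curv2.resAlgebra
open Variety

namespace Groth.Agent.S1556

/-- Let X be a curve over k (integral, separated, of finite type, of dimension one) and x a closed point
whose residue field is separable over k. Then the local ring at x is a discrete valuation ring if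
and only if x lies in the smooth locus of X → Spec k. -/
theorem result (k : Type u) [Field k] (X : Scheme.{u}) [X.Over (Spec (CommRingCat.of k))] [IsIntegral X]
    [IsSeparated (X ↘ (Spec (CommRingCat.of k)))] [LocallyOfFinitePresentation (X ↘ (Spec (CommRingCat.of k)))] [QuasiCompact (X ↘ (Spec (CommRingCat.of k)))]
    (hdim : topologicalKrullDim X = 1) (x : X) (hx : IsClosed ({x} : Set X))
    [Algebra.IsSeparable k (X.residueField x)] :
    IsDiscreteValuationRing (X.presheaf.stalk x) ↔ x ∈ (X ↘ (Spec (CommRingCat.of k))).smoothLocus := by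
  classical
  have hz : (X ↘ Spec (CommRingCat.of k)) x = genericPoint (Spec (CommRingCat.of k)) :=
    Subsingleton.elim _ _
  have hK : IsField ((Spec (CommRingCat.of k)).presheaf.stalk ((X ↘ Spec (CommRingCat.of k)) x)) := by
    rw [hz]
    exact Field.toIsField (Spec (CommRingCat.of k)).functionField
  letI : Field ((Spec (CommRingCat.of k)).presheaf.stalk ((X ↘ Spec (CommRingCat.of k)) x)) :=
    hK.toField
  letI alg : Algebra ((Spec (CommRingCat.of k)).presheaf.stalk ((X ↘ Spec (CommRingCat.of k)) x))
      (X.presheaf.stalk x) := ((X ↘ Spec (CommRingCat.of k)).stalkMap x).hom.toAlgebra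
  haveI : LocallyOfFiniteType (X ↘ Spec (CommRingCat.of k)) := inferInstance
  haveI : Algebra.EssFiniteType
      ((Spec (CommRingCat.of k)).presheaf.stalk ((X ↘ Spec (CommRingCat.of k)) x))
      (X.presheaf.stalk x) := LocallyOfFiniteType.stalkMap (X ↘ Spec (CommRingCat.of k)) x
  letI algk : Algebra k
      ((Spec (CommRingCat.of k)).presheaf.stalk ((X ↘ Spec (CommRingCat.of k)) x)) :=
    (((Spec (CommRingCat.of k)).presheaf.germ ⊤ ((X ↘ Spec (CommRingCat.of k)) x) trivial).hom.comp
      (Scheme.ΓSpecIso (CommRingCat.of k)).inv.hom).toAlgebra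
  letI algkκ : Algebra k (IsLocalRing.ResidueField (X.presheaf.stalk x)) := Curv2.resAlgebra k X x
  haveI htower : IsScalarTower k
      ((Spec (CommRingCat.of k)).presheaf.stalk ((X ↘ Spec (CommRingCat.of k)) x))
      (IsLocalRing.ResidueField (X.presheaf.stalk x)) := by
    refine IsScalarTower.of_algebraMap_eq (fun c => ?_)
    show (X.residue x).hom ((X.presheaf.germ ⊤ x trivial).hom
        (((X ↘ Spec (CommRingCat.of k)).appTop).hom
          ((Scheme.ΓSpecIso (CommRingCat.of k)).inv.hom c))) =
      IsLocalRing.residue _ (((X ↘ Spec (CommRingCat.of k)).stalkMap x).hom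
        (((Spec (CommRingCat.of k)).presheaf.germ ⊤ ((X ↘ Spec (CommRingCat.of k)) x) trivial).hom
          ((Scheme.ΓSpecIso (CommRingCat.of k)).inv.hom c)))
    congr 1
    exact (Scheme.Hom.germ_stalkMap_apply (X ↘ Spec (CommRingCat.of k)) ⊤ x trivial _).symm
  haveI hsep : Algebra.IsSeparable k (IsLocalRing.ResidueField (X.presheaf.stalk x)) :=
    ‹Algebra.IsSeparable k (X.residueField x)›
  have hiff : IsRegularLocalRing (X.presheaf.stalk x) ↔
      Algebra.FormallySmooth
        ((Spec (CommRingCat.of k)).presheaf.stalk ((X ↘ Spec (CommRingCat.of k)) x))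
        (X.presheaf.stalk x) :=
    Groth.Agent.Lib.Helper25.RegSepSmooth.isRegularLocalRing_iff_formallySmooth_of_isSeparable k
      ((Spec (CommRingCat.of k)).presheaf.stalk ((X ↘ Spec (CommRingCat.of k)) x))
      (X.presheaf.stalk x)
  rw [Scheme.Hom.mem_smoothLocus]
  change _ ↔ Algebra.FormallySmooth
    ((Spec (CommRingCat.of k)).presheaf.stalk ((X ↘ Spec (CommRingCat.of k)) x))
    (X.presheaf.stalk x)
  rw [← hiff]
  constructor
  · intro hdvr
    haveI := hdvr
    infer_instance
  · intro hreg
    haveI := hreg
    have hdim1 : ringKrullDim (X.presheaf.stalk x) = 1 := by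
      rw [AlgebraicGeometry.ringKrullDim_stalk_eq_coheight]
      have hle : (Order.coheight x : WithBot ℕ∞) ≤ 1 := by
        rw [← hdim, Groth.Agent.Lib.Helper16.EtDim.topologicalKrullDim_eq_krullDim X]
        exact Order.coheight_le_krullDim x
      have hne : Order.coheight x ≠ 0 := by
        intro h0
        rw [Order.coheight_eq_zero] at h0
        have hle' : x ≤ genericPoint X := Scheme.le_iff_specializes.mpr (genericPoint_specializes x)
        have hxg : x ⤳ genericPoint X := Scheme.le_iff_specializes.mp (h0 hle')
        have hmem : genericPoint X ∈ closure ({x} : Set X) := specializes_iff_mem_closure.mp hxg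
        rw [hx.closure_eq, Set.mem_singleton_iff] at hmem
        have huniv : ({x} : Set X) = Set.univ := by
          rw [← hx.closure_eq, ← hmem]
          exact genericPoint_spec X
        haveI : Subsingleton X := by
          refine ⟨fun a b => ?_⟩
          have ha : a ∈ ({x} : Set X) := huniv ▸ Set.mem_univ a
          have hb : b ∈ ({x} : Set X) := huniv ▸ Set.mem_univ b
          rw [Set.mem_singleton_iff] at ha hb
          rw [ha, hb]
        have h00 : topologicalKrullDim X ≤ 0 := topologicalKrullDim_zero_of_discreteTopology X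
        rw [hdim] at h00
        have h01 : ((1 : ℕ∞) : WithBot ℕ∞) ≤ ((0 : ℕ∞) : WithBot ℕ∞) := h00
        rw [WithBot.coe_le_coe] at h01
        exact absurd h01 (by simp)
      have h1 : Order.coheight x = 1 :=
        le_antisymm (by exact_mod_cast hle) (Order.one_le_iff_ne_zero.mpr hne)
      rw [h1]
      rfl
    exact Groth.Agent.Lib.Helper14.CplReducedCrit.isDiscreteValuationRing_of_isRegularLocalRing _ hdim1

end Groth.Agent.S1556
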