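import Groth.Statements.S13844
import Mathlib
import Groth.Agent.S1556
import Groth.Agent.Lib.Helper25.CurveDim
import Groth.Agent.Lib.Helper5.CodimOne
set_option linter.style.haveILetI false

set_option autoImplicit false
universe u
open CategoryTheory CategoryTheory.Limits AlgebraicGeometry
attribute [local instance] Curv2.resAlgebra
open Curves

namespace Groth.Agent.S13844

/-- Let K be a field and C a normal curve over K, namely an integral normal separated K-scheme of finite
type of dimension one, and let S be a set of closed points of C whose residue fields are separable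
over K. If the structure morphism of C is smooth at every point outside S, then it is smooth. (The
published statement takes S to be a closed subscheme finite étale over K, that is finitely many such
points; this row allows any set of closed points with separable residue fields.) -/
theorem result (K : Type u) [Field K] (C : Scheme.{u}) [C.Over (Spec (CommRingCat.of K))]
    [IsIntegral C] [IsSeparated (C ↘ (Spec (CommRingCat.of K)))] [LocallyOfFinitePresentation (C ↘ (Spec (CommRingCat.of K)))]
    [QuasiCompact (C ↘ (Spec (CommRingCat.of K)))] (hN : ∀ x : C, IsIntegrallyClosed (C.presheaf.stalk x))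
    (hdim : topologicalKrullDim C = 1) (S : Set C)
    (hS : ∀ x ∈ S, IsClosed ({x} : Set C) ∧ Algebra.IsSeparable K (C.residueField x))
    (hsm : ∀ x : C, x ∉ S → x ∈ (C ↘ (Spec (CommRingCat.of K))).smoothLocus) :
    AlgebraicGeometry.Smooth (C ↘ (Spec (CommRingCat.of K))) := by
  haveI : IsNoetherianRing (CommRingCat.of K) := inferInstanceAs (IsNoetherianRing K)
  haveI : LocallyOfFiniteType (C ↘ (Spec (CommRingCat.of K))) := inferInstance
  haveI : IsLocallyNoetherian C :=
    LocallyOfFiniteType.isLocallyNoetherian (C ↘ (Spec (CommRingCat.of K)))
  rw [← Scheme.Hom.smoothLocus_eq_top_iff, ← top_le_iff]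
  rintro x -
  by_cases hxS : x ∈ S
  · obtain ⟨hcl, hsep⟩ := hS x hxS
    haveI := hsep
    refine (Groth.Agent.S1556.result K C hdim x hcl).mp ?_
    have hco : Order.coheight x = 1 :=
      Groth.Agent.Lib.Helper25.CurveDim.coheight_eq_one_of_isClosed C hdim x hcl
    exact Groth.Agent.Lib.Helper5.CodimOne.isDiscreteValuationRing_of_coheight_eq_one
      (fun y => ⟨inferInstance, hN y⟩) hco
  · exact hsm x hxS

end Groth.Agent.S13844
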