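import Groth.Statements.S13846
import Mathlib

set_option autoImplicit false
universe u v
open TwSh

namespace Groth.Agent.S13846


namespace H13846


theorem main (k : Type u) [Field k] (V W : Type v) [AddCommGroup V] [Module k V]
    [FiniteDimensional k V] [Nontrivial V] [AddCommGroup W] [Module k W] [FiniteDimensional k W]
    (𝒱 : ℤ → Submodule k V) (h𝒱 : DirectSum.IsInternal 𝒱) (𝒲 : ℤ → Submodule k W)
    (h𝒲 : DirectSum.IsInternal 𝒲) (φ : Module.End k V ≃ₐ[k] Module.End k W)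
    (hφ : ∀ (d : ℤ) (f : Module.End k V), (∀ (i : ℤ) (x : V), x ∈ 𝒱 i → f x ∈ 𝒱 (i + d)) →
      ∀ (i : ℤ) (y : W), y ∈ 𝒲 i → φ f y ∈ 𝒲 (i + d)) :
    ∃ (n : ℤ) (g : V ≃ₗ[k] W),
      (∀ i : ℤ, Submodule.map (g : V →ₗ[k] W) (𝒱 i) = 𝒲 (i + n)) ∧
      (∀ f : Module.End k V, φ f = (g : V →ₗ[k] W) ∘ₗ f ∘ₗ (g.symm : W →ₗ[k] V)) ∧
      ∀ (n' : ℤ) (g' : V ≃ₗ[k] W),
        (∀ i : ℤ, Submodule.map (g' : V →ₗ[k] W) (𝒱 i) = 𝒲 (i + n')) →
        (∀ f : Module.End k V, φ f = (g' : V →ₗ[k] W) ∘ₗ f ∘ₗ (g'.symm : W →ₗ[k] V)) →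
        n' = n ∧ ∃ c : kˣ, ∀ x : V, g' x = c • g x := by
  classical
  obtain ⟨T, hT⟩ := AlgEquiv.eq_linearEquivConjAlgEquiv φ
  have hφT : ∀ (f : Module.End k V) (w : W), φ f w = T (f (T.symm w)) := by
    intro f w; rw [hT, LinearEquiv.conjAlgEquiv_apply]; rfl
  have hVtop : iSup 𝒱 = ⊤ := h𝒱.submodule_iSup_eq_top
  have hWtop : iSup 𝒲 = ⊤ := h𝒲.submodule_iSup_eq_top
  have hVind : iSupIndep 𝒱 := h𝒱.submodule_iSupIndep
  have hWind : iSupIndep 𝒲 := h𝒲.submodule_iSupIndep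
  obtain ⟨i₀, x₀, hx₀, hx₀0⟩ : ∃ i₀ x₀, x₀ ∈ 𝒱 i₀ ∧ x₀ ≠ 0 := by
    by_contra hcon
    push Not at hcon
    have h1 : iSup 𝒱 = ⊥ := by
      rw [eq_bot_iff]
      apply iSup_le
      intro i x hx
      rw [Submodule.mem_bot]
      exact hcon i x hx
    rw [hVtop] at h1
    exact top_ne_bot h1
  have hcompl : IsCompl (𝒱 i₀) (⨆ (l) (_ : l ≠ i₀), 𝒱 l) := by
    refine ⟨hVind i₀, ?_⟩
    rw [codisjoint_iff, ← iSup_split_single, hVtop]
  obtain ⟨ξ₀, hξ₀⟩ := Module.Projective.exists_dual_eq_one k (x := (⟨x₀, hx₀⟩ : 𝒱 i₀))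
    (by intro h; exact hx₀0 (congrArg Subtype.val h))
  obtain ⟨ξ, hξdef⟩ : ∃ ξ : V →ₗ[k] k,
      ξ = ξ₀ ∘ₗ Submodule.projectionOnto (𝒱 i₀) _ hcompl := ⟨_, rfl⟩
  have hξx₀ : ξ x₀ = 1 := by
    rw [hξdef, LinearMap.comp_apply, Submodule.projectionOnto_apply_of_mem_left hcompl hx₀]
    exact hξ₀
  have hξne : ∀ l, l ≠ i₀ → ∀ x ∈ 𝒱 l, ξ x = 0 := by
    intro l hl x hx
    have hx' : x ∈ ⨆ (l) (_ : l ≠ i₀), 𝒱 l :=
      Submodule.mem_iSup_of_mem l (Submodule.mem_iSup_of_mem hl hx)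
    rw [hξdef, LinearMap.comp_apply, Submodule.projectionOnto_apply_of_mem_right hcompl hx',
      map_zero]
  obtain ⟨a, w₀, hw₀, hηw₀⟩ : ∃ a w₀, w₀ ∈ 𝒲 a ∧ ξ (T.symm w₀) ≠ 0 := by
    by_contra hcon
    push Not at hcon
    have hle : iSup 𝒲 ≤ LinearMap.ker (ξ ∘ₗ T.symm.toLinearMap) := by
      apply iSup_le
      intro a w hw
      rw [LinearMap.mem_ker, LinearMap.comp_apply]
      exact hcon a w hw
    have h1 : T x₀ ∈ LinearMap.ker (ξ ∘ₗ T.symm.toLinearMap) := hle (hWtop ▸ Submodule.mem_top)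
    rw [LinearMap.mem_ker, LinearMap.comp_apply, LinearEquiv.coe_coe, T.symm_apply_apply,
      hξx₀] at h1
    exact one_ne_zero h1
  have hTmem : ∀ j y, y ∈ 𝒱 j → T y ∈ 𝒲 (j + (a - i₀)) := by
    intro j y hy
    have hhom : ∀ (i : ℤ) (x : V), x ∈ 𝒱 i → (ξ.smulRight y) x ∈ 𝒱 (i + (j - i₀)) := by
      intro i x hx
      rw [LinearMap.smulRight_apply]
      by_cases hi : i = i₀
      · have h1 : i + (j - i₀) = j := by rw [hi]; ring
        rw [h1]
        exact Submodule.smul_mem _ _ hy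
      · rw [hξne i hi x hx, zero_smul]
        exact Submodule.zero_mem _
    have h1 := hφ (j - i₀) (ξ.smulRight y) hhom a w₀ hw₀
    rw [hφT, LinearMap.smulRight_apply, map_smul] at h1
    have h2 : T y = (ξ (T.symm w₀))⁻¹ • (ξ (T.symm w₀) • T y) := by
      rw [smul_smul, inv_mul_cancel₀ hηw₀, one_smul]
    rw [h2]
    have h3 : j + (a - i₀) = a + (j - i₀) := by ring
    rw [h3]
    exact Submodule.smul_mem _ _ h1
  have hmap : ∀ i, Submodule.map (T : V →ₗ[k] W) (𝒱 i) = 𝒲 (i + (a - i₀)) := by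
    intro i
    apply le_antisymm
    · rintro _ ⟨y, hy, rfl⟩
      exact hTmem i y hy
    · intro w hw
      have hv : T.symm w ∈ (⊤ : Submodule k V) := Submodule.mem_top
      rw [← hVtop, iSup_split_single 𝒱 i, Submodule.mem_sup] at hv
      obtain ⟨v₁, hv₁, v₂, hv₂, hsum⟩ := hv
      have hTv₂ : T v₂ ∈ ⨆ (b) (_ : b ≠ i + (a - i₀)), 𝒲 b := by
        have hle : (⨆ (l) (_ : l ≠ i), 𝒱 l) ≤ Submodule.comap (T : V →ₗ[k] W)
            (⨆ (b) (_ : b ≠ i + (a - i₀)), 𝒲 b) := by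
          apply iSup₂_le
          intro l hl y hy
          rw [Submodule.mem_comap]
          exact Submodule.mem_iSup_of_mem (l + (a - i₀))
            (Submodule.mem_iSup_of_mem (by intro h; apply hl; linarith) (hTmem l y hy))
        exact hle hv₂
      have hTv₂' : T v₂ ∈ 𝒲 (i + (a - i₀)) := by
        have h1 : T v₂ = w - T v₁ := by
          rw [eq_sub_iff_add_eq, add_comm, ← map_add, hsum, T.apply_symm_apply]
        rw [h1]
        exact Submodule.sub_mem _ hw (hTmem i v₁ hv₁)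
      have h0 : T v₂ = 0 := by
        have h1 := (hWind (i + (a - i₀))).le_bot (Submodule.mem_inf.2 ⟨hTv₂', hTv₂⟩)
        exact (Submodule.mem_bot k).1 h1
      have hv₂0 : v₂ = 0 := T.map_eq_zero_iff.1 h0
      refine ⟨v₁, hv₁, ?_⟩
      rw [hv₂0, add_zero] at hsum
      rw [LinearEquiv.coe_coe, hsum]
      exact T.apply_symm_apply w
  refine ⟨a - i₀, T, hmap, fun f => by rw [hT]; rfl, ?_⟩
  intro n' g' hmap' hconj'
  have hconj : g'.conjAlgEquiv k = T.conjAlgEquiv k := by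
    apply AlgEquiv.ext
    intro f
    rw [LinearEquiv.conjAlgEquiv_apply, ← hconj' f, hT]
  obtain ⟨α, hα⟩ := (LinearEquiv.conjAlgEquiv_ext_iff' g' T).1 hconj
  have hg' : ∀ x : V, g' x = α • T x := by
    intro x; rw [hα]; rfl
  refine ⟨?_, α, hg'⟩
  by_contra hne
  have h1 : g' x₀ ∈ 𝒲 (i₀ + n') := by
    rw [← hmap' i₀]
    exact ⟨x₀, hx₀, rfl⟩
  have h2 : g' x₀ ∈ 𝒲 (i₀ + (a - i₀)) := by
    rw [hg']
    exact Submodule.smul_mem _ _ (hTmem i₀ x₀ hx₀)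
  have hne' : i₀ + n' ≠ i₀ + (a - i₀) := fun h => hne (add_left_cancel h)
  have h3 := (hWind.pairwiseDisjoint hne').le_bot (Submodule.mem_inf.2 ⟨h1, h2⟩)
  have h4 : g' x₀ = 0 := (Submodule.mem_bot k).1 h3
  exact hx₀0 (g'.map_eq_zero_iff.1 h4)

end H13846

/-- Let k be a field and V, W finite-dimensional ℤ-graded k-vector spaces, V = ⊕ V_i with V ≠ 0 and W =
⊕ W_i. Let φ : End_k(V) ≃ End_k(W) be a k-algebra isomorphism which sends every endomorphism
homogeneous of degree d (one mapping V_i into V_{i+d} for all i) to an endomorphism homogeneous of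
degree d. Then there are an integer n and a k-linear isomorphism g : V ≅ W with g(V_i) = W_{i+n} for
every i such that φ(f) = g ∘ f ∘ g⁻¹ for all f; moreover n is unique and g is unique up to a nonzero
scalar: if g' : V ≅ W satisfies g'(V_i) = W_{i+n'} for all i and φ(f) = g' ∘ f ∘ g'⁻¹ for all f,
then n' = n and g' = c·g for some c ∈ kˣ. (The published statement is about non-zero perfect
complexes over k: an isomorphism of their derived endomorphism algebras, as algebra objects of the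
derived category, is induced by an isomorphism from the first complex to a shift of the second, for
a unique shift and up to a unit; this row is its form for finite-dimensional ℤ-graded vector spaces,
to which the bounded derived category of a field is equivalent by taking cohomology.) -/
theorem result (k : Type u) [Field k] (V W : Type v) [AddCommGroup V] [Module k V] [FiniteDimensional k V] [Nontrivial V] [AddCommGroup W] [Module k W] [FiniteDimensional k W] (𝒱 : ℤ → Submodule k V) (h𝒱 : DirectSum.IsInternal 𝒱) (𝒲 : ℤ → Submodule k W) (h𝒲 : DirectSum.IsInternal 𝒲) (φ : Module.End k V ≃ₐ[k] Module.End k W) (hφ : ∀ (d : ℤ) (f : Module.End k V), (∀ (i : ℤ) (x : V), x ∈ 𝒱 i → f x ∈ 𝒱 (i + d)) → ∀ (i : ℤ) (y : W), y ∈ 𝒲 i → φ f y ∈ 𝒲 (i + d)) : ∃ (n : ℤ) (g : V ≃ₗ[k] W), (∀ i : ℤ, Submodule.map (g : V →ₗ[k] W) (𝒱 i) = 𝒲 (i + n)) ∧ (∀ f : Module.End k V, φ f = (g : V →ₗ[k] W) ∘ₗ f ∘ₗ (g.symm : W →ₗ[k] V))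 ∧ ∀ (n' : ℤ) (g' : V ≃ₗ[k] W), (∀ i : ℤ, Submodule.map (g' : V →ₗ[k] W) (𝒱 i) = 𝒲 (i + n')) → (∀ f : Module.End k V, φ f = (g' : V →ₗ[k] W) ∘ₗ f ∘ₗ (g'.symm : W →ₗ[k] V)) → n' = n ∧ ∃ c : kˣ, ∀ x : V, g' x = c • g x := by
  exact H13846.main k V W 𝒱 h𝒱 𝒲 h𝒲 φ hφ

end Groth.Agent.S13846
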