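import Groth.Statements.S13848
import Mathlib

set_option autoImplicit false
universe u v
open TwSh

namespace Groth.Agent.S13848

/-- Let A be a ring with A/J a simple left-Artinian ring, J the Jacobson radical, and let P be a
non-zero finitely generated projective left A-module. An A-linear automorphism u of P which commutes
with every A-linear endomorphism of P (equivalently, induces the identity on End_A(P) by
conjugation) is scalar multiplication by a unique central element a of A: u(x) = a·x for all x ∈ P,
and a is determined by u. (So the automorphisms of P acting trivially on End_A(P) are exactly the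
central units of A acting by scalars; the published assertion does not exclude P = 0, where
uniqueness fails.) -/
theorem result (A : Type u) [Ring A] [IsSimpleRing (A ⧸ Ring.jacobson A)] [IsArtinianRing (A ⧸ Ring.jacobson A)] (P : Type v) [AddCommGroup P] [Module A P] [Module.Finite A P] [Module.Projective A P] [Nontrivial P] (u : P ≃ₗ[A] P) (hu : ∀ f : Module.End A P, (u : P →ₗ[A] P) ∘ₗ f = f ∘ₗ (u : P →ₗ[A] P)) : ∃! a : A, (∀ b : A, a * b = b * a) ∧ ∀ x : P, u x = a • x := by
  classical
  let T : Ideal A := Submodule.span A {a | ∃ (f : P →ₗ[A] A) (x : P), a = f x}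
  have hgen : ∀ (f : P →ₗ[A] A) (x : P), f x ∈ T := fun f x => Submodule.subset_span ⟨f, x, rfl⟩
  have hT_right : ∀ t ∈ T, ∀ b : A, t * b ∈ T := by
    intro t ht b
    refine Submodule.span_induction (p := fun t _ => t * b ∈ T) ?_ ?_ ?_ ?_ ht
    · rintro _ ⟨f, x, rfl⟩
      have : f x * b = ((LinearMap.toSpanSingleton A A b) ∘ₗ f) x := by
        simp [LinearMap.toSpanSingleton_apply]
      rw [this]
      exact hgen _ _
    · rw [zero_mul]
      exact zero_mem _
    · intro x y _ _ hx hy
      rw [add_mul]
      exact add_mem hx hy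
    · intro c x _ hx
      rw [smul_eq_mul, mul_assoc]
      exact T.mul_mem_left c hx
  have hTtop : T = ⊤ := by
    by_contra hne
    by_cases hTJ : T ≤ Ring.jacobson A
    · obtain ⟨n, φ, g, -, -, hφg⟩ := Module.Finite.exists_comp_eq_id_of_projective A P
      have hle : (⊤ : Submodule A P) ≤ Ring.jacobson A • (⊤ : Submodule A P) := by
        intro x _
        have hx : x = ∑ i, (g x i) • φ (Pi.single i 1) := by
          have h1 : φ (g x) = x := LinearMap.congr_fun hφg x
          conv_lhs => rw [← h1]
          have h2 : g x = ∑ i, (g x i) • (Pi.single i 1 : Fin n → A) := by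
            funext j
            simp [Finset.sum_apply, Pi.single_apply]
          conv_lhs => rw [h2]
          rw [map_sum]
          exact Finset.sum_congr rfl (fun i _ => map_smul φ _ _)
        rw [hx]
        refine Submodule.sum_mem _ (fun i _ => ?_)
        refine Submodule.smul_mem_smul (hTJ ?_) Submodule.mem_top
        exact hgen ((LinearMap.proj i) ∘ₗ g) x
      have hbot := Submodule.FG.eq_bot_of_le_jacobson_smul
        (Module.Finite.fg_top (R := A) (M := P)) hle
      exact top_ne_bot hbot
    · let mk : A →+* (A ⧸ Ring.jacobson A) := Ideal.Quotient.mk (Ring.jacobson A)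
      let I : TwoSidedIdeal (A ⧸ Ring.jacobson A) :=
        TwoSidedIdeal.mk' {ā | ∃ t ∈ T, mk t = ā}
          ⟨0, zero_mem _, map_zero _⟩
          (by
            rintro _ _ ⟨t, ht, rfl⟩ ⟨t', ht', rfl⟩
            exact ⟨t + t', add_mem ht ht', map_add _ _ _⟩)
          (by
            rintro _ ⟨t, ht, rfl⟩
            exact ⟨-t, neg_mem ht, map_neg _ _⟩)
          (by
            rintro x _ ⟨t, ht, rfl⟩
            obtain ⟨b, rfl⟩ := Ideal.Quotient.mk_surjective x
            exact ⟨b * t, T.mul_mem_left b ht, map_mul _ _ _⟩)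
          (by
            rintro _ y ⟨t, ht, rfl⟩
            obtain ⟨b, rfl⟩ := Ideal.Quotient.mk_surjective y
            exact ⟨t * b, hT_right t ht b, map_mul _ _ _⟩)
      rcases eq_bot_or_eq_top I with hI | hI
      · apply hTJ
        intro t ht
        have hmem : mk t ∈ I := (TwoSidedIdeal.mem_mk' _ _ _ _ _ _ _).2 ⟨t, ht, rfl⟩
        rw [hI, TwoSidedIdeal.mem_bot] at hmem
        exact Ideal.Quotient.eq_zero_iff_mem.1 hmem
      · have h1 : (1 : A ⧸ Ring.jacobson A) ∈ I := by
          rw [hI]
          trivial
        obtain ⟨t, ht, ht1⟩ := (TwoSidedIdeal.mem_mk' _ _ _ _ _ _ _).1 h1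
        have hj : 1 - t ∈ Ring.jacobson A := by
          rw [← Ideal.Quotient.eq_zero_iff_mem, map_sub, map_one, sub_eq_zero]
          exact ht1.symm
        obtain ⟨m, hm, hTm⟩ := Ideal.exists_le_maximal T hne
        have hjm : 1 - t ∈ m := by
          haveI := hm
          exact Ring.jacobson_le_of_isMaximal m hj
        have h1m : (1 : A) ∈ m := by
          have := m.add_mem hjm (hTm ht)
          simpa using this
        exact hm.ne_top ((Ideal.eq_top_iff_one m).2 h1m)
  have key : ∀ t ∈ T, ∃ a : A, ∀ y : P, a • y = t • u y := by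
    intro t ht
    refine Submodule.span_induction (p := fun t _ => ∃ a : A, ∀ y : P, a • y = t • u y)
      ?_ ?_ ?_ ?_ ht
    · rintro _ ⟨f, z, rfl⟩
      refine ⟨f (u z), fun y => ?_⟩
      let θ : Module.End A P := (LinearMap.toSpanSingleton A P y) ∘ₗ f
      have h := LinearMap.congr_fun (hu θ) z
      simp only [LinearMap.comp_apply, LinearEquiv.coe_coe, θ,
        LinearMap.toSpanSingleton_apply] at h
      rw [← h, map_smul]
    · exact ⟨0, fun y => by rw [zero_smul, zero_smul]⟩
    · rintro x y _ _ ⟨a, ha⟩ ⟨b, hb⟩
      exact ⟨a + b, fun z => by rw [add_smul, add_smul, ha, hb]⟩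
    · rintro c x _ ⟨a, ha⟩
      exact ⟨c * a, fun z => by rw [mul_smul, ha, smul_eq_mul, mul_smul]⟩
  have faithful : ∀ c : A, (∀ x : P, c • x = 0) → c = 0 := by
    intro c hc
    have hall : ∀ t ∈ T, ∀ c' : A, (∀ x : P, c' • x = 0) → c' * t = 0 := by
      intro t ht
      refine Submodule.span_induction
        (p := fun t _ => ∀ c' : A, (∀ x : P, c' • x = 0) → c' * t = 0) ?_ ?_ ?_ ?_ ht
      · rintro _ ⟨f, x, rfl⟩ c' hc'
        rw [← smul_eq_mul, ← map_smul, hc', map_zero]
      · intro c' _
        exact mul_zero c'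
      · intro x y _ _ hx hy c' hc'
        rw [mul_add, hx c' hc', hy c' hc', add_zero]
      · intro b x _ hx c' hc'
        rw [smul_eq_mul, ← mul_assoc]
        exact hx (c' * b) (fun z => by rw [mul_smul]; exact hc' (b • z))
    have h1T : (1 : A) ∈ T := by
      rw [hTtop]
      exact Submodule.mem_top
    have := hall 1 h1T c hc
    rwa [mul_one] at this
  have h1T : (1 : A) ∈ T := by
    rw [hTtop]
    exact Submodule.mem_top
  obtain ⟨a, ha⟩ := key 1 h1T
  have ha' : ∀ x, u x = a • x := fun x => by rw [ha x, one_smul]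
  refine ⟨a, ⟨?_, ha'⟩, ?_⟩
  · intro b
    have : a * b - b * a = 0 := faithful _ (fun x => by
      rw [sub_smul, mul_smul, mul_smul, ← ha' x, ← ha' (b • x), map_smul, sub_self])
    exact sub_eq_zero.1 this
  · rintro a' ⟨_, ha''⟩
    have : a' - a = 0 := faithful _ (fun x => by rw [sub_smul, ← ha'' x, ← ha' x, sub_self])
    exact sub_eq_zero.1 this

end Groth.Agent.S13848
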