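import Groth.Statements.S13860
import Mathlib.GroupTheory.Coset.Card
import Mathlib.GroupTheory.GroupAction.Quotient
import Mathlib.Tactic
-- import your own Groth.Agent.* helpers here

set_option autoImplicit false
universe u v w
open ModRep

namespace Groth.Agent.S13860

section
variable {k : Type u} [Field k] {G : Type v} [Group G] [Finite G] (P : Subgroup G)
    {B : Type w} {C : Type w} [AddCommGroup B] [Module k B] [AddCommGroup C] [Module k C]
    (ρB : Representation k G B) (ρC : Representation k G C)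

/-- conjugate of a linear map by a group element -/
noncomputable def conj (s : C →ₗ[k] B) (x : G) : C →ₗ[k] B := ρB x ∘ₗ s ∘ₗ ρC x⁻¹

theorem conj_mul_of_mem (s : C →ₗ[k] B) (hs : ∀ x : G, x ∈ P → s ∘ₗ ρC x = ρB x ∘ₗ s)
    (x : G) (y : G) (hy : y ∈ P) : conj ρB ρC s (x * y) = conj ρB ρC s x := by
  unfold conj
  rw [mul_inv_rev, map_mul, map_mul]
  have h1 : ρB y ∘ₗ s ∘ₗ ρC y⁻¹ = s := by
    rw [← LinearMap.comp_assoc, ← hs y hy, LinearMap.comp_assoc]
    have : ρC y ∘ₗ ρC y⁻¹ = LinearMap.id := by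
      rw [← Module.End.mul_eq_comp, ← map_mul, mul_inv_cancel, map_one]; rfl
    rw [this, LinearMap.comp_id]
  calc (ρB x * ρB y) ∘ₗ s ∘ₗ (ρC y⁻¹ * ρC x⁻¹)
      = ρB x ∘ₗ (ρB y ∘ₗ s ∘ₗ ρC y⁻¹) ∘ₗ ρC x⁻¹ := by
        simp only [Module.End.mul_eq_comp, LinearMap.comp_assoc]
    _ = ρB x ∘ₗ s ∘ₗ ρC x⁻¹ := by rw [h1]

/-- the conjugate descends to the coset space -/
noncomputable def conjQ (s : C →ₗ[k] B) (hs : ∀ x : G, x ∈ P → s ∘ₗ ρC x = ρB x ∘ₗ s) :
    G ⧸ P → (C →ₗ[k] B) :=
  Quotient.lift (s := QuotientGroup.leftRel P) (conj ρB ρC s) (by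
    intro a b hab
    have hab' : a⁻¹ * b ∈ P := QuotientGroup.leftRel_apply.1 hab
    have := conj_mul_of_mem P ρB ρC s hs a (a⁻¹ * b) hab'
    rw [mul_inv_cancel_left] at this
    exact this.symm)

theorem conjQ_mk (s : C →ₗ[k] B) (hs : ∀ x : G, x ∈ P → s ∘ₗ ρC x = ρB x ∘ₗ s) (x : G) :
    conjQ P ρB ρC s hs (QuotientGroup.mk x) = conj ρB ρC s x := rfl

theorem conjQ_smul (s : C →ₗ[k] B) (hs : ∀ x : G, x ∈ P → s ∘ₗ ρC x = ρB x ∘ₗ s) (y : G)
    (c : G ⧸ P) : ρB y ∘ₗ conjQ P ρB ρC s hs c ∘ₗ ρC y⁻¹ = conjQ P ρB ρC s hs (y • c) := by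
  induction c using QuotientGroup.induction_on with
  | H x =>
    rw [MulAction.Quotient.smul_mk, conjQ_mk, conjQ_mk]
    unfold conj
    rw [smul_eq_mul, mul_inv_rev, map_mul, map_mul]
    simp only [Module.End.mul_eq_comp, LinearMap.comp_assoc]

end

/-- For k a field of characteristic p > 0, G a finite group and P a Sylow p-subgroup of G, a short exact
sequence of k[G]-modules has a k[G]-linear splitting exactly when it has a k[P]-linear one. Stated
here for the surjection of the sequence: a G-equivariant k-linear map g : B → C between k-linear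
representations of G admits a G-equivariant k-linear section if and only if it admits a
P-equivariant k-linear section. -/
theorem result {k : Type u} [Field k] (p : ℕ) [Fact p.Prime]
    [CharP k p] {G : Type v} [Group G] [Finite G] (P : Sylow p G)
    {B C : Type w} [AddCommGroup B] [Module k B] [AddCommGroup C] [Module k C]
    (ρB : Representation k G B) (ρC : Representation k G C)
    (g : B →ₗ[k] C) (hg : ∀ x : G, g ∘ₗ ρB x = ρC x ∘ₗ g) :
    (∃ s : C →ₗ[k] B, g ∘ₗ s = LinearMap.id ∧ ∀ x : G, s ∘ₗ ρC x = ρB x ∘ₗ s) ↔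
      (∃ s : C →ₗ[k] B, g ∘ₗ s = LinearMap.id ∧ ∀ x : G, x ∈ P → s ∘ₗ ρC x = ρB x ∘ₗ s) := by
  classical
  constructor
  · rintro ⟨s, hs1, hs2⟩
    exact ⟨s, hs1, fun x _ => hs2 x⟩
  · rintro ⟨s, hs1, hs2⟩
    haveI : Fintype (G ⧸ (P : Subgroup G)) := Fintype.ofFinite _
    set N : ℕ := Fintype.card (G ⧸ (P : Subgroup G)) with hN
    have hNk : (N : k) ≠ 0 := by
      have hindex : (P : Subgroup G).index = N := by
        rw [Subgroup.index, Nat.card_eq_fintype_card]
      have hnd : ¬ p ∣ N := by rw [← hindex]; exact P.not_dvd_index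
      intro h0
      exact hnd ((CharP.cast_eq_zero_iff k p N).1 h0)
    set T : C →ₗ[k] B := ∑ c : G ⧸ (P : Subgroup G), conjQ (P : Subgroup G) ρB ρC s hs2 c with hT
    refine ⟨(N : k)⁻¹ • T, ?_, ?_⟩
    · -- section
      have hgc : ∀ (c : G ⧸ (P : Subgroup G)) (v : C), g (conjQ (P : Subgroup G) ρB ρC s hs2 c v) = v := by
        intro c v
        induction c using QuotientGroup.induction_on with
        | H x =>
          rw [conjQ_mk]
          unfold conj
          simp only [LinearMap.comp_apply]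
          have h1 := LinearMap.congr_fun (hg x) (s (ρC x⁻¹ v))
          simp only [LinearMap.comp_apply] at h1
          rw [h1]
          have h2 := LinearMap.congr_fun hs1 (ρC x⁻¹ v)
          simp only [LinearMap.comp_apply, LinearMap.id_apply] at h2
          rw [h2]
          have h3 : ρC x (ρC x⁻¹ v) = (ρC (x * x⁻¹)) v := by rw [map_mul]; rfl
          rw [h3, mul_inv_cancel, map_one]; rfl
      ext v
      simp only [LinearMap.comp_apply, LinearMap.smul_apply, LinearMap.id_apply, hT,
        LinearMap.sum_apply, map_smul, map_sum, hgc]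
      rw [Finset.sum_const, Finset.card_univ, ← hN, ← Nat.cast_smul_eq_nsmul k, smul_smul,
        inv_mul_cancel₀ hNk, one_smul]
    · intro x
      have hinv : ∀ v : C, ρB x (T (ρC x⁻¹ v)) = T v := by
        intro v
        rw [hT]
        simp only [LinearMap.sum_apply, map_sum]
        have hterm : ∀ c : G ⧸ (P : Subgroup G), ρB x (conjQ (P : Subgroup G) ρB ρC s hs2 c (ρC x⁻¹ v))
            = conjQ (P : Subgroup G) ρB ρC s hs2 (x • c) v := by
          intro c
          have := LinearMap.congr_fun (conjQ_smul (P : Subgroup G) ρB ρC s hs2 x c) v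
          simpa only [LinearMap.comp_apply] using this
        simp only [hterm]
        exact Fintype.sum_equiv (MulAction.toPerm x) _ _ (fun c => rfl)
      ext v
      simp only [LinearMap.comp_apply, LinearMap.smul_apply, map_smul]
      congr 1
      have h3 : ρC x⁻¹ (ρC x v) = v := by
        have : ρC x⁻¹ (ρC x v) = (ρC (x⁻¹ * x)) v := by rw [map_mul]; rfl
        rw [this, inv_mul_cancel, map_one]; rfl
      have := hinv (ρC x v)
      rw [h3] at this
      exact this.symm

end Groth.Agent.S13860
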