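import Groth.Statements.S13877
import Mathlib
import Groth.Agent.Lib.Helper25.CrimpLen
open Groth.Agent.Lib.Helper25.CrimpLen

set_option autoImplicit false
universe u v
open Crimp

namespace Groth.Agent.S13877

/-- Over R = k⟦t⟧ with k an algebraically closed field of characteristic zero, let S' be a commutative
R-algebra with an R-basis of size d whose discriminant generates the ideal (t ^ a) (a finite cover
of the formal disk of degree d, unramified over the punctured disk, with branch divisor (t ^ a)),
and let S be an R-subalgebra of S' with an R-basis of size d whose discriminant generates (t ^ b) (a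
crimp with branch divisor (t ^ b)). Then t ^ b annihilates S' / S and twice the R-length of S' / S
plus a equals b. (The published statement is for a family of such subalgebras over a k-scheme T and
also asserts T-flatness of the quotient; this row is its restriction to T a point.) -/
theorem result {k : Type u} [Field k] [IsAlgClosed k] [CharZero k]
    {St : Type v} [CommRing St] [Algebra (PowerSeries k) St] (d a b : ℕ)
    (bt : Module.Basis (Fin d) (PowerSeries k) St)
    (ha : Ideal.span {Algebra.discr (PowerSeries k) ⇑bt} = Ideal.span {(PowerSeries.X : PowerSeries k) ^ a})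
    (S : Subalgebra (PowerSeries k) St) (bS : Module.Basis (Fin d) (PowerSeries k) S)
    (hb : Ideal.span {Algebra.discr (PowerSeries k) ⇑bS} = Ideal.span {(PowerSeries.X : PowerSeries k) ^ b}) :
    (∀ q : St ⧸ Subalgebra.toSubmodule S, ((PowerSeries.X : PowerSeries k) ^ b) • q = 0) ∧
    2 * Module.length (PowerSeries k) (St ⧸ Subalgebra.toSubmodule S) + (a : ℕ∞) = (b : ℕ∞) := by
  classical
  have hX : Irreducible (PowerSeries.X : PowerSeries k) := PowerSeries.X_irreducible
  have hX0 : (PowerSeries.X : PowerSeries k) ≠ 0 := hX.ne_zero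
  have hordX : Ring.ord (PowerSeries k) (PowerSeries.X : PowerSeries k) = 1 :=
    Ring.ord_of_irreducible hX
  have hordpow : ∀ m : ℕ,
      Ring.ord (PowerSeries k) ((PowerSeries.X : PowerSeries k) ^ m) = (m : ℕ∞) := by
    intro m
    rw [Ring.ord_pow (mem_nonZeroDivisors_of_ne_zero hX0), hordX, nsmul_one]
  have hA : Associated (Algebra.discr (PowerSeries k) ⇑bt)
      ((PowerSeries.X : PowerSeries k) ^ a) := Ideal.span_singleton_eq_span_singleton.1 ha
  have hB : Associated (Algebra.discr (PowerSeries k) ⇑bS)
      ((PowerSeries.X : PowerSeries k) ^ b) := Ideal.span_singleton_eq_span_singleton.1 hb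
  have hrel := discr_rel bt S bS
  have hdet0 := detQ_ne_zero bt S bS
  have hdt0 : Algebra.discr (PowerSeries k) ⇑bt ≠ 0 := by
    intro h0
    rw [h0] at hA
    exact pow_ne_zero a hX0 ((associated_zero_iff_eq_zero _).1 hA.symm)
  have hlen : Module.length (PowerSeries k) (St ⧸ Subalgebra.toSubmodule S) =
      Ring.ord (PowerSeries k) (Q bt S bS).det := by
    rw [length_quot_eq_ord_det bt (Subalgebra.toSubmodule S) bS, Module.Basis.det_apply, Q_eq]
    rfl
  constructor
  · intro q
    obtain ⟨y, rfl⟩ := Submodule.Quotient.mk_surjective _ q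
    rw [← Submodule.Quotient.mk_smul, Submodule.Quotient.mk_eq_zero]
    obtain ⟨u, hu⟩ := hB
    rw [← hu, hrel]
    have h1 : ((Q bt S bS).det ^ 2 * Algebra.discr (PowerSeries k) ⇑bt * ↑u) • y
        = ((Q bt S bS).det * Algebra.discr (PowerSeries k) ⇑bt * ↑u) •
          ((Q bt S bS).det • y) := by
      rw [smul_smul]; congr 1; ring
    rw [h1]
    exact Submodule.smul_mem _ _ (det_smul_mem bt S bS y)
  · rw [hlen, ← hordpow a, ← hordpow b, ← Ring.ord_eq_of_associated hA,
      ← Ring.ord_eq_of_associated hB, hrel,
      Ring.ord_mul _ (mem_nonZeroDivisors_of_ne_zero hdt0),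
      Ring.ord_pow (mem_nonZeroDivisors_of_ne_zero hdet0), two_nsmul, two_mul]

end Groth.Agent.S13877
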