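import Groth.Statements.S13878
import Mathlib

set_option autoImplicit false
universe u
open Crimp

namespace Groth.Agent.S13878

section Aux
open PowerSeries Pointwise
variable {k : Type*} [Field k]

theorem span_X_le_jacobson : Ideal.span {(X : k⟦X⟧)} ≤ Ideal.jacobson ⊥ := by
  rw [Ideal.span_le, Set.singleton_subset_iff, SetLike.mem_coe, Ideal.mem_jacobson_bot]
  intro y
  rw [PowerSeries.isUnit_iff_constantCoeff]
  simp

theorem eq_top_of_forall_exists (P : Submodule k⟦X⟧ (Fin 3 → k⟦X⟧))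
    (h : ∀ x : Fin 3 → k⟦X⟧, ∃ p ∈ P, ∃ y : Fin 3 → k⟦X⟧, x = p + (X : k⟦X⟧) • y) :
    P = ⊤ := by
  rw [eq_top_iff]
  refine Submodule.le_of_le_smul_of_le_jacobson_bot (I := Ideal.span {(X : k⟦X⟧)})
    Module.Finite.fg_top span_X_le_jacobson ?_
  intro x _
  obtain ⟨p, hp, y, rfl⟩ := h x
  exact Submodule.add_mem_sup hp
    (Submodule.smul_mem_smul (Ideal.subset_span (Set.mem_singleton _)) Submodule.mem_top)

theorem mem_span_smul_top (a : k⟦X⟧) (x : Fin 3 → k⟦X⟧) :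
    x ∈ Ideal.span {a} • (⊤ : Submodule k⟦X⟧ (Fin 3 → k⟦X⟧)) ↔
      ∃ y : Fin 3 → k⟦X⟧, a • y = x := by
  rw [Submodule.ideal_span_singleton_smul, Submodule.mem_smul_pointwise_iff_exists]
  simp

theorem exists_X_smul (x : Fin 3 → k⟦X⟧) (h : ∀ i, constantCoeff (x i) = 0) :
    ∃ y : Fin 3 → k⟦X⟧, (X : k⟦X⟧) • y = x := by
  have h' : ∀ i, ∃ z : k⟦X⟧, x i = X * z := fun i => X_dvd_iff.mpr (h i)
  choose y hy using h'
  exact ⟨y, funext fun i => by rw [Pi.smul_apply, smul_eq_mul, hy i]⟩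

theorem mem_N1_iff (x : Fin 3 → k⟦X⟧) :
    x ∈ Submodule.span k⟦X⟧ {(1 : Fin 3 → k⟦X⟧)} ⊔
        Ideal.span {(X : k⟦X⟧)} • (⊤ : Submodule k⟦X⟧ (Fin 3 → k⟦X⟧)) ↔
      ∃ c : k, ∀ i, constantCoeff (x i) = c := by
  constructor
  · intro hx
    obtain ⟨u, hu, v, hv, rfl⟩ := Submodule.mem_sup.mp hx
    obtain ⟨a, rfl⟩ := Submodule.mem_span_singleton.mp hu
    obtain ⟨y, rfl⟩ := (mem_span_smul_top _ _).mp hv
    exact ⟨constantCoeff a, fun i => by simp⟩
  · rintro ⟨c, hc⟩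
    obtain ⟨y, hy⟩ := exists_X_smul (x - C c • (1 : Fin 3 → k⟦X⟧)) (fun i => by simp [hc i])
    have hx : x = C c • (1 : Fin 3 → k⟦X⟧) + (X : k⟦X⟧) • y := by rw [hy]; abel
    rw [hx]
    exact Submodule.add_mem_sup
      (Submodule.smul_mem _ _ (Submodule.subset_span (Set.mem_singleton _)))
      ((mem_span_smul_top _ _).mpr ⟨y, rfl⟩)

theorem exists_dep (v₀ v₁ v₂ v₃ : Fin 3 → k) :
    ∃ c₀ c₁ c₂ c₃ : k, ¬ (c₀ = 0 ∧ c₁ = 0 ∧ c₂ = 0 ∧ c₃ = 0) ∧
      ∀ j, c₀ * v₀ j + c₁ * v₁ j + c₂ * v₂ j + c₃ * v₃ j = 0 := by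
  have h : ¬ LinearIndependent k ![v₀, v₁, v₂, v₃] := by
    intro hli
    have := hli.fintype_card_le_finrank
    rw [Fintype.card_fin, Module.finrank_fin_fun] at this
    omega
  obtain ⟨c, hc, i, hi⟩ := Fintype.not_linearIndependent_iff.mp h
  refine ⟨c 0, c 1, c 2, c 3, ?_, fun j => ?_⟩
  · rintro ⟨h0, h1, h2, h3⟩
    fin_cases i <;> simp_all
  · have := congrFun hc j
    simpa [Fin.sum_univ_four] using this

theorem cc_comb (a b c : k) (u₁ u₂ u₃ x : Fin 3 → k⟦X⟧) (j : Fin 3) :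
    constantCoeff ((x - (C a • u₁ + C b • u₂ + C c • u₃)) j) =
      constantCoeff (x j) -
        (a * constantCoeff (u₁ j) + b * constantCoeff (u₂ j) + c * constantCoeff (u₃ j)) := by
  simp

theorem smul_one_quot (I : Ideal k⟦X⟧) (b : k⟦X⟧) :
    b • (1 : k⟦X⟧ ⧸ I) = Ideal.Quotient.mk I b := by
  have h : b • (Ideal.Quotient.mk I (1 : k⟦X⟧)) = Ideal.Quotient.mk I (b * 1) := rfl
  rw [mul_one] at h
  exact h

theorem smul_add_smul_eq (I J : Ideal k⟦X⟧) (b c : k⟦X⟧) :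
    b • ((1 : k⟦X⟧ ⧸ I), (0 : k⟦X⟧ ⧸ J)) + c • ((0 : k⟦X⟧ ⧸ I), (1 : k⟦X⟧ ⧸ J)) =
      (Ideal.Quotient.mk I b, Ideal.Quotient.mk J c) := by
  refine Prod.ext ?_ ?_
  · show b • (1 : k⟦X⟧ ⧸ I) + c • (0 : k⟦X⟧ ⧸ I) = Ideal.Quotient.mk I b
    rw [smul_zero, add_zero, smul_one_quot]
  · show b • (0 : k⟦X⟧ ⧸ J) + c • (1 : k⟦X⟧ ⧸ J) = Ideal.Quotient.mk J c
    rw [smul_zero, zero_add, smul_one_quot]

theorem pow_smul_quot_eq_zero {i j : ℕ} (hij : i ≤ j)
    (w : k⟦X⟧ ⧸ Ideal.span {(X : k⟦X⟧) ^ i}) : (X : k⟦X⟧) ^ j • w = 0 := by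
  obtain ⟨r, rfl⟩ := Ideal.Quotient.mk_surjective w
  have h : (X : k⟦X⟧) ^ j • Ideal.Quotient.mk (Ideal.span {(X : k⟦X⟧) ^ i}) r =
      Ideal.Quotient.mk _ ((X : k⟦X⟧) ^ j * r) := rfl
  rw [h, Ideal.Quotient.eq_zero_iff_mem, Ideal.mem_span_singleton]
  exact Dvd.dvd.mul_right (pow_dvd_pow _ hij) _

theorem X_dvd_of_mk_eq {j : ℕ} (hj : 1 ≤ j) (b : k⟦X⟧)
    (w : k⟦X⟧ ⧸ Ideal.span {(X : k⟦X⟧) ^ j})
    (h : Ideal.Quotient.mk (Ideal.span {(X : k⟦X⟧) ^ j}) b = (X : k⟦X⟧) • w) :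
    (X : k⟦X⟧) ∣ b := by
  obtain ⟨r, rfl⟩ := Ideal.Quotient.mk_surjective w
  have h' : (X : k⟦X⟧) • Ideal.Quotient.mk (Ideal.span {(X : k⟦X⟧) ^ j}) r =
      Ideal.Quotient.mk _ ((X : k⟦X⟧) * r) := rfl
  rw [h', Ideal.Quotient.eq, Ideal.mem_span_singleton] at h
  have h3 : (X : k⟦X⟧) ∣ b - X * r := dvd_trans (dvd_pow_self _ (by omega)) h
  have h4 := dvd_add h3 (dvd_mul_right (X : k⟦X⟧) r)
  rwa [sub_add_cancel] at h4

theorem pow_dvd_of_mk_eq_zero {j : ℕ} (b : k⟦X⟧)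
    (h : Ideal.Quotient.mk (Ideal.span {(X : k⟦X⟧) ^ j}) b = 0) : (X : k⟦X⟧) ^ j ∣ b :=
  Ideal.mem_span_singleton.mp (Ideal.Quotient.eq_zero_iff_mem.mp h)

/-- three elements whose reductions mod `X` are linearly independent generate `k⟦X⟧³`. -/
theorem gen_of_indep (u₁ u₂ u₃ : Fin 3 → k⟦X⟧)
    (hli : ∀ α β γ : k, (∀ j, α * constantCoeff (u₁ j) + β * constantCoeff (u₂ j) +
      γ * constantCoeff (u₃ j) = 0) → α = 0 ∧ β = 0 ∧ γ = 0)
    (x : Fin 3 → k⟦X⟧) : ∃ a b c : k⟦X⟧, x = a • u₁ + b • u₂ + c • u₃ := by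
  have hP : Submodule.span k⟦X⟧ {u₁, u₂, u₃} = ⊤ := by
    apply eq_top_of_forall_exists
    intro z
    obtain ⟨c₀, c₁, c₂, c₃, hne, hc⟩ := exists_dep (fun j => constantCoeff (u₁ j))
      (fun j => constantCoeff (u₂ j)) (fun j => constantCoeff (u₃ j))
      (fun j => constantCoeff (z j))
    have hc' : ∀ j, c₀ * constantCoeff (u₁ j) + c₁ * constantCoeff (u₂ j) +
        c₂ * constantCoeff (u₃ j) + c₃ * constantCoeff (z j) = 0 := hc
    have hc3 : c₃ ≠ 0 := by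
      intro h3
      obtain ⟨h0, h1, h2⟩ := hli c₀ c₁ c₂ (fun j => by
        have := hc' j
        rw [h3, zero_mul, add_zero] at this
        exact this)
      exact hne ⟨h0, h1, h2, h3⟩
    have hd : c₃ * c₃⁻¹ = 1 := mul_inv_cancel₀ hc3
    obtain ⟨y, hy⟩ := exists_X_smul
      (z - (C (-(c₀ * c₃⁻¹)) • u₁ + C (-(c₁ * c₃⁻¹)) • u₂ + C (-(c₂ * c₃⁻¹)) • u₃))
      (fun j => by
        have := hc' j
        rw [cc_comb]
        linear_combination c₃⁻¹ * this - constantCoeff (z j) * hd)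
    refine ⟨C (-(c₀ * c₃⁻¹)) • u₁ + C (-(c₁ * c₃⁻¹)) • u₂ + C (-(c₂ * c₃⁻¹)) • u₃, ?_, y, ?_⟩
    · exact Submodule.add_mem _ (Submodule.add_mem _
        (Submodule.smul_mem _ _ (Submodule.subset_span (by simp)))
        (Submodule.smul_mem _ _ (Submodule.subset_span (by simp))))
        (Submodule.smul_mem _ _ (Submodule.subset_span (by simp)))
    · rw [hy]; abel
  have hx : x ∈ Submodule.span k⟦X⟧ {u₁, u₂, u₃} := by rw [hP]; exact Submodule.mem_top
  obtain ⟨a, b, c, h⟩ := Submodule.mem_span_triple.mp hx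
  exact ⟨a, b, c, h.symm⟩

theorem core (m n : ℕ) (hmn : m ≤ n)
    (S : Submodule k⟦X⟧ (Fin 3 → k⟦X⟧))
    (h1 : (1 : Fin 3 → k⟦X⟧) ∈ S)
    (q : (Fin 3 → k⟦X⟧) →ₗ[k⟦X⟧]
      ((k⟦X⟧ ⧸ Ideal.span {(X : k⟦X⟧) ^ m}) × (k⟦X⟧ ⧸ Ideal.span {(X : k⟦X⟧) ^ n})))
    (hq : ∀ x, q x = 0 ↔ x ∈ S) (hsurj : Function.Surjective q) :
    Ideal.span {(X : k⟦X⟧) ^ n} • (⊤ : Submodule k⟦X⟧ (Fin 3 → k⟦X⟧)) ≤ S ∧
    ∃ f : (Fin 3 → k⟦X⟧),
      f ∉ Submodule.span k⟦X⟧ {(1 : (Fin 3 → k⟦X⟧))} ⊔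
        Ideal.span {(X : k⟦X⟧)} • (⊤ : Submodule k⟦X⟧ (Fin 3 → k⟦X⟧)) ∧
      S = Submodule.span k⟦X⟧ {(1 : (Fin 3 → k⟦X⟧)), ((X : k⟦X⟧) ^ m) • f} ⊔
        Ideal.span {(X : k⟦X⟧) ^ n} • (⊤ : Submodule k⟦X⟧ (Fin 3 → k⟦X⟧)) := by
  have hpart1 : ∀ y : Fin 3 → k⟦X⟧, (X : k⟦X⟧) ^ n • y ∈ S := by
    intro y
    rw [← hq, map_smul]
    refine Prod.ext ?_ ?_
    · rw [Prod.smul_fst]; exact pow_smul_quot_eq_zero hmn _
    · rw [Prod.smul_snd]; exact pow_smul_quot_eq_zero le_rfl _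
  have hP1 : Ideal.span {(X : k⟦X⟧) ^ n} • (⊤ : Submodule k⟦X⟧ (Fin 3 → k⟦X⟧)) ≤ S := by
    intro x hx
    obtain ⟨y, rfl⟩ := (mem_span_smul_top _ _).mp hx
    exact hpart1 y
  refine ⟨hP1, ?_⟩
  -- unified claim
  obtain ⟨u₂, u₃, hu₂, hu₃, hli⟩ : ∃ u₂ u₃ : Fin 3 → k⟦X⟧,
      q u₂ = (1, 0) ∧ q u₃ = (0, 1) ∧
      ∀ α β γ : k, (∀ j, α * constantCoeff ((1 : Fin 3 → k⟦X⟧) j) + β * constantCoeff (u₂ j) +
        γ * constantCoeff (u₃ j) = 0) → α = 0 ∧ β = 0 ∧ γ = 0 := by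
    obtain ⟨g₀, hg₀⟩ := hsurj (1, 0)
    obtain ⟨x₀, hx₀⟩ := hsurj (0, 1)
    have hkey : ∀ (b c : k⟦X⟧) (s y : Fin 3 → k⟦X⟧), s ∈ S →
        b • g₀ + c • x₀ = s + (X : k⟦X⟧) • y →
        (1 ≤ m → (X : k⟦X⟧) ∣ b) ∧ (1 ≤ n → (X : k⟦X⟧) ∣ c) := by
      intro b c s y hs h
      have h0 : (Ideal.Quotient.mk (Ideal.span {(X : k⟦X⟧) ^ m}) b,
          Ideal.Quotient.mk (Ideal.span {(X : k⟦X⟧) ^ n}) c) = (X : k⟦X⟧) • q y := by
        have h3 : q (b • g₀ + c • x₀) = (Ideal.Quotient.mk _ b, Ideal.Quotient.mk _ c) := by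
          rw [map_add, map_smul, map_smul, hg₀, hx₀]
          exact smul_add_smul_eq _ _ b c
        rw [← h3, h, map_add, (hq s).mpr hs, zero_add, map_smul]
      exact ⟨fun hm => X_dvd_of_mk_eq hm b (q y).1 (congrArg Prod.fst h0),
        fun hn => X_dvd_of_mk_eq hn c (q y).2 (congrArg Prod.snd h0)⟩
    by_cases hm : 1 ≤ m
    · -- Case A
      have hn : 1 ≤ n := le_trans hm hmn
      refine ⟨g₀, x₀, hg₀, hx₀, ?_⟩
      intro α β γ h
      obtain ⟨y, hy⟩ := exists_X_smul (C α • (1 : Fin 3 → k⟦X⟧) + C β • g₀ + C γ • x₀)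
        (fun j => by simpa using h j)
      have hk := hkey (C β) (C γ) (-(C α • (1 : Fin 3 → k⟦X⟧))) y
        (neg_mem (S.smul_mem _ h1)) (by rw [hy]; abel)
      have hβ : β = 0 := by simpa using X_dvd_iff.mp (hk.1 hm)
      have hγ : γ = 0 := by simpa using X_dvd_iff.mp (hk.2 hn)
      subst hβ
      subst hγ
      refine ⟨?_, rfl, rfl⟩
      simpa using h 0
    · obtain rfl : m = 0 := by omega
      haveI hsub : Subsingleton (k⟦X⟧ ⧸ Ideal.span {(X : k⟦X⟧) ^ 0}) := by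
        rw [Ideal.Quotient.subsingleton_iff, pow_zero, Ideal.span_singleton_one]
      by_cases hn : 1 ≤ n
      · -- Case B
        have hdec : ∀ x : Fin 3 → k⟦X⟧, ∃ s ∈ S, ∃ c : k⟦X⟧, x = s + c • x₀ := by
          intro x
          obtain ⟨c, hc⟩ := Ideal.Quotient.mk_surjective (q x).2
          refine ⟨x - c • x₀, ?_, c, by abel⟩
          rw [← hq, map_sub, map_smul, hx₀, sub_eq_zero]
          refine Prod.ext (Subsingleton.elim _ _) ?_
          rw [Prod.smul_snd]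
          show (q x).2 = c • (1 : k⟦X⟧ ⧸ Ideal.span {(X : k⟦X⟧) ^ n})
          rw [smul_one_quot, hc]
        have hBp : ∀ s ∈ S, (¬ ∃ a c : k, ∀ j, constantCoeff (s j) =
              a * constantCoeff ((1 : Fin 3 → k⟦X⟧) j) + c * constantCoeff (x₀ j)) →
            ∀ α β γ : k, (∀ j, α * constantCoeff ((1 : Fin 3 → k⟦X⟧) j) +
              β * constantCoeff (s j) + γ * constantCoeff (x₀ j) = 0) →
              α = 0 ∧ β = 0 ∧ γ = 0 := by
          intro s hs hno α β γ h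
          have hβ : β = 0 := by
            by_contra hβ
            apply hno
            have hβi : β * β⁻¹ = 1 := mul_inv_cancel₀ hβ
            refine ⟨-(α * β⁻¹), -(γ * β⁻¹), fun j => ?_⟩
            have := h j
            linear_combination β⁻¹ * this - (constantCoeff (s j)) * hβi
          subst hβ
          obtain ⟨y, hy⟩ := exists_X_smul (C α • (1 : Fin 3 → k⟦X⟧) + C γ • x₀)
            (fun j => by simpa using h j)
          have hk := hkey 0 (C γ) (-(C α • (1 : Fin 3 → k⟦X⟧))) y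
            (neg_mem (S.smul_mem _ h1)) (by rw [hy, zero_smul]; abel)
          have hγ : γ = 0 := by simpa using X_dvd_iff.mp (hk.2 hn)
          subst hγ
          refine ⟨?_, rfl, rfl⟩
          simpa using h 0
        by_cases hall : ∀ s ∈ S, ∃ a c : k, ∀ j, constantCoeff (s j) =
              a * constantCoeff ((1 : Fin 3 → k⟦X⟧) j) + c * constantCoeff (x₀ j)
        · exfalso
          have hP : Submodule.span k⟦X⟧ (Set.range ![(1 : Fin 3 → k⟦X⟧), x₀]) = ⊤ := by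
            apply eq_top_of_forall_exists
            intro x
            obtain ⟨s, hs, c, rfl⟩ := hdec x
            obtain ⟨a, c', hac⟩ := hall s hs
            obtain ⟨y, hy⟩ := exists_X_smul (s - (C a • (1 : Fin 3 → k⟦X⟧) + C c' • x₀))
              (fun j => by
                have h3 : constantCoeff (s j) = a + c' * constantCoeff (x₀ j) := by
                  simpa using hac j
                simp [h3])
            refine ⟨C a • (1 : Fin 3 → k⟦X⟧) + (C c' + c) • x₀, ?_, y, ?_⟩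
            · exact Submodule.add_mem _
                (Submodule.smul_mem _ _ (Submodule.subset_span ⟨0, by simp⟩))
                (Submodule.smul_mem _ _ (Submodule.subset_span ⟨1, by simp⟩))
            · rw [hy, add_smul]; abel
          have h2 := finrank_range_le_card (R := k⟦X⟧) ![(1 : Fin 3 → k⟦X⟧), x₀]
          rw [Set.finrank, hP, finrank_top, Module.finrank_fin_fun, Fintype.card_fin] at h2
          omega
        · obtain ⟨s, hs, hno⟩ : ∃ s ∈ S, ¬ ∃ a c : k, ∀ j, constantCoeff (s j) =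
              a * constantCoeff ((1 : Fin 3 → k⟦X⟧) j) + c * constantCoeff (x₀ j) := by
            by_contra hcon
            apply hall
            intro s hs
            by_contra hno
            exact hcon ⟨s, hs, hno⟩
          refine ⟨s, x₀, ?_, hx₀, hBp s hs hno⟩
          rw [(hq s).mpr hs]
          exact Prod.ext (Subsingleton.elim _ _) rfl
      · -- Case C
        obtain rfl : n = 0 := by omega
        refine ⟨![1, 0, 0], ![0, 1, 0], Prod.ext (Subsingleton.elim _ _) (Subsingleton.elim _ _),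
          Prod.ext (Subsingleton.elim _ _) (Subsingleton.elim _ _), ?_⟩
        intro α β γ h
        have h2 : α = 0 := by simpa using h 2
        have h0 : α + β = 0 := by simpa using h 0
        have h1' : α + γ = 0 := by simpa using h 1
        rw [h2, zero_add] at h0 h1'
        exact ⟨h2, h0, h1'⟩
  have hQ : ∀ b c : k⟦X⟧, q (b • u₂ + c • u₃) =
      (Ideal.Quotient.mk _ b, Ideal.Quotient.mk _ c) := by
    intro b c
    rw [map_add, map_smul, map_smul, hu₂, hu₃]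
    exact smul_add_smul_eq _ _ b c
  have hgen := gen_of_indep 1 u₂ u₃ hli
  refine ⟨u₂, ?_, ?_⟩
  · intro hmem
    obtain ⟨c, hc⟩ := (mem_N1_iff u₂).mp hmem
    have h3 := hli c (-1) 0 (fun j => by rw [hc j]; simp)
    exact neg_ne_zero.mpr one_ne_zero h3.2.1
  · apply le_antisymm
    · intro x hx
      obtain ⟨a, b, c, rfl⟩ := hgen x
      have h0 : q (b • u₂ + c • u₃) = 0 := by
        have hx' := (hq _).mpr hx
        rw [add_assoc, map_add, map_smul, (hq 1).mpr h1, smul_zero, zero_add] at hx'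
        exact hx'
      rw [hQ] at h0
      obtain ⟨b', rfl⟩ := pow_dvd_of_mk_eq_zero (j := m) b (congrArg Prod.fst h0)
      obtain ⟨c', rfl⟩ := pow_dvd_of_mk_eq_zero (j := n) c (congrArg Prod.snd h0)
      refine Submodule.add_mem_sup (Submodule.add_mem _
        (Submodule.smul_mem _ _ (Submodule.subset_span (by simp))) ?_) ?_
      · have h4 : ((X : k⟦X⟧) ^ m * b') • u₂ = b' • ((X : k⟦X⟧) ^ m • u₂) := by
          rw [smul_smul, mul_comm]
        rw [h4]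
        exact Submodule.smul_mem _ _ (Submodule.subset_span (by simp))
      · rw [mul_smul]
        exact (mem_span_smul_top _ _).mpr ⟨_, rfl⟩
    · refine sup_le (Submodule.span_le.mpr ?_) hP1
      rintro z (rfl | rfl)
      · exact h1
      · rw [SetLike.mem_coe, ← hq, map_smul, hu₂]
        refine Prod.ext ?_ ?_
        · rw [Prod.smul_fst]; exact pow_smul_quot_eq_zero le_rfl _
        · rw [Prod.smul_snd]; exact smul_zero _

end Aux

/-- Over R = k⟦t⟧ with k an algebraically closed field of characteristic zero, let S' = R × R × R (the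
unramified triple cover of the formal disk) and let S be an R-submodule of S' containing 1 such that
S' / S is isomorphic to R / (t ^ m) ⊕ R / (t ^ n) with m ≤ n. Then t ^ n S' is contained in S, and
there is f in S', not lying in R·1 + t S', such that S = R·1 + R·(t ^ m f) + t ^ n S'. -/
theorem result {k : Type u} [Field k] [IsAlgClosed k] [CharZero k] (m n : ℕ) (hmn : m ≤ n)
    (S : Submodule (PowerSeries k) (Fin 3 → PowerSeries k))
    (h1 : (1 : (Fin 3 → PowerSeries k)) ∈ S)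
    (e : ((Fin 3 → PowerSeries k) ⧸ S) ≃ₗ[PowerSeries k]
      ((PowerSeries k ⧸ Ideal.span {(PowerSeries.X : PowerSeries k) ^ m}) × (PowerSeries k ⧸ Ideal.span {(PowerSeries.X : PowerSeries k) ^ n}))) :
    Ideal.span {(PowerSeries.X : PowerSeries k) ^ n} • (⊤ : Submodule (PowerSeries k) (Fin 3 → PowerSeries k)) ≤ S ∧
    ∃ f : (Fin 3 → PowerSeries k),
      f ∉ Submodule.span (PowerSeries k) {(1 : (Fin 3 → PowerSeries k))} ⊔ Ideal.span {(PowerSeries.X : PowerSeries k)} • (⊤ : Submodule (PowerSeries k) (Fin 3 → PowerSeries k)) ∧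
      S = Submodule.span (PowerSeries k) {(1 : (Fin 3 → PowerSeries k)), ((PowerSeries.X : PowerSeries k) ^ m) • f} ⊔
        Ideal.span {(PowerSeries.X : PowerSeries k) ^ n} • (⊤ : Submodule (PowerSeries k) (Fin 3 → PowerSeries k)) := by
  have hq : ∀ x, (e.toLinearMap ∘ₗ S.mkQ) x = 0 ↔ x ∈ S := by
    intro x
    rw [LinearMap.comp_apply, LinearEquiv.coe_coe, LinearEquiv.map_eq_zero_iff,
      Submodule.mkQ_apply, Submodule.Quotient.mk_eq_zero]
  have hsurj : Function.Surjective (e.toLinearMap ∘ₗ S.mkQ) := by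
    rw [LinearMap.coe_comp]
    exact e.surjective.comp (Submodule.mkQ_surjective S)
  exact core m n hmn S h1 _ hq hsurj

end Groth.Agent.S13878
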