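import Groth.Statements.S13879
import Mathlib.Algebra.Algebra.Operations
import Mathlib.Tactic
-- import your own Groth.Agent.* helpers here

set_option autoImplicit false
universe u
open Crimp

namespace Groth.Agent.S13879

/-- Over R = k⟦t⟧ with k an algebraically closed field of characteristic zero, let S' = R × R × R and
let S be the R-submodule R·1 + R·(t ^ m f) + t ^ n S' of S' for some f in S' and natural numbers m,
n. Then S is closed under multiplication (equivalently, is an R-subalgebra of S') if and only if t ^
(2m) f ^ 2 lies in S. (The published statement has m ≤ n and S' / S isomorphic to R / (t ^ m) ⊕ R /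
(t ^ n), under which S has this shape; this row states the criterion for every submodule of this
shape.) -/
theorem result {k : Type u} [Field k] [IsAlgClosed k] [CharZero k] (m n : ℕ) (f : (Fin 3 → PowerSeries k))
    (S : Submodule (PowerSeries k) (Fin 3 → PowerSeries k))
    (hS : S = Submodule.span (PowerSeries k) {(1 : (Fin 3 → PowerSeries k)), ((PowerSeries.X : PowerSeries k) ^ m) • f} ⊔
        Ideal.span {(PowerSeries.X : PowerSeries k) ^ n} • (⊤ : Submodule (PowerSeries k) (Fin 3 → PowerSeries k))) :
    (∀ x ∈ S, ∀ y ∈ S, x * y ∈ S) ↔ ((PowerSeries.X : PowerSeries k) ^ (2 * m)) • (f * f) ∈ S := by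
  set t : PowerSeries k := PowerSeries.X with ht
  set I : Submodule (PowerSeries k) (Fin 3 → PowerSeries k) :=
    Ideal.span {t ^ n} • (⊤ : Submodule (PowerSeries k) (Fin 3 → PowerSeries k)) with hI
  have h1S : (1 : Fin 3 → PowerSeries k) ∈ S := by
    rw [hS]
    exact Submodule.mem_sup_left (Submodule.subset_span (by simp))
  have hfS : t ^ m • f ∈ S := by
    rw [hS]
    exact Submodule.mem_sup_left (Submodule.subset_span (by simp))
  have hIS : I ≤ S := by rw [hS]; exact le_sup_right
  have hImem : ∀ x, x ∈ I ↔ ∃ y : Fin 3 → PowerSeries k, x = t ^ n • y := by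
    intro x
    rw [hI, Submodule.ideal_span_singleton_smul]
    constructor
    · rintro ⟨y, _, rfl⟩
      exact ⟨y, rfl⟩
    · rintro ⟨y, rfl⟩
      exact ⟨y, Submodule.mem_top, rfl⟩
  have hImul : ∀ x ∈ I, ∀ z : Fin 3 → PowerSeries k, z * x ∈ I := by
    intro x hx z
    obtain ⟨y, rfl⟩ := (hImem x).1 hx
    exact (hImem _).2 ⟨z * y, by rw [mul_smul_comm]⟩
  constructor
  · intro h
    have := h _ hfS _ hfS
    have e : t ^ m • f * t ^ m • f = t ^ (2 * m) • (f * f) := by
      rw [smul_mul_smul_comm, ← pow_add, two_mul]
    rwa [e] at this
  · intro h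
    have hspan : S = Submodule.span (PowerSeries k)
        (({(1 : (Fin 3 → PowerSeries k)), t ^ m • f} : Set (Fin 3 → PowerSeries k)) ∪ (I : Set (Fin 3 → PowerSeries k))) := by
      rw [Submodule.span_union, Submodule.span_eq, hS]
    have key : S * S ≤ S := by
      conv_lhs => rw [hspan]
      rw [Submodule.span_mul_span, Submodule.span_le]
      rintro _ ⟨x, hx, y, hy, rfl⟩
      rcases hx with hx | hx
      · rcases hy with hy | hy
        · rcases hx with rfl | rfl
          · rcases hy with rfl | rfl
            · simpa using h1S
            · simpa using hfS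
          · rcases hy with rfl | rfl
            · simpa using hfS
            · have e : t ^ m • f * t ^ m • f = t ^ (2 * m) • (f * f) := by
                rw [smul_mul_smul_comm, ← pow_add, two_mul]
              simp only [e]
              exact h
        · exact hIS (hImul y hy x)
      · have := hImul x hx y
        rw [mul_comm] at this
        exact hIS this
    intro x hx y hy
    exact key (Submodule.mul_mem_mul hx hy)

end Groth.Agent.S13879
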