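import Groth.Statements.S13882
import Mathlib.RingTheory.FiniteType
import Mathlib.RingTheory.Ideal.Quotient.Operations
import Mathlib.Algebra.MvPolynomial.Eval
import Mathlib.Tactic
-- import your own Groth.Agent.* helpers here

set_option autoImplicit false
universe u
open FinCov

namespace Groth.Agent.S13882

open MvPolynomial W4c1hurwitzcpt

/-- index type of the variables -/
abbrev Idx (d : ℕ) : Type := (Fin d × Fin d × Fin d) ⊕ Fin d

section
variable (K : Type u) [Field K] (d : ℕ)

/-- the variable `c i j k` -/
noncomputable def cv (i j k : Fin d) : MvPolynomial (Idx d) K := X (Sum.inl (i, j, k))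
/-- the variable `u i` -/
noncomputable def uv (i : Fin d) : MvPolynomial (Idx d) K := X (Sum.inr i)

/-- the relations -/
def rels : Set (MvPolynomial (Idx d) K) :=
  {r | (∃ i j k, r = cv K d i j k - cv K d j i k) ∨
    (∃ i j l m, r = (∑ k, cv K d i j k * cv K d k l m) - ∑ k, cv K d j l k * cv K d i k m) ∨
    (∃ j m, r = (∑ i, uv K d i * cv K d i j m) - if j = m then 1 else 0)}

/-- the representing algebra -/
abbrev Rep : Type u := MvPolynomial (Idx d) K ⧸ Ideal.span (rels K d)

variable {K d}

/-- evaluation point attached to a based algebra -/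
def pt {A : Type u} [CommRing A] (s : BasedAlg d A) : Idx d → A :=
  Sum.elim (fun t => s.c t.1 t.2.1 t.2.2) s.u

theorem aeval_cv {A : Type u} [CommRing A] [Algebra K A] (s : BasedAlg d A) (i j k : Fin d) :
    aeval (pt s) (cv K d i j k) = s.c i j k := by
  simp [cv, pt]

theorem aeval_uv {A : Type u} [CommRing A] [Algebra K A] (s : BasedAlg d A) (i : Fin d) :
    aeval (pt s) (uv K d i) = s.u i := by
  simp [uv, pt]

theorem rels_le_ker {A : Type u} [CommRing A] [Algebra K A] (s : BasedAlg d A) :
    ∀ a ∈ Ideal.span (rels K d), (aeval (pt s) : MvPolynomial (Idx d) K →ₐ[K] A) a = 0 := by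
  intro a ha
  have : Ideal.span (rels K d) ≤ RingHom.ker (aeval (pt s) : MvPolynomial (Idx d) K →ₐ[K] A) := by
    rw [Ideal.span_le]
    rintro r (⟨i, j, k, rfl⟩ | ⟨i, j, l, m, rfl⟩ | ⟨j, m, rfl⟩)
    · simp only [SetLike.mem_coe, RingHom.mem_ker, map_sub, aeval_cv]
      rw [s.comm, sub_self]
    · simp only [SetLike.mem_coe, RingHom.mem_ker, map_sub, map_sum, map_mul, aeval_cv]
      rw [s.assoc, sub_self]
    · simp only [SetLike.mem_coe, RingHom.mem_ker, map_sub, map_sum, map_mul, aeval_cv, aeval_uv]
      rw [s.unit]
      split <;> simp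
  exact this ha

/-- the algebra map attached to a based algebra -/
noncomputable def toHom {A : Type u} [CommRing A] [Algebra K A] (s : BasedAlg d A) : Rep K d →ₐ[K] A :=
  Ideal.Quotient.liftₐ (Ideal.span (rels K d)) (aeval (pt s)) (rels_le_ker s)

theorem mk_rel_eq_zero (r : MvPolynomial (Idx d) K) (hr : r ∈ rels K d) :
    (Ideal.Quotient.mk (Ideal.span (rels K d)) r) = 0 :=
  Ideal.Quotient.eq_zero_iff_mem.2 (Ideal.subset_span hr)

/-- the based algebra attached to an algebra map -/
noncomputable def ofHom {A : Type u} [CommRing A] [Algebra K A] (φ : Rep K d →ₐ[K] A) : BasedAlg d A where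
  c i j k := φ (Ideal.Quotient.mk _ (cv K d i j k))
  u i := φ (Ideal.Quotient.mk _ (uv K d i))
  comm i j k := by
    have := mk_rel_eq_zero (K := K) (d := d) _ (Or.inl ⟨i, j, k, rfl⟩)
    rw [map_sub, sub_eq_zero] at this
    rw [this]
  assoc i j l m := by
    have := mk_rel_eq_zero (K := K) (d := d) _ (Or.inr (Or.inl ⟨i, j, l, m, rfl⟩))
    rw [map_sub, sub_eq_zero] at this
    have h2 := congrArg φ this
    simpa only [map_sum, map_mul] using h2
  unit j m := by
    have := mk_rel_eq_zero (K := K) (d := d) _ (Or.inr (Or.inr ⟨j, m, rfl⟩))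
    rw [map_sub, sub_eq_zero] at this
    have h2 := congrArg φ this
    simp only [map_sum, map_mul] at h2
    rw [h2]
    split <;> simp

theorem toHom_mk {A : Type u} [CommRing A] [Algebra K A] (s : BasedAlg d A) (a : MvPolynomial (Idx d) K) :
    toHom s (Ideal.Quotient.mk _ a) = aeval (pt s) a := by
  unfold toHom
  exact Ideal.Quotient.liftₐ_apply _ _ _ _

/-- the bijection -/
noncomputable def eqv (A : Type u) [CommRing A] [Algebra K A] : (Rep K d →ₐ[K] A) ≃ BasedAlg d A where
  toFun := ofHom
  invFun := toHom
  left_inv φ := by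
    apply Ideal.Quotient.algHom_ext
    apply MvPolynomial.algHom_ext
    rintro (⟨i, j, k⟩ | i)
    · change toHom (ofHom φ) (Ideal.Quotient.mk _ (X (Sum.inl (i, j, k)))) = φ (Ideal.Quotient.mk _ (X (Sum.inl (i, j, k))))
      rw [toHom_mk]
      simp [pt, ofHom, cv]
    · change toHom (ofHom φ) (Ideal.Quotient.mk _ (X (Sum.inr i))) = φ (Ideal.Quotient.mk _ (X (Sum.inr i)))
      rw [toHom_mk]
      simp [pt, ofHom, uv]
  right_inv s := by
    ext
    · simp only [ofHom, toHom_mk, aeval_cv]
    · simp only [ofHom, toHom_mk, aeval_uv]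

end

/-- Over a field K of characteristic zero, the functor that sends a K-scheme S to the set of isomorphism
classes of pairs (A, τ) of an O_S-algebra A and an O_S-module isomorphism τ from A to the free
module of rank d, equivalently to the set of commutative unital algebra structures on the rank-d
free module with its standard basis, is represented by an affine K-scheme of finite type. Stated on
affine K-schemes in one universe: there is a finitely generated commutative K-algebra B with
bijections between K-algebra maps B → A and based algebra structures of rank d over A, natural in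
the commutative K-algebra A. -/
theorem result (K : Type u) [Field K] [CharZero K] (d : ℕ) :
    ∃ (B : Type u) (_ : CommRing B) (_ : Algebra K B) (_ : Algebra.FiniteType K B)
      (η : ∀ (A : Type u) [CommRing A] [Algebra K A], (B →ₐ[K] A) ≃ W4c1hurwitzcpt.BasedAlg d A),
      ∀ (A A' : Type u) [CommRing A] [Algebra K A] [CommRing A'] [Algebra K A']
        (f : A →ₐ[K] A') (g : B →ₐ[K] A),
        η A' (f.comp g) = (η A g).map f.toRingHom := by
  refine ⟨Rep K d, inferInstance, inferInstance, ?_, fun A _ _ => eqv A, ?_⟩
  · exact Algebra.FiniteType.of_surjective (Ideal.Quotient.mkₐ K (Ideal.span (rels K d)))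
      (Ideal.Quotient.mkₐ_surjective K _)
  · intro A A' _ _ _ _ f g
    ext <;> rfl

end Groth.Agent.S13882
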