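import Groth.Statements.S13886
import Mathlib
import Groth.Agent.S13878

set_option autoImplicit false
universe u
open Crimp

namespace Groth.Agent.S13886

section Aux
open PowerSeries Pointwise Groth.Agent.S13878
variable {k : Type*} [Field k]

theorem li_single (f : Fin 3 → k⟦X⟧) (a b c : Fin 3) (hac : a ≠ c) (hbc : b ≠ c)
    (h : constantCoeff (f a) ≠ constantCoeff (f b)) :
    ∀ α β γ : k, (∀ j, α * constantCoeff ((1 : Fin 3 → k⟦X⟧) j) + β * constantCoeff (f j) +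
      γ * constantCoeff ((Pi.single c 1 : Fin 3 → k⟦X⟧) j) = 0) → α = 0 ∧ β = 0 ∧ γ = 0 := by
  intro α β γ H
  have ha : α + β * constantCoeff (f a) = 0 := by
    have := H a
    rw [Pi.single_eq_of_ne hac] at this
    simpa using this
  have hb : α + β * constantCoeff (f b) = 0 := by
    have := H b
    rw [Pi.single_eq_of_ne hbc] at this
    simpa using this
  have hc : α + β * constantCoeff (f c) + γ = 0 := by
    have := H c
    rw [Pi.single_eq_same] at this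
    simpa using this
  have hβ : β = 0 := by
    have h3 : β * (constantCoeff (f a) - constantCoeff (f b)) = 0 := by
      linear_combination ha - hb
    rcases mul_eq_zero.mp h3 with h4 | h4
    · exact h4
    · exact absurd (sub_eq_zero.mp h4) h
  subst hβ
  have hα : α = 0 := by simpa using ha
  subst hα
  refine ⟨rfl, rfl, ?_⟩
  simpa using hc

theorem exists_li (f : Fin 3 → k⟦X⟧)
    (hf : f ∉ Submodule.span k⟦X⟧ {(1 : (Fin 3 → k⟦X⟧))} ⊔
        Ideal.span {(X : k⟦X⟧)} • (⊤ : Submodule k⟦X⟧ (Fin 3 → k⟦X⟧))) :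
    ∃ c : Fin 3, ∀ α β γ : k, (∀ j, α * constantCoeff ((1 : Fin 3 → k⟦X⟧) j) +
      β * constantCoeff (f j) +
      γ * constantCoeff ((Pi.single c 1 : Fin 3 → k⟦X⟧) j) = 0) → α = 0 ∧ β = 0 ∧ γ = 0 := by
  by_cases h01 : constantCoeff (f 0) = constantCoeff (f 1)
  · by_cases h02 : constantCoeff (f 0) = constantCoeff (f 2)
    · exfalso
      apply hf
      rw [mem_N1_iff]
      refine ⟨constantCoeff (f 0), fun i => ?_⟩
      fin_cases i
      · rfl
      · exact h01.symm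
      · exact h02.symm
    · exact ⟨1, li_single f 0 2 1 (by decide) (by decide) h02⟩
  · exact ⟨2, li_single f 0 1 2 (by decide) (by decide) h01⟩

theorem mul_closed (m n : ℕ) (hn : n ≤ 2 * m) (f : Fin 3 → k⟦X⟧) :
    ∀ x ∈ Submodule.span k⟦X⟧ {(1 : (Fin 3 → k⟦X⟧)), ((X : k⟦X⟧) ^ m) • f} ⊔
        Ideal.span {(X : k⟦X⟧) ^ n} • (⊤ : Submodule k⟦X⟧ (Fin 3 → k⟦X⟧)),
    ∀ y ∈ Submodule.span k⟦X⟧ {(1 : (Fin 3 → k⟦X⟧)), ((X : k⟦X⟧) ^ m) • f} ⊔
        Ideal.span {(X : k⟦X⟧) ^ n} • (⊤ : Submodule k⟦X⟧ (Fin 3 → k⟦X⟧)),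
    x * y ∈ Submodule.span k⟦X⟧ {(1 : (Fin 3 → k⟦X⟧)), ((X : k⟦X⟧) ^ m) • f} ⊔
        Ideal.span {(X : k⟦X⟧) ^ n} • (⊤ : Submodule k⟦X⟧ (Fin 3 → k⟦X⟧)) := by
  obtain ⟨d, hd⟩ : ∃ d, 2 * m = n + d := ⟨2 * m - n, by omega⟩
  have hXX : (X : k⟦X⟧) ^ m * X ^ m = X ^ n * X ^ d := by
    rw [← pow_add, ← pow_add]; congr 1; omega
  intro x hx y hy
  obtain ⟨x₁, hx₁, x₂, hx₂, rfl⟩ := Submodule.mem_sup.mp hx
  obtain ⟨y₁, hy₁, y₂, hy₂, rfl⟩ := Submodule.mem_sup.mp hy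
  obtain ⟨a, b, rfl⟩ := Submodule.mem_span_pair.mp hx₁
  obtain ⟨a', b', rfl⟩ := Submodule.mem_span_pair.mp hy₁
  obtain ⟨x', rfl⟩ := (mem_span_smul_top _ _).mp hx₂
  obtain ⟨y', rfl⟩ := (mem_span_smul_top _ _).mp hy₂
  have key : (a • (1 : Fin 3 → k⟦X⟧) + b • ((X : k⟦X⟧) ^ m • f) + (X : k⟦X⟧) ^ n • x') *
      (a' • (1 : Fin 3 → k⟦X⟧) + b' • ((X : k⟦X⟧) ^ m • f) + (X : k⟦X⟧) ^ n • y') =
      ((a * a') • (1 : Fin 3 → k⟦X⟧) + (a * b' + a' * b) • ((X : k⟦X⟧) ^ m • f)) +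
      (X : k⟦X⟧) ^ n • (fun i => X ^ d * (b * b') * (f i * f i) + a * y' i +
        b * X ^ m * f i * y' i + x' i * a' + x' i * b' * X ^ m * f i + X ^ n * x' i * y' i) := by
    funext i
    simp only [Pi.mul_apply, Pi.add_apply, Pi.smul_apply, Pi.one_apply, smul_eq_mul]
    linear_combination (b * b' * f i * f i) * hXX
  rw [key]
  exact Submodule.add_mem_sup (Submodule.add_mem _
    (Submodule.smul_mem _ _ (Submodule.subset_span (by simp)))
    (Submodule.smul_mem _ _ (Submodule.subset_span (by simp))))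
    ((mem_span_smul_top _ _).mpr ⟨_, rfl⟩)

theorem quot_iso (m n : ℕ) (hmn : m ≤ n) (f : Fin 3 → k⟦X⟧)
    (hf : f ∉ Submodule.span k⟦X⟧ {(1 : (Fin 3 → k⟦X⟧))} ⊔
        Ideal.span {(X : k⟦X⟧)} • (⊤ : Submodule k⟦X⟧ (Fin 3 → k⟦X⟧))) :
    Nonempty (((Fin 3 → k⟦X⟧) ⧸ (Submodule.span k⟦X⟧ {(1 : (Fin 3 → k⟦X⟧)), ((X : k⟦X⟧) ^ m) • f} ⊔
        Ideal.span {(X : k⟦X⟧) ^ n} • (⊤ : Submodule k⟦X⟧ (Fin 3 → k⟦X⟧)))) ≃ₗ[k⟦X⟧]
      ((k⟦X⟧ ⧸ Ideal.span {(X : k⟦X⟧) ^ m}) × (k⟦X⟧ ⧸ Ideal.span {(X : k⟦X⟧) ^ n}))) := by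
  obtain ⟨c, hli⟩ := exists_li f hf
  have hgen := gen_of_indep 1 f (Pi.single c 1) hli
  obtain ⟨v, hv⟩ : ∃ v : Fin 3 → (Fin 3 → k⟦X⟧), v = ![1, f, Pi.single c 1] := ⟨_, rfl⟩
  have hv0 : v 0 = 1 := by rw [hv]; rfl
  have hv1 : v 1 = f := by rw [hv]; rfl
  have hv2 : v 2 = Pi.single c 1 := by rw [hv]; rfl
  have hsurjφ : Function.Surjective (Fintype.linearCombination k⟦X⟧ v) := by
    intro x
    obtain ⟨a, b, c', hx⟩ := hgen x
    refine ⟨![a, b, c'], ?_⟩
    rw [Fintype.linearCombination_apply, Fin.sum_univ_three, hx, hv0, hv1, hv2]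
    simp
  have hinjφ : Function.Injective (Fintype.linearCombination k⟦X⟧ v) :=
    OrzechProperty.injective_of_surjective_endomorphism _ hsurjφ
  have hli' : LinearIndependent k⟦X⟧ v := by
    rw [Fintype.linearIndependent_iff]
    intro g hg i
    have h0 : Fintype.linearCombination k⟦X⟧ v g = Fintype.linearCombination k⟦X⟧ v 0 := by
      rw [Fintype.linearCombination_apply, hg, map_zero]
    exact congrFun (hinjφ h0) i
  have hsp : ⊤ ≤ Submodule.span k⟦X⟧ (Set.range v) := by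
    intro x _
    obtain ⟨g, rfl⟩ := hsurjφ x
    rw [Fintype.linearCombination_apply]
    exact Submodule.sum_mem _
      (fun i _ => Submodule.smul_mem _ _ (Submodule.subset_span ⟨i, rfl⟩))
  obtain ⟨w, hw0, hw1, hw2⟩ : ∃ w : Fin 3 →
      ((k⟦X⟧ ⧸ Ideal.span {(X : k⟦X⟧) ^ m}) × (k⟦X⟧ ⧸ Ideal.span {(X : k⟦X⟧) ^ n})),
      w 0 = 0 ∧ w 1 = (1, 0) ∧ w 2 = (0, 1) := ⟨![0, (1, 0), (0, 1)], rfl, rfl, rfl⟩
  obtain ⟨q, hq0, hq1, hq2⟩ : ∃ q : (Fin 3 → k⟦X⟧) →ₗ[k⟦X⟧]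
      ((k⟦X⟧ ⧸ Ideal.span {(X : k⟦X⟧) ^ m}) × (k⟦X⟧ ⧸ Ideal.span {(X : k⟦X⟧) ^ n})),
      q 1 = 0 ∧ q f = (1, 0) ∧ q (Pi.single c 1) = (0, 1) := by
    have hb : ∀ i, (Module.Basis.mk hli' hsp) i = v i := fun i => Module.Basis.mk_apply hli' hsp i
    refine ⟨(Module.Basis.mk hli' hsp).constr k⟦X⟧ w, ?_, ?_, ?_⟩
    · rw [← hv0, ← hb 0, Module.Basis.constr_basis, hw0]
    · rw [← hv1, ← hb 1, Module.Basis.constr_basis, hw1]
    · rw [← hv2, ← hb 2, Module.Basis.constr_basis, hw2]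
  have hQ : ∀ a b c' : k⟦X⟧, q (a • 1 + b • f + c' • Pi.single c 1) =
      (Ideal.Quotient.mk _ b, Ideal.Quotient.mk _ c') := by
    intro a b c'
    rw [map_add, map_add, map_smul, map_smul, map_smul, hq0, hq1, hq2, smul_zero, zero_add]
    exact smul_add_smul_eq _ _ b c'
  have hsurjq : Function.Surjective q := by
    rintro ⟨w₁, w₂⟩
    obtain ⟨b, rfl⟩ := Ideal.Quotient.mk_surjective w₁
    obtain ⟨c', rfl⟩ := Ideal.Quotient.mk_surjective w₂
    exact ⟨0 • 1 + b • f + c' • Pi.single c 1, hQ 0 b c'⟩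
  have hker : (Submodule.span k⟦X⟧ {(1 : (Fin 3 → k⟦X⟧)), ((X : k⟦X⟧) ^ m) • f} ⊔
        Ideal.span {(X : k⟦X⟧) ^ n} • (⊤ : Submodule k⟦X⟧ (Fin 3 → k⟦X⟧))) = LinearMap.ker q := by
    apply le_antisymm
    · refine sup_le (Submodule.span_le.mpr ?_) ?_
      · rintro z (rfl | rfl)
        · rw [SetLike.mem_coe, LinearMap.mem_ker]
          exact hq0
        · rw [SetLike.mem_coe, LinearMap.mem_ker, map_smul, hq1]
          refine Prod.ext ?_ ?_
          · rw [Prod.smul_fst]; exact pow_smul_quot_eq_zero le_rfl _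
          · rw [Prod.smul_snd]; exact smul_zero _
      · intro x hx
        obtain ⟨y, rfl⟩ := (mem_span_smul_top _ _).mp hx
        rw [LinearMap.mem_ker, map_smul]
        refine Prod.ext ?_ ?_
        · rw [Prod.smul_fst]; exact pow_smul_quot_eq_zero hmn _
        · rw [Prod.smul_snd]; exact pow_smul_quot_eq_zero le_rfl _
    · intro x hx
      rw [LinearMap.mem_ker] at hx
      obtain ⟨a, b, c', rfl⟩ := hgen x
      rw [hQ] at hx
      obtain ⟨b', rfl⟩ := pow_dvd_of_mk_eq_zero (j := m) b (congrArg Prod.fst hx)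
      obtain ⟨c'', rfl⟩ := pow_dvd_of_mk_eq_zero (j := n) c' (congrArg Prod.snd hx)
      refine Submodule.add_mem_sup (Submodule.add_mem _
        (Submodule.smul_mem _ _ (Submodule.subset_span (by simp))) ?_) ?_
      · have h4 : ((X : k⟦X⟧) ^ m * b') • f = b' • ((X : k⟦X⟧) ^ m • f) := by
          rw [smul_smul, mul_comm]
        rw [h4]
        exact Submodule.smul_mem _ _ (Submodule.subset_span (by simp))
      · rw [mul_smul]
        exact (mem_span_smul_top _ _).mpr ⟨_, rfl⟩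
  exact ⟨(Submodule.quotEquivOfEq _ _ hker).trans (q.quotKerEquivOfSurjective hsurjq)⟩

end Aux

/-- Over R = k⟦t⟧ with k an algebraically closed field of characteristic zero, let S' = R × R × R be the
unramified triple cover of the formal disk and let m ≤ n ≤ 2m be natural numbers. For every f in S'
not lying in R·1 + t S', the R-submodule S = R·1 + R·(t ^ m f) + t ^ n S' is closed under
multiplication, hence an R-subalgebra (a crimp), and S' / S is isomorphic to R / (t ^ m) ⊕ R / (t ^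
n) (so the crimp has μ-invariant n - m and branch divisor (t ^ (2(m+n)))). Together with the
structure result for submodules with this quotient, this identifies the k-points of the space of
crimps of splitting type (m, n), 2m ≥ n, with the submodules of this shape. (The published statement
moreover asserts that this stratum is an irreducible variety of dimension n - m; that part is not
restated.) -/
theorem result {k : Type u} [Field k] [IsAlgClosed k] [CharZero k]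
    (m n : ℕ) (hmn : m ≤ n) (hn : n ≤ 2 * m)
    (f : (Fin 3 → PowerSeries k)) (hf : f ∉ Submodule.span (PowerSeries k) {(1 : (Fin 3 → PowerSeries k))} ⊔ Ideal.span {(PowerSeries.X : PowerSeries k)} • (⊤ : Submodule (PowerSeries k) (Fin 3 → PowerSeries k)))
    (S : Submodule (PowerSeries k) (Fin 3 → PowerSeries k))
    (hS : S = Submodule.span (PowerSeries k) {(1 : (Fin 3 → PowerSeries k)), ((PowerSeries.X : PowerSeries k) ^ m) • f} ⊔
        Ideal.span {(PowerSeries.X : PowerSeries k) ^ n} • (⊤ : Submodule (PowerSeries k) (Fin 3 → PowerSeries k))) :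
    (∀ x ∈ S, ∀ y ∈ S, x * y ∈ S) ∧
    Nonempty (((Fin 3 → PowerSeries k) ⧸ S) ≃ₗ[PowerSeries k]
      ((PowerSeries k ⧸ Ideal.span {(PowerSeries.X : PowerSeries k) ^ m}) × (PowerSeries k ⧸ Ideal.span {(PowerSeries.X : PowerSeries k) ^ n}))) := by
  subst hS
  exact ⟨mul_closed m n hn f, quot_iso m n hmn f hf⟩

end Groth.Agent.S13886
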