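import Groth.Statements.S13888
-- import your own Groth.Agent.* helpers here

set_option autoImplicit false
universe u
open CategoryTheory CategoryTheory.Limits MonoidalCategory
attribute [local instance] HasDerivedCategory.standard
open DTen

namespace Groth.Agent.S13888

section
variable {A : Type u} [CommRing A] [DTen.HasLTen A] [DTen.HasLTen₃ A] [DTen.IsSymMonoidal A]

/-- the associator as a natural isomorphism -/
noncomputable def assocIso : LTenL A ≅ LTenR A := asIso (assocL A) ≪≫ (asIso (assocR A)).symm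

theorem associator_hom_eq (a b c : Dual.D A) :
    (associator a b c).hom = (assocIso (A := A)).hom.app (a, (b, c)) := rfl

/-- naturality of the associator in the first variable -/
theorem associator_naturality_left {T X : Dual.D A} (g : T ⟶ X) (K L : Dual.D A) :
    (LTen₂ A).map (Prod.mkHom ((LTen₂ A).map (Prod.mkHom g (𝟙 K))) (𝟙 L)) ≫ (associator X K L).hom =
      (associator T K L).hom ≫ (LTen₂ A).map (Prod.mkHom g (𝟙 ((LTen₂ A).obj (K, L)))) := by
  rw [associator_hom_eq, associator_hom_eq]
  have h := (assocIso (A := A)).hom.naturality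
    (X := (T, (K, L))) (Y := (X, (K, L))) (Prod.mkHom g (Prod.mkHom (𝟙 K) (𝟙 L)))
  have e1 : (LTenL A).map (X := (T, (K, L))) (Y := (X, (K, L))) (Prod.mkHom g (Prod.mkHom (𝟙 K) (𝟙 L))) =
      (LTen₂ A).map (Prod.mkHom ((LTen₂ A).map (Prod.mkHom g (𝟙 K))) (𝟙 L)) := rfl
  have e2 : (LTenR A).map (X := (T, (K, L))) (Y := (X, (K, L))) (Prod.mkHom g (Prod.mkHom (𝟙 K) (𝟙 L))) =
      (LTen₂ A).map (Prod.mkHom g (𝟙 ((LTen₂ A).obj (K, L)))) := by
    change (LTen₂ A).map (Prod.mkHom g ((LTen₂ A).map (Prod.mkHom (𝟙 K) (𝟙 L)))) = _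
    have : (Prod.mkHom (𝟙 K) (𝟙 L) : ((K, L) : Dual.D A × Dual.D A) ⟶ (K, L)) = 𝟙 (K, L) := rfl
    rw [this, CategoryTheory.Functor.map_id]
  rw [e1, e2] at h
  exact h

end

/-- For a commutative ring `A` (assuming the derived tensor product on `D(A)` with its triple version
exists, that its symmetry, unit and associativity maps are isomorphisms, and that every `- ⊗^L L`
has a right adjoint `RHom(L, -)`) and objects `K`, `L`, `M` of `D(A)`, the canonical morphism
`RHom(K ⊗^L L, M) ⟶ RHom(K, RHom(L, M))`, namely the double adjunct of the associativity isomorphism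
followed by evaluation at `K ⊗^L L`, is an isomorphism. (Functoriality in the three objects is built
into the construction; the identification on `H^0` with the hom bijection of the adjunction is not
part of this row.) -/
theorem result (A : Type u) [CommRing A] [DTen.HasLTen A] [DTen.HasLTen₃ A]
    [DTen.IsSymMonoidal A] [DTen.HasRHom A] (K L M : Dual.D A) :
    IsIso (DTen.curryHom K L M) := by
  apply isIso_of_yoneda_map_bijective
  intro T
  let e1 : (T ⟶ (RHomR A ((LTen₂ A).obj (K, L))).obj M) ≃ ((LTen₂ A).obj (T, (LTen₂ A).obj (K, L)) ⟶ M) :=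
    (rhomHomEquiv T ((LTen₂ A).obj (K, L)) M).symm
  let e2 : ((LTen₂ A).obj (T, (LTen₂ A).obj (K, L)) ⟶ M) ≃ ((LTen₂ A).obj ((LTen₂ A).obj (T, K), L) ⟶ M) :=
    (associator T K L).symm.homFromEquiv
  let e3 := rhomHomEquiv ((LTen₂ A).obj (T, K)) L M
  let e4 := rhomHomEquiv T K ((RHomR A L).obj M)
  have key : ∀ g : T ⟶ (RHomR A ((LTen₂ A).obj (K, L))).obj M,
      g ≫ curryHom K L M = e4 (e3 (e2 (e1 g))) := by
    intro g
    have n1 := (rhomAdj A K).homEquiv_naturality_left g
      (rhomHomEquiv _ _ _ (curryHomAux K L M))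
    have n2 := (rhomAdj A L).homEquiv_naturality_left ((tensorRightD A K).map g) (curryHomAux K L M)
    have n3 : (tensorRightD A L).map ((tensorRightD A K).map g) ≫ curryHomAux K L M = e2 (e1 g) := by
      change (LTen₂ A).map (Prod.mkHom ((LTen₂ A).map (Prod.mkHom g (𝟙 K))) (𝟙 L)) ≫ curryHomAux K L M =
        (associator T K L).hom ≫ ((rhomAdj A ((LTen₂ A).obj (K, L))).homEquiv T M).symm g
      rw [Adjunction.homEquiv_counit]
      unfold curryHomAux
      rw [← Category.assoc, associator_naturality_left, Category.assoc]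
      rfl
    calc g ≫ curryHom K L M
        = e4 ((tensorRightD A K).map g ≫ rhomHomEquiv _ _ _ (curryHomAux K L M)) := n1.symm
      _ = e4 (e3 ((tensorRightD A L).map ((tensorRightD A K).map g) ≫ curryHomAux K L M)) :=
          congrArg e4 n2.symm
      _ = e4 (e3 (e2 (e1 g))) := by rw [n3]
  have : (fun g : T ⟶ (RHomR A ((LTen₂ A).obj (K, L))).obj M => g ≫ curryHom K L M) =
      (e1.trans (e2.trans (e3.trans e4))) := funext key
  rw [this]
  exact Equiv.bijective _

end Groth.Agent.S13888
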