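import Groth.Statements.S1389
-- import your own Groth.Agent.* helpers here

set_option autoImplicit false
universe u
open FlatMor

namespace Groth.Agent.S1389

open AlgebraicGeometry CategoryTheory Limits in
set_option backward.isDefEq.respectTransparency false in
/-- The equalizer of two morphisms over `S` into an object with open diagonal (e.g. étale over `S`)
is an open subscheme of the source. -/
theorem isOpenImmersion_equalizer_ι_left {S : Scheme.{u}} {X Y : Over S}
    [IsOpenImmersion (pullback.diagonal Y.hom)]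
    (f g : X ⟶ Y) : IsOpenImmersion (equalizer.ι f g).left := by
  refine MorphismProperty.of_isPullback
    ((Limits.isPullback_equalizer_prod f g).map (Over.forget _)).flip ?_
  rw [← MorphismProperty.cancel_right_of_respectsIso @IsOpenImmersion _
    (Over.prodLeftIsoPullback Y Y).hom]
  convert! (inferInstance : IsOpenImmersion (pullback.diagonal Y.hom))
  ext1 <;> simp [← Over.comp_left]

open AlgebraicGeometry CategoryTheory Limits in
/-- Let (U, u) and (U', u') be étale neighbourhoods of a point s of S and h₁, h₂ two S-morphisms U → U'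
sending u to u' which induce the same map of residue fields κ(u') → κ(u). Then there is an étale
neighbourhood (U'', u'') of s with an S-morphism h : U'' → U sending u'' to u and with h followed by
h₁ equal to h followed by h₂. -/
theorem result {S U U' : Scheme.{u}} (s : S) (g : U ⟶ S) (g' : U' ⟶ S) [Etale g] [Etale g'] (u : U) (u' : U')
    (hu : g u = s) (hu' : g' u' = s) (h₁ h₂ : U ⟶ U') (w₁ : h₁ ≫ g' = g) (w₂ : h₂ ≫ g' = g) (e₁ : h₁ u = u') (e₂ : h₂ u = u')
    (hres : (U'.residueFieldCongr e₁).inv ≫ h₁.residueFieldMap u = (U'.residueFieldCongr e₂).inv ≫ h₂.residueFieldMap u) :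
    ∃ (U'' : Scheme.{u}) (g'' : U'' ⟶ S) (u'' : U'') (h : U'' ⟶ U), Etale g'' ∧ g'' u'' = s ∧ h ≫ g = g'' ∧ h u'' = u ∧ h ≫ h₁ = h ≫ h₂ := by
  -- the two compositions `Spec κ(u) ⟶ U ⟶ U'` agree
  have key : U.fromSpecResidueField u ≫ h₁ = U.fromSpecResidueField u ≫ h₂ := by
    rw [← Scheme.Hom.SpecMap_residueFieldMap_fromSpecResidueField,
      ← Scheme.Hom.SpecMap_residueFieldMap_fromSpecResidueField,
      ← Scheme.residueFieldCongr_fromSpecResidueField e₁.symm,
      ← Scheme.residueFieldCongr_fromSpecResidueField (X := U') e₂.symm,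
      ← Spec.map_comp_assoc, ← Spec.map_comp_assoc]
    simp only [Scheme.residueFieldCongr_inv] at hres
    rw [hres]
  let X' : Over S := Over.mk g
  let Y' : Over S := Over.mk g'
  let f₁ : X' ⟶ Y' := Over.homMk h₁ w₁
  let f₂ : X' ⟶ Y' := Over.homMk h₂ w₂
  have hdiag : IsOpenImmersion (pullback.diagonal Y'.hom) :=
    inferInstanceAs (IsOpenImmersion (pullback.diagonal g'))
  have hopen : IsOpenImmersion (equalizer.ι f₁ f₂).left := isOpenImmersion_equalizer_ι_left f₁ f₂
  let T : Over S := Over.mk (U.fromSpecResidueField u ≫ g)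
  let t : T ⟶ X' := Over.homMk (U.fromSpecResidueField u) rfl
  have ht : t ≫ f₁ = t ≫ f₂ := by
    ext1
    exact key
  let l : T ⟶ equalizer f₁ f₂ := equalizer.lift t ht
  have hl : l.left ≫ (equalizer.ι f₁ f₂).left = U.fromSpecResidueField u := by
    rw [← Over.comp_left, equalizer.lift_ι]
    rfl
  let pt : ↥T.left := (default : ↥(Spec (U.residueField u)))
  have hu'' : (equalizer.ι f₁ f₂).left (l.left pt) = u := by
    rw [← Scheme.Hom.comp_apply, hl, Scheme.fromSpecResidueField_apply]
  have hw : (equalizer.ι f₁ f₂).left ≫ g = (equalizer f₁ f₂).hom := Over.w (equalizer.ι f₁ f₂)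
  refine ⟨(equalizer f₁ f₂).left, (equalizer f₁ f₂).hom, l.left pt, (equalizer.ι f₁ f₂).left,
    ?_, ?_, hw, hu'', ?_⟩
  · rw [← hw]
    infer_instance
  · rw [← hw, Scheme.Hom.comp_apply, hu'', hu]
  · exact congr($(equalizer.condition f₁ f₂).left)

end Groth.Agent.S1389
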