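import Groth.Statements.S13901
-- import your own Groth.Agent.* helpers here
import Mathlib
import Groth.Agent.Lib.Helper11.P1Conn
import Groth.Agent.Lib.Helper22.ClopenFib

set_option autoImplicit false
universe u
open P1Fin

namespace Groth.Agent.S13901

open AlgebraicGeometry CategoryTheory in
/-- Let S be a scheme with preconnected underlying space and f : X → P^1_S a finite, flat, locally
finitely presented morphism (finite locally free). Then f restricted to any connected component of X
is surjective onto P^1_S. (The published statement allows an arbitrary base S; over a base with two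
points and X a copy of the projective line over one of them, mapped identically into P^1_S, the
connected X misses the other fibre, so the base is taken connected here.) -/
theorem result (S X : Scheme.{u}) [PreconnectedSpace S]
    (f : X ⟶ CohB1.ProjSpaceOver 1 S) [IsFinite f] [Flat f] [LocallyOfFinitePresentation f]
    (x : X) (p : CohB1.ProjSpaceOver 1 S) : ∃ y ∈ connectedComponent x, f y = p := by
  have hPS : PreconnectedSpace ↥(Groth.Agent.Lib.Helper11.P1Conn.PS S) := by
    rw [preconnectedSpace_iff_clopen]
    intro C hC
    have hT : IsClopen ((Groth.Agent.Lib.Helper11.P1Conn.sect' S 0) ⁻¹' C) :=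
      hC.preimage (Groth.Agent.Lib.Helper11.P1Conn.sect' S 0).continuous
    rcases isClopen_iff.mp hT with h | h
    · left
      apply Groth.Agent.Lib.Helper11.P1Conn.clopen_eq_empty' S C hC
      intro s hs
      have : s ∈ (Groth.Agent.Lib.Helper11.P1Conn.sect' S 0) ⁻¹' C := hs
      rw [h] at this
      exact this
    · right
      have hcomp := Groth.Agent.Lib.Helper11.P1Conn.clopen_eq_empty' S Cᶜ hC.compl (by
        intro s hs
        have : s ∈ (Groth.Agent.Lib.Helper11.P1Conn.sect' S 0) ⁻¹' C := by rw [h]; trivial
        exact hs this)
      exact Set.compl_empty_iff.mp hcomp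
  have hP : PreconnectedSpace ↥(CohB1.ProjSpaceOver 1 S) := hPS
  exact Groth.Agent.Lib.Helper22.ClopenFib.exists_mem_connectedComponent (f := f)
    f.isOpenMap f.isClosedMap p (IsFinite.finite_preimage_singleton f p) x

end Groth.Agent.S13901
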