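import Groth.Statements.S13903
import Mathlib

set_option autoImplicit false
universe u
open EtAlg

namespace Groth.Agent.S13903


namespace H13903
open Module

section
variable (K L : Type u) [Field K] [CommRing L] [Algebra K L] [Module.Finite K L]
  [Algebra.IsSeparable K L] (Ω : Type u) [Field Ω] [Algebra K Ω] [IsAlgClosed Ω]

lemma card_quot (m : Ideal L) [m.IsMaximal] :
    Nat.card ((L ⧸ m) →ₐ[K] Ω) = Module.finrank K (L ⧸ m) := by
  letI := Ideal.Quotient.field m
  haveI : Algebra.IsSeparable K (L ⧸ m) := ⟨fun x => by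
    obtain ⟨x, rfl⟩ := Ideal.Quotient.mk_surjective x
    have hx : IsSeparable K x := Algebra.IsSeparable.isSeparable K x
    have hdvd : minpoly K (Ideal.Quotient.mk m x) ∣ minpoly K x := by
      apply minpoly.dvd
      have h1 : Polynomial.aeval (Ideal.Quotient.mk m x) (minpoly K x) =
          Ideal.Quotient.mkₐ K m (Polynomial.aeval x (minpoly K x)) := by
        rw [← Polynomial.aeval_algHom_apply]; rfl
      rw [h1, minpoly.aeval, map_zero]
    exact Polynomial.Separable.of_dvd hx hdvd⟩
  exact AlgHom.natCard_of_splits K (L ⧸ m) Ω (fun _ => IsAlgClosed.splits _)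

variable [IsReduced L]

theorem card_algHom_ge : Module.finrank K L ≤ Nat.card (L →ₐ[K] Ω) := by
  classical
  haveI : IsArtinianRing L := IsArtinianRing.of_finite K L
  haveI : Fintype (MaximalSpectrum L) := Fintype.ofFinite _
  have h1 : Module.finrank K L =
      ∑ m : MaximalSpectrum L, Module.finrank K (L ⧸ m.asIdeal) := by
    rw [((IsArtinianRing.equivPi L).restrictScalars K).toLinearEquiv.finrank_eq,
      Module.finrank_pi_fintype K]
  obtain ⟨Φ, hΦdef⟩ : ∃ Φ : (Σ m : MaximalSpectrum L, (L ⧸ m.asIdeal) →ₐ[K] Ω) → (L →ₐ[K] Ω),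
      ∀ p x, Φ p x = p.2 (Ideal.Quotient.mk p.1.asIdeal x) :=
    ⟨fun p => p.2.comp (Ideal.Quotient.mkₐ K p.1.asIdeal), fun p x => rfl⟩
  have hΦ : Function.Injective Φ := by
    rintro ⟨m, σ⟩ ⟨m', τ⟩ h
    have hmm' : m = m' := by
      apply MaximalSpectrum.ext
      apply m.isMaximal.eq_of_le m'.isMaximal.ne_top
      intro x hx
      have h1 : Φ ⟨m, σ⟩ x = Φ ⟨m', τ⟩ x := by rw [h]
      rw [hΦdef, hΦdef] at h1
      have h2 : σ (Ideal.Quotient.mk m.asIdeal x) = 0 := by
        rw [Ideal.Quotient.eq_zero_iff_mem.2 hx, map_zero]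
      have h3 : τ (Ideal.Quotient.mk m'.asIdeal x) = 0 := by
        have h4 : τ (Ideal.Quotient.mk m'.asIdeal x) = σ (Ideal.Quotient.mk m.asIdeal x) :=
          h1.symm
        rw [h4, h2]
      have hinj : Function.Injective τ := by
        letI := Ideal.Quotient.field m'.asIdeal
        exact (τ : (L ⧸ m'.asIdeal) →+* Ω).injective
      have h5 : Ideal.Quotient.mk m'.asIdeal x = 0 := hinj (by rw [h3, map_zero])
      exact Ideal.Quotient.eq_zero_iff_mem.1 h5
    subst hmm'
    have hστ : σ = τ := by
      apply AlgHom.ext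
      intro y
      obtain ⟨y, rfl⟩ := Ideal.Quotient.mk_surjective y
      have h1 : Φ ⟨m, σ⟩ y = Φ ⟨m, τ⟩ y := by rw [h]
      rw [hΦdef, hΦdef] at h1
      exact h1
    rw [hστ]
  have h2 := Nat.card_le_card_of_injective Φ hΦ
  rw [Nat.card_sigma] at h2
  have h3 : ∑ m : MaximalSpectrum L, Nat.card ((L ⧸ m.asIdeal) →ₐ[K] Ω) =
      ∑ m : MaximalSpectrum L, Module.finrank K (L ⧸ m.asIdeal) :=
    Finset.sum_congr rfl (fun m _ => card_quot K L Ω m.asIdeal)
  rw [h3, ← h1] at h2
  exact h2

end

section
variable {K L : Type u} [Field K] [CommRing L] [Algebra K L] [Module.Finite K L]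
  {Ω : Type u} [Field Ω] [Algebra K Ω]

lemma adjoin_eq_top_of_inj (w : L) (hw : ∀ σ τ : L →ₐ[K] Ω, σ w = τ w → σ = τ)
    (hcard : finrank K L ≤ Nat.card (L →ₐ[K] Ω)) : Algebra.adjoin K {w} = ⊤ := by
  obtain ⟨A', hA'⟩ : ∃ A' : Subalgebra K L, A' = Algebra.adjoin K ({w} : Set L) := ⟨_, rfl⟩
  rw [← hA']
  have hwA : w ∈ A' := hA' ▸ Algebra.subset_adjoin (Set.mem_singleton w)
  haveI : Module.Finite K A' :=
    Module.Finite.of_injective A'.val.toLinearMap Subtype.val_injective
  have hinj : Function.Injective (fun σ : L →ₐ[K] Ω => σ.comp A'.val) := by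
    intro σ τ h
    apply hw
    exact AlgHom.congr_fun h ⟨w, hwA⟩
  have h1 := Nat.card_le_card_of_injective _ hinj
  have h2 := card_algHom_le_finrank K A' Ω
  have h3 : finrank K L ≤ finrank K A' := hcard.trans (h1.trans h2)
  have h4 : finrank K (Subalgebra.toSubmodule A') = finrank K L := by
    rw [Subalgebra.finrank_toSubmodule]
    exact le_antisymm (Submodule.finrank_le (Subalgebra.toSubmodule A')) h3
  exact Algebra.toSubmodule_eq_top.1 (Submodule.eq_top_of_finrank_eq h4)

lemma bad_unique {z t : L} (hgen : Algebra.adjoin K ({z, t} : Set L) = ⊤)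
    (σ τ : L →ₐ[K] Ω) (hne : σ ≠ τ) (c c' : K)
    (hc : σ (c • z + t) = τ (c • z + t)) (hc' : σ (c' • z + t) = τ (c' • z + t)) :
    c = c' := by
  by_contra hcc
  apply hne
  simp only [map_add, map_smul] at hc hc'
  simp only [Algebra.smul_def] at hc hc'
  have hz : σ z = τ z := by
    have h2 : (algebraMap K Ω c - algebraMap K Ω c') * (σ z - τ z) = 0 := by
      linear_combination hc - hc'
    rcases mul_eq_zero.1 h2 with h | h
    · exact absurd ((algebraMap K Ω).injective (sub_eq_zero.1 h)) hcc
    · exact sub_eq_zero.1 h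
  have ht : σ t = τ t := by
    rw [hz] at hc
    exact add_left_cancel hc
  refine AlgHom.ext_of_adjoin_eq_top hgen ?_
  intro y hy
  simp only [Set.mem_insert_iff, Set.mem_singleton_iff] at hy
  rcases hy with rfl | rfl
  · exact hz
  · exact ht

theorem main_aux [IsAlgClosed Ω] [IsReduced L] [Algebra.IsSeparable K L] (z t : L)
    (hgen : Algebra.adjoin K ({z, t} : Set L) = ⊤) (S : Finset K)
    (hS : Module.finrank K L ^ (4 * Module.finrank K L) ≤ S.card) :
    ∃ c ∈ S, Algebra.adjoin K ({c • z + t} : Set L) = ⊤ := by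
  classical
  obtain ⟨d, hd⟩ : ∃ d, d = Module.finrank K L := ⟨_, rfl⟩
  rw [← hd] at hS
  haveI : Fintype (L →ₐ[K] Ω) := Fintype.ofFinite _
  have hHge := card_algHom_ge K L Ω
  have hHle := card_algHom_le_finrank K L Ω
  have hHcard : Fintype.card (L →ₐ[K] Ω) = d := by
    rw [← Nat.card_eq_fintype_card]; omega
  by_contra hcon
  push Not at hcon
  have hbad : ∀ c ∈ S, ∃ p : (L →ₐ[K] Ω) × (L →ₐ[K] Ω),
      p.1 ≠ p.2 ∧ p.1 (c • z + t) = p.2 (c • z + t) := by
    intro c hc
    by_contra hno
    push Not at hno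
    apply hcon c hc
    apply adjoin_eq_top_of_inj (Ω := Ω) _ _ hHge
    intro σ τ hστ
    by_contra hne
    exact hno (σ, τ) hne hστ
  have hsub : S ⊆ ((Finset.univ : Finset (L →ₐ[K] Ω)).offDiag).biUnion
      (fun p => S.filter (fun c => p.1 (c • z + t) = p.2 (c • z + t))) := by
    intro c hc
    obtain ⟨p, hp1, hp2⟩ := hbad c hc
    rw [Finset.mem_biUnion]
    exact ⟨p, by rw [Finset.mem_offDiag]; exact ⟨Finset.mem_univ _, Finset.mem_univ _, hp1⟩,
      Finset.mem_filter.2 ⟨hc, hp2⟩⟩
  have hone : ∀ p ∈ (Finset.univ : Finset (L →ₐ[K] Ω)).offDiag,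
      (S.filter (fun c => p.1 (c • z + t) = p.2 (c • z + t))).card ≤ 1 := by
    intro p hp
    rw [Finset.mem_offDiag] at hp
    rw [Finset.card_le_one]
    intro c hc c' hc'
    rw [Finset.mem_filter] at hc hc'
    exact bad_unique hgen p.1 p.2 hp.2.2 c c' hc.2 hc'.2
  have hcard : S.card ≤ d * d - d := by
    calc S.card ≤ _ := Finset.card_le_card hsub
      _ ≤ ∑ p ∈ (Finset.univ : Finset (L →ₐ[K] Ω)).offDiag,
          (S.filter (fun c => p.1 (c • z + t) = p.2 (c • z + t))).card :=
            Finset.card_biUnion_le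
      _ ≤ ∑ p ∈ (Finset.univ : Finset (L →ₐ[K] Ω)).offDiag, 1 := Finset.sum_le_sum hone
      _ = ((Finset.univ : Finset (L →ₐ[K] Ω)).offDiag).card := by simp
      _ = d * d - d := by rw [Finset.offDiag_card, Finset.card_univ, hHcard]
  have hlt : d * d - d < d ^ (4 * d) := by
    rcases Nat.eq_zero_or_pos d with h0 | hpos
    · rw [h0]; norm_num
    · calc d * d - d < d * d := Nat.sub_lt (Nat.mul_pos hpos hpos) hpos
        _ = d ^ 2 := (sq d).symm
        _ ≤ d ^ (4 * d) := Nat.pow_le_pow_right hpos (by omega)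
  omega

end

theorem main (K L : Type u) [Field K] [CommRing L]
    [Algebra K L] [Module.Finite K L] [IsReduced L] [Algebra.IsSeparable K L] (z t : L)
    (hgen : Algebra.adjoin K ({z, t} : Set L) = ⊤) (S : Finset K)
    (hS : Module.finrank K L ^ (4 * Module.finrank K L) ≤ S.card) :
    ∃ c ∈ S, Algebra.adjoin K ({c • z + t} : Set L) = ⊤ :=
  main_aux (Ω := AlgebraicClosure K) z t hgen S hS

end H13903

/-- Let K be a field and L a finite-dimensional reduced commutative K-algebra of dimension d all of
whose elements are separable over K, generated as a K-algebra by z and t. In any finite set of at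
least d^(4d) elements of K there is an element c such that c • z + t generates L as a K-algebra.
(The published statement does not require separability; for K of characteristic p and L obtained by
adjoining p-th roots of two independent indeterminates, L is a reduced finite K-algebra generated by
two elements with no single generator, so separability over K is assumed here, as the counting in
the published proof requires.) -/
theorem result (K L : Type u) [Field K] [CommRing L]
    [Algebra K L] [Module.Finite K L] [IsReduced L] [Algebra.IsSeparable K L] (z t : L)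
    (hgen : Algebra.adjoin K ({z, t} : Set L) = ⊤) (S : Finset K)
    (hS : Module.finrank K L ^ (4 * Module.finrank K L) ≤ S.card) :
    ∃ c ∈ S, Algebra.adjoin K ({c • z + t} : Set L) = ⊤ := by
  exact H13903.main K L z t hgen S hS

end Groth.Agent.S13903
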