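import Groth.Statements.S13904
import Mathlib.RingTheory.KrullDimension.NonZeroDivisors
import Mathlib.RingTheory.KrullDimension.Polynomial
import Mathlib.RingTheory.KrullDimension.Field
import Mathlib.RingTheory.Ideal.GoingUp
import Mathlib.RingTheory.IntegralClosure.Algebra.Basic
import Mathlib.Tactic
-- import your own Groth.Agent.* helpers here

set_option autoImplicit false
universe u
open CAlg

namespace Groth.Agent.S13904

/-- Let k be a field, A a commutative k-algebra and φ : k[x_1, …, x_r] → A a finite k-algebra map such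
that A/p has Krull dimension r for every minimal prime p of A (an equidimensional affine scheme of
dimension r, finite over affine r-space). Then for every minimal prime p of A and every prime q of
k[x_1, …, x_r] there is a prime P ⊇ p of A with φ⁻¹(P) = q: the finite map restricted to each
irreducible component of Spec A is surjective onto affine r-space. (The published statement is over
an algebraically closed field with φ a Noether normalisation; this row allows any field and any
finite k-algebra map φ.) -/
theorem result (k : Type u) [Field k] (r : ℕ)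
    (A : Type u) [CommRing A] [Algebra k A] (φ : MvPolynomial (Fin r) k →ₐ[k] A)
    (hφ : φ.toRingHom.Finite)
    (hdim : ∀ p ∈ minimalPrimes A, ringKrullDim (A ⧸ p) = r)
    (p : Ideal A) (hp : p ∈ minimalPrimes A)
    (q : Ideal (MvPolynomial (Fin r) k)) [q.IsPrime] :
    ∃ P : Ideal A, P.IsPrime ∧ p ≤ P ∧ P.comap φ.toRingHom = q := by
  classical
  letI : Algebra (MvPolynomial (Fin r) k) A := φ.toRingHom.toAlgebra
  haveI : Algebra.IsIntegral (MvPolynomial (Fin r) k) A := ⟨hφ.to_isIntegral⟩
  haveI hpp : p.IsPrime := hp.1.1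
  set p₀ : Ideal (MvPolynomial (Fin r) k) := p.comap (algebraMap (MvPolynomial (Fin r) k) A) with hp₀
  have hbot : p₀ = ⊥ := by
    by_contra hne
    obtain ⟨x, hx, hx0⟩ := Submodule.exists_mem_ne_zero_of_ne_bot hne
    have hxnz : x ∈ nonZeroDivisors (MvPolynomial (Fin r) k) := mem_nonZeroDivisors_of_ne_zero hx0
    have h1 : ringKrullDim (MvPolynomial (Fin r) k ⧸ p₀) + 1 ≤ ringKrullDim (MvPolynomial (Fin r) k) :=
      ringKrullDim_succ_le_of_surjective (Ideal.Quotient.mk p₀) Ideal.Quotient.mk_surjective hxnz
        (Ideal.Quotient.eq_zero_iff_mem.2 hx)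
    have h2 : ringKrullDim (A ⧸ p) ≤ ringKrullDim (MvPolynomial (Fin r) k ⧸ p₀) := by
      rw [ringKrullDim_quotient, ringKrullDim_quotient]
      refine Order.krullDim_le_of_strictMono
        (fun P => ⟨PrimeSpectrum.comap (algebraMap (MvPolynomial (Fin r) k) A) P.1, ?_⟩) ?_
      · rw [PrimeSpectrum.mem_zeroLocus]
        intro y hy
        have hP := (PrimeSpectrum.mem_zeroLocus _ _).1 P.2
        exact hP hy
      · intro P Q hPQ
        have hlt : P.1.asIdeal < Q.1.asIdeal := (PrimeSpectrum.asIdeal_lt_asIdeal _ _).2 hPQ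
        obtain ⟨x, hxQ, hxP⟩ := SetLike.exists_of_lt hlt
        have := Ideal.comap_lt_comap_of_integral_mem_sdiff (R := MvPolynomial (Fin r) k) hlt.le
          ⟨hxQ, hxP⟩ (Algebra.IsIntegral.isIntegral x)
        change (PrimeSpectrum.comap (algebraMap (MvPolynomial (Fin r) k) A) P.1) <
          (PrimeSpectrum.comap (algebraMap (MvPolynomial (Fin r) k) A) Q.1)
        rw [← PrimeSpectrum.asIdeal_lt_asIdeal]
        exact this
    have h3 : ringKrullDim (MvPolynomial (Fin r) k) = r := by
      rw [MvPolynomial.ringKrullDim_of_isNoetherianRing, ringKrullDim_eq_zero_of_field]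
      simp
    rw [hdim p hp] at h2
    have h4 : (r : WithBot ℕ∞) + 1 ≤ r := (add_le_add_left h2 1).trans (h1.trans h3.le)
    norm_cast at h4
    omega
  obtain ⟨P, hpP, hPprime, hPq⟩ :=
    Ideal.exists_ideal_over_prime_of_isIntegral_of_isPrime q p (by rw [← hp₀, hbot]; exact bot_le)
  exact ⟨P, hPprime, hpP, hPq⟩

end Groth.Agent.S13904
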