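import Groth.Statements.S13905
import Groth.Agent.Lib.Helper21.LinAlg
-- import your own Groth.Agent.* helpers here

set_option autoImplicit false
universe u
open ProjGeom

namespace Groth.Agent.S13905

open W4c1etcurveeff3b in
open Module in
/-- Hyperplanes of projective n-space in general position, in linear-algebra form (V of dimension n + 1
over a field k, hyperplanes as n-dimensional subspaces, points as nonzero vectors): if S is a finite
set of hyperplanes in general position with at least n members and H is a hyperplane containing none
of the lines cut out by n members of S, then S with H added is again in general position. (The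
published statement is for hyperplanes of P^n_k and closed points; a closed point lying on n + 1
members is automatically one of the rational points cut out by n of them, so the condition on
nonzero vectors of V is the same condition.) -/
theorem result (k V : Type u) [Field k]
    [AddCommGroup V] [Module k V] [DecidableEq (Submodule k V)] (n : ℕ) (S : Finset (Submodule k V))
    (hS : InGeneralPosition k V n S) (hn : n ≤ S.card) (H : Submodule k V)
    (hH : Module.finrank k H = n)
    (havoid : ∀ T ⊆ S, T.card = n → ¬ (T.inf id ≤ H)) :
    InGeneralPosition k V n (insert H S) := by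
  obtain ⟨h1, h2, h3, h4⟩ := hS
  haveI : FiniteDimensional k V := Module.finite_of_finrank_pos (by omega)
  by_cases hHS : H ∈ S
  · rw [Finset.insert_eq_of_mem hHS]; exact ⟨h1, h2, h3, h4⟩
  have herase : ∀ T : Finset (Submodule k V), T ⊆ insert H S → T.erase H ⊆ S := by
    intro T hT x hx
    have hx' := Finset.mem_erase.1 hx
    rcases Finset.mem_insert.1 (hT hx'.2) with h | h
    · exact absurd h hx'.1
    · exact h
  have hnotmem : ∀ T : Finset (Submodule k V), T ⊆ insert H S → H ∉ T → T ⊆ S := by
    intro T hT hHT x hx
    rcases Finset.mem_insert.1 (hT hx) with h | h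
    · exact absurd (h ▸ hx) hHT
    · exact h
  refine ⟨h1, ?_, ?_, ?_⟩
  · intro H' hH'
    rcases Finset.mem_insert.1 hH' with rfl | h
    · exact hH
    · exact h2 _ h
  · intro T hT hcard
    by_cases hHT : H ∈ T
    · set T' := T.erase H with hT'
      have hT'S : T' ⊆ S := herase T hT
      have hcard' : T'.card + 1 = T.card := Finset.card_erase_add_one hHT
      have hTeq : T = insert H T' := (Finset.insert_erase hHT).symm
      have hinf : T.inf id = H ⊓ T'.inf id := by
        conv_lhs => rw [hTeq]
        rw [Finset.inf_insert]; rfl
      have hW : Module.finrank k ↥(T'.inf id) = n + 1 - T'.card := h3 T' hT'S (by omega)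
      have hnot : ¬ (T'.inf id ≤ H) := by
        intro hle
        obtain ⟨T'', hT'T'', hT''S, hT''card⟩ := Finset.exists_subsuperset_card_eq hT'S (by omega) hn
        exact havoid T'' hT''S hT''card ((Finset.inf_mono hT'T'').trans hle)
      have := Groth.Agent.Lib.Helper21.finrank_inf_hyperplane n h1 H (T'.inf id) hH hnot
      rw [hinf]
      omega
    · exact h3 T (hnotmem T hT hHT) hcard
  · intro v hv T hT hvT
    by_cases hHT : H ∈ T
    · set T' := T.erase H with hT'
      have hT'S : T' ⊆ S := herase T hT
      have hcard' : T'.card + 1 = T.card := Finset.card_erase_add_one hHT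
      have hvT' : ∀ H' ∈ T', v ∈ H' := fun H' h => hvT H' (Finset.mem_of_mem_erase h)
      have hle := h4 v hv T' hT'S hvT'
      by_contra hgt
      push_neg at hgt
      have hT'n : T'.card = n := by omega
      have hfr := h3 T' hT'S hle
      have hfr1 : finrank k ↥(T'.inf id) = 1 := by omega
      have hvmem : v ∈ T'.inf id := by
        rw [Submodule.mem_finsetInf]
        exact hvT'
      apply havoid T' hT'S hT'n
      intro w hw
      have hv' : (⟨v, hvmem⟩ : ↥(T'.inf id)) ≠ 0 := by
        intro h; exact hv (congrArg Subtype.val h)
      obtain ⟨c, hc⟩ := (finrank_eq_one_iff_of_nonzero' (⟨v, hvmem⟩ : ↥(T'.inf id)) hv').1 hfr1 ⟨w, hw⟩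
      have hc' : c • v = w := congrArg Subtype.val hc
      rw [← hc']
      exact H.smul_mem c (hvT H hHT)
    · exact h4 v hv T (hnotmem T hT hHT) hvT

end Groth.Agent.S13905
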