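import Groth.Statements.S13907
import Groth.Agent.Lib.Lead.ProjTop2

set_option autoImplicit false
universe u
open ProjGeom

namespace Groth.Agent.S13907

open MvPolynomial Groth.Agent.Lib.Lead.ProjTop

variable (k : Type u) [Field k] (n : ℕ)

/-- the coordinates `x_1, …, x_i`. -/
def T (i : ℕ) : Set (MvPolynomial (Fin (n + 1)) k) :=
  (fun j : Fin (n + 1) => (MvPolynomial.X j : MvPolynomial (Fin (n + 1)) k)) ''
    {j : Fin (n + 1) | 1 ≤ j.val ∧ j.val ≤ i}

lemma memZ (i : ℕ) (y : PS k n) :
    y ∈ ProjectiveSpectrum.zeroLocus (CohB1.polyGrading n k) (T k n i) ↔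
      ∀ j : Fin (n + 1), 1 ≤ j.val → j.val ≤ i →
        (X j : MvPolynomial (Fin (n + 1)) k) ∈ y.asHomogeneousIdeal.toIdeal := by
  rw [ProjectiveSpectrum.mem_zeroLocus]
  constructor
  · intro h j h1 h2
    exact h ⟨j, ⟨h1, h2⟩, rfl⟩
  · rintro h _ ⟨j, ⟨h1, h2⟩, rfl⟩
    exact h j h1 h2

/-- a prime containing `x_1, …, x_n` has quotient of dimension at most one. -/
lemma dim_le_one (P : Ideal (MvPolynomial (Fin (n + 1)) k))
    (hP : ∀ j : Fin (n + 1), 1 ≤ j.val → (X j : MvPolynomial (Fin (n + 1)) k) ∈ P) :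
    ringKrullDim (MvPolynomial (Fin (n + 1)) k ⧸ P) ≤ 1 := by
  let ρ : Polynomial k →ₐ[k] (MvPolynomial (Fin (n + 1)) k ⧸ P) :=
    Polynomial.aeval (Ideal.Quotient.mk P (X 0))
  have hmem : ∀ f : MvPolynomial (Fin (n + 1)) k, Ideal.Quotient.mk P f ∈ ρ.range := by
    intro f
    induction f using MvPolynomial.induction_on with
    | C a =>
      refine ⟨Polynomial.C a, ?_⟩
      show Polynomial.aeval (Ideal.Quotient.mk P (X 0)) (Polynomial.C a) = _
      rw [Polynomial.aeval_C]
      rfl
    | add p q hp hq =>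
      rw [map_add]
      exact Subalgebra.add_mem _ hp hq
    | mul_X p j hp =>
      rw [map_mul]
      by_cases hj : j = 0
      · subst hj
        refine Subalgebra.mul_mem _ hp ⟨Polynomial.X, ?_⟩
        show Polynomial.aeval (Ideal.Quotient.mk P (X 0)) Polynomial.X = _
        rw [Polynomial.aeval_X]
      · have hj1 : 1 ≤ j.val := by
          rcases Nat.eq_zero_or_pos j.val with h | h
          · exact absurd (Fin.ext h) hj
          · exact h
        have h0 : Ideal.Quotient.mk P (X j) = 0 := Ideal.Quotient.eq_zero_iff_mem.2 (hP j hj1)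
        rw [h0, mul_zero]
        exact Subalgebra.zero_mem _
  have hsurj : Function.Surjective (ρ : Polynomial k →+* (MvPolynomial (Fin (n + 1)) k ⧸ P)) := by
    intro z
    obtain ⟨f, rfl⟩ := Ideal.Quotient.mk_surjective z
    obtain ⟨g, hg⟩ := hmem f
    exact ⟨g, hg⟩
  have h1 := ringKrullDim_le_of_surjective
    (ρ : Polynomial k →+* (MvPolynomial (Fin (n + 1)) k ⧸ P)) hsurj
  rw [Polynomial.ringKrullDim_of_isNoetherianRing, ringKrullDim_eq_zero_of_field, zero_add] at h1
  exact h1

/-- Over an algebraically closed field k, let C be a nonempty irreducible closed subset of the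
underlying space of projective n-space with homogeneous coordinates x_0, …, x_n, and for i ≤ n let
L_i be the linear subspace where x_1, …, x_i vanish. Then there is an index i ≤ n with C ∩ L_i
nonempty and of topological Krull dimension zero. -/
theorem result (k : Type u) [Field k]
    [IsAlgClosed k] (n : ℕ) (C : Set (ProjectiveSpectrum (CohB1.polyGrading n k)))
    (hC : IsClosed C) (hirr : IsIrreducible C) :
    ∃ i : ℕ, i ≤ n ∧
      (C ∩ ProjectiveSpectrum.zeroLocus (CohB1.polyGrading n k)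
          ((fun j : Fin (n + 1) => (MvPolynomial.X j : MvPolynomial (Fin (n + 1)) k)) ''
            {j : Fin (n + 1) | 1 ≤ j.val ∧ j.val ≤ i})).Nonempty ∧
      topologicalKrullDim ↥(C ∩ ProjectiveSpectrum.zeroLocus (CohB1.polyGrading n k)
          ((fun j : Fin (n + 1) => (MvPolynomial.X j : MvPolynomial (Fin (n + 1)) k)) ''
            {j : Fin (n + 1) | 1 ≤ j.val ∧ j.val ≤ i})) = 0 := by
  classical
  -- the property "dimension at least one"
  let B : ℕ → Prop := fun i => ∃ x y : PS k n,
    x ∈ C ∩ ProjectiveSpectrum.zeroLocus (CohB1.polyGrading n k) (T k n i) ∧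
    y ∈ C ∩ ProjectiveSpectrum.zeroLocus (CohB1.polyGrading n k) (T k n i) ∧ x < y
  have hBn : ¬ B n := by
    rintro ⟨x, y, hx, hy, hxy⟩
    obtain ⟨c, hc, hd⟩ := coheight_spec k n x
    have h1 := Order.coheight_add_one_le hxy
    rw [hc] at h1
    have h2 : (1 : ℕ∞) ≤ (c : ℕ∞) := le_trans le_add_self h1
    have hc1 : 1 ≤ c := by exact_mod_cast h2
    have h3 := dim_le_one k n x.asHomogeneousIdeal.toIdeal (fun j hj =>
      (memZ k n n x).1 hx.2 j hj (by have := j.isLt; omega))
    rw [hd] at h3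
    have h4 : c + 1 ≤ 1 := by exact_mod_cast h3
    omega
  have hex : ∃ i, ¬ B i := ⟨n, hBn⟩
  obtain ⟨i0, hi0⟩ : ∃ i0, i0 = Nat.find hex := ⟨_, rfl⟩
  have hi0n : i0 ≤ n := by rw [hi0]; exact Nat.find_min' hex hBn
  have hnotB : ¬ B i0 := by rw [hi0]; exact Nat.find_spec hex
  have hWc : IsClosed (C ∩ ProjectiveSpectrum.zeroLocus (CohB1.polyGrading n k) (T k n i0)) :=
    hC.inter (ProjectiveSpectrum.isClosed_zeroLocus _ _)
  have hne : (C ∩ ProjectiveSpectrum.zeroLocus (CohB1.polyGrading n k) (T k n i0)).Nonempty := by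
    rcases Nat.eq_zero_or_pos i0 with h0 | hpos
    · obtain ⟨x, hx⟩ := hirr.nonempty
      refine ⟨x, hx, ?_⟩
      rw [memZ]
      intro j h1 h2
      omega
    · obtain ⟨i, hi⟩ : ∃ i, i0 = i + 1 := ⟨i0 - 1, by omega⟩
      have hBi : B i := by
        by_contra hcon
        have := Nat.find_min hex (m := i) (by rw [← hi0]; omega)
        exact this hcon
      obtain ⟨x, y, hx, -, hxy⟩ := hBi
      obtain ⟨c, hc, hd⟩ := coheight_spec k n x
      have h1 := Order.coheight_add_one_le hxy
      rw [hc] at h1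
      have h2 : (1 : ℕ∞) ≤ (c : ℕ∞) := le_trans le_add_self h1
      have hc1 : 1 ≤ c := by exact_mod_cast h2
      have hlt : i + 1 < n + 1 := by omega
      have hJle : Ideal.span ({X (⟨i + 1, hlt⟩ : Fin (n + 1))} : Set (SR k n)) ⊔
          x.asHomogeneousIdeal.toIdeal ≤ (mIrr k n).asIdeal := by
        refine sup_le ?_ (pr_lt k n x).le
        rw [Ideal.span_le, Set.singleton_subset_iff]
        exact (RingHom.mem_ker).2 (constantCoeff_X _ _)
      haveI : (mIrr k n).asIdeal.IsPrime := (mIrr k n).isPrime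
      obtain ⟨Q, hQmin, -⟩ := Ideal.exists_minimalPrimes_le hJle
      haveI hQp : Q.IsPrime := hQmin.1.1
      obtain ⟨m, c', hcQ, hcP, hm1, -⟩ := quot_dims k n x.asHomogeneousIdeal.toIdeal Q
        ({X (⟨i + 1, hlt⟩ : Fin (n + 1))} : Set (SR k n)) (Set.finite_singleton _) hQmin
      rw [Set.ncard_singleton] at hm1
      rw [hd] at hcP
      have h3 : c + 1 = m + c' := by exact_mod_cast hcP
      have hQh : Q.IsHomogeneous (CohB1.polyGrading n k) := by
        refine isHomogeneous_of_mem_minimalPrimes k n _ Q ?_ hQmin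
        refine Ideal.IsHomogeneous.sup ?_ x.asHomogeneousIdeal.isHomogeneous
        apply Ideal.homogeneous_span
        intro a ha
        rw [Set.mem_singleton_iff] at ha
        subst ha
        exact ⟨1, isHomogeneous_X k _⟩
      have hQne : ringKrullDim (SR k n ⧸ Q) ≠ 0 := by
        rw [hcQ]
        have : c' ≠ 0 := by omega
        exact_mod_cast this
      obtain ⟨z, hz⟩ := exists_pt_of_prime k n Q hQp hQh (not_irr_le_of_dim k n Q hQne)
      have hxz : x ≤ z := by
        intro a ha
        show a ∈ z.asHomogeneousIdeal.toIdeal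
        rw [hz]
        exact hQmin.1.2 (le_sup_right
          (a := Ideal.span ({X (⟨i + 1, hlt⟩ : Fin (n + 1))} : Set (SR k n))) ha)
      refine ⟨z, mem_of_le_of_isClosed k n hC hx.1 hxz, ?_⟩
      rw [memZ]
      intro j h1 h2
      by_cases hji : j.val ≤ i
      · exact hxz ((memZ k n i x).1 hx.2 j h1 hji)
      · have hj : j = ⟨i + 1, hlt⟩ := Fin.ext (by simp only; omega)
        rw [hj, hz]
        exact hQmin.1.2 (le_sup_left
          (b := x.asHomogeneousIdeal.toIdeal) (Ideal.subset_span rfl))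
  refine ⟨i0, hi0n, hne, ?_⟩
  show topologicalKrullDim
    ↥(C ∩ ProjectiveSpectrum.zeroLocus (CohB1.polyGrading n k) (T k n i0)) = 0
  rw [topDim_closed k n _ hWc]
  haveI : Nonempty ↥(C ∩ ProjectiveSpectrum.zeroLocus (CohB1.polyGrading n k) (T k n i0)) :=
    hne.to_subtype
  refine le_antisymm ?_ Order.krullDim_nonneg
  rw [Order.krullDim_nonpos_iff_forall_isMax]
  intro a b hab
  by_contra hba
  exact hnotB ⟨a.1, b.1, a.2, b.2, lt_of_le_not_ge hab hba⟩

end Groth.Agent.S13907
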