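import Groth.Statements.S13911
import Groth.Agent.Lib.Lead.Conic

set_option autoImplicit false
universe u
open PlaneConic

namespace Groth.Agent.S13911

open MvPolynomial Module Matrix Groth.Agent.Lib.Lead.LinForms Groth.Agent.Lib.Lead.Conic


/-- For an algebraically closed field k of characteristic zero, a nonzero symmetric 3 × 3 matrix Q over
k and the ternary quadratic form f = Σ Q_ij X_i X_j in k[X_0, X_1, X_2] (the equation of a plane
conic): (1) f is irreducible iff det Q ≠ 0; (2) the conic has a singular point, that is a nonzero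
vector at which all partial derivatives of f vanish, iff det Q = 0 (so smooth conics are exactly the
irreducible ones); (3) f is the product of two linearly independent linear forms (two distinct
lines) iff rank Q = 2; (4) f is the square of a linear form (a double line) iff rank Q = 1. -/
theorem result (k : Type u) [Field k] [IsAlgClosed k] [CharZero k]
    (Q : Matrix (Fin 3) (Fin 3) k) (hQ : Q.IsSymm) (hQ0 : Q ≠ 0) (f : MvPolynomial (Fin 3) k)
    (hf : f = ∑ i : Fin 3, ∑ j : Fin 3, Q i j • (MvPolynomial.X i * MvPolynomial.X j)) :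
    (Irreducible f ↔ Q.det ≠ 0) ∧
    ((∃ u : Fin 3 → k, u ≠ 0 ∧ ∀ i : Fin 3, MvPolynomial.eval u (MvPolynomial.pderiv i f) = 0) ↔ Q.det = 0) ∧
    ((∃ a b : Fin 3 → k, LinearIndependent k ![a, b] ∧
        f = (∑ i : Fin 3, a i • MvPolynomial.X i) * (∑ i : Fin 3, b i • MvPolynomial.X i)) ↔ Q.rank = 2) ∧
    ((∃ a : Fin 3 → k, f = (∑ i : Fin 3, a i • MvPolynomial.X i) ^ 2) ↔ Q.rank = 1) := by
  classical
  have h2 : (2 : k) ≠ 0 := two_ne_zero
  have hfq : f = qf Q := hf
  subst hfq
  have hf0 : qf Q ≠ 0 := qf_ne_zero h2 hQ hQ0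
  have hdet_of_rank : Q.rank < 3 → Q.det = 0 := by
    intro hr
    by_contra hdet
    have := Matrix.rank_of_isUnit Q ((Matrix.isUnit_iff_isUnit_det Q).mpr
      (isUnit_iff_ne_zero.mpr hdet))
    rw [Fintype.card_fin] at this
    omega
  refine ⟨⟨?_, ?_⟩, ⟨?_, ?_⟩, ⟨?_, ?_⟩, ⟨?_, ?_⟩⟩
  · -- irreducible → det ≠ 0
    intro hirr hdet
    obtain ⟨a, b, hab⟩ := exists_factor_of_det_eq_zero hQ hdet
    have ha0 : lf a ≠ 0 := by
      intro h
      exact hf0 (by rw [hab, h, zero_mul])
    have hb0 : lf b ≠ 0 := by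
      intro h
      exact hf0 (by rw [hab, h, mul_zero])
    rcases hirr.isUnit_or_isUnit hab with h | h
    · exact (irreducible_of_isHomogeneous_one (lf_isHomogeneous a) ha0).not_isUnit h
    · exact (irreducible_of_isHomogeneous_one (lf_isHomogeneous b) hb0).not_isUnit h
  · -- det ≠ 0 → irreducible
    intro hdet
    refine irreducible_iff.mpr ⟨?_, ?_⟩
    · intro hu
      obtain ⟨v, hv⟩ := hu.exists_right_inv
      have hv0 : v ≠ 0 := by
        rintro rfl
        simp at hv
      have h1 := totalDegree_mul_of_isDomain hf0 hv0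
      rw [hv, totalDegree_one, (qf_isHomogeneous Q).totalDegree hf0] at h1
      omega
    · intro g h hgh
      by_contra hboth
      push Not at hboth
      obtain ⟨a, b, hab⟩ := exists_factor_of_mul hf0 hgh hboth.1 hboth.2
      exact hdet (det_eq_zero_of_factor h2 hQ hab)
  · -- singular point → det = 0
    rintro ⟨u, hu0, hu⟩
    apply Matrix.exists_mulVec_eq_zero_iff.mp
    refine ⟨u, hu0, ?_⟩
    funext i
    have h1 := eval_pderiv_qf hQ i u
    rw [hu i] at h1
    rcases mul_eq_zero.mp h1.symm with h' | h'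
    · exact absurd h' h2
    · exact h'
  · intro hdet
    obtain ⟨u, hu0, hQu⟩ := Matrix.exists_mulVec_eq_zero_iff.mpr hdet
    refine ⟨u, hu0, fun i => ?_⟩
    rw [eval_pderiv_qf hQ, hQu, Pi.zero_apply, mul_zero]
  · -- two distinct lines → rank 2
    rintro ⟨a, b, hind, hab⟩
    exact rank_eq_two h2 (two_smul_mulVec hQ hab) hind
  · intro hrank
    obtain ⟨a, b, hab⟩ := exists_factor_of_det_eq_zero hQ (hdet_of_rank (by omega))
    refine ⟨a, b, ?_, hab⟩
    by_contra hdep
    have := rank_eq_one h2 (two_smul_mulVec hQ hab) hdep hQ0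
    omega
  · -- double line → rank 1
    rintro ⟨a, ha⟩
    have hab : qf Q = lf a * lf a := by
      rw [ha, sq]
      rfl
    refine rank_eq_one h2 (two_smul_mulVec hQ hab) ?_ hQ0
    intro hind
    have ha0 : a ≠ 0 := hind.ne_zero 0
    exact (LinearIndependent.pair_iff' ha0).mp hind 1 (one_smul _ _)
  · intro hrank
    obtain ⟨a, b, hab⟩ := exists_factor_of_det_eq_zero hQ (hdet_of_rank (by omega))
    by_cases hind : LinearIndependent k ![a, b]
    · have := rank_eq_two h2 (two_smul_mulVec hQ hab) hind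
      omega
    · rcases dep_cases hind with ha | ⟨c, hc⟩
      · exfalso
        apply hf0
        rw [hab, ha, lf_zero, zero_mul]
      · obtain ⟨r, hr⟩ := IsAlgClosed.exists_eq_mul_self c
        refine ⟨r • a, ?_⟩
        show qf Q = lf (r • a) ^ 2
        rw [hab, hc, lf_smul, lf_smul, smul_eq_C_mul, smul_eq_C_mul, hr, C_mul]
        ring

end Groth.Agent.S13911
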