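import Groth.Statements.S13912
import Mathlib

set_option autoImplicit false
universe u
open PlaneConic

namespace Groth.Agent.S13912

open MvPolynomial

section LA
variable {k V : Type*} [Field k] [AddCommGroup V] [Module k V]

theorem lemC (K : Submodule k V) (q r : V →ₗ[k] k) (h : ∀ y ∈ K, q y * r y = 0) :
    (∀ y ∈ K, q y = 0) ∨ (∀ y ∈ K, r y = 0) := by
  by_contra hcon
  push_neg at hcon
  obtain ⟨⟨y, hy, hqy⟩, ⟨z, hz, hrz⟩⟩ := hcon
  have hry : r y = 0 := by
    rcases mul_eq_zero.mp (h y hy) with h1 | h1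
    · exact absurd h1 hqy
    · exact h1
  have hqz : q z = 0 := by
    rcases mul_eq_zero.mp (h z hz) with h1 | h1
    · exact h1
    · exact absurd h1 hrz
  have h2 := h (y + z) (K.add_mem hy hz)
  rw [map_add, map_add, hry, hqz, add_zero, zero_add] at h2
  rcases mul_eq_zero.mp h2 with h1 | h1
  · exact hqy h1
  · exact hrz h1

theorem lemB' (K : Submodule k V) (p q r s : V →ₗ[k] k)
    (h : ∀ y ∈ K, p y * s y = q y * r y) (y₀ : V) (hy₀ : y₀ ∈ K) (hp : p y₀ ≠ 0)
    (hq : ∀ y ∈ K, p y = 0 → q y = 0) :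
    ∃ c : k, ∀ y ∈ K, q y = c * p y ∧ s y = c * r y := by
  refine ⟨q y₀ / p y₀, ?_⟩
  have hqy : ∀ y ∈ K, q y = q y₀ / p y₀ * p y := by
    intro y hy
    have hmem : p y₀ • y - p y • y₀ ∈ K := K.sub_mem (K.smul_mem _ hy) (K.smul_mem _ hy₀)
    have h0 : p (p y₀ • y - p y • y₀) = 0 := by
      simp only [map_sub, map_smul, smul_eq_mul]; ring
    have h1 := hq _ hmem h0
    simp only [map_sub, map_smul, smul_eq_mul] at h1
    rw [div_mul_eq_mul_div, eq_div_iff hp]
    linear_combination h1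
  have hsy : ∀ y ∈ K, p y ≠ 0 → s y = q y₀ / p y₀ * r y := by
    intro y hy hpy
    have h1 := h y hy
    rw [hqy y hy] at h1
    have h3 : p y * (s y - q y₀ / p y₀ * r y) = 0 := by linear_combination h1
    rcases mul_eq_zero.mp h3 with h2 | h2
    · exact absurd h2 hpy
    · exact sub_eq_zero.mp h2
  intro y hy
  refine ⟨hqy y hy, ?_⟩
  by_cases hpy : p y = 0
  · have h1 := hsy (y + y₀) (K.add_mem hy hy₀) (by rw [map_add, hpy, zero_add]; exact hp)
    have h2 := hsy y₀ hy₀ hp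
    rw [map_add, map_add] at h1
    linear_combination h1 - h2
  · exact hsy y hy hpy

theorem lemB (K : Submodule k V) (p q r s : V →ₗ[k] k)
    (h : ∀ y ∈ K, p y * s y = q y * r y) (y₀ : V) (hy₀ : y₀ ∈ K) (hp : p y₀ ≠ 0) :
    (∃ c : k, ∀ y ∈ K, q y = c * p y ∧ s y = c * r y) ∨
    (∃ c : k, ∀ y ∈ K, r y = c * p y ∧ s y = c * q y) := by
  have hC := lemC (K ⊓ LinearMap.ker p) q r (by
    intro y hy
    rw [Submodule.mem_inf, LinearMap.mem_ker] at hy
    have h1 := h y hy.1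
    rw [hy.2, zero_mul] at h1
    exact h1.symm)
  rcases hC with hq | hr
  · left
    exact lemB' K p q r s h y₀ hy₀ hp
      (fun y hy hpy => hq y (Submodule.mem_inf.mpr ⟨hy, LinearMap.mem_ker.mpr hpy⟩))
  · right
    exact lemB' K p r q s (fun y hy => by rw [h y hy, mul_comm]) y₀ hy₀ hp
      (fun y hy hpy => hr y (Submodule.mem_inf.mpr ⟨hy, LinearMap.mem_ker.mpr hpy⟩))

theorem lemA (K : Submodule k V) (p q r s : V →ₗ[k] k)
    (h : ∀ y ∈ K, p y * s y = q y * r y) :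
    (∃ b0 b1 : k, (b0 ≠ 0 ∨ b1 ≠ 0) ∧
      ∀ y ∈ K, p y * b0 + q y * b1 = 0 ∧ r y * b0 + s y * b1 = 0) ∨
    (∃ a0 a1 : k, (a0 ≠ 0 ∨ a1 ≠ 0) ∧
      ∀ y ∈ K, a0 * p y + a1 * r y = 0 ∧ a0 * q y + a1 * s y = 0) := by
  by_cases hp : ∀ y ∈ K, p y = 0
  · have hqr : ∀ y ∈ K, q y * r y = 0 := by
      intro y hy
      rw [← h y hy, hp y hy, zero_mul]
    rcases lemC K q r hqr with hq | hr
    · right
      refine ⟨1, 0, Or.inl one_ne_zero, fun y hy => ?_⟩
      rw [hp y hy, hq y hy]; simp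
    · left
      refine ⟨1, 0, Or.inl one_ne_zero, fun y hy => ?_⟩
      rw [hp y hy, hr y hy]; simp
  · push_neg at hp
    obtain ⟨y₀, hy₀, hpy₀⟩ := hp
    rcases lemB K p q r s h y₀ hy₀ hpy₀ with ⟨c, hc⟩ | ⟨c, hc⟩
    · left
      refine ⟨-c, 1, Or.inr one_ne_zero, fun y hy => ?_⟩
      rw [(hc y hy).1, (hc y hy).2]
      constructor <;> ring
    · right
      refine ⟨-c, 1, Or.inr one_ne_zero, fun y hy => ?_⟩
      rw [(hc y hy).1, (hc y hy).2]
      constructor <;> ring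

theorem lemE (ℓ u w : V →ₗ[k] k) (hu : ∀ y, ℓ y = 0 → u y = 0) (hw : ∀ y, ℓ y = 0 → w y = 0) :
    ∃ a0 a1 : k, (a0 ≠ 0 ∨ a1 ≠ 0) ∧ ∀ x, a0 * u x + a1 * w x = 0 := by
  by_cases hℓ : ∀ x, ℓ x = 0
  · refine ⟨1, 0, Or.inl one_ne_zero, fun x => ?_⟩
    rw [hu x (hℓ x)]; simp
  · push_neg at hℓ
    obtain ⟨x₀, hx₀⟩ := hℓ
    have key : ∀ (f : V →ₗ[k] k), (∀ y, ℓ y = 0 → f y = 0) →
        ∀ x, ℓ x₀ * f x = ℓ x * f x₀ := by
      intro f hf x
      have h0 : ℓ (ℓ x₀ • x - ℓ x • x₀) = 0 := by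
        simp only [map_sub, map_smul, smul_eq_mul]; ring
      have h1 := hf _ h0
      simp only [map_sub, map_smul, smul_eq_mul] at h1
      linear_combination h1
    by_cases hc : u x₀ = 0 ∧ w x₀ = 0
    · refine ⟨1, 0, Or.inl one_ne_zero, fun x => ?_⟩
      have h1 := key u hu x
      rw [hc.1, mul_zero] at h1
      rcases mul_eq_zero.mp h1 with h2 | h2
      · exact absurd h2 hx₀
      · rw [h2]; simp
    · refine ⟨-(w x₀), u x₀, ?_, fun x => ?_⟩
      · by_contra hcon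
        push_neg at hcon
        exact hc ⟨hcon.2, neg_eq_zero.mp hcon.1⟩
      · have h1 := key u hu x
        have h2 := key w hw x
        have h4 : ℓ x₀ * (-(w x₀) * u x + u x₀ * w x) = 0 := by
          linear_combination (-(w x₀)) * h1 + (u x₀) * h2
        rcases mul_eq_zero.mp h4 with h3 | h3
        · exact absurd h3 hx₀
        · exact h3

theorem star (p q r s ℓ₁ ℓ₂ : V →ₗ[k] k)
    (h : ∀ x, p x * s x - q x * r x = ℓ₁ x * ℓ₂ x) :
    ∃ a0 a1 b0 b1 : k, (a0 ≠ 0 ∨ a1 ≠ 0) ∧ (b0 ≠ 0 ∨ b1 ≠ 0) ∧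
      ∀ x, a0 * (p x * b0 + q x * b1) + a1 * (r x * b0 + s x * b1) = 0 := by
  have hK : ∀ y ∈ LinearMap.ker ℓ₁, p y * s y = q y * r y := by
    intro y hy
    rw [LinearMap.mem_ker] at hy
    have h1 := h y
    rw [hy, zero_mul] at h1
    exact sub_eq_zero.mp h1
  rcases lemA (LinearMap.ker ℓ₁) p q r s hK with ⟨b0, b1, hb, hb'⟩ | ⟨a0, a1, ha, ha'⟩
  · obtain ⟨a0, a1, ha, ha'⟩ := lemE ℓ₁ (b0 • p + b1 • q) (b0 • r + b1 • s)
      (fun y hy => by
        have h1 := (hb' y (LinearMap.mem_ker.mpr hy)).1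
        simp only [LinearMap.add_apply, LinearMap.smul_apply, smul_eq_mul]
        linear_combination h1)
      (fun y hy => by
        have h1 := (hb' y (LinearMap.mem_ker.mpr hy)).2
        simp only [LinearMap.add_apply, LinearMap.smul_apply, smul_eq_mul]
        linear_combination h1)
    refine ⟨a0, a1, b0, b1, ha, hb, fun x => ?_⟩
    have h1 := ha' x
    simp only [LinearMap.add_apply, LinearMap.smul_apply, smul_eq_mul] at h1
    linear_combination h1
  · obtain ⟨b0, b1, hb, hb'⟩ := lemE ℓ₁ (a0 • p + a1 • r) (a0 • q + a1 • s)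
      (fun y hy => by
        have h1 := (ha' y (LinearMap.mem_ker.mpr hy)).1
        simp only [LinearMap.add_apply, LinearMap.smul_apply, smul_eq_mul]
        linear_combination h1)
      (fun y hy => by
        have h1 := (ha' y (LinearMap.mem_ker.mpr hy)).2
        simp only [LinearMap.add_apply, LinearMap.smul_apply, smul_eq_mul]
        linear_combination h1)
    refine ⟨a0, a1, b0, b1, ha, hb, fun x => ?_⟩
    have h1 := hb' x
    simp only [LinearMap.add_apply, LinearMap.smul_apply, smul_eq_mul] at h1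
    linear_combination h1

end LA

section Main
variable {k : Type*} [Field k]

theorem lin {p : MvPolynomial (Fin 3) k} (hp : p.IsHomogeneous 1) :
    ∃ c : Fin 3 → k, p = ∑ i, C (c i) * X i := by
  have h : ∀ i, ∃ c : k, pderiv i p = C c := fun i =>
    ⟨_, (totalDegree_eq_zero_iff_eq_C (p := pderiv i p)).mp
      ((totalDegree_zero_iff_isHomogeneous (p := pderiv i p)).mpr
        (by simpa using hp.pderiv (i := i)))⟩
  choose c hc using h
  refine ⟨c, ?_⟩
  have h1 := hp.sum_X_mul_pderiv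
  rw [one_nsmul] at h1
  rw [← h1]
  exact Finset.sum_congr rfl fun i _ => by rw [hc i, mul_comm]

/-- the linear functional with coefficient vector `c` -/
def lf (c : Fin 3 → k) : (Fin 3 → k) →ₗ[k] k where
  toFun x := ∑ t, c t * x t
  map_add' x y := by simp [mul_add, Finset.sum_add_distrib]
  map_smul' a x := by simp [Finset.mul_sum, mul_left_comm]

theorem lf_apply (c x : Fin 3 → k) : lf c x = ∑ t, c t * x t := rfl

theorem eval_lin (c x : Fin 3 → k) :
    MvPolynomial.eval x (∑ i, C (c i) * X i) = lf c x := by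
  simp [lf_apply]

theorem lf_single (c : Fin 3 → k) (t : Fin 3) : lf c (Pi.single t 1) = c t := by
  simp [lf_apply, Pi.single_apply]

theorem exists_GL_row (a0 a1 : k) (ha : a0 ≠ 0 ∨ a1 ≠ 0) :
    ∃ g : GL (Fin 2) k, g.val 0 0 = a0 ∧ g.val 0 1 = a1 := by
  by_cases h0 : a0 = 0
  · have h1 : a1 ≠ 0 := by
      rcases ha with h | h
      · exact absurd h0 h
      · exact h
    refine ⟨Matrix.GeneralLinearGroup.mkOfDetNeZero !![a0, a1; 1, 0] ?_, rfl, rfl⟩
    rw [Matrix.det_fin_two_of]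
    simpa using h1
  · refine ⟨Matrix.GeneralLinearGroup.mkOfDetNeZero !![a0, a1; 0, 1] ?_, rfl, rfl⟩
    rw [Matrix.det_fin_two_of]
    simpa using h0

theorem exists_GL_col (b0 b1 : k) (hb : b0 ≠ 0 ∨ b1 ≠ 0) :
    ∃ h : GL (Fin 2) k, h.val 0 1 = b0 ∧ h.val 1 1 = b1 := by
  by_cases h0 : b0 = 0
  · have h1 : b1 ≠ 0 := by
      rcases hb with h | h
      · exact absurd h0 h
      · exact h
    refine ⟨Matrix.GeneralLinearGroup.mkOfDetNeZero !![1, b0; 0, b1] ?_, rfl, rfl⟩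
    rw [Matrix.det_fin_two_of]
    simpa using h1
  · refine ⟨Matrix.GeneralLinearGroup.mkOfDetNeZero !![0, b0; 1, b1] ?_, rfl, rfl⟩
    rw [Matrix.det_fin_two_of]
    simpa using h0

theorem forward (M : Matrix (Fin 2) (Fin 2) (MvPolynomial (Fin 3) k))
    (hM : ∀ a b : Fin 2, (M a b).IsHomogeneous 1)
    (l₁ l₂ : MvPolynomial (Fin 3) k) (h₁ : l₁.IsHomogeneous 1) (h₂ : l₂.IsHomogeneous 1)
    (hdet : M.det = l₁ * l₂) :
    ∃ g h : GL (Fin 2) k,
      ((C : k →+* MvPolynomial (Fin 3) k).mapMatrix g.val * M *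
        (C : k →+* MvPolynomial (Fin 3) k).mapMatrix h.val) 0 1 = 0 := by
  have hm : ∀ a b, ∃ c : Fin 3 → k, M a b = ∑ i, C (c i) * X i := fun a b => lin (hM a b)
  choose m hm using hm
  obtain ⟨α, hα⟩ := lin h₁
  obtain ⟨β, hβ⟩ := lin h₂
  have hstar := star (lf (m 0 0)) (lf (m 0 1)) (lf (m 1 0)) (lf (m 1 1)) (lf α) (lf β) (by
    intro x
    have h1 := congrArg (MvPolynomial.eval x) hdet
    rw [Matrix.det_fin_two, hm 0 0, hm 0 1, hm 1 0, hm 1 1, hα, hβ] at h1
    simp only [map_sub, map_mul, eval_lin] at h1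
    exact h1)
  obtain ⟨a0, a1, b0, b1, ha, hb, hab⟩ := hstar
  have hcoef : ∀ t, a0 * (m 0 0 t * b0 + m 0 1 t * b1) +
      a1 * (m 1 0 t * b0 + m 1 1 t * b1) = 0 := by
    intro t
    have h1 := hab (Pi.single t 1)
    simpa only [lf_single] using h1
  obtain ⟨g, hg0, hg1⟩ := exists_GL_row a0 a1 ha
  obtain ⟨h, hh0, hh1⟩ := exists_GL_col b0 b1 hb
  refine ⟨g, h, ?_⟩
  simp only [Matrix.mul_apply, Fin.sum_univ_two, RingHom.mapMatrix_apply, Matrix.map_apply,
    hg0, hg1, hh0, hh1]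
  rw [hm 0 0, hm 0 1, hm 1 0, hm 1 1]
  simp only [Fin.sum_univ_three]
  have e0 := congrArg (C : k →+* MvPolynomial (Fin 3) k) (hcoef 0)
  have e1 := congrArg (C : k →+* MvPolynomial (Fin 3) k) (hcoef 1)
  have e2 := congrArg (C : k →+* MvPolynomial (Fin 3) k) (hcoef 2)
  simp only [map_add, map_mul, map_zero] at e0 e1 e2
  linear_combination (X 0) * e0 + (X 1) * e1 + (X 2) * e2

theorem hom_mul_left (A : Matrix (Fin 2) (Fin 2) k)
    (M : Matrix (Fin 2) (Fin 2) (MvPolynomial (Fin 3) k))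
    (hM : ∀ a b : Fin 2, (M a b).IsHomogeneous 1) (i j : Fin 2) :
    (((C : k →+* MvPolynomial (Fin 3) k).mapMatrix A * M) i j).IsHomogeneous 1 := by
  rw [Matrix.mul_apply, Fin.sum_univ_two]
  have e : ∀ a, ((C : k →+* MvPolynomial (Fin 3) k).mapMatrix A i a * M a j).IsHomogeneous 1 := by
    intro a
    have h1 := (isHomogeneous_C (Fin 3) (A i a)).mul (hM a j)
    rw [zero_add] at h1
    simpa [RingHom.mapMatrix_apply] using h1
  exact (e 0).add (e 1)

theorem hom_mul_right (A : Matrix (Fin 2) (Fin 2) k)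
    (M : Matrix (Fin 2) (Fin 2) (MvPolynomial (Fin 3) k))
    (hM : ∀ a b : Fin 2, (M a b).IsHomogeneous 1) (i j : Fin 2) :
    ((M * (C : k →+* MvPolynomial (Fin 3) k).mapMatrix A) i j).IsHomogeneous 1 := by
  rw [Matrix.mul_apply, Fin.sum_univ_two]
  have e : ∀ a, (M i a * (C : k →+* MvPolynomial (Fin 3) k).mapMatrix A a j).IsHomogeneous 1 := by
    intro a
    have h1 := (hM i a).mul (isHomogeneous_C (Fin 3) (A a j))
    rw [add_zero] at h1
    simpa [RingHom.mapMatrix_apply] using h1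
  exact (e 0).add (e 1)

theorem backward (M : Matrix (Fin 2) (Fin 2) (MvPolynomial (Fin 3) k))
    (hM : ∀ a b : Fin 2, (M a b).IsHomogeneous 1) (g h : GL (Fin 2) k)
    (h01 : ((C : k →+* MvPolynomial (Fin 3) k).mapMatrix g.val * M *
        (C : k →+* MvPolynomial (Fin 3) k).mapMatrix h.val) 0 1 = 0) :
    ∃ l₁ l₂ : MvPolynomial (Fin 3) k, l₁.IsHomogeneous 1 ∧ l₂.IsHomogeneous 1 ∧
      M.det = l₁ * l₂ := by
  have hhom := hom_mul_right h.val _ (hom_mul_left g.val M hM)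
  obtain ⟨N, hN⟩ : ∃ N, N = (C : k →+* MvPolynomial (Fin 3) k).mapMatrix g.val * M *
        (C : k →+* MvPolynomial (Fin 3) k).mapMatrix h.val := ⟨_, rfl⟩
  rw [← hN] at h01 hhom
  have hdetprod : N.det = C g.val.det * M.det * C h.val.det := by
    rw [hN, Matrix.det_mul, Matrix.det_mul, ← RingHom.map_det, ← RingHom.map_det]
  have hdet2 : N.det = N 0 0 * N 1 1 := by
    rw [Matrix.det_fin_two, h01, zero_mul, sub_zero]
  have hdg : g.val.det ≠ 0 := Matrix.GeneralLinearGroup.det_ne_zero g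
  have hdh : h.val.det ≠ 0 := Matrix.GeneralLinearGroup.det_ne_zero h
  have hu : C ((g.val.det)⁻¹ * (h.val.det)⁻¹) * C g.val.det * C h.val.det
      = (1 : MvPolynomial (Fin 3) k) := by
    rw [← map_mul, ← map_mul]
    have : (g.val.det)⁻¹ * (h.val.det)⁻¹ * g.val.det * h.val.det = 1 := by
      field_simp
    rw [this, map_one]
  refine ⟨C ((g.val.det)⁻¹ * (h.val.det)⁻¹) * N 0 0, N 1 1, ?_, hhom 1 1, ?_⟩
  · have h1 := (isHomogeneous_C (Fin 3) ((g.val.det)⁻¹ * (h.val.det)⁻¹)).mul (hhom 0 0)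
    rw [zero_add] at h1
    exact h1
  · have h3 : C g.val.det * M.det * C h.val.det = N 0 0 * N 1 1 := hdetprod.symm.trans hdet2
    linear_combination (-M.det) * hu + C ((g.val.det)⁻¹ * (h.val.det)⁻¹) * h3

end Main

/-- Over an algebraically closed field k of characteristic zero, for a 2 × 2 matrix M of linear forms in
k[X_0, X_1, X_2] (entries homogeneous of degree 1, zero allowed), det M is a product of two linear
forms if and only if M can be brought by invertible scalar row and column operations g M h, with g,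
h in GL_2(k), to a matrix with zero upper-right entry. (The published statement concerns matrices
with nonzero determinant; this row also allows determinant zero, where both sides hold.) -/
theorem result (k : Type u) [Field k] [IsAlgClosed k] [CharZero k]
    (M : Matrix (Fin 2) (Fin 2) (MvPolynomial (Fin 3) k)) (hM : ∀ a b : Fin 2, (M a b).IsHomogeneous 1) :
    (∃ l₁ l₂ : MvPolynomial (Fin 3) k, l₁.IsHomogeneous 1 ∧ l₂.IsHomogeneous 1 ∧ M.det = l₁ * l₂) ↔
    ∃ g h : GL (Fin 2) k,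
      ((MvPolynomial.C : k →+* MvPolynomial (Fin 3) k).mapMatrix g.val * M *
        (MvPolynomial.C : k →+* MvPolynomial (Fin 3) k).mapMatrix h.val) 0 1 = 0 := by
  constructor
  · rintro ⟨l₁, l₂, h₁, h₂, hdet⟩
    exact forward M hM l₁ l₂ h₁ h₂ hdet
  · rintro ⟨g, h, h01⟩
    exact backward M hM g h h01

end Groth.Agent.S13912
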