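import Groth.Statements.S13913
import Mathlib.RingTheory.MvPolynomial.EulerIdentity
import Mathlib.LinearAlgebra.LinearIndependent.Lemmas
import Mathlib.Tactic
-- import your own Groth.Agent.* helpers here

set_option autoImplicit false
universe u
open PlaneCubic

namespace Groth.Agent.S13913

open MvPolynomial

theorem hom1_eq_zero {k : Type u} [Field k] (w : MvPolynomial (Fin 3) k) (hw : w.IsHomogeneous 1)
    (p : Fin 3 → k) (h : ∀ i, eval p (pderiv i w) = 0) : w = 0 := by
  have euler := hw.sum_X_mul_pderiv
  have hz : ∀ i, pderiv i w = 0 := by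
    intro i
    have h0 : (pderiv i w).IsHomogeneous 0 := hw.pderiv
    have hC : pderiv i w = C ((pderiv i w).coeff 0) :=
      totalDegree_eq_zero_iff_eq_C.1 (Nat.le_zero.1 h0.totalDegree_le)
    have := h i
    rw [hC, eval_C] at this
    rw [hC, this, map_zero]
  simp only [hz, mul_zero, Finset.sum_const_zero, one_smul] at euler
  exact euler.symm

/-- Over an algebraically closed field of characteristic zero, for linearly independent linear forms z₁,
z₂ and quadratic forms q₁, q₂ in three variables and a nonzero common zero p of z₁ and z₂, the point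
p is a singular point of the plane cubic z₁q₂ − z₂q₁ = 0 (all three partial derivatives vanish at p)
if and only if q₁ and q₂ both vanish at p. -/
theorem result (k : Type u) [Field k] [IsAlgClosed k] [CharZero k]
    (z₁ z₂ q₁ q₂ : MvPolynomial (Fin 3) k) (hz₁ : z₁.IsHomogeneous 1) (hz₂ : z₂.IsHomogeneous 1)
    (hq₁ : q₁.IsHomogeneous 2) (hq₂ : q₂.IsHomogeneous 2) (hind : LinearIndependent k ![z₁, z₂])
    (p : Fin 3 → k) (hp : p ≠ 0) (hp₁ : MvPolynomial.eval p z₁ = 0) (hp₂ : MvPolynomial.eval p z₂ = 0) :
    (∀ i : Fin 3, MvPolynomial.eval p (MvPolynomial.pderiv i (z₁ * q₂ - z₂ * q₁)) = 0) ↔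
      (MvPolynomial.eval p q₁ = 0 ∧ MvPolynomial.eval p q₂ = 0) := by
  have key : ∀ i : Fin 3, eval p (pderiv i (z₁ * q₂ - z₂ * q₁)) =
      eval p (pderiv i z₁) * eval p q₂ - eval p (pderiv i z₂) * eval p q₁ := by
    intro i
    rw [map_sub, Derivation.leibniz, Derivation.leibniz]
    simp only [smul_eq_mul, map_sub, map_add, map_mul, hp₁, hp₂]
    ring
  constructor
  · intro h
    set α := eval p q₂ with hα
    set β := eval p q₁ with hβ
    have hw : (C α * z₁ - C β * z₂).IsHomogeneous 1 := by
      apply IsHomogeneous.sub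
      · have := (isHomogeneous_C (Fin 3) α).mul hz₁
        simpa using this
      · have := (isHomogeneous_C (Fin 3) β).mul hz₂
        simpa using this
    have hw0 : C α * z₁ - C β * z₂ = 0 := by
      apply hom1_eq_zero _ hw p
      intro i
      have := h i
      rw [key] at this
      rw [map_sub, pderiv_C_mul, pderiv_C_mul, map_sub, map_mul, map_mul, eval_C, eval_C]
      linear_combination this
    have hlin := LinearIndependent.pair_iff.1 hind α (-β) (by
      rw [MvPolynomial.smul_eq_C_mul, MvPolynomial.smul_eq_C_mul, map_neg, neg_mul, ← sub_eq_add_neg]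
      exact hw0)
    exact ⟨neg_eq_zero.1 hlin.2, hlin.1⟩
  · rintro ⟨h1, h2⟩ i
    rw [key, h1, h2, mul_zero, mul_zero, sub_zero]

end Groth.Agent.S13913
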