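import Groth.Statements.S13914
import Mathlib.Tactic
import Mathlib.LinearAlgebra.Matrix.Determinant.Basic
-- import your own Groth.Agent.* helpers here

set_option autoImplicit false
universe u
open PlaneConic

namespace Groth.Agent.S13914

/-- Over an algebraically closed field of characteristic zero, an invertible 3 × 3 matrix g, acting on
row vectors and so on the projective plane, fixes every point of the line u_0 = 0 if and only if g
is a nonzero scalar multiple of a matrix with rows (α, β, γ), (0, 1, 0), (0, 0, 1). -/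
theorem result (k : Type u) [Field k] [IsAlgClosed k] [CharZero k]
    (g : Matrix (Fin 3) (Fin 3) k) (hg : IsUnit g.det) :
    (∀ v : Fin 3 → k, v 0 = 0 → ∃ c : k, Matrix.vecMul v g = c • v) ↔
      ∃ c α β γ : k, c ≠ 0 ∧ g = c • !![α, β, γ; 0, 1, 0; 0, 0, 1] := by
  constructor
  · intro h
    obtain ⟨c₁, hc₁⟩ := h ![0, 1, 0] rfl
    obtain ⟨c₂, hc₂⟩ := h ![0, 0, 1] rfl
    obtain ⟨c₃, hc₃⟩ := h ![0, 1, 1] rfl
    have a10 := congrFun hc₁ 0
    have a11 := congrFun hc₁ 1
    have a12 := congrFun hc₁ 2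
    have a20 := congrFun hc₂ 0
    have a21 := congrFun hc₂ 1
    have a22 := congrFun hc₂ 2
    have a31 := congrFun hc₃ 1
    have a32 := congrFun hc₃ 2
    simp [Matrix.vecMul, dotProduct, Fin.sum_univ_three] at a10 a11 a12 a20 a21 a22 a31 a32
    have hc12 : c₁ = c₂ := by
      have e1 : c₃ = c₁ := by rw [← a31, a11, a21, add_zero]
      have e2 : c₃ = c₂ := by rw [← a32, a12, a22, zero_add]
      rw [← e1, e2]
    have hdet : g.det = g 0 0 * c₁ * c₁ := by
      rw [Matrix.det_fin_three, a10, a11, a12, a20, a21, a22, hc12]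
      ring
    have hc1 : c₁ ≠ 0 := by
      intro h0
      rw [hdet, h0, mul_zero] at hg
      exact not_isUnit_zero hg
    refine ⟨c₁, g 0 0 / c₁, g 0 1 / c₁, g 0 2 / c₁, hc1, ?_⟩
    ext i j
    fin_cases i <;> fin_cases j <;> simp [a10, a11, a12, a20, a21, a22, hc12, mul_div_cancel₀] <;>
      first | (rw [← hc12]; field_simp) | skip
  · rintro ⟨c, α, β, γ, hc, rfl⟩ v hv
    refine ⟨c, ?_⟩
    ext j
    fin_cases j <;> simp [Matrix.vecMul, dotProduct, Fin.sum_univ_three, hv] <;> ring

end Groth.Agent.S13914
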