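import Groth.Statements.S13916
import Mathlib.Tactic
import Mathlib.Algebra.MvPolynomial.Eval
import Mathlib.LinearAlgebra.Matrix.Determinant.Basic
-- import your own Groth.Agent.* helpers here

set_option autoImplicit false
universe u
open PlaneConic

namespace Groth.Agent.S13916

open MvPolynomial

/-- Over an algebraically closed field k of characteristic zero, with u_0, u_1, u_2 the coordinate
linear forms of k[X_0, X_1, X_2] and 2 × 2 matrices of linear forms compared up to M ↦ g M h with g,
h invertible scalar matrices: (1) the matrices with rows (u_1, 0), (u_0, u_2) and (u_2, 0), (u_0,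
u_1) are not equivalent; (2) for α ≠ 0 the matrix with rows (u_1, 0), (αu_0 + βu_1 + γu_2, u_2) is
equivalent to the one with rows (u_1, 0), (u_0, u_2). -/
theorem result (k : Type u) [Field k] [IsAlgClosed k] [CharZero k] :
    (¬ ∃ g h : GL (Fin 2) k,
      (MvPolynomial.C : k →+* MvPolynomial (Fin 3) k).mapMatrix g.val *
          !![MvPolynomial.X 1, 0; MvPolynomial.X 0, MvPolynomial.X 2] *
        (MvPolynomial.C : k →+* MvPolynomial (Fin 3) k).mapMatrix h.val =
      !![MvPolynomial.X 2, 0; MvPolynomial.X 0, MvPolynomial.X 1]) ∧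
    (∀ α β γ : k, α ≠ 0 → ∃ g h : GL (Fin 2) k,
      (MvPolynomial.C : k →+* MvPolynomial (Fin 3) k).mapMatrix g.val *
          !![MvPolynomial.X 1, 0;
             MvPolynomial.C α * MvPolynomial.X 0 + MvPolynomial.C β * MvPolynomial.X 1 + MvPolynomial.C γ * MvPolynomial.X 2,
             MvPolynomial.X 2] *
        (MvPolynomial.C : k →+* MvPolynomial (Fin 3) k).mapMatrix h.val =
      !![MvPolynomial.X 1, 0; MvPolynomial.X 0, MvPolynomial.X 2]) := by
  constructor
  · rintro ⟨g, h, H⟩
    have h11 := congrArg (MvPolynomial.eval ![(0 : k), 1, 0]) (congrFun (congrFun H 1) 1)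
    have h00 := congrArg (MvPolynomial.eval ![(0 : k), 0, 1]) (congrFun (congrFun H 0) 0)
    have h01 := congrArg (MvPolynomial.eval ![(1 : k), 0, 0]) (congrFun (congrFun H 0) 1)
    simp [Matrix.mul_apply, Fin.sum_univ_two] at h11 h00 h01
    rcases h01 with h | h <;> simp [h] at h00 h11
  · intro α β γ hα
    have hg : (!![1, 0; -β / α, 1 / α] : Matrix (Fin 2) (Fin 2) k).det ≠ 0 := by
      rw [Matrix.det_fin_two_of]
      simp [hα]
    have hh : (!![1, 0; -γ, α] : Matrix (Fin 2) (Fin 2) k).det ≠ 0 := by
      rw [Matrix.det_fin_two_of]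
      simpa using hα
    refine ⟨Matrix.GeneralLinearGroup.mkOfDetNeZero _ hg, Matrix.GeneralLinearGroup.mkOfDetNeZero _ hh, ?_⟩
    have hαα : (C α⁻¹ : MvPolynomial (Fin 3) k) * C α = 1 := by
      rw [← C_mul, inv_mul_cancel₀ hα, C_1]
    have hβα : (C (-β / α) : MvPolynomial (Fin 3) k) = - C β * C α⁻¹ := by
      rw [← C_neg, ← C_mul, div_eq_mul_inv]
    refine Matrix.ext fun i j => ?_
    fin_cases i <;> fin_cases j <;>
      simp [Matrix.mul_apply, Fin.sum_univ_two, Matrix.GeneralLinearGroup.mkOfDetNeZero]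
    · rw [hβα]
      linear_combination (X 0) * hαα
    · linear_combination (X 2) * hαα

end Groth.Agent.S13916
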