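import Groth.Statements.S13925
import Mathlib.Tactic
-- import your own Groth.Agent.* helpers here

set_option autoImplicit false
universe u v w x
open W4c1limliniiii

namespace Groth.Agent.S13925

/-- Let k be a field and U, E, W vector spaces over k with linear maps f : U → E, g' : E → U, f₂ : E → W
and g : W → E such that g' ∘ f = 0, the kernel of f₂ is contained in the image of g, and the image
of g meets the kernel of g' only in 0 — the conditions holding at a point of a linked Grassmannian
at which the linking scalar vanishes. Let V₁ ≤ U and V₂ ≤ E be subspaces and let C' ≤ V₂ be a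
subspace contained in the kernel of g' and meeting f(V₁) only in 0. Then the subspaces f(V₁), ker f₂
∩ V₂ and C' of E are independent: their sum is direct. (The published statement is for two
consecutive members V_{i-1}, V_i of a point of a linked Grassmannian at which the linking scalar
vanishes and adds the decomposition V_i = f(V_{i-1}) ⊕ (ker f_i ∩ V_i) ⊕ C with C ⊇ C'; this row
states the independence, with only the three conditions the argument uses.) -/
theorem result (k : Type u) [Field k]
    (U : Type v) (E : Type w) (W : Type x) [AddCommGroup U] [Module k U] [AddCommGroup E]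
    [Module k E] [AddCommGroup W] [Module k W]
    (f : U →ₗ[k] E) (g' : E →ₗ[k] U) (f₂ : E →ₗ[k] W) (g : W →ₗ[k] E)
    (hgf : g'.comp f = 0) (hII : LinearMap.ker f₂ ≤ LinearMap.range g)
    (hIII : LinearMap.range g ⊓ LinearMap.ker g' = ⊥)
    (V₁ : Submodule k U) (V₂ : Submodule k E) (C' : Submodule k E) (hC : C' ≤ V₂)
    (hCg : C' ≤ LinearMap.ker g') (hCf : Submodule.map f V₁ ⊓ C' = ⊥) :
    iSupIndep ![Submodule.map f V₁, LinearMap.ker f₂ ⊓ V₂, C'] := by
  set A := Submodule.map f V₁ with hAdef
  set B := LinearMap.ker f₂ ⊓ V₂ with hBdef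
  have hA : A ≤ LinearMap.ker g' := by
    rintro _ ⟨x, _, rfl⟩
    have := LinearMap.congr_fun hgf x
    simpa using this
  have hB : B ≤ LinearMap.range g := inf_le_left.trans hII
  have hzero : ∀ x, x ∈ LinearMap.range g → x ∈ LinearMap.ker g' → x = 0 := by
    intro x h1 h2
    have : x ∈ LinearMap.range g ⊓ LinearMap.ker g' := ⟨h1, h2⟩
    rw [hIII] at this
    exact (Submodule.mem_bot k).1 this
  have hAC : ∀ x, x ∈ A → x ∈ C' → x = 0 := by
    intro x h1 h2
    have : x ∈ A ⊓ C' := ⟨h1, h2⟩
    rw [hCf] at this
    exact (Submodule.mem_bot k).1 this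
  intro i
  fin_cases i
  · have hle : (⨆ j, ⨆ (_ : j ≠ (0 : Fin 3)), (![A, B, C'] : Fin 3 → Submodule k E) j) ≤ B ⊔ C' := by
      refine iSup_le fun j => iSup_le fun hj => ?_
      fin_cases j
      · exact absurd rfl hj
      · exact le_sup_left
      · exact le_sup_right
    refine Disjoint.mono_right hle ?_
    rw [Submodule.disjoint_def]
    intro x hxA hxBC
    obtain ⟨b, hb, c, hc, rfl⟩ := Submodule.mem_sup.1 hxBC
    have hxA' : b + c ∈ A := hxA
    have hb0 : b = 0 := hzero b (hB hb) (by
      have : b = (b + c) - c := by abel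
      rw [this]; exact Submodule.sub_mem _ (hA hxA') (hCg hc))
    subst hb0
    rw [zero_add] at hxA' ⊢
    exact hAC c hxA' hc
  · have hle : (⨆ j, ⨆ (_ : j ≠ (1 : Fin 3)), (![A, B, C'] : Fin 3 → Submodule k E) j) ≤ A ⊔ C' := by
      refine iSup_le fun j => iSup_le fun hj => ?_
      fin_cases j
      · exact le_sup_left
      · exact absurd rfl hj
      · exact le_sup_right
    refine Disjoint.mono_right hle ?_
    rw [Submodule.disjoint_def]
    intro x hxB hxAC
    have hxB' : x ∈ B := hxB
    obtain ⟨a, ha, c, hc, rfl⟩ := Submodule.mem_sup.1 hxAC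
    exact hzero _ (hB hxB') (Submodule.add_mem _ (hA ha) (hCg hc))
  · have hle : (⨆ j, ⨆ (_ : j ≠ (2 : Fin 3)), (![A, B, C'] : Fin 3 → Submodule k E) j) ≤ A ⊔ B := by
      refine iSup_le fun j => iSup_le fun hj => ?_
      fin_cases j
      · exact le_sup_left
      · exact le_sup_right
      · exact absurd rfl hj
    refine Disjoint.mono_right hle ?_
    rw [Submodule.disjoint_def]
    intro x hxC hxAB
    have hxC' : x ∈ C' := hxC
    obtain ⟨a, ha, b, hb, rfl⟩ := Submodule.mem_sup.1 hxAB
    have hb0 : b = 0 := hzero b (hB hb) (by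
      have : b = (a + b) - a := by abel
      rw [this]; exact Submodule.sub_mem _ (hCg hxC') (hA ha))
    subst hb0
    rw [add_zero] at hxC' ⊢
    exact hAC a ha hxC'

end Groth.Agent.S13925
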