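import Groth.Statements.S13953
import Mathlib.RingTheory.LocalRing.MaximalIdeal.Basic
import Mathlib.Tactic
-- import your own Groth.Agent.* helpers here

set_option autoImplicit false
universe u
open TateLoc

namespace Groth.Agent.S13953

/-- Let (R_i) be a family of local commutative rings and R = ∏ R_i. Any open cover of Spec R can be
refined by one coming from a finite partition of the index set: there is a map c from the index set
to a finite set such that, for each value m, the basic open subset of Spec R defined by the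
idempotent which is 1 at the indices with c i = m and 0 elsewhere (this open is the spectrum of the
product of the R_i over that class) is contained in some member of the cover. -/
theorem result {ι : Type u} (R : ι → Type u)
    [∀ i, CommRing (R i)] [∀ i, IsLocalRing (R i)] {J : Type u}
    (U : J → TopologicalSpace.Opens (PrimeSpectrum (∀ i, R i))) (hU : ⨆ j, U j = ⊤) :
    ∃ (n : ℕ) (c : ι → Fin n), ∀ m : Fin n, ∃ j : J,
      PrimeSpectrum.basicOpen (fun i => if c i = m then (1 : R i) else 0) ≤ U j := by
  classical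
  let S : Set (∀ i, R i) := {f | ∃ j, PrimeSpectrum.basicOpen f ≤ U j}
  have hS : Ideal.span S = ⊤ := by
    by_contra hne
    obtain ⟨M, hM, hSM⟩ := Ideal.exists_le_maximal _ hne
    let x : PrimeSpectrum (∀ i, R i) := ⟨M, hM.isPrime⟩
    have hx : x ∈ (⨆ j, U j : TopologicalSpace.Opens _) := by rw [hU]; trivial
    obtain ⟨j, hj⟩ := TopologicalSpace.Opens.mem_iSup.1 hx
    obtain ⟨_, ⟨f, rfl⟩, hxf, hfU⟩ :=
      PrimeSpectrum.isTopologicalBasis_basic_opens.exists_subset_of_mem_open hj (U j).2
    have hfS : f ∈ S := ⟨j, hfU⟩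
    exact hxf (hSM (Ideal.subset_span hfS))
  obtain ⟨T, hTS, hT⟩ := (Ideal.span_eq_top_iff_finite S).1 hS
  have hunit : ∀ i, ∃ f ∈ T, IsUnit (f i) := by
    intro i
    by_contra hcon
    push_neg at hcon
    have hle : Ideal.map (Pi.evalRingHom R i) (Ideal.span (T : Set (∀ i, R i))) ≤
        IsLocalRing.maximalIdeal (R i) := by
      rw [Ideal.map_span, Ideal.span_le]
      rintro _ ⟨f, hf, rfl⟩
      exact (IsLocalRing.mem_maximalIdeal _).2 (hcon f hf)
    rw [hT, Ideal.map_top] at hle
    exact (IsLocalRing.maximalIdeal.isMaximal (R i)).ne_top (top_le_iff.1 hle)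
  choose g hgT hgu using hunit
  let e : T ≃ Fin T.card := T.equivFin
  refine ⟨T.card, fun i => e ⟨g i, hgT i⟩, fun m => ?_⟩
  obtain ⟨j, hj⟩ := hTS (e.symm m).2
  refine ⟨j, le_trans ?_ hj⟩
  rw [PrimeSpectrum.basicOpen_le_basicOpen_iff]
  apply Ideal.le_radical
  rw [Ideal.mem_span_singleton']
  refine ⟨fun i => if e ⟨g i, hgT i⟩ = m then Ring.inverse ((e.symm m).1 i) else 0, ?_⟩
  funext i
  simp only [Pi.mul_apply]
  by_cases hi : e ⟨g i, hgT i⟩ = m
  · rw [if_pos hi, if_pos hi]
    have hgi : g i = (e.symm m).1 := by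
      have : (⟨g i, hgT i⟩ : T) = e.symm m := by rw [← hi, Equiv.symm_apply_apply]
      exact congrArg Subtype.val this
    have hu : IsUnit ((e.symm m).1 i) := by rw [← hgi]; exact hgu i
    exact Ring.inverse_mul_cancel _ hu
  · rw [if_neg hi, if_neg hi, zero_mul]

end Groth.Agent.S13953
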