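import Groth.Statements.S13958
import Mathlib.GroupTheory.FiniteAbelian.Basic

set_option autoImplicit false
universe u
open TateLoc

namespace Groth.Agent.S13958

open CategoryTheory ProfiniteGrp ProfiniteGrp.ProfiniteCompletion

/-- A finitely generated commutative group is residually finite (explicit form). -/
theorem exists_finiteIndex_notMem (Q : Type u) [CommGroup Q] [Group.FG Q] (q : Q) (hq : q ≠ 1) :
    ∃ N : Subgroup Q, N.FiniteIndex ∧ q ∉ N := by
  obtain ⟨ι, j, _, _, p, hp, e, ⟨E⟩⟩ := CommGroup.equiv_free_prod_prod_multiplicative_zmod Q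
  haveI : ∀ i, NeZero (p i ^ e i) := fun i => ⟨pow_ne_zero _ (hp i).ne_zero⟩
  have hE : E q ≠ 1 := fun h => hq ((EmbeddingLike.map_eq_one_iff (f := E)).mp h)
  by_cases h1 : (E q).1 = 1
  · have h2 : (E q).2 ≠ 1 := fun h2 => hE (Prod.ext h1 h2)
    let φ : Q →* ((i : ι) → Multiplicative (ZMod (p i ^ e i))) :=
      (MonoidHom.snd _ _).comp E.toMonoidHom
    refine ⟨φ.ker, Subgroup.finiteIndex_ker φ, ?_⟩
    rw [MonoidHom.mem_ker]
    exact h2
  · obtain ⟨j0, hj0⟩ : ∃ j0, (E q).1 j0 ≠ 1 := by
      by_contra hcon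
      push_neg at hcon
      exact h1 (funext hcon)
    obtain ⟨m, hm⟩ : ∃ m : ℤ, m = Multiplicative.toAdd ((E q).1 j0) := ⟨_, rfl⟩
    have hm0 : m ≠ 0 := by
      intro h
      apply hj0
      rw [h] at hm
      exact (toAdd_eq_zero.mp hm.symm)
    let ψ : Multiplicative ℤ →* Multiplicative (ZMod (m.natAbs + 1)) :=
      AddMonoidHom.toMultiplicative (Int.castAddHom _)
    let φ : Q →* Multiplicative (ZMod (m.natAbs + 1)) :=
      ψ.comp ((Pi.evalMonoidHom _ j0).comp ((MonoidHom.fst _ _).comp E.toMonoidHom))
    refine ⟨φ.ker, Subgroup.finiteIndex_ker φ, ?_⟩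
    rw [MonoidHom.mem_ker]
    intro hφ
    have h3 : ((m : ℤ) : ZMod (m.natAbs + 1)) = 0 := by
      have h := congrArg Multiplicative.toAdd hφ
      have h' : ((Multiplicative.toAdd ((E q).1 j0) : ℤ) : ZMod (m.natAbs + 1)) = 0 := by
        simpa [φ, ψ] using h
      rw [← hm] at h'
      exact h'
    rw [ZMod.intCast_zmod_eq_zero_iff_dvd] at h3
    have h4 := Int.natAbs_dvd_natAbs.mpr h3
    rw [Int.natAbs_natCast] at h4
    have h5 := Nat.le_of_dvd (Int.natAbs_pos.mpr hm0) h4
    omega

/-- Subgroups of finitely generated commutative groups are closed for the profinite topology. -/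
theorem exists_finiteIndex_ge (A' : Type u) [CommGroup A'] [Group.FG A'] (A : Subgroup A')
    (x : A') (hx : x ∉ A) : ∃ B : Subgroup A', A ≤ B ∧ B.FiniteIndex ∧ x ∉ B := by
  have hq : (QuotientGroup.mk x : A' ⧸ A) ≠ 1 := fun h => hx ((QuotientGroup.eq_one_iff x).mp h)
  obtain ⟨N, hN, hqN⟩ := exists_finiteIndex_notMem (A' ⧸ A) _ hq
  refine ⟨N.comap (QuotientGroup.mk' A), ?_, ?_, ?_⟩
  · intro a ha
    rw [Subgroup.mem_comap]
    have : (QuotientGroup.mk' A) a = 1 := (QuotientGroup.eq_one_iff a).mpr ha
    rw [this]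
    exact N.one_mem
  · refine ⟨?_⟩
    rw [Subgroup.index_comap_of_surjective _ (QuotientGroup.mk'_surjective A)]
    exact hN.index_ne_zero
  · intro h
    exact hqN (Subgroup.mem_comap.mp h)

theorem key (A' : Type u) [CommGroup A'] (A B : Subgroup A') [B.FiniteIndex] (hAB : A ≤ B)
    (x : A')
    (hx : etaFn (GrpCat.of A') x ∈
      Set.range ⇑(profiniteCompletion.map (GrpCat.ofHom A.subtype)).hom) : x ∈ B := by
  obtain ⟨y, hy⟩ := hx
  let P : ProfiniteGrp.{u} := ProfiniteGrp.ofFiniteGrp (FiniteGrp.of (A' ⧸ B))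
  let φ : A' →* P := (QuotientGroup.mk' B : A' →* A' ⧸ B)
  let f : GrpCat.of A' ⟶ GrpCat.of P := GrpCat.ofHom φ
  let ι : GrpCat.of A ⟶ GrpCat.of A' := GrpCat.ofHom A.subtype
  have E2 : ∀ z : A', (lift f).hom (etaFn (GrpCat.of A') z) = φ z := fun z =>
    ConcreteCategory.congr_hom (lift_eta f) z
  have E1 : ∀ a : A, (profiniteCompletion.map ι).hom (etaFn (GrpCat.of A) a) =
      etaFn (GrpCat.of A') (a : A') := fun a =>
    ConcreteCategory.congr_hom (lift_eta (ι ≫ eta (GrpCat.of A'))) a
  have hall : ∀ y : completion (GrpCat.of A),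
      (lift f).hom ((profiniteCompletion.map ι).hom y) = 1 := by
    intro y
    refine (denseRange (G := GrpCat.of A)).induction_on y ?_ ?_
    · exact isClosed_eq ((lift f).hom.continuous_toFun.comp
        (profiniteCompletion.map ι).hom.continuous_toFun) continuous_const
    · intro a
      refine (congrArg (lift f).hom (E1 a)).trans ((E2 _).trans ?_)
      exact (QuotientGroup.eq_one_iff (a : A')).mpr (hAB a.2)
  have h1 := hall y
  have h2 : (lift f).hom ((profiniteCompletion.map ι).hom y) = φ x :=
    (congrArg (lift f).hom hy).trans (E2 x)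
  rw [h1] at h2
  exact (QuotientGroup.eq_one_iff x).mp h2.symm

open CategoryTheory in
/-- Let A' be a finitely generated abelian group (written multiplicatively, discrete) and A a subgroup.
If the image of x ∈ A' in the profinite completion of A' lies in the image of the profinite
completion of A under the map induced by the inclusion, then x ∈ A. (The published statement says
that the square formed by the two completion maps and the two inclusions is Cartesian; given the
injectivity of the induced map on completions, which holds here, that amounts to this membership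
criterion.) -/
theorem result (A' : Type u) [CommGroup A'] [Group.FG A']
    (A : Subgroup A') (x : A')
    (hx : ProfiniteGrp.ProfiniteCompletion.etaFn (GrpCat.of A') x ∈
      Set.range ⇑(ProfiniteGrp.profiniteCompletion.map (GrpCat.ofHom A.subtype)).hom) :
    x ∈ A := by
  by_contra hxA
  obtain ⟨B, hAB, hB, hxB⟩ := exists_finiteIndex_ge A' A x hxA
  have := hB
  exact hxB (key A' A B hAB x hx)

end Groth.Agent.S13958
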