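import Groth.Statements.S13963
import Mathlib.Topology.Algebra.Group.OpenMapping
import Mathlib.Topology.Algebra.Group.Pointwise
import Mathlib.Topology.Baire.LocallyCompactRegular
import Mathlib.Tactic
-- import your own Groth.Agent.* helpers here

set_option autoImplicit false
universe u
open TateLoc

namespace Groth.Agent.S13963

open Pointwise in
/-- Let A' → A → A'' be continuous homomorphisms of locally compact, second-countable, Hausdorff abelian
topological groups which form a short exact sequence of abstract groups (the first injective, the
second surjective, image equal to kernel). If A' and A'' are compact, then A is compact. -/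
theorem result (A' A A'' : Type u)
    [AddCommGroup A'] [TopologicalSpace A'] [IsTopologicalAddGroup A'] [SecondCountableTopology A'] [T2Space A']
    [CompactSpace A']
    [AddCommGroup A] [TopologicalSpace A] [IsTopologicalAddGroup A] [LocallyCompactSpace A]
    [SecondCountableTopology A] [T2Space A]
    [AddCommGroup A''] [TopologicalSpace A''] [IsTopologicalAddGroup A''] [SecondCountableTopology A''] [T2Space A'']
    [CompactSpace A'']
    (f : A' →+ A) (g : A →+ A'') (hf : Continuous f) (hg : Continuous g)
    (hinj : Function.Injective f) (hsurj : Function.Surjective g) (hex : g.ker = f.range) :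
    CompactSpace A := by
  have hopen : IsOpenMap g := AddMonoidHom.isOpenMap_of_sigmaCompact g hsurj hg
  have hK : IsCompact (Set.range f) := isCompact_range hf
  choose C hCc hCn using fun a : A => exists_compact_mem_nhds a
  have hcover : (Set.univ : Set A'') ⊆ ⋃ a : A, g '' (interior (C a)) := by
    intro y _
    obtain ⟨a, rfl⟩ := hsurj y
    exact Set.mem_iUnion.2 ⟨a, Set.mem_image_of_mem g (mem_interior_iff_mem_nhds.2 (hCn a))⟩
  obtain ⟨t, ht⟩ := isCompact_univ.elim_finite_subcover (fun a => g '' interior (C a))
    (fun a => hopen _ isOpen_interior) hcover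
  have hcompact : IsCompact (⋃ a ∈ t, (C a + Set.range f)) :=
    t.isCompact_biUnion (fun a _ => (hCc a).add hK)
  have huniv : (⋃ a ∈ t, (C a + Set.range f)) = Set.univ := by
    apply Set.eq_univ_of_forall
    intro x
    have hx := ht (Set.mem_univ (g x))
    simp only [Set.mem_iUnion, Set.mem_image] at hx
    obtain ⟨a, hat, y, hy, hgy⟩ := hx
    refine Set.mem_biUnion hat ?_
    refine Set.mem_add.2 ⟨y, interior_subset hy, x - y, ?_, by abel⟩
    have hker : x - y ∈ g.ker := by
      rw [AddMonoidHom.mem_ker, map_sub, hgy, sub_self]
    rw [hex] at hker
    obtain ⟨z, hz⟩ := hker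
    exact ⟨z, hz⟩
  exact ⟨huniv ▸ hcompact⟩

end Groth.Agent.S13963
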