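import Mathlib
import Groth.Statements.S13971
import Groth.Agent.Lib.Helper19.T1Core
import Groth.Agent.Lib.Helper21.CohenStruct
import Groth.Agent.Lib.Helper19.ArtFunLength
import Groth.Agent.S12734
import Groth.Agent.S12722

set_option autoImplicit false
universe u v
open CategoryTheory
open ArtFun

namespace Groth.Agent.S13971

open ArtFun ArtFun.Art IsLocalRing

section TszArt

variable {k : Type u} [Field k]

theorem tsz_mul_eq_zero {E M : Type*} [CommRing E] [AddCommGroup M] [Module E M] [Module Eᵐᵒᵖ M]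
    [IsCentralScalar E M] (r s : TrivSqZeroExt E M) (hr : r.fst = 0) (hs : s.fst = 0) :
    r * s = 0 := by
  refine TrivSqZeroExt.ext ?_ ?_
  · rw [TrivSqZeroExt.fst_mul, hr, zero_mul]; rfl
  · rw [TrivSqZeroExt.snd_mul, hr, hs, zero_smul, MulOpposite.op_zero, zero_smul, add_zero]; rfl

variable (E : Art k k) (M : Type u) [AddCommGroup M] [Module E M] [Module Eᵐᵒᵖ M]
  [IsCentralScalar E M] [Module k M] [IsScalarTower k E M] [IsScalarTower k Eᵐᵒᵖ M]
  [Module.Finite k M]
  (M' : Type u) [AddCommGroup M'] [Module E M'] [Module Eᵐᵒᵖ M']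
  [IsCentralScalar E M'] [Module k M'] [IsScalarTower k E M'] [IsScalarTower k Eᵐᵒᵖ M']
  [Module.Finite k M']

/-- `E ⊕ M` as an object of `Art k k` -/
noncomputable def tszArt : Art k k :=
  haveI : IsLocalRing (TrivSqZeroExt E M) :=
    IsLocalRing.of_isUnit_or_isUnit_one_sub_self fun x => by
      rw [TrivSqZeroExt.isUnit_iff_isUnit_fst, TrivSqZeroExt.isUnit_iff_isUnit_fst,
        TrivSqZeroExt.fst_sub, TrivSqZeroExt.fst_one]
      exact IsLocalRing.isUnit_or_isUnit_one_sub_self _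
  haveI : Module.Finite k E := Groth.Agent.Lib.Helper19.ArtFunLength.finite_art E
  haveI : Module.Finite k (TrivSqZeroExt E M) := inferInstanceAs (Module.Finite k (E × M))
  haveI : IsArtinianRing (TrivSqZeroExt E M) := IsArtinianRing.of_finite k _
  { carrier := TrivSqZeroExt E M
    res := E.res.comp (TrivSqZeroExt.fstHom k E M)
    res_surjective := fun c => ⟨algebraMap k _ c, AlgHom.commutes _ c⟩ }

/-- the projection `E ⊕ M → E` -/
noncomputable def πM : tszArt E M ⟶ E :=
  Art.homMk (A := tszArt E M) (B := E) (TrivSqZeroExt.fstHom k E M) rfl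

/-- the section `E → E ⊕ M` -/
noncomputable def ιM : E ⟶ tszArt E M :=
  Art.homMk (A := E) (B := tszArt E M) (TrivSqZeroExt.inlAlgHom k E M) (AlgHom.ext fun _ => rfl)

variable {M M'}

/-- the map `E ⊕ M' → E ⊕ M` induced by a linear map -/
noncomputable def qM (f : M' →ₗ[E] M) : tszArt E M' ⟶ tszArt E M :=
  Art.homMk (A := tszArt E M') (B := tszArt E M)
    (Groth.Agent.Lib.Helper19.T1Core.mapHom (k := k) E f) (AlgHom.ext fun _ => rfl)

variable (M M')

theorem c_section : ιM E M ≫ πM E M = 𝟙 E := Art.hom_ext (AlgHom.ext fun _ => rfl)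

theorem c_sq : RingHom.ker (πM E M).toAlgHom * RingHom.ker (πM E M).toAlgHom = ⊥ := by
  rw [← le_bot_iff, Ideal.mul_le]
  intro r hr s hs
  rw [Ideal.mem_bot]
  exact tsz_mul_eq_zero (E := E) (M := M) r s (RingHom.mem_ker.1 hr) (RingHom.mem_ker.1 hs)

variable {M M'}

theorem c_q_π (f : M' →ₗ[E] M) : qM E f ≫ πM E M = πM E M' :=
  Art.hom_ext (AlgHom.ext fun _ => rfl)

theorem c_ι_q (f : M' →ₗ[E] M) : ιM E M' ≫ qM E f = ιM E M := by
  apply Art.hom_ext
  apply AlgHom.ext
  intro a
  show Groth.Agent.Lib.Helper19.T1Core.mapHom (k := k) E f (TrivSqZeroExt.inl a) =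
    TrivSqZeroExt.inl a
  refine TrivSqZeroExt.ext rfl ?_
  show f (TrivSqZeroExt.inl a : TrivSqZeroExt E M').snd =
    (TrivSqZeroExt.inl a : TrivSqZeroExt E M).snd
  rw [TrivSqZeroExt.snd_inl, TrivSqZeroExt.snd_inl, map_zero]

theorem c_surj (f : M' →ₗ[E] M) (hf : Function.Surjective f) :
    Function.Surjective (qM E f) := by
  intro y
  obtain ⟨m', hm'⟩ := hf (TrivSqZeroExt.snd (R := E) (M := M) y)
  obtain ⟨z, hz1, hz2⟩ : ∃ z : TrivSqZeroExt E M',
      z.fst = TrivSqZeroExt.fst (R := E) (M := M) y ∧ z.snd = m' :=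
    ⟨(TrivSqZeroExt.fst (R := E) (M := M) y, m'), rfl, rfl⟩
  refine ⟨z, ?_⟩
  show Groth.Agent.Lib.Helper19.T1Core.mapHom (k := k) E f z = y
  refine TrivSqZeroExt.ext ?_ ?_
  · exact hz1
  · show f z.snd = _
    rw [hz2, hm']

end TszArt

section Main

variable {k : Type u} [Field k]

theorem HT_of_hT1 (F : ArtFun.Art k k ⥤ Type v) (P : ArtFun.ProRep F)
    (hT1 : ∀ ⦃A A' A'' : ArtFun.Art k k⦄ (π' : A' ⟶ A) (i' : A ⟶ A') (π'' : A'' ⟶ A)
      (i'' : A ⟶ A'') (q : A'' ⟶ A'), i' ≫ π' = 𝟙 A → i'' ≫ π'' = 𝟙 A →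
      RingHom.ker π'.toAlgHom * RingHom.ker π'.toAlgHom = ⊥ →
      RingHom.ker π''.toAlgHom * RingHom.ker π''.toAlgHom = ⊥ → q ≫ π' = π'' → i'' ≫ q = i' →
      Function.Surjective q → Function.Surjective (F.map q))
    (E : Art k k) (J : Ideal E) (φ : P.ring.carrier →ₐ[k] TrivSqZeroExt E (E ⧸ J)) :
    ∃ ψ' : P.ring.carrier →ₐ[k] TrivSqZeroExt E E, ∀ r, (ψ' r).fst = (φ r).fst ∧
      Ideal.Quotient.mk J (ψ' r).snd = (φ r).snd := by
  haveI : Module.Finite k E := Groth.Agent.Lib.Helper19.ArtFunLength.finite_art E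
  haveI : Module.Finite k (E ⧸ J) :=
    Module.Finite.of_surjective ((Submodule.mkQ J).restrictScalars k) (Submodule.mkQ_surjective J)
  have hsurj := hT1 (πM E (E ⧸ J)) (ιM E (E ⧸ J)) (πM E E) (ιM E E) (qM E (Submodule.mkQ J))
    (c_section E (E ⧸ J)) (c_section E E) (c_sq E (E ⧸ J)) (c_sq E E)
    (c_q_π E (Submodule.mkQ J)) (c_ι_q E (Submodule.mkQ J))
    (c_surj E (Submodule.mkQ J) (Submodule.mkQ_surjective J))
  obtain ⟨φh, hφh⟩ : ∃ φh : HomSet P.ring.carrier P.ring.res (tszArt E (E ⧸ J)),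
      ∀ r, TrivSqZeroExt.fst (R := E) (M := E ⧸ J) (φh.1 r) = (φ r).fst ∧
        TrivSqZeroExt.snd (R := E) (M := E ⧸ J) (φh.1 r) = (φ r).snd :=
    ⟨⟨φ, Groth.Agent.Lib.Helper19.T1Core.res_comp_eq (A := tszArt E (E ⧸ J)) φ⟩,
      fun _ => ⟨rfl, rfl⟩⟩
  obtain ⟨y, hy⟩ := hsurj (P.family.app _ φh)
  obtain ⟨ψh, hψh⟩ := (P.universal (tszArt E E)).2 y
  have hnat := P.family.natural (qM E (Submodule.mkQ J)) ψh
  rw [hψh, hy] at hnat
  have heq : HomSet.map (qM E (Submodule.mkQ J)) ψh = φh := (P.universal _).1 hnat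
  refine ⟨ψh.1, fun r => ?_⟩
  have h1 : Groth.Agent.Lib.Helper19.T1Core.mapHom (k := k) E (Submodule.mkQ J) (ψh.1 r) =
      φh.1 r := congrArg (fun h : HomSet P.ring.carrier P.ring.res (tszArt E (E ⧸ J)) => h.1 r) heq
  have h2 := hφh r
  rw [← h1] at h2
  exact ⟨h2.1, h2.2⟩

end Main

/-- Let k be a field of characteristic zero and F a deformation functor on Artinian local k-algebras
with residue field k — F(k) is a point and the comparison map F(A₁ ×_A A₂) → F(A₁) ×_{F(A)} F(A₂) is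
bijective whenever A₂ → A is surjective — whose tangent space F(k[ε]) is finite-dimensional. Suppose
that for every object A and every surjective morphism q : A'' → A' between split square-zero
extensions of A (A' and A'' come with retractions onto A whose kernels have square zero and with
sections from A, and q commutes with the retractions and the sections), the map F(q) : F(A'') →
F(A') is surjective. Then F is unobstructed: F(B) → F(A) is surjective for every surjective B → A.
(The published statement is for deformation categories, with the hypothesis that, for every object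
over A, the functor M ↦ {isomorphism classes of its liftings to A ⊕ M} on finite A-modules carries
surjections to surjections; this row is the case of a category fibred in sets, for which a split
square-zero extension of A is A ⊕ M with M the kernel, a finite A-module, and that hypothesis is the
displayed surjectivity.) -/
theorem result {k : Type u} [Field k] [CharZero k]
    (F : ArtFun.Art k k ⥤ Type v) [ArtFun.TangentStr F]
    (h0 : ArtFun.H0 F)
    (hRS : (∀ ⦃B A A' A'' : ArtFun.Art k k⦄ (p' : B ⟶ A') (p'' : B ⟶ A'') (f' : A' ⟶ A) (f'' : A'' ⟶ A)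
        (h : ArtFun.Art.IsFibreProd p' p'' f' f''), Function.Surjective f'' → Function.Bijective (ArtFun.cmp F h)))
    (hfin : ArtFun.Hfin F)
    (hT1 : ∀ ⦃A A' A'' : ArtFun.Art k k⦄ (π' : A' ⟶ A) (i' : A ⟶ A') (π'' : A'' ⟶ A) (i'' : A ⟶ A'')
        (q : A'' ⟶ A'), i' ≫ π' = 𝟙 A → i'' ≫ π'' = 𝟙 A →
        RingHom.ker π'.toAlgHom * RingHom.ker π'.toAlgHom = ⊥ →
        RingHom.ker π''.toAlgHom * RingHom.ker π''.toAlgHom = ⊥ →
        q ≫ π' = π'' → i'' ≫ q = i' → Function.Surjective q → Function.Surjective (F.map q)) :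
    ArtFun.IsSmoothFunctor F := by
  have hpro : ArtFun.IsProrepresentable F := by
    refine (Groth.Agent.S12734.result F).2 ⟨⟨h0, hRS⟩, hfin, ?_⟩
    intro x₀ σ₁ σ₂ _
    apply ArtFun.Art.hom_ext
    apply AlgHom.ext
    intro c
    have h1 := σ₁.toAlgHom.commutes c
    have h2 := σ₂.toAlgHom.commutes c
    exact h1.trans h2.symm
  obtain ⟨P⟩ := hpro
  haveI := P.ring.isAdicComplete
  have hK : Function.Surjective ((IsLocalRing.residue P.ring.carrier).comp
      (algebraMap k P.ring.carrier)) := by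
    intro y
    obtain ⟨x, rfl⟩ := IsLocalRing.residue_surjective y
    refine ⟨P.ring.res x, ?_⟩
    show IsLocalRing.residue P.ring.carrier (algebraMap k P.ring.carrier (P.ring.res x)) =
      IsLocalRing.residue P.ring.carrier x
    rw [← sub_eq_zero, ← map_sub, IsLocalRing.residue_eq_zero_iff,
      ArtFun.CRing.mem_maximalIdeal_iff, map_sub, AlgHom.commutes]
    exact sub_self _
  obtain ⟨ψ, hψ, hker⟩ :=
    Groth.Agent.Lib.Helper21.CohenStruct.exists_surjective k P.ring.carrier hK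
  have hinj := Groth.Agent.Lib.Helper19.T1Core.injective_of_T1 P.ring ψ hψ hker
    (HT_of_hT1 F P hT1)
  have hsm : ArtFun.IsSmoothFunctor (ArtFun.hR P.ring.carrier P.ring.res) := by
    haveI : IsAdicComplete (IsLocalRing.maximalIdeal k) k := by
      rw [IsLocalRing.maximalIdeal_eq_bot]; infer_instance
    exact (Groth.Agent.S12722.result (Λ := k) (k := k) (fun c => ⟨c, rfl⟩) P.ring).2
      ⟨_, ⟨(AlgEquiv.ofBijective ψ ⟨hinj, hψ⟩).symm⟩⟩
  intro B A μ hμ x
  obtain ⟨φ, rfl⟩ := (P.universal A).2 x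
  obtain ⟨φ', hφ'⟩ := hsm μ hμ φ
  have h2 : ArtFun.HomSet.map μ φ' = φ := hφ'
  refine ⟨P.family.app B φ', ?_⟩
  rw [← P.family.natural μ φ', h2]

end Groth.Agent.S13971
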