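import Groth.Statements.S13972
import Groth.Agent.Lib.Helper14.KoszulLiftNilp

set_option autoImplicit false
universe u
open LCI

namespace Groth.Agent.S13972

/-- Let A' be an Artinian local ring, I a proper ideal of A', A = A'/I, R' a Noetherian A'-algebra flat
over A' and R = R'/IR'. Let f₁, …, f_r ∈ R be a Koszul-regular sequence (its Koszul complex is
acyclic in nonzero degrees) such that R/(f₁, …, f_r) is flat over A. Then: (1) for every choice of
lifts f'₁, …, f'_r ∈ R' of the f_i, the quotient R'/(f'₁, …, f'_r) is flat over A' and f'₁, …, f'_r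
is a Koszul-regular sequence in R'; (2) if J' ⊆ R' is an ideal with R'/J' flat over A' whose image
in R is the ideal (f₁, …, f_r), then J' is generated by any lifts f'₁, …, f'_r ∈ J' of the f_i. (The
published statement takes R' = R₀ ⊗_Λ A' for a flat Λ-algebra R₀ and a surjection A' → A of Artinian
local Λ-algebras; this row assumes only that R' is Noetherian and flat over A' and that I is a
proper ideal, which is what its proof uses. Regularity of a sequence is taken there in every
localization at a prime containing the ideal it generates, which over a Noetherian ring is the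
Koszul-acyclicity used in the proof and stated here.) -/
theorem result
    {A' : Type u} [CommRing A'] [IsLocalRing A'] [IsArtinianRing A'] (I : Ideal A') (hI : I ≠ ⊤)
    {R' : Type u} [CommRing R'] [Algebra A' R'] [IsNoetherianRing R'] [Module.Flat A' R']
    (r : ℕ) (f : Fin r → R' ⧸ I.map (algebraMap A' R'))
    (hf : LCI.IsKoszulRegularSeq (R' ⧸ I.map (algebraMap A' R')) (List.ofFn f))
    [Module.Flat (A' ⧸ I) ((R' ⧸ I.map (algebraMap A' R')) ⧸ Ideal.span (Set.range f))] :
    (∀ f' : Fin r → R', (∀ i, Ideal.Quotient.mk (I.map (algebraMap A' R')) (f' i) = f i) →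
        Module.Flat A' (R' ⧸ Ideal.span (Set.range f')) ∧ LCI.IsKoszulRegularSeq R' (List.ofFn f')) ∧
    (∀ (J' : Ideal R'), Module.Flat A' (R' ⧸ J') →
        J'.map (Ideal.Quotient.mk (I.map (algebraMap A' R'))) = Ideal.span (Set.range f) →
        ∀ f' : Fin r → R', (∀ i, f' i ∈ J') →
          (∀ i, Ideal.Quotient.mk (I.map (algebraMap A' R')) (f' i) = f i) →
          J' = Ideal.span (Set.range f')) := by
  classical
  have hInil : IsNilpotent I := by
    have h1 : I ≤ IsLocalRing.maximalIdeal A' := IsLocalRing.le_maximalIdeal hI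
    have h2 : IsNilpotent (Ideal.jacobson (⊥ : Ideal A')) := IsArtinianRing.isNilpotent_jacobson_bot
    rw [IsLocalRing.jacobson_eq_maximalIdeal ⊥ bot_ne_top] at h2
    obtain ⟨n, hn⟩ := h2
    refine ⟨n, ?_⟩
    have := Ideal.pow_right_mono h1 n
    rw [hn] at this
    exact le_bot_iff.mp this
  have hofList : ∀ {S : Type u} [CommRing S] (g : Fin r → S),
      Ideal.ofList (List.ofFn g) = Ideal.span (Set.range g) := by
    intro S _ g
    unfold Ideal.ofList
    congr 1
    ext x
    simp [List.mem_ofFn]
  have hmapf : ∀ f' : Fin r → R', (∀ i, Ideal.Quotient.mk (I.map (algebraMap A' R')) (f' i) = f i) →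
      (List.ofFn f').map (Ideal.Quotient.mk (I.map (algebraMap A' R'))) = List.ofFn f := by
    intro f' hf'
    rw [List.map_ofFn]
    congr 1
    funext i
    exact hf' i
  have part1 : ∀ f' : Fin r → R', (∀ i, Ideal.Quotient.mk (I.map (algebraMap A' R')) (f' i) = f i) →
        Module.Flat A' (R' ⧸ Ideal.span (Set.range f')) ∧ LCI.IsKoszulRegularSeq R' (List.ofFn f') := by
    intro f' hf'
    have hreg : LCI.IsKoszulRegularSeq (R' ⧸ I.map (algebraMap A' R'))
        ((List.ofFn f').map (Ideal.Quotient.mk (I.map (algebraMap A' R')))) := by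
      rw [hmapf f' hf']; exact hf
    haveI : Module.Flat (A' ⧸ I) ((R' ⧸ I.map (algebraMap A' R')) ⧸
        Ideal.ofList ((List.ofFn f').map (Ideal.Quotient.mk (I.map (algebraMap A' R'))))) := by
      rw [hmapf f' hf', hofList f]; infer_instance
    obtain ⟨h1, h2⟩ := Groth.Agent.Lib.Helper14.KoszulFun.isKoszulRegularSeq_lift_nilp I hInil
      (List.ofFn f') hreg
    refine ⟨?_, h1⟩
    rw [← hofList f']; exact h2
  refine ⟨part1, ?_⟩
  intro J' hJ'flat hJ'map f' hf'J hf'
  haveI := hJ'flat
  refine Groth.Agent.Lib.Helper14.KoszulFun.eq_of_flat_of_map_eq I hInil J'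
    (Ideal.span (Set.range f')) ?_ ?_
  · rw [Ideal.span_le]
    rintro _ ⟨i, rfl⟩
    exact hf'J i
  · rw [hJ'map, Ideal.map_span]
    congr 1
    ext x
    constructor
    · rintro ⟨i, rfl⟩
      exact ⟨f' i, ⟨i, rfl⟩, hf' i⟩
    · rintro ⟨_, ⟨i, rfl⟩, rfl⟩
      exact ⟨i, (hf' i).symm⟩


end Groth.Agent.S13972
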