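import Groth.Statements.S13977
import Groth.Agent.Lib.Helper25.InfAutMod
set_option linter.style.haveILetI false

set_option autoImplicit false
universe u
open CategoryTheory CategoryTheory.Limits AlgebraicGeometry
open Deform

namespace Groth.Agent.S13977

/-- Let k be a field, X₀ a locally Noetherian k-scheme and E₀ a quasi-coherent O_{X₀}-module. Let X_ε =
X₀ ×_k Spec k[ε] be the trivial first-order deformation, presented by a cartesian square with
projections q : X_ε → X₀ and p : X_ε → Spec k[ε], with the closed immersion i : X₀ → X_ε over ε = 0,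
a section of q, and let E_ε = q^*E₀ be the trivial lifting of E₀. Then the infinitesimal
automorphisms of E₀ — the O_{X_ε}-linear automorphisms of E_ε whose pullback along i is the identity
— form a group isomorphic to the additive group Hom_{O_{X₀}}(E₀, E₀): there is a bijection taking
composition to addition. -/
theorem result (k : Type u) [Field k]
    (X₀ : Scheme.{u}) [IsLocallyNoetherian X₀] (x : X₀ ⟶ Spec (CommRingCat.of k))
    (E₀ : X₀.Modules) (hE₀ : Coh.IsQCoh E₀)
    (Xε : Scheme.{u}) (q : Xε ⟶ X₀) (p : Xε ⟶ Spec (CommRingCat.of (DualNumber k)))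
    (hsq : IsPullback q p x (Spec.map (CommRingCat.ofHom (algebraMap k (DualNumber k)))))
    (i : X₀ ⟶ Xε) (hiq : i ≫ q = 𝟙 X₀)
    (hip : i ≫ p = x ≫ Spec.map (CommRingCat.ofHom (TrivSqZeroExt.fstHom k k k).toRingHom)) :
    ∃ e : {φ : (Scheme.Modules.pullback q).obj E₀ ≅ (Scheme.Modules.pullback q).obj E₀ //
            (Scheme.Modules.pullback i).map φ.hom = 𝟙 _} ≃ (E₀ ⟶ E₀),
      ∀ φ ψ χ : {φ : (Scheme.Modules.pullback q).obj E₀ ≅ (Scheme.Modules.pullback q).obj E₀ //
            (Scheme.Modules.pullback i).map φ.hom = 𝟙 _},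
        φ.1 ≪≫ ψ.1 = χ.1 → e χ = e φ + e ψ := by
  haveI : E₀.IsQuasicoherent := hE₀
  let F : (E₀ ⟶ E₀) →
      {φ : (Scheme.Modules.pullback q).obj E₀ ≅ (Scheme.Modules.pullback q).obj E₀ //
        (Scheme.Modules.pullback i).map φ.hom = 𝟙 _} :=
    fun b => ⟨Groth.Agent.Lib.Helper25.InfAutMod.PhiIso q p E₀ b,
      Groth.Agent.Lib.Helper25.InfAutMod.pullback_Phi x q p i hip E₀ b⟩
  have hF : Function.Bijective F := by
    constructor
    · intro b b' h
      exact Groth.Agent.Lib.Helper25.InfAutMod.Phi_injective x q p hsq E₀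
        (congrArg (fun z => z.1.hom) h)
    · intro φ
      obtain ⟨b, hb⟩ := Groth.Agent.Lib.Helper25.InfAutMod.exists_Phi_eq x q p hsq i hiq hip E₀
        φ.1.hom φ.2
      exact ⟨b, Subtype.ext (Iso.ext hb)⟩
  refine ⟨(Equiv.ofBijective F hF).symm, fun φ ψ χ h => ?_⟩
  apply (Equiv.ofBijective F hF).injective
  rw [Equiv.apply_symm_apply]
  apply Subtype.ext
  apply Iso.ext
  have h1 : Groth.Agent.Lib.Helper25.InfAutMod.Phi q p E₀ ((Equiv.ofBijective F hF).symm φ) =
      φ.1.hom := congrArg (fun z => z.1.hom) ((Equiv.ofBijective F hF).apply_symm_apply φ)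
  have h2 : Groth.Agent.Lib.Helper25.InfAutMod.Phi q p E₀ ((Equiv.ofBijective F hF).symm ψ) =
      ψ.1.hom := congrArg (fun z => z.1.hom) ((Equiv.ofBijective F hF).apply_symm_apply ψ)
  have h3 : χ.1.hom = φ.1.hom ≫ ψ.1.hom := by
    rw [← h]
    rfl
  refine h3.trans ?_
  rw [← h1, ← h2, Groth.Agent.Lib.Helper25.InfAutMod.Phi_comp]
  rfl

end Groth.Agent.S13977
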