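import Groth.Statements.S13981
import Mathlib
import Groth.Agent.Lib.Helper19.ArtFunBasic
import Groth.Agent.Lib.Helper19.ArtFunLength
import Groth.Agent.Lib.Helper19.ArtFunTorsor
import Groth.Agent.Lib.Helper19.ArtFunHR
import Groth.Agent.Lib.Helper19.ArtFunCRing
import Groth.Agent.S12720

set_option autoImplicit false
universe u v
open CategoryTheory
open ArtFun

namespace Groth.Agent.S13981

section Aux

open Groth.Agent.Lib.Helper19

variable {Λ : Type u} {k : Type u} [CommRing Λ] [Field k] [Algebra Λ k]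

theorem hmap_comp {R : Type u} [CommRing R] [Algebra Λ R] {resR : R →ₐ[Λ] k} {X Y Z : Art Λ k}
    (f : X ⟶ Y) (g : Y ⟶ Z) (x : HomSet R resR X) :
    HomSet.map (f ≫ g) x = HomSet.map g (HomSet.map f x) :=
  Subtype.ext (AlgHom.ext fun _ => rfl)

theorem exists_preimage_pow {A' A : CRing Λ k} (g : A'.carrier →ₐ[Λ] A.carrier)
    (hg : A.res.comp g = A'.res) (hgs : Function.Surjective g) (j : ℕ) (x : A.carrier)
    (hx : x ∈ IsLocalRing.maximalIdeal A.carrier ^ j) :
    ∃ w ∈ IsLocalRing.maximalIdeal A'.carrier ^ j, g w = x := by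
  have hmm : Ideal.map g (IsLocalRing.maximalIdeal A'.carrier) =
      IsLocalRing.maximalIdeal A.carrier := by
    apply le_antisymm
    · exact Ideal.map_le_iff_le_comap.2 (CRing.maximalIdeal_le_comap g hg)
    · intro y hy
      obtain ⟨a, rfl⟩ := hgs y
      apply Ideal.mem_map_of_mem
      rw [CRing.mem_maximalIdeal_iff] at hy ⊢
      rw [← hy]
      exact (CRing.res_comp_apply g hg a).symm
  rw [← hmm, ← Ideal.map_pow] at hx
  exact (Ideal.mem_map_iff_of_surjective g hgs).1 hx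

theorem truncMapOfHom_surjective {A' A : CRing Λ k} (g : A'.carrier →ₐ[Λ] A.carrier)
    (hg : A.res.comp g = A'.res) (hgs : Function.Surjective g) (n : ℕ) :
    Function.Surjective (CRing.truncMapOfHom g hg n) := by
  intro x
  obtain ⟨a, rfl⟩ := Ideal.Quotient.mk_surjective x
  obtain ⟨a', rfl⟩ := hgs a
  exact ⟨Ideal.Quotient.mk _ a', rfl⟩

theorem lam_surjective {A' A : CRing Λ k} (g : A'.carrier →ₐ[Λ] A.carrier)
    (hg : A.res.comp g = A'.res) (hgs : Function.Surjective g) (n : ℕ)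
    {P : Art Λ k} {p₁ : P ⟶ A'.trunc n} {p₂ : P ⟶ A.trunc (n + 1)}
    (hP : Art.IsFibreProd p₁ p₂ (CRing.truncMapOfHom g hg n) (A.truncMap n))
    (lam : A'.trunc (n + 1) ⟶ P) (h1 : lam ≫ p₁ = A'.truncMap n)
    (h2 : lam ≫ p₂ = CRing.truncMapOfHom g hg (n + 1)) : Function.Surjective lam := by
  intro b
  obtain ⟨a', ha'⟩ := Ideal.Quotient.mk_surjective (I := CRing.mpow A' n) (p₁ b)
  obtain ⟨a, ha⟩ := Ideal.Quotient.mk_surjective (I := CRing.mpow A (n + 1)) (p₂ b)
  obtain ⟨c', rfl⟩ := hgs a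
  have hcomm : (CRing.truncMapOfHom g hg n) (p₁ b) = (A.truncMap n) (p₂ b) := hP.w_apply b
  have e1 : (CRing.truncMapOfHom g hg n) (p₁ b) = Ideal.Quotient.mk (CRing.mpow A n) (g a') :=
    (congrArg (fun z => (CRing.truncMapOfHom g hg n) z) ha'.symm).trans rfl
  have e2 : (A.truncMap n) (p₂ b) = Ideal.Quotient.mk (CRing.mpow A n) (g c') :=
    (congrArg (fun z => (A.truncMap n) z) ha.symm).trans rfl
  have h3 : Ideal.Quotient.mk (CRing.mpow A n) (g a') =
      Ideal.Quotient.mk (CRing.mpow A n) (g c') := by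
    rw [← e1, ← e2]; exact hcomm
  have hmem : g (a' - c') ∈ IsLocalRing.maximalIdeal A.carrier ^ (n + 1) := by
    rw [map_sub]
    exact Ideal.Quotient.eq.mp h3
  obtain ⟨w, hw, hgw⟩ := exists_preimage_pow g hg hgs (n + 1) _ hmem
  refine ⟨Ideal.Quotient.mk (CRing.mpow A' (n + 1)) (a' - w), ?_⟩
  apply hP.inj
  · have e3 : p₁ (lam (Ideal.Quotient.mk (CRing.mpow A' (n + 1)) (a' - w))) =
        (lam ≫ p₁) (Ideal.Quotient.mk (CRing.mpow A' (n + 1)) (a' - w)) := rfl
    rw [e3, h1, ← ha']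
    show Ideal.Quotient.mk (CRing.mpow A' n) (a' - w) = Ideal.Quotient.mk (CRing.mpow A' n) a'
    refine Ideal.Quotient.eq.mpr ?_
    have : a' - w - a' = -w := by ring
    rw [this]
    exact neg_mem hw
  · have e3 : p₂ (lam (Ideal.Quotient.mk (CRing.mpow A' (n + 1)) (a' - w))) =
        (lam ≫ p₂) (Ideal.Quotient.mk (CRing.mpow A' (n + 1)) (a' - w)) := rfl
    rw [e3, h2, ← ha]
    show Ideal.Quotient.mk (CRing.mpow A (n + 1)) (g (a' - w)) =
      Ideal.Quotient.mk (CRing.mpow A (n + 1)) (g c')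
    have : g (a' - w) = g c' := by
      rw [map_sub, hgw, map_sub]; ring
    rw [this]

variable [IsNoetherianRing Λ] [Module.Finite Λ k]

theorem step {F : Art Λ k ⥤ Type v}
    (hRS : ∀ ⦃B A A₁ A₂ : Art Λ k⦄ (p₁ : B ⟶ A₁) (p₂ : B ⟶ A₂) (f₁ : A₁ ⟶ A) (f₂ : A₂ ⟶ A)
        (h : Art.IsFibreProd p₁ p₂ f₁ f₂), Function.Surjective f₂ →
        Function.Bijective (cmp F h))
    (R : CRing Λ k) (ξ : Family R.carrier R.res F) (hξ : IsVersal ξ)
    (A' A : CRing Λ k) (g : A'.carrier →ₐ[Λ] A.carrier) (hg : A.res.comp g = A'.res)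
    (hgs : Function.Surjective g) (η' : FormalElt F A') (n : ℕ)
    (φ₀ : HomSet R.carrier R.res (A.trunc n)) (φ₁ : HomSet R.carrier R.res (A.trunc (n + 1)))
    (hφ : HomSet.map (A.truncMap n) φ₁ = φ₀)
    (hsq1 : ξ.app _ φ₁ = F.map (CRing.truncMapOfHom g hg (n + 1)) (η'.elt (n + 1)))
    (ψ₀ : HomSet R.carrier R.res (A'.trunc n)) (hψ₀ : ξ.app _ ψ₀ = η'.elt n)
    (hψφ : HomSet.map (CRing.truncMapOfHom g hg n) ψ₀ = φ₀) :
    ∃ ψ₁ : HomSet R.carrier R.res (A'.trunc (n + 1)),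
      ξ.app _ ψ₁ = η'.elt (n + 1) ∧
      HomSet.map (CRing.truncMapOfHom g hg (n + 1)) ψ₁ = φ₁ ∧
      HomSet.map (A'.truncMap n) ψ₁ = ψ₀ := by
  obtain ⟨P, p₁, p₂, hP⟩ := ArtFunLength.exists_isFibreProd (CRing.truncMapOfHom g hg n)
    (A.truncMap n) (Groth.Agent.S12720.truncMap_surjective A n)
  obtain ⟨lam, hl1, hl2⟩ := ArtFunTorsor.exists_hom_of_isFibreProd hP (A'.truncMap n)
    (CRing.truncMapOfHom g hg (n + 1)) (CRing.truncMapOfHom_truncMap g hg n).symm
  have hlam := lam_surjective g hg hgs n hP lam hl1 hl2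
  obtain ⟨θ, hθ1, hθ2⟩ := ArtFunHR.hR_exists_lift hP ψ₀ φ₁ (by rw [hψφ, hφ])
  have hclaim : F.map lam (η'.elt (n + 1)) = ξ.app P θ := by
    apply (hRS p₁ p₂ _ _ hP (Groth.Agent.S12720.truncMap_surjective A n)).1
    apply FibProd.ext
    · show F.map p₁ (F.map lam (η'.elt (n + 1))) = F.map p₁ (ξ.app P θ)
      rw [← FunctorToTypes.map_comp_apply, hl1, η'.compat, ← ξ.natural, hθ1, hψ₀]
    · show F.map p₂ (F.map lam (η'.elt (n + 1))) = F.map p₂ (ξ.app P θ)
      rw [← FunctorToTypes.map_comp_apply, hl2, ← ξ.natural, hθ2, hsq1]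
  obtain ⟨ψ₁, hψ1, hψ2⟩ := hξ lam hlam θ (η'.elt (n + 1)) hclaim
  refine ⟨ψ₁, hψ2, ?_, ?_⟩
  · rw [← hl2, hmap_comp, hψ1, hθ2]
  · rw [← hl1, hmap_comp, hψ1, hθ1]

end Aux

/-- Let F be a functor on Artinian local Λ-algebras with residue field k (Λ Noetherian, Λ → k finite and
surjective) satisfying (RS) — the comparison map for A₁ ×_A A₂ is bijective whenever A₂ → A is
surjective — and let ξ be a versal family of F over a complete local Noetherian Λ-algebra R with
residue field k. Then the lifting property defining versality also holds along surjections of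
complete local Noetherian algebras: if g : A' → A is such a surjection, η' is a formal element of F
over A' (a compatible system over the truncations A'/m^(n+1)) and φ : R → A is a map under which the
formal element of ξ becomes the pushforward of η' along g, then φ lifts to ψ : R → A' with g ∘ ψ = φ
and with ξ inducing η' along ψ. (The published statement takes Λ complete local Noetherian with
residue field k; its proof does not use completeness of Λ, and this row assumes only Λ Noetherian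
with Λ → k surjective.) -/
theorem result {Λ : Type u} {k : Type u} [CommRing Λ] [Field k]
    [Algebra Λ k] [IsNoetherianRing Λ] [Module.Finite Λ k] (hΛ : Function.Surjective (algebraMap Λ k))
    {F : ArtFun.Art Λ k ⥤ Type v}
    (hRS : ∀ ⦃B A A₁ A₂ : ArtFun.Art Λ k⦄ (p₁ : B ⟶ A₁) (p₂ : B ⟶ A₂) (f₁ : A₁ ⟶ A) (f₂ : A₂ ⟶ A)
        (h : ArtFun.Art.IsFibreProd p₁ p₂ f₁ f₂), Function.Surjective f₂ → Function.Bijective (ArtFun.cmp F h))
    (R : ArtFun.CRing Λ k) (ξ : ArtFun.Family R.carrier R.res F) (hξ : ArtFun.IsVersal ξ)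
    (A' A : ArtFun.CRing Λ k) (g : A'.carrier →ₐ[Λ] A.carrier) (hg : A.res.comp g = A'.res)
    (hgs : Function.Surjective g) (η' : ArtFun.FormalElt F A')
    (φ : R.carrier →ₐ[Λ] A.carrier) (hφ : A.res.comp φ = R.res)
    (hsq : (ξ.along φ hφ).toFormalElt = η'.push g hg) :
    ∃ (ψ : R.carrier →ₐ[Λ] A'.carrier) (hψ : A'.res.comp ψ = R.res),
      g.comp ψ = φ ∧ (ξ.along ψ hψ).toFormalElt = η' := by
  classical
  have hφn : ∀ n, (A.trunc n).res.comp ((A.truncHom n).1.comp φ) = R.res := fun n => by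
    rw [← AlgHom.comp_assoc, (A.truncHom n).2, hφ]
  let φn : ∀ n, HomSet R.carrier R.res (A.trunc n) := fun n => ⟨(A.truncHom n).1.comp φ, hφn n⟩
  have hφcompat : ∀ n, HomSet.map (A.truncMap n) (φn (n + 1)) = φn n := fun n =>
    Subtype.ext (AlgHom.ext fun _ => rfl)
  have hsqn : ∀ n, ξ.app (A.trunc n) (φn n) =
      F.map (CRing.truncMapOfHom g hg n) (η'.elt n) := fun n =>
    congrArg (fun u => u.elt n) hsq
  obtain ⟨ψ0, hψ0a, hψ0b⟩ := hξ (CRing.truncMapOfHom g hg 0)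
    (truncMapOfHom_surjective g hg hgs 0) (φn 0) (η'.elt 0) (hsqn 0).symm
  have hstep : ∀ n (t : {ψ : HomSet R.carrier R.res (A'.trunc n) //
      ξ.app _ ψ = η'.elt n ∧ HomSet.map (CRing.truncMapOfHom g hg n) ψ = φn n}),
      ∃ t' : {ψ : HomSet R.carrier R.res (A'.trunc (n + 1)) //
        ξ.app _ ψ = η'.elt (n + 1) ∧
          HomSet.map (CRing.truncMapOfHom g hg (n + 1)) ψ = φn (n + 1)},
        HomSet.map (A'.truncMap n) t'.1 = t.1 := by
    intro n t
    obtain ⟨ψ₁, h1, h2, h3⟩ := step hRS R ξ hξ A' A g hg hgs η' n (φn n) (φn (n + 1))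
      (hφcompat n) (hsqn (n + 1)) t.1 t.2.1 t.2.2
    exact ⟨⟨ψ₁, h1, h2⟩, h3⟩
  let seq : ∀ n : ℕ, {ψ : HomSet R.carrier R.res (A'.trunc n) //
      ξ.app _ ψ = η'.elt n ∧ HomSet.map (CRing.truncMapOfHom g hg n) ψ = φn n} :=
    fun n => Nat.rec ⟨ψ0, hψ0b, hψ0a⟩ (fun n t => (hstep n t).choose) n
  have hseq : ∀ n, HomSet.map (A'.truncMap n) (seq (n + 1)).1 = (seq n).1 := fun n =>
    (hstep n (seq n)).choose_spec
  let γ : ∀ n : ℕ, R.carrier →ₐ[Λ] (A'.trunc n) := fun n => (seq n).1.1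
  have hγ : ∀ n, (A'.truncMap n).toAlgHom.comp (γ (n + 1)) = γ n := fun n =>
    congrArg Subtype.val (hseq n)
  let ψ := Groth.Agent.S12720.limMap A' γ hγ
  have hψn : ∀ n, (A'.truncHom n).1.comp ψ = γ n := fun n =>
    AlgHom.ext (Groth.Agent.S12720.limMap_spec A' γ hγ n)
  have hψ : A'.res.comp ψ = R.res := by
    have h1 : A'.res = (A'.trunc 0).res.comp (A'.truncHom 0).1 := (A'.truncHom 0).2.symm
    rw [h1, AlgHom.comp_assoc, hψn 0]
    exact (seq 0).1.2
  refine ⟨ψ, hψ, ?_, ?_⟩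
  · apply Groth.Agent.Lib.Helper19.ArtFunCRing.cring_hom_ext (P := R) (T := A)
    intro n
    apply AlgHom.ext
    intro r
    have e1 : (A.truncHom n).1 (g (ψ r)) =
        (CRing.truncMapOfHom g hg n) ((A'.truncHom n).1 (ψ r)) := rfl
    have e2 : (A'.truncHom n).1 (ψ r) = γ n r := AlgHom.congr_fun (hψn n) r
    have e3 : (CRing.truncMapOfHom g hg n) (γ n r) = (φn n).1 r :=
      AlgHom.congr_fun (congrArg Subtype.val (seq n).2.2) r
    show (A.truncHom n).1 (g (ψ r)) = (A.truncHom n).1 (φ r)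
    rw [e1, e2, e3]
    rfl
  · apply FormalElt.ext'
    intro n
    show ξ.app _ ⟨(A'.truncHom n).1.comp ψ, _⟩ = η'.elt n
    have : (⟨(A'.truncHom n).1.comp ψ, by rw [← AlgHom.comp_assoc, (A'.truncHom n).2, hψ]⟩ :
        HomSet R.carrier R.res (A'.trunc n)) = (seq n).1 := Subtype.ext (hψn n)
    rw [this]
    exact (seq n).2.1

end Groth.Agent.S13981
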