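import Groth.Statements.S13985
import Mathlib

set_option autoImplicit false
universe u
open CategoryTheory
open CohGab

namespace Groth.Agent.S13985

/-- For a ring A, the canonical map from the centre of A to the centre of the category of finitely
generated left A-modules (the endomorphism ring of its identity functor), sending a to
multiplication by a, is bijective: every natural endomorphism of the identity functor acts on each
finitely generated module as multiplication by a unique element of A, and that element is central.
(The published statement calls this map an isomorphism of commutative rings; this row states its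
bijectivity.) -/
theorem result (A : Type u) [Ring A]
    (φ : 𝟭 (FGModuleCat.{u} A) ⟶ 𝟭 (FGModuleCat.{u} A)) :
    ∃! a : A, a ∈ Subring.center A ∧
      ∀ (M : FGModuleCat.{u} A) (x : M), (φ.app M).hom.hom x = a • x := by
  let AA : FGModuleCat.{u} A := FGModuleCat.of A A
  let mk : ∀ (M : FGModuleCat.{u} A), (A →ₗ[A] M) → (AA ⟶ M) := fun M f =>
    ObjectProperty.homMk (ModuleCat.ofHom f)
  have mk_apply : ∀ (M : FGModuleCat.{u} A) (f : A →ₗ[A] M) (r : A),
      (mk M f).hom.hom r = f r := fun M f r => rfl
  have nat : ∀ (M : FGModuleCat.{u} A) (f : A →ₗ[A] M) (r : A),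
      (φ.app M).hom.hom (f r) = f ((φ.app AA).hom.hom r) := by
    intro M f r
    have h := φ.naturality (mk M f)
    simp only [Functor.id_map] at h
    have h2 := congrArg (fun g => g.hom.hom r) h
    simp only [FGModuleCat.hom_hom_comp, LinearMap.comp_apply] at h2
    rw [mk_apply, mk_apply] at h2
    exact h2
  set a : A := (φ.app AA).hom.hom (1 : A) with ha
  have key : ∀ (M : FGModuleCat.{u} A) (x : M), (φ.app M).hom.hom x = a • x := by
    intro M x
    have h := nat M (LinearMap.toSpanSingleton A M x) 1
    simpa [LinearMap.toSpanSingleton_apply] using h
  refine ⟨a, ⟨?_, key⟩, ?_⟩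
  · rw [Subring.mem_center_iff]
    intro b
    have h1 := nat AA (LinearMap.toSpanSingleton A A b) 1
    simp only [LinearMap.toSpanSingleton_apply, one_smul] at h1
    have h2 : (φ.app AA).hom.hom b = b • a := by
      have : b = b • (1 : A) := by simp
      conv_lhs => rw [this]
      rw [map_smul]
    rw [h2] at h1
    simpa [smul_eq_mul] using h1
  · rintro a' ⟨-, h'⟩
    have := h' AA (1 : A)
    simpa [smul_eq_mul, ← ha] using this.symm

end Groth.Agent.S13985
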