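import Groth.Statements.S13989
import Mathlib

set_option autoImplicit false
universe v u v' u' v'' u''
open CategoryTheory CategoryTheory.Limits
open CohGab

namespace Groth.Agent.S13989


section Aux

theorem hΦ {A A' : Type u} [Category.{v} A] [Category.{v} A'] (i : A' ⥤ A)
    {Q : Type u'} [Category.{v'} Q] (L : A ⥤ Q) {Q' : Type u''} [Category.{v''} Q']
    (L' : A' ⥤ Q') (Φ : Q' ⥤ Q) (e : L' ⋙ Φ ≅ i ⋙ L) {X Y : A'} (x : X ⟶ Y) :
    Φ.map (L'.map x) = e.hom.app X ≫ L.map (i.map x) ≫ e.inv.app Y := by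
  have h := e.hom.naturality x
  simp only [Functor.comp_map] at h
  rw [← Category.assoc, ← h, Category.assoc, Iso.hom_inv_id_app, Category.comp_id]

variable {A A' : Type u} [Category.{v} A] [Abelian A] [Category.{v} A'] [Abelian A']
    (i : A' ⥤ A) [i.Full] [i.Faithful] [PreservesFiniteLimits i] [PreservesFiniteColimits i]
    (J : ObjectProperty A) [J.IsSerreClass] [(J.inverseImage i).IsSerreClass]

theorem hW {X Y : A'} (g : X ⟶ Y) :
    (J.inverseImage i).isoModSerre g ↔ J.isoModSerre (i.map g) := by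
  show (J (i.obj (kernel g)) ∧ J (i.obj (cokernel g))) ↔
    (J (kernel (i.map g)) ∧ J (cokernel (i.map g)))
  rw [J.prop_iff_of_iso (PreservesKernel.iso i g), J.prop_iff_of_iso (PreservesCokernel.iso i g)]

theorem essImage_kernel {X' Y' : A'} (g : i.obj X' ⟶ i.obj Y') : i.essImage (kernel g) := by
  obtain ⟨g', rfl⟩ := i.map_surjective g
  exact ⟨kernel g', ⟨PreservesKernel.iso i g'⟩⟩

theorem essImage_cokernel {X' Y' : A'} (g : i.obj X' ⟶ i.obj Y') : i.essImage (cokernel g) := by
  obtain ⟨g', rfl⟩ := i.map_surjective g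
  exact ⟨cokernel g', ⟨PreservesCokernel.iso i g'⟩⟩

theorem claimF
    (hsub : ∀ (M : A') (N : A) (f : N ⟶ i.obj M), Mono f → J N → i.essImage N)
    (hquot : ∀ (M : A') (N : A) (p : i.obj M ⟶ N), Epi p → J N → i.essImage N)
    {Q : Type u'} [Category.{v'} Q] (L : A ⥤ Q) [L.IsLocalization J.isoModSerre]
    {Q' : Type u''} [Category.{v''} Q'] (L' : A' ⥤ Q')
    [L'.IsLocalization (J.inverseImage i).isoModSerre]
    (Φ : Q' ⥤ Q) (e : L' ⋙ Φ ≅ i ⋙ L) (M N : A')
    (β : L.obj (i.obj M) ⟶ L.obj (i.obj N)) :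
    ∃ α : L'.obj M ⟶ L'.obj N, Φ.map α = e.hom.app M ≫ β ≫ e.inv.app N := by
  obtain ⟨φ, rfl⟩ := Localization.exists_leftFraction L J.isoModSerre β
  have hs := φ.hs
  have ht : J.isoModSerre (Abelian.image.ι φ.s) :=
    ObjectProperty.epiModSerre.isoModSerre_image_ι hs.2
  have hp : J.isoModSerre (Abelian.factorThruImage φ.s) :=
    ObjectProperty.monoModSerre.isoModSerre_factorThruImage hs.1
  have hpt : Abelian.factorThruImage φ.s ≫ Abelian.image.ι φ.s = φ.s := Abelian.image.fac φ.s
  have hI : i.essImage (Abelian.image φ.s) := by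
    obtain ⟨K', ⟨c⟩⟩ := hsub N (kernel φ.s) (kernel.ι φ.s) inferInstance hs.1
    have h1 : i.essImage (cokernel (c.hom ≫ kernel.ι φ.s)) := essImage_cokernel i _
    have h2 : i.essImage (cokernel (kernel.ι φ.s)) :=
      Functor.essImage.ofIso (cokernelEpiComp c.hom (kernel.ι φ.s)) h1
    exact Functor.essImage.ofIso (Abelian.coimageIsoImage φ.s) h2
  have hu : J.isoModSerre (pullback.fst φ.f (Abelian.image.ι φ.s)) :=
    MorphismProperty.pullback_fst _ _ ht
  have hcond : pullback.fst φ.f (Abelian.image.ι φ.s) ≫ φ.f =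
      pullback.snd φ.f (Abelian.image.ι φ.s) ≫ Abelian.image.ι φ.s := pullback.condition
  have hP : i.essImage (pullback φ.f (Abelian.image.ι φ.s)) := by
    obtain ⟨R', ⟨c⟩⟩ := hquot M (cokernel (pullback.fst φ.f (Abelian.image.ι φ.s)))
      (cokernel.π _) inferInstance hu.2
    have h1 : i.essImage (kernel (cokernel.π (pullback.fst φ.f (Abelian.image.ι φ.s)) ≫ c.inv)) :=
      essImage_kernel i _
    have h2 : i.essImage (kernel (cokernel.π (pullback.fst φ.f (Abelian.image.ι φ.s)))) :=
      Functor.essImage.ofIso (kernelCompMono _ c.inv) h1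
    exact Functor.essImage.ofIso
      (asIso (Abelian.factorThruImage (pullback.fst φ.f (Abelian.image.ι φ.s)))).symm h2
  obtain ⟨P', ⟨aP⟩⟩ := hP
  obtain ⟨I', ⟨aI⟩⟩ := hI
  obtain ⟨u', hu'⟩ := i.map_surjective (aP.hom ≫ pullback.fst φ.f (Abelian.image.ι φ.s))
  obtain ⟨g', hg'⟩ := i.map_surjective
    (aP.hom ≫ pullback.snd φ.f (Abelian.image.ι φ.s) ≫ aI.inv)
  obtain ⟨p', hp'⟩ := i.map_surjective (Abelian.factorThruImage φ.s ≫ aI.inv)
  have hWu' : (J.inverseImage i).isoModSerre u' := by
    rw [hW, hu']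
    exact J.isoModSerre.comp_mem _ _ (J.isoModSerre_of_isIso _) hu
  have hWp' : (J.inverseImage i).isoModSerre p' := by
    rw [hW, hp']
    exact J.isoModSerre.comp_mem _ _ hp (J.isoModSerre_of_isIso _)
  haveI : IsIso (L'.map u') := Localization.inverts L' _ u' hWu'
  haveI : IsIso (L'.map p') := Localization.inverts L' _ p' hWp'
  haveI hLt : IsIso (L.map (Abelian.image.ι φ.s)) := Localization.inverts L _ _ ht
  refine ⟨inv (L'.map u') ≫ L'.map g' ≫ inv (L'.map p'), ?_⟩
  have K : L.map (pullback.fst φ.f (Abelian.image.ι φ.s)) ≫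
      φ.map L (Localization.inverts L _) ≫ L.map (Abelian.factorThruImage φ.s) =
      L.map (pullback.snd φ.f (Abelian.image.ι φ.s)) := by
    rw [← cancel_mono (L.map (Abelian.image.ι φ.s))]
    simp only [Category.assoc]
    rw [← L.map_comp (Abelian.factorThruImage φ.s) (Abelian.image.ι φ.s), hpt,
      φ.map_comp_map_s, ← L.map_comp, ← L.map_comp, hcond]
  have K2 : L.map (i.map u') ≫ φ.map L (Localization.inverts L _) ≫ L.map (i.map p') =
      L.map (i.map g') := by
    rw [hu', hp', hg']
    simp only [Functor.map_comp, Category.assoc]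
    rw [← K]; simp only [Category.assoc]
  have lhs : Φ.map (L'.map u') ≫ Φ.map (inv (L'.map u') ≫ L'.map g' ≫ inv (L'.map p')) ≫
      Φ.map (L'.map p') = Φ.map (L'.map g') := by
    rw [← Φ.map_comp, ← Φ.map_comp]
    congr 1
    simp only [Category.assoc, IsIso.inv_hom_id, Category.comp_id, IsIso.hom_inv_id_assoc]
  rw [← cancel_epi (Φ.map (L'.map u')), ← cancel_mono (Φ.map (L'.map p'))]
  simp only [Category.assoc]
  rw [lhs, hΦ i L L' Φ e u', hΦ i L L' Φ e p', hΦ i L L' Φ e g']
  simp only [Category.assoc, Iso.inv_hom_id_app_assoc]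
  rw [← K2]; simp only [Category.assoc]

end Aux


/-- Let A be an abelian category, A' a full abelian subcategory (given as a fully faithful exact functor
i : A' ⥤ A) and J a Serre subcategory of A, with J' = J ∩ A' (the preimage of J under i, a Serre
subcategory of A'). Assume that every subobject and every quotient object, in A, of an object of A'
which belongs to J belongs to A' (lies in the essential image of i). Then the functor A'/J' ⥤ A/J
induced between the quotient categories is fully faithful: for L : A ⥤ Q and L' : A' ⥤ Q'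
localization functors at the morphisms whose kernel and cokernel lie in J, resp. J', every functor Φ
: Q' ⥤ Q with L' ⋙ Φ ≅ i ⋙ L is full and faithful. -/
theorem result
    {A A' : Type u} [Category.{v} A] [Abelian A] [Category.{v} A'] [Abelian A']
    (i : A' ⥤ A) [i.Full] [i.Faithful] [PreservesFiniteLimits i] [PreservesFiniteColimits i]
    (J : ObjectProperty A) [J.IsSerreClass] [(J.inverseImage i).IsSerreClass]
    (hsub : ∀ (M : A') (N : A) (f : N ⟶ i.obj M), Mono f → J N → i.essImage N)
    (hquot : ∀ (M : A') (N : A) (p : i.obj M ⟶ N), Epi p → J N → i.essImage N)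
    {Q : Type u'} [Category.{v'} Q] (L : A ⥤ Q) [L.IsLocalization J.isoModSerre]
    {Q' : Type u''} [Category.{v''} Q'] (L' : A' ⥤ Q') [L'.IsLocalization (J.inverseImage i).isoModSerre]
    (Φ : Q' ⥤ Q) (e : L' ⋙ Φ ≅ i ⋙ L) : Φ.Full ∧ Φ.Faithful := by
  have hfull : Φ.Full := by
    haveI := Localization.essSurj L' (J.inverseImage i).isoModSerre
    constructor
    intro X Y γ
    obtain ⟨α, hα⟩ := claimF i J hsub hquot L L' Φ e (L'.objPreimage X) (L'.objPreimage Y)
      (e.inv.app _ ≫ Φ.map (L'.objObjPreimageIso X).hom ≫ γ ≫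
        Φ.map (L'.objObjPreimageIso Y).inv ≫ e.hom.app _)
    refine ⟨(L'.objObjPreimageIso X).inv ≫ α ≫ (L'.objObjPreimageIso Y).hom, ?_⟩
    rw [Φ.map_comp, Φ.map_comp, hα]
    simp only [Category.assoc, Iso.hom_inv_id_app_assoc, Iso.inv_hom_id_app, Category.comp_id]
    simp only [← Functor.map_comp_assoc, ← Functor.map_comp, Iso.inv_hom_id]
    rw [Φ.map_id, Φ.map_id, Category.id_comp, Category.comp_id]
  have hfaith : Φ.Faithful := by
    letI : Preadditive Q := Localization.preadditive L J.isoModSerre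
    haveI : L.Additive := Localization.functor_additive L J.isoModSerre
    letI : Preadditive Q' := Localization.preadditive L' (J.inverseImage i).isoModSerre
    haveI : L'.Additive := Localization.functor_additive L' (J.inverseImage i).isoModSerre
    haveI : i.Additive := Functor.additive_of_preserves_binary_products i
    haveI : (L' ⋙ Φ).Additive := Functor.additive_of_iso e.symm
    haveI : Φ.Additive :=
      (Localization.functor_additive_iff L' (J.inverseImage i).isoModSerre Φ).2 inferInstance
    apply Functor.faithful_of_comp_cancel_zero_of_hasLeftCalculusOfFractions L'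
      (J.inverseImage i).isoModSerre Φ
    intro X₁ X₂ f hf
    have hfac : Abelian.factorThruImage f ≫ Abelian.image.ι f = f := Abelian.image.fac f
    rw [← hfac, L'.map_comp,
      ObjectProperty.SerreClassLocalization.map_comp_eq_zero_iff_of_epi_mono L'
        (J.inverseImage i)]
    have h2 : L.map (i.map (Abelian.factorThruImage f)) ≫ L.map (i.map (Abelian.image.ι f)) =
        0 := by
      rw [← L.map_comp, ← i.map_comp, hfac]
      have h3 := hΦ i L L' Φ e f
      rw [hf] at h3
      rw [← cancel_epi (e.hom.app X₁), ← cancel_mono (e.inv.app X₂)]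
      simp only [Category.assoc, ← h3, comp_zero, zero_comp]
    exact (ObjectProperty.SerreClassLocalization.map_comp_eq_zero_iff_of_epi_mono L J _ _).1 h2
  exact ⟨hfull, hfaith⟩

end Groth.Agent.S13989
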