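import Groth.Statements.S13992
import Mathlib
import Groth.Agent.Lib.Helper7.PlanarSyz

set_option autoImplicit false
universe u
open CategoryTheory
open CAlg

namespace Groth.Agent.S13992

/-- Let S be a regular local ring of Krull dimension two, f a non-zero element of S and R the quotient
of S by f, assumed reduced (the local ring of a reduced planar curve singularity). Let M and N be
finitely generated R-modules, each admitting a non-zero-divisor in the maximal ideal of R,
annihilated by ideals I and J respectively, where I + J contains a power of the maximal ideal. Then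
Ext²_R(M, N) = 0. (The published statement is global: Ext²(F, F') = 0 for torsion-free coherent
sheaves F and F' on a reduced projective curve over a characteristic-zero algebraically closed
field, supported on subcurves with no common irreducible component that meet only at points with
planar singularities; this row is the vanishing on stalks to which it reduces, stated over an
arbitrary two-dimensional regular local ring.) -/
theorem result (S : Type u) [CommRing S] [IsRegularLocalRing S] (hS : ringKrullDim S = 2) (f : S) (hf : f ≠ 0) (R : Type u) [CommRing R] [IsLocalRing R] [IsReduced R] (π : S →+* R) (hπ : Function.Surjective π) (hker : RingHom.ker π = Ideal.span {f}) (I J : Ideal R) (n : ℕ) (hIJ : IsLocalRing.maximalIdeal R ^ n ≤ I ⊔ J) (M N : Type u) [AddCommGroup M] [Module R M] [Module.Finite R M] [AddCommGroup N] [Module R N] [Module.Finite R N] (hI : I ≤ Module.annihilator R M) (hJ : J ≤ Module.annihilator R N) (x : R) (hx : x ∈ IsLocalRing.maximalIdeal R) (hxM : IsSMulRegular M x) (y : R) (hy : y ∈ IsLocalRing.maximalIdeal R) (hyN : IsSMulRegular N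 y) : Subsingleton (Abelian.Ext (ModuleCat.of R M) (ModuleCat.of R N) 2) := by
  classical
  obtain ⟨b, p, hp⟩ := Module.Finite.exists_fin' R M
  obtain ⟨c, φ, hrange, hT⟩ := Groth.Agent.Lib.Helper7.PlanarSyz.exists_cover S hS f R π hπ hker
    I M hI x hx hxM b p hp
  have hyn : y ^ n ∈ I ⊔ J := hIJ (Ideal.pow_mem_pow hy n)
  obtain ⟨a, ha, a', ha', haa⟩ := Submodule.mem_sup.1 hyn
  let K := LinearMap.ker p
  let SC1 : ShortComplex (ModuleCat.{u} R) :=
    ModuleCat.shortComplexOfCompEqZero K.subtype p
      (LinearMap.exact_subtype_ker_map p).linearMap_comp_eq_zero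
  have h1 : SC1.ShortExact := ModuleCat.shortComplex_shortExact SC1
    (LinearMap.exact_subtype_ker_map p) K.injective_subtype hp
  let φ' : (Fin c → R) →ₗ[R] K :=
    φ.codRestrict K (fun t => by
      show φ t ∈ LinearMap.ker p
      rw [← hrange]; exact LinearMap.mem_range_self φ t)
  have hφ'surj : Function.Surjective φ' := by
    rintro ⟨k, hk⟩
    have : k ∈ LinearMap.range φ := by rw [hrange]; exact hk
    obtain ⟨t, rfl⟩ := this
    exact ⟨t, Subtype.ext rfl⟩
  let T := LinearMap.ker φ'
  let SC2 : ShortComplex (ModuleCat.{u} R) :=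
    ModuleCat.shortComplexOfCompEqZero T.subtype φ'
      (LinearMap.exact_subtype_ker_map φ').linearMap_comp_eq_zero
  have h2 : SC2.ShortExact := ModuleCat.shortComplex_shortExact SC2
    (LinearMap.exact_subtype_ker_map φ') T.injective_subtype hφ'surj
  have hTkill : ∀ t : T, a • t = 0 := by
    intro t
    apply Subtype.ext
    have : (t : Fin c → R) ∈ LinearMap.ker φ := by
      have h0 : φ' t = 0 := t.2
      exact congrArg Subtype.val h0
    exact hT a ha _ this
  have hhom : ∀ h : T →ₗ[R] N, h = 0 := by
    intro h
    ext t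
    have hreg : IsSMulRegular N (y ^ n) := hyN.pow n
    apply hreg
    show (y ^ n) • h t = (y ^ n) • (0 : T →ₗ[R] N) t
    rw [LinearMap.zero_apply, smul_zero, ← haa, add_smul, ← map_smul, hTkill, map_zero,
      Module.mem_annihilator.1 (hJ ha') _, add_zero]
  haveI : Projective SC2.X₂ :=
    (IsProjective.iff_projective (R := R) (Fin c → R)).1 inferInstance
  haveI : Projective SC1.X₂ :=
    (IsProjective.iff_projective (R := R) (Fin b → R)).1 inferInstance
  have hK : ∀ z : Abelian.Ext SC2.X₃ (ModuleCat.of R N) 1, z = 0 := by
    intro z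
    have hz : (Abelian.Ext.mk₀ SC2.g).comp z (zero_add 1) = 0 :=
      Abelian.Ext.eq_zero_of_projective _
    obtain ⟨x₁, hx₁⟩ := Abelian.Ext.contravariant_sequence_exact₃ h2 _ z hz (n₀ := 0) rfl
    obtain ⟨h, rfl⟩ := (Abelian.Ext.mk₀_bijective _ _).2 x₁
    have h0 : h = 0 := by
      apply ModuleCat.hom_ext
      exact hhom h.hom
    rw [← hx₁, h0, Abelian.Ext.mk₀_zero, Abelian.Ext.comp_zero]
  constructor
  intro z₁ z₂
  have hz : ∀ z : Abelian.Ext SC1.X₃ (ModuleCat.of R N) 2, z = 0 := by
    intro z
    have hz : (Abelian.Ext.mk₀ SC1.g).comp z (zero_add 2) = 0 :=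
      Abelian.Ext.eq_zero_of_projective _
    obtain ⟨x₁, hx₁⟩ := Abelian.Ext.contravariant_sequence_exact₃ h1 _ z hz (n₀ := 1) rfl
    rw [← hx₁, hK x₁, Abelian.Ext.comp_zero]
  exact (hz z₁).trans (hz z₂).symm

end Groth.Agent.S13992
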