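import Groth.Statements.S13993
import Mathlib

set_option autoImplicit false
universe u
open CategoryTheory
open CAlg

namespace Groth.Agent.S13993


open CategoryTheory Abelian MvPowerSeries

section Node
variable (k : Type u) [Field k]

/-- the ideal `(xy)` -/
noncomputable abbrev I0 : Ideal (MvPowerSeries (Fin 2) k) :=
  Ideal.span {(MvPowerSeries.X (0 : Fin 2) : MvPowerSeries (Fin 2) k) * MvPowerSeries.X (1 : Fin 2)}

/-- the node algebra -/
abbrev NA : Type u := MvPowerSeries (Fin 2) k ⧸ I0 k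

noncomputable abbrev xb : NA k := Ideal.Quotient.mk (I0 k) (MvPowerSeries.X (0 : Fin 2))
noncomputable abbrev yb : NA k := Ideal.Quotient.mk (I0 k) (MvPowerSeries.X (1 : Fin 2))

abbrev Ax : Type u := NA k ⧸ Ideal.span {xb k}
abbrev Ay : Type u := NA k ⧸ Ideal.span {yb k}

theorem exists_decomp (f : MvPowerSeries (Fin 2) k) (hf : constantCoeff f = 0) :
    ∃ g h : MvPowerSeries (Fin 2) k, f = X 0 * g + X 1 * h := by
  classical
  let f₁ : MvPowerSeries (Fin 2) k := fun m => if m 0 = 0 then 0 else coeff m f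
  have hf₁ : ∀ m, coeff m f₁ = if m 0 = 0 then 0 else coeff m f := fun m => rfl
  have h1 : (X 0 : MvPowerSeries (Fin 2) k) ∣ f₁ := by
    rw [X_dvd_iff]
    intro m hm
    rw [hf₁, if_pos hm]
  have h2 : (X 1 : MvPowerSeries (Fin 2) k) ∣ f - f₁ := by
    rw [X_dvd_iff]
    intro m hm
    rw [map_sub, hf₁]
    by_cases h0 : m 0 = 0
    · rw [if_pos h0, sub_zero]
      have hm0 : m = 0 := by
        ext i
        fin_cases i
        · exact h0
        · exact hm
      rw [hm0, coeff_zero_eq_constantCoeff_apply, hf]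
    · rw [if_neg h0, sub_self]
  obtain ⟨g, hg⟩ := h1
  obtain ⟨h, hh⟩ := h2
  refine ⟨g, h, ?_⟩
  rw [← hg, ← hh]
  ring

theorem ann_yb (r : NA k) (hr : r * yb k = 0) : r ∈ Ideal.span {xb k} := by
  obtain ⟨f, rfl⟩ := Ideal.Quotient.mk_surjective r
  rw [← map_mul, Ideal.Quotient.eq_zero_iff_mem, Ideal.mem_span_singleton] at hr
  obtain ⟨g, hg⟩ := hr
  have hX : (X 1 : MvPowerSeries (Fin 2) k) ≠ 0 := by
    intro h0
    have h1 := coeff_index_single_self_X (R := k) (1 : Fin 2)
    rw [h0, map_zero] at h1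
    exact zero_ne_one h1
  have h1 : (X 1 : MvPowerSeries (Fin 2) k) * f = X 1 * (X 0 * g) := by
    rw [mul_comm, hg]; ring
  have h2 := mul_left_cancel₀ hX h1
  rw [h2, map_mul]
  exact Ideal.mul_mem_right _ _ (Ideal.subset_span rfl)

/-- constant coefficient on `A` -/
noncomputable def ccA : NA k →+* k :=
  Ideal.Quotient.lift (I0 k) (constantCoeff (σ := Fin 2) (R := k)) (by
    intro a ha
    rw [Ideal.mem_span_singleton] at ha
    obtain ⟨g, rfl⟩ := ha
    rw [map_mul, map_mul, constantCoeff_X, zero_mul, zero_mul])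

theorem ccA_mk (f : MvPowerSeries (Fin 2) k) :
    ccA k (Ideal.Quotient.mk (I0 k) f) = constantCoeff f := rfl

/-- constant coefficient on `A/(x)` -/
noncomputable def cc : Ax k →+* k :=
  Ideal.Quotient.lift (Ideal.span {xb k}) (ccA k) (by
    intro a ha
    rw [Ideal.mem_span_singleton] at ha
    obtain ⟨g, rfl⟩ := ha
    rw [map_mul, ccA_mk, constantCoeff_X, zero_mul])

theorem cc_mk (r : NA k) : cc k (Ideal.Quotient.mk (Ideal.span {xb k}) r) = ccA k r := rfl

theorem cc_smul (r : NA k) (b : Ax k) : cc k (r • b) = ccA k r * cc k b := by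
  obtain ⟨s, rfl⟩ := Ideal.Quotient.mk_surjective b
  have : r • (Ideal.Quotient.mk (Ideal.span {xb k}) s) =
      Ideal.Quotient.mk (Ideal.span {xb k}) (r * s) := rfl
  rw [this, cc_mk, cc_mk, map_mul]

theorem cc_algebraMap (c : k) :
    cc k (Ideal.Quotient.mk (Ideal.span {xb k}) (algebraMap k (NA k) c)) = c := by
  rw [cc_mk]
  have : algebraMap k (NA k) c = Ideal.Quotient.mk (I0 k) (C c) := rfl
  rw [this, ccA_mk, constantCoeff_C]

theorem exists_of_cc_zero (a : Ax k) (ha : cc k a = 0) : ∃ b : Ax k, a = yb k • b := by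
  obtain ⟨r, rfl⟩ := Ideal.Quotient.mk_surjective a
  obtain ⟨f, rfl⟩ := Ideal.Quotient.mk_surjective r
  rw [cc_mk, ccA_mk] at ha
  obtain ⟨g, h, rfl⟩ := exists_decomp k f ha
  refine ⟨Ideal.Quotient.mk _ (Ideal.Quotient.mk _ h), ?_⟩
  have h1 : yb k • (Ideal.Quotient.mk (Ideal.span {xb k}) (Ideal.Quotient.mk (I0 k) h)) =
      Ideal.Quotient.mk (Ideal.span {xb k}) (yb k * Ideal.Quotient.mk (I0 k) h) := rfl
  have h2 : Ideal.Quotient.mk (Ideal.span {xb k}) (Ideal.Quotient.mk (I0 k) (X 0 * g)) = 0 := by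
    rw [map_mul]
    exact Ideal.Quotient.eq_zero_iff_mem.2 (Ideal.mul_mem_right _ _ (Ideal.subset_span rfl))
  have h3 : Ideal.Quotient.mk (I0 k) (X 1 * h) = yb k * Ideal.Quotient.mk (I0 k) h :=
    map_mul _ _ _
  rw [h1, map_add, map_add, h2, zero_add, h3]

/-- the projection `A → A/(y)` as a linear map -/
noncomputable abbrev pr : NA k →ₗ[NA k] Ay k := (Ideal.span {yb k}).mkQ

theorem pr_surj : Function.Surjective (pr k) := Submodule.mkQ_surjective _

theorem ker_pr : LinearMap.ker (pr k) = Ideal.span {yb k} := Submodule.ker_mkQ _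

theorem yb_mem : yb k ∈ LinearMap.ker (pr k) := by
  rw [ker_pr]; exact Ideal.subset_span rfl

/-- the generator of the kernel -/
noncomputable abbrev yK : LinearMap.ker (pr k) := ⟨yb k, yb_mem k⟩

theorem exists_smul_yK (m : LinearMap.ker (pr k)) : ∃ r : NA k, m = r • yK k := by
  have hm : (m : NA k) ∈ Ideal.span {yb k} := (ker_pr k).le m.2
  rw [Ideal.mem_span_singleton'] at hm
  obtain ⟨r, hr⟩ := hm
  exact ⟨r, Subtype.ext hr.symm⟩

theorem hom_ext_K {N : Type*} [AddCommGroup N] [Module (NA k) N]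
    (f g : LinearMap.ker (pr k) →ₗ[NA k] N) (h : f (yK k) = g (yK k)) : f = g := by
  ext m
  obtain ⟨r, rfl⟩ := exists_smul_yK k m
  rw [map_smul, map_smul, h]

/-- the map `A/(x) → K`, `r ↦ r y` -/
noncomputable def eTilde : Ax k →ₗ[NA k] LinearMap.ker (pr k) :=
  LinearMap.codRestrict (LinearMap.ker (pr k))
    (Submodule.liftQ (Ideal.span {xb k}) (LinearMap.toSpanSingleton (NA k) (NA k) (yb k)) (by
      rw [Ideal.span, Submodule.span_singleton_le_iff_mem, LinearMap.mem_ker,
        LinearMap.toSpanSingleton_apply, smul_eq_mul, ← map_mul]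
      exact Ideal.Quotient.eq_zero_iff_mem.2 (Ideal.subset_span rfl)))
    (by
      intro c
      obtain ⟨r, rfl⟩ := Submodule.mkQ_surjective _ c
      rw [ker_pr]
      show r • yb k ∈ Ideal.span {yb k}
      exact Submodule.smul_mem _ _ (Ideal.subset_span rfl))

theorem eTilde_mk (r : NA k) :
    (eTilde k (Ideal.Quotient.mk (Ideal.span {xb k}) r) : NA k) = r * yb k := rfl

theorem eTilde_bij : Function.Bijective (eTilde k) := by
  constructor
  · rw [injective_iff_map_eq_zero]
    intro c hc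
    obtain ⟨r, rfl⟩ := Ideal.Quotient.mk_surjective c
    have h1 := congrArg Subtype.val hc
    rw [eTilde_mk] at h1
    exact Ideal.Quotient.eq_zero_iff_mem.2 (ann_yb k r h1)
  · intro m
    obtain ⟨r, rfl⟩ := exists_smul_yK k m
    refine ⟨Ideal.Quotient.mk _ r, ?_⟩
    apply Subtype.ext
    rw [eTilde_mk]
    rfl

/-- the isomorphism `A/(x) ≃ K` -/
noncomputable def eEquiv : Ax k ≃ₗ[NA k] LinearMap.ker (pr k) :=
  LinearEquiv.ofBijective (eTilde k) (eTilde_bij k)

theorem eEquiv_one : eEquiv k 1 = yK k := by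
  apply Subtype.ext
  show (eTilde k (Ideal.Quotient.mk (Ideal.span {xb k}) 1) : NA k) = yb k
  rw [eTilde_mk, one_mul]

theorem eEquiv_symm_yK : (eEquiv k).symm (yK k) = 1 := by
  rw [← eEquiv_one, LinearEquiv.symm_apply_apply]

end Node


/-- Let k be a field and A = k[[x,y]]/(xy) the complete local ring of a node, with branch rings A/(y)
and A/(x) viewed as A-modules. Then the first Ext group Ext¹_A(A/(y), A/(x)) has dimension one over
k. (The published statement is for the local ring at a node of a reduced curve over an algebraically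
closed field of characteristic zero, a node being a point whose complete local ring is A; this row
states the case of the complete local ring A itself, over an arbitrary field.) -/
theorem result (k : Type u) [Field k] : Module.finrank k (Abelian.Ext (ModuleCat.of (MvPowerSeries (Fin 2) k ⧸ Ideal.span {(MvPowerSeries.X (0 : Fin 2) : MvPowerSeries (Fin 2) k) * MvPowerSeries.X (1 : Fin 2)}) ((MvPowerSeries (Fin 2) k ⧸ Ideal.span {(MvPowerSeries.X (0 : Fin 2) : MvPowerSeries (Fin 2) k) * MvPowerSeries.X (1 : Fin 2)}) ⧸ Ideal.span {Ideal.Quotient.mk (Ideal.span {(MvPowerSeries.X (0 : Fin 2) : MvPowerSeries (Fin 2) k) * MvPowerSeries.X (1 : Fin 2)}) (MvPowerSeries.X (1 : Fin 2))})) (ModuleCat.of (MvPowerSeries (Fin 2) k ⧸ Ideal.span {(MvPowerSeries.X (0 : Fin 2) : MvPowerSeries (Fin 2) k) * MvPowerSeries.X (1 : Fin 2)}) ((MvPowerSeries (Fin 2) k ⧸ Ideal.span {(MvPowerSeries.X (0 : Fin 2) : MvPowerSeries (Fin 2) k) * MvPowerSeries.X (1 : Fin 2)}) ⧸ Ideal.span {Ideal.Quotient.mk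 (Ideal.span {(MvPowerSeries.X (0 : Fin 2) : MvPowerSeries (Fin 2) k) * MvPowerSeries.X (1 : Fin 2)}) (MvPowerSeries.X (0 : Fin 2))})) 1) = 1 := by
  have hS := LinearMap.shortExact_shortComplexKer (pr_surj k)
  haveI : Projective (pr k).shortComplexKer.X₂ :=
    (IsProjective.iff_projective (NA k)).1 inferInstance
  have hgoal : Module.finrank k (Abelian.Ext (pr k).shortComplexKer.X₃
      (ModuleCat.of (NA k) (Ax k)) 1) = 1 := by
    -- the generator
    let Φ₁ : (pr k).shortComplexKer.X₁ ⟶ ModuleCat.of (NA k) (Ax k) :=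
      ModuleCat.ofHom (eEquiv k).symm.toLinearMap
    obtain ⟨v, hv_def⟩ : ∃ v, v = hS.extClass.comp (Ext.mk₀ Φ₁) (add_zero 1) := ⟨_, rfl⟩
    have key : ∀ w : Abelian.Ext (pr k).shortComplexKer.X₃ (ModuleCat.of (NA k) (Ax k)) 1,
        ∃ c : k, c • v = w := by
      intro w
      have h0 : (Ext.mk₀ (pr k).shortComplexKer.g).comp w (zero_add 1) = 0 :=
        Ext.eq_zero_of_projective _
      obtain ⟨x₁, hx₁⟩ := Ext.contravariant_sequence_exact₃ hS _ w h0 (show 1 + 0 = 1 by rfl)
      obtain ⟨Φ, rfl⟩ := (Ext.mk₀_bijective _ _).2 x₁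
      obtain ⟨a, ha⟩ : ∃ a : Ax k, a = Φ.hom (yK k) := ⟨_, rfl⟩
      obtain ⟨c, hc⟩ : ∃ c : k, c = cc k a := ⟨_, rfl⟩
      have hca : cc k (a - Ideal.Quotient.mk _ (algebraMap k (NA k) c)) = 0 := by
        rw [map_sub, cc_algebraMap, hc, sub_self]
      obtain ⟨b, hb⟩ := exists_of_cc_zero k _ hca
      let Ψ : (pr k).shortComplexKer.X₂ ⟶ ModuleCat.of (NA k) (Ax k) :=
        ModuleCat.ofHom (LinearMap.toSpanSingleton (NA k) (Ax k) b)
      let cΦ₁ : (pr k).shortComplexKer.X₁ ⟶ ModuleCat.of (NA k) (Ax k) :=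
        ModuleCat.ofHom ((algebraMap k (NA k) c) • (eEquiv k).symm.toLinearMap)
      have hsm : Ext.mk₀ cΦ₁ = c • Ext.mk₀ Φ₁ := by
        rw [← Ext.mk₀_smul]
        congr 1
      have hΦ : Φ = cΦ₁ + (pr k).shortComplexKer.f ≫ Ψ := by
        apply ModuleCat.hom_ext
        apply hom_ext_K k
        show Φ.hom (yK k) = algebraMap k (NA k) c • ((eEquiv k).symm (yK k)) + (yb k) • b
        rw [eEquiv_symm_yK, ← hb, ← ha]
        have h1 : algebraMap k (NA k) c • (1 : Ax k) =
            Ideal.Quotient.mk _ (algebraMap k (NA k) c) := by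
          show Ideal.Quotient.mk (Ideal.span {xb k}) (algebraMap k (NA k) c * 1) = _
          rw [mul_one]
        rw [h1]
        abel
      refine ⟨c, ?_⟩
      rw [← hx₁, hΦ, Ext.mk₀_add, Ext.comp_add, hsm, Ext.comp_smul, ← Ext.mk₀_comp_mk₀,
        hS.extClass_comp_assoc, add_zero, hv_def]
    have hv : v ≠ 0 := by
      intro hv0
      rw [hv_def] at hv0
      obtain ⟨x₂, hx₂⟩ := Ext.contravariant_sequence_exact₁ hS _ (Ext.mk₀ Φ₁) (add_zero 1) hv0
      obtain ⟨Ψ, rfl⟩ := (Ext.mk₀_bijective _ _).2 x₂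
      rw [Ext.mk₀_comp_mk₀] at hx₂
      have h1 := (Ext.mk₀_bijective _ _).1 hx₂
      have h2 : Ψ.hom (yb k) = (1 : Ax k) := by
        have h := congrArg (fun t => t.hom (yK k)) h1
        rw [← eEquiv_symm_yK k]
        exact h
      have h5 : yb k • (1 : NA k) = yb k := by rw [smul_eq_mul, mul_one]
      have h3 : Ψ.hom (yb k) = yb k • Ψ.hom (1 : NA k) := by
        rw [← map_smul, h5]
      have h4 := congrArg (cc k) h2
      rw [h3, cc_smul, RingHom.map_one (cc k), ccA_mk, constantCoeff_X, zero_mul] at h4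
      exact zero_ne_one h4
    exact finrank_eq_one_iff'.2 ⟨v, hv, key⟩
  exact hgoal

end Groth.Agent.S13993
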