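import Groth.Statements.S13994
import Mathlib
import Groth.Agent.Lib.Helper7.PlanarSyz
import Groth.Agent.Lib.Helper7.TorUCT

set_option autoImplicit false
universe u
open CategoryTheory
open CAlg

namespace Groth.Agent.S13994

/-- Let S be a regular local ring of Krull dimension two, f a non-zero element of S and R the quotient
of S by f, assumed reduced. Let M and N be finitely generated R-modules, each admitting a
non-zero-divisor in the maximal ideal of R, annihilated by ideals I and J respectively, where I + J
contains a power of the maximal ideal. Then Tor₁^R(M, Hom_R(N, R)) = 0. (The published claim is made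
for the stalks at a common point of two subcurves without common component of a reduced projective
curve over a characteristic-zero algebraically closed field, the point being a planar singularity,
and the stalks of torsion-free sheaves supported on them; this row states it over an arbitrary
two-dimensional regular local ring. Tor is computed by resolving the second argument.) -/
theorem result (S : Type u) [CommRing S] [IsRegularLocalRing S] (hS : ringKrullDim S = 2) (f : S) (hf : f ≠ 0) (R : Type u) [CommRing R] [IsLocalRing R] [IsReduced R] (π : S →+* R) (hπ : Function.Surjective π) (hker : RingHom.ker π = Ideal.span {f}) (I J : Ideal R) (n : ℕ) (hIJ : IsLocalRing.maximalIdeal R ^ n ≤ I ⊔ J) (M N : Type u) [AddCommGroup M] [Module R M] [Module.Finite R M] [AddCommGroup N] [Module R N] [Module.Finite R N] (hI : I ≤ Module.annihilator R M) (hJ : J ≤ Module.annihilator R N) (x : R) (hx : x ∈ IsLocalRing.maximalIdeal R) (hxM : IsSMulRegular M x) (y : R) (hy : y ∈ IsLocalRing.maximalIdeal R) (hyN : IsSMulRegular N y) : Limits.IsZero (((Tor (ModuleCat.{u} R) 1).obj (ModuleCat.of R M)).obj (ModuleCat.of R (Module.Dual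 R N))) := by
  classical
  obtain ⟨b, p, hp⟩ := Module.Finite.exists_fin' R M
  obtain ⟨c, φ, hrange, hT⟩ := Groth.Agent.Lib.Helper7.PlanarSyz.exists_cover S hS f R π hπ hker
    I M hI x hx hxM b p hp
  obtain ⟨g, hgm, hgreg⟩ := Groth.Agent.Lib.Helper7.PlanarSyz.exists_regular S hS f R π hπ hker
  have hgn : g ^ n ∈ I ⊔ J := hIJ (Ideal.pow_mem_pow hgm n)
  have hgX : IsSMulRegular (Module.Dual R N) g := by
    intro φ₁ φ₂ h
    ext m
    apply hgreg
    exact congrArg (fun ψ : Module.Dual R N => ψ m) h
  have hJX : ∀ s ∈ J, ∀ ξ : Module.Dual R N, s • ξ = 0 := by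
    intro s hs ξ
    ext m
    rw [LinearMap.smul_apply, ← map_smul, Module.mem_annihilator.1 (hJ hs) m, map_zero,
      LinearMap.zero_apply]
  have hinj := Groth.Agent.Lib.Helper7.PlanarSyz.rTensor_injective_core I J g n hgn
    (M := M) (X := Module.Dual R N) (fun s hs m => Module.mem_annihilator.1 (hI hs) m) hJX hgX
    p φ hrange hT
  obtain ⟨eq⟩ := Groth.Agent.Lib.Helper7.nonempty_Tor1_equiv_ker' (LinearMap.ker p).subtype p
    (Submodule.injective_subtype _) (LinearMap.exact_subtype_ker_map p) hp (Module.Dual R N)
  have hsub : Subsingleton (LinearMap.ker ((LinearMap.ker p).subtype.rTensor (Module.Dual R N))) := by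
    constructor
    intro a b
    apply Subtype.ext
    apply hinj
    rw [LinearMap.mem_ker.1 a.2, LinearMap.mem_ker.1 b.2]
  have := eq.toEquiv.subsingleton
  exact ModuleCat.isZero_of_subsingleton _

end Groth.Agent.S13994
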