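import Groth.Statements.S13995
import Mathlib

set_option autoImplicit false
universe u
open CAlg

namespace Groth.Agent.S13995

/-- Let R be a reduced Noetherian ring, M a finitely generated R-module all of whose associated primes
are minimal primes of R and whose localization at each minimal prime p is one-dimensional over the
field R_p, and let g : M → Q be a surjection onto a finitely generated R-module Q all of whose
associated primes are minimal primes of R. Then the kernel of g is the intersection, over the
minimal primes p of R lying in the support of Q, of the kernels of the localization maps M → M_p.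
(The published statement is for a torsion-free coherent sheaf F of uniform rank one on a reduced
connected projective curve over a characteristic-zero algebraically closed field: its non-zero
torsion-free quotients are exactly the maximal torsion-free quotients F_D of the restrictions of F
to subcurves D; this row is the corresponding statement for modules over a reduced Noetherian ring,
a subcurve being a set of minimal primes, and identifies each torsion-free quotient with F_D for D
the set of generic points of its support.) -/
theorem result (R : Type u) [CommRing R] [IsNoetherianRing R] [IsReduced R] (M : Type u) [AddCommGroup M] [Module R M] [Module.Finite R M] (hM : associatedPrimes R M ⊆ minimalPrimes R) (hrk : ∀ p : PrimeSpectrum R, p.asIdeal ∈ minimalPrimes R → Module.finrank (Localization.AtPrime p.asIdeal) (LocalizedModule p.asIdeal.primeCompl M) = 1) (Q : Type u) [AddCommGroup Q] [Module R Q] [Module.Finite R Q] (hQ : associatedPrimes R Q ⊆ minimalPrimes R) (g : M →ₗ[R] Q) (hg : Function.Surjective g) : LinearMap.ker g = ⨅ p ∈ {p : PrimeSpectrum R | p.asIdeal ∈ minimalPrimes R ∧ p ∈ Module.support R Q}, LinearMap.ker (LocalizedModule.mkLinearMap p.asIdeal.primeCompl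 M) := by
  apply le_antisymm
  · intro m hm
    rw [LinearMap.mem_ker] at hm
    simp only [Submodule.mem_iInf, Set.mem_ofPred_eq, LinearMap.mem_ker]
    rintro p ⟨hpmin, hpsupp⟩
    by_contra hne
    have hK0 : Ring.KrullDimLE 0 (Localization.AtPrime p.asIdeal) := .of_isLocalization _ hpmin _
    have hfield : IsField (Localization.AtPrime p.asIdeal) := Ring.KrullDimLE.isField_of_isReduced
    let : Field (Localization.AtPrime p.asIdeal) := hfield.toField
    have h1 := hrk p hpmin
    obtain ⟨q, hq⟩ := Module.mem_support_iff_exists_annihilator.1 hpsupp
    obtain ⟨m', rfl⟩ := hg q
    obtain ⟨c, hc⟩ := (finrank_eq_one_iff_of_nonzero' _ hne).1 h1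
      (LocalizedModule.mkLinearMap p.asIdeal.primeCompl M m')
    induction c using Localization.induction_on with
    | H y =>
      obtain ⟨a, t⟩ := y
      rw [LocalizedModule.mkLinearMap_apply, LocalizedModule.mkLinearMap_apply,
        LocalizedModule.mk_smul_mk, LocalizedModule.mk_eq] at hc
      obtain ⟨u, hu⟩ := hc
      have h2 := congrArg g hu
      simp only [map_smul, Submonoid.smul_def, hm, smul_zero] at h2
      have h3 : ((u : R) * ((t * 1 : p.asIdeal.primeCompl) : R)) ∈ (Submodule.span R {g m'}).annihilator := by
        rw [Submodule.mem_annihilator_span_singleton, mul_smul]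
        exact h2.symm
      have h4 := hq h3
      rcases p.isPrime.mem_or_mem h4 with h5 | h5
      · exact u.2 h5
      · exact (t * 1).2 h5
  · intro m hm
    simp only [Submodule.mem_iInf, Set.mem_ofPred_eq, LinearMap.mem_ker] at hm
    rw [LinearMap.mem_ker]
    by_contra hne
    obtain ⟨P, hP, hle⟩ := exists_le_isAssociatedPrime_of_isNoetherianRing R (g m) hne
    have hPmin : P ∈ minimalPrimes R := hQ hP
    have hPprime : P.IsPrime := hP.1
    let p : PrimeSpectrum R := ⟨P, hPprime⟩
    have hsupp : p ∈ Module.support R Q := by
      rw [Module.mem_support_iff_exists_annihilator]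
      refine ⟨g m, ?_⟩
      intro r hr
      apply hle
      rw [Submodule.mem_colon_singleton, Submodule.mem_bot]
      exact (Submodule.mem_annihilator_span_singleton _ _).1 hr
    have h1 := hm p ⟨hPmin, hsupp⟩
    rw [IsLocalizedModule.eq_zero_iff p.asIdeal.primeCompl] at h1
    obtain ⟨s, hs⟩ := h1
    have h2 : (s : R) ∈ P := by
      apply hle
      rw [Submodule.mem_colon_singleton, Submodule.mem_bot, ← map_smul]
      have : (s : R) • m = 0 := hs
      rw [this, map_zero]
    exact s.2 h2

end Groth.Agent.S13995
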