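import Groth.Statements.S13996
import Mathlib

set_option autoImplicit false
universe u
open CAlg

namespace Groth.Agent.S13996

/-- Let R be a reduced Noetherian local ring of Krull dimension one with maximal ideal m, and M a
non-zero finitely generated R-module. Then M is torsion-free in the sense that no element of m which
is a non-zero-divisor on R is a zero-divisor on M, if and only if M has depth one, i.e. some element
of m is a non-zero-divisor on M. (The published statement is for a non-zero coherent sheaf F on a
connected reduced projective curve over a characteristic-zero algebraically closed field and asserts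
the equivalence of: F torsion-free in the above sense at every closed point; F pure of dimension
one; depth of F_p equal to one at every closed point p. This row is the equivalence of the first and
third conditions at a single closed point p with F_p ≠ 0; at points outside the support the third
condition as published cannot hold, so the row assumes the stalk non-zero.) -/
theorem result (R : Type u) [CommRing R] [IsLocalRing R] [IsNoetherianRing R] [IsReduced R] (hdim : ringKrullDim R = 1) (M : Type u) [AddCommGroup M] [Module R M] [Module.Finite R M] [Nontrivial M] : (∀ r : R, r ∈ IsLocalRing.maximalIdeal R → IsSMulRegular R r → IsSMulRegular M r) ↔ (∃ x : R, x ∈ IsLocalRing.maximalIdeal R ∧ IsSMulRegular M x) := by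
  have hdim1 : Ring.KrullDimLE 1 R := by
    rw [Ring.KrullDimLE, Order.krullDimLE_iff]
    exact le_of_eq hdim
  have hprime : ∀ p : Ideal R, p.IsPrime → p ∈ minimalPrimes R ∨ p = IsLocalRing.maximalIdeal R := by
    intro p hp
    rcases Ring.krullDimLE_one_iff.1 hdim1 p hp with h | h
    · exact Or.inl h
    · exact Or.inr (IsLocalRing.eq_maximalIdeal h)
  constructor
  · intro h
    have hfin := minimalPrimes.finite_of_isNoetherianRing R
    have hnot : ¬ ((IsLocalRing.maximalIdeal R : Set R) ⊆ ⋃ p ∈ minimalPrimes R, (p : Set R)) := by
      intro hsub
      have hsub' : (IsLocalRing.maximalIdeal R : Set R) ⊆ ⋃ p ∈ (hfin.toFinset : Set (Ideal R)), ((id p : Ideal R) : Set R) := by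
        simpa using hsub
      rw [Ideal.subset_union_prime (f := id) (IsLocalRing.maximalIdeal R) (IsLocalRing.maximalIdeal R)
        (fun p hp _ _ => (by
          have : p ∈ minimalPrimes R := by simpa using hp
          exact this.1.1))] at hsub'
      obtain ⟨p, hp, hle⟩ := hsub'
      have hpmin : p ∈ minimalPrimes R := by simpa using hp
      have hpeq : p = IsLocalRing.maximalIdeal R :=
        ((IsLocalRing.maximalIdeal.isMaximal R).eq_of_le hpmin.1.1.ne_top hle).symm
      have h0 : Ring.KrullDimLE 0 R := by
        rw [Ring.krullDimLE_zero_iff]
        intro q hq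
        have hq_le : q ≤ IsLocalRing.maximalIdeal R := IsLocalRing.le_maximalIdeal hq.ne_top
        have : p ≤ q := by
          rw [hpeq] at hpmin ⊢
          exact hpmin.2 ⟨hq, bot_le⟩ hq_le
        have : q = IsLocalRing.maximalIdeal R := le_antisymm hq_le (hpeq ▸ this)
        rw [this]; infer_instance
      have : ringKrullDim R ≤ 0 := by
        rw [Ring.KrullDimLE, Order.krullDimLE_iff] at h0
        exact h0
      rw [hdim] at this
      exact absurd this (by norm_num)
    obtain ⟨x, hxm, hxnot⟩ := Set.not_subset.1 hnot
    refine ⟨x, hxm, h x hxm ?_⟩
    rw [isSMulRegular_iff_right_eq_zero_of_smul]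
    intro y hy
    have hy' : y ∈ nilradical R := by
      rw [nilradical, ← Ideal.sInf_minimalPrimes, Ideal.mem_sInf]
      intro p hp
      have hxp : x ∉ p := fun hxp => hxnot (Set.mem_biUnion hp hxp)
      have : x * y ∈ p := by
        rw [← smul_eq_mul, hy]; exact p.zero_mem
      exact (hp.1.1.mem_or_mem this).resolve_left hxp
    rw [nilradical_eq_zero] at hy'
    exact hy'
  · rintro ⟨x, hxm, hx⟩ r hrm hr
    by_contra hcon
    have hmem : r ∈ ({ r : R | IsSMulRegular M r }ᶜ : Set R) := hcon
    rw [← biUnion_associatedPrimes_eq_compl_regular R M] at hmem
    obtain ⟨p, hp, hrp⟩ := Set.mem_iUnion₂.1 hmem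
    have hpprime : p.IsPrime := hp.1
    rcases hprime p hpprime with hmin | heq
    · have hdisj := Ideal.disjoint_nonZeroDivisors_of_mem_minimalPrimes hmin
      have hrnzd : r ∈ nonZeroDivisors R := by
        rw [mem_nonZeroDivisors_iff_right]
        intro z hz
        rw [isSMulRegular_iff_right_eq_zero_of_smul] at hr
        exact hr z (by rw [smul_eq_mul, mul_comm]; exact hz)
      exact Set.disjoint_left.1 hdisj hrp hrnzd
    · have hxmem : x ∈ ({ r : R | IsSMulRegular M r }ᶜ : Set R) := by
        rw [← biUnion_associatedPrimes_eq_compl_regular R M]
        exact Set.mem_biUnion hp (heq ▸ hxm)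
      exact hxmem hx

end Groth.Agent.S13996
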