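import Groth.Statements.S14000
import Mathlib

set_option autoImplicit false
universe u
open Perf

namespace Groth.Agent.S14000


section Core

variable {R : Type u} [CommRing R] [IsLocalRing R]
variable {F : ℤ → Type u} [∀ i, AddCommGroup (F i)] [∀ i, Module R (F i)]

abbrev Claim (d : ∀ i, F i →ₗ[R] F (i+1)) (s : Finset ℤ) (i : ℤ) : Prop :=
  Module.Finite R (LinearMap.ker (d i)) ∧ Module.Projective R (LinearMap.ker (d i)) ∧
    ((i.negOnePow : ℤˣ) : ℤ) * (Module.finrank R (LinearMap.ker (d i)) : ℤ) =
      (s.filter (fun j => i ≤ j)).sum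
        fun j => ((j.negOnePow : ℤˣ) : ℤ) * (Module.finrank R (F j) : ℤ)

theorem claim_base (d : ∀ i, F i →ₗ[R] F (i+1)) (s : Finset ℤ)
    (hs : ∀ i, i ∉ s → Subsingleton (F i)) (i : ℤ) (hi : ∀ j ∈ s, j < i) : Claim d s i := by
  have hins : i ∉ s := fun h => lt_irrefl _ (hi i h)
  haveI := hs i hins
  haveI : Subsingleton (LinearMap.ker (d i)) := ⟨fun a b => Subtype.ext (Subsingleton.elim _ _)⟩
  refine ⟨inferInstance, inferInstance, ?_⟩
  rw [Module.finrank_zero_of_subsingleton]
  have : s.filter (fun j => i ≤ j) = ∅ := by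
    apply Finset.filter_eq_empty_iff.2
    intro j hj hij
    exact absurd (hi j hj) (not_lt.2 hij)
  rw [this]; simp

theorem claim_step (d : ∀ i, F i →ₗ[R] F (i+1)) (hd : ∀ i x, d (i+1) (d i x) = 0)
    (hex : ∀ i (x : F (i+1)), d (i+1) x = 0 → ∃ y, d i y = x)
    (hfin : ∀ i, Module.Finite R (F i)) (hproj : ∀ i, Module.Projective R (F i))
    (s : Finset ℤ) (hs : ∀ i, i ∉ s → Subsingleton (F i)) (i : ℤ)
    (h : Claim d s (i+1)) : Claim d s i := by
  obtain ⟨hF', hP', hr'⟩ := h
  haveI := hF'; haveI := hP'; haveI := hfin i; haveI := hproj i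
  let f : F i →ₗ[R] LinearMap.ker (d (i+1)) :=
    (d i).codRestrict (LinearMap.ker (d (i+1))) (fun x => LinearMap.mem_ker.2 (hd i x))
  have hf : Function.Surjective f := by
    rintro ⟨x, hx⟩
    obtain ⟨y, hy⟩ := hex i x (LinearMap.mem_ker.1 hx)
    exact ⟨y, Subtype.ext hy⟩
  obtain ⟨σ, hσ⟩ := Module.projective_lifting_property f LinearMap.id hf
  have hσ' : ∀ w : LinearMap.ker (d (i+1)), d i (σ w) = w.1 := fun w => by
    have := LinearMap.congr_fun hσ w
    exact congrArg Subtype.val this
  have hf1 : ∀ x, (f x).1 = d i x := fun x => rfl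
  let Ψ : (LinearMap.ker (d i) × LinearMap.ker (d (i+1))) →ₗ[R] F i :=
    (LinearMap.ker (d i)).subtype.coprod σ
  have hΨ : ∀ p : LinearMap.ker (d i) × LinearMap.ker (d (i+1)), Ψ p = p.1.1 + σ p.2 :=
    fun p => by simp [Ψ]
  have hinj : Function.Injective Ψ := by
    rw [← LinearMap.ker_eq_bot, LinearMap.ker_eq_bot']
    rintro ⟨k, w⟩ h0
    rw [hΨ] at h0
    have h1 : d i (k.1 + σ w) = 0 := by rw [h0, map_zero]
    rw [map_add, LinearMap.mem_ker.1 k.2, zero_add, hσ'] at h1
    have hw : w = 0 := Subtype.ext h1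
    subst hw
    rw [map_zero, add_zero] at h0
    have hk : k = 0 := Subtype.ext h0
    rw [hk]; rfl
  have hsurj : Function.Surjective Ψ := by
    intro x
    have hx : x - σ (f x) ∈ LinearMap.ker (d i) := by
      rw [LinearMap.mem_ker, map_sub, hσ', hf1]; exact sub_self _
    exact ⟨(⟨x - σ (f x), hx⟩, f x), by rw [hΨ]; simp⟩
  let Φ : (LinearMap.ker (d i) × LinearMap.ker (d (i+1))) ≃ₗ[R] F i :=
    LinearEquiv.ofBijective Ψ ⟨hinj, hsurj⟩
  haveI : Module.Finite R (LinearMap.ker (d i) × LinearMap.ker (d (i+1))) :=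
    Module.Finite.equiv Φ.symm
  haveI : Module.Projective R (LinearMap.ker (d i) × LinearMap.ker (d (i+1))) :=
    Module.Projective.of_equiv' Φ.symm
  haveI hKf : Module.Finite R (LinearMap.ker (d i)) :=
    Module.Finite.of_surjective (LinearMap.fst R _ (LinearMap.ker (d (i+1))))
      LinearMap.fst_surjective
  haveI hKp : Module.Projective R (LinearMap.ker (d i)) :=
    Module.Projective.of_split (LinearMap.inl R _ (LinearMap.ker (d (i+1))))
      (LinearMap.fst R _ (LinearMap.ker (d (i+1)))) (by ext; simp)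
  haveI : Module.Free R (LinearMap.ker (d i)) := Module.free_of_flat_of_isLocalRing
  haveI : Module.Free R (LinearMap.ker (d (i+1))) := Module.free_of_flat_of_isLocalRing
  have hrank : Module.finrank R (F i) =
      Module.finrank R (LinearMap.ker (d i)) + Module.finrank R (LinearMap.ker (d (i+1))) := by
    rw [← Φ.finrank_eq, Module.finrank_prod]
  refine ⟨hKf, hKp, ?_⟩
  have hsum : (s.filter (fun j => i ≤ j)).sum
        (fun j => ((j.negOnePow : ℤˣ) : ℤ) * (Module.finrank R (F j) : ℤ))
      = ((i.negOnePow : ℤˣ) : ℤ) * (Module.finrank R (F i) : ℤ) +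
        (s.filter (fun j => i + 1 ≤ j)).sum
          (fun j => ((j.negOnePow : ℤˣ) : ℤ) * (Module.finrank R (F j) : ℤ)) := by
    have hgi : i ∉ s → ((i.negOnePow : ℤˣ) : ℤ) * (Module.finrank R (F i) : ℤ) = 0 := fun hi => by
      haveI := hs i hi
      simp [Module.finrank_zero_of_subsingleton]
    generalize hg : (fun j : ℤ => ((j.negOnePow : ℤˣ) : ℤ) * (Module.finrank R (F j) : ℤ)) = g
    have hgi' : i ∉ s → g i = 0 := fun hi => by rw [← hg]; exact hgi hi
    have hgi2 : ((i.negOnePow : ℤˣ) : ℤ) * (Module.finrank R (F i) : ℤ) = g i := by rw [← hg]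
    rw [hgi2, Finset.sum_filter, Finset.sum_filter]
    have hpt : ∀ j, (if i ≤ j then g j else 0) =
        (if j = i then g j else 0) + (if i + 1 ≤ j then g j else 0) := by
      intro j
      by_cases h1 : j = i
      · subst h1; simp
      · by_cases h2 : i + 1 ≤ j
        · have : i ≤ j := by omega
          simp [h1, h2, this]
        · have : ¬ i ≤ j := by omega
          simp [h1, h2, this]
    rw [Finset.sum_congr rfl (fun j _ => hpt j), Finset.sum_add_distrib, Finset.sum_ite_eq']
    by_cases hi : i ∈ s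
    · simp [hi]
    · simp [hi, hgi' hi]
  rw [hsum, ← hr', Int.negOnePow_succ, hrank]
  push_cast
  ring

theorem core (d : ∀ i, F i →ₗ[R] F (i+1)) (hd : ∀ i x, d (i+1) (d i x) = 0)
    (hex : ∀ i (x : F (i+1)), d (i+1) x = 0 → ∃ y, d i y = x)
    (hfin : ∀ i, Module.Finite R (F i)) (hproj : ∀ i, Module.Projective R (F i))
    (s : Finset ℤ) (hs : ∀ i, i ∉ s → Subsingleton (F i)) :
    (s.sum fun i => ((i.negOnePow : ℤˣ) : ℤ) * (Module.finrank R (F i) : ℤ)) = 0 := by
  obtain ⟨N, hN⟩ := s.bddAbove
  obtain ⟨M, hM⟩ := s.bddBelow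
  have hall : ∀ n : ℕ, ∀ i : ℤ, N + 1 ≤ i + n → Claim d s i := by
    intro n
    induction n with
    | zero =>
      intro i hi
      apply claim_base d s hs i
      intro j hj
      have := hN (Finset.mem_coe.2 hj)
      push_cast at hi; omega
    | succ n ih =>
      intro i hi
      apply claim_step d hd hex hfin hproj s hs i
      apply ih
      push_cast at hi ⊢; omega
  have hC : Claim d s (M - 1) := hall (N + 1 - (M - 1)).toNat (M - 1) (by
    have := Int.self_le_toNat (N + 1 - (M - 1)); omega)
  obtain ⟨_, _, hr⟩ := hC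
  have hsub : Subsingleton (F (M - 1)) :=
    hs _ (fun h => by have := hM (Finset.mem_coe.2 h); omega)
  haveI : Subsingleton (LinearMap.ker (d (M - 1))) :=
    ⟨fun a b => Subtype.ext (Subsingleton.elim _ _)⟩
  rw [Module.finrank_zero_of_subsingleton] at hr
  have hfil : s.filter (fun j => M - 1 ≤ j) = s := by
    apply Finset.filter_true_of_mem
    intro j hj
    have := hM (Finset.mem_coe.2 hj); omega
  rw [hfil] at hr
  simpa using hr.symm

end Core

section Bridge

open CategoryTheory CategoryTheory.Limits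

variable {A : Type u} [CommRing A]

theorem exact_loc (P : CochainComplex (ModuleCat.{u} A) ℤ) (S : Submonoid A) (i : ℤ)
    (hH : Subsingleton (LocalizedModule S (P.homology (i+1))))
    (x : LocalizedModule S (P.X (i+1)))
    (hx : LocalizedModule.map S (P.d (i+1) (i+1+1)).hom x = 0) :
    ∃ y, LocalizedModule.map S (P.d i (i+1)).hom y = x := by
  induction x using LocalizedModule.induction_on with
  | h m t =>
  rw [LocalizedModule.map_mk] at hx
  obtain ⟨u, hu⟩ := LocalizedModule.mk_eq.1 (hx.trans (LocalizedModule.zero_mk (1 : S)).symm)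
  simp only [one_smul, smul_zero, Submonoid.smul_def] at hu
  have hu' : (P.d (i+1) (i+1+1)).hom ((u : A) • m) = 0 := by
    rw [map_smul, hu]
  have hi : (ComplexShape.up ℤ).prev (i+1) = i := by simp
  have hk : (ComplexShape.up ℤ).next (i+1) = i+1+1 := by simp
  let Sc := P.sc' i (i+1) (i+1+1)
  let E : P.homology (i+1) ≅
      ModuleCat.of A (LinearMap.ker Sc.g.hom ⧸ LinearMap.range Sc.moduleCatToCycles) :=
    ShortComplex.homologyMapIso (P.isoSc' i (i+1) (i+1+1) hi hk) ≪≫ Sc.moduleCatHomologyIso
  let e := E.toLinearEquiv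
  let z : LinearMap.ker Sc.g.hom := ⟨(u : A) • m, LinearMap.mem_ker.2 hu'⟩
  have h0 : LocalizedModule.mk (e.symm (Submodule.Quotient.mk z)) (1 : S) = 0 :=
    Subsingleton.elim _ _
  obtain ⟨v, hv⟩ := LocalizedModule.mk_eq.1 (h0.trans (LocalizedModule.zero_mk (1 : S)).symm)
  simp only [one_smul, smul_zero, Submonoid.smul_def] at hv
  have hq : (Submodule.Quotient.mk ((v : A) • z) :
      LinearMap.ker Sc.g.hom ⧸ LinearMap.range Sc.moduleCatToCycles) = 0 := by
    have := congrArg e hv
    rw [map_smul, LinearEquiv.apply_symm_apply, map_zero] at this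
    rwa [Submodule.Quotient.mk_smul]
  rw [Submodule.Quotient.mk_eq_zero] at hq
  obtain ⟨m', hm'⟩ := hq
  have hm'' : (P.d i (i+1)).hom m' = (v : A) • ((u : A) • m) := congrArg Subtype.val hm'
  refine ⟨LocalizedModule.mk m' (v * u * t), ?_⟩
  rw [LocalizedModule.map_mk, hm'']
  apply LocalizedModule.mk_eq.2
  refine ⟨1, ?_⟩
  simp only [Submonoid.smul_def, Submonoid.coe_mul, Submonoid.coe_one, one_smul, smul_smul]
  congr 1
  ring

end Bridge


open CategoryTheory CategoryTheory.Limits in
/-- Let A be a commutative ring and P a strictly perfect complex over A, that is a cochain complex of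
finitely generated projective A-modules which is zero outside a finite set s of degrees. Suppose the
cohomological support of P has positive codimension: for every minimal prime q of A and every degree
i the localization at q of the cohomology module H^i(P) is zero. Then the Euler characteristic of P
vanishes identically: at every prime of A the alternating sum over i ∈ s of the ranks of the P^i is
zero. -/
theorem result {A : Type u} [CommRing A]
    (P : CochainComplex (ModuleCat.{u} A) ℤ) (s : Finset ℤ)
    (hP : ∀ i : ℤ, Module.Finite A (P.X i) ∧ Module.Projective A (P.X i))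
    (hs : ∀ i : ℤ, i ∉ s → IsZero (P.X i))
    (hsupp : ∀ q : PrimeSpectrum A, q.asIdeal ∈ minimalPrimes A →
      ∀ i : ℤ, Subsingleton (LocalizedModule q.asIdeal.primeCompl (P.homology i))) :
    ∀ x : PrimeSpectrum A,
      (s.sum fun i => ((i.negOnePow : ℤˣ) : ℤ) * (Module.rankAtStalk (R := A) (P.X i) x : ℤ)) = 0 := by
  intro x
  obtain ⟨q, hq, hqx⟩ := Ideal.exists_minimalPrimes_le (show (⊥ : Ideal A) ≤ x.asIdeal from bot_le)
  haveI : q.IsPrime := hq.1.1
  let Q : PrimeSpectrum A := ⟨q, inferInstance⟩
  have hrk : ∀ i, Module.rankAtStalk (R := A) (P.X i) x = Module.rankAtStalk (R := A) (P.X i) Q :=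
    fun i => by
      haveI := (hP i).1; haveI := (hP i).2
      exact (Module.rankAtStalk_eq_of_le_of_finite_of_flat (P.X i) (show Q ≤ x from hqx)).symm
  simp only [hrk]
  have key := core (R := Localization.AtPrime q)
    (F := fun i => LocalizedModule q.primeCompl (P.X i))
    (fun i => LocalizedModule.map q.primeCompl (P.d i (i+1)).hom) ?_ ?_ ?_ ?_ s ?_
  · exact key
  · intro i y
    induction y using LocalizedModule.induction_on with
    | h m t =>
      have h2 : (P.d (i+1) (i+1+1)).hom ((P.d i (i+1)).hom m) = 0 := by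
        have := congrArg (fun f => f.hom m) (P.d_comp_d i (i+1) (i+1+1))
        simpa only [ModuleCat.hom_comp, ModuleCat.hom_zero, LinearMap.comp_apply, LinearMap.zero_apply] using this
      simp only [LocalizedModule.map_mk]
      rw [h2, LocalizedModule.zero_mk]
  · intro i y hy
    exact exact_loc P q.primeCompl i (hsupp Q hq (i+1)) y hy
  · intro i
    haveI := (hP i).1
    infer_instance
  · intro i
    haveI := (hP i).2
    infer_instance
  · intro i hi
    haveI : Subsingleton (P.X i) := ModuleCat.subsingleton_of_isZero (hs i hi)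
    refine ⟨fun a b => ?_⟩
    induction a using LocalizedModule.induction_on with
    | h m t =>
    induction b using LocalizedModule.induction_on with
    | h m' t' =>
    rw [Subsingleton.elim m 0, Subsingleton.elim m' 0, LocalizedModule.zero_mk,
      LocalizedModule.zero_mk]

end Groth.Agent.S14000
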