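import Groth.Statements.S14004
import Mathlib
import Groth.Agent.Lib.Helper6.ThickDeform
import Groth.Agent.Lib.Helper6.Thickening
import Groth.Agent.Lib.Helper6.AdicHom
import Groth.Agent.S14008

set_option autoImplicit false
set_option linter.style.haveILetI false
universe u
open CategoryTheory AlgebraicGeometry
open FSch

namespace Groth.Agent.S14004


section Aux

open Groth.Agent.Lib.Helper6.AdicHom Groth.Agent.Lib.Helper6.Thickening
open AlgebraicGeometry.Scheme AlgebraicGeometry.Scheme.IdealSheafData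

theorem surjective_toX (𝔛 : FSch.Sys.{u}) (hF : 𝔛.IsFormal) (n : ℕ) :
    Surjective (𝔛.toX n) := by
  induction n with
  | zero => exact inferInstanceAs (Surjective (𝟙 _))
  | succ n ih =>
    haveI := ih
    haveI : Surjective (𝔛.ι n) := ⟨(hF n).2⟩
    exact inferInstanceAs (Surjective (𝔛.toX n ≫ 𝔛.ι n))

end Aux



/-- Formal schemes are modelled as ℕ-indexed systems of thickenings. Let 𝔛 and 𝔜 be locally Noetherian
adic formal systems and f : 𝔛 ⟶ 𝔜 an adic morphism (every square X_n → X_{n+1}, Y_n → Y_{n+1}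
cartesian) all of whose levels f_n : X_n ⟶ Y_n are flat. Then f is smooth, in the sense that every
level f_n is smooth, if and only if the bottom level f_0 is smooth. -/
theorem result (𝔛 𝔜 : FSch.Sys.{u})
    (h𝔛 : 𝔛.IsLocNoethFormal) (h𝔜 : 𝔜.IsLocNoethFormal) (f : 𝔛 ⟶ 𝔜) (hf : FSch.IsAdicHom f)
    (hflat : ∀ n : ℕ, Flat ((f : FSch.Hom 𝔛 𝔜).app n)) :
    (∀ n : ℕ, AlgebraicGeometry.Smooth ((f : FSch.Hom 𝔛 𝔜).app n)) ↔
      AlgebraicGeometry.Smooth ((f : FSch.Hom 𝔛 𝔜).app 0) := by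
  constructor
  · intro h
    exact h 0
  · intro h0 n
    obtain ⟨hFX, hAX, hNX⟩ := h𝔛
    obtain ⟨hFY, hAY, hNY⟩ := h𝔜
    haveI := h0
    haveI := hflat n
    haveI := hNY n
    haveI := hNX n
    haveI hciX := Groth.Agent.Lib.Helper6.AdicHom.isClosedImmersion_toX 𝔛 hFX n
    haveI hciY := Groth.Agent.Lib.Helper6.AdicHom.isClosedImmersion_toX 𝔜 hFY n
    haveI hsX : Surjective (𝔛.toX n) := surjective_toX 𝔛 hFX n
    haveI hsY : Surjective (𝔜.toX n) := surjective_toX 𝔜 hFY n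
    have hpb := Groth.Agent.Lib.Helper6.AdicHom.isPullback_toX f hf n
    haveI hlfp : LocallyOfFinitePresentation ((f : FSch.Hom 𝔛 𝔜).app n) := by
      refine (Groth.Agent.S14008.result ((f : FSch.Hom 𝔛 𝔜).app n) ((f : FSch.Hom 𝔛 𝔜).app 0)
        (𝔛.toX n) (𝔜.toX n) ⟨hciX, hsX⟩ ⟨hciY, hsY⟩ ?_ ?_ ?_ hpb.w.symm).mpr inferInstance
      · intro U
        refine ⟨n + 1, ?_⟩
        rw [Ideal.zero_eq_bot, ← Pi.pow_apply, ← Scheme.IdealSheafData.ideal_pow,
          Groth.Agent.Lib.Helper6.Thickening.toX_ker_pow 𝔛 hFX hAX n,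
          Scheme.IdealSheafData.ideal_bot]
        rfl
      · intro U
        refine ⟨n + 1, ?_⟩
        rw [Ideal.zero_eq_bot, ← Pi.pow_apply, ← Scheme.IdealSheafData.ideal_pow,
          Groth.Agent.Lib.Helper6.Thickening.toX_ker_pow 𝔜 hFY hAY n,
          Scheme.IdealSheafData.ideal_bot]
        rfl
      · intro U
        haveI : IsNoetherianRing Γ(𝔛.X n, U.1) := IsLocallyNoetherian.component_noetherian U
        exact IsNoetherian.noetherian _
    haveI : Flat ((f : FSch.Hom 𝔛 𝔜).app n ≫ 𝟙 (𝔜.X n)) := by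
      rw [Category.comp_id]
      infer_instance
    haveI : LocallyOfFinitePresentation ((f : FSch.Hom 𝔛 𝔜).app n ≫ 𝟙 (𝔜.X n)) := by
      rw [Category.comp_id]
      infer_instance
    have hcX : IsPullback (𝔛.toX n) ((f : FSch.Hom 𝔛 𝔜).app 0 ≫ 𝟙 (𝔜.X 0))
        ((f : FSch.Hom 𝔛 𝔜).app n ≫ 𝟙 (𝔜.X n)) (𝔜.toX n) := by
      rw [Category.comp_id, Category.comp_id]
      exact hpb
    have hcY : IsPullback (𝔜.toX n) (𝟙 (𝔜.X 0)) (𝟙 (𝔜.X n)) (𝔜.toX n) := IsPullback.id_vert _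
    exact Groth.Agent.Lib.Helper6.ThickDeform.smooth_of_thickening (𝔛.toX n) (𝔜.toX n) (𝔜.toX n)
      ((f : FSch.Hom 𝔛 𝔜).app 0) ((f : FSch.Hom 𝔛 𝔜).app n) (𝟙 _) (𝟙 _) hcX hcY hpb.w

end Groth.Agent.S14004
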