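import Groth.Statements.S14005
import Mathlib

set_option autoImplicit false
universe u
open CategoryTheory AlgebraicGeometry
open CohTop

namespace Groth.Agent.S14005

/-- Take a scheme X with a locally Noetherian underlying topological space, F a sheaf of abelian groups
on X, x a point of X and s an element of the stalk F_x. Then the following are equivalent: (i) s is
the germ of a section t over some open neighbourhood U of x whose support in U is contained in the
closure of {x} (that is, s belongs to the subgroup Γ_x(F) of F_x); (ii) for every generization y ≠ x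
of x the image of s under the cospecialisation map F_x → F_y is zero (that is, viewed as a global
section of the inverse image of F on Spec O_{X,x}, s is supported at the closed point). -/
theorem result {X : Scheme.{u}}
    (hX : ∀ x : X, ∃ U : X.Opens, x ∈ U ∧ TopologicalSpace.NoetherianSpace U)
    (F : TopCat.Sheaf AddCommGrpCat.{u} X.carrier) (x : X) (s : F.presheaf.stalk x) :
    (∃ (U : X.Opens) (hx : x ∈ U) (t : F.presheaf.obj (Opposite.op U)),
        F.presheaf.germ U x hx t = s ∧
          ∀ (u : X) (hu : u ∈ U), F.presheaf.germ U u hu t ≠ 0 → u ∈ closure ({x} : Set X)) ↔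
      ∀ (y : X) (h : y ⤳ x), y ≠ x → F.presheaf.stalkSpecializes h s = 0 := by
  constructor
  · rintro ⟨U, hx, t, rfl, hsupp⟩ y h hne
    have hy : y ∈ U := h.mem_open U.isOpen hx
    have e : F.presheaf.stalkSpecializes h (F.presheaf.germ U x hx t) =
        F.presheaf.germ U y hy t := by
      rw [← ConcreteCategory.comp_apply, TopCat.Presheaf.germ_stalkSpecializes]
    rw [e]
    by_contra hne0
    have h2 : x ⤳ y := specializes_iff_mem_closure.2 (hsupp y hy hne0)
    exact hne (h.antisymm h2).eq
  · intro hall
    obtain ⟨V₀, hxV₀, hNoeth⟩ := hX x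
    obtain ⟨V, hVV₀, hxV, t, rfl⟩ := F.presheaf.exists_le_germ_eq s hxV₀
    have hNV : TopologicalSpace.NoetherianSpace V :=
      @TopologicalSpace.NoetherianSpace.of_subset X _ (V₀ : Set X) (V : Set X) hNoeth hVV₀
    have hQS : QuasiSober V := V.isOpenEmbedding.quasiSober
    -- support of t inside V
    let Z : Set V := {u | F.presheaf.germ V u.1 u.2 t ≠ 0}
    have hZclosed : IsClosed Z := by
      rw [← isOpen_compl_iff, isOpen_iff_forall_mem_open]
      intro u hu
      have hu0 : F.presheaf.germ V u.1 u.2 t = 0 := by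
        by_contra h; exact hu h
      have hu1 : F.presheaf.germ V u.1 u.2 t = F.presheaf.germ V u.1 u.2 0 := by
        rw [hu0, map_zero]
      obtain ⟨W, hW, i₁, i₂, hres⟩ := F.presheaf.germ_eq u.1 u.2 u.2 t 0 hu1
      refine ⟨Subtype.val ⁻¹' (W : Set X), ?_, W.isOpen.preimage continuous_subtype_val, hW⟩
      intro w hw
      have hw' : w.1 ∈ W := hw
      change ¬ (F.presheaf.germ V w.1 w.2 t ≠ 0)
      rw [not_not, ← F.presheaf.germ_res_apply i₁ w.1 hw' t, hres, map_zero, map_zero]
    obtain ⟨S, hSfin, hSclosed, hSirr, hSeq⟩ :=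
      TopologicalSpace.NoetherianSpace.exists_finite_set_isClosed_irreducible hZclosed
    let x' : V := ⟨x, hxV⟩
    -- the open set
    let O : Set V := ⋂ T ∈ {T ∈ S | x' ∉ T}, Tᶜ
    have hOopen : IsOpen O :=
      (hSfin.subset (Set.sep_subset _ _)).isOpen_biInter fun T hT => (hSclosed T hT.1).isOpen_compl
    have hx'O : x' ∈ O := Set.mem_iInter₂.2 fun T hT => hT.2
    let U : X.Opens := ⟨Subtype.val '' O, V.isOpen.isOpenMap_subtype_val O hOopen⟩
    have hUV : U ≤ V := by
      rintro _ ⟨u, _, rfl⟩
      exact u.2
    have hxU : x ∈ U := ⟨x', hx'O, rfl⟩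
    refine ⟨U, hxU, F.presheaf.map (homOfLE hUV).op t, F.presheaf.germ_res_apply _ x hxU t, ?_⟩
    intro u hu hgerm
    rw [F.presheaf.germ_res_apply (homOfLE hUV) u hu t] at hgerm
    obtain ⟨u', hu'O, rfl⟩ := hu
    have hu'Z : u' ∈ Z := hgerm
    rw [hSeq] at hu'Z
    obtain ⟨T, hTS, hu'T⟩ := hu'Z
    have hx'T : x' ∈ T := by
      by_contra hx'T
      have : u' ∈ Tᶜ := Set.mem_iInter₂.1 hu'O T ⟨hTS, hx'T⟩
      exact this hu'T
    have hTirr := hSirr T hTS
    have hTcl := hSclosed T hTS
    set η : V := hTirr.genericPoint with hη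
    have hηcl : closure ({η} : Set V) = T := hTirr.closure_genericPoint hTcl
    have hηT : η ∈ T := hηcl.le (subset_closure (Set.mem_singleton η))
    have hηZ : η ∈ Z := by
      rw [hSeq]; exact Set.mem_sUnion.2 ⟨T, hTS, hηT⟩
    have hηx' : η ⤳ x' := specializes_iff_mem_closure.2 (hηcl.ge hx'T)
    have hηx : (η : X) ⤳ x := (subtype_specializes_iff η x').1 hηx'
    have hηeq : (η : X) = x := by
      by_contra hne
      have h0 := hall η hηx hne
      have e : F.presheaf.stalkSpecializes hηx (F.presheaf.germ V x hxV t) =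
          F.presheaf.germ V η.1 η.2 t := by
        rw [← ConcreteCategory.comp_apply, TopCat.Presheaf.germ_stalkSpecializes]
      rw [e] at h0
      exact hηZ h0
    have hηeq' : η = x' := Subtype.ext hηeq
    have hx'u' : x' ⤳ u' := by
      rw [← hηeq']
      exact specializes_iff_mem_closure.2 (hηcl.ge hu'T)
    exact specializes_iff_mem_closure.1 ((subtype_specializes_iff x' u').1 hx'u')

end Groth.Agent.S14005
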