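import Groth.Statements.S1401
import Groth.Agent.Lib.Helper16.QAffScheme
open Groth.Agent.Lib.Helper16

set_option autoImplicit false
universe u
open FlatMor

namespace Groth.Agent.S1401

open AlgebraicGeometry CategoryTheory Limits in
/-- Let S' → S be flat, surjective and quasi-compact and let f' be the base change of f : X → S to S'.
If f' is ind-quasi-affine then so is f. -/
theorem result {X S X' S' : Scheme.{u}} (f : X ⟶ S) (f' : X' ⟶ S') (g' : X' ⟶ X) (g : S' ⟶ S)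
    [Flat g] [Surjective g] [QuasiCompact g] (hc : IsPullback g' f' f g) (hf' : MoreMor.IsIndQuasiAffineHom f') : MoreMor.IsIndQuasiAffineHom f := by
  intro V hV U' hU'
  have hle : (f ⁻¹ᵁ V).ι ''ᵁ U' ≤ f ⁻¹ᵁ V := by
    have := (f ⁻¹ᵁ V).ι.image_le_opensRange U'
    rwa [Scheme.Opens.opensRange_ι] at this
  -- the open of `X` corresponding to `U'`
  have hqa : (↑((f ⁻¹ᵁ V).ι ''ᵁ U') : Scheme.{u}).IsQuasiAffine := by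
    have hUc : CompactSpace ↥(↑((f ⁻¹ᵁ V).ι ''ᵁ U') : Scheme.{u}) := by
      have : CompactSpace ↥(↑U' : Scheme.{u}) := isCompact_iff_compactSpace.mp hU'
      exact QuasiCompact.compactSpace_of_compactSpace ((f ⁻¹ᵁ V).ι.isoImage U').inv
    refine isQuasiAffine_of_fpqc_resLE g f f' g' hc.flip V hV _ hle (fun W hW hWV => ?_)
    -- the open `W ×_V U` of `X'`
    have hPB := Scheme.Hom.isPullback_resLE hc.flip (UT := (f ⁻¹ᵁ V).ι ''ᵁ U') hle hWV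
      (UY := f' ⁻¹ᵁ W ⊓ g' ⁻¹ᵁ ((f ⁻¹ᵁ V).ι ''ᵁ U')) rfl
    have hWa : IsAffine (↑W : Scheme.{u}) := hW
    have hVa : IsAffine (↑V : Scheme.{u}) := hV
    have hqc1 : QuasiCompact (g.resLE V W hWV) := by
      have : IsAffineHom (g.resLE V W hWV) := isAffineHom_of_isAffine _
      infer_instance
    have hqc2 : QuasiCompact (g'.resLE ((f ⁻¹ᵁ V).ι ''ᵁ U') (f' ⁻¹ᵁ W ⊓ g' ⁻¹ᵁ ((f ⁻¹ᵁ V).ι ''ᵁ U'))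
        inf_le_right) := MorphismProperty.of_isPullback hPB hqc1
    have hcomp : CompactSpace ↥(↑(f' ⁻¹ᵁ W ⊓ g' ⁻¹ᵁ ((f ⁻¹ᵁ V).ι ''ᵁ U')) : Scheme.{u}) :=
      QuasiCompact.compactSpace_of_compactSpace
        (g'.resLE ((f ⁻¹ᵁ V).ι ''ᵁ U') (f' ⁻¹ᵁ W ⊓ g' ⁻¹ᵁ ((f ⁻¹ᵁ V).ι ''ᵁ U')) inf_le_right)
    -- as an open of `f' ⁻¹ W`
    have himg : (f' ⁻¹ᵁ W).ι ''ᵁ ((f' ⁻¹ᵁ W).ι ⁻¹ᵁ (g' ⁻¹ᵁ ((f ⁻¹ᵁ V).ι ''ᵁ U'))) =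
        f' ⁻¹ᵁ W ⊓ g' ⁻¹ᵁ ((f ⁻¹ᵁ V).ι ''ᵁ U') := by
      rw [Scheme.Hom.image_preimage_eq_opensRange_inf, Scheme.Opens.opensRange_ι]
    have hcomp' : IsCompact (X := (↑(f' ⁻¹ᵁ W) : Scheme.{u}))
        ((f' ⁻¹ᵁ W).ι ⁻¹ᵁ (g' ⁻¹ᵁ ((f ⁻¹ᵁ V).ι ''ᵁ U'))) := by
      rw [isCompact_iff_compactSpace]
      have : CompactSpace ↥(↑((f' ⁻¹ᵁ W).ι ''ᵁ ((f' ⁻¹ᵁ W).ι ⁻¹ᵁ (g' ⁻¹ᵁ ((f ⁻¹ᵁ V).ι ''ᵁ U')))) : Scheme.{u}) := by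
        rw [himg]
        exact hcomp
      exact QuasiCompact.compactSpace_of_compactSpace
        ((f' ⁻¹ᵁ W).ι.isoImage ((f' ⁻¹ᵁ W).ι ⁻¹ᵁ (g' ⁻¹ᵁ ((f ⁻¹ᵁ V).ι ''ᵁ U')))).hom
    have hq := hf' W hW _ hcomp'
    have hq' : (↑((f' ⁻¹ᵁ W).ι ''ᵁ ((f' ⁻¹ᵁ W).ι ⁻¹ᵁ (g' ⁻¹ᵁ ((f ⁻¹ᵁ V).ι ''ᵁ U')))) : Scheme.{u}).IsQuasiAffine :=
      Scheme.IsQuasiAffine.of_isAffineHom
        ((f' ⁻¹ᵁ W).ι.isoImage ((f' ⁻¹ᵁ W).ι ⁻¹ᵁ (g' ⁻¹ᵁ ((f ⁻¹ᵁ V).ι ''ᵁ U')))).inv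
    rw [himg] at hq'
    exact hq'
  exact Scheme.IsQuasiAffine.of_isAffineHom ((f ⁻¹ᵁ V).ι.isoImage U').hom

end Groth.Agent.S1401
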