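import Groth.Statements.S14018
import Mathlib

set_option autoImplicit false
open CategoryTheory CategoryTheory.Limits Opposite
universe w v u
open CohSite

namespace Groth.Agent.S14018

theorem surj_π_app {G : ℕᵒᵖ ⥤ Type w} {c : Cone G} (hc : IsLimit c)
    (hG : ∀ n, Function.Surjective (G.map (homOfLE (Nat.le_succ n)).op)) (n : ℕ) :
    Function.Surjective (c.π.app (op n)) := by
  intro a
  let y : ∀ k : ℕ, G.obj (op (n + k)) := fun k =>
    Nat.rec (motive := fun k => G.obj (op (n + k))) a (fun k yk => (hG (n + k) yk).choose) k
  have y_succ : ∀ k, G.map (homOfLE (Nat.le_succ (n + k))).op (y (k + 1)) = y k := by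
    intro k
    exact (hG (n + k) (y k)).choose_spec
  have key : ∀ j k (h : j ≤ k), G.map (homOfLE (Nat.add_le_add_left h n)).op (y k) = y j := by
    intro j k h
    induction k, h using Nat.le_induction with
    | base =>
      have : (homOfLE (Nat.add_le_add_left (le_refl j) n)).op = 𝟙 (op (n + j)) :=
        Subsingleton.elim _ _
      rw [this, Functor.map_id_apply]
    | succ k hk ih =>
      have : (homOfLE (Nat.add_le_add_left (hk.trans (Nat.le_succ k)) n)).op =
          (homOfLE (Nat.le_succ (n + k))).op ≫ (homOfLE (Nat.add_le_add_left hk n)).op :=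
        Subsingleton.elim _ _
      rw [this, Functor.map_comp_apply, y_succ, ih]
  let x : ∀ m : ℕᵒᵖ, G.obj m := fun m =>
    G.map (homOfLE (Nat.le_add_left m.unop n)).op (y m.unop)
  have hx : x ∈ G.sections := by
    intro m m' f
    have hle : m'.unop ≤ m.unop := leOfHom f.unop
    change G.map f (G.map _ (y m.unop)) = G.map _ (y m'.unop)
    rw [← key m'.unop m.unop hle, ← Functor.map_comp_apply, ← Functor.map_comp_apply]
    congr 1
  refine ⟨(Types.isLimitEquivSections hc).symm ⟨x, hx⟩, ?_⟩
  rw [Types.isLimitEquivSections_symm_apply]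
  change G.map _ (y n) = a
  have := key 0 n (Nat.zero_le n)
  exact this

/-- Let (C, J) be a site with enough weakly contractible objects — every object V has a covering sieve
all of whose arrows factor through some weakly contractible object, an object U being weakly
contractible when every epimorphism of sheaves of sets (valued in a fixed universe) is surjective on
sections over U. Then the topos of sheaves of sets is replete: if (F_n) is an inverse system of
sheaves of sets indexed by ℕ with every transition map F_(n+1) ⟶ F_n an epimorphism, then each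
projection lim_n F_n ⟶ F_n is an epimorphism; the limit is taken as any limit cone. (The small
pro-étale site of a scheme is such a site.) -/
theorem result
    {C : Type u} [Category.{v} C] (J : GrothendieckTopology C)
    (hwc : ∀ V : C, ∃ S : Sieve V, S ∈ J V ∧ ∀ ⦃W : C⦄ (f : W ⟶ V), S.arrows f →
      ∃ (U : C) (g : W ⟶ U) (h : U ⟶ V), (∀ (A B : Sheaf J (Type w)) (ψ : A ⟶ B), Epi ψ → Function.Surjective (ψ.hom.app (op U))) ∧ g ≫ h = f)
    (F : ℕᵒᵖ ⥤ Sheaf J (Type w))
    (hF : ∀ n : ℕ, Epi (F.map (homOfLE (Nat.le_succ n)).op))
    (c : Cone F) (hc : IsLimit c) (n : ℕ) :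
    Epi (c.π.app (op n)) := by
  have : Sheaf.IsLocallySurjective (c.π.app (op n)) := by
    constructor
    intro V s
    obtain ⟨S, hS, hfac⟩ := hwc V
    refine J.superset_covering ?_ hS
    intro W f hf
    obtain ⟨U, g, h, hU, rfl⟩ := hfac f hf
    let E : Sheaf J (Type w) ⥤ Type w :=
      sheafToPresheaf J (Type w) ⋙ (evaluation Cᵒᵖ (Type w)).obj (op U)
    have hlim : IsLimit (E.mapCone c) := isLimitOfPreserves E hc
    have hsurj := surj_π_app hlim (fun m => hU _ _ _ (hF m)) n
    obtain ⟨tU, htU⟩ := hsurj ((F.obj (op n)).obj.map h.op s)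
    refine ⟨c.pt.obj.map g.op tU, ?_⟩
    have hnat := NatTrans.naturality_apply (c.π.app (op n)).hom g.op tU
    have htU' : (ConcreteCategory.hom ((c.π.app (op n)).hom.app (op U))) tU =
        (ConcreteCategory.hom ((F.obj (op n)).obj.map h.op)) s := htU
    refine hnat.trans ?_
    rw [htU', op_comp, Functor.map_comp]
    rfl
  infer_instance

end Groth.Agent.S14018
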