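import Groth.Statements.S1402
import Mathlib.AlgebraicGeometry.ZariskisMainTheorem
import Mathlib.AlgebraicGeometry.QuasiAffine

set_option autoImplicit false
universe u
open FlatMor

namespace Groth.Agent.S1402

open AlgebraicGeometry CategoryTheory Limits in
/-- A separated, locally quasi-finite morphism is ind-quasi-affine. -/
theorem result {X Y : Scheme.{u}} (f : X ⟶ Y) [IsSeparated f] [LocallyQuasiFinite f] [LocallyOfFiniteType f] :
    MoreMor.IsIndQuasiAffineHom f := by
  intro V hV U' hU'
  have hVa : IsAffine (↑V : Scheme.{u}) := hV
  have hUc : CompactSpace ↥(↑U' : Scheme.{u}) := isCompact_iff_compactSpace.mp hU'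
  let h : (↑U' : Scheme.{u}) ⟶ (↑V : Scheme.{u}) := U'.ι ≫ (f ∣_ V)
  have h1 : IsSeparated (f ∣_ V) := MorphismProperty.of_isPullback (isPullback_morphismRestrict f V).flip inferInstance
  have h2 : LocallyQuasiFinite (f ∣_ V) :=
    MorphismProperty.of_isPullback (isPullback_morphismRestrict f V).flip inferInstance
  have h3 : LocallyOfFiniteType (f ∣_ V) :=
    MorphismProperty.of_isPullback (isPullback_morphismRestrict f V).flip inferInstance
  have h4 : IsSeparated h := inferInstance
  have h5 : LocallyQuasiFinite h := inferInstance
  have h6 : LocallyOfFiniteType h := inferInstance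
  have h7 : QuasiCompact h := inferInstance
  have h8 : IsOpenImmersion h.toNormalization := inferInstance
  have h9 : IsAffine h.normalization := isAffine_of_isAffineHom h.fromNormalization
  exact Scheme.IsQuasiAffine.of_isImmersion h.toNormalization

end Groth.Agent.S1402
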