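import Groth.Statements.S14020
import Mathlib

set_option autoImplicit false
universe u
open CAlg

namespace Groth.Agent.S14020


theorem isArtinian_of_torsionBy (R : Type u) [CommRing R] (I : Ideal R) [IsArtinianRing (R ⧸ I)]
    (M : Type u) [AddCommGroup M] [Module R M] [Module.Finite R M]
    (h : Module.IsTorsionBySet R M I) : IsArtinian R M := by
  letI := h.module
  have hfin : Module.Finite (R ⧸ I) M :=
    (h.semilinearMap.finite_iff_of_bijective Function.bijective_id).1 inferInstance
  exact (h.semilinearMap.isArtinian_iff_of_bijective Function.bijective_id).2 inferInstance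

theorem isArtinian_quot_pow (R : Type u) [CommRing R] (I : Ideal R) (hI : I.FG)
    [IsArtinianRing (R ⧸ I)] (n : ℕ) : IsArtinian R (R ⧸ I ^ n) := by
  induction n with
  | zero =>
    rw [pow_zero, Ideal.one_eq_top]
    infer_instance
  | succ n ih =>
    have hle : I ^ (n + 1) ≤ I ^ n := Ideal.pow_le_pow_right (Nat.le_succ n)
    let g : (R ⧸ I ^ (n + 1)) →ₗ[R] (R ⧸ I ^ n) := Submodule.factor hle
    have hker : LinearMap.ker g = Submodule.map (Submodule.mkQ (I ^ (n + 1))) (I ^ n) := by
      ext x
      obtain ⟨y, rfl⟩ := Submodule.mkQ_surjective _ x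
      have hg : g (Submodule.mkQ (I ^ (n + 1)) y) = Submodule.mkQ (I ^ n) y := rfl
      rw [LinearMap.mem_ker, hg, Submodule.mkQ_apply, Submodule.Quotient.mk_eq_zero,
        Submodule.mem_map]
      constructor
      · intro hy
        exact ⟨y, hy, rfl⟩
      · rintro ⟨z, hz, hzy⟩
        have : z - y ∈ I ^ (n + 1) := by
          rw [← Submodule.Quotient.mk_eq_zero, Submodule.Quotient.mk_sub]
          rw [Submodule.mkQ_apply, Submodule.mkQ_apply] at hzy
          rw [hzy, sub_self]
        have h2 : y = z - (z - y) := by ring
        rw [h2]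
        exact Submodule.sub_mem _ hz (hle this)
    have hfg : (LinearMap.ker g).FG := by
      rw [hker]
      exact Submodule.FG.map _ (Ideal.FG.pow hI)
    have : Module.Finite R (LinearMap.ker g) := Module.Finite.iff_fg.2 hfg
    have htors : Module.IsTorsionBySet R (LinearMap.ker g) I := by
      rintro ⟨x, hx⟩ ⟨a, ha⟩
      rw [hker] at hx
      obtain ⟨z, hz, rfl⟩ := hx
      apply Subtype.ext
      simp only [Submodule.coe_smul, Submodule.coe_zero, Submodule.mkQ_apply]
      rw [← Submodule.Quotient.mk_smul, Submodule.Quotient.mk_eq_zero, pow_succ']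
      exact Ideal.mul_mem_mul ha hz
    have : IsArtinian R (LinearMap.ker g) := isArtinian_of_torsionBy R I _ htors
    exact isArtinian_of_range_eq_ker (LinearMap.ker g).subtype g (by simp)

/-- Let R be a commutative ring and I a finitely generated ideal such that the quotient ring R/I is
artinian. Then R/I^n is artinian for every n. -/
theorem result
    (R : Type u) [CommRing R] (I : Ideal R) (hI : I.FG) [IsArtinianRing (R ⧸ I)] (n : ℕ) :
    IsArtinianRing (R ⧸ I ^ n) := by
  have := isArtinian_quot_pow R I hI n
  exact isArtinian_of_tower R inferInstance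

end Groth.Agent.S14020
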