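import Groth.Statements.S14023
import Mathlib

set_option autoImplicit false
open CategoryTheory CategoryTheory.Limits Opposite
universe v u
open ARSys

namespace Groth.Agent.S14023


section Forward

variable (A : Type u) [Category.{v} A] [Abelian A]

theorem evalLeftAdj_preservesMono (c : ℕᵒᵖ) :
    (evaluationLeftAdjoint A c).PreservesMonomorphisms := by
  constructor
  intro X Y f hf
  have : ∀ t : ℕᵒᵖ, Mono (((evaluationLeftAdjoint A c).map f).app t) := by
    intro t
    change Mono (Sigma.desc fun h : c ⟶ t => f ≫ Sigma.ι (fun _ : c ⟶ t => Y) h)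
    by_cases hE : Nonempty (c ⟶ t)
    · obtain ⟨h₀⟩ := hE
      have e : (Sigma.desc fun h : c ⟶ t => f ≫ Sigma.ι (fun _ : c ⟶ t => Y) h) =
          Sigma.desc (fun _ : c ⟶ t => 𝟙 X) ≫ f ≫ Sigma.ι (fun _ : c ⟶ t => Y) h₀ := by
        ext h
        obtain rfl := Subsingleton.elim h h₀
        simp
      rw [e]
      have : Mono (Sigma.desc (fun _ : c ⟶ t => 𝟙 X)) := by
        have w : Sigma.desc (fun _ : c ⟶ t => 𝟙 X) ≫ Sigma.ι (fun _ : c ⟶ t => X) h₀ = 𝟙 _ := by
          ext h
          obtain rfl := Subsingleton.elim h h₀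
          simp
        exact mono_of_mono_fac w
      have : Mono (Sigma.ι (fun _ : c ⟶ t => Y) h₀) := by
        have w : Sigma.ι (fun _ : c ⟶ t => Y) h₀ ≫ Sigma.desc (fun _ : c ⟶ t => 𝟙 Y) = 𝟙 _ := by
          simp
        exact mono_of_mono_fac w
      infer_instance
    · have hz : IsZero (∐ fun _ : c ⟶ t => X) := by
        rw [IsZero.iff_id_eq_zero]
        ext h
        exact (hE ⟨h⟩).elim
      exact hz.mono _
  exact NatTrans.mono_of_mono_app _

theorem forward [EnoughInjectives (ℕᵒᵖ ⥤ A)] : EnoughInjectives A := by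
  have := evalLeftAdj_preservesMono A (op 0)
  constructor
  intro X
  obtain ⟨p⟩ := EnoughInjectives.presentation ((Functor.const ℕᵒᵖ).obj X)
  have := p.mono
  refine ⟨⟨p.J.obj (op 0), ?_, p.f.app (op 0), ?_⟩⟩
  · exact (evaluationAdjunctionRight A (op 0)).map_injective _ p.injective
  · exact (NatTrans.mono_iff_mono_app p.f).1 inferInstance (op 0)

end Forward

section Backward

variable {A : Type u} [Category.{v} A] [Abelian A]

/-- The objects of the tower: `J 0`, `J 0 ⨯ J 1`, ... -/
noncomputable def objSeq (J : ℕ → A) : ℕ → A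
  | 0 => J 0
  | (n + 1) => objSeq J n ⨯ J (n + 1)

noncomputable def mapSeq (J : ℕ → A) (n : ℕ) : objSeq J (n + 1) ⟶ objSeq J n :=
  (prod.fst : objSeq J n ⨯ J (n + 1) ⟶ objSeq J n)

noncomputable def tower (J : ℕ → A) : ℕᵒᵖ ⥤ A := Functor.ofOpSequence (mapSeq J)

theorem tower_map_succ (J : ℕ → A) (n : ℕ) :
    (tower J).map (homOfLE (Nat.le_add_right n 1)).op = mapSeq J n :=
  Functor.ofOpSequence_map_homOfLE_succ _ n

/-- Extension of a morphism to the tower along a monomorphism. -/
noncomputable def extApp (J : ℕ → A) [∀ n, Injective (J n)] {G H : ℕᵒᵖ ⥤ A} (f : G ⟶ H)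
    [∀ n, Mono (f.app n)] (α : G ⟶ tower J) : ∀ n : ℕ, H.obj (op n) ⟶ objSeq J n
  | 0 => Injective.factorThru (J := J 0) (α.app (op 0)) (f.app (op 0))
  | (n + 1) => prod.lift (H.map (homOfLE (Nat.le_add_right n 1)).op ≫ extApp J f α n)
      (Injective.factorThru
        ((α.app (op (n + 1)) : G.obj (op (n + 1)) ⟶ objSeq J n ⨯ J (n + 1)) ≫ prod.snd)
        (f.app (op (n + 1))))

theorem comp_extApp (J : ℕ → A) [∀ n, Injective (J n)] {G H : ℕᵒᵖ ⥤ A} (f : G ⟶ H)
    [∀ n, Mono (f.app n)] (α : G ⟶ tower J) (n : ℕ) :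
    f.app (op n) ≫ extApp J f α n = α.app (op n) := by
  induction n with
  | zero => exact Injective.comp_factorThru (J := J 0) (α.app (op 0)) (f.app (op 0))
  | succ n ih =>
    apply Limits.prod.hom_ext (X := objSeq J n) (Y := J (n + 1))
    · change (f.app (op (n + 1)) ≫ prod.lift _ _) ≫ prod.fst = _
      rw [Category.assoc, prod.lift_fst, ← f.naturality_assoc, ih]
      have := α.naturality (homOfLE (Nat.le_add_right n 1)).op
      rw [tower_map_succ] at this
      exact this
    · change (f.app (op (n + 1)) ≫ prod.lift _ _) ≫ prod.snd = _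
      rw [Category.assoc, prod.lift_snd, Injective.comp_factorThru]
      rfl

theorem tower_injective (J : ℕ → A) [∀ n, Injective (J n)] : Injective (tower J) := by
  constructor
  intro G H α f hf
  have : ∀ n, Mono (f.app n) := fun n => (NatTrans.mono_iff_mono_app f).1 hf n
  refine ⟨NatTrans.ofOpSequence (extApp J f α) ?_, ?_⟩
  · intro n
    rw [tower_map_succ]
    change _ = prod.lift _ _ ≫ prod.fst
    rw [prod.lift_fst]
    rfl
  · ext ⟨n⟩
    exact comp_extApp J f α n

variable [EnoughInjectives A]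

noncomputable def iotaApp (F : ℕᵒᵖ ⥤ A) :
    ∀ n : ℕ, F.obj (op n) ⟶ objSeq (fun n => Injective.under (F.obj (op n))) n
  | 0 => Injective.ι (F.obj (op 0))
  | (n + 1) => prod.lift (F.map (homOfLE (Nat.le_add_right n 1)).op ≫ iotaApp F n)
      (Injective.ι (F.obj (op (n + 1))))

theorem iotaApp_mono (F : ℕᵒᵖ ⥤ A) (n : ℕ) : Mono (iotaApp F n) := by
  cases n with
  | zero => exact Injective.ι_mono _
  | succ n =>
    have w : iotaApp F (n + 1) ≫ (prod.snd : objSeq (fun n => Injective.under (F.obj (op n))) n ⨯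
        Injective.under (F.obj (op (n + 1))) ⟶ _) = Injective.ι (F.obj (op (n + 1))) := by
      change prod.lift _ _ ≫ prod.snd = _
      rw [prod.lift_snd]
    exact mono_of_mono_fac w

theorem backward : EnoughInjectives (ℕᵒᵖ ⥤ A) := by
  constructor
  intro F
  let J : ℕ → A := fun n => Injective.under (F.obj (op n))
  let ι : F ⟶ tower J := NatTrans.ofOpSequence (iotaApp F) (by
    intro n
    rw [tower_map_succ]
    change _ = prod.lift _ _ ≫ prod.fst
    rw [prod.lift_fst]
    rfl)
  have : ∀ X : ℕᵒᵖ, Mono (ι.app X) := by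
    rintro ⟨n⟩
    exact iotaApp_mono F n
  exact ⟨⟨tower J, tower_injective J, ι, NatTrans.mono_of_mono_app ι⟩⟩

end Backward

/-- For an abelian category A, the category of inverse systems (A_n)_n indexed by ℕ, i.e. of functors
ℕᵒᵖ ⥤ A, has enough injectives if and only if A has enough injectives. (The second assertion of the
published proposition, describing the injective systems, is not part of this row.) -/
theorem result
    (A : Type u) [Category.{v} A] [Abelian A] :
    EnoughInjectives (ℕᵒᵖ ⥤ A) ↔ EnoughInjectives A := by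
  exact ⟨fun _ => forward A, fun _ => backward⟩

end Groth.Agent.S14023
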