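import Groth.Statements.S14029
import Mathlib
import Groth.Agent.Lib.Helper21.OverSubterminal

set_option autoImplicit false
open CategoryTheory CategoryTheory.Limits Opposite
universe v u
open CohSite

namespace Groth.Agent.S14029

/-- Let (C, J) be a site and U an object such that every object has at most one morphism to U; assume
extension by the empty set j_! from sheaves of sets on the localized site C/U to sheaves of sets on
C exists (through sheafification on C and left Kan extensions along C/U → C). If V is weakly
contractible in C — every epimorphism of sheaves of sets on C is surjective on sections over V —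
then for any morphism a : V ⟶ U the object V → U of C/U is weakly contractible in C/U: every
epimorphism of sheaves of sets on C/U is surjective on sections over it. Hence C/U has enough weakly
contractible objects when C does. -/
theorem result
    {C : Type u} [Category.{v} C] (J : GrothendieckTopology C) (U : C)
    (hU : ∀ W : C, Subsingleton (W ⟶ U))
    [HasWeakSheafify J (Type (max u v))]
    [∀ (P : (Over U)ᵒᵖ ⥤ Type (max u v)), (Over.forget U).op.HasLeftKanExtension P]
    (V : C) (hV : (∀ (A B : Sheaf J (Type (max u v))) (ψ : A ⟶ B), Epi ψ → Function.Surjective (ψ.hom.app (op V)))) (a : V ⟶ U) :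
    ∀ (A B : Sheaf (J.over U) (Type (max u v))) (ψ : A ⟶ B), Epi ψ →
      Function.Surjective (ψ.hom.app (op (Over.mk a))) := by
  intro A B ψ hψ
  let adj := (Over.forget U).sheafAdjunctionContinuous (Type (max u v)) (J.over U) J
  let L := (Over.forget U).sheafPullback (Type (max u v)) (J.over U) J
  have hL : L.PreservesEpimorphisms := Functor.preservesEpimorphisms_of_adjunction adj
  have hepi : Epi (L.map ψ) := L.map_epi ψ
  have hsurj := hV _ _ (L.map ψ) hepi
  have isoA : IsIso (adj.unit.app A) :=
    Groth.Agent.Lib.Helper21.isIso_unit_sheafAdjunctionContinuous_over J U hU A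
  have isoB : IsIso (adj.unit.app B) :=
    Groth.Agent.Lib.Helper21.isIso_unit_sheafAdjunctionContinuous_over J U hU B
  have bij : ∀ X : Sheaf (J.over U) (Type (max u v)), IsIso (adj.unit.app X) →
      Function.Bijective ((adj.unit.app X).hom.app (op (Over.mk a))) := by
    intro X hX
    have h1 : IsIso ((sheafToPresheaf _ _).map (adj.unit.app X)) := inferInstance
    have h2 : IsIso ((adj.unit.app X).hom.app (op (Over.mk a))) :=
      NatIso.isIso_app_of_isIso ((sheafToPresheaf _ _).map (adj.unit.app X)) _
    exact (isIso_iff_bijective _).1 h2
  have nat := adj.unit.naturality ψ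
  intro b
  obtain ⟨x, hx⟩ := hsurj ((adj.unit.app B).hom.app (op (Over.mk a)) b)
  obtain ⟨a', ha'⟩ := (bij A isoA).2 x
  refine ⟨a', (bij B isoB).1 ?_⟩
  rw [← hx, ← ha']
  have nat2 := congrArg (fun f => f.hom.app (op (Over.mk a))) nat
  exact (ConcreteCategory.congr_hom nat2 a')

end Groth.Agent.S14029
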