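import Groth.Statements.S14032
import Mathlib

set_option autoImplicit false
universe u v
open W4c1frobunstiva

namespace Groth.Agent.S14032


open TensorProduct

theorem nak {R : Type u} [CommRing R] {M : Type v} [AddCommGroup M] [Module R M]
    (I : Ideal R) (k : ℕ) (hk : I ^ k = ⊥) (N : Submodule R M)
    (h : N ⊔ I • (⊤ : Submodule R M) = ⊤) : N = ⊤ := by
  have key : ∀ j : ℕ, N ⊔ I ^ j • (⊤ : Submodule R M) = ⊤ := by
    intro j
    induction j with
    | zero => rw [pow_zero, Ideal.one_eq_top, Submodule.top_smul, sup_top_eq]
    | succ j ih =>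
      rw [eq_top_iff]
      calc (⊤ : Submodule R M) = N ⊔ I • (⊤ : Submodule R M) := h.symm
        _ = N ⊔ I • (N ⊔ I ^ j • (⊤ : Submodule R M)) := by rw [ih]
        _ = N ⊔ (I • N ⊔ I ^ (j + 1) • (⊤ : Submodule R M)) := by
            rw [Submodule.smul_sup, ← Submodule.mul_smul, pow_succ']
        _ ≤ N ⊔ I ^ (j + 1) • (⊤ : Submodule R M) := by
            refine sup_le le_sup_left (sup_le ?_ le_sup_right)
            exact le_trans Submodule.smul_le_right le_sup_left
  have := key k
  rw [hk, Submodule.bot_smul, sup_bot_eq] at this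
  exact this

theorem mk_one_eq_zero_iff {R : Type u} [CommRing R] {M : Type v} [AddCommGroup M] [Module R M]
    (I : Ideal R) (x : M) :
    ((1 : R ⧸ I) ⊗ₜ[R] x = 0) ↔ x ∈ I • (⊤ : Submodule R M) := by
  rw [← (TensorProduct.quotTensorEquivQuotSMul M I).map_eq_zero_iff,
    TensorProduct.quotTensorEquivQuotSMul_mk_one_tmul, Submodule.Quotient.mk_eq_zero]

theorem sum_smul_one_tmul {R : Type u} [CommRing R] {M : Type v} [AddCommGroup M] [Module R M]
    (I : Ideal R) {r : ℕ} (a : Fin r → R) (m : Fin r → M) :
    (∑ i, (Ideal.Quotient.mk I (a i)) • ((1 : R ⧸ I) ⊗ₜ[R] m i)) =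
      (1 : R ⧸ I) ⊗ₜ[R] (∑ i, a i • m i) := by
  rw [TensorProduct.tmul_sum]
  refine Finset.sum_congr rfl fun i _ => ?_
  rw [TensorProduct.tmul_smul, TensorProduct.smul_tmul']
  congr 1

open TensorProduct in
/-- Let R be a commutative Noetherian ring with nilradical n, M an R-module and r a natural number. Then
M is NR-free of rank r — generated by r elements such that every linear relation among them has
nilpotent coefficients — if and only if (R/n) ⊗_R M is free of rank r over R/n, in the sense of
admitting a basis indexed by r elements. (The published statement assumes M finitely generated and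
also gives the converse when R is local; over a Noetherian ring the nilradical is nilpotent, the
case used here, and finite generation is not needed.) -/
theorem result (R : Type u) [CommRing R]
    [IsNoetherianRing R] (M : Type v) [AddCommGroup M] [Module R M] (r : ℕ) :
    W4c1frobunstiva.IsNRFree R M r ↔
      Nonempty (Module.Basis (Fin r) (R ⧸ nilradical R) ((R ⧸ nilradical R) ⊗[R] M)) := by
  have hsurj : Function.Surjective (TensorProduct.mk R (R ⧸ nilradical R) M 1) :=
    TensorProduct.mk_surjective R M (R ⧸ nilradical R) Ideal.Quotient.mk_surjective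
  constructor
  · rintro ⟨m, hspan, hrel⟩
    let v : Fin r → (R ⧸ nilradical R) ⊗[R] M := fun i => (1 : R ⧸ nilradical R) ⊗ₜ[R] m i
    have hli : LinearIndependent (R ⧸ nilradical R) v := by
      rw [Fintype.linearIndependent_iff]
      intro g hg
      choose a ha using fun i => Ideal.Quotient.mk_surjective (g i)
      have h1 : (∑ i, (Ideal.Quotient.mk (nilradical R) (a i)) • v i) = 0 := by
        simpa [ha] using hg
      rw [sum_smul_one_tmul, mk_one_eq_zero_iff, ← hspan,
        Submodule.mem_ideal_smul_span_iff_exists_sum] at h1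
      obtain ⟨c, hc, hsum⟩ := h1
      rw [Finsupp.sum_fintype _ _ (fun i => zero_smul R (m i))] at hsum
      have h2 : ∑ i, (a i - c i) • m i = 0 := by
        simp only [sub_smul, Finset.sum_sub_distrib, hsum, sub_self]
      intro i
      have h3 := hrel _ h2 i
      rw [← ha i, Ideal.Quotient.eq_zero_iff_mem]
      have h4 : a i - c i ∈ nilradical R := mem_nilradical.2 h3
      have h5 : a i = (a i - c i) + c i := by ring
      rw [h5]
      exact Ideal.add_mem _ h4 (hc i)
    have hsp : ⊤ ≤ Submodule.span (R ⧸ nilradical R) (Set.range v) := by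
      intro t _
      obtain ⟨x, rfl⟩ := hsurj t
      clear * - hspan
      have hx : x ∈ Submodule.span R (Set.range m) := by rw [hspan]; trivial
      induction hx using Submodule.span_induction with
      | mem y hy =>
        obtain ⟨i, rfl⟩ := hy
        exact Submodule.subset_span ⟨i, rfl⟩
      | zero => simp
      | add y z _ _ hy hz =>
        rw [map_add]
        exact Submodule.add_mem _ hy hz
      | smul a y _ hy =>
        have : (TensorProduct.mk R (R ⧸ nilradical R) M 1) (a • y) =
            (Ideal.Quotient.mk (nilradical R) a) • (TensorProduct.mk R (R ⧸ nilradical R) M 1) y := by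
          rw [map_smul]
          exact (IsScalarTower.algebraMap_smul (R ⧸ nilradical R) a _).symm
        rw [this]
        exact Submodule.smul_mem _ _ hy
    exact ⟨Module.Basis.mk hli hsp⟩
  · rintro ⟨b⟩
    choose m hm using fun i => hsurj (b i)
    have hm' : ∀ i, (1 : R ⧸ nilradical R) ⊗ₜ[R] m i = b i := hm
    refine ⟨m, ?_, ?_⟩
    · obtain ⟨k, hk⟩ := IsNoetherianRing.isNilpotent_nilradical R
      apply nak (nilradical R) k (by simpa using hk)
      rw [eq_top_iff]
      intro x _
      choose c hc using fun i => Ideal.Quotient.mk_surjective (b.repr ((1 : R ⧸ nilradical R) ⊗ₜ[R] x) i)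
      have h1 : (1 : R ⧸ nilradical R) ⊗ₜ[R] x = (1 : R ⧸ nilradical R) ⊗ₜ[R] (∑ i, c i • m i) := by
        rw [← sum_smul_one_tmul]
        conv_lhs => rw [← b.sum_repr ((1 : R ⧸ nilradical R) ⊗ₜ[R] x)]
        refine Finset.sum_congr rfl fun i _ => ?_
        rw [hc i, hm' i]
      have h2 : x - ∑ i, c i • m i ∈ nilradical R • (⊤ : Submodule R M) := by
        rw [← mk_one_eq_zero_iff, TensorProduct.tmul_sub, h1, sub_self]
      have h3 : x = (∑ i, c i • m i) + (x - ∑ i, c i • m i) := by abel
      rw [h3]
      refine Submodule.add_mem_sup ?_ h2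
      exact Submodule.sum_mem _ fun i _ => Submodule.smul_mem _ _ (Submodule.subset_span ⟨i, rfl⟩)
    · intro a ha i
      have h1 : (∑ i, (Ideal.Quotient.mk (nilradical R) (a i)) • b i) = 0 := by
        have := sum_smul_one_tmul (nilradical R) a m
        rw [ha, TensorProduct.tmul_zero] at this
        simpa [hm'] using this
      have h2 := Fintype.linearIndependent_iff.1 b.linearIndependent _ h1 i
      rw [Ideal.Quotient.eq_zero_iff_mem] at h2
      exact mem_nilradical.1 h2

end Groth.Agent.S14032
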