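import Groth.Statements.S14033
import Mathlib

set_option autoImplicit false
universe u v
open W4c1frobunstiva

namespace Groth.Agent.S14033

section Helpers
open DualNumber Pointwise

section
variable {R : Type u} [CommRing R] {M : Type v}
    [AddCommGroup M] [Module R[ε] M] [Module R M] [IsScalarTower R R[ε] M]

theorem smul_decomp (c : R[ε]) (x : M) :
    c • x = TrivSqZeroExt.fst c • x + TrivSqZeroExt.snd c • ((ε : R[ε]) • x) := by
  conv_lhs => rw [← TrivSqZeroExt.inl_fst_add_inr_snd_eq c]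
  rw [add_smul]
  congr 1
  · exact algebraMap_smul R[ε] (TrivSqZeroExt.fst c) x
  · rw [DualNumber.inr_eq_smul_eps, smul_assoc]

theorem mem_epsTop (x : M) : x ∈ (ε : R[ε]) • (⊤ : Submodule R[ε] M) ↔ ∃ y : M, (ε : R[ε]) • y = x := by
  rw [Submodule.mem_smul_pointwise_iff_exists]
  simp

theorem eps_eps_smul (x : M) : (ε : R[ε]) • ((ε : R[ε]) • x) = 0 := by
  rw [smul_smul, DualNumber.eps_mul_eps, zero_smul]

theorem eps_smul_comm (a : R) (x : M) : (ε : R[ε]) • (a • x) = a • ((ε : R[ε]) • x) :=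
  smul_comm _ _ _

end

section
variable {R : Type u} [CommRing R] {M : Type v}
    [AddCommGroup M] [Module R[ε] M] [Module R M] [IsScalarTower R R[ε] M]

theorem sum_decomp {r : ℕ} (g : Fin r → R[ε]) (e : Fin r → M) :
    ∑ i, g i • e i = ∑ i, TrivSqZeroExt.fst (g i) • e i +
      (ε : R[ε]) • ∑ i, TrivSqZeroExt.snd (g i) • e i := by
  rw [Finset.smul_sum, ← Finset.sum_add_distrib]
  refine Finset.sum_congr rfl fun i _ => ?_
  rw [smul_decomp, eps_smul_comm]

theorem criterion {r : ℕ} (e : Fin r → M)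
    (hgen : ∀ x : M, ∃ a : Fin r → R, x - ∑ i, a i • e i ∈ (ε : R[ε]) • (⊤ : Submodule R[ε] M))
    (hind : ∀ a : Fin r → R, ∑ i, a i • e i ∈ (ε : R[ε]) • (⊤ : Submodule R[ε] M) → a = 0)
    (hinj : ∀ x : M, (ε : R[ε]) • x = 0 → x ∈ (ε : R[ε]) • (⊤ : Submodule R[ε] M)) :
    LinearIndependent R[ε] e ∧ ⊤ ≤ Submodule.span R[ε] (Set.range e) := by
  constructor
  · rw [Fintype.linearIndependent_iff]
    intro g hg
    rw [sum_decomp] at hg
    have h1 : ∑ i, TrivSqZeroExt.fst (g i) • e i ∈ (ε : R[ε]) • (⊤ : Submodule R[ε] M) := by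
      rw [mem_epsTop]
      refine ⟨- ∑ i, TrivSqZeroExt.snd (g i) • e i, ?_⟩
      rw [smul_neg]
      exact (eq_neg_of_add_eq_zero_left hg).symm
    have h2 := hind _ h1
    have h3 : (ε : R[ε]) • ∑ i, TrivSqZeroExt.snd (g i) • e i = 0 := by
      have : ∑ i, TrivSqZeroExt.fst (g i) • e i = 0 := by
        refine Finset.sum_eq_zero fun i _ => ?_
        rw [congrFun h2 i]; simp
      rwa [this, zero_add] at hg
    have h4 := hind _ (hinj _ h3)
    intro i
    apply TrivSqZeroExt.ext
    · simpa using congrFun h2 i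
    · simpa using congrFun h4 i
  · intro x _
    obtain ⟨a, ha⟩ := hgen x
    rw [mem_epsTop] at ha
    obtain ⟨y, hy⟩ := ha
    obtain ⟨b, hb⟩ := hgen y
    rw [mem_epsTop] at hb
    obtain ⟨z, hz⟩ := hb
    have hR : ∀ (c : R) (s : M), s ∈ Submodule.span R[ε] (Set.range e) →
        c • s ∈ Submodule.span R[ε] (Set.range e) := by
      intro c s hs
      rw [← algebraMap_smul R[ε] c s]
      exact Submodule.smul_mem _ _ hs
    have hsum : ∀ c : Fin r → R, ∑ i, c i • e i ∈ Submodule.span R[ε] (Set.range e) := by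
      intro c
      exact Submodule.sum_mem _ fun i _ => hR _ _ (Submodule.subset_span ⟨i, rfl⟩)
    have hx : x = ∑ i, a i • e i + (ε : R[ε]) • ∑ i, b i • e i := by
      have hy' : y = ∑ i, b i • e i + (ε : R[ε]) • z := by rw [hz]; abel
      have hx' : x = ∑ i, a i • e i + (ε : R[ε]) • y := by rw [hy]; abel
      rw [hx', hy', smul_add, eps_eps_smul, add_zero]
    rw [hx]
    exact Submodule.add_mem _ (hsum a) (Submodule.smul_mem _ _ (hsum b))
end

section
variable {R : Type u} [CommRing R] {M : Type v}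
    [AddCommGroup M] [Module R[ε] M] [Module R M] [IsScalarTower R R[ε] M]

/-- multiplication by ε as an `R`-linear map `M ⧸ εM → εM`. -/
noncomputable def muMap : (M ⧸ ((ε : R[ε]) • (⊤ : Submodule R[ε] M))) →ₗ[R]
    (((ε : R[ε]) • (⊤ : Submodule R[ε] M)).restrictScalars R) :=
  (Submodule.liftQ ((((ε : R[ε]) • (⊤ : Submodule R[ε] M))).restrictScalars R)
    (LinearMap.codRestrict ((((ε : R[ε]) • (⊤ : Submodule R[ε] M))).restrictScalars R)
      ((LinearMap.lsmul R[ε] M (ε : R[ε])).restrictScalars R)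
      (fun x => by
        change (ε : R[ε]) • x ∈ (ε : R[ε]) • (⊤ : Submodule R[ε] M)
        rw [mem_epsTop]; exact ⟨x, rfl⟩))
    (by
      intro x hx
      have hx' : x ∈ (ε : R[ε]) • (⊤ : Submodule R[ε] M) := hx
      rw [mem_epsTop] at hx'
      obtain ⟨y, rfl⟩ := hx'
      rw [LinearMap.mem_ker]
      apply Subtype.ext
      change (ε : R[ε]) • ((ε : R[ε]) • y) = 0
      exact eps_eps_smul y)).comp
  (Submodule.Quotient.restrictScalarsEquiv R ((ε : R[ε]) • (⊤ : Submodule R[ε] M))).symm.toLinearMap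

theorem muMap_mk (x : M) :
    ((muMap (R := R) (M := M)) (Submodule.Quotient.mk x) : M) = (ε : R[ε]) • x := rfl

end

section
variable {R : Type u} [CommRing R] {M : Type v}
    [AddCommGroup M] [Module R[ε] M] [Module R M] [IsScalarTower R R[ε] M]

theorem mk_sum_smul {r : ℕ} (a : Fin r → R) (e : Fin r → M) :
    (Submodule.Quotient.mk (∑ i, a i • e i) : M ⧸ ((ε : R[ε]) • (⊤ : Submodule R[ε] M))) =
      ∑ i, a i • (Submodule.Quotient.mk (e i) : M ⧸ ((ε : R[ε]) • (⊤ : Submodule R[ε] M))) := by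
  have h : ∀ (a : R) (x : M), (Submodule.Quotient.mk (a • x) :
      M ⧸ ((ε : R[ε]) • (⊤ : Submodule R[ε] M))) = a • Submodule.Quotient.mk x := fun a x => rfl
  have h2 := map_sum ((ε : R[ε]) • (⊤ : Submodule R[ε] M)).mkQ (fun i => a i • e i) Finset.univ
  simp only [Submodule.mkQ_apply] at h2
  rw [h2]
  exact Finset.sum_congr rfl fun i _ => h _ _

theorem backward {r : ℕ}
    (bq : Module.Basis (Fin r) R (M ⧸ ((ε : R[ε]) • (⊤ : Submodule R[ε] M))))
    (bs : Module.Basis (Fin r) R (((ε : R[ε]) • (⊤ : Submodule R[ε] M)).restrictScalars R)) :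
    Nonempty (Module.Basis (Fin r) R[ε] M) := by
  choose e he using fun i => Submodule.Quotient.mk_surjective _ (bq i)
  have hmu_surj : Function.Surjective (muMap (R := R) (M := M)) := by
    rintro ⟨z, hz⟩
    have hz' : z ∈ (ε : R[ε]) • (⊤ : Submodule R[ε] M) := hz
    rw [mem_epsTop] at hz'
    obtain ⟨y, rfl⟩ := hz'
    exact ⟨Submodule.Quotient.mk y, Subtype.ext (muMap_mk y)⟩
  have : Module.Finite R (((ε : R[ε]) • (⊤ : Submodule R[ε] M)).restrictScalars R) :=
    Module.Finite.of_basis bs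
  have hmu_inj : Function.Injective (muMap (R := R) (M := M)) :=
    OrzechProperty.injective_of_surjective_of_injective
      (bq.equiv bs (Equiv.refl _)).toLinearMap _ (LinearEquiv.injective _) hmu_surj
  obtain ⟨hli, hsp⟩ := criterion (R := R) e
    (by
      intro x
      refine ⟨fun i => bq.repr (Submodule.Quotient.mk x) i, ?_⟩
      rw [← Submodule.Quotient.mk_eq_zero, Submodule.Quotient.mk_sub, mk_sum_smul, sub_eq_zero]
      simp only [he]
      exact (bq.sum_repr _).symm)
    (by
      intro a ha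
      rw [← Submodule.Quotient.mk_eq_zero, mk_sum_smul] at ha
      simp only [he] at ha
      funext i
      exact Fintype.linearIndependent_iff.1 bq.linearIndependent a ha i)
    (by
      intro x hx
      rw [← Submodule.Quotient.mk_eq_zero]
      apply hmu_inj
      rw [map_zero]
      exact Subtype.ext (by rw [muMap_mk]; exact hx))
  exact ⟨Module.Basis.mk hli hsp⟩
end

section
variable {R : Type u} [CommRing R] {M : Type v}
    [AddCommGroup M] [Module R[ε] M] [Module R M] [IsScalarTower R R[ε] M]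

theorem forward_q {r : ℕ} (e : Module.Basis (Fin r) R[ε] M) :
    Nonempty (Module.Basis (Fin r) R (M ⧸ ((ε : R[ε]) • (⊤ : Submodule R[ε] M)))) := by
  let v : Fin r → M ⧸ ((ε : R[ε]) • (⊤ : Submodule R[ε] M)) := fun i => Submodule.Quotient.mk (e i)
  have hli : LinearIndependent R v := by
    rw [Fintype.linearIndependent_iff]
    intro a ha
    change ∑ i, a i • (Submodule.Quotient.mk (e i) : M ⧸ ((ε : R[ε]) • (⊤ : Submodule R[ε] M))) = 0
      at ha
    rw [← mk_sum_smul, Submodule.Quotient.mk_eq_zero, mem_epsTop] at ha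
    obtain ⟨y, hy⟩ := ha
    intro i
    have h1 : ∑ j, a j • e j = ∑ j, (algebraMap R R[ε] (a j)) • e j :=
      Finset.sum_congr rfl fun j _ => (algebraMap_smul R[ε] (a j) (e j)).symm
    have h2 := congrArg (fun z => e.repr z i) hy
    simp only [map_smul, Finsupp.smul_apply, h1, e.repr_sum_self] at h2
    have h3 := congrArg TrivSqZeroExt.fst h2
    have h4 : TrivSqZeroExt.fst (algebraMap R R[ε] (a i)) = a i := rfl
    rw [← h4, ← h3]
    simp
  have hsp : ⊤ ≤ Submodule.span R (Set.range v) := by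
    intro q _
    obtain ⟨x, rfl⟩ := Submodule.Quotient.mk_surjective _ q
    obtain ⟨c, hx⟩ : ∃ c : Fin r → R[ε], x = ∑ i, c i • e i :=
      ⟨fun i => e.repr x i, (e.sum_repr x).symm⟩
    rw [sum_decomp] at hx
    have h1 : (Submodule.Quotient.mk x : M ⧸ ((ε : R[ε]) • (⊤ : Submodule R[ε] M))) =
        ∑ i, TrivSqZeroExt.fst (c i) • v i := by
      rw [← mk_sum_smul]
      rw [eq_comm, ← sub_eq_zero, ← Submodule.Quotient.mk_sub, Submodule.Quotient.mk_eq_zero,
        mem_epsTop]
      refine ⟨- ∑ i, TrivSqZeroExt.snd (c i) • e i, ?_⟩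
      rw [smul_neg, hx]
      abel
    rw [h1]
    exact Submodule.sum_mem _ fun i _ => Submodule.smul_mem _ _ (Submodule.subset_span ⟨i, rfl⟩)
  exact ⟨Module.Basis.mk hli hsp⟩

theorem forward_s {r : ℕ} (e : Module.Basis (Fin r) R[ε] M) :
    Nonempty (Module.Basis (Fin r) R
      (((ε : R[ε]) • (⊤ : Submodule R[ε] M)).restrictScalars R)) := by
  let w : Fin r → (((ε : R[ε]) • (⊤ : Submodule R[ε] M)).restrictScalars R) := fun i =>
    ⟨(ε : R[ε]) • e i, by
      change (ε : R[ε]) • e i ∈ (ε : R[ε]) • (⊤ : Submodule R[ε] M)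
      rw [mem_epsTop]; exact ⟨e i, rfl⟩⟩
  have hw : ∀ a : Fin r → R, ((∑ i, a i • w i : (((ε : R[ε]) • (⊤ : Submodule R[ε] M)).restrictScalars R)) : M) =
      (ε : R[ε]) • ∑ i, a i • e i := by
    intro a
    rw [Finset.smul_sum, Submodule.coe_sum]
    refine Finset.sum_congr rfl fun i _ => ?_
    rw [eps_smul_comm]
    rfl
  have hli : LinearIndependent R w := by
    rw [Fintype.linearIndependent_iff]
    intro a ha
    have h0 : (ε : R[ε]) • ∑ i, a i • e i = 0 := by
      rw [← hw, ha]; rfl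
    have h1 : ∑ j, a j • e j = ∑ j, (algebraMap R R[ε] (a j)) • e j :=
      Finset.sum_congr rfl fun j _ => (algebraMap_smul R[ε] (a j) (e j)).symm
    rw [h1, Finset.smul_sum] at h0
    simp only [smul_smul] at h0
    intro i
    have h2 := Fintype.linearIndependent_iff.1 e.linearIndependent _ h0 i
    have h3 := congrArg TrivSqZeroExt.snd h2
    have h4 : TrivSqZeroExt.fst (algebraMap R R[ε] (a i)) = a i := rfl
    rw [← h4]
    simpa using h3
  have hsp : ⊤ ≤ Submodule.span R (Set.range w) := by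
    rintro ⟨z, hz⟩ _
    have hz' : z ∈ (ε : R[ε]) • (⊤ : Submodule R[ε] M) := hz
    rw [mem_epsTop] at hz'
    obtain ⟨y, rfl⟩ := hz'
    obtain ⟨c, hy⟩ : ∃ c : Fin r → R[ε], y = ∑ i, c i • e i :=
      ⟨fun i => e.repr y i, (e.sum_repr y).symm⟩
    rw [sum_decomp] at hy
    have h1 : (⟨(ε : R[ε]) • y, hz⟩ : (((ε : R[ε]) • (⊤ : Submodule R[ε] M)).restrictScalars R)) =
        ∑ i, TrivSqZeroExt.fst (c i) • w i := by
      apply Subtype.ext
      rw [hw]
      change (ε : R[ε]) • y = _
      rw [hy, smul_add, eps_eps_smul, add_zero]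
    rw [h1]
    exact Submodule.sum_mem _ fun i _ => Submodule.smul_mem _ _ (Submodule.subset_span ⟨i, rfl⟩)
  exact ⟨Module.Basis.mk hli hsp⟩

end

end Helpers

open DualNumber Pointwise in
/-- Let R be a commutative ring, R[ε] its ring of dual numbers (ε² = 0), M an R[ε]-module and r a
natural number. Then M is free of rank r over R[ε] (admits a basis of r elements) if and only if the
R-modules M/εM and εM are both free of rank r. (The published statement concerns a coherent sheaf on
the product of a scheme S with Spec ℤ[ε] and local freeness of rank r; that assertion is local, and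
this row is its form over one ring, with no finiteness assumption on M and no hypothesis on R.) -/
theorem result (R : Type u) [CommRing R] (M : Type v)
    [AddCommGroup M] [Module R[ε] M] [Module R M] [IsScalarTower R R[ε] M] (r : ℕ) :
    Nonempty (Module.Basis (Fin r) R[ε] M) ↔
      (Nonempty (Module.Basis (Fin r) R (M ⧸ ((ε : R[ε]) • (⊤ : Submodule R[ε] M)))) ∧
        Nonempty (Module.Basis (Fin r) R (((ε : R[ε]) • (⊤ : Submodule R[ε] M)).restrictScalars R))) := by
  constructor
  · rintro ⟨e⟩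
    exact ⟨forward_q e, forward_s e⟩
  · rintro ⟨⟨bq⟩, ⟨bs⟩⟩
    exact backward bq bs

end Groth.Agent.S14033
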