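import Groth.Statements.S14034
import Mathlib

set_option autoImplicit false
universe u
open W4c1frobunstiva

namespace Groth.Agent.S14034

section StageA
variable {R : Type u} [CommRing R] [IsNoetherianRing R] [IsLocalRing R]

/-- A surjection from a finite free module onto `R^s` over a Noetherian local ring has a free
kernel of the expected rank, and the kernel is a retract. -/
theorem exists_basis_ker_of_surjective {P : Type u} [AddCommGroup P] [Module R P] [Module.Free R P]
    [Module.Finite R P] (s : ℕ) (Ψ : P →ₗ[R] (Fin s → R)) (hΨ : Function.Surjective Ψ) :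
    ∃ (ρ : P →ₗ[R] LinearMap.ker Ψ), (∀ k : LinearMap.ker Ψ, ρ k = k) ∧
      Nonempty (Module.Basis (Fin (Module.finrank R P - s)) R (LinearMap.ker Ψ)) := by
  obtain ⟨σ, hσ⟩ := Module.projective_lifting_property Ψ LinearMap.id hΨ
  have hσ' : ∀ v, Ψ (σ v) = v := fun v => LinearMap.congr_fun hσ v
  let ρ : P →ₗ[R] LinearMap.ker Ψ := LinearMap.codRestrict (LinearMap.ker Ψ)
    (LinearMap.id - σ.comp Ψ) (fun x => by
      rw [LinearMap.mem_ker]
      simp [hσ'])
  have hρ : ∀ k : LinearMap.ker Ψ, ρ k = k := by
    intro k
    apply Subtype.ext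
    have hk : Ψ (k : P) = 0 := k.2
    simp [ρ, hk]
  have hproj : Module.Projective R (LinearMap.ker Ψ) :=
    Module.Projective.of_split (LinearMap.ker Ψ).subtype ρ (LinearMap.ext hρ)
  have hfree : Module.Free R (LinearMap.ker Ψ) := Module.free_of_flat_of_isLocalRing
  let e : P ≃ₗ[R] (LinearMap.ker Ψ × (Fin s → R)) :=
    LinearEquiv.ofLinearMap (ρ.prod Ψ) ((LinearMap.ker Ψ).subtype.coprod σ)
      (by
        apply LinearMap.ext
        rintro ⟨k, v⟩
        have hk : Ψ (k : P) = 0 := k.2
        apply Prod.ext
        · apply Subtype.ext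
          simp [ρ, hk, hσ']
        · simp [hk, hσ'])
      (by
        apply LinearMap.ext
        intro x
        simp [ρ])
  have hrank : Module.finrank R P = Module.finrank R (LinearMap.ker Ψ) + s := by
    rw [e.finrank_eq, Module.finrank_prod, Module.finrank_fin_fun]
  have hd : Module.finrank R (LinearMap.ker Ψ) = Module.finrank R P - s := by omega
  exact ⟨ρ, hρ, ⟨(Module.finBasis R (LinearMap.ker Ψ)).reindex (finCongr hd)⟩⟩

end StageA


section StageB
variable {R : Type u} [CommRing R] [IsNoetherianRing R] [IsLocalRing R]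

theorem gen (r s l : ℕ) (W : Submodule R (Fin s → R)) (γ : (Fin l → R) →ₗ[R] (Fin s → R))
    (hγW : ∀ v, v ∈ W ↔ ∃ y, γ y = v) (hnil : ∀ y, γ y = 0 → ∀ i, IsNilpotent (y i))
    (φ : (Fin r → R) →ₗ[R] ((Fin s → R) ⧸ W)) (hφ : Function.Surjective φ) :
    W4c1frobunstiva.IsNRFree R (LinearMap.ker φ) (r + l - s) ∧
      (l = 0 → Nonempty (Module.Basis (Fin (r - s)) R (LinearMap.ker φ))) := by
  obtain ⟨ψ, hψ⟩ := Module.projective_lifting_property W.mkQ φ (Submodule.mkQ_surjective W)
  have hψ' : ∀ x, (Submodule.Quotient.mk (ψ x) : (Fin s → R) ⧸ W) = φ x :=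
    fun x => LinearMap.congr_fun hψ x
  let Ψ : ((Fin r → R) × (Fin l → R)) →ₗ[R] (Fin s → R) := ψ.coprod γ
  have hΨapp : ∀ z, Ψ z = ψ z.1 + γ z.2 := fun z => LinearMap.coprod_apply _ _ _
  have hΨ : Function.Surjective Ψ := by
    intro v
    obtain ⟨x, hx⟩ := hφ (Submodule.Quotient.mk v)
    have h1 : v - ψ x ∈ W := by
      rw [← Submodule.Quotient.mk_eq_zero, Submodule.Quotient.mk_sub, hψ' x, hx, sub_self]
    obtain ⟨y, hy⟩ := (hγW _).1 h1
    refine ⟨(x, y), ?_⟩
    rw [hΨapp, hy]
    abel
  obtain ⟨ρ, hρ, ⟨b⟩⟩ := exists_basis_ker_of_surjective s Ψ hΨ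
  have hfr : Module.finrank R ((Fin r → R) × (Fin l → R)) = r + l := by
    rw [Module.finrank_prod, Module.finrank_fin_fun, Module.finrank_fin_fun]
  rw [hfr] at b
  have hker : ∀ k : LinearMap.ker Ψ, ψ (k : (Fin r → R) × (Fin l → R)).1 +
      γ (k : (Fin r → R) × (Fin l → R)).2 = 0 := by
    intro k
    have := k.2
    rw [LinearMap.mem_ker, hΨapp] at this
    exact this
  -- projection to ker φ
  have hπ : ∀ k : LinearMap.ker Ψ, (k : (Fin r → R) × (Fin l → R)).1 ∈ LinearMap.ker φ := by
    intro k
    rw [LinearMap.mem_ker, ← hψ', Submodule.Quotient.mk_eq_zero, hγW]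
    refine ⟨- (k : (Fin r → R) × (Fin l → R)).2, ?_⟩
    rw [map_neg]
    exact (eq_neg_of_add_eq_zero_left (hker k)).symm
  let π₁ : LinearMap.ker Ψ →ₗ[R] LinearMap.ker φ :=
    LinearMap.codRestrict (LinearMap.ker φ)
      ((LinearMap.fst R (Fin r → R) (Fin l → R)).comp (LinearMap.ker Ψ).subtype) hπ
  have hπ₁ : ∀ k : LinearMap.ker Ψ, ((π₁ k : LinearMap.ker φ) : Fin r → R) =
      (k : (Fin r → R) × (Fin l → R)).1 := fun k => rfl
  have hπsurj : Function.Surjective π₁ := by
    rintro ⟨x, hx⟩
    rw [LinearMap.mem_ker, ← hψ', Submodule.Quotient.mk_eq_zero, hγW] at hx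
    obtain ⟨y, hy⟩ := hx
    have hmem : ((x, -y) : (Fin r → R) × (Fin l → R)) ∈ LinearMap.ker Ψ := by
      rw [LinearMap.mem_ker, hΨapp]
      simp [hy]
    exact ⟨⟨(x, -y), hmem⟩, Subtype.ext rfl⟩
  constructor
  · refine ⟨fun j => π₁ (b j), ?_, ?_⟩
    · have : (Set.range fun j => π₁ (b j)) = π₁ '' Set.range b := by
        rw [← Set.range_comp]; rfl
      rw [this, Submodule.span_image, b.span_eq, Submodule.map_top, LinearMap.range_eq_top]
      exact hπsurj
    · intro a ha
      set k : LinearMap.ker Ψ := ∑ j, a j • b j with hk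
      have hπk : π₁ k = 0 := by
        rw [hk, map_sum]
        simp only [map_smul]
        exact ha
      have hk1 : (k : (Fin r → R) × (Fin l → R)).1 = 0 := by
        rw [← hπ₁ k, hπk]; rfl
      have hγk : γ (k : (Fin r → R) × (Fin l → R)).2 = 0 := by
        have := hker k
        rwa [hk1, map_zero, zero_add] at this
      have hy := hnil _ hγk
      have hkeq : (k : (Fin r → R) × (Fin l → R)) =
          LinearMap.inr R (Fin r → R) (Fin l → R) (k : (Fin r → R) × (Fin l → R)).2 := by
        apply Prod.ext
        · simpa using hk1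
        · simp
      have hk2 : k = ∑ i, (k : (Fin r → R) × (Fin l → R)).2 i •
          (ρ.comp (LinearMap.inr R (Fin r → R) (Fin l → R))) (fun j => if i = j then 1 else 0) := by
        rw [← LinearMap.pi_apply_eq_sum_univ, LinearMap.comp_apply, ← hkeq, hρ]
      intro j
      have haj : a j = b.repr k j := by
        rw [hk, b.repr_sum_self]
      rw [haj, hk2, map_sum, Finsupp.finsetSum_apply, ← mem_nilradical]
      refine Ideal.sum_mem _ fun i _ => ?_
      rw [map_smul, Finsupp.smul_apply, smul_eq_mul]
      exact Ideal.mul_mem_right _ _ (mem_nilradical.2 (hy i))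
  · intro hl
    subst hl
    have hπinj : Function.Injective π₁ := by
      intro k k' hkk
      apply Subtype.ext
      apply Prod.ext
      · rw [← hπ₁ k, ← hπ₁ k', hkk]
      · exact Subsingleton.elim _ _
    let e : LinearMap.ker Ψ ≃ₗ[R] LinearMap.ker φ := LinearEquiv.ofBijective π₁ ⟨hπinj, hπsurj⟩
    exact ⟨(b.map e).reindex (finCongr (by omega))⟩
end StageB

/-- Let R be a Noetherian local ring and f an element of R whose annihilator consists of nilpotent
elements (a f = 0 forces a nilpotent), r, s and l ≤ s natural numbers, N the quotient of the free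
module R^s by the submodule spanned by f e_1, …, f e_l (e_i the standard basis vectors), and φ : R^r
→ N a surjective linear map. Then the kernel of φ is NR-free of rank r + l − s: it is generated by r
+ l − s elements every linear relation among which has nilpotent coefficients; and when l = 0 the
kernel is free of rank r − s. (The published statement takes R Noetherian with irreducible spectrum
and R_red a domain, not necessarily local, and f arbitrary. Over the coordinate ring of the real
2-sphere the kernel of (x, y, z) : R³ → R is not free, and over k[x, y]/(y², xy) localised at (x, y)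
with f = y the kernel of R → R/(y) is spanned by y with the non-nilpotent relation x·y = 0. The
published argument uses that the kernel of a surjection of free modules is free, true over a local
ring, and that a f = 0 forces a nilpotent, which is the hypothesis taken here; it holds when R_red
is a domain and f is not nilpotent, and also for f = ε in A[ε] with A a domain, so primality of the
nilradical is not assumed.) -/
theorem result (R : Type u)
    [CommRing R] [IsNoetherianRing R] [IsLocalRing R] (f : R)
    (hann : ∀ a : R, a * f = 0 → IsNilpotent a) (r s l : ℕ) (hls : l ≤ s)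
    (φ : (Fin r → R) →ₗ[R]
      ((Fin s → R) ⧸ Submodule.span R (Set.range fun i : Fin l => (Pi.single (Fin.castLE hls i) f : Fin s → R))))
    (hφ : Function.Surjective φ) :
    W4c1frobunstiva.IsNRFree R (LinearMap.ker φ) (r + l - s) ∧
      (l = 0 → Nonempty (Module.Basis (Fin (r - s)) R (LinearMap.ker φ))) := by
  refine gen r s l _ (Fintype.linearCombination R
    (fun i : Fin l => (Pi.single (Fin.castLE hls i) f : Fin s → R))) ?_ ?_ φ hφ
  · intro v
    rw [Submodule.mem_span_range_iff_exists_fun]
    simp only [Fintype.linearCombination_apply]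
  · intro y hy i₀
    apply hann
    rw [Fintype.linearCombination_apply] at hy
    have h1 := congrFun hy (Fin.castLE hls i₀)
    rw [Finset.sum_apply, Finset.sum_eq_single i₀] at h1
    · simpa using h1
    · intro i _ hne
      have : Fin.castLE hls i ≠ Fin.castLE hls i₀ := fun h => hne (Fin.castLE_injective hls h)
      simp [this.symm]
    · intro h; exact absurd (Finset.mem_univ _) h

end Groth.Agent.S14034
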