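import Groth.Statements.S14035
import Mathlib

set_option autoImplicit false
universe u v
open W4c1frobunstiva

namespace Groth.Agent.S14035

open TensorProduct in
/-- Let A → B be a ring homomorphism with B Noetherian. If B modulo its nilradical is flat over A and
every fibre ring κ(p) ⊗_A B, p a prime of A, is reduced, then B is reduced. (This is the affine form
of the statement for a morphism of schemes X → Y all of whose fibres are reduced and whose
restriction to the reduced closed subscheme X_red is flat. The published statement does not say X is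
locally Noetherian, but its proof applies Nakayama's lemma to the nilradical as a finitely generated
ideal; without it the square-zero extension of a discrete valuation ring A by Frac(A)/A is a
counterexample.) -/
theorem result (A : Type u) (B : Type v)
    [CommRing A] [CommRing B] [Algebra A B] [IsNoetherianRing B]
    [Module.Flat A (B ⧸ nilradical B)]
    (hfib : ∀ p : PrimeSpectrum A, IsReduced (p.asIdeal.ResidueField ⊗[A] B)) :
    IsReduced B := by
  set N : Ideal B := nilradical B with hN
  -- Step 1: κ(p) ⊗_A N = 0 for every prime p of A
  have step1 : ∀ p : PrimeSpectrum A, Subsingleton (p.asIdeal.ResidueField ⊗[A] N) := by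
    intro p
    have := hfib p
    let g : N →ₗ[A] B := (N.subtype).restrictScalars A
    let f : B →ₗ[A] (B ⧸ N) := (Ideal.Quotient.mkₐ A N).toLinearMap
    have hf : Function.Surjective f := Ideal.Quotient.mk_surjective
    have hg : Function.Injective g := Subtype.val_injective
    have hex : Function.Exact g f := by
      intro b
      change Ideal.Quotient.mk N b = 0 ↔ _
      rw [Ideal.Quotient.eq_zero_iff_mem]
      constructor
      · intro hb; exact ⟨⟨b, hb⟩, rfl⟩
      · rintro ⟨n, rfl⟩; exact n.2
    have hinj : Function.Injective (g.lTensor p.asIdeal.ResidueField) :=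
      LinearMap.lTensor_injective_of_exact_of_flat f hf g hg hex _
    have hnil : ∀ t : p.asIdeal.ResidueField ⊗[A] N,
        g.lTensor p.asIdeal.ResidueField t ∈ nilradical (p.asIdeal.ResidueField ⊗[A] B) := by
      intro t
      induction t using TensorProduct.induction_on with
      | zero => rw [map_zero]; exact Ideal.zero_mem _
      | tmul c n =>
        rw [LinearMap.lTensor_tmul, mem_nilradical]
        obtain ⟨k, hk⟩ : IsNilpotent (n : B) := mem_nilradical.1 n.2
        refine ⟨k, ?_⟩
        change (c ⊗ₜ[A] (n : B)) ^ k = 0
        rw [Algebra.TensorProduct.tmul_pow, hk, tmul_zero]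
      | add x y hx hy => rw [map_add]; exact Ideal.add_mem _ hx hy
    refine ⟨fun t t' => hinj ?_⟩
    have h0 : ∀ t, g.lTensor p.asIdeal.ResidueField t = 0 := by
      intro t
      have := hnil t
      rwa [nilradical_eq_zero, Ideal.zero_eq_bot, Ideal.mem_bot] at this
    rw [h0 t, h0 t']
  -- Step 2: κ(q) ⊗_B N = 0 for every prime q of B
  have step2 : ∀ q : PrimeSpectrum B, Subsingleton (q.asIdeal.ResidueField ⊗[B] N) := by
    intro q
    let p : PrimeSpectrum A := PrimeSpectrum.comap (algebraMap A B) q
    have := step1 p
    let ι : p.asIdeal.ResidueField →ₐ[A] q.asIdeal.ResidueField :=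
      Ideal.ResidueField.mapₐ p.asIdeal q.asIdeal (Algebra.ofId A B) rfl
    -- the A-bilinear map
    let β : p.asIdeal.ResidueField →ₗ[A] N →ₗ[A] (q.asIdeal.ResidueField ⊗[B] N) :=
      LinearMap.mk₂ A (fun c n => (ι c) ⊗ₜ[B] n)
        (fun c c' n => by rw [map_add, add_tmul])
        (fun a c n => by rw [map_smul, smul_tmul'])
        (fun c n n' => by rw [tmul_add])
        (fun a c n => by
          rw [← algebraMap_smul B a n, tmul_smul, algebraMap_smul])
    let Φ := TensorProduct.lift β
    have h1 : ∀ n : N, (1 : q.asIdeal.ResidueField) ⊗ₜ[B] n = 0 := by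
      intro n
      have : Φ ((1 : p.asIdeal.ResidueField) ⊗ₜ[A] n) = (1 : q.asIdeal.ResidueField) ⊗ₜ[B] n := by
        simp [Φ, β]
      rw [← this, Subsingleton.elim ((1 : p.asIdeal.ResidueField) ⊗ₜ[A] n) 0, map_zero]
    refine ⟨fun t t' => ?_⟩
    have h0 : ∀ t : q.asIdeal.ResidueField ⊗[B] N, t = 0 := by
      intro t
      induction t using TensorProduct.induction_on with
      | zero => rfl
      | tmul c n =>
        have : c ⊗ₜ[B] n = c • ((1 : q.asIdeal.ResidueField) ⊗ₜ[B] n) := by
          rw [smul_tmul', smul_eq_mul, mul_one]
        rw [this, h1, smul_zero]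
      | add x y hx hy => rw [hx, hy, add_zero]
    rw [h0 t, h0 t']
  -- Step 3: N = 0
  have hfin : Module.Finite B N := inferInstance
  have hsupp : Module.support B N = ∅ := by
    rw [Set.eq_empty_iff_forall_notMem]
    intro q hq
    rw [Module.mem_support_iff_nontrivial_residueField_tensorProduct] at hq
    exact not_subsingleton _ (step2 q)
  have hsub : Subsingleton N := Module.support_eq_empty_iff.1 hsupp
  constructor
  intro x hx
  have hxN : x ∈ N := mem_nilradical.2 hx
  have := Subsingleton.elim (⟨x, hxN⟩ : N) 0
  exact congrArg Subtype.val this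

end Groth.Agent.S14035
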