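import Groth.Statements.S14039
import Mathlib

set_option autoImplicit false
open W4c1frobunstiva

namespace Groth.Agent.S14039


open PowerSeries in
theorem main (m d s : ℕ) :
    (Fintype.card {e : Fin (d + 1) → Fin (m + 1) // (∀ i, 1 ≤ (e i : ℕ)) ∧ ∑ i, (e i : ℕ) = s} : ℤ) =
      ∑ i ∈ Finset.range (d + 1 + 1),
        (-1 : ℤ) ^ i * ((d + 1).choose i : ℤ) *
          (if i * m + (d + 1) ≤ s then (((s - i * m - 1).choose d : ℕ) : ℤ) else 0) := by
  obtain ⟨T, hT⟩ : ∃ T : Finset (Fin (m + 1)),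
      T = Finset.univ.filter (fun k : Fin (m + 1) => 1 ≤ (k : ℕ)) := ⟨_, rfl⟩
  obtain ⟨H, hH⟩ : ∃ H : ℤ⟦X⟧, H = ∑ k ∈ T, (X : ℤ⟦X⟧) ^ (k : ℕ) := ⟨_, rfl⟩
  have h1 : H * (1 - X) = X * (1 - X ^ m) := by
    have hH' : H = X * ∑ k ∈ Finset.range m, (X : ℤ⟦X⟧) ^ k := by
      rw [hH, hT, Finset.sum_filter,
        Fin.sum_univ_eq_sum_range (fun k => if 1 ≤ k then (X : ℤ⟦X⟧) ^ k else 0) (m + 1),
        Finset.sum_range_succ', Finset.mul_sum]
      beta_reduce
      have e0 : (if 1 ≤ 0 then (X : ℤ⟦X⟧) ^ 0 else 0) = 0 := if_neg (by norm_num)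
      rw [e0, add_zero]
      refine Finset.sum_congr rfl fun k _ => ?_
      rw [if_pos (Nat.le_add_left 1 k), pow_succ']
    rw [hH', mul_assoc, mul_comm _ (1 - X), mul_neg_geom_sum]
  have h2 : coeff s (H ^ (d + 1)) =
      (Fintype.card {e : Fin (d + 1) → Fin (m + 1) //
        (∀ i, 1 ≤ (e i : ℕ)) ∧ ∑ i, (e i : ℕ) = s} : ℤ) := by
    have hpow : H ^ (d + 1) = ∏ _i : Fin (d + 1), H := by
      rw [Finset.prod_const, Finset.card_univ, Fintype.card_fin]
    rw [hpow, hH, Finset.prod_univ_sum, map_sum]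
    simp only [Finset.prod_pow_eq_pow_sum, coeff_X_pow]
    rw [Finset.sum_boole]
    congr 1
    rw [eq_comm]
    refine Fintype.card_of_subtype _ fun e => ?_
    simp only [Finset.mem_filter, Fintype.mem_piFinset, hT, Finset.mem_univ, true_and]
    constructor
    · rintro ⟨h, h'⟩; exact ⟨h, h'.symm⟩
    · rintro ⟨h, h'⟩; exact ⟨h, h'.symm⟩
  have hinv : (mk 1 : ℤ⟦X⟧) * (1 - X) = 1 := mk_one_mul_one_sub_eq_one ℤ
  have h3 : H ^ (d + 1) = X ^ (d + 1) * ((1 - X ^ m) ^ (d + 1) * (mk 1) ^ (d + 1)) := by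
    have e1 : H ^ (d + 1) = (H * (1 - X)) ^ (d + 1) * (mk 1) ^ (d + 1) := by
      rw [← mul_pow, mul_assoc, mul_comm (1 - X) (mk 1), hinv, _root_.mul_one]
    rw [e1, h1, mul_pow, mul_assoc]
  have h4 : ((1 : ℤ⟦X⟧) - X ^ m) ^ (d + 1) =
      ∑ i ∈ Finset.range (d + 1 + 1), C ((-1) ^ i * ((d + 1).choose i : ℤ)) * X ^ (m * i) := by
    rw [sub_eq_neg_add, add_pow]
    refine Finset.sum_congr rfl fun i _ => ?_
    have hC : (C ((-1) ^ i * ((d + 1).choose i : ℤ)) : ℤ⟦X⟧) =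
        (-1) ^ i * ((d + 1).choose i : ℤ⟦X⟧) := by
      simp
    rw [hC, neg_pow ((X : ℤ⟦X⟧) ^ m) i, ← pow_mul, one_pow]
    ring
  have hMK : (mk 1 : ℤ⟦X⟧) ^ (d + 1) = mk fun j => ((d + j).choose d : ℤ) :=
    mk_one_pow_eq_mk_choose_add ℤ d
  have hterm : ∀ (c : ℤ) (j t : ℕ) (f : ℕ → ℤ),
      coeff t ((C c * X ^ j) * mk f) = if j ≤ t then c * f (t - j) else 0 := by
    intro c j t f
    rw [mul_assoc, coeff_C_mul, coeff_X_pow_mul', coeff_mk]
    split_ifs <;> simp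
  rw [← h2, h3, coeff_X_pow_mul', h4, hMK, Finset.sum_mul, map_sum]
  simp only [hterm]
  by_cases hns : d + 1 ≤ s
  · rw [if_pos hns]
    refine Finset.sum_congr rfl fun i _ => ?_
    obtain ⟨q, hq⟩ : ∃ q, q = m * i := ⟨_, rfl⟩
    rw [← hq, Nat.mul_comm i m, ← hq]
    by_cases h : q ≤ s - (d + 1)
    · rw [if_pos h, if_pos (by omega)]
      have : d + (s - (d + 1) - q) = s - q - 1 := by omega
      rw [this]
    · rw [if_neg h, if_neg (by omega), mul_zero]
  · rw [if_neg hns]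
    refine (Finset.sum_eq_zero fun i _ => ?_).symm
    rw [if_neg (by omega), mul_zero]

/-- For natural numbers p, n ≥ 1 and s, the number of monomials of degree s in n variables in which
every variable occurs with a positive exponent strictly less than p — that is, of exponent vectors
(e_1, …, e_n) with sum s and 1 ≤ e_i ≤ p − 1 — equals the inclusion–exclusion sum over i from 0 to n
of (−1)^i · C(n, i) · C(s − i(p − 1) − 1, n − 1), the last factor counting monomials of degree s −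
i(p − 1) − n in n variables and read as 0 when s < i(p − 1) + n. (A companion count, by how many
exponents lie below p/2, and a remark on polynomiality in s and p are not part of this row.) -/
theorem result (p n s : ℕ)
    (hn : 1 ≤ n) :
    (Fintype.card {e : Fin n → Fin p // (∀ i, 1 ≤ (e i : ℕ)) ∧ ∑ i, (e i : ℕ) = s} : ℤ) =
      ∑ i ∈ Finset.range (n + 1),
        (-1 : ℤ) ^ i * (n.choose i : ℤ) *
          (if i * (p - 1) + n ≤ s then (((s - i * (p - 1) - 1).choose (n - 1) : ℕ) : ℤ) else 0) := by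
  by_cases hp : p ≤ 1
  · have hL : Fintype.card {e : Fin n → Fin p //
        (∀ i, 1 ≤ (e i : ℕ)) ∧ ∑ i, (e i : ℕ) = s} = 0 := by
      rw [Fintype.card_eq_zero_iff]
      refine ⟨fun ⟨e, h1, _⟩ => ?_⟩
      have h2 := h1 ⟨0, hn⟩
      have h3 := (e ⟨0, hn⟩).isLt
      omega
    have hp1 : p - 1 = 0 := by omega
    rw [hL, hp1]
    simp only [mul_zero, zero_add, Nat.sub_zero, Nat.cast_zero]
    rw [← Finset.sum_mul, Int.alternating_sum_range_choose_of_ne (by omega), zero_mul]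
  · obtain ⟨m, rfl⟩ : ∃ m, p = m + 1 := ⟨p - 1, by omega⟩
    obtain ⟨d, rfl⟩ : ∃ d, n = d + 1 := ⟨n - 1, by omega⟩
    simp only [Nat.add_sub_cancel]
    exact main m d s

end Groth.Agent.S14039
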