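import Groth.Statements.S1404
import Mathlib
import Groth.Agent.Lib.Helper8.EssLocBridge

set_option autoImplicit false
universe u
open FlatMor

namespace Groth.Agent.S1404

/-- Let A → B be an injective local homomorphism of local domains with B essentially of finite type over
A, and g an element of the maximal ideal of B lying in no minimal prime over m_A B. Assume dim(B /
m_A B) + trdeg_{κ(A)} κ(B) = trdeg_A B (with all three finite). Then A → B/gB is injective. -/
theorem result {A B : Type u} [CommRing A] [CommRing B] [IsDomain A] [IsDomain B] [IsLocalRing A] [IsLocalRing B]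
    [Algebra A B] [IsLocalHom (algebraMap A B)] [FaithfulSMul A B] [Algebra.EssFiniteType A B]
    (g : B) (hg : g ∈ IsLocalRing.maximalIdeal B)
    (hmin : ∀ q ∈ (Ideal.map (algebraMap A B) (IsLocalRing.maximalIdeal A)).minimalPrimes, g ∉ q)
    (d e : ℕ) (hd : ringKrullDim (B ⧸ Ideal.map (algebraMap A B) (IsLocalRing.maximalIdeal A)) = d)
    (he : Algebra.trdeg (IsLocalRing.ResidueField A) (IsLocalRing.ResidueField B) = e) (hsum : Algebra.trdeg A B = (d + e : ℕ)) :
    Function.Injective (algebraMap A (B ⧸ Ideal.span {g})) := by
  haveI hloc := Groth.Agent.Lib.Helper8.EssLocDim.isLocalization_atPrime_essFiniteType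
    (A := A) (B := B)
  exact Groth.Agent.Lib.Helper8.EssLocBridge.injective_algebraMap_quotient_span
    (C := Algebra.EssFiniteType.subalgebra A B)
    ((IsLocalRing.maximalIdeal B).comap (algebraMap (Algebra.EssFiniteType.subalgebra A B) B))
    g hg hmin d e hd he hsum

end Groth.Agent.S1404
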