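import Groth.Statements.S14040
import Mathlib
import Groth.Agent.S14035

set_option autoImplicit false
universe u v
open W4c1frobunstiva

namespace Groth.Agent.S14040

open TensorProduct in
/-- Let A be a discrete valuation ring and B a Noetherian A-algebra such that the nilradical of B is
prime and meets the image of A only in 0 — the spectrum of B is irreducible and its generic point
lies over the generic point of A. If every fibre ring κ(p) ⊗_A B, p a prime of A, is reduced, then B
is reduced and flat over A. (Affine form of the statement for a dominant morphism from an
irreducible scheme to the spectrum of a discrete valuation ring with reduced fibres. The published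
statement also covers a scheme that is already reduced and does not assume it locally Noetherian;
this row treats reduced fibres with B Noetherian, without which the square-zero extension A ⊕
Frac(A)/A is a counterexample.) -/
theorem result (A : Type u) [CommRing A]
    [IsDomain A] [IsDiscreteValuationRing A] (B : Type v) [CommRing B] [Algebra A B]
    [IsNoetherianRing B] (hirr : (nilradical B).IsPrime)
    (hdom : (nilradical B).comap (algebraMap A B) = ⊥)
    (hfib : ∀ p : PrimeSpectrum A, IsReduced (p.asIdeal.ResidueField ⊗[A] B)) :
    IsReduced B ∧ Module.Flat A B := by
  have htf : Module.IsTorsionFree A (B ⧸ nilradical B) := by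
    apply Module.IsTorsionFree.of_smul_eq_zero
    intro r m hrm
    obtain ⟨b, rfl⟩ := Ideal.Quotient.mk_surjective m
    have h1 : Ideal.Quotient.mk (nilradical B) (algebraMap A B r * b) = 0 := by
      rw [← hrm, Algebra.smul_def, map_mul]; rfl
    rw [Ideal.Quotient.eq_zero_iff_mem] at h1
    rcases hirr.mem_or_mem h1 with h | h
    · left
      have : r ∈ (nilradical B).comap (algebraMap A B) := h
      rwa [hdom, Ideal.mem_bot] at this
    · right
      exact Ideal.Quotient.eq_zero_iff_mem.2 h
  have hflat : Module.Flat A (B ⧸ nilradical B) := inferInstance
  have hred : IsReduced B := Groth.Agent.S14035.result A B hfib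
  refine ⟨hred, ?_⟩
  have hN : nilradical B = ⊥ := nilradical_eq_zero B
  have htf' : Module.IsTorsionFree A B := by
    apply Module.IsTorsionFree.of_smul_eq_zero
    intro r b hrb
    have h1 : algebraMap A B r * b ∈ nilradical B := by
      rw [← Algebra.smul_def, hrb]; exact Ideal.zero_mem _
    rcases hirr.mem_or_mem h1 with h | h
    · left
      have : r ∈ (nilradical B).comap (algebraMap A B) := h
      rwa [hdom, Ideal.mem_bot] at this
    · right
      rwa [hN, Ideal.mem_bot] at h
  infer_instance

end Groth.Agent.S14040
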