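import Groth.Statements.S14043
import Mathlib
import Groth.Agent.S14032

set_option autoImplicit false
universe u v
open W4c1frobunstiva

namespace Groth.Agent.S14043

open TensorProduct in
theorem span_one_tmul {R : Type u} [CommRing R] {M : Type v} [AddCommGroup M] [Module R M]
    (I : Ideal R) {r : ℕ} (m : Fin r → M) (hm : Submodule.span R (Set.range m) = ⊤) :
    ⊤ ≤ Submodule.span (R ⧸ I) (Set.range fun i => (1 : R ⧸ I) ⊗ₜ[R] m i) := by
  rintro t -
  obtain ⟨x, rfl⟩ := TensorProduct.mk_surjective R M (R ⧸ I) Ideal.Quotient.mk_surjective t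
  have hx : x ∈ Submodule.span R (Set.range m) := by rw [hm]; trivial
  induction hx using Submodule.span_induction with
  | mem y hy =>
    obtain ⟨i, rfl⟩ := hy
    exact Submodule.subset_span ⟨i, rfl⟩
  | zero => simp
  | add y z _ _ hy hz =>
    rw [map_add]
    exact Submodule.add_mem _ hy hz
  | smul a y _ hy =>
    have : (TensorProduct.mk R (R ⧸ I) M 1) (a • y) =
        (Ideal.Quotient.mk I a) • (TensorProduct.mk R (R ⧸ I) M 1) y := by
      rw [map_smul]
      exact (IsScalarTower.algebraMap_smul (R ⧸ I) a _).symm
    rw [this]
    exact Submodule.smul_mem _ _ hy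

open TensorProduct in
/-- Let R be a commutative Noetherian ring, M an R-module that is NR-free of rank r — generated by some
r elements all of whose linear relations have nilpotent coefficients — and m, m' two generating
families of M, each indexed by the same finite set of size r. Then some invertible r × r matrix T
over R expresses m' in terms of m, m'_j = Σ_i T_{ji} m_i; reducing modulo the nilradical n, such a T
induces the change-of-basis matrix between the bases of M/nM given by the images of m and m' (an
r-element generating family of M is itself an NR-basis), so only the existence of an invertible T is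
asserted here. (T is not unique.) -/
theorem result (R : Type u) [CommRing R]
    [IsNoetherianRing R] (M : Type v) [AddCommGroup M] [Module R M] (r : ℕ)
    (hM : W4c1frobunstiva.IsNRFree R M r) (m m' : Fin r → M)
    (hm : Submodule.span R (Set.range m) = ⊤) (hm' : Submodule.span R (Set.range m') = ⊤) :
    ∃ T : Matrix (Fin r) (Fin r) R, IsUnit T ∧ ∀ j, m' j = ∑ i, T j i • m i := by
  rcases subsingleton_or_nontrivial R with hR | hR
  · have : Subsingleton M := Module.subsingleton R M
    exact ⟨1, isUnit_of_subsingleton _, fun j => Subsingleton.elim _ _⟩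
  have hnt : Nontrivial (R ⧸ nilradical R) := by
    rw [Ideal.Quotient.nontrivial_iff]
    intro h
    have : (1 : R) ∈ nilradical R := h ▸ Submodule.mem_top
    exact not_isNilpotent_one (mem_nilradical.1 this)
  obtain ⟨b⟩ := (Groth.Agent.S14032.result R M r).1 hM
  have hfr : Fintype.card (Fin r) = Module.finrank (R ⧸ nilradical R) ((R ⧸ nilradical R) ⊗[R] M) := by
    rw [Module.finrank_eq_card_basis b]
  let bv := basisOfTopLeSpanOfCardEqFinrank _ (span_one_tmul (nilradical R) m hm) hfr
  let bv' := basisOfTopLeSpanOfCardEqFinrank _ (span_one_tmul (nilradical R) m' hm') hfr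
  have hbv : ∀ i, bv i = (1 : R ⧸ nilradical R) ⊗ₜ[R] m i := fun i => by
    simp [bv]
  have hbv' : ∀ i, bv' i = (1 : R ⧸ nilradical R) ⊗ₜ[R] m' i := fun i => by
    simp [bv']
  -- choose T
  have hT : ∀ j, ∃ c : Fin r → R, ∑ i, c i • m i = m' j := by
    intro j
    have : m' j ∈ Submodule.span R (Set.range m) := by rw [hm]; trivial
    exact (Submodule.mem_span_range_iff_exists_fun R).1 this
  choose T hTeq using hT
  refine ⟨Matrix.of T, ?_, fun j => (hTeq j).symm⟩
  -- the reduction of T is the transpose of change-of-basis
  have hrepr : ∀ j i, bv.repr (bv' j) i = Ideal.Quotient.mk (nilradical R) (T j i) := by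
    intro j i
    have : bv' j = ∑ i, (Ideal.Quotient.mk (nilradical R) (T j i)) • bv i := by
      rw [hbv', ← hTeq j, TensorProduct.tmul_sum]
      refine Finset.sum_congr rfl fun i _ => ?_
      rw [hbv, TensorProduct.tmul_smul, TensorProduct.smul_tmul']
      congr 1
    rw [this, bv.repr_sum_self]
  have hmat : bv.toMatrix bv' = ((Matrix.of T).map (Ideal.Quotient.mk (nilradical R))).transpose := by
    ext i j
    rw [Module.Basis.toMatrix_apply, hrepr]
    rfl
  have hunit : IsUnit (bv.toMatrix bv') :=
    ⟨⟨bv.toMatrix bv', bv'.toMatrix bv, bv.toMatrix_mul_toMatrix_flip bv',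
      bv'.toMatrix_mul_toMatrix_flip bv⟩, rfl⟩
  rw [hmat, Matrix.isUnit_iff_isUnit_det, Matrix.det_transpose, ← RingHom.mapMatrix_apply,
    ← RingHom.map_det,
    IsNilpotent.isUnit_quotient_mk_iff (IsNoetherianRing.isNilpotent_nilradical R)] at hunit
  exact (Matrix.isUnit_iff_isUnit_det _).2 hunit

end Groth.Agent.S14043
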