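import Groth.Statements.S14046
import Mathlib

set_option autoImplicit false
universe u v w
open W4c1frobunstiva

namespace Groth.Agent.S14046

open TensorProduct in
theorem prodRight_lTensor_prod {R : Type u} [CommRing R] {R' : Type w} [CommRing R'] [Algebra R R']
    {A P Q : Type v} [AddCommGroup A] [Module R A] [AddCommGroup P] [Module R P]
    [AddCommGroup Q] [Module R Q] (f : A →ₗ[R] P) (h : A →ₗ[R] Q) (z : R' ⊗[R] A) :
    TensorProduct.prodRight R R R' P Q ((f.prod h).lTensor R' z) =
      (f.lTensor R' z, h.lTensor R' z) := by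
  induction z using TensorProduct.induction_on with
  | zero => simp only [map_zero]; rfl
  | tmul x y => simp
  | add x y hx hy => simp only [map_add, hx, hy, Prod.mk_add_mk]

open TensorProduct in
/-- Let R → A be a homomorphism of commutative rings and I, J ideals of A with I ∩ J = 0 — so that A is
the fibre product of A/I and A/J over A/(I + J), i.e. Spec A is the union of the two closed
subschemes in the strong sense — and suppose A/(I + J) is flat over R. Then this persists under
every base change: for every commutative R-algebra R', the ideals generated by I and J in R' ⊗_R A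
again meet in 0. (This is the ideal-theoretic, affine form of the base-change step; the exact
sequence of unit sheaves deduced from it in the published statement — restriction of units to a
closed subscheme being surjective locally — is not restated. Without flatness of A/(I + J) the
conclusion fails: for A = k[x, y]/(xy) over R = k[u] with u ↦ x + y, I = (x) and J = (y), the base
change to R/(u) gives k[x]/(x²), in which both ideals become (x).) -/
theorem result (R : Type u) (A : Type v)
    [CommRing R] [CommRing A] [Algebra R A] (I J : Ideal A) (hIJ : I ⊓ J = ⊥)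
    [Module.Flat R (A ⧸ (I ⊔ J))] (R' : Type w) [CommRing R'] [Algebra R R'] :
    I.map (Algebra.TensorProduct.includeRight : A →ₐ[R] R' ⊗[R] A) ⊓
      J.map (Algebra.TensorProduct.includeRight : A →ₐ[R] R' ⊗[R] A) = ⊥ := by
  -- the exact sequence 0 → A → A/I × A/J → A/(I+J) → 0
  let pI : A →ₗ[R] (A ⧸ I) := (Ideal.Quotient.mkₐ R I).toLinearMap
  let pJ : A →ₗ[R] (A ⧸ J) := (Ideal.Quotient.mkₐ R J).toLinearMap
  let g : A →ₗ[R] (A ⧸ I) × (A ⧸ J) := pI.prod pJ
  let qI : (A ⧸ I) →ₗ[R] (A ⧸ (I ⊔ J)) :=
    (Ideal.Quotient.factorₐ R (le_sup_left : I ≤ I ⊔ J)).toLinearMap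
  let qJ : (A ⧸ J) →ₗ[R] (A ⧸ (I ⊔ J)) :=
    (Ideal.Quotient.factorₐ R (le_sup_right : J ≤ I ⊔ J)).toLinearMap
  let f : (A ⧸ I) × (A ⧸ J) →ₗ[R] (A ⧸ (I ⊔ J)) := qI.coprod (-qJ)
  have hfapp : ∀ x y : A, f (Ideal.Quotient.mk I x, Ideal.Quotient.mk J y) =
      Ideal.Quotient.mk (I ⊔ J) (x - y) := by
    intro x y
    simp only [f, LinearMap.coprod_apply, LinearMap.neg_apply, map_sub]
    rw [sub_eq_add_neg]
    rfl
  have hf : Function.Surjective f := by
    intro y
    obtain ⟨a, rfl⟩ := Ideal.Quotient.mk_surjective y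
    refine ⟨(Ideal.Quotient.mk I a, Ideal.Quotient.mk J 0), ?_⟩
    rw [hfapp, sub_zero]
  have hg : Function.Injective g := by
    rw [← LinearMap.ker_eq_bot, LinearMap.ker_eq_bot']
    intro a ha
    have h1 : a ∈ I := Ideal.Quotient.eq_zero_iff_mem.1 (congrArg Prod.fst ha)
    have h2 : a ∈ J := Ideal.Quotient.eq_zero_iff_mem.1 (congrArg Prod.snd ha)
    have : a ∈ I ⊓ J := ⟨h1, h2⟩
    rw [hIJ] at this
    exact this
  have hex : Function.Exact g f := by
    intro z
    constructor
    · obtain ⟨xb, yb⟩ := z
      obtain ⟨x, rfl⟩ := Ideal.Quotient.mk_surjective xb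
      obtain ⟨y, rfl⟩ := Ideal.Quotient.mk_surjective yb
      intro h
      rw [hfapp, Ideal.Quotient.eq_zero_iff_mem, Submodule.mem_sup] at h
      obtain ⟨i, hi, j, hj, hij⟩ := h
      refine ⟨x - i, ?_⟩
      apply Prod.ext
      · change Ideal.Quotient.mk I (x - i) = Ideal.Quotient.mk I x
        rw [map_sub, Ideal.Quotient.eq_zero_iff_mem.2 hi, sub_zero]
      · change Ideal.Quotient.mk J (x - i) = Ideal.Quotient.mk J y
        have : x - i = y + j := by linear_combination -hij
        rw [this, map_add, Ideal.Quotient.eq_zero_iff_mem.2 hj, add_zero]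
    · rintro ⟨a, rfl⟩
      change f (Ideal.Quotient.mk I a, Ideal.Quotient.mk J a) = 0
      rw [hfapp, sub_self, map_zero]
  have hinj : Function.Injective (g.lTensor R') :=
    LinearMap.lTensor_injective_of_exact_of_flat f hf g hg hex R'
  -- kernels contain the extended ideals
  have hI : ∀ z ∈ I.map (Algebra.TensorProduct.includeRight : A →ₐ[R] R' ⊗[R] A),
      pI.lTensor R' z = 0 := by
    intro z hz
    have hle : I.map (Algebra.TensorProduct.includeRight : A →ₐ[R] R' ⊗[R] A) ≤
        RingHom.ker (Algebra.TensorProduct.map (AlgHom.id R R') (Ideal.Quotient.mkₐ R I)) := by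
      rw [Ideal.map_le_iff_le_comap]
      intro a ha
      rw [Ideal.mem_comap, RingHom.mem_ker]
      simp [Ideal.Quotient.eq_zero_iff_mem.2 ha]
    have := hle hz
    rw [RingHom.mem_ker] at this
    exact this
  have hJ : ∀ z ∈ J.map (Algebra.TensorProduct.includeRight : A →ₐ[R] R' ⊗[R] A),
      pJ.lTensor R' z = 0 := by
    intro z hz
    have hle : J.map (Algebra.TensorProduct.includeRight : A →ₐ[R] R' ⊗[R] A) ≤
        RingHom.ker (Algebra.TensorProduct.map (AlgHom.id R R') (Ideal.Quotient.mkₐ R J)) := by
      rw [Ideal.map_le_iff_le_comap]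
      intro a ha
      rw [Ideal.mem_comap, RingHom.mem_ker]
      simp [Ideal.Quotient.eq_zero_iff_mem.2 ha]
    have := hle hz
    rw [RingHom.mem_ker] at this
    exact this
  rw [eq_bot_iff]
  rintro z ⟨hzI, hzJ⟩
  rw [Ideal.mem_bot]
  apply hinj
  rw [map_zero]
  apply (TensorProduct.prodRight R R R' (A ⧸ I) (A ⧸ J)).injective
  rw [prodRight_lTensor_prod, hI z hzI, hJ z hzJ, map_zero]
  rfl

end Groth.Agent.S14046
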