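import Groth.Statements.S1405
import Mathlib
import Groth.Agent.S0116

set_option autoImplicit false
universe u
open FlatMor

namespace Groth.Agent.S1405

open AlgebraicGeometry CategoryTheory Limits TensorProduct in
/-- the affine pieces of a base change to a field extension -/
theorem piece_iff {k K : Type u} [Field k] [Field K] [Algebra k K] {R : CommRingCat.{u}}
    (q : Spec R ⟶ Spec (CommRingCat.of k)) :
    ∃ (_ : Algebra k R), Nonempty (pullback q (Spec.map (CommRingCat.ofHom (algebraMap k K))) ≅
      Spec (CommRingCat.of (R ⊗[k] K))) := by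
  letI : Algebra k R := (Spec.preimage q).hom.toAlgebra
  refine ⟨inferInstance, ?_⟩
  have h1 : q = Spec.map (CommRingCat.ofHom (algebraMap k R)) := (Spec.map_preimage q).symm
  rw [h1]
  exact ⟨pullbackSpecIso k R K⟩

open AlgebraicGeometry CategoryTheory Limits TensorProduct in
theorem locNoeth_field_baseChange {k K : Type u} [Field k] [Field K] [Algebra k K]
    {T : Scheme.{u}} (p : T ⟶ Spec (CommRingCat.of k)) :
    (IsLocallyNoetherian (pullback p (Spec.map (CommRingCat.ofHom (algebraMap k K)))) →
      IsLocallyNoetherian T) ∧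
    (Algebra.EssFiniteType k K → IsLocallyNoetherian T →
      IsLocallyNoetherian (pullback p (Spec.map (CommRingCat.ofHom (algebraMap k K))))) := by
  let 𝒜 := T.affineOpenCover
  let 𝒰 := 𝒜.openCover
  let 𝒱 := Scheme.Pullback.openCoverOfLeft 𝒰 p (Spec.map (CommRingCat.ofHom (algebraMap k K)))
  have hpiece : ∀ i : 𝒜.I₀, ∃ (_ : Algebra k (𝒜.X i)),
      Nonempty (𝒱.X i ≅ Spec (CommRingCat.of ((𝒜.X i) ⊗[k] K))) := fun i =>
    piece_iff (K := K) (R := 𝒜.X i) (𝒜.f i ≫ p)
  have hΓ : ∀ i : 𝒜.I₀, IsNoetherianRing Γ(𝒰.X i, ⊤) ↔ IsNoetherianRing (𝒜.X i) := fun i =>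
    ⟨fun h => @isNoetherianRing_of_ringEquiv _ _ _ _
        (Scheme.ΓSpecIso (𝒜.X i)).commRingCatIsoToRingEquiv h,
      fun h => @isNoetherianRing_of_ringEquiv _ _ _ _
        (Scheme.ΓSpecIso (𝒜.X i)).commRingCatIsoToRingEquiv.symm h⟩
  constructor
  · intro h
    rw [isLocallyNoetherian_iff_of_affine_openCover 𝒰]
    intro i
    obtain ⟨alg, ⟨e⟩⟩ := hpiece i
    haveI : IsLocallyNoetherian (𝒱.X i) := (isLocallyNoetherian_iff_openCover 𝒱).mp h i
    haveI : IsLocallyNoetherian (Spec (CommRingCat.of ((𝒜.X i) ⊗[k] K))) :=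
      isLocallyNoetherian_of_isOpenImmersion e.inv
    have h2 : IsNoetherianRing ((𝒜.X i) ⊗[k] K) := isLocallyNoetherian_Spec.mp ‹_›
    have h3 : IsNoetherianRing (𝒜.X i) := by
      refine Groth.Agent.S0116.isNoetherianRing_of_faithfullyFlat
        (algebraMap (𝒜.X i) ((𝒜.X i) ⊗[k] K)) ?_
      rw [RingHom.faithfullyFlat_algebraMap_iff]
      infer_instance
    exact (hΓ i).mpr h3
  · intro hK h
    rw [isLocallyNoetherian_iff_openCover 𝒱]
    intro i
    obtain ⟨alg, ⟨e⟩⟩ := hpiece i
    have h1 : IsNoetherianRing Γ(𝒰.X i, ⊤) :=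
      (isLocallyNoetherian_iff_of_affine_openCover 𝒰).mp h i
    have h2 : IsNoetherianRing (𝒜.X i) := (hΓ i).mp h1
    have h3 : IsNoetherianRing ((𝒜.X i) ⊗[k] K) :=
      Algebra.EssFiniteType.isNoetherianRing (𝒜.X i) _
    haveI : IsLocallyNoetherian (Spec (CommRingCat.of ((𝒜.X i) ⊗[k] K))) :=
      isLocallyNoetherian_Spec.mpr h3
    exact isLocallyNoetherian_of_isOpenImmersion e.hom

open AlgebraicGeometry CategoryTheory Limits in
/-- residue field extensions of a morphism locally of finite type are essentially of finite type -/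
theorem essFiniteType_residueField {Y' Y : Scheme.{u}} (g : Y' ⟶ Y) [LocallyOfFiniteType g]
    (y' : Y') :
    letI := (g.residueFieldMap y').hom.toAlgebra
    Algebra.EssFiniteType (Y.residueField (g.base y')) (Y'.residueField y') := by
  algebraize [(g.stalkMap y').hom]
  have : IsLocalHom (algebraMap (Y.presheaf.stalk (g y')) (Y'.presheaf.stalk y')) :=
    inferInstanceAs <| IsLocalHom (g.stalkMap y').hom
  suffices h : Algebra.EssFiniteType
      (IsLocalRing.ResidueField <| Y.presheaf.stalk (g y'))
      (IsLocalRing.ResidueField <| Y'.presheaf.stalk y') by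
    convert! h
    refine Algebra.algebra_ext _ _ fun x ↦ ?_
    obtain ⟨x, rfl⟩ := IsLocalRing.residue_surjective x
    rfl
  have : Algebra.EssFiniteType (Y.presheaf.stalk (g y')) (Y'.presheaf.stalk y') := by
    rw [← RingHom.essFiniteType_algebraMap, RingHom.algebraMap_toAlgebra]
    exact LocallyOfFiniteType.stalkMap g y'
  have : Algebra.EssFiniteType (Y.presheaf.stalk (g y'))
      (IsLocalRing.ResidueField (Y'.presheaf.stalk y')) := .comp _ (Y'.presheaf.stalk y') _
  exact .of_comp (Y.presheaf.stalk (g y')) _ _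

open AlgebraicGeometry CategoryTheory Limits in
theorem fiber_iso {X Y X' Y' : Scheme.{u}} (f : X ⟶ Y) (f' : X' ⟶ Y') (g' : X' ⟶ X) (g : Y' ⟶ Y)
    (hc : IsPullback g' f' f g) (y' : Y') :
    Nonempty (f'.fiber y' ≅ pullback (f.fiberToSpecResidueField (g.base y'))
      (Spec.map (g.residueFieldMap y'))) := by
  have sq1 : IsPullback (f'.fiberι y' ≫ g') (f'.fiberToSpecResidueField y') f
      (Y'.fromSpecResidueField y' ≫ g) :=
    (IsPullback.of_hasPullback f' (Y'.fromSpecResidueField y')).paste_horiz hc
  have sq2 : IsPullback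
      (pullback.fst (f.fiberToSpecResidueField (g.base y')) (Spec.map (g.residueFieldMap y')) ≫
        f.fiberι (g.base y'))
      (pullback.snd (f.fiberToSpecResidueField (g.base y')) (Spec.map (g.residueFieldMap y'))) f
      (Spec.map (g.residueFieldMap y') ≫ Y.fromSpecResidueField (g.base y')) :=
    (IsPullback.of_hasPullback (f.fiberToSpecResidueField (g.base y'))
      (Spec.map (g.residueFieldMap y'))).paste_horiz
      (IsPullback.of_hasPullback f (Y.fromSpecResidueField (g.base y')))
  rw [Scheme.Hom.SpecMap_residueFieldMap_fromSpecResidueField] at sq2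
  exact ⟨sq1.isoIsPullback _ _ sq2⟩

open AlgebraicGeometry CategoryTheory Limits in
/-- Let Y' → Y be flat, locally of finite presentation and surjective and f' the base change of f : X →
Y. Then all fibres of f are locally Noetherian if and only if all fibres of f' are. -/
theorem result {X Y X' Y' : Scheme.{u}} (f : X ⟶ Y) (f' : X' ⟶ Y') (g' : X' ⟶ X) (g : Y' ⟶ Y) [Flat g] [LocallyOfFinitePresentation g] [Surjective g]
    (hc : IsPullback g' f' f g) :
    (∀ y : Y, IsLocallyNoetherian (f.fiber y)) ↔ ∀ y' : Y', IsLocallyNoetherian (f'.fiber y') := by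
  constructor
  · intro H y'
    obtain ⟨e⟩ := fiber_iso f f' g' g hc y'
    letI := (g.residueFieldMap y').hom.toAlgebra
    haveI := H (g.base y')
    have hess := essFiniteType_residueField g y'
    have h1 := (locNoeth_field_baseChange (k := Y.residueField (g.base y'))
      (K := Y'.residueField y') (f.fiberToSpecResidueField (g.base y'))).2 hess inferInstance
    haveI : IsLocallyNoetherian (pullback (f.fiberToSpecResidueField (g.base y'))
      (Spec.map (g.residueFieldMap y'))) := h1
    exact isLocallyNoetherian_of_isOpenImmersion e.hom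
  · intro H y
    obtain ⟨y', rfl⟩ := g.surjective y
    obtain ⟨e⟩ := fiber_iso f f' g' g hc y'
    letI := (g.residueFieldMap y').hom.toAlgebra
    haveI := H y'
    haveI : IsLocallyNoetherian (pullback (f.fiberToSpecResidueField (g.base y'))
      (Spec.map (g.residueFieldMap y'))) := isLocallyNoetherian_of_isOpenImmersion e.inv
    exact (locNoeth_field_baseChange (k := Y.residueField (g.base y'))
      (K := Y'.residueField y') (f.fiberToSpecResidueField (g.base y'))).1 inferInstance

end Groth.Agent.S1405
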