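import Groth.Statements.S14050
import Mathlib
import Groth.Agent.S0597
import Groth.Agent.Lib.Helper18.PopC
import Groth.Agent.Lib.Helper14.IadicFibresReg

set_option autoImplicit false
universe u
open CategoryTheory CategoryTheory.Limits
open Hensel

namespace Groth.Agent.S14050

/-- Let A be a G-ring, that is a Noetherian ring whose local rings have regular completion maps (for
instance a quasi-excellent ring), let I be an ideal such that (A, I) is a henselian pair, and let Â
be the I-adic completion of A. Let F be a functor from A-algebras (commutative rings under A) to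
sets which preserves filtered colimits, let ξ ∈ F(Â) and n ≥ 0. Then there is η ∈ F(A) such that η
and ξ have the same image in F(A/I^(n+1)). Here π is the A-algebra map Â → A/I^(n+1), pinned by its
underlying ring map, and ρ is the structure map A → A/I^(n+1). (The published statement is for a
limit-preserving contravariant functor on all schemes over Spec A; only its values on affine schemes
enter, and those form a functor on A-algebras preserving filtered colimits, which is the form stated
here.) -/
theorem result (A : Type u) [CommRing A]
    (I : Ideal A) [HenselianRing A I] (hG : CAlg.IsGRing A)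
    (F : Under (CommRingCat.of A) ⥤ Type u)
    (hF : ∀ (J : Type u) [SmallCategory J] [IsFiltered J], PreservesColimitsOfShape J F)
    (n : ℕ)
    (π : Under.mk (CommRingCat.ofHom (algebraMap A (AdicCompletion I A))) ⟶
      Under.mk (CommRingCat.ofHom (algebraMap A (A ⧸ I ^ (n + 1)))))
    (hπ : π.right = CommRingCat.ofHom
      (AdicCompletion.evalₐ I (n + 1) : AdicCompletion I A →ₐ[A] A ⧸ I ^ (n + 1)).toRingHom)
    (ρ : Under.mk (𝟙 (CommRingCat.of A)) ⟶
      Under.mk (CommRingCat.ofHom (algebraMap A (A ⧸ I ^ (n + 1)))))
    (ξ : F.obj (Under.mk (CommRingCat.ofHom (algebraMap A (AdicCompletion I A))))) :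
    ∃ η : F.obj (Under.mk (𝟙 (CommRingCat.of A))), F.map ρ η = F.map π ξ := by
  haveI : IsNoetherianRing A := hG.1
  have hreg : CAlg.IsRegularHom A (AdicCompletion I A) :=
    Groth.Agent.Lib.Helper14.IadicFibresReg.isRegularHom_adicCompletion A hG I
  refine Groth.Agent.Lib.Helper18.DR.Pop.functor_approx_of_poly_approx A I ?_ F hF (n + 1) π hπ ρ ξ
  intro k l c f â hâ
  obtain ⟨b, hb, hab⟩ := Groth.Agent.S0597.result A I hreg k l f â
    (fun i => by
      have := hâ i
      rw [MvPolynomial.aeval_def, MvPolynomial.eval₂_eq_eval_map] at this
      exact this) c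
  refine ⟨b, hb, fun j => ?_⟩
  have hle : (I ^ c).map (algebraMap A (AdicCompletion I A)) ≤
      RingHom.ker (AdicCompletion.evalₐ I c).toRingHom := by
    rw [Ideal.map_le_iff_le_comap]
    intro r hr
    rw [Ideal.mem_comap, RingHom.mem_ker]
    show AdicCompletion.evalₐ I c (algebraMap A _ r) = 0
    rw [AlgHom.commutes]
    exact Ideal.Quotient.eq_zero_iff_mem.mpr hr
  have h1 := hle (hab j)
  rw [RingHom.mem_ker] at h1
  have h2 : AdicCompletion.evalₐ I c (â j) =
      AdicCompletion.evalₐ I c (algebraMap A (AdicCompletion I A) (b j)) := by
    have h3 : AdicCompletion.evalₐ I c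
        (â j - algebraMap A (AdicCompletion I A) (b j)) = 0 := h1
    rw [map_sub, sub_eq_zero] at h3
    exact h3
  rw [h2, AlgHom.commutes]
  rfl

end Groth.Agent.S14050
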