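import Groth.Statements.S14052
import Mathlib
import Groth.Agent.Lib.Helper21.GradedGen

set_option autoImplicit false
universe u
open CAlg

namespace Groth.Agent.S14052

/-- Let A be a commutative ℕ-graded algebra over a base ring R with A_{n+1} = A_1 · A_n for every n (A
is generated by A_1 over A_0), and let S be a commutative ℕ-graded A-algebra, the structure map
sending A_i into S_i, which is a finite A-module. Let s be a finite set of homogeneous elements
spanning S as an A-module, all of degree at most n₀, with n₀ > 0. Then (1) S_{n+k} = S_k · S_n for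
all n ≥ n₀ and k ≥ 0, and (2) for every d ≥ n₀ the d-th Veronese subring of S is generated by S_d
over S_0, that is S_{md} = (S_d)^m for every m > 0. -/
theorem result
    (R : Type u) [CommRing R] (A : Type u) [CommRing A] [Algebra R A]
    (𝒜 : ℕ → Submodule R A) [GradedAlgebra 𝒜] (hA : ∀ n : ℕ, 𝒜 (n + 1) = 𝒜 1 * 𝒜 n)
    (S : Type u) [CommRing S] [Algebra R S] [Algebra A S] [IsScalarTower R A S]
    (𝒮 : ℕ → Submodule R S) [GradedAlgebra 𝒮]
    (hAS : ∀ (i : ℕ) (a : A), a ∈ 𝒜 i → algebraMap A S a ∈ 𝒮 i)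
    [Module.Finite A S]
    (s : Set S) (hsfin : s.Finite) (n₀ : ℕ) (hn₀ : 0 < n₀)
    (hs : ∀ y ∈ s, ∃ d : ℕ, d ≤ n₀ ∧ y ∈ 𝒮 d) (hspan : Submodule.span A s = ⊤) :
    (∀ n k : ℕ, n₀ ≤ n → 𝒮 (n + k) = 𝒮 k * 𝒮 n) ∧
      (∀ d : ℕ, n₀ ≤ d → ∀ m : ℕ, 0 < m → 𝒮 (m * d) = 𝒮 d ^ m) := by
  have : SetLike.GradedSMul 𝒜 𝒮 := ⟨fun {i j a x} ha hx => by
    rw [Algebra.smul_def]
    exact SetLike.GradedMul.mul_mem (hAS i a ha) hx⟩
  have h1 : ∀ n k : ℕ, n₀ ≤ n → 𝒮 (n + k) = 𝒮 k * 𝒮 n := by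
    intro n k hn
    apply le_antisymm
    · rw [Groth.Agent.Lib.Helper21.graded_eq_smul R A 𝒜 hA S 𝒮 s n₀ hs hspan n k hn,
        Submodule.smul_le]
      intro a ha x hx
      rw [Algebra.smul_def]
      exact Submodule.mul_mem_mul (hAS k a ha) hx
    · rw [Submodule.mul_le]
      intro a ha x hx
      have : a * x ∈ 𝒮 (k + n) := SetLike.GradedMul.mul_mem ha hx
      rwa [add_comm] at this
  refine ⟨h1, ?_⟩
  intro d hd m hm
  induction m with
  | zero => exact absurd hm (lt_irrefl 0)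
  | succ m ih =>
    rcases Nat.eq_zero_or_pos m with rfl | hm'
    · simp
    · have e : (m + 1) * d = m * d + d := by ring
      have hle : n₀ ≤ m * d := le_trans hd (Nat.le_mul_of_pos_left d hm')
      rw [e, h1 (m * d) d hle, ih hm', pow_succ']

end Groth.Agent.S14052
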