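import Mathlib
import Groth.Statements.S14053


set_option autoImplicit false
universe u
open CAlg

namespace Aux14053

open DirectSum

variable {k : Type u} [Field k] {R : Type u} [CommRing R] [Algebra k R]
  (ℛ : ℕ → Submodule k R) [GradedAlgebra ℛ]

theorem gmul (i j : ℕ) : ℛ i * ℛ j ≤ ℛ (i + j) :=
  Submodule.mul_le.2 fun _ hx _ hy => SetLike.mul_mem_graded hx hy

theorem gpow (i n : ℕ) : ℛ i ^ n ≤ ℛ (n * i) := by
  induction n with
  | zero =>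
    rw [pow_zero, zero_mul]
    exact Submodule.one_le.2 (SetLike.one_mem_graded ℛ)
  | succ n ih =>
    rw [pow_succ, Nat.succ_mul]
    exact le_trans (mul_le_mul' ih le_rfl) (gmul ℛ _ _)

def mon (a b c : ℕ) : Submodule k R := ℛ 1 ^ a * ℛ 2 ^ b * ℛ 3 ^ c

theorem mon_le (a b c : ℕ) : mon ℛ a b c ≤ ℛ (a + 2 * b + 3 * c) := by
  have h1 := gpow ℛ 1 a
  have h2 := gpow ℛ 2 b
  have h3 := gpow ℛ 3 c
  have h : mon ℛ a b c ≤ ℛ (a * 1 + b * 2 + c * 3) :=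
    le_trans (mul_le_mul' (le_trans (mul_le_mul' h1 h2) (gmul ℛ _ _)) h3) (gmul ℛ _ _)
  have e : a * 1 + b * 2 + c * 3 = a + 2 * b + 3 * c := by ring
  rw [e] at h
  exact h

theorem mon_mul (a b c a' b' c' : ℕ) :
    mon ℛ a b c * mon ℛ a' b' c' = mon ℛ (a + a') (b + b') (c + c') := by
  unfold mon
  rw [pow_add, pow_add, pow_add]
  ring

theorem mem_iSup_mon
    (hgen : Algebra.adjoin k ((ℛ 1 : Set R) ∪ (ℛ 2 : Set R) ∪ (ℛ 3 : Set R)) = ⊤) (x : R) :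
    x ∈ ⨆ p : ℕ × ℕ × ℕ, mon ℛ p.1 p.2.1 p.2.2 := by
  have hx : x ∈ Algebra.adjoin k ((ℛ 1 : Set R) ∪ (ℛ 2 : Set R) ∪ (ℛ 3 : Set R)) := by
    rw [hgen]; trivial
  have hS : ∀ a b c, mon ℛ a b c ≤ ⨆ p : ℕ × ℕ × ℕ, mon ℛ p.1 p.2.1 p.2.2 :=
    fun a b c => le_iSup (fun p : ℕ × ℕ × ℕ => mon ℛ p.1 p.2.1 p.2.2) (a, b, c)
  induction hx using Algebra.adjoin_induction with
  | mem x hx =>
    rcases hx with (hx | hx) | hx
    · refine hS 1 0 0 ?_
      unfold mon; rw [pow_one, pow_zero, pow_zero, mul_one, mul_one]; exact hx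
    · refine hS 0 1 0 ?_
      unfold mon; rw [pow_one, pow_zero, pow_zero, one_mul, mul_one]; exact hx
    · refine hS 0 0 1 ?_
      unfold mon; rw [pow_one, pow_zero, pow_zero, one_mul, one_mul]; exact hx
  | algebraMap r =>
    refine hS 0 0 0 ?_
    unfold mon; rw [pow_zero, pow_zero, pow_zero, mul_one, mul_one]
    exact Submodule.algebraMap_mem r
  | add x y _ _ hx hy => exact Submodule.add_mem _ hx hy
  | mul x y _ _ hx hy =>
    have hxy : x * y ∈ (⨆ p : ℕ × ℕ × ℕ, mon ℛ p.1 p.2.1 p.2.2) *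
        (⨆ p : ℕ × ℕ × ℕ, mon ℛ p.1 p.2.1 p.2.2) := Submodule.mul_mem_mul hx hy
    have hle : (⨆ p : ℕ × ℕ × ℕ, mon ℛ p.1 p.2.1 p.2.2) *
        (⨆ p : ℕ × ℕ × ℕ, mon ℛ p.1 p.2.1 p.2.2) ≤ ⨆ p : ℕ × ℕ × ℕ, mon ℛ p.1 p.2.1 p.2.2 := by
      rw [Submodule.iSup_mul]
      refine iSup_le fun p => ?_
      rw [Submodule.mul_iSup]
      refine iSup_le fun q => ?_
      rw [mon_mul]
      exact hS _ _ _
    exact hle hxy

theorem le_W
    (hgen : Algebra.adjoin k ((ℛ 1 : Set R) ∪ (ℛ 2 : Set R) ∪ (ℛ 3 : Set R)) = ⊤) (N : ℕ) :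
    ℛ N ≤ ⨆ (p : ℕ × ℕ × ℕ) (_ : p.1 + 2 * p.2.1 + 3 * p.2.2 = N), mon ℛ p.1 p.2.1 p.2.2 := by
  intro x hx
  have h1 : GradedAlgebra.proj ℛ N x = x := by
    rw [GradedAlgebra.proj_apply, DirectSum.decompose_of_mem_same ℛ hx]
  have h2 : x ∈ Submodule.map (GradedAlgebra.proj ℛ N)
      (⨆ p : ℕ × ℕ × ℕ, mon ℛ p.1 p.2.1 p.2.2) :=
    ⟨x, mem_iSup_mon ℛ hgen x, h1⟩
  rw [Submodule.map_iSup] at h2
  have hle : (⨆ p : ℕ × ℕ × ℕ, Submodule.map (GradedAlgebra.proj ℛ N) (mon ℛ p.1 p.2.1 p.2.2)) ≤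
      ⨆ (p : ℕ × ℕ × ℕ) (_ : p.1 + 2 * p.2.1 + 3 * p.2.2 = N), mon ℛ p.1 p.2.1 p.2.2 := by
    refine iSup_le fun p => ?_
    rintro _ ⟨y, hy, rfl⟩
    by_cases hp : p.1 + 2 * p.2.1 + 3 * p.2.2 = N
    · have hyN : y ∈ ℛ N := by
        rw [← hp]; exact mon_le ℛ _ _ _ hy
      rw [GradedAlgebra.proj_apply, DirectSum.decompose_of_mem_same ℛ hyN]
      exact Submodule.mem_iSup_of_mem p (Submodule.mem_iSup_of_mem hp hy)
    · have hyN : y ∈ ℛ (p.1 + 2 * p.2.1 + 3 * p.2.2) := mon_le ℛ _ _ _ hy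
      rw [GradedAlgebra.proj_apply, DirectSum.decompose_of_mem_ne ℛ hyN hp]
      exact Submodule.zero_mem _
  exact hle h2

theorem split_num (a b c e N : ℕ) (hN : a + 2 * b + 3 * c = N) (h : 6 * e + 12 ≤ N) :
    ∃ s s' s'' : ℕ, 6 * s ≤ a ∧ 3 * s' ≤ b ∧ 2 * s'' ≤ c ∧ s + s' + s'' = e := by
  refine ⟨min (a / 6) e, min (b / 3) (e - min (a / 6) e),
    e - min (a / 6) e - min (b / 3) (e - min (a / 6) e), ?_, ?_, ?_, ?_⟩ <;> omega

theorem mon_split (a b c e M : ℕ) (hN : a + 2 * b + 3 * c = 6 * e + M) (h : 12 ≤ M) :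
    mon ℛ a b c ≤ ℛ (6 * e) * ℛ M := by
  obtain ⟨s, s', s'', h1, h2, h3, h4⟩ := split_num a b c e (6 * e + M) hN (by omega)
  have ha : 6 * s + (a - 6 * s) = a := by omega
  have hb : 3 * s' + (b - 3 * s') = b := by omega
  have hc : 2 * s'' + (c - 2 * s'') = c := by omega
  have e1 : mon ℛ a b c =
      mon ℛ (6 * s) (3 * s') (2 * s'') * mon ℛ (a - 6 * s) (b - 3 * s') (c - 2 * s'') := by
    rw [mon_mul, ha, hb, hc]
  rw [e1]
  refine mul_le_mul' ?_ ?_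
  · have e2 : 6 * s + 2 * (3 * s') + 3 * (2 * s'') = 6 * e := by omega
    rw [← e2]
    exact mon_le ℛ _ _ _
  · have e3 : (a - 6 * s) + 2 * (b - 3 * s') + 3 * (c - 2 * s'') = M := by omega
    rw [← e3]
    exact mon_le ℛ _ _ _

theorem main (k : Type u) [Field k] (R : Type u) [CommRing R] [Algebra k R]
    (ℛ : ℕ → Submodule k R) [GradedAlgebra ℛ]
    (h0 : ℛ 0 = 1)
    (hgen : Algebra.adjoin k ((ℛ 1 : Set R) ∪ (ℛ 2 : Set R) ∪ (ℛ 3 : Set R)) = ⊤)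
    [Module.Finite k (ℛ 1)] [Module.Finite k (ℛ 2)] [Module.Finite k (ℛ 3)]
    (e : ℕ) (he : 5 * Module.finrank k (ℛ 1) + 4 * Module.finrank k (ℛ 2) + 3 * Module.finrank k (ℛ 3) ≤ e)
    (m : ℕ) (hm : 0 < m) :
    ℛ (m * (6 * e)) = ℛ (6 * e) ^ m := by
  refine le_antisymm ?_ (gpow ℛ (6 * e) m)
  rcases Nat.eq_zero_or_pos e with he0 | hepos
  · subst he0
    rw [mul_zero, mul_zero, h0, one_pow]
  have key : ∀ m' : ℕ, 0 < m' →
      ℛ (6 * e + m' * (6 * e)) ≤ ℛ (6 * e) * ℛ (m' * (6 * e)) := by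
    intro m' hm'
    refine le_trans (le_W ℛ hgen _) ?_
    refine iSup₂_le fun p hp => ?_
    by_cases he2 : 2 ≤ e
    · refine mon_split ℛ _ _ _ e _ hp ?_
      have : 1 * (6 * 2) ≤ m' * (6 * e) := Nat.mul_le_mul hm' (Nat.mul_le_mul_left 6 he2)
      omega
    · have f1 : Module.finrank k (ℛ 1) = 0 := by omega
      have f2 : Module.finrank k (ℛ 2) = 0 := by omega
      have f3 : Module.finrank k (ℛ 3) = 0 := by omega
      rw [Submodule.finrank_eq_zero] at f1 f2 f3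
      have hpos : 0 < 6 * e + m' * (6 * e) := Nat.add_pos_left (by omega) _
      have hpne : p.1 ≠ 0 ∨ p.2.1 ≠ 0 ∨ p.2.2 ≠ 0 := by
        by_contra hcon
        push Not at hcon
        obtain ⟨c1, c2, c3⟩ := hcon
        rw [c1, c2, c3] at hp
        omega
      have hbot : mon ℛ p.1 p.2.1 p.2.2 = ⊥ := by
        unfold mon
        rw [f1, f2, f3, ← Submodule.zero_eq_bot]
        rcases hpne with h | h | h
        · rw [zero_pow h, zero_mul, zero_mul]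
        · rw [zero_pow h, mul_zero, zero_mul]
        · rw [zero_pow h, mul_zero]
      rw [hbot]
      exact bot_le
  obtain ⟨n, rfl⟩ : ∃ n, m = n + 1 := ⟨m - 1, by omega⟩
  clear hm
  induction n with
  | zero => rw [zero_add, one_mul, pow_one]
  | succ n ih =>
    have e1 : (n + 1 + 1) * (6 * e) = 6 * e + (n + 1) * (6 * e) := by ring
    rw [e1, pow_succ' _ (n + 1)]
    exact le_trans (key (n + 1) (Nat.succ_pos n)) (mul_le_mul' le_rfl ih)

end Aux14053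

namespace Groth.Agent.S14053

/-- Let k be a field and R a commutative ℕ-graded k-algebra with R_0 = k · 1 which is generated as a
k-algebra by R_1, R_2 and R_3, each a finite-dimensional k-vector space, of dimensions d_1, d_2,
d_3. Then for every natural number e ≥ 5 d_1 + 4 d_2 + 3 d_3 the (6e)-th Veronese subring of R is
generated in degree one over k: R_{6em} = (R_{6e})^m for every m > 0. -/
theorem result
    (k : Type u) [Field k] (R : Type u) [CommRing R] [Algebra k R]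
    (ℛ : ℕ → Submodule k R) [GradedAlgebra ℛ]
    (h0 : ℛ 0 = 1)
    (hgen : Algebra.adjoin k ((ℛ 1 : Set R) ∪ (ℛ 2 : Set R) ∪ (ℛ 3 : Set R)) = ⊤)
    [Module.Finite k (ℛ 1)] [Module.Finite k (ℛ 2)] [Module.Finite k (ℛ 3)]
    (e : ℕ) (he : 5 * Module.finrank k (ℛ 1) + 4 * Module.finrank k (ℛ 2) + 3 * Module.finrank k (ℛ 3) ≤ e)
    (m : ℕ) (hm : 0 < m) :
    ℛ (m * (6 * e)) = ℛ (6 * e) ^ m := by
  exact Aux14053.main k R ℛ h0 hgen e he m hm

end Groth.Agent.S14053
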