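import Groth.Statements.S1406
import Mathlib
import Groth.Agent.S0116

set_option autoImplicit false
universe u
open FlatMor

namespace Groth.Agent.S1406

open AlgebraicGeometry CategoryTheory Limits in
/-- Let a : X' → X be flat, locally of finite presentation and surjective. Then all fibres of f : X → Y
are locally Noetherian if and only if all fibres of a ≫ f are. -/
theorem result {X X' Y : Scheme.{u}} (f : X ⟶ Y) (a : X' ⟶ X) [Flat a] [LocallyOfFinitePresentation a] [Surjective a] :
    (∀ y : Y, IsLocallyNoetherian (f.fiber y)) ↔ ∀ y : Y, IsLocallyNoetherian ((a ≫ f).fiber y) := by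
  have hiso : ∀ y : Y, Nonempty (pullback a (f.fiberι y) ≅ (a ≫ f).fiber y) := fun y =>
    ⟨pullbackRightPullbackFstIso f (Y.fromSpecResidueField y) a⟩
  constructor
  · intro H y
    haveI := H y
    obtain ⟨e⟩ := hiso y
    haveI : IsLocallyNoetherian (pullback a (f.fiberι y)) :=
      LocallyOfFiniteType.isLocallyNoetherian (pullback.snd a (f.fiberι y))
    exact LocallyOfFiniteType.isLocallyNoetherian e.inv
  · intro H y
    haveI := H y
    obtain ⟨e⟩ := hiso y
    haveI : IsLocallyNoetherian (pullback a (f.fiberι y)) :=
      LocallyOfFiniteType.isLocallyNoetherian e.hom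
    haveI : Surjective (pullback.snd a (f.fiberι y)) :=
      MorphismProperty.pullback_snd (P := @Surjective) _ _ inferInstance
    exact Groth.Agent.S0116.result (pullback.snd a (f.fiberι y))

end Groth.Agent.S1406
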