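import Groth.Statements.S14060
import Mathlib
import Groth.Agent.Lib.Helper21.DimShift

set_option autoImplicit false
universe u
open CategoryTheory CategoryTheory.Limits TopologicalSpace
open CohTop

namespace Groth.Agent.S14060

/-- Let X be a topological space, r ≥ 1 an integer and 0 → F_r → ⋯ → F_2 → F_1 → F_0 → 0 an exact
sequence of sheaves of abelian groups on X, presented as a chain complex F of abelian sheaves
indexed by the natural numbers whose differential F_r → F_{r−1} is a monomorphism, whose
differential F_1 → F_0 is an epimorphism of sheaves, and which is exact at F_j for 1 ≤ j ≤ r − 1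
(for r = 1 the single map F_1 → F_0 is mono and epi). Assume the sheaf cohomology groups H^{j−1}(X,
F_j) vanish for 2 ≤ j ≤ r. Then the map on global sections F_1(X) → F_0(X) is surjective. (The
instance hypothesis that the category of abelian sheaves on X has Ext groups in the universe of X
holds for every X, abelian sheaves on a space forming a Grothendieck abelian category; it is the
setting in which sheaf cohomology is defined.) -/
theorem result (X : TopCat.{u})
    [HasExt.{u} (Sheaf (Opens.grothendieckTopology X) AddCommGrpCat.{u})]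
    (r : ℕ) (hr : 1 ≤ r)
    (F : ChainComplex (Sheaf (Opens.grothendieckTopology X) AddCommGrpCat.{u}) ℕ)
    (hmono : Mono (F.d r (r - 1))) (hepi : Epi (F.d 1 0))
    (hex : ∀ j : ℕ, 1 ≤ j → j < r → F.ExactAt j)
    (hvan : ∀ j : ℕ, 2 ≤ j → j ≤ r → Subsingleton (Sheaf.H (F.X j) (j - 1))) :
    Function.Surjective ((F.d 1 0).hom.app (Opposite.op ⊤)) := by
  classical
  let adj := constantSheafAdj (Opens.grothendieckTopology X) AddCommGrpCat.{u}
    (T := (⊤ : Opens X)) Limits.isTerminalTop
  intro s
  let xb : AddCommGrpCat.of (ULift.{u} ℤ) ⟶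
      ((sheafSections (Opens.grothendieckTopology X) AddCommGrpCat.{u}).obj
        (Opposite.op ⊤)).obj (F.X 0) :=
    AddCommGrpCat.ofHom ((zmultiplesHom _ s).comp AddEquiv.ulift.toAddMonoidHom)
  let x : (constantSheaf (Opens.grothendieckTopology X) AddCommGrpCat.{u}).obj
      (AddCommGrpCat.of (ULift.{u} ℤ)) ⟶ F.X 0 := (adj.homEquiv _ _).symm xb
  obtain ⟨y, hy⟩ := Groth.Agent.Lib.Helper21.DimShift.exists_lift _ F r hmono hex hvan hr hepi x
  refine ⟨(adj.homEquiv _ _ y).hom ⟨1⟩, ?_⟩
  have h1 : adj.homEquiv _ _ (y ≫ F.d 1 0) = adj.homEquiv _ _ y ≫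
      ((sheafSections (Opens.grothendieckTopology X) AddCommGrpCat.{u}).obj
        (Opposite.op ⊤)).map (F.d 1 0) := adj.homEquiv_naturality_right _ _
  rw [hy] at h1
  have h2 : adj.homEquiv _ _ x = xb := Equiv.apply_symm_apply _ _
  rw [h2] at h1
  have h3 := ConcreteCategory.congr_hom h1 ⟨1⟩
  have h4 : xb.hom ⟨1⟩ = s := by
    change (1 : ℤ) • s = s
    rw [one_zsmul]
  exact h3.symm.trans h4

end Groth.Agent.S14060
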