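import Groth.Statements.S14064
import Mathlib
import Groth.Agent.Lib.Helper22.InvField
import Groth.Agent.Lib.Helper3.InvMonoidal
import Groth.Agent.Lib.Helper7.AmpleRes2
import Groth.Agent.Lib.Helper23.T2A
import Groth.Agent.Lib.Helper26.RefShG


set_option autoImplicit false
universe u
open CategoryTheory CategoryTheory.Limits AlgebraicGeometry TopologicalSpace
open Surf

namespace Groth.Agent.S14064

open Groth.Agent.Lib.Helper3 Groth.Agent.Lib.Helper3.QCSec Groth.Agent.Lib.Helper3.InvGen
  Groth.Agent.Lib.Helper3.InvTensor Groth.Agent.Lib.Helper3.InvMonoidal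
  Groth.Agent.Lib.Helper22.InvField Groth.Agent.Lib.Helper26.RefSh in
theorem powHom_ne_zero {X : Scheme.{u}} [IsIntegral X] {N : X.Modules} (hN : PicF.IsInvertible N)
    (s : Coh.structureModule X ⟶ N) (hs : s ≠ 0) (d : ℕ) : SecTwist.powHom s d ≠ 0 := by
  obtain ⟨x⟩ := (inferInstance : Nonempty X)
  obtain ⟨U, e, hxU, hg⟩ := exists_isGen hN x
  have hUne : (U : Set X).Nonempty := ⟨x, hxU⟩
  haveI : Nonempty (U : Scheme.{u}) := ⟨⟨x, hxU⟩⟩
  haveI : IsDomain Γ(X, U) := IsIntegral.component_integral U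
  obtain ⟨a, ha⟩ := hg.self.2 (sec s U)
  dsimp only at ha
  have ha0 : a ≠ 0 := by
    intro ha0
    rw [ha0, zero_smul] at ha
    have h1 : res N (le_top : U ≤ ⊤) (sec s ⊤) = res N (le_top : U ≤ ⊤) 0 := by
      rw [res_sec, ← ha, res_zero]
    exact sec_top_ne_zero s hs (res_injective_of_isInvertible hN _ hUne h1)
  have h1 : sec (SecTwist.powHom s d) U = a ^ d • lpow N e d := by
    rw [sec_powHom, ← ha, lpow_smul]
  intro h0
  have h2 : sec (SecTwist.powHom s d) U = 0 := by rw [h0]; rfl
  rw [h1] at h2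
  exact pow_ne_zero d ha0 ((isGen_lpow hg d).self.eq_zero h2)

open Groth.Agent.Lib.Helper3 Groth.Agent.Lib.Helper3.QCSec Groth.Agent.Lib.Helper3.InvGen
  Groth.Agent.Lib.Helper3.InvTensor Groth.Agent.Lib.Helper3.InvMonoidal
  Groth.Agent.Lib.Helper22.InvField Groth.Agent.Lib.Helper26.RefSh in
theorem exists_sec_of_nontrivial {X : Scheme.{u}} (N : X.Modules)
    (h : Nontrivial (Coh.HH X N 0)) : ∃ s : Coh.structureModule X ⟶ N, s ≠ 0 := by
  haveI := h
  obtain ⟨a, ha⟩ := exists_ne (0 : Coh.HH X N 0)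
  have hm0 : Groth.Agent.Lib.Helper23.T2.H0equiv N a ≠ 0 :=
    fun h => ha ((LinearEquiv.map_eq_zero_iff _).mp h)
  refine ⟨secHom N (Groth.Agent.Lib.Helper23.T2.H0equiv N a), ?_⟩
  intro h0
  apply hm0
  have h1 := sec_secHom N (Groth.Agent.Lib.Helper23.T2.H0equiv N a)
  rw [h0] at h1
  exact h1.symm.trans rfl

open Groth.Agent.Lib.Helper3 Groth.Agent.Lib.Helper3.QCSec Groth.Agent.Lib.Helper3.InvGen
  Groth.Agent.Lib.Helper3.InvTensor Groth.Agent.Lib.Helper3.InvMonoidal
  Groth.Agent.Lib.Helper22.InvField Groth.Agent.Lib.Helper26.RefSh in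

/-- Fix a field k, an integral proper k-scheme X, and an invertible O_X-module L with tensor inverse M.
Suppose that L^{⊗j} has a nonzero global section for every j ≥ 4 and that no tensor power L^{⊗j}
with j ≥ 1 is isomorphic to O_X. Then H⁰(X, M^{⊗i}) = 0 for every i ≥ 1: the negative powers of L
have no nonzero global sections. (The published statement is for the canonical module of a minimal
surface of general type over an algebraically closed field, where the fourth and higher powers are
globally generated by a deep result quoted without proof, and non-triviality of the positive powers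
comes from bigness; the published deduction of this part uses exactly the two hypotheses carried
here, on an integral proper X.) -/
theorem result (k : Type u) [Field k]
    (X : Scheme.{u}) [X.Over (Spec (CommRingCat.of k))] [IsProper (X ↘ (Spec (CommRingCat.of k)))] [IsIntegral X]
    (L M : X.Modules) (hL : PicF.IsInvertible L) (hM : ClSub.IsInverseOf M L)
    (hsec : ∀ j : ℕ, 4 ≤ j → Nontrivial (Coh.HH X (CohB1.tensorPow L j) 0))
    (hnt : ∀ j : ℕ, 1 ≤ j → IsEmpty (CohB1.tensorPow L j ≅ Coh.structureModule X))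
    (i : ℕ) (hi : 1 ≤ i) :
    Subsingleton (Coh.HH X (CohB1.tensorPow M i) 0) := by
  classical
  by_contra hns
  rw [not_subsingleton_iff_nontrivial] at hns
  have hfield : IsField (Γ(X, ⊤) : Type u) :=
    isField_of_universallyClosed k (X ↘ Spec (CommRingCat.of k))
  have hMinv : PicF.IsInvertible M :=
    Groth.Agent.Lib.Helper7.AmpleRes2.isInvertible_of_isInverseOf hL hM
  obtain ⟨s, hs⟩ := exists_sec_of_nontrivial (CohB1.tensorPow M i) hns
  obtain ⟨t, ht⟩ := exists_sec_of_nontrivial (CohB1.tensorPow L (i * 4)) (hsec (i * 4) (by omega))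
  have hMi : PicF.IsInvertible (CohB1.tensorPow M i) := isInvertible_tensorPow hMinv i
  have hMn : PicF.IsInvertible (CohB1.tensorPow M (i * 4)) := isInvertible_tensorPow hMinv _
  have hNinv : PicF.IsInvertible (CohB1.tensorPow L (i * 4)) := isInvertible_tensorPow hL _
  have hpow := powHom_ne_zero hMi s hs 4
  have hs' : SecTwist.powHom s 4 ≫ (powMul M i 4).hom ≠ 0 := by
    intro h
    apply hpow
    rw [← cancel_mono (powMul M i 4).hom, zero_comp]
    exact h
  generalize SecTwist.powHom s 4 ≫ (powMul M i 4).hom = s' at hs'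
  obtain ⟨e0⟩ := hM
  let φ : CohB1.tensorMod (CohB1.tensorPow M (i * 4)) (CohB1.tensorPow L (i * 4)) ≅
      Coh.structureModule X :=
    (powTensor M L (i * 4)).symm ≪≫ tensorPowIso e0 (i * 4) ≪≫ powUnit X (i * 4)
  let c : CohB1.tensorPow L (i * 4) ⟶ Coh.structureModule X :=
    (unitorL (CohB1.tensorPow L (i * 4))).inv ≫
      (tensorMap s' (𝟙 (CohB1.tensorPow L (i * 4))) ≫ φ.hom)
  have hc : c ≠ 0 := by
    intro h0
    have h1 : tensorMap s' (𝟙 (CohB1.tensorPow L (i * 4))) = 0 := by
      have h2 : (unitorL (CohB1.tensorPow L (i * 4))).inv ≫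
          (tensorMap s' (𝟙 (CohB1.tensorPow L (i * 4))) ≫ φ.hom) =
          (unitorL (CohB1.tensorPow L (i * 4))).inv ≫ 0 := by
        rw [comp_zero]; exact h0
      have h3 := (cancel_epi _).mp h2
      rw [← cancel_mono φ.hom, zero_comp]
      exact h3
    obtain ⟨x⟩ := (inferInstance : Nonempty X)
    obtain ⟨U, e, hxU, hg⟩ := exists_isGen hNinv x
    have hUne : (U : Set X).Nonempty := ⟨x, hxU⟩
    have h3 : tm (CohB1.tensorPow M (i * 4)) (CohB1.tensorPow L (i * 4)) U (sec s' U) e = 0 := by
      have h4 := tensorMap_tm s' (𝟙 (CohB1.tensorPow L (i * 4))) U (ofFun U 1) e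
      rw [h1] at h4
      exact h4.symm
    have h5 : sec s' U = 0 :=
      tm_gen_eq_zero (CohB1.tensorPow M (i * 4)) (CohB1.tensorPow L (i * 4)) hg U le_rfl
        (sec s' U) (by rw [res_self]; exact h3)
    have h6 : sec s' ⊤ = 0 := by
      apply res_injective_of_isInvertible hMn (le_top : U ≤ ⊤) hUne
      rw [res_sec, h5, res_zero]
    exact sec_top_ne_zero s' hs' h6
  haveI := isIso_cosection hfield hNinv t ht c hc
  exact (hnt (i * 4) (by omega)).false (asIso c)

end Groth.Agent.S14064
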