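import Groth.Statements.S14066
import Mathlib
import Groth.Agent.Lib.Helper26.LinEmb


set_option autoImplicit false
universe u
open CategoryTheory CategoryTheory.Limits AlgebraicGeometry TopologicalSpace
open Variety

namespace Groth.Agent.S14066

/-- Let k be a field, and let X₁ and X₂ be k-schemes with closed immersions i₁ : X₁ → P^n_k and i₂ : X₂
→ P^m_k over k. Then there is a closed immersion of the disjoint union X₁ ⨿ X₂ into P^{n+m+1}_k over
k, that is, compatible with the structure morphism of the coproduct induced by those of X₁ and X₂.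
(Stated as the step of the published proof showing that a disjoint union of two projective k-schemes
is projective.) -/
theorem result (k : Type u) [Field k] (n m : ℕ)
    (X₁ X₂ : Scheme.{u}) [X₁.Over (Spec (CommRingCat.of k))] [X₂.Over (Spec (CommRingCat.of k))]
    (i₁ : X₁ ⟶ CohB1.ProjSpace n k) [IsClosedImmersion i₁] (h₁ : i₁ ≫ CohB1.ProjSpace.toSpec n k = X₁ ↘ (Spec (CommRingCat.of k)))
    (i₂ : X₂ ⟶ CohB1.ProjSpace m k) [IsClosedImmersion i₂] (h₂ : i₂ ≫ CohB1.ProjSpace.toSpec m k = X₂ ↘ (Spec (CommRingCat.of k))) :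
    ∃ j : X₁ ⨿ X₂ ⟶ CohB1.ProjSpace (n + m + 1) k, IsClosedImmersion j ∧
      j ≫ CohB1.ProjSpace.toSpec (n + m + 1) k = coprod.desc (X₁ ↘ (Spec (CommRingCat.of k))) (X₂ ↘ (Spec (CommRingCat.of k))) := by
  obtain ⟨c₁, c₂, hc₁, hc₂, e₁, e₂, hd⟩ := Groth.Agent.Lib.Helper26.LinEmb.exists_embeddings k n m
  haveI := hc₁
  haveI := hc₂
  refine ⟨coprod.desc (i₁ ≫ c₁) (i₂ ≫ c₂),
    Groth.Agent.Lib.Helper3.CoprodClosed.isClosedImmersion_coprod_desc _ _ (fun x y => ?_), ?_⟩
  · rw [Scheme.Hom.comp_apply, Scheme.Hom.comp_apply]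
    exact hd _ _
  · apply coprod.hom_ext
    · rw [← Category.assoc, coprod.inl_desc, Category.assoc, e₁, h₁, coprod.inl_desc]
    · rw [← Category.assoc, coprod.inr_desc, Category.assoc, e₂, h₂, coprod.inr_desc]

end Groth.Agent.S14066
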