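import Groth.Statements.S1407
import Groth.Agent.Lib.Helper14.FibreNoeth
import Groth.Agent.Lib.Helper14.LCF.Thickening

set_option autoImplicit false
universe u
open FlatMor

namespace Groth.Agent.S1407

open AlgebraicGeometry CategoryTheory Limits in
/-- Let Y' → Y be flat, locally of finite presentation and surjective and f' the base change of f : X →
Y. Then f has locally Noetherian fibres and is Cohen–Macaulay at every point if and only if the same
holds for f'. -/
theorem result {X Y X' Y' : Scheme.{u}} (f : X ⟶ Y) (f' : X' ⟶ Y') (g' : X' ⟶ X) (g : Y' ⟶ Y) [Flat g] [LocallyOfFinitePresentation g] [Surjective g]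
    (hc : IsPullback g' f' f g) :
    ((∀ y : Y, IsLocallyNoetherian (f.fiber y)) ∧ ∀ x : X, MoreMor.IsCMAt f x) ↔
      (∀ y' : Y', IsLocallyNoetherian (f'.fiber y')) ∧ ∀ x' : X', MoreMor.IsCMAt f' x' := by
  have ff : ∀ y' : Y', (g.residueFieldMap y').hom.FaithfullyFlat := by
    intro y'
    algebraize [(g.residueFieldMap y').hom]
    change Module.FaithfullyFlat (Y.residueField (g y')) (Y'.residueField y')
    infer_instance
  have fib : ∀ y' : Y', (IsLocallyNoetherian (f.fiber (g y')) ↔
      IsLocallyNoetherian (f'.fiber y')) := by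
    intro y'
    obtain ⟨e, he, -⟩ := Groth.Agent.Lib.Helper14.LCF.exists_fibre_isPullback hc y'
    constructor
    · intro _
      exact Groth.Agent.Lib.Helper14.FibreNoeth.isLocallyNoetherian_of_essFiniteType he
        (Groth.Agent.Lib.Helper14.CMBaseChange.essFiniteType_residueFieldMap g y')
    · intro _
      exact Groth.Agent.Lib.Helper14.FibreNoeth.isLocallyNoetherian_of_faithfullyFlat he (ff y')
  haveI hg' : Surjective g' := MorphismProperty.of_isPullback (P := @Surjective) hc.flip inferInstance
  constructor
  · rintro ⟨hN, hCM⟩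
    refine ⟨fun y' => (fib y').1 (hN (g y')), fun x' => ?_⟩
    haveI := hN (g (f' x'))
    exact Groth.Agent.Lib.Helper14.CMBaseChange.isCMAt_baseChange hc x' (Or.inl inferInstance)
      (hCM (g' x'))
  · rintro ⟨hN', hCM'⟩
    refine ⟨fun y => ?_, fun x => ?_⟩
    · obtain ⟨y', rfl⟩ := g.surjective y
      exact (fib y').2 (hN' y')
    · obtain ⟨x', rfl⟩ := g'.surjective x
      haveI := (fib (f' x')).2 (hN' (f' x'))
      exact Groth.Agent.Lib.Helper14.CMBaseChange.isCMAt_of_baseChange hc x'
        (Or.inl inferInstance)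
        (Groth.Agent.Lib.Helper14.CMBaseChange.flat_stalkMap_of_baseChange hc x'
          (Flat.stalkMap g (f' x')) (hCM' x').1) (hCM' x')

end Groth.Agent.S1407
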