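import Groth.Statements.S14075
-- import your own Groth.Agent.* helpers here
import Mathlib
import Groth.Agent.Lib.Helper12.EquidimOpen
import Groth.Agent.Lib.Helper12.EquidimComp
import Groth.Agent.Lib.Helper12.UnivOpenDim

set_option autoImplicit false
open CategoryTheory AlgebraicGeometry
universe u
open FamCyc

namespace Groth.Agent.S14075

open Polynomial Cardinal AlgebraicGeometry CategoryTheory TopologicalSpace
open Groth.Agent.Lib.Helper12.OrdTools Groth.Agent.Lib.Helper12.DimIneq
open Groth.Agent.Lib.Helper12 Groth.Agent.Lib.Helper12.SchemeDimFT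
open Groth.Agent.Lib.Helper12.ChevalleyCor Groth.Agent.Lib.Helper12.SchemeDimIneq
open Groth.Agent.Lib.Helper14 Order Groth.Agent.Lib.Helper12.Equidim
open Groth.Agent.Lib.Helper12.ClosedSub Groth.Agent.Lib.Helper12.JacDim
open Groth.Agent.Lib.Helper12.FibreMax Groth.Agent.Lib.Helper12.EquidimSub
open Groth.Agent.Lib.Helper12.EquidimHyp Groth.Agent.Lib.Helper12.EquidimPt
open Groth.Agent.Lib.Helper12.EquidimOpen

set_option backward.isDefEq.respectTransparency false

open Groth.Agent.Lib.Helper12.UnivOpenDim Groth.Agent.Lib.Helper12.EquidimComp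

lemma isUnivOpenAt_of_universallyOpen {X S : Scheme.{u}} (f : X ⟶ S) [UniversallyOpen f] (t : X) :
    EGA43.IsUnivOpenAt f t := by
  intro Y' g x' _ U hU
  have hopen : IsOpenMap (Limits.pullback.snd f g) := (Limits.pullback.snd f g).isOpenMap
  exact hopen.image_mem_nhds hU


/-- Let f : X ⟶ S be locally of finite type and universally open. Then every point x of X lies on an
irreducible component W of X, given its reduced subscheme structure, such that W ⟶ S is
equidimensional at x. -/
theorem result {X S : Scheme.{u}} (f : X ⟶ S) [LocallyOfFiniteType f]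
    [UniversallyOpen f] (x : X) :
    ∃ W : TopologicalSpace.Closeds X, (W : Set X) ∈ irreducibleComponents (X : Type u) ∧
      ∃ w : ↥((Scheme.IdealSheafData.vanishingIdeal W).subscheme),
        (Scheme.IdealSheafData.vanishingIdeal W).subschemeι.base w = x ∧
        EGA43.IsEquidimAt ((Scheme.IdealSheafData.vanishingIdeal W).subschemeι ≫ f) w := by
  classical
  -- a maximal point `t` of the fibre through `x` realizing the fibre dimension
  obtain ⟨d, hd⟩ := Groth.Agent.Lib.Helper12.SecComp.exists_nat_fibreDimAt f x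
  obtain ⟨t₀, ht₀f, ht₀x, ht₀d⟩ := exists_generization_trn_eq_fibreDimAt f x
  obtain ⟨t, htf, htt₀, htmax⟩ := exists_max_generization_in_fibre f t₀
  have htx : t ⤳ x := htt₀.trans ht₀x
  have htfx : f t = f x := htf.trans ht₀f
  have htmax' : ∀ x' : X, f.base x' = f.base t → t ∈ closure {x'} → x' = t :=
    fun x' hx' hcl => htmax x' hx' (specializes_iff_mem_closure.mpr hcl)
  have htd : FlatMor.fibreDimAt f t = ((d : ℕ∞) : WithBot ℕ∞) := by
    rw [fibreDimAt_eq_trn_of_max f t htmax']
    apply le_antisymm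
    · have := trn_le_fibreDimAt_of_specializes f x t htfx htx
      rwa [hd] at this
    · rw [hd] at ht₀d
      refine ht₀d.trans ?_
      exact_mod_cast trn_le_of_specializes_fibre f t₀ t htf htt₀
  -- the component
  have hUO := isUnivOpenAt_of_universallyOpen f t
  obtain ⟨Z, hZ, htZ, hZdom, hZdim⟩ := exists_component_of_le_dim f t htmax'
    (fun U hU y' hy' => le_dim_of_isUnivOpenAt f t htmax' hUO U hU y' hy')
    (irreducibleComponent (f.base t)) (irreducibleComponent_mem_irreducibleComponents _)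
    mem_irreducibleComponent
  obtain ⟨ξ, hξmax, rfl⟩ := (mem_irreducibleComponents_iff Z).mp hZ
  have hξt : ξ ⤳ t := specializes_iff_mem_closure.mpr htZ
  have hξx : ξ ⤳ x := hξt.trans htx
  -- the image of the generic point
  have hcl : closure ({f ξ} : Set S) = irreducibleComponent (f.base t) := by
    rw [← closure_image_closure_singleton' f ξ]
    exact hZdom
  have hfξmax : IsMaxPt (f ξ) := by
    refine (closure_singleton_mem_irreducibleComponents_iff (f ξ)).mp ?_
    rw [hcl]
    exact irreducibleComponent_mem_irreducibleComponents _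
  have htrξ : trn f ξ = (d : ℕ∞) := by
    have h1 := hZdim (f ξ) hcl
    have h2 := dim_generic_fibre_closure f ξ
    rw [← h1.2, ← h1.1, htd] at h2
    exact (WithBot.coe_injective h2).symm
  refine ⟨⟨closure {ξ}, isClosed_closure⟩,
    (mem_irreducibleComponents_iff _).mpr ⟨ξ, hξmax, rfl⟩, ?_⟩
  obtain ⟨w, hw⟩ := exists_clSubι_eq X ξ x hξx
  refine ⟨w, hw, ?_⟩
  set ι := clSubι X ξ with hι
  change EGA43.IsEquidimAt (ι ≫ f) w
  have hgw : (ι ≫ f) w = f x := by
    show f (ι w) = f x
    rw [hw]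
  have hopenX := Groth.Agent.Lib.Helper12.Chevalley.isOpen_setOf_fibreDimAt_le f d
  let U₀ : X.Opens := ⟨{p : X | FlatMor.fibreDimAt f p ≤ d}, hopenX⟩
  rw [isEquidimAt_iff_pointwise' (ι ≫ f) w]
  refine ⟨d, ι ⁻¹ᵁ U₀, ?_, ?_, ?_⟩
  · show FlatMor.fibreDimAt f (ι w) ≤ d
    rw [hw, hd]
  · intro ξ' _ hξ'
    have h1 : ξ' = genericPoint (clSub X ξ) :=
      (hξ' _ (genericPoint_specializes ξ')).symm
    have h2 : ι ξ' = ξ := by rw [h1]; exact clSubι_genericPoint X ξ
    have h3 : (ι ≫ f) ξ' = f ξ := by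
      show f (ι ξ') = f ξ
      rw [h2]
    rw [h3, hgw]
    exact ⟨hfξmax, hξx.map f.continuous⟩
  · intro z' hz'U hz'max
    rw [trn_comp_preimmersion]
    have hzU : FlatMor.fibreDimAt f (ι z') ≤ d := hz'U
    have hle : trn f (ι z') ≤ (d : ℕ∞) := by
      have h1 := (trn_le_fibreDimAt_of_specializes f (ι z') (ι z') rfl specializes_rfl).trans hzU
      exact_mod_cast h1
    obtain ⟨n, hn⟩ : ∃ n : ℕ, trn f (ι z') = (n : ℕ∞) := by
      have hne : trn f (ι z') ≠ ⊤ := ne_top_of_le_ne_top (ENat.coe_ne_top d) hle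
      exact ⟨(trn f (ι z')).toNat, (ENat.coe_toNat hne).symm⟩
    have hmax' : ∀ x' : clSub X ξ, (ι ≫ f).base x' = (ι ≫ f).base z' → z' ∈ closure {x'} → x' = z' :=
      fun x' hx' hcl => hz'max x' hx' (specializes_iff_mem_closure.mpr hcl)
    have h2 : FlatMor.fibreDimAt (ι ≫ f) z' = ((n : ℕ∞) : WithBot ℕ∞) := by
      rw [fibreDimAt_eq_trn_of_max (ι ≫ f) z' hmax', trn_comp_preimmersion, hn]
    have hopen := Groth.Agent.Lib.Helper12.Chevalley.isOpen_setOf_fibreDimAt_le (ι ≫ f) n
    have hz'mem : z' ∈ {p : clSub X ξ | FlatMor.fibreDimAt (ι ≫ f) p ≤ n} := by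
      show FlatMor.fibreDimAt (ι ≫ f) z' ≤ n
      rw [h2]; rfl
    have hηmem : genericPoint (clSub X ξ) ∈ {p : clSub X ξ | FlatMor.fibreDimAt (ι ≫ f) p ≤ n} :=
      (genericPoint_specializes z').mem_open hopen hz'mem
    have h3 := trn_le_fibreDimAt_of_specializes (ι ≫ f) (genericPoint (clSub X ξ))
      (genericPoint (clSub X ξ)) rfl specializes_rfl
    rw [trn_comp_preimmersion, clSubι_genericPoint, htrξ] at h3
    have h4 : ((d : ℕ∞) : WithBot ℕ∞) ≤ ((n : ℕ) : WithBot ℕ∞) := h3.trans hηmem
    have h5 : d ≤ n := by exact_mod_cast h4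
    rw [hn]
    have : n ≤ d := by
      have := hle
      rw [hn] at this
      exact_mod_cast this
    exact_mod_cast le_antisymm this h5

end Groth.Agent.S14075
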