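import Groth.Statements.S14076
-- import your own Groth.Agent.* helpers here
import Mathlib
import Groth.Agent.Lib.Helper12.EquidimOpen
import Groth.Agent.Lib.Helper12.UnivOpenDim

set_option autoImplicit false
open CategoryTheory AlgebraicGeometry
universe u
open FamCyc

namespace Groth.Agent.S14076

open Polynomial Cardinal AlgebraicGeometry CategoryTheory TopologicalSpace
open Groth.Agent.Lib.Helper12.OrdTools Groth.Agent.Lib.Helper12.DimIneq
open Groth.Agent.Lib.Helper12 Groth.Agent.Lib.Helper12.SchemeDimFT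
open Groth.Agent.Lib.Helper12.ChevalleyCor Groth.Agent.Lib.Helper12.SchemeDimIneq
open Groth.Agent.Lib.Helper14 Order Groth.Agent.Lib.Helper12.Equidim
open Groth.Agent.Lib.Helper12.ClosedSub Groth.Agent.Lib.Helper12.JacDim
open Groth.Agent.Lib.Helper12.FibreMax Groth.Agent.Lib.Helper12.EquidimSub
open Groth.Agent.Lib.Helper12.EquidimHyp Groth.Agent.Lib.Helper12.EquidimPt
open Groth.Agent.Lib.Helper12.EquidimOpen

set_option backward.isDefEq.respectTransparency false


/-- Let f : X ⟶ S be locally of finite type and equidimensional at every point of X. Then every point x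
of X lies on an irreducible component W of X, given its reduced subscheme structure, such that W ⟶ S
is equidimensional at x. -/
theorem result {X S : Scheme.{u}} (f : X ⟶ S) [LocallyOfFiniteType f]
    (h : ∀ x : X, EGA43.IsEquidimAt f x) (x : X) :
    ∃ W : TopologicalSpace.Closeds X, (W : Set X) ∈ irreducibleComponents (X : Type u) ∧
      ∃ w : ↥((Scheme.IdealSheafData.vanishingIdeal W).subscheme),
        (Scheme.IdealSheafData.vanishingIdeal W).subschemeι.base w = x ∧
        EGA43.IsEquidimAt ((Scheme.IdealSheafData.vanishingIdeal W).subschemeι ≫ f) w := by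
  classical
  obtain ⟨e, U, hxU, hA, hB⟩ := (isEquidimAt_iff_pointwise' f x).mp (h x)
  obtain ⟨ξ, hξmax, hξx⟩ := exists_isMaxPt_specializes x
  have hξU : ξ ∈ U := hξx.mem_open U.2 hxU
  refine ⟨⟨closure {ξ}, isClosed_closure⟩,
    (mem_irreducibleComponents_iff _).mpr ⟨ξ, hξmax, rfl⟩, ?_⟩
  obtain ⟨w, hw⟩ := exists_clSubι_eq X ξ x hξx
  refine ⟨w, hw, ?_⟩
  set ι := clSubι X ξ with hι
  change EGA43.IsEquidimAt (ι ≫ f) w
  have hgw : (ι ≫ f) w = f x := by
    show f (ι w) = f x
    rw [hw]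
  have hξfib : ∀ z' : X, f z' = f ξ → z' ⤳ ξ → z' = ξ := fun z' _ hz' => hξmax z' hz'
  have htrξ : trn f ξ = (e : ℕ∞) := hB ξ hξU hξfib
  rw [isEquidimAt_iff_pointwise' (ι ≫ f) w]
  refine ⟨e, ι ⁻¹ᵁ U, ?_, ?_, ?_⟩
  · show ι w ∈ U
    rw [hw]; exact hxU
  · intro ξ' _ hξ'
    have h1 : ξ' = genericPoint (clSub X ξ) :=
      (hξ' _ (genericPoint_specializes ξ')).symm
    have h2 : ι ξ' = ξ := by rw [h1]; exact clSubι_genericPoint X ξ
    have h3 : (ι ≫ f) ξ' = f ξ := by
      show f (ι ξ') = f ξ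
      rw [h2]
    rw [h3, hgw]
    exact hA ξ hξU hξmax
  · intro z' hz'U hz'max
    rw [trn_comp_preimmersion]
    have hzU : ι z' ∈ U := hz'U
    -- upper bound
    obtain ⟨z'', hz''f, hz''sp, hz''max⟩ := exists_max_generization_in_fibre f (ι z')
    have hz''U : z'' ∈ U := hz''sp.mem_open U.2 hzU
    have h1 : trn f z'' = (e : ℕ∞) := hB z'' hz''U hz''max
    have hle : trn f (ι z') ≤ (e : ℕ∞) := by
      rw [← h1]
      exact trn_le_of_specializes_fibre f (ι z') z'' hz''f hz''sp
    -- lower bound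
    obtain ⟨n, hn⟩ : ∃ n : ℕ, trn f (ι z') = (n : ℕ∞) := by
      have hne : trn f (ι z') ≠ ⊤ := ne_top_of_le_ne_top (ENat.coe_ne_top e) hle
      exact ⟨(trn f (ι z')).toNat, (ENat.coe_toNat hne).symm⟩
    have hmax' : ∀ x' : clSub X ξ, (ι ≫ f).base x' = (ι ≫ f).base z' → z' ∈ closure {x'} → x' = z' :=
      fun x' hx' hcl => hz'max x' hx' (specializes_iff_mem_closure.mpr hcl)
    have h2 : FlatMor.fibreDimAt (ι ≫ f) z' = ((n : ℕ∞) : WithBot ℕ∞) := by
      rw [Groth.Agent.Lib.Helper12.UnivOpenDim.fibreDimAt_eq_trn_of_max (ι ≫ f) z' hmax',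
        trn_comp_preimmersion, hn]
    have hopen := Groth.Agent.Lib.Helper12.Chevalley.isOpen_setOf_fibreDimAt_le (ι ≫ f) n
    have hz'mem : z' ∈ {p : clSub X ξ | FlatMor.fibreDimAt (ι ≫ f) p ≤ n} := by
      show FlatMor.fibreDimAt (ι ≫ f) z' ≤ n
      rw [h2]; rfl
    have hηmem : genericPoint (clSub X ξ) ∈ {p : clSub X ξ | FlatMor.fibreDimAt (ι ≫ f) p ≤ n} :=
      (genericPoint_specializes z').mem_open hopen hz'mem
    have h3 := trn_le_fibreDimAt_of_specializes (ι ≫ f) (genericPoint (clSub X ξ))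
      (genericPoint (clSub X ξ)) rfl specializes_rfl
    rw [trn_comp_preimmersion, clSubι_genericPoint, htrξ] at h3
    have h4 : ((e : ℕ∞) : WithBot ℕ∞) ≤ ((n : ℕ) : WithBot ℕ∞) := h3.trans hηmem
    have h5 : e ≤ n := by exact_mod_cast h4
    rw [hn]
    have : n ≤ e := by
      have := hle
      rw [hn] at this
      exact_mod_cast this
    exact_mod_cast le_antisymm this h5

end Groth.Agent.S14076
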