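import Groth.Statements.S14079
-- import your own Groth.Agent.* helpers here
import Mathlib
import Groth.Agent.Lib.Helper12.EquidimOpen
import Groth.Agent.Lib.Helper12.EquidimComp
import Groth.Agent.Lib.Helper12.UnivOpenDim

set_option autoImplicit false
open CategoryTheory AlgebraicGeometry
universe u
open FamCyc

namespace Groth.Agent.S14079

open Polynomial Cardinal AlgebraicGeometry CategoryTheory TopologicalSpace
open Groth.Agent.Lib.Helper12.OrdTools Groth.Agent.Lib.Helper12.DimIneq
open Groth.Agent.Lib.Helper12 Groth.Agent.Lib.Helper12.SchemeDimFT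
open Groth.Agent.Lib.Helper12.ChevalleyCor Groth.Agent.Lib.Helper12.SchemeDimIneq
open Groth.Agent.Lib.Helper14 Order Groth.Agent.Lib.Helper12.Equidim
open Groth.Agent.Lib.Helper12.ClosedSub Groth.Agent.Lib.Helper12.JacDim
open Groth.Agent.Lib.Helper12.FibreMax Groth.Agent.Lib.Helper12.EquidimSub
open Groth.Agent.Lib.Helper12.EquidimHyp Groth.Agent.Lib.Helper12.EquidimPt
open Groth.Agent.Lib.Helper12.EquidimOpen

set_option backward.isDefEq.respectTransparency false

open Groth.Agent.Lib.Helper12.UnivOpenDim Groth.Agent.Lib.Helper12.EquidimComp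


/-- (iv) ⇒ (iii): let f : X ⟶ S be locally of finite type. Suppose that every point x of X which is a
maximal point of its fibre (no other point of the fibre over f x specializes to x) lies on an
irreducible component W of X, given its reduced subscheme structure, with W ⟶ S equidimensional at
x. Then every point of X lies on such an irreducible component. -/
theorem result {X S : Scheme.{u}} (f : X ⟶ S) [LocallyOfFiniteType f]
    (h : ∀ x : X, (∀ x' : X, f.base x' = f.base x → x ∈ closure ({x'} : Set X) → x' = x) →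
      ∃ W : TopologicalSpace.Closeds X, (W : Set X) ∈ irreducibleComponents (X : Type u) ∧
      ∃ w : ↥((Scheme.IdealSheafData.vanishingIdeal W).subscheme),
        (Scheme.IdealSheafData.vanishingIdeal W).subschemeι.base w = x ∧
        EGA43.IsEquidimAt ((Scheme.IdealSheafData.vanishingIdeal W).subschemeι ≫ f) w)
    (x : X) :
    ∃ W : TopologicalSpace.Closeds X, (W : Set X) ∈ irreducibleComponents (X : Type u) ∧
      ∃ w : ↥((Scheme.IdealSheafData.vanishingIdeal W).subscheme),
        (Scheme.IdealSheafData.vanishingIdeal W).subschemeι.base w = x ∧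
        EGA43.IsEquidimAt ((Scheme.IdealSheafData.vanishingIdeal W).subschemeι ≫ f) w := by
  classical
  -- a maximal point `t` of the fibre through `x` realizing the fibre dimension
  obtain ⟨d, hd⟩ := Groth.Agent.Lib.Helper12.SecComp.exists_nat_fibreDimAt f x
  obtain ⟨t₀, ht₀f, ht₀x, ht₀d⟩ := exists_generization_trn_eq_fibreDimAt f x
  obtain ⟨t, htf, htt₀, htmax⟩ := exists_max_generization_in_fibre f t₀
  have htx : t ⤳ x := htt₀.trans ht₀x
  have htfx : f t = f x := htf.trans ht₀f
  have htmax' : ∀ x' : X, f.base x' = f.base t → t ∈ closure {x'} → x' = t :=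
    fun x' hx' hcl => htmax x' hx' (specializes_iff_mem_closure.mpr hcl)
  have htd : trn f t = (d : ℕ∞) := by
    have h0 : ((trn f t : ℕ∞) : WithBot ℕ∞) = ((d : ℕ∞) : WithBot ℕ∞) := by
      apply le_antisymm
      · have := trn_le_fibreDimAt_of_specializes f x t htfx htx
        rwa [hd] at this
      · rw [hd] at ht₀d
        refine ht₀d.trans ?_
        exact_mod_cast trn_le_of_specializes_fibre f t₀ t htf htt₀
    exact WithBot.coe_injective h0
  -- the component given by the hypothesis
  obtain ⟨W, hW, wt, hwt, hE⟩ := h t htmax'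
  obtain ⟨ξ, hξmax, hWξ⟩ := (mem_irreducibleComponents_iff _).mp hW
  have hWeq : W = ⟨closure {ξ}, isClosed_closure⟩ := TopologicalSpace.Closeds.ext hWξ
  subst hWeq
  set ι := clSubι X ξ with hι
  change ι wt = t at hwt
  change EGA43.IsEquidimAt (ι ≫ f) wt at hE
  obtain ⟨e, U', hwtU', hA', hB'⟩ := (isEquidimAt_iff_pointwise' (ι ≫ f) wt).mp hE
  have hξt : ξ ⤳ t := by rw [← hwt]; exact specializes_clSubι X ξ wt
  have hξx : ξ ⤳ x := hξt.trans htx
  have hηmax : IsMaxPt (genericPoint (clSub X ξ)) := fun y hy =>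
    (hy.antisymm (genericPoint_specializes y)).eq
  have hηU' : genericPoint (clSub X ξ) ∈ U' := (genericPoint_specializes wt).mem_open U'.2 hwtU'
  have hιη : ι (genericPoint (clSub X ξ)) = ξ := clSubι_genericPoint X ξ
  have hfξmax : IsMaxPt (f ξ) := by
    have := (hA' _ hηU' hηmax).1
    have h3 : (ι ≫ f) (genericPoint (clSub X ξ)) = f ξ := by
      show f (ι (genericPoint (clSub X ξ))) = f ξ
      rw [hιη]
    rwa [h3] at this
  have htrξ' : trn f ξ = (e : ℕ∞) := by
    have := hB' _ hηU' (fun z' _ hz' => hηmax z' hz')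
    rwa [trn_comp_preimmersion, hιη] at this
  have hte : trn f t = (e : ℕ∞) := by
    have hwtmax : ∀ z' : clSub X ξ, (ι ≫ f) z' = (ι ≫ f) wt → z' ⤳ wt → z' = wt := by
      intro z' hz' hsp
      have h1 : ι z' ⤳ t := by rw [← hwt]; exact hsp.map ι.continuous
      have h2 : f (ι z') = f t := by rw [← hwt]; exact hz'
      have h3 : ι z' = ι wt := by rw [hwt]; exact htmax _ h2 h1
      exact ι.isEmbedding.injective h3
    have := hB' wt hwtU' hwtmax
    rwa [trn_comp_preimmersion, hwt] at this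
  have htrξ : trn f ξ = (d : ℕ∞) := by rw [htrξ', ← hte, htd]
  refine ⟨⟨closure {ξ}, isClosed_closure⟩, hW, ?_⟩
  obtain ⟨w, hw⟩ := exists_clSubι_eq X ξ x hξx
  refine ⟨w, hw, ?_⟩
  change EGA43.IsEquidimAt (ι ≫ f) w
  have hgw : (ι ≫ f) w = f x := by
    show f (ι w) = f x
    rw [hw]
  have hopenX := Groth.Agent.Lib.Helper12.Chevalley.isOpen_setOf_fibreDimAt_le f d
  let U₀ : X.Opens := ⟨{p : X | FlatMor.fibreDimAt f p ≤ d}, hopenX⟩
  rw [isEquidimAt_iff_pointwise' (ι ≫ f) w]
  refine ⟨d, ι ⁻¹ᵁ U₀, ?_, ?_, ?_⟩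
  · show FlatMor.fibreDimAt f (ι w) ≤ d
    rw [hw, hd]
  · intro ξ' _ hξ'
    have h1 : ξ' = genericPoint (clSub X ξ) :=
      (hξ' _ (genericPoint_specializes ξ')).symm
    have h2 : ι ξ' = ξ := by rw [h1]; exact clSubι_genericPoint X ξ
    have h3 : (ι ≫ f) ξ' = f ξ := by
      show f (ι ξ') = f ξ
      rw [h2]
    rw [h3, hgw]
    exact ⟨hfξmax, hξx.map f.continuous⟩
  · intro z' hz'U hz'max
    rw [trn_comp_preimmersion]
    have hzU : FlatMor.fibreDimAt f (ι z') ≤ d := hz'U
    have hle : trn f (ι z') ≤ (d : ℕ∞) := by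
      have h1 := (trn_le_fibreDimAt_of_specializes f (ι z') (ι z') rfl specializes_rfl).trans hzU
      exact_mod_cast h1
    obtain ⟨n, hn⟩ : ∃ n : ℕ, trn f (ι z') = (n : ℕ∞) := by
      have hne : trn f (ι z') ≠ ⊤ := ne_top_of_le_ne_top (ENat.coe_ne_top d) hle
      exact ⟨(trn f (ι z')).toNat, (ENat.coe_toNat hne).symm⟩
    have hmax' : ∀ x' : clSub X ξ, (ι ≫ f).base x' = (ι ≫ f).base z' → z' ∈ closure {x'} → x' = z' :=
      fun x' hx' hcl => hz'max x' hx' (specializes_iff_mem_closure.mpr hcl)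
    have h2 : FlatMor.fibreDimAt (ι ≫ f) z' = ((n : ℕ∞) : WithBot ℕ∞) := by
      rw [fibreDimAt_eq_trn_of_max (ι ≫ f) z' hmax', trn_comp_preimmersion, hn]
    have hopen := Groth.Agent.Lib.Helper12.Chevalley.isOpen_setOf_fibreDimAt_le (ι ≫ f) n
    have hz'mem : z' ∈ {p : clSub X ξ | FlatMor.fibreDimAt (ι ≫ f) p ≤ n} := by
      show FlatMor.fibreDimAt (ι ≫ f) z' ≤ n
      rw [h2]; rfl
    have hηmem : genericPoint (clSub X ξ) ∈ {p : clSub X ξ | FlatMor.fibreDimAt (ι ≫ f) p ≤ n} :=
      (genericPoint_specializes z').mem_open hopen hz'mem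
    have h3 := trn_le_fibreDimAt_of_specializes (ι ≫ f) (genericPoint (clSub X ξ))
      (genericPoint (clSub X ξ)) rfl specializes_rfl
    rw [trn_comp_preimmersion, clSubι_genericPoint, htrξ] at h3
    have h4 : ((d : ℕ∞) : WithBot ℕ∞) ≤ ((n : ℕ) : WithBot ℕ∞) := h3.trans hηmem
    have h5 : d ≤ n := by exact_mod_cast h4
    rw [hn]
    have : n ≤ d := by
      have := hle
      rw [hn] at this
      exact_mod_cast this
    exact_mod_cast le_antisymm this h5

end Groth.Agent.S14079
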