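import Groth.Statements.S14080
import Mathlib

set_option autoImplicit false
universe u
open ArSing

namespace Groth.Agent.S14080


namespace H14080
open PowerSeries

variable {k : Type*} [Field k]

lemma map_C (h : PowerSeries k →ₐ[k] PowerSeries k) (c : k) : h (C c) = C c := by
  have := h.commutes c
  rwa [← C_eq_algebraMap] at this

lemma constantCoeff_map_X (h : PowerSeries k →ₐ[k] PowerSeries k) :
    constantCoeff (h X) = 0 := by
  by_contra hc
  obtain ⟨c, hcdef⟩ : ∃ c : k, c = constantCoeff (h X) := ⟨_, rfl⟩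
  rw [← hcdef] at hc
  have h1 : IsUnit ((X : PowerSeries k) - C c) := by
    rw [isUnit_iff_constantCoeff, map_sub, constantCoeff_X, constantCoeff_C, zero_sub]
    exact (IsUnit.mk0 _ hc).neg
  have h2 : IsUnit (h (X - C c)) := h1.map h
  rw [map_sub, map_C, isUnit_iff_constantCoeff, map_sub, constantCoeff_C, ← hcdef, sub_self] at h2
  exact not_isUnit_zero h2

lemma constantCoeff_map (h : PowerSeries k →ₐ[k] PowerSeries k) (f : PowerSeries k) :
    constantCoeff (h f) = constantCoeff f := by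
  have h1 := eq_X_mul_shift_add_const f
  have h2 : h f = h X * h (mk fun p => coeff (p + 1) f) + C (constantCoeff f) := by
    conv_lhs => rw [h1]
    rw [map_add, map_mul, map_C]
  rw [h2, map_add, map_mul, constantCoeff_map_X, zero_mul, zero_add, constantCoeff_C]

lemma algHom_ext_X (h₁ h₂ : PowerSeries k →ₐ[k] PowerSeries k) (hX : h₁ X = h₂ X) : h₁ = h₂ := by
  have hdvd : (X : PowerSeries k) ∣ h₁ X := X_dvd_iff.2 (constantCoeff_map_X h₁)
  have key : ∀ (n : ℕ) (f : PowerSeries k), (X : PowerSeries k) ^ n ∣ h₁ f - h₂ f := by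
    intro n
    induction n with
    | zero => intro f; rw [pow_zero]; exact one_dvd _
    | succ n ih =>
      intro f
      have h1 := eq_X_mul_shift_add_const f
      obtain ⟨g, hg⟩ : ∃ g : PowerSeries k, g = mk fun p => coeff (p + 1) f := ⟨_, rfl⟩
      rw [← hg] at h1
      have h3 : h₁ f - h₂ f = h₁ X * (h₁ g - h₂ g) := by
        conv_lhs => rw [h1]
        rw [map_add, map_mul, map_C, map_add, map_mul, map_C, ← hX]
        ring
      rw [h3, pow_succ, mul_comm]
      exact mul_dvd_mul hdvd (ih g)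
  apply AlgHom.ext
  intro f
  rw [← sub_eq_zero]
  ext m
  rw [map_zero]
  exact X_pow_dvd_iff.1 (key (m + 1) f) m (Nat.lt_succ_self m)

theorem main (k : Type u) [Field k] (h2 : (2 : k) ≠ 0)
    (σ : PowerSeries k ≃ₐ[k] PowerSeries k) (hσ : ∀ f, σ (σ f) = f) :
    (PowerSeries.coeff 1 (σ PowerSeries.X)) ^ 2 = 1 ∧
    ∃ φ : PowerSeries k ≃ₐ[k] PowerSeries k,
      φ PowerSeries.X = PowerSeries.C (2⁻¹ : k) *
        (PowerSeries.X + PowerSeries.C (PowerSeries.coeff 1 (σ PowerSeries.X)) * σ PowerSeries.X) ∧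
      ∀ f, φ.symm (σ (φ f)) = PowerSeries.rescale (PowerSeries.coeff 1 (σ PowerSeries.X)) f := by
  obtain ⟨σ₀, hσ₀⟩ : ∃ σ₀ : PowerSeries k →ₐ[k] PowerSeries k, σ₀ = (σ : _ →ₐ[k] _) := ⟨_, rfl⟩
  have hσ₀app : ∀ f, σ₀ f = σ f := fun f => by rw [hσ₀]; rfl
  obtain ⟨ξ, hξ⟩ : ∃ ξ : k, ξ = coeff 1 (σ X) := ⟨_, rfl⟩
  rw [← hξ]
  have hσX0 : constantCoeff (σ X) = 0 := by
    rw [← hσ₀app]; exact constantCoeff_map_X σ₀
  obtain ⟨w, hw⟩ : ∃ w, σ X = X * w := X_dvd_iff.2 hσX0
  have hwξ : constantCoeff w = ξ := by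
    rw [hξ, hw, ← coeff_zero_eq_constantCoeff_apply, coeff_succ_X_mul]
  have hξ2 : ξ * ξ = 1 := by
    have h1 : (X : PowerSeries k) = X * (w * σ w) := by
      conv_lhs => rw [← hσ X, hw, map_mul, hw]
      ring
    have h3 := congrArg (coeff 1) h1
    rw [coeff_one_X, show (1 : ℕ) = 0 + 1 from rfl, coeff_succ_X_mul,
      coeff_zero_eq_constantCoeff_apply, map_mul, ← hσ₀app, constantCoeff_map, hwξ] at h3
    exact h3.symm
  refine ⟨by rw [pow_two]; exact hξ2, ?_⟩
  obtain ⟨u, hu⟩ : ∃ u : PowerSeries k, u = C (2⁻¹ : k) * (X + C ξ * σ X) := ⟨_, rfl⟩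
  have hu0 : constantCoeff u = 0 := by
    rw [hu, map_mul, map_add, map_mul, constantCoeff_X, hσX0, mul_zero, add_zero, mul_zero]
  have hu1 : coeff 1 u = 1 := by
    rw [hu, coeff_C_mul, map_add, coeff_C_mul, coeff_one_X, ← hξ, hξ2]
    rw [show (1 : k) + 1 = 2 by norm_num]
    exact inv_mul_cancel₀ h2
  have hu1' : IsUnit (coeff 1 u) := by rw [hu1]; exact isUnit_one
  obtain ⟨v, hv⟩ : ∃ v : PowerSeries k, v = u.substInvOfIsUnit hu1' := ⟨_, rfl⟩
  have hv0 : constantCoeff v = 0 := by rw [hv]; exact constantCoeff_substInvOfIsUnit u hu1'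
  have hsu : HasSubst u := HasSubst.of_constantCoeff_zero' hu0
  have hsv : HasSubst v := HasSubst.of_constantCoeff_zero' hv0
  obtain ⟨φ₀, hφ₀⟩ : ∃ φ₀ : PowerSeries k →ₐ[k] PowerSeries k, φ₀ = substAlgHom hsu := ⟨_, rfl⟩
  obtain ⟨ψ₀, hψ₀⟩ : ∃ ψ₀ : PowerSeries k →ₐ[k] PowerSeries k, ψ₀ = substAlgHom hsv := ⟨_, rfl⟩
  have hφX : φ₀ X = u := by rw [hφ₀]; exact substAlgHom_X hsu
  have hψX : ψ₀ X = v := by rw [hψ₀]; exact substAlgHom_X hsv
  have hφv : φ₀ v = X := by
    rw [hφ₀, coe_substAlgHom, hv]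
    exact subst_substInvOfIsUnit_left u hu0 hu1'
  have hψu : ψ₀ u = X := by
    rw [hψ₀, coe_substAlgHom, hv]
    exact subst_substInvOfIsUnit_right u hu0 hu1'
  have h12 : φ₀.comp ψ₀ = AlgHom.id k _ := by
    apply algHom_ext_X
    rw [AlgHom.comp_apply, hψX, hφv]; rfl
  have h21 : ψ₀.comp φ₀ = AlgHom.id k _ := by
    apply algHom_ext_X
    rw [AlgHom.comp_apply, hφX, hψu]; rfl
  refine ⟨AlgEquiv.ofAlgHom φ₀ ψ₀ h12 h21, ?_, ?_⟩
  · rw [AlgEquiv.ofAlgHom_apply]
    exact hφX.trans hu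
  · intro f
    rw [AlgEquiv.symm_apply_eq, AlgEquiv.ofAlgHom_apply, AlgEquiv.ofAlgHom_apply]
    have hcomp : σ₀.comp φ₀ = φ₀.comp (rescaleAlgHom ξ) := by
      apply algHom_ext_X
      have hr : rescaleAlgHom ξ (X : PowerSeries k) = C ξ * X := by
        have := RingHom.congr_fun (coe_rescaleAlgHom ξ) (X : PowerSeries k)
        rw [rescale_X] at this
        exact this
      rw [AlgHom.comp_apply, AlgHom.comp_apply, hr, hφX, map_mul, map_C, hφX, hσ₀app, hu,
        map_mul, map_add, map_mul, hσ, ← hσ₀app (C _), ← hσ₀app (C _), map_C, map_C]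
      have hCC : (C ξ : PowerSeries k) * C ξ = 1 := by rw [← map_mul, hξ2, map_one]
      linear_combination (-(C (2⁻¹ : k) * σ X)) * hCC
    have := AlgHom.congr_fun hcomp f
    rw [AlgHom.comp_apply, AlgHom.comp_apply, hσ₀app] at this
    rw [this]
    congr 1
    exact RingHom.congr_fun (coe_rescaleAlgHom ξ) f

end H14080

/-- Let k be a field in which 2 is invertible and σ an involutive k-algebra automorphism of the power
series ring k[[t]], with ξ the coefficient of t in σ(t). Then ξ^2 = 1, the k-algebra endomorphism φ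
with φ(t) = (t + ξ σ(t))/2 is an automorphism, and φ⁻¹ σ φ is the automorphism t ↦ ξ t. (The
published statement is over an algebraically closed field of characteristic prime to 2; only the
invertibility of 2 is used, so any field with 2 ≠ 0 is allowed here.) -/
theorem result (k : Type u) [Field k] (h2 : (2 : k) ≠ 0)
    (σ : PowerSeries k ≃ₐ[k] PowerSeries k) (hσ : ∀ f, σ (σ f) = f) :
    (PowerSeries.coeff 1 (σ PowerSeries.X)) ^ 2 = 1 ∧
    ∃ φ : PowerSeries k ≃ₐ[k] PowerSeries k,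
      φ PowerSeries.X = PowerSeries.C (2⁻¹ : k) *
        (PowerSeries.X + PowerSeries.C (PowerSeries.coeff 1 (σ PowerSeries.X)) * σ PowerSeries.X) ∧
      ∀ f, φ.symm (σ (φ f)) = PowerSeries.rescale (PowerSeries.coeff 1 (σ PowerSeries.X)) f := by
  exact H14080.main k h2 σ hσ

end Groth.Agent.S14080
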