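import Groth.Statements.S14086
import Mathlib
import Groth.Agent.Lib.Helper21.FlatKer

set_option autoImplicit false
universe u
open FlatMor

namespace Groth.Agent.S14086

/-- Let R be a ring, A and B flat R-algebras, I an ideal of A, B → A/I an injective finite flat map of
R-algebras and P = B ×_{A/I} A the fibre product ring (pairs in B × A with equal image in A/I). For
any R-algebra R' the base change R' ⊗_R P maps injectively to R' ⊗_R A, and any b' in R' ⊗_R B and
a' in R' ⊗_R A with the same image in R' ⊗_R (A/I) are the two components of some element of R' ⊗_R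
P; that is, R' ⊗_R P is the fibre product of R' ⊗_R B and R' ⊗_R A over R' ⊗_R (A/I). -/
theorem result (R A B R' : Type u) [CommRing R] [CommRing A]
    [CommRing B] [CommRing R'] [Algebra R A] [Algebra R B] [Algebra R R'] [Module.Flat R A] [Module.Flat R B]
    (I : Ideal A) [Algebra B (A ⧸ I)] [IsScalarTower R B (A ⧸ I)] [Module.Finite B (A ⧸ I)] [Module.Flat B (A ⧸ I)]
    (hinj : Function.Injective (algebraMap B (A ⧸ I))) :
    Function.Injective (Algebra.TensorProduct.map (AlgHom.id R' R')
        ((AlgHom.snd R B A).comp (AlgHom.equalizer ((IsScalarTower.toAlgHom R B (A ⧸ I)).comp (AlgHom.fst R B A))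
          ((Ideal.Quotient.mkₐ R I).comp (AlgHom.snd R B A))).val)) ∧
    ∀ (b : TensorProduct R R' B) (a : TensorProduct R R' A),
      Algebra.TensorProduct.map (AlgHom.id R' R') (IsScalarTower.toAlgHom R B (A ⧸ I)) b =
        Algebra.TensorProduct.map (AlgHom.id R' R') (Ideal.Quotient.mkₐ R I) a →
      ∃ x : TensorProduct R R' ↥(AlgHom.equalizer ((IsScalarTower.toAlgHom R B (A ⧸ I)).comp (AlgHom.fst R B A))
          ((Ideal.Quotient.mkₐ R I).comp (AlgHom.snd R B A))),
        Algebra.TensorProduct.map (AlgHom.id R' R') ((AlgHom.fst R B A).comp (AlgHom.equalizer ((IsScalarTower.toAlgHom R B (A ⧸ I)).comp (AlgHom.fst R B A))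
          ((Ideal.Quotient.mkₐ R I).comp (AlgHom.snd R B A))).val) x = b ∧
        Algebra.TensorProduct.map (AlgHom.id R' R') ((AlgHom.snd R B A).comp (AlgHom.equalizer ((IsScalarTower.toAlgHom R B (A ⧸ I)).comp (AlgHom.fst R B A))
          ((Ideal.Quotient.mkₐ R I).comp (AlgHom.snd R B A))).val) x = a := by
  have hflat : Module.Flat R (A ⧸ I) := Module.Flat.trans R B (A ⧸ I)
  have hff : Module.FaithfullyFlat B (A ⧸ I) :=
    Groth.Agent.Lib.Helper21.faithfullyFlat_of_finite_flat_injective hinj
  set β := IsScalarTower.toAlgHom R B (A ⧸ I) with hβ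
  set φ := β.comp (AlgHom.fst R B A) with hφ
  set ψ := (Ideal.Quotient.mkₐ R I).comp (AlgHom.snd R B A) with hψ
  set ι : ↥(AlgHom.equalizer φ ψ) →ₗ[R] B × A := (AlgHom.equalizer φ ψ).val.toLinearMap with hι
  set f : B × A →ₗ[R] A ⧸ I := φ.toLinearMap - ψ.toLinearMap with hf
  have hιinj : Function.Injective ι := Subtype.val_injective
  have hfsurj : Function.Surjective f := by
    intro y
    obtain ⟨a, rfl⟩ := Ideal.Quotient.mk_surjective y
    refine ⟨(0, -a), ?_⟩
    simp [hf, hφ, hψ]
  have hex : Function.Exact ι f := by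
    intro x
    constructor
    · intro hx
      have hx' : φ x = ψ x := by
        have : φ x - ψ x = 0 := hx
        exact sub_eq_zero.mp this
      exact ⟨⟨x, hx'⟩, rfl⟩
    · rintro ⟨y, rfl⟩
      have h2 : φ y.1 = ψ y.1 := y.2
      show φ y.1 - ψ y.1 = 0
      rw [h2, sub_self]
  have hιT : Function.Injective (ι.lTensor R') :=
    LinearMap.lTensor_injective_of_exact_of_flat f hfsurj ι hιinj hex R'
  have hexT : Function.Exact (ι.lTensor R') (f.lTensor R') := lTensor_exact R' hex hfsurj
  have hβT : Function.Injective (β.toLinearMap.lTensor R') :=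
    Groth.Agent.Lib.Helper21.lTensor_injective_of_faithfullyFlat R'
  -- decomposition of the identity of B × A
  have hid : ∀ y : TensorProduct R R' (B × A),
      y = (LinearMap.inl R B A).lTensor R' ((LinearMap.fst R B A).lTensor R' y) +
        (LinearMap.inr R B A).lTensor R' ((LinearMap.snd R B A).lTensor R' y) := by
    intro y
    have h3 : (LinearMap.id : (B × A) →ₗ[R] (B × A)) =
        (LinearMap.inl R B A) ∘ₗ (LinearMap.fst R B A) +
          (LinearMap.inr R B A) ∘ₗ (LinearMap.snd R B A) := by
      ext <;> simp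
    have h4 : y = (LinearMap.id : (B × A) →ₗ[R] (B × A)).lTensor R' y := by simp
    conv_lhs => rw [h4, h3]
    rw [LinearMap.lTensor_add, LinearMap.add_apply, LinearMap.lTensor_comp,
      LinearMap.lTensor_comp, LinearMap.comp_apply, LinearMap.comp_apply]
  have hfT : ∀ y : TensorProduct R R' (B × A), f.lTensor R' y =
      β.toLinearMap.lTensor R' ((LinearMap.fst R B A).lTensor R' y) -
        (Ideal.Quotient.mkₐ R I).toLinearMap.lTensor R' ((LinearMap.snd R B A).lTensor R' y) := by
    intro y
    have e : f = β.toLinearMap ∘ₗ (LinearMap.fst R B A) -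
        (Ideal.Quotient.mkₐ R I).toLinearMap ∘ₗ (LinearMap.snd R B A) := by
      ext <;> simp [hf, hφ, hψ]
    rw [e, LinearMap.lTensor_sub, LinearMap.sub_apply, LinearMap.lTensor_comp,
      LinearMap.lTensor_comp, LinearMap.comp_apply, LinearMap.comp_apply]
  have hfst : ∀ x : TensorProduct R R' ↥(AlgHom.equalizer φ ψ),
      Algebra.TensorProduct.map (AlgHom.id R' R') ((AlgHom.fst R B A).comp (AlgHom.equalizer φ ψ).val) x
        = (LinearMap.fst R B A).lTensor R' (ι.lTensor R' x) := by
    intro x
    rw [Groth.Agent.Lib.Helper21.algTensorMap_id_eq_lTensor, ← LinearMap.comp_apply,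
      ← LinearMap.lTensor_comp]
    rfl
  have hsnd : ∀ x : TensorProduct R R' ↥(AlgHom.equalizer φ ψ),
      Algebra.TensorProduct.map (AlgHom.id R' R') ((AlgHom.snd R B A).comp (AlgHom.equalizer φ ψ).val) x
        = (LinearMap.snd R B A).lTensor R' (ι.lTensor R' x) := by
    intro x
    rw [Groth.Agent.Lib.Helper21.algTensorMap_id_eq_lTensor, ← LinearMap.comp_apply,
      ← LinearMap.lTensor_comp]
    rfl
  constructor
  · rw [injective_iff_map_eq_zero]
    intro x hx
    rw [hsnd] at hx
    apply hιT
    rw [map_zero]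
    have h0 : f.lTensor R' (ι.lTensor R' x) = 0 := hexT.apply_apply_eq_zero x
    rw [hfT, hx, map_zero, sub_zero] at h0
    have h1 : (LinearMap.fst R B A).lTensor R' (ι.lTensor R' x) = 0 := by
      apply hβT
      rw [h0, map_zero]
    rw [hid (ι.lTensor R' x), h1, hx, map_zero, map_zero, add_zero]
  · intro b a hba
    rw [Groth.Agent.Lib.Helper21.algTensorMap_id_eq_lTensor,
      Groth.Agent.Lib.Helper21.algTensorMap_id_eq_lTensor] at hba
    set y := (LinearMap.inl R B A).lTensor R' b + (LinearMap.inr R B A).lTensor R' a with hy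
    have hy1 : (LinearMap.fst R B A).lTensor R' y = b := by
      rw [hy, map_add, ← LinearMap.comp_apply, ← LinearMap.comp_apply, ← LinearMap.lTensor_comp,
        ← LinearMap.lTensor_comp]
      have e1 : (LinearMap.fst R B A) ∘ₗ (LinearMap.inl R B A) = LinearMap.id := by ext; simp
      have e2 : (LinearMap.fst R B A) ∘ₗ (LinearMap.inr R B A) = 0 := by ext; simp
      rw [e1, e2]; simp
    have hy2 : (LinearMap.snd R B A).lTensor R' y = a := by
      rw [hy, map_add, ← LinearMap.comp_apply, ← LinearMap.comp_apply, ← LinearMap.lTensor_comp,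
        ← LinearMap.lTensor_comp]
      have e1 : (LinearMap.snd R B A) ∘ₗ (LinearMap.inl R B A) = 0 := by ext; simp
      have e2 : (LinearMap.snd R B A) ∘ₗ (LinearMap.inr R B A) = LinearMap.id := by ext; simp
      rw [e1, e2]; simp
    have hy0 : f.lTensor R' y = 0 := by
      rw [hfT, hy1, hy2, hba, sub_self]
    obtain ⟨x, hx⟩ := (hexT y).mp hy0
    refine ⟨x, ?_, ?_⟩
    · rw [hfst, hx, hy1]
    · rw [hsnd, hx, hy2]

end Groth.Agent.S14086
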