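import Groth.Statements.S14087
import Mathlib
import Groth.Agent.Lib.Helper21.Curvilinear

set_option autoImplicit false
universe u
open ArSing

namespace Groth.Agent.S14087

open Polynomial in
/-- Over an algebraically closed field k, if B = k[t]/(t^n) with n ≥ 1 is flat over a k-subalgebra A ⊆ B
(a finite flat extension of pointed finite algebras with curvilinear top), then A is curvilinear
too: A is isomorphic as a k-algebra to k[t]/(t^m) for some m. -/
theorem result (k : Type u) [Field k] [IsAlgClosed k]
    (n : ℕ) (hn : 0 < n)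
    (A : Subalgebra k (Polynomial k ⧸ Ideal.span {(X : Polynomial k) ^ n}))
    [Module.Flat A (Polynomial k ⧸ Ideal.span {(X : Polynomial k) ^ n})] :
    ∃ m : ℕ, Nonempty (A ≃ₐ[k] (Polynomial k ⧸ Ideal.span {(X : Polynomial k) ^ m})) := by
  refine Groth.Agent.Lib.Helper21.exists_algEquiv_truncPoly_of_flat_subalgebra
    (Ideal.Quotient.mk (Ideal.span {(X : Polynomial k) ^ n}) X) ⟨n, ?_⟩ ?_ A
  · rw [← map_pow, Ideal.Quotient.eq_zero_iff_mem]
    exact Ideal.subset_span rfl
  · intro b
    obtain ⟨p, rfl⟩ := Ideal.Quotient.mk_surjective b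
    refine ⟨p.coeff 0, Ideal.Quotient.mk _ p.divX, ?_⟩
    conv_lhs => rw [← Polynomial.divX_mul_X_add p]
    rw [map_add, map_mul, mul_comm, add_comm]
    rfl

end Groth.Agent.S14087
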