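import Groth.Statements.S14088
import Mathlib

set_option autoImplicit false
universe u
open ArSing

namespace Groth.Agent.S14088

open Finset in
theorem key {A : Type*} [CommRing A] (h τ : A) (m : ℕ) : ∀ n : ℕ,
    (∏ i ∈ range n, (h + (i : A) * τ)) * (∏ i ∈ range m, (h + (i : A) * τ)) =
      ∑ s ∈ range (n + 1), (-1 : A) ^ s * (Nat.factorial s : A) * (Nat.choose n s : A) *
        (Nat.choose m s : A) * τ ^ s * ∏ i ∈ range (m + n - s), (h + (i : A) * τ) := by
  intro n
  induction n with
  | zero => simp
  | succ n ih =>
    set p : ℕ → A := fun k => ∏ i ∈ range k, (h + (i : A) * τ) with hp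
    have hps : ∀ k, p (k + 1) = p k * (h + (k : A) * τ) := fun k => Finset.prod_range_succ _ k
    change p (n + 1) * p m = ∑ s ∈ range (n + 1 + 1), (-1 : A) ^ s * (Nat.factorial s : A) *
        (Nat.choose (n + 1) s : A) * (Nat.choose m s : A) * τ ^ s * p (m + (n + 1) - s)
    change p n * p m = ∑ s ∈ range (n + 1), (-1 : A) ^ s * (Nat.factorial s : A) *
        (Nat.choose n s : A) * (Nat.choose m s : A) * τ ^ s * p (m + n - s) at ih
    let T1 : ℕ → A := fun s => (-1 : A) ^ s * (Nat.factorial s : A) * (Nat.choose n s : A) *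
        (Nat.choose m s : A) * τ ^ s * p (m + (n + 1) - s)
    let T2 : ℕ → A := fun s => (-1 : A) ^ (s + 1) * (Nat.factorial (s + 1) : A) * (Nat.choose n s : A) *
        (Nat.choose m (s + 1) : A) * τ ^ (s + 1) * p (m + (n + 1) - (s + 1))
    have hT : ∀ s ∈ range (n + 1), ((-1 : A) ^ s * (Nat.factorial s : A) *
        (Nat.choose n s : A) * (Nat.choose m s : A) * τ ^ s * p (m + n - s)) * (h + (n : A) * τ) =
        T1 s + T2 s := by
      intro s hs
      rw [Finset.mem_range] at hs
      by_cases hsm : s ≤ m
      · have e1 : m + (n + 1) - s = (m + n - s) + 1 := by omega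
        have e2 : m + (n + 1) - (s + 1) = m + n - s := by omega
        have e3 : ((m + n - s : ℕ) : A) = (n : A) + ((m - s : ℕ) : A) := by
          rw [← Nat.cast_add]; congr 1; omega
        have e4 : ((Nat.choose m (s + 1) : ℕ) : A) * ((s : A) + 1) = (Nat.choose m s : A) * ((m - s : ℕ) : A) := by
          have := Nat.choose_succ_right_eq m s
          have := congrArg (Nat.cast : ℕ → A) this
          push_cast at this
          exact this
        simp only [T1, T2]
        rw [e1, e2, hps, e3, Nat.factorial_succ]
        push_cast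
        linear_combination ((-1 : A) ^ s * (Nat.factorial s : A) * (Nat.choose n s : A) * τ ^ (s + 1) *
          p (m + n - s)) * e4
      · have z1 : Nat.choose m s = 0 := Nat.choose_eq_zero_of_lt (by omega)
        have z2 : Nat.choose m (s + 1) = 0 := Nat.choose_eq_zero_of_lt (by omega)
        simp [T1, T2, z1, z2]
    have hW : ∀ s ∈ range (n + 1), (-1 : A) ^ (s + 1) * (Nat.factorial (s + 1) : A) *
        (Nat.choose (n + 1) (s + 1) : A) * (Nat.choose m (s + 1) : A) * τ ^ (s + 1) * p (m + (n + 1) - (s + 1)) =
        T2 s + T1 (s + 1) := by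
      intro s _
      simp only [T1, T2]
      rw [Nat.choose_succ_succ]
      push_cast
      ring
    have hT1 : T1 (n + 1) = 0 := by
      simp [T1]
    calc p (n + 1) * p m = (p n * p m) * (h + (n : A) * τ) := by rw [hps]; ring
      _ = ∑ s ∈ range (n + 1), (T1 s + T2 s) := by
          rw [ih, Finset.sum_mul]
          exact Finset.sum_congr rfl hT
      _ = ∑ s ∈ range (n + 1), T2 s + ∑ s ∈ range (n + 1 + 1), T1 s := by
          rw [Finset.sum_add_distrib, Finset.sum_range_succ T1 (n + 1), hT1, add_zero, add_comm]
      _ = _ := by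
          let W : ℕ → A := fun s => (-1 : A) ^ s * (Nat.factorial s : A) *
            (Nat.choose (n + 1) s : A) * (Nat.choose m s : A) * τ ^ s * p (m + (n + 1) - s)
          change _ = ∑ s ∈ range (n + 1 + 1), W s
          rw [Finset.sum_range_succ' W (n + 1), Finset.sum_congr rfl hW, Finset.sum_add_distrib,
            Finset.sum_range_succ' T1 (n + 1)]
          have : W 0 = T1 0 := by simp [W, T1]
          rw [this]
          ring


/-- The identity behind the torus-equivariant classes h_i = h_0 + i τ of the coordinate hyperplanes of a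
projective space of binary forms, stated in an arbitrary commutative ring: for n ≤ m, (h_0 ⋯
h_(n-1))^2 · h_n ⋯ h_(m-1) equals the sum over s = 0, …, n of (-1)^s s! (n choose s) (m choose s)
τ^s h_0 ⋯ h_(m+n-s-1), where h_i = h + i τ. (The published statement is in the equivariant Chow ring
of that projective space; only the relations h_i = h_j + (j - i) τ are used, so it holds in any
commutative ring.) -/
theorem result (A : Type u) [CommRing A] (h τ : A) (n m : ℕ) (hnm : n ≤ m) :
    (∏ i ∈ Finset.range n, (h + (i : A) * τ) ^ 2) * ∏ i ∈ Finset.Ico n m, (h + (i : A) * τ) =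
      ∑ s ∈ Finset.range (n + 1), (-1 : A) ^ s * (Nat.factorial s : A) * (Nat.choose n s : A) *
        (Nat.choose m s : A) * τ ^ s * ∏ i ∈ Finset.range (m + n - s), (h + (i : A) * τ) := by
  rw [← key h τ m n, Finset.prod_pow, sq, mul_assoc, Finset.prod_range_mul_prod_Ico _ hnm]

end Groth.Agent.S14088
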