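import Groth.Statements.S14093
import Groth.Agent.Lib.Helper4.ArSingB

set_option autoImplicit false
universe u
open ArSing

namespace Groth.Agent.S14093

/-- For an algebraically closed field k of characteristic prime to 2 and to r+1 and the involution σ of
A_r = k[[x,y]]/(y^2 - x^(r+1)) with σ(x) = x, σ(y) = -y: the invariant subalgebra is k[[x]] (the
image of t ↦ x from k[[t]]), the inclusion k[[x]] → A_r is faithfully flat (flat, and the maximal
ideal of k[[t]] does not generate the unit ideal of A_r), and the fixed locus (the closed subscheme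
cut out by all σ(a) - a) is a Cartier divisor of length r + 1, i.e. its ideal is generated by one
nonzerodivisor and the quotient has length r + 1. -/
theorem result (k : Type u) [Field k] [IsAlgClosed k] (r : ℕ)
    (h2 : (2 : k) ≠ 0) (hr : ((r + 1 : ℕ) : k) ≠ 0)
    (σ : ArSing.ring k r ≃ₐ[k] ArSing.ring k r) (hx : σ (ArSing.x k r) = ArSing.x k r)
    (hy : σ (ArSing.y k r) = -ArSing.y k r) :
    (∀ a : ArSing.ring k r, σ a = a ↔ a ∈ (ArSing.xMap k r).range) ∧
    ((ArSing.xMap k r).toRingHom.Flat ∧
      Ideal.map (ArSing.xMap k r) (IsLocalRing.maximalIdeal (PowerSeries k)) ≠ ⊤) ∧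
    (∃ g : ArSing.ring k r, g ∈ nonZeroDivisors (ArSing.ring k r) ∧
      Ideal.span (Set.range fun a : ArSing.ring k r => σ a - a) = Ideal.span {g}) ∧
    Module.length (ArSing.ring k r)
      (ArSing.ring k r ⧸ Ideal.span (Set.range fun a : ArSing.ring k r => σ a - a)) = r + 1 := by
  classical
  have hσx : ∀ a : PowerSeries k, σ (ArSing.xMap k r a) = ArSing.xMap k r a := by
    intro a
    have := Lib.Helper4.ArS.algHom_eq_of_X k r
      ((σ : ArSing.ring k r →ₐ[k] ArSing.ring k r).comp (ArSing.xMap k r)) (ArSing.xMap k r)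
      (by simp only [AlgHom.comp_apply, AlgHom.coe_coe]; rw [Lib.Helper4.ArS.xMap_X]; exact hx)
      (by
        simp only [AlgHom.comp_apply, AlgHom.coe_coe]
        rw [Lib.Helper4.ArS.xMap_X]
        show ArSing.x k r ∣ σ (ArSing.x k r)
        rw [hx])
    exact DFunLike.congr_fun this a
  have hσθ : ∀ a b, σ (Lib.Helper4.ArS.theta k r (a, b)) = Lib.Helper4.ArS.theta k r (a, -b) := by
    intro a b
    rw [Lib.Helper4.ArS.theta_mk, Lib.Helper4.ArS.theta_mk, map_add, map_mul, hσx, hσx, hy,
      map_neg]
    ring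
  have h2B : ∀ b : PowerSeries k, -b = b → b = 0 := by
    intro b hb
    have h2' : (2 : PowerSeries k) ≠ 0 := by
      rw [← map_ofNat (algebraMap k (PowerSeries k)) 2]
      exact (map_ne_zero_iff _ (algebraMap k (PowerSeries k)).injective).mpr h2
    have : (2 : PowerSeries k) * b = 0 := by
      rw [two_mul]
      nth_rewrite 1 [← hb]
      exact neg_add_cancel b
    exact (mul_eq_zero.mp this).resolve_left h2'
  refine ⟨?_, ⟨Lib.Helper4.ArS.xMap_flat k r, Lib.Helper4.ArS.map_maximalIdeal_ne_top k r⟩, ?_⟩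
  · intro z
    obtain ⟨⟨a, b⟩, rfl⟩ := Lib.Helper4.ArS.theta_surj k r z
    rw [hσθ, AlgHom.mem_range]
    constructor
    · intro h
      have := Lib.Helper4.ArS.theta_inj k r h
      rw [Prod.mk.injEq] at this
      have hb := h2B b this.2
      exact ⟨a, by rw [hb, Lib.Helper4.ArS.theta_fst]⟩
    · rintro ⟨a', ha'⟩
      rw [← Lib.Helper4.ArS.theta_fst] at ha'
      have := Lib.Helper4.ArS.theta_inj k r ha'
      rw [Prod.mk.injEq] at this
      rw [← this.2, neg_zero]
  · have hI : Ideal.span (Set.range fun a : ArSing.ring k r => σ a - a) =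
        Ideal.span {ArSing.y k r} := by
      apply le_antisymm
      · rw [Ideal.span_le]
        rintro _ ⟨z, rfl⟩
        obtain ⟨⟨a, b⟩, rfl⟩ := Lib.Helper4.ArS.theta_surj k r z
        show σ (Lib.Helper4.ArS.theta k r (a, b)) - Lib.Helper4.ArS.theta k r (a, b) ∈ _
        rw [hσθ, SetLike.mem_coe, Ideal.mem_span_singleton']
        refine ⟨ArSing.xMap k r (-b - b), ?_⟩
        rw [Lib.Helper4.ArS.theta_mk, Lib.Helper4.ArS.theta_mk, map_sub, map_neg]
        ring
      · rw [Ideal.span_le, Set.singleton_subset_iff, SetLike.mem_coe]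
        have hmem : σ (ArSing.y k r) - ArSing.y k r ∈
            Ideal.span (Set.range fun a : ArSing.ring k r => σ a - a) :=
          Ideal.subset_span ⟨ArSing.y k r, rfl⟩
        have := Ideal.mul_mem_left _ (algebraMap k (ArSing.ring k r) (-2)⁻¹) hmem
        have h2' : (-2 : k) ≠ 0 := neg_ne_zero.mpr h2
        have e : algebraMap k (ArSing.ring k r) (-2)⁻¹ * (σ (ArSing.y k r) - ArSing.y k r) =
            ArSing.y k r := by
          rw [hy]
          have h3 : (-ArSing.y k r - ArSing.y k r) =
              algebraMap k (ArSing.ring k r) (-2) * ArSing.y k r := by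
            rw [map_neg, map_ofNat]
            ring
          rw [h3, ← mul_assoc, ← map_mul, inv_mul_cancel₀ h2', map_one, one_mul]
        rwa [e] at this
    refine ⟨⟨ArSing.y k r, Lib.Helper4.ArS.y_mem_nonZeroDivisors k r, hI⟩, ?_⟩
    have key : ∀ I : Ideal (ArSing.ring k r), I = Ideal.span {ArSing.y k r} →
        Module.length (ArSing.ring k r) (ArSing.ring k r ⧸ I) = r + 1 := by
      rintro I rfl
      exact Lib.Helper4.ArS.length_quot_y k r
    exact key _ hI

end Groth.Agent.S14093
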