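import Groth.Statements.S14097
import Mathlib

set_option autoImplicit false
universe u
open ArSing

namespace Groth.Agent.S14097

open Finset in
theorem esymm_cons_succ {A : Type*} [CommSemiring A] (a : A) (s : Multiset A) (n : ℕ) :
    (a ::ₘ s).esymm (n + 1) = s.esymm (n + 1) + a * s.esymm n := by
  simp only [Multiset.esymm, Multiset.powersetCard_cons, Multiset.map_add, Multiset.sum_add,
    Multiset.map_map, Function.comp_def, Multiset.prod_cons, Multiset.sum_map_mul_left]

open Finset in
theorem esymm_zero' {A : Type*} [CommSemiring A] (s : Multiset A) : s.esymm 0 = 1 := by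
  simp [Multiset.esymm]

open Finset in
theorem esymm_card' {A : Type*} [CommSemiring A] (s : Multiset A) : s.esymm (Multiset.card s) = s.prod := by
  simp [Multiset.esymm]

open Finset in
theorem S_succ {A : Type*} [CommRing A] (τ a : A) (s : Multiset A) (n : ℕ)
    (hcard : Multiset.card s = n + 1) :
    ∑ j ∈ range (n + 2), τ ^ (n + 1 - j) * (a ::ₘ s).esymm j =
      (τ + a) * ∑ j ∈ range (n + 1), τ ^ (n - j) * s.esymm j + s.prod := by
  rw [Finset.sum_range_succ']
  have h1 : ∀ j ∈ range (n + 1), τ ^ (n + 1 - (j + 1)) * (a ::ₘ s).esymm (j + 1) =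
      τ ^ (n - j) * s.esymm (j + 1) + a * (τ ^ (n - j) * s.esymm j) := by
    intro j _
    rw [esymm_cons_succ, Nat.add_sub_add_right]
    ring
  rw [Finset.sum_congr rfl h1, Finset.sum_add_distrib, ← Finset.mul_sum, esymm_zero', Nat.sub_zero,
    mul_one]
  have h3 : ∑ j ∈ range (n + 1), τ ^ (n - j) * s.esymm (j + 1) =
      ∑ j ∈ range n, τ ^ (n - j) * s.esymm (j + 1) + s.prod := by
    rw [Finset.sum_range_succ, Nat.sub_self, pow_zero, one_mul, ← hcard, esymm_card']
  have h4 : τ * ∑ j ∈ range (n + 1), τ ^ (n - j) * s.esymm j =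
      ∑ j ∈ range n, τ ^ (n - j) * s.esymm (j + 1) + τ ^ (n + 1) := by
    rw [Finset.sum_range_succ', Nat.sub_zero, esymm_zero', mul_one, mul_add, Finset.mul_sum,
      ← pow_succ']
    congr 1
    apply Finset.sum_congr rfl
    intro j hj
    rw [Finset.mem_range] at hj
    have : n - j = (n - (j + 1)) + 1 := by omega
    rw [this, pow_succ]
    ring
  rw [h3, add_mul, h4]
  ring

open Finset in
theorem aux (A : Type*) [CommRing A] (τ : A) (h : ℕ → A) (k : ℕ)
    (hrel : ∀ i, i < k → h i ^ 2 + τ * h i = 0) : ∀ n, n + 1 ≤ k →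
    (∏ i ∈ range n, (h i + h (i + 1) + τ) =
      ∑ j ∈ range (n + 1), τ ^ (n - j) * (((range (n + 1)).val.map h).esymm j)) ∧
    h n * ∏ i ∈ range n, (h i + h (i + 1) + τ) = ∏ i ∈ range (n + 1), h i := by
  intro n
  induction n with
  | zero =>
    intro _
    simp [esymm_zero']
  | succ n ih =>
    intro hn
    obtain ⟨ih1, ih2⟩ := ih (by omega)
    have hr := hrel (n + 1) (by omega)
    constructor
    · rw [Finset.prod_range_succ]
      have hs : (range (n + 1 + 1)).val.map h = h (n + 1) ::ₘ ((range (n + 1)).val.map h) := by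
        rw [Finset.range_val, Finset.range_val, Multiset.range_succ, Multiset.map_cons]
      rw [hs, S_succ τ (h (n + 1)) _ n (by simp), ← ih1]
      have hp : ((range (n + 1)).val.map h).prod = ∏ i ∈ range (n + 1), h i := rfl
      rw [hp, ← ih2]
      ring
    · rw [Finset.prod_range_succ, Finset.prod_range_succ _ (n + 1), ← ih2]
      linear_combination (∏ i ∈ range n, (h i + h (i + 1) + τ)) * hr


/-- In any commutative ring, if h_0, …, h_(k-1) (k ≥ 2) and τ satisfy h_i^2 + τ h_i = 0, then ∏_(i ≤
k-2) (h_i + h_(i+1) + τ) = Σ_(j ≤ k-1) τ^(k-1-j) e_j(h), e_j the elementary symmetric functions.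
(The published statement is the resulting formula for the class of the small diagonal in the Chow
ring of (P^1)^k, where the h_i are the hyperplane classes of the factors and satisfy these
relations; only the ring identity is asserted here.) -/
theorem result (A : Type u) [CommRing A] (k : ℕ) (hk : 2 ≤ k) (τ : A)
    (h : ℕ → A) (hrel : ∀ i, i < k → h i ^ 2 + τ * h i = 0) :
    ∏ i ∈ Finset.range (k - 1), (h i + h (i + 1) + τ) =
      ∑ j ∈ Finset.range k, τ ^ (k - 1 - j) * (((Finset.range k).val.map h).esymm j) := by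
  obtain ⟨n, rfl⟩ : ∃ n, k = n + 1 := ⟨k - 1, by omega⟩
  have := (aux A τ h (n + 1) hrel n le_rfl).1
  simpa using this

end Groth.Agent.S14097
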