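import Groth.Statements.S14100
import Mathlib
import Groth.Agent.Lib.Helper21.DCatAmplitude

set_option autoImplicit false
universe w v u
open DCoh

namespace Groth.Agent.S14100

open CategoryTheory in
/-- Let C be an abelian category, a an integer and n a natural number, and let K_0 → K_1 → ⋯ → K_{n+1}
be composable morphisms in the derived category of C such that each K_i has cohomology concentrated
in degrees a, …, a+n and each map K_i → K_{i+1} induces zero on every cohomology object. Then the
composite K_0 → K_{n+1} is zero. (The chain is given as a functor from the ordered set of natural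
numbers; only its values on 0, …, n+1 matter.) -/
theorem result
    (C : Type u) [Category.{v} C] [Abelian C] [HasDerivedCategory.{w} C]
    (a : ℤ) (n : ℕ) (K : ℕ ⥤ DerivedCategory C)
    (hGE : ∀ i : ℕ, i ≤ n + 1 → (K.obj i).IsGE a)
    (hLE : ∀ i : ℕ, i ≤ n + 1 → (K.obj i).IsLE (a + n))
    (hzero : ∀ i : ℕ, i ≤ n → ∀ q : ℤ,
      (DerivedCategory.homologyFunctor C q).map (K.map (homOfLE (Nat.le_succ i))) = 0) :
    K.map (homOfLE (Nat.zero_le (n + 1))) = 0 := by
  open Limits Triangulated Pretriangulated DerivedCategory in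
  let t := DerivedCategory.TStructure.t (C := C)
  have key : ∀ j : ℕ, j ≤ n + 1 → ∀ m : ℤ, m = a + n + 1 - j →
      ∃ G : K.obj 0 ⟶ (t.truncLT m).obj (K.obj j),
        K.map (homOfLE (Nat.zero_le j)) = G ≫ (t.truncLTι m).app (K.obj j) := by
    intro j
    induction j with
    | zero =>
      intro _ m hm
      have : (K.obj 0).IsLE (a + n) := hLE 0 (by omega)
      have hm' : a + n + 1 = m := by rw [hm]; simp
      refine ⟨t.liftTruncLT (𝟙 (K.obj 0)) (a + n) m hm', ?_⟩
      rw [t.liftTruncLT_ι]
      have : homOfLE (Nat.zero_le 0) = 𝟙 (0 : ℕ) := Subsingleton.elim _ _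
      rw [this, K.map_id]
    | succ j ih =>
      intro hj m hm
      obtain ⟨G, hG⟩ := ih (by omega) (m + 1) (by rw [hm]; push_cast; ring)
      have hcomp : K.map (homOfLE (Nat.zero_le (j + 1))) =
          K.map (homOfLE (Nat.zero_le j)) ≫ K.map (homOfLE (Nat.le_succ j)) := by
        rw [← K.map_comp]
        congr 1
      have hGEj : (K.obj (j + 1)).IsGE a := hGE (j + 1) hj
      -- the map from the truncation of K_j to K_{j+1}
      let g := (t.truncLTι (m + 1)).app (K.obj j) ≫ K.map (homOfLE (Nat.le_succ j))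
      have hgπ : g ≫ (t.truncGEπ m).app (K.obj (j + 1)) = 0 := by
        apply Groth.Agent.Lib.Helper21.dcat_eq_zero_of_isLE_of_isGE m
        rw [Functor.map_comp, Functor.map_comp, hzero j (by omega) m, comp_zero, zero_comp]
      obtain ⟨g', hg'⟩ : ∃ g' : (t.truncLT (m + 1)).obj (K.obj j) ⟶ (t.truncLT m).obj (K.obj (j + 1)),
          g = g' ≫ (t.truncLTι m).app (K.obj (j + 1)) :=
        Triangle.coyoneda_exact₂ _ (t.triangleLTGE_distinguished m (K.obj (j + 1))) g hgπ
      refine ⟨G ≫ g', ?_⟩
      rw [hcomp, hG, Category.assoc]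
      change G ≫ g = _
      rw [hg', Category.assoc]
  obtain ⟨G, hG⟩ := key (n + 1) le_rfl a (by push_cast; ring)
  have : (K.obj (n + 1)).IsGE a := hGE (n + 1) le_rfl
  have hz : IsZero ((t.truncLT a).obj (K.obj (n + 1))) := t.isZero_truncLT_obj_of_isGE a _
  rw [hG, hz.eq_of_tgt G 0, zero_comp]


end Groth.Agent.S14100
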