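-- Statement S14101 (CAlg.w4c1nonabhodgep_finite_setOf_prime_not_isReduced_quotient).
import Mathlib
import Groth.Statements.S14101

set_option autoImplicit false
set_option linter.style.haveILetI false
universe u
open CAlg

namespace Groth.Agent.S14101



/-- Only finitely many prime numbers are zero divisors on a finite module over a noetherian ring. -/
theorem finite_primes_zeroDiv (A : Type u) [CommRing A] [IsNoetherianRing A]
    (M : Type u) [AddCommGroup M] [Module A M] [Module.Finite A M] :
    {p : ℕ | p.Prime ∧ ∃ m : M, m ≠ 0 ∧ (p : A) • m = 0}.Finite := by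
  classical
  have hfin : (associatedPrimes A M).Finite := associatedPrimes.finite A M
  have hsub : ∀ Q ∈ associatedPrimes A M, {p : ℕ | p.Prime ∧ (p : A) ∈ Q}.Subsingleton := by
    intro Q hQ p hp p' hp'
    by_contra hne
    have hcop : Nat.Coprime p p' := (Nat.coprime_primes hp.1 hp'.1).2 hne
    have hco : IsCoprime (p : ℤ) (p' : ℤ) := Nat.isCoprime_iff_coprime.2 hcop
    obtain ⟨a, b, hab⟩ := hco
    have h1 : (1 : A) ∈ Q := by
      have h2 : ((a : A) * (p : A) + (b : A) * (p' : A)) = 1 := by
        have := congrArg (Int.cast : ℤ → A) hab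
        push_cast at this
        exact this
      rw [← h2]
      exact Q.add_mem (Q.mul_mem_left _ hp.2) (Q.mul_mem_left _ hp'.2)
    have hQp : Q.IsPrime := hQ.isPrime
    exact hQp.ne_top ((Ideal.eq_top_iff_one _).2 h1)
  refine (hfin.biUnion (fun Q hQ => (hsub Q hQ).finite)).subset ?_
  rintro p ⟨hp, m, hm, hpm⟩
  have hmem : (p : A) ∈ ⋃ Q ∈ associatedPrimes A M, (Q : Set A) := by
    rw [biUnion_associatedPrimes_eq_zero_divisors]
    exact ⟨m, hm, hpm⟩
  simp only [Set.mem_iUnion] at hmem ⊢
  obtain ⟨Q, hQ, hpQ⟩ := hmem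
  exact ⟨Q, hQ, hp, hpQ⟩

/-- Swapping a regular sequence in a domain. -/
theorem dvd_of_dvd_pow_mul {D : Type u} [CommRing D] [IsDomain D] (f p : D) (hf : f ≠ 0)
    (hp : ∀ y : D, f ∣ p * y → f ∣ y) :
    ∀ (m : ℕ) (x : D), p ∣ f ^ m * x → p ∣ x := by
  intro m
  induction m with
  | zero => intro x hx; simpa using hx
  | succ m ih =>
    intro x hx
    obtain ⟨d, hd⟩ := hx
    have h1 : f ∣ p * d := ⟨f ^ m * x, by rw [← hd]; ring⟩
    obtain ⟨d', rfl⟩ := hp d h1
    apply ih
    refine ⟨d', ?_⟩
    have h2 : f * (f ^ m * x) = f * (p * d') := by rw [← mul_assoc, ← pow_succ', hd]; ring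
    exact mul_left_cancel₀ hf h2

section field

variable {P F K : Type u} [CommRing P] [IsDomain P] [IsIntegrallyClosed P] [Field F] [Field K]
  [Algebra P F] [IsFractionRing P F] [Algebra F K] [Algebra P K] [IsScalarTower P F K]
  [FiniteDimensional F K] [Algebra.IsSeparable F K]

theorem trace_mem (u : K) (hu : IsIntegral P u) :
    ∃ t : P, algebraMap P F t = Algebra.trace F K u := by
  have h1 : IsIntegral P (Algebra.trace F K u) := Algebra.isIntegral_trace hu
  exact IsIntegrallyClosed.isIntegral_iff.1 h1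

theorem trace_mem_of_sq (p : P) (hp : Prime p) (u v : K) (hu : IsIntegral P u)
    (hv : IsIntegral P v) (huv : u ^ 2 = p • v) :
    ∃ t : P, algebraMap P F (p * t) = Algebra.trace F K u := by
  classical
  obtain ⟨t0, ht0⟩ := trace_mem (P := P) (F := F) u hu
  let E := AlgebraicClosure K
  have hsum : algebraMap F E (Algebra.trace F K u) = ∑ σ : K →ₐ[F] E, σ u :=
    trace_eq_sum_embeddings E
  let O := integralClosure P E
  have hmemO : ∀ (σ : K →ₐ[F] E) (y : K), IsIntegral P y → σ y ∈ O := by
    intro σ y hy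
    exact hy.map (σ.restrictScalars P)
  let a : (K →ₐ[F] E) → O := fun σ => ⟨σ u, hmemO σ u hu⟩
  let b : (K →ₐ[F] E) → O := fun σ => ⟨σ v, hmemO σ v hv⟩
  have hab : ∀ σ, a σ ^ 2 = p • b σ := by
    intro σ
    apply Subtype.ext
    change (σ u) ^ 2 = p • σ v
    rw [← map_pow, huv, Algebra.smul_def, map_mul, Algebra.smul_def]
    congr 1
    rw [IsScalarTower.algebraMap_apply P F K, AlgHom.commutes,
      ← IsScalarTower.algebraMap_apply P F E]
  let J : Ideal O := Ideal.span {algebraMap P O p}
  have hnil : ∀ σ ∈ (Finset.univ : Finset (K →ₐ[F] E)),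
      IsNilpotent (Ideal.Quotient.mk J (a σ)) := by
    intro σ _
    refine ⟨2, ?_⟩
    rw [← map_pow, hab σ, Ideal.Quotient.eq_zero_iff_mem, Algebra.smul_def]
    exact Ideal.mul_mem_right _ _ (Ideal.subset_span rfl)
  have hnil2 : IsNilpotent (∑ σ : K →ₐ[F] E, Ideal.Quotient.mk J (a σ)) :=
    isNilpotent_sum hnil
  obtain ⟨k, hk⟩ := hnil2
  rw [← map_sum, ← map_pow, Ideal.Quotient.eq_zero_iff_mem, Ideal.mem_span_singleton] at hk
  obtain ⟨y, hy⟩ := hk
  -- in E : t0 ^ k = p * y
  have hE : algebraMap P E (t0 ^ k) = algebraMap P E p * (y : E) := by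
    have h1 := congrArg (Subtype.val : O → E) hy
    have h2 : ((∑ σ : K →ₐ[F] E, a σ : O) : E) = algebraMap P E t0 := by
      rw [IsScalarTower.algebraMap_apply P F E, ht0, hsum]
      simp [a]
    simp only [SubmonoidClass.coe_pow] at h1
    rw [map_pow, ← h2]
    rw [h1]
    rfl
  have hp0 : algebraMap P F p ≠ 0 := by
    rw [Ne, map_eq_zero_iff _ (IsFractionRing.injective P F)]
    exact hp.ne_zero
  -- y is the image of an element of F
  let q : F := algebraMap P F (t0 ^ k) / algebraMap P F p
  have hyq : (y : E) = algebraMap F E q := by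
    have hpE : algebraMap P E p ≠ 0 := by
      rw [IsScalarTower.algebraMap_apply P F E]
      exact (map_ne_zero _).2 hp0
    apply mul_left_cancel₀ hpE
    rw [← hE, IsScalarTower.algebraMap_apply P F E, IsScalarTower.algebraMap_apply P F E,
      ← map_mul]
    congr 1
    simp only [q]
    field_simp
  have hqint : IsIntegral P q := by
    have : IsIntegral P (algebraMap F E q) := by rw [← hyq]; exact y.2
    exact (isIntegral_algebraMap_iff (algebraMap F E).injective).1 this
  obtain ⟨y0, hy0⟩ := IsIntegrallyClosed.isIntegral_iff.1 hqint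
  have hdvd : p ∣ t0 ^ k := by
    refine ⟨y0, ?_⟩
    apply IsFractionRing.injective P F
    rw [map_mul, hy0]
    simp only [q]
    field_simp
  obtain ⟨t, rfl⟩ := hp.dvd_of_dvd_pow hdvd
  exact ⟨t, ht0⟩


theorem core {ι : Type} [Fintype ι] [DecidableEq ι] (b : Module.Basis ι F K)
    (hb : ∀ i, IsIntegral P (b i)) :
    ∃ δ : P, δ ≠ 0 ∧ ∀ (p : P), Prime p → ∀ (z w : K), IsIntegral P z → IsIntegral P w →
      z ^ 2 = p • w → ∃ e : ι → P, δ • z = p • ∑ i, e i • b i := by
  classical
  have hT : ∀ i j, ∃ t : P, algebraMap P F t = Algebra.trace F K (b i * b j) :=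
    fun i j => trace_mem _ ((hb i).mul (hb j))
  choose T0 hT0 using hT
  let T0m : Matrix ι ι P := Matrix.of T0
  have hmap : T0m.map (algebraMap P F) = Algebra.traceMatrix F b := by
    ext i j
    rw [Matrix.map_apply, Algebra.traceMatrix_apply, Algebra.traceForm_apply]
    exact hT0 i j
  refine ⟨T0m.det, ?_, ?_⟩
  · intro h0
    have h1 : (Algebra.traceMatrix F b).det = 0 := by
      rw [← hmap, ← RingHom.mapMatrix_apply, ← RingHom.map_det, h0, map_zero]
    exact Algebra.discr_not_zero_of_basis F b (by rw [Algebra.discr_def]; exact h1)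
  · intro p hp z w hz hw hzw
    let c : ι → F := fun i => b.repr z i
    have hzc : z = ∑ i, c i • b i := (b.sum_repr z).symm
    have htr : ∀ j, ∃ t : P, algebraMap P F (p * t) = Algebra.trace F K (z * b j) := by
      intro j
      refine trace_mem_of_sq p hp (z * b j) (w * b j ^ 2) (hz.mul (hb j))
        (hw.mul ((hb j).pow 2)) ?_
      rw [mul_pow, hzw, smul_mul_assoc]
    choose t ht using htr
    have htr2 : ∀ j, Algebra.trace F K (z * b j) = ∑ i, c i * algebraMap P F (T0 i j) := by
      intro j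
      conv_lhs => rw [hzc]
      rw [Finset.sum_mul, map_sum]
      refine Finset.sum_congr rfl fun i _ => ?_
      rw [smul_mul_assoc, map_smul, smul_eq_mul, hT0]
    refine ⟨fun i => ∑ j, t j * T0m.adjugate j i, ?_⟩
    have hkey : ∀ i, algebraMap P F T0m.det * c i =
        algebraMap P F (p * ∑ j, t j * T0m.adjugate j i) := by
      intro i
      have h1 : ∑ j, (∑ i', c i' * algebraMap P F (T0 i' j)) *
          algebraMap P F (T0m.adjugate j i) = algebraMap P F T0m.det * c i := by
        have h2 : ∀ i', ∑ j, algebraMap P F (T0 i' j) * algebraMap P F (T0m.adjugate j i)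
            = algebraMap P F ((T0m * T0m.adjugate) i' i) := by
          intro i'
          rw [Matrix.mul_apply, map_sum]
          refine Finset.sum_congr rfl fun j _ => ?_
          rw [map_mul]
          rfl
        calc ∑ j, (∑ i', c i' * algebraMap P F (T0 i' j)) * algebraMap P F (T0m.adjugate j i)
            = ∑ i', c i' * ∑ j, algebraMap P F (T0 i' j) * algebraMap P F (T0m.adjugate j i) := by
              simp_rw [Finset.sum_mul, Finset.mul_sum, mul_assoc]
              rw [Finset.sum_comm]
          _ = ∑ i', c i' * algebraMap P F ((T0m * T0m.adjugate) i' i) := by simp_rw [h2]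
          _ = algebraMap P F T0m.det * c i := by
              rw [Matrix.mul_adjugate, Finset.sum_eq_single i]
              · simp [Matrix.smul_apply, Matrix.one_apply, mul_comm]
              · intro j _ hj
                simp [Matrix.smul_apply, Matrix.one_apply, hj]
              · intro h
                exact absurd (Finset.mem_univ i) h
      rw [← h1, map_mul, map_sum, Finset.mul_sum]
      refine Finset.sum_congr rfl fun j _ => ?_
      rw [← htr2 j, ← ht j]
      simp only [map_mul]
      ring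
    conv_lhs => rw [hzc]
    rw [Finset.smul_sum, Finset.smul_sum]
    refine Finset.sum_congr rfl fun i _ => ?_
    rw [← IsScalarTower.algebraMap_smul F T0m.det (c i • b i), smul_smul, hkey i,
      IsScalarTower.algebraMap_smul F, mul_smul]

end field


theorem domain_core {P D : Type u} [CommRing P] [IsDomain P] [IsIntegrallyClosed P] [CharZero P]
    [CommRing D] [IsDomain D] [Algebra P D] [FaithfulSMul P D] [Algebra.IsAlgebraic P D]
    [Algebra.FiniteType P D] :
    ∃ g : D, g ≠ 0 ∧ ∀ p : P, Prime p → ∀ x : D, algebraMap P D p ∣ x ^ 2 →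
      ∃ m : ℕ, algebraMap P D p ∣ g ^ m * x := by
  classical
  let F := FractionRing P
  let K := FractionRing D
  haveI : IsScalarTower P D K := inferInstance
  have hinjPD : Function.Injective (algebraMap P D) := FaithfulSMul.algebraMap_injective P D
  have hinjDK : Function.Injective (algebraMap D K) := IsFractionRing.injective D K
  have hinjPK : Function.Injective (algebraMap P K) := by
    rw [IsScalarTower.algebraMap_eq P D K]
    exact hinjDK.comp hinjPD
  haveI : FaithfulSMul P K := (faithfulSMul_iff_algebraMap_injective P K).2 hinjPK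
  letI : Algebra F K := FractionRing.liftAlgebra P K
  haveI : IsScalarTower P F K := FractionRing.isScalarTower_liftAlgebra P K
  haveI : CharZero F := charZero_of_injective_algebraMap (IsFractionRing.injective P F)
  haveI hPK : Algebra.IsAlgebraic P K := (IsFractionRing.isAlgebraic_iff' P D K).1 inferInstance
  haveI hFK : Algebra.IsAlgebraic F K :=
    (IsFractionRing.comap_isAlgebraic_iff (A := P) (K := F) (C := K)).1 hPK
  have hsm : ∀ (r : P) (y : D), algebraMap D K (r • y) = r • algebraMap D K y := fun r y => by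
    rw [Algebra.smul_def, map_mul, ← IsScalarTower.algebraMap_apply, ← Algebra.smul_def]
  obtain ⟨s, hs⟩ := (Algebra.FiniteType.out : (⊤ : Subalgebra P D).FG)
  -- finite dimensionality
  let S' : Set K := (algebraMap D K) '' (s : Set D)
  haveI : Finite S' := (s.finite_toSet.image _).to_subtype
  have hS'int : ∀ x ∈ S', IsIntegral F x := fun x _ =>
    (Algebra.IsAlgebraic.isAlgebraic x).isIntegral
  haveI hfd1 : FiniteDimensional F (IntermediateField.adjoin F S') :=
    IntermediateField.finiteDimensional_adjoin hS'int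
  have hDmem : ∀ d : D, algebraMap D K d ∈ IntermediateField.adjoin F S' := by
    intro d
    have hd : d ∈ Algebra.adjoin P (s : Set D) := by rw [hs]; trivial
    induction hd using Algebra.adjoin_induction with
    | mem x hx => exact IntermediateField.subset_adjoin F S' ⟨x, hx, rfl⟩
    | algebraMap r =>
      rw [← IsScalarTower.algebraMap_apply P D K, IsScalarTower.algebraMap_apply P F K]
      exact IntermediateField.algebraMap_mem _ _
    | add x y _ _ hx hy => rw [map_add]; exact add_mem hx hy
    | mul x y _ _ hx hy => rw [map_mul]; exact mul_mem hx hy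
  have htop : IntermediateField.adjoin F S' = ⊤ := by
    rw [eq_top_iff]
    rintro x -
    obtain ⟨a, c, hc, rfl⟩ := IsFractionRing.div_surjective (A := D) x
    exact div_mem (hDmem a) (hDmem c)
  haveI : FiniteDimensional F K := by
    haveI : FiniteDimensional F (⊤ : IntermediateField F K) := htop ▸ hfd1
    exact Module.Finite.equiv (IntermediateField.topEquiv (F := F) (E := K)).toLinearEquiv
  -- a basis of K over F coming from integral elements of D
  let b' := Module.finBasis F K
  have hex : ∀ i, ∃ (β : D) (u : P), u ≠ 0 ∧ IsIntegral P β ∧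
      algebraMap D K β = algebraMap P F u • b' i := by
    intro i
    obtain ⟨a, c, hc, hac⟩ := IsFractionRing.div_surjective (A := D) (b' i)
    have hc0 : c ≠ 0 := nonZeroDivisors.ne_zero hc
    obtain ⟨y, z, hz, hzy⟩ := Algebra.IsAlgebraic.exists_smul_eq_mul P a hc0
    obtain ⟨w, hw, hwint⟩ := (Algebra.IsAlgebraic.isAlgebraic (R := P) y).exists_integral_multiple
    refine ⟨w • y, w * z, mul_ne_zero hw hz, hwint, ?_⟩
    rw [← hac]
    have hcK : algebraMap D K c ≠ 0 := by
      rw [Ne, map_eq_zero_iff _ hinjDK]; exact hc0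
    have h1 : algebraMap P K z * algebraMap D K a = algebraMap D K c * algebraMap D K y := by
      rw [← map_mul (algebraMap D K) c y, ← hzy, Algebra.smul_def, map_mul,
        ← IsScalarTower.algebraMap_apply]
    rw [hsm, Algebra.smul_def, Algebra.smul_def, ← IsScalarTower.algebraMap_apply P F K, map_mul]
    rw [mul_assoc, ← mul_div_assoc, h1, mul_div_cancel_left₀ _ hcK]
  choose β u hu hβint hβ using hex
  have hu' : ∀ i, algebraMap P F (u i) ≠ 0 := fun i => by
    rw [Ne, map_eq_zero_iff _ (IsFractionRing.injective P F)]; exact hu i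
  let b : Module.Basis (Fin (Module.finrank F K)) F K :=
    b'.unitsSMul (fun i => Units.mk0 _ (hu' i))
  have hb : ∀ i, b i = algebraMap D K (β i) := by
    intro i
    rw [hβ i]
    simp [b, Module.Basis.unitsSMul_apply, Units.smul_def]
  have hbint : ∀ i, IsIntegral P (b i) := fun i => by
    rw [hb i]; exact (hβint i).algebraMap
  -- uniform denominators
  have hgen : ∀ g ∈ s, ∃ a : P, a ≠ 0 ∧ IsIntegral P (a • g) := fun g _ =>
    (Algebra.IsAlgebraic.isAlgebraic (R := P) g).exists_integral_multiple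
  choose! a ha haint using hgen
  let f1 : P := ∏ g ∈ s, a g
  have hf1 : f1 ≠ 0 := Finset.prod_ne_zero_iff.2 ha
  have hf1int : ∀ g ∈ s, IsIntegral P (f1 • g) := by
    intro g hg
    have h1 : f1 = (∏ g' ∈ s.erase g, a g') * a g := (Finset.prod_erase_mul s a hg).symm
    rw [h1, mul_smul]
    exact (haint g hg).smul _
  have hall : ∀ y : D, ∃ m : ℕ, IsIntegral P (f1 ^ m • y) := by
    intro y
    have hy : y ∈ Algebra.adjoin P (s : Set D) := by rw [hs]; trivial
    induction hy using Algebra.adjoin_induction with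
    | mem x hx => exact ⟨1, by simpa using hf1int x hx⟩
    | algebraMap r => exact ⟨0, by simpa using isIntegral_algebraMap⟩
    | add x y _ _ hx hy =>
      obtain ⟨m1, h1⟩ := hx
      obtain ⟨m2, h2⟩ := hy
      refine ⟨m1 + m2, ?_⟩
      have h3 : f1 ^ (m1 + m2) • (x + y) = f1 ^ m2 • (f1 ^ m1 • x) + f1 ^ m1 • (f1 ^ m2 • y) := by
        rw [smul_add, smul_smul, smul_smul, ← pow_add, ← pow_add, add_comm m2 m1]
      rw [h3]
      exact (h1.smul _).add (h2.smul _)
    | mul x y _ _ hx hy =>
      obtain ⟨m1, h1⟩ := hx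
      obtain ⟨m2, h2⟩ := hy
      refine ⟨m1 + m2, ?_⟩
      have h3 : f1 ^ (m1 + m2) • (x * y) = (f1 ^ m1 • x) * (f1 ^ m2 • y) := by
        rw [pow_add, smul_mul_smul_comm]
      rw [h3]
      exact h1.mul h2
  obtain ⟨δ, hδ, hcore⟩ := core (P := P) (F := F) (K := K) b hbint
  refine ⟨algebraMap P D (δ * f1), ?_, ?_⟩
  · rw [Ne, map_eq_zero_iff _ hinjPD]
    exact mul_ne_zero hδ hf1
  · intro p hp x hx
    obtain ⟨d, hd⟩ := hx
    obtain ⟨m1, h1⟩ := hall x
    obtain ⟨m2, h2⟩ := hall d
    have hX : IsIntegral P (f1 ^ (m1 + m2) • x) := by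
      have h3 : f1 ^ (m1 + m2) • x = f1 ^ m2 • (f1 ^ m1 • x) := by
        rw [smul_smul, ← pow_add, add_comm]
      rw [h3]
      exact h1.smul _
    have hd' : IsIntegral P (f1 ^ (2 * (m1 + m2)) • d) := by
      have h3 : f1 ^ (2 * (m1 + m2)) • d = f1 ^ (2 * m1 + m2) • (f1 ^ m2 • d) := by
        rw [smul_smul, ← pow_add]
        congr 2
        ring
      rw [h3]
      exact h2.smul _
    have hsqD : (f1 ^ (m1 + m2) • x) ^ 2 = p • (f1 ^ (2 * (m1 + m2)) • d) := by
      calc (f1 ^ (m1 + m2) • x) ^ 2 = (algebraMap P D f1) ^ (2 * (m1 + m2)) * x ^ 2 := by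
            rw [Algebra.smul_def, map_pow, mul_pow, ← pow_mul, mul_comm (m1 + m2) 2]
        _ = p • (f1 ^ (2 * (m1 + m2)) • d) := by
            rw [hd, Algebra.smul_def, Algebra.smul_def, map_pow]
            ring
    have hsq : (algebraMap D K (f1 ^ (m1 + m2) • x)) ^ 2 =
        p • algebraMap D K (f1 ^ (2 * (m1 + m2)) • d) := by
      rw [← map_pow, hsqD, hsm]
    obtain ⟨e, he⟩ := hcore p hp _ _ hX.algebraMap hd'.algebraMap hsq
    have heD : δ • (f1 ^ (m1 + m2) • x) = p • ∑ i, e i • β i := by
      apply hinjDK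
      rw [hsm, he, hsm, map_sum]
      congr 1
      refine Finset.sum_congr rfl fun i _ => ?_
      rw [hsm, hb i]
    refine ⟨m1 + m2 + 1, ⟨algebraMap P D (δ ^ (m1 + m2) * f1) * ∑ i, e i • β i, ?_⟩⟩
    have h4 : algebraMap P D (δ * f1) ^ (m1 + m2 + 1) * x =
        algebraMap P D (δ ^ (m1 + m2) * f1) * (δ • (f1 ^ (m1 + m2) • x)) := by
      simp only [Algebra.smul_def, map_mul, map_pow]
      ring
    rw [h4, heD, Algebra.smul_def]
    ring


theorem domain_case (D : Type u) [CommRing D] [IsDomain D] [Algebra.FiniteType ℤ D] :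
    {p : ℕ | p.Prime ∧ ∃ x : D, (p : D) ∣ x ^ 2 ∧ ¬ (p : D) ∣ x}.Finite := by
  classical
  by_cases hchar : ∃ n : ℕ, n ≠ 0 ∧ (n : D) = 0
  · obtain ⟨n, hn, hn0⟩ := hchar
    refine (Nat.primeFactors n).finite_toSet.subset ?_
    rintro p ⟨hp, x, hx, hnx⟩
    rw [Finset.mem_coe, Nat.mem_primeFactors]
    refine ⟨hp, ?_, hn⟩
    by_contra hpn
    have hcop : Nat.Coprime p n := (Nat.Prime.coprime_iff_not_dvd hp).2 hpn
    obtain ⟨a, b, hab⟩ := Nat.isCoprime_iff_coprime.2 hcop
    have h1 : (a : D) * (p : D) = 1 := by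
      have h2 := congrArg (Int.cast : ℤ → D) hab
      push_cast at h2
      rw [hn0, mul_zero, add_zero] at h2
      exact h2
    exact hnx ⟨a * x, by rw [← mul_assoc, mul_comm (p : D), h1, one_mul]⟩
  · push Not at hchar
    haveI : CharZero D := by
      refine ⟨fun m n hmn => ?_⟩
      by_contra hne
      rcases Nat.lt_or_gt_of_ne hne with h | h
      · apply hchar (n - m) (by omega)
        rw [Nat.cast_sub h.le, hmn, sub_self]
      · apply hchar (m - n) (by omega)
        rw [Nat.cast_sub h.le, hmn, sub_self]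
    haveI : IsNoetherianRing D := Algebra.FiniteType.isNoetherianRing ℤ D
    obtain ⟨s, hs⟩ := (Algebra.FiniteType.out : (⊤ : Subalgebra ℤ D).FG)
    haveI : FaithfulSMul ℤ D := (faithfulSMul_iff_algebraMap_injective ℤ D).2
      (fun m n hmn => by simpa using hmn)
    haveI : Algebra.IsAlgebraic (Algebra.adjoin ℤ (s : Set D)) D :=
      ⟨fun d => isAlgebraic_algebraMap (R := Algebra.adjoin ℤ (s : Set D)) (A := D)
        ⟨d, by rw [hs]; exact Algebra.mem_top⟩⟩
    obtain ⟨t, hts, htb⟩ := exists_isTranscendenceBasis_subset (R := ℤ) (s : Set D)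
    haveI : Finite t := (s.finite_toSet.subset hts).to_subtype
    let P := MvPolynomial t ℤ
    let φ : P →ₐ[ℤ] D := MvPolynomial.aeval (Subtype.val : t → D)
    have hφinj : Function.Injective φ := algebraicIndependent_iff_injective_aeval.1 htb.1
    letI : Algebra P D := φ.toRingHom.toAlgebra
    haveI : FaithfulSMul P D := (faithfulSMul_iff_algebraMap_injective P D).2 hφinj
    haveI : IsScalarTower ℤ P D := IsScalarTower.of_algebraMap_eq (fun n => (φ.commutes n).symm)
    haveI : Algebra.FiniteType P D := Algebra.FiniteType.of_restrictScalars_finiteType ℤ P D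
    haveI : Algebra.IsAlgebraic P D := by
      haveI := htb.isAlgebraic
      exact Algebra.IsAlgebraic.of_ringHom_of_comp_eq htb.1.aevalEquiv (RingHom.id D)
        htb.1.aevalEquiv.surjective Function.injective_id (RingHom.ext fun q => rfl)
    obtain ⟨g, hg, hcore⟩ := domain_core (P := P) (D := D)
    have hfinZD := finite_primes_zeroDiv D (D ⧸ Ideal.span {g})
    refine hfinZD.subset ?_
    rintro p ⟨hp, x, hx, hnx⟩
    refine ⟨hp, ?_⟩
    by_contra hcon
    apply hnx
    have hpr : Prime (MvPolynomial.C (p : ℤ) : P) :=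
      (MvPolynomial.prime_C_iff (↥t)).2 (Nat.prime_iff_prime_int.1 hp)
    have hmap : algebraMap P D (MvPolynomial.C (p : ℤ)) = (p : D) := by
      change φ (MvPolynomial.C (p : ℤ)) = _
      simp [φ]
    obtain ⟨m, hm⟩ := hcore _ hpr x (by rw [hmap]; exact hx)
    rw [hmap] at hm
    refine dvd_of_dvd_pow_mul g (p : D) hg ?_ m x hm
    intro y hy
    by_contra hgy
    apply hcon
    refine ⟨Submodule.Quotient.mk y, ?_, ?_⟩
    · rw [Ne, Submodule.Quotient.mk_eq_zero, Ideal.mem_span_singleton]
      exact hgy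
    · rw [← Submodule.Quotient.mk_smul, Submodule.Quotient.mk_eq_zero, Ideal.mem_span_singleton,
        smul_eq_mul]
      exact hy

/-- Affine form — let A be a reduced commutative ring of finite type over ℤ. Then for all but finitely
many prime numbers p the reduction A/pA is reduced. (The published statement is for a reduced scheme
of finite type over ℤ; such a scheme has a finite affine open cover, so the affine form carries the
same content.) -/
theorem result
    (A : Type u) [CommRing A] [Algebra.FiniteType ℤ A] [IsReduced A] :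
    {p : ℕ | p.Prime ∧ ¬ IsReduced (A ⧸ Ideal.span {(p : A)})}.Finite := by
  classical
  haveI : IsNoetherianRing A := Algebra.FiniteType.isNoetherianRing ℤ A
  have hminfin : (minimalPrimes A).Finite := minimalPrimes.finite_of_isNoetherianRing A
  haveI : Finite (minimalPrimes A) := hminfin.to_subtype
  let ι := ↥(minimalPrimes A)
  let M := (i : ι) → A ⧸ i.1
  let f : A →ₗ[A] M := LinearMap.pi (fun i => Submodule.mkQ i.1)
  have hfinj : Function.Injective f := by
    rw [injective_iff_map_eq_zero]
    intro a ha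
    have h1 : ∀ i : ι, a ∈ i.1 := fun i => by
      have h := congrFun ha i
      exact (Submodule.Quotient.mk_eq_zero _).1 h
    have h2 : a ∈ nilradical A := by
      rw [nilradical_eq_sInf, Ideal.mem_sInf]
      intro J hJ
      haveI : J.IsPrime := hJ
      obtain ⟨Q, hQ, hQJ⟩ := Ideal.exists_minimalPrimes_le (bot_le : (⊥ : Ideal A) ≤ J)
      exact hQJ (h1 ⟨Q, hQ⟩)
    exact IsReduced.eq_zero a (mem_nilradical.1 h2)
  let C := M ⧸ LinearMap.range f
  have hZD := finite_primes_zeroDiv A C
  have hdom : ∀ i : ι, {p : ℕ | p.Prime ∧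
      ∃ x : A ⧸ i.1, (p : A ⧸ i.1) ∣ x ^ 2 ∧ ¬ (p : A ⧸ i.1) ∣ x}.Finite := by
    intro i
    haveI : i.1.IsPrime := i.2.1.1
    exact @domain_case (A ⧸ i.1) _ _
      (Algebra.FiniteType.of_surjective ((Ideal.Quotient.mk i.1).toIntAlgHom)
        Ideal.Quotient.mk_surjective)
  refine (hZD.union (Set.finite_iUnion hdom)).subset ?_
  rintro p ⟨hp, hnr⟩
  by_contra hcon
  apply hnr
  have hc1 : ¬ (p.Prime ∧ ∃ m : C, m ≠ 0 ∧ (p : A) • m = 0) := fun h => hcon (Or.inl h)
  have hc2 : ∀ i : ι, ¬ (p.Prime ∧
      ∃ x : A ⧸ i.1, (p : A ⧸ i.1) ∣ x ^ 2 ∧ ¬ (p : A ⧸ i.1) ∣ x) :=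
    fun i h => hcon (Or.inr (Set.mem_iUnion.2 ⟨i, h⟩))
  rw [isReduced_iff_pow_one_lt 2 one_lt_two]
  intro y hy
  obtain ⟨a, rfl⟩ := Ideal.Quotient.mk_surjective y
  rw [← map_pow, Ideal.Quotient.eq_zero_iff_mem, Ideal.mem_span_singleton] at hy
  rw [Ideal.Quotient.eq_zero_iff_mem, Ideal.mem_span_singleton]
  have hcomp : ∀ i : ι, ∃ c : A,
      (Ideal.Quotient.mk i.1 a) = (p : A ⧸ i.1) * Ideal.Quotient.mk i.1 c := by
    intro i
    have h1 : (p : A ⧸ i.1) ∣ (Ideal.Quotient.mk i.1 a) ^ 2 := by
      obtain ⟨d, hd⟩ := hy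
      exact ⟨Ideal.Quotient.mk i.1 d, by rw [← map_pow, hd, map_mul, map_natCast]⟩
    have h2 : (p : A ⧸ i.1) ∣ Ideal.Quotient.mk i.1 a := by
      by_contra h3
      exact hc2 i ⟨hp, _, h1, h3⟩
    obtain ⟨c', hc'⟩ := h2
    obtain ⟨c, rfl⟩ := Ideal.Quotient.mk_surjective c'
    exact ⟨c, hc'⟩
  choose c hc using hcomp
  let mm : M := fun i => Ideal.Quotient.mk i.1 (c i)
  have hfa : f a = (p : A) • mm := by
    funext i
    change Ideal.Quotient.mk i.1 a = (p : A) • Ideal.Quotient.mk i.1 (c i)
    rw [hc i, Algebra.smul_def, map_natCast]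
  have hmm : (Submodule.Quotient.mk mm : C) = 0 := by
    by_contra hne
    refine hc1 ⟨hp, _, hne, ?_⟩
    rw [← Submodule.Quotient.mk_smul, ← hfa, Submodule.Quotient.mk_eq_zero]
    exact LinearMap.mem_range_self f a
  rw [Submodule.Quotient.mk_eq_zero] at hmm
  obtain ⟨a', ha'⟩ := hmm
  refine ⟨a', hfinj ?_⟩
  rw [hfa, ← ha', ← map_smul, smul_eq_mul]

end Groth.Agent.S14101
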