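import Groth.Statements.S14104
import Mathlib
import Groth.Agent.Lib.Helper4.FlatRing
import Groth.Agent.Lib.Helper4.FlatFibre
import Groth.Agent.Lib.Helper6.FiberStalkIso

set_option autoImplicit false
universe u
open CategoryTheory CategoryTheory.Limits AlgebraicGeometry Opposite TopologicalSpace
open CInt

namespace Groth.Agent.S14104


namespace H14104
open CategoryTheory CategoryTheory.Limits AlgebraicGeometry

theorem depth_fiber_le {X S : Scheme.{u}} [IsLocallyNoetherian X] [IsLocallyNoetherian S]
    (f : X ⟶ S) [Flat f] (y : X) :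
    LocCoh.depth ↑(CInt.fiberStalk f y) ↑(CInt.fiberStalk f y) ≤
      LocCoh.depth ↑(X.presheaf.stalk y) ↑(X.presheaf.stalk y) := by
  letI : Algebra (S.presheaf.stalk (f.base y)) (X.presheaf.stalk y) :=
    (f.stalkMap y).hom.toAlgebra
  haveI : IsLocalHom (algebraMap (S.presheaf.stalk (f.base y)) (X.presheaf.stalk y)) :=
    (inferInstance : IsLocalHom (f.stalkMap y).hom)
  haveI : Module.Flat (S.presheaf.stalk (f.base y)) (X.presheaf.stalk y) :=
    (Flat.stalkMap f y : (f.stalkMap y).hom.Flat)
  have hd := Groth.Agent.Lib.Helper4.FlatRing.depth_eq_add_of_eq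
    (A := S.presheaf.stalk (f.base y)) (B := X.presheaf.stalk y)
    (Groth.Agent.Lib.Helper6.fiberIdeal f y) rfl
  have he := Groth.Agent.Lib.Helper4.FlatFibre.depth_eq_of_ringEquiv
    (Groth.Agent.Lib.Helper6.fiberStalkEquiv f y)
  change LocCoh.depth ((f.fiber (f.base y)).presheaf.stalk (f.asFiber y))
    ((f.fiber (f.base y)).presheaf.stalk (f.asFiber y)) ≤ _
  rw [he, hd]
  exact le_add_self

end H14104

/-- Let f : X → S be a flat morphism of locally Noetherian schemes, Y a closed subset of X and d a
natural number. If for every point y of Y the local ring at y of the fibre of f through y has depth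
at least d (the depth of O_{X_s} along Y_s is at least d for every s), then for every y ∈ Y the
local ring O_{X,y} has depth at least d (the depth of O_X along Y is at least d). -/
theorem result {X S : Scheme.{u}} [IsLocallyNoetherian X] [IsLocallyNoetherian S]
    (f : X ⟶ S) [Flat f] (Y : Set ↥X) (hY : IsClosed Y) (d : ℕ)
    (h : ∀ y : ↥X, y ∈ Y → (d : ℕ∞) ≤ LocCoh.depth ↑(CInt.fiberStalk f y) ↑(CInt.fiberStalk f y)) :
    ∀ y : ↥X, y ∈ Y → (d : ℕ∞) ≤ LocCoh.depth ↑(X.presheaf.stalk y) ↑(X.presheaf.stalk y) := by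
  intro y hy
  exact le_trans (h y hy) (H14104.depth_fiber_le f y)

end Groth.Agent.S14104
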