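-- Statement S14105.
import Groth.Statements.S14105
import Mathlib
import Groth.Agent.Lib.Helper1.FibBC2

set_option autoImplicit false
universe u
open CategoryTheory CategoryTheory.Limits AlgebraicGeometry Opposite TopologicalSpace
open CInt

namespace Groth.Agent.S14105

/-- Let f : X → S be a morphism and g : S' → S a base change, with X, S, S' and X' = X ×_S S' locally
Noetherian, and let Y be a closed subset of X with preimage Y' under the projection X' → X. Writing
the codimension of a closed subset relative to a morphism as the infimum, over its points, of the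
Krull dimension of the local ring of the fibre through that point: the codimension of Y' relative to
X' → S' is at least the codimension of Y relative to f, and the two are equal when the projection X'
→ X maps Y' onto Y. -/
theorem result {X S S' : Scheme.{u}} (f : X ⟶ S) (g : S' ⟶ S)
    [IsLocallyNoetherian X] [IsLocallyNoetherian S] [IsLocallyNoetherian S']
    [IsLocallyNoetherian (pullback f g)] (Y : Set ↥X) (hY : IsClosed Y) :
    ((⨅ y : Y, ringKrullDim ↑(CInt.fiberStalk f y.1)) ≤
      ⨅ y' : (fun x' => (pullback.fst f g) x') ⁻¹' Y,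
        ringKrullDim ↑(CInt.fiberStalk (pullback.snd f g) y'.1)) ∧
    (Y ⊆ Set.range (pullback.fst f g).base →
      (⨅ y' : (fun x' => (pullback.fst f g) x') ⁻¹' Y,
        ringKrullDim ↑(CInt.fiberStalk (pullback.snd f g) y'.1)) =
        ⨅ y : Y, ringKrullDim ↑(CInt.fiberStalk f y.1)) := by
  have h1 : (⨅ y : Y, ringKrullDim ↑(CInt.fiberStalk f y.1)) ≤
      ⨅ y' : (fun x' => (pullback.fst f g) x') ⁻¹' Y,
        ringKrullDim ↑(CInt.fiberStalk (pullback.snd f g) y'.1) := by
    refine le_iInf fun y' => ?_
    exact (iInf_le _ (⟨pullback.fst f g y'.1, y'.2⟩ : Y)).trans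
      (Groth.Agent.Lib.Helper1.FibBC.dim_le f g y'.1)
  refine ⟨h1, fun hsurj => le_antisymm ?_ h1⟩
  refine le_iInf fun y => ?_
  obtain ⟨y', hy'⟩ := hsurj y.2
  obtain ⟨y'', h1', h2'⟩ := Groth.Agent.Lib.Helper1.FibBC.exists_dim_le f g y'
  have hy'2 : pullback.fst f g y' = y.1 := hy'
  have hmem : y'' ∈ (fun x' => (pullback.fst f g) x') ⁻¹' Y := by
    show pullback.fst f g y'' ∈ Y
    rw [h1', hy'2]
    exact y.2
  refine (iInf_le _ (⟨y'', hmem⟩ : ↥((fun x' => (pullback.fst f g) x') ⁻¹' Y))).trans ?_
  rw [hy'2] at h2'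
  exact h2'

end Groth.Agent.S14105
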