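import Groth.Statements.S14107
import Mathlib
import Groth.Agent.S14104

set_option autoImplicit false
universe u
open CategoryTheory CategoryTheory.Limits AlgebraicGeometry Opposite TopologicalSpace
open CInt

namespace Groth.Agent.S14107


namespace H14107
open CategoryTheory CategoryTheory.Limits AlgebraicGeometry

theorem cm_dim_eq_depth (R : Type u) [CommRing R] [h : LocCoh.IsCohenMacaulayLocalRing R] :
    ringKrullDim R = ((LocCoh.depth R R : ℕ∞) : WithBot ℕ∞) := by
  have h1 := h.supportDim_eq_depth
  rwa [Module.supportDim_self_eq_ringKrullDim] at h1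

theorem dim_fiber_le_depth {X S : Scheme.{u}} [IsLocallyNoetherian X] [IsLocallyNoetherian S]
    (f : X ⟶ S) [Flat f]
    (hCM : ∀ x : ↥X, LocCoh.IsCohenMacaulayLocalRing ↑(CInt.fiberStalk f x)) (y : X) :
    ringKrullDim ↑(CInt.fiberStalk f y) ≤
      ((LocCoh.depth ↑(X.presheaf.stalk y) ↑(X.presheaf.stalk y) : ℕ∞) : WithBot ℕ∞) := by
  haveI := hCM y
  rw [cm_dim_eq_depth ↑(CInt.fiberStalk f y)]
  exact WithBot.coe_le_coe.mpr (Groth.Agent.S14104.H14104.depth_fiber_le f y)

end H14107

/-- Let f : X → S be a Cohen–Macaulay morphism of locally Noetherian schemes (flat, and every local ring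
of every fibre is a Cohen–Macaulay local ring), Y a closed subset of X and d a natural number such
that the codimension of Y relative to f is at least d, i.e. for every y ∈ Y the local ring at y of
the fibre of f through y has Krull dimension at least d. Then the depth of O_X along Y is at least
d: every local ring O_{X,y}, y ∈ Y, has depth at least d. (The published statement adds that the
local cohomology sheaves of every vector bundle along Y vanish below d; that consequence is not part
of this row.) -/
theorem result {X S : Scheme.{u}} [IsLocallyNoetherian X]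
    [IsLocallyNoetherian S] (f : X ⟶ S) [Flat f]
    (hCM : ∀ x : ↥X, LocCoh.IsCohenMacaulayLocalRing ↑(CInt.fiberStalk f x))
    (Y : Set ↥X) (hY : IsClosed Y) (d : ℕ)
    (hcodim : ∀ y : ↥X, y ∈ Y → (d : WithBot ℕ∞) ≤ ringKrullDim ↑(CInt.fiberStalk f y)) :
    ∀ y : ↥X, y ∈ Y → (d : ℕ∞) ≤ LocCoh.depth ↑(X.presheaf.stalk y) ↑(X.presheaf.stalk y) := by
  intro y hy
  have h1 := le_trans (hcodim y hy) (H14107.dim_fiber_le_depth f hCM y)
  exact_mod_cast h1

end Groth.Agent.S14107
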