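import Groth.Statements.S14108
import Mathlib
import Groth.Agent.S14107

set_option autoImplicit false
universe u
open CategoryTheory CategoryTheory.Limits AlgebraicGeometry Opposite TopologicalSpace
open CInt

namespace Groth.Agent.S14108


namespace H14108
open CategoryTheory CategoryTheory.Limits AlgebraicGeometry

theorem depth_le_dim (B : Type u) [CommRing B] [IsLocalRing B] [IsNoetherianRing B] :
    ((LocCoh.depth B B : ℕ∞) : WithBot ℕ∞) ≤ ringKrullDim B := by
  rw [← IsLocalRing.maximalIdeal_height_eq_ringKrullDim]
  exact WithBot.coe_le_coe.mpr Groth.Agent.Lib.Helper4.FlatRing.depth_self_le_height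

end H14108

/-- Let f : X → S be a Cohen–Macaulay morphism of locally Noetherian schemes (flat, every local ring of
every fibre Cohen–Macaulay) and Y a closed subset of X whose codimension relative to f (the infimum
over y ∈ Y of the Krull dimension of the local ring at y of the fibre of f through y) equals its
codimension in X (the infimum over y ∈ Y of the Krull dimension of O_{X,y}). Then the depth of O_X
along Y, the infimum over y ∈ Y of the depth of O_{X,y}, equals the codimension of Y in X. -/
theorem result {X S : Scheme.{u}} [IsLocallyNoetherian X]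
    [IsLocallyNoetherian S] (f : X ⟶ S) [Flat f]
    (hCM : ∀ x : ↥X, LocCoh.IsCohenMacaulayLocalRing ↑(CInt.fiberStalk f x))
    (Y : Set ↥X) (hY : IsClosed Y)
    (hcodim : (⨅ y : Y, ringKrullDim ↑(CInt.fiberStalk f y.1)) = ⨅ y : Y, ringKrullDim ↑(X.presheaf.stalk y.1)) :
    (⨅ y : Y, ((LocCoh.depth ↑(X.presheaf.stalk y.1) ↑(X.presheaf.stalk y.1) : ℕ∞) : WithBot ℕ∞)) =
      ⨅ y : Y, ringKrullDim ↑(X.presheaf.stalk y.1) := by
  apply le_antisymm
  · exact iInf_mono (fun y => H14108.depth_le_dim ↑(X.presheaf.stalk y.1))
  · refine le_iInf (fun y => ?_)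
    rw [← hcodim]
    exact le_trans (iInf_le _ y) (Groth.Agent.S14107.H14107.dim_fiber_le_depth f hCM y.1)

end Groth.Agent.S14108
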