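import Groth.Statements.S14110
import Mathlib
import Groth.Agent.Lib.Helper4.CMHomSch
import Groth.Agent.Lib.Helper6.FiberStalkIso

set_option autoImplicit false
universe u
open CategoryTheory CategoryTheory.Limits AlgebraicGeometry Opposite TopologicalSpace
open CInt

namespace Groth.Agent.S14110


namespace H14110
open CategoryTheory CategoryTheory.Limits AlgebraicGeometry

set_option backward.isDefEq.respectTransparency.types false in
theorem dim_quot_le {B C : Type u} [CommRing B] [CommRing C] [IsLocalRing B] [IsLocalRing C]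
    [Algebra B C] [IsLocalHom (algebraMap B C)] [Module.Flat B C] (I : Ideal B) :
    ringKrullDim (B ⧸ I) ≤ ringKrullDim (C ⧸ I.map (algebraMap B C)) := by
  rw [ringKrullDim_quotient, ringKrullDim_quotient, Order.krullDim]
  refine iSup_le fun l => ?_
  obtain ⟨l', hl'⟩ : ∃ l' : LTSeries (PrimeSpectrum B), l' = l.map Subtype.val (fun a b h => h) :=
    ⟨_, rfl⟩
  have hlen' : l'.length = l.length := by rw [hl']; rfl
  have hheadI : I ≤ l'.head.asIdeal := by
    rw [hl']
    have := (PrimeSpectrum.mem_zeroLocus _ _).mp l.head.2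
    exact this
  have hle : l'.last.asIdeal ≤ IsLocalRing.maximalIdeal B :=
    IsLocalRing.le_maximalIdeal l'.last.2.ne_top
  obtain ⟨P, hPQ, hP, hPo⟩ := Ideal.exists_ideal_le_liesOver_of_le (p := l'.last.asIdeal)
    (q := IsLocalRing.maximalIdeal B) (IsLocalRing.maximalIdeal C) hle
  obtain ⟨L, hlen, hlast, hspec⟩ := Ideal.exists_ltSeries_of_hasGoingDown l' P
  have hhead : L.head.asIdeal.LiesOver l'.head.asIdeal := by
    constructor
    rw [← L.toList_getElem_zero_eq_head, ← l'.toList_getElem_zero_eq_head, Ideal.under_def]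
    have : l'.toList[0] = (PrimeSpectrum.comap (algebraMap B C)) L.toList[0] := by
      rw [List.getElem_map_rev (PrimeSpectrum.comap (algebraMap B C)),
        List.getElem_of_eq hspec.symm _]
    rwa [PrimeSpectrum.ext_iff] at this
  have hI : I.map (algebraMap B C) ≤ L.head.asIdeal := by
    rw [Ideal.map_le_iff_le_comap]
    have h1 := hheadI
    rw [hhead.over] at h1
    exact h1
  have hmem : ∀ i, L i ∈ PrimeSpectrum.zeroLocus ((I.map (algebraMap B C) : Ideal C) : Set C) := by
    intro i
    rw [PrimeSpectrum.mem_zeroLocus]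
    intro x hx
    have h2 : L.head.asIdeal ≤ (L i).asIdeal := L.head_le i
    exact h2 (hI hx)
  obtain ⟨L', hL'⟩ : ∃ L' : LTSeries (PrimeSpectrum.zeroLocus
      ((I.map (algebraMap B C) : Ideal C) : Set C)), L'.length = L.length :=
    ⟨{ length := L.length
       toFun := fun i => ⟨L i, hmem i⟩
       step := fun i => L.step i }, rfl⟩
  have := Order.LTSeries.length_le_krullDim L'
  rw [hL', hlen, hlen'] at this
  exact this

theorem fiber_dim_le {X X' S : Scheme.{u}} (f : X ⟶ S) (g : X' ⟶ X) [Flat g] (y' : X') :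
    ringKrullDim ↑(CInt.fiberStalk f (g y')) ≤ ringKrullDim ↑(CInt.fiberStalk (g ≫ f) y') := by
  letI : Algebra (X.presheaf.stalk (g.base y')) (X'.presheaf.stalk y') :=
    (g.stalkMap y').hom.toAlgebra
  haveI : IsLocalHom (algebraMap (X.presheaf.stalk (g.base y')) (X'.presheaf.stalk y')) :=
    (inferInstance : IsLocalHom (g.stalkMap y').hom)
  haveI : Module.Flat (X.presheaf.stalk (g.base y')) (X'.presheaf.stalk y') :=
    (Flat.stalkMap g y' : (g.stalkMap y').hom.Flat)
  have h1 := ringKrullDim_eq_of_ringEquiv (Groth.Agent.Lib.Helper6.fiberStalkEquiv f (g.base y'))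
  have h2 := ringKrullDim_eq_of_ringEquiv (Groth.Agent.Lib.Helper6.fiberStalkEquiv (g ≫ f) y')
  have h3 : Groth.Agent.Lib.Helper6.fiberIdeal (g ≫ f) y' =
      (Groth.Agent.Lib.Helper6.fiberIdeal f (g.base y')).map
        (algebraMap (X.presheaf.stalk (g.base y')) (X'.presheaf.stalk y')) := by
    unfold Groth.Agent.Lib.Helper6.fiberIdeal
    rw [Ideal.map_map, Groth.Agent.Lib.Helper4.CMHomSch.stalkMap_comp_hom]
    rfl
  change ringKrullDim ((f.fiber (f.base (g.base y'))).presheaf.stalk (f.asFiber (g.base y'))) ≤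
    ringKrullDim (((g ≫ f).fiber ((g ≫ f).base y')).presheaf.stalk ((g ≫ f).asFiber y'))
  rw [h1, h2, h3]
  exact dim_quot_le _

end H14110

/-- Let f : X → S and g : X' → X be morphisms of locally Noetherian schemes with f a Cohen–Macaulay
morphism (flat, every local ring of every fibre a Cohen–Macaulay local ring) and g flat, Y a closed
subset of X and Y' its preimage under g. Then the codimension of Y relative to f (the infimum over y
∈ Y of the Krull dimension of the local ring at y of the fibre of f through y) is at most the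
codimension of Y' relative to the composite X' → S. -/
theorem result {X X' S : Scheme.{u}} [IsLocallyNoetherian X]
    [IsLocallyNoetherian X'] [IsLocallyNoetherian S] (f : X ⟶ S) [Flat f]
    (hCM : ∀ x : ↥X, LocCoh.IsCohenMacaulayLocalRing ↑(CInt.fiberStalk f x)) (g : X' ⟶ X) [Flat g]
    (Y : Set ↥X) (hY : IsClosed Y) :
    (⨅ y : Y, ringKrullDim ↑(CInt.fiberStalk f y.1)) ≤
      ⨅ y' : (fun x' => g x') ⁻¹' Y, ringKrullDim ↑(CInt.fiberStalk (g ≫ f) y'.1) := by
  refine le_iInf fun y' => ?_
  exact le_trans (iInf_le _ (⟨g y'.1, y'.2⟩ : Y)) (H14110.fiber_dim_le f g y'.1)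

end Groth.Agent.S14110
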