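import Groth.Statements.S14113
import Groth.Agent.Lib.Helper2.Aff.KProjAff

set_option autoImplicit false
universe u
open CategoryTheory CategoryTheory.Limits AlgebraicGeometry Opposite TopologicalSpace
attribute [local instance] HasDerivedCategory.standard
open DCoh

namespace Groth.Agent.S14113

/-- Let X be an affine scheme and E a bounded above cochain complex of finite locally free O_X-modules
(a strictly pseudo-coherent complex). Then E is acyclic if and only if the identity of E is null
homotopic. -/
theorem result {X : Scheme.{u}} [IsAffine X]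
    (E : CochainComplex X.Modules ℤ) (b : ℤ) (hEb : ∀ i : ℤ, b < i → IsZero (E.X i))
    (hE : ∀ i : ℤ, FlatMod.IsFinLocFree (E.X i)) :
    E.Acyclic ↔ Nonempty (Homotopy (𝟙 E) 0) := by
  constructor
  · intro hac
    have hq : ∀ i : ℤ, Coh.IsQCoh (E.X i) := fun i =>
      Groth.Agent.Lib.Helper3.LocFreeCrit.isQuasicoherent_of_isFinLocFree (hE i)
    refine Groth.Agent.Lib.Helper2.Aff.KProjAff.nullHomotopic_of_Q_map_eq_zero E E b hEb hE hq (𝟙 E) ?_
    exact (Groth.Agent.Lib.Helper2.Aff.KProjAff.isZero_Q_obj_of_acyclic E hac).eq_of_src _ _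
  · rintro ⟨h⟩
    exact Groth.Agent.Lib.Helper2.Aff.KProjAff.acyclic_of_homotopy_id_zero E h


end Groth.Agent.S14113
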