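import Groth.Statements.S6034
import Groth.Agent.Lib.Lead.HZDepthK

set_option linter.style.haveILetI false

set_option autoImplicit false
universe u
open CategoryTheory CategoryTheory.Limits TopologicalSpace AlgebraicGeometry
open LocCohZ

namespace Groth.Agent.S6034

/-- Let X be a locally Noetherian scheme, Y a closed subset with open complement U, M a coherent
O_X-module with underlying abelian sheaf F and n a natural number. Then ℋ^i_Y(F) = 0 for all i < n
if and only if depth M_x ≥ n for every x ∈ Y. -/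
theorem result (X : Scheme.{u}) [IsLocallyNoetherian X] (U : X.Opens)
    (M : X.Modules) (hM : Coh.IsCoh M) (n : ℕ) :
    (∀ i : ℕ, i < n → IsZero ((LocCohZ.HZsh (X := X.carrier) U i).obj (Coh.toAb M))) ↔
      ∀ x : X, x ∉ (U : Set X) →
        (n : ℕ∞) ≤ LocCoh.depth (X.presheaf.stalk x) (M.presheaf.stalk x) := by
  haveI : M.IsQuasicoherent := hM.1
  haveI : M.IsFiniteType := hM.2
  constructor
  · intro h x hxU
    obtain ⟨V, hV, hxV⟩ : ∃ V : X.Opens, IsAffineOpen V ∧ x ∈ V := by
      obtain ⟨_, ⟨V, hV, rfl⟩, hxV, -⟩ :=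
        X.isBasis_affineOpens.exists_subset_of_mem_open (Set.mem_univ x) isOpen_univ
      exact ⟨V, hV, hxV⟩
    have h1 := (Groth.Agent.Lib.Helper2.LocCohZLib.isZero_HZsh_iff (X := X.carrier) U n
      (Coh.toAb M)).1 h V
    exact (Groth.Agent.Lib.Lead.HZDepthK.affine_key M U n V hV).1 (fun i hi => h1 i hi) x hxV hxU
  · intro h
    apply Groth.Agent.Lib.Lead.HZDepthT.isZero_HZsh_of_basis (X := X.carrier) U X.affineOpens
      X.isBasis_affineOpens n (Coh.toAb M)
    intro V hV i hi
    exact (Groth.Agent.Lib.Lead.HZDepthK.affine_key M U n V hV).2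
      (fun x _ hxU => h x hxU) i hi

end Groth.Agent.S6034
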