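import Groth.Statements.S14116
import Groth.Agent.Lib.Lead.HZEdge
import Groth.Agent.S6034
import Groth.Agent.Lib.Helper13.StalkPd
import Groth.Agent.Lib.Helper17.LocConstRank
import Groth.Agent.Lib.Helper17.CohStalk
import Groth.Agent.Lib.Helper28.Reflexive
import Groth.Agent.Lib.Helper3.LocFreeCrit

set_option linter.style.haveILetI false

set_option autoImplicit false
universe u
open CategoryTheory CategoryTheory.Limits AlgebraicGeometry Opposite TopologicalSpace
open LocCohZ

namespace Groth.Agent.S14116

/-- Let X be a locally Noetherian scheme, U ⊆ X open with closed complement Y, d a natural number such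
that the depth of O_X along Y is at least d (every local ring O_{X,y}, y ∈ Y, has depth at least d),
and M a finite locally free O_X-module. Then Γ(X, ℋ^d_Y(M)) is isomorphic to H^d_Y(X, M), where
ℋ^d_Y is the d-th right derived functor of the sheaf of sections with support in Y (applied to the
underlying abelian sheaf of M) and H^d_Y(X, M) is cohomology with support in Y. Existence of an
additive isomorphism only; the published statement asserts a canonical functorial isomorphism that
is linear over the global functions Γ(X, O_X) (obtained in its proof as the edge map of the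
local-to-global spectral sequence), and adds that U ↦ H^d_{Y∩U}(U, M), U ⊆ X open, is a sheaf; none
of this is part of this row. (The published statement assumes a flat morphism X → S with
Cohen–Macaulay fibres and relative codimension of Y at least d; these enter only through the depth
bound, which is the hypothesis of this row.) -/
theorem result (X : Scheme.{u}) [IsLocallyNoetherian X]
    (U : X.Opens) (d : ℕ)
    (hdepth : ∀ x : ↥X, x ∉ (U : Set ↥X) → (d : ℕ∞) ≤ LocCoh.depth ↑(X.presheaf.stalk x) ↑(X.presheaf.stalk x))
    (M : X.Modules) (hM : FlatMod.IsFinLocFree M) :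
    Nonempty (↑(((LocCohZ.HZsh (X := X.carrier) U d).obj (Coh.toAb M)).obj.obj (op ⊤)) ≃+ LocCohZ.HZM X M d U) := by
  have hcoh : Coh.IsCoh M := Groth.Agent.Lib.Helper13.StalkPd.coh_of_lf hM
  haveI : M.IsQuasicoherent := hcoh.1
  haveI : M.IsFiniteType := hcoh.2
  have hdep : ∀ x : X, x ∉ (U : Set X) →
      (d : ℕ∞) ≤ LocCoh.depth (X.presheaf.stalk x) (M.presheaf.stalk x) := by
    intro x hx
    haveI : Module.Free (X.presheaf.stalk x) (M.presheaf.stalk x) :=
      Groth.Agent.Lib.Helper17.LocConstRank.free_stalk_of_isFinLocFree M hM x
    haveI : Module.Finite (X.presheaf.stalk x) (M.presheaf.stalk x) :=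
      Groth.Agent.Lib.Helper17.CohStalk.finite_stalk M x
    exact le_trans (hdepth x hx)
      (Groth.Agent.Lib.Helper28.le_idealDepth_of_free
        (IsLocalRing.maximalIdeal (X.presheaf.stalk x)) (M.presheaf.stalk x))
  have hvan := (Groth.Agent.S6034.result X U M hcoh d).2 hdep
  exact Groth.Agent.Lib.Lead.HZEdge.nonempty_sections_equiv (X := X.carrier) U d (Coh.toAb M) hvan

end Groth.Agent.S14116
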