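import Groth.Statements.S14122
import Mathlib
import Groth.Agent.Lib.Helper21.Lattice

set_option autoImplicit false
universe u
open ValCrit

namespace Groth.Agent.S14122

/-- Let `R` be a discrete valuation ring with fraction field `K` and `g ∈ GL_N(K)` an element of finite
order. Then after passing to a finite extension `K'` of `K` and a discrete valuation ring `R'` of
`K'` dominating `R`, the element `g` becomes conjugate in `GL_N(K')` to an element of `GL_N(R')`.
(The published statement is that the classifying stack of `GL_N` over the integers satisfies a
valuative condition, for discrete valuation rings essentially of finite type over the integers, on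
extending finite-order generic automorphisms along nearby modifications; since vector bundles over a
discrete valuation ring are trivial, that condition is this conjugacy statement for such rings, and
this row states it for every discrete valuation ring, as the printed argument gives.) -/
theorem result
    (R : Type u) [CommRing R] [IsDomain R] [IsDiscreteValuationRing R]
    (K : Type u) [Field K] [Algebra R K] [IsFractionRing R K]
    (N : ℕ) (g : GL (Fin N) K) (hg : IsOfFinOrder g) :
    ∃ (R' : Type u) (_ : CommRing R') (_ : IsDomain R') (_ : IsDiscreteValuationRing R')
      (K' : Type u) (_ : Field K') (_ : Algebra R' K') (_ : IsFractionRing R' K')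
      (_ : Algebra R R') (_ : Algebra K K') (_ : Algebra R K')
      (_ : IsScalarTower R R' K') (_ : IsScalarTower R K K')
      (_ : Module.Finite K K') (_ : IsLocalHom (algebraMap R R'))
      (h : GL (Fin N) K') (g' : GL (Fin N) R'),
      h * Matrix.GeneralLinearGroup.map (algebraMap K K') g * h⁻¹ =
        Matrix.GeneralLinearGroup.map (algebraMap R' K') g' := by
  obtain ⟨h, g', hh⟩ := Groth.Agent.Lib.Helper21.exists_conj_integral R K N g hg
  refine ⟨R, inferInstance, inferInstance, inferInstance, K, inferInstance, inferInstance,
    inferInstance, Algebra.id R, Algebra.id K, inferInstance, ?_, ?_, ?_, ?_, h, g', ?_⟩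
  · exact IsScalarTower.left R
  · exact IsScalarTower.right
  · exact Module.Finite.self K
  · show IsLocalHom (RingHom.id R)
    infer_instance
  · have : Matrix.GeneralLinearGroup.map (algebraMap K K) g = g := by
      show Matrix.GeneralLinearGroup.map (RingHom.id K) g = g
      rw [Matrix.GeneralLinearGroup.map_id]; rfl
    rw [this]
    exact hh

end Groth.Agent.S14122
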