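import Mathlib
import Groth.Agent.Lib.Helper20.MinCx4
import Groth.Agent.Lib.Helper4.RegCM
import Groth.Statements.S14128
-- import your own Groth.Agent.* helpers here

set_option autoImplicit false
universe u
open CategoryTheory CategoryTheory.Limits
open LocAlg

namespace Groth.Agent.S14128

/-- Let R be a regular local ring of Krull dimension g and M = (M^0 → M^1 → ⋯ → M^g) a perfect complex
over R, here a cochain complex of finitely generated free R-modules indexed by ℕ with M^i = 0 for i
> g, such that every cohomology module H^i(M) has finite length. Then H^i(M) = 0 for all i < g, so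
that M has cohomology at most in degree g. -/
theorem result (R : Type u) [CommRing R]
    [IsRegularLocalRing R] (g : ℕ) (hg : ringKrullDim R = g) (M : CochainComplex (ModuleCat.{u} R) ℕ)
    (hbd : ∀ i, g < i → IsZero (M.X i)) (hfree : ∀ i, Module.Free R (M.X i) ∧ Module.Finite R (M.X i))
    (hfl : ∀ i, IsFiniteLength R (M.homology i)) (i : ℕ) (hi : i < g) :
    IsZero (M.homology i) := by
  have h1 := Groth.Agent.Lib.Helper4.RegCM.depth_eq_ringKrullDim R
  rw [hg] at h1
  have hd : LocCoh.depth R R = (g : ℕ∞) := by exact_mod_cast h1
  exact Groth.Agent.Lib.Helper20.MinCx.isZero_homology_below M (fun i => (hfree i).1)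
    (fun i => (hfree i).2) hfl g hd i hi

end Groth.Agent.S14128
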