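import Groth.Statements.S14136
-- import your own Groth.Agent.* helpers here
import Groth.Agent.Lib.Helper23.GeomConn

set_option autoImplicit false
universe u
open CategoryTheory CategoryTheory.Limits AlgebraicGeometry
open VBCurve

namespace Groth.Agent.S14136

/-- Let C be a smooth proper geometrically connected curve over a field k (proper, smooth and
geometrically connected over k, of dimension one), and E, F finite locally free O_C-modules of ranks
r ≥ 1 and s ≥ 1 which are semistable: for every finite locally free submodule G of E of rank r' ≥ 1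
one has deg G · r ≤ deg E · r', and similarly for F; here the degree of a rank-n locally free module
is χ(G) − n·χ(O_C), and semistability is tested on submodules, which is equivalent to the definition
through quotient bundles. If μ(E) > μ(F), that is deg E · s > deg F · r, then every homomorphism E →
F is zero. -/
theorem result (k : Type u) [Field k] (X : Scheme.{u}) [X.Over (Spec (CommRingCat.of k))]
    [IsProper (X ↘ Spec (CommRingCat.of k))] [Smooth (X ↘ Spec (CommRingCat.of k))]
    [GeometricallyConnected (X ↘ Spec (CommRingCat.of k))] (hdim : topologicalKrullDim ↥X = 1)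
    (r s : ℕ) (hr : 0 < r) (hs : 0 < s) (E F : X.Modules)
    (hE : FlatMod.IsFinLocFreeOfRank r E) (hF : FlatMod.IsFinLocFreeOfRank s F)
    (hEss : (∀ (G : X.Modules) (r' : ℕ) (i : G ⟶ E), Mono i → 0 < r' → FlatMod.IsFinLocFreeOfRank r' G →
      Curv2.deg k X G r' * (r : ℤ) ≤ Curv2.deg k X E r * (r' : ℤ)))
    (hFss : (∀ (G : X.Modules) (r' : ℕ) (i : G ⟶ F), Mono i → 0 < r' → FlatMod.IsFinLocFreeOfRank r' G →
      Curv2.deg k X G r' * (s : ℤ) ≤ Curv2.deg k X F s * (r' : ℤ)))
    (hslope : Curv2.deg k X F s * (r : ℤ) < Curv2.deg k X E r * (s : ℤ)) (f : E ⟶ F) : f = 0 := by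
  haveI : IsIntegral X :=
    Groth.Agent.Lib.Helper23.GeomConn.isIntegral_of_geomConnected_smooth k X
  obtain ⟨a, b, hK, hI, hab, hdeg, hb0, ha0, _, _⟩ :=
    Groth.Agent.Lib.Helper23.VBMaps.map_analysis k hdim.le hE hF f
  by_contra hne
  have hb : 0 < b := Nat.pos_of_ne_zero (fun h => hne (hb0 h))
  haveI : Mono (Abelian.factorThruCoimage f) := inferInstance
  have h1 := hFss _ b (Abelian.factorThruCoimage f) inferInstance hb hI
  have h2 : Curv2.deg k X (kernel f) a * (r : ℤ) ≤ Curv2.deg k X E r * (a : ℤ) := by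
    rcases Nat.eq_zero_or_pos a with ha | ha
    · rw [(ha0 ha).2, ha]; simp
    · exact hEss _ a (kernel.ι f) inferInstance ha hK
  have hbZ : (0 : ℤ) < (b : ℤ) := by exact_mod_cast hb
  have hrZ : (0 : ℤ) < (r : ℤ) := by exact_mod_cast hr
  have hsZ : (0 : ℤ) < (s : ℤ) := by exact_mod_cast hs
  have hrab : (r : ℤ) = (a : ℤ) + (b : ℤ) := by exact_mod_cast hab
  -- deg E * b ≤ deg I * r
  have h3 : Curv2.deg k X E r * (b : ℤ) ≤ Curv2.deg k X (Abelian.coimage f) b * (r : ℤ) := by
    have : Curv2.deg k X E r * (r : ℤ) =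
        Curv2.deg k X (kernel f) a * (r : ℤ) + Curv2.deg k X (Abelian.coimage f) b * (r : ℤ) := by
      rw [hdeg]; ring
    have h4 : Curv2.deg k X E r * (r : ℤ) = Curv2.deg k X E r * (a : ℤ) + Curv2.deg k X E r * (b : ℤ) := by
      rw [hrab]; ring
    linarith
  -- multiply
  have h5 : Curv2.deg k X E r * (b : ℤ) * (s : ℤ) ≤ Curv2.deg k X F s * (b : ℤ) * (r : ℤ) := by
    calc Curv2.deg k X E r * (b : ℤ) * (s : ℤ)
        ≤ Curv2.deg k X (Abelian.coimage f) b * (r : ℤ) * (s : ℤ) :=
          mul_le_mul_of_nonneg_right h3 hsZ.le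
      _ = Curv2.deg k X (Abelian.coimage f) b * (s : ℤ) * (r : ℤ) := by ring
      _ ≤ Curv2.deg k X F s * (b : ℤ) * (r : ℤ) := mul_le_mul_of_nonneg_right h1 hrZ.le
  have h6 : (Curv2.deg k X E r * (s : ℤ)) * (b : ℤ) ≤ (Curv2.deg k X F s * (r : ℤ)) * (b : ℤ) := by
    calc _ = Curv2.deg k X E r * (b : ℤ) * (s : ℤ) := by ring
      _ ≤ _ := h5
      _ = _ := by ring
  have h7 := le_of_mul_le_mul_right h6 hbZ
  exact absurd hslope (not_lt.mpr h7)

end Groth.Agent.S14136
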