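import Groth.Statements.S14137
-- import your own Groth.Agent.* helpers here
import Groth.Agent.Lib.Helper23.GeomConn

set_option autoImplicit false
universe u
open CategoryTheory CategoryTheory.Limits AlgebraicGeometry
open VBCurve

namespace Groth.Agent.S14137

/-- Let C be a smooth proper geometrically connected curve over a field k (proper, smooth and
geometrically connected over k, of dimension one), and E a finite locally free O_C-module of rank r
≥ 1 which is stable: for every finite locally free submodule G of E of rank r' ≥ 1 whose inclusion
is not an isomorphism one has deg G · r < deg E · r', the degree of a rank-n locally free module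
being χ(G) − n·χ(O_C) (stability tested on proper submodules, equivalent to the definition through
quotient bundles). Then every nonzero endomorphism of E is an isomorphism, i.e. End(E) is a division
ring. (Over an algebraically closed field it follows that End(E) = k; that consequence is not
restated.) -/
theorem result (k : Type u) [Field k] (X : Scheme.{u}) [X.Over (Spec (CommRingCat.of k))]
    [IsProper (X ↘ Spec (CommRingCat.of k))] [Smooth (X ↘ Spec (CommRingCat.of k))]
    [GeometricallyConnected (X ↘ Spec (CommRingCat.of k))] (hdim : topologicalKrullDim ↥X = 1)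
    (r : ℕ) (hr : 0 < r) (E : X.Modules) (hE : FlatMod.IsFinLocFreeOfRank r E)
    (hEst : (∀ (G : X.Modules) (r' : ℕ) (i : G ⟶ E), Mono i → 0 < r' → FlatMod.IsFinLocFreeOfRank r' G → (¬ IsIso i) →
      Curv2.deg k X G r' * (r : ℤ) < Curv2.deg k X E r * (r' : ℤ)))
    (f : E ⟶ E) (hf : f ≠ 0) : IsIso f := by
  haveI : IsIntegral X :=
    Groth.Agent.Lib.Helper23.GeomConn.isIntegral_of_geomConnected_smooth k X
  haveI : Nonempty X := inferInstance
  obtain ⟨a, b, hK, hI, hab, hdeg, hb0, ha0, _, _⟩ :=
    Groth.Agent.Lib.Helper23.VBMaps.map_analysis k hdim.le hE hE f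
  have hb : 0 < b := Nat.pos_of_ne_zero (fun h => hf (hb0 h))
  rcases Nat.eq_zero_or_pos a with ha | ha
  · haveI := (ha0 ha).1
    exact Groth.Agent.Lib.Helper23.StableEnd.isIso_of_mono_endo k hdim.le hE f
  · exfalso
    haveI : Mono (Abelian.factorThruCoimage f) := inferInstance
    -- the kernel inclusion is not an isomorphism
    have hKni : ¬ IsIso (kernel.ι f) := by
      intro hiso
      apply hf
      have : kernel.ι f ≫ f = kernel.ι f ≫ 0 := by rw [kernel.condition, comp_zero]
      exact (cancel_epi (kernel.ι f)).1 this
    -- the coimage inclusion is not an isomorphism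
    have hIni : ¬ IsIso (Abelian.factorThruCoimage f) := by
      intro hiso
      haveI : Mono (inv (Abelian.factorThruCoimage f)) := inferInstance
      have h1 := Groth.Agent.Lib.Helper23.VBMaps.rank_le_of_mono hE hI
        (inv (Abelian.factorThruCoimage f))
      omega
    have h1 := hEst _ a (kernel.ι f) inferInstance ha hK hKni
    have h2 := hEst _ b (Abelian.factorThruCoimage f) inferInstance hb hI hIni
    have hrab : (r : ℤ) = (a : ℤ) + (b : ℤ) := by exact_mod_cast hab
    have h3 : Curv2.deg k X E r * (r : ℤ) =
        Curv2.deg k X (kernel f) a * (r : ℤ) + Curv2.deg k X (Abelian.coimage f) b * (r : ℤ) := by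
      rw [hdeg]; ring
    have h4 : Curv2.deg k X E r * (r : ℤ) =
        Curv2.deg k X E r * (a : ℤ) + Curv2.deg k X E r * (b : ℤ) := by
      rw [hrab]; ring
    linarith

end Groth.Agent.S14137
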