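import Groth.Statements.S14139
-- import your own Groth.Agent.* helpers here
import Groth.Agent.Lib.Helper23.HN

set_option autoImplicit false
universe u
open CategoryTheory CategoryTheory.Limits AlgebraicGeometry
open VBCurve

namespace Groth.Agent.S14139

private lemma tr {x d₁ d n r₁ r : ℤ} (hr₁ : 0 < r₁) (hr : 0 ≤ r) (h : x * r₁ ≤ d₁ * n)
    (hμ : d₁ * r = d * r₁) : x * r ≤ d * n := by
  have h1 : (x * r) * r₁ ≤ (d * n) * r₁ := by
    calc (x * r) * r₁ = (x * r₁) * r := by ring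
      _ ≤ (d₁ * n) * r := mul_le_mul_of_nonneg_right h hr
      _ = (d₁ * r) * n := by ring
      _ = (d * r₁) * n := by rw [hμ]
      _ = (d * n) * r₁ := by ring
  exact le_of_mul_le_mul_right h1 hr₁

/-- Let C be a smooth proper geometrically connected curve over a field k (proper, smooth and
geometrically connected over k, of dimension one), and 0 → E₁ → E → E₂ → 0 a short exact sequence of
finite locally free O_C-modules of ranks r₁, r, r₂ ≥ 1 whose slopes are all equal: deg E₁ · r = deg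
E · r₁ and deg E₂ · r = deg E · r₂, the degree of a rank-n locally free module being χ − n·χ(O_C).
Then E is semistable (deg G · r ≤ deg E · r' for every finite locally free submodule G of E of rank
r' ≥ 1) if and only if both E₁ and E₂ are semistable in the same sense. -/
theorem result (k : Type u) [Field k] (X : Scheme.{u}) [X.Over (Spec (CommRingCat.of k))]
    [IsProper (X ↘ Spec (CommRingCat.of k))] [Smooth (X ↘ Spec (CommRingCat.of k))]
    [GeometricallyConnected (X ↘ Spec (CommRingCat.of k))] (hdim : topologicalKrullDim ↥X = 1)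
    (T : ShortComplex X.Modules) (hT : T.ShortExact)
    (r₁ r r₂ : ℕ) (hr₁ : 0 < r₁) (hr : 0 < r) (hr₂ : 0 < r₂)
    (hE₁ : FlatMod.IsFinLocFreeOfRank r₁ T.X₁) (hE : FlatMod.IsFinLocFreeOfRank r T.X₂) (hE₂ : FlatMod.IsFinLocFreeOfRank r₂ T.X₃)
    (hμ₁ : Curv2.deg k X T.X₁ r₁ * (r : ℤ) = Curv2.deg k X T.X₂ r * (r₁ : ℤ))
    (hμ₂ : Curv2.deg k X T.X₃ r₂ * (r : ℤ) = Curv2.deg k X T.X₂ r * (r₂ : ℤ)) :
    (∀ (G : X.Modules) (r' : ℕ) (i : G ⟶ T.X₂), Mono i → 0 < r' → FlatMod.IsFinLocFreeOfRank r' G →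
      Curv2.deg k X G r' * (r : ℤ) ≤ Curv2.deg k X T.X₂ r * (r' : ℤ)) ↔
      ((∀ (G : X.Modules) (r' : ℕ) (i : G ⟶ T.X₁), Mono i → 0 < r' → FlatMod.IsFinLocFreeOfRank r' G →
      Curv2.deg k X G r' * (r₁ : ℤ) ≤ Curv2.deg k X T.X₁ r₁ * (r' : ℤ)) ∧
       (∀ (G : X.Modules) (r' : ℕ) (i : G ⟶ T.X₃), Mono i → 0 < r' → FlatMod.IsFinLocFreeOfRank r' G →
      Curv2.deg k X G r' * (r₂ : ℤ) ≤ Curv2.deg k X T.X₃ r₂ * (r' : ℤ))) := by
  haveI : IsIntegral X :=
    Groth.Agent.Lib.Helper23.GeomConn.isIntegral_of_geomConnected_smooth k X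
  haveI : Nonempty X := inferInstance
  haveI := hT.mono_f
  haveI := hT.epi_g
  have hrZ : (0 : ℤ) < (r : ℤ) := by exact_mod_cast hr
  have hr₁Z : (0 : ℤ) < (r₁ : ℤ) := by exact_mod_cast hr₁
  have hr₂Z : (0 : ℤ) < (r₂ : ℤ) := by exact_mod_cast hr₂
  constructor
  · intro hss
    constructor
    · intro G r' i hi hr' hG
      haveI := hi
      have h := hss G r' (i ≫ T.f) (mono_comp i T.f) hr' hG
      exact tr hrZ hr₁Z.le h hμ₁.symm
    · intro G r' i hi hr' hG
      haveI := hi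
      obtain ⟨P, ι, hι, hP, hdegP⟩ := Groth.Agent.Lib.Helper23.HN.preimage_data k hdim.le T hT hE₁ hE
        (Groth.Agent.Lib.Helper23.Curve.isCoh_of_isFinLocFreeOfRank hE₂) hG i
      have h := hss P (r₁ + r') ι hι (by omega) hP
      rw [hdegP] at h
      push_cast at h
      have h' : Curv2.deg k X G r' * (r : ℤ) ≤ Curv2.deg k X T.X₂ r * (r' : ℤ) := by
        have : (Curv2.deg k X T.X₁ r₁ + Curv2.deg k X G r') * (r : ℤ) =
            Curv2.deg k X T.X₁ r₁ * (r : ℤ) + Curv2.deg k X G r' * (r : ℤ) := by ring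
        rw [this, hμ₁] at h
        linarith
      exact tr hrZ hr₂Z.le h' hμ₂.symm
  · rintro ⟨hss₁, hss₂⟩ G r' i hi hr' hG
    haveI := hi
    obtain ⟨a, b, hK, hI, hab, hdeg, hb0, ha0, _, _⟩ :=
      Groth.Agent.Lib.Helper23.VBMaps.map_analysis k hdim.le hG hE₂ (i ≫ T.g)
    haveI : Mono (Abelian.factorThruCoimage (i ≫ T.g)) := inferInstance
    -- the kernel maps injectively to `E₁`
    have hz : (kernel.ι (i ≫ T.g) ≫ i) ≫ T.g = 0 := by
      rw [Category.assoc, kernel.condition]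
    have hlift : hT.exact.lift (kernel.ι (i ≫ T.g) ≫ i) hz ≫ T.f = kernel.ι (i ≫ T.g) ≫ i :=
      ShortComplex.Exact.lift_f _ _ _
    haveI : Mono (kernel.ι (i ≫ T.g) ≫ i) := mono_comp _ _
    have hmonoK : Mono (hT.exact.lift (kernel.ι (i ≫ T.g) ≫ i) hz) := mono_of_mono_fac hlift
    have hKb : Curv2.deg k X (kernel (i ≫ T.g)) a * (r : ℤ) ≤ Curv2.deg k X T.X₂ r * (a : ℤ) := by
      rcases Nat.eq_zero_or_pos a with ha | ha
      · rw [(ha0 ha).2, ha]; simp
      · exact tr hr₁Z hrZ.le (hss₁ _ a _ hmonoK ha hK) hμ₁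
    have hIb : Curv2.deg k X (Abelian.coimage (i ≫ T.g)) b * (r : ℤ) ≤
        Curv2.deg k X T.X₂ r * (b : ℤ) := by
      rcases Nat.eq_zero_or_pos b with hb | hb
      · subst hb
        have hzI := Groth.Agent.Lib.Helper23.StableEnd.isZero_of_rank_zero hI
        rw [Groth.Agent.Lib.Helper23.VBMaps.deg_zero_of_isZero k hzI]; simp
      · exact tr hr₂Z hrZ.le (hss₂ _ b (Abelian.factorThruCoimage (i ≫ T.g)) inferInstance hb hI) hμ₂
    rw [hdeg, hab]
    push_cast
    linarith [add_mul (Curv2.deg k X (kernel (i ≫ T.g)) a) (Curv2.deg k X (Abelian.coimage (i ≫ T.g)) b) (r : ℤ),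
      mul_add (Curv2.deg k X T.X₂ r) (a : ℤ) (b : ℤ)]

end Groth.Agent.S14139
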