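import Groth.Statements.S14141
import Groth.Agent.Lib.Helper13.Rigid

set_option autoImplicit false
universe u
open CategoryTheory CategoryTheory.Limits AlgebraicGeometry
open AbSch

namespace Groth.Agent.S14141

/-- Let S be a connected Noetherian scheme, f : X → S a proper flat morphism such that for every point s
of S the natural map κ(s) → H^0(X_s, O_{X_s}) on global sections of the fibre is bijective, g : Y →
S a separated morphism and π : X → Y a morphism over S. If for some point s of S the restriction of
π to the fibre X_s is constant, i.e. factors through the projection X_s → Spec κ(s), then π is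
constant over all of S: it factors as f followed by a section S → Y of g. (The published statement
is for arbitrary Noetherian S with the conclusion over the connected component of s; this row
assumes S connected, the reduction made in the first line of the printed proof.) -/
theorem result {X Y S : Scheme.{u}} [IsNoetherian S] [ConnectedSpace ↥S]
    (f : X ⟶ S) [IsProper f] [Flat f]
    (hfib : ∀ s : ↥S, Function.Bijective (algebraMap (S.residueField s) Γ(f.fiber s, ⊤)))
    (g : Y ⟶ S) [IsSeparated g] (π : X ⟶ Y) (hπ : π ≫ g = f) (s : ↥S)
    (hs : ∃ y : Spec (S.residueField s) ⟶ Y, f.fiberι s ≫ π = f.fiberToSpecResidueField s ≫ y) :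
    ∃ σ : S ⟶ Y, σ ≫ g = 𝟙 S ∧ π = f ≫ σ := by
  have h0 : ∀ s : ↥S, Module.finrank (S.residueField s) Γ(f.fiber s, ⊤) = 1 := fun s => by
    rw [← (LinearEquiv.ofBijective (Algebra.linearMap (S.residueField s) Γ(f.fiber s, ⊤))
      (hfib s)).finrank_eq]
    exact Module.finrank_self _
  obtain ⟨y, hy⟩ := hs
  refine Groth.Agent.Lib.Helper13.Rigid.exists_section_factor f h0 g π hπ s ?_
  refine ⟨y.base (IsLocalRing.closedPoint (S.residueField s)), fun x hx => ?_⟩
  have hx' : x ∈ Set.range (f.fiberι s).base := by
    rw [f.range_fiberι s]
    exact hx
  obtain ⟨z, rfl⟩ := hx'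
  have h1 := congrArg (fun φ => φ.base z) hy
  simp only [Scheme.Hom.comp_base, TopCat.hom_comp, ContinuousMap.comp_apply] at h1
  rw [h1]
  congr 1
  exact Subsingleton.elim _ _

end Groth.Agent.S14141
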