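import Groth.Statements.S14151
-- import your own Groth.Agent.* helpers here
import Groth.Agent.Lib.Helper23.Sat

set_option autoImplicit false
universe u
open CategoryTheory CategoryTheory.Limits AlgebraicGeometry
open VBCurve

namespace Groth.Agent.S14151

/-- Let C be a smooth proper geometrically connected curve over a field k (proper, smooth and
geometrically connected over k, of dimension one) and E a finite locally free O_C-module of rank r ≥
1; degrees of rank-n locally free modules are χ − n·χ(O_C) and slopes are compared by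
cross-multiplication. Then: E is semistable in the sense of quotients (μ(E) ≤ μ(F) for every locally
free quotient E ↠ F of rank s ≥ 1) if and only if μ(G) ≤ μ(E) for every finite locally free
submodule G of E of rank r' ≥ 1; and E is stable in the sense of quotients (μ(E) < μ(F) for every
such quotient map which is not an isomorphism) if and only if μ(G) < μ(E) for every such submodule
whose inclusion is not an isomorphism. (The printed lemma says every nonzero subsheaf; for the
strict inequalities the subsheaf and the quotient must be proper, as its proof uses.) -/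
theorem result (k : Type u) [Field k] (X : Scheme.{u}) [X.Over (Spec (CommRingCat.of k))]
    [IsProper (X ↘ Spec (CommRingCat.of k))] [Smooth (X ↘ Spec (CommRingCat.of k))]
    [GeometricallyConnected (X ↘ Spec (CommRingCat.of k))] (hdim : topologicalKrullDim ↥X = 1)
    (r : ℕ) (hr : 0 < r) (E : X.Modules) (hE : FlatMod.IsFinLocFreeOfRank r E) :
    ((∀ (F : X.Modules) (s : ℕ) (p : E ⟶ F), Epi p → 0 < s → FlatMod.IsFinLocFreeOfRank s F →
      Curv2.deg k X E r * (s : ℤ) ≤ Curv2.deg k X F s * (r : ℤ)) ↔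
      (∀ (G : X.Modules) (r' : ℕ) (i : G ⟶ E), Mono i → 0 < r' → FlatMod.IsFinLocFreeOfRank r' G →
      Curv2.deg k X G r' * (r : ℤ) ≤ Curv2.deg k X E r * (r' : ℤ))) ∧
    ((∀ (F : X.Modules) (s : ℕ) (p : E ⟶ F), Epi p → 0 < s → FlatMod.IsFinLocFreeOfRank s F → (¬ IsIso p) →
      Curv2.deg k X E r * (s : ℤ) < Curv2.deg k X F s * (r : ℤ)) ↔
      (∀ (G : X.Modules) (r' : ℕ) (i : G ⟶ E), Mono i → 0 < r' → FlatMod.IsFinLocFreeOfRank r' G → (¬ IsIso i) →
      Curv2.deg k X G r' * (r : ℤ) < Curv2.deg k X E r * (r' : ℤ))) := by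
  haveI : IsIntegral X :=
    Groth.Agent.Lib.Helper23.GeomConn.isIntegral_of_geomConnected_smooth k X
  haveI : Nonempty X := inferInstance
  have hrZ : (0 : ℤ) < (r : ℤ) := by exact_mod_cast hr
  -- from quotients to subsheaves: a common computation
  have sub_of_quot : ∀ (G : X.Modules) (r' : ℕ) (i : G ⟶ E), Mono i → 0 < r' →
      FlatMod.IsFinLocFreeOfRank r' G →
      (r' = r ∧ Curv2.deg k X G r' ≤ Curv2.deg k X E r ∧
        (Curv2.deg k X G r' = Curv2.deg k X E r → IsIso i)) ∨
      (∃ (C' : X.Modules) (c : ℕ) (p : E ⟶ C') (d' : ℤ), Epi p ∧ 0 < c ∧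
        FlatMod.IsFinLocFreeOfRank c C' ∧ ¬ IsIso p ∧ r = r' + c ∧
        Curv2.deg k X G r' ≤ d' ∧ Curv2.deg k X E r = d' + Curv2.deg k X C' c) := by
    intro G r' i hi hr' hG
    haveI := hi
    obtain ⟨G', C', i', p, w, u, c, hS, hu, hG', hC', hrk, hdle, hdeg, hiso⟩ :=
      Groth.Agent.Lib.Helper23.Sat.exists_saturation k hdim.le hG hE i
    rcases Nat.eq_zero_or_pos c with hc | hc
    · left
      have hrr : r' = r := by omega
      subst hrr
      have := Groth.Agent.Lib.Helper23.VBMaps.deg_le_of_mono_same_rank k hdim.le hG hE i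
      exact ⟨rfl, this.1, this.2⟩
    · right
      haveI : Epi p := hS.epi_g
      refine ⟨C', c, p, Curv2.deg k X G' r', inferInstance, hc, hC', ?_, hrk, hdle, hdeg⟩
      intro hpiso
      haveI : Mono p := inferInstance
      have := Groth.Agent.Lib.Helper23.VBMaps.rank_le_of_mono hE hC' p
      omega
  -- from subsheaves to quotients: a common computation
  have quot_of_sub : ∀ (F : X.Modules) (s : ℕ) (p : E ⟶ F), Epi p → 0 < s →
      FlatMod.IsFinLocFreeOfRank s F →
      (r = s ∧ Curv2.deg k X E r = Curv2.deg k X F s ∧ IsIso p) ∨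
      (∃ a : ℕ, 0 < a ∧ FlatMod.IsFinLocFreeOfRank a (kernel p) ∧ ¬ IsIso (kernel.ι p) ∧
        r = a + s ∧ Curv2.deg k X E r = Curv2.deg k X (kernel p) a + Curv2.deg k X F s) := by
    intro F s p hp hs hF
    haveI := hp
    obtain ⟨a, hK, hrk, hdeg⟩ := Groth.Agent.Lib.Helper23.Sat.kernel_epi_data k hdim.le hE hF p
    rcases Nat.eq_zero_or_pos a with ha | ha
    · left
      subst ha
      have hz := Groth.Agent.Lib.Helper23.StableEnd.isZero_of_rank_zero hK
      rw [Groth.Agent.Lib.Helper23.VBMaps.deg_zero_of_isZero k hz, zero_add] at hdeg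
      haveI : Mono p := Preadditive.mono_of_kernel_zero (hz.eq_of_src _ _)
      exact ⟨by omega, hdeg, isIso_of_mono_of_epi p⟩
    · right
      refine ⟨a, ha, hK, ?_, hrk, hdeg⟩
      intro hiso
      haveI : Mono (inv (kernel.ι p)) := inferInstance
      have := Groth.Agent.Lib.Helper23.VBMaps.rank_le_of_mono hE hK (inv (kernel.ι p))
      omega
  refine ⟨⟨?_, ?_⟩, ⟨?_, ?_⟩⟩
  · intro hq G r' i hi hr' hG
    rcases sub_of_quot G r' i hi hr' hG with ⟨hrr, hle, _⟩ | ⟨C', c, p, d', hp, hc, hC', _, hrk, hdle, hdeg⟩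
    · subst hrr
      exact mul_le_mul_of_nonneg_right hle hrZ.le
    · have h := hq C' c p hp hc hC'
      have hrk' : (r : ℤ) = (r' : ℤ) + (c : ℤ) := by exact_mod_cast hrk
      have h1 : d' * (r : ℤ) ≤ Curv2.deg k X E r * (r' : ℤ) := by
        have : Curv2.deg k X C' c = Curv2.deg k X E r - d' := by linarith
        rw [this] at h
        rw [hrk'] at h ⊢
        linarith
      calc Curv2.deg k X G r' * (r : ℤ) ≤ d' * (r : ℤ) := mul_le_mul_of_nonneg_right hdle hrZ.le
        _ ≤ _ := h1
  · intro hsub F s p hp hs hF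
    rcases quot_of_sub F s p hp hs hF with ⟨hrs, hdeg, _⟩ | ⟨a, ha, hK, _, hrk, hdeg⟩
    · subst hrs
      rw [hdeg]
    · have h := hsub (kernel p) a (kernel.ι p) inferInstance ha hK
      have hrk' : (r : ℤ) = (a : ℤ) + (s : ℤ) := by exact_mod_cast hrk
      have : Curv2.deg k X (kernel p) a = Curv2.deg k X E r - Curv2.deg k X F s := by linarith
      rw [this] at h
      rw [hrk'] at h ⊢
      linarith
  · intro hq G r' i hi hr' hG hni
    rcases sub_of_quot G r' i hi hr' hG with ⟨hrr, hle, hiso⟩ | ⟨C', c, p, d', hp, hc, hC', hpni, hrk, hdle, hdeg⟩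
    · subst hrr
      have hlt : Curv2.deg k X G r' < Curv2.deg k X E r' :=
        lt_of_le_of_ne hle (fun h => hni (hiso h))
      exact mul_lt_mul_of_pos_right hlt hrZ
    · have h := hq C' c p hp hc hC' hpni
      have hrk' : (r : ℤ) = (r' : ℤ) + (c : ℤ) := by exact_mod_cast hrk
      have h1 : d' * (r : ℤ) < Curv2.deg k X E r * (r' : ℤ) := by
        have : Curv2.deg k X C' c = Curv2.deg k X E r - d' := by linarith
        rw [this] at h
        rw [hrk'] at h ⊢
        linarith
      calc Curv2.deg k X G r' * (r : ℤ) ≤ d' * (r : ℤ) := mul_le_mul_of_nonneg_right hdle hrZ.le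
        _ < _ := h1
  · intro hsub F s p hp hs hF hni
    rcases quot_of_sub F s p hp hs hF with ⟨_, _, hiso⟩ | ⟨a, ha, hK, hKni, hrk, hdeg⟩
    · exact absurd hiso hni
    · have h := hsub (kernel p) a (kernel.ι p) inferInstance ha hK hKni
      have hrk' : (r : ℤ) = (a : ℤ) + (s : ℤ) := by exact_mod_cast hrk
      have : Curv2.deg k X (kernel p) a = Curv2.deg k X E r - Curv2.deg k X F s := by linarith
      rw [this] at h
      rw [hrk'] at h ⊢
      linarith

end Groth.Agent.S14151
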