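import Groth.Statements.S14175
import Mathlib

set_option autoImplicit false
universe u v w
open GalCoh

namespace Groth.Agent.S14175

section helpers
open Finset

variable {k : Type u} {G : Type v} {V : Type w} [CommRing k] [Group G]
  [AddCommGroup V] [Module k V] (ρ : Representation k G V)

/-- crossed homs vanish at 1 -/
theorem crossed_one (f : G → V) (hf : ∀ g h : G, f (g * h) = ρ g (f h) + f g) : f 1 = 0 := by
  have := hf 1 1
  simp only [mul_one, map_one, Module.End.one_apply] at this
  have h2 : f 1 + f 1 = f 1 + 0 := by rw [add_zero]; exact this.symm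
  exact add_left_cancel h2

theorem crossed_pow_eq (t : G) (f f' : G → V)
    (hf : ∀ g h : G, f (g * h) = ρ g (f h) + f g)
    (hf' : ∀ g h : G, f' (g * h) = ρ g (f' h) + f' g) (h : f t = f' t) (i : ℕ) :
    f (t ^ i) = f' (t ^ i) := by
  induction i with
  | zero => rw [pow_zero, crossed_one ρ f hf, crossed_one ρ f' hf']
  | succ i ih => rw [pow_succ, hf, hf', ih, h]

theorem exists_pow_eq [Finite G] (t : G) (ht : ∀ g : G, g ∈ Subgroup.zpowers t) (g : G) :
    ∃ n : ℕ, t ^ n = g := by
  have := ht g
  rw [← mem_powers_iff_mem_zpowers] at this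
  exact (Submonoid.mem_powers_iff _ _).1 this

theorem ker_le_range [Finite G] (t : G) (ht : ∀ g : G, g ∈ Subgroup.zpowers t) :
    Representation.Coinvariants.ker ρ ≤ LinearMap.range (ρ t - 1) := by
  unfold Representation.Coinvariants.ker
  rw [Submodule.span_le]
  rintro _ ⟨⟨g, w⟩, rfl⟩
  obtain ⟨n, rfl⟩ := exists_pow_eq t ht g
  refine ⟨(∑ j ∈ range n, (ρ t) ^ j) w, ?_⟩
  have h := mul_geom_sum (ρ t) n
  have h2 := congrArg (fun φ : Module.End k V => φ w) h
  simp only [Module.End.mul_apply, LinearMap.sub_apply, Module.End.one_apply] at h2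
  simp only [map_pow]
  exact h2


section construct
variable (T : Module.End k V) (v : V)

/-- partial geometric sums applied to `v` -/
def S (i : ℕ) : V := (∑ j ∈ range i, T ^ j) v

theorem S_add (i j : ℕ) : S T v (i + j) = S T v i + (T ^ i) (S T v j) := by
  unfold S
  rw [Finset.sum_range_add, LinearMap.add_apply]
  congr 1
  simp only [pow_add, ← Finset.mul_sum, Module.End.mul_apply]

theorem geom_mul (d a : ℕ) (hd : T ^ d = 1) :
    ∑ j ∈ range (a * d), T ^ j = a • ∑ j ∈ range d, T ^ j := by
  induction a with
  | zero => simp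
  | succ a ih =>
    rw [Nat.succ_mul, Finset.sum_range_add, ih, succ_nsmul]
    congr 1
    apply Finset.sum_congr rfl
    intro x _
    rw [pow_add, pow_mul', hd, one_pow, one_mul]

theorem S_mul_eq_zero (N : ℕ) (hN : S T v N = 0) (q : ℕ) : S T v (q * N) = 0 := by
  induction q with
  | zero => simp [S]
  | succ q ih => rw [Nat.succ_mul, S_add, ih, hN, map_zero, add_zero]

theorem S_congr (N : ℕ) (hN : S T v N = 0) {i i' : ℕ} (h : i ≡ i' [MOD N]) :
    S T v i = S T v i' := by
  have key : ∀ i : ℕ, S T v i = S T v (i % N) := by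
    intro i
    conv_lhs => rw [← Nat.mod_add_div i N, S_add, mul_comm, S_mul_eq_zero T v N hN, map_zero, add_zero]
  rw [key i, key i', h]

end construct

theorem part2 [Finite G] (t : G) (ht : ∀ g : G, g ∈ Subgroup.zpowers t)
    (m : ℕ) (hm : m ∣ Nat.card G) (htors : ∀ v : V, m • v = 0)
    (htriv : ∀ g : G, g ^ m = 1 → ∀ v : V, ρ g v = v) (v : V) :
    ∃ f : G → V, (∀ g h : G, f (g * h) = ρ g (f h) + f g) ∧ f t = v := by
  classical
  have hord : orderOf t = Nat.card G := orderOf_eq_card_of_forall_mem_zpowers ht
  obtain ⟨d, hd⟩ := hm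
  have hTd : (ρ t) ^ d = 1 := by
    rw [← map_pow]
    apply LinearMap.ext
    intro w
    rw [Module.End.one_apply]
    apply htriv
    rw [← pow_mul, mul_comm, ← hd, ← hord, pow_orderOf_eq_one]
  have hSN : S (ρ t) v (Nat.card G) = 0 := by
    unfold S
    rw [hd, geom_mul (ρ t) d m hTd]
    rw [LinearMap.smul_apply]
    exact htors _
  choose n hn using exists_pow_eq t ht
  refine ⟨fun g => S (ρ t) v (n g), ?_, ?_⟩
  · intro g h
    have h1 : n (g * h) ≡ n g + n h [MOD Nat.card G] := by
      rw [← hord, ← pow_eq_pow_iff_modEq, hn, pow_add, hn, hn]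
    show S (ρ t) v (n (g * h)) = ρ g (S (ρ t) v (n h)) + S (ρ t) v (n g)
    rw [S_congr (ρ t) v _ hSN h1, S_add, add_comm, ← map_pow, hn]
  · have h1 : n t ≡ 1 [MOD Nat.card G] := by
      rw [← hord, ← pow_eq_pow_iff_modEq, hn, pow_one]
    show S (ρ t) v (n t) = v
    rw [S_congr (ρ t) v _ hSN h1]
    simp [S]


end helpers

/-- Let G be a finite cyclic group generated by t, let m be a natural number dividing the order of G,
and let ρ be a linear representation of G on a module V over a commutative ring k such that m·V = 0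
and every element of G whose m-th power is the identity acts trivially on V. Then evaluating a
crossed homomorphism at t induces a bijection from the first cohomology of G with values in V
(crossed homomorphisms f, i.e. f(gh) = ρ(g)f(h) + f(g), modulo the principal ones g ↦ ρ(g)x − x)
onto the coinvariants V_G (the quotient of V by the span of all ρ(g)v − v): the class of f(t) in V_G
vanishes exactly when f is principal, and every class of V_G is the class of f(t) for some crossed
homomorphism f. The bijection depends on the choice of the generator t. -/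
theorem result
    {k : Type u} {G : Type v} {V : Type w} [CommRing k] [Group G] [Finite G]
    [AddCommGroup V] [Module k V] (ρ : Representation k G V)
    (t : G) (ht : ∀ g : G, g ∈ Subgroup.zpowers t)
    (m : ℕ) (hm : m ∣ Nat.card G) (htors : ∀ v : V, m • v = 0)
    (htriv : ∀ g : G, g ^ m = 1 → ∀ v : V, ρ g v = v) :
    (∀ f : G → V, (∀ g h : G, f (g * h) = ρ g (f h) + f g) →
        (Representation.Coinvariants.mk ρ (f t) = 0 ↔ ∃ x : V, ∀ g : G, f g = ρ g x - x)) ∧
    (∀ v : V, ∃ f : G → V, (∀ g h : G, f (g * h) = ρ g (f h) + f g) ∧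
        Representation.Coinvariants.mk ρ (f t) = Representation.Coinvariants.mk ρ v) := by
  constructor
  · intro f hf
    constructor
    · intro h0
      rw [Representation.Coinvariants.mk_eq_zero] at h0
      obtain ⟨x, hx⟩ := ker_le_range ρ t ht h0
      refine ⟨x, fun g => ?_⟩
      obtain ⟨i, rfl⟩ := exists_pow_eq t ht g
      refine crossed_pow_eq ρ t f (fun g => ρ g x - x) hf ?_ ?_ i
      · intro g h
        simp only [map_mul, Module.End.mul_apply, map_sub]
        abel
      · rw [← hx]; simp
    · rintro ⟨x, hx⟩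
      rw [hx t, Representation.Coinvariants.mk_eq_zero]
      exact Representation.Coinvariants.sub_mem_ker t x
  · intro v
    obtain ⟨f, hf, hft⟩ := part2 ρ t ht m hm htors htriv v
    exact ⟨f, hf, by rw [hft]⟩

end Groth.Agent.S14175
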