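import Groth.Statements.S14176
import Mathlib
import Groth.Agent.Lib.Helper21.TopGrpB

set_option autoImplicit false
universe u
open Pi1

namespace Groth.Agent.S14176

open W4c1etcurveeff2 in
/-- Let G be a topological group in which some finite subset generates a dense subgroup, let n ≥ 1, and
let S be the closure of the subgroup generated by all n-th powers and all commutators. Write D for
the group of continuous homomorphisms from G to the discrete cyclic group ℤ/n, that is,
homomorphisms with open kernel (the first cohomology of G with coefficients in the trivial module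
ℤ/n), and D^∨ for its ℤ/n-dual, the group of homomorphisms D → ℤ/n. Then: S is carried onto itself
by every group automorphism of G that is a homeomorphism; an element g of G lies in S exactly when
every element of D kills g, and every element of D^∨ is evaluation at some element of G, so that
evaluation identifies G/S with D^∨; and S is the only closed normal subgroup H of G with G/H
isomorphic to D^∨. (The published statement is for a topologically finitely generated group, calls S
characteristic and does not restrict the competing subgroups H; this row asks the automorphisms to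
be homeomorphisms and H to be closed, which is what the argument uses: for the integers with the
p-adic topology times a cyclic group of prime order q ≠ p, the subgroup qℤ × ℤ/q is normal, not
closed, and has quotient isomorphic to D^∨ ≅ ℤ/q, while S = ℤ × 0.) -/
theorem result
    {G : Type u} [Group G] [TopologicalSpace G] [IsTopologicalGroup G]
    (s : Finset G) (hs : Dense ((Subgroup.closure (s : Set G) : Subgroup G) : Set G))
    (n : ℕ) [NeZero n] (S : Subgroup G) (hS : S = powCommClosure G n) :
    (∀ φ : G ≃* G, Continuous φ → Continuous φ.symm → S.map φ.toMonoidHom = S) ∧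
    (∀ g : G, g ∈ S ↔
        ∀ χ : G →* Multiplicative (ZMod n), IsOpen ((χ.ker : Subgroup G) : Set G) → χ g = 1) ∧
    (∀ F : ContChar G n →* Multiplicative (ZMod n), ∃ g : G,
        ∀ χ : ContChar G n, F χ = (χ.1 : G →* Multiplicative (ZMod n)) g) ∧
    (∀ (H : Subgroup G) [H.Normal], IsClosed (H : Set G) →
        Nonempty (G ⧸ H ≃* (ContChar G n →* Multiplicative (ZMod n))) → H = S) := by
  open Groth.Agent.Lib.Helper21.TopGrp in
  open scoped commutatorElement in
  subst hS
  have hn : n ≠ 0 := NeZero.ne n
  have hnorm : (powCommClosure G n).Normal := powCommClosure_normal n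
  have hclosed := isClosed_powCommClosure (G := G) n
  have hcomm := commutator_le_powCommClosure (G := G) n
  have hpow := pow_mem_powCommClosure (G := G) n
  have hfin : Finite (G ⧸ powCommClosure G n) :=
    finite_quot n (powCommClosure G n) hcomm hpow hn hclosed s hs
  let _ := quotCommGroup (powCommClosure G n) hcomm
  have hopen : IsOpen ((powCommClosure G n : Subgroup G) : Set G) := by
    have : (powCommClosure G n).FiniteIndex := Subgroup.finiteIndex_of_finite_quotient
    exact Subgroup.isOpen_of_isClosed_of_finiteIndex _ hclosed
  have hZ : ∀ z : Multiplicative (ZMod n), z ^ n = 1 := by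
    intro z
    show Multiplicative.ofAdd (n • Multiplicative.toAdd z) = 1
    simp
  have hker : ∀ χ : G →* Multiplicative (ZMod n), IsOpen ((χ.ker : Subgroup G) : Set G) →
      powCommClosure G n ≤ χ.ker := by
    intro χ hχ
    apply powCommClosure_le n χ.ker (Subgroup.isClosed_of_isOpen _ hχ)
    · intro g
      rw [MonoidHom.mem_ker, map_pow]
      exact hZ _
    · rw [commutator_def, Subgroup.commutator_le]
      intro a _ b _
      rw [MonoidHom.mem_ker, map_commutatorElement, commutatorElement_eq_one_iff_commute]
      exact Commute.all _ _
  have hopen' : ∀ ψ : (G ⧸ powCommClosure G n) →* Multiplicative (ZMod n),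
      IsOpen (((ψ.comp (QuotientGroup.mk' (powCommClosure G n))).ker : Subgroup G) : Set G) := by
    intro ψ
    refine Subgroup.isOpen_mono (H₁ := powCommClosure G n) ?_ hopen
    intro x hx
    rw [MonoidHom.mem_ker, MonoidHom.comp_apply, QuotientGroup.mk'_apply,
      (QuotientGroup.eq_one_iff x).2 hx, map_one]
  have hB : ∀ g : G, g ∈ powCommClosure G n ↔
      ∀ χ : G →* Multiplicative (ZMod n), IsOpen ((χ.ker : Subgroup G) : Set G) → χ g = 1 := by
    intro g
    constructor
    · intro hg χ hχ
      exact hker χ hχ hg
    · intro h
      by_contra hg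
      have hne : (QuotientGroup.mk' (powCommClosure G n) g) ≠ 1 :=
        fun h' => hg ((QuotientGroup.eq_one_iff g).1 h')
      obtain ⟨ψ, hψ⟩ := exists_char_ne_one n (quot_pow n (powCommClosure G n) hpow) hne
      exact hψ (h (ψ.comp (QuotientGroup.mk' (powCommClosure G n))) (hopen' ψ))
  have hC : ∀ F : ContChar G n →* Multiplicative (ZMod n), ∃ g : G,
      ∀ χ : ContChar G n, F χ = (χ.1 : G →* Multiplicative (ZMod n)) g := by
    intro F
    let F' : ((G ⧸ powCommClosure G n) →* Multiplicative (ZMod n)) →* Multiplicative (ZMod n) :=
      { toFun := fun ψ => F ⟨ψ.comp (QuotientGroup.mk' (powCommClosure G n)), hopen' ψ⟩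
        map_one' := by
          have : (⟨(1 : (G ⧸ powCommClosure G n) →* Multiplicative (ZMod n)).comp
              (QuotientGroup.mk' (powCommClosure G n)), hopen' 1⟩ : ContChar G n) = 1 := by
            apply Subtype.ext; ext x; simp
          rw [this, map_one]
        map_mul' := fun ψ ψ' => by
          have : (⟨(ψ * ψ').comp (QuotientGroup.mk' (powCommClosure G n)), hopen' (ψ * ψ')⟩ :
              ContChar G n) = ⟨ψ.comp (QuotientGroup.mk' (powCommClosure G n)), hopen' ψ⟩ *
                ⟨ψ'.comp (QuotientGroup.mk' (powCommClosure G n)), hopen' ψ'⟩ := by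
            apply Subtype.ext; ext x; simp
          rw [this, map_mul] }
    obtain ⟨q, hq⟩ := exists_eval n (quot_pow n (powCommClosure G n) hpow) F'
    obtain ⟨g, rfl⟩ := QuotientGroup.mk'_surjective (powCommClosure G n) q
    refine ⟨g, fun χ => ?_⟩
    let ψ := QuotientGroup.lift (powCommClosure G n) χ.1 (fun x hx => hker χ.1 χ.2 hx)
    have hχ : χ = ⟨ψ.comp (QuotientGroup.mk' (powCommClosure G n)), hopen' ψ⟩ := by
      apply Subtype.ext; ext x; simp [ψ]
    have h1 := hq ψ
    have h2 : F' ψ = F χ := by
      show F ⟨ψ.comp (QuotientGroup.mk' (powCommClosure G n)), hopen' ψ⟩ = F χ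
      rw [← hχ]
    rw [← h2, h1]
    simp [ψ]
  refine ⟨fun φ h1 h2 => map_powCommClosure_eq n φ h1 h2, hB, hC, ?_⟩
  intro H hHn hHc ⟨e⟩
  -- the evaluation homomorphism
  let ev : G →* (ContChar G n →* Multiplicative (ZMod n)) :=
    { toFun := fun g =>
        { toFun := fun χ => (χ.1 : G →* Multiplicative (ZMod n)) g
          map_one' := rfl
          map_mul' := fun _ _ => rfl }
      map_one' := by ext χ; simp
      map_mul' := fun a b => by ext χ; simp }
  have hevker : ev.ker = powCommClosure G n := by
    ext g
    rw [MonoidHom.mem_ker, hB]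
    constructor
    · intro h χ hχ
      have := DFunLike.congr_fun h (⟨χ, hχ⟩ : ContChar G n)
      exact this
    · intro h
      ext χ
      exact h χ.1 χ.2
  have hevsurj : Function.Surjective ev := by
    intro F
    obtain ⟨g, hg⟩ := hC F
    exact ⟨g, by ext χ; exact (hg χ).symm⟩
  have e1 : G ⧸ powCommClosure G n ≃* (ContChar G n →* Multiplicative (ZMod n)) :=
    (QuotientGroup.quotientMulEquivOfEq hevker.symm).trans
      (QuotientGroup.quotientKerEquivOfSurjective ev hevsurj)
  have hcard : Nat.card (G ⧸ powCommClosure G n) = Nat.card (G ⧸ H) :=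
    Nat.card_congr (e1.trans e.symm).toEquiv
  -- the quotient by H is commutative of exponent n
  have hle : powCommClosure G n ≤ H := by
    apply powCommClosure_le n H hHc
    · intro g
      rw [← QuotientGroup.eq_one_iff, QuotientGroup.mk_pow]
      apply e.injective
      rw [map_pow, map_one]
      ext χ
      exact hZ _
    · rw [commutator_def, Subgroup.commutator_le]
      intro a _ b _
      rw [← QuotientGroup.eq_one_iff]
      apply e.injective
      rw [map_one]
      have : ((⁅a, b⁆ : G) : G ⧸ H) = (a : G ⧸ H) * (b : G ⧸ H) * (a : G ⧸ H)⁻¹ * (b : G ⧸ H)⁻¹ := by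
        rw [commutatorElement_def]; rfl
      rw [this, map_mul, map_mul, map_mul, map_inv, map_inv]
      ext χ
      simp only [MonoidHom.mul_apply, MonoidHom.inv_apply, MonoidHom.one_apply]
      rw [mul_comm (e a χ) (e b χ), mul_inv_cancel_right, mul_inv_cancel]
  have hfinH : Finite (G ⧸ H) := Finite.of_equiv _ (e1.trans e.symm).toEquiv
  have hidx : (powCommClosure G n).index = H.index := hcard
  have hHidx : H.index ≠ 0 := by
    have : H.FiniteIndex := Subgroup.finiteIndex_of_finite_quotient
    exact Subgroup.FiniteIndex.index_ne_zero
  have hrel := Subgroup.relIndex_mul_index hle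
  rw [hidx] at hrel
  have hrel1 : (powCommClosure G n).relIndex H = 1 := by
    have : (powCommClosure G n).relIndex H * H.index = 1 * H.index := by rw [hrel, one_mul]
    exact Nat.eq_of_mul_eq_mul_right (Nat.pos_of_ne_zero hHidx) this
  exact le_antisymm (Subgroup.relIndex_eq_one.1 hrel1) hle

end Groth.Agent.S14176
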