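import Groth.Statements.S14181
import Mathlib

set_option autoImplicit false
universe u
open CategoryTheory
open GalCoh

namespace Groth.Agent.S14181

section helpers
open groupCohomology Rep

variable {k G : Type u} [CommRing k] [Group G] (A : Rep.{u} k G) (P : Subgroup G) [P.Normal]

section descend
variable {A} (F : cocycles₁ A) (hF : ∀ s ∈ P, F s = 0)
include hF

omit [P.Normal] in
theorem F_mul_right (g s : G) (hs : s ∈ P) : F (g * s) = F g := by
  rw [(mem_cocycles₁_iff F).1 F.2 g s, hF s hs, map_zero, zero_add]

theorem F_inv (g s : G) (hs : s ∈ P) : A.ρ s (F g) = F g := by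
  have h1 : F (s * g) = A.ρ s (F g) := by
    rw [(mem_cocycles₁_iff F).1 F.2 s g, hF s hs, add_zero]
  have h2 : s * g = g * (g⁻¹ * s * g) := by group
  rw [← h1, h2, F_mul_right P F hF g _ (Subgroup.Normal.conj_mem' ‹_› s hs g)]

/-- a cocycle vanishing on the normal subgroup descends to the quotient, with invariant values -/
noncomputable def descend : cocycles₁ (A.quotientToInvariants P) :=
  ⟨fun q => Quotient.liftOn' q
      (fun g => (⟨F g, fun s => F_inv P F hF g s.1 s.2⟩ :
        Representation.invariants (A.ρ.comp P.subtype)))
      (fun g h hgh => by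
        apply Subtype.ext
        have hm : g⁻¹ * h ∈ P := QuotientGroup.leftRel_apply.1 hgh
        show F g = F h
        rw [← F_mul_right P F hF g _ hm, mul_inv_cancel_left]), by
    rw [mem_cocycles₁_iff]
    intro q q'
    induction q using QuotientGroup.induction_on with | @H g =>
    induction q' using QuotientGroup.induction_on with | @H h =>
    apply Subtype.ext
    rw [← QuotientGroup.mk_mul]
    exact (mem_cocycles₁_iff F).1 F.2 g h⟩

theorem descend_mk (g : G) : ((descend P F hF) (g : G ⧸ P) : A) = F g := rfl

end descend


section avg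
variable [Fintype P] (hP : Function.Bijective fun a : A => (Nat.card P : k) • a)

/-- division by the order of `P` -/
noncomputable def divCard : A ≃ₗ[k] A :=
  (LinearEquiv.ofBijective (LinearMap.lsmul k A (Nat.card P : k)) hP).symm

theorem card_smul_divCard (a : A) : (Nat.card P : k) • divCard A P hP a = a :=
  (LinearEquiv.ofBijective (LinearMap.lsmul k A (Nat.card P : k)) hP).apply_symm_apply a

/-- the averaged value of a cocycle over `P` -/
noncomputable def avgL : cocycles₁ A →ₗ[k] A where
  toFun x := divCard A P hP (∑ p : P, x (p : G))
  map_add' x y := by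
    rw [← map_add, ← Finset.sum_add_distrib]
    rfl
  map_smul' c x := by
    rw [RingHom.id_apply, ← map_smul, Finset.smul_sum]
    rfl

theorem card_smul_avgL (x : cocycles₁ A) : (Nat.card P : k) • avgL A P hP x = ∑ p : P, x (p : G) :=
  card_smul_divCard A P hP _

/-- the cocycle `x + d(a₀)` -/
noncomputable def shift (x : cocycles₁ A) : cocycles₁ A :=
  ⟨fun g => x g + (A.ρ g (avgL A P hP x) - avgL A P hP x), by
    rw [mem_cocycles₁_iff]
    intro g h
    simp only [(mem_cocycles₁_iff x).1 x.2 g h, map_mul, Module.End.mul_apply, map_add, map_sub]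
    abel⟩

theorem shift_apply (x : cocycles₁ A) (g : G) :
    shift A P hP x g = x g + (A.ρ g (avgL A P hP x) - avgL A P hP x) := rfl

theorem shift_vanish (x : cocycles₁ A) (s : G) (hs : s ∈ P) : shift A P hP x s = 0 := by
  apply hP.1
  show (Nat.card P : k) • shift A P hP x s = (Nat.card P : k) • (0 : A)
  rw [smul_zero, shift_apply, smul_add, smul_sub]
  have h1 : (Nat.card P : k) • x s = ∑ _p : P, x s := by
    rw [Finset.sum_const, Finset.card_univ, Nat.card_eq_fintype_card, Nat.cast_smul_eq_nsmul]
  have h3 : (Nat.card P : k) • A.ρ s (avgL A P hP x) = A.ρ s (∑ p : P, x (p : G)) := by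
    rw [← card_smul_avgL A P hP x, map_smul]
  rw [h3, card_smul_avgL, h1, map_sum, ← add_sub_assoc, ← Finset.sum_add_distrib, sub_eq_zero]
  have h2 : ∀ p : P, x s + A.ρ s (x (p : G)) = x (((⟨s, hs⟩ : P) * p : P) : G) := by
    intro p
    rw [Subgroup.coe_mul, (mem_cocycles₁_iff x).1 x.2 s p, add_comm]
  rw [Finset.sum_congr rfl (fun p _ => h2 p)]
  exact Fintype.sum_equiv (Equiv.mulLeft (⟨s, hs⟩ : P)) _ _ (fun _ => rfl)

/-- the retraction on cocycles -/
noncomputable def retr : cocycles₁ A →ₗ[k] cocycles₁ (A.quotientToInvariants P) where
  toFun x := descend P (shift A P hP x) (shift_vanish A P hP x)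
  map_add' x y := by
    apply cocycles₁_ext
    intro q
    induction q using QuotientGroup.induction_on with | @H g =>
    apply Subtype.ext
    show shift A P hP (x + y) g = shift A P hP x g + shift A P hP y g
    simp only [shift_apply, map_add]
    have : (x + y) g = x g + y g := rfl
    rw [this]
    abel
  map_smul' c x := by
    apply cocycles₁_ext
    intro q
    induction q using QuotientGroup.induction_on with | @H g =>
    apply Subtype.ext
    show shift A P hP (c • x) g = c • shift A P hP x g
    simp only [shift_apply, map_smul]
    have : (c • x) g = c • x g := rfl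
    rw [this, smul_add, smul_sub]

end avg


end helpers

/-- Let G be a group with a finite normal subgroup P, k a commutative ring and A a k-linear
representation of G such that multiplication by the order of P is a bijection of A. Then the
inflation map on 1-cocycles (crossed homomorphisms) Z¹(G/P, A^P) → Z¹(G, A) has a k-linear left
inverse. (The published statement is for the inertia group of a Galois cover of smooth curves at a
point, its normal Sylow p-subgroup P and a module of n-torsion with n prime to p; the argument uses
only that the order of P acts invertibly, which is the hypothesis taken here.) -/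
theorem result
    {k G : Type u} [CommRing k] [Group G] (A : Rep.{u} k G) (P : Subgroup G) [P.Normal] [Finite P]
    (hP : Function.Bijective fun a : A => (Nat.card P : k) • a) :
    ∃ r : ModuleCat.of k (groupCohomology.cocycles₁ A) ⟶
        ModuleCat.of k (groupCohomology.cocycles₁ (A.quotientToInvariants P)),
      (groupCohomology.mapCocycles₁ (QuotientGroup.mk' P) (Rep.ofHom (A.ρ.quotientToInvariants_lift P)) :
          ModuleCat.of k (groupCohomology.cocycles₁ (A.quotientToInvariants P)) ⟶
            ModuleCat.of k (groupCohomology.cocycles₁ A)) ≫ r = 𝟙 _ := by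
  classical
  letI : Fintype P := Fintype.ofFinite P
  refine ⟨ModuleCat.ofHom (retr A P hP), ?_⟩
  apply ModuleCat.hom_ext
  apply LinearMap.ext
  intro φ
  apply groupCohomology.cocycles₁_ext
  intro q
  induction q using QuotientGroup.induction_on with | @H g =>
  apply Subtype.ext
  set ψ : groupCohomology.cocycles₁ A :=
    (groupCohomology.mapCocycles₁ (QuotientGroup.mk' P) (Rep.ofHom (A.ρ.quotientToInvariants_lift P))).hom φ
    with hψ
  have hval : ∀ h : G, ψ h = ((φ (h : G ⧸ P)) : A) := fun h => rfl
  have havg : avgL A P hP ψ = 0 := by
    show divCard A P hP (∑ p : P, ψ (p : G)) = 0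
    have : ∑ p : P, ψ (p : G) = 0 := by
      apply Finset.sum_eq_zero
      intro p _
      rw [hval]
      have : ((p : G) : G ⧸ P) = 1 := (QuotientGroup.eq_one_iff _).2 p.2
      rw [this, groupCohomology.cocycles₁_map_one]
      rfl
    rw [this, map_zero]
  show shift A P hP ψ g = ((φ (g : G ⧸ P)) : A)
  rw [shift_apply, havg, map_zero, sub_zero, add_zero, hval]

end Groth.Agent.S14181
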