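import Groth.Statements.S14188
import Mathlib

set_option autoImplicit false
universe u
open CategoryTheory CategoryTheory.Limits AlgebraicGeometry
open FlatMor

namespace Groth.Agent.S14188

/-- Let T be an integral scheme with generic point η, let Y and Z be schemes flat over T with Z
separated over T, and let ψ : Y_η → Z be a T-morphism from the generic fibre Y_η = Y ×_T Spec
O_{T,η} (equivalently, an η-morphism Y_η → Z_η). Let gr : Y_η → Y ×_T Z be the graph of ψ, the
morphism whose components are the projection Y_η → Y and ψ, and let Γ ⊆ Y ×_T Z be the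
scheme-theoretic image of gr (the schematic closure of the graph). Then ψ extends to a T-morphism φ
: Y → Z, meaning that the composite Y_η → Y → Z is ψ, if and only if the composite of the inclusion
Γ → Y ×_T Z with the first projection is an isomorphism Γ ≅ Y. -/
theorem result (T Y Z : Scheme.{u}) [IsIntegral T]
    (pY : Y ⟶ T) (pZ : Z ⟶ T) [Flat pY] [Flat pZ] [IsSeparated pZ]
    (ψ : pullback pY (T.fromSpecStalk (genericPoint T)) ⟶ Z)
    (hψ : ψ ≫ pZ = pullback.fst pY (T.fromSpecStalk (genericPoint T)) ≫ pY)
    (gr : pullback pY (T.fromSpecStalk (genericPoint T)) ⟶ pullback pY pZ)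
    (hgr₁ : gr ≫ pullback.fst pY pZ = pullback.fst pY (T.fromSpecStalk (genericPoint T)))
    (hgr₂ : gr ≫ pullback.snd pY pZ = ψ) :
    (∃ φ : Y ⟶ Z, φ ≫ pZ = pY ∧ pullback.fst pY (T.fromSpecStalk (genericPoint T)) ≫ φ = ψ) ↔
      IsIso (gr.imageι ≫ pullback.fst pY pZ) := by
  constructor
  · rintro ⟨φ, hφ, hφψ⟩
    subst hφ
    -- the generic point inclusion is quasi-compact and scheme-theoretically dominant
    haveI : Subsingleton ↥(Spec (T.presheaf.stalk (genericPoint T))) :=
      (inferInstance : Subsingleton (PrimeSpectrum T.functionField))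
    haveI : QuasiCompact (T.fromSpecStalk (genericPoint T)) :=
      ⟨fun _ _ _ => (Set.subsingleton_of_subsingleton).isCompact⟩
    haveI : IsDominant (T.fromSpecStalk (genericPoint T)) := by
      rw [isDominant_iff, DenseRange]
      refine Dense.mono ?_ (dense_iff_closure_eq.mpr (genericPoint_spec T))
      rw [Scheme.range_fromSpecStalk]
      intro y hy
      rw [Set.mem_singleton_iff] at hy
      subst hy
      exact specializes_rfl
    haveI : IsSchemeTheoreticallyDominant (T.fromSpecStalk (genericPoint T)) :=
      IsSchemeTheoreticallyDominant.of_isDominant _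
    haveI : IsSchemeTheoreticallyDominant
        (pullback.fst (φ ≫ pZ) (T.fromSpecStalk (genericPoint T))) := inferInstance
    let γ : Y ⟶ pullback (φ ≫ pZ) pZ := pullback.lift (𝟙 Y) φ (Category.id_comp (φ ≫ pZ))
    have hgr : gr = pullback.fst (φ ≫ pZ) (T.fromSpecStalk (genericPoint T)) ≫ γ := by
      apply pullback.hom_ext
      · rw [hgr₁, Category.assoc, pullback.lift_fst, Category.comp_id]
      · rw [hgr₂, Category.assoc, pullback.lift_snd, hφψ]
    have hker : γ.ker = gr.imageι.ker := by
      rw [Scheme.Hom.imageι, Scheme.IdealSheafData.ker_subschemeι, hgr, Scheme.Hom.ker_comp,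
        (pullback.fst (φ ≫ pZ) (T.fromSpecStalk (genericPoint T))).ker_eq_bot,
        Scheme.IdealSheafData.map_bot]
    haveI := IsClosedImmersion.isIso_lift γ gr.imageι hker
    have h1 : gr.imageι ≫ pullback.fst (φ ≫ pZ) pZ = IsClosedImmersion.lift γ gr.imageι hker.le := by
      have h0 := IsClosedImmersion.lift_fac γ gr.imageι hker.le
      calc gr.imageι ≫ pullback.fst (φ ≫ pZ) pZ
          = (IsClosedImmersion.lift γ gr.imageι hker.le ≫ γ) ≫ pullback.fst (φ ≫ pZ) pZ := by
            rw [h0]
        _ = IsClosedImmersion.lift γ gr.imageι hker.le := by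
            rw [Category.assoc, pullback.lift_fst, Category.comp_id]
    rw [h1]
    infer_instance
  · intro h
    refine ⟨inv (gr.imageι ≫ pullback.fst pY pZ) ≫ gr.imageι ≫ pullback.snd pY pZ, ?_, ?_⟩
    · rw [Category.assoc, Category.assoc, ← pullback.condition, ← Category.assoc gr.imageι,
        IsIso.inv_hom_id_assoc]
    · have h2 : pullback.fst pY (T.fromSpecStalk (genericPoint T)) =
          gr.toImage ≫ (gr.imageι ≫ pullback.fst pY pZ) := by
        rw [Scheme.Hom.toImage_imageι_assoc, hgr₁]
      rw [h2, Category.assoc, IsIso.hom_inv_id_assoc, Scheme.Hom.toImage_imageι_assoc, hgr₂]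

end Groth.Agent.S14188
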