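import Groth.Statements.S14193
-- import your own Groth.Agent.* helpers here
import Groth.Agent.Lib.Helper23.ExpSumA
import Groth.Agent.Lib.Helper23.ExpSumB
import Groth.Agent.Lib.Helper23.ExpSumC
import Groth.Agent.Lib.Helper23.ExpSumF
import Groth.Agent.Lib.Helper23.ExpSumI

set_option autoImplicit false
open PowerSeries
open StackCount

namespace Groth.Agent.S14193



/-- Let q > 1 be an integer and let F be an element of the subring of the rational function field ℚ(X)
generated by X, X^(-1) and the fractions 1/(X^n - 1) for n ≥ 1 (so F(q^v) is defined for every v ≥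
1). If the formal power series exp(Σ_{v ≥ 1} F(q^v) t^v / v) in ℚ⟦t⟧ is the expansion of a rational
function, i.e. its product with some non-zero polynomial in t is a polynomial, then F is a Laurent
polynomial with integer coefficients: F · X^a is the image of a polynomial with integer coefficients
for some a. (The published statement also assumes that the series defines a meromorphic function on
the complex plane; that is implied by rationality and is omitted here.) -/
theorem result (q : ℤ) (hq : 1 < q) (F : RatFunc ℚ)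
    (hF : F ∈ Subring.closure
      (({RatFunc.X, (RatFunc.X : RatFunc ℚ)⁻¹} : Set (RatFunc ℚ)) ∪
        Set.range fun n : ℕ => ((RatFunc.X : RatFunc ℚ) ^ (n + 1) - 1)⁻¹))
    (hrat : ∃ P Q : Polynomial ℚ, Q ≠ 0 ∧
      (PowerSeries.exp ℚ).subst
          (PowerSeries.mk fun v : ℕ => if v = 0 then (0 : ℚ)
            else F.eval (RingHom.id ℚ) ((q : ℚ) ^ v) / (v : ℚ))
        * (Q : PowerSeries ℚ) = (P : PowerSeries ℚ)) :
    ∃ (P : Polynomial ℤ) (a : ℕ),
      F * RatFunc.X ^ a = algebraMap (Polynomial ℚ) (RatFunc ℚ) (P.map (Int.castRingHom ℚ)) := by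
  open Groth.Agent.Lib.Helper23 in
  obtain ⟨P, Q, hQ, hPQ⟩ := hrat
  have hqq : (1 : ℚ) < (q : ℚ) := by exact_mod_cast hq
  have hq0 : (0 : ℚ) < (q : ℚ) := by linarith
  set av : ℕ → ℚ := fun v => F.eval (RingHom.id ℚ) ((q : ℚ) ^ v) with hav
  have hPQ' : (PowerSeries.exp ℚ).subst (Groth.Agent.Lib.Helper23.ExpSumA.gser av) *
      (Q : PowerSeries ℚ) = (P : PowerSeries ℚ) := hPQ
  have hP : P ≠ 0 := Groth.Agent.Lib.Helper23.ExpSumB.P_ne_zero av P Q hQ hPQ'
  have hkey := Groth.Agent.Lib.Helper23.ExpSumA.key av P Q hPQ'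
  obtain ⟨a, G, hG⟩ := Groth.Agent.Lib.Helper23.ExpSumF.laurent (q : ℚ) hqq F hF (P * Q)
    (Polynomial.derivative P * Q - P * Polynomial.derivative Q) (mul_ne_zero hP hQ) hkey
  have hval : ∀ n : ℕ, av (n + 1) =
      G.eval ((q : ℚ) ^ (n + 1)) / ((q : ℚ) ^ (n + 1)) ^ a := by
    intro n
    have h3 : (Polynomial.X ^ a : Polynomial ℚ).eval ((q : ℚ) ^ (n + 1)) ≠ 0 := by
      rw [Polynomial.eval_pow, Polynomial.eval_X]
      exact pow_ne_zero _ (pow_ne_zero _ hq0.ne')
    have h4 := Groth.Agent.Lib.Helper23.ExpSumC.eval_eq_div F G (Polynomial.X ^ a) (by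
      rw [map_pow, RatFunc.algebraMap_X]
      exact hG) ((q : ℚ) ^ (n + 1)) h3
    rw [hav]
    simp only
    rw [h4, Polynomial.eval_pow, Polynomial.eval_X]
  have hkey' : (PowerSeries.mk fun n => G.eval ((q : ℚ) ^ (n + 1)) / ((q : ℚ) ^ (n + 1)) ^ a) *
      ((P * Q : Polynomial ℚ) : PowerSeries ℚ) =
      ((Polynomial.derivative P * Q - P * Polynomial.derivative Q : Polynomial ℚ) :
        PowerSeries ℚ) := by
    rw [← hkey]
    congr 2
    funext n
    exact (hval n).symm
  have hint := Groth.Agent.Lib.Helper23.ExpSumI.coeff_int (q : ℚ) hqq a G P Q hP hQ hkey'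
  have hlift : G ∈ Polynomial.lifts (Int.castRingHom ℚ) := by
    rw [Polynomial.lifts_iff_coeff_lifts]
    intro k
    obtain ⟨z, hz⟩ := hint k
    exact ⟨z, by rw [hz]; rfl⟩
  obtain ⟨Pz, hPz⟩ := (Polynomial.mem_lifts G).mp hlift
  exact ⟨Pz, a, by rw [hPz]; exact hG⟩

end Groth.Agent.S14193
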