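-- S14205 (lead)
import Groth.Statements.S14205
import Groth.Agent.Lib.Lead.TPow2

set_option autoImplicit false
set_option linter.style.haveILetI false
set_option linter.style.haveILetI false
universe u v
open scoped TensorProduct
open Brauer

namespace Groth.Agent.S14205

/-- Let A be a finite-dimensional central simple algebra over a field k with period p: p is the least
positive integer for which the p-fold tensor power of A over k is a full matrix algebra over k. Then
for every r ≥ 1 the r-fold tensor power of A has period p / gcd(p, r) (the order of the r-th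
multiple of an element of order p). -/
theorem result (k : Type u) [Field k] (A : Type v) [Ring A] [Algebra k A]
    [Algebra.IsCentral k A] [IsSimpleRing A] [FiniteDimensional k A] (p : ℕ)
    (hp : CSAGal.IsPeriod k A p) (r : ℕ) (hr : 0 < r) :
    CSAGal.IsPeriod k (CSAGal.tpow k A r) (p / Nat.gcd p r) := by
  classical
  have hp0 : 0 < p := hp.1
  have hg0 : 0 < Nat.gcd p r := Nat.gcd_pos_of_pos_left r hp0
  have hgp : Nat.gcd p r ∣ p := Nat.gcd_dvd_left p r
  have hgr : Nat.gcd p r ∣ r := Nat.gcd_dvd_right p r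
  have hp'0 : 0 < p / Nat.gcd p r := Nat.div_pos (Nat.le_of_dvd hp0 hgp) hg0
  have hcop : Nat.Coprime (p / Nat.gcd p r) (r / Nat.gcd p r) := Nat.coprime_div_gcd_div_gcd hg0
  obtain ⟨h1, h2, h3⟩ := Groth.Agent.Lib.Lead.TPow.csa k A r
  haveI := h1
  haveI := h2
  haveI := h3
  have key : ∀ e : ℕ, Curves.Splits k (CSAGal.tpow k (CSAGal.tpow k A r) e) k ↔
      (p / Nat.gcd p r) ∣ e := by
    intro e
    obtain ⟨h4, h5, h6⟩ := Groth.Agent.Lib.Lead.TPow.csa k (CSAGal.tpow k A r) e
    obtain ⟨h7, h8, h9⟩ := Groth.Agent.Lib.Lead.TPow.csa k A (r * e)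
    haveI := h4
    haveI := h5
    haveI := h6
    haveI := h7
    haveI := h8
    haveI := h9
    have hb := Groth.Agent.Lib.Lead.TPow.brEq_mul k A r e
    rw [hb.splits_iff, Groth.Agent.Lib.Lead.TPow.splits_iff_dvd k A hp (r * e)]
    have e1 : p ∣ r * e ↔
        Nat.gcd p r * (p / Nat.gcd p r) ∣ Nat.gcd p r * (r / Nat.gcd p r * e) := by
      rw [← mul_assoc, Nat.mul_div_cancel' hgp, Nat.mul_div_cancel' hgr]
    rw [e1, Nat.mul_dvd_mul_iff_left hg0]
    exact Nat.Coprime.dvd_mul_left hcop
  exact ⟨hp'0, (key _).2 (dvd_refl _), fun e' he'0 he'lt h =>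
    Nat.not_dvd_of_pos_of_lt he'0 he'lt ((key e').1 h)⟩

end Groth.Agent.S14205
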