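-- S14211 (lead)
import Groth.Statements.S14211
import Groth.Agent.Lib.Lead.Quaternion

set_option autoImplicit false
set_option linter.style.haveILetI false
universe u v
open scoped TensorProduct
open Brauer

namespace Groth.Agent.S14211

open Groth.Agent.Lib.Lead in
theorem quat_isUnit_or (k : Type u) [Field k] (a b : k)
    (hdiv : ∀ x : QuaternionAlgebra k a 0 b, x ≠ 0 → IsUnit x) :
    ∀ x : QuaternionAlgebra k a 0 b, IsUnit x ∨ x = 0 := fun x => by
  by_cases hx : x = 0
  · exact Or.inr hx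
  · exact Or.inl (hdiv x hx)


/-- Let k be a field in which 2 ≠ 0 and A a finite-dimensional central simple k-algebra. Then A has
period 2 and index 2 (its Severi–Brauer variety has type (2, 2, 2m)) if and only if A is isomorphic
over k to a matrix algebra M_m(Q), m ≥ 1, over a quaternion algebra Q = (a, b)_k (the k-algebra with
basis 1, i, j, ij, i² = a, j² = b, ij = −ji) which is a division ring; moreover such a quaternion
algebra is unique up to k-isomorphism. -/
theorem result (k : Type u) [Field k] (h2 : (2 : k) ≠ 0)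
    (A : Type v) [Ring A] [Algebra k A] [Algebra.IsCentral k A] [IsSimpleRing A]
    [FiniteDimensional k A] :
    ((CSAGal.IsPeriod k A 2 ∧ CSAGal.IsIndex k A 2) ↔
      ∃ (a b : k) (m : ℕ), 0 < m ∧ (∀ x : QuaternionAlgebra k a 0 b, x ≠ 0 → IsUnit x) ∧
        Nonempty (A ≃ₐ[k] Matrix (Fin m) (Fin m) (QuaternionAlgebra k a 0 b))) ∧
    (∀ (a b a' b' : k) (m m' : ℕ),
      (∀ x : QuaternionAlgebra k a 0 b, x ≠ 0 → IsUnit x) →
      (∀ x : QuaternionAlgebra k a' 0 b', x ≠ 0 → IsUnit x) →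
      Nonempty (A ≃ₐ[k] Matrix (Fin m) (Fin m) (QuaternionAlgebra k a 0 b)) →
      Nonempty (A ≃ₐ[k] Matrix (Fin m') (Fin m') (QuaternionAlgebra k a' 0 b')) →
      Nonempty (QuaternionAlgebra k a 0 b ≃ₐ[k] QuaternionAlgebra k a' 0 b')) := by
  classical
  refine ⟨⟨?_, ?_⟩, ?_⟩
  · rintro ⟨-, hI⟩
    obtain ⟨_, m, D, _, _, hm, hD, ⟨e⟩⟩ := hI
    obtain ⟨_, hc, hf⟩ := Groth.Agent.Lib.Lead.Index.div_props k A m D e
    haveI := hc
    haveI := hf
    obtain ⟨a, b, ⟨f⟩⟩ := Groth.Agent.Lib.Lead.Quaternion.exists_quaternion_equiv k D h2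
      (by rw [hD]; norm_num)
    refine ⟨a, b, m, hm, ?_, ⟨e.trans (f.symm.mapMatrix (m := Fin m))⟩⟩
    intro x hx
    have hfx : f x ≠ 0 := fun h => hx ((map_eq_zero_iff f f.injective).1 h)
    have hu : IsUnit (f x) := IsUnit.mk0 _ hfx
    have h := IsUnit.map f.symm hu
    rwa [AlgEquiv.symm_apply_apply] at h
  · rintro ⟨a, b, m, hm, hdiv, ⟨e⟩⟩
    letI : DivisionRing (QuaternionAlgebra k a 0 b) :=
      DivisionRing.ofIsUnitOrEqZero (quat_isUnit_or k a b hdiv)
    exact Groth.Agent.Lib.Lead.Quaternion.period_index_of_matrix_equiv k A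
      (QuaternionAlgebra k a 0 b) (QuaternionAlgebra.finrank_eq_four _ _ _) m e
  · rintro a b a' b' m m' hdiv hdiv' ⟨e⟩ ⟨e'⟩
    letI : DivisionRing (QuaternionAlgebra k a 0 b) :=
      DivisionRing.ofIsUnitOrEqZero (quat_isUnit_or k a b hdiv)
    letI : DivisionRing (QuaternionAlgebra k a' 0 b') :=
      DivisionRing.ofIsUnitOrEqZero (quat_isUnit_or k a' b' hdiv')
    obtain ⟨hm, hc, hf⟩ := Groth.Agent.Lib.Lead.Index.div_props k A m _ e
    obtain ⟨hm', hc', hf'⟩ := Groth.Agent.Lib.Lead.Index.div_props k A m' _ e'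
    haveI := hc
    haveI := hf
    haveI := hc'
    haveI := hf'
    exact Groth.Agent.S0193.result k (QuaternionAlgebra k a 0 b) (QuaternionAlgebra k a' 0 b')
      m m' hm hm' (e.symm.trans e')

end Groth.Agent.S14211
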