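import Groth.Statements.S14253
import Groth.Agent.Lib.Helper11.UHPow

set_option autoImplicit false
universe u
open CategoryTheory AlgebraicGeometry
open PerfSch

namespace Groth.Agent.S14253

open Groth.Agent.Lib.Helper11.UHRing MorphismProperty

theorem iter_inj {R : Type u} [CommRing R] (p : ℕ) (h : Function.Injective fun s : R => s ^ p) :
    ∀ n : ℕ, Function.Injective fun s : R => s ^ p ^ n := by
  intro n
  induction n with
  | zero => intro x y hxy; simpa using hxy
  | succ n ih =>
    intro x y hxy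
    apply ih
    apply h
    show (x ^ p ^ n) ^ p = (y ^ p ^ n) ^ p
    rw [← pow_mul, ← pow_mul, ← pow_succ]
    exact hxy

theorem iter_surj {R : Type u} [CommRing R] (p : ℕ) (h : Function.Surjective fun s : R => s ^ p) :
    ∀ n : ℕ, Function.Surjective fun s : R => s ^ p ^ n := by
  intro n
  induction n with
  | zero => intro x; exact ⟨x, by simp⟩
  | succ n ih =>
    intro x
    obtain ⟨y, hy⟩ := h x
    obtain ⟨z, hz⟩ := ih y
    refine ⟨z, ?_⟩
    show z ^ p ^ (n + 1) = x
    rw [pow_succ, pow_mul]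
    have hz' : z ^ p ^ n = y := hz
    rw [hz']
    exact hy

theorem bijective_of_UH_of_perfect {R S : Type u} [CommRing R] [CommRing S] (p : ℕ)
    (hp : p.Prime) (ψ : R →+* S) (hψ : UH ψ)
    (hR : Function.Bijective fun s : R => s ^ p)
    (hS0 : (p : S) = 0) (hS : Function.Bijective fun s : S => s ^ p) : Function.Bijective ψ := by
  constructor
  · rw [injective_iff_map_eq_zero]
    intro x hx
    obtain ⟨k, hk⟩ := hψ.ker_le hx
    have hk' : x ^ p ^ k = 0 := by
      have hle : k ≤ p ^ k := (Nat.lt_pow_self hp.one_lt).le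
      obtain ⟨m, hm⟩ := Nat.exists_eq_add_of_le hle
      rw [hm, pow_add, hk, zero_mul]
    apply iter_inj p hR.1 k
    show x ^ p ^ k = 0 ^ p ^ k
    rw [hk', zero_pow (pow_ne_zero k hp.ne_zero)]
  · intro s
    algebraize [ψ]
    have hψ' : UH (algebraMap R S) := hψ
    obtain ⟨n, r, hr⟩ := exists_pow_mem_of_UH_char p hp hS0 hψ' s
    obtain ⟨r', hr'⟩ := iter_surj p hR.2 n r
    refine ⟨r', ?_⟩
    apply iter_inj p hS.1 n
    show ψ r' ^ p ^ n = s ^ p ^ n
    have hr'' : r' ^ p ^ n = r := hr'
    rw [← map_pow, hr'']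
    exact hr

theorem isAffineHom_of_isUnivHomeo {X Y : Scheme.{u}} (f : X ⟶ Y) (hf : FlatMor.IsUnivHomeo f) :
    IsAffineHom f := by
  rw [isUnivHomeo_iff] at hf
  obtain ⟨h1, h2, h3⟩ := hf
  have hce : Topology.IsClosedEmbedding f :=
    Topology.IsClosedEmbedding.of_continuous_injective_isClosedMap f.continuous
      f.injective f.isClosedMap
  exact isAffineHom_of_isInducing f hce.isInducing hce.isClosed_range

/-- A universal homeomorphism f : X ⟶ Y between perfect schemes of prime characteristic p (on every open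
of X and of Y, p = 0 in the ring of sections and the p-th power map is bijective) is an isomorphism. -/
theorem result (p : ℕ) [Fact p.Prime] {X Y : Scheme.{u}} (f : X ⟶ Y)
    (hX : PerfSch.IsPerfect p X) (hY : PerfSch.IsPerfect p Y) (hf : FlatMor.IsUnivHomeo f) : IsIso f := by
  have hp : p.Prime := Fact.out
  haveI : (FlatMor.IsUnivHomeo.{u}).IsStableUnderBaseChange := by
    unfold FlatMor.IsUnivHomeo; infer_instance
  haveI := isAffineHom_of_isUnivHomeo f hf
  have key := HasAffineProperty.eq_targetAffineLocally (P := isomorphisms Scheme.{u})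
    (Q := fun X _ f _ ↦ IsAffine X ∧ IsIso (f.appTop))
  have goal : isomorphisms Scheme.{u} f := by
    rw [key]
    intro U
    haveI : IsAffine (f ⁻¹ᵁ U.1) := IsAffineHom.isAffine_preimage _ U.2
    haveI : IsAffine (U.1 : Scheme) := U.2
    refine ⟨inferInstance, ?_⟩
    have hg : FlatMor.IsUnivHomeo (f ∣_ U.1) :=
      MorphismProperty.of_isPullback (P := FlatMor.IsUnivHomeo) (isPullback_morphismRestrict f U.1).flip hf
    have hg' : FlatMor.IsUnivHomeo (Spec.map (f ∣_ U.1).appTop) :=
      ((MorphismProperty.arrow_mk_iso_iff FlatMor.IsUnivHomeo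
        (arrowIsoSpecΓOfIsAffine (f ∣_ U.1))).mp hg)
    have hψ : UH (f ∣_ U.1).appTop.hom := (isUnivHomeo_SpecMap_iff _).mp hg'
    rw [ConcreteCategory.isIso_iff_bijective]
    have hYU := hY (U.1.ι ''ᵁ ⊤)
    have hXU := hX ((f ⁻¹ᵁ U.1).ι ''ᵁ ⊤)
    exact bijective_of_UH_of_perfect p hp (f ∣_ U.1).appTop.hom hψ hYU.2 hXU.1 hXU.2
  exact goal

end Groth.Agent.S14253
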