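import Groth.Statements.S14254
import Groth.Agent.Lib.Helper11.UHPow

set_option autoImplicit false
universe u
open CategoryTheory AlgebraicGeometry
open FrobAlg

namespace Groth.Agent.S14254

open Groth.Agent.Lib.Helper11.UHRing

theorem UH_of_isPRadical {K L : Type u} [CommRing K] [CommRing L] (i : K →+* L) (p : ℕ)
    (hp : p.Prime) [CharP K p] [IsPRadical i p] : UH i := by
  apply UH_of_pow_mem i p hp
  · exact (IsPRadical.ker_le i p).trans pNilradical_le_nilradical
  · intro x
    obtain ⟨n, y, hy⟩ := IsPRadical.pow_mem i p x
    have hpL : (p : L) = 0 := by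
      have : i (p : K) = 0 := by rw [CharP.cast_eq_zero, map_zero]
      rwa [map_natCast] at this
    refine ⟨n + 1, ?_, ?_⟩
    · rw [pow_succ, hpL, mul_zero, zero_mul]; exact zero_mem _
    · refine ⟨y ^ p, ?_⟩
      rw [map_pow, hy, pow_succ, pow_mul]

theorem injective_of_UH_of_perfect {A' B' : Type u} [CommRing A'] [CommRing B'] (p : ℕ)
    [Fact p.Prime] [CharP A' p] [PerfectRing A' p] (φ' : A' →+* B') (h : UH φ') :
    Function.Injective φ' := by
  rw [injective_iff_map_eq_zero]
  intro x hx
  obtain ⟨k, hk⟩ := h.ker_le hx
  have hk' : x ^ p ^ k = 0 := by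
    have hle : k ≤ p ^ k := (Nat.lt_pow_self (Fact.out : p.Prime).one_lt).le
    obtain ⟨m, hm⟩ := Nat.exists_eq_add_of_le hle
    rw [hm, pow_add, hk, zero_mul]
  have := (bijective_iterateFrobenius A' p k).1 (a₁ := x) (a₂ := 0)
    (by simp [iterateFrobenius_def, hk', (Fact.out : p.Prime).ne_zero])
  exact this

/-- Let p be a prime, φ : A → B a map of commutative rings of characteristic p, i : A → A' and j : B →
B' perfect closures (A' and B' are perfect rings of characteristic p, every element of A' resp. B'
has a p^n-th power in the image of i resp. j, and the kernels of i and j consist of nilpotent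
elements), and φ' : A' → B' the induced map, φ' ∘ i = j ∘ φ. Then Spec φ : Spec B ⟶ Spec A is a
universal homeomorphism if and only if φ' is bijective. (The published statement is for an arbitrary
morphism of schemes over the prime field and its perfection; this row is the case of affine schemes,
the perfection of Spec A being Spec of the perfect closure of A.) -/
theorem result (p : ℕ) [Fact p.Prime]
    {A B A' B' : Type u} [CommRing A] [CommRing B] [CommRing A'] [CommRing B']
    [CharP A p] [CharP B p] [CharP A' p] [CharP B' p] [PerfectRing A' p] [PerfectRing B' p]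
    (φ : A →+* B) (i : A →+* A') (j : B →+* B') [IsPerfectClosure i p] [IsPerfectClosure j p]
    (φ' : A' →+* B') (hφ : φ'.comp i = j.comp φ) :
    FlatMor.IsUnivHomeo (Spec.map (CommRingCat.ofHom φ)) ↔ Function.Bijective φ' := by
  have hp : p.Prime := Fact.out
  have hi : UH i := UH_of_isPRadical i p hp
  have hj : UH j := UH_of_isPRadical j p hp
  constructor
  · intro hU
    rw [isUnivHomeo_SpecMap_iff] at hU
    have h1 : UH (φ'.comp i) := by rw [hφ]; exact hU.comp hj
    have hφ' : UH φ' := UH.of_comp hi h1
    refine ⟨injective_of_UH_of_perfect p φ' hφ', ?_⟩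
    intro b'
    algebraize [φ']
    have hpB : (p : B') = 0 := CharP.cast_eq_zero B' p
    have hφ'' : UH (algebraMap A' B') := hφ'
    obtain ⟨n, a', ha'⟩ := exists_pow_mem_of_UH_char p hp hpB hφ'' b'
    obtain ⟨a'', ha''⟩ := (bijective_iterateFrobenius A' p n).2 a'
    refine ⟨a'', ?_⟩
    apply (bijective_iterateFrobenius B' p n).1
    rw [iterateFrobenius_def, iterateFrobenius_def, ← map_pow]
    rw [iterateFrobenius_def] at ha''
    rw [ha'']
    exact ha'
  · intro hbij
    have hφ' : UH φ' := UH.of_bijective hbij
    have h1 : UH (j.comp φ) := by rw [← hφ]; exact hi.comp hφ'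
    rw [isUnivHomeo_SpecMap_iff]
    exact UH.of_comp_left hj h1

end Groth.Agent.S14254
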