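import Groth.Statements.S14256
import Mathlib

set_option autoImplicit false
universe u
open FrobAlg

namespace Groth.Agent.S14256

/-- Let p be a prime, φ : A → B a map of commutative rings of characteristic p, i : A → A' and j : B →
B' perfect closures (A', B' perfect rings of characteristic p, every element of A' resp. B' has a
p^n-th power in the image of i resp. j, the kernels of i and j consist of nilpotent elements), and
φ' : A' → B' the induced map, φ' ∘ i = j ∘ φ. Then φ is integral if and only if φ' is integral. (The
published statement is that a morphism of schemes over the prime field is integral exactly when its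
perfection is; this row is its affine case, to which the published proof reduces.) -/
theorem result (p : ℕ) [Fact p.Prime]
    {A B A' B' : Type u} [CommRing A] [CommRing B] [CommRing A'] [CommRing B']
    [CharP A p] [CharP B p] [CharP A' p] [CharP B' p] [PerfectRing A' p] [PerfectRing B' p]
    (φ : A →+* B) (i : A →+* A') (j : B →+* B') [IsPerfectClosure i p] [IsPerfectClosure j p]
    (φ' : A' →+* B') (hφ : φ'.comp i = j.comp φ) : φ.IsIntegral ↔ φ'.IsIntegral := by
  have hp : 0 < p := (Fact.out : p.Prime).pos
  constructor
  · intro h b'
    obtain ⟨n, b, hb⟩ := IsPRadical.pow_mem j p b'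
    obtain ⟨f, hf, hfb⟩ := h b
    have h1 : φ'.IsIntegralElem (j b) := by
      refine ⟨f.map i, hf.map i, ?_⟩
      rw [Polynomial.eval₂_map, hφ, ← Polynomial.hom_eval₂, hfb, map_zero]
    rw [hb] at h1
    letI := φ'.toAlgebra
    exact IsIntegral.of_pow (pow_pos hp n) h1
  · intro h b
    have hi : i.IsIntegral := by
      intro a'
      obtain ⟨n, a, ha⟩ := IsPRadical.pow_mem i p a'
      letI := i.toAlgebra
      apply IsIntegral.of_pow (pow_pos hp n)
      rw [← ha]
      exact isIntegral_algebraMap
    have h1 : (φ'.comp i).IsIntegralElem (j b) := RingHom.IsIntegral.trans i φ' hi h (j b)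
    rw [hφ] at h1
    obtain ⟨f, hf, hfb⟩ := h1
    rw [← Polynomial.hom_eval₂] at hfb
    have hker : Polynomial.eval₂ φ b f ∈ RingHom.ker j := hfb
    obtain ⟨m, hm⟩ := mem_pNilradical.1 (IsPRadical.ker_le j p hker)
    refine ⟨f ^ p ^ m, hf.pow _, ?_⟩
    rw [Polynomial.eval₂_pow, hm]

end Groth.Agent.S14256
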