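import Groth.Statements.S14257
import Groth.Agent.Lib.Helper11.PerfLib

set_option autoImplicit false
universe u
open TensorProduct
open FrobAlg

namespace Groth.Agent.S14257

/-- Let p be a prime, A a commutative ring of characteristic p, B an etale A-algebra of characteristic
p, A → A' and B → B' perfect closures (A', B' perfect rings of characteristic p, every element of A'
resp. B' has a p^n-th power in the image of A resp. B, and the structure maps have kernels
consisting of nilpotent elements), B' viewed as an A-algebra through B, and φ' : A' → B' a map of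
A-algebras. Then the natural map A' ⊗_A B → B', a ⊗ b ↦ φ'(a) b, is bijective. (The published
statement is for an etale morphism X → Y of schemes over the prime field, where X_perf → X ×_Y
Y_perf is an isomorphism; this row is the affine case.) -/
theorem result (p : ℕ) [Fact p.Prime]
    (A B A' B' : Type u) [CommRing A] [CommRing B] [CommRing A'] [CommRing B']
    [CharP A p] [CharP B p] [CharP A' p] [CharP B' p] [PerfectRing A' p] [PerfectRing B' p]
    [Algebra A B] [Algebra.Etale A B] [Algebra A A'] [Algebra B B'] [Algebra A B'] [IsScalarTower A B B']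
    [IsPerfectClosure (algebraMap A A') p] [IsPerfectClosure (algebraMap B B') p]
    (φ' : A' →ₐ[A] B') :
    Function.Bijective (Algebra.TensorProduct.lift φ' (IsScalarTower.toAlgHom A B B')
      (fun a b => Commute.all (φ' a) (IsScalarTower.toAlgHom A B B' b))) := by
  have hpo := Groth.Agent.Lib.Helper11.PerfLib.isPushout_perfectClosure_of_etale p A B A' B'
    (algebraMap A B) (RingHom.etale_algebraMap.mpr inferInstance) (algebraMap A A')
    (algebraMap B B') φ'.toRingHom
    (by ext a; simp [IsScalarTower.algebraMap_apply A B B'])
  have T := CommRingCat.isPushout_tensorProduct A A' B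
  have he1 : ∀ a' : A', (T.isoIsPushout _ _ hpo).hom.hom (a' ⊗ₜ 1) = φ' a' := fun a' =>
    congrArg (fun ψ => ψ.hom a') (T.inl_isoIsPushout_hom _ _ hpo)
  have he2 : ∀ b : B, (T.isoIsPushout _ _ hpo).hom.hom (1 ⊗ₜ b) = algebraMap B B' b := fun b =>
    congrArg (fun ψ => ψ.hom b) (T.inr_isoIsPushout_hom _ _ hpo)
  have hbij : Function.Bijective (T.isoIsPushout _ _ hpo).hom.hom :=
    CategoryTheory.ConcreteCategory.bijective_of_isIso (T.isoIsPushout _ _ hpo).hom
  have heq : ∀ x, (Algebra.TensorProduct.lift φ' (IsScalarTower.toAlgHom A B B')
      (fun a b => Commute.all (φ' a) (IsScalarTower.toAlgHom A B B' b))) x =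
      (T.isoIsPushout _ _ hpo).hom.hom x := by
    intro x
    induction x using TensorProduct.induction_on with
    | zero => simp
    | tmul a' b =>
      rw [Algebra.TensorProduct.lift_tmul]
      have h1 : (a' ⊗ₜ[A] b : A' ⊗[A] B) = (a' ⊗ₜ 1) * (1 ⊗ₜ b) := by simp
      rw [h1, map_mul, he1, he2]
      rfl
    | add x y hx hy => rw [map_add, map_add, hx, hy]
  convert hbij using 1
  exact funext heq

end Groth.Agent.S14257
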