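import Groth.Statements.S14271
import Mathlib

set_option autoImplicit false
universe u
open FlatPur

namespace Groth.Agent.S14271

open AlgebraicGeometry CategoryTheory CategoryTheory.Limits in
/-- Key lemma: under the depth hypothesis, a section over an affine open vanishing on the part
inside `U` vanishes. -/
theorem eq_zero_of_restrict_eq_zero (X : Scheme.{u}) (U : X.Opens)
    (hZ : ∀ z : X, z ∉ U → ∃ a ∈ IsLocalRing.maximalIdeal (X.presheaf.stalk z),
      IsSMulRegular (X.presheaf.stalk z) a)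
    (V : X.Opens) (hV : IsAffineOpen V) (a : Γ(X, V)) (W : X.Opens) (hWV : W ≤ V)
    (hW : V ⊓ U ≤ W) (ha : X.presheaf.map (homOfLE hWV).op a = 0) : a = 0 := by
  classical
  by_contra hane
  let I : Ideal Γ(X, V) := (Submodule.span Γ(X, V) {a}).annihilator
  have hImem : ∀ r, r ∈ I ↔ r * a = 0 := fun r => by
    simp only [I, Submodule.mem_annihilator_span_singleton, smul_eq_mul]
  have hI : I ≠ ⊤ := by
    intro h
    have h1 : (1 : Γ(X, V)) ∈ I := h ▸ Submodule.mem_top
    rw [hImem, one_mul] at h1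
    exact hane h1
  obtain ⟨⟨𝔭, h𝔭⟩⟩ := Ideal.nonempty_minimalPrimes hI
  haveI : 𝔭.IsPrime := h𝔭.1.1
  have hI𝔭 : I ≤ 𝔭 := h𝔭.1.2
  let y : PrimeSpectrum Γ(X, V) := ⟨𝔭, inferInstance⟩
  obtain ⟨z, hz⟩ : ∃ z : X, z = hV.fromSpec y := ⟨_, rfl⟩
  have hzV : hV.fromSpec y ∈ V := by
    have : hV.fromSpec y ∈ Set.range hV.fromSpec := ⟨y, rfl⟩
    rw [hV.range_fromSpec] at this
    exact this
  letI := TopCat.Presheaf.algebra_section_stalk X.presheaf ⟨hV.fromSpec y, hzV⟩
  haveI : IsLocalization.AtPrime (X.presheaf.stalk (hV.fromSpec y)) 𝔭 :=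
    hV.isLocalization_stalk' y hzV
  have halg : ∀ b : Γ(X, V), algebraMap Γ(X, V) (X.presheaf.stalk (hV.fromSpec y)) b =
      X.presheaf.germ V (hV.fromSpec y) hzV b := fun b => rfl
  -- the germ of `a` is nonzero
  have key1 : algebraMap Γ(X, V) (X.presheaf.stalk (hV.fromSpec y)) a ≠ 0 := by
    intro h0
    obtain ⟨s, hs⟩ := (IsLocalization.map_eq_zero_iff 𝔭.primeCompl _ a).mp h0
    have : (s : Γ(X, V)) ∈ I := (hImem _).mpr hs
    exact s.2 (hI𝔭 this)
  have hzU : hV.fromSpec y ∉ U := by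
    intro hU
    apply key1
    have hzW : hV.fromSpec y ∈ W := hW ⟨hzV, hU⟩
    rw [halg, ← X.presheaf.germ_res (homOfLE hWV) (hV.fromSpec y) hzW]
    change X.presheaf.germ W _ hzW (X.presheaf.map (homOfLE hWV).op a) = 0
    rw [ha, map_zero]
  obtain ⟨r, hr, hreg⟩ := hZ _ hzU
  have hrad := IsLocalization.AtPrime.radical_map_of_mem_minimalPrimes
    (A := X.presheaf.stalk (hV.fromSpec y)) 𝔭 I h𝔭
  rw [IsLocalization.AtPrime.map_eq_maximalIdeal 𝔭 (X.presheaf.stalk (hV.fromSpec y))] at hrad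
  rw [← hrad] at hr
  obtain ⟨n, hn⟩ := hr
  let J : Ideal (X.presheaf.stalk (hV.fromSpec y)) :=
    (Submodule.span _ {algebraMap Γ(X, V) (X.presheaf.stalk (hV.fromSpec y)) a}).annihilator
  have hIJ : I.map (algebraMap Γ(X, V) (X.presheaf.stalk (hV.fromSpec y))) ≤ J := by
    rw [Ideal.map_le_iff_le_comap]
    intro i hi
    rw [Ideal.mem_comap]
    simp only [J, Submodule.mem_annihilator_span_singleton, smul_eq_mul]
    rw [← map_mul, (hImem i).mp hi, map_zero]
  have h1 := hIJ hn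
  simp only [J, Submodule.mem_annihilator_span_singleton] at h1
  have h2 : IsSMulRegular (X.presheaf.stalk (hV.fromSpec y)) (r ^ n) := hreg.pow n
  exact key1 (h2 (show r ^ n • _ = r ^ n • 0 by rw [h1, smul_zero]))

open AlgebraicGeometry CategoryTheory CategoryTheory.Limits in
/-- Let X be a scheme and U an open subscheme whose inclusion is quasi-compact, such that for every
point z of X outside U the maximal ideal of O_{X,z} contains an element that is regular (a
nonzerodivisor) on that local ring. Then for every separated X-scheme Y the restriction map from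
X-sections of Y to U-sections of Y is injective: two sections of Y -> X that agree on U are equal. -/
theorem result (X : Scheme.{u}) (U : X.Opens) [QuasiCompact U.ι]
    (hZ : ∀ z : X, z ∉ U → ∃ a ∈ IsLocalRing.maximalIdeal (X.presheaf.stalk z), IsSMulRegular (X.presheaf.stalk z) a)
    (Y : Scheme.{u}) (f : Y ⟶ X) [IsSeparated f] (s₁ s₂ : X ⟶ Y) (h₁ : s₁ ≫ f = 𝟙 X) (h₂ : s₂ ≫ f = 𝟙 X)
    (hU : U.ι ≫ s₁ = U.ι ≫ s₂) : s₁ = s₂ := by
  haveI : IsSchemeTheoreticallyDominant U.ι := by
    constructor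
    apply Scheme.IdealSheafData.ext
    funext V
    rw [Scheme.Hom.ker_apply, Scheme.IdealSheafData.ideal_bot]
    change RingHom.ker (U.ι.app V.1).hom = ⊥
    rw [← RingHom.injective_iff_ker_eq_bot, injective_iff_map_eq_zero]
    intro a ha
    refine eq_zero_of_restrict_eq_zero X U hZ V.1 V.2 a (U.ι ''ᵁ U.ι ⁻¹ᵁ V.1)
      (Set.image_preimage_subset _ _) ?_ ha
    rintro x ⟨hxV, hxU⟩
    exact ⟨⟨x, hxU⟩, hxV, rfl⟩
  let X' : Over X := Over.mk (𝟙 X)
  let Y' : Over X := Over.mk f
  let U' : Over X := Over.mk U.ι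
  let f' : X' ⟶ Y' := Over.homMk s₁ h₁
  let g' : X' ⟶ Y' := Over.homMk s₂ h₂
  let ι' : U' ⟶ X' := Over.homMk U.ι
  have : IsSeparated Y'.hom := ‹_›
  have hfac : (equalizer.lift ι' (show ι' ≫ f' = ι' ≫ g' by ext1; exact hU)).left ≫
      (equalizer.ι f' g').left = U.ι := by
    rw [← Over.comp_left, equalizer.lift_ι]
    rfl
  have hker : (equalizer.ι f' g').left.ker = ⊥ := by
    rw [← le_bot_iff, ← (IsSchemeTheoreticallyDominant.ker_eq_bot U.ι), ← hfac]
    exact Scheme.Hom.le_ker_comp _ _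
  haveI : IsIso (equalizer.ι f' g').left := IsClosedImmersion.isIso_iff_ker_eq_bot.mpr hker
  rw [← cancel_epi (equalizer.ι f' g').left]
  exact congr($(equalizer.condition f' g').left)

end Groth.Agent.S14271
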