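import Groth.Statements.S14272
import Mathlib
import Groth.Agent.Lib.Helper17.HartogsWRSch
import Groth.Agent.Lib.Helper17.PairFractions
import Groth.Agent.Lib.Helper17.AffIso

set_option autoImplicit false
universe u
open FlatPur

namespace Groth.Agent.S14272

open AlgebraicGeometry CategoryTheory CategoryTheory.Limits in
/-- Let X be a scheme and U an open subscheme whose inclusion is quasi-compact, such that for every
point z of X outside U the maximal ideal of O_{X,z} contains two elements forming a weakly regular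
sequence on that local ring. Then for every X-scheme Y that is affine and of finite presentation
over X, the restriction map from X-sections of Y to U-sections of Y is bijective: every morphism U
-> Y over X extends uniquely to a section X -> Y. -/
theorem result (X : Scheme.{u}) (U : X.Opens) [QuasiCompact U.ι]
    (hZ : ∀ z : X, z ∉ U → ∃ a b : X.presheaf.stalk z, a ∈ IsLocalRing.maximalIdeal (X.presheaf.stalk z) ∧
      b ∈ IsLocalRing.maximalIdeal (X.presheaf.stalk z) ∧ RingTheory.Sequence.IsWeaklyRegular (X.presheaf.stalk z) [a, b])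
    (Y : Scheme.{u}) (f : Y ⟶ X) [IsAffineHom f] [LocallyOfFinitePresentation f]
    (t : (U : Scheme.{u}) ⟶ Y) (ht : t ≫ f = U.ι) :
    ∃! s : X ⟶ Y, s ≫ f = 𝟙 X ∧ U.ι ≫ s = t := by
  classical
  have hbij : ∀ V : X.Opens, IsAffineOpen V → Function.Bijective (U.ι.app V) := by
    intro V hV
    have key : ∀ (O : X.Opens) (_ : O = V ⊓ U) (hle : O ≤ V),
        Function.Bijective (X.presheaf.map (homOfLE hle).op) := by
      rintro O rfl hle
      exact Groth.Agent.Lib.Helper17.HartogsWR.bijective_res_of_affine U hZ hV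
    have himg : U.ι ''ᵁ (U.ι ⁻¹ᵁ V) = V ⊓ U := by
      rw [Scheme.Hom.image_preimage_eq_opensRange_inf, Scheme.Opens.opensRange_ι, inf_comm]
    have hle : U.ι ''ᵁ (U.ι ⁻¹ᵁ V) ≤ V := himg.le.trans inf_le_left
    have := key _ himg hle
    rw [Scheme.Opens.ι_app]
    exact this
  have hker : U.ι.ker = ⊥ := by
    ext V : 2
    rw [Scheme.Hom.ker_apply]
    simp only [Scheme.IdealSheafData.ideal_bot, Pi.bot_apply]
    rw [← RingHom.injective_iff_ker_eq_bot]
    exact (hbij V.1 V.2).1
  refine existsUnique_of_exists_of_unique ?_ ?_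
  · have hqc : QuasiCompact (t ≫ f) := ht ▸ inferInstance
    have : QuasiCompact t := QuasiCompact.of_comp t f
    set p : t.image ⟶ X := t.imageι ≫ f with hp
    have hq : t.toImage ≫ p = U.ι := by
      rw [hp, Scheme.Hom.toImage_imageι_assoc, ht]
    have hpaff : ∀ V : X.Opens, IsAffineOpen V → IsAffineOpen (p ⁻¹ᵁ V) := by
      intro V hV
      exact (hV.preimage f).preimage t.imageι
    have hcomp : ∀ {A B C : CommRingCat.{u}} (a : A ⟶ B) (b : B ⟶ C),
        (⇑(ConcreteCategory.hom (a ≫ b)) : A → C) =
          ⇑(ConcreteCategory.hom b) ∘ ⇑(ConcreteCategory.hom a) :=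
      fun a b => funext fun x => ConcreteCategory.comp_apply a b x
    have hpb : ∀ V : X.Opens, IsAffineOpen V → Function.Bijective (p.app V) := by
      intro V hV
      have h1 : Function.Bijective ((t.toImage ≫ p).app V) := by
        rw [Scheme.Hom.congr_app hq V, hcomp]
        exact (ConcreteCategory.bijective_of_isIso _).comp (hbij V hV)
      have h2 : (t.toImage ≫ p).app V = p.app V ≫ t.toImage.app (p ⁻¹ᵁ V) :=
        Scheme.Hom.comp_app _ _ _
      have h3 : Function.Injective (t.toImage.app (p ⁻¹ᵁ V)) :=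
        Scheme.Hom.toImage_app_injective t ⟨f ⁻¹ᵁ V, hV.preimage f⟩
      have h1' : Function.Bijective
          (⇑(ConcreteCategory.hom (t.toImage.app (p ⁻¹ᵁ V))) ∘
            ⇑(ConcreteCategory.hom (p.app V))) := by
        have e : (⇑(ConcreteCategory.hom ((t.toImage ≫ p).app V)) : Γ(X, V) → _) =
            ⇑(ConcreteCategory.hom (t.toImage.app (p ⁻¹ᵁ V))) ∘
              ⇑(ConcreteCategory.hom (p.app V)) := by
          funext x
          exact congrArg (fun φ : Γ(X, V) ⟶ Γ((U : Scheme.{u}), t.toImage ⁻¹ᵁ p ⁻¹ᵁ V) => φ x) h2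
        rw [← e]
        exact h1
      refine ⟨Function.Injective.of_comp h1'.1, fun y => ?_⟩
      obtain ⟨x, hx⟩ := h1'.2 (t.toImage.app (p ⁻¹ᵁ V) y)
      exact ⟨x, h3 hx⟩
    have : IsIso p := by
      refine Groth.Agent.Lib.Helper17.AffIso.isIso_of_affine_cover p
        (fun V : X.affineOpens => V.1) (fun V => V.2) (fun V => hpaff V.1 V.2)
        (iSup_affineOpens_eq_top X) (fun V => ?_)
      rw [ConcreteCategory.isIso_iff_bijective]
      exact hpb V.1 V.2
    refine ⟨inv p ≫ t.imageι, ?_, ?_⟩
    · rw [Category.assoc]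
      exact IsIso.inv_hom_id p
    · rw [← hq, Category.assoc, IsIso.hom_inv_id_assoc, Scheme.Hom.toImage_imageι]
  · rintro s s' ⟨hs, hsU⟩ ⟨hs', hsU'⟩
    have : IsSeparated f := inferInstance
    exact Groth.Agent.Lib.Helper17.PairFractions.ext_of_ker_eq_bot f (hs.trans hs'.symm) U.ι hker
      (hsU.trans hsU'.symm)

end Groth.Agent.S14272
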