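import Groth.Statements.S14276
import Groth.Agent.Lib.Helper28.QuotSt.RepProps
import Groth.Agent.Lib.Helper28.QuotSt.EtSec

set_option autoImplicit false
universe u
open CategoryTheory AlgebraicGeometry
open NonAbH1

namespace Groth.Agent.S14276

/-- Let X be a scheme and G a group scheme over X which is smooth over X. Then every G-torsor for the
fppf topology is locally trivial for the étale topology on X. Here a torsor is an X-scheme with an
action of G which is a pseudo-torsor and acquires sections on the members of some fppf covering
family of X, and the conclusion says that it acquires sections on the members of some étale covering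
family of X. (The published statement is about torsors in the sense of fppf sheaves; this row states
it for torsors that are schemes.) -/
theorem result {X : Scheme.{u}}
    (G : Over X) [GrpObj G] [Smooth G.hom] (P : Over X) (a : AlgGrp.Action G P)
    (h : NonAbH1.IsTorsorFor Scheme.fppfPrecoverage a) :
    NonAbH1.IsLocallyTrivialFor Scheme.etalePrecoverage P := by
  obtain ⟨hps, R, hR, hsec⟩ := h
  have hfpqc : NonAbH1.IsTorsorFor Scheme.fpqcPrecoverage a :=
    ⟨hps, R, Scheme.fppfPrecoverage_le_fpqcPrecoverage _ hR, hsec⟩
  haveI h1 : Surjective P.hom :=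
    Groth.Agent.Lib.Helper29.TorsorDesc.hom_of_isTorsorFor_fpqc @Surjective a hfpqc
      (Groth.Agent.Lib.Helper29.TorsorDesc.surjective_of_grp G)
  haveI h2 : Smooth P.hom :=
    Groth.Agent.Lib.Helper28.QuotSt.RepProps.smooth_of_isTorsorFor_fpqc a hfpqc
  obtain ⟨Y', c, s, hc1, hc2, hsc⟩ := Groth.Agent.Lib.Helper28.QuotSt.EtSec.exists_etale_cover_section P.hom
  refine ⟨Presieve.singleton c, ?_, ?_⟩
  · rw [← Presieve.ofArrows_pUnit.{0}]
    exact (c.cover (P := @Etale) hc1).mem₀
  · rintro S' f ⟨⟩
    exact ⟨s, hsc⟩

end Groth.Agent.S14276
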