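import Groth.Statements.S14285
import Groth.Agent.S2393

set_option autoImplicit false
universe u
open CategoryTheory AlgebraicGeometry
open EllLift

namespace Groth.Agent.S14285

/-- Let R be a complete Noetherian local ring with maximal ideal m and residue field k = R/m, g : X →
Spec R a proper and flat morphism, and i : X₀ → X the fibre of g over the closed point, i.e. a
pullback of g along Spec k → Spec R, with structure map f₀ : X₀ → Spec k. If the induced ring map k
→ Γ(X₀, O_{X₀}) is bijective, then so is R → Γ(X, O_X). -/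
theorem result (R : Type u) [CommRing R]
    [IsLocalRing R] [IsNoetherianRing R] [IsAdicComplete (IsLocalRing.maximalIdeal R) R]
    (X X₀ : Scheme.{u}) (g : X ⟶ Spec (CommRingCat.of R)) [IsProper g] [Flat g]
    (i : X₀ ⟶ X) (f₀ : X₀ ⟶ Spec (CommRingCat.of (R ⧸ IsLocalRing.maximalIdeal R)))
    (hsq : IsPullback i f₀ g
      (Spec.map (CommRingCat.ofHom (Ideal.Quotient.mk (IsLocalRing.maximalIdeal R)))))
    (h0 : Function.Bijective ((Scheme.ΓSpecIso (CommRingCat.of (R ⧸ IsLocalRing.maximalIdeal R))).inv ≫
      f₀.appTop)) :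
    Function.Bijective ((Scheme.ΓSpecIso (CommRingCat.of R)).inv ≫ g.appTop) := by
  classical
  have hmax : (IsLocalRing.maximalIdeal R).IsMaximal := IsLocalRing.maximalIdeal.isMaximal R
  have key : ∀ (y : ↥(Spec (CommRingCat.of R))) (hy : y = IsLocalRing.closedPoint R),
      Function.Bijective ((Scheme.ΓSpecIso (CommRingCat.of R)).inv ≫ g.appTop) := by
    intro y hy
    have hyI : y.asIdeal = IsLocalRing.maximalIdeal R := by rw [hy]; rfl
    have hmax' : y.asIdeal.IsMaximal := hyI ▸ hmax
    -- the ring isomorphism `R/m ≅ κ(y)`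
    let ρ : R ⧸ IsLocalRing.maximalIdeal R →+* y.asIdeal.ResidueField :=
      Ideal.Quotient.lift (IsLocalRing.maximalIdeal R) (algebraMap R y.asIdeal.ResidueField)
        (fun a ha => Ideal.algebraMap_residueField_eq_zero.2 (hyI ▸ ha))
    have hρmk : ∀ a : R, ρ (Ideal.Quotient.mk _ a) = algebraMap R y.asIdeal.ResidueField a :=
      fun a => Ideal.Quotient.lift_mk _ _ _
    have hρbij : Function.Bijective ρ := by
      constructor
      · rw [injective_iff_map_eq_zero]
        intro b hb
        obtain ⟨a, rfl⟩ := Ideal.Quotient.mk_surjective b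
        rw [hρmk] at hb
        have : a ∈ y.asIdeal := Ideal.algebraMap_residueField_eq_zero.1 hb
        exact Ideal.Quotient.eq_zero_iff_mem.2 (hyI ▸ this)
      · intro c
        obtain ⟨a, ha⟩ := Ideal.algebraMap_residueField_surjective y.asIdeal c
        exact ⟨Ideal.Quotient.mk _ a, (hρmk a).trans ha⟩
    let θ : CommRingCat.of (R ⧸ IsLocalRing.maximalIdeal R) ⟶
        (Spec (CommRingCat.of R)).residueField y :=
      CommRingCat.ofHom ρ ≫ (Scheme.Spec.residueFieldIso (CommRingCat.of R) y).inv
    have hρiso : IsIso (CommRingCat.ofHom ρ) :=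
      (ConcreteCategory.isIso_iff_bijective (CommRingCat.ofHom ρ)).mpr hρbij
    have hθiso : IsIso θ := by
      show IsIso (CommRingCat.ofHom ρ ≫ (Scheme.Spec.residueFieldIso (CommRingCat.of R) y).inv)
      infer_instance
    have hθ : CommRingCat.ofHom (Ideal.Quotient.mk (IsLocalRing.maximalIdeal R)) ≫ θ =
        CommRingCat.ofHom (algebraMap R y.asIdeal.ResidueField) ≫
          (Scheme.Spec.residueFieldIso (CommRingCat.of R) y).inv := by
      show CommRingCat.ofHom (Ideal.Quotient.mk (IsLocalRing.maximalIdeal R)) ≫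
        CommRingCat.ofHom ρ ≫ (Scheme.Spec.residueFieldIso (CommRingCat.of R) y).inv = _
      rw [← Category.assoc]
      congr 1
    have hg : (Spec (CommRingCat.of R)).fromSpecResidueField y =
        Spec.map θ ≫ Spec.map (CommRingCat.ofHom
          (Ideal.Quotient.mk (IsLocalRing.maximalIdeal R))) := by
      rw [← Spec.map_comp, hθ, Spec.map_comp]
      exact (Scheme.Spec.map_residueFieldIso_inv_eq_fromSpecResidueField
        (CommRingCat.of R) y).symm
    have hfib : IsPullback (g.fiberι y) (g.fiberToSpecResidueField y) g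
        ((Spec (CommRingCat.of R)).fromSpecResidueField y) := IsPullback.of_hasPullback _ _
    have hnew : IsPullback (g.fiberι y) (g.fiberToSpecResidueField y ≫ Spec.map θ) g
        (Spec.map (CommRingCat.ofHom (Ideal.Quotient.mk (IsLocalRing.maximalIdeal R)))) := by
      refine hfib.of_iso (Iso.refl _) (Iso.refl _) (asIso (Spec.map θ)) (Iso.refl _) ?_ ?_ ?_ ?_
      · simp
      · simp
      · simp
      · simp only [Iso.refl_hom, Category.comp_id, asIso_hom]
        exact hg
    let e : X₀ ≅ g.fiber y := hsq.isoIsPullback _ _ hnew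
    have he2 : e.hom ≫ g.fiberToSpecResidueField y ≫ Spec.map θ = f₀ :=
      hsq.isoIsPullback_hom_snd _ _ hnew
    have hcomp : (Scheme.ΓSpecIso (CommRingCat.of (R ⧸ IsLocalRing.maximalIdeal R))).inv ≫
        f₀.appTop = θ ≫ ((Scheme.ΓSpecIso ((Spec (CommRingCat.of R)).residueField y)).inv ≫
          (g.fiberToSpecResidueField y).appTop) ≫ e.hom.appTop := by
      rw [← he2, Scheme.Hom.comp_appTop, Scheme.Hom.comp_appTop]
      simp only [← Category.assoc]
      rw [Scheme.ΓSpecIso_inv_naturality θ]
    have h0iso : IsIso ((Scheme.ΓSpecIso (CommRingCat.of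
        (R ⧸ IsLocalRing.maximalIdeal R))).inv ≫ f₀.appTop) :=
      (ConcreteCategory.isIso_iff_bijective _).mpr h0
    have h1iso : IsIso (θ ≫ ((Scheme.ΓSpecIso
        ((Spec (CommRingCat.of R)).residueField y)).inv ≫
          (g.fiberToSpecResidueField y).appTop) ≫ e.hom.appTop) := hcomp ▸ h0iso
    have h2iso : IsIso (((Scheme.ΓSpecIso ((Spec (CommRingCat.of R)).residueField y)).inv ≫
          (g.fiberToSpecResidueField y).appTop) ≫ e.hom.appTop) :=
      IsIso.of_isIso_comp_left θ _
    have heiso : IsIso e.hom.appTop := by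
      show IsIso (e.hom.app ⊤)
      infer_instance
    have h3iso : IsIso ((Scheme.ΓSpecIso ((Spec (CommRingCat.of R)).residueField y)).inv ≫
          (g.fiberToSpecResidueField y).appTop) :=
      IsIso.of_isIso_comp_right _ e.hom.appTop
    have hy' : Function.Bijective (algebraMap ((Spec (CommRingCat.of R)).residueField y)
        Γ(g.fiber y, ⊤)) :=
      ConcreteCategory.bijective_of_isIso
        ((Scheme.ΓSpecIso ((Spec (CommRingCat.of R)).residueField y)).inv ≫
          (g.fiberToSpecResidueField y).appTop)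
    obtain ⟨U, hyU, hU⟩ := Groth.Agent.S2393.result g y hy'
    have hUtop : U = ⊤ := (IsLocalRing.closedPoint_mem_iff (R := R) U).1 (hy ▸ hyU)
    have hiso : IsIso (g.app ⊤) := hU ⊤ (hUtop ▸ le_refl _)
    have hiso' : IsIso g.appTop := hiso
    exact ConcreteCategory.bijective_of_isIso
      ((Scheme.ΓSpecIso (CommRingCat.of R)).inv ≫ g.appTop)
  exact key _ rfl

end Groth.Agent.S14285
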