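import Groth.Statements.S14286
import Mathlib
import Groth.Agent.Lib.Helper21.RKd

set_option autoImplicit false
universe u
open EllLift

namespace Groth.Agent.S14286

/-- Let R be a complete Noetherian local domain with algebraically closed residue field, and let W₁, W₂
be Weierstrass cubics over R whose discriminants are units (elliptic curves over R; over a local
ring every elliptic curve has such an equation and isomorphisms of elliptic curves are the
admissible changes of variables). If W₁ and W₂ have the same j-invariant, then some change of
variables over R carries W₁ to W₂. (The published statement does not require R to be a domain. That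
hypothesis is needed: over the dual numbers k[e], e² = 0, of an algebraically closed field k of
characteristic neither 2 nor 3, the cubics y² = x³ + x + e and y² = x³ + x both have j = 1728 and no
change of variables relates them.) -/
theorem result (R : Type u) [CommRing R] [IsDomain R]
    [IsNoetherianRing R] [IsLocalRing R] [IsAdicComplete (IsLocalRing.maximalIdeal R) R]
    [IsAlgClosed (IsLocalRing.ResidueField R)]
    (W₁ W₂ : WeierstrassCurve R) [W₁.IsElliptic] [W₂.IsElliptic] (hj : W₁.j = W₂.j) :
    ∃ C : WeierstrassCurve.VariableChange R, C • W₁ = W₂ := by
  haveI : IsAlgClosed (IsLocalRing.ResidueField R) := ‹_›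
  obtain ⟨C, hC⟩ := WeierstrassCurve.exists_variableChange_of_j_eq
    (W₁.map (algebraMap R (AlgebraicClosure (FractionRing R))))
    (W₂.map (algebraMap R (AlgebraicClosure (FractionRing R))))
    (by rw [WeierstrassCurve.map_j, WeierstrassCurve.map_j, hj])
  refine Groth.Agent.Lib.Helper21.RKd.main ?_ W₁ W₂ C hC
  rw [IsScalarTower.algebraMap_eq R (FractionRing R) (AlgebraicClosure (FractionRing R))]
  exact (algebraMap (FractionRing R) (AlgebraicClosure (FractionRing R))).injective.comp
    (IsFractionRing.injective R (FractionRing R))

end Groth.Agent.S14286
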