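import Groth.Statements.S14297
import Mathlib
import Groth.Agent.Lib.Helper21.PtDegDev

set_option autoImplicit false
universe u
open MeasureTheory
open PtDeg

namespace Groth.Agent.S14297

open Set Filter Topology
open Groth.Agent.Lib.Helper21

section SM
variable {n : ℕ} {X : Type*} [TopologicalSpace X] [CompactSpace X] [MeasurableSpace X]
  [OpensMeasurableSpace X]

theorem exists_simpleFunc_approx {f : (Fin n → X) → ℝ} (hf : Continuous f) {ε : ℝ} (hε : 0 < ε) :
    ∃ g : SimpleFunc (Fin n → X) ℝ, ∀ x, dist (f x) (g x) < ε := by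
  have M : ∀ (K : Set (Fin n → X)), IsCompact K →
      ∃ (g : SimpleFunc (Fin n → X) ℝ), ∃ (s : Set (Fin n → X)), MeasurableSet s ∧ K ⊆ s ∧
      ∀ x ∈ s, dist (f x) (g x) < ε := by
    intro K hK
    apply IsCompact.induction_on
      (p := fun t ↦ ∃ (g : SimpleFunc (Fin n → X) ℝ), ∃ (s : Set (Fin n → X)),
        MeasurableSet s ∧ t ⊆ s ∧ ∀ x ∈ s, dist (f x) (g x) < ε) hK
    · exact ⟨0, ∅, by simp⟩
    · intro t t' htt' ⟨g, s, s_meas, ts, hg⟩
      exact ⟨g, s, s_meas, htt'.trans ts, hg⟩
    · intro t t' ⟨g, s, s_meas, ts, hg⟩ ⟨g', s', s'_meas, t's', hg'⟩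
      refine ⟨g.piecewise s s_meas g', s ∪ s', s_meas.union s'_meas,
        union_subset_union ts t's', fun p hp ↦ ?_⟩
      by_cases H : p ∈ s
      · simpa [H, SimpleFunc.piecewise_apply] using hg p H
      · simp only [SimpleFunc.piecewise_apply, H, ite_false]
        apply hg'
        simpa [H] using (mem_union _ _ _).1 hp
    · intro x _
      have hopen : IsOpen {z : Fin n → X | dist (f z) (f x) < ε} :=
        isOpen_lt (hf.dist continuous_const) continuous_const
      have hx : x ∈ {z : Fin n → X | dist (f z) (f x) < ε} := by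
        simp only [mem_setOf_eq, dist_self]; exact hε
      obtain ⟨u, hu, huv⟩ := isOpen_pi_iff'.1 hopen x hx
      refine ⟨Set.univ.pi u, nhdsWithin_le_nhds <|
        (isOpen_set_pi finite_univ (fun i _ => (hu i).1)).mem_nhds (fun i _ => (hu i).2), ?_⟩
      exact ⟨SimpleFunc.const _ (f x), Set.univ.pi u,
        MeasurableSet.univ_pi (fun i => (hu i).1.measurableSet), Subset.rfl, fun z hz ↦ huv hz⟩
  obtain ⟨g, s, -, fs, hg⟩ := M univ isCompact_univ
  exact ⟨g, fun x => hg x (fs (mem_univ x))⟩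

theorem measurable_of_continuous {f : (Fin n → X) → ℝ} (hf : Continuous f) : Measurable f := by
  obtain ⟨u, -, u_pos, u_lim⟩ :
      ∃ u : ℕ → ℝ, StrictAnti u ∧ (∀ (k : ℕ), 0 < u k) ∧ Tendsto u atTop (𝓝 0) :=
    exists_seq_strictAnti_tendsto (0 : ℝ)
  have : ∀ k, ∃ (g : SimpleFunc (Fin n → X) ℝ), ∀ x, dist (f x) (g x) < u k :=
    fun k ↦ exists_simpleFunc_approx hf (u_pos k)
  choose g hg using this
  have A : ∀ x, Tendsto (fun k ↦ g k x) atTop (𝓝 (f x)) := by
    intro x
    rw [tendsto_iff_dist_tendsto_zero]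
    apply squeeze_zero (fun k ↦ dist_nonneg) (fun k ↦ ?_) u_lim
    rw [dist_comm]
    exact (hg k x).le
  exact measurable_of_tendsto_metrizable (fun k ↦ (g k).measurable) (tendsto_pi_nhds.2 A)

theorem integrable_of_continuous (ν : Measure (Fin n → X)) [IsFiniteMeasure ν]
    {f : (Fin n → X) → ℝ} (hf : Continuous f) : Integrable f ν := by
  obtain ⟨C, hC⟩ := isCompact_univ.exists_bound_of_continuousOn hf.continuousOn
  exact Integrable.of_bound (measurable_of_continuous hf).aestronglyMeasurable C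
    (Filter.Eventually.of_forall fun x => hC x (mem_univ x))

end SM

section Dev
variable {G : Type u} [AddCommGroup G]

theorem S_real (φ : G → ℝ) (m : ℕ) (c : G) (u : Fin m → G) :
    PtDegDev.S φ m c u = ∑ I ∈ (Finset.univ : Finset (Fin m)).powerset,
      (-1 : ℝ) ^ I.card * φ (c + ∑ i ∈ I, u i) := by
  unfold PtDegDev.S
  refine Finset.sum_congr rfl fun I _ => ?_
  rw [zsmul_eq_mul, Int.cast_pow, Int.cast_neg, Int.cast_one]

theorem D_real (φ : G → ℝ) (n : ℕ) (x : Fin n → G) :
    PtDegDev.D φ n x = ∑ I ∈ ((Finset.univ : Finset (Fin n)).powerset.erase ∅),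
      (-1 : ℝ) ^ (n + I.card) * φ (∑ i ∈ I, x i) := by
  unfold PtDegDev.D
  refine Finset.sum_congr rfl fun I _ => ?_
  rw [zsmul_eq_mul, Int.cast_pow, Int.cast_neg, Int.cast_one]

theorem D_neg (f : G → ℝ) (n : ℕ) (x : Fin n → G) :
    PtDegDev.D (fun g => - f g) n x = - PtDegDev.D f n x := by
  unfold PtDegDev.D
  rw [← Finset.sum_neg_distrib]
  refine Finset.sum_congr rfl fun I _ => ?_
  rw [smul_neg]

theorem S_zero (f : G → ℝ) (c : G) (z : Fin 0 → G) : PtDegDev.S f 0 c z = f c := by
  simp [PtDegDev.S]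

theorem D_one_cons (f : G → ℝ) (b : G) (z : Fin 0 → G) :
    PtDegDev.D f 1 (Fin.cons b z) = f b := by
  rw [PtDegDev.D_eq, PtDegDev.S_cons, S_zero, S_zero, pow_one, neg_one_zsmul]
  ring

theorem D_one (f : G → ℝ) (x : Fin 1 → G) : PtDegDev.D f 1 x = f (x 0) := by
  have := D_one_cons f (x 0) (Fin.tail x)
  rwa [Fin.cons_self_tail] at this

end Dev

section Main
variable {G : Type u} [AddCommGroup G] [TopologicalSpace G] [IsTopologicalAddGroup G]
  [CompactSpace G] [MeasurableSpace G] [BorelSpace G]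

theorem S_cont (m : ℕ) (φ : G → ℝ) (hφ : Continuous φ) (c : G) :
    Continuous (fun u : Fin m → G => PtDegDev.S φ m c u) := by
  have : (fun u : Fin m → G => PtDegDev.S φ m c u) = fun u =>
      ∑ I ∈ (Finset.univ : Finset (Fin m)).powerset, (-1 : ℝ) ^ I.card * φ (c + ∑ i ∈ I, u i) :=
    funext fun u => S_real φ m c u
  rw [this]
  exact continuous_finset_sum _ fun I _ => continuous_const.mul
    (hφ.comp (continuous_const.add (continuous_finset_sum _ fun i _ => continuous_apply i)))

variable (μ : Measure G) [μ.IsAddHaarMeasure] [IsProbabilityMeasure μ]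

theorem int_shift (m : ℕ) (φ : G → ℝ) (J : Finset (Fin m)) (hJ : J.Nonempty) (c : G) :
    ∫ u, φ (c + ∑ j ∈ J, u j) ∂(Measure.pi fun _ : Fin m => μ) =
      ∫ u, φ (0 + ∑ j ∈ J, u j) ∂(Measure.pi fun _ : Fin m => μ) := by
  classical
  obtain ⟨j₀, hj₀⟩ := hJ
  have hs : ∑ j ∈ J, (Pi.single j₀ c : Fin m → G) j = c := by
    rw [Finset.sum_pi_single', if_pos hj₀]
  rw [← integral_add_left_eq_self (μ := Measure.pi fun _ : Fin m => μ)
    (fun u : Fin m → G => φ (0 + ∑ j ∈ J, u j)) (Pi.single j₀ c)]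
  refine integral_congr_ae (Filter.Eventually.of_forall fun u => ?_)
  simp only [Pi.add_apply, Finset.sum_add_distrib, zero_add, hs]

theorem T_eq (m : ℕ) (φ : G → ℝ) (hφ : Continuous φ) :
    ∃ R : ℝ, ∀ c : G,
      ∫ u, PtDegDev.S φ m c u ∂(Measure.pi fun _ : Fin m => μ) = φ c + R := by
  classical
  refine ⟨∑ I ∈ (Finset.univ : Finset (Fin m)).powerset.erase ∅, (-1 : ℝ) ^ I.card *
    ∫ u, φ (0 + ∑ i ∈ I, u i) ∂(Measure.pi fun _ : Fin m => μ), fun c => ?_⟩
  have hint : ∀ I : Finset (Fin m), Integrable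
      (fun u : Fin m → G => (-1 : ℝ) ^ I.card * φ (c + ∑ i ∈ I, u i))
      (Measure.pi fun _ : Fin m => μ) := by
    intro I
    apply integrable_of_continuous
    exact continuous_const.mul
      (hφ.comp (continuous_const.add (continuous_finset_sum _ fun i _ => continuous_apply i)))
  have e : (fun u : Fin m → G => PtDegDev.S φ m c u) = fun u =>
      ∑ I ∈ (Finset.univ : Finset (Fin m)).powerset, (-1 : ℝ) ^ I.card * φ (c + ∑ i ∈ I, u i) :=
    funext fun u => S_real φ m c u
  rw [e, integral_finset_sum _ (fun I _ => hint I),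
    ← Finset.add_sum_erase _ _ (Finset.empty_mem_powerset _)]
  congr 1
  · simp [integral_const]
  · refine Finset.sum_congr rfl fun I hI => ?_
    rw [integral_const_mul,
      int_shift μ m φ I (Finset.nonempty_of_ne_empty (Finset.ne_of_mem_erase hI)) c]

theorem formula (m : ℕ) (φ : G → ℝ) (hφ : Continuous φ) (g : G) :
    (-1 : ℝ) ^ m * ∫ u, PtDegDev.D φ (m + 1) (Fin.cons g u) ∂(Measure.pi fun _ : Fin m => μ)
      = φ g := by
  obtain ⟨R, hR⟩ := T_eq μ m φ hφ
  have hS : ∀ c, Integrable (fun u : Fin m → G => PtDegDev.S φ m c u)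
      (Measure.pi fun _ : Fin m => μ) := fun c =>
    integrable_of_continuous _ (S_cont m φ hφ c)
  have hS2 : Integrable (fun u : Fin m → G => PtDegDev.S φ m 0 u - PtDegDev.S φ m g u)
      (Measure.pi fun _ : Fin m => μ) :=
    integrable_of_continuous _ ((S_cont m φ hφ 0).sub (S_cont m φ hφ g))
  have h1 : ∀ u : Fin m → G, PtDegDev.D φ (m + 1) (Fin.cons g u) =
      (-1 : ℝ) ^ (m + 1) * (PtDegDev.S φ m 0 u - PtDegDev.S φ m g u - φ 0) := by
    intro u
    rw [PtDegDev.D_eq, PtDegDev.S_cons, zsmul_eq_mul, Int.cast_pow, Int.cast_neg, Int.cast_one]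
  have e : (fun u : Fin m → G => PtDegDev.D φ (m + 1) (Fin.cons g u)) = fun u =>
      (-1 : ℝ) ^ (m + 1) * (PtDegDev.S φ m 0 u - PtDegDev.S φ m g u - φ 0) := funext h1
  rw [e, integral_const_mul, integral_sub hS2 (integrable_const _), integral_sub (hS 0) (hS g),
    hR, hR, integral_const, probReal_univ, one_smul, pow_succ]
  have h2 : (-1 : ℝ) ^ m * (-1 : ℝ) ^ m = 1 := by
    rw [← mul_pow]; simp
  linear_combination (φ g) * h2

include μ in
theorem exists_phi : ∀ (n : ℕ) (ψ : (Fin (n + 1) → G) → ℝ), Continuous ψ →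
    (∀ (i j : Fin (n + 1)), i ≠ j → ∀ (x : Fin (n + 1) → G) (a b c : G),
      ψ (Function.update (Function.update x i (a + b)) j c) +
        ψ (Function.update (Function.update x i a) j b) =
      ψ (Function.update (Function.update x i a) j (b + c)) +
        ψ (Function.update (Function.update x i b) j c)) →
    ∃ φ : G → ℝ, Continuous φ ∧ ∀ x, ψ x = PtDegDev.D φ (n + 1) x := by
  intro n
  induction n with
  | zero =>
    intro ψ hψc _
    refine ⟨fun g => ψ (fun _ => g), hψc.comp (continuous_pi fun _ => continuous_id),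
      fun x => ?_⟩
    rw [D_one]
    exact congrArg ψ (funext fun i => congrArg x
      (Fin.ext (by have h := i.isLt; show (i : ℕ) = 0; omega)))
  | succ n ih =>
    intro ψ hψc hψ
    have hcons : Continuous (fun p : (Fin (n + 1) → G) × G =>
        (Fin.cons p.2 p.1 : Fin (n + 1 + 1) → G)) :=
      Continuous.finCons (A := fun _ => G) continuous_snd continuous_fst
    have hcont : ∀ y : Fin (n + 1) → G, Continuous (fun c : G => ψ (Fin.cons c y)) := fun y =>
      hψc.comp (hcons.comp (continuous_const.prodMk continuous_id))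
    have hint : ∀ y : Fin (n + 1) → G, Integrable (fun c : G => ψ (Fin.cons c y)) μ := fun y =>
      (hcont y).integrable_of_hasCompactSupport (HasCompactSupport.of_compactSpace _)
    obtain ⟨Ψ, hΨdef⟩ : ∃ Ψ : (Fin (n + 1) → G) → ℝ,
        ∀ y, Ψ y = ∫ c, ψ (Fin.cons c y) ∂μ := ⟨_, fun _ => rfl⟩
    have hΨc : Continuous Ψ := by
      have e : Ψ = fun y => ∫ c, ψ (Fin.cons c y) ∂μ := funext hΨdef
      rw [e]
      have := continuousOn_integral_of_compact_support (μ := μ)
        (f := fun (y : Fin (n + 1) → G) (c : G) => ψ (Fin.cons c y))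
        (s := Set.univ) (k := Set.univ) isCompact_univ
        (by
          show ContinuousOn (fun p : (Fin (n + 1) → G) × G => ψ (Fin.cons p.2 p.1)) _
          exact (hψc.comp hcons).continuousOn)
        (fun p x _ hx => absurd (Set.mem_univ x) hx)
      exact continuousOn_univ.1 this
    have hΨ : ∀ (i j : Fin (n + 1)), i ≠ j → ∀ (y : Fin (n + 1) → G) (a b c : G),
        Ψ (Function.update (Function.update y i (a + b)) j c) +
          Ψ (Function.update (Function.update y i a) j b) =
        Ψ (Function.update (Function.update y i a) j (b + c)) +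
          Ψ (Function.update (Function.update y i b) j c) := by
      intro i j hij y a b c
      simp only [hΨdef]
      rw [← integral_add (hint _) (hint _), ← integral_add (hint _) (hint _)]
      refine integral_congr_ae (Filter.Eventually.of_forall fun c' => ?_)
      simp only [Fin.cons_update]
      exact hψ i.succ j.succ (fun h => hij (Fin.succ_injective _ h)) (Fin.cons c' y) a b c
    have key : ∀ (y : Fin (n + 1) → G) (a b : G),
        ψ (Fin.cons b (Function.update y 0 a)) =
          Ψ (Function.update y 0 a) + Ψ (Function.update y 0 b) -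
            Ψ (Function.update y 0 (a + b)) := by
      intro y a b
      have h1 : ∀ c : G, ψ (Fin.cons c (Function.update y 0 (a + b))) +
          ψ (Fin.cons b (Function.update y 0 a)) =
          ψ (Fin.cons (b + c) (Function.update y 0 a)) +
            ψ (Fin.cons c (Function.update y 0 b)) := by
        intro c
        have h := hψ (Fin.succ 0) 0 (Fin.succ_ne_zero 0) (Fin.cons c y) a b c
        simpa only [← Fin.cons_update, Fin.update_cons_zero] using h
      have h2 : ∫ c, (ψ (Fin.cons c (Function.update y 0 (a + b))) +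
          ψ (Fin.cons b (Function.update y 0 a))) ∂μ =
          ∫ c, (ψ (Fin.cons (b + c) (Function.update y 0 a)) +
            ψ (Fin.cons c (Function.update y 0 b))) ∂μ :=
        integral_congr_ae (Filter.Eventually.of_forall h1)
      have hint' : Integrable (fun c : G => ψ (Fin.cons (b + c) (Function.update y 0 a))) μ :=
        ((hcont (Function.update y 0 a)).comp
          (continuous_const.add continuous_id)).integrable_of_hasCompactSupport
          (HasCompactSupport.of_compactSpace _)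
      rw [integral_add (hint _) (integrable_const _), integral_add hint' (hint _),
        integral_const, probReal_univ, one_smul,
        integral_add_left_eq_self (fun c => ψ (Fin.cons c (Function.update y 0 a))) b] at h2
      simp only [hΨdef]
      linarith
    obtain ⟨φ₁, hφ₁c, hφ₁⟩ := ih Ψ hΨc hΨ
    refine ⟨fun g => - φ₁ g, hφ₁c.neg, ?_⟩
    have gen : ∀ (b a : G) (y : Fin (n + 1) → G), ψ (Fin.cons b (Function.update y 0 a)) =
        PtDegDev.D (fun g => - φ₁ g) (n + 1 + 1) (Fin.cons b (Function.update y 0 a)) := by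
      intro b a y
      rw [key, hφ₁, hφ₁, hφ₁, D_neg, PtDegDev.D_cons]
      ring
    intro x
    have hx : x = Fin.cons (x 0) (Function.update (Fin.tail x) 0 (Fin.tail x 0)) := by
      rw [Function.update_eq_self, Fin.cons_self_tail]
    rw [hx]
    exact gen _ _ _

end Main


/-- Let G be a compact Hausdorff commutative topological group, written additively, μ its Haar measure
of total mass 1, m ≥ 1 an integer and ψ : G^{m+1} → ℝ a continuous function which is a 2-cocycle
with respect to every pair of variables: for all positions i ≠ j, every point x of G^{m+1} and all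
a, b, c in G, writing x[i ↦ a, j ↦ c] for x with its i-th coordinate replaced by a and its j-th by
c, one has ψ(x[i ↦ a+b, j ↦ c]) + ψ(x[i ↦ a, j ↦ b]) = ψ(x[i ↦ a, j ↦ b+c]) + ψ(x[i ↦ b, j ↦ c]).
Let φ : G → ℝ be φ(g) = (−1)^m ∫_{G^m} ψ(g, u_1, …, u_m) dμ^{⊗m}(u). Then ψ is the (m+1)-st
deviation of φ, namely ψ(x) = Σ_{∅ ≠ I ⊆ {0,…,m}} (−1)^{m+1+|I|} φ(Σ_{i ∈ I} x_i) for every x; φ is
continuous; and φ is the unique continuous function G → ℝ with this property. -/
theorem result {G : Type u} [AddCommGroup G] [TopologicalSpace G] [IsTopologicalAddGroup G] [CompactSpace G] [T2Space G]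
    [MeasurableSpace G] [BorelSpace G] (μ : MeasureTheory.Measure G) [μ.IsAddHaarMeasure] [MeasureTheory.IsProbabilityMeasure μ]
    (m : ℕ) (hm : 1 ≤ m) (ψ : (Fin (m + 1) → G) → ℝ) (hψc : Continuous ψ)
    (hψ : ∀ (i j : Fin (m + 1)), i ≠ j → ∀ (x : Fin (m + 1) → G) (a b c : G),
      ψ (Function.update (Function.update x i (a + b)) j c) + ψ (Function.update (Function.update x i a) j b) =
        ψ (Function.update (Function.update x i a) j (b + c)) + ψ (Function.update (Function.update x i b) j c)) :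
    (∀ x : Fin (m + 1) → G,
      ψ x = ∑ I ∈ ((Finset.univ : Finset (Fin (m + 1))).powerset.erase ∅),
        (-1 : ℝ) ^ (m + 1 + I.card) * ((-1 : ℝ) ^ m *
          ∫ u, ψ (Fin.cons (∑ i ∈ I, x i) u) ∂(MeasureTheory.Measure.pi (fun _ : Fin m => μ)))) ∧
    Continuous (fun g : G => (-1 : ℝ) ^ m * ∫ u, ψ (Fin.cons g u) ∂(MeasureTheory.Measure.pi (fun _ : Fin m => μ))) ∧
    (∀ φ : G → ℝ, Continuous φ → (∀ x : Fin (m + 1) → G,
      ψ x = ∑ I ∈ ((Finset.univ : Finset (Fin (m + 1))).powerset.erase ∅), (-1 : ℝ) ^ (m + 1 + I.card) * φ (∑ i ∈ I, x i)) →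
      φ = fun g => (-1 : ℝ) ^ m * ∫ u, ψ (Fin.cons g u) ∂(MeasureTheory.Measure.pi (fun _ : Fin m => μ))) := by
  obtain ⟨φ₀, hφ₀c, hφ₀⟩ := exists_phi μ m ψ hψc hψ
  have hform : ∀ g, (-1 : ℝ) ^ m *
      ∫ u, ψ (Fin.cons g u) ∂(MeasureTheory.Measure.pi (fun _ : Fin m => μ)) = φ₀ g := by
    intro g
    have e : (fun u : Fin m → G => ψ (Fin.cons g u)) = fun u =>
        PtDegDev.D φ₀ (m + 1) (Fin.cons g u) := funext fun u => hφ₀ _
    rw [e]
    exact formula μ m φ₀ hφ₀c g
  refine ⟨fun x => ?_, ?_, ?_⟩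
  · refine (hφ₀ x).trans ?_
    rw [D_real]
    refine Finset.sum_congr rfl fun I _ => ?_
    rw [hform]
  · have e : (fun g : G => (-1 : ℝ) ^ m *
        ∫ u, ψ (Fin.cons g u) ∂(MeasureTheory.Measure.pi (fun _ : Fin m => μ))) = φ₀ :=
      funext hform
    rw [e]
    exact hφ₀c
  · intro φ hφc hφ
    funext g
    have e : (fun u : Fin m → G => ψ (Fin.cons g u)) = fun u =>
        PtDegDev.D φ (m + 1) (Fin.cons g u) := funext fun u => by rw [hφ, D_real]
    rw [e]
    exact (formula μ m φ hφc g).symm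

end Groth.Agent.S14297
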