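import Groth.Statements.S14309
import Mathlib

set_option autoImplicit false
universe u v w x y
open CAlg

namespace Groth.Agent.S14309

/-- Let R be a commutative ring; A, B, C commutative R-algebras; i : A → B and j : A → C jointly
injective R-algebra maps; c a non-zero-divisor of B; u : C → B/(c) a ring map with u ∘ j equal to i
followed by reduction modulo c; ζ in A with i ζ = c and j ζ = 0; η : R[X_σ, Z] → A an R-algebra map
with η(Z) = ζ; a : R[Y_τ] → B a surjective R-algebra map; η_Z : R[X_σ, Z] → R[Y_τ] a surjective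
R-algebra map with a ∘ η_Z = i ∘ η. Fix c̃ in R[Y_τ] with a(c̃) = c, a family (p_h) generating the
kernel of the composite R[X_σ] → R[X_σ, Z] → A → C, a family (q'_h) generating the kernel of a
together with lifts q_h along η_Z, a family (v_h) generating the kernel of η_Z, and elements g'_h of
R[Y_τ] with η_Z(p_h) + g'_h c̃ in the ideal (q'_h), together with lifts g_h along η_Z. Then the
kernel of η is the ideal generated by the elements Z q_h, Z v_h and p_h + Z g_h. (The published
statement is for the rings of cycle classes, with coefficients ℤ[1/6], of a smooth quotient stack, a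
smooth closed substack whose normal bundle has top Chern class c a non-zero-divisor, and the open
complement; this row states the ring-theoretic content for any such square of commutative rings in
which A embeds in B × C.) -/
theorem result
    {R : Type u} [CommRing R] {A : Type v} {B : Type w} {C : Type x}
    [CommRing A] [CommRing B] [CommRing C] [Algebra R A] [Algebra R B] [Algebra R C]
    (i : A →ₐ[R] B) (j : A →ₐ[R] C)
    (hinj : ∀ t : A, i t = 0 → j t = 0 → t = 0)
    (c : B) (hc : c ∈ nonZeroDivisors B) (u : C →+* B ⧸ Ideal.span ({c} : Set B))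
    (hu : ∀ t : A, u (j t) = Ideal.Quotient.mk (Ideal.span ({c} : Set B)) (i t))
    (ζ : A) (hiζ : i ζ = c) (hjζ : j ζ = 0)
    {σ τ ιp ιq ιv : Type y}
    (η : MvPolynomial (Option σ) R →ₐ[R] A) (hη : η (MvPolynomial.X none) = ζ)
    (a : MvPolynomial τ R →ₐ[R] B) (ha : Function.Surjective a)
    (ηZ : MvPolynomial (Option σ) R →ₐ[R] MvPolynomial τ R)
    (hcomm : ∀ t, a (ηZ t) = i (η t)) (hηZ : Function.Surjective ηZ)
    (cZ : MvPolynomial τ R) (hcZ : a cZ = c)
    (p : ιp → MvPolynomial σ R)
    (hp : Ideal.span (Set.range p) =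
      RingHom.ker ((j.comp η).comp (MvPolynomial.rename (Option.some : σ → Option σ))))
    (q' : ιq → MvPolynomial τ R) (hq' : Ideal.span (Set.range q') = RingHom.ker a)
    (q : ιq → MvPolynomial (Option σ) R) (hq : ∀ h, ηZ (q h) = q' h)
    (v : ιv → MvPolynomial (Option σ) R) (hv : Ideal.span (Set.range v) = RingHom.ker ηZ)
    (g' : ιp → MvPolynomial τ R)
    (hg' : ∀ h, ηZ (MvPolynomial.rename (Option.some : σ → Option σ) (p h)) + g' h * cZ ∈
      Ideal.span (Set.range q'))
    (g : ιp → MvPolynomial (Option σ) R) (hg : ∀ h, ηZ (g h) = g' h) :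
    RingHom.ker η = Ideal.span
      (Set.range (fun h : ιq => MvPolynomial.X none * q h) ∪
        Set.range (fun h : ιv => MvPolynomial.X none * v h) ∪
        Set.range (fun h : ιp =>
          MvPolynomial.rename (Option.some : σ → Option σ) (p h) + MvPolynomial.X none * g h)) := by
  classical
  set Z : MvPolynomial (Option σ) R := MvPolynomial.X none with hZ
  set K : Ideal (MvPolynomial (Option σ) R) := Ideal.span
      (Set.range (fun h : ιq => MvPolynomial.X none * q h) ∪
        Set.range (fun h : ιv => MvPolynomial.X none * v h) ∪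
        Set.range (fun h : ιp =>
          MvPolynomial.rename (Option.some : σ → Option σ) (p h) + MvPolynomial.X none * g h))
    with hK
  have hKq : ∀ h, Z * q h ∈ K := fun h => Ideal.subset_span (Or.inl (Or.inl ⟨h, rfl⟩))
  have hKv : ∀ h, Z * v h ∈ K := fun h => Ideal.subset_span (Or.inl (Or.inr ⟨h, rfl⟩))
  have hKp : ∀ h, MvPolynomial.rename (Option.some : σ → Option σ) (p h) + Z * g h ∈ K :=
    fun h => Ideal.subset_span (Or.inr ⟨h, rfl⟩)
  have hηZQ : ∀ Q, η (Z * Q) = ζ * η Q := fun Q => by rw [map_mul, hη]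
  have hq'a : ∀ h, a (q' h) = 0 := fun h => by
    have : q' h ∈ RingHom.ker a := by rw [← hq']; exact Ideal.subset_span ⟨h, rfl⟩
    exact this
  have hvZ : ∀ h, ηZ (v h) = 0 := fun h => by
    have : v h ∈ RingHom.ker ηZ := by rw [← hv]; exact Ideal.subset_span ⟨h, rfl⟩
    exact this
  have hpj : ∀ h, j (η (MvPolynomial.rename (Option.some : σ → Option σ) (p h))) = 0 := fun h => by
    have : p h ∈ RingHom.ker
        ((j.comp η).comp (MvPolynomial.rename (Option.some : σ → Option σ))) := by
      rw [← hp]; exact Ideal.subset_span ⟨h, rfl⟩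
    exact this
  have hle : K ≤ RingHom.ker η := by
    rw [hK, Ideal.span_le]
    rintro _ ((⟨h, rfl⟩ | ⟨h, rfl⟩) | ⟨h, rfl⟩)
    · show η (Z * q h) = 0
      apply hinj
      · rw [hηZQ, map_mul, ← hcomm, hq, hq'a, mul_zero]
      · rw [hηZQ, map_mul, hjζ, zero_mul]
    · show η (Z * v h) = 0
      apply hinj
      · rw [hηZQ, map_mul, ← hcomm, hvZ, map_zero, mul_zero]
      · rw [hηZQ, map_mul, hjζ, zero_mul]
    · show η (MvPolynomial.rename (Option.some : σ → Option σ) (p h) + Z * g h) = 0
      apply hinj
      · rw [map_add, hηZQ, map_add, map_mul, hiζ, ← hcomm, ← hcomm, hg, ← hcZ, ← map_mul,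
          ← map_add, mul_comm]
        have := hg' h
        rw [hq'] at this
        exact this
      · rw [map_add, hηZQ, map_add, map_mul, hjζ, zero_mul, add_zero]
        exact hpj h
  apply le_antisymm _ hle
  intro F hF
  -- decomposition of F
  have hdec : ∀ F : MvPolynomial (Option σ) R, ∃ P Q,
      F = MvPolynomial.rename (Option.some : σ → Option σ) P + Z * Q := by
    intro F
    induction F using MvPolynomial.induction_on with
    | C r => exact ⟨MvPolynomial.C r, 0, by simp⟩
    | add F₁ F₂ h₁ h₂ =>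
      obtain ⟨P₁, Q₁, rfl⟩ := h₁
      obtain ⟨P₂, Q₂, rfl⟩ := h₂
      exact ⟨P₁ + P₂, Q₁ + Q₂, by rw [map_add]; ring⟩
    | mul_X F₁ s h₁ =>
      obtain ⟨P₁, Q₁, rfl⟩ := h₁
      cases s with
      | none => exact ⟨0, MvPolynomial.rename Option.some P₁ + Z * Q₁, by
          rw [map_zero, zero_add, hZ]; ring⟩
      | some s => exact ⟨P₁ * MvPolynomial.X s, Q₁ * MvPolynomial.X (some s), by
          rw [map_mul, MvPolynomial.rename_X]; ring⟩
  obtain ⟨P, Q, rfl⟩ := hdec F
  have hF' : η (MvPolynomial.rename (Option.some : σ → Option σ) P + Z * Q) = 0 := hF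
  -- P lies in the span of the p's
  have hP : P ∈ Ideal.span (Set.range p) := by
    rw [hp]
    show j (η (MvPolynomial.rename (Option.some : σ → Option σ) P)) = 0
    have := congrArg j hF'
    rw [map_add, hηZQ, map_add, map_mul, hjζ, zero_mul, add_zero, map_zero] at this
    exact this
  have hA : ∀ P ∈ Ideal.span (Set.range p), ∃ G,
      MvPolynomial.rename (Option.some : σ → Option σ) P + Z * G ∈ K := by
    intro P hP
    induction hP using Submodule.span_induction with
    | mem x hx =>
      obtain ⟨h, rfl⟩ := hx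
      exact ⟨g h, hKp h⟩
    | zero => exact ⟨0, by simp⟩
    | add x y _ _ hx hy =>
      obtain ⟨G₁, h₁⟩ := hx
      obtain ⟨G₂, h₂⟩ := hy
      refine ⟨G₁ + G₂, ?_⟩
      have := K.add_mem h₁ h₂
      rw [map_add]
      convert this using 1
      ring
    | smul r x _ hx =>
      obtain ⟨G₁, h₁⟩ := hx
      refine ⟨MvPolynomial.rename Option.some r * G₁, ?_⟩
      have := K.mul_mem_left (MvPolynomial.rename (Option.some : σ → Option σ) r) h₁
      rw [smul_eq_mul, map_mul]
      convert this using 1
      ring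
  obtain ⟨G, hG⟩ := hA P hP
  have hηG := hle hG
  have hηG' : η (MvPolynomial.rename (Option.some : σ → Option σ) P + Z * G) = 0 := hηG
  have hQG : η (Z * (Q - G)) = 0 := by
    have : Z * (Q - G) = (MvPolynomial.rename (Option.some : σ → Option σ) P + Z * Q) -
        (MvPolynomial.rename (Option.some : σ → Option σ) P + Z * G) := by ring
    rw [this, map_sub, hF', hηG', sub_zero]
  have haQG : a (ηZ (Q - G)) = 0 := by
    have := congrArg i hQG
    rw [hηZQ, map_mul, hiζ, ← hcomm, map_zero] at this
    exact (mul_left_mem_nonZeroDivisors_eq_zero_iff hc).1 this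
  have hmap : Ideal.map ηZ (Ideal.span (Set.range q)) = Ideal.span (Set.range q') := by
    rw [Ideal.map_span]
    congr 1
    ext x
    constructor
    · rintro ⟨_, ⟨h, rfl⟩, rfl⟩; exact ⟨h, (hq h).symm⟩
    · rintro ⟨h, rfl⟩; exact ⟨q h, ⟨h, rfl⟩, hq h⟩
  have hmem : Q - G ∈ Ideal.span (Set.range q) ⊔ Ideal.span (Set.range v) := by
    have h1 : ηZ (Q - G) ∈ Ideal.map ηZ (Ideal.span (Set.range q)) := by
      rw [hmap, hq']; exact haQG
    have h2 : Q - G ∈ Ideal.comap ηZ (Ideal.map ηZ (Ideal.span (Set.range q))) := h1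
    rw [Ideal.comap_map_of_surjective ηZ hηZ] at h2
    have h3 : Ideal.comap ηZ ⊥ = Ideal.span (Set.range v) := by
      rw [hv]; rfl
    rwa [h3] at h2
  have hB : ∀ S : Set (MvPolynomial (Option σ) R), (∀ x ∈ S, Z * x ∈ K) →
      ∀ x ∈ Ideal.span S, Z * x ∈ K := by
    intro S hS x hx
    induction hx using Submodule.span_induction with
    | mem x hx => exact hS x hx
    | zero => rw [mul_zero]; exact K.zero_mem
    | add x y _ _ hx hy => rw [mul_add]; exact K.add_mem hx hy
    | smul r x _ hx =>
      rw [smul_eq_mul, mul_left_comm]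
      exact K.mul_mem_left r hx
  obtain ⟨x, hx, y, hy, hxy⟩ := Submodule.mem_sup.1 hmem
  have hZx : Z * x ∈ K := hB _ (by rintro _ ⟨h, rfl⟩; exact hKq h) x hx
  have hZy : Z * y ∈ K := hB _ (by rintro _ ⟨h, rfl⟩; exact hKv h) y hy
  have hfin : MvPolynomial.rename (Option.some : σ → Option σ) P + Z * Q =
      (MvPolynomial.rename (Option.some : σ → Option σ) P + Z * G) + (Z * x + Z * y) := by
    rw [← mul_add, hxy]; ring
  rw [hfin]
  exact K.add_mem hG (K.add_mem hZx hZy)

end Groth.Agent.S14309
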