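import Groth.Statements.S14312
import Groth.Agent.Lib.Lead.BezoutPts2
import Groth.Agent.Lib.Lead.Polar

set_option autoImplicit false
universe u
open Curves

namespace Groth.Agent.S14312

/-- Over an algebraically closed field k, a reduced plane quartic — the zero locus in the projective
plane of a square-free homogeneous polynomial f of degree 4 in three variables — has at most 6
singular points, a singular point being a point of the projective plane at which f and its three
first partial derivatives vanish. (No hypothesis on the characteristic of k is imposed here. The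
further assertions describing the quartics with exactly 5 or exactly 6 singular points are not part
of this row.) -/
theorem result
    {k : Type u} [Field k] [IsAlgClosed k] (f : MvPolynomial (Fin 3) k)
    (hf : f.IsHomogeneous 4) (hred : Squarefree f) :
    ∃ s : Finset (Projectivization k (Fin 3 → k)), s.card ≤ 6 ∧
      ∀ p : Projectivization k (Fin 3 → k),
        MvPolynomial.eval p.rep f = 0 →
          (∀ i : Fin 3, MvPolynomial.eval p.rep (MvPolynomial.pderiv i f) = 0) → p ∈ s := by
  classical
  obtain ⟨c, hc⟩ := Groth.Agent.Lib.Lead.Polar.exists_polar_isRelPrime f hred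
  have hgh : (Groth.Agent.Lib.Lead.Polar.polar f c).IsHomogeneous 3 :=
    Groth.Agent.Lib.Lead.Polar.polar_isHomogeneous f c hf
  have key : ∀ Z : Finset (Projectivization k (Fin 3 → k)),
      (∀ z ∈ Z, MvPolynomial.eval z.rep f = 0 ∧
        ∀ i : Fin 3, MvPolynomial.eval z.rep (MvPolynomial.pderiv i f) = 0) → Z.card ≤ 6 := by
    intro Z hZ
    have := Groth.Agent.Lib.Lead.BezoutPts.two_mul_card_le 4 3 f
      (Groth.Agent.Lib.Lead.Polar.polar f c) hf hgh (by norm_num) (by norm_num) hc Z
      (fun z hz => (hZ z hz).1) (fun z hz => (hZ z hz).2)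
      (fun z hz => Groth.Agent.Lib.Lead.Polar.eval_polar f c z.rep (hZ z hz).2)
    omega
  have hfin : {p : Projectivization k (Fin 3 → k) | MvPolynomial.eval p.rep f = 0 ∧
      ∀ i : Fin 3, MvPolynomial.eval p.rep (MvPolynomial.pderiv i f) = 0}.Finite := by
    by_contra hinf
    obtain ⟨Z, hZsub, hZcard⟩ := Set.Infinite.exists_subset_card_eq hinf 7
    have := key Z (fun z hz => hZsub hz)
    omega
  refine ⟨hfin.toFinset, key _ (fun z hz => hfin.mem_toFinset.mp hz), fun p h1 h2 =>
    hfin.mem_toFinset.mpr ⟨h1, h2⟩⟩

end Groth.Agent.S14312
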