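import Groth.Statements.S1432
import Mathlib

set_option autoImplicit false
universe u
open FlatMor

namespace Groth.Agent.S1432

open AlgebraicGeometry CategoryTheory Limits

/-- The lifting property along injective ring maps. -/
def Lift {X Y : Scheme.{u}} (f : X ⟶ Y) : Prop :=
  ∀ (A B : Type u) [CommRing A] [CommRing B] (φ : A →+* B), Function.Injective φ →
      ∀ (a : Spec (CommRingCat.of B) ⟶ X) (b : Spec (CommRingCat.of A) ⟶ Y),
        Spec.map (CommRingCat.ofHom φ) ≫ b = a ≫ f →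
        ∃ l : Spec (CommRingCat.of A) ⟶ X, Spec.map (CommRingCat.ofHom φ) ≫ l = a ∧ l ≫ f = b

theorem lift_of_isClosedImmersion {X Y : Scheme.{u}} (f : X ⟶ Y) [IsClosedImmersion f] :
    Lift f := by
  intro A B _ _ φ hφ a b hab
  haveI : IsClosedImmersion (pullback.snd f b) := inferInstance
  let a' : Spec (CommRingCat.of B) ⟶ pullback f b :=
    pullback.lift a (Spec.map (CommRingCat.ofHom φ)) hab.symm
  have ha' : a' ≫ pullback.snd f b = Spec.map (CommRingCat.ofHom φ) := pullback.lift_snd _ _ _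
  have hinj : Function.Injective (pullback.snd f b).appTop := by
    haveI : Mono (CommRingCat.ofHom φ) :=
      (ConcreteCategory.mono_iff_injective_of_preservesPullback (CommRingCat.ofHom φ)).mpr hφ
    have h1 : (Spec.map (CommRingCat.ofHom φ)).appTop =
        (Scheme.ΓSpecIso (CommRingCat.of A)).hom ≫ CommRingCat.ofHom φ ≫
          (Scheme.ΓSpecIso (CommRingCat.of B)).inv := by
      rw [← Category.assoc, ← Scheme.ΓSpecIso_naturality, Category.assoc, Iso.hom_inv_id,
        Category.comp_id]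
    haveI : Mono ((pullback.snd f b).appTop ≫ a'.appTop) := by
      rw [← Scheme.Hom.comp_appTop, ha', h1]
      infer_instance
    haveI : Mono (pullback.snd f b).appTop := mono_of_mono _ a'.appTop
    exact (ConcreteCategory.mono_iff_injective_of_preservesPullback _).mp inferInstance
  haveI : IsIso (pullback.snd f b) := IsClosedImmersion.isIso_of_injective_of_isAffine hinj
  refine ⟨inv (pullback.snd f b) ≫ pullback.fst f b, ?_, ?_⟩
  · rw [← ha', Category.assoc, IsIso.hom_inv_id_assoc]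
    exact pullback.lift_fst _ _ _
  · rw [Category.assoc, pullback.condition, IsIso.inv_hom_id_assoc]

theorem lift_pullback_snd {X Y Y' : Scheme.{u}} (f : X ⟶ Y) (g : Y' ⟶ Y) (h : Lift f) :
    Lift (pullback.snd f g) := by
  intro A B _ _ φ hφ a b hab
  obtain ⟨l₀, hl1, hl2⟩ := h A B φ hφ (a ≫ pullback.fst f g) (b ≫ g) (by
    rw [← Category.assoc, hab]
    simp only [Category.assoc]
    rw [pullback.condition])
  refine ⟨pullback.lift l₀ b hl2, ?_, pullback.lift_snd _ _ _⟩
  apply pullback.hom_ext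
  · rw [Category.assoc, pullback.lift_fst, hl1]
  · rw [Category.assoc, pullback.lift_snd, hab]

theorem isClosedImmersion_of_lift_of_isAffine {X Y : Scheme.{u}} (f : X ⟶ Y) [IsAffine Y]
    [CompactSpace X] (h : Lift f) : IsClosedImmersion f := by
  let 𝒰 := X.affineCover.finiteSubcover
  haveI : ∀ i, IsAffine (𝒰.X i) := fun i => by dsimp [𝒰]; infer_instance
  let Z : Scheme.{u} := ∐ 𝒰.X
  let a₀ : Z ⟶ X := Sigma.desc 𝒰.f
  haveI : IsAffine Z := inferInstance
  let ψ : Γ(Y, ⊤) ⟶ Γ(Z, ⊤) := (a₀ ≫ f).appTop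
  let I : Ideal Γ(Y, ⊤) := RingHom.ker ψ.hom
  let φ : Γ(Y, ⊤) ⧸ I →+* Γ(Z, ⊤) := RingHom.kerLift ψ.hom
  have hφ : Function.Injective φ := RingHom.kerLift_injective ψ.hom
  let b : Spec (CommRingCat.of (Γ(Y, ⊤) ⧸ I)) ⟶ Y :=
    Spec.map (CommRingCat.ofHom (Ideal.Quotient.mk I)) ≫ Y.isoSpec.inv
  let a : Spec (CommRingCat.of Γ(Z, ⊤)) ⟶ X := Z.isoSpec.inv ≫ a₀
  have hψ : CommRingCat.ofHom (Ideal.Quotient.mk I) ≫ CommRingCat.ofHom φ = ψ := by
    ext x
    rfl
  have hab : Spec.map (CommRingCat.ofHom φ) ≫ b = a ≫ f := by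
    calc Spec.map (CommRingCat.ofHom φ) ≫ b
        = Spec.map (CommRingCat.ofHom (Ideal.Quotient.mk I) ≫ CommRingCat.ofHom φ) ≫
            Y.isoSpec.inv := by
          rw [Spec.map_comp, Category.assoc]
      _ = Spec.map ψ ≫ Y.isoSpec.inv := by rw [hψ]
      _ = Z.isoSpec.inv ≫ (a₀ ≫ f) := Scheme.isoSpec_inv_naturality (a₀ ≫ f)
      _ = a ≫ f := (Category.assoc _ _ _).symm
  obtain ⟨l, hl1, hl2⟩ := h (Γ(Y, ⊤) ⧸ I) Γ(Z, ⊤) φ hφ a b hab
  haveI : IsClosedImmersion b := inferInstance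
  obtain ⟨mi, hmidef⟩ : ∃ mi : ∀ i, 𝒰.X i ⟶ Spec (CommRingCat.of (Γ(Y, ⊤) ⧸ I)),
      ∀ i, mi i = Sigma.ι 𝒰.X i ≫ Z.isoSpec.hom ≫ Spec.map (CommRingCat.ofHom φ) :=
    ⟨_, fun _ => rfl⟩
  have hιa : ∀ i, Sigma.ι 𝒰.X i ≫ Z.isoSpec.hom ≫ a = 𝒰.f i := by
    intro i
    simp only [a, a₀, Iso.hom_inv_id_assoc, Sigma.ι_desc]
  have hmi : ∀ i, mi i ≫ b = 𝒰.f i ≫ f := by
    intro i
    rw [hmidef]
    simp only [Category.assoc, hab]
    rw [← Category.assoc, ← Category.assoc, Category.assoc (Sigma.ι 𝒰.X i), hιa]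
  let m : X ⟶ Spec (CommRingCat.of (Γ(Y, ⊤) ⧸ I)) := 𝒰.glueMorphisms mi (by
    intro i j
    rw [← cancel_mono b, Category.assoc, Category.assoc, hmi, hmi, ← Category.assoc,
      ← Category.assoc, pullback.condition])
  have hm : ∀ i, 𝒰.f i ≫ m = mi i := fun i => 𝒰.ι_glueMorphisms _ _ i
  have hmb : m ≫ b = f := by
    apply 𝒰.hom_ext
    intro i
    rw [← Category.assoc, hm, hmi]
  have hlm : l ≫ m = 𝟙 _ := by
    rw [← cancel_mono b, Category.assoc, hmb, hl2, Category.id_comp]
  have hml : m ≫ l = 𝟙 _ := by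
    apply 𝒰.hom_ext
    intro i
    rw [← Category.assoc, hm, Category.comp_id]
    rw [hmidef]
    simp only [Category.assoc, hl1]
    exact hιa i
  haveI : IsIso m := ⟨l, hml, hlm⟩
  rw [← hmb]
  infer_instance

open AlgebraicGeometry CategoryTheory Limits in
/-- For a quasi-compact morphism f : X → Y, being a closed immersion is equivalent to the following
lifting property: for each injective ring map A → B and each commutative square with Spec B → X on
top and Spec A → Y at the bottom there is a lift Spec A → X making both triangles commute. -/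
theorem result {X Y : Scheme.{u}} (f : X ⟶ Y) [QuasiCompact f] :
    IsClosedImmersion f ↔ ∀ (A B : Type u) [CommRing A] [CommRing B] (φ : A →+* B), Function.Injective φ →
      ∀ (a : Spec (CommRingCat.of B) ⟶ X) (b : Spec (CommRingCat.of A) ⟶ Y), Spec.map (CommRingCat.ofHom φ) ≫ b = a ≫ f →
        ∃ l : Spec (CommRingCat.of A) ⟶ X, Spec.map (CommRingCat.ofHom φ) ≫ l = a ∧ l ≫ f = b := by

  constructor
  · intro hf
    exact lift_of_isClosedImmersion f
  · intro h
    rw [IsZariskiLocalAtTarget.iff_of_openCover (P := @IsClosedImmersion) Y.affineCover]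
    intro i
    show IsClosedImmersion (pullback.snd f (Y.affineCover.f i))
    haveI : CompactSpace ↥(pullback f (Y.affineCover.f i)) :=
      QuasiCompact.compactSpace_of_compactSpace (pullback.snd f (Y.affineCover.f i))
    exact isClosedImmersion_of_lift_of_isAffine _ (lift_pullback_snd f _ h)

end Groth.Agent.S1432
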