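import Groth.Statements.S14330
import Mathlib
import Groth.Agent.Lib.Helper17.FlatSchDense
import Groth.Agent.Lib.Helper17.InvTransfer
import Groth.Agent.Lib.Helper5.HartogsDepth
import Groth.Agent.Lib.Helper4.FlatLocal3

set_option autoImplicit false
universe u
open CategoryTheory CategoryTheory.Limits AlgebraicGeometry Opposite
open GrpSch

namespace Groth.Agent.S14330

/-- Let S be a locally Noetherian scheme, f : A → S a smooth morphism, L an invertible O_A-module and V
an open subscheme of S; for an open W of S consider the restriction of sections of L from f⁻¹(W) to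
f⁻¹(W) ∩ f⁻¹(V), that is the component over W of the natural map f_*L → j_*j^*(f_*L), j : V → S the
inclusion. If V is schematically dense in S, all these restrictions are injective. If V is a big
open of S, meaning that the local ring of S at every point outside V has depth at least 2, all these
restrictions are bijective. (The published statement is for a semi-stable group scheme A; its proof
uses only the smoothness of A over S and the local freeness of L, which are the hypotheses kept
here.) -/
theorem result {S A : Scheme.{u}} [IsLocallyNoetherian S]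
    (f : A ⟶ S) [Smooth f] (L : A.Modules) (hL : PicF.IsInvertible L) (V : S.Opens) :
    (CInt.IsSchematicallyDense V →
      ∀ W : S.Opens, Function.Injective (L.val.map (homOfLE (inf_le_left : f ⁻¹ᵁ W ⊓ f ⁻¹ᵁ V ≤ f ⁻¹ᵁ W)).op)) ∧
    ((∀ x : S, x ∉ V → 2 ≤ LocCoh.depth (S.presheaf.stalk x) (S.presheaf.stalk x)) →
      ∀ W : S.Opens, Function.Bijective (L.val.map (homOfLE (inf_le_left : f ⁻¹ᵁ W ⊓ f ⁻¹ᵁ V ≤ f ⁻¹ᵁ W)).op)) := by
  haveI : IsLocallyNoetherian A := LocallyOfFiniteType.isLocallyNoetherian f
  constructor
  · intro hV W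
    exact Groth.Agent.Lib.Helper17.InvTransfer.injective_res_of_isInvertible L hL (f ⁻¹ᵁ V)
      (fun W' => Groth.Agent.Lib.Helper17.FlatSchDense.injective_res_preimage f V hV W') (f ⁻¹ᵁ W)
  · intro hdepth W
    have hdepthA : ∀ a : A, a ∉ f ⁻¹ᵁ V →
        2 ≤ LocCoh.depth (A.presheaf.stalk a) (A.presheaf.stalk a) := by
      intro a ha
      letI : Algebra (S.presheaf.stalk (f a)) (A.presheaf.stalk a) := (f.stalkMap a).hom.toAlgebra
      haveI : Module.Flat (S.presheaf.stalk (f a)) (A.presheaf.stalk a) :=
        AlgebraicGeometry.Flat.stalkMap f a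
      haveI : IsLocalHom (algebraMap (S.presheaf.stalk (f a)) (A.presheaf.stalk a)) :=
        inferInstanceAs (IsLocalHom (f.stalkMap a).hom)
      have h := Groth.Agent.Lib.Helper4.depth_self_eq_add (A := S.presheaf.stalk (f a))
        (B := A.presheaf.stalk a)
      rw [h]
      exact (hdepth (f a) ha).trans le_self_add
    exact Groth.Agent.Lib.Helper17.InvTransfer.bijective_res_of_isInvertible L hL (f ⁻¹ᵁ V)
      (fun W' => Groth.Agent.Lib.Helper5.Hartogs.bijective_of_depth (f ⁻¹ᵁ V) hdepthA W') (f ⁻¹ᵁ W)

end Groth.Agent.S14330
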