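import Groth.Statements.S14336
import Mathlib
import Groth.Agent.Lib.Helper7.FibLA
import Groth.Agent.Lib.Helper7.FibDim

set_option autoImplicit false
universe u
open CAlg

namespace Groth.Agent.S14336

/-- Let B be a Noetherian ring, K and K' finitely generated flat B-modules and φ : K → K' a B-linear
map; for a prime y of B write κ(y) for its residue field and φ_y for the base change κ(y) ⊗ K → κ(y)
⊗ K'. Then the function y ↦ dim_{κ(y)} Im(φ_y) on Spec B is lower semicontinuous. -/
theorem result (B : Type u) [CommRing B] [IsNoetherianRing B] (K K' : Type u) [AddCommGroup K] [Module B K] [Module.Finite B K] [Module.Flat B K] [AddCommGroup K'] [Module B K'] [Module.Finite B K'] [Module.Flat B K'] (φ : K →ₗ[B] K') : LowerSemicontinuous (fun y : PrimeSpectrum B => Module.finrank y.asIdeal.ResidueField ↥(LinearMap.range (φ.baseChange y.asIdeal.ResidueField))) := by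
  classical
  haveI : Module.FinitePresentation B K' := Module.finitePresentation_of_finite B K'
  have hlc : IsLocallyConstant (Module.rankAtStalk (R := B) K') :=
    Module.isLocallyConstant_rankAtStalk
  intro x c hc
  obtain ⟨U, hU, hxU, hle⟩ :=
    Groth.Agent.Lib.Helper7.fibDim_le_nhds (K' ⧸ LinearMap.range φ) x
  have hV : IsOpen (Module.rankAtStalk (R := B) K' ⁻¹' {Module.rankAtStalk K' x}) :=
    hlc.isOpen_fiber _
  refine Filter.mem_of_superset ((hU.inter hV).mem_nhds ⟨hxU, rfl⟩) ?_
  rintro y ⟨hyU, hyV⟩
  have h1 := Groth.Agent.Lib.Helper7.finrank_range_baseChange_add y.asIdeal.ResidueField φ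
    (LinearMap.range φ).mkQ (LinearMap.exact_map_mkQ_range φ) (Submodule.mkQ_surjective _)
  have h2 := Groth.Agent.Lib.Helper7.finrank_range_baseChange_add x.asIdeal.ResidueField φ
    (LinearMap.range φ).mkQ (LinearMap.exact_map_mkQ_range φ) (Submodule.mkQ_surjective _)
  have h3 := hle y hyU
  have h4 : Module.rankAtStalk K' y = Module.rankAtStalk K' x := hyV
  have h5 : Module.rankAtStalk K' y =
      Module.finrank y.asIdeal.ResidueField (TensorProduct B y.asIdeal.ResidueField K') :=
    Module.rankAtStalk_eq y
  have h6 : Module.rankAtStalk K' x =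
      Module.finrank x.asIdeal.ResidueField (TensorProduct B x.asIdeal.ResidueField K') :=
    Module.rankAtStalk_eq x
  unfold Groth.Agent.Lib.Helper7.fibDim at h3
  simp only [Set.mem_setOf_eq] at hc ⊢
  omega

end Groth.Agent.S14336
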