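import Groth.Statements.S14337
import Mathlib

set_option autoImplicit false
universe u
open scoped TensorProduct
open CAlg

namespace Groth.Agent.S14337

/-- Let B be a Noetherian ring, K and K' finitely generated flat B-modules and φ : K → K' a B-linear
map; for a prime y of B write κ(y) for its residue field and φ_y for the base change κ(y) ⊗ K → κ(y)
⊗ K'. If the cokernel K'/Im φ is a projective (locally free) B-module, then Im φ is projective, and
the formation of Im φ commutes with every base change: for every commutative B-algebra B' the map B'
⊗ Im φ → B' ⊗ K' induced by the inclusion is injective and its range is the range of the base change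
B' ⊗ K → B' ⊗ K' of φ. -/
theorem result (B : Type u) [CommRing B] [IsNoetherianRing B] (K K' : Type u) [AddCommGroup K] [Module B K] [Module.Finite B K] [Module.Flat B K] [AddCommGroup K'] [Module B K'] [Module.Finite B K'] [Module.Flat B K'] (φ : K →ₗ[B] K') (hc : Module.Projective B (K' ⧸ LinearMap.range φ)) : Module.Projective B ↥(LinearMap.range φ) ∧ ∀ (B' : Type u) [CommRing B'] [Algebra B B'], Function.Injective ((LinearMap.range φ).subtype.baseChange B') ∧ LinearMap.range ((LinearMap.range φ).subtype.baseChange B') = LinearMap.range (φ.baseChange B') := by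
  classical
  haveI : Module.FinitePresentation B K' := Module.finitePresentation_of_finite B K'
  haveI : Module.Projective B K' := Module.Flat.projective_of_finitePresentation
  obtain ⟨σ, hσ⟩ := Module.projective_lifting_property (LinearMap.range φ).mkQ LinearMap.id
    (Submodule.mkQ_surjective _)
  have hσ' : ∀ q, (LinearMap.range φ).mkQ (σ q) = q := fun q => congr($hσ q)
  let ρ : K' →ₗ[B] LinearMap.range φ :=
    LinearMap.codRestrict _ (LinearMap.id - σ ∘ₗ (LinearMap.range φ).mkQ) (fun x => by
      refine (Submodule.Quotient.mk_eq_zero (LinearMap.range φ)).mp ?_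
      change (LinearMap.range φ).mkQ _ = 0
      simp only [LinearMap.sub_apply, LinearMap.id_coe, id_eq, LinearMap.coe_comp,
        Function.comp_apply, map_sub]
      rw [hσ', sub_self])
  have hρ : ρ ∘ₗ (LinearMap.range φ).subtype = LinearMap.id := by
    ext ⟨x, hx⟩
    have h0 : (LinearMap.range φ).mkQ x = 0 := by
      rw [← LinearMap.mem_ker, Submodule.ker_mkQ]; exact hx
    simp [ρ, h0]
  refine ⟨Module.Projective.of_split (LinearMap.range φ).subtype ρ hρ, fun B' _ _ => ⟨?_, ?_⟩⟩
  · have h1 : (ρ.baseChange B') ∘ₗ ((LinearMap.range φ).subtype.baseChange B') = LinearMap.id := by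
      rw [← LinearMap.baseChange_comp, hρ, LinearMap.baseChange_id]
    exact Function.LeftInverse.injective (g := ρ.baseChange B') (fun x => congr($h1 x))
  · have hφ : φ = (LinearMap.range φ).subtype ∘ₗ φ.rangeRestrict := by
      ext x; rfl
    conv_rhs => rw [hφ, LinearMap.baseChange_comp, LinearMap.range_comp]
    have h2 : LinearMap.range (φ.rangeRestrict.baseChange B') = ⊤ := by
      rw [LinearMap.range_eq_top, LinearMap.baseChange_eq_ltensor]
      exact LinearMap.lTensor_surjective _ φ.surjective_rangeRestrict
    rw [h2, Submodule.map_top]

end Groth.Agent.S14337
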