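import Groth.Statements.S14338
import Mathlib
import Groth.Agent.Lib.Helper7.FibLA
import Groth.Agent.Lib.Helper12.FibreRank
import Groth.Agent.S14337

set_option autoImplicit false
universe u
open CAlg

namespace Groth.Agent.S14338

/-- Let B be a Noetherian ring, K and K' finitely generated flat B-modules and φ : K → K' a B-linear
map; for a prime y of B write κ(y) for its residue field and φ_y for the base change κ(y) ⊗ K → κ(y)
⊗ K'. Assume B is reduced and the number dim_{κ(y)} Im(φ_y) is the same for all primes y of B. Then
the cokernel K'/Im φ and the image Im φ are projective (locally free) B-modules. -/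
theorem result (B : Type u) [CommRing B] [IsNoetherianRing B] (K K' : Type u) [AddCommGroup K] [Module B K] [Module.Finite B K] [Module.Flat B K] [AddCommGroup K'] [Module B K'] [Module.Finite B K'] [Module.Flat B K'] (φ : K →ₗ[B] K') [IsReduced B] (hconst : ∃ c : ℕ, ∀ y : PrimeSpectrum B, Module.finrank y.asIdeal.ResidueField ↥(LinearMap.range (φ.baseChange y.asIdeal.ResidueField)) = c) : Module.Projective B (K' ⧸ LinearMap.range φ) ∧ Module.Projective B ↥(LinearMap.range φ) := by
  classical
  obtain ⟨c, hc⟩ := hconst
  haveI : Module.FinitePresentation B K' := Module.finitePresentation_of_finite B K'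
  haveI : Module.FinitePresentation B (K' ⧸ LinearMap.range φ) :=
    Module.finitePresentation_of_finite B _
  have hlc : IsLocallyConstant (Module.rankAtStalk (R := B) K') :=
    Module.isLocallyConstant_rankAtStalk
  have hproj : Module.Projective B (K' ⧸ LinearMap.range φ) := by
    rw [← Module.freeLocus_eq_univ_iff, Set.eq_univ_iff_forall]
    intro p
    refine Groth.Agent.Lib.Helper12.FibreRank.mem_freeLocus_of_fdim_eq _ p (fun q hq => ?_)
    have h1 := Groth.Agent.Lib.Helper7.finrank_range_baseChange_add q.asIdeal.ResidueField φ
      (LinearMap.range φ).mkQ (LinearMap.exact_map_mkQ_range φ) (Submodule.mkQ_surjective _)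
    have h2 := Groth.Agent.Lib.Helper7.finrank_range_baseChange_add p.asIdeal.ResidueField φ
      (LinearMap.range φ).mkQ (LinearMap.exact_map_mkQ_range φ) (Submodule.mkQ_surjective _)
    have h4 : Module.rankAtStalk K' q = Module.rankAtStalk K' p :=
      Groth.Agent.Lib.Helper12.FibreRank.eq_of_le_of_isLocallyConstant _ hlc hq
    have h5 : Module.rankAtStalk K' q =
        Module.finrank q.asIdeal.ResidueField (TensorProduct B q.asIdeal.ResidueField K') :=
      Module.rankAtStalk_eq q
    have h6 : Module.rankAtStalk K' p =
        Module.finrank p.asIdeal.ResidueField (TensorProduct B p.asIdeal.ResidueField K') :=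
      Module.rankAtStalk_eq p
    have h7 := hc q
    have h8 := hc p
    unfold Groth.Agent.Lib.Helper12.FibreRank.fdim
    omega
  exact ⟨hproj, (Groth.Agent.S14337.result B K K' φ hproj).1⟩

end Groth.Agent.S14338
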