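import Groth.Statements.S1434
-- import your own Groth.Agent.* helpers here

set_option autoImplicit false
universe u
open FlatMor

namespace Groth.Agent.S1434

open AlgebraicGeometry CategoryTheory Limits in
/-- On a first order thickening, the product of two sections vanishing on the thickened scheme is zero. -/
theorem mul_eq_zero_of_firstOrder {T T' : Scheme.{u}} (t : T ⟶ T') (ht : MoreMor.IsFirstOrderThickening t)
    (W : T'.Opens) (s s' : Γ(T', W)) (hs : t.app W s = 0) (hs' : t.app W s' = 0) : s * s' = 0 := by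
  have : IsClosedImmersion t := ht.1.1
  apply TopCat.Presheaf.section_ext T'.sheaf W
  intro x hx
  obtain ⟨V, hxV, hVW⟩ : ∃ V : T'.affineOpens, x ∈ V.1 ∧ V.1 ≤ W := by
    obtain ⟨_, ⟨V, hV, rfl⟩, hxV, hVW⟩ :=
      T'.isBasis_affineOpens.exists_subset_of_mem_open hx W.2
    exact ⟨⟨V, hV⟩, hxV, hVW⟩
  have key : ∀ r : Γ(T', W), t.app W r = 0 → T'.presheaf.map (homOfLE hVW).op r ∈ t.ker.ideal V := by
    intro r hr
    rw [Scheme.Hom.ker_apply, RingHom.mem_ker]
    have := congr($(t.naturality (homOfLE hVW).op) r)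
    simp only [CommRingCat.comp_apply] at this
    rw [this, hr, map_zero]
  have h3 : T'.presheaf.map (homOfLE hVW).op s * T'.presheaf.map (homOfLE hVW).op s' ∈
      (t.ker * t.ker).ideal V := by
    rw [Scheme.IdealSheafData.ideal_mul]
    exact Ideal.mul_mem_mul (key s hs) (key s' hs')
  rw [ht.2] at h3
  have h4 : T'.presheaf.map (homOfLE hVW).op (s * s') = 0 := by
    rw [map_mul]
    simpa using h3
  have h5 := congr(T'.presheaf.germ V.1 x hxV $h4)
  rw [map_zero] at h5
  change T'.presheaf.germ W x hx (s * s') = T'.presheaf.germ W x hx 0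
  rw [map_zero, ← h5]
  exact (T'.presheaf.germ_res_apply (homOfLE hVW) x hxV (s * s')).symm

open AlgebraicGeometry CategoryTheory Limits in
/-- Part (1), for a closed subscheme: let Z ⊂ X be the closed subscheme cut out by an ideal sheaf I and
Z' the one cut out by I², its first order infinitesimal neighbourhood. Given a first order
thickening T → T', a morphism a : T → Z and a morphism b : T' → X compatible with them, there is a
unique morphism T' → Z' through which b factors (compatibility with a is then automatic). -/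
theorem result {X T T' : Scheme.{u}} (I : X.IdealSheafData) (t : T ⟶ T') (ht : MoreMor.IsFirstOrderThickening t)
    (a : T ⟶ I.subscheme) (b : T' ⟶ X) (w : a ≫ I.subschemeι = t ≫ b) :
    ∃! a' : T' ⟶ (I ^ 2).subscheme, a' ≫ (I ^ 2).subschemeι = b := by
  have hle : I ^ 2 ≤ b.ker := by
    refine Scheme.IdealSheafData.le_ofIdeals_iff.mpr fun U => ?_
    rw [Scheme.IdealSheafData.ideal_pow, Pi.pow_apply, pow_two, Ideal.mul_le]
    intro x hx y hy
    rw [RingHom.mem_ker, map_mul]
    have key : ∀ z ∈ I.ideal U, t.app (b ⁻¹ᵁ U.1) (b.app U.1 z) = 0 := by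
      intro z hz
      have hι : (I.subschemeι.app U.1) z = 0 := by
        rw [← RingHom.mem_ker, Scheme.IdealSheafData.ker_subschemeι_app]; exact hz
      have h0 := Scheme.Hom.congr_app w.symm U.1
      have h1 := congr($h0 z)
      have h1' : t.app (b ⁻¹ᵁ U.1) (b.app U.1 z) = (T.presheaf.map (eqToHom (by rw [← Scheme.Hom.comp_preimage, ← Scheme.Hom.comp_preimage, w])).op)
          (a.app (I.subschemeι ⁻¹ᵁ U.1) (I.subschemeι.app U.1 z)) := h1
      rw [hι, map_zero, map_zero] at h1'
      exact h1'
    exact mul_eq_zero_of_firstOrder t ht _ _ _ (key x hx) (key y hy)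
  have hle' : (I ^ 2).subschemeι.ker ≤ b.ker := by rwa [Scheme.IdealSheafData.ker_subschemeι]
  refine ⟨IsClosedImmersion.lift (I ^ 2).subschemeι b hle', IsClosedImmersion.lift_fac _ _ _, ?_⟩
  intro a' ha'
  rw [← cancel_mono (I ^ 2).subschemeι, ha', IsClosedImmersion.lift_fac]

end Groth.Agent.S1434
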