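import Groth.Statements.S14341
-- import your own Groth.Agent.* helpers here
import Groth.Agent.Lib.Helper23.PtLin3
import Groth.Agent.Lib.Helper15.IrrStalk
import Groth.Agent.Lib.Helper26.RegularSch
import Groth.Agent.Lib.Helper26.RegularNormal

set_option autoImplicit false
universe u
open CategoryTheory CategoryTheory.Limits AlgebraicGeometry
open Curves

namespace Groth.Agent.S14341

/-- Let k be a field and X a smooth proper geometrically connected curve over k (of dimension one) of
genus dim_k H^1(X, O_X) = 1, with a k-rational point O (a closed point with residue field k); for a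
k-rational point P write I_P for the ideal sheaf of the reduced point P, an invertible ideal with
inverse O_X(P). Then for every invertible O_X-module L of degree 0 there is exactly one k-rational
point P with L ⊗ I_P ≅ I_O, that is L ≅ O_X(P − O): the map P ↦ O_X(P − O) is a bijection from X(k)
onto the isomorphism classes of invertible modules of degree zero. -/
theorem result (k : Type u) [Field k] (X : Scheme.{u}) [X.Over (Spec (CommRingCat.of k))] [IsProper (X ↘ Spec (CommRingCat.of k))] [Smooth (X ↘ Spec (CommRingCat.of k))] [GeometricallyConnected (X ↘ Spec (CommRingCat.of k))] (hX : topologicalKrullDim X = 1) (hg : Curv2.genus k X = 1) (O : X) (hOc : IsClosed ({O} : Set X)) (hO : Function.Bijective (Curv2.resMap k X O)) (L : X.Modules) (hL : PicF.IsInvertible L) (hdeg : Curv2.deg k X L 1 = 0) : ∃! P : {x : X // IsClosed ({x} : Set X) ∧ Function.Bijective (Curv2.resMap k X x)}, Nonempty (CohB1.tensorMod L (ClSub.idealMod (Scheme.IdealSheafData.vanishingIdeal ⟨{P.1}, P.2.1⟩)) ≅ ClSub.idealMod (Scheme.IdealSheafData.vanishingIdeal ⟨{O}, hOc⟩)) := by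
  classical
  haveI := Groth.Agent.Lib.Helper23.Curve.isNoetherian_of_isProper k (X := X)
  have hregloc : ∀ x : X, IsRegularLocalRing (X.presheaf.stalk x) := fun x =>
    Groth.Agent.Lib.Helper26.RegularSch.isRegularLocalRing_stalk_of_smooth_field k
      (X ↘ Spec (CommRingCat.of k)) x
  have hnorm : ∀ x : X, IsIntegrallyClosed (X.presheaf.stalk x) := fun x => by
    haveI := hregloc x
    exact Groth.Agent.Lib.Helper26.RegularNormal.isIntegrallyClosed_of_isRegularLocalRing _
  haveI : ConnectedSpace X :=
    GeometricallyConnected.connectedSpace_of_subsingleton (X ↘ Spec (CommRingCat.of k))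
  haveI : IsIntegral X :=
    (Groth.Agent.Lib.Helper15.NT.isIntegral_iff_connected_and_isDomain_stalk X).2
      ⟨inferInstance, fun x => by
        haveI := hregloc x
        exact Groth.Agent.Lib.Helper9.RegLocal.isDomain_of_isRegularLocalRing _⟩
  -- rationality in terms of the residue degree
  have hbij_iff : ∀ x : X, Function.Bijective (Curv2.resMap k X x) ↔
      (letI := Curv2.resAlgebra k X x; Module.finrank k (X.residueField x) = 1) := by
    intro x
    letI := Curv2.resAlgebra k X x
    constructor
    · intro hb
      have e : k ≃ₗ[k] X.residueField x :=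
        LinearEquiv.ofBijective (Algebra.linearMap k (X.residueField x)) hb
      rw [← e.finrank_eq, Module.finrank_self]
    · intro h1
      refine ⟨(Curv2.resMap k X x).injective, ?_⟩
      have h2 := Subalgebra.bot_eq_top_of_finrank_eq_one h1
      exact Algebra.surjective_algebraMap_iff.2 h2.symm
  obtain ⟨P, hPcl, hPrat, hPiso⟩ :=
    Groth.Agent.Lib.Helper23.PtDiv.exists_point_of_deg_zero k X hX (fun x _ => hnorm x) hg O hOc
      ((hbij_iff O).1 hO) L hL hdeg
  refine ⟨⟨P, hPcl, (hbij_iff P).2 hPrat⟩, hPiso, ?_⟩
  rintro ⟨P', hP'cl, hP'rat⟩ hP'iso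
  apply Subtype.ext
  exact Groth.Agent.Lib.Helper23.PtDiv.point_unique_of_deg_zero k X hX (fun x _ => hnorm x) hg _
    L hL P' P hP'cl hPcl ((hbij_iff P').1 hP'rat) hP'iso hPiso

end Groth.Agent.S14341
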