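import Groth.Statements.S14345
import Mathlib

set_option autoImplicit false
universe u v
open TensorProduct
open QuotLF

namespace Groth.Agent.S14345

open Polynomial Matrix in
theorem det_eq_zero_of_rel {L : Type*} [CommRing L] {n k : ℕ} (a : Matrix (Fin n) (Fin n) L)
    (q : Matrix (Fin n) (Fin k) L) (s : Matrix (Fin k) (Fin n) L) (hsq : s * q = 1) (j : ℕ)
    (hj : j < k)
    (hrel : ∀ i : Fin n, (i : ℕ) < n - j → ∀ l, (a * q) i l = 0) : a.det = 0 := by
  classical
  obtain ⟨Mx, hMx⟩ : ∃ Mx : Matrix (Fin n) (Fin n) L[X],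
      Mx = a.map C + ((X : L[X]) - 1) • ((a * q) * s).map C := ⟨_, rfl⟩
  have h1 : Mx = a.map C * (1 + (((X : L[X]) - 1) • q.map C) * s.map C) := by
    rw [hMx, Matrix.mul_add, Matrix.mul_one, Matrix.smul_mul, Matrix.mul_smul,
      Matrix.map_mul, Matrix.map_mul, Matrix.mul_assoc]
  have h2 : det (1 + (((X : L[X]) - 1) • q.map C) * s.map C) = (X : L[X]) ^ k := by
    rw [Matrix.det_one_add_mul_comm]
    have e1 : s.map C * (((X : L[X]) - 1) • q.map C) =
        ((X : L[X]) - 1) • (1 : Matrix (Fin k) (Fin k) L[X]) := by
      rw [Matrix.mul_smul, ← Matrix.map_mul, hsq, Matrix.map_one _ C.map_zero C.map_one]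
    rw [e1]
    have e2 : (1 : Matrix (Fin k) (Fin k) L[X]) + ((X : L[X]) - 1) • 1 = (X : L[X]) • 1 := by
      rw [sub_smul, one_smul]; abel
    rw [e2, Matrix.det_smul, det_one, Fintype.card_fin, mul_one]
  have h3 : Mx.det = C a.det * X ^ k := by
    rw [h1, det_mul, h2]
    congr 1
    exact (RingHom.map_det C a).symm
  have hentry : ∀ i l : Fin n, (Mx i l).natDegree ≤ if (i : ℕ) < n - j then 0 else 1 := by
    intro i l
    have hM : Mx i l = C (a i l) + ((X : L[X]) - 1) * C (((a * q) * s) i l) := by
      rw [hMx]
      simp only [Matrix.add_apply, Matrix.smul_apply, Matrix.map_apply, smul_eq_mul]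
    split_ifs with hi
    · have h0 : ((a * q) * s) i l = 0 := by
        rw [Matrix.mul_apply]
        exact Finset.sum_eq_zero (fun l' _ => by rw [hrel i hi l', zero_mul])
      rw [hM, h0]; simp
    · rw [hM]
      compute_degree
  have h4 : Mx.det.natDegree ≤ j := by
    rw [Matrix.det_apply']
    refine Polynomial.natDegree_sum_le_of_forall_le _ _ (fun σ _ => ?_)
    calc natDegree ((((Equiv.Perm.sign σ : ℤˣ) : ℤ) : L[X]) * ∏ i, Mx (σ i) i)
        ≤ natDegree (∏ i, Mx (σ i) i) := by
          refine (Polynomial.natDegree_mul_le).trans ?_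
          rw [natDegree_intCast, zero_add]
      _ ≤ ∑ i, natDegree (Mx (σ i) i) := Polynomial.natDegree_prod_le _ _
      _ ≤ ∑ i : Fin n, (if ((σ i : Fin n) : ℕ) < n - j then 0 else 1) :=
          Finset.sum_le_sum (fun i _ => hentry _ _)
      _ = ∑ i : Fin n, (if ((i : Fin n) : ℕ) < n - j then 0 else 1) :=
          Equiv.sum_comp σ (fun i : Fin n => if (i : ℕ) < n - j then 0 else 1)
      _ = ∑ i ∈ Finset.range n, (if i < n - j then 0 else 1) :=
          Fin.sum_univ_eq_sum_range (fun i => if i < n - j then 0 else 1) n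
      _ ≤ j := by
          rw [Finset.sum_ite, Finset.sum_const_zero, zero_add, Finset.sum_const, smul_eq_mul,
            mul_one]
          have hsub : (Finset.range n).filter (fun i => ¬ i < n - j) ⊆ Finset.Ico (n - j) n := by
            intro i hi
            rw [Finset.mem_filter, Finset.mem_range] at hi
            rw [Finset.mem_Ico]
            omega
          refine (Finset.card_le_card hsub).trans ?_
          rw [Nat.card_Ico]
          omega
  have h5 : (Mx.det).coeff k = 0 := coeff_eq_zero_of_natDegree_lt (lt_of_le_of_lt h4 hj)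
  rw [h3, coeff_C_mul, coeff_X_pow_self, mul_one] at h5
  exact h5

theorem det_eq_zero_of_basis {L : Type*} [CommRing L] {P : Type*} [AddCommGroup P] [Module L P]
    {n k : ℕ} (b : Module.Basis (Fin k) L P) (z : Fin n → P)
    (hz : Submodule.span L (Set.range z) = ⊤)
    (a : Matrix (Fin n) (Fin n) L) (j : ℕ) (hj : j < k)
    (hrel : ∀ i : Fin n, (i : ℕ) < n - j → ∑ l, a i l • z l = 0) : a.det = 0 := by
  classical
  have hs : ∀ l : Fin k, ∃ c : Fin n → L, ∑ i, c i • z i = b l := fun l =>
    (Submodule.mem_span_range_iff_exists_fun L).1 (hz ▸ Submodule.mem_top)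
  choose s hs using hs
  refine det_eq_zero_of_rel a (Matrix.of fun i l => b.repr (z i) l) (Matrix.of s) ?_ j hj ?_
  · ext l l'
    simp only [Matrix.mul_apply, Matrix.of_apply, Matrix.one_apply]
    have h := congrArg (fun w => b.repr w l') (hs l)
    simp only [map_sum, map_smul, Finsupp.coe_finsetSum, Finset.sum_apply, Finsupp.smul_apply,
      smul_eq_mul, Module.Basis.repr_self, Finsupp.single_apply] at h
    exact h
  · intro i hi l
    simp only [Matrix.mul_apply, Matrix.of_apply]
    have h := congrArg (fun w => b.repr w l) (hrel i hi)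
    simp only [map_sum, map_smul, Finsupp.coe_finsetSum, Finset.sum_apply, Finsupp.smul_apply,
      smul_eq_mul, map_zero, Finsupp.coe_zero, Pi.zero_apply] at h
    exact h

/-- Let R be a commutative ring, M a finitely generated R-module and k ≥ 0. If for an R-algebra A the
module A ⊗_R M admits a quotient that is finite projective of constant rank k (an A-valued point of
the Quot scheme of rank-k locally free quotients of M), then every Fitting ideal Fit_j(M) with j < k
extends to the zero ideal of A; that is, the structure map of the Quot scheme of rank-k locally free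
quotients factors through the closed subscheme cut out by Fit_{k-1}(M). -/
theorem result (R : Type u) [CommRing R]
    (M : Type v) [AddCommGroup M] [Module R M] [Module.Finite R M] (k : ℕ)
    (A : Type u) [CommRing A] [Algebra R A] (N : Module.Grassmannian A (A ⊗[R] M) k)
    (j : ℕ) (hj : j < k) :
    (Fitt.ideal R M j).map (algebraMap R A) = ⊥ := by
  classical
  rw [eq_bot_iff, Ideal.map_le_iff_le_comap, Fitt.ideal, Ideal.span_le]
  rintro d ⟨n, x, a, hx, hrel, rfl⟩
  simp only [SetLike.mem_coe, Ideal.mem_comap, Ideal.mem_bot]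
  refine eq_zero_of_localization _ (fun p hp => ?_)
  haveI := hp.isPrime
  haveI : Module.Free (Localization.AtPrime p)
      (LocalizedModule p.primeCompl ((A ⊗[R] M) ⧸ N.toSubmodule)) :=
    Module.free_of_flat_of_isLocalRing
  have hrank : Module.finrank (Localization.AtPrime p)
      (LocalizedModule p.primeCompl ((A ⊗[R] M) ⧸ N.toSubmodule)) = k :=
    N.rankAtStalk_eq ⟨p, inferInstance⟩
  let b : Module.Basis (Fin k) (Localization.AtPrime p)
      (LocalizedModule p.primeCompl ((A ⊗[R] M) ⧸ N.toSubmodule)) :=
    Module.finBasisOfFinrankEq _ _ hrank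
  let y : Fin n → A ⊗[R] M := fun i => (1 : A) ⊗ₜ[R] x i
  let π : (A ⊗[R] M) →ₗ[A] LocalizedModule p.primeCompl ((A ⊗[R] M) ⧸ N.toSubmodule) :=
    (LocalizedModule.mkLinearMap p.primeCompl ((A ⊗[R] M) ⧸ N.toSubmodule)) ∘ₗ N.toSubmodule.mkQ
  have hy : Submodule.span A (Set.range y) = ⊤ := by
    have h1 := Submodule.baseChange_span (R := R) (A := A) (Set.range x)
    rw [hx, Submodule.baseChange_top] at h1
    rw [h1]
    congr 1
    ext w
    simp [y]
  have hz : Submodule.span (Localization.AtPrime p) (Set.range fun i => π (y i)) = ⊤ := by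
    rw [eq_top_iff]
    intro w _
    induction w using LocalizedModule.induction_on with
    | h m t =>
      obtain ⟨m', rfl⟩ := N.toSubmodule.mkQ_surjective m
      obtain ⟨c, hc⟩ := (Submodule.mem_span_range_iff_exists_fun A).1
        (show m' ∈ Submodule.span A (Set.range y) from hy ▸ Submodule.mem_top)
      have e1 : LocalizedModule.mk (N.toSubmodule.mkQ m') t =
          (Localization.mk (1 : A) t : Localization.AtPrime p) • π m' := by
        change _ = Localization.mk (1 : A) t • LocalizedModule.mk (N.toSubmodule.mkQ m') 1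
        rw [LocalizedModule.mk_smul_mk, one_smul, mul_one]
      rw [e1]
      refine Submodule.smul_mem _ _ ?_
      rw [← hc, map_sum]
      refine Submodule.sum_mem _ (fun i _ => ?_)
      rw [map_smul, ← algebraMap_smul (Localization.AtPrime p) (c i) (π (y i))]
      exact Submodule.smul_mem _ _ (Submodule.subset_span ⟨i, rfl⟩)
  have key := det_eq_zero_of_basis b (fun i => π (y i)) hz
    ((algebraMap A (Localization.AtPrime p)).mapMatrix ((algebraMap R A).mapMatrix a)) j hj ?_
  · rw [← RingHom.map_det, ← RingHom.map_det] at key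
    exact key
  · intro i hi
    simp only [RingHom.mapMatrix_apply, Matrix.map_apply]
    have h1 : ∑ l, algebraMap R A (a i l) • y l = 0 := by
      have h2 : ∑ l, algebraMap R A (a i l) • y l = (1 : A) ⊗ₜ[R] (∑ l, a i l • x l) := by
        rw [TensorProduct.tmul_sum]
        refine Finset.sum_congr rfl (fun l _ => ?_)
        simp only [y]
        rw [TensorProduct.smul_tmul', TensorProduct.tmul_smul, TensorProduct.smul_tmul',
          smul_eq_mul, mul_one, Algebra.smul_def, mul_one]
      rw [h2, hrel i hi, TensorProduct.tmul_zero]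
    have h3 := congrArg π h1
    rw [map_sum, map_zero] at h3
    rw [← h3]
    refine Finset.sum_congr rfl (fun l _ => ?_)
    rw [map_smul, algebraMap_smul]

end Groth.Agent.S14345
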