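import Groth.Statements.S14347
import Mathlib
import Groth.Agent.Lib.Helper18.FittLib3

set_option autoImplicit false
universe u
open QuotLF

namespace Groth.Agent.S14347

open Groth.Agent.Lib.Helper18

/-- Let R be a commutative ring and σ : R^m → R^n an injective linear map with cokernel M, so that M has
a length-one resolution by finite free modules and rank δ = n − m; let K be the cokernel of the dual
map (R^n)^∨ → (R^m)^∨, which is the module Ext¹_R(M, R). Then the Fitting ideals satisfy Fit_{δ +
j}(M) = Fit_j(K) for all j ≥ 0, and Fit_i(M) = 0 for i < δ (the degeneracy loci of M and of K agree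
after the shift by δ). -/
theorem result (R : Type u) [CommRing R] (m n : ℕ)
    (σ : (Fin m → R) →ₗ[R] (Fin n → R)) (hσ : Function.Injective σ) :
    (∀ j : ℕ, Fitt.ideal R ((Fin n → R) ⧸ LinearMap.range σ) (n - m + j) =
        Fitt.ideal R (Module.Dual R (Fin m → R) ⧸ LinearMap.range σ.dualMap) j) ∧
      ∀ i : ℕ, i < n - m → Fitt.ideal R ((Fin n → R) ⧸ LinearMap.range σ) i = ⊥ := by
  classical
  rcases subsingleton_or_nontrivial R with hR | hR
  · have hall : ∀ I J : Ideal R, I = J := fun I J =>
      Ideal.ext fun x => by rw [Subsingleton.elim x 0]; simp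
    exact ⟨fun j => hall _ _, fun i _ => hall _ _⟩
  have hmn : m ≤ n := le_of_fin_injective R σ hσ
  set A : Matrix (Fin n) (Fin m) R := Matrix.of fun i j => σ (Pi.single j 1) i with hA
  have hσv : ∀ v : Fin m → R, σ v = ∑ j, v j • σ (Pi.single j 1) := by
    intro v
    conv_lhs => rw [← FittLib.sum_smul_single v]
    rw [map_sum]
    simp only [map_smul]
  -- the module M
  set N := LinearMap.range σ with hN
  let x : Fin n → ((Fin n → R) ⧸ N) := fun i => N.mkQ (Pi.single i 1)
  have hlc : ∀ z : Fin n → R, Fintype.linearCombination R x z = N.mkQ z := by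
    intro z
    rw [Fintype.linearCombination_apply]
    conv_rhs => rw [← FittLib.sum_smul_single z]
    rw [map_sum]
    simp only [map_smul, x]
  have hx : Submodule.span R (Set.range x) = ⊤ := by
    rw [← Fintype.range_linearCombination, LinearMap.range_eq_top]
    intro q
    obtain ⟨z, rfl⟩ := N.mkQ_surjective q
    exact ⟨z, hlc z⟩
  have hker1 : Submodule.span R (Set.range fun j => A.transpose j)
      = LinearMap.ker (Fintype.linearCombination R x) := by
    have h1 : LinearMap.ker (Fintype.linearCombination R x) = N := by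
      ext z
      rw [LinearMap.mem_ker, hlc, Submodule.mkQ_apply, Submodule.Quotient.mk_eq_zero]
    rw [h1, hN]
    have h2 : (Set.range fun j => A.transpose j) = σ '' (Set.range fun j : Fin m => (Pi.single j (1 : R) : Fin m → R)) := by
      rw [← Set.range_comp]
      congr 1
    rw [h2, ← Submodule.map_span, FittLib.span_range_single, Submodule.map_top]
  have fittM : ∀ k, Fitt.ideal R ((Fin n → R) ⧸ N) k = FittLib.matMinorIdeal A (n - k) := by
    intro k
    rw [FittLib.fitt_eq_matMinorIdeal x hx A.transpose hker1 k, FittLib.matMinorIdeal_transpose]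
  -- the module K
  set N' := LinearMap.range σ.dualMap with hN'
  let y : Fin m → (Module.Dual R (Fin m → R) ⧸ N') := fun j => N'.mkQ (LinearMap.proj j)
  have hlc' : ∀ w : Fin m → R, Fintype.linearCombination R y w
      = N'.mkQ (∑ j, w j • (LinearMap.proj j : (Fin m → R) →ₗ[R] R)) := by
    intro w
    rw [Fintype.linearCombination_apply, map_sum]
    simp only [map_smul, y]
  have hy : Submodule.span R (Set.range y) = ⊤ := by
    rw [← Fintype.range_linearCombination, LinearMap.range_eq_top]
    intro q
    obtain ⟨φ, rfl⟩ := N'.mkQ_surjective q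
    refine ⟨fun j => φ (Pi.single j 1), ?_⟩
    rw [hlc']
    congr 1
    exact (FittLib.dual_eq_sum φ).symm
  have hrow : ∀ i : Fin n, (∑ j, A i j • (LinearMap.proj j : (Fin m → R) →ₗ[R] R))
      = σ.dualMap (LinearMap.proj i) := by
    intro i
    refine LinearMap.ext fun v => ?_
    rw [LinearMap.sum_apply, LinearMap.dualMap_apply, LinearMap.proj_apply, hσv v,
      Finset.sum_apply]
    refine Finset.sum_congr rfl fun j _ => ?_
    simp [hA, mul_comm]
  have hker2 : Submodule.span R (Set.range fun i => A i)
      = LinearMap.ker (Fintype.linearCombination R y) := by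
    apply le_antisymm
    · refine Submodule.span_le.2 ?_
      rintro _ ⟨i, rfl⟩
      show A i ∈ LinearMap.ker _
      rw [LinearMap.mem_ker, hlc', Submodule.mkQ_apply, Submodule.Quotient.mk_eq_zero, hrow i]
      exact ⟨_, rfl⟩
    · intro w hw
      rw [LinearMap.mem_ker, hlc', Submodule.mkQ_apply, Submodule.Quotient.mk_eq_zero] at hw
      obtain ⟨φ, hφ⟩ := hw
      have hw2 : w = ∑ i, φ (Pi.single i 1) • A i := by
        funext j
        have h1 := congrArg (fun ψ : (Fin m → R) →ₗ[R] R => ψ (Pi.single j 1)) hφ
        simp only [LinearMap.dualMap_apply, LinearMap.sum_apply, LinearMap.smul_apply,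
          LinearMap.proj_apply, smul_eq_mul, Pi.single_apply] at h1
        rw [Finset.sum_apply]
        have h2 : ∑ x : Fin m, w x * (if x = j then (1 : R) else 0) = w j := by
          simp
        rw [h2] at h1
        rw [← h1]
        conv_lhs => rw [← FittLib.sum_smul_single (σ (Pi.single j 1)), map_sum]
        refine Finset.sum_congr rfl fun i _ => ?_
        simp [hA, mul_comm]
      rw [hw2]
      exact Submodule.sum_mem _ fun i _ =>
        Submodule.smul_mem _ _ (Submodule.subset_span ⟨i, rfl⟩)
  have fittK : ∀ k, Fitt.ideal R (Module.Dual R (Fin m → R) ⧸ N') k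
      = FittLib.matMinorIdeal A (m - k) := fun k =>
    FittLib.fitt_eq_matMinorIdeal y hy A hker2 k
  refine ⟨fun j => ?_, fun i hi => ?_⟩
  · rw [fittM, fittK]
    congr 1
    omega
  · rw [fittM]
    exact FittLib.matMinorIdeal_eq_bot_of_card_lt A (by simp; omega)

end Groth.Agent.S14347
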