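import Groth.Statements.S1435
-- import your own Groth.Agent.* helpers here
import Mathlib
import Groth.Agent.Lib.Helper12.AffStrat2
import Groth.Agent.S0590

set_option autoImplicit false
universe u
open FlatMor

namespace Groth.Agent.S1435

open AlgebraicGeometry CategoryTheory Limits in
/-- A scheme has a finite affine stratification if and only if it is quasi-compact and quasi-separated. -/
theorem result (X : Scheme.{u}) :
    (∃ n : ℕ, MoreMor.HasAffineStratification X n) ↔ CompactSpace ↑X ∧ QuasiSeparatedSpace ↑X := by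
  constructor
  · rintro ⟨n, hn⟩
    exact ⟨Groth.Agent.Lib.Helper12.AffStrat2.compactSpace_of_hasAffineStratification X n hn,
      Groth.Agent.Lib.Helper12.AffStrat2.quasiSeparatedSpace_of_hasAffineStratification X n hn⟩
  · rintro ⟨h1, h2⟩
    obtain ⟨I, _, _, _, D, c, hc, htrans, hD, ⟨e⟩⟩ := Groth.Agent.S0590.result X
    haveI : ∀ {i j : Iᵒᵖ} (f : i ⟶ j), IsAffineHom (D.map f) := fun f => htrans _ _ f
    obtain ⟨i⟩ : Nonempty I := inferInstance
    haveI : IsAffineHom (c.π.app (Opposite.op i)) := isAffineHom_π_app D c hc (Opposite.op i)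
    haveI : CompactSpace (D.obj (Opposite.op i)) := (hD _).1
    haveI : LocallyOfFiniteType (Limits.IsTerminal.from AlgebraicGeometry.specULiftZIsTerminal (D.obj (Opposite.op i))) :=
      (hD _).2
    haveI : IsNoetherianRing (ULift.{u} ℤ) := isNoetherianRing_of_ringEquiv ℤ ULift.ringEquiv.symm
    haveI : IsLocallyNoetherian (D.obj (Opposite.op i)) :=
      LocallyOfFiniteType.isLocallyNoetherian
        (Limits.IsTerminal.from AlgebraicGeometry.specULiftZIsTerminal (D.obj (Opposite.op i)))
    haveI : IsNoetherian (D.obj (Opposite.op i)) := {}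
    obtain ⟨n, hn⟩ :=
      Groth.Agent.Lib.Helper12.AffStrat2.exists_hasAffineStratification_of_isNoetherian
        (D.obj (Opposite.op i))
    exact ⟨n, Groth.Agent.Lib.Helper12.AffStrat2.hasAffineStratification_of_isAffineHom
      (e.inv ≫ c.π.app (Opposite.op i)) n hn⟩

end Groth.Agent.S1435
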