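import Groth.Statements.S14351
import Mathlib

set_option autoImplicit false
universe u
open CAlg

namespace Groth.Agent.S14351

/-- For ring maps A → B → C with C faithfully flat over B and C faithfully flat over A, the ring B is
faithfully flat over A. -/
theorem result (A B C : Type u) [CommRing A] [CommRing B]
    [CommRing C] [Algebra A B] [Algebra B C] [Algebra A C] [IsScalarTower A B C]
    [Module.FaithfullyFlat B C] [Module.FaithfullyFlat A C] : Module.FaithfullyFlat A B := by
  have hflat : Module.Flat A B := by
    rw [Module.Flat.iff_lTensor_preserves_injective_linearMap]
    intro N P _ _ _ _ f hf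
    have h1 : Function.Injective (f.lTensor C) :=
      Module.Flat.lTensor_preserves_injective_linearMap f hf
    let f' : TensorProduct A B N →ₗ[B] TensorProduct A B P := TensorProduct.AlgebraTensorModule.lTensor B B f
    have key : ∀ x, TensorProduct.AlgebraTensorModule.cancelBaseChange A B C C P (f'.lTensor C x) =
        (f.lTensor C) (TensorProduct.AlgebraTensorModule.cancelBaseChange A B C C N x) := by
      intro x
      have := congr($(TensorProduct.AlgebraTensorModule.lTensor_comp_cancelBaseChange
        (R := A) (A := B) (B := C) (M := C) f) x)
      simpa using this.symm
    have h2 : Function.Injective (f'.lTensor C) := by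
      intro x y hxy
      have := congrArg (TensorProduct.AlgebraTensorModule.cancelBaseChange A B C C P) hxy
      rw [key, key] at this
      exact (TensorProduct.AlgebraTensorModule.cancelBaseChange A B C C N).injective (h1 this)
    have h3 : Function.Injective f' :=
      (Module.FaithfullyFlat.lTensor_injective_iff_injective B C f').mp h2
    exact h3
  rw [Module.FaithfullyFlat.iff_flat_and_lTensor_reflects_triviality]
  refine ⟨hflat, fun N _ _ hN => ?_⟩
  have h1 : Subsingleton (TensorProduct B C (TensorProduct A B N)) := inferInstance
  have h2 : Subsingleton (TensorProduct A C N) :=
    (TensorProduct.AlgebraTensorModule.cancelBaseChange A B C C N).symm.injective.subsingleton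
  exact Module.FaithfullyFlat.lTensor_reflects_triviality A C N

end Groth.Agent.S14351
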