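import Groth.Statements.S14353
import Mathlib
import Groth.Agent.Lib.Helper1.MLSys3

set_option autoImplicit false
universe u
open CategoryTheory CategoryTheory.Limits CategoryTheory.MonoidalCategory
open CAlg

namespace Groth.Agent.S14353

open CategoryTheory CategoryTheory.Limits MonoidalCategory TensorProduct Opposite

section
variable {R : Type u} [CommRing R]

theorem ml_of_artinian_nat (F : ℕᵒᵖ ⥤ ModuleCat.{u} R)
    (hF : ∀ i, IsArtinian R (F.obj i)) :
    (F ⋙ forget (ModuleCat.{u} R)).IsMittagLeffler := by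
  intro j
  haveI := hF j
  let S : Set (Submodule R (F.obj j)) :=
    {M | ∃ (i : ℕᵒᵖ) (f : i ⟶ j), M = LinearMap.range (F.map f).hom}
  have hS : S.Nonempty := ⟨_, j, 𝟙 j, rfl⟩
  obtain ⟨M₀, ⟨i₀, f₀, rfl⟩, hmin⟩ := IsArtinian.set_has_minimal S hS
  refine ⟨i₀, f₀, fun k g => ?_⟩
  obtain ⟨l, a, b, _⟩ := IsCofilteredOrEmpty.cone_objs i₀ k
  have hcomm : a ≫ f₀ = b ≫ g := Quiver.Hom.unop_inj (Subsingleton.elim _ _)
  have hle : LinearMap.range (F.map (a ≫ f₀)).hom ≤ LinearMap.range (F.map f₀).hom := by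
    rintro _ ⟨x, rfl⟩
    refine ⟨(F.map a).hom x, ?_⟩
    rw [F.map_comp]
    rfl
  have heq : LinearMap.range (F.map (a ≫ f₀)).hom = LinearMap.range (F.map f₀).hom := by
    by_contra hne
    exact hmin _ ⟨l, a ≫ f₀, rfl⟩ (lt_of_le_of_ne hle hne)
  rintro _ ⟨x, rfl⟩
  have hx : (F.map f₀).hom x ∈ LinearMap.range (F.map (a ≫ f₀)).hom := by
    rw [heq]
    exact ⟨x, rfl⟩
  obtain ⟨y, hy⟩ := hx
  refine ⟨(F.map b).hom y, ?_⟩
  show (F.map g).hom ((F.map b).hom y) = (F.map f₀).hom x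
  rw [← hy, hcomm, F.map_comp]
  rfl

theorem lift_lemma {B C : ℕᵒᵖ ⥤ ModuleCat.{u} R} (b : B ⟶ C)
    (hB : ∀ i, IsArtinian R (B.obj i))
    (x : ∀ i : ℕᵒᵖ, C.obj i) (hxc : ∀ {i j : ℕᵒᵖ} (f : i ⟶ j), (C.map f).hom (x i) = x j)
    (hx : ∀ i, ∃ y : B.obj i, (b.app i).hom y = x i) :
    ∃ y : ∀ i : ℕᵒᵖ, B.obj i, (∀ {i j : ℕᵒᵖ} (f : i ⟶ j), (B.map f).hom (y i) = y j) ∧
      ∀ i, (b.app i).hom (y i) = x i := by
  classical
  let S : ShortComplex (ℕᵒᵖ ⥤ ModuleCat.{u} R) :=
    ShortComplex.mk (kernel.ι b) b (kernel.condition b)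
  have hS : S.Exact := ShortComplex.exact_kernel b
  have hlev : ∀ i : ℕᵒᵖ, Function.Injective ((kernel.ι b).app i).hom ∧
      LinearMap.range ((kernel.ι b).app i).hom = LinearMap.ker (b.app i).hom := by
    intro i
    have h1 : (S.map ((evaluation ℕᵒᵖ (ModuleCat.{u} R)).obj i)).Exact := hS.map _
    haveI : Mono ((kernel.ι b).app i) := by
      have : Mono (((evaluation ℕᵒᵖ (ModuleCat.{u} R)).obj i).map (kernel.ι b)) := inferInstance
      exact this
    exact ⟨(ModuleCat.mono_iff_injective _).mp inferInstance,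
      (ShortComplex.moduleCat_exact_iff_range_eq_ker _).mp h1⟩
  have hKart : ∀ i, IsArtinian R ((kernel b).obj i) := fun i =>
    haveI := hB i
    isArtinian_of_injective ((kernel.ι b).app i).hom (hlev i).1
  have hML := ml_of_artinian_nat (kernel b) hKart
  let F₂ := forget₂ (ModuleCat.{u} R) AddCommGrpCat.{u}
  let a' : kernel b ⋙ F₂ ⟶ B ⋙ F₂ := Functor.whiskerRight (kernel.ι b) F₂
  let b' : B ⋙ F₂ ⟶ C ⋙ F₂ := Functor.whiskerRight b F₂
  have hB' : ∀ i, (b'.app i).hom.ker = (a'.app i).hom.range := by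
    intro i
    ext y
    constructor
    · intro hy
      have h2 : y ∈ LinearMap.ker (b.app i).hom := hy
      rw [← (hlev i).2] at h2
      obtain ⟨w, hw⟩ := h2
      exact ⟨w, hw⟩
    · rintro ⟨w, rfl⟩
      have h2 : ((kernel.ι b).app i).hom w ∈ LinearMap.ker (b.app i).hom := by
        rw [← (hlev i).2]; exact ⟨w, rfl⟩
      exact h2
  have hA' : ((kernel b ⋙ F₂) ⋙ forget AddCommGrpCat).IsMittagLeffler := hML
  let xs : ((C ⋙ F₂) ⋙ forget AddCommGrpCat).sections := ⟨x, fun f => hxc f⟩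
  obtain ⟨y, hy⟩ := Groth.Agent.Lib.Helper1.MLSys.sections_lift a' b' hB' hA' xs hx
  exact ⟨y.1, fun f => y.2 f, hy⟩

noncomputable def tL (F : ℕᵒᵖ ⥤ ModuleCat.{u} R) :
    IsLimit ((forget (ModuleCat.{u} R)).mapCone (limit.cone F)) :=
  isLimitOfPreserves _ (limit.isLimit F)

theorem extL (F : ℕᵒᵖ ⥤ ModuleCat.{u} R) (x x' : (limit F : ModuleCat.{u} R))
    (h : ∀ j, (limit.π F j).hom x = (limit.π F j).hom x') : x = x' := by
  apply (Types.isLimitEquivSections (tL F)).injective
  apply Subtype.ext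
  funext j
  exact h j

theorem mkL (F : ℕᵒᵖ ⥤ ModuleCat.{u} R) (y : ∀ j : ℕᵒᵖ, F.obj j)
    (hy : ∀ {i j : ℕᵒᵖ} (f : i ⟶ j), (F.map f).hom (y i) = y j) :
    ∃ x : (limit F : ModuleCat.{u} R), ∀ j, (limit.π F j).hom x = y j := by
  let ys : (F ⋙ forget (ModuleCat.{u} R)).sections := ⟨y, fun f => hy f⟩
  refine ⟨(Types.isLimitEquivSections (tL F)).symm ys, fun j => ?_⟩
  exact Types.isLimitEquivSections_symm_apply (tL F) ys j

theorem artinian_tensor_pi (X : Type u) [AddCommGroup X] [Module R X] [IsArtinian R X] (n : ℕ) :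
    IsArtinian R (X ⊗[R] (Fin n → R)) :=
  isArtinian_of_surjective _ (TensorProduct.piScalarRight R R X (Fin n)).symm.toLinearMap
    (TensorProduct.piScalarRight R R X (Fin n)).symm.surjective

theorem piScalarRight_rTensor {X Y : Type u} [AddCommGroup X] [Module R X] [AddCommGroup Y]
    [Module R Y] (f : X →ₗ[R] Y) (n : ℕ) (t : X ⊗[R] (Fin n → R)) (i : Fin n) :
    TensorProduct.piScalarRight R R Y (Fin n) (f.rTensor (Fin n → R) t) i =
      f (TensorProduct.piScalarRight R R X (Fin n) t i) := by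
  induction t using TensorProduct.induction_on with
  | zero => simp
  | tmul x c =>
    rw [LinearMap.rTensor_tmul, TensorProduct.piScalarRight_apply,
      TensorProduct.piScalarRightHom_tmul, TensorProduct.piScalarRight_apply,
      TensorProduct.piScalarRightHom_tmul, map_smul]
  | add t t' h h' =>
    rw [map_add, map_add, Pi.add_apply, h, h', map_add, Pi.add_apply, map_add]

theorem rl_comm {X Y P Q : Type u} [AddCommGroup X] [Module R X] [AddCommGroup Y] [Module R Y]
    [AddCommGroup P] [Module R P] [AddCommGroup Q] [Module R Q]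
    (f : X →ₗ[R] Y) (p : P →ₗ[R] Q) (t : X ⊗[R] P) :
    f.rTensor Q (p.lTensor X t) = p.lTensor Y (f.rTensor P t) := by
  rw [← LinearMap.comp_apply, ← LinearMap.comp_apply, LinearMap.rTensor_comp_lTensor,
    LinearMap.lTensor_comp_rTensor]

variable (M : ℕᵒᵖ ⥤ ModuleCat.{u} R)

theorem P_inj (n : ℕ) (t : (limit M : ModuleCat.{u} R) ⊗[R] (Fin n → R))
    (h : ∀ j, (limit.π M j).hom.rTensor (Fin n → R) t = 0) : t = 0 := by
  have h1 : TensorProduct.piScalarRight R R (limit M : ModuleCat.{u} R) (Fin n) t = 0 := by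
    funext i
    apply extL M
    intro j
    rw [← piScalarRight_rTensor, h j]
    simp
  have h2 := congrArg (TensorProduct.piScalarRight R R (limit M : ModuleCat.{u} R) (Fin n)).symm h1
  rw [LinearEquiv.symm_apply_apply, map_zero] at h2
  exact h2

theorem P_surj (n : ℕ) (t : ∀ j : ℕᵒᵖ, (M.obj j) ⊗[R] (Fin n → R))
    (ht : ∀ {i j : ℕᵒᵖ} (f : i ⟶ j), (M.map f).hom.rTensor (Fin n → R) (t i) = t j) :
    ∃ τ : (limit M : ModuleCat.{u} R) ⊗[R] (Fin n → R),
      ∀ j, (limit.π M j).hom.rTensor (Fin n → R) τ = t j := by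
  have hex : ∀ i : Fin n, ∃ ξ : (limit M : ModuleCat.{u} R), ∀ j, (limit.π M j).hom ξ =
      TensorProduct.piScalarRight R R (M.obj j) (Fin n) (t j) i := by
    intro i
    apply mkL M (fun j => TensorProduct.piScalarRight R R (M.obj j) (Fin n) (t j) i)
    intro j j' f
    rw [← piScalarRight_rTensor, ht f]
  choose ξ hξ using hex
  refine ⟨(TensorProduct.piScalarRight R R (limit M : ModuleCat.{u} R) (Fin n)).symm ξ, fun j => ?_⟩
  apply (TensorProduct.piScalarRight R R (M.obj j) (Fin n)).injective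
  funext i
  rw [piScalarRight_rTensor, LinearEquiv.apply_symm_apply, hξ]

end


/-- For a commutative ring R, an inverse system (M_n)_{n ∈ ℕ} of R-modules of finite length and a
finitely presented R-module N, the canonical comparison map (lim_n M_n) ⊗_R N ⟶ lim_n (M_n ⊗_R N) is
an isomorphism. (The published statement takes N = R/I for a finitely generated ideal I; the
argument covers every finitely presented N, which is the form stated here.) -/
theorem result (R : Type u) [CommRing R]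
    (M : ℕᵒᵖ ⥤ ModuleCat.{u} R) (hM : ∀ n : ℕᵒᵖ, IsFiniteLength R (M.obj n))
    (N : Type u) [AddCommGroup N] [Module R N] [Module.FinitePresentation R N] :
    IsIso (limit.post M (tensorRight (ModuleCat.of R N))) := by
  classical
  obtain ⟨n, a, p, κ, hp, hex⟩ := Module.FinitePresentation.exists_fin' R N
  have hart : ∀ j : ℕᵒᵖ, IsArtinian R (M.obj j) := fun j =>
    (isFiniteLength_iff_isNoetherian_isArtinian.mp (hM j)).2
  let Pn : ModuleCat.{u} R := ModuleCat.of R (Fin n → R)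
  let Pa : ModuleCat.{u} R := ModuleCat.of R (Fin a → R)
  let NN : ModuleCat.{u} R := ModuleCat.of R N
  let ψ : tensorRight Pn ⟶ tensorRight NN := (tensoringRight (ModuleCat.{u} R)).map (ModuleCat.ofHom p)
  let ρ : tensorRight Pa ⟶ tensorRight Pn := (tensoringRight (ModuleCat.{u} R)).map (ModuleCat.ofHom κ)
  have hartn : ∀ j : ℕᵒᵖ, IsArtinian R ((M ⋙ tensorRight Pn).obj j) := fun j =>
    haveI := hart j
    artinian_tensor_pi (M.obj j) n
  have harta : ∀ j : ℕᵒᵖ, IsArtinian R ((M ⋙ tensorRight Pa).obj j) := fun j =>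
    haveI := hart j
    artinian_tensor_pi (M.obj j) a
  have hπ : ∀ (j : ℕᵒᵖ) (z : (limit M : ModuleCat.{u} R) ⊗[R] N),
      (limit.π (M ⋙ tensorRight NN) j).hom ((limit.post M (tensorRight NN)).hom z) =
        (limit.π M j).hom.rTensor N z := by
    intro j z
    have h := congrArg (fun g => g.hom z) (limit.post_π M (tensorRight NN) j)
    exact h
  have hcompat : ∀ (P : Type u) [AddCommGroup P] [Module R P] {i j : ℕᵒᵖ} (f : i ⟶ j)
      (t : (limit M : ModuleCat.{u} R) ⊗[R] P),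
      (M.map f).hom.rTensor P ((limit.π M i).hom.rTensor P t) = (limit.π M j).hom.rTensor P t := by
    intro P _ _ i j f t
    rw [← LinearMap.comp_apply, ← LinearMap.rTensor_comp]
    have h : (M.map f).hom ∘ₗ (limit.π M i).hom = (limit.π M j).hom := by
      rw [← limit.w M f]; rfl
    rw [h]
  refine (ConcreteCategory.isIso_iff_bijective _).mpr ⟨?_, ?_⟩
  · -- injective
    refine (injective_iff_map_eq_zero (limit.post M (tensorRight NN)).hom).mpr ?_
    intro z hz
    have hzj : ∀ j, (limit.π M j).hom.rTensor N z = 0 := by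
      intro j
      rw [← hπ j z, hz, map_zero]
    obtain ⟨t, ht⟩ := LinearMap.lTensor_surjective (limit M : ModuleCat.{u} R) hp z
    have htj : ∀ j, p.lTensor (M.obj j) ((limit.π M j).hom.rTensor (Fin n → R) t) = 0 := by
      intro j
      rw [← rl_comm, ht, hzj j]
    have hrange : ∀ j : ℕᵒᵖ, ∃ y : (M ⋙ tensorRight Pa).obj j,
        ((Functor.whiskerLeft M ρ).app j).hom y = (limit.π M j).hom.rTensor (Fin n → R) t := by
      intro j
      obtain ⟨w, hw⟩ := (lTensor_exact (M.obj j) hex hp _).mp (htj j)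
      exact ⟨w, hw⟩
    obtain ⟨s, hs1, hs2⟩ := lift_lemma (Functor.whiskerLeft M ρ) harta
      (fun j => (limit.π M j).hom.rTensor (Fin n → R) t)
      (fun {i j} f => hcompat (Fin n → R) f t) hrange
    obtain ⟨σ, hσ⟩ := P_surj M a s (fun {i j} f => hs1 f)
    have h3 : κ.lTensor (limit M : ModuleCat.{u} R) σ - t = 0 := by
      apply P_inj M n
      intro j
      rw [map_sub, rl_comm, hσ j, sub_eq_zero]
      exact hs2 j
    have h4 : t = κ.lTensor (limit M : ModuleCat.{u} R) σ := (sub_eq_zero.mp h3).symm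
    rw [← ht, h4, ← LinearMap.comp_apply, ← LinearMap.lTensor_comp, hex.linearMap_comp_eq_zero,
      LinearMap.lTensor_zero, LinearMap.zero_apply]
  · -- surjective
    intro y
    have hyc : ∀ {i j : ℕᵒᵖ} (f : i ⟶ j), ((M ⋙ tensorRight NN).map f).hom
        ((limit.π (M ⋙ tensorRight NN) i).hom y) = (limit.π (M ⋙ tensorRight NN) j).hom y := by
      intro i j f
      have h := congrArg (fun g => g.hom y) (limit.w (M ⋙ tensorRight NN) f)
      exact h
    have hrange : ∀ j : ℕᵒᵖ, ∃ w : (M ⋙ tensorRight Pn).obj j,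
        ((Functor.whiskerLeft M ψ).app j).hom w = (limit.π (M ⋙ tensorRight NN) j).hom y := by
      intro j
      obtain ⟨w, hw⟩ := LinearMap.lTensor_surjective (M.obj j) hp
        ((limit.π (M ⋙ tensorRight NN) j).hom y)
      exact ⟨w, hw⟩
    obtain ⟨t, ht1, ht2⟩ := lift_lemma (Functor.whiskerLeft M ψ) hartn
      (fun j => (limit.π (M ⋙ tensorRight NN) j).hom y) (fun {i j} f => hyc f) hrange
    obtain ⟨τ, hτ⟩ := P_surj M n t (fun {i j} f => ht1 f)
    refine ⟨p.lTensor (limit M : ModuleCat.{u} R) τ, ?_⟩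
    apply extL (M ⋙ tensorRight NN)
    intro j
    have h5 := hπ j (p.lTensor (limit M : ModuleCat.{u} R) τ)
    rw [rl_comm, hτ j] at h5
    exact h5.trans (ht2 j)

end Groth.Agent.S14353
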