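import Groth.Statements.S14355
import Mathlib

set_option autoImplicit false
universe v u
open CategoryTheory CategoryTheory.Limits
open SpSeqMor

namespace Groth.Agent.S14355

open SpSeq

section aux

variable {C : Type u} [Category.{v} C] [Abelian C]

theorem isZero_page (E : E₂CohomologicalSpectralSequence C) (pq : ℤ × ℤ)
    (h2 : IsZero ((E.page 2 le_rfl).X pq)) (r : ℤ) (hr : 2 ≤ r) :
    IsZero ((E.page r hr).X pq) := by
  induction r, hr using Int.leInduction with
  | base => exact h2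
  | succ r hr ih =>
    exact IsZero.of_iso (ShortComplex.isZero_homology_of_isZero_X₂ _ ih)
      (E.iso r (r + 1) pq rfl hr).symm

theorem homologyMap_eq_zero {ι : Type*} {c : ComplexShape ι} {K L : HomologicalComplex C c}
    (ψ : K ⟶ L) (i : ι) (h : ψ.f i = 0) : HomologicalComplex.homologyMap ψ i = 0 := by
  have h1 : HomologicalComplex.cyclesMap ψ i = 0 := by
    rw [← cancel_mono (L.iCycles i), HomologicalComplex.cyclesMap_i, h, comp_zero, zero_comp]
  rw [← cancel_epi (K.homologyπ i), HomologicalComplex.homologyπ_naturality, h1, zero_comp,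
    comp_zero]

theorem hom_f_eq_zero (E E' : E₂CohomologicalSpectralSequence C) (φ : E ⟶ E') (pq : ℤ × ℤ)
    (h2 : (φ.hom 2 le_rfl).f pq = 0) (r : ℤ) (hr : 2 ≤ r) : (φ.hom r hr).f pq = 0 := by
  induction r, hr using Int.leInduction with
  | base => exact h2
  | succ r hr ih =>
    have hc := φ.comm r (r + 1) pq rfl hr
    rw [homologyMap_eq_zero _ _ ih, zero_comp] at hc
    exact (cancel_epi (E.iso r (r + 1) pq rfl hr).hom).mp (by rw [← hc, comp_zero])

theorem fil_eq_of_isZero_gr {X : C} (F : ℤ → Subobject X) (hF : Antitone F) (p : ℤ)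
    (hz : IsZero (grPiece F hF p)) : F (p + 1) = F p := by
  apply le_antisymm (hF (Int.le_add_one le_rfl))
  haveI hepi : Epi ((F (p + 1)).ofLE (F p) (hF (Int.le_add_one le_rfl))) :=
    Preadditive.epi_of_isZero_cokernel _ hz
  haveI := isIso_of_mono_of_epi ((F (p + 1)).ofLE (F p) (hF (Int.le_add_one le_rfl)))
  refine Subobject.le_of_comm (inv ((F (p + 1)).ofLE (F p) (hF (Int.le_add_one le_rfl)))) ?_
  rw [IsIso.inv_comp_eq, Subobject.ofLE_arrow]

theorem fil_eq_top {X : C} (F : ℤ → Subobject X) (hF : Antitone F) (hfin : ∃ α, F α = ⊤)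
    (a₀ : ℤ) (hz : ∀ i, i < a₀ → IsZero (grPiece F hF i)) : F a₀ = ⊤ := by
  obtain ⟨α, hα⟩ := hfin
  by_cases h : a₀ ≤ α
  · have h1 : F α ≤ F a₀ := hF h
    rw [hα] at h1
    exact top_le_iff.mp h1
  · push Not at h
    have key : ∀ (m : ℤ) (_ : α ≤ m), m ≤ a₀ → F m = ⊤ := by
      intro m hm
      induction m, hm using Int.leInduction with
      | base => intro _; exact hα
      | succ m hm ih =>
        intro hle
        rw [fil_eq_of_isZero_gr F hF m (hz m (by omega))]
        exact ih (by omega)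
    exact key a₀ h.le le_rfl

theorem fil_eq_bot {X : C} (F : ℤ → Subobject X) (hF : Antitone F) (hfin : ∃ β, F β = ⊥)
    (a₀ : ℤ) (hz : ∀ i, a₀ < i → IsZero (grPiece F hF i)) : F (a₀ + 1) = ⊥ := by
  obtain ⟨β, hβ⟩ := hfin
  by_cases h : β ≤ a₀ + 1
  · have h1 : F (a₀ + 1) ≤ F β := hF h
    rw [hβ] at h1
    exact le_bot_iff.mp h1
  · push Not at h
    have key : ∀ k : ℕ, a₀ + 1 ≤ β - (k : ℤ) → F (β - (k : ℤ)) = ⊥ := by
      intro k
      induction k with
      | zero =>
        intro _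
        have e0 : β - ((0 : ℕ) : ℤ) = β := by simp
        rw [e0]
        exact hβ
      | succ k ih =>
        intro hle
        have e : β - ((k + 1 : ℕ) : ℤ) + 1 = β - (k : ℤ) := by
          push_cast
          ring
        rw [← fil_eq_of_isZero_gr F hF (β - ((k + 1 : ℕ) : ℤ)) (hz _ (by omega)), e]
        exact ih (by omega)
    have h1 := key (β - (a₀ + 1)).toNat (by
      rw [Int.toNat_of_nonneg (by omega)]
      omega)
    rwa [Int.toNat_of_nonneg (by omega), sub_sub_cancel] at h1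

theorem mono_cokernel_π_of_isZero {X Y : C} (g : X ⟶ Y) (hX : IsZero X) :
    Mono (cokernel.π g) := by
  haveI := cokernel.π_of_zero (hX.eq_of_src g 0)
  infer_instance

end aux


/-- Let φ : E ⟶ E' be a morphism of E_2-cohomological spectral sequences in an abelian category, with
abutments H and H' whose filtrations are finite in each degree, and f a morphism of abutment data
over φ. Fix integers l and a₀. If E_2^{i, l-i} = 0 for i < a₀, E'_2^{i, l-i} = 0 for i > a₀ and
φ_2^{a₀, l-a₀} = 0, then f^l : H^l ⟶ H'^l is zero. (The published statement prints the two vanishing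
hypotheses at positions (i, l); the argument works on the line of total degree l, at positions (i, l
- i), which is the form stated here.) -/
theorem result (C : Type u) [Category.{v} C] [Abelian C]
    (E E' : E₂CohomologicalSpectralSequence C) (φ : E ⟶ E') (H H' : ℤ → C)
    (a : SpSeq.Abutment E H) (a' : SpSeq.Abutment E' H')
    (ha : ∀ n : ℤ, a.IsFinite n) (ha' : ∀ n : ℤ, a'.IsFinite n)
    (f : SpSeqMor.AbutHom φ a a') (l a₀ : ℤ)
    (hE : ∀ i : ℤ, i < a₀ → IsZero ((E.page 2 le_rfl).X (i, l - i)))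
    (hE' : ∀ i : ℤ, a₀ < i → IsZero ((E'.page 2 le_rfl).X (i, l - i)))
    (hφ : (φ.hom 2 le_rfl).f (a₀, l - a₀) = 0) :
    f.hom l = 0 := by
  obtain ⟨⟨α, hα⟩, -⟩ := ha l
  obtain ⟨-, ⟨β₀, hβ₀⟩⟩ := ha' l
  change a.fil l α = ⊤ at hα
  change a'.fil l β₀ = ⊥ at hβ₀
  have hgr : ∀ (pq : ℤ × ℤ) (m : ℤ), pq.1 + pq.2 = m → IsZero ((E.page 2 le_rfl).X pq) →
      IsZero (grPiece (a.fil m) (a.anti m) pq.1) := by
    rintro pq m rfl hz
    exact IsZero.of_iso (isZero_page E pq hz _ _) (a.β pq).symm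
  have hgr' : ∀ (pq : ℤ × ℤ) (m : ℤ), pq.1 + pq.2 = m → IsZero ((E'.page 2 le_rfl).X pq) →
      IsZero (grPiece (a'.fil m) (a'.anti m) pq.1) := by
    rintro pq m rfl hz
    exact IsZero.of_iso (isZero_page E' pq hz _ _) (a'.β pq).symm
  have hF : a.fil l a₀ = ⊤ := fil_eq_top (a.fil l) (a.anti l) ⟨α, hα⟩ a₀
    (fun i hi => hgr (i, l - i) l (by
      show i + (l - i) = l
      ring) (hE i hi))
  have hF' : a'.fil l (a₀ + 1) = ⊥ := fil_eq_bot (a'.fil l) (a'.anti l) ⟨β₀, hβ₀⟩ a₀
    (fun i hi => hgr' (i, l - i) l (by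
      show i + (l - i) = l
      ring) (hE' i hi))
  have hgrmap : ∀ (pq : ℤ × ℤ) (m : ℤ), pq.1 + pq.2 = m → (φ.hom 2 le_rfl).f pq = 0 →
      (f.fil m).gr pq.1 = 0 := by
    rintro pq m rfl h0
    obtain ⟨k, k', hkk⟩ : ∃ k k' : ℕ, a.rk pq + k = a'.rk pq + k' :=
      ⟨(max (a.rk pq) (a'.rk pq) - a.rk pq).toNat, (max (a.rk pq) (a'.rk pq) - a'.rk pq).toNat, by
        rw [Int.toNat_of_nonneg (sub_nonneg.mpr (le_max_left _ _)),
          Int.toNat_of_nonneg (sub_nonneg.mpr (le_max_right _ _))]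
        ring⟩
    have hc := f.comm pq k k' hkk
    rw [hom_f_eq_zero E E' φ pq h0, zero_comp, comp_zero, comp_zero] at hc
    exact (cancel_epi (a.β pq).hom).mp (hc.trans comp_zero.symm)
  have hg0 : (f.fil l).gr a₀ = 0 := hgrmap (a₀, l - a₀) l (by
    show a₀ + (l - a₀) = l
    ring) hφ
  have hπ : cokernel.π ((a.filObj l).stepLE (Int.le_add_one (le_refl a₀))) ≫ (f.fil l).gr a₀ =
      (f.fil l).lift a₀ ≫ cokernel.π ((a'.filObj l).stepLE (Int.le_add_one (le_refl a₀))) := by
    unfold FilLift.gr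
    exact cokernel.π_desc _ _ _
  have hπ' : (f.fil l).lift a₀ ≫
      cokernel.π ((a'.filObj l).stepLE (Int.le_add_one (le_refl a₀))) = 0 := by
    rw [← hπ, hg0]
    exact comp_zero
  have hzero : IsZero ((a'.filObj l).step (a₀ + 1)) := by
    show IsZero (Subobject.underlying.obj (a'.fil l (a₀ + 1)))
    rw [hF']
    exact IsZero.of_iso (isZero_zero _) Subobject.botCoeIsoZero
  haveI := mono_cokernel_π_of_isZero ((a'.filObj l).stepLE (Int.le_add_one (le_refl a₀))) hzero
  have hlift0 : (f.fil l).lift a₀ = 0 :=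
    (cancel_mono (cokernel.π ((a'.filObj l).stepLE (Int.le_add_one (le_refl a₀))))).mp
      (hπ'.trans zero_comp.symm)
  haveI hepi : Epi (a.fil l a₀).arrow := by
    rw [hF]
    infer_instance
  have h2 := (f.fil l).lift_arrow a₀
  rw [hlift0, zero_comp] at h2
  exact (cancel_epi (a.fil l a₀).arrow).mp (h2.symm.trans comp_zero.symm)

end Groth.Agent.S14355
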