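import Groth.Statements.S14357
import Mathlib

set_option autoImplicit false
universe u
open AlgebraicGeometry
open Proj

namespace Groth.Agent.S14357

/-- For a field k the projective line over k is not an affine scheme. (The projective line is taken here
as Proj of the polynomial ring in two variables over k with its standard grading; the book builds it
by gluing two affine lines and identifies the two constructions later.) -/
theorem result (k : Type u) [Field k] :
    ¬ IsAffine (CohB1.ProjSpace 1 k) := by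
  classical
  intro haff
  change IsAffine (Proj (CohB1.polyGrading 1 k)) at haff
  have hX0 : (MvPolynomial.X 0 : MvPolynomial (Fin (1 + 1)) k) ∈ CohB1.polyGrading 1 k 1 :=
    MvPolynomial.isHomogeneous_X k 0
  have hX1 : (MvPolynomial.X 1 : MvPolynomial (Fin (1 + 1)) k) ∈ CohB1.polyGrading 1 k 1 :=
    MvPolynomial.isHomogeneous_X k 1
  -- the degree zero part is a field
  have hfield : IsField (CohB1.polyGrading 1 k 0) := by
    refine ⟨⟨0, 1, fun h => ?_⟩, mul_comm, fun {a} ha => ?_⟩
    · have h1 := congrArg Subtype.val h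
      exact zero_ne_one (α := MvPolynomial (Fin (1 + 1)) k) h1
    · obtain ⟨p, hp⟩ := a
      have hp' : MvPolynomial.IsHomogeneous p 0 := hp
      have hC : p = MvPolynomial.C (MvPolynomial.coeff 0 p) :=
        MvPolynomial.totalDegree_eq_zero_iff_eq_C.1 (Nat.le_zero.1 hp'.totalDegree_le)
      have hc : MvPolynomial.coeff 0 p ≠ 0 := by
        intro h0
        apply ha
        apply Subtype.ext
        change p = 0
        rw [hC, h0, map_zero]
      refine ⟨⟨MvPolynomial.C (MvPolynomial.coeff 0 p)⁻¹, MvPolynomial.isHomogeneous_C _ _⟩, ?_⟩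
      apply Subtype.ext
      change p * MvPolynomial.C (MvPolynomial.coeff 0 p)⁻¹ = 1
      rw [hC, ← map_mul]
      simp [hc]
  haveI : IsScalarTower k (CohB1.polyGrading 1 k 0) (MvPolynomial (Fin (1 + 1)) k) :=
    IsScalarTower.of_algebraMap_eq (R := k) (S := CohB1.polyGrading 1 k 0)
      (A := MvPolynomial (Fin (1 + 1)) k) (fun r => rfl)
  haveI : Algebra.FiniteType (CohB1.polyGrading 1 k 0) (MvPolynomial (Fin (1 + 1)) k) :=
    Algebra.FiniteType.of_restrictScalars_finiteType k _ _
  haveI : IsFinite (Proj.toSpecZero (CohB1.polyGrading 1 k)) :=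
    IsFinite.iff_isProper_and_isAffineHom.mpr ⟨inferInstance, inferInstance⟩
  have hfin := (Proj.toSpecZero (CohB1.polyGrading 1 k)).finite_appTop
  have hK : IsField Γ(Spec (CommRingCat.of (CohB1.polyGrading 1 k 0)), ⊤) :=
    MulEquiv.isField hfield
      (Scheme.ΓSpecIso (CommRingCat.of (CohB1.polyGrading 1 k 0))).commRingCatIsoToRingEquiv.toMulEquiv
  letI := hK.toField
  letI := (Proj.toSpecZero (CohB1.polyGrading 1 k)).appTop.hom.toAlgebra
  haveI : Module.Finite Γ(Spec (CommRingCat.of (CohB1.polyGrading 1 k 0)), ⊤)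
      Γ(Proj (CohB1.polyGrading 1 k), ⊤) := hfin
  haveI : IsArtinianRing Γ(Proj (CohB1.polyGrading 1 k), ⊤) :=
    IsArtinianRing.of_finite Γ(Spec (CommRingCat.of (CohB1.polyGrading 1 k 0)), ⊤) _
  haveI : DiscreteTopology (Spec Γ(Proj (CohB1.polyGrading 1 k), ⊤)) :=
    inferInstanceAs (DiscreteTopology (PrimeSpectrum _))
  haveI : DiscreteTopology (Proj (CohB1.polyGrading 1 k)) :=
    (Scheme.homeoOfIso (Proj (CohB1.polyGrading 1 k)).isoSpec).isEmbedding.discreteTopology
  haveI : T1Space (ProjectiveSpectrum (CohB1.polyGrading 1 k)) :=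
    inferInstanceAs (T1Space (Proj (CohB1.polyGrading 1 k)))
  -- two points
  have hη2 : ¬ HomogeneousIdeal.irrelevant (CohB1.polyGrading 1 k) ≤
      (⊥ : HomogeneousIdeal (CohB1.polyGrading 1 k)) := by
    intro h
    have h1 : (MvPolynomial.X 0 : MvPolynomial (Fin (1 + 1)) k) ∈
        (⊥ : HomogeneousIdeal (CohB1.polyGrading 1 k)) :=
      h (HomogeneousIdeal.mem_irrelevant_of_mem _ Nat.one_pos hX0)
    rw [← HomogeneousIdeal.mem_iff, HomogeneousIdeal.toIdeal_bot, Ideal.mem_bot] at h1
    exact MvPolynomial.X_ne_zero 0 h1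
  have hη1 : (⊥ : HomogeneousIdeal (CohB1.polyGrading 1 k)).toIdeal.IsPrime := by
    rw [HomogeneousIdeal.toIdeal_bot]
    exact Ideal.isPrime_bot
  have hhom : (Ideal.span {(MvPolynomial.X 0 : MvPolynomial (Fin (1 + 1)) k)}).IsHomogeneous
      (CohB1.polyGrading 1 k) := by
    apply Ideal.homogeneous_span
    rintro x hx
    rw [Set.mem_singleton_iff] at hx
    subst hx
    exact ⟨1, hX0⟩
  have hξ1 : (Ideal.span {(MvPolynomial.X 0 : MvPolynomial (Fin (1 + 1)) k)}).IsPrime :=
    (Ideal.span_singleton_prime (MvPolynomial.X_ne_zero 0)).2 MvPolynomial.X_prime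
  have hξ2 : ¬ HomogeneousIdeal.irrelevant (CohB1.polyGrading 1 k) ≤
      (⟨Ideal.span {(MvPolynomial.X 0 : MvPolynomial (Fin (1 + 1)) k)}, hhom⟩ :
        HomogeneousIdeal (CohB1.polyGrading 1 k)) := by
    intro h
    have h1 : (MvPolynomial.X 1 : MvPolynomial (Fin (1 + 1)) k) ∈
        Ideal.span {(MvPolynomial.X 0 : MvPolynomial (Fin (1 + 1)) k)} :=
      h (HomogeneousIdeal.mem_irrelevant_of_mem _ Nat.one_pos hX1)
    rw [Ideal.mem_span_singleton] at h1
    obtain ⟨q, hq⟩ := h1
    have h2 := congrArg (MvPolynomial.eval (fun i : Fin (1 + 1) => if i = 0 then (0 : k) else 1)) hq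
    simp at h2
  let η : ProjectiveSpectrum (CohB1.polyGrading 1 k) := ⟨⊥, hη1, hη2⟩
  let ξ : ProjectiveSpectrum (CohB1.polyGrading 1 k) :=
    ⟨⟨Ideal.span {(MvPolynomial.X 0 : MvPolynomial (Fin (1 + 1)) k)}, hhom⟩, hξ1, hξ2⟩
  have hle : η ≤ ξ := by
    change (⊥ : HomogeneousIdeal (CohB1.polyGrading 1 k)) ≤ _
    exact bot_le
  have hmem := (ProjectiveSpectrum.le_iff_mem_closure _ η ξ).1 hle
  rw [closure_singleton, Set.mem_singleton_iff] at hmem
  have h3 : (MvPolynomial.X 0 : MvPolynomial (Fin (1 + 1)) k) ∈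
      ξ.asHomogeneousIdeal.toIdeal := Ideal.subset_span rfl
  rw [hmem] at h3
  change _ ∈ (⊥ : HomogeneousIdeal (CohB1.polyGrading 1 k)).toIdeal at h3
  rw [HomogeneousIdeal.toIdeal_bot, Ideal.mem_bot] at h3
  exact MvPolynomial.X_ne_zero 0 h3

end Groth.Agent.S14357
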