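import Groth.Statements.S14359
import Mathlib

set_option autoImplicit false
universe u
open CAlg

namespace Groth.Agent.S14359

/-- Let A be a Noetherian integrally closed integral domain and b a nonzero element of A. Then every
associated prime of the A-module A/(b) has height one, so that A/(b) has no embedded associated
primes. -/
theorem result
    (A : Type u) [CommRing A] [IsDomain A] [IsNoetherianRing A] [IsIntegrallyClosed A]
    (b : A) (hb : b ≠ 0) (p : Ideal A) (hp : p ∈ associatedPrimes A (A ⧸ Ideal.span {b})) :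
    p.height = 1 := by
  classical
  have hp' : IsAssociatedPrime p (A ⧸ Ideal.span {b}) := hp
  obtain ⟨hprime, x, hx⟩ := isAssociatedPrime_iff.mp hp'
  haveI := hprime
  obtain ⟨a, rfl⟩ := Ideal.Quotient.mk_surjective x
  have hmem : ∀ y : A, y ∈ p ↔ b ∣ y * a := by
    intro y
    rw [hx, Submodule.mem_colon_singleton, Submodule.mem_bot]
    have e : y • (Ideal.Quotient.mk (Ideal.span {b}) a) =
        Ideal.Quotient.mk (Ideal.span {b}) (y * a) := rfl
    rw [e, Ideal.Quotient.eq_zero_iff_mem, Ideal.mem_span_singleton]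
  have hbp : b ∈ p := (hmem b).2 (Dvd.intro _ rfl)
  have hab : ¬ b ∣ a := by
    intro h
    apply hprime.ne_top
    rw [Ideal.eq_top_iff_one, hmem]
    simpa using h
  have hbK : algebraMap A (FractionRing A) b ≠ 0 := by
    rwa [Ne, map_eq_zero_iff _ (IsFractionRing.injective A (FractionRing A))]
  have hex : ∃ x0 ∈ p, ∃ u, u ∉ p ∧ x0 * a = b * u := by
    by_contra hcon
    have hcon' : ∀ x0 ∈ p, ∀ u, x0 * a = b * u → u ∈ p := by
      intro x0 hx0 u hu
      by_contra hup
      exact hcon ⟨x0, hx0, u, hup, hu⟩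
    let t : FractionRing A := algebraMap A (FractionRing A) a / algebraMap A (FractionRing A) b
    let N : Submodule A (FractionRing A) := Submodule.map (Algebra.linearMap A (FractionRing A)) p
    have hN : N ≠ ⊥ := by
      intro h
      have h1 : algebraMap A (FractionRing A) b ∈ N := ⟨b, hbp, rfl⟩
      rw [h, Submodule.mem_bot] at h1
      exact hbK h1
    have hN' : N.FG :=
      Submodule.FG.map (Algebra.linearMap A (FractionRing A))
        ((isNoetherianRing_iff_ideal_fg A).1 inferInstance p)
    have hstab : ∀ n ∈ N, t • n ∈ N := by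
      rintro _ ⟨y, hy, rfl⟩
      obtain ⟨c, hc⟩ := (hmem y).1 hy
      refine ⟨c, hcon' y hy c hc, ?_⟩
      simp only [Algebra.linearMap_apply, smul_eq_mul, t]
      rw [div_mul_eq_mul_div, eq_div_iff hbK, ← map_mul, ← map_mul, mul_comm c b, ← hc,
        mul_comm]
    have hint : IsIntegral A t := isIntegral_of_smul_mem_submodule N hN hN' t hstab
    obtain ⟨y, hy⟩ := IsIntegrallyClosed.isIntegral_iff.mp hint
    apply hab
    refine ⟨y, ?_⟩
    apply IsFractionRing.injective A (FractionRing A)
    rw [map_mul, hy]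
    simp only [t]
    field_simp
  obtain ⟨x0, hx0, u, hu, hxu⟩ := hex
  have hmin : p ∈ (Ideal.span {x0}).minimalPrimes := by
    refine ⟨⟨hprime, (Ideal.span_singleton_le_iff_mem _).2 hx0⟩, ?_⟩
    rintro q ⟨hq, hxq⟩ hqp y hy
    obtain ⟨c, hc⟩ := (hmem y).1 hy
    have h1 : y * u = x0 * c := by
      have hb0 : b ≠ 0 := hb
      apply mul_left_cancel₀ hb0
      calc b * (y * u) = y * (b * u) := by ring
        _ = y * (x0 * a) := by rw [hxu]
        _ = x0 * (y * a) := by ring
        _ = x0 * (b * c) := by rw [hc]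
        _ = b * (x0 * c) := by ring
    have h2 : y * u ∈ q := by
      rw [h1]
      exact q.mul_mem_right _ ((Ideal.span_singleton_le_iff_mem _).1 hxq)
    rcases hq.mem_or_mem h2 with h3 | h3
    · exact h3
    · exact absurd (hqp h3) hu
  have h1 : p.height ≤ 1 :=
    Ideal.height_le_one_of_isPrincipal_of_mem_minimalPrimes (Ideal.span {x0}) p hmin
  have h0 : p.height ≠ 0 := by
    rw [Ne, Ideal.height_eq_zero_iff_eq_bot]
    intro h
    rw [h, Ideal.mem_bot] at hbp
    exact hb hbp
  exact le_antisymm h1 (Order.one_le_iff_ne_zero.2 h0)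

end Groth.Agent.S14359
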