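import Groth.Statements.S14360
-- import your own Groth.Agent.* helpers here

set_option autoImplicit false
set_option linter.style.haveILetI false
universe u
open AlgebraicGeometry
open Variety

namespace Groth.Agent.S14360

open CategoryTheory CategoryTheory.Limits

variable {X Y : Scheme.{u}}

/-- Extract morphism-level data from `f₀.comp g₀ ~ id`. -/
theorem extract [IsIntegral X] [IsIntegral Y]
    (f₀ : X.PartialMap Y) [IsDominant f₀.hom] (g₀ : Y.PartialMap X)
    (h : (f₀.comp g₀).toRationalMap = Scheme.RationalMap.id X) :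
    ∃ (W : X.Opens) (_ : Dense (W : Set X)) (hWU : W ≤ f₀.domain)
      (a : W.toScheme ⟶ g₀.domain.toScheme),
      a ≫ g₀.domain.ι = X.homOfLE hWU ≫ f₀.hom ∧ a ≫ g₀.hom = W.ι := by
  obtain ⟨W, hW, hWl, hWr, e⟩ := Scheme.PartialMap.toRationalMap_eq_iff.mp h
  have hdomU : f₀.domain.ι ''ᵁ f₀.hom ⁻¹ᵁ g₀.domain ≤ f₀.domain := f₀.domain.ι_image_le _
  have hWl' : W ≤ f₀.domain.ι ''ᵁ f₀.hom ⁻¹ᵁ g₀.domain := hWl
  refine ⟨W, hW, hWl'.trans hdomU,
    X.homOfLE hWl' ≫ (f₀.domain.ι.isoImage _).inv ≫ (f₀.hom ∣_ g₀.domain), ?_, ?_⟩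
  · simp only [Category.assoc, morphismRestrict_ι]
    rw [Scheme.Opens.isoImage_ι_inv_ι_assoc, ← Category.assoc, Scheme.homOfLE_homOfLE]
  · simp only [Scheme.PartialMap.restrict_hom, Scheme.PartialMap.comp_hom,
      Scheme.Hom.toPartialMap_hom, Scheme.topIso_hom, Category.comp_id] at e
    have e2 : X.homOfLE (show W ≤ (⊤ : X.Opens) from le_top) ≫ (⊤ : X.Opens).ι = W.ι :=
      X.homOfLE_ι _
    simp only [Category.assoc]
    exact e.trans e2

/-- Conversely, such morphism-level data on the whole domain gives `f₀.comp g₀ ~ id`. -/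
theorem comp_eq_id [IsIntegral X] [IsIntegral Y]
    (f₀ : X.PartialMap Y) [IsDominant f₀.hom] (g₀ : Y.PartialMap X)
    (a : f₀.domain.toScheme ⟶ g₀.domain.toScheme)
    (ha1 : a ≫ g₀.domain.ι = f₀.hom) (ha2 : a ≫ g₀.hom = f₀.domain.ι) :
    (f₀.comp g₀).toRationalMap = Scheme.RationalMap.id X := by
  rw [Scheme.RationalMap.id, Scheme.PartialMap.toRationalMap_eq_iff]
  refine ⟨f₀.domain.ι ''ᵁ f₀.hom ⁻¹ᵁ g₀.domain, (f₀.comp g₀).dense_domain, le_rfl, le_top, ?_⟩
  have h1 : f₀.hom ∣_ g₀.domain = (f₀.hom ⁻¹ᵁ g₀.domain).ι ≫ a := by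
    rw [← cancel_mono g₀.domain.ι, morphismRestrict_ι, Category.assoc, ha1]
  have hrfl : X.homOfLE (le_refl (f₀.domain.ι ''ᵁ f₀.hom ⁻¹ᵁ g₀.domain)) = 𝟙 _ := X.homOfLE_rfl _
  show X.homOfLE (le_refl (f₀.domain.ι ''ᵁ f₀.hom ⁻¹ᵁ g₀.domain)) ≫
      ((f₀.domain.ι.isoImage _).inv ≫ (f₀.hom ∣_ g₀.domain) ≫ g₀.hom) =
    X.homOfLE _ ≫ (X.topIso.hom ≫ 𝟙 X)
  rw [Category.comp_id, Scheme.topIso_hom, Scheme.homOfLE_ι, hrfl, Category.id_comp,
    h1, Category.assoc, ha2]
  exact Scheme.Hom.isoImage_inv_ι f₀.domain.ι (f₀.hom ⁻¹ᵁ g₀.domain)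

theorem forward [IsIntegral X] [IsIntegral Y] (e : X.PartialIso Y) :
    ∃ (f : X ⤏ Y) (g : Y ⤏ X) (_ : f.IsDominant) (_ : g.IsDominant),
      f.comp g = Scheme.RationalMap.id X ∧ g.comp f = Scheme.RationalMap.id Y := by
  haveI : IsDominant e.target.ι := Opens.isDominant_ι e.dense_target
  haveI : IsDominant e.source.ι := Opens.isDominant_ι e.dense_source
  haveI h1 : IsDominant e.toPartialMap.hom := by
    show IsDominant (e.iso.hom ≫ e.target.ι); infer_instance
  haveI h2 : IsDominant e.symm.toPartialMap.hom := by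
    show IsDominant (e.iso.inv ≫ e.source.ι); infer_instance
  refine ⟨e.toRationalMap, e.symm.toRationalMap, inferInstance, inferInstance, ?_, ?_⟩
  · show e.toPartialMap.toRationalMap.comp e.symm.toPartialMap.toRationalMap = _
    rw [Scheme.RationalMap.toRationalMap_comp]
    exact comp_eq_id e.toPartialMap e.symm.toPartialMap e.iso.hom rfl
      (show e.iso.hom ≫ e.iso.inv ≫ e.source.ι = e.source.ι by simp)
  · show e.symm.toPartialMap.toRationalMap.comp e.toPartialMap.toRationalMap = _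
    rw [Scheme.RationalMap.toRationalMap_comp]
    exact comp_eq_id e.symm.toPartialMap e.toPartialMap e.iso.inv rfl
      (show e.iso.inv ≫ e.iso.hom ≫ e.target.ι = e.target.ι by simp)

theorem backward [IsIntegral X] [IsIntegral Y]
    (f₀ : X.PartialMap Y) [IsDominant f₀.hom] (g₀ : Y.PartialMap X) [IsDominant g₀.hom]
    (h₁ : (f₀.comp g₀).toRationalMap = Scheme.RationalMap.id X)
    (h₂ : (g₀.comp f₀).toRationalMap = Scheme.RationalMap.id Y) :
    Scheme.Birational X Y := by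
  obtain ⟨W, hW, hWU, a, ha1, ha2⟩ := extract f₀ g₀ h₁
  obtain ⟨W', hW', hWV, b, hb1, hb2⟩ := extract g₀ f₀ h₂
  set φ : W.toScheme ⟶ Y := X.homOfLE hWU ≫ f₀.hom with hφ
  set γ : W'.toScheme ⟶ X := Y.homOfLE hWV ≫ g₀.hom with hγ
  -- P = φ⁻¹(W'), Q = γ⁻¹(W)
  have hPQ : (pullback.fst φ W'.ι) ≫ a = pullback.snd φ W'.ι ≫ Y.homOfLE hWV := by
    rw [← cancel_mono g₀.domain.ι, Category.assoc, ha1, Category.assoc, Scheme.homOfLE_ι,
      pullback.condition]
  have hQP : (pullback.fst γ W.ι) ≫ b = pullback.snd γ W.ι ≫ X.homOfLE hWU := by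
    rw [← cancel_mono f₀.domain.ι, Category.assoc, hb1, Category.assoc, Scheme.homOfLE_ι,
      pullback.condition]
  have c1 : pullback.snd φ W'.ι ≫ γ = pullback.fst φ W'.ι ≫ W.ι := by
    rw [hγ, ← Category.assoc, ← hPQ, Category.assoc, ha2]
  have c2 : pullback.snd γ W.ι ≫ φ = pullback.fst γ W.ι ≫ W'.ι := by
    rw [hφ, ← Category.assoc, ← hQP, Category.assoc, hb2]
  obtain ⟨u, hu1, hu2⟩ : ∃ u : pullback φ W'.ι ⟶ pullback γ W.ι,
      u ≫ pullback.fst γ W.ι = pullback.snd φ W'.ι ∧ u ≫ pullback.snd γ W.ι = pullback.fst φ W'.ι :=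
    ⟨pullback.lift _ _ c1, pullback.lift_fst _ _ _, pullback.lift_snd _ _ _⟩
  obtain ⟨v, hv1, hv2⟩ : ∃ v : pullback γ W.ι ⟶ pullback φ W'.ι,
      v ≫ pullback.fst φ W'.ι = pullback.snd γ W.ι ∧ v ≫ pullback.snd φ W'.ι = pullback.fst γ W.ι :=
    ⟨pullback.lift _ _ c2, pullback.lift_fst _ _ _, pullback.lift_snd _ _ _⟩
  have huv : u ≫ v = 𝟙 _ := by
    apply pullback.hom_ext
    · rw [Category.assoc, hv1, hu2, Category.id_comp]
    · rw [Category.assoc, hv2, hu1, Category.id_comp]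
  have hvu : v ≫ u = 𝟙 _ := by
    apply pullback.hom_ext
    · rw [Category.assoc, hu1, hv2, Category.id_comp]
    · rw [Category.assoc, hu2, hv1, Category.id_comp]
  let E : pullback φ W'.ι ≅ pullback γ W.ι := ⟨u, v, huv, hvu⟩
  -- nonemptiness
  haveI hφdom : IsDominant φ := Scheme.PartialMap.isDominant_restrict_hom f₀ W hW hWU
  have hne : Nonempty ↥(pullback φ W'.ι) := by
    obtain ⟨y, hy, ⟨w, rfl⟩⟩ := φ.denseRange.inter_open_nonempty _ W'.2 hW'.nonempty
    obtain ⟨z, -, -⟩ := Scheme.Pullback.exists_preimage_pullback (f := φ) (g := W'.ι) w ⟨_, hy⟩ rfl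
    exact ⟨z⟩
  have hne' : Nonempty ↥(pullback γ W.ι) := ⟨E.hom hne.some⟩
  -- open immersions into X and Y
  let i : pullback φ W'.ι ⟶ X := pullback.fst φ W'.ι ≫ W.ι
  let j : pullback γ W.ι ⟶ Y := pullback.fst γ W.ι ≫ W'.ι
  haveI : IsOpenImmersion i := inferInstance
  haveI : IsOpenImmersion j := inferInstance
  refine ⟨⟨i.opensRange, ?_, j.opensRange, ?_, i.isoOpensRange.symm ≪≫ E ≪≫ j.isoOpensRange⟩⟩
  · exact i.opensRange.2.dense ⟨i hne.some, hne.some, rfl⟩
  · exact j.opensRange.2.dense ⟨j hne'.some, hne'.some, rfl⟩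

/-- Let X and Y be integral schemes. Then X and Y have isomorphic dense open subschemes if and only if
they are birational in the sense of rational maps, i.e. there exist dominant rational maps f : X ⤏ Y
and g : Y ⤏ X such that the composites g ∘ f and f ∘ g are the identity rational maps of X and of Y. -/
theorem result (X Y : Scheme.{u})
    [IsIntegral X] [IsIntegral Y] :
    Scheme.Birational X Y ↔
      ∃ (f : X ⤏ Y) (g : Y ⤏ X) (_ : f.IsDominant) (_ : g.IsDominant),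
        f.comp g = Scheme.RationalMap.id X ∧ g.comp f = Scheme.RationalMap.id Y := by
  constructor
  · rintro ⟨e⟩
    exact forward e
  · rintro ⟨f, g, hf, hg, h1, h2⟩
    haveI := hf
    haveI := hg
    refine backward f.representative g.representative ?_ ?_
    · rw [← Scheme.RationalMap.comp_def, Scheme.RationalMap.toRationalMap_representative]
      exact h1
    · rw [← Scheme.RationalMap.comp_def, Scheme.RationalMap.toRationalMap_representative]
      exact h2

end Groth.Agent.S14360
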