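import Groth.Statements.S14363
import Mathlib

set_option autoImplicit false
universe u
open CAlg

namespace Groth.Agent.S14363

/-- Let A be a Noetherian ring and 0 → M' → M → M'' → 0 a short exact sequence of A-modules. If a prime
p of A is an associated prime of M'' and is not in the support of M', then p is an associated prime
of M. -/
theorem result (A : Type u) [CommRing A] [IsNoetherianRing A]
    (M' M M'' : Type u) [AddCommGroup M'] [Module A M'] [AddCommGroup M] [Module A M]
    [AddCommGroup M''] [Module A M'']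
    (f : M' →ₗ[A] M) (g : M →ₗ[A] M'') (hf : Function.Injective f) (hg : Function.Surjective g)
    (hfg : Function.Exact f g)
    (p : PrimeSpectrum A) (hp : p.asIdeal ∈ associatedPrimes A M'') (hsupp : p ∉ Module.support A M') :
    p.asIdeal ∈ associatedPrimes A M := by
  classical
  rw [AssociatedPrimes.mem_iff, isAssociatedPrime_iff] at hp ⊢
  obtain ⟨hprime, x'', hx''⟩ := hp
  obtain ⟨x, rfl⟩ := hg x''
  refine ⟨hprime, ?_⟩
  obtain ⟨T, hT⟩ := (isNoetherianRing_iff_ideal_fg A).mp ‹_› p.asIdeal
  have hmem : ∀ a : A, a ∈ p.asIdeal ↔ a • g x = 0 := by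
    intro a
    rw [hx'', Submodule.mem_colon_singleton, Submodule.mem_bot]
  have h1 : ∀ a : T, ∃ s : A, s ∉ p.asIdeal ∧ s • ((a : A) • x) = 0 := by
    intro a
    have ha : (a : A) ∈ p.asIdeal := by rw [← hT]; exact Ideal.subset_span a.2
    have h0 : g ((a : A) • x) = 0 := by
      rw [map_smul]; exact (hmem _).mp ha
    obtain ⟨y, hy⟩ := (hfg _).mp h0
    obtain ⟨s, hs, hsy⟩ := Module.notMem_support_iff'.mp hsupp y
    exact ⟨s, hs, by rw [← hy, ← map_smul, hsy, map_zero]⟩
  choose s hs hsx using h1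
  have hprod : (∏ a, s a) ∉ p.asIdeal := by
    intro h
    obtain ⟨a, _, ha⟩ := (Ideal.IsPrime.prod_mem_iff (hp := hprime)).mp h
    exact hs a ha
  refine ⟨(∏ a, s a) • x, ?_⟩
  apply le_antisymm
  · rw [← hT, Ideal.span_le]
    intro a ha
    rw [SetLike.mem_coe, Submodule.mem_colon_singleton, Submodule.mem_bot]
    rw [← Finset.mul_prod_erase Finset.univ s (Finset.mem_univ (⟨a, ha⟩ : T))]
    have e : a • ((s ⟨a, ha⟩ * ∏ x ∈ Finset.univ.erase ⟨a, ha⟩, s x) • x) =
        (∏ x ∈ Finset.univ.erase ⟨a, ha⟩, s x) • (s ⟨a, ha⟩ • (a • x)) := by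
      simp only [smul_smul]
      congr 1
      ring
    rw [e]
    have := hsx ⟨a, ha⟩
    simp only at this
    rw [this, smul_zero]
  · intro r hr
    rw [Submodule.mem_colon_singleton, Submodule.mem_bot] at hr
    have h2 : (r * ∏ a, s a) • g x = 0 := by
      rw [← map_smul, mul_smul, hr, map_zero]
    have h3 : r * ∏ a, s a ∈ p.asIdeal := (hmem _).mpr h2
    exact (hprime.mem_or_mem h3).resolve_right hprod

end Groth.Agent.S14363
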