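import Groth.Statements.S14369
-- import your own Groth.Agent.* helpers here
import Mathlib
import Groth.Agent.Lib.Helper12.IrrFibres
import Groth.Agent.Lib.Helper12.EquidimComp

set_option autoImplicit false
universe u
open CategoryTheory CategoryTheory.Limits AlgebraicGeometry
open Variety

namespace Groth.Agent.S14369
open Groth.Agent.Lib.Helper12 Groth.Agent.Lib.Helper12.SchemeDimFT
  Groth.Agent.Lib.Helper12.SchemeDimIneq Groth.Agent.Lib.Helper12.Equidim
  Groth.Agent.Lib.Helper12.FlatDim Groth.Agent.Lib.Helper12.IrrFibres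

theorem dim_univ_eq (T : Type u) [TopologicalSpace T] :
    topologicalKrullDim (Set.univ : Set T) = topologicalKrullDim T :=
  IsHomeomorph.topologicalKrullDim_eq _ (Homeomorph.Set.univ T).isHomeomorph

/-- Conclusion from a dominating maximal point whose closure is everything. -/
theorem conclusion (k : Type u) [Field k] {X Y : Scheme.{u}} (qY : Y ⟶ Spec (CommRingCat.of k))
    [LocallyOfFiniteType qY] (f : X ⟶ Y) [LocallyOfFiniteType f] [IrreducibleSpace Y] (d : ℕ)
    (H : Hyp k qY f d) (ζ₀ : X) (hζ₀ : IsMaxPt ζ₀) (hfζ₀ : f ζ₀ = genericPoint Y)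
    (hcl : closure ({ζ₀} : Set X) = Set.univ) :
    IrreducibleSpace ↥X ∧ topologicalKrullDim ↥X = d + topologicalKrullDim ↥Y := by
  letI : Y.Over (Spec (CommRingCat.of k)) := ⟨qY⟩
  letI : X.Over (Spec (CommRingCat.of k)) := ⟨f ≫ qY⟩
  haveI : LocallyOfFiniteType (Y ↘ Spec (CommRingCat.of k)) := ‹LocallyOfFiniteType qY›
  haveI : LocallyOfFiniteType (X ↘ Spec (CommRingCat.of k)) :=
    inferInstanceAs (LocallyOfFiniteType (f ≫ qY))
  refine ⟨{ isPreirreducible_univ := by
              rw [← hcl]; exact isIrreducible_singleton.closure.isPreirreducible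
            toNonempty := ⟨ζ₀⟩ }, ?_⟩
  have hYd : topologicalKrullDim Y = ((tr k Y (genericPoint Y) : ℕ) : WithBot ℕ∞) :=
    topologicalKrullDim_eq_of_irreducible k Y _ (tr_spec k Y _)
  have hXd : topologicalKrullDim X = ((tr k X ζ₀ : ℕ) : WithBot ℕ∞) := by
    rw [← dim_univ_eq, ← hcl, topologicalKrullDim_closure_singleton k X ζ₀]
  have hadd := tr_eq_add_trn k qY f ζ₀
  rw [trn_eq_of_isMaxPt H ζ₀ hζ₀, hfζ₀] at hadd
  have hadd' : tr k X ζ₀ = tr k Y (genericPoint Y) + d := by exact_mod_cast hadd
  rw [hXd, hYd, hadd']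
  push_cast
  rw [add_comm]


/-- Let k be an algebraically closed field, X and Y schemes of finite type over k with Y irreducible,
and f : X → Y a k-morphism whose underlying continuous map is closed. Suppose that for some natural
number d the fibre of f over every closed point y of Y (the subspace of points mapping to y) is
irreducible of dimension d. Then X is irreducible and dim X = d + dim Y. (The published statement is
for varieties, i.e. reduced separated schemes; this row assumes neither.) -/
theorem result (k : Type u) [Field k] [IsAlgClosed k]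
    {X Y : Scheme.{u}} (qX : X ⟶ Spec (CommRingCat.of k)) (qY : Y ⟶ Spec (CommRingCat.of k))
    [LocallyOfFiniteType qX] [QuasiCompact qX] [LocallyOfFiniteType qY] [QuasiCompact qY]
    (f : X ⟶ Y) (hf : f ≫ qY = qX) [IrreducibleSpace ↥Y] (hcl : IsClosedMap f.base) (d : ℕ)
    (hirr : ∀ y : ↥Y, IsClosed ({y} : Set ↥Y) → IsIrreducible (f.base ⁻¹' {y}))
    (hdim : ∀ y : ↥Y, IsClosed ({y} : Set ↥Y) → topologicalKrullDim ↥(f.base ⁻¹' {y}) = d) :
    IrreducibleSpace ↥X ∧ topologicalKrullDim ↥X = d + topologicalKrullDim ↥Y := by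
  subst hf
  haveI : LocallyOfFiniteType f := locallyOfFiniteType_of_comp f qY
  letI : Y.Over (Spec (CommRingCat.of k)) := ⟨qY⟩
  letI : X.Over (Spec (CommRingCat.of k)) := ⟨f ≫ qY⟩
  haveI : LocallyOfFiniteType (Y ↘ Spec (CommRingCat.of k)) := ‹LocallyOfFiniteType qY›
  haveI : LocallyOfFiniteType (X ↘ Spec (CommRingCat.of k)) :=
    inferInstanceAs (LocallyOfFiniteType (f ≫ qY))
  haveI : IsLocallyNoetherian Y := LocallyOfFiniteType.isLocallyNoetherian qY
  haveI : CompactSpace X := QuasiCompact.compactSpace_of_compactSpace (f ≫ qY)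
  haveI : QuasiCompact f := inferInstance
  have H := hyp_of_irreducible k qY f d hirr hdim
  obtain ⟨ζ₀, hζ₀, hfζ₀⟩ := exists_isMaxPt_apply_eq_genericPoint H
  apply conclusion k qY f d H ζ₀ hζ₀ hfζ₀
  -- the image of the closure of `ζ₀` is everything
  have himg : f.base '' closure {ζ₀} = Set.univ := by
    have h1 : IsClosed (f.base '' closure {ζ₀}) := hcl _ isClosed_closure
    have h2 : closure (f.base '' closure ({ζ₀} : Set X)) = Set.univ := by
      rw [EquidimComp.closure_image_closure_singleton' f ζ₀, hfζ₀]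
      exact (genericPoint_spec Y).def
    rw [← h2, h1.closure_eq]
  by_contra hne
  have hne' : ((closure ({ζ₀} : Set X))ᶜ : Set X).Nonempty := by
    rw [Set.nonempty_compl]; exact hne
  obtain ⟨x, hx1, hx2⟩ := exists_isClosed_mem_of_isLocallyClosed k X _
    isClosed_closure.isOpen_compl.isLocallyClosed hne'
  have hy : IsClosed ({f x} : Set Y) := isClosed_apply k qY f x hx2
  obtain ⟨x₀, hx₀1, hx₀2⟩ : f x ∈ f.base '' closure {ζ₀} := by rw [himg]; trivial
  have := specializes_of_meets H ζ₀ hζ₀ x₀ (by rw [hx₀2]; exact hy)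
    (specializes_iff_mem_closure.mpr hx₀1) x hx₀2.symm
  exact hx1 (specializes_iff_mem_closure.mp this)

end Groth.Agent.S14369
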