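import Groth.Statements.S14370
-- import your own Groth.Agent.* helpers here
import Mathlib
import Groth.Agent.Lib.Helper12.IrrFibres
import Groth.Agent.Lib.Helper12.EquidimComp
import Groth.Agent.S14369

set_option autoImplicit false
universe u
open CategoryTheory CategoryTheory.Limits AlgebraicGeometry
open Variety

namespace Groth.Agent.S14370
open Groth.Agent.Lib.Helper12 Groth.Agent.Lib.Helper12.SchemeDimFT
  Groth.Agent.Lib.Helper12.SchemeDimIneq Groth.Agent.Lib.Helper12.Equidim
  Groth.Agent.Lib.Helper12.FlatDim Groth.Agent.Lib.Helper12.IrrFibres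


/-- Let k be an algebraically closed field, X and Y schemes of finite type over k with Y irreducible,
and f : X → Y a k-morphism. Suppose that X is pure-dimensional (every irreducible component of X has
dimension dim X) and that for some natural number d the fibre of f over every closed point y of Y
(the subspace of points mapping to y) is irreducible of dimension d. Then X is irreducible and dim X
= d + dim Y. (The published statement is for varieties, i.e. reduced separated schemes; this row
assumes neither.) -/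
theorem result (k : Type u) [Field k] [IsAlgClosed k]
    {X Y : Scheme.{u}} (qX : X ⟶ Spec (CommRingCat.of k)) (qY : Y ⟶ Spec (CommRingCat.of k))
    [LocallyOfFiniteType qX] [QuasiCompact qX] [LocallyOfFiniteType qY] [QuasiCompact qY]
    (f : X ⟶ Y) (hf : f ≫ qY = qX) [IrreducibleSpace ↥Y]
    (hpure : ∀ Z ∈ irreducibleComponents (↥X), topologicalKrullDim ↥Z = topologicalKrullDim ↥X) (d : ℕ)
    (hirr : ∀ y : ↥Y, IsClosed ({y} : Set ↥Y) → IsIrreducible (f.base ⁻¹' {y}))
    (hdim : ∀ y : ↥Y, IsClosed ({y} : Set ↥Y) → topologicalKrullDim ↥(f.base ⁻¹' {y}) = d) :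
    IrreducibleSpace ↥X ∧ topologicalKrullDim ↥X = d + topologicalKrullDim ↥Y := by
  subst hf
  haveI : LocallyOfFiniteType f := locallyOfFiniteType_of_comp f qY
  letI : Y.Over (Spec (CommRingCat.of k)) := ⟨qY⟩
  letI : X.Over (Spec (CommRingCat.of k)) := ⟨f ≫ qY⟩
  haveI : LocallyOfFiniteType (Y ↘ Spec (CommRingCat.of k)) := ‹LocallyOfFiniteType qY›
  haveI : LocallyOfFiniteType (X ↘ Spec (CommRingCat.of k)) :=
    inferInstanceAs (LocallyOfFiniteType (f ≫ qY))
  haveI : IsLocallyNoetherian Y := LocallyOfFiniteType.isLocallyNoetherian qY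
  haveI : CompactSpace X := QuasiCompact.compactSpace_of_compactSpace (f ≫ qY)
  haveI : QuasiCompact f := inferInstance
  have H := hyp_of_irreducible k qY f d hirr hdim
  obtain ⟨ζ₀, hζ₀, hfζ₀⟩ := exists_isMaxPt_apply_eq_genericPoint H
  apply Groth.Agent.S14369.conclusion k qY f d H ζ₀ hζ₀ hfζ₀
  -- all maximal points have the same transcendence degree
  have htr : ∀ ζ : X, IsMaxPt ζ → ((tr k X ζ : ℕ) : WithBot ℕ∞) = topologicalKrullDim X := by
    intro ζ hζ
    rw [← hpure (closure {ζ}) ((mem_irreducibleComponents_iff _).mpr ⟨ζ, hζ, rfl⟩),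
      topologicalKrullDim_closure_singleton k X ζ]
  have hmax : ∀ ζ : X, IsMaxPt ζ → ζ = ζ₀ := by
    intro ζ hζ
    have h1 : tr k X ζ = tr k X ζ₀ := by exact_mod_cast (htr ζ hζ).trans (htr ζ₀ hζ₀).symm
    have hadd := tr_eq_add_trn k qY f ζ
    rw [trn_eq_of_isMaxPt H ζ hζ] at hadd
    have hadd' : tr k X ζ = tr k Y (f ζ) + d := by exact_mod_cast hadd
    have hadd0 := tr_eq_add_trn k qY f ζ₀
    rw [trn_eq_of_isMaxPt H ζ₀ hζ₀, hfζ₀] at hadd0
    have hadd0' : tr k X ζ₀ = tr k Y (genericPoint Y) + d := by exact_mod_cast hadd0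
    have hfζ : f ζ = genericPoint Y := by
      by_contra hne
      have := tr_lt_of_specializes k Y (genericPoint Y) (f ζ) (genericPoint_specializes _)
        (fun h => hne h.symm)
      omega
    exact eq_of_apply_eq_genericPoint H ζ ζ₀ hζ hζ₀ hfζ hfζ₀
  rw [Set.eq_univ_iff_forall]
  intro x
  obtain ⟨ζ, hζ1, hζ2⟩ := exists_isMaxPt_specializes x
  rw [hmax ζ hζ1] at hζ2
  exact specializes_iff_mem_closure.mp hζ2

end Groth.Agent.S14370
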