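import Groth.Statements.S14371
import Mathlib
import Groth.Agent.Lib.Helper5.RegQuot

set_option autoImplicit false
universe u
open CAlg

namespace Groth.Agent.S14371


namespace H14371
open IsLocalRing Groth.Agent.Lib.Helper9.RegLocal

theorem main {R : Type u} [CommRing R] [IsRegularLocalRing R]
    (I J : Ideal R) [IsRegularLocalRing (R ⧸ I)] [IsRegularLocalRing (R ⧸ J)]
    [IsLocalRing (R ⧸ (I ⊔ J))]
    (n a b : ℕ) (hn : ringKrullDim R = n) (ha : ringKrullDim (R ⧸ I) = a)
    (hb : ringKrullDim (R ⧸ J) = b)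
    (ht : Module.finrank (ResidueField (R ⧸ (I ⊔ J))) (CotangentSpace (R ⧸ (I ⊔ J))) + n
      = a + b) :
    IsRegularLocalRing (R ⧸ (I ⊔ J)) ∧
      ringKrullDim (R ⧸ (I ⊔ J)) = ((a + b - n : ℕ) : WithBot ℕ∞) := by
  classical
  have hJtop : J ≠ ⊤ := by
    intro h
    exact (Ideal.Quotient.nontrivial_iff.mp (inferInstance : Nontrivial (R ⧸ J))) h
  obtain ⟨rs, hrs, hJrs⟩ :=
    Groth.Agent.Lib.Helper5.RegQuot.exists_isRegular_of_quotient_regular R J hJtop
  have hlen := ringKrullDim_add_length_eq_ringKrullDim_of_isRegular rs hrs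
  rw [← hJrs, hb, hn] at hlen
  have hlen' : b + rs.length = n := by exact_mod_cast hlen
  obtain ⟨t, htdef⟩ : ∃ t, t = Module.finrank (ResidueField (R ⧸ (I ⊔ J)))
      (CotangentSpace (R ⧸ (I ⊔ J))) := ⟨_, rfl⟩
  rw [← htdef] at ht
  obtain ⟨s, hsdef⟩ : ∃ s : Finset (R ⧸ I), s = (rs.map (Ideal.Quotient.mk I)).toFinset :=
    ⟨_, rfl⟩
  have hscard : s.card ≤ rs.length := by
    rw [hsdef]
    exact (List.toFinset_card_le _).trans (by simp)
  have hsspan : Ideal.span (s : Set (R ⧸ I)) = J.map (Ideal.Quotient.mk I) := by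
    rw [hJrs, Ideal.map_ofList, hsdef]
    unfold Ideal.ofList
    congr 1
    ext x
    simp
  have hmaptop : J.map (Ideal.Quotient.mk I) ≠ ⊤ := by
    intro htop
    have h5 : I ⊔ J = ⊤ := by
      have := congrArg (Ideal.comap (Ideal.Quotient.mk I)) htop
      rwa [Ideal.comap_map_of_surjective _ Ideal.Quotient.mk_surjective,
        ← RingHom.ker_eq_comap_bot, Ideal.mk_ker, Ideal.comap_top, sup_comm] at this
    exact (Ideal.Quotient.nontrivial_iff.mp (inferInstance : Nontrivial (R ⧸ (I ⊔ J)))) h5
  have hsjac : (s : Set (R ⧸ I)) ⊆ Ring.jacobson (R ⧸ I) := by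
    rw [ringJacobson_eq_maximalIdeal]
    intro x hx
    have hx' : x ∈ J.map (Ideal.Quotient.mk I) := hsspan ▸ Ideal.subset_span hx
    exact le_maximalIdeal hmaptop hx'
  have h1 := ringKrullDim_le_ringKrullDim_quotient_add_card s hsjac
  rw [hsspan] at h1
  have heq : ringKrullDim ((R ⧸ I) ⧸ J.map (Ideal.Quotient.mk I)) =
      ringKrullDim (R ⧸ (I ⊔ J)) :=
    ringKrullDim_eq_of_ringEquiv (DoubleQuot.quotQuotEquivQuotSup I J)
  rw [heq, ha] at h1
  have h2 : ringKrullDim (R ⧸ (I ⊔ J)) ≤ t := by
    have := ringKrullDim_le_spanFinrank_maximalIdeal (R ⧸ (I ⊔ J))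
    rwa [spanFinrank_maximalIdeal_eq_finrank_cotangentSpace, ← htdef] at this
  have h3 : ((t + rs.length : ℕ) : WithBot ℕ∞) ≤
      ringKrullDim (R ⧸ (I ⊔ J)) + (rs.length : ℕ) := by
    have h4 : t + rs.length = a := by omega
    rw [h4]
    exact h1.trans (add_le_add le_rfl (by exact_mod_cast hscard))
  have hD := withBot_eq_of_le_of_add_le h2 h3
  have hta : t = a + b - n := by omega
  refine ⟨?_, by rw [hD, hta]⟩
  apply IsRegularLocalRing.of_spanFinrank_maximalIdeal_le
  rw [hD, spanFinrank_maximalIdeal_eq_finrank_cotangentSpace, ← htdef]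

end H14371

/-- Let R be a regular local ring of dimension n with maximal ideal m and residue field κ, and I, J
ideals of R such that R/I and R/J are regular local rings of dimensions a and b (two subvarieties
smooth at the point). Suppose the quotient R/(I + J) is local with cotangent space m/(m² + I + J) of
dimension a + b − n over κ (the tangent spaces of the two subvarieties meet in the expected
dimension, i.e. they intersect transversally at the point). Then R/(I + J) is a regular local ring
of dimension a + b − n; in particular I + J is a prime ideal. (The published statement is about the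
local rings of a smooth variety over an algebraically closed field at a point where two smooth
closed subvarieties meet transversally, and also states the resulting equalities of tangent spaces
and of ideals; this row is the local-ring form, for an arbitrary regular local ring.) -/
theorem result {R : Type u} [CommRing R] [IsRegularLocalRing R]
    (I J : Ideal R) [IsRegularLocalRing (R ⧸ I)] [IsRegularLocalRing (R ⧸ J)] [IsLocalRing (R ⧸ (I ⊔ J))]
    (n a b : ℕ) (hn : ringKrullDim R = n) (ha : ringKrullDim (R ⧸ I) = a) (hb : ringKrullDim (R ⧸ J) = b)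
    (ht : Module.finrank (IsLocalRing.ResidueField (R ⧸ (I ⊔ J))) (IsLocalRing.CotangentSpace (R ⧸ (I ⊔ J))) + n = a + b) :
    IsRegularLocalRing (R ⧸ (I ⊔ J)) ∧ ringKrullDim (R ⧸ (I ⊔ J)) = ((a + b - n : ℕ) : WithBot ℕ∞) := by
  exact H14371.main I J n a b hn ha hb ht

end Groth.Agent.S14371
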