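import Groth.Statements.S14372
import Groth.Agent.Lib.Lead.ProjDim
import Groth.Agent.Lib.Lead.LineP

set_option autoImplicit false
universe u
open Fano

namespace Groth.Agent.S14372

open MvPolynomial in
theorem eval_aeval' {k : Type u} [Field k] {σ τ : Type*} (t : τ → k) (φ : σ → MvPolynomial τ k)
    (p : MvPolynomial σ k) :
    eval t (aeval φ p) = eval (fun i => eval t (φ i)) p := by
  induction p using MvPolynomial.induction_on with
  | C a => rw [aeval_C, algebraMap_eq, eval_C, eval_C]
  | add p q hp hq => rw [map_add, map_add, map_add, hp, hq]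
  | mul_X p i hp => rw [map_mul, map_mul, map_mul, aeval_X, eval_X, hp]

open MvPolynomial Groth.Agent.Lib.Lead.LineP in
theorem key {k : Type u} [Field k] [IsAlgClosed k] (n d : ℕ) (hd : 2 ≤ d)
    (f : MvPolynomial (Fin (n + 1)) k) (hf : f.IsHomogeneous d)
    (U W : Submodule k (Fin (n + 1) → k)) (hUW : U ⊔ W = ⊤)
    (hU : ∀ u ∈ U, MvPolynomial.eval u f = 0)
    (hsm : ∀ u ∈ U, u ≠ 0 → ∃ i : Fin (n + 1), MvPolynomial.eval u (MvPolynomial.pderiv i f) ≠ 0)
    {a c : ℕ} (bU : Module.Basis (Fin a) k U) (bW : Module.Basis (Fin c) k W) : a ≤ c := by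
  classical
  by_contra hlt
  push Not at hlt
  let φ : Fin (n + 1) → MvPolynomial (Fin a) k :=
    fun i => ∑ s, C ((bU s : Fin (n + 1) → k) i) * X s
  have hφ : ∀ i, (φ i).IsHomogeneous 1 :=
    fun i => IsHomogeneous.sum _ _ _ (fun s _ => isHomogeneous_C_mul_X _ s)
  let Ψ : Fin c → MvPolynomial (Fin a) k :=
    fun j => ∑ i, C ((bW j : Fin (n + 1) → k) i) * aeval φ (pderiv i f)
  have hΨ : ∀ j, (Ψ j).IsHomogeneous (d - 1) := by
    intro j
    refine IsHomogeneous.sum _ _ _ (fun i _ => ?_)
    have h1 : (pderiv i f).IsHomogeneous (d - 1) := MvPolynomial.IsHomogeneous.pderiv (i := i) hf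
    have h2 := h1.aeval φ hφ
    rw [one_mul] at h2
    exact h2.C_mul _
  obtain ⟨t, ht0, ht⟩ := Groth.Agent.Lib.Lead.ProjDim.exists_common_zero Ψ (fun _ => d - 1)
    (fun _ => by omega) hΨ hlt
  obtain ⟨u, hu⟩ : ∃ u : Fin (n + 1) → k, u = ∑ s, t s • (bU s : Fin (n + 1) → k) := ⟨_, rfl⟩
  have huU : u ∈ U := by
    rw [hu]
    exact Submodule.sum_mem _ (fun s _ => U.smul_mem _ (bU s).2)
  have hevφ : (fun i => eval t (φ i)) = u := by
    funext i
    simp only [φ, map_sum, map_mul, eval_C, eval_X, hu, Finset.sum_apply, Pi.smul_apply,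
      smul_eq_mul]
    exact Finset.sum_congr rfl (fun s _ => mul_comm _ _)
  have hevΨ : ∀ j, eval t (Ψ j) = Lfun f u (bW j : Fin (n + 1) → k) := by
    intro j
    rw [Lfun_apply]
    simp only [Ψ, map_sum, map_mul, eval_C]
    refine Finset.sum_congr rfl (fun i _ => ?_)
    rw [eval_aeval', hevφ, mul_comm]
  have hLW : ∀ w ∈ W, Lfun f u w = 0 := by
    intro w hw
    have hcomp : (Lfun f u).comp W.subtype = 0 := by
      apply bW.ext
      intro j
      rw [LinearMap.comp_apply, Submodule.subtype_apply, ← hevΨ j, ht j, LinearMap.zero_apply]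
    have h1 := LinearMap.congr_fun hcomp ⟨w, hw⟩
    simpa using h1
  have hLU : ∀ z ∈ U, Lfun f u z = 0 := by
    intro z hz
    apply T1
    intro x
    exact hU _ (U.add_mem huU (U.smul_mem x hz))
  have hL0 : ∀ v, Lfun f u v = 0 := by
    intro v
    have hv : v ∈ U ⊔ W := by
      rw [hUW]
      exact Submodule.mem_top
    obtain ⟨y, hy, w, hw, rfl⟩ := Submodule.mem_sup.mp hv
    rw [map_add, hLU y hy, hLW w hw, add_zero]
  have hu0 : u = 0 := by
    by_contra hne
    obtain ⟨i, hi⟩ := hsm u huU hne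
    apply hi
    rw [← Lfun_single]
    exact hL0 _
  apply ht0
  have hsum : ∑ s, t s • bU s = 0 := by
    apply Subtype.ext
    rw [Submodule.coe_sum]
    simp only [Submodule.coe_smul, Submodule.coe_zero]
    rw [← hu]
    exact hu0
  funext s
  exact Fintype.linearIndependent_iff.mp bU.linearIndependent t hsum s

/-- Over an algebraically closed field k of arbitrary characteristic, let f be a homogeneous form of
degree d ≥ 2 in n + 1 variables and U a linear subspace of k^(n+1) on which f vanishes, such that at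
every nonzero vector of U some partial derivative of f does not vanish (the hypersurface f = 0 in
P^n contains the r-plane P(U), r + 1 = dim U, and is smooth at every point of it). Then 2 · dim U ≤
n + 1, i.e. r ≤ (n − 1)/2. (The published statement assumes the hypersurface smooth everywhere; this
row assumes smoothness only along P(U).) -/
theorem result (k : Type u) [Field k] [IsAlgClosed k]
    (n d : ℕ) (hd : 2 ≤ d) (f : MvPolynomial (Fin (n + 1)) k) (hf : f.IsHomogeneous d)
    (U : Submodule k (Fin (n + 1) → k)) (hU : ∀ u ∈ U, MvPolynomial.eval u f = 0)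
    (hsm : ∀ u ∈ U, u ≠ 0 → ∃ i : Fin (n + 1), MvPolynomial.eval u (MvPolynomial.pderiv i f) ≠ 0) :
    2 * Module.finrank k ↥U ≤ n + 1 := by
  obtain ⟨W, hUW⟩ := Submodule.exists_isCompl U
  have hdim := Submodule.finrank_add_eq_of_isCompl hUW
  rw [Module.finrank_fin_fun] at hdim
  have h1 := key n d hd f hf U W hUW.sup_eq_top hU hsm (Module.finBasis k U) (Module.finBasis k W)
  omega

end Groth.Agent.S14372
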