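import Groth.Statements.S14375
import Groth.Agent.Lib.Helper11.FBaseLib

set_option autoImplicit false
universe u
open CategoryTheory CategoryTheory.Limits AlgebraicGeometry
open Variety

namespace Groth.Agent.S14375

theorem irreducibleSpace_of_openCover' {X : Type*} [TopologicalSpace X] [Nonempty X] {ι : Type*}
    (U : ι → Set X) (hU : ∀ i, IsOpen (U i)) (hcov : ∀ x, ∃ i, x ∈ U i)
    (hirr : ∀ i, IsPreirreducible (U i)) (hmeet : ∀ i j, (U i ∩ U j).Nonempty) :
    IrreducibleSpace X := by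
  refine { toPreirreducibleSpace := ⟨?_⟩, toNonempty := inferInstance }
  intro u v hu hv ⟨a, _, ha⟩ ⟨b, _, hb⟩
  obtain ⟨i, hi⟩ := hcov a
  obtain ⟨j, hj⟩ := hcov b
  obtain ⟨c, hci, hcu, hcj⟩ := hirr i u (U j) hu (hU j) ⟨a, hi, ha⟩ (hmeet i j)
  obtain ⟨d, hdj, hdu, hdv⟩ := hirr j u v hu hv ⟨c, hcj, hcu⟩ ⟨b, hj, hb⟩
  exact ⟨d, Set.mem_univ _, hdu, hdv⟩

/-- Let k be an algebraically closed field, F an irreducible scheme of finite type over k, and f : X → Y
a k-morphism of schemes of finite type over k with Y irreducible which is locally trivial with fibre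
F: every point of Y has an open neighbourhood V such that f⁻¹(V) is isomorphic over V to V ×_k F.
Then X is irreducible. (The published statement is for varieties, i.e. reduced separated schemes;
this row assumes neither.) -/
theorem result (k : Type u) [Field k] [IsAlgClosed k]
    {X Y F : Scheme.{u}} (qX : X ⟶ Spec (CommRingCat.of k)) (qY : Y ⟶ Spec (CommRingCat.of k))
    (qF : F ⟶ Spec (CommRingCat.of k))
    [LocallyOfFiniteType qX] [QuasiCompact qX] [LocallyOfFiniteType qY] [QuasiCompact qY]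
    [LocallyOfFiniteType qF] [QuasiCompact qF] [IrreducibleSpace ↥F] [IrreducibleSpace ↥Y]
    (f : X ⟶ Y) (hf : f ≫ qY = qX)
    (htriv : ∀ y : ↥Y, ∃ V : Y.Opens, y ∈ V ∧
      ∃ e : (↑(f ⁻¹ᵁ V) : Scheme.{u}) ≅ pullback (V.ι ≫ qY) qF, e.hom ≫ pullback.fst (V.ι ≫ qY) qF = f ∣_ V) :
    IrreducibleSpace ↥X := by

  haveI : GeometricallyIrreducible qF :=
    Groth.Agent.Lib.Helper11.FBaseLib.geometricallyIrreducible_of_irreducibleSpace qF
  haveI : UniversallyOpen qF := inferInstance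
  haveI : Surjective qF := ⟨fun z => ⟨Nonempty.some inferInstance, Subsingleton.elim _ _⟩⟩
  choose V hyV hV using htriv
  choose e he using hV
  -- surjectivity onto each V
  have hsurj : ∀ (y : ↥Y) (z : ↥Y), z ∈ V y → ∃ x : ↥X, f x = z := by
    intro y z hz
    have h1 : Function.Surjective (f ∣_ V y) := by
      rw [← he y]
      exact ((e y).hom ≫ pullback.fst ((V y).ι ≫ qY) qF).surjective
    obtain ⟨x, hx⟩ := h1 ⟨z, hz⟩
    refine ⟨x.1, ?_⟩
    have := congrArg Subtype.val hx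
    rw [morphismRestrict_base_coe] at this
    exact this
  haveI : Nonempty ↥X := by
    obtain ⟨y0⟩ := (inferInstance : Nonempty ↥Y)
    obtain ⟨x, _⟩ := hsurj y0 y0 (hyV y0)
    exact ⟨x⟩
  have hirr : ∀ y, IsIrreducible ((f ⁻¹ᵁ V y : X.Opens) : Set X) := by
    intro y
    haveI : Nonempty ↥(V y).toScheme := ⟨⟨y, hyV y⟩⟩
    haveI : IrreducibleSpace ↥(V y).toScheme := (V y).ι.isOpenEmbedding.irreducibleSpace
    haveI : IrreducibleSpace ↥(pullback ((V y).ι ≫ qY) qF) := inferInstance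
    haveI : IrreducibleSpace ↥(f ⁻¹ᵁ V y) :=
      ((e y).hom.homeomorph.irreducibleSpace_iff).mpr inferInstance
    exact IsIrreducible.of_subtype (s := ((f ⁻¹ᵁ V y : X.Opens) : Set X))
  have hmeet : ∀ y y', (((f ⁻¹ᵁ V y : X.Opens) : Set X) ∩ ((f ⁻¹ᵁ V y' : X.Opens) : Set X)).Nonempty := by
    intro y y'
    obtain ⟨z, hz, hz'⟩ := nonempty_preirreducible_inter (V y).isOpen (V y').isOpen
      ⟨y, hyV y⟩ ⟨y', hyV y'⟩
    obtain ⟨x, hx⟩ := hsurj y z hz
    refine ⟨x, ?_, ?_⟩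
    · show f x ∈ V y
      rw [hx]; exact hz
    · show f x ∈ V y'
      rw [hx]; exact hz'
  exact irreducibleSpace_of_openCover' (fun y => ((f ⁻¹ᵁ V y : X.Opens) : Set X))
    (fun y => (f ⁻¹ᵁ V y).isOpen) (fun x => ⟨f x, hyV (f x)⟩)
    (fun y => (hirr y).isPreirreducible) hmeet

end Groth.Agent.S14375
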