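import Groth.Statements.S14378
-- import your own Groth.Agent.* helpers here
import Mathlib
import Groth.Agent.Lib.Helper12.IrrFibres
import Groth.Agent.Lib.Helper12.EquidimComp

set_option autoImplicit false
universe u
open CategoryTheory CategoryTheory.Limits AlgebraicGeometry
open Variety

namespace Groth.Agent.S14378
open Groth.Agent.Lib.Helper12 Groth.Agent.Lib.Helper12.SchemeDimFT
  Groth.Agent.Lib.Helper12.SchemeDimIneq Groth.Agent.Lib.Helper12.Equidim
  Groth.Agent.Lib.Helper12.FlatDim Groth.Agent.Lib.Helper12.IrrFibres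


/-- Let k be an algebraically closed field, X and Y schemes of finite type over k with Y irreducible,
and f : X → Y a k-morphism such that for some natural number d the fibre of f over every closed
point of Y (the subspace of points mapping to it) is irreducible of dimension d. Then (i) exactly
one irreducible component of X has dense image in Y, and (ii) each irreducible component Z of X is
made up of whole fibres — if Z meets the fibre over a closed point then it contains it — and dim Z =
d + dim f(Z)‾, the dimension of the closure of its image. (The published assertions are for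
varieties, i.e. reduced separated schemes; this row assumes neither.) -/
theorem result (k : Type u) [Field k] [IsAlgClosed k]
    {X Y : Scheme.{u}} (qX : X ⟶ Spec (CommRingCat.of k)) (qY : Y ⟶ Spec (CommRingCat.of k))
    [LocallyOfFiniteType qX] [QuasiCompact qX] [LocallyOfFiniteType qY] [QuasiCompact qY]
    (f : X ⟶ Y) (hf : f ≫ qY = qX) [IrreducibleSpace ↥Y] (d : ℕ)
    (hirr : ∀ y : ↥Y, IsClosed ({y} : Set ↥Y) → IsIrreducible (f.base ⁻¹' {y}))
    (hdim : ∀ y : ↥Y, IsClosed ({y} : Set ↥Y) → topologicalKrullDim ↥(f.base ⁻¹' {y}) = d) :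
    (∃! Z : Set ↥X, Z ∈ irreducibleComponents ↥X ∧ Dense (f.base '' Z)) ∧
      ∀ Z ∈ irreducibleComponents ↥X,
        (∀ y : ↥Y, IsClosed ({y} : Set ↥Y) → (f.base ⁻¹' {y} ∩ Z).Nonempty → f.base ⁻¹' {y} ⊆ Z) ∧
        topologicalKrullDim ↥Z = d + topologicalKrullDim ↥(closure (f.base '' Z)) := by
  subst hf
  haveI : LocallyOfFiniteType f := locallyOfFiniteType_of_comp f qY
  letI : Y.Over (Spec (CommRingCat.of k)) := ⟨qY⟩
  letI : X.Over (Spec (CommRingCat.of k)) := ⟨f ≫ qY⟩
  haveI : LocallyOfFiniteType (Y ↘ Spec (CommRingCat.of k)) := ‹LocallyOfFiniteType qY›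
  haveI : LocallyOfFiniteType (X ↘ Spec (CommRingCat.of k)) :=
    inferInstanceAs (LocallyOfFiniteType (f ≫ qY))
  haveI : IsLocallyNoetherian Y := LocallyOfFiniteType.isLocallyNoetherian qY
  haveI : CompactSpace X := QuasiCompact.compactSpace_of_compactSpace (f ≫ qY)
  haveI : QuasiCompact f := inferInstance
  have H := hyp_of_irreducible k qY f d hirr hdim
  have hgenY : ∀ y : Y, closure ({y} : Set Y) = Set.univ → y = genericPoint Y := by
    intro y hy
    have h1 : IsGenericPoint y (Set.univ : Set Y) := hy
    exact h1.eq (genericPoint_spec Y)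
  refine ⟨?_, ?_⟩
  · obtain ⟨ζ₀, hζ₀, hfζ₀⟩ := exists_isMaxPt_apply_eq_genericPoint H
    refine ⟨closure {ζ₀}, ⟨(mem_irreducibleComponents_iff _).mpr ⟨ζ₀, hζ₀, rfl⟩, ?_⟩, ?_⟩
    · rw [dense_iff_closure_eq, EquidimComp.closure_image_closure_singleton' f ζ₀, hfζ₀]
      exact (genericPoint_spec Y).def
    · rintro Z' ⟨hZ', hdense⟩
      obtain ⟨ζ', hζ', rfl⟩ := (mem_irreducibleComponents_iff Z').mp hZ'
      rw [dense_iff_closure_eq, EquidimComp.closure_image_closure_singleton' f ζ'] at hdense
      rw [eq_of_apply_eq_genericPoint H ζ' ζ₀ hζ' hζ₀ (hgenY _ hdense) hfζ₀]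
  · intro Z hZ
    obtain ⟨ζ, hζ, rfl⟩ := (mem_irreducibleComponents_iff Z).mp hZ
    refine ⟨?_, ?_⟩
    · rintro y hy ⟨x, hx1, hx2⟩ x' hx'
      have hx1' : f x = y := hx1
      have hx'' : f x' = y := hx'
      rw [← specializes_iff_mem_closure]
      exact specializes_of_meets H ζ hζ x (by rw [hx1']; exact hy)
        (specializes_iff_mem_closure.mpr hx2) x' (by rw [hx1', hx''])
    · rw [EquidimComp.closure_image_closure_singleton' f ζ,
        topologicalKrullDim_closure_singleton k X ζ,
        topologicalKrullDim_closure_singleton k Y (f ζ)]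
      have hadd := tr_eq_add_trn k qY f ζ
      rw [trn_eq_of_isMaxPt H ζ hζ] at hadd
      have hadd' : tr k X ζ = tr k Y (f ζ) + d := by exact_mod_cast hadd
      rw [hadd']
      push_cast
      rw [add_comm]

end Groth.Agent.S14378
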