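import Groth.Statements.S14379
-- import your own Groth.Agent.* helpers here
import Mathlib
import Groth.Agent.Lib.Helper12.NagataPowers

set_option autoImplicit false
open scoped TensorProduct
universe u
open CAlg

namespace Groth.Agent.S14379

/-- Let V be a discrete valuation ring with residue field k and fraction field K, let R be a flat
V-algebra of finite type such that both fibre rings k ⊗_V R and K ⊗_V R have Krull dimension at most
d, let x_1, …, x_d be elements of R and let N ≥ 1 be an integer. Then there are elements y_1, …, y_d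
of the subring of R generated by the N-th powers of elements of R such that, setting f_i = x_i +
y_i, the fibre ring k ⊗_V R is finite over the polynomial ring k[T_1, …, T_d] via T_i ↦ 1 ⊗ f_i and
K ⊗_V R is finite over K[T_1, …, T_d] via T_i ↦ 1 ⊗ f_i; in other words the morphism (f_1, …, f_d)
to affine d-space over V is finite on both fibres. -/
theorem result (V : Type u) [CommRing V] [IsDomain V]
    [IsDiscreteValuationRing V] (R : Type u) [CommRing R] [Algebra V R] [Module.Flat V R]
    [Algebra.FiniteType V R] (d : ℕ)
    (hs : ringKrullDim (IsLocalRing.ResidueField V ⊗[V] R) ≤ d)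
    (hη : ringKrullDim (FractionRing V ⊗[V] R) ≤ d)
    (x : Fin d → R) (N : ℕ) (hN : 1 ≤ N) :
    ∃ y : Fin d → R, (∀ i, y i ∈ Subring.closure (Set.range fun r : R => r ^ N)) ∧
      (MvPolynomial.aeval (fun i => (1 : IsLocalRing.ResidueField V) ⊗ₜ[V] (x i + y i)) :
          MvPolynomial (Fin d) (IsLocalRing.ResidueField V) →ₐ[IsLocalRing.ResidueField V]
            IsLocalRing.ResidueField V ⊗[V] R).toRingHom.Finite ∧
      (MvPolynomial.aeval (fun i => (1 : FractionRing V) ⊗ₜ[V] (x i + y i)) :
          MvPolynomial (Fin d) (FractionRing V) →ₐ[FractionRing V] FractionRing V ⊗[V] R).toRingHom.Finite := by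
  classical
  obtain ⟨m, f, hf⟩ := Algebra.FiniteType.iff_quotient_mvPolynomial''.mp
    (inferInstance : Algebra.FiniteType V R)
  let g₀ : Fin (m + d) → R := fun j =>
    if h : j.1 < m then f (MvPolynomial.X ⟨j.1, h⟩) else x ⟨j.1 - m, by omega⟩
  have hg₀ : ∀ j : Fin m, g₀ ⟨j.1, by omega⟩ = f (MvPolynomial.X j) := by
    intro j
    simp only [g₀, dif_pos j.2]
  have hgood₁ := Groth.Agent.Lib.Helper12.NagataU.good_of_generators V
    (IsLocalRing.ResidueField V) f hf g₀ (by omega) hg₀
  have hgood₂ := Groth.Agent.Lib.Helper12.NagataU.good_of_generators V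
    (FractionRing V) f hf g₀ (by omega) hg₀
  obtain ⟨y, hy, hy₁, hy₂⟩ := Groth.Agent.Lib.Helper12.NagataU.exists_perturbation V d N hN hs hη
    m (m + d) rfl g₀ hgood₁ hgood₂
  have hfun : (fun i : Fin d => g₀ ⟨m + i, by omega⟩ + y i) = fun i => x i + y i := by
    funext i
    have : g₀ ⟨m + i, by omega⟩ = x i := by
      simp only [g₀]
      rw [dif_neg (by omega)]
      congr 1
      exact Fin.ext (by simp)
    rw [this]
  rw [hfun] at hy₁ hy₂
  refine ⟨y, hy, ?_, ?_⟩
  · refine RingHom.IsIntegral.to_finite hy₁ ?_
    refine RingHom.FiniteType.of_comp_finiteType (f := (MvPolynomial.C :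
      IsLocalRing.ResidueField V →+* MvPolynomial (Fin d) (IsLocalRing.ResidueField V))) ?_
    have : (MvPolynomial.aeval (fun i => (1 : IsLocalRing.ResidueField V) ⊗ₜ[V] (x i + y i)) :
        MvPolynomial (Fin d) (IsLocalRing.ResidueField V) →ₐ[IsLocalRing.ResidueField V]
          IsLocalRing.ResidueField V ⊗[V] R).toRingHom.comp MvPolynomial.C =
        algebraMap (IsLocalRing.ResidueField V) (IsLocalRing.ResidueField V ⊗[V] R) := by
      ext c
      simp
    rw [this]
    exact RingHom.finiteType_algebraMap.mpr inferInstance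
  · refine RingHom.IsIntegral.to_finite hy₂ ?_
    refine RingHom.FiniteType.of_comp_finiteType (f := (MvPolynomial.C :
      FractionRing V →+* MvPolynomial (Fin d) (FractionRing V))) ?_
    have : (MvPolynomial.aeval (fun i => (1 : FractionRing V) ⊗ₜ[V] (x i + y i)) :
        MvPolynomial (Fin d) (FractionRing V) →ₐ[FractionRing V]
          FractionRing V ⊗[V] R).toRingHom.comp MvPolynomial.C =
        algebraMap (FractionRing V) (FractionRing V ⊗[V] R) := by
      ext c
      simp
    rw [this]
    exact RingHom.finiteType_algebraMap.mpr inferInstance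

end Groth.Agent.S14379
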