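import Groth.Statements.S14385
-- import your own Groth.Agent.* helpers here
import Mathlib
import Groth.Agent.S14379
import Groth.Agent.Lib.Helper12.EtaMain
import Groth.Agent.Lib.Helper12.EtaDim

set_option autoImplicit false
open scoped TensorProduct
open AlgebraicGeometry
universe u
open CAlg

namespace Groth.Agent.S14385

/-- Let V be a discrete valuation ring of characteristic zero with uniformizer ϖ, whose residue field k
is perfect of characteristic p > 0, with fraction field K; let R be a flat V-algebra of finite type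
such that the generic fibre Spec(K ⊗_V R) → Spec K is smooth of relative dimension d; and suppose
some d-tuple x' of elements of R defines a morphism f' from Spec R to affine d-space over V which is
η-étale, meaning that for some a ∈ R with (a) + (ϖ) = R the localisation R[1/(aϖ)] is étale over
V[T_1, …, T_d] via T_i ↦ x'_i (f' is étale on the generic fibre of an open neighbourhood of the
closed fibre). Then there is a d-tuple x in R whose morphism f is η-étale in the same sense and
finite on each fibre: k ⊗_V R is finite over k[T_1, …, T_d] and K ⊗_V R is finite over K[T_1, …,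
T_d] via T_i ↦ 1 ⊗ x_i. -/
theorem result (V : Type u) [CommRing V] [IsDomain V] [IsDiscreteValuationRing V] [CharZero V]
    (ϖ : V) (hϖ : Irreducible ϖ) (p : ℕ) [Fact p.Prime] [CharP (IsLocalRing.ResidueField V) p]
    [PerfectField (IsLocalRing.ResidueField V)]
    (R : Type u) [CommRing R] [Algebra V R] [Module.Flat V R] [Algebra.FiniteType V R] (d : ℕ)
    (hsm : SmoothOfRelativeDimension d
      (Spec.map (CommRingCat.ofHom (algebraMap (FractionRing V) (FractionRing V ⊗[V] R)))))
    (x' : Fin d → R) (hx' : (∃ a : R, Ideal.span {a} ⊔ Ideal.span {algebraMap V R ϖ} = ⊤ ∧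
        ((algebraMap R (Localization.Away (a * algebraMap V R ϖ))).comp
          (MvPolynomial.aeval x' : MvPolynomial (Fin d) V →ₐ[V] R).toRingHom).Etale)) :
    ∃ x : Fin d → R, (∃ a : R, Ideal.span {a} ⊔ Ideal.span {algebraMap V R ϖ} = ⊤ ∧
        ((algebraMap R (Localization.Away (a * algebraMap V R ϖ))).comp
          (MvPolynomial.aeval x : MvPolynomial (Fin d) V →ₐ[V] R).toRingHom).Etale) ∧
      (MvPolynomial.aeval (fun i => (1 : IsLocalRing.ResidueField V) ⊗ₜ[V] x i) :
          MvPolynomial (Fin d) (IsLocalRing.ResidueField V) →ₐ[IsLocalRing.ResidueField V]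
            IsLocalRing.ResidueField V ⊗[V] R).toRingHom.Finite ∧
      (MvPolynomial.aeval (fun i => (1 : FractionRing V) ⊗ₜ[V] x i) :
          MvPolynomial (Fin d) (FractionRing V) →ₐ[FractionRing V] FractionRing V ⊗[V] R).toRingHom.Finite := by
  classical
  have hη : ringKrullDim (FractionRing V ⊗[V] R) ≤ d :=
    Groth.Agent.Lib.Helper12.EtaDim.ringKrullDim_le_of_smoothOfRelativeDimension
      (FractionRing V) (FractionRing V ⊗[V] R) d hsm
  have hs : ringKrullDim (IsLocalRing.ResidueField V ⊗[V] R) ≤ d :=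
    Groth.Agent.Lib.Helper12.EtaDim.ringKrullDim_special_le d hη
  obtain ⟨a, ha, het⟩ := hx'
  have hcop : IsCoprime a (algebraMap V R ϖ) := by
    rw [← Ideal.isCoprime_span_singleton_iff, Ideal.isCoprime_iff_sup_eq]
    exact ha
  obtain ⟨t, ht⟩ := Groth.Agent.Lib.Helper12.EtaMain.exists_etale_perturb ϖ a x' hcop het
  -- `p` is divisible by `ϖ`
  have hpm : (p : V) ∈ IsLocalRing.maximalIdeal V := by
    rw [← IsLocalRing.residue_eq_zero_iff, map_natCast]
    exact CharP.cast_eq_zero (IsLocalRing.ResidueField V) p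
  rw [hϖ.maximalIdeal_eq] at hpm
  obtain ⟨u, hu⟩ := Ideal.mem_span_singleton'.mp hpm
  have hN : ((p ^ (t + 1) : ℕ) : V) = ϖ ^ (t + 1) * u ^ (t + 1) := by
    rw [Nat.cast_pow, ← hu, mul_pow, mul_comm]
  have hN1 : 1 ≤ p ^ (t + 1) := Nat.one_le_pow _ _ (Fact.out : p.Prime).pos
  obtain ⟨y, hy, hy₁, hy₂⟩ := Groth.Agent.S14379.result V R d hs hη x' (p ^ (t + 1)) hN1
  obtain ⟨a₂, hcop₂, het₂⟩ := ht (p ^ (t + 1)) (u ^ (t + 1)) hN y hy
  refine ⟨fun i => x' i + y i, ⟨a₂, ?_, het₂⟩, hy₁, hy₂⟩
  rw [← Ideal.isCoprime_iff_sup_eq, Ideal.isCoprime_span_singleton_iff]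
  exact hcop₂

end Groth.Agent.S14385
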