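import Groth.Statements.S1440
-- import your own Groth.Agent.* helpers here
import Mathlib
import Groth.Agent.Lib.Helper12.CDSpread

set_option autoImplicit false
universe u
open FlatMor

namespace Groth.Agent.S1440

open AlgebraicGeometry CategoryTheory Limits in
/-- Let f : X → Y be locally of finite presentation with Y quasi-compact and quasi-separated, and assume
f is completely decomposed: every point y of Y is the image of a point x at which the residue field
extension is trivial. Then there are finitely many immersions Z_i → Y of finite presentation,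
jointly surjective, such that each base change X ×_Y Z_i → Z_i admits a section. -/
theorem result {X Y : Scheme.{u}} (f : X ⟶ Y) [LocallyOfFinitePresentation f] [CompactSpace ↑Y] [QuasiSeparatedSpace ↑Y]
    (hcd : ∀ y : Y, ∃ x : X, f x = y ∧ Function.Bijective (f.residueFieldMap x)) :
    ∃ (n : ℕ) (Z : Fin n → Scheme.{u}) (z : ∀ i, Z i ⟶ Y), (∀ y : Y, ∃ i, y ∈ Set.range ⇑(z i)) ∧
      ∀ i, IsImmersion (z i) ∧ LocallyOfFinitePresentation (z i) ∧ QuasiCompact (z i) ∧ QuasiSeparated (z i) ∧
        ∃ s : Z i ⟶ pullback f (z i), s ≫ pullback.snd f (z i) = 𝟙 (Z i) := by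
  classical
  choose x hx hbij using hcd
  have key : ∀ y : Y, ∃ (Z : Scheme.{u}) (z : Z ⟶ Y) (t : Z ⟶ X), IsAffine Z ∧ IsImmersion z ∧
      LocallyOfFinitePresentation z ∧ QuasiCompact z ∧ t ≫ f = z ∧ y ∈ Set.range z := by
    intro y
    obtain ⟨Z, z, t, h1, h2, h3, h4, h5, h6⟩ :=
      Groth.Agent.Lib.Helper12.CDSpread.exists_fp_immersion_section f (x y) (hbij y)
    rw [hx y] at h6
    exact ⟨Z, z, t, h1, h2, h3, h4, h5, h6⟩
  choose Z z t hZaff hzimm hzfp hzqc hzt hzy using key
  have hcons : ∀ y : Y, Topology.IsConstructible (Set.range (z y)) := by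
    intro y
    haveI := hzfp y
    haveI := hzqc y
    rw [← Set.image_univ]
    exact (z y).isConstructible_image Topology.IsConstructible.univ
  obtain ⟨s, hs⟩ := Groth.Agent.Lib.Helper12.CDSpread.exists_finite_subcover_of_isConstructible
    (fun y : Y => Set.range (z y)) hcons (fun y => ⟨y, hzy y⟩)
  refine ⟨s.card, fun i => Z (s.equivFin.symm i).1, fun i => z (s.equivFin.symm i).1, ?_, ?_⟩
  · intro y
    obtain ⟨y', hy's, hy'⟩ := hs y
    refine ⟨s.equivFin ⟨y', hy's⟩, ?_⟩
    have e : (s.equivFin.symm (s.equivFin ⟨y', hy's⟩)).1 = y' := by simp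
    show y ∈ Set.range ⇑(z (s.equivFin.symm (s.equivFin ⟨y', hy's⟩)).1)
    rw [e]
    exact hy'
  · intro i
    haveI := hzimm (s.equivFin.symm i).1
    refine ⟨inferInstance, hzfp _, hzqc _, inferInstance, ?_⟩
    refine ⟨pullback.lift (t (s.equivFin.symm i).1) (𝟙 _) ?_, pullback.lift_snd _ _ _⟩
    rw [hzt, Category.id_comp]

end Groth.Agent.S1440
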