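import Groth.Statements.S14400
import Mathlib
import Groth.Agent.Lib.Helper11.GalInv
import Groth.Agent.Lib.Helper11.GalTensor
import Groth.Agent.S1584

set_option autoImplicit false
universe u
open CategoryTheory CategoryTheory.Limits AlgebraicGeometry
open Desc

namespace Groth.Agent.S14400

open Groth.Agent.Lib.Helper11.FBaseLib Groth.Agent.Lib.Helper11.FBaseLib2
  Groth.Agent.Lib.Helper11.BcLevels Groth.Agent.Lib.Helper11.GalTensor

theorem isUnit_appTop_of_range_subset {W Z : Scheme.{u}} (j : W ⟶ Z) (r : Γ(Z, ⊤))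
    (hj : ∀ w : W, j w ∈ Z.basicOpen r) : IsUnit (j.appTop r) := by
  have hb : W.basicOpen (j.appTop r) = ⊤ := by
    rw [← Scheme.preimage_basicOpen_top]
    ext w
    exact ⟨fun _ => trivial, fun _ => hj w⟩
  refine RingedSpace.isUnit_of_isUnit_germ _ ⊤ _ (fun x hx => ?_)
  have hx' : x ∈ W.basicOpen (j.appTop r) := by rw [hb]; trivial
  exact (Scheme.mem_basicOpen_top W _ x).mp hx'

theorem iSup_basicOpen_eq_top {Z : Scheme.{u}} {ι : Type*} [Fintype ι] (ε : ι → Γ(Z, ⊤))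
    (hsum : ∑ i, ε i = 1) : ⨆ i, Z.basicOpen (ε i) = ⊤ := by
  rw [eq_top_iff]
  intro x _
  rw [TopologicalSpace.Opens.mem_iSup]
  by_contra hcon
  push Not at hcon
  have h1 : ∀ i, (Z.presheaf.germ ⊤ x trivial) (ε i) ∈
      IsLocalRing.maximalIdeal (Z.presheaf.stalk x) := by
    intro i
    rw [IsLocalRing.mem_maximalIdeal, mem_nonunits_iff, ← Scheme.mem_basicOpen_top]
    exact hcon i
  have h2 : (Z.presheaf.germ ⊤ x trivial) (∑ i, ε i) ∈
      IsLocalRing.maximalIdeal (Z.presheaf.stalk x) := by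
    rw [map_sum]
    exact Ideal.sum_mem _ (fun i _ => h1 i)
  rw [hsum, map_one] at h2
  exact (Ideal.ne_top_iff_one _).mp (IsLocalRing.maximalIdeal.isMaximal _).ne_top h2

section
variable {k : Type u} [Field k] {K : Type u} [Field K] [Algebra k K]
  {X : Scheme.{u}} (a : X ⟶ Spec (CommRingCat.of k))

/-- the ring map `K → Γ(Z)` attached to a `Z`-point of `X_K` -/
noncomputable def psi {Z : Scheme.{u}} (t : Z ⟶ FBase.bc a K) : K →+* Γ(Z, ⊤) :=
  ((Scheme.ΓSpecIso (CommRingCat.of K)).inv ≫ (t ≫ FBase.bcStr a K).appTop).hom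

lemma psi_comp_algebraMap {Z : Scheme.{u}} (t : Z ⟶ FBase.bc a K) :
    (psi a t).comp (algebraMap k K) =
      ((Scheme.ΓSpecIso (CommRingCat.of k)).inv ≫ (t ≫ FBase.bcπ a K ≫ a).appTop).hom := by
  have claim : CommRingCat.ofHom (algebraMap k K) ≫ (Scheme.ΓSpecIso (CommRingCat.of K)).inv ≫
      (t ≫ FBase.bcStr a K).appTop =
      (Scheme.ΓSpecIso (CommRingCat.of k)).inv ≫ (t ≫ FBase.bcπ a K ≫ a).appTop := by
    rw [← Category.assoc, Scheme.ΓSpecIso_inv_naturality, Category.assoc, ← Scheme.Hom.comp_appTop,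
      Category.assoc]
    congr 3
    exact pullback.condition.symm
  rw [← claim]
  rfl

theorem key [FiniteDimensional k K] [IsGalois k K] {Z : Scheme.{u}} (a1 a2 : Z ⟶ FBase.bc a K)
    (h : a1 ≫ FBase.bcπ a K = a2 ≫ FBase.bcπ a K) :
    ∃ U : (K ≃ₐ[k] K) → Z.Opens, (⨆ σ, U σ = ⊤) ∧
      ∀ σ : K ≃ₐ[k] K, (U σ).ι ≫ a2 = (U σ).ι ≫ a1 ≫ bcHom a (σ : K →ₐ[k] K) := by
  have hψ : (psi a a1).comp (algebraMap k K) = (psi a a2).comp (algebraMap k K) := by
    rw [psi_comp_algebraMap, psi_comp_algebraMap, reassoc_of% h]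
  obtain ⟨ε, hsum, hε⟩ := exists_idempotents k K (psi a a1) (psi a a2) hψ
  refine ⟨fun σ => Z.basicOpen (ε σ), iSup_basicOpen_eq_top ε hsum, fun σ => ?_⟩
  have hunit : IsUnit ((Z.basicOpen (ε σ)).ι.appTop (ε σ)) :=
    isUnit_appTop_of_range_subset _ _ (fun w => w.2)
  apply pullback.hom_ext
  · change _ ≫ FBase.bcπ a K = _ ≫ FBase.bcπ a K
    rw [Category.assoc, Category.assoc, Category.assoc, bcHom_π, h]
  · change _ ≫ FBase.bcStr a K = _ ≫ FBase.bcStr a K
    rw [Category.assoc, Category.assoc, Category.assoc, bcHom_str]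
    apply ext_of_isAffine
    rw [← cancel_epi (Scheme.ΓSpecIso (CommRingCat.of K)).inv]
    ext y
    have e2 : ((Scheme.ΓSpecIso (CommRingCat.of K)).inv ≫
        ((Z.basicOpen (ε σ)).ι ≫ a2 ≫ FBase.bcStr a K).appTop) y =
        (Z.basicOpen (ε σ)).ι.appTop (psi a a2 y) := rfl
    have e1 : ((Scheme.ΓSpecIso (CommRingCat.of K)).inv ≫
        ((Z.basicOpen (ε σ)).ι ≫ a1 ≫ FBase.bcStr a K ≫
          Spec.map (CommRingCat.ofHom ((σ : K →ₐ[k] K) : K →+* K))).appTop) y =
        (Z.basicOpen (ε σ)).ι.appTop (psi a a1 (σ y)) := by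
      have hn := Scheme.ΓSpecIso_inv_naturality (CommRingCat.ofHom ((σ : K →ₐ[k] K) : K →+* K))
      have : ((Z.basicOpen (ε σ)).ι ≫ a1 ≫ FBase.bcStr a K ≫
          Spec.map (CommRingCat.ofHom ((σ : K →ₐ[k] K) : K →+* K))).appTop =
          (Spec.map (CommRingCat.ofHom ((σ : K →ₐ[k] K) : K →+* K))).appTop ≫
            (a1 ≫ FBase.bcStr a K).appTop ≫ (Z.basicOpen (ε σ)).ι.appTop := by
        simp only [Scheme.Hom.comp_appTop, Category.assoc]
      rw [this, ← Category.assoc, ← hn]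
      rfl
    rw [e2, e1]
    have := congrArg (Z.basicOpen (ε σ)).ι.appTop (hε σ y)
    rw [map_mul, map_mul] at this
    exact hunit.mul_left_inj.mp this

theorem core [FiniteDimensional k K] [IsGalois k K] {Y : Scheme.{u}}
    (b : Y ⟶ Spec (CommRingCat.of k))
    (g : FBase.bc a K ⟶ FBase.bc b K) (hg : g ≫ FBase.bcStr b K = FBase.bcStr a K) :
    (∃ f : X ⟶ Y, f ≫ b = a ∧ g ≫ FBase.bcπ b K = FBase.bcπ a K ≫ f) ↔
      ∀ σ : K ≃ₐ[k] K, bcHom a (σ : K →ₐ[k] K) ≫ g = g ≫ bcHom b (σ : K →ₐ[k] K) := by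
  constructor
  · rintro ⟨f, hf, hgf⟩ σ
    apply pullback.hom_ext
    · change _ ≫ FBase.bcπ b K = _ ≫ FBase.bcπ b K
      rw [Category.assoc, Category.assoc, bcHom_π, hgf, bcHom_π_assoc]
    · change _ ≫ FBase.bcStr b K = _ ≫ FBase.bcStr b K
      rw [Category.assoc, Category.assoc, bcHom_str, hg, reassoc_of% hg, bcHom_str]
  · intro hσ
    haveI : Flat (Spec.map (CommRingCat.ofHom (algebraMap k K))) := by
      rw [HasRingHomProperty.Spec_iff (P := @Flat)]
      exact RingHom.flat_algebraMap_iff.mpr inferInstance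
    haveI : Flat (FBase.bcπ a K) := MorphismProperty.pullback_fst (P := @Flat) a _ inferInstance
    haveI : QuasiCompact (FBase.bcπ a K) := inferInstance
    haveI : EffectiveEpi (FBase.bcπ a K) := inferInstance
    have hdesc : ∀ {Z : Scheme.{u}} (a1 a2 : Z ⟶ FBase.bc a K),
        a1 ≫ FBase.bcπ a K = a2 ≫ FBase.bcπ a K →
        a1 ≫ (g ≫ FBase.bcπ b K) = a2 ≫ (g ≫ FBase.bcπ b K) := by
      intro Z a1 a2 h
      obtain ⟨U, hU, hUσ⟩ := key a a1 a2 h
      refine (Z.openCoverOfIsOpenCover U hU).hom_ext _ _ (fun σ => ?_)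
      change (U σ).ι ≫ a1 ≫ g ≫ FBase.bcπ b K = (U σ).ι ≫ a2 ≫ g ≫ FBase.bcπ b K
      rw [reassoc_of% (hUσ σ), reassoc_of% (hσ σ), bcHom_π]
    refine ⟨EffectiveEpi.desc (FBase.bcπ a K) (g ≫ FBase.bcπ b K) hdesc, ?_, ?_⟩
    · rw [← cancel_epi (FBase.bcπ a K), ← Category.assoc, EffectiveEpi.fac, Category.assoc]
      have c1 : FBase.bcπ b K ≫ b = FBase.bcStr b K ≫
          Spec.map (CommRingCat.ofHom (algebraMap k K)) := pullback.condition
      have c2 : FBase.bcπ a K ≫ a = FBase.bcStr a K ≫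
          Spec.map (CommRingCat.ofHom (algebraMap k K)) := pullback.condition
      rw [c1, c2, reassoc_of% hg]
    · exact (EffectiveEpi.fac _ _ _).symm

end

/-- Let K/k be a finite Galois extension of fields, X and Y schemes over k with base changes X_K and
Y_K, and g : X_K ⟶ Y_K a morphism over Spec K. Then g is the base change of a k-morphism f : X ⟶ Y
(that is, g followed by the projection Y_K ⟶ Y is the projection X_K ⟶ X followed by f) if and only
if g commutes with the action of every k-automorphism σ of K on X_K and on Y_K (the identity on X,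
resp. Y, and Spec σ on the factor Spec K). In other words the image of the k-morphisms X ⟶ Y among
the K-morphisms X_K ⟶ Y_K is exactly the set of Galois-invariant ones. -/
theorem result (k : Type u) [Field k] (K : Type u) [Field K]
    [Algebra k K] [FiniteDimensional k K] [IsGalois k K]
    (X Y : Scheme.{u}) [X.Over (Spec (CommRingCat.of k))] [Y.Over (Spec (CommRingCat.of k))]
    (g : Curv2.bc k X K ⟶ Curv2.bc k Y K) (hg : g ≫ Curv2.bcSnd k Y K = Curv2.bcSnd k X K) :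
    (∃ f : X ⟶ Y, f ≫ (Y ↘ Spec (CommRingCat.of k)) = X ↘ Spec (CommRingCat.of k) ∧
        g ≫ Curv2.bcFst k Y K = Curv2.bcFst k X K ≫ f) ↔
      ∀ σ : K ≃ₐ[k] K, Curv2.galAct k X K σ ≫ g = g ≫ Curv2.galAct k Y K σ := by

  simp only [Groth.Agent.S1584.galAct_eq]
  exact core (X ↘ Spec (CommRingCat.of k)) (Y ↘ Spec (CommRingCat.of k)) g hg

end Groth.Agent.S14400
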