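import Groth.Statements.S14401
import Mathlib
import Groth.Agent.Lib.Helper12.GenericPts
-- import your own Groth.Agent.* helpers here

set_option autoImplicit false
universe u
open CategoryTheory AlgebraicGeometry
open Props

namespace Groth.Agent.S14401

open Groth.Agent.Lib.Helper12

/-- In a scheme whose local rings are domains, two irreducible components through a point
coincide. -/
theorem component_unique (X : Scheme.{u}) (hX : ∀ x : X, IsDomain (X.presheaf.stalk x))
    (x : X) (Z1 : Set X) (hZ1 : Z1 ∈ irreducibleComponents (X : Type u)) (Z2 : Set X)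
    (hZ2 : Z2 ∈ irreducibleComponents (X : Type u)) (hx1 : x ∈ Z1) (hx2 : x ∈ Z2) : Z1 = Z2 := by
  haveI := hX x
  let b : Spec (X.presheaf.stalk x) := (⟨⊥, Ideal.isPrime_bot⟩ : PrimeSpectrum (X.presheaf.stalk x))
  have key : ∀ Z ∈ irreducibleComponents (X : Type u), x ∈ Z →
      closure {X.fromSpecStalk x b} = Z := by
    intro Z hZ hxZ
    have hZirr : IsIrreducible Z := hZ.1
    have hZcl : IsClosed Z := isClosed_of_mem_irreducibleComponents Z hZ
    obtain ⟨η, hη⟩ := QuasiSober.sober hZirr hZcl
    have hηx : η ⤳ x := hη.specializes hxZ
    have hmem : η ∈ Set.range (X.fromSpecStalk x) := by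
      rw [Scheme.range_fromSpecStalk]; exact hηx
    obtain ⟨p, hp⟩ := hmem
    have hbp : b ⤳ p :=
      (PrimeSpectrum.le_iff_specializes (b : PrimeSpectrum (X.presheaf.stalk x)) p).1 bot_le
    have h1 : X.fromSpecStalk x b ⤳ η := hp ▸ hbp.map (X.fromSpecStalk x).continuous
    have hηgen : closure {η} ∈ irreducibleComponents (X : Type u) := by
      rw [hη.def]; exact hZ
    have h2 := eq_of_specializes_of_mem_irreducibleComponents hηgen h1
    rw [h2, hη.def]
  rw [← key Z1 hZ1 hx1, ← key Z2 hZ2 hx2]

/-- Let X be a Noetherian scheme all of whose local rings are integral domains. Then each irreducible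
component of X is an open subset of X, and each point of X lies on exactly one irreducible component
(so the irreducible components of X are pairwise disjoint, open and closed, and coincide with the
connected components). (The published statement assumes X regular and Noetherian; its argument uses
only that the local rings of X are domains, which is the hypothesis taken here.) -/
theorem result (X : Scheme.{u}) [AlgebraicGeometry.IsNoetherian X]
    (hX : ∀ x : X, IsDomain (X.presheaf.stalk x)) :
    (∀ Z ∈ irreducibleComponents (X : Type u), IsOpen Z) ∧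
      ∀ x : X, ∃! Z, Z ∈ irreducibleComponents (X : Type u) ∧ x ∈ Z := by
  refine ⟨?_, fun x => ⟨irreducibleComponent x,
    ⟨irreducibleComponent_mem_irreducibleComponents x, mem_irreducibleComponent⟩,
    fun Z hZ => component_unique X hX x Z hZ.1 _
      (irreducibleComponent_mem_irreducibleComponents x) hZ.2 mem_irreducibleComponent⟩⟩
  intro Z hZ
  have hfin : (irreducibleComponents (X : Type u)).Finite :=
    finite_irreducibleComponents_of_isNoetherian
  have hcompl : Zᶜ = ⋃ Z' ∈ (irreducibleComponents (X : Type u)) \ {Z}, Z' := by
    ext x
    constructor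
    · intro hx
      refine Set.mem_biUnion (x := irreducibleComponent x)
        ⟨irreducibleComponent_mem_irreducibleComponents x, fun h => hx ?_⟩ mem_irreducibleComponent
      rw [← Set.mem_singleton_iff.1 h]
      exact mem_irreducibleComponent
    · intro hx hxZ
      obtain ⟨Z', ⟨hZ', hne⟩, hxZ'⟩ := Set.mem_iUnion₂.1 hx
      exact hne (component_unique X hX x Z' hZ' Z hZ hxZ' hxZ)
  have hclosed : IsClosed Zᶜ := by
    rw [hcompl]
    exact (hfin.subset Set.diff_subset).isClosed_biUnion
      (fun Z' hZ' => isClosed_of_mem_irreducibleComponents Z' hZ'.1)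
  have := hclosed.isOpen_compl
  rwa [compl_compl] at this

end Groth.Agent.S14401
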