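import Groth.Statements.S14404
-- import your own Groth.Agent.* helpers here
import Mathlib
import Groth.Agent.Lib.Helper12.FlatDim

set_option autoImplicit false
universe u
open CategoryTheory AlgebraicGeometry
open FlatMor

namespace Groth.Agent.S14404
open Groth.Agent.Lib.Helper12 Groth.Agent.Lib.Helper12.SchemeDimFT
  Groth.Agent.Lib.Helper12.SchemeDimIneq Groth.Agent.Lib.Helper12.Equidim
  Groth.Agent.Lib.Helper12.FlatDim

theorem dim_univ_eq (T : Type u) [TopologicalSpace T] :
    topologicalKrullDim (Set.univ : Set T) = topologicalKrullDim T :=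
  IsHomeomorph.topologicalKrullDim_eq _ (Homeomorph.Set.univ T).isHomeomorph


/-- Let k be a field, X and Y irreducible schemes of finite type over k and f : X ⟶ Y a flat k-morphism.
Then dim Y ≤ dim X, and for every point y of Y every irreducible component Z of the scheme-theoretic
fibre of f over y has dim Z + dim Y = dim X; that is, every non-empty fibre has all its irreducible
components of dimension dim X − dim Y. -/
theorem result (k : Type u) [Field k]
    {X Y : Scheme.{u}} (qX : X ⟶ Spec (CommRingCat.of k)) (qY : Y ⟶ Spec (CommRingCat.of k))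
    [LocallyOfFiniteType qX] [QuasiCompact qX] [LocallyOfFiniteType qY] [QuasiCompact qY]
    [IrreducibleSpace X] [IrreducibleSpace Y] (f : X ⟶ Y) (hf : f ≫ qY = qX) [Flat f] :
    topologicalKrullDim Y ≤ topologicalKrullDim X ∧
      ∀ (y : Y), ∀ Z ∈ irreducibleComponents (f.fiber y : Type u),
        topologicalKrullDim Z + topologicalKrullDim Y = topologicalKrullDim X := by
  subst hf
  haveI : LocallyOfFiniteType f := locallyOfFiniteType_of_comp f qY
  letI : Y.Over (Spec (CommRingCat.of k)) := ⟨qY⟩
  letI : X.Over (Spec (CommRingCat.of k)) := ⟨f ≫ qY⟩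
  haveI : LocallyOfFiniteType (Y ↘ Spec (CommRingCat.of k)) := ‹LocallyOfFiniteType qY›
  haveI : LocallyOfFiniteType (X ↘ Spec (CommRingCat.of k)) :=
    inferInstanceAs (LocallyOfFiniteType (f ≫ qY))
  have hYd : topologicalKrullDim Y = ((tr k Y (genericPoint Y) : ℕ) : WithBot ℕ∞) :=
    topologicalKrullDim_eq_of_irreducible k Y _ (tr_spec k Y _)
  have hXd : topologicalKrullDim X = ((tr k X (genericPoint X) : ℕ) : WithBot ℕ∞) :=
    topologicalKrullDim_eq_of_irreducible k X _ (tr_spec k X _)
  have hmaxX : IsMaxPt (genericPoint X) := fun w hw =>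
    ((genericPoint_specializes w).antisymm hw).eq.symm
  have hgen : f (genericPoint X) = genericPoint Y :=
    ((genericPoint_specializes _).antisymm
      (specializes_of_eq (isMaxPt_apply_of_flat f _ hmaxX _ (genericPoint_specializes _)).symm)).eq.symm
  obtain ⟨t, ht⟩ := exists_trn_eq f (genericPoint X)
  have hadd := tr_eq_add_trn k qY f (genericPoint X)
  rw [ht, hgen] at hadd
  have hadd' : tr k X (genericPoint X) = tr k Y (genericPoint Y) + t := by exact_mod_cast hadd
  have hcY : ∀ Z ∈ irreducibleComponents (Y : Type u),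
      topologicalKrullDim Z = ((tr k Y (genericPoint Y) : ℕ) : WithBot ℕ∞) := by
    intro Z hZ
    rw [irreducibleComponents_eq_singleton, Set.mem_singleton_iff] at hZ
    rw [hZ, dim_univ_eq, hYd]
  have hcX : ∀ Z ∈ irreducibleComponents (X : Type u),
      topologicalKrullDim Z = ((tr k Y (genericPoint Y) + t : ℕ) : WithBot ℕ∞) := by
    intro Z hZ
    rw [irreducibleComponents_eq_singleton, Set.mem_singleton_iff] at hZ
    rw [hZ, dim_univ_eq, hXd, hadd']
  have key := (equidim_iff_fibres k qY f _ t hcY).mp hcX
  rw [hYd, hXd, hadd']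
  refine ⟨by exact_mod_cast Nat.le_add_right _ _, fun y Z hZ => ?_⟩
  rw [key y Z hZ]
  push_cast
  rw [add_comm]

end Groth.Agent.S14404
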