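import Groth.Statements.S14408
import Groth.Agent.Lib.Helper23.HilbPL
import Groth.Agent.Lib.Helper23.HilbPC
import Groth.Agent.Lib.Helper23.HilbPK
import Groth.Agent.Lib.Helper23.AmpleCurve5
import Groth.Agent.Lib.Helper3.QProj
import Groth.Agent.Lib.Helper7.AmpleSerre

set_option autoImplicit false
universe u
open CategoryTheory CategoryTheory.Limits AlgebraicGeometry
open HilbNum

namespace Groth.Agent.S14408

/-- Let k be an algebraically closed field, n a positive integer, F a nonzero coherent O-module on
projective n-space P over k (quasi-coherent of finite type), and P_F a polynomial with rational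
coefficients such that P_F(m) = χ(F(m)) = Σ_{j ≤ n} (-1)^j dim_k H^j(P, F ⊗ O(m)) for every integer
m. Then the degree of P_F equals the dimension of the support of F (the closed set of points where
the stalk of F is nonzero, with the subspace topology). The existence of such a polynomial is not
part of this statement; it enters through the hypothesis on P_F. -/
theorem result (k : Type u) [Field k] [IsAlgClosed k] (n : ℕ) (hn : 0 < n)
    (F : (CohB1.ProjSpace n k).Modules) (hF : Coh.IsCoh F) (hF0 : ¬ IsZero F) (P : Polynomial ℚ)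
    (hP : ∀ m : ℤ,
      ((Finset.range (n + 1)).sum fun j => (-1 : ℚ) ^ j *
        (Module.finrank k (Coh.HH (CohB1.ProjSpace n k) (CohB1.tensorMod F (Twist.twistProjSpace n k m)) j) : ℚ)) =
      P.eval (m : ℚ)) :
    topologicalKrullDim ↥(CohB1.support F) = (P.natDegree : WithBot ℕ∞) := by
  classical
  letI : (CohB1.ProjSpace n k).Over (Spec (CommRingCat.of k)) := ⟨CohB1.ProjSpace.toSpec n k⟩
  haveI : IsProper ((CohB1.ProjSpace n k) ↘ Spec (CommRingCat.of k)) :=
    Groth.Agent.Lib.Helper3.QProj.isProper_toSpec k n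
  have hL := Groth.Agent.Lib.Helper23.AmpleCurve.isAmple_twistProjSpace n k
  let e : CohB1.tensorPow (Twist.twistProjSpace n k 1) 1 ≅
      (Scheme.Modules.pullback (𝟙 (CohB1.ProjSpace n k))).obj (Twist.twistProjSpace n k 1) :=
    (Groth.Agent.Lib.Helper3.InvMonoidal.powOne (Twist.twistProjSpace n k 1)).symm ≪≫
      ((Scheme.Modules.pullbackId _).app (Twist.twistProjSpace n k 1)).symm
  have hlen : ∀ (V : Type u) [AddCommGroup V] [Module k V],
      (Module.length k V).toNat = Module.finrank k V := by
    intro V _ _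
    rw [Module.length_eq_rank, Module.finrank]
    exact Cardinal.toNat_toENat _
  have hQ : ShStab.IsHilbPoly k (CohB1.ProjSpace n k) (Twist.twistProjSpace n k 1) F P := by
    intro m
    obtain ⟨ed⟩ := Groth.Agent.Lib.Helper7.AmpleSerre.nonempty_pow_iso k
      (𝟙 (CohB1.ProjSpace n k)) e m
    have ed' : CohB1.tensorPow (Twist.twistProjSpace n k 1) m ≅
        Twist.twistProjSpace n k (m : ℤ) :=
      eqToIso (by rw [one_mul]) ≪≫ ed ≪≫ (Scheme.Modules.pullbackId _).app _
    have hT : PicF.IsInvertible (Twist.twistProjSpace n k (m : ℤ)) :=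
      Groth.Agent.Lib.Helper3.InvAmple.isInvertible_of_iso ed'
        (Groth.Agent.Lib.Helper3.InvTensor.isInvertible_tensorPow hL.1 m)
    unfold ShStab.twist
    rw [Groth.Agent.Lib.Helper23.FBC.euler_eq_of_iso' k
      (Groth.Agent.Lib.Helper3.InvMonoidal.tensorMapIso (Iso.refl F) ed')]
    rw [Groth.Agent.Lib.Helper23.HilbP.euler_eq_sum_of_closedImmersion k _ n
      (𝟙 (CohB1.ProjSpace n k)) (Category.id_comp _) _
      (Groth.Agent.Lib.Helper23.HilbP.isCoh_tensor_inv _ hT hF)]
    have h1 := hP (m : ℤ)
    simp only [Int.cast_natCast] at h1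
    rw [← h1]
    apply Finset.sum_congr rfl
    intro j _
    rw [hlen]
  have hpos := Groth.Agent.Lib.Helper23.HilbP.leadingCoeff_pos k hL F hF hF0 hQ
  have hP0 : P ≠ 0 := fun h => by
    rw [h, Polynomial.leadingCoeff_zero] at hpos
    exact lt_irrefl _ hpos
  have h1 := Groth.Agent.Lib.Helper23.HilbP.natDegree_le_dim k hL F hF hQ hP0
  apply le_antisymm _ h1
  by_contra hlt
  rw [not_le] at hlt
  have key : ∀ (x : WithBot ℕ∞) (n : ℕ), (n : WithBot ℕ∞) < x →
      ((n + 1 : ℕ) : WithBot ℕ∞) ≤ x := by
    intro x n hx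
    induction x using WithBot.recBotCoe with
    | bot => exact absurd hx (not_lt_bot)
    | coe y =>
      have h' : (n : ℕ∞) < y := by exact_mod_cast hx
      have h'' : (n : ℕ∞) + 1 ≤ y := Order.add_one_le_of_lt h'
      exact_mod_cast h''
  have h2 := key _ _ hlt
  have h3 := Groth.Agent.Lib.Helper23.HilbP.dim_le_natDegree k hL F hF hQ (P.natDegree + 1) h2
  omega
end Groth.Agent.S14408
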