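import Groth.Statements.S14413
import Mathlib
import Groth.Agent.Lib.Helper10.Resolution

set_option autoImplicit false
universe u
open CategoryTheory CategoryTheory.Limits
open CAlg

namespace Groth.Agent.S14413


section Helpers

variable {R : Type u} [CommRing R]

/-- prepend an object to a sequence of objects -/
noncomputable def consX (P₀ : ModuleCat.{u} R) (X : ℕ → ModuleCat.{u} R) : ℕ → ModuleCat.{u} R
  | 0 => P₀
  | n + 1 => X n

/-- prepend a map to a sequence of maps -/
noncomputable def consD (P₀ : ModuleCat.{u} R) (X : ℕ → ModuleCat.{u} R)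
    (d : ∀ n, X (n + 1) ⟶ X n) (d₀ : X 0 ⟶ P₀) : ∀ n, consX P₀ X (n + 1) ⟶ consX P₀ X n
  | 0 => d₀
  | n + 1 => d n

/-- concrete projective resolution data of length at most `k` -/
def HasRes (M : ModuleCat.{u} R) (k : ℕ) : Prop :=
  ∃ (X : ℕ → ModuleCat.{u} R) (d : ∀ n, X (n + 1) ⟶ X n) (ε : X 0 ⟶ M),
    (∀ n, Projective (X n)) ∧ Function.Surjective ε ∧ Function.Exact (d 0) ε ∧
    (∀ n, Function.Exact (d (n + 1)) (d n)) ∧ ∀ i, k < i → IsZero (X i)

lemma hasRes_of_projective (M : ModuleCat.{u} R) [Projective M] : HasRes M 0 := by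
  refine ⟨consX M (fun _ => ModuleCat.of R PUnit), consD M _ (fun _ => 0) 0, 𝟙 M, ?_, ?_, ?_, ?_, ?_⟩
  · intro n
    cases n with
    | zero => exact ‹Projective M›
    | succ n => exact (ModuleCat.isZero_of_subsingleton (ModuleCat.of R PUnit)).projective
  · intro x
    exact ⟨x, rfl⟩
  · intro y
    constructor
    · intro hy
      exact ⟨0, hy.symm⟩
    · rintro ⟨x, rfl⟩
      rfl
  · intro n y
    have hy : y = 0 := Subsingleton.elim (α := PUnit) _ _
    subst hy
    constructor
    · intro _
      exact ⟨0, map_zero _⟩
    · intro _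
      exact map_zero _
  · intro i hi
    cases i with
    | zero => omega
    | succ i => exact ModuleCat.isZero_of_subsingleton (ModuleCat.of R PUnit)

lemma hasRes_step (S : ShortComplex (ModuleCat.{u} R)) (hS : S.ShortExact) [Projective S.X₂]
    (k : ℕ) (h : HasRes S.X₁ k) : HasRes S.X₃ (k + 1) := by
  obtain ⟨X', d', ε', hproj, hsurj, hex0, hex, hz⟩ := h
  have hSex : Function.Exact S.f S.g :=
    (ShortComplex.ShortExact.moduleCat_exact_iff_function_exact S).1 hS.exact
  have hinj : Function.Injective S.f := hS.moduleCat_injective_f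
  have e0 : Function.Exact (ε' ≫ S.f) S.g := by
    intro y
    rw [hSex y]
    constructor
    · rintro ⟨k, rfl⟩
      obtain ⟨x, rfl⟩ := hsurj k
      exact ⟨x, rfl⟩
    · rintro ⟨x, rfl⟩
      exact ⟨ε' x, rfl⟩
  have e1 : Function.Exact (d' 0) (ε' ≫ S.f) := by
    intro y
    have h1 : (ε' ≫ S.f) y = 0 ↔ ε' y = 0 := by
      constructor
      · intro h
        apply hinj
        rw [map_zero]
        exact h
      · intro h
        show S.f (ε' y) = 0
        rw [h, map_zero]
    exact h1.trans (hex0 y)
  refine ⟨consX S.X₂ X', consD S.X₂ X' d' (ε' ≫ S.f), S.g, ?_, hS.moduleCat_surjective_g,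
    e0, ?_, ?_⟩
  · intro n
    cases n with
    | zero => exact ‹Projective S.X₂›
    | succ n => exact hproj n
  · intro n
    cases n with
    | zero => exact e1
    | succ n => exact hex n
  · intro i hi
    cases i with
    | zero => omega
    | succ i => exact hz i (by omega)

lemma hasRes_of_pd : ∀ (k : ℕ) (M : ModuleCat.{u} R), HasProjectiveDimensionLT M (k + 1) →
    HasRes M k := by
  intro k
  induction k with
  | zero =>
    intro M hM
    haveI : Projective M := projective_iff_hasProjectiveDimensionLT_one.2 hM
    exact hasRes_of_projective M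
  | succ k ih =>
    intro M hM
    have hS := M.shortExact_projectiveShortComplex
    haveI : Projective M.projectiveShortComplex.X₂ :=
      ModuleCat.projective_of_categoryTheory_projective M.projectiveShortComplex.X₂
    have h1 : HasProjectiveDimensionLT M.projectiveShortComplex.X₁ (k + 1) :=
      (hS.hasProjectiveDimensionLT_X₃_iff k inferInstance).1 hM
    exact hasRes_step M.projectiveShortComplex hS k (ih _ h1)

end Helpers

/-- Let R be a commutative ring, M an R-module and d ≥ 0. Then M has projective dimension at most d in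
the sense that Ext^i_R(M, N) = 0 for every i > d and every R-module N (Mathlib's Ext-vanishing
definition) if and only if M has a projective resolution of length at most d, i.e. a projective
resolution P whose terms P_i are zero for all i > d (the definition of pd_R(M) ≤ d by resolutions). -/
theorem result (R : Type u) [CommRing R]
    (M : ModuleCat.{u} R) (d : ℕ) :
    HasProjectiveDimensionLE M d ↔
      ∃ P : ProjectiveResolution M, ∀ i : ℕ, d < i → IsZero (P.complex.X i) := by
  constructor
  · intro h
    obtain ⟨X, dd, ε, hproj, hsurj, hex0, hex, hz⟩ := hasRes_of_pd d M h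
    haveI := hproj
    have sq : ∀ n, dd (n + 1) ≫ dd n = 0 := fun n =>
      ModuleCat.hom_ext (LinearMap.ext fun x => (hex n).apply_apply_eq_zero x)
    have hε0 : dd 0 ≫ ε = 0 :=
      ModuleCat.hom_ext (LinearMap.ext fun x => hex0.apply_apply_eq_zero x)
    obtain ⟨P, hP⟩ := Groth.Agent.Lib.Helper10.exists_projectiveResolution R X dd sq M ε hε0
      hsurj hex0 hex
    refine ⟨P, fun i hi => ?_⟩
    rw [hP]
    exact hz i hi
  · rintro ⟨P, hP⟩
    letI := HasExt.standard (ModuleCat.{u} R)
    show HasProjectiveDimensionLT M (d + 1)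
    rw [hasProjectiveDimensionLT_iff]
    intro i hi Y α
    obtain ⟨f, hf, rfl⟩ := P.extMk_surjective α (i + 1) rfl
    have hf0 : f = 0 := (hP i (by omega)).eq_of_src _ _
    subst hf0
    exact P.extMk_zero (i + 1) rfl

end Groth.Agent.S14413
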