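-- Statement S14415.
import Groth.Statements.S14415
import Mathlib
import Groth.Agent.Lib.Helper1.ModDescNoeth
import Groth.Agent.Lib.Helper1.AssPush
import Groth.Agent.Lib.Helper7.DegPull
import Groth.Agent.Lib.Helper17.FinLocFreeSec
import Groth.Agent.Lib.Helper17.FlatClosure
import Groth.Agent.Lib.Helper9.RegLocal

set_option autoImplicit false
universe u
open CategoryTheory AlgebraicGeometry
open FlatMor

namespace Groth.Agent.S14415


open Groth.Agent.Lib in
theorem flat_aux (R M : Type u) [CommRing R] [IsLocalRing R] [IsNoetherianRing R] [IsDomain R]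
    [ValuationRing R] [AddCommGroup M] [Module R M] (hd : ringKrullDim R ≤ 1)
    (h : IsAssociatedPrime (IsLocalRing.maximalIdeal R) M → ringKrullDim R = 0) :
    Module.Flat R M := by
  rw [Module.Flat.flat_iff_torsion_eq_bot_of_isBezout]
  rw [eq_bot_iff]
  intro m hm
  rw [Submodule.mem_bot]
  by_contra hm0
  rw [Submodule.mem_torsion_iff] at hm
  obtain ⟨⟨a, ha⟩, ham⟩ := hm
  have ha0 : a ≠ 0 := nonZeroDivisors.ne_zero ha
  obtain ⟨P, hP, hle⟩ := exists_le_isAssociatedPrime_of_isNoetherianRing R m hm0
  have haP : a ∈ P := hle (by
    rw [Submodule.mem_colon_singleton]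
    simpa using ham)
  haveI : Ring.KrullDimLE 1 R := Ring.krullDimLE_iff.mpr hd
  have hPne : P ≠ ⊥ := fun e => ha0 (by simpa [e] using haP)
  have hPmax : P.IsMaximal := hP.isPrime.isMaximal_of_ne_bot hPne
  have hPeq : P = IsLocalRing.maximalIdeal R := IsLocalRing.eq_maximalIdeal hPmax
  have h0 := h (hPeq ▸ hP)
  haveI : Ring.KrullDimLE 0 R := Ring.krullDimLE_iff.mpr h0.le
  have hfield : IsField R := Ring.KrullDimLE.isField_of_isDomain
  have : IsLocalRing.maximalIdeal R = ⊥ := IsLocalRing.isField_iff_maximalIdeal_eq.mp hfield
  exact hPne (hPeq.trans this)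

/-- Let f : C → C' be a finite morphism of schemes, with C' locally Noetherian and all local rings of C'
regular of dimension at most one, such that every associated point x of C (a point whose maximal
ideal is an associated prime of O_{C,x}) maps to a point of C' whose local ring is zero-dimensional,
that is, to a generic point of an irreducible component of C'. Then f_* O_C is finite locally free.
(The published statement takes C' regular Noetherian of pure dimension one and C Noetherian of pure
dimension one without embedded points; these hypotheses imply that every associated point of C maps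
to a generic point of C'. This row assumes only that condition, allows C' locally Noetherian with
regular local rings of dimension at most one, and puts no condition on the dimension of C; the
argument is local on C'.) -/
theorem result
    (C C' : Scheme.{u}) (f : C ⟶ C') [IsFinite f] [IsLocallyNoetherian C']
    (hreg : ∀ y : C', IsRegularLocalRing (C'.presheaf.stalk y))
    (hdim : ∀ y : C', ringKrullDim (C'.presheaf.stalk y) ≤ 1)
    (hass : ∀ x : C, Curv2.IsAssPoint (Coh.structureModule C) x →
      ringKrullDim (C'.presheaf.stalk (f.base x)) = 0) :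
    FlatMod.IsFinLocFree ((Coh.push f).obj (Coh.structureModule C)) := by
  haveI : IsLocallyNoetherian C := LocallyOfFiniteType.isLocallyNoetherian f
  have hcoh := Groth.Agent.Lib.Helper7.DegPull.isCoh_push_structure f
  haveI : ((Scheme.Modules.pushforward f).obj (Coh.structureModule C)).IsQuasicoherent := hcoh.1
  haveI : ((Scheme.Modules.pushforward f).obj (Coh.structureModule C)).IsFiniteType := hcoh.2
  haveI := Groth.Agent.Lib.Helper1.ModDescNoeth.isFinitePresentation_of_noeth
    ((Scheme.Modules.pushforward f).obj (Coh.structureModule C))
  apply Groth.Agent.Lib.Helper17.FinLocFreeSec.isFinLocFree_of_isFlat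
  intro y
  haveI := hreg y
  haveI : IsDomain (C'.presheaf.stalk y) :=
    Groth.Agent.Lib.Helper9.RegLocal.isDomain_of_isRegularLocalRing _
  haveI : ValuationRing (C'.presheaf.stalk y) :=
    Groth.Agent.Lib.Helper17.FlatClosure.valuationRing_of_regular_of_dim_le_one _ (hdim y)
  apply flat_aux _ _ (hdim y)
  intro hy
  obtain ⟨x, hx, hxy⟩ := Groth.Agent.Lib.Helper1.AssPush.ass_push_subset
    (f := f) (M := Coh.structureModule C) y hy
  rw [← hxy]
  exact hass x hx

end Groth.Agent.S14415
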