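import Groth.Statements.S14416
import Mathlib.RingTheory.LocalRing.Module
import Mathlib.LinearAlgebra.Dimension.FreeAndStrongRankCondition
import Mathlib.RingTheory.TensorProduct.Basic

set_option autoImplicit false
universe u
open scoped TensorProduct
open CAlg

namespace Groth.Agent.S14416

/-- Let B → A be a ring map with A a finitely generated B-module such that for every prime ideal p of B
the fibre κ(p) ⊗_B A has dimension at most one over the residue field κ(p). Then B → A is
surjective. In scheme language: a finite morphism whose degree at every point of the target is 0 or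
1 is a closed immersion. (The published statement assumes the two schemes Noetherian; that
hypothesis plays no role and is dropped here.) -/
theorem result
    (B A : Type u) [CommRing B] [CommRing A] [Algebra B A] [Module.Finite B A]
    (h : ∀ p : PrimeSpectrum B,
      Module.finrank p.asIdeal.ResidueField (p.asIdeal.ResidueField ⊗[B] A) ≤ 1) :
    Function.Surjective (algebraMap B A) := by
  let f : B →ₗ[B] A := Algebra.linearMap B A
  suffices hC : Subsingleton (A ⧸ LinearMap.range f) by
    have htop : LinearMap.range f = ⊤ := Submodule.Quotient.subsingleton_iff.mp hC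
    intro a
    have : a ∈ LinearMap.range f := by rw [htop]; exact Submodule.mem_top
    obtain ⟨b, hb⟩ := this
    exact ⟨b, hb⟩
  rw [← Module.support_eq_empty_iff (R := B), Set.eq_empty_iff_forall_notMem]
  intro p
  rw [Module.mem_support_iff_nontrivial_residueField_tensorProduct, not_nontrivial_iff_subsingleton]
  -- the map on fibres over p is surjective
  have hsurj : Function.Surjective (LinearMap.lTensor p.asIdeal.ResidueField f) := by
    obtain ⟨v₀, hv₀⟩ := (finrank_le_one_iff (K := p.asIdeal.ResidueField)
      (V := p.asIdeal.ResidueField ⊗[B] A)).mp (h p)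
    have key : ∀ w : p.asIdeal.ResidueField ⊗[B] A, ∃ c : p.asIdeal.ResidueField,
        c • ((1 : p.asIdeal.ResidueField) ⊗ₜ[B] (1 : A)) = w := by
      intro w
      obtain ⟨c₁, hc₁⟩ := hv₀ ((1 : p.asIdeal.ResidueField) ⊗ₜ[B] (1 : A))
      by_cases h0 : c₁ = 0
      · refine ⟨0, ?_⟩
        rw [h0, zero_smul] at hc₁
        have h1 : (1 : p.asIdeal.ResidueField ⊗[B] A) = 0 := by
          rw [Algebra.TensorProduct.one_def]; exact hc₁.symm
        rw [zero_smul]
        calc (0 : p.asIdeal.ResidueField ⊗[B] A) = w * 0 := (mul_zero w).symm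
          _ = w * 1 := by rw [h1]
          _ = w := mul_one w
      · obtain ⟨c, hc⟩ := hv₀ w
        refine ⟨c * c₁⁻¹, ?_⟩
        rw [← hc, ← hc₁, smul_smul, mul_assoc, inv_mul_cancel₀ h0, mul_one]
    intro w
    obtain ⟨c, hc⟩ := key w
    refine ⟨c ⊗ₜ[B] (1 : B), ?_⟩
    rw [LinearMap.lTensor_tmul, ← hc, TensorProduct.smul_tmul', smul_eq_mul, mul_one]
    simp [f]
  refine ⟨fun x y => ?_⟩
  have hz : ∀ z : p.asIdeal.ResidueField ⊗[B] (A ⧸ LinearMap.range f), z = 0 := by
    intro z
    obtain ⟨t, rfl⟩ := LinearMap.lTensor_surjective p.asIdeal.ResidueField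
      (Submodule.mkQ_surjective (LinearMap.range f)) z
    obtain ⟨s, rfl⟩ := hsurj t
    rw [← LinearMap.comp_apply, ← LinearMap.lTensor_comp, LinearMap.range_mkQ_comp,
      LinearMap.lTensor_zero, LinearMap.zero_apply]
  rw [hz x, hz y]

end Groth.Agent.S14416
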