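import Groth.Statements.S14418
import Groth.Agent.Lib.Helper4.CM

set_option autoImplicit false
universe u
open CategoryTheory
open CAlg

namespace Groth.Agent.S14418

/-- Let B → A be a local homomorphism of Noetherian local rings, n the maximal ideal of B, and T an
additive functor from B-modules to A-modules which is B-linear (T applied to multiplication by b ∈ B
is multiplication by the image of b in A), carries finitely generated B-modules to finitely
generated A-modules, and is half-exact on finitely generated modules (every short exact sequence of
finitely generated B-modules goes to a sequence exact at its middle term). If T(B/n) = 0 then T(N) =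
0 for every finitely generated B-module N. (The published statement takes T defined on finitely
generated modules only; here T is defined on all B-modules while every hypothesis and the conclusion
concern finitely generated modules.) -/
theorem result {B A : Type u} [CommRing B] [CommRing A]
    [IsNoetherianRing B] [IsLocalRing B] [IsNoetherianRing A] [IsLocalRing A] [Algebra B A]
    [IsLocalHom (algebraMap B A)] (T : ModuleCat.{u} B ⥤ ModuleCat.{u} A) [T.Additive]
    (hlin : ∀ (N : ModuleCat.{u} B) (b : B),
      T.map (ModuleCat.ofHom (b • (LinearMap.id : N →ₗ[B] N))) =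
        ModuleCat.ofHom (algebraMap B A b • (LinearMap.id : T.obj N →ₗ[A] T.obj N)))
    (hfin : ∀ N : ModuleCat.{u} B, Module.Finite B N → Module.Finite A (T.obj N))
    (hex : ∀ S : ShortComplex (ModuleCat.{u} B), S.ShortExact → Module.Finite B S.X₁ →
      Module.Finite B S.X₂ → Module.Finite B S.X₃ → (S.map T).Exact)
    (h0 : Limits.IsZero (T.obj (ModuleCat.of B (B ⧸ IsLocalRing.maximalIdeal B))))
    (N : ModuleCat.{u} B) [Module.Finite B N] : Limits.IsZero (T.obj N) := by
  classical
  -- general statement, by induction on the dimension of the support
  have key : ∀ (r : ℕ) (N : Type u) [AddCommGroup N] [Module B N] [Module.Finite B N],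
      Module.supportDim B N ≤ r → Limits.IsZero (T.obj (ModuleCat.of B N)) := by
    intro r
    induction r using Nat.strong_induction_on with
    | _ r IH =>
    intro N _ _ hfinN
    induction hfinN using IsNoetherianRing.induction_on_isQuotientEquivQuotientPrime B with
    | subsingleton N =>
      intro _
      exact T.map_isZero (ModuleCat.isZero_of_subsingleton _)
    | quotient N p e =>
      intro hdim
      have hp : p.asIdeal.IsPrime := p.2
      refine Limits.IsZero.of_iso ?_ (T.mapIso e.toModuleIso)
      rw [Module.supportDim_eq_of_equiv e, Module.supportDim_quotient_eq_ringKrullDim] at hdim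
      by_cases hpm : p.asIdeal = IsLocalRing.maximalIdeal B
      · rw [hpm]; exact h0
      · have hlt : p.asIdeal < IsLocalRing.maximalIdeal B :=
          lt_of_le_of_ne (IsLocalRing.le_maximalIdeal hp.ne_top) hpm
        obtain ⟨x, hxm, hxp⟩ := SetLike.exists_of_lt hlt
        have reg : IsSMulRegular (B ⧸ p.asIdeal) x := by
          intro a b hab
          change x • a = x • b at hab
          rw [Algebra.smul_def, Algebra.smul_def] at hab
          refine mul_left_cancel₀ ?_ hab
          rw [Ideal.Quotient.algebraMap_eq, Ne, Ideal.Quotient.eq_zero_iff_mem]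
          exact hxp
        have hdim2 := Module.supportDim_quotSMulTop_succ_eq_supportDim reg hxm
        rw [Module.supportDim_quotient_eq_ringKrullDim] at hdim2
        have hQ : Module.supportDim B (QuotSMulTop x (B ⧸ p.asIdeal)) + 1 ≤ r :=
          hdim2.le.trans hdim
        have hnt : Nontrivial (QuotSMulTop x (B ⧸ p.asIdeal)) :=
          nontrivial_quotSMulTop_of_mem_maximalIdeal _ hxm
        obtain ⟨k, hk⟩ := Groth.Agent.Lib.Helper4.exists_nat_supportDim (R := B)
          (M := QuotSMulTop x (B ⧸ p.asIdeal))
        rw [hk] at hQ
        have hkr : k + 1 ≤ r := by exact_mod_cast hQ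
        obtain ⟨r', hr'⟩ : ∃ r', r = r' + 1 := ⟨r - 1, by omega⟩
        have hzero : Limits.IsZero (T.obj (ModuleCat.of B (QuotSMulTop x (B ⧸ p.asIdeal)))) := by
          refine IH r' (by omega) (QuotSMulTop x (B ⧸ p.asIdeal)) ?_
          rw [hk]
          have hk' : k ≤ r' := by omega
          exact_mod_cast hk'
        -- the multiplication sequence
        set Np : ModuleCat.{u} B := ModuleCat.of B (B ⧸ p.asIdeal) with hNp
        have hS : (ModuleCat.smulShortComplex Np x).ShortExact :=
          IsSMulRegular.smulShortComplex_shortExact (M := Np) reg
        have hfinNp : Module.Finite B Np := inferInstanceAs (Module.Finite B (B ⧸ p.asIdeal))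
        have hexS := hex (ModuleCat.smulShortComplex Np x) hS hfinNp hfinNp
          (inferInstanceAs (Module.Finite B (QuotSMulTop x (B ⧸ p.asIdeal))))
        have hepi : Epi ((ModuleCat.smulShortComplex Np x).map T).f :=
          hexS.epi_f (hzero.eq_of_tgt _ _)
        have hf : ((ModuleCat.smulShortComplex Np x).map T).f =
            ModuleCat.ofHom (algebraMap B A x • (LinearMap.id : T.obj Np →ₗ[A] T.obj Np)) := by
          rw [← hlin Np x]
          rfl
        rw [hf, ModuleCat.epi_iff_surjective] at hepi
        have hfinT : Module.Finite A (T.obj Np) := hfin Np hfinNp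
        have hxA : algebraMap B A x ∈ IsLocalRing.maximalIdeal A := by
          rw [IsLocalRing.mem_maximalIdeal, mem_nonunits_iff]
          intro hu
          have := (isUnit_map_iff (algebraMap B A) x).mp hu
          exact (IsLocalRing.mem_maximalIdeal x).mp hxm this
        have htop : (⊤ : Submodule A (T.obj Np)) = ⊥ := by
          refine Submodule.eq_bot_of_le_smul_of_le_jacobson_bot (IsLocalRing.maximalIdeal A) ⊤
            Module.Finite.fg_top ?_ (by rw [IsLocalRing.jacobson_eq_maximalIdeal ⊥ bot_ne_top])
          intro t _
          obtain ⟨t', ht'⟩ := hepi t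
          rw [← ht']
          exact Submodule.smul_mem_smul hxA Submodule.mem_top
        rw [ModuleCat.isZero_iff_subsingleton]
        refine ⟨fun a b => ?_⟩
        have hall : ∀ t : T.obj Np, t = 0 := by
          intro t
          have : t ∈ (⊤ : Submodule A (T.obj Np)) := Submodule.mem_top
          rw [htop] at this
          exact (Submodule.mem_bot A).mp this
        rw [hall a, hall b]
    | exact N₁ N₂ N₃ f g hf hg hfg h₁ h₃ =>
      intro hdim
      let S : ShortComplex (ModuleCat.{u} B) :=
        ModuleCat.shortComplexOfCompEqZero f g (by ext x; simpa using hfg.apply_apply_eq_zero x)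
      have hS : S.ShortExact := ModuleCat.shortComplex_shortExact S hfg hf hg
      have hexS := hex S hS ‹Module.Finite B N₁› ‹Module.Finite B N₂› ‹Module.Finite B N₃›
      have z1 : Limits.IsZero (T.obj S.X₁) :=
        h₁ ((Module.supportDim_le_of_injective f hf).trans hdim)
      have z3 : Limits.IsZero (T.obj S.X₃) :=
        h₃ ((Module.supportDim_le_of_surjective g hg).trans hdim)
      exact hexS.isZero_X₂ (z1.eq_of_src _ _) (z3.eq_of_tgt _ _)
  by_cases hN : Nontrivial N
  · obtain ⟨k, hk⟩ := Groth.Agent.Lib.Helper4.exists_nat_supportDim (R := B) (M := N)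
    refine key k N ?_
    rw [hk]
    exact_mod_cast le_rfl
  · rw [not_nontrivial_iff_subsingleton] at hN
    exact T.map_isZero (ModuleCat.isZero_of_subsingleton _)

end Groth.Agent.S14418
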