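import Groth.Statements.S14421


set_option autoImplicit false
universe u v
open CategoryTheory
open HomAlg

namespace Groth.Agent.S14421

/-- Let φ : K → J be a morphism of cochain complexes of modules over a ring which is surjective in
degree p − 1. Then the map induced on cohomology in degree p is surjective if and only if the map
induced on cocycles in degree p is surjective. (Stated for cochain complexes indexed by the
integers; the published statement is for three-term complexes in degrees p − 1, p, p + 1, which
embed as such complexes.) -/
theorem result {R : Type u} [Ring R]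
    (K J : CochainComplex (ModuleCat.{v} R) ℤ) (φ : K ⟶ J) (p : ℤ) [Epi (φ.f (p - 1))] :
    Epi (HomologicalComplex.homologyMap φ p) ↔ Epi (HomologicalComplex.cyclesMap φ p) := by
  constructor
  · intro h
    let S₁ : ShortComplex (ModuleCat.{v} R) :=
      ShortComplex.mk (K.toCycles (p - 1) p) (K.homologyπ p) (K.toCycles_comp_homologyπ _ _)
    let S₂ : ShortComplex (ModuleCat.{v} R) :=
      ShortComplex.mk (J.toCycles (p - 1) p) (J.homologyπ p) (J.toCycles_comp_homologyπ _ _)
    let ψ : S₁ ⟶ S₂ :=
      { τ₁ := φ.f (p - 1)
        τ₂ := HomologicalComplex.cyclesMap φ p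
        τ₃ := HomologicalComplex.homologyMap φ p
        comm₁₂ := by
          dsimp [S₁, S₂]
          rw [← cancel_mono (J.iCycles p)]
          simp
        comm₂₃ := by
          dsimp [S₁, S₂]
          exact (HomologicalComplex.homologyπ_naturality φ p).symm }
    have h₂ : S₂.Exact :=
      ShortComplex.exact_of_g_is_cokernel _ (J.homologyIsCokernel (p - 1) p (by simp))
    have i1 : Epi S₁.g := by dsimp [S₁]; infer_instance
    have i2 : Epi S₂.g := by dsimp [S₂]; infer_instance
    have i3 : Epi ψ.τ₁ := ‹Epi (φ.f (p - 1))›
    have i4 : Epi ψ.τ₃ := h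
    exact ShortComplex.epi_τ₂_of_exact_of_epi ψ h₂
  · intro h
    have e : K.homologyπ p ≫ HomologicalComplex.homologyMap φ p =
        HomologicalComplex.cyclesMap φ p ≫ J.homologyπ p :=
      HomologicalComplex.homologyπ_naturality φ p
    have i1 : Epi (K.homologyπ p ≫ HomologicalComplex.homologyMap φ p) := by
      rw [e]; infer_instance
    exact epi_of_epi (K.homologyπ p) _

end Groth.Agent.S14421
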