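import Groth.Statements.S14423
import Mathlib
import Groth.Agent.Lib.Helper7.TorUCT

set_option autoImplicit false
universe u
open CategoryTheory
open CAlg

namespace Groth.Agent.S14423


namespace H14423

open CategoryTheory TensorProduct

lemma mem_smul_top_of_tor {S : Type u} [CommRing S] {ι : Type u} [Fintype ι] (I : Ideal S)
    (K : Submodule S (ι → S)) (hinj : Function.Injective (K.subtype.rTensor (S ⧸ I)))
    (r : K) (hr : ∀ x, r.1 x ∈ I) : r ∈ I • (⊤ : Submodule S K) := by
  classical
  have h1 : (r.1 : ι → S) ∈ I • (⊤ : Submodule S (ι → S)) := by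
    rw [pi_eq_sum_univ r.1]
    exact Submodule.sum_mem _ (fun i _ => Submodule.smul_mem_smul (hr i) Submodule.mem_top)
  have h2 : ∀ w ∈ I • (⊤ : Submodule S (ι → S)), w ⊗ₜ[S] (1 : S ⧸ I) = 0 := by
    intro w hw
    refine Submodule.smul_induction_on hw ?_ ?_
    · intro a ha y _
      have ha' : a • (1 : S ⧸ I) = 0 := by
        rw [Algebra.smul_def, mul_one, Ideal.Quotient.algebraMap_eq]
        exact Ideal.Quotient.eq_zero_iff_mem.mpr ha
      rw [TensorProduct.smul_tmul, ha', TensorProduct.tmul_zero]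
    · intro x y hx hy
      rw [TensorProduct.add_tmul, hx, hy, add_zero]
  have h3 : (r ⊗ₜ[S] (1 : S ⧸ I) : K ⊗[S] (S ⧸ I)) = 0 := by
    apply hinj
    rw [LinearMap.rTensor_tmul, map_zero]
    exact h2 _ h1
  have h4 := congrArg (TensorProduct.tensorQuotEquivQuotSMul K I) h3
  rw [map_zero] at h4
  have h5 : TensorProduct.tensorQuotEquivQuotSMul K I (r ⊗ₜ[S] Ideal.Quotient.mk I 1) = 0 := by
    rw [map_one]
    exact h4
  rw [TensorProduct.tensorQuotEquivQuotSMul_tmul_mk, one_smul, Submodule.Quotient.mk_eq_zero] at h5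
  exact h5

variable {k : Type u} [Field k] {n : ℕ}


section graded

variable {M : Type u} [AddCommGroup M] [Module (MvPolynomial (Fin (n + 1)) k) M]
  (ℳ : ℕ → AddSubgroup M)
  [SetLike.GradedSMul (MvPolynomial.homogeneousSubmodule (Fin (n + 1)) k) ℳ]
  [DirectSum.Decomposition ℳ]

noncomputable def proj (d : ℕ) (y : M) : M := ((DirectSum.decompose ℳ y) d : M)

lemma proj_mem (d : ℕ) (y : M) : proj ℳ d y ∈ ℳ d := SetLike.coe_mem _

lemma proj_add (d : ℕ) (y z : M) : proj ℳ d (y + z) = proj ℳ d y + proj ℳ d z := by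
  unfold proj
  rw [DirectSum.decompose_add, DirectSum.add_apply, AddSubgroup.coe_add]

lemma proj_zero (d : ℕ) : proj ℳ d (0 : M) = 0 := by
  unfold proj
  rw [DirectSum.decompose_zero, DirectSum.zero_apply, ZeroMemClass.coe_zero]

noncomputable def projHom (d : ℕ) : M →+ M := AddMonoidHom.mk' (proj ℳ d) (proj_add ℳ d)

lemma proj_sum {α : Type} (d : ℕ) (s : Finset α) (f : α → M) :
    proj ℳ d (∑ a ∈ s, f a) = ∑ a ∈ s, proj ℳ d (f a) :=
  map_sum (projHom ℳ d) f s

lemma proj_of_mem_same {d : ℕ} {y : M} (hy : y ∈ ℳ d) : proj ℳ d y = y :=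
  DirectSum.decompose_of_mem_same ℳ hy

lemma proj_of_mem_ne {d e : ℕ} {y : M} (hy : y ∈ ℳ e) (h : e ≠ d) : proj ℳ d y = 0 :=
  DirectSum.decompose_of_mem_ne ℳ hy h

lemma sum_proj (y : M) : ∃ s : Finset ℕ, y = ∑ e ∈ s, proj ℳ e y := by
  classical
  exact ⟨_, (DirectSum.sum_support_decompose ℳ y).symm⟩

lemma proj_mem_of_homogeneous (N : Submodule (MvPolynomial (Fin (n + 1)) k) M) (d e : ℕ) {y : M}
    (hy : y ∈ ℳ e) (hN : e = d → y ∈ N) : proj ℳ d y ∈ N := by
  by_cases h : e = d
  · subst h
    rw [proj_of_mem_same ℳ hy]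
    exact hN rfl
  · rw [proj_of_mem_ne ℳ hy h]
    exact N.zero_mem

lemma smul_mem_graded {a e : ℕ} {s : (MvPolynomial (Fin (n + 1)) k)}
    (hs : s ∈ MvPolynomial.homogeneousSubmodule (Fin (n + 1)) k a) {y : M} (hy : y ∈ ℳ e) :
    s • y ∈ ℳ (a + e) :=
  SetLike.GradedSMul.smul_mem hs hy

lemma proj_smul_mem_hom (N : Submodule (MvPolynomial (Fin (n + 1)) k) M) (d e : ℕ) (s : (MvPolynomial (Fin (n + 1)) k)) {y : M} (hy : y ∈ ℳ e)
    (h : ∀ a, a + e = d → (MvPolynomial.homogeneousComponent a s) • y ∈ N) :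
    proj ℳ d (s • y) ∈ N := by
  have hs : s • y = ∑ a ∈ Finset.range (s.totalDegree + 1),
      (MvPolynomial.homogeneousComponent a s) • y := by
    rw [← Finset.sum_smul, MvPolynomial.sum_homogeneousComponent]
  rw [hs, proj_sum]
  refine N.sum_mem (fun a _ => ?_)
  exact proj_mem_of_homogeneous ℳ N d (a + e)
    (smul_mem_graded ℳ (MvPolynomial.homogeneousComponent_mem a s) hy) (h a)

lemma proj_smul_mem (N : Submodule (MvPolynomial (Fin (n + 1)) k) M) (d : ℕ) (s : (MvPolynomial (Fin (n + 1)) k)) (y : M)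
    (h : ∀ a e, a + e = d → (MvPolynomial.homogeneousComponent a s) • proj ℳ e y ∈ N) :
    proj ℳ d (s • y) ∈ N := by
  obtain ⟨t, ht⟩ := sum_proj ℳ y
  have hs : s • y = ∑ e ∈ t, s • proj ℳ e y := by
    rw [← Finset.smul_sum, ← ht]
  rw [hs, proj_sum]
  refine N.sum_mem (fun e _ => ?_)
  exact proj_smul_mem_hom ℳ N d e s (proj_mem ℳ e y) (fun a ha => h a e ha)

theorem graded_nakayama (B : Set M) (hB : ∀ b ∈ B, SetLike.IsHomogeneousElem ℳ b)
    (h : Submodule.span (MvPolynomial (Fin (n + 1)) k) B ⊔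
      (RingHom.ker (MvPolynomial.constantCoeff : (MvPolynomial (Fin (n + 1)) k) →+* k)) • (⊤ : Submodule (MvPolynomial (Fin (n + 1)) k) M) = ⊤) :
    Submodule.span (MvPolynomial (Fin (n + 1)) k) B = ⊤ := by
  have hhom : ∀ x ∈ Submodule.span (MvPolynomial (Fin (n + 1)) k) B, ∀ e, proj ℳ e x ∈ Submodule.span (MvPolynomial (Fin (n + 1)) k) B := by
    intro x hx
    induction hx using Submodule.span_induction with
    | mem b hb =>
      intro e
      obtain ⟨i, hi⟩ := hB b hb
      exact proj_mem_of_homogeneous ℳ _ e i hi (fun _ => Submodule.subset_span hb)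
    | zero =>
      intro e
      rw [proj_zero]
      exact Submodule.zero_mem _
    | add x y _ _ hx hy =>
      intro e
      rw [proj_add]
      exact Submodule.add_mem _ (hx e) (hy e)
    | smul s x _ hx =>
      intro d
      exact proj_smul_mem ℳ _ d s x (fun a e _ => Submodule.smul_mem _ _ (hx e))
  have claim : ∀ d, ∀ m ∈ ℳ d, m ∈ Submodule.span (MvPolynomial (Fin (n + 1)) k) B := by
    intro d
    induction d using Nat.strong_induction_on with
    | _ d ih =>
      intro m hm
      have hmem : m ∈ Submodule.span (MvPolynomial (Fin (n + 1)) k) B ⊔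
          (RingHom.ker (MvPolynomial.constantCoeff : (MvPolynomial (Fin (n + 1)) k) →+* k)) • (⊤ : Submodule (MvPolynomial (Fin (n + 1)) k) M) := by
        rw [h]
        trivial
      obtain ⟨x, hx, z, hz, hxz⟩ := Submodule.mem_sup.mp hmem
      have e1 : proj ℳ d m = m := proj_of_mem_same ℳ hm
      rw [← e1, ← hxz, proj_add]
      refine Submodule.add_mem _ (hhom x hx d) ?_
      refine Submodule.smul_induction_on hz ?_ ?_
      · intro r hr y _
        refine proj_smul_mem ℳ _ d r y (fun a e hae => ?_)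
        rcases Nat.eq_zero_or_pos a with ha | ha
        · subst ha
          have h00 : MvPolynomial.homogeneousComponent 0 r = 0 := by
            rw [MvPolynomial.homogeneousComponent_zero]
            have h0 : MvPolynomial.constantCoeff r = 0 := RingHom.mem_ker.mp hr
            rw [MvPolynomial.constantCoeff_eq] at h0
            rw [h0, map_zero]
          rw [h00, zero_smul]
          exact Submodule.zero_mem _
        · exact Submodule.smul_mem _ _ (ih e (by omega) _ (proj_mem ℳ e y))
      · intro x y hx hy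
        rw [proj_add]
        exact Submodule.add_mem _ hx hy
  rw [eq_top_iff]
  intro m _
  obtain ⟨t, ht⟩ := sum_proj ℳ m
  rw [ht]
  exact Submodule.sum_mem _ (fun e _ => claim e _ (proj_mem ℳ e m))

end graded

theorem main (M : Type u) [AddCommGroup M] [Module (MvPolynomial (Fin (n + 1)) k) M] [Module.Finite (MvPolynomial (Fin (n + 1)) k) M]
    (ℳ : ℕ → AddSubgroup M)
    [SetLike.GradedSMul (MvPolynomial.homogeneousSubmodule (Fin (n + 1)) k) ℳ]
    [DirectSum.Decomposition ℳ]
    (h : Limits.IsZero (((Tor (ModuleCat.{u} (MvPolynomial (Fin (n + 1)) k)) 1).obj (ModuleCat.of (MvPolynomial (Fin (n + 1)) k) M)).obj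
      (ModuleCat.of (MvPolynomial (Fin (n + 1)) k) ((MvPolynomial (Fin (n + 1)) k) ⧸ RingHom.ker (MvPolynomial.constantCoeff : (MvPolynomial (Fin (n + 1)) k) →+* k))))) :
    ∃ (ι : Type u) (b : Module.Basis ι (MvPolynomial (Fin (n + 1)) k) M), ∀ i, SetLike.IsHomogeneousElem ℳ (b i) := by
  classical
  have hspan : Submodule.span (MvPolynomial (Fin (n + 1)) k) {x : M | SetLike.IsHomogeneousElem ℳ x} = ⊤ := by
    rw [eq_top_iff]
    intro m _
    obtain ⟨t, ht⟩ := sum_proj ℳ m
    rw [ht]
    exact Submodule.sum_mem _ (fun e _ => Submodule.subset_span ⟨e, proj_mem ℳ e m⟩)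
  have hex : ∃ c, ∃ T : Finset M, T.card = c ∧ (∀ x ∈ T, SetLike.IsHomogeneousElem ℳ x) ∧
      Submodule.span (MvPolynomial (Fin (n + 1)) k) (T : Set M) = ⊤ := by
    have hfg : (Submodule.span (MvPolynomial (Fin (n + 1)) k) {x : M | SetLike.IsHomogeneousElem ℳ x}).FG := by
      rw [hspan]
      exact Module.Finite.fg_top
    obtain ⟨T0, hT0sub, hT0⟩ := (Submodule.fg_span_iff_fg_span_finset_subset _).mp hfg
    exact ⟨T0.card, T0, rfl, fun x hx => hT0sub (Finset.mem_coe.mpr hx), by rw [← hT0, hspan]⟩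
  obtain ⟨T, hTc, hTh, hTs⟩ := Nat.find_spec hex
  have hmin : ∀ T' : Finset M, (∀ x ∈ T', SetLike.IsHomogeneousElem ℳ x) →
      Submodule.span (MvPolynomial (Fin (n + 1)) k) (T' : Set M) = ⊤ → T.card ≤ T'.card := by
    intro T' h1 h2
    rw [hTc]
    exact Nat.find_min' hex ⟨T', rfl, h1, h2⟩
  set I : Ideal (MvPolynomial (Fin (n + 1)) k) := RingHom.ker (MvPolynomial.constantCoeff : (MvPolynomial (Fin (n + 1)) k) →+* k) with hI
  let v : ↥T → M := Subtype.val
  let π : (↥T → (MvPolynomial (Fin (n + 1)) k)) →ₗ[(MvPolynomial (Fin (n + 1)) k)] M := Fintype.linearCombination (MvPolynomial (Fin (n + 1)) k) v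
  have hπ : ∀ r, π r = ∑ x, r x • (x : M) := fun r => Fintype.linearCombination_apply (MvPolynomial (Fin (n + 1)) k) v r
  have hrange : Set.range v = (T : Set M) := Subtype.range_coe
  have hπsurj : Function.Surjective π := by
    rw [← LinearMap.range_eq_top, Fintype.range_linearCombination, hrange, hTs]
  have hc : ∀ r : ↥T → (MvPolynomial (Fin (n + 1)) k), π r = 0 → ∀ x, r x ∈ I := by
    intro r hr x0
    by_contra hx0
    have hc0 : MvPolynomial.constantCoeff (r x0) ≠ 0 := fun h0 => hx0 (RingHom.mem_ker.mpr h0)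
    have hT'h : ∀ x ∈ T.erase x0.1, SetLike.IsHomogeneousElem ℳ x :=
      fun x hx => hTh x (Finset.mem_of_mem_erase hx)
    have hT's : Submodule.span (MvPolynomial (Fin (n + 1)) k) ((T.erase x0.1 : Finset M) : Set M) = ⊤ := by
      apply graded_nakayama ℳ ((T.erase x0.1 : Finset M) : Set M)
        (fun b hb => hT'h b (Finset.mem_coe.mp hb))
      refine eq_top_iff.mpr (hTs.symm.le.trans ?_)
      rw [Submodule.span_le]
      intro y hy
      by_cases hyx : y = x0.1
      · subst hyx
        have hrel : r x0 • (x0 : M) + ∑ x ∈ Finset.univ.erase x0, r x • (x : M) = 0 :=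
          (Finset.add_sum_erase Finset.univ (fun x : ↥T => r x • (x : M))
            (Finset.mem_univ x0)).trans ((hπ r).symm.trans hr)
        have h1 : ∑ x ∈ Finset.univ.erase x0, r x • (x : M) ∈
            Submodule.span (MvPolynomial (Fin (n + 1)) k) ((T.erase x0.1 : Finset M) : Set M) := by
          refine Submodule.sum_mem _ (fun x hx => Submodule.smul_mem _ _ (Submodule.subset_span ?_))
          have hne : x ≠ x0 := Finset.ne_of_mem_erase hx
          exact Finset.mem_coe.mpr (Finset.mem_erase.mpr ⟨fun h => hne (Subtype.ext h), x.2⟩)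
        have h2 : (r x0 - MvPolynomial.C (MvPolynomial.constantCoeff (r x0))) ∈ I := by
          rw [hI, RingHom.mem_ker, map_sub, MvPolynomial.constantCoeff_C, sub_self]
        have h3 : (MvPolynomial.C (MvPolynomial.constantCoeff (r x0)) : (MvPolynomial (Fin (n + 1)) k)) • (x0 : M) =
            -(∑ x ∈ Finset.univ.erase x0, r x • (x : M)) -
              (r x0 - MvPolynomial.C (MvPolynomial.constantCoeff (r x0))) • (x0 : M) := by
          have e := eq_neg_of_add_eq_zero_left hrel
          rw [sub_smul, e]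
          abel
        have h4 : (MvPolynomial.C (MvPolynomial.constantCoeff (r x0)) : (MvPolynomial (Fin (n + 1)) k)) • (x0 : M) ∈
            Submodule.span (MvPolynomial (Fin (n + 1)) k) ((T.erase x0.1 : Finset M) : Set M) ⊔ I • ⊤ := by
          rw [h3]
          exact Submodule.sub_mem _ (Submodule.mem_sup_left (Submodule.neg_mem _ h1))
            (Submodule.mem_sup_right (Submodule.smul_mem_smul h2 Submodule.mem_top))
        have h5 : (x0 : M) = (MvPolynomial.C (MvPolynomial.constantCoeff (r x0))⁻¹ : (MvPolynomial (Fin (n + 1)) k)) •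
            ((MvPolynomial.C (MvPolynomial.constantCoeff (r x0)) : (MvPolynomial (Fin (n + 1)) k)) • (x0 : M)) := by
          rw [smul_smul, ← MvPolynomial.C_mul, inv_mul_cancel₀ hc0, MvPolynomial.C_1, one_smul]
        have h6 := Submodule.smul_mem _
          (MvPolynomial.C (MvPolynomial.constantCoeff (r x0))⁻¹ : MvPolynomial (Fin (n + 1)) k) h4
        rw [← h5] at h6
        exact h6
      · exact Submodule.mem_sup_left (Submodule.subset_span
          (Finset.mem_coe.mpr (Finset.mem_erase.mpr ⟨hyx, hy⟩)))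
    have hcard := hmin (T.erase x0.1) hT'h hT's
    have hlt : (T.erase x0.1).card < T.card := Finset.card_erase_lt_of_mem x0.2
    omega
  have hinj : Function.Injective ((LinearMap.ker π).subtype.rTensor ((MvPolynomial (Fin (n + 1)) k) ⧸ I)) := by
    obtain ⟨e⟩ := Groth.Agent.Lib.Helper7.nonempty_Tor1_equiv_ker' (LinearMap.ker π).subtype π
      (LinearMap.ker π).injective_subtype (LinearMap.exact_subtype_ker_map π) hπsurj ((MvPolynomial (Fin (n + 1)) k) ⧸ I)
    have := ModuleCat.subsingleton_of_isZero h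
    have : Subsingleton (LinearMap.ker ((LinearMap.ker π).subtype.rTensor ((MvPolynomial (Fin (n + 1)) k) ⧸ I))) :=
      e.symm.toEquiv.subsingleton
    refine (injective_iff_map_eq_zero _).mpr (fun x hx => ?_)
    have hx' : (⟨x, LinearMap.mem_ker.mpr hx⟩ :
        LinearMap.ker ((LinearMap.ker π).subtype.rTensor ((MvPolynomial (Fin (n + 1)) k) ⧸ I))) = 0 :=
      Subsingleton.elim _ _
    exact congrArg Subtype.val hx'
  have hpow : ∀ m : ℕ, ∀ r : ↥T → (MvPolynomial (Fin (n + 1)) k), π r = 0 → ∀ x, r x ∈ I ^ m := by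
    intro m
    induction m with
    | zero =>
      intro r _ x
      rw [pow_zero, Ideal.one_eq_top]
      trivial
    | succ m ih =>
      intro r hr x
      have hmem := mem_smul_top_of_tor I (LinearMap.ker π) hinj ⟨r, hr⟩ (hc r hr)
      have key : ∀ w : LinearMap.ker π, w ∈ I • (⊤ : Submodule (MvPolynomial (Fin (n + 1)) k) (LinearMap.ker π)) →
          ∀ x, w.1 x ∈ I ^ (m + 1) := by
        intro w hw
        refine Submodule.smul_induction_on hw ?_ ?_
        · intro a ha w' _ x
          show a * w'.1 x ∈ I ^ (m + 1)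
          rw [pow_succ']
          exact Ideal.mul_mem_mul ha (ih w'.1 (LinearMap.mem_ker.mp w'.2) x)
        · intro w1 w2 h1 h2 x
          exact (I ^ (m + 1)).add_mem (h1 x) (h2 x)
      exact key ⟨r, hr⟩ hmem x
  have hker : ∀ r : ↥T → (MvPolynomial (Fin (n + 1)) k), π r = 0 → ∀ x, r x = 0 := by
    intro r hr x
    have hI' : I ≠ ⊤ := RingHom.ker_ne_top _
    have h0 := Ideal.iInf_pow_eq_bot_of_isDomain I hI'
    have hx : r x ∈ ⨅ i, I ^ i := (Submodule.mem_iInf _).mpr (fun m => hpow m r hr x)
    rw [h0] at hx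
    exact hx
  have hli : LinearIndependent (MvPolynomial (Fin (n + 1)) k) v := by
    rw [Fintype.linearIndependent_iff]
    intro g hg i
    exact hker g ((hπ g).trans hg) i
  have hsp : ⊤ ≤ Submodule.span (MvPolynomial (Fin (n + 1)) k) (Set.range v) := by
    rw [hrange, hTs]
  refine ⟨↥T, Module.Basis.mk hli hsp, fun i => ?_⟩
  rw [Module.Basis.mk_apply]
  exact hTh i.1 i.2

end H14423

/-- Graded freeness criterion: let k be a field, S = k[x_0, …, x_n] with its standard grading by degree,
and M a finitely generated graded S-module. If Tor_1^S(M, k) = 0, where k = S/S_+ (S modulo the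
ideal of polynomials with zero constant term) and Tor_1^S(M, ·) is the first left derived functor of
M ⊗_S ·, then M is free with a basis of homogeneous elements, i.e. M is isomorphic as a graded
module to a finite direct sum of shifted copies S(−d_i). (Here the module is graded in non-negative
degrees; the published statement allows any integer degrees.) -/
theorem result (k : Type u) [Field k] (n : ℕ)
    (M : Type u) [AddCommGroup M] [Module (MvPolynomial (Fin (n + 1)) k) M]
    [Module.Finite (MvPolynomial (Fin (n + 1)) k) M]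
    (ℳ : ℕ → AddSubgroup M)
    [SetLike.GradedSMul (MvPolynomial.homogeneousSubmodule (Fin (n + 1)) k) ℳ]
    [DirectSum.Decomposition ℳ]
    (h : Limits.IsZero (((Tor (ModuleCat.{u} (MvPolynomial (Fin (n + 1)) k)) 1).obj
      (ModuleCat.of (MvPolynomial (Fin (n + 1)) k) M)).obj
      (ModuleCat.of (MvPolynomial (Fin (n + 1)) k)
        (MvPolynomial (Fin (n + 1)) k ⧸
          RingHom.ker (MvPolynomial.constantCoeff : MvPolynomial (Fin (n + 1)) k →+* k))))) :
    ∃ (ι : Type u) (b : Module.Basis ι (MvPolynomial (Fin (n + 1)) k) M),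
      ∀ i, SetLike.IsHomogeneousElem ℳ (b i) := by
  exact H14423.main M ℳ h

end Groth.Agent.S14423
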