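import Groth.Statements.S14424
import Groth.Agent.Lib.Helper28.Reflexive
import Groth.Agent.Lib.Helper4.CM

set_option autoImplicit false
universe u
open LocCoh

namespace Groth.Agent.S14424

/-- Let R be a Noetherian ring. Then R is Cohen–Macaulay (every localization at a prime ideal is a
Cohen–Macaulay local ring) if and only if for every proper ideal a of R the a-depth of R equals the
height (codimension) of a. (The published statement defines a Cohen–Macaulay ring by its
localizations at maximal ideals; this row uses all prime ideals, an equivalent definition because
Cohen–Macaulayness passes to localizations.) -/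
theorem result (R : Type u) [CommRing R] [IsNoetherianRing R] :
    LocCoh.IsCohenMacaulayRing R ↔ ∀ a : Ideal R, a ≠ ⊤ → LocCoh.idealDepth a R = a.height := by
  have hdim : ∀ (p : Ideal R) [p.IsPrime], Module.supportDim (Localization.AtPrime p)
      (Localization.AtPrime p) = ((p.height : ℕ∞) : WithBot ℕ∞) := by
    intro p _
    rw [Module.supportDim_self_eq_ringKrullDim, IsLocalization.AtPrime.ringKrullDim_eq_height p]
  have hdepth : ∀ (p : Ideal R) [p.IsPrime],
      LocCoh.depth (Localization.AtPrime p) (LocalizedModule p.primeCompl R) =
        LocCoh.depth (Localization.AtPrime p) (Localization.AtPrime p) := by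
    intro p _
    unfold LocCoh.depth
    exact Groth.Agent.Lib.Helper28.idealDepth_congr
      (Groth.Agent.Lib.Helper28.localizedSelfEquiv p.primeCompl) _
  have hnt : ∀ (p : Ideal R) [p.IsPrime], Nontrivial (LocalizedModule p.primeCompl R) := by
    intro p _
    exact (Groth.Agent.Lib.Helper28.localizedSelfEquiv p.primeCompl).toEquiv.nontrivial
  have hle : ∀ (p : Ideal R) [p.IsPrime],
      LocCoh.depth (Localization.AtPrime p) (Localization.AtPrime p) ≤ p.height := by
    intro p _
    have := Groth.Agent.Lib.Helper4.depth_le_supportDim (R := Localization.AtPrime p)
      (M := Localization.AtPrime p)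
    rw [hdim p] at this
    exact WithBot.coe_le_coe.mp this
  constructor
  · intro hCM a ha
    apply le_antisymm
    · rw [Ideal.height_eq_inf_minimalPrimes]
      refine le_iInf₂ fun p hp => ?_
      have hpp : p.IsPrime := hp.1.1
      have hap : a ≤ p := hp.1.2
      haveI := hnt p
      have h1 := Groth.Agent.Lib.Helper28.idealDepth_le_depth_localization (M := R) a p hap
      rw [hdepth p] at h1
      exact h1.trans (hle p)
    · rw [← ENat.forall_natCast_le_iff_le]
      intro n hn
      apply Groth.Agent.Lib.Helper28.le_idealDepth_of_forall_localization a n
      intro p _ hap _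
      rw [hdepth p]
      have hCMp := hCM.isCohenMacaulayLocalRing_localization p
      have h3 := hCMp.supportDim_eq_depth
      rw [hdim p] at h3
      have h4 : p.height = LocCoh.depth (Localization.AtPrime p) (Localization.AtPrime p) :=
        WithBot.coe_injective h3
      rw [← h4]
      exact hn.trans (Ideal.height_mono hap)
  · intro h
    refine { isCohenMacaulayLocalRing_localization := fun p _ => ?_ }
    refine { supportDim_eq_depth := ?_ }
    rw [hdim p]
    congr 1
    apply le_antisymm
    · haveI := hnt p
      have h1 := Groth.Agent.Lib.Helper28.idealDepth_le_depth_localization (M := R) p p le_rfl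
      rw [hdepth p, h p (Ideal.IsPrime.ne_top ‹_›)] at h1
      exact h1
    · exact hle p

end Groth.Agent.S14424
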