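import Mathlib
import Groth.Statements.S14427


set_option autoImplicit false
universe u
open CAlgX

namespace Aux14427
open MvPolynomial

variable {k : Type u} [Field k]

lemma finrank_homog (d : ℕ) :
    Module.finrank k ↥(homogeneousSubmodule (Fin 3) k d) = (d + 2).choose 2 := by
  have e2 : {e : Fin 3 →₀ ℕ | e.degree = d} =
      ↑((Finset.univ : Finset (Fin 3)).finsuppAntidiag d) := by
    ext e
    simp [Finsupp.degree_eq_sum]
  rw [homogeneousSubmodule_eq_finsupp_supported,
    (AddMonoidAlgebra.supportedEquivFinsupp _).finrank_eq,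
    Module.finrank_eq_nat_card_basis (Finsupp.basisSingleOne (R := k)), e2, Nat.card_coe_set_eq,
    Set.ncard_coe_finset, Finset.card_finsuppAntidiag_nat_eq_choose, Finset.card_univ,
    Fintype.card_fin]
  have h3 : 3 + d - 1 = d + 2 := by omega
  rw [h3]
  exact Nat.choose_symm_of_eq_add (by omega)

lemma exists_minor (v w : Fin 3 → k) (hw : w ≠ 0) (hLI : LinearIndependent k ![v, w]) :
    ∃ i j : Fin 3, v i * w j - v j * w i ≠ 0 := by
  by_contra hcon
  push Not at hcon
  obtain ⟨j, hj⟩ : ∃ j, w j ≠ 0 := by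
    by_contra h
    push Not at h
    exact hw (funext h)
  have h := (LinearIndependent.pair_iff.1 hLI) (w j) (-(v j)) (by
    funext i
    have := hcon i j
    simp only [Pi.add_apply, Pi.smul_apply, smul_eq_mul, Pi.zero_apply]
    linear_combination this)
  exact hj h.1

theorem main (k : Type u) [Field k] (n : ℕ) (hn : 3 ≤ n)
    (Λ : Finset (Fin 3 → k)) (hcard : Λ.card = n) (h0 : ∀ v ∈ Λ, v ≠ 0)
    (hdist : ∀ v ∈ Λ, ∀ w ∈ Λ, v ≠ w → LinearIndependent k ![v, w]) :
    Module.finrank k ↥(MvPolynomial.homogeneousSubmodule (Fin 3) k (n - 1) ⊓ ⨅ v ∈ Λ, LinearMap.ker (MvPolynomial.aeval v).toLinearMap) = Nat.choose (n + 1) 2 - n := by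
  classical
  obtain ⟨H, hH⟩ : ∃ H, H = homogeneousSubmodule (Fin 3) k (n - 1) := ⟨_, rfl⟩
  obtain ⟨K, hK⟩ : ∃ K : Submodule k (MvPolynomial (Fin 3) k),
      K = ⨅ v ∈ Λ, LinearMap.ker (MvPolynomial.aeval v).toLinearMap := ⟨_, rfl⟩
  rw [← hH, ← hK]
  haveI : Module.Finite k ↥H := by
    rw [hH]; exact Module.Finite.iff_fg.2 (homogeneousSubmodule_fg (Fin 3) k (n - 1))
  have hfr : Module.finrank k ↥H = (n + 1).choose 2 := by
    rw [hH, finrank_homog]
    have e : n - 1 + 2 = n + 1 := by omega
    rw [e]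
  obtain ⟨ev', hev'⟩ : ∃ ev' : MvPolynomial (Fin 3) k →ₗ[k] (↥Λ → k),
      ev' = LinearMap.pi (fun v : ↥Λ => (aeval (v : Fin 3 → k)).toLinearMap) := ⟨_, rfl⟩
  have hae : ∀ (u : Fin 3 → k) (P : MvPolynomial (Fin 3) k), aeval u P = eval u P :=
    fun u P => by simp
  have hev'app : ∀ (x : MvPolynomial (Fin 3) k) (w : ↥Λ), ev' x w = eval (w : Fin 3 → k) x := by
    intro x w
    rw [hev', ← hae]; rfl
  have hker' : LinearMap.ker ev' = K := by
    ext x
    rw [LinearMap.mem_ker, hK]
    simp only [Submodule.mem_iInf, LinearMap.mem_ker, AlgHom.toLinearMap_apply]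
    constructor
    · intro h v hv
      have := congrFun h ⟨v, hv⟩
      rw [hev'app] at this
      rw [hae]; exact this
    · intro h
      funext v
      rw [hev'app, ← hae]
      exact h v.1 v.2
  have hkerev : LinearMap.ker (ev'.comp H.subtype) = Submodule.comap H.subtype (H ⊓ K) := by
    rw [LinearMap.ker_comp, hker']
    ext x
    simp
  have hsurj : LinearMap.range (ev'.comp H.subtype) = ⊤ := by
    rw [LinearMap.range_eq_top]
    intro g
    have hF : ∀ v : ↥Λ, ∃ F : MvPolynomial (Fin 3) k, F ∈ H ∧ eval (v : Fin 3 → k) F ≠ 0 ∧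
        ∀ w : ↥Λ, w ≠ v → eval (w : Fin 3 → k) F = 0 := by
      intro v
      have hL : ∀ w : ↥(Λ.erase v.1), ∃ i j : Fin 3, v.1 i * w.1 j - v.1 j * w.1 i ≠ 0 := by
        intro w
        have hw := Finset.mem_erase.1 w.2
        exact exists_minor v.1 w.1 (h0 _ hw.2) (hdist v.1 v.2 w.1 hw.2 (Ne.symm hw.1))
      choose I J hIJ using hL
      refine ⟨∏ w ∈ (Λ.erase v.1).attach,
        (C (w.1 (J w)) * X (I w) - C (w.1 (I w)) * X (J w)), ?_, ?_, ?_⟩
      · rw [hH, mem_homogeneousSubmodule]
        have hhom : ∀ w ∈ (Λ.erase v.1).attach, IsHomogeneous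
            (C (w.1 (J w)) * X (I w) - C (w.1 (I w)) * X (J w) : MvPolynomial (Fin 3) k) 1 :=
          fun w _ => ((isHomogeneous_X k (I w)).C_mul _).sub ((isHomogeneous_X k (J w)).C_mul _)
        have := IsHomogeneous.prod (Λ.erase v.1).attach _ (fun _ => 1) hhom
        simpa [Finset.card_erase_of_mem v.2, hcard] using this
      · rw [map_prod, Finset.prod_ne_zero_iff]
        intro w _
        simp only [map_sub, map_mul, eval_C, eval_X]
        have := hIJ w
        intro h; apply this; linear_combination h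
      · intro w' hw'
        rw [map_prod]
        have hmem : w'.1 ∈ Λ.erase v.1 :=
          Finset.mem_erase.2 ⟨fun h => hw' (Subtype.ext h), w'.2⟩
        apply Finset.prod_eq_zero (Finset.mem_attach _ ⟨w'.1, hmem⟩)
        simp only [map_sub, map_mul, eval_C, eval_X]
        ring
    choose F hFH hFne hFz using hF
    have hx : (∑ v : ↥Λ, (g v * (eval v.1 (F v))⁻¹) • F v) ∈ H :=
      Submodule.sum_mem _ (fun v _ => Submodule.smul_mem _ _ (hFH v))
    refine ⟨⟨_, hx⟩, ?_⟩
    funext w
    show ev' (∑ v : ↥Λ, (g v * (eval v.1 (F v))⁻¹) • F v) w = g w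
    rw [hev'app, map_sum, Finset.sum_eq_single w]
    · rw [smul_eval, mul_assoc, inv_mul_cancel₀ (hFne w), mul_one]
    · intro v _ hvw
      rw [smul_eval, hFz v w (Ne.symm hvw), mul_zero]
    · intro h; exact absurd (Finset.mem_univ _) h
  have h1 := LinearMap.finrank_range_add_finrank_ker (ev'.comp H.subtype)
  rw [hsurj, finrank_top, Module.finrank_fintype_fun_eq_card, Fintype.card_coe, hcard, hfr,
    hkerev, (Submodule.comapSubtypeEquivOfLe (inf_le_left : H ⊓ K ≤ H)).finrank_eq] at h1
  omega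

end Aux14427
namespace Groth.Agent.S14427

/-- Let k be a field and Λ a set of n ≥ 3 nonzero vectors of k^3 which are pairwise linearly
independent, i.e. n distinct k-rational points of the projective plane. Then the space of
homogeneous forms of degree n − 1 in k[x_0, x_1, x_2] vanishing at every point of Λ — the global
sections of I_Λ(n − 1) — has dimension C(n+1, 2) − n over k, the same for all such Λ. (The published
statement is over an algebraically closed field; this row allows any field and k-rational points,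
which is all its argument uses.) -/
theorem result (k : Type u) [Field k] (n : ℕ) (hn : 3 ≤ n)
    (Λ : Finset (Fin 3 → k)) (hcard : Λ.card = n) (h0 : ∀ v ∈ Λ, v ≠ 0)
    (hdist : ∀ v ∈ Λ, ∀ w ∈ Λ, v ≠ w → LinearIndependent k ![v, w]) :
    Module.finrank k ↥(MvPolynomial.homogeneousSubmodule (Fin 3) k (n - 1) ⊓ ⨅ v ∈ Λ, LinearMap.ker (MvPolynomial.aeval v).toLinearMap) = Nat.choose (n + 1) 2 - n := by
  exact Aux14427.main k n hn Λ hcard h0 hdist

end Groth.Agent.S14427
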