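import Mathlib
import Groth.Statements.S14428


set_option autoImplicit false
universe u
open CAlgX

namespace Aux14428
open MvPolynomial

variable {k : Type u} [Field k]

lemma exists_minor (v w : Fin 3 → k) (hw : w ≠ 0) (hLI : LinearIndependent k ![v, w]) :
    ∃ i j : Fin 3, v i * w j - v j * w i ≠ 0 := by
  by_contra hcon
  push Not at hcon
  obtain ⟨j, hj⟩ : ∃ j, w j ≠ 0 := by
    by_contra h
    push Not at h
    exact hw (funext h)
  have h := (LinearIndependent.pair_iff.1 hLI) (w j) (-(v j)) (by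
    funext i
    have := hcon i j
    simp only [Pi.add_apply, Pi.smul_apply, smul_eq_mul, Pi.zero_apply]
    linear_combination this)
  exact hj h.1

/-- polynomial of a linear functional. -/
noncomputable def linPoly (f : (Fin 3 → k) →ₗ[k] k) : MvPolynomial (Fin 3) k :=
  ∑ i, C (f (fun j => if i = j then 1 else 0)) * X i

lemma linPoly_hom (f : (Fin 3 → k) →ₗ[k] k) : IsHomogeneous (linPoly f) 1 := by
  unfold linPoly
  exact IsHomogeneous.sum _ _ _ (fun i _ => (isHomogeneous_X k i).C_mul _)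

lemma eval_linPoly (f : (Fin 3 → k) →ₗ[k] k) (u : Fin 3 → k) : eval u (linPoly f) = f u := by
  unfold linPoly
  rw [map_sum, LinearMap.pi_apply_eq_sum_univ f u]
  refine Finset.sum_congr rfl (fun i _ => ?_)
  rw [map_mul, eval_C, eval_X, smul_eq_mul, mul_comm]

lemma li_of_not_prop (v w : Fin 3 → k) (hw : w ≠ 0) (h : ∀ c : k, v ≠ c • w) :
    LinearIndependent k ![v, w] := by
  rw [LinearIndependent.pair_iff]
  intro s t hst
  have hs : s = 0 := by
    by_contra hs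
    apply h (-(s⁻¹ * t))
    have e : v = s⁻¹ • (s • v) := by rw [smul_smul, inv_mul_cancel₀ hs, one_smul]
    rw [e, eq_neg_of_add_eq_zero_left hst, smul_neg, neg_smul, smul_smul]
  subst hs
  rw [zero_smul, zero_add] at hst
  refine ⟨rfl, ?_⟩
  rcases smul_eq_zero.1 hst with h' | h'
  · exact h'
  · exact absurd h' hw

lemma half (n : ℕ) (hn : 3 ≤ n) (Λ Λ' : Finset (Fin 3 → k)) (hcard' : Λ'.card = n)
    (h0' : ∀ v ∈ Λ', v ≠ 0)
    (hline' : ¬ ∃ ℓ : (Fin 3 → k) →ₗ[k] k, ℓ ≠ 0 ∧ ∀ v ∈ Λ', ℓ v = 0)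
    (hsub : ∀ F : MvPolynomial (Fin 3) k, IsHomogeneous F (n - 1) →
      (∀ w ∈ Λ', eval w F = 0) → ∀ v ∈ Λ, eval v F = 0) :
    ∀ v ∈ Λ, ∃ w ∈ Λ', ∃ c : k, v = c • w := by
  classical
  intro v hv
  by_contra hcon
  push Not at hcon
  have hpair : ∃ w₁ ∈ Λ', ∃ w₂ ∈ Λ', w₁ ≠ w₂ ∧
      v ∉ Submodule.span k ({w₁, w₂} : Set (Fin 3 → k)) := by
    by_contra hno
    push Not at hno
    obtain ⟨w₁, hw₁⟩ : Λ'.Nonempty := Finset.card_pos.1 (by omega)
    apply hline'
    have hlt : Submodule.span k ({v, w₁} : Set (Fin 3 → k)) < ⊤ := by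
      rw [lt_top_iff_ne_top]
      intro htop
      have h1 : Module.finrank k ↥(Submodule.span k ({v, w₁} : Set (Fin 3 → k))) ≤ 2 := by
        have := finrank_span_finset_le_card (R := k) ({v, w₁} : Finset (Fin 3 → k))
        rw [Set.finrank, Finset.coe_insert, Finset.coe_singleton] at this
        exact this.trans Finset.card_le_two
      rw [htop, finrank_top, Module.finrank_fintype_fun_eq_card, Fintype.card_fin] at h1
      omega
    obtain ⟨f, hf0, hfW⟩ := Submodule.exists_le_ker_of_lt_top _ hlt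
    refine ⟨f, hf0, ?_⟩
    intro w₂ hw₂
    have hfv : f v = 0 := LinearMap.mem_ker.1 (hfW (Submodule.subset_span (by simp)))
    have hfw₁ : f w₁ = 0 := LinearMap.mem_ker.1 (hfW (Submodule.subset_span (by simp)))
    by_cases h12 : w₁ = w₂
    · rw [← h12]; exact hfw₁
    · obtain ⟨a, b, hab⟩ := Submodule.mem_span_pair.1 (hno w₁ hw₁ w₂ hw₂ h12)
      have hb : b ≠ 0 := by
        intro hb
        rw [hb, zero_smul, add_zero] at hab
        exact hcon w₁ hw₁ a hab.symm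
      have h3 := congrArg f hab
      rw [map_add, map_smul, map_smul, hfw₁, hfv, smul_zero, zero_add, smul_eq_mul] at h3
      rcases mul_eq_zero.1 h3 with h | h
      · exact absurd h hb
      · exact h
  obtain ⟨w₁, hw₁, w₂, hw₂, h12, hvW⟩ := hpair
  obtain ⟨f, hfv, hfW⟩ := Submodule.exists_le_ker_of_notMem hvW
  have hfw₁ : f w₁ = 0 := LinearMap.mem_ker.1 (hfW (Submodule.subset_span (by simp)))
  have hfw₂ : f w₂ = 0 := LinearMap.mem_ker.1 (hfW (Submodule.subset_span (by simp)))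
  obtain ⟨S, hS⟩ : ∃ S : Finset (Fin 3 → k), S = (Λ'.erase w₁).erase w₂ := ⟨_, rfl⟩
  have hScard : S.card = n - 2 := by
    rw [hS, Finset.card_erase_of_mem (Finset.mem_erase.2 ⟨Ne.symm h12, hw₂⟩),
      Finset.card_erase_of_mem hw₁, hcard']
    omega
  have hL : ∀ w : ↥S, ∃ i j : Fin 3, v i * w.1 j - v j * w.1 i ≠ 0 := by
    intro w
    have hSmem : ∀ u, u ∈ S → u ∈ Λ' := by
      intro u hu
      rw [hS] at hu
      exact Finset.mem_of_mem_erase (Finset.mem_of_mem_erase hu)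
    have hw : w.1 ∈ Λ' := hSmem _ w.2
    exact exists_minor v w.1 (h0' _ hw) (li_of_not_prop v w.1 (h0' _ hw) (hcon _ hw))
  choose I J hIJ using hL
  obtain ⟨F, hF⟩ : ∃ F : MvPolynomial (Fin 3) k, F = linPoly f * ∏ w ∈ S.attach,
      (C (w.1 (J w)) * X (I w) - C (w.1 (I w)) * X (J w)) := ⟨_, rfl⟩
  have hFhom : IsHomogeneous F (n - 1) := by
    have hhom : ∀ w ∈ S.attach, IsHomogeneous
        (C (w.1 (J w)) * X (I w) - C (w.1 (I w)) * X (J w) : MvPolynomial (Fin 3) k) 1 :=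
      fun w _ => ((isHomogeneous_X k (I w)).C_mul _).sub ((isHomogeneous_X k (J w)).C_mul _)
    have h2 := IsHomogeneous.prod S.attach _ (fun _ => 1) hhom
    have h3 := (linPoly_hom f).mul h2
    have e : 1 + ∑ _w ∈ S.attach, 1 = n - 1 := by
      rw [Finset.sum_const, Finset.card_attach, hScard, smul_eq_mul, mul_one]
      omega
    rw [e] at h3
    rw [hF]; exact h3
  have hFvan : ∀ w ∈ Λ', eval w F = 0 := by
    intro w hw
    rw [hF, map_mul, eval_linPoly, map_prod]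
    by_cases h1 : w = w₁
    · rw [h1, hfw₁, zero_mul]
    · by_cases h2 : w = w₂
      · rw [h2, hfw₂, zero_mul]
      · have hmem : w ∈ S := by
          rw [hS]; exact Finset.mem_erase.2 ⟨h2, Finset.mem_erase.2 ⟨h1, hw⟩⟩
        rw [Finset.prod_eq_zero (Finset.mem_attach _ ⟨w, hmem⟩), mul_zero]
        simp only [map_sub, map_mul, eval_C, eval_X]
        ring
  have hFv : eval v F ≠ 0 := by
    rw [hF, map_mul, eval_linPoly, map_prod]
    refine mul_ne_zero hfv ?_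
    rw [Finset.prod_ne_zero_iff]
    intro w _
    simp only [map_sub, map_mul, eval_C, eval_X]
    have := hIJ w
    intro h; apply this; linear_combination h
  exact hFv (hsub F hFhom hFvan v hv)

theorem main (k : Type u) [Field k] (n : ℕ) (hn : 3 ≤ n)
    (Λ Λ' : Finset (Fin 3 → k)) (hcard : Λ.card = n) (hcard' : Λ'.card = n)
    (h0 : ∀ v ∈ Λ, v ≠ 0) (h0' : ∀ v ∈ Λ', v ≠ 0)
    (hline : ¬ ∃ ℓ : (Fin 3 → k) →ₗ[k] k, ℓ ≠ 0 ∧ ∀ v ∈ Λ, ℓ v = 0)
    (hline' : ¬ ∃ ℓ : (Fin 3 → k) →ₗ[k] k, ℓ ≠ 0 ∧ ∀ v ∈ Λ', ℓ v = 0)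
    (heq : (MvPolynomial.homogeneousSubmodule (Fin 3) k (n - 1) ⊓ ⨅ v ∈ Λ, LinearMap.ker (MvPolynomial.aeval v).toLinearMap) = (MvPolynomial.homogeneousSubmodule (Fin 3) k (n - 1) ⊓ ⨅ v ∈ Λ', LinearMap.ker (MvPolynomial.aeval v).toLinearMap)) :
    (∀ v ∈ Λ, ∃ w ∈ Λ', ∃ c : k, v = c • w) ∧ (∀ w ∈ Λ', ∃ v ∈ Λ, ∃ c : k, w = c • v) := by
  have hae : ∀ (u : Fin 3 → k) (P : MvPolynomial (Fin 3) k), aeval u P = eval u P :=
    fun u P => by simp
  have key : ∀ (Λ₁ Λ₂ : Finset (Fin 3 → k)),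
      (homogeneousSubmodule (Fin 3) k (n - 1) ⊓ ⨅ v ∈ Λ₁, LinearMap.ker (aeval v).toLinearMap) =
      (homogeneousSubmodule (Fin 3) k (n - 1) ⊓ ⨅ v ∈ Λ₂, LinearMap.ker (aeval v).toLinearMap) →
      ∀ F : MvPolynomial (Fin 3) k, IsHomogeneous F (n - 1) →
        (∀ w ∈ Λ₂, eval w F = 0) → ∀ v ∈ Λ₁, eval v F = 0 := by
    intro Λ₁ Λ₂ h F hF hvan v hv
    have hmem : F ∈ homogeneousSubmodule (Fin 3) k (n - 1) ⊓
        ⨅ v ∈ Λ₂, LinearMap.ker (aeval v).toLinearMap := by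
      refine Submodule.mem_inf.2 ⟨(mem_homogeneousSubmodule _ _).2 hF, ?_⟩
      simp only [Submodule.mem_iInf, LinearMap.mem_ker, AlgHom.toLinearMap_apply]
      intro w hw
      rw [hae]; exact hvan w hw
    rw [← h] at hmem
    have h2 := (Submodule.mem_inf.1 hmem).2
    simp only [Submodule.mem_iInf, LinearMap.mem_ker, AlgHom.toLinearMap_apply] at h2
    rw [← hae]; exact h2 v hv
  exact ⟨half n hn Λ Λ' hcard' h0' hline' (key Λ Λ' heq),
    half n hn Λ' Λ hcard h0 hline (key Λ' Λ heq.symm)⟩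

end Aux14428
namespace Groth.Agent.S14428

/-- Let k be a field, n ≥ 3, and let Λ and Λ' be two sets of n nonzero, pairwise linearly independent
vectors of k^3 (n distinct k-rational points of the projective plane each), neither lying on a line
(no nonzero linear form vanishes on all of Λ, resp. Λ'). If the spaces of homogeneous forms of
degree n − 1 vanishing on Λ and on Λ' coincide, then Λ and Λ' define the same set of points of the
plane: the assignment Λ ↦ H^0(P^2, I_Λ(n − 1)), with values in a Grassmannian, is injective on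
non-collinear sets. (The published statement is over an algebraically closed field; this row allows
any field and k-rational points, which is all its argument uses.) -/
theorem result (k : Type u) [Field k] (n : ℕ) (hn : 3 ≤ n)
    (Λ Λ' : Finset (Fin 3 → k)) (hcard : Λ.card = n) (hcard' : Λ'.card = n)
    (h0 : ∀ v ∈ Λ, v ≠ 0) (h0' : ∀ v ∈ Λ', v ≠ 0)
    (hdist : ∀ v ∈ Λ, ∀ w ∈ Λ, v ≠ w → LinearIndependent k ![v, w])
    (hdist' : ∀ v ∈ Λ', ∀ w ∈ Λ', v ≠ w → LinearIndependent k ![v, w])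
    (hline : ¬ ∃ ℓ : (Fin 3 → k) →ₗ[k] k, ℓ ≠ 0 ∧ ∀ v ∈ Λ, ℓ v = 0)
    (hline' : ¬ ∃ ℓ : (Fin 3 → k) →ₗ[k] k, ℓ ≠ 0 ∧ ∀ v ∈ Λ', ℓ v = 0)
    (heq : (MvPolynomial.homogeneousSubmodule (Fin 3) k (n - 1) ⊓ ⨅ v ∈ Λ, LinearMap.ker (MvPolynomial.aeval v).toLinearMap) = (MvPolynomial.homogeneousSubmodule (Fin 3) k (n - 1) ⊓ ⨅ v ∈ Λ', LinearMap.ker (MvPolynomial.aeval v).toLinearMap)) :
    (∀ v ∈ Λ, ∃ w ∈ Λ', ∃ c : k, v = c • w) ∧ (∀ w ∈ Λ', ∃ v ∈ Λ, ∃ c : k, w = c • v) := by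
  exact Aux14428.main k n hn Λ Λ' hcard hcard' h0 h0' hline hline' heq

end Groth.Agent.S14428
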