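import Groth.Statements.S14436
import Mathlib

set_option autoImplicit false
universe u
open CAlg

namespace Groth.Agent.S14436

/-- Let L/K be a finitely generated field extension which is separable in the sense that it has a
transcendence basis a_1, …, a_n over which L is a (finite) separable extension of K(a_1, …, a_n).
Then dim_L Ω_{L/K} = n, the transcendence degree of L over K. -/
theorem result (K L : Type u) [Field K] [Field L] [Algebra K L]
    (hfg : ∃ s : Finset L, IntermediateField.adjoin K (s : Set L) = ⊤)
    (n : ℕ) (a : Fin n → L) (ha : IsTranscendenceBasis K a)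
    (hsep : Algebra.IsSeparable ↥(IntermediateField.adjoin K (Set.range a)) L) :
    Module.finrank L (Ω[L⁄K]) = n := by
  classical
  have hb : AlgebraicIndependent K a := ha.1
  let P := MvPolynomial (Fin n) K
  let Q := FractionRing P
  let E := IntermediateField.adjoin K (Set.range a)
  let e : Q ≃ₐ[K] E := AlgebraicIndependent.aevalEquivField hb
  letI algQL : Algebra Q L := ((algebraMap E L).comp e.toAlgHom.toRingHom).toAlgebra
  letI algPL : Algebra P L := ((algebraMap Q L).comp (algebraMap P Q)).toAlgebra
  haveI : IsScalarTower P Q L := IsScalarTower.of_algebraMap_eq' rfl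
  haveI : IsScalarTower K P L := IsScalarTower.of_algebraMap_eq' (by
    ext x
    show algebraMap K L x = algebraMap E L (e (algebraMap P Q (algebraMap K P x)))
    rw [← IsScalarTower.algebraMap_apply K P Q, e.commutes, ← IsScalarTower.algebraMap_apply K E L])
  haveI : Algebra.IsSeparable Q L :=
    Algebra.IsSeparable.of_equiv_equiv (e.symm : E ≃+* Q) (RingEquiv.refl L) (by
      ext x
      show algebraMap E L (e (e.symm x)) = algebraMap E L x
      rw [e.apply_symm_apply])
  haveI : Algebra.FormallyEtale Q L := Algebra.FormallyEtale.of_isSeparable Q L
  haveI : Algebra.FormallyEtale P Q := inferInstance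
  haveI : Algebra.FormallyEtale P L := Algebra.FormallyEtale.comp P Q L
  have eq := KaehlerDifferential.tensorKaehlerEquivOfFormallyEtale K P L
  rw [← eq.finrank_eq, Module.finrank_baseChange,
    Module.finrank_eq_card_basis (KaehlerDifferential.mvPolynomialBasis K (Fin n)), Fintype.card_fin]

end Groth.Agent.S14436
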