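import Groth.Statements.S6329
import Mathlib.RingTheory.Localization.Module
import Mathlib.Algebra.Module.LocalizedModule.Exact
import Mathlib.RingTheory.SimpleModule.Basic
import Mathlib.RingTheory.Length
import Mathlib.RingTheory.Ideal.Colon

set_option autoImplicit false
universe u
open CAlg

namespace Groth.Agent.S6329

section Lemmas

variable {R : Type u} [CommRing R] (m : Ideal R) [m.IsMaximal]

/-- Additivity of the localized length in short exact sequences. -/
theorem length_loc_add {N₁ N₂ N₃ : Type*} [AddCommGroup N₁] [Module R N₁]
    [AddCommGroup N₂] [Module R N₂] [AddCommGroup N₃] [Module R N₃]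
    (f : N₁ →ₗ[R] N₂) (g : N₂ →ₗ[R] N₃) (hf : Function.Injective f)
    (hg : Function.Surjective g) (hfg : Function.Exact f g) :
    Module.length (Localization.AtPrime m) (LocalizedModule m.primeCompl N₂) =
      Module.length (Localization.AtPrime m) (LocalizedModule m.primeCompl N₁) +
        Module.length (Localization.AtPrime m) (LocalizedModule m.primeCompl N₃) := by
  refine Module.length_eq_add_of_exact (LocalizedModule.map m.primeCompl f)
    (LocalizedModule.map m.primeCompl g)
    (LocalizedModule.map_injective _ f hf) (LocalizedModule.map_surjective _ g hg) ?_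
  intro y
  exact LocalizedModule.map_exact m.primeCompl f g hfg y

theorem length_loc_congr {N₁ N₂ : Type*} [AddCommGroup N₁] [Module R N₁]
    [AddCommGroup N₂] [Module R N₂] (e : N₁ ≃ₗ[R] N₂) :
    Module.length (Localization.AtPrime m) (LocalizedModule m.primeCompl N₁) =
      Module.length (Localization.AtPrime m) (LocalizedModule m.primeCompl N₂) :=
  (IsLocalizedModule.mapEquiv m.primeCompl (LocalizedModule.mkLinearMap m.primeCompl N₁)
    (LocalizedModule.mkLinearMap m.primeCompl N₂) (Localization.AtPrime m) e).length_eq

theorem length_loc_of_subsingleton {N : Type*} [AddCommGroup N] [Module R N] [Subsingleton N] :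
    Module.length (Localization.AtPrime m) (LocalizedModule m.primeCompl N) = 0 := by
  rw [Module.length_eq_zero_iff]
  refine ⟨fun x y => ?_⟩
  induction x using LocalizedModule.induction_on with
  | h a s =>
    induction y using LocalizedModule.induction_on with
    | h b t =>
      rw [Subsingleton.elim a 0, Subsingleton.elim b 0, LocalizedModule.zero_mk,
        LocalizedModule.zero_mk]

/-- The localization at `m` of a simple module has length one or zero, according to whether its
annihilator is `m` or not. -/
theorem length_loc_simple (Q : Type*) [AddCommGroup Q] [Module R Q] [IsSimpleModule R Q] :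
    Module.length (Localization.AtPrime m) (LocalizedModule m.primeCompl Q) =
      if Module.annihilator R Q = m then 1 else 0 := by
  have hsurj : ∀ q : Q, q ≠ 0 → Function.Surjective (LinearMap.toSpanSingleton R Q q) :=
    fun q hq => IsSimpleModule.toSpanSingleton_surjective R hq
  have hann : ∀ (q : Q) (t : R), q ≠ 0 → t • q = 0 → t ∈ Module.annihilator R Q := by
    intro q t hq ht
    rw [Module.mem_annihilator]
    intro q'
    obtain ⟨r, rfl⟩ := hsurj q hq q'
    show t • (r • q) = 0
    rw [smul_comm, ht, smul_zero]
  split_ifs with h
  · rw [Module.length_eq_one_iff, isSimpleModule_iff_toSpanSingleton_surjective]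
    have hmk0 : ∀ (q : Q) (s : m.primeCompl), LocalizedModule.mk q s = 0 → q = 0 := by
      intro q s hqs
      by_contra hq
      rw [← LocalizedModule.zero_mk s, LocalizedModule.mk_eq] at hqs
      obtain ⟨u, hu⟩ := hqs
      rw [smul_zero, smul_zero, ← mul_smul] at hu
      have hu' : ((u * s : m.primeCompl) : R) • q = 0 := hu
      have hmem := hann q _ hq hu'
      rw [h] at hmem
      exact (u * s).2 hmem
    constructor
    · have := IsSimpleModule.nontrivial R Q
      obtain ⟨q, hq⟩ := exists_ne (0 : Q)
      exact ⟨⟨LocalizedModule.mk q 1, 0, fun h0 => hq (hmk0 q 1 h0)⟩⟩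
    · intro z hz w
      induction z using LocalizedModule.induction_on with
      | h q s =>
        induction w using LocalizedModule.induction_on with
        | h q' s' =>
          have hq : q ≠ 0 := by
            rintro rfl
            exact hz (LocalizedModule.zero_mk s)
          obtain ⟨r, hr⟩ := hsurj q hq q'
          refine ⟨Localization.mk (r * s) s', ?_⟩
          show Localization.mk (r * s) s' • LocalizedModule.mk q s = LocalizedModule.mk q' s'
          rw [LocalizedModule.mk_smul_mk, LocalizedModule.mk_eq]
          refine ⟨1, ?_⟩
          have hr' : r • q = q' := hr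
          rw [one_smul, one_smul, ← hr']
          simp only [Submonoid.smul_def, Submonoid.coe_mul, smul_smul]
          congr 1
          ring
  · have hmax : (Module.annihilator R Q).IsMaximal := IsSimpleModule.annihilator_isMaximal
    obtain ⟨t, htI, htm⟩ : ∃ t ∈ Module.annihilator R Q, t ∉ m := by
      by_contra hcon
      push_neg at hcon
      exact h (hmax.eq_of_le (Ideal.IsMaximal.ne_top inferInstance) hcon)
    rw [Module.length_eq_zero_iff]
    refine ⟨fun x y => ?_⟩
    have hz : ∀ z : LocalizedModule m.primeCompl Q, z = 0 := by
      intro z
      induction z using LocalizedModule.induction_on with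
      | h q s =>
        rw [← LocalizedModule.zero_mk s, LocalizedModule.mk_eq]
        refine ⟨⟨t, htm⟩, ?_⟩
        rw [smul_zero, smul_zero, smul_comm]
        show (s : R) • (t • q) = 0
        rw [Module.mem_annihilator.mp htI q, smul_zero]
    rw [hz x, hz y]

end Lemmas

section Step

variable {R : Type u} [CommRing R] {M : Type u} [AddCommGroup M] [Module R M]
  (m : Ideal R) [m.IsMaximal]

theorem length_loc_bot :
    Module.length (Localization.AtPrime m) (LocalizedModule m.primeCompl (⊥ : Submodule R M)) = 0 :=
  length_loc_of_subsingleton m

theorem length_loc_top :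
    Module.length (Localization.AtPrime m) (LocalizedModule m.primeCompl (⊤ : Submodule R M)) =
      Module.length (Localization.AtPrime m) (LocalizedModule m.primeCompl M) :=
  length_loc_congr m Submodule.topEquiv

theorem length_loc_step {N N' : Submodule R M} (hcov : N ⋖ N') :
    Module.length (Localization.AtPrime m) (LocalizedModule m.primeCompl N') =
      Module.length (Localization.AtPrime m) (LocalizedModule m.primeCompl N) +
        (if N.colon (N' : Set M) = m then 1 else 0) := by
  have hle : N ≤ N' := hcov.le
  haveI : IsSimpleModule R (N' ⧸ Submodule.comap N'.subtype N) :=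
    (covBy_iff_quot_is_simple hle).mp hcov
  have hex : Function.Exact (Submodule.inclusion hle) (Submodule.comap N'.subtype N).mkQ := by
    rw [LinearMap.exact_iff, Submodule.ker_mkQ, Submodule.range_inclusion]
  rw [length_loc_add m (Submodule.inclusion hle) (Submodule.comap N'.subtype N).mkQ
    (Submodule.inclusion_injective hle) (Submodule.mkQ_surjective _) hex,
    length_loc_simple m (N' ⧸ Submodule.comap N'.subtype N)]
  have hann : Module.annihilator R (N' ⧸ Submodule.comap N'.subtype N) = N.colon (N' : Set M) := by
    ext r
    rw [Module.mem_annihilator, Submodule.mem_colon]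
    constructor
    · intro h x hx
      have := h (Submodule.Quotient.mk ⟨x, hx⟩)
      rw [← Submodule.Quotient.mk_smul, Submodule.Quotient.mk_eq_zero] at this
      exact this
    · intro h q
      induction q using Submodule.Quotient.induction_on with
      | H x =>
        rw [← Submodule.Quotient.mk_smul, Submodule.Quotient.mk_eq_zero]
        exact h x.1 x.2
  rw [hann]

end Step

/-- Let R be a ring, M an R-module and 0 = M₀ ⊂ M₁ ⊂ … ⊂ Mₙ = M a maximal chain of submodules (a
composition series; each Mᵢ/Mᵢ₋₁ is simple, of the form R/mᵢ with mᵢ = (Mᵢ₋₁ : Mᵢ) maximal). Then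
for every maximal ideal m of R the number of indices i with mᵢ = m equals length_{R_m}(M_m). -/
theorem result {R : Type u} [CommRing R] (M : Type u) [AddCommGroup M] [Module R M] (s : CompositionSeries (Submodule R M)) (h0 : s.head = ⊥) (h1 : s.last = ⊤) (m : Ideal R) [m.IsMaximal] : ((Finset.univ.filter fun i : Fin s.length => (s i.castSucc).colon (s i.succ : Set M) = m).card : ℕ∞) = Module.length (Localization.AtPrime m) (LocalizedModule m.primeCompl M) := by
  classical
  have key : ∀ (k : ℕ) (hk : k ≤ s.length),
      Module.length (Localization.AtPrime m)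
          (LocalizedModule m.primeCompl (s ⟨k, Nat.lt_succ_of_le hk⟩)) =
        ((Finset.univ.filter fun i : Fin s.length =>
          (i : ℕ) < k ∧ (s i.castSucc).colon (s i.succ : Set M) = m).card : ℕ∞) := by
    intro k
    induction k with
    | zero =>
      intro hk
      have hs0 : s ⟨0, Nat.lt_succ_of_le hk⟩ = ⊥ := h0
      rw [hs0, length_loc_bot]
      simp
    | succ k ih =>
      intro hk
      have hk' : k < s.length := hk
      let i₀ : Fin s.length := ⟨k, hk'⟩
      have hstep : s i₀.castSucc ⋖ s i₀.succ := s.step i₀
      have e1 : s ⟨k + 1, Nat.lt_succ_of_le hk⟩ = s i₀.succ := rfl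
      have e0 : s ⟨k, Nat.lt_succ_of_le hk'.le⟩ = s i₀.castSucc := rfl
      have ih' := ih hk'.le
      rw [e0] at ih'
      rw [e1, length_loc_step m hstep, ih']
      have hfilter : (Finset.univ.filter fun i : Fin s.length =>
          (i : ℕ) < k + 1 ∧ (s i.castSucc).colon (s i.succ : Set M) = m) =
          (Finset.univ.filter fun i : Fin s.length =>
            (i : ℕ) < k ∧ (s i.castSucc).colon (s i.succ : Set M) = m) ∪
          (if (s i₀.castSucc).colon (s i₀.succ : Set M) = m then {i₀} else ∅) := by
        ext i
        simp only [Finset.mem_filter, Finset.mem_univ, true_and, Finset.mem_union]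
        constructor
        · rintro ⟨hik, hP⟩
          rcases Nat.lt_succ_iff_lt_or_eq.mp hik with h | h
          · exact Or.inl ⟨h, hP⟩
          · have hi : i = i₀ := Fin.ext h
            subst hi
            right
            rw [if_pos hP]
            exact Finset.mem_singleton_self _
        · rintro (⟨hik, hP⟩ | hmem)
          · exact ⟨Nat.lt_succ_of_lt hik, hP⟩
          · split_ifs at hmem with hP
            · rw [Finset.mem_singleton] at hmem
              subst hmem
              exact ⟨Nat.lt_succ_self _, hP⟩
            · exact absurd hmem (Finset.notMem_empty _)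
      have hdisj : Disjoint (Finset.univ.filter fun i : Fin s.length =>
            (i : ℕ) < k ∧ (s i.castSucc).colon (s i.succ : Set M) = m)
          (if (s i₀.castSucc).colon (s i₀.succ : Set M) = m then {i₀} else ∅) := by
        split_ifs with hP
        · rw [Finset.disjoint_singleton_right, Finset.mem_filter]
          rintro ⟨-, hlt, -⟩
          exact lt_irrefl k hlt
        · exact Finset.disjoint_empty_right _
      rw [hfilter, Finset.card_union_of_disjoint hdisj]
      by_cases hP : (s i₀.castSucc).colon (s i₀.succ : Set M) = m
      · rw [if_pos hP, if_pos hP, Finset.card_singleton, Nat.cast_add, Nat.cast_one]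
      · rw [if_neg hP, if_neg hP, Finset.card_empty, Nat.cast_add, Nat.cast_zero]
  have hlast : s ⟨s.length, Nat.lt_succ_of_le le_rfl⟩ = ⊤ := h1
  have := key s.length le_rfl
  rw [hlast, length_loc_top] at this
  rw [this]
  congr 2
  ext i
  simp only [Finset.mem_filter, Finset.mem_univ, true_and]
  exact ⟨fun h => ⟨i.2, h⟩, fun h => h.2⟩

end Groth.Agent.S6329
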