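import Groth.Statements.S6320
import Groth.Agent.S6329
import Mathlib.RingTheory.FiniteLength

set_option autoImplicit false
universe u
open CAlg

namespace Groth.Agent.S6320

open Groth.Agent.S6329

section Aux

variable {R : Type u} [CommRing R] {M : Type u} [AddCommGroup M] [Module R M]

theorem annihilator_quot_eq_colon {N N' : Submodule R M} :
    Module.annihilator R (N' ⧸ Submodule.comap N'.subtype N) = N.colon (N' : Set M) := by
  ext r
  rw [Module.mem_annihilator, Submodule.mem_colon]
  constructor
  · intro h x hx
    have := h (Submodule.Quotient.mk ⟨x, hx⟩)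
    rw [← Submodule.Quotient.mk_smul, Submodule.Quotient.mk_eq_zero] at this
    exact this
  · intro h q
    induction q using Submodule.Quotient.induction_on with
    | H x =>
      rw [← Submodule.Quotient.mk_smul, Submodule.Quotient.mk_eq_zero]
      exact h x.1 x.2

end Aux

section Main

variable {A B : Type u} [CommRing A] [IsLocalRing A] [CommRing B] [Algebra A B]

/-- The `A`-length of the residue field `B/I` at a maximal ideal lying over the maximal ideal. -/
theorem length_quot (I : Ideal B) [I.IsMaximal]
    (hover : I.comap (algebraMap A B) = IsLocalRing.maximalIdeal A)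
    [Module.Finite (A ⧸ I.comap (algebraMap A B)) (B ⧸ I)] :
    Module.length A (B ⧸ I) =
      (Module.finrank (A ⧸ I.comap (algebraMap A B)) (B ⧸ I) : ℕ∞) := by
  haveI hmax : (I.comap (algebraMap A B)).IsMaximal := by rw [hover]; infer_instance
  letI : Field (A ⧸ I.comap (algebraMap A B)) := Ideal.Quotient.field _
  haveI : IsScalarTower A (A ⧸ I.comap (algebraMap A B)) (B ⧸ I) :=
    IsScalarTower.of_algebraMap_eq (fun a => rfl)
  rw [Module.length_eq_of_surjective (R := A ⧸ I.comap (algebraMap A B)) (M := B ⧸ I) (S := A)
    Ideal.Quotient.mk_surjective]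
  exact Module.length_eq_finrank _ _

variable [Finite (MaximalSpectrum B)]
  (hover : ∀ n : MaximalSpectrum B, n.asIdeal.comap (algebraMap A B) = IsLocalRing.maximalIdeal A)
  (hfin : ∀ n : MaximalSpectrum B,
    Module.Finite (A ⧸ n.asIdeal.comap (algebraMap A B)) (B ⧸ n.asIdeal))
  {M : Type u} [AddCommGroup M] [Module B M] [Module A M] [IsScalarTower A B M]

set_option maxHeartbeats 1600000 in
include hover hfin in
theorem step {N N' : Submodule B M} (hcov : N ⋖ N')
    (ih : Module.length A N = ∑ᶠ n : MaximalSpectrum B,
      (Module.finrank (A ⧸ n.asIdeal.comap (algebraMap A B)) (B ⧸ n.asIdeal) : ℕ∞) *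
        Module.length (Localization.AtPrime n.asIdeal) (LocalizedModule n.asIdeal.primeCompl N)) :
    Module.length A N' = ∑ᶠ n : MaximalSpectrum B,
      (Module.finrank (A ⧸ n.asIdeal.comap (algebraMap A B)) (B ⧸ n.asIdeal) : ℕ∞) *
        Module.length (Localization.AtPrime n.asIdeal)
          (LocalizedModule n.asIdeal.primeCompl N') := by
  classical
  haveI := Fintype.ofFinite (MaximalSpectrum B)
  have hle : N ≤ N' := hcov.le
  haveI hsimple : IsSimpleModule B (N' ⧸ Submodule.comap N'.subtype N) :=
    (covBy_iff_quot_is_simple hle).mp hcov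
  obtain ⟨I, hI, ⟨e⟩⟩ := isSimpleModule_iff_quot_maximal.mp hsimple
  have hIann : Module.annihilator B (N' ⧸ Submodule.comap N'.subtype N) = I := by
    rw [e.annihilator_eq, Ideal.annihilator_quotient]
  have hcolon : N.colon (N' : Set M) = I := annihilator_quot_eq_colon.symm.trans hIann
  let n₀ : MaximalSpectrum B := ⟨I, hI⟩
  -- additivity over `A`
  have hex : Function.Exact ((Submodule.inclusion hle).restrictScalars A)
      ((Submodule.comap N'.subtype N).mkQ.restrictScalars A) := by
    have : Function.Exact (Submodule.inclusion hle) (Submodule.comap N'.subtype N).mkQ := by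
      rw [LinearMap.exact_iff, Submodule.ker_mkQ, Submodule.range_inclusion]
    exact this
  have hadd : Module.length A N' = Module.length A N +
      Module.length A (N' ⧸ Submodule.comap N'.subtype N) :=
    Module.length_eq_add_of_exact ((Submodule.inclusion hle).restrictScalars A)
      ((Submodule.comap N'.subtype N).mkQ.restrictScalars A)
      (Submodule.inclusion_injective hle) (Submodule.mkQ_surjective _) hex
  have hQ : Module.length A (N' ⧸ Submodule.comap N'.subtype N) =
      (Module.finrank (A ⧸ n₀.asIdeal.comap (algebraMap A B)) (B ⧸ n₀.asIdeal) : ℕ∞) := by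
    rw [(e.restrictScalars A).length_eq]
    haveI := hfin n₀
    haveI : n₀.asIdeal.IsMaximal := n₀.isMaximal
    exact length_quot n₀.asIdeal (hover n₀)
  have hstep : ∀ n : MaximalSpectrum B,
      Module.length (Localization.AtPrime n.asIdeal) (LocalizedModule n.asIdeal.primeCompl N') =
        Module.length (Localization.AtPrime n.asIdeal) (LocalizedModule n.asIdeal.primeCompl N) +
          (if n = n₀ then 1 else 0) := by
    intro n
    haveI : n.asIdeal.IsMaximal := n.isMaximal
    rw [length_loc_step n.asIdeal hcov, hcolon]
    congr 1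
    by_cases h : n = n₀
    · rw [if_pos h, if_pos (by rw [h])]
    · rw [if_neg h, if_neg]
      intro h'
      exact h (MaximalSpectrum.ext h'.symm)
  rw [hadd, ih, hQ, finsum_eq_sum_of_fintype, finsum_eq_sum_of_fintype]
  simp_rw [hstep, mul_add, Finset.sum_add_distrib]
  congr 1
  rw [Finset.sum_eq_single n₀]
  · rw [if_pos rfl, mul_one]
  · intro n _ hn
    rw [if_neg hn, mul_zero]
  · intro h
    exact absurd (Finset.mem_univ _) h

end Main

/-- Let A be a local ring with maximal ideal m, B a semi-local ring with maximal ideals m₁, …, mₙ and A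
→ B a ring map such that each mᵢ lies over m with [κ(mᵢ) : κ(m)] finite. Then for every B-module M
of finite length, length_A(M) = Σᵢ [κ(mᵢ) : κ(m)] · length_{B_{mᵢ}}(M_{mᵢ}); in particular
length_A(M) is finite. -/
theorem result {A B : Type u} [CommRing A] [IsLocalRing A] [CommRing B] [Algebra A B] [Finite (MaximalSpectrum B)] (hover : ∀ n : MaximalSpectrum B, n.asIdeal.comap (algebraMap A B) = IsLocalRing.maximalIdeal A) (hfin : ∀ n : MaximalSpectrum B, Module.Finite (A ⧸ n.asIdeal.comap (algebraMap A B)) (B ⧸ n.asIdeal)) (M : Type u) [AddCommGroup M] [Module B M] [Module A M] [IsScalarTower A B M] (hM : IsFiniteLength B M) : Module.length A M = ∑ᶠ n : MaximalSpectrum B, (Module.finrank (A ⧸ n.asIdeal.comap (algebraMap A B)) (B ⧸ n.asIdeal) : ℕ∞) * Module.length (Localization.AtPrime n.asIdeal) (LocalizedModule n.asIdeal.primeCompl M) := by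
  obtain ⟨s, h0, h1⟩ := isFiniteLength_iff_exists_compositionSeries.mp hM
  have key : ∀ (k : ℕ) (hk : k ≤ s.length),
      Module.length A (s ⟨k, Nat.lt_succ_of_le hk⟩) = ∑ᶠ n : MaximalSpectrum B,
        (Module.finrank (A ⧸ n.asIdeal.comap (algebraMap A B)) (B ⧸ n.asIdeal) : ℕ∞) *
          Module.length (Localization.AtPrime n.asIdeal)
            (LocalizedModule n.asIdeal.primeCompl (s ⟨k, Nat.lt_succ_of_le hk⟩)) := by
    intro k
    induction k with
    | zero =>
      intro hk
      have hs0 : s ⟨0, Nat.lt_succ_of_le hk⟩ = ⊥ := h0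
      rw [hs0]
      have h1 : Module.length A (⊥ : Submodule B M) = 0 := Module.length_eq_zero_iff.mpr inferInstance
      rw [h1]
      have h2 : ∀ n : MaximalSpectrum B,
          Module.length (Localization.AtPrime n.asIdeal)
            (LocalizedModule n.asIdeal.primeCompl (⊥ : Submodule B M)) = 0 := by
        intro n
        haveI : n.asIdeal.IsMaximal := n.isMaximal
        exact length_loc_bot n.asIdeal
      simp_rw [h2, mul_zero, finsum_zero]
    | succ k ih =>
      intro hk
      have hk' : k < s.length := hk
      let i₀ : Fin s.length := ⟨k, hk'⟩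
      have hstep : s i₀.castSucc ⋖ s i₀.succ := s.step i₀
      exact step hover hfin hstep (ih hk'.le)
  have hlast : s ⟨s.length, Nat.lt_succ_of_le le_rfl⟩ = ⊤ := h1
  have hfinal := key s.length le_rfl
  rw [hlast] at hfinal
  have e1 : Module.length A (⊤ : Submodule B M) = Module.length A M :=
    ((Submodule.topEquiv : (⊤ : Submodule B M) ≃ₗ[B] M).restrictScalars A).length_eq
  have e2 : ∀ n : MaximalSpectrum B,
      Module.length (Localization.AtPrime n.asIdeal)
          (LocalizedModule n.asIdeal.primeCompl (⊤ : Submodule B M)) =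
        Module.length (Localization.AtPrime n.asIdeal)
          (LocalizedModule n.asIdeal.primeCompl M) := by
    intro n
    haveI : n.asIdeal.IsMaximal := n.isMaximal
    exact length_loc_top n.asIdeal
  rw [e1] at hfinal
  simp_rw [e2] at hfinal
  exact hfinal

end Groth.Agent.S6320
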