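import Groth.Statements.S14438
import Groth.Agent.S6320
import Mathlib.LinearAlgebra.TensorProduct.Quotient
import Mathlib.RingTheory.Ideal.GoingUp
import Mathlib.RingTheory.Artinian.Ring
import Mathlib.LinearAlgebra.Dimension.Constructions
import Mathlib.RingTheory.TensorProduct.Finite

set_option autoImplicit false
universe u

namespace Groth.Agent.S14438

open IsLocalRing TensorProduct

section Aux

variable (A B : Type u) [CommRing A] [IsLocalRing A] [CommRing B] [Algebra A B]
  [Module.Free A B] [Module.Finite A B]

theorem comap_eq (n : Ideal B) [n.IsMaximal] :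
    n.comap (algebraMap A B) = maximalIdeal A :=
  IsLocalRing.eq_maximalIdeal (Ideal.isMaximal_comap_of_isIntegral_of_isMaximal n)

theorem J_le (n : Ideal B) [n.IsMaximal] :
    Ideal.map (algebraMap A B) (maximalIdeal A) ≤ n :=
  Ideal.map_le_iff_le_comap.mpr (comap_eq A B n).ge

set_option maxHeartbeats 1600000 in
theorem length_A_quot :
    Module.length A (B ⧸ Ideal.map (algebraMap A B) (maximalIdeal A)) =
      (Module.finrank A B : ℕ∞) := by
  have e1 : (B ⧸ (Ideal.map (algebraMap A B) (maximalIdeal A)).restrictScalars A) ≃ₗ[A]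
      (B ⧸ Ideal.map (algebraMap A B) (maximalIdeal A)) :=
    Submodule.Quotient.restrictScalarsEquiv A _
  have h2 : (maximalIdeal A • ⊤ : Submodule A B) =
      (Ideal.map (algebraMap A B) (maximalIdeal A)).restrictScalars A :=
    Ideal.smul_top_eq_map _
  have e2 : ((A ⧸ maximalIdeal A) ⊗[A] B) ≃ₗ[A] (B ⧸ (maximalIdeal A • ⊤ : Submodule A B)) :=
    TensorProduct.quotTensorEquivQuotSMul B (maximalIdeal A)
  have e3 : (B ⧸ (maximalIdeal A • ⊤ : Submodule A B)) ≃ₗ[A]
      (B ⧸ (Ideal.map (algebraMap A B) (maximalIdeal A)).restrictScalars A) :=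
    Submodule.quotEquivOfEq _ _ h2
  rw [← (e2.trans (e3.trans e1)).length_eq]
  rw [Module.length_eq_of_surjective (R := A ⧸ maximalIdeal A) (S := A)
    (M := (A ⧸ maximalIdeal A) ⊗[A] B) Ideal.Quotient.mk_surjective]
  haveI : Module.Finite (A ⧸ maximalIdeal A) ((A ⧸ maximalIdeal A) ⊗[A] B) :=
    Module.Finite.base_change A (A ⧸ maximalIdeal A) B
  letI : Field (A ⧸ maximalIdeal A) := Ideal.Quotient.field _
  rw [Module.length_eq_finrank, Module.finrank_baseChange]

end Aux

/-- Let (A, m) be a local ring, B a commutative A-algebra which is free of finite rank d as an A-module,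
and assume that for every maximal ideal n of B containing mB the induced map of residue fields A/m →
B/n is bijective (as for the points of a fibre of a finite flat morphism of varieties over an
algebraically closed field). Then the multiplicities of the points of the fibre add up to the
degree: the sum over all such n of the length of the B_n-module (B/mB)_n equals d. -/
theorem result (A B : Type u) [CommRing A] [IsLocalRing A] [CommRing B] [Algebra A B]
    [Module.Free A B] [Module.Finite A B] (d : ℕ) (hd : Module.finrank A B = d)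
    (hres : ∀ (n : Ideal B) [n.IsMaximal] (h : Ideal.map (algebraMap A B) (IsLocalRing.maximalIdeal A) ≤ n),
      Function.Bijective (Ideal.quotientMap n (algebraMap A B) (Ideal.map_le_iff_le_comap.mp h))) :
    finsum (fun n : {n : MaximalSpectrum B // Ideal.map (algebraMap A B) (IsLocalRing.maximalIdeal A) ≤ n.asIdeal} =>
      Module.length (Localization.AtPrime n.1.asIdeal)
        (LocalizedModule n.1.asIdeal.primeCompl (B ⧸ Ideal.map (algebraMap A B) (IsLocalRing.maximalIdeal A)))) = (d : ℕ∞) := by
  classical
  have hlenA : Module.length A (B ⧸ Ideal.map (algebraMap A B) (maximalIdeal A)) = (d : ℕ∞) := by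
    rw [length_A_quot, hd]
  have hle : Module.length B (B ⧸ Ideal.map (algebraMap A B) (maximalIdeal A)) ≤
      Module.length A (B ⧸ Ideal.map (algebraMap A B) (maximalIdeal A)) := by
    have h3 := Submodule.length_le_length_restrictScalars A
      (⊤ : Submodule B (B ⧸ Ideal.map (algebraMap A B) (maximalIdeal A)))
    calc Module.length B (B ⧸ Ideal.map (algebraMap A B) (maximalIdeal A))
        = Module.length B (⊤ : Submodule B (B ⧸ Ideal.map (algebraMap A B) (maximalIdeal A))) :=
          Module.length_top.symm
      _ ≤ _ := h3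
      _ = Module.length A (⊤ : Submodule A (B ⧸ Ideal.map (algebraMap A B) (maximalIdeal A))) :=
          (LinearEquiv.ofEq _ _ (Submodule.restrictScalars_top A B _)).length_eq
      _ = _ := Module.length_top
  have hM : IsFiniteLength B (B ⧸ Ideal.map (algebraMap A B) (maximalIdeal A)) := by
    rw [← Module.length_ne_top_iff]
    refine ne_top_of_le_ne_top ?_ hle
    rw [hlenA]
    exact ENat.natCast_ne_top d
  haveI hart : IsArtinian B (B ⧸ Ideal.map (algebraMap A B) (maximalIdeal A)) :=
    (isFiniteLength_iff_isNoetherian_isArtinian.mp hM).2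
  haveI : IsArtinianRing (B ⧸ Ideal.map (algebraMap A B) (maximalIdeal A)) :=
    isArtinian_of_tower B hart
  haveI : Finite (MaximalSpectrum B) := by
    let g : MaximalSpectrum (B ⧸ Ideal.map (algebraMap A B) (maximalIdeal A)) →
        MaximalSpectrum B := fun q =>
      ⟨q.asIdeal.comap (Ideal.Quotient.mk _), by
        haveI := q.isMaximal
        exact Ideal.comap_isMaximal_of_surjective _ Ideal.Quotient.mk_surjective⟩
    refine Finite.of_surjective g ?_
    intro n
    haveI := n.isMaximal
    have hJn : Ideal.map (algebraMap A B) (maximalIdeal A) ≤ n.asIdeal := J_le A B n.asIdeal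
    have hcm : (n.asIdeal.map (Ideal.Quotient.mk (Ideal.map (algebraMap A B) (maximalIdeal A)))).comap
        (Ideal.Quotient.mk _) = n.asIdeal := by
      rw [Ideal.comap_map_of_surjective _ Ideal.Quotient.mk_surjective,
        ← RingHom.ker_eq_comap_bot, Ideal.mk_ker, sup_eq_left.mpr hJn]
    rcases Ideal.map_eq_top_or_isMaximal_of_surjective
        (Ideal.Quotient.mk (Ideal.map (algebraMap A B) (maximalIdeal A)))
        Ideal.Quotient.mk_surjective n.isMaximal with h | h
    · exfalso
      rw [h, Ideal.comap_top] at hcm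
      exact n.isMaximal.ne_top hcm.symm
    · exact ⟨⟨_, h⟩, MaximalSpectrum.ext hcm⟩
  have hover : ∀ n : MaximalSpectrum B,
      n.asIdeal.comap (algebraMap A B) = maximalIdeal A := fun n => by
    haveI := n.isMaximal
    exact comap_eq A B n.asIdeal
  have hfin : ∀ n : MaximalSpectrum B,
      Module.Finite (A ⧸ n.asIdeal.comap (algebraMap A B)) (B ⧸ n.asIdeal) := fun n => by
    haveI : IsScalarTower A (A ⧸ n.asIdeal.comap (algebraMap A B)) (B ⧸ n.asIdeal) :=
      IsScalarTower.of_algebraMap_eq (fun a => rfl)
    exact Module.Finite.of_restrictScalars_finite A _ _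
  have main := Groth.Agent.S6320.result hover hfin
    (B ⧸ Ideal.map (algebraMap A B) (maximalIdeal A)) hM
  have hone : ∀ n : MaximalSpectrum B,
      Module.finrank (A ⧸ n.asIdeal.comap (algebraMap A B)) (B ⧸ n.asIdeal) = 1 := by
    intro n
    haveI := n.isMaximal
    have hbij := hres n.asIdeal (J_le A B n.asIdeal)
    have hsurj : Function.Surjective
        (algebraMap (A ⧸ n.asIdeal.comap (algebraMap A B)) (B ⧸ n.asIdeal)) := by
      intro y
      obtain ⟨x, hx⟩ := hbij.2 y
      obtain ⟨a, rfl⟩ := Ideal.Quotient.mk_surjective x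
      refine ⟨Ideal.Quotient.mk _ a, ?_⟩
      rw [← hx]
      rfl
    have hinj : Function.Injective
        (algebraMap (A ⧸ n.asIdeal.comap (algebraMap A B)) (B ⧸ n.asIdeal)) :=
      Ideal.algebraMap_quotient_injective
    haveI : Nontrivial (A ⧸ n.asIdeal.comap (algebraMap A B)) := by
      rw [Ideal.Quotient.nontrivial_iff, hover n]
      exact Ideal.IsMaximal.ne_top inferInstance
    let e : (A ⧸ n.asIdeal.comap (algebraMap A B)) ≃ₗ[A ⧸ n.asIdeal.comap (algebraMap A B)]
        (B ⧸ n.asIdeal) :=
      LinearEquiv.ofBijective (Algebra.linearMap _ _) ⟨hinj, hsurj⟩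
    rw [← e.finrank_eq, Module.finrank_self]
  simp_rw [hone, Nat.cast_one, one_mul] at main
  have hall : ∀ n : MaximalSpectrum B,
      Ideal.map (algebraMap A B) (maximalIdeal A) ≤ n.asIdeal := fun n => by
    haveI := n.isMaximal
    exact J_le A B n.asIdeal
  rw [← hlenA, main]
  exact finsum_comp_equiv (Equiv.subtypeUnivEquiv hall)
    (f := fun n : MaximalSpectrum B => Module.length (Localization.AtPrime n.asIdeal)
      (LocalizedModule n.asIdeal.primeCompl (B ⧸ Ideal.map (algebraMap A B) (maximalIdeal A))))

end Groth.Agent.S14438
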