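import Groth.Statements.S14442
import Mathlib

set_option autoImplicit false
universe u
open GrNak

namespace Groth.Agent.S14442

/-- Let R be a commutative ℕ-graded ring with irrelevant ideal R_+ = ⊕_{i>0} R_i, M an ℕ-graded R-module
and N a graded submodule of M (closed under taking homogeneous components). If M = R_+ M + N then N
= M. (The published statement is for finitely generated ℤ-graded modules over a graded quotient of a
polynomial ring, whose degrees are then bounded below; stated here for non-negatively graded modules
over any ℕ-graded commutative ring, where the same lowest-degree argument applies without finite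
generation.) -/
theorem result {R : Type u} [CommRing R] {σ : Type u} [SetLike σ R] [AddSubmonoidClass σ R]
    (𝒜 : ℕ → σ) [GradedRing 𝒜]
    {M : Type u} [AddCommGroup M] [Module R M] {τ : Type u} [SetLike τ M] [AddSubmonoidClass τ M]
    (ℳ : ℕ → τ) [DirectSum.Decomposition ℳ] [SetLike.GradedSMul 𝒜 ℳ]
    (N : Submodule R M) (hN : ∀ x ∈ N, ∀ i : ℕ, (DirectSum.decompose ℳ x i : M) ∈ N)
    (h : (HomogeneousIdeal.irrelevant 𝒜).toIdeal • (⊤ : Submodule R M) ⊔ N = ⊤) :
    N = ⊤ := by
  classical
  have key : ∀ i : ℕ, ∀ m : M, m ∈ ℳ i → m ∈ N := by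
    intro i
    induction i using Nat.strong_induction_on with
    | _ i ih =>
      intro m hm
      let cHom : M →+ M := (AddSubmonoidClass.subtype (ℳ i)).comp
        ((DFinsupp.evalAddMonoidHom i).comp (DirectSum.decomposeAddEquiv ℳ).toAddMonoidHom)
      have hcHom : ∀ y : M, cHom y = (DirectSum.decompose ℳ y i : M) := fun y => rfl
      have hsm : ∀ y ∈ (HomogeneousIdeal.irrelevant 𝒜).toIdeal • (⊤ : Submodule R M),
          cHom y ∈ N := by
        intro y hy
        refine Submodule.smul_induction_on hy (fun r hr m' _ => ?_)
          (fun y z hy hz => by rw [map_add]; exact N.add_mem hy hz)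
        have hr0 : (DirectSum.decompose 𝒜 r 0 : R) = 0 :=
          (HomogeneousIdeal.mem_irrelevant_iff 𝒜 r).mp hr
        have hexp : r • m' = ∑ a ∈ DFinsupp.support (DirectSum.decompose 𝒜 r),
            ∑ b ∈ DFinsupp.support (DirectSum.decompose ℳ m'),
              (DirectSum.decompose 𝒜 r a : R) • (DirectSum.decompose ℳ m' b : M) := by
          conv_lhs => rw [← DirectSum.sum_support_decompose 𝒜 r,
            ← DirectSum.sum_support_decompose ℳ m']
          rw [Finset.sum_smul]
          simp_rw [Finset.smul_sum]
        rw [hexp, map_sum]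
        refine N.sum_mem (fun a _ => ?_)
        rw [map_sum]
        refine N.sum_mem (fun b _ => ?_)
        have hmem : (DirectSum.decompose 𝒜 r a : R) • (DirectSum.decompose ℳ m' b : M) ∈
            ℳ (a + b) :=
          SetLike.GradedSMul.smul_mem (DirectSum.decompose 𝒜 r a).2 (DirectSum.decompose ℳ m' b).2
        by_cases hab : a + b = i
        · have h1 : cHom ((DirectSum.decompose 𝒜 r a : R) • (DirectSum.decompose ℳ m' b : M)) =
              (DirectSum.decompose 𝒜 r a : R) • (DirectSum.decompose ℳ m' b : M) :=
            DirectSum.decompose_of_mem_same ℳ (hab ▸ hmem)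
          rw [h1]
          rcases Nat.eq_zero_or_pos a with ha0 | hapos
          · subst ha0
            rw [hr0, zero_smul]
            exact N.zero_mem
          · exact N.smul_mem _ (ih b (by omega) _ (DirectSum.decompose ℳ m' b).2)
        · have h1 : cHom ((DirectSum.decompose 𝒜 r a : R) • (DirectSum.decompose ℳ m' b : M)) =
              0 := DirectSum.decompose_of_mem_ne ℳ hmem hab
          rw [h1]
          exact N.zero_mem
      have hm' : m ∈ (HomogeneousIdeal.irrelevant 𝒜).toIdeal • (⊤ : Submodule R M) ⊔ N := by
        rw [h]; trivial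
      obtain ⟨y, hy, n, hn, hyn⟩ := Submodule.mem_sup.mp hm'
      have h2 : cHom m = m := DirectSum.decompose_of_mem_same ℳ hm
      rw [← h2, ← hyn, map_add]
      exact N.add_mem (hsm y hy) (hN n hn i)
  refine eq_top_iff.mpr (fun x _ => ?_)
  rw [← DirectSum.sum_support_decompose ℳ x]
  exact N.sum_mem (fun i _ => key i _ (DirectSum.decompose ℳ x i).2)

end Groth.Agent.S14442
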