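import Groth.Statements.S6659
import Groth.Agent.S0067
import Groth.Agent.Lib.Helper15.ClosedStalk
import Groth.Agent.Lib.Helper15.DerivedFF
import Groth.Agent.Lib.Helper13.FlatPullback

set_option autoImplicit false
universe u
open CategoryTheory CategoryTheory.Limits AlgebraicGeometry Opposite
attribute [local instance] HasDerivedCategory.standard
open EtDual

namespace Groth.Agent.S6659


open Groth.Agent.Lib.Helper13 Groth.Agent.Lib.Helper13.StalkPull
  Groth.Agent.Lib.Helper13.StalkConservative Groth.Agent.Lib.Helper15

/-- A point of `Spec` of a field landing in an open subscheme factors through it. -/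
lemma exists_factor_open {U X : Scheme.{u}} (j : U ⟶ X) [IsOpenImmersion j] {Ω : Type u} [Field Ω]
    (ξ : Spec (CommRingCat.of Ω) ⟶ X) (h : ξ.base default ∈ Set.range j.base) :
    ∃ v : Spec (CommRingCat.of Ω) ⟶ U, v ≫ j = ξ := by
  have hsub : Set.range ξ.base ⊆ Set.range j.base := by
    rintro _ ⟨s, rfl⟩
    rw [Subsingleton.elim s default]
    exact h
  exact ⟨IsOpenImmersion.lift j ξ hsub, IsOpenImmersion.lift_fac _ _ _⟩

/-- Sheaf level: the essential image of `i_*` consists of the sheaves with zero restriction to the
open complement. -/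
lemma essImage_iff_isZero_pull {Z X U : Scheme.{u}} (i : Z ⟶ X) [IsClosedImmersion i] (j : U ⟶ X)
    [IsOpenImmersion j] (hZU : Set.range j.base = (Set.range i.base)ᶜ) (H : EtCoh.Ab X) :
    (EtCoh.push i).essImage H ↔ IsZero ((EtCoh.pull j).obj H) := by
  constructor
  · rintro ⟨G, ⟨e⟩⟩
    rw [isZero_iff_stalks]
    intro p
    have hξ : (p.ξ ≫ j).base default ∉ Set.range i.base := by
      have h1 : (p.ξ ≫ j).base default ∈ Set.range j.base := ⟨p.ξ.base default, rfl⟩
      rw [hZU] at h1
      exact h1
    have h0 := ClosedStalk.isZero_stalk_of_vanish i ((EtCoh.push i).obj G)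
      (fun V hV => ClosedStalk.isZero_push_sections i G V hV) (p.ξ ≫ j) hξ
    exact IsZero.of_iso h0 (((stalkPullIso j p.ξ).app H) ≪≫ (EtCoh.stalk (p.ξ ≫ j)).mapIso e.symm)
  · intro hzero
    haveI : IsIso ((EtCoh.pullPushAdj i).unit.app H) := by
      rw [isIso_iff_stalks]
      intro p
      by_cases h : p.ξ.base default ∈ Set.range i.base
      · obtain ⟨ζ, hζ⟩ := ClosedStalk.exists_factor i p.ξ h
        exact ClosedStalk.isIso_stalk_unit i H p.ξ ζ hζ
      · have hj : p.ξ.base default ∈ Set.range j.base := by
          rw [hZU]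
          exact h
        obtain ⟨v, hv⟩ := exists_factor_open j p.ξ hj
        have hsrc : IsZero ((EtCoh.stalk p.ξ).obj H) := by
          have h1 : IsZero ((EtCoh.stalk v).obj ((EtCoh.pull j).obj H)) :=
            (isZero_iff_stalks _).1 hzero ⟨p.Ω, v⟩
          have h2 : IsZero ((EtCoh.stalk (v ≫ j)).obj H) :=
            IsZero.of_iso h1 ((stalkPullIso j v).app H).symm
          rw [hv] at h2
          exact h2
        have htgt := ClosedStalk.isZero_stalk_of_vanish i
          ((EtCoh.push i).obj ((EtCoh.pull i).obj H))
          (fun V hV => ClosedStalk.isZero_push_sections i _ V hV) p.ξ h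
        exact ⟨⟨htgt.to_ _, hsrc.eq_of_src _ _, htgt.eq_of_src _ _⟩⟩
    exact ⟨(EtCoh.pull i).obj H, ⟨(asIso ((EtCoh.pullPushAdj i).unit.app H)).symm⟩⟩

/-- Let i : Z → X be a closed immersion of schemes with open complement j : U → X. The direct image i_*
of abelian etale sheaves is exact (its right exactness is carried as an instance hypothesis), and
the induced functor D(Z_et) → D(X_et) is fully faithful; an object K of D(X_et) lies in its
essential image if and only if every cohomology sheaf of K has zero restriction to U, i.e. K has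
cohomology sheaves supported on Z. (The identification of the quasi-inverse with the derived functor
of sections supported on Z is not part of this row.) -/
theorem result {Z X U : Scheme.{u}} (i : Z ⟶ X)
    [IsClosedImmersion i] (j : U ⟶ X) [IsOpenImmersion j] (hZU : Set.range j = (Set.range i)ᶜ)
    [PreservesFiniteColimits (EtCoh.push i)] :
    ((EtCoh.push i).mapDerivedCategory.Full ∧ (EtCoh.push i).mapDerivedCategory.Faithful) ∧
      ∀ K : DCoh.DEt X,
        (EtCoh.push i).mapDerivedCategory.essImage K ↔
          ∀ n : ℤ, IsZero ((EtCoh.pull j).obj (DCoh.HDEt K n)) := by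
  haveI : (EtCoh.pull i).Additive := (EtCoh.pullPushAdj i).left_adjoint_additive
  haveI : PreservesFiniteColimits (EtCoh.pull i) := by
    have : PreservesColimitsOfSize.{0, 0} (EtCoh.pull i) :=
      (EtCoh.pullPushAdj i).leftAdjoint_preservesColimits
    exact PreservesColimitsOfSize.preservesFiniteColimits _
  haveI : PreservesFiniteLimits (EtCoh.pull i) := FlatPullback.pull_preservesFiniteLimits i
  obtain ⟨hfull, hfaith⟩ := Groth.Agent.S0067.result i
  haveI := hfull
  haveI := hfaith
  refine ⟨DerivedFF.full_faithful (EtCoh.pullPushAdj i), fun K => ?_⟩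
  rw [DerivedFF.essImage_iff (EtCoh.pullPushAdj i) K]
  refine forall_congr' fun n => ?_
  exact essImage_iff_isZero_pull i j hZU _

end Groth.Agent.S6659
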