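import Groth.Statements.S14449
import Groth.Agent.S6659
import Groth.Agent.S0651
import Groth.Agent.S0067
import Groth.Agent.Lib.Helper13.FlatPullback
import Groth.Agent.Lib.Helper13.ExtZeroExact

set_option autoImplicit false
universe u
open CategoryTheory CategoryTheory.Limits AlgebraicGeometry
open EtCore

namespace Groth.Agent.S14449

open Groth.Agent.Lib.Helper13

set_option backward.isDefEq.respectTransparency.types false

section aux

variable {X Z U : Scheme.{u}} (i : Z ⟶ X) [IsClosedImmersion i] (j : U ⟶ X) [IsOpenImmersion j]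

/-- The counit `i⁻¹ i_* A ⟶ A` of a closed immersion is an isomorphism. -/
lemma isIso_counit_closed (A : EtCoh.Ab Z) : IsIso ((EtCoh.pullPushAdj i).counit.app A) := by
  obtain ⟨hfull, hfaith⟩ := Groth.Agent.S0067.result i
  haveI := hfull
  haveI := hfaith
  haveI : IsIso (EtCoh.pullPushAdj i).counit := Adjunction.counit_isIso_of_R_fully_faithful _
  infer_instance

/-- The counit `j⁻¹ j_* B ⟶ B` of an open immersion is an isomorphism. -/
lemma isIso_counit_open (B : EtCoh.Ab U) : IsIso ((EtCoh.pullPushAdj j).counit.app B) :=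
  (Groth.Agent.S0651.result j B).1

/-- `i⁻¹` of the unit of `i⁻¹ ⊣ i_*` is an isomorphism. -/
lemma isIso_pull_unit_closed (M : EtCoh.Ab X) :
    IsIso ((EtCoh.pull i).map ((EtCoh.pullPushAdj i).unit.app M)) := by
  have h := (EtCoh.pullPushAdj i).left_triangle_components M
  haveI := isIso_counit_closed i ((EtCoh.pull i).obj M)
  haveI : IsIso ((EtCoh.pull i).map ((EtCoh.pullPushAdj i).unit.app M) ≫
      (EtCoh.pullPushAdj i).counit.app ((EtCoh.pull i).obj M)) := by
    rw [h]
    exact IsIso.id _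
  exact IsIso.of_isIso_comp_right _ ((EtCoh.pullPushAdj i).counit.app ((EtCoh.pull i).obj M))

variable (hZU : Set.range j.base = (Set.range i.base)ᶜ)

include hZU in
/-- `j⁻¹ i_* = 0`. -/
lemma isZero_pull_push (A : EtCoh.Ab Z) :
    IsZero ((EtCoh.pull j).obj ((EtCoh.push i).obj A)) :=
  (Groth.Agent.S6659.essImage_iff_isZero_pull i j hZU _).1 ((EtCoh.push i).obj_mem_essImage A)

include hZU in
/-- A sheaf restricting to zero on both `Z` and `U` is zero. -/
lemma isZero_of_pulls (K : EtCoh.Ab X) (h1 : IsZero ((EtCoh.pull i).obj K))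
    (h2 : IsZero ((EtCoh.pull j).obj K)) : IsZero K := by
  obtain ⟨G, ⟨e⟩⟩ := (Groth.Agent.S6659.essImage_iff_isZero_pull i j hZU K).2 h2
  haveI := isIso_counit_closed i G
  have hG : IsZero G := IsZero.of_iso h1
    ((asIso ((EtCoh.pullPushAdj i).counit.app G)).symm ≪≫ (EtCoh.pull i).mapIso e)
  exact IsZero.of_iso (Functor.map_isZero (EtCoh.push i) hG) e.symm

include hZU in
/-- The pair `(i⁻¹, j⁻¹)` reflects isomorphisms. -/
lemma isIso_of_pulls {F G : EtCoh.Ab X} (f : F ⟶ G) (hi : IsIso ((EtCoh.pull i).map f))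
    (hj : IsIso ((EtCoh.pull j).map f)) : IsIso f := by
  haveI : (EtCoh.pull i).IsLeftAdjoint := (EtCoh.pullPushAdj i).isLeftAdjoint
  haveI : (EtCoh.pull j).IsLeftAdjoint := (EtCoh.pullPushAdj j).isLeftAdjoint
  haveI : Mono f := by
    apply Preadditive.mono_of_isZero_kernel
    apply isZero_of_pulls i j hZU
    · exact IsZero.of_iso (isZero_kernel_of_mono _) (PreservesKernel.iso (EtCoh.pull i) f)
    · exact IsZero.of_iso (isZero_kernel_of_mono _) (PreservesKernel.iso (EtCoh.pull j) f)
  haveI : Epi f := by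
    apply Preadditive.epi_of_isZero_cokernel
    apply isZero_of_pulls i j hZU
    · exact IsZero.of_iso (isZero_cokernel_of_epi _) (PreservesCokernel.iso (EtCoh.pull i) f)
    · exact IsZero.of_iso (isZero_cokernel_of_epi _) (PreservesCokernel.iso (EtCoh.pull j) f)
  exact isIso_of_mono_of_epi f

/-- The glued sheaf of a triple `(A, B, φ)`. -/
noncomputable abbrev glue (A : EtCoh.Ab Z) (B : EtCoh.Ab U)
    (φ : A ⟶ (EtCoh.pull i).obj ((EtCoh.push j).obj B)) : EtCoh.Ab X :=
  pullback ((EtCoh.push i).map φ) ((EtCoh.pullPushAdj i).unit.app ((EtCoh.push j).obj B))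

/-- The comparison `i⁻¹ (glue) ⟶ A`. -/
noncomputable abbrev aHom (A : EtCoh.Ab Z) (B : EtCoh.Ab U)
    (φ : A ⟶ (EtCoh.pull i).obj ((EtCoh.push j).obj B)) :
    (EtCoh.pull i).obj (glue i j A B φ) ⟶ A :=
  (EtCoh.pull i).map (pullback.fst ((EtCoh.push i).map φ)
    ((EtCoh.pullPushAdj i).unit.app ((EtCoh.push j).obj B))) ≫ (EtCoh.pullPushAdj i).counit.app A

/-- The comparison `j⁻¹ (glue) ⟶ B`. -/
noncomputable abbrev bHom (A : EtCoh.Ab Z) (B : EtCoh.Ab U)
    (φ : A ⟶ (EtCoh.pull i).obj ((EtCoh.push j).obj B)) :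
    (EtCoh.pull j).obj (glue i j A B φ) ⟶ B :=
  (EtCoh.pull j).map (pullback.snd ((EtCoh.push i).map φ)
    ((EtCoh.pullPushAdj i).unit.app ((EtCoh.push j).obj B))) ≫ (EtCoh.pullPushAdj j).counit.app B

lemma isIso_aHom (A : EtCoh.Ab Z) (B : EtCoh.Ab U)
    (φ : A ⟶ (EtCoh.pull i).obj ((EtCoh.push j).obj B)) : IsIso (aHom i j A B φ) := by
  have hpb := (IsPullback.of_hasPullback ((EtCoh.push i).map φ)
    ((EtCoh.pullPushAdj i).unit.app ((EtCoh.push j).obj B))).map (EtCoh.pull i)
  haveI := hpb.isIso_fst_of_isIso (isIso_pull_unit_closed i ((EtCoh.push j).obj B))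
  haveI := isIso_counit_closed i A
  infer_instance

include hZU in
lemma isIso_bHom (A : EtCoh.Ab Z) (B : EtCoh.Ab U)
    (φ : A ⟶ (EtCoh.pull i).obj ((EtCoh.push j).obj B)) : IsIso (bHom i j A B φ) := by
  have hpb := (IsPullback.of_hasPullback ((EtCoh.push i).map φ)
    ((EtCoh.pullPushAdj i).unit.app ((EtCoh.push j).obj B))).map (EtCoh.pull j)
  have hs := isZero_pull_push i j hZU A
  have ht := isZero_pull_push i j hZU ((EtCoh.pull i).obj ((EtCoh.push j).obj B))
  have hiso : IsIso ((EtCoh.pull j).map ((EtCoh.push i).map φ)) :=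
    ⟨⟨ht.to_ _, hs.eq_of_src _ _, ht.eq_of_src _ _⟩⟩
  haveI := hpb.isIso_snd_of_isIso hiso
  haveI := isIso_counit_open j B
  infer_instance

lemma compat (A : EtCoh.Ab Z) (B : EtCoh.Ab U)
    (φ : A ⟶ (EtCoh.pull i).obj ((EtCoh.push j).obj B)) :
    aHom i j A B φ ≫ φ =
      (EtCoh.pull i).map ((EtCoh.pullPushAdj j).unit.app (glue i j A B φ)) ≫
        (EtCoh.pull i).map ((EtCoh.push j).map (bHom i j A B φ)) := by
  have h1 : (EtCoh.pullPushAdj j).unit.app (glue i j A B φ) ≫
      (EtCoh.push j).map (bHom i j A B φ) =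
      pullback.snd ((EtCoh.push i).map φ)
        ((EtCoh.pullPushAdj i).unit.app ((EtCoh.push j).obj B)) := by
    have hn := (EtCoh.pullPushAdj j).unit.naturality (pullback.snd ((EtCoh.push i).map φ)
      ((EtCoh.pullPushAdj i).unit.app ((EtCoh.push j).obj B)))
    have ht := (EtCoh.pullPushAdj j).right_triangle_components B
    simp only [Functor.id_obj, Functor.id_map, Functor.comp_obj, Functor.comp_map] at hn ht
    rw [Functor.map_comp, ← Category.assoc, ← hn, Category.assoc, ht, Category.comp_id]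
  rw [← Functor.map_comp, h1]
  have hn := (EtCoh.pullPushAdj i).counit.naturality φ
  have ht := (EtCoh.pullPushAdj i).left_triangle_components ((EtCoh.push j).obj B)
  simp only [Functor.id_obj, Functor.id_map, Functor.comp_obj, Functor.comp_map] at hn ht
  rw [Category.assoc, ← hn, ← Category.assoc, ← Functor.map_comp, pullback.condition,
    Functor.map_comp, Category.assoc, ht]
  exact Category.comp_id _

/-- The canonical map `F ⟶ glue (i⁻¹F, j⁻¹F, i⁻¹ unit)`. -/
noncomputable abbrev uHom (F : EtCoh.Ab X) :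
    F ⟶ glue i j ((EtCoh.pull i).obj F) ((EtCoh.pull j).obj F)
      ((EtCoh.pull i).map ((EtCoh.pullPushAdj j).unit.app F)) :=
  pullback.lift ((EtCoh.pullPushAdj i).unit.app F) ((EtCoh.pullPushAdj j).unit.app F)
    (((EtCoh.pullPushAdj i).unit.naturality ((EtCoh.pullPushAdj j).unit.app F)).symm)

include hZU in
lemma isIso_uHom (F : EtCoh.Ab X) : IsIso (uHom i j F) := by
  apply isIso_of_pulls i j hZU
  · haveI := isIso_aHom i j ((EtCoh.pull i).obj F) ((EtCoh.pull j).obj F)
      ((EtCoh.pull i).map ((EtCoh.pullPushAdj j).unit.app F))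
    have h : (EtCoh.pull i).map (uHom i j F) ≫ aHom i j ((EtCoh.pull i).obj F)
        ((EtCoh.pull j).obj F) ((EtCoh.pull i).map ((EtCoh.pullPushAdj j).unit.app F)) = 𝟙 _ := by
      have ht := (EtCoh.pullPushAdj i).left_triangle_components F
      rw [← Category.assoc, ← Functor.map_comp, pullback.lift_fst, ht]
    haveI : IsIso ((EtCoh.pull i).map (uHom i j F) ≫ aHom i j ((EtCoh.pull i).obj F)
        ((EtCoh.pull j).obj F) ((EtCoh.pull i).map ((EtCoh.pullPushAdj j).unit.app F))) := by
      rw [h]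
      exact IsIso.id _
    exact IsIso.of_isIso_comp_right _ (aHom i j ((EtCoh.pull i).obj F)
        ((EtCoh.pull j).obj F) ((EtCoh.pull i).map ((EtCoh.pullPushAdj j).unit.app F)))
  · haveI := isIso_bHom i j hZU ((EtCoh.pull i).obj F) ((EtCoh.pull j).obj F)
      ((EtCoh.pull i).map ((EtCoh.pullPushAdj j).unit.app F))
    have h : (EtCoh.pull j).map (uHom i j F) ≫ bHom i j ((EtCoh.pull i).obj F)
        ((EtCoh.pull j).obj F) ((EtCoh.pull i).map ((EtCoh.pullPushAdj j).unit.app F)) = 𝟙 _ := by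
      have ht := (EtCoh.pullPushAdj j).left_triangle_components F
      rw [← Category.assoc, ← Functor.map_comp, pullback.lift_snd, ht]
    haveI : IsIso ((EtCoh.pull j).map (uHom i j F) ≫ bHom i j ((EtCoh.pull i).obj F)
        ((EtCoh.pull j).obj F) ((EtCoh.pull i).map ((EtCoh.pullPushAdj j).unit.app F))) := by
      rw [h]
      exact IsIso.id _
    exact IsIso.of_isIso_comp_right _ (bHom i j ((EtCoh.pull i).obj F)
        ((EtCoh.pull j).obj F) ((EtCoh.pull i).map ((EtCoh.pullPushAdj j).unit.app F)))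

end aux

/-- Let X be a scheme, i : Z ⟶ X a closed immersion and j : U ⟶ X an open immersion whose image is the
complement of the image of i. Then the functor from abelian sheaves on the small étale site of X to
the category of triples (G on Z, H on U, φ : G ⟶ i⁻¹ j_* H), sending F to (i⁻¹ F, j⁻¹ F, i⁻¹ of the
unit F ⟶ j_* j⁻¹ F), is an equivalence of categories. The category of triples is the comma category
of the identity functor of Ab(Z) over j_* ⋙ i⁻¹. -/
theorem result {X Z U : Scheme.{u}}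
    (i : Z ⟶ X) [IsClosedImmersion i] (j : U ⟶ X) [IsOpenImmersion j]
    (hZU : Set.range j.base = (Set.range i.base)ᶜ) :
    (EtCore.recollTriple i j).IsEquivalence := by
  refine { faithful := ?_, full := ?_, essSurj := ?_ }
  · -- faithful
    constructor
    intro F F' f g h
    have hl : (EtCoh.pull i).map f = (EtCoh.pull i).map g := congrArg CommaMorphism.left h
    have hr : (EtCoh.pull j).map f = (EtCoh.pull j).map g := congrArg CommaMorphism.right h
    haveI := isIso_uHom i j hZU F'
    apply (cancel_mono (uHom i j F')).1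
    apply pullback.hom_ext
    · have hf := (EtCoh.pullPushAdj i).unit.naturality f
      have hg := (EtCoh.pullPushAdj i).unit.naturality g
      simp only [Functor.id_obj, Functor.id_map, Functor.comp_obj, Functor.comp_map] at hf hg
      rw [Category.assoc, Category.assoc, pullback.lift_fst, hf, hg, hl]
    · have hf := (EtCoh.pullPushAdj j).unit.naturality f
      have hg := (EtCoh.pullPushAdj j).unit.naturality g
      simp only [Functor.id_obj, Functor.id_map, Functor.comp_obj, Functor.comp_map] at hf hg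
      rw [Category.assoc, Category.assoc, pullback.lift_snd, hf, hg, hr]
  · -- full
    constructor
    intro F F' f
    obtain ⟨α, hα⟩ : ∃ α : (EtCoh.pull i).obj F ⟶ (EtCoh.pull i).obj F', α = f.left := ⟨_, rfl⟩
    obtain ⟨β, hβ⟩ : ∃ β : (EtCoh.pull j).obj F ⟶ (EtCoh.pull j).obj F', β = f.right := ⟨_, rfl⟩
    have hw : α ≫ (EtCoh.pull i).map ((EtCoh.pullPushAdj j).unit.app F') =
        (EtCoh.pull i).map ((EtCoh.pullPushAdj j).unit.app F) ≫
          (EtCoh.pull i).map ((EtCoh.push j).map β) := by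
      rw [hα, hβ]
      exact f.w
    haveI := isIso_uHom i j hZU F'
    have hcomm : ((EtCoh.pullPushAdj i).unit.app F ≫ (EtCoh.push i).map α) ≫
        (EtCoh.push i).map ((EtCoh.pull i).map ((EtCoh.pullPushAdj j).unit.app F')) =
        ((EtCoh.pullPushAdj j).unit.app F ≫ (EtCoh.push j).map β) ≫
          (EtCoh.pullPushAdj i).unit.app ((EtCoh.push j).obj ((EtCoh.pull j).obj F')) := by
      have hn := (EtCoh.pullPushAdj i).unit.naturality
        ((EtCoh.pullPushAdj j).unit.app F ≫ (EtCoh.push j).map β)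
      simp only [Functor.id_obj, Functor.id_map, Functor.comp_obj, Functor.comp_map] at hn
      rw [hn, Category.assoc, ← Functor.map_comp, hw]
      simp only [Functor.map_comp]
    obtain ⟨φ', hφ'⟩ : ∃ φ' : F ⟶ glue i j ((EtCoh.pull i).obj F') ((EtCoh.pull j).obj F')
        ((EtCoh.pull i).map ((EtCoh.pullPushAdj j).unit.app F')),
        φ' = pullback.lift _ _ hcomm := ⟨_, rfl⟩
    have h1 : φ' ≫ pullback.fst _ _ = (EtCoh.pullPushAdj i).unit.app F ≫ (EtCoh.push i).map α := by
      rw [hφ', pullback.lift_fst]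
    have h2 : φ' ≫ pullback.snd _ _ = (EtCoh.pullPushAdj j).unit.app F ≫ (EtCoh.push j).map β := by
      rw [hφ', pullback.lift_snd]
    refine ⟨φ' ≫ inv (uHom i j F'), ?_⟩
    have e1 : (φ' ≫ inv (uHom i j F')) ≫ (EtCoh.pullPushAdj i).unit.app F' =
        (EtCoh.pullPushAdj i).unit.app F ≫ (EtCoh.push i).map α := by
      rw [← h1]
      have : uHom i j F' ≫ pullback.fst _ _ = (EtCoh.pullPushAdj i).unit.app F' :=
        pullback.lift_fst _ _ _
      rw [← this, Category.assoc, IsIso.inv_hom_id_assoc]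
    have e2 : (φ' ≫ inv (uHom i j F')) ≫ (EtCoh.pullPushAdj j).unit.app F' =
        (EtCoh.pullPushAdj j).unit.app F ≫ (EtCoh.push j).map β := by
      have hu : uHom i j F' ≫ pullback.snd _ _ = (EtCoh.pullPushAdj j).unit.app F' :=
        pullback.lift_snd _ _ _
      have h3 : (φ' ≫ inv (uHom i j F')) ≫ (uHom i j F' ≫ pullback.snd _ _) =
          φ' ≫ pullback.snd _ _ := by
        rw [Category.assoc, IsIso.inv_hom_id_assoc]
      rw [hu] at h3
      rw [h3, h2]
    apply CommaMorphism.ext
    · show (EtCoh.pull i).map (φ' ≫ inv (uHom i j F')) = f.left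
      rw [← hα]
      apply ((EtCoh.pullPushAdj i).homEquiv _ _).injective
      rw [Adjunction.homEquiv_unit, Adjunction.homEquiv_unit, ← e1]
      exact ((EtCoh.pullPushAdj i).unit.naturality _).symm
    · show (EtCoh.pull j).map (φ' ≫ inv (uHom i j F')) = f.right
      rw [← hβ]
      apply ((EtCoh.pullPushAdj j).homEquiv _ _).injective
      rw [Adjunction.homEquiv_unit, Adjunction.homEquiv_unit, ← e2]
      exact ((EtCoh.pullPushAdj j).unit.naturality _).symm
  · -- essentially surjective
    constructor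
    intro t
    obtain ⟨A, B, φ⟩ := t
    obtain ⟨ea, hea⟩ : ∃ ea : (EtCoh.pull i).obj (glue i j A B φ) ≅ A, ea.hom = aHom i j A B φ :=
      ⟨@asIso _ _ _ _ (aHom i j A B φ) (isIso_aHom i j A B φ), rfl⟩
    obtain ⟨eb, heb⟩ : ∃ eb : (EtCoh.pull j).obj (glue i j A B φ) ≅ B, eb.hom = bHom i j A B φ :=
      ⟨@asIso _ _ _ _ (bHom i j A B φ) (isIso_bHom i j hZU A B φ), rfl⟩
    refine ⟨glue i j A B φ, ⟨Comma.isoMk ea eb ?_⟩⟩
    show ea.hom ≫ φ = (EtCoh.pull i).map ((EtCoh.pullPushAdj j).unit.app (glue i j A B φ)) ≫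
      (EtCoh.pull i).map ((EtCoh.push j).map eb.hom)
    rw [hea, heb]
    exact compat i j A B φ

end Groth.Agent.S14449
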