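import Groth.Statements.S14452
import Groth.Agent.Lib.Helper5.FlasqueSurj
import Groth.Agent.Lib.Helper5.InjRestrSurj

set_option autoImplicit false
universe u
open CategoryTheory CategoryTheory.Limits AlgebraicGeometry Opposite
open EtCore

namespace Groth.Agent.S14452

open Groth.Agent.Lib.Helper5 Groth.Agent.Lib.Helper5.EtSectDerived Groth.Agent.Lib.Helper5.FlasqueSurj
open Groth.Agent.Lib.Helper5.AcyclicClass Groth.Agent.Lib.Helper2.GSS

set_option backward.isDefEq.respectTransparency.types false

/-- Let X be a scheme and F an abelian sheaf on the small étale site of X such that H^q(W, F|_W) = 0 for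
every étale X-scheme W and every q > 0 (F|_W the pullback of F along the structure morphism of W).
Then for every morphism g : V ⟶ U of étale X-schemes which is an open immersion, the restriction map
F(U) → F(V) is surjective. -/
theorem result {X : Scheme.{u}}
    (F : EtCoh.Ab X)
    (hF : ∀ (W : X.Etale) (q : ℕ), 0 < q → Subsingleton (EtCoh.H W.left ((EtCoh.pull W.hom).obj F) q))
    {U V : X.Etale} (g : V ⟶ U) [IsOpenImmersion g.left] :
    Function.Surjective (F.obj.map g.op).hom := by
  have hFl : Flasque F := fun W q => (isZero_iff W F (q + 1)).2 (hF W (q + 1) (Nat.succ_pos q))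
  have hS := injSC_shortExact F
  intro t
  obtain ⟨s, hs⟩ := InjRestrSurj.surjective_map_of_injective g (injSC F).X₂
    ((injSC F).f.hom.app (op V) t)
  -- the image of `s` in the quotient vanishes on `V`
  have hq : (injSC F).X₃.obj.map g.op ((injSC F).g.hom.app (op U) s) = 0 := by
    rw [← NatTrans.naturality_apply (injSC F).g.hom g.op s, hs]
    exact EtCechFlasque.sections_zero hS V t
  obtain ⟨c, hc0, hc1⟩ := exists_glue g (injSC F).X₃ ((injSC F).g.hom.app (op U) s) 0
    (by rw [hq, map_zero])
  have hepi := epi_sections F hFl (WW g)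
  rw [AddCommGrpCat.epi_iff_surjective] at hepi
  obtain ⟨st, hst⟩ := hepi c
  have hst' : (injSC F).g.hom.app (op (WW g)) st = c := hst
  have h1 : (injSC F).g.hom.app (op U) ((injSC F).X₂.obj.map (κ₀ g).op st) =
      (injSC F).g.hom.app (op U) s := by
    rw [NatTrans.naturality_apply (injSC F).g.hom (κ₀ g).op st, hst', hc0]
  have h2 : (injSC F).g.hom.app (op U) ((injSC F).X₂.obj.map (κ₁ g).op st) = 0 := by
    rw [NatTrans.naturality_apply (injSC F).g.hom (κ₁ g).op st, hst', hc1]
  have h12 : (injSC F).X₂.obj.map g.op ((injSC F).X₂.obj.map (κ₀ g).op st) =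
      (injSC F).X₂.obj.map g.op ((injSC F).X₂.obj.map (κ₁ g).op st) := by
    rw [← Groth.Agent.S0728.map_comp_apply, ← Groth.Agent.S0728.map_comp_apply, g_κ]
  obtain ⟨r, hr⟩ := EtCechFlasque.sections_exact hS U
    (s - (injSC F).X₂.obj.map (κ₀ g).op st + (injSC F).X₂.obj.map (κ₁ g).op st) (by
      rw [map_add, map_sub]
      change (injSC F).g.hom.app (op U) s - (injSC F).g.hom.app (op U) _ +
        (injSC F).g.hom.app (op U) _ = 0
      rw [h1, h2, sub_self, add_zero])
  refine ⟨r, ?_⟩
  have hr' : (injSC F).f.hom.app (op U) r =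
      s - (injSC F).X₂.obj.map (κ₀ g).op st + (injSC F).X₂.obj.map (κ₁ g).op st := hr
  have hmono : Mono ((Γ V).map (injSC F).f) := by
    have := hS.mono_f
    infer_instance
  rw [AddCommGrpCat.mono_iff_injective] at hmono
  apply hmono
  change (injSC F).f.hom.app (op V) ((injSC F).X₁.obj.map g.op r) = (injSC F).f.hom.app (op V) t
  rw [NatTrans.naturality_apply (injSC F).f.hom g.op r, hr', map_add, map_sub, hs, h12]
  abel

end Groth.Agent.S14452
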