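import Groth.Statements.S14456
import Mathlib
import Groth.Agent.Lib.Helper8.LocalCriterion3

set_option autoImplicit false
universe u
open CAlg

namespace Groth.Agent.S14456

open TensorProduct in
theorem aux14456 {A B : Type u} [CommRing A] [CommRing B]
    [IsNoetherianRing A] [IsNoetherianRing B] [Algebra A B]
    (M : Type u) [AddCommGroup M] [Module B M] [Module A M]
    [IsScalarTower A B M] [Module.Finite B M] (J : Ideal B) (hJ : J ≤ Ideal.jacobson ⊥)
    (hflat : ∀ n : ℕ, Module.Flat A (M ⧸ (J ^ (n + 1) • (⊤ : Submodule B M)))) :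
    Module.Flat A M := by
  rw [Module.Flat.iff_lTensor_injective']
  intro I
  rw [injective_iff_map_eq_zero]
  intro x hx
  have hfin : Module.Finite B (M ⊗[A] I) := Groth.Agent.Lib.Helper8.finite_tensor M I
  have hkrull := Ideal.iInf_pow_smul_eq_bot_of_le_jacobson (M := M ⊗[A] I) J hJ
  have key : ∀ n : ℕ, x ∈ J ^ (n + 1) • (⊤ : Submodule B (M ⊗[A] I)) := by
    intro n
    have hfl := hflat n
    have hexact : Function.Exact ((J ^ (n + 1) • (⊤ : Submodule B M)).restrictScalars A).subtype
        (((J ^ (n + 1) • (⊤ : Submodule B M)).mkQ).restrictScalars A) := by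
      intro y
      constructor
      · intro hy
        have : y ∈ (J ^ (n + 1) • (⊤ : Submodule B M)) := by
          rw [← Submodule.Quotient.mk_eq_zero]
          exact hy
        exact ⟨⟨y, this⟩, rfl⟩
      · rintro ⟨z, rfl⟩
        exact (Submodule.Quotient.mk_eq_zero _).2 z.2
    have hsurj : Function.Surjective
        (((J ^ (n + 1) • (⊤ : Submodule B M)).mkQ).restrictScalars A) :=
      Submodule.mkQ_surjective _
    have hex2 := rTensor_exact I hexact hsurj
    have h1 : LinearMap.lTensor (M ⧸ (J ^ (n + 1) • (⊤ : Submodule B M))) I.subtype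
        (LinearMap.rTensor I (((J ^ (n + 1) • (⊤ : Submodule B M)).mkQ).restrictScalars A) x) =
        LinearMap.rTensor A (((J ^ (n + 1) • (⊤ : Submodule B M)).mkQ).restrictScalars A)
          (LinearMap.lTensor M I.subtype x) := by
      rw [← LinearMap.comp_apply, ← LinearMap.comp_apply, LinearMap.lTensor_comp_rTensor,
        LinearMap.rTensor_comp_lTensor]
    rw [hx, map_zero] at h1
    have h2 : LinearMap.rTensor I (((J ^ (n + 1) • (⊤ : Submodule B M)).mkQ).restrictScalars A) x
        = 0 := by
      apply Module.Flat.lTensor_preserves_injective_linearMap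
        (M := (M ⧸ (J ^ (n + 1) • (⊤ : Submodule B M)))) I.subtype Subtype.val_injective
      rw [h1, map_zero]
    have claim : ∀ y : (↥((J ^ (n + 1) • (⊤ : Submodule B M)).restrictScalars A)) ⊗[A] I,
        LinearMap.rTensor I ((J ^ (n + 1) • (⊤ : Submodule B M)).restrictScalars A).subtype y ∈
          J ^ (n + 1) • (⊤ : Submodule B (M ⊗[A] I)) := by
      intro y
      induction y using TensorProduct.induction_on with
      | zero => rw [map_zero]; exact zero_mem _
      | tmul p a =>
        rw [LinearMap.rTensor_tmul]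
        have hp : (p : M) ∈ J ^ (n + 1) • (⊤ : Submodule B M) := p.2
        change ((p : M) ⊗ₜ[A] a) ∈ J ^ (n + 1) • (⊤ : Submodule B (M ⊗[A] I))
        refine Submodule.smul_induction_on (p := fun m => (m ⊗ₜ[A] a) ∈
          J ^ (n + 1) • (⊤ : Submodule B (M ⊗[A] I))) hp ?_ ?_
        · intro j hj m _
          rw [← TensorProduct.smul_tmul']
          exact Submodule.smul_mem_smul hj Submodule.mem_top
        · intro m1 m2 hm1 hm2
          rw [TensorProduct.add_tmul]
          exact add_mem hm1 hm2
      | add y1 y2 ih1 ih2 =>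
        rw [map_add]
        exact add_mem ih1 ih2
    obtain ⟨y, rfl⟩ := (hex2 x).1 h2
    exact claim y
  have hmem : x ∈ ⨅ i : ℕ, J ^ i • (⊤ : Submodule B (M ⊗[A] I)) := by
    rw [Submodule.mem_iInf]
    intro n
    exact Submodule.smul_mono_left (Ideal.pow_le_pow_right (Nat.le_succ n)) (key n)
  rw [hkrull, Submodule.mem_bot] at hmem
  exact hmem

/-- Take a local homomorphism A → B between Noetherian local rings, M a finitely generated B-module and
f an element of the maximal ideal of B. If M/f^(n+1)M is flat over A for every n ≥ 0, then M is flat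
over A. -/
theorem result {A B : Type u} [CommRing A] [CommRing B]
    [IsNoetherianRing A] [IsNoetherianRing B] [IsLocalRing A] [IsLocalRing B] [Algebra A B]
    [IsLocalHom (algebraMap A B)] (M : Type u) [AddCommGroup M] [Module B M] [Module A M]
    [IsScalarTower A B M] [Module.Finite B M] (f : B) (hf : f ∈ IsLocalRing.maximalIdeal B)
    (hflat : ∀ n : ℕ, Module.Flat A (M ⧸ (Ideal.span {f ^ (n + 1)} • (⊤ : Submodule B M)))) :
    Module.Flat A M := by
  refine aux14456 M (Ideal.span {f}) ?_ ?_
  · rw [IsLocalRing.jacobson_eq_maximalIdeal ⊥ bot_ne_top]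
    exact (Ideal.span_singleton_le_iff_mem _).2 hf
  · intro n
    rw [Ideal.span_singleton_pow]
    exact hflat n

end Groth.Agent.S14456
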