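import Mathlib
import Groth.Statements.S14457

set_option autoImplicit false
universe u
open Polynomial

namespace Groth.Agent.S14457

section

variable (A : Type u) [CommRing A] (a : A) (n : ℕ)

theorem etale_of_isUnit (hn : 1 ≤ n) (h : IsUnit ((n : A) * a)) :
    Algebra.Etale A (AdjoinRoot ((X : A[X]) ^ n - C a)) := by
  obtain ⟨c, hc⟩ := h.exists_right_inv
  have hmonic : ((X : A[X]) ^ n - C a).Monic := monic_X_pow_sub_C a (by omega)
  have hcond : derivative ((X : A[X]) ^ n - C a) * (C c * X) +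
      ((X : A[X]) ^ n - C a) * (-C (c * (n : A))) = (1 : A[X]) ^ 1 := by
    have hXn : (X : A[X]) ^ (n - 1) * X = X ^ n := by
      rw [← pow_succ, Nat.sub_add_cancel hn]
    have h1 : derivative ((X : A[X]) ^ n - C a) = C (n : A) * X ^ (n - 1) := by
      rw [derivative_sub, derivative_C, sub_zero, derivative_X_pow]
    rw [h1]
    have h2 : C (n : A) * X ^ (n - 1) * (C c * X) = C (c * (n : A)) * (X : A[X]) ^ n := by
      rw [← hXn, C_mul]
      ring
    rw [h2, one_pow]
    have h3 : C (c * (n : A)) * (X : A[X]) ^ n + ((X : A[X]) ^ n - C a) * (-C (c * (n : A))) =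
        C (c * (n : A) * a) := by
      rw [C_mul (a := c * (n : A)) (b := a)]
      ring
    rw [h3]
    have h4 : c * (n : A) * a = 1 := by
      rw [mul_assoc, mul_comm]
      exact hc
    rw [h4, C_1]
  let P : StandardEtalePair A := ⟨(X : A[X]) ^ n - C a, hmonic, 1, ⟨C c * X, -C (c * (n : A)), 1, hcond⟩⟩
  let e1 : P.Ring ≃ₐ[A] Localization.Away (AdjoinRoot.mk P.f P.g) := P.equivAwayAdjoinRoot
  have hle : Submonoid.powers (AdjoinRoot.mk P.f P.g) ≤ IsUnit.submonoid (AdjoinRoot P.f) := by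
    rintro x ⟨k, rfl⟩
    show IsUnit _
    simp [P]
  let e2 : AdjoinRoot P.f ≃ₐ[AdjoinRoot P.f] Localization.Away (AdjoinRoot.mk P.f P.g) :=
    IsLocalization.atUnits (AdjoinRoot P.f) (Submonoid.powers (AdjoinRoot.mk P.f P.g)) hle
  let e3 : AdjoinRoot P.f ≃ₐ[A] Localization.Away (AdjoinRoot.mk P.f P.g) := e2.restrictScalars A
  exact Algebra.Etale.of_equiv (e1.trans e3.symm)

theorem isUnit_of_etale (hn : 2 ≤ n) [Algebra.Etale A (AdjoinRoot ((X : A[X]) ^ n - C a))] :
    IsUnit ((n : A) * a) := by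
  have hmonic : ((X : A[X]) ^ n - C a).Monic := monic_X_pow_sub_C a (by omega)
  set f : A[X] := (X : A[X]) ^ n - C a with hf
  let t : AdjoinRoot f := AdjoinRoot.root f
  have ht : t ^ n = algebraMap A (AdjoinRoot f) a := by
    have h0 : aeval t f = 0 := by
      rw [AdjoinRoot.aeval_eq, AdjoinRoot.mk_self]
    change aeval t ((X : A[X]) ^ n - C a) = 0 at h0
    simpa [sub_eq_zero] using h0
  -- step 1 : n * t^(n-1) is a unit
  have hunit : IsUnit ((n : AdjoinRoot f) * t ^ (n - 1)) := by
    let J : Ideal (AdjoinRoot f) := Ideal.span {(n : AdjoinRoot f) * t ^ (n - 1)}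
    let Q := AdjoinRoot f ⧸ J
    let q : Q := Ideal.Quotient.mk J t
    have hq : q ^ n = algebraMap A Q a := by
      show (Ideal.Quotient.mk J t) ^ n = _
      rw [← map_pow, ht]
      rfl
    have hq' : (n : Q) * q ^ (n - 1) = 0 := by
      have : Ideal.Quotient.mk J ((n : AdjoinRoot f) * t ^ (n - 1)) = 0 :=
        Ideal.Quotient.eq_zero_iff_mem.mpr (Ideal.subset_span rfl)
      simpa using this
    let g₁ : AdjoinRoot f →ₐ[A] DualNumber Q :=
      (TrivSqZeroExt.inlAlgHom A Q Q).comp (Ideal.Quotient.mkₐ A J)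
    have hx : f.eval₂ (Algebra.ofId A (DualNumber Q) : A →+* DualNumber Q)
        (TrivSqZeroExt.inl q + DualNumber.eps) = 0 := by
      show ((X : A[X]) ^ n - C a).eval₂ (Algebra.ofId A (DualNumber Q) : A →+* DualNumber Q)
        (TrivSqZeroExt.inl q + DualNumber.eps) = 0
      simp only [eval₂_sub, eval₂_pow, eval₂_X, eval₂_C]
      apply TrivSqZeroExt.ext
      · simp only [TrivSqZeroExt.fst_sub, TrivSqZeroExt.fst_pow, TrivSqZeroExt.fst_add,
          TrivSqZeroExt.fst_inl, DualNumber.fst_eps, add_zero, TrivSqZeroExt.fst_zero]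
        rw [hq]
        simp [Algebra.ofId_apply, TrivSqZeroExt.algebraMap_eq_inl']
      · simp only [TrivSqZeroExt.snd_sub, TrivSqZeroExt.snd_pow, TrivSqZeroExt.fst_add,
          TrivSqZeroExt.fst_inl, DualNumber.fst_eps, add_zero, TrivSqZeroExt.snd_add,
          TrivSqZeroExt.snd_inl, DualNumber.snd_eps, zero_add, TrivSqZeroExt.snd_zero]
        have : (Algebra.ofId A (DualNumber Q) a).snd = 0 := by
          simp [Algebra.ofId_apply, TrivSqZeroExt.algebraMap_eq_inl']
        rw [RingHom.coe_coe, this, sub_zero, Nat.pred_eq_sub_one, smul_eq_mul, mul_one,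
          nsmul_eq_mul, hq']
    let g₂ : AdjoinRoot f →ₐ[A] DualNumber Q :=
      AdjoinRoot.liftAlgHom f (Algebra.ofId A (DualNumber Q)) (TrivSqZeroExt.inl q + DualNumber.eps) hx
    have hnil : IsNilpotent (RingHom.ker ((TrivSqZeroExt.fstHom Q Q Q : DualNumber Q →ₐ[Q] Q) :
        DualNumber Q →+* Q)) := ⟨2, TrivSqZeroExt.kerIdeal_sq Q Q⟩
    have hfst : ∀ x, ((TrivSqZeroExt.fstHom Q Q Q : DualNumber Q →ₐ[Q] Q) : DualNumber Q →+* Q) (g₁ x) =
        ((TrivSqZeroExt.fstHom Q Q Q : DualNumber Q →ₐ[Q] Q) : DualNumber Q →+* Q) (g₂ x) := by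
      intro x
      have hcomp : ((TrivSqZeroExt.fstHom A Q Q).comp g₁) = ((TrivSqZeroExt.fstHom A Q Q).comp g₂) := by
        apply AdjoinRoot.algHom_ext
        simp [g₁, g₂, q]
        rfl
      exact congrArg (fun φ : AdjoinRoot f →ₐ[A] Q => φ x) hcomp
    have heq := Algebra.FormallyUnramified.ext' (R := A) _ hnil g₁ g₂ hfst
    have h1 := congrArg (fun φ : AdjoinRoot f →ₐ[A] DualNumber Q => (φ t).snd) heq
    simp only [g₁, g₂, t, AdjoinRoot.liftAlgHom_root] at h1
    simp at h1
    -- h1 : (0 : Q) = 1 or similar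
    have h01 : (1 : Q) = 0 := by
      simpa using h1.symm
    have hJ : J = ⊤ := by
      rw [Ideal.eq_top_iff_one]
      exact Ideal.Quotient.eq_zero_iff_mem.mp h01
    exact Ideal.span_singleton_eq_top.mp hJ
  -- step 2 : n and t are units, hence n * a
  have hn' : IsUnit (n : AdjoinRoot f) := (IsUnit.mul_iff.mp hunit).1
  have htp : IsUnit (t ^ (n - 1)) := (IsUnit.mul_iff.mp hunit).2
  have htu : IsUnit t := (isUnit_pow_iff (by omega)).mp htp
  have hau : IsUnit (algebraMap A (AdjoinRoot f) ((n : A) * a)) := by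
    rw [map_mul, map_natCast, ← ht]
    exact hn'.mul (htu.pow n)
  -- step 3 : descend along the norm
  rcases subsingleton_or_nontrivial A with hsub | hnt
  · exact isUnit_of_subsingleton _
  have hnorm := Algebra.norm_algebraMap_of_basis (AdjoinRoot.powerBasis' hmonic).basis ((n : A) * a)
  have h2 : IsUnit (Algebra.norm A (algebraMap A (AdjoinRoot f) ((n : A) * a))) :=
    hau.map (Algebra.norm A)
  rw [hnorm] at h2
  refine (isUnit_pow_iff ?_).mp h2
  rw [Fintype.card_fin]
  show f.natDegree ≠ 0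
  rw [hf, natDegree_X_pow_sub_C]
  omega

end

/-- Let A be a commutative ring, a an element of A and n ≥ 1 an integer. The A-algebra A[T]/(T^n − a) is
etale exactly when either n = 1 or the product n·a is a unit of A. (The exponent n is a positive
integer here; for n = 0 the quotient is (A/(1 − a))[T] and the equivalence fails.) -/
theorem result (A : Type u) [CommRing A] (a : A) (n : ℕ) (hn : 1 ≤ n) :
    Algebra.Etale A (AdjoinRoot ((X : A[X]) ^ n - C a)) ↔ n = 1 ∨ IsUnit ((n : A) * a) := by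
  constructor
  · intro h
    by_cases h1 : n = 1
    · exact Or.inl h1
    · exact Or.inr (isUnit_of_etale A a n (by omega))
  · rintro (h1 | h)
    · subst h1
      rw [pow_one]
      exact Algebra.Etale.of_equiv (Polynomial.quotientSpanXSubCAlgEquiv a).symm
    · exact etale_of_isUnit A a n hn h

end Groth.Agent.S14457
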