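import Groth.Statements.S14463
import Mathlib

set_option autoImplicit false
universe u
open CategoryTheory CategoryTheory.Limits AlgebraicGeometry
open BigSite

namespace Groth.Agent.S14463


section gen
universe w' v' u'
variable {D : Type u'} [Category.{v'} D]

set_option backward.isDefEq.respectTransparency.types false in
set_option backward.defeqAttrib.useBackward true in
/-- universe-generalised copy of `FinitaryPreExtensive.isIso_sigmaDesc_fst` -/
lemma isIso_sigmaDesc_fst' [FinitaryPreExtensive D] {α : Type w'} [Finite α]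
    {X : D} {Z : α → D} (π : (a : α) → Z a ⟶ X) {Y : D} (f : Y ⟶ X) (hπ : IsIso (Sigma.desc π)) :
    IsIso (Sigma.desc ((fun _ ↦ pullback.fst _ _) : (a : α) → pullback f (π a) ⟶ _)) := by
  let c := (Cofan.mk _ ((fun _ ↦ pullback.fst _ _) : (a : α) → pullback f (π a) ⟶ _))
  apply c.nonempty_isColimit_iff_isIso_sigmaDesc.mp
  have hau : IsUniversalColimit (Cofan.mk X π) := FinitaryPreExtensive.isUniversal_finiteCoproducts
    ((Cofan.nonempty_isColimit_iff_isIso_sigmaDesc _).mpr hπ).some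
  refine hau.nonempty_isColimit_of_pullbackCone_left _ (𝟙 _) _ _ (fun i ↦ ?_)
    (PullbackCone.mk (𝟙 _) f (by simp)) (IsPullback.id_horiz f).isLimit _ (Iso.refl _)
    (by simp) (by simp [c]) (by simp [pullback.condition, c])
  exact pullback.isLimit _ _

lemma chain {A B D' E F G H : D} (p1 : A ⟶ B) (p2 : A ⟶ D') (q1 : B ⟶ E) (q2 : B ⟶ F)
    (ιj : D' ⟶ E) (σ : E ⟶ G) (w : F ⟶ G) (ψj : D' ⟶ G) (Uι : G ⟶ H) (Wg : F ⟶ H) (φl : D' ⟶ H)
    (c1 : p1 ≫ q1 = p2 ≫ ιj) (c2 : q1 ≫ σ = q2 ≫ w) (c3 : ιj ≫ σ = ψj) (hw : w ≫ Uι = Wg)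
    (hψ : ψj ≫ Uι = φl) : (p1 ≫ q2) ≫ Wg = p2 ≫ φl := by
  subst hw hψ c3
  simp only [Category.assoc]
  rw [← reassoc_of% c2, reassoc_of% c1]

end gen

section helpers

variable {S : Scheme.{u}} (C : MorphismProperty Scheme.{u})

/-- finite `C`-covering data over an affine open -/
def Fin1 (X : Over S) (R : Sieve X) (U : X.left.Opens) : Prop :=
  ∃ (κ : Type u) (_ : Finite κ) (V : κ → Over S) (φ : ∀ j, V j ⟶ X)
    (ψ : ∀ j, (V j).left ⟶ (U : Scheme.{u})),
    (∀ j, IsAffine (V j).left) ∧ (∀ j, R.arrows (φ j)) ∧ (∀ j, ψ j ≫ U.ι = (φ j).left) ∧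
      C (Limits.Sigma.desc ψ)

def Cov (X : Over S) (R : Sieve X) : Prop :=
  ∃ (ι : Type u) (U : ι → X.left.Opens), (∀ i, IsAffineOpen (U i)) ∧ ⨆ i, U i = ⊤ ∧
    ∀ i, Fin1 C X R (U i)

lemma sigma_comp [C.IsStableUnderComposition] [C.RespectsIso]
    (hcoprod : ∀ (κ : Type u) [Finite κ] (A B : κ → Scheme.{u}) (f : ∀ j, A j ⟶ B j),
      (∀ j, C (f j)) → C (Limits.Sigma.map f))
    {T : Scheme.{u}} {κ : Type u} [Finite κ] (A : κ → Scheme.{u}) (a : ∀ j, A j ⟶ T)
    (ha : C (Limits.Sigma.desc a))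
    (lam : κ → Type u) [∀ j, Finite (lam j)] (B : ∀ j, lam j → Scheme.{u})
    (b : ∀ j l, B j l ⟶ A j) (hb : ∀ j, C (Limits.Sigma.desc (b j))) :
    C (Limits.Sigma.desc (fun p : Σ j, lam j => b p.1 p.2 ≫ a p.1)) := by
  obtain ⟨e, he⟩ : ∃ e : (∐ fun p : Σ j, lam j => B p.1 p.2) ⟶ ∐ fun j => ∐ B j,
      e = Limits.Sigma.desc fun p : Σ j, lam j => Limits.Sigma.ι (B p.1) p.2 ≫
        Limits.Sigma.ι (fun j => ∐ B j) p.1 := ⟨_, rfl⟩
  obtain ⟨einv, heinv⟩ : ∃ einv : (∐ fun j => ∐ B j) ⟶ ∐ fun p : Σ j, lam j => B p.1 p.2,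
      einv = Limits.Sigma.desc fun j => Limits.Sigma.desc fun l =>
        Limits.Sigma.ι (fun p : Σ j, lam j => B p.1 p.2) ⟨j, l⟩ := ⟨_, rfl⟩
  have h1 : e ≫ einv = 𝟙 _ := by
    apply Limits.Sigma.hom_ext
    rintro ⟨j, l⟩
    simp [he, heinv]
  have h2 : einv ≫ e = 𝟙 _ := by
    apply Limits.Sigma.hom_ext
    intro j
    apply Limits.Sigma.hom_ext
    intro l
    simp [he, heinv]
  haveI : IsIso e := ⟨einv, h1, h2⟩
  have hfac : Limits.Sigma.desc (fun p : Σ j, lam j => b p.1 p.2 ≫ a p.1) =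
      e ≫ Limits.Sigma.map (fun j => Limits.Sigma.desc (b j)) ≫ Limits.Sigma.desc a := by
    apply Limits.Sigma.hom_ext
    rintro ⟨j, l⟩
    simp [he]
  rw [hfac, C.cancel_left_of_respectsIso]
  exact C.comp_mem _ _ (hcoprod κ _ _ _ hb) ha

lemma fin1_pullback [C.IsStableUnderBaseChange] {X Y : Over S} (g : Y ⟶ X) (R : Sieve X)
    (U : X.left.Opens) (hU : IsAffineOpen U) (h : Fin1 C X R U)
    (W : Y.left.Opens) (hW : IsAffineOpen W) (hWU : W ≤ g.left ⁻¹ᵁ U) :
    Fin1 C Y (R.pullback g) W := by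
  obtain ⟨κ, hκ, V, φ, ψ, hVaff, hφ, hψ, hCψ⟩ := h
  haveI : IsAffine (U : Scheme.{u}) := hU
  haveI : IsAffine (W : Scheme.{u}) := hW
  haveI := hVaff
  obtain ⟨w, hw⟩ : ∃ w : (W : Scheme.{u}) ⟶ (U : Scheme.{u}), w ≫ U.ι = W.ι ≫ g.left :=
    ⟨g.left.resLE U W hWU, Scheme.Hom.resLE_comp_ι _ _⟩
  obtain ⟨Pj, a, p2, hPaff, key, hCa⟩ : ∃ (Pj : κ → Scheme.{u}) (a : ∀ j, Pj j ⟶ (W : Scheme.{u}))
      (p2 : ∀ j, Pj j ⟶ (V j).left), (∀ j, IsAffine (Pj j)) ∧
      (∀ j, a j ≫ (W.ι ≫ g.left) = p2 j ≫ (φ j).left) ∧ C (Limits.Sigma.desc a) := by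
    have hιiso : IsIso (Limits.Sigma.desc (fun j => Limits.Sigma.ι (fun j => (V j).left) j)) := by
      have : Limits.Sigma.desc (fun j => Limits.Sigma.ι (fun j => (V j).left) j) = 𝟙 _ := by
        apply Limits.Sigma.hom_ext
        intro j
        simp
      rw [this]
      exact IsIso.id _
    haveI hiso := isIso_sigmaDesc_fst' (fun j => Limits.Sigma.ι (fun j => (V j).left) j)
      (pullback.fst (Limits.Sigma.desc ψ) w) hιiso
    refine ⟨fun j => pullback (pullback.fst (Limits.Sigma.desc ψ) w)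
        (Limits.Sigma.ι (fun j => (V j).left) j),
      fun j => pullback.fst (pullback.fst (Limits.Sigma.desc ψ) w)
        (Limits.Sigma.ι (fun j => (V j).left) j) ≫ pullback.snd (Limits.Sigma.desc ψ) w,
      fun j => pullback.snd (pullback.fst (Limits.Sigma.desc ψ) w)
        (Limits.Sigma.ι (fun j => (V j).left) j),
      fun j => inferInstance,
      fun j => chain _ _ _ _ _ _ _ _ _ _ _ pullback.condition pullback.condition
        (Limits.Sigma.ι_desc ψ j) hw (hψ j), ?_⟩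
    have hfac : Limits.Sigma.desc (fun j => pullback.fst (pullback.fst (Limits.Sigma.desc ψ) w)
        (Limits.Sigma.ι (fun j => (V j).left) j) ≫ pullback.snd (Limits.Sigma.desc ψ) w) =
        Limits.Sigma.desc (fun j => pullback.fst (pullback.fst (Limits.Sigma.desc ψ) w)
        (Limits.Sigma.ι (fun j => (V j).left) j)) ≫ pullback.snd (Limits.Sigma.desc ψ) w := by
      apply Limits.Sigma.hom_ext
      intro j
      simp
    rw [hfac, C.cancel_left_of_respectsIso]
    exact C.pullback_snd _ _ hCψ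
  have hw2 : ∀ j, p2 j ≫ (V j).hom = (a j ≫ W.ι) ≫ Y.hom := by
    intro j
    rw [← Over.w (φ j), ← Category.assoc, ← key j, ← Over.w g]
    simp only [Category.assoc]
  refine ⟨κ, hκ, fun j => Over.mk ((a j ≫ W.ι) ≫ Y.hom), fun j => Over.homMk (a j ≫ W.ι) rfl, a,
    hPaff, ?_, fun j => rfl, hCa⟩
  intro j
  have h3 : (Over.homMk (a j ≫ W.ι) rfl : Over.mk ((a j ≫ W.ι) ≫ Y.hom) ⟶ Y) ≫ g =
      (Over.homMk (p2 j) (hw2 j) : Over.mk ((a j ≫ W.ι) ≫ Y.hom) ⟶ V j) ≫ φ j := by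
    ext
    show (a j ≫ W.ι) ≫ g.left = p2 j ≫ (φ j).left
    rw [Category.assoc]
    exact key j
  have h4 : R.arrows ((Over.homMk (a j ≫ W.ι) rfl : Over.mk ((a j ≫ W.ι) ≫ Y.hom) ⟶ Y) ≫ g) := by
    rw [h3]
    exact R.downward_closed (hφ j) _
  exact h4

lemma cov_affine [C.IsStableUnderComposition] [C.RespectsIso]
    (hcoprod : ∀ (κ : Type u) [Finite κ] (A B : κ → Scheme.{u}) (f : ∀ j, A j ⟶ B j),
      (∀ j, C (f j)) → C (Limits.Sigma.map f))
    (haff : ∀ (U : Scheme.{u}) [IsAffine U] (κ : Type u) [Finite κ] (V : κ → U.Opens),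
      (∀ j, IsAffineOpen (V j)) → ⨆ j, V j = ⊤ → C (Limits.Sigma.desc fun j => (V j).ι))
    (V : Over S) [IsAffine V.left] (R : Sieve V) (h : Cov C V R) :
    ∃ (lam : Type u) (_ : Finite lam) (V' : lam → Over S) (φ' : ∀ l, V' l ⟶ V),
      (∀ l, IsAffine (V' l).left) ∧ (∀ l, R.arrows (φ' l)) ∧
        C (Limits.Sigma.desc fun l => (φ' l).left) := by
  obtain ⟨ι, U, hUaff, hUcov, hdata⟩ := h
  obtain ⟨K, hK⟩ : ∃ K : Finset ι, ⨆ k : ↥K, U k.1 = ⊤ := by
    have hc : IsCompact (Set.univ : Set V.left) := isCompact_univ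
    obtain ⟨K, hK⟩ := hc.elim_finite_subcover (fun i => (U i : Set V.left))
      (fun i => (U i).isOpen) (by
        intro x _
        have hx : x ∈ (⨆ i, U i) := by
          rw [hUcov]
          trivial
        obtain ⟨i, hi⟩ := TopologicalSpace.Opens.mem_iSup.mp hx
        exact Set.mem_iUnion.mpr ⟨i, hi⟩)
    refine ⟨K, ?_⟩
    rw [eq_top_iff]
    intro x _
    obtain ⟨i, hiK, hx⟩ := Set.mem_iUnion₂.mp (hK (Set.mem_univ x))
    exact TopologicalSpace.Opens.mem_iSup.mpr ⟨⟨i, hiK⟩, hx⟩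
  choose κ' hκ' V' φ' ψ' h1 h2 h3 h4 using hdata
  haveI : ∀ k : ↥K, Finite (κ' k.1) := fun k => hκ' k.1
  refine ⟨Σ k : ↥K, κ' k.1, inferInstance, fun p => V' p.1.1 p.2, fun p => φ' p.1.1 p.2,
    fun p => h1 p.1.1 p.2, fun p => h2 p.1.1 p.2, ?_⟩
  have he : (fun p : Σ k : ↥K, κ' k.1 => (φ' p.1.1 p.2).left) =
      fun p : Σ k : ↥K, κ' k.1 => ψ' p.1.1 p.2 ≫ (U p.1.1).ι :=
    funext fun p => (h3 p.1.1 p.2).symm
  rw [he]
  exact sigma_comp C hcoprod (fun k : ↥K => ((U k.1 : V.left.Opens) : Scheme.{u}))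
    (fun k => (U k.1).ι)
    (haff V.left ↥K (fun k => U k.1) (fun k => hUaff k.1) hK)
    (fun k => κ' k.1) (fun k l => (V' k.1 l).left) (fun k l => ψ' k.1 l) (fun k => h4 k.1)

lemma fin1_trans [C.IsStableUnderComposition] [C.RespectsIso]
    (hcoprod : ∀ (κ : Type u) [Finite κ] (A B : κ → Scheme.{u}) (f : ∀ j, A j ⟶ B j),
      (∀ j, C (f j)) → C (Limits.Sigma.map f))
    (haff : ∀ (U : Scheme.{u}) [IsAffine U] (κ : Type u) [Finite κ] (V : κ → U.Opens),
      (∀ j, IsAffineOpen (V j)) → ⨆ j, V j = ⊤ → C (Limits.Sigma.desc fun j => (V j).ι))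
    {X : Over S} (R R' : Sieve X) (U : X.left.Opens) (h : Fin1 C X R U)
    (hR' : ∀ ⦃Y : Over S⦄ ⦃f : Y ⟶ X⦄, R.arrows f → Cov C Y (R'.pullback f)) :
    Fin1 C X R' U := by
  obtain ⟨κ, hκ, V, φ, ψ, hVaff, hφ, hψ, hCψ⟩ := h
  haveI := hVaff
  have hj : ∀ j, ∃ (lam : Type u) (_ : Finite lam) (V' : lam → Over S) (φ' : ∀ l, V' l ⟶ V j),
      (∀ l, IsAffine (V' l).left) ∧ (∀ l, (R'.pullback (φ j)).arrows (φ' l)) ∧
        C (Limits.Sigma.desc fun l => (φ' l).left) :=
    fun j => cov_affine C hcoprod haff (V j) _ (hR' (hφ j))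
  choose lam hlam V' φ' g1 g2 g3 using hj
  haveI : ∀ j, Finite (lam j) := hlam
  refine ⟨Σ j, lam j, inferInstance, fun p => V' p.1 p.2, fun p => φ' p.1 p.2 ≫ φ p.1,
    fun p => (φ' p.1 p.2).left ≫ ψ p.1, fun p => g1 p.1 p.2, fun p => g2 p.1 p.2, ?_, ?_⟩
  · intro p
    rw [Category.assoc, hψ, Over.comp_left]
  · exact sigma_comp C hcoprod (fun j => (V j).left) ψ hCψ lam (fun j l => (V' j l).left)
      (fun j l => (φ' j l).left) g3

end helpers

/-- Fix a scheme S and a class C of quasi-compact morphisms of schemes which is stable under composition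
and base change, closed under finite coproducts, and contains ∐_j V_j → U for every finite affine
open cover (V_j) of an affine scheme U. Declare a sieve R on an S-scheme X to be covering when X has
an affine open cover (U_i) such that for every i there are finitely many affine S-schemes V_j and
S-morphisms V_j → X in R factoring through U_i with the induced morphism ∐_j V_j → U_i in C. Then
there is a Grothendieck topology on S-schemes whose covering sieves are exactly these. (The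
published statement also allows a local property of S-schemes preserved by the class and works on
the S-schemes having it, takes a class of morphisms of S-schemes, and says that covering may
equivalently be tested with arbitrary rather than affine opens and schemes; this row takes no such
property and a class of morphisms of schemes, and defines covering sieves through affine opens and
affine schemes only.) -/
theorem result (S : Scheme.{u})
    (C : MorphismProperty Scheme.{u}) [C.IsStableUnderComposition] [C.IsStableUnderBaseChange]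
    (hqc : ∀ {A B : Scheme.{u}} (f : A ⟶ B), C f → QuasiCompact f)
    (hcoprod : ∀ (κ : Type u) [Finite κ] (A B : κ → Scheme.{u}) (f : ∀ j, A j ⟶ B j),
      (∀ j, C (f j)) → C (Limits.Sigma.map f))
    (haff : ∀ (U : Scheme.{u}) [IsAffine U] (κ : Type u) [Finite κ] (V : κ → U.Opens),
      (∀ j, IsAffineOpen (V j)) → ⨆ j, V j = ⊤ → C (Limits.Sigma.desc fun j => (V j).ι)) :
    ∃ J : GrothendieckTopology (Over S), ∀ (X : Over S) (R : Sieve X), R ∈ J X ↔
      ∃ (ι : Type u) (U : ι → X.left.Opens), (∀ i, IsAffineOpen (U i)) ∧ ⨆ i, U i = ⊤ ∧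
        ∀ i, ∃ (κ : Type u) (_ : Finite κ) (V : κ → Over S) (φ : ∀ j, V j ⟶ X)
          (ψ : ∀ j, (V j).left ⟶ (U i : Scheme.{u})),
          (∀ j, IsAffine (V j).left) ∧ (∀ j, R.arrows (φ j)) ∧ (∀ j, ψ j ≫ (U i).ι = (φ j).left) ∧
            C (Limits.Sigma.desc ψ) := by
  classical
  haveI : C.RespectsIso := inferInstance
  refine ⟨{ sieves := fun X => {R | Cov C X R}, top_mem' := ?_, pullback_stable' := ?_,
            transitive' := ?_ }, fun X R => Iff.rfl⟩
  · intro X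
    refine ⟨X.left.affineOpens, fun U => U.1, fun U => U.2, iSup_affineOpens_eq_top X.left, ?_⟩
    rintro ⟨U, hU⟩
    haveI : IsAffine (U : Scheme.{u}) := hU
    exact ⟨PUnit.{u+1}, inferInstance,
      fun _ => Over.mk ((⊤ : (U : Scheme.{u}).Opens).ι ≫ U.ι ≫ X.hom),
      fun _ => Over.homMk ((⊤ : (U : Scheme.{u}).Opens).ι ≫ U.ι) (by simp),
      fun _ => (⊤ : (U : Scheme.{u}).Opens).ι,
      fun _ => isAffineOpen_top _, fun _ => trivial, fun _ => rfl,
      haff U PUnit.{u+1} (fun _ => ⊤) (fun _ => isAffineOpen_top _) (by simp)⟩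
  · intro X Y R g hR
    obtain ⟨ι, U, hUaff, hUcov, hdata⟩ := hR
    refine ⟨{W : Y.left.Opens // IsAffineOpen W ∧ ∃ i, W ≤ g.left ⁻¹ᵁ U i}, fun W => W.1,
      fun W => W.2.1, ?_, ?_⟩
    · rw [eq_top_iff]
      intro y _
      have hy : g.left y ∈ (⨆ i, U i) := by
        rw [hUcov]
        trivial
      obtain ⟨i, hi⟩ := TopologicalSpace.Opens.mem_iSup.mp hy
      obtain ⟨O, hO, hyO, hOle⟩ := exists_isAffineOpen_mem_and_subset (x := y)
        (U := g.left ⁻¹ᵁ U i) hi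
      exact TopologicalSpace.Opens.mem_iSup.mpr ⟨⟨O, hO, i, hOle⟩, hyO⟩
    · rintro ⟨W, hW, i, hWi⟩
      exact fin1_pullback C g R (U i) (hUaff i) (hdata i) W hW hWi
  · intro X R hR R' hR'
    obtain ⟨ι, U, hUaff, hUcov, hdata⟩ := hR
    exact ⟨ι, U, hUaff, hUcov, fun i => fin1_trans C hcoprod haff R R' (U i) (hdata i) hR'⟩

end Groth.Agent.S14463
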