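import Groth.Statements.S14465
import Mathlib

set_option autoImplicit false
universe v u
open CategoryTheory CategoryTheory.Limits AlgebraicGeometry
open BigSite

namespace Groth.Agent.S14465


section helpers

variable {S : Scheme.{u}}

/-- the pullback object in `Over S`, by hand -/
noncomputable def pb {X X' Y : Over S} (f : X' ⟶ X) (g : Y ⟶ X) : Over S :=
  Over.mk (pullback.snd f.left g.left ≫ Y.hom)

noncomputable def pbSnd {X X' Y : Over S} (f : X' ⟶ X) (g : Y ⟶ X) : pb f g ⟶ Y :=
  Over.homMk (pullback.snd f.left g.left) rfl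

lemma pb_w {X X' Y : Over S} (f : X' ⟶ X) (g : Y ⟶ X) :
    pullback.fst f.left g.left ≫ X'.hom = pullback.snd f.left g.left ≫ Y.hom := by
  have h := pullback.condition (f := f.left) (g := g.left)
  rw [← Over.w f, ← Over.w g, ← Category.assoc, h, Category.assoc]

noncomputable def pbFst {X X' Y : Over S} (f : X' ⟶ X) (g : Y ⟶ X) : pb f g ⟶ X' :=
  Over.homMk (pullback.fst f.left g.left) (pb_w f g)

lemma exists_finite_affine_cover (Y : Scheme.{u}) [CompactSpace Y] :
    ∃ t : Finset Y.affineOpens, ⨆ l : ↥t, (l.1.1 : Y.Opens) = ⊤ := by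
  obtain ⟨t, ht⟩ := (isCompact_univ (X := Y)).elim_finite_subcover
    (fun W : Y.affineOpens => (W.1 : Set Y))
    (fun W => W.1.isOpen)
    (by
      intro y _
      have hy : y ∈ (⨆ W : Y.affineOpens, (W : Y.Opens)) := by
        rw [iSup_affineOpens_eq_top]
        trivial
      obtain ⟨W, hW⟩ := TopologicalSpace.Opens.mem_iSup.mp hy
      exact Set.mem_iUnion.mpr ⟨W, hW⟩)
  refine ⟨t, ?_⟩
  rw [eq_top_iff]
  intro y _
  obtain ⟨W, hWt, hy⟩ := Set.mem_iUnion₂.mp (ht (Set.mem_univ y))
  exact TopologicalSpace.Opens.mem_iSup.mpr ⟨⟨W, hWt⟩, hy⟩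

lemma pb_sq {X X' Y : Over S} (f : X' ⟶ X) (g : Y ⟶ X) :
    pbFst f g ≫ f = pbSnd f g ≫ g := by
  ext
  exact pullback.condition

lemma lift_mem {X X' Y Z : Over S} (f : X' ⟶ X) (g : Y ⟶ X) (h : Z ⟶ Y) (a : Z ⟶ X')
    (hab : a ≫ f = h ≫ g) : ∃ l : Z ⟶ pb f g, l ≫ pbSnd f g = h := by
  have hab' : a.left ≫ f.left = h.left ≫ g.left := by
    rw [← Over.comp_left, hab, Over.comp_left]
  have hw : pullback.lift a.left h.left hab' ≫ (pullback.snd f.left g.left ≫ Y.hom) = Z.hom := by
    rw [← Category.assoc, pullback.lift_snd, Over.w]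
  refine ⟨Over.homMk (pullback.lift a.left h.left hab') hw, ?_⟩
  ext
  exact pullback.lift_snd _ _ _

lemma pullback_generate_singleton {X X' Y : Over S} (f : X' ⟶ X) (g : Y ⟶ X) :
    (Sieve.generate (Presieve.singleton f)).pullback g =
      Sieve.generate (Presieve.singleton (pbSnd f g)) := by
  apply le_antisymm
  · rintro Z h ⟨W, a, b, ⟨⟩, hab⟩
    obtain ⟨l, hl⟩ := lift_mem _ g h a hab
    exact ⟨pb _ g, l, pbSnd _ g, ⟨⟩, hl⟩
  · rintro Z h ⟨W, a, b, ⟨⟩, rfl⟩
    exact ⟨X', a ≫ pbFst f g, f, ⟨⟩, by rw [Category.assoc, pb_sq, Category.assoc]⟩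

/-- the coproduct step -/
lemma sigma_step (J' : GrothendieckTopology (Over S))
    (hZ : Scheme.zariskiTopology.over S ≤ J')
    (C : MorphismProperty Scheme.{u})
    (hC1 : ∀ (X X' : Over S) (f : X' ⟶ X), C f.left →
      Sieve.generate (Presieve.singleton f) ∈ J' X)
    {κ : Type u} (T : Over S) (V : κ → Over S) (ψ : ∀ j, V j ⟶ T)
    (hC : C (Limits.Sigma.desc fun j => (ψ j).left))
    (R : Sieve T) (hR : ∀ j, R (ψ j)) : R ∈ J' T := by
  have hSig : ∀ j, Limits.Sigma.ι (fun j => (V j).left) j ≫
      (Limits.Sigma.desc (fun j => (ψ j).left) ≫ T.hom) = (V j).hom := by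
    intro j
    rw [← Category.assoc, Limits.Sigma.ι_desc, Over.w]
  obtain ⟨Sg, hSg⟩ : ∃ Sg : Over S, Sg = Over.mk (Limits.Sigma.desc (fun j => (ψ j).left) ≫ T.hom) :=
    ⟨_, rfl⟩
  subst hSg
  obtain ⟨s, hs⟩ : ∃ s : Over.mk (Limits.Sigma.desc (fun j => (ψ j).left) ≫ T.hom) ⟶ T,
      s.left = Limits.Sigma.desc (fun j => (ψ j).left) := ⟨Over.homMk _ rfl, rfl⟩
  obtain ⟨inj, hinj⟩ : ∃ inj : ∀ j, V j ⟶ Over.mk (Limits.Sigma.desc (fun j => (ψ j).left) ≫ T.hom),
      ∀ j, (inj j).left = Limits.Sigma.ι (fun j => (V j).left) j :=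
    ⟨fun j => Over.homMk (Limits.Sigma.ι (fun j => (V j).left) j) (hSig j), fun j => rfl⟩
  have hinjs : ∀ j, inj j ≫ s = ψ j := by
    intro j
    ext
    rw [Over.comp_left, hinj, hs, Limits.Sigma.ι_desc]
  refine J'.transitive (hC1 T _ s (by rw [hs]; exact hC)) R ?_
  rintro Y g ⟨W, h, _, ⟨⟩, rfl⟩
  rw [Sieve.pullback_comp]
  apply J'.pullback_stable
  have hcov : Sieve.ofArrows V inj ∈ Scheme.zariskiTopology.over S _ := by
    rw [GrothendieckTopology.mem_over_iff, Sieve.overEquiv_ofArrows]
    have := (sigmaOpenCover fun j => (V j).left).mem_grothendieckTopology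
    have he : (fun j => (inj j).left) = fun j => Limits.Sigma.ι (fun j => (V j).left) j :=
      funext hinj
    rw [he]
    exact this
  refine J'.superset_covering ?_ (hZ _ hcov)
  rintro Z k ⟨W', a, _, ⟨j⟩, rfl⟩
  show R ((a ≫ inj j) ≫ s)
  rw [Category.assoc, hinjs]
  exact R.downward_closed (hR j) a

end helpers

/-- Fix a scheme S and a class C of quasi-compact morphisms of schemes, stable under composition and
base change, closed under finite coproducts, and containing ∐_j V_j → U for every finite affine open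
cover (V_j) of an affine scheme U. Assume moreover that for every morphism f : X' → W in C with W
affine and every finite affine open cover (A_l) of X', the induced morphism ∐_l A_l → W lies in C.
Let J be the Grothendieck topology on S-schemes whose covering sieves are those admitting
affine-local finite C-covering data (an affine open cover (U_i) of X and, for each i, finitely many
affine S-schemes V_j → X in the sieve factoring through U_i with ∐_j V_j → U_i in C). Then a
presheaf of types on S-schemes is a J-sheaf if and only if it is a sheaf for the big Zariski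
topology on S-schemes and satisfies the sheaf condition for every single S-morphism X' → X whose
underlying morphism of schemes lies in C. (The published statement does not assume the hypothesis on
finite affine open covers of the source of a C-morphism with affine target; its proof uses that
hypothesis, through an unproved equivalence between arbitrary and affine covering data, to see that
the sieve generated by a C-morphism is covering. The hypothesis holds for the classes of fpqc
morphisms, of fppf morphisms and of surjective étale quasi-compact morphisms. The published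
statement also allows a local property of S-schemes preserved by the class; this row takes no such
property and a class of morphisms of schemes.) -/
theorem result (S : Scheme.{u})
    (C : MorphismProperty Scheme.{u}) [C.IsStableUnderComposition] [C.IsStableUnderBaseChange]
    (hqc : ∀ {A B : Scheme.{u}} (f : A ⟶ B), C f → QuasiCompact f)
    (hcoprod : ∀ (κ : Type u) [Finite κ] (A B : κ → Scheme.{u}) (f : ∀ j, A j ⟶ B j),
      (∀ j, C (f j)) → C (Limits.Sigma.map f))
    (haff : ∀ (U : Scheme.{u}) [IsAffine U] (κ : Type u) [Finite κ] (V : κ → U.Opens),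
      (∀ j, IsAffineOpen (V j)) → ⨆ j, V j = ⊤ → C (Limits.Sigma.desc fun j => (V j).ι))
    (hres : ∀ (W X' : Scheme.{u}) [IsAffine W] (f : X' ⟶ W), C f →
      ∀ (κ : Type u) [Finite κ] (A : κ → X'.Opens), (∀ l, IsAffineOpen (A l)) → ⨆ l, A l = ⊤ →
        C (Limits.Sigma.desc fun l => (A l).ι ≫ f))
    (J : GrothendieckTopology (Over S))
    (hJ : ∀ (X : Over S) (R : Sieve X), R ∈ J X ↔
      ∃ (ι : Type u) (U : ι → X.left.Opens), (∀ i, IsAffineOpen (U i)) ∧ ⨆ i, U i = ⊤ ∧
        ∀ i, ∃ (κ : Type u) (_ : Finite κ) (V : κ → Over S) (φ : ∀ j, V j ⟶ X)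
          (ψ : ∀ j, (V j).left ⟶ (U i : Scheme.{u})),
          (∀ j, IsAffine (V j).left) ∧ (∀ j, R.arrows (φ j)) ∧ (∀ j, ψ j ≫ (U i).ι = (φ j).left) ∧
            C (Limits.Sigma.desc ψ))
    (F : (Over S)ᵒᵖ ⥤ Type v) :
    Presieve.IsSheaf J F ↔
      (Presieve.IsSheaf (Scheme.zariskiTopology.over S) F ∧
        ∀ (X X' : Over S) (f : X' ⟶ X), C f.left → Presieve.IsSheafFor F (Presieve.singleton f)) := by
  classical
  constructor
  · intro hF
    refine ⟨?_, ?_⟩
    · -- Zariski.over ≤ J
      refine Presieve.isSheaf_of_le F ?_ hF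
      intro X R hR
      rw [GrothendieckTopology.mem_over_iff] at hR
      obtain ⟨𝒰, h𝒰⟩ := Scheme.mem_grothendieckTopology_iff.mp hR
      rw [hJ]
      refine ⟨{U : X.left.Opens // IsAffineOpen U ∧ ∃ i, U ≤ (𝒰.f i).opensRange},
        fun U => U.1, fun U => U.2.1, ?_, ?_⟩
      · rw [eq_top_iff]
        intro x _
        obtain ⟨i, y, rfl⟩ := 𝒰.exists_eq x
        obtain ⟨O, hO, hxO, hOle⟩ := exists_isAffineOpen_mem_and_subset
          (x := (𝒰.f i) y) (U := (𝒰.f i).opensRange) ⟨y, rfl⟩
        exact TopologicalSpace.Opens.mem_iSup.mpr ⟨⟨O, hO, i, hOle⟩, hxO⟩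
      · rintro ⟨U, hU, i, hUi⟩
        haveI : IsAffine (U : Scheme.{u}) := hU
        have hmem : R.arrows (Over.homMk (𝒰.f i) : Over.mk (𝒰.f i ≫ X.hom) ⟶ X) :=
          (Sieve.overEquiv_iff _ _).mp (h𝒰 _ _ (Presieve.ofArrows.mk i))
        have hr : Set.range U.ι ⊆ Set.range (𝒰.f i) := by
          rw [Scheme.Opens.range_ι]
          exact hUi
        refine ⟨PUnit.{u+1}, inferInstance,
          fun _ => Over.mk ((⊤ : (U : Scheme.{u}).Opens).ι ≫ U.ι ≫ X.hom),
          fun _ => Over.homMk ((⊤ : (U : Scheme.{u}).Opens).ι ≫ U.ι) (by simp),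
          fun _ => (⊤ : (U : Scheme.{u}).Opens).ι, ?_, ?_, ?_, ?_⟩
        · intro _
          exact isAffineOpen_top _
        · intro _
          have : (Over.homMk ((⊤ : (U : Scheme.{u}).Opens).ι ≫ U.ι) (by simp) :
              Over.mk ((⊤ : (U : Scheme.{u}).Opens).ι ≫ U.ι ≫ X.hom) ⟶ X)
              = (Over.homMk ((⊤ : (U : Scheme.{u}).Opens).ι ≫
                  IsOpenImmersion.lift (𝒰.f i) U.ι hr)
                  (by simp [IsOpenImmersion.lift_fac_assoc]) : _ ⟶ Over.mk (𝒰.f i ≫ X.hom)) ≫
                Over.homMk (𝒰.f i) := by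
            ext
            simp [IsOpenImmersion.lift_fac]
          beta_reduce
          rw [this]
          exact R.downward_closed hmem _
        · intro _
          rfl
        · exact haff U PUnit.{u+1} (fun _ => ⊤) (fun _ => isAffineOpen_top _) (by simp)
    · intro X X' f hf
      rw [Presieve.isSheafFor_iff_generate]
      apply hF
      rw [hJ]
      haveI : QuasiCompact f.left := hqc _ hf
      refine ⟨X.left.affineOpens, fun U => U.1, fun U => U.2, iSup_affineOpens_eq_top X.left, ?_⟩
      rintro ⟨U, hU⟩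
      haveI : IsAffine (U : Scheme.{u}) := hU
      have hcomp : IsCompact ((f.left ⁻¹ᵁ U : X'.left.Opens) : Set X'.left) :=
        f.left.isCompact_preimage hU.isCompact
      haveI : CompactSpace ((f.left ⁻¹ᵁ U : X'.left.Opens) : Scheme.{u}) :=
        isCompact_iff_compactSpace.mp hcomp
      obtain ⟨t, hcov⟩ := exists_finite_affine_cover ((f.left ⁻¹ᵁ U : X'.left.Opens) : Scheme.{u})
      refine ⟨↥t, inferInstance,
        fun l => Over.mk ((l.1.1).ι ≫ (f.left ⁻¹ᵁ U).ι ≫ X'.hom),
        fun l => (Over.homMk ((l.1.1).ι ≫ (f.left ⁻¹ᵁ U).ι) (by simp) :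
          Over.mk ((l.1.1).ι ≫ (f.left ⁻¹ᵁ U).ι ≫ X'.hom) ⟶ X') ≫ f,
        fun l => (l.1.1).ι ≫ (f.left ∣_ U), ?_, ?_, ?_, ?_⟩
      · intro l
        exact l.1.2
      · intro l
        exact ⟨_, _, f, ⟨⟩, rfl⟩
      · intro l
        simp [morphismRestrict_ι]
      · exact hres U (f.left ⁻¹ᵁ U) (f.left ∣_ U)
          (C.of_isPullback (isPullback_morphismRestrict f.left U).flip hf)
          ↥t (fun l => l.1.1) (fun l => l.1.2) hcov
  · rintro ⟨hzar, hsing⟩
    have hZ : Scheme.zariskiTopology.over S ≤ Sheaf.finestTopologySingle F := by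
      intro X R hR Y g
      exact hzar _ ((Scheme.zariskiTopology.over S).pullback_stable g hR)
    have hC1 : ∀ (X X' : Over S) (f : X' ⟶ X), C f.left →
        Sieve.generate (Presieve.singleton f) ∈ Sheaf.finestTopologySingle F X := by
      intro X X' f hf Y g
      rw [pullback_generate_singleton, ← Presieve.isSheafFor_iff_generate]
      exact hsing Y (pb f g) (pbSnd f g) (C.pullback_snd _ _ hf)
    have key : J ≤ Sheaf.finestTopologySingle F := by
      intro X R hR
      rw [hJ] at hR
      obtain ⟨ι, U, hUaff, hUcov, hdata⟩ := hR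
      have hZmem : Sieve.ofArrows (fun i => Over.mk ((U i).ι ≫ X.hom))
          (fun i => (Over.homMk (U i).ι : Over.mk ((U i).ι ≫ X.hom) ⟶ X)) ∈
          Scheme.zariskiTopology.over S X := by
        rw [GrothendieckTopology.mem_over_iff, Sieve.overEquiv_ofArrows]
        exact (X.left.openCoverOfIsOpenCover U hUcov).mem_grothendieckTopology
      refine (Sheaf.finestTopologySingle F).transitive (hZ _ hZmem) R ?_
      rintro Y g ⟨W, h, _, ⟨i⟩, rfl⟩
      rw [Sieve.pullback_comp]
      apply GrothendieckTopology.pullback_stable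
      obtain ⟨κ, hκ, V, φ, ψ, hVaff, hφ, hψ, hCψ⟩ := hdata i
      have hw : ∀ j, ψ j ≫ (U i).ι ≫ X.hom = (V j).hom := fun j => by
        rw [← Category.assoc, hψ j, Over.w]
      refine sigma_step (Sheaf.finestTopologySingle F) hZ C hC1 (Over.mk ((U i).ι ≫ X.hom)) V
        (fun j => Over.homMk (ψ j) (hw j)) hCψ _ ?_
      intro j
      show R ((Over.homMk (ψ j) (hw j) : V j ⟶ Over.mk ((U i).ι ≫ X.hom)) ≫ Over.homMk (U i).ι)
      have : (Over.homMk (ψ j) (hw j) : V j ⟶ Over.mk ((U i).ι ≫ X.hom)) ≫ Over.homMk (U i).ι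
          = φ j := by
        ext
        exact hψ j
      rw [this]
      exact hφ j
    exact Presieve.isSheaf_of_le F key (fun X R hR => by
      have := hR X (𝟙 X)
      rwa [Sieve.pullback_id] at this)

end Groth.Agent.S14465
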