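import Groth.Statements.S14471
import Mathlib
import Groth.Agent.Lib.Helper17.VanOrdB

set_option autoImplicit false
universe u
open CategoryTheory CategoryTheory.Limits AlgebraicGeometry
open Curves

namespace Groth.Agent.S14471

/-- Let k be an algebraically closed field, C a smooth proper curve over k (proper and smooth over k,
integral, of dimension one), (L, s_0, …, s_r) a linear series g^r_d on C (L an invertible module of
degree d with k-linearly independent global sections s_0, …, s_r spanning a subspace V of Γ(C, L))
and p a closed point of C. For a nonzero σ ∈ V write ord_p σ for the length of the O_{C,p}-module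
L_p/(σ_p), the order of vanishing of σ at p. Then σ ↦ ord_p σ takes exactly r + 1 distinct values on
V minus 0. (The published statement is for a smooth projective curve over the complex numbers and a
complex point p; this row states it over any algebraically closed field.) -/
theorem result (k : Type u) [Field k] [IsAlgClosed k]
    (C : Scheme.{u}) [C.Over (Spec (CommRingCat.of k))] (hC : Curve.IsSmoothProperCurve k C (C ↘ (Spec (CommRingCat.of k))))
    (L : C.Modules) (d r : ℕ) (s : Fin (r + 1) → LinSer.Sect C L) (hL : LinSer.IsLinSer k C L d r s)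
    (p : C) (hp : IsClosed ({p} : Set C)) :
    Set.ncard ((fun c : Fin (r + 1) → k =>
        Module.length (C.presheaf.stalk p)
          (↥(L.presheaf.stalk p) ⧸ Submodule.span (C.presheaf.stalk p)
            {(L.presheaf.germ ⊤ p trivial) (∑ i, (Coh.toGlobal (C ↘ Spec (CommRingCat.of k)) (c i)) • s i)})) ''
        {c : Fin (r + 1) → k | c ≠ 0}) = r + 1 := by
  classical
  obtain ⟨hprop, hsm, hint, hdim⟩ := hC
  haveI := hprop
  haveI := hsm
  haveI := hint
  obtain ⟨hinv, -, hli⟩ := hL
  haveI : IsDiscreteValuationRing (C.presheaf.stalk p) :=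
    Groth.Agent.Lib.Helper17.VanOrdB.isDiscreteValuationRing_stalk
      (C ↘ Spec (CommRingCat.of k)) hdim p hp
  obtain ⟨U, e, hpU, hg⟩ := Groth.Agent.Lib.Helper3.InvGen.exists_isGen hinv p
  -- the constants in the local ring
  let φ : k →+* C.presheaf.stalk p :=
    (C.presheaf.germ ⊤ p trivial).hom.comp (Coh.toGlobal (C ↘ Spec (CommRingCat.of k)))
  have hres : ∀ a : C.presheaf.stalk p, ∃ c : k, a - φ c ∈
      IsLocalRing.maximalIdeal (C.presheaf.stalk p) := fun a =>
    Groth.Agent.Lib.Helper17.VanOrdB.exists_sub_mem_maximalIdeal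
      (C ↘ Spec (CommRingCat.of k)) p hp a
  -- the section attached to a coefficient vector
  let σ : (Fin (r + 1) → k) → LinSer.Sect C L := fun c =>
    ∑ i, (Coh.toGlobal (C ↘ Spec (CommRingCat.of k)) (c i)) • s i
  have hσadd : ∀ c c', σ (c + c') = σ c + σ c' := by
    intro c c'
    simp only [σ, Pi.add_apply, map_add, add_smul, Finset.sum_add_distrib]
  have hσsmul : ∀ (a : k) c, σ (a • c) =
      (Coh.toGlobal (C ↘ Spec (CommRingCat.of k)) a) • σ c := by
    intro a c
    simp only [σ, Pi.smul_apply, smul_eq_mul, map_mul, mul_smul, Finset.smul_sum]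
  let g : LinSer.Sect C L → L.presheaf.stalk p := fun t => L.presheaf.germ ⊤ p trivial t
  have hgadd : ∀ t t', g (t + t') = g t + g t' := fun t t' => map_add _ t t'
  have hgsmul : ∀ (a : Γ(C, ⊤)) (t : LinSer.Sect C L),
      g (a • t) = (C.presheaf.germ ⊤ p trivial).hom a • g t := fun a t =>
    Mero.germ_smul L ⊤ p trivial a t
  let ι : (Fin (r + 1) → k) →+ C.presheaf.stalk p :=
    { toFun := fun c => Groth.Agent.Lib.Helper23.Inverse.coord hg p hpU (g (σ c))
      map_zero' := by
        have h0 : σ 0 = 0 := by
          have := hσadd 0 0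
          rw [add_zero] at this
          exact left_eq_add.mp this
        have h1 : g 0 = 0 := map_zero (L.presheaf.germ ⊤ p trivial).hom
        rw [h0, h1, map_zero]
      map_add' := fun c c' => by rw [hσadd, hgadd, map_add] }
  have hι : ∀ (a : k) (c : Fin (r + 1) → k), ι (a • c) = φ a * ι c := by
    intro a c
    change Groth.Agent.Lib.Helper23.Inverse.coord hg p hpU (g (σ (a • c))) =
      φ a * Groth.Agent.Lib.Helper23.Inverse.coord hg p hpU (g (σ c))
    have h1 : g (σ (a • c)) = φ a • g (σ c) := by
      rw [hσsmul]
      exact hgsmul _ _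
    rw [h1, map_smul, smul_eq_mul]
  have hcoordinj : Function.Injective (Groth.Agent.Lib.Helper23.Inverse.coord hg p hpU) :=
    (LinearEquiv.ofBijective _
      (Groth.Agent.Lib.Helper23.Inverse.germ_gen_bijective hg p hpU)).symm.injective
  have hinj : Function.Injective ι := by
    rw [injective_iff_map_eq_zero]
    intro c hc
    have h1 : g (σ c) = 0 := by
      apply hcoordinj
      rw [map_zero]
      exact hc
    have h2 : σ c = 0 :=
      Groth.Agent.Lib.Helper17.VanOrdB.eq_zero_of_germ_eq_zero hinv p (σ c) h1
    exact hli c h2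
  have hmain := Groth.Agent.Lib.Helper17.VanOrdA.ncard_vals_top φ hres ι hι hinj
  rw [Module.finrank_fin_fun] at hmain
  refine Eq.trans ?_ hmain
  congr 1
  apply Set.image_congr
  intro c _
  change Module.length (C.presheaf.stalk p)
    (↥(L.presheaf.stalk p) ⧸ Submodule.span (C.presheaf.stalk p) {g (σ c)}) = _
  rw [Groth.Agent.Lib.Helper17.VanOrdB.length_stalk_quot hg p hpU, Ring.ord_eq_addVal]
  rfl

end Groth.Agent.S14471
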