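import Mathlib
import Groth.Statements.S14478

set_option autoImplicit false
universe u

namespace Groth.Agent.S14478

section commonCompl

variable {k V : Type u} [Field k] [AddCommGroup V] [Module k V] [FiniteDimensional k V]

theorem exists_not_mem_not_mem {W₁ W₂ : Submodule k V} (h₁ : W₁ ≠ ⊤) (h₂ : W₂ ≠ ⊤) :
    ∃ v : V, v ∉ W₁ ∧ v ∉ W₂ := by
  obtain ⟨x, hx⟩ : ∃ x, x ∉ W₁ := by
    by_contra hcon
    push Not at hcon
    exact h₁ (eq_top_iff.mpr fun x _ => hcon x)
  obtain ⟨y, hy⟩ : ∃ y, y ∉ W₂ := by
    by_contra hcon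
    push Not at hcon
    exact h₂ (eq_top_iff.mpr fun x _ => hcon x)
  by_cases hx2 : x ∈ W₂
  · by_cases hy1 : y ∈ W₁
    · refine ⟨x + y, fun h => hx ?_, fun h => hy ?_⟩
      · have := W₁.sub_mem h hy1
        simpa using this
      · have := W₂.sub_mem h hx2
        simpa using this
    · exact ⟨y, hy1, hy⟩
  · exact ⟨x, hx, hx2⟩

theorem finrank_sup_span_singleton {W : Submodule k V} {v : V} (hv : v ∉ W) :
    Module.finrank k ↥(W ⊔ Submodule.span k {v}) = Module.finrank k W + 1 := by
  have hv0 : v ≠ 0 := fun h => hv (h ▸ W.zero_mem)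
  have hdisj : Disjoint W (Submodule.span k {v}) := (Submodule.disjoint_span_singleton' hv0).mpr hv
  have h := Submodule.finrank_sup_add_finrank_inf_eq W (Submodule.span k {v})
  rw [hdisj.eq_bot, finrank_bot, add_zero, finrank_span_singleton hv0] at h
  exact h

theorem exists_common_isCompl_aux (c : ℕ) : ∀ (W₁ W₂ : Submodule k V),
    Module.finrank k W₁ = Module.finrank k W₂ →
    Module.finrank k V ≤ Module.finrank k W₁ + c →
    ∃ U : Submodule k V, IsCompl W₁ U ∧ IsCompl W₂ U := by
  induction c with
  | zero =>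
    intro W₁ W₂ heq hle
    have h1 : W₁ = ⊤ := Submodule.eq_top_of_finrank_eq
      (le_antisymm (Submodule.finrank_le W₁) (by simpa using hle))
    have h2 : W₂ = ⊤ := Submodule.eq_top_of_finrank_eq
      (le_antisymm (Submodule.finrank_le W₂) (by rw [← heq]; simpa using hle))
    exact ⟨⊥, h1 ▸ isCompl_top_bot, h2 ▸ isCompl_top_bot⟩
  | succ c ih =>
    intro W₁ W₂ heq hle
    by_cases h1 : W₁ = ⊤
    · have h2 : W₂ = ⊤ := by
        apply Submodule.eq_top_of_finrank_eq
        rw [← heq, h1, finrank_top]
      exact ⟨⊥, h1 ▸ isCompl_top_bot, h2 ▸ isCompl_top_bot⟩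
    · have h2 : W₂ ≠ ⊤ := by
        intro h2
        apply h1
        apply Submodule.eq_top_of_finrank_eq
        rw [heq, h2, finrank_top]
      obtain ⟨v, hv1, hv2⟩ := exists_not_mem_not_mem h1 h2
      have hf1 := finrank_sup_span_singleton hv1
      have hf2 := finrank_sup_span_singleton hv2
      obtain ⟨U', hU1, hU2⟩ := ih (W₁ ⊔ Submodule.span k {v}) (W₂ ⊔ Submodule.span k {v})
        (by rw [hf1, hf2, heq]) (by rw [hf1]; omega)
      have hU'1 := Submodule.finrank_add_eq_of_isCompl hU1
      have hU'2 := Submodule.finrank_add_eq_of_isCompl hU2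
      have hUle : Module.finrank k ↥(U' ⊔ Submodule.span k {v}) ≤ Module.finrank k U' + 1 := by
        refine (Submodule.finrank_add_le_finrank_add_finrank _ _).trans ?_
        have := finrank_span_singleton (K := k) (fun h => hv1 (h ▸ W₁.zero_mem) : v ≠ 0)
        omega
      have key : ∀ W : Submodule k V, IsCompl (W ⊔ Submodule.span k {v}) U' →
          Module.finrank k ↥(W ⊔ Submodule.span k {v}) = Module.finrank k W + 1 →
          IsCompl W (U' ⊔ Submodule.span k {v}) := by
        intro W hc hf
        have hsup : W ⊔ (U' ⊔ Submodule.span k {v}) = ⊤ := by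
          rw [sup_comm U', ← sup_assoc]
          exact hc.sup_eq_top
        have hdim := Submodule.finrank_sup_add_finrank_inf_eq W (U' ⊔ Submodule.span k {v})
        have hcdim := Submodule.finrank_add_eq_of_isCompl hc
        rw [hsup, finrank_top] at hdim
        have hinf : Module.finrank k ↥(W ⊓ (U' ⊔ Submodule.span k {v})) = 0 := by omega
        refine ⟨?_, codisjoint_iff.mpr hsup⟩
        rw [disjoint_iff]
        exact Submodule.finrank_eq_zero.mp hinf
      exact ⟨U' ⊔ Submodule.span k {v}, key W₁ hU1 hf1, key W₂ hU2 hf2⟩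

theorem exists_common_isCompl (W₁ W₂ : Submodule k V)
    (h : Module.finrank k W₁ = Module.finrank k W₂) :
    ∃ U : Submodule k V, IsCompl W₁ U ∧ IsCompl W₂ U :=
  exists_common_isCompl_aux (Module.finrank k V) W₁ W₂ h (Nat.le_add_left _ _)

end commonCompl

/-- Let V be a finite-dimensional vector space over a field k, let W = V × V^∨ with V^∨ the dual space,
and let T ⊆ W be a subspace with dim T = dim V; put V₁ = V ∩ T, where V sits in W as V × 0. Then
there is a complement V₂ of V₁ in V with the following property: for every injective linear map A₁ :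
V₁ → V₁^∨, the map A : V → V^∨ extending A₁ by zero along the decompositions V = V₁ ⊕ V₂ and V^∨ =
V₁^∨ ⊕ V₂^∨ (so A v = A₁(p v) ∘ p, with p : V → V₁ the projection along V₂) has graph Γ ⊆ W with Γ ∩
T = 0. -/
theorem result (k V : Type u) [Field k] [AddCommGroup V] [Module k V]
    [FiniteDimensional k V] (T : Submodule k (V × Module.Dual k V))
    (hT : Module.finrank k T = Module.finrank k V) :
    ∃ (V₂ : Submodule k V) (h : IsCompl (T.comap (LinearMap.inl k V (Module.Dual k V))) V₂),
      ∀ A₁ : T.comap (LinearMap.inl k V (Module.Dual k V)) →ₗ[k]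
          Module.Dual k (T.comap (LinearMap.inl k V (Module.Dual k V))),
        Function.Injective A₁ →
          LinearMap.graph ((Submodule.projectionOnto _ V₂ h).dualMap ∘ₗ A₁ ∘ₗ
              Submodule.projectionOnto _ V₂ h) ⊓ T = ⊥ := by
  set V₁ : Submodule k V := T.comap (LinearMap.inl k V (Module.Dual k V)) with hV₁
  let J : Submodule k (Module.Dual k V) := T.map (LinearMap.snd k V (Module.Dual k V))
  let W : Submodule k V := J.dualCoannihilator
  -- dimension count
  have hdim : Module.finrank k V₁ = Module.finrank k W := by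
    let f : T →ₗ[k] Module.Dual k V := (LinearMap.snd k V (Module.Dual k V)).domRestrict T
    have h1 := LinearMap.finrank_range_add_finrank_ker (K := k) (V := T)
      (V₂ := Module.Dual k V) f
    have hrange : LinearMap.range f = J := LinearMap.range_domRestrict T _
    have h2 := Subspace.finrank_add_finrank_dualCoannihilator_eq J
    have hker : Module.finrank k (LinearMap.ker f) = Module.finrank k V₁ := by
      have e1 : (LinearMap.ker f) ≃ₗ[k] (LinearMap.ker f).map T.subtype :=
        Submodule.equivMapOfInjective T.subtype T.injective_subtype _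
      have e2 : V₁ ≃ₗ[k] V₁.map (LinearMap.inl k V (Module.Dual k V)) :=
        Submodule.equivMapOfInjective _ LinearMap.inl_injective _
      have heq : (LinearMap.ker f).map T.subtype =
          V₁.map (LinearMap.inl k V (Module.Dual k V)) := by
        ext ⟨v, φ⟩
        simp only [Submodule.mem_map, LinearMap.mem_ker, Submodule.subtype_apply, Subtype.exists,
          exists_and_right, exists_eq_right, hV₁, Submodule.mem_comap, LinearMap.inl_apply,
          Prod.mk.injEq, f, LinearMap.domRestrict_apply, LinearMap.snd_apply]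
        constructor
        · rintro ⟨hmem, hφ⟩
          subst hφ
          exact ⟨v, hmem, rfl, rfl⟩
        · rintro ⟨w, hw, rfl, rfl⟩
          exact ⟨hw, rfl⟩
      rw [e1.finrank_eq, heq, ← e2.finrank_eq]
    rw [hrange] at h1
    show Module.finrank k V₁ = Module.finrank k ↥J.dualCoannihilator
    omega
  obtain ⟨V₂, hc1, hc2⟩ := exists_common_isCompl V₁ W hdim
  refine ⟨V₂, hc1, ?_⟩
  intro A₁ hinj
  rw [eq_bot_iff]
  rintro ⟨v, φ⟩ ⟨hgraph, hmemT⟩
  rw [SetLike.mem_coe, LinearMap.mem_graph_iff] at hgraph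
  simp only [LinearMap.coe_comp, Function.comp_apply] at hgraph
  have hφ : ∀ x, φ x = A₁ (Submodule.projectionOnto V₁ V₂ hc1 v)
      (Submodule.projectionOnto V₁ V₂ hc1 x) := by
    intro x
    rw [hgraph, LinearMap.dualMap_apply]
  -- φ lies in J
  have hφJ : φ ∈ J := ⟨(v, φ), hmemT, rfl⟩
  -- φ = 0
  have hφ0 : φ = 0 := by
    ext x
    have hx : x ∈ W ⊔ V₂ := by rw [hc2.sup_eq_top]; trivial
    obtain ⟨w, hw, v₂, hv₂, rfl⟩ := Submodule.mem_sup.mp hx
    rw [map_add, LinearMap.zero_apply]
    have h1 : φ w = 0 := (Submodule.mem_dualCoannihilator w).mp hw φ hφJ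
    have h2 : φ v₂ = 0 := by
      rw [hφ, Submodule.projectionOnto_apply_of_mem_right hc1 hv₂, map_zero]
    rw [h1, h2, add_zero]
  subst hφ0
  have hv : v ∈ V₁ := by
    rw [hV₁, Submodule.mem_comap]
    exact hmemT
  have hpv : Submodule.projectionOnto V₁ V₂ hc1 v = ⟨v, hv⟩ :=
    Submodule.projectionOnto_apply_of_mem_left hc1 hv
  have hA : A₁ ⟨v, hv⟩ = 0 := by
    ext y
    obtain ⟨x, rfl⟩ := Submodule.projectionOnto_surjective hc1 y
    rw [← hpv, ← hφ, LinearMap.zero_apply, LinearMap.zero_apply]
  have hv0 : (⟨v, hv⟩ : V₁) = 0 := hinj (by rw [hA, map_zero])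
  have hv00 : v = 0 := congrArg Subtype.val hv0
  rw [Submodule.mem_bot, hv00]
  rfl

end Groth.Agent.S14478
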