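import Groth.Statements.S14479
import Mathlib

set_option autoImplicit false
universe u
open CharCyc

namespace Groth.Agent.S14479

/-- Let V be a finite-dimensional vector space over a field k. If dim V is even or the characteristic of
k is different from 2, there is a bilinear form B on V such that the bilinear form (v, w) ↦ B(v, w)
+ B(w, v) (B plus its transpose, as a map V → V^∨) is nondegenerate. -/
theorem result (k V : Type u) [Field k] [AddCommGroup V] [Module k V]
    [FiniteDimensional k V] (h : Even (Module.finrank k V) ∨ ringChar k ≠ 2) :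
    ∃ B : LinearMap.BilinForm k V, (B + B.flip).Nondegenerate := by
  classical
  have hflip : ∀ {ι : Type} [Fintype ι] [DecidableEq ι] (b : Module.Basis ι k V)
      (B : LinearMap.BilinForm k V),
      LinearMap.BilinForm.toMatrix b (B + B.flip) =
        LinearMap.BilinForm.toMatrix b B + (LinearMap.BilinForm.toMatrix b B).transpose := by
    intro ι _ _ b B
    ext i j
    simp [LinearMap.BilinForm.toMatrix_apply]
  rcases h with heven | hchar
  · obtain ⟨m, hm⟩ := heven
    let b : Module.Basis (Fin m ⊕ Fin m) k V :=
      (Module.finBasis k V).reindex ((finCongr hm).trans finSumFinEquiv.symm)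
    let M₀ : Matrix (Fin m ⊕ Fin m) (Fin m ⊕ Fin m) k := Matrix.fromBlocks 0 1 0 0
    refine ⟨Matrix.toBilin b M₀, ?_⟩
    rw [LinearMap.BilinForm.nondegenerate_iff_det_ne_zero b, hflip,
      LinearMap.BilinForm.toMatrix_toBilin]
    have hJ : M₀ + M₀.transpose = Matrix.fromBlocks 0 1 1 0 := by
      simp only [M₀, Matrix.fromBlocks_transpose, Matrix.fromBlocks_add, Matrix.transpose_zero,
        Matrix.transpose_one, add_zero, zero_add]
    rw [hJ]
    have hsq : (Matrix.fromBlocks (0 : Matrix (Fin m) (Fin m) k) (1 : Matrix (Fin m) (Fin m) k)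
          (1 : Matrix (Fin m) (Fin m) k) (0 : Matrix (Fin m) (Fin m) k)) *
        (Matrix.fromBlocks (0 : Matrix (Fin m) (Fin m) k) (1 : Matrix (Fin m) (Fin m) k)
          (1 : Matrix (Fin m) (Fin m) k) (0 : Matrix (Fin m) (Fin m) k)) = 1 := by
      rw [Matrix.fromBlocks_multiply]
      simp [Matrix.fromBlocks_one]
    intro hdet
    have := congrArg Matrix.det hsq
    rw [Matrix.det_mul, hdet, Matrix.det_one, mul_zero] at this
    exact zero_ne_one this
  · let b := Module.finBasis k V
    refine ⟨Matrix.toBilin b 1, ?_⟩
    rw [LinearMap.BilinForm.nondegenerate_iff_det_ne_zero b, hflip,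
      LinearMap.BilinForm.toMatrix_toBilin, Matrix.transpose_one]
    have h2 : (2 : k) ≠ 0 := Ring.two_ne_zero hchar
    have : (1 : Matrix (Fin (Module.finrank k V)) (Fin (Module.finrank k V)) k) + 1 =
        (2 : k) • 1 := by rw [two_smul]
    rw [this, Matrix.det_smul, Matrix.det_one, mul_one]
    exact pow_ne_zero _ h2

end Groth.Agent.S14479
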