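import Groth.Statements.S14480
-- import your own Groth.Agent.* helpers here
import Mathlib
import Groth.Agent.Lib.Helper12.FlatDim
import Groth.Agent.Lib.Helper12.FibreDim
import Groth.Agent.Lib.Helper12.FibreDimConstr

set_option autoImplicit false
universe u
open CategoryTheory AlgebraicGeometry
open CharCyc

namespace Groth.Agent.S14480
open AlgebraicGeometry CategoryTheory
open Groth.Agent.Lib.Helper12 Groth.Agent.Lib.Helper12.SchemeDimFT
  Groth.Agent.Lib.Helper12.SchemeDimIneq Groth.Agent.Lib.Helper12.Equidim
  Groth.Agent.Lib.Helper12.FlatDim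

/-- In a Noetherian quasi-sober space, points of the closure of the image of a closed set are
specializations of images of points of the closed set. -/
theorem exists_specializes_of_mem_closure_image {C X : Type*} [TopologicalSpace C]
    [TopologicalSpace X] [TopologicalSpace.NoetherianSpace C] [QuasiSober C] (π : C → X)
    (hπ : Continuous π) (F : Set C) (hF : IsClosed F) (η : X) (hη : η ∈ closure (π '' F)) :
    ∃ φ ∈ F, π φ ⤳ η := by
  haveI : QuasiSober ↥F := hF.isClosedEmbedding_subtypeVal.quasiSober
  have hfin : (irreducibleComponents ↥F).Finite :=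
    TopologicalSpace.NoetherianSpace.finite_irreducibleComponents
  have h1 : π '' F = ⋃ Z ∈ irreducibleComponents ↥F, (π ∘ Subtype.val) '' Z := by
    ext x
    simp only [Set.mem_image, Set.mem_iUnion, Function.comp_apply]
    constructor
    · rintro ⟨c, hc, rfl⟩
      have : (⟨c, hc⟩ : ↥F) ∈ ⋃₀ irreducibleComponents ↥F := by
        rw [sUnion_irreducibleComponents]; trivial
      obtain ⟨Z, hZ, hcZ⟩ := this
      exact ⟨Z, hZ, ⟨c, hc⟩, hcZ, rfl⟩
    · rintro ⟨Z, -, c, -, rfl⟩
      exact ⟨c.1, c.2, rfl⟩
  rw [h1, hfin.closure_biUnion] at hη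
  simp only [Set.mem_iUnion] at hη
  obtain ⟨Z, hZ, hηZ⟩ := hη
  obtain ⟨φ, hφ⟩ := QuasiSober.sober hZ.1 (isClosed_of_mem_irreducibleComponents Z hZ)
  refine ⟨φ.1, φ.2, ?_⟩
  rw [specializes_iff_mem_closure]
  have hc : Continuous (π ∘ (Subtype.val : ↥F → C)) := hπ.comp continuous_subtype_val
  have h2 : (π ∘ Subtype.val) '' Z ⊆ closure {π φ.1} := by
    rw [← hφ.def]
    refine (image_closure_subset_closure_image hc).trans ?_
    rw [Set.image_singleton]
    rfl
  exact closure_minimal h2 isClosed_closure hηZ


/-- Let k be a field, let π : C → X be a morphism between k-schemes of finite type, and let n be a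
natural number. For j ≥ 0 let B_j ⊆ X be the set of points x whose fibre π⁻¹(x) has dimension at
least j (so B_0 is the image of π). Then dim C ≤ n if and only if, for every j, the closure of B_j
in X has dimension at most n − j. Dimensions are topological Krull dimensions with the empty space
of dimension ⊥, and the inequality is written additively as dim cl(B_j) + j ≤ n. -/
theorem result (k : Type u) [Field k] (C X : Scheme.{u})
    (q : X ⟶ Spec (CommRingCat.of k)) (π : C ⟶ X)
    [LocallyOfFiniteType q] [CompactSpace X] [LocallyOfFiniteType π] [CompactSpace C] (n : ℕ) :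
    topologicalKrullDim C ≤ n ↔
      ∀ j : ℕ, topologicalKrullDim (closure {x : X | (j : WithBot ℕ∞) ≤ topologicalKrullDim (π.fiber x)}) +
        (j : WithBot ℕ∞) ≤ n := by
  letI : X.Over (Spec (CommRingCat.of k)) := ⟨q⟩
  letI : C.Over (Spec (CommRingCat.of k)) := ⟨π ≫ q⟩
  haveI : LocallyOfFiniteType (X ↘ Spec (CommRingCat.of k)) := ‹LocallyOfFiniteType q›
  haveI : LocallyOfFiniteType (C ↘ Spec (CommRingCat.of k)) :=
    inferInstanceAs (LocallyOfFiniteType (π ≫ q))
  haveI : IsLocallyNoetherian X := LocallyOfFiniteType.isLocallyNoetherian q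
  haveI : IsLocallyNoetherian C := LocallyOfFiniteType.isLocallyNoetherian π
  haveI : IsNoetherian C := ⟨⟩
  have hdimfib : ∀ x : X, topologicalKrullDim (π.fiber x) = topologicalKrullDim (π.base ⁻¹' {x}) :=
    fun x => IsHomeomorph.topologicalKrullDim_eq _ (π.fiberHomeo x).isHomeomorph
  constructor
  · intro hC j
    -- Claim 1
    have claim1 : ∀ x : X, (j : WithBot ℕ∞) ≤ topologicalKrullDim (π.fiber x) →
        tr k X x + j ≤ n := by
      intro x hx
      rw [hdimfib] at hx
      obtain ⟨c, -, hc2⟩ := FibreDim.exists_tr_ge_of_le_dim_fiber k q π x j hx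
      have h1 := (FibreRes.tr_le_topologicalKrullDim k C c).trans hC
      have h1' : tr k C c ≤ n := by exact_mod_cast h1
      omega
    -- Claim 2
    obtain ⟨F, hF, hFeq⟩ := FibreDimConstr.exists_isClosed_setOf_le_dim_fiber π j
    have claim2 : ∀ η ∈ closure {x : X | (j : WithBot ℕ∞) ≤ topologicalKrullDim (π.fiber x)},
        tr k X η + j ≤ n := by
      intro η hη
      rw [hFeq] at hη
      obtain ⟨φ, hφF, hφη⟩ := exists_specializes_of_mem_closure_image π.base π.continuous F hF η hη
      have hmem : π.base φ ∈ {x : X | (j : WithBot ℕ∞) ≤ topologicalKrullDim (π.fiber x)} := by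
        rw [hFeq]; exact ⟨φ, hφF, rfl⟩
      have h1 := claim1 _ hmem
      have h2 := tr_le_of_specializes k X _ _ hφη
      omega
    by_cases hjn : j ≤ n
    · have h1 := topologicalKrullDim_le_of_isLocallyClosed k X _
        (isClosed_closure (s := {x : X | (j : WithBot ℕ∞) ≤ topologicalKrullDim (π.fiber x)})).isLocallyClosed
        ((n - j : ℕ) : WithBot ℕ∞) (by
          intro z hz
          have := claim2 z hz
          have h3 : tr k X z ≤ n - j := by omega
          exact_mod_cast h3)
      refine (add_le_add_left h1 _).trans ?_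
      have : n - j + j = n := by omega
      exact_mod_cast this.le
    · have h1 := topologicalKrullDim_le_of_isLocallyClosed k X _
        (isClosed_closure (s := {x : X | (j : WithBot ℕ∞) ≤ topologicalKrullDim (π.fiber x)})).isLocallyClosed
        ⊥ (by
          intro z hz
          have := claim2 z hz
          omega)
      rw [le_bot_iff] at h1
      rw [h1]
      simp
  · intro h
    refine FibreRes.topologicalKrullDim_le_of_forall_tr k C n ?_
    intro c
    obtain ⟨t, ht⟩ := exists_trn_eq π c
    have hadd := tr_eq_add_trn k q π c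
    rw [ht] at hadd
    have hadd' : tr k C c = tr k X (π c) + t := by exact_mod_cast hadd
    letI ovF : (π.fiber (π c)).Over (Spec (CommRingCat.of (X.residueField (π c)))) :=
      ⟨π.fiberToSpecResidueField (π c)⟩
    haveI : LocallyOfFiniteType
        ((π.fiber (π c)) ↘ Spec (CommRingCat.of (X.residueField (π c)))) :=
      FibreRes.locallyOfFiniteType_fiberToSpecResidueField π (π c)
    have hmem : (t : WithBot ℕ∞) ≤ topologicalKrullDim (π.fiber (π c)) := by
      have h1 := FibreRes.tr_le_topologicalKrullDim (X.residueField (π c)) (π.fiber (π c))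
        (π.asFiber c)
      have h2 := trn_eq_tr π c
      rw [ht] at h2
      have h3 : t = tr (X.residueField (π c)) (π.fiber (π c)) (π.asFiber c) := by exact_mod_cast h2
      rw [h3]
      exact h1
    have h1 := le_topologicalKrullDim_of_isLocallyClosed k X _
      (isClosed_closure (s := {x : X | (t : WithBot ℕ∞) ≤ topologicalKrullDim (π.fiber x)})).isLocallyClosed
      (π c) (subset_closure hmem)
    have h2 := (add_le_add_left h1 (t : WithBot ℕ∞)).trans (h t)
    rw [hadd']
    exact_mod_cast h2

end Groth.Agent.S14480
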