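import Groth.Statements.S14481
-- import your own Groth.Agent.* helpers here
import Mathlib
import Groth.Agent.Lib.Helper12.DimLC
import Groth.Agent.Lib.Helper12.KrullSch

set_option autoImplicit false
universe u
open CategoryTheory AlgebraicGeometry
open CharCyc

namespace Groth.Agent.S14481
open AlgebraicGeometry CategoryTheory
open Groth.Agent.Lib.Helper12 Groth.Agent.Lib.Helper12.SchemeDimFT
  Groth.Agent.Lib.Helper12.SchemeDimIneq Groth.Agent.Lib.Helper12.Equidim
  Groth.Agent.Lib.Helper12.FlatDim Groth.Agent.Lib.Helper12.DimLC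
  Groth.Agent.Lib.Helper12.KrullSch


/-- First equivalence: let k be a field, let π : C → X be a morphism between k-schemes of finite type
such that every irreducible component of C has dimension n, and let ι : W → X be a regular immersion
of codimension c. The following are equivalent: (a) ι meets C properly, that is, whenever P is an
irreducible component of C and Q is an irreducible component of P ×_X W (the subspace P ∩ π⁻¹(ι(W))
of C), one has dim Q = dim P − c; (b) dim C ×_X W ≤ n − c (the subspace π⁻¹(ι(W)) of C). Dimensions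
are written additively: dim Q + c = n and dim π⁻¹(ι(W)) + c ≤ n, the empty space having dimension ⊥.
(Stated for each of the four kinds of regular immersion of codimension c — regular, Koszul-regular,
H₁-regular, quasi-regular; the published statement does not distinguish kinds.) -/
theorem result (k : Type u) [Field k] (C X W : Scheme.{u})
    (q : X ⟶ Spec (CommRingCat.of k)) (π : C ⟶ X) (ι : W ⟶ X)
    [LocallyOfFiniteType q] [CompactSpace X] [LocallyOfFiniteType π] [CompactSpace C]
    (κ : RegImm.Kind) (n c : ℕ) (hι : RegImm.IsRegularImmersionOfCodim κ c ι)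
    (hC : ∀ P ∈ irreducibleComponents (C : Type u), topologicalKrullDim P = n) :
    (∀ P ∈ irreducibleComponents (C : Type u), ∀ Q ∈ irreducibleComponents (P ∩ π ⁻¹' Set.range ι : Set C),
        topologicalKrullDim Q + (c : WithBot ℕ∞) = n) ↔
      topologicalKrullDim (π ⁻¹' Set.range ι : Set C) + (c : WithBot ℕ∞) ≤ n := by
  classical
  letI : X.Over (Spec (CommRingCat.of k)) := ⟨q⟩
  letI : C.Over (Spec (CommRingCat.of k)) := ⟨π ≫ q⟩
  haveI : LocallyOfFiniteType (X ↘ Spec (CommRingCat.of k)) := ‹LocallyOfFiniteType q›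
  haveI : LocallyOfFiniteType (C ↘ Spec (CommRingCat.of k)) :=
    inferInstanceAs (LocallyOfFiniteType (π ≫ q))
  haveI : IsImmersion ι := hι.1
  haveI : IsLocallyNoetherian X := LocallyOfFiniteType.isLocallyNoetherian q
  haveI : IsNoetherian X := ⟨⟩
  haveI : TopologicalSpace.NoetherianSpace W := ι.isEmbedding.isInducing.noetherianSpace
  haveI : QuasiCompact ι := inferInstance
  have hT : IsLocallyClosed (π.base ⁻¹' Set.range ι.base) :=
    ι.isLocallyClosed_range.preimage π.continuous
  rw [dim_add_le_iff k C _ hT c n]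
  constructor
  · intro ha t ht
    obtain ⟨P, hP, htP⟩ : ∃ P ∈ irreducibleComponents C, t ∈ P := by
      have : t ∈ ⋃₀ irreducibleComponents C := by rw [sUnion_irreducibleComponents]; trivial
      exact this
    have hPT : IsLocallyClosed (P ∩ π.base ⁻¹' Set.range ι.base) :=
      (isClosed_of_mem_irreducibleComponents P hP).isLocallyClosed.inter hT
    obtain ⟨Q, hQ, htQ⟩ : ∃ Q ∈ irreducibleComponents ↥(P ∩ π.base ⁻¹' Set.range ι.base),
        (⟨t, htP, ht⟩ : ↥(P ∩ π.base ⁻¹' Set.range ι.base)) ∈ Q := by
      have : (⟨t, htP, ht⟩ : ↥(P ∩ π.base ⁻¹' Set.range ι.base)) ∈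
          ⋃₀ irreducibleComponents ↥(P ∩ π.base ⁻¹' Set.range ι.base) := by
        rw [sUnion_irreducibleComponents]; trivial
      exact this
    obtain ⟨w, hwS, hwmax, hwQ, hdimQ⟩ := exists_of_mem_irreducibleComponents_lc k C _ hPT Q hQ
    have h1 := ha P hP Q hQ
    rw [hdimQ] at h1
    have h2 : tr k C w + c = n := by exact_mod_cast h1
    have h3 := tr_le_of_specializes k C w t ((hwQ ⟨t, htP, ht⟩).mp htQ)
    omega
  · intro hb P hP Q hQ
    obtain ⟨p, hp, rfl⟩ := (mem_irreducibleComponents_iff P).mp hP
    have hPT : IsLocallyClosed (closure {p} ∩ π.base ⁻¹' Set.range ι.base) :=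
      isClosed_closure.isLocallyClosed.inter hT
    obtain ⟨w, hwS, hwmax, hwQ, hdimQ⟩ := exists_of_mem_irreducibleComponents_lc k C _ hPT Q hQ
    rw [hdimQ]
    have hle := hb w hwS.2
    have htrp : tr k C p = n := tr_eq_of_isMaxPt k C n hC p hp
    have hpw : p ⤳ w := specializes_iff_mem_closure.mpr hwS.1
    obtain ⟨z, hz⟩ := hwS.2
    obtain ⟨U, hzU, hcl, rs, hlen, -, hker⟩ := hι.2 z
    haveI := hcl
    have hπwU : π.base w ∈ U.1 := by rw [← hz]; exact hzU
    obtain ⟨_, ⟨V, hV, rfl⟩, hwV, hVU⟩ := C.isBasis_affineOpens.exists_subset_of_mem_open hπwU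
      (π ⁻¹ᵁ U.1).2
    have hVU' : V ≤ π ⁻¹ᵁ U.1 := hVU
    let s : Finset Γ(C, V) := (rs.map (π.appLE U.1 V hVU').hom).toFinset
    have hcard : s.card ≤ c := by
      rw [← hlen]
      exact (List.toFinset_card_le _).trans (by simp)
    have hrange : ∀ t' : C, ∀ ht' : t' ∈ V, (π.base t' ∈ Set.range ι.base ↔
        ∀ g ∈ s, g ∈ (hV.primeIdealOf ⟨t', ht'⟩).asIdeal) := by
      intro t' ht'
      rw [mem_range_iff_ker_le ι U (π.base t') (hVU' ht'), hker,
        primeIdealOf_comap π hV U.2 hVU' t' ht', Ideal.ofList, Ideal.span_le]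
      constructor
      · intro h g hg
        simp only [s, List.mem_toFinset, List.mem_map] at hg
        obtain ⟨r, hr, rfl⟩ := hg
        exact h hr
      · intro h r hr
        exact h _ (by simp only [s, List.mem_toFinset, List.mem_map]; exact ⟨r, hr, rfl⟩)
    have key := tr_le_add_card k C V hV p w hpw hwV s ((hrange w hwV).mp hwS.2) (by
      intro t' ht' hpt' ht'w hvan
      exact hwmax t' ⟨specializes_iff_mem_closure.mp hpt', (hrange t' ht').mpr hvan⟩ ht'w)
    have : tr k C w + c = n := by omega
    exact_mod_cast this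

end Groth.Agent.S14481
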