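import Groth.Statements.S14482
-- import your own Groth.Agent.* helpers here
import Mathlib
import Groth.Agent.Lib.Helper12.DimLC
import Groth.Agent.S14480

set_option autoImplicit false
universe u
open CategoryTheory AlgebraicGeometry
open CharCyc

namespace Groth.Agent.S14482
open AlgebraicGeometry CategoryTheory
open Groth.Agent.Lib.Helper12 Groth.Agent.Lib.Helper12.SchemeDimFT
  Groth.Agent.Lib.Helper12.SchemeDimIneq Groth.Agent.Lib.Helper12.Equidim
  Groth.Agent.Lib.Helper12.FlatDim Groth.Agent.Lib.Helper12.DimLC


/-- Second assertion: let k be a field, let π : C → X be a morphism between k-schemes of finite type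
such that every irreducible component of C has dimension n, let ι : W → X be a regular immersion of
codimension c, and for j ≥ 0 let B_j ⊆ X be the set of points whose fibre under π has dimension at
least j. Assume that every B_j is closed in X. Then dim B_j + j ≤ n for every j, and the condition
dim π⁻¹(ι(W)) + c ≤ n (that is, dim C ×_X W ≤ n − c) holds if and only if dim ι⁻¹(B_j) + c + j ≤ n
for every j (that is, ι meets the sequence (B_j) n-semi-properly). Dimensions are topological Krull
dimensions of subspaces, the empty space having dimension ⊥. (Stated for each of the four kinds of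
regular immersion of codimension c — regular, Koszul-regular, H₁-regular, quasi-regular; the
published statement does not distinguish kinds.) -/
theorem result (k : Type u) [Field k] (C X W : Scheme.{u})
    (q : X ⟶ Spec (CommRingCat.of k)) (π : C ⟶ X) (ι : W ⟶ X)
    [LocallyOfFiniteType q] [CompactSpace X] [LocallyOfFiniteType π] [CompactSpace C]
    (κ : RegImm.Kind) (n c : ℕ) (hι : RegImm.IsRegularImmersionOfCodim κ c ι)
    (hC : ∀ P ∈ irreducibleComponents (C : Type u), topologicalKrullDim P = n)
    (hB : ∀ j : ℕ, IsClosed {x : X | (j : WithBot ℕ∞) ≤ topologicalKrullDim (π.fiber x)}) :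
    (∀ j : ℕ, topologicalKrullDim {x : X | (j : WithBot ℕ∞) ≤ topologicalKrullDim (π.fiber x)} + (j : WithBot ℕ∞) ≤ n) ∧
      (topologicalKrullDim (π ⁻¹' Set.range ι : Set C) + (c : WithBot ℕ∞) ≤ n ↔
        ∀ j : ℕ, topologicalKrullDim (ι ⁻¹' {x : X | (j : WithBot ℕ∞) ≤ topologicalKrullDim (π.fiber x)} : Set W) + (c : WithBot ℕ∞) + (j : WithBot ℕ∞) ≤ n) := by
  letI : X.Over (Spec (CommRingCat.of k)) := ⟨q⟩
  letI : C.Over (Spec (CommRingCat.of k)) := ⟨π ≫ q⟩
  haveI : LocallyOfFiniteType (X ↘ Spec (CommRingCat.of k)) := ‹LocallyOfFiniteType q›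
  haveI : LocallyOfFiniteType (C ↘ Spec (CommRingCat.of k)) :=
    inferInstanceAs (LocallyOfFiniteType (π ≫ q))
  haveI : IsImmersion ι := hι.1
  have hdimfib : ∀ x : X, topologicalKrullDim (π.fiber x) = topologicalKrullDim (π.base ⁻¹' {x}) :=
    fun x => IsHomeomorph.topologicalKrullDim_eq _ (π.fiberHomeo x).isHomeomorph
  have hCn : topologicalKrullDim C ≤ n :=
    FibreRes.topologicalKrullDim_le_of_forall_tr k C n
      (fun c => by exact_mod_cast tr_le_of_equidim k C n hC c)
  refine ⟨?_, ?_⟩
  · intro j
    have := (Groth.Agent.S14480.result k C X q π n).mp hCn j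
    rwa [(hB j).closure_eq] at this
  · have hT : IsLocallyClosed (π.base ⁻¹' Set.range ι.base) :=
      ι.isLocallyClosed_range.preimage π.continuous
    have hWB : ∀ j : ℕ, IsLocallyClosed (Set.range ι.base ∩
        {x : X | (j : WithBot ℕ∞) ≤ topologicalKrullDim (π.fiber x)}) :=
      fun j => ι.isLocallyClosed_range.inter (hB j).isLocallyClosed
    rw [dim_add_le_iff k C _ hT c n]
    have hrw : ∀ j : ℕ, (topologicalKrullDim (ι.base ⁻¹' {x : X | (j : WithBot ℕ∞) ≤
        topologicalKrullDim (π.fiber x)} : Set W) + (c : WithBot ℕ∞) + (j : WithBot ℕ∞) ≤ n) ↔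
        ∀ z ∈ Set.range ι.base ∩ {x : X | (j : WithBot ℕ∞) ≤ topologicalKrullDim (π.fiber x)},
          tr k X z + (c + j) ≤ n := by
      intro j
      rw [dim_preimage_of_isEmbedding ι.base ι.isEmbedding, add_assoc,
        ← dim_add_le_iff k X _ (hWB j) (c + j) n]
      push_cast
      rfl
    simp only [hrw]
    constructor
    · rintro h j x ⟨hx1, hx2⟩
      have hx2' : (j : WithBot ℕ∞) ≤ topologicalKrullDim (π.fiber x) := hx2
      rw [hdimfib] at hx2'
      obtain ⟨t, ht1, ht2⟩ := FibreDim.exists_tr_ge_of_le_dim_fiber k q π x j hx2'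
      have := h t (by show π.base t ∈ Set.range ι.base; rw [ht1]; exact hx1)
      omega
    · intro h t ht
      obtain ⟨j, hj⟩ := exists_trn_eq π t
      have hadd := tr_eq_add_trn k q π t
      rw [hj] at hadd
      have hadd' : tr k C t = tr k X (π t) + j := by exact_mod_cast hadd
      letI ovF : (π.fiber (π t)).Over (Spec (CommRingCat.of (X.residueField (π t)))) :=
        ⟨π.fiberToSpecResidueField (π t)⟩
      haveI : LocallyOfFiniteType
          ((π.fiber (π t)) ↘ Spec (CommRingCat.of (X.residueField (π t)))) :=
        FibreRes.locallyOfFiniteType_fiberToSpecResidueField π (π t)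
      have hmem : (j : WithBot ℕ∞) ≤ topologicalKrullDim (π.fiber (π t)) := by
        have h1 := FibreRes.tr_le_topologicalKrullDim (X.residueField (π t)) (π.fiber (π t))
          (π.asFiber t)
        have h2 := trn_eq_tr π t
        rw [hj] at h2
        have h3 : j = tr (X.residueField (π t)) (π.fiber (π t)) (π.asFiber t) := by
          exact_mod_cast h2
        rw [h3]
        exact h1
      have := h j (π t) ⟨ht, hmem⟩
      omega

end Groth.Agent.S14482
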