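import Groth.Statements.S14491
-- import your own Groth.Agent.* helpers here

set_option autoImplicit false
universe w v u
open DerTri

namespace Groth.Agent.S14491

open CategoryTheory Pretriangulated in
/-- In the derived category D(C) of an abelian category C, let E ⟶ F ⟶ G be two morphisms with E
concentrated in non-positive degrees and G concentrated in non-negative degrees for the canonical
t-structure. If two morphisms G ⟶ E⟦1⟧ both complete E ⟶ F ⟶ G to a distinguished triangle, then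
they are equal. (The published statement is phrased with the morphism G⟦-1⟧ ⟶ E of the triangle
G⟦-1⟧ ⟶ E ⟶ F ⟶ G; this row uses the equivalent connecting morphism G ⟶ E⟦1⟧ of the rotated
triangle.) -/
theorem result {C : Type u} [Category.{v} C] [Abelian C]
    [HasDerivedCategory.{w} C] {E F G : DerivedCategory C} (u : E ⟶ F) (v : F ⟶ G)
    [E.IsLE 0] [G.IsGE 0] (w w' : G ⟶ E⟦(1 : ℤ)⟧)
    (hw : Triangle.mk u v w ∈ distTriang (DerivedCategory C))
    (hw' : Triangle.mk u v w' ∈ distTriang (DerivedCategory C)) :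
    w = w' := by
  have key : ∃ c : G ⟶ G, v ≫ c = v ∧ w = c ≫ w' := by
    obtain ⟨c, hc₁, hc₂⟩ := complete_distinguished_triangle_morphism
      (Triangle.mk u v w) (Triangle.mk u v w') hw hw' (𝟙 E) (𝟙 F)
      (by change u ≫ 𝟙 F = 𝟙 E ≫ u; rw [Category.id_comp, Category.comp_id])
    let c' : G ⟶ G := c
    have h1 : v ≫ c' = 𝟙 F ≫ v := hc₁
    have h2 : w ≫ (𝟙 E)⟦(1 : ℤ)⟧' = c' ≫ w' := hc₂
    refine ⟨c', ?_, ?_⟩
    · rw [h1, Category.id_comp]
    · rw [← h2, CategoryTheory.Functor.map_id, Category.comp_id]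
  obtain ⟨c, hc₁, hc₂⟩ := key
  -- v ≫ (c - 𝟙) = 0
  have h0 : v ≫ (c - 𝟙 G) = 0 := by
    rw [Preadditive.comp_sub, hc₁, Category.comp_id, sub_self]
  obtain ⟨d₀, hd⟩ := Triangle.yoneda_exact₃ (Triangle.mk u v w) hw (c - 𝟙 G) h0
  let d : E⟦(1 : ℤ)⟧ ⟶ G := d₀
  have hd' : c - 𝟙 G = w ≫ d := hd
  have : DerivedCategory.TStructure.t.IsLE (E⟦(1 : ℤ)⟧) (-1) :=
    DerivedCategory.TStructure.t.isLE_shift E 0 1 (-1) (by norm_num)
  have hd0 : d = 0 :=
    DerivedCategory.TStructure.t.zero_of_isLE_of_isGE d (-1) 0 (by norm_num) this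
      (inferInstanceAs (G.IsGE 0))
  rw [hd0, Limits.comp_zero, sub_eq_zero] at hd'
  rw [hc₂, hd', Category.id_comp]

end Groth.Agent.S14491
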