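import Groth.Statements.S14497
import Mathlib.CategoryTheory.Abelian.Refinements
-- import your own Groth.Agent.* helpers here

set_option autoImplicit false
universe v u
open IndCof

namespace Groth.Agent.S14497

open CategoryTheory CategoryTheory.Limits

/-- In an abelian category, precomposing with an epimorphism does not change the image. -/
theorem imageSubobject_epi_comp_eq {V : Type u} [Category.{v} V] [Abelian V] {X' X Y : V}
    (h : X' ⟶ X) [Epi h] (f : X ⟶ Y) : imageSubobject (h ≫ f) = imageSubobject f := by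
  refine le_antisymm (imageSubobject_comp_le h f) ?_
  have h1 : Epi (Subobject.ofLE _ _ (imageSubobject_comp_le h f)) := inferInstance
  have h2 : Mono (Subobject.ofLE _ _ (imageSubobject_comp_le h f)) := inferInstance
  have h3 : IsIso (Subobject.ofLE _ _ (imageSubobject_comp_le h f)) := isIso_of_mono_of_epi _
  refine Subobject.le_of_comm (inv (Subobject.ofLE _ _ (imageSubobject_comp_le h f))) ?_
  rw [IsIso.inv_comp_eq, Subobject.ofLE_arrow]

/-- If `B'` is divisible and `M` kills `B / B'`, then the image of multiplication by `M * j`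
is `B'` for every `j > 0`. -/
theorem image_eq_of_divisible {V : Type u} [Category.{v} V] [Abelian V] (B : V)
    (B' : Subobject B) (hdiv : ∀ k : ℕ, 0 < k → Epi (k • 𝟙 (B' : V)))
    (M : ℕ) (hM : M • 𝟙 (cokernel B'.arrow) = 0) (j : ℕ) (hj : 0 < j) (hM0 : 0 < M) :
    imageSubobject ((M * j) • 𝟙 B) = B' := by
  apply le_antisymm
  · have hzero : ((M * j) • 𝟙 B) ≫ cokernel.π B'.arrow = 0 := by
      rw [Preadditive.nsmul_comp, Category.id_comp, ← Category.comp_id (cokernel.π B'.arrow),
        ← Preadditive.comp_nsmul, mul_nsmul, hM, smul_zero, comp_zero]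
    exact imageSubobject_le _ (Abelian.monoLift B'.arrow _ hzero) (Abelian.monoLift_comp _ _ _)
  · have hepi : Epi ((M * j) • 𝟙 (B' : V)) := hdiv _ (Nat.mul_pos hM0 hj)
    have e1 : imageSubobject B'.arrow = B' := by
      rw [imageSubobject_mono, Subobject.mk_arrow]
    have e2 : ((M * j) • 𝟙 (B' : V)) ≫ B'.arrow = B'.arrow ≫ ((M * j) • 𝟙 B) := by
      rw [Preadditive.nsmul_comp, Preadditive.comp_nsmul, Category.id_comp, Category.comp_id]
    calc B' = imageSubobject B'.arrow := e1.symm
      _ = imageSubobject (((M * j) • 𝟙 (B' : V)) ≫ B'.arrow) :=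
          (imageSubobject_epi_comp_eq _ _).symm
      _ = imageSubobject (B'.arrow ≫ ((M * j) • 𝟙 B)) := by rw [e2]
      _ ≤ imageSubobject ((M * j) • 𝟙 B) := imageSubobject_comp_le _ _

/-- A divisible subobject is contained in any subobject with torsion quotient. -/
theorem le_of_divisible {V : Type u} [Category.{v} V] [Abelian V] (B : V)
    (B' : Subobject B) (M : ℕ) (hM0 : 0 < M) (hM : M • 𝟙 (cokernel B'.arrow) = 0)
    (D : Subobject B) (hD : ∀ k : ℕ, 0 < k → Epi (k • 𝟙 (D : V))) : D ≤ B' := by
  have hepi : Epi (M • 𝟙 (D : V)) := hD M hM0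
  have hzero : D.arrow ≫ cokernel.π B'.arrow = 0 := by
    rw [← cancel_epi (M • 𝟙 (D : V)), comp_zero, Preadditive.nsmul_comp, Category.id_comp,
      ← Category.comp_id (D.arrow ≫ cokernel.π B'.arrow), ← Preadditive.comp_nsmul, hM,
      comp_zero]
  exact Subobject.le_of_comm (Abelian.monoLift B'.arrow _ hzero) (Abelian.monoLift_comp _ _ _)

/-- Let B be an object of an abelian category and consider the inverse system, indexed by the positive
integers ordered by divisibility, with every term equal to B and transition map from the m-th to the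
n-th term (n ∣ m) given by multiplication by m/n. This system is Mittag-Leffler, i.e. for every n
the images in the n-th term of the transition maps are eventually constant, if and only if B has a
divisible sub-object B' (multiplication by every positive integer is an epimorphism of B') with B/B'
killed by some positive integer. Moreover such a B' is the largest divisible sub-object of B. -/
theorem result
    {V : Type u} [Category.{v} V] [Abelian V] (B : V) :
    ((∀ n : ℕ, 0 < n → ∃ m : ℕ, 0 < m ∧ n ∣ m ∧ ∀ m' : ℕ, 0 < m' → m ∣ m' →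
        imageSubobject ((m' / n) • 𝟙 B) = imageSubobject ((m / n) • 𝟙 B)) ↔
      ∃ B' : Subobject B, (∀ k : ℕ, 0 < k → Epi (k • 𝟙 (B' : V))) ∧
        ∃ M : ℕ, 0 < M ∧ M • 𝟙 (cokernel B'.arrow) = 0) ∧
    (∀ B' : Subobject B, (∀ k : ℕ, 0 < k → Epi (k • 𝟙 (B' : V))) →
      (∃ M : ℕ, 0 < M ∧ M • 𝟙 (cokernel B'.arrow) = 0) →
      ∀ D : Subobject B, (∀ k : ℕ, 0 < k → Epi (k • 𝟙 (D : V))) → D ≤ B') := by
  refine ⟨⟨?_, ?_⟩, ?_⟩
  · -- Mittag-Leffler ⇒ existence of the divisible part
    intro hML
    obtain ⟨m, hm0, -, hm⟩ := hML 1 Nat.one_pos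
    simp only [Nat.div_one] at hm
    refine ⟨imageSubobject (m • 𝟙 B), ?_, m, hm0, ?_⟩
    · intro k hk
      rw [epi_iff_surjective_up_to_refinements]
      intro A y
      have hfac : (imageSubobject ((m * k) • 𝟙 B)).Factors
          (y ≫ (imageSubobject (m • 𝟙 B)).arrow) := by
        rw [hm (m * k) (Nat.mul_pos hm0 hk) (Dvd.intro k rfl)]
        exact Subobject.factors_comp_arrow y
      obtain ⟨A', π, hπ, z, hz⟩ := surjective_up_to_refinements_of_epi
        (factorThruImageSubobject ((m * k) • 𝟙 B))
        ((imageSubobject ((m * k) • 𝟙 B)).factorThru _ hfac)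
      refine ⟨A', π, hπ, z ≫ factorThruImageSubobject (m • 𝟙 B), ?_⟩
      rw [← cancel_mono (imageSubobject (m • 𝟙 B)).arrow]
      have e1 : π ≫ y ≫ (imageSubobject (m • 𝟙 B)).arrow = z ≫ ((m * k) • 𝟙 B) := by
        rw [← Subobject.factorThru_arrow _ _ hfac, ← Category.assoc, hz, Category.assoc,
          imageSubobject_arrow_comp]
      have e2 : ((z ≫ factorThruImageSubobject (m • 𝟙 B)) ≫
          (k • 𝟙 ((imageSubobject (m • 𝟙 B) : Subobject B) : V))) ≫
            (imageSubobject (m • 𝟙 B)).arrow = k • (m • z) := by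
        rw [Category.assoc, Category.assoc, Preadditive.nsmul_comp, Category.id_comp,
          Preadditive.comp_nsmul, Preadditive.comp_nsmul, imageSubobject_arrow_comp,
          Preadditive.comp_nsmul, Category.comp_id]
      rw [Category.assoc, e1, e2, Preadditive.comp_nsmul, Category.comp_id, mul_nsmul]
    · have e3 : (m • 𝟙 B) ≫ cokernel.π (imageSubobject (m • 𝟙 B)).arrow = 0 := by
        calc (m • 𝟙 B) ≫ cokernel.π (imageSubobject (m • 𝟙 B)).arrow
            = (factorThruImageSubobject (m • 𝟙 B) ≫ (imageSubobject (m • 𝟙 B)).arrow) ≫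
                cokernel.π (imageSubobject (m • 𝟙 B)).arrow := by
              rw [imageSubobject_arrow_comp]
          _ = 0 := by rw [Category.assoc, cokernel.condition, comp_zero]
      rw [← cancel_epi (cokernel.π (imageSubobject (m • 𝟙 B)).arrow), comp_zero,
        Preadditive.comp_nsmul, Category.comp_id,
        ← Category.id_comp (cokernel.π (imageSubobject (m • 𝟙 B)).arrow),
        ← Preadditive.nsmul_comp, e3]
  · -- existence of the divisible part ⇒ Mittag-Leffler
    rintro ⟨B', hdiv, M, hM0, hM⟩ n hn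
    refine ⟨n * M, Nat.mul_pos hn hM0, Dvd.intro M rfl, ?_⟩
    intro m' hm' hdvd
    obtain ⟨j, rfl⟩ := hdvd
    have hj : 0 < j := by
      rcases Nat.eq_zero_or_pos j with h | h
      · subst h; simp at hm'
      · exact h
    have e1 : n * M * j / n = M * j := by
      rw [mul_assoc, Nat.mul_div_cancel_left _ hn]
    have e2 : n * M / n = M * 1 := by
      rw [Nat.mul_div_cancel_left _ hn, mul_one]
    rw [e1, e2, image_eq_of_divisible B B' hdiv M hM j hj hM0,
      image_eq_of_divisible B B' hdiv M hM 1 Nat.one_pos hM0]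
  · rintro B' hdiv ⟨M, hM0, hM⟩ D hD
    exact le_of_divisible B B' M hM0 hM D hD

end Groth.Agent.S14497
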