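import Groth.Statements.S14498
import Mathlib.CategoryTheory.Abelian.Refinements
-- import your own Groth.Agent.* helpers here

set_option autoImplicit false
universe v u
open AbDiag

namespace Groth.Agent.S14498

open CategoryTheory CategoryTheory.Limits in
/-- In an abelian category, let 0 → F → W → E' → 0 (maps a, b) and 0 → E → W → F' → G → G' → 0 (maps c,
d, e, g) be exact sequences such that the composite F → W → F' is a monomorphism. Then the composite
E → W → E' is a monomorphism, and there is a short exact sequence 0 → Coker(E → E') → Coker(F → F')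
→ Ker(G → G') → 0 whose first map is induced by d (through the quotient map b) and whose second map
is induced by e. -/
theorem result
    {V : Type u} [Category.{v} V] [Abelian V] {F W E' E F' G G' : V}
    (a : F ⟶ W) (b : W ⟶ E') (c : E ⟶ W) (d : W ⟶ F') (e : F' ⟶ G) (g : G ⟶ G')
    [Mono a] [Epi b] (wab : a ≫ b = 0) (hab : (ShortComplex.mk a b wab).Exact)
    [Mono c] (wcd : c ≫ d = 0) (hcd : (ShortComplex.mk c d wcd).Exact)
    (wde : d ≫ e = 0) (hde : (ShortComplex.mk d e wde).Exact)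
    (weg : e ≫ g = 0) (heg : (ShortComplex.mk e g weg).Exact) [Epi g]
    (hmono : Mono (a ≫ d)) :
    Mono (c ≫ b) ∧
      ∃ (φ : cokernel (c ≫ b) ⟶ cokernel (a ≫ d)) (ψ : cokernel (a ≫ d) ⟶ kernel g)
        (w : φ ≫ ψ = 0),
        b ≫ cokernel.π (c ≫ b) ≫ φ = d ≫ cokernel.π (a ≫ d) ∧
        cokernel.π (a ≫ d) ≫ ψ ≫ kernel.ι g = e ∧
        (ShortComplex.mk φ ψ w).ShortExact := by
  -- Step 1: `c ≫ b` is a monomorphism.
  have hcb : Mono (c ≫ b) := by
    rw [Preadditive.mono_iff_cancel_zero]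
    intro T x hx
    rw [← Category.assoc] at hx
    obtain ⟨T', π, hπ, y, hy⟩ := hab.exact_up_to_refinements (x ≫ c) hx
    dsimp at y hy
    have hy0 : y = 0 := by
      rw [← cancel_mono (a ≫ d), zero_comp, ← Category.assoc, ← hy, Category.assoc,
        Category.assoc, wcd, comp_zero, comp_zero]
    rw [hy0, zero_comp] at hy
    rw [← cancel_epi π, comp_zero, ← cancel_mono c, zero_comp, Category.assoc, hy]
  refine ⟨hcb, ?_⟩
  -- `b` is a cokernel of `a`
  have hbcok : IsColimit (CokernelCofork.ofπ b wab) := hab.gIsCokernel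
  -- δ : E' ⟶ coker (a ≫ d)
  have hδ0 : a ≫ (d ≫ cokernel.π (a ≫ d)) = 0 := by
    rw [← Category.assoc, cokernel.condition]
  let δ : E' ⟶ cokernel (a ≫ d) := hbcok.desc (CokernelCofork.ofπ _ hδ0)
  have hδ : b ≫ δ = d ≫ cokernel.π (a ≫ d) :=
    hbcok.fac (CokernelCofork.ofπ _ hδ0) WalkingParallelPair.one
  have hδ1 : (c ≫ b) ≫ δ = 0 := by
    rw [Category.assoc, hδ, ← Category.assoc, wcd, zero_comp]
  let φ : cokernel (c ≫ b) ⟶ cokernel (a ≫ d) := cokernel.desc (c ≫ b) δ hδ1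
  have hφ : cokernel.π (c ≫ b) ≫ φ = δ := cokernel.π_desc _ _ _
  -- ē : coker (a ≫ d) ⟶ G
  have he0 : (a ≫ d) ≫ e = 0 := by rw [Category.assoc, wde, comp_zero]
  let ebar : cokernel (a ≫ d) ⟶ G := cokernel.desc (a ≫ d) e he0
  have hebar : cokernel.π (a ≫ d) ≫ ebar = e := cokernel.π_desc _ _ _
  have hebarg : ebar ≫ g = 0 := by
    rw [← cancel_epi (cokernel.π (a ≫ d)), ← Category.assoc, hebar, weg, comp_zero]
  let ψ : cokernel (a ≫ d) ⟶ kernel g := kernel.lift g ebar hebarg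
  have hψ : ψ ≫ kernel.ι g = ebar := kernel.lift_ι _ _ _
  have h1 : b ≫ cokernel.π (c ≫ b) ≫ φ = d ≫ cokernel.π (a ≫ d) := by
    rw [hφ, hδ]
  have h2 : cokernel.π (a ≫ d) ≫ ψ ≫ kernel.ι g = e := by
    rw [hψ, hebar]
  have w : φ ≫ ψ = 0 := by
    rw [← cancel_mono (kernel.ι g), zero_comp, ← cancel_epi (cokernel.π (c ≫ b)),
      ← cancel_epi b, comp_zero, comp_zero, Category.assoc]
    rw [← Category.assoc (cokernel.π (c ≫ b)), ← Category.assoc b, ← Category.assoc b,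
      Category.assoc b, h1, Category.assoc, h2, wde]
  refine ⟨φ, ψ, w, h1, h2, ?_⟩
  -- Mono φ
  have hφmono : Mono φ := by
    rw [Preadditive.mono_iff_cancel_zero]
    intro T x hx
    obtain ⟨T₁, π₁, hπ₁, x₁, hx₁⟩ :=
      surjective_up_to_refinements_of_epi (b ≫ cokernel.π (c ≫ b)) x
    -- x₁ : T₁ ⟶ W with π₁ ≫ x = x₁ ≫ b ≫ π
    have hx₁d : (x₁ ≫ d) ≫ cokernel.π (a ≫ d) = 0 := by
      rw [Category.assoc, ← h1, ← Category.assoc b, ← Category.assoc x₁, ← hx₁, Category.assoc,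
        hx, comp_zero]
    obtain ⟨T₂, π₂, hπ₂, f, hf⟩ :=
      (CokernelCofork.IsColimit.comp_π_eq_zero_iff_up_to_refinements
        (cokernelIsCokernel (a ≫ d)) (x₁ ≫ d)).1 hx₁d
    -- f : T₂ ⟶ F with π₂ ≫ x₁ ≫ d = f ≫ a ≫ d
    have hker : (π₂ ≫ x₁ - f ≫ a) ≫ d = 0 := by
      rw [Preadditive.sub_comp, Category.assoc, Category.assoc, hf, sub_self]
    obtain ⟨T₃, π₃, hπ₃, y, hy⟩ := hcd.exact_up_to_refinements _ hker
    dsimp at y hy
    have hfin : (π₃ ≫ π₂ ≫ π₁) ≫ x = 0 := by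
      have e1 : π₃ ≫ π₂ ≫ x₁ = y ≫ c + π₃ ≫ f ≫ a := by
        rw [← hy, Preadditive.comp_sub, sub_add_cancel]
      calc (π₃ ≫ π₂ ≫ π₁) ≫ x = π₃ ≫ π₂ ≫ (π₁ ≫ x) := by simp only [Category.assoc]
        _ = π₃ ≫ π₂ ≫ (x₁ ≫ b ≫ cokernel.π (c ≫ b)) := by rw [hx₁]
        _ = (π₃ ≫ π₂ ≫ x₁) ≫ b ≫ cokernel.π (c ≫ b) := by simp only [Category.assoc]
        _ = (y ≫ c + π₃ ≫ f ≫ a) ≫ b ≫ cokernel.π (c ≫ b) := by rw [e1]
        _ = y ≫ ((c ≫ b) ≫ cokernel.π (c ≫ b)) + π₃ ≫ f ≫ (a ≫ b) ≫ cokernel.π (c ≫ b) := by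
            simp only [Preadditive.add_comp, Category.assoc]
        _ = 0 := by rw [cokernel.condition, wab, zero_comp, comp_zero, comp_zero, comp_zero,
              add_zero]
    have : Epi (π₃ ≫ π₂ ≫ π₁) := epi_comp' hπ₃ (epi_comp' hπ₂ hπ₁)
    rwa [← cancel_epi (π₃ ≫ π₂ ≫ π₁), comp_zero]
  -- Epi ψ
  have hψepi : Epi ψ := by
    rw [epi_iff_surjective_up_to_refinements]
    intro T z
    have hz : (z ≫ kernel.ι g) ≫ g = 0 := by rw [Category.assoc, kernel.condition, comp_zero]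
    obtain ⟨T₁, π₁, hπ₁, f', hf'⟩ := heg.exact_up_to_refinements _ hz
    dsimp at f' hf'
    refine ⟨T₁, π₁, hπ₁, f' ≫ cokernel.π (a ≫ d), ?_⟩
    rw [← cancel_mono (kernel.ι g), Category.assoc, hf', Category.assoc, Category.assoc, h2]
  -- exactness in the middle
  have hex : (ShortComplex.mk φ ψ w).Exact := by
    rw [ShortComplex.exact_iff_exact_up_to_refinements]
    intro T x hx
    dsimp at x hx
    obtain ⟨T₁, π₁, hπ₁, f', hf'⟩ :=
      surjective_up_to_refinements_of_epi (cokernel.π (a ≫ d)) x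
    have hf'e : f' ≫ e = 0 := by
      rw [← h2, ← Category.assoc, ← hf', Category.assoc, ← Category.assoc x, hx, zero_comp,
        comp_zero]
    obtain ⟨T₂, π₂, hπ₂, w', hw'⟩ := hde.exact_up_to_refinements f' hf'e
    dsimp at w' hw'
    refine ⟨T₂, π₂ ≫ π₁, epi_comp' hπ₂ hπ₁, w' ≫ b ≫ cokernel.π (c ≫ b), ?_⟩
    dsimp
    rw [Category.assoc, Category.assoc, Category.assoc, h1, hf', ← Category.assoc, hw',
      Category.assoc]
  exact { exact := hex, mono_f := hφmono, epi_g := hψepi }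

end Groth.Agent.S14498
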