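import Groth.Statements.S14504
import Mathlib

set_option autoImplicit false
universe u
open IntTh

namespace Groth.Agent.S14504

namespace S14504aux

open Matrix

variable {K : Type*} [Field K] {n d : ℕ}

section general
variable (V : ℕ → Submodule K (Fin n → K))
  (hV : ∀ (j : ℕ) (v : Fin n → K), v ∈ V j ↔ ∀ l : Fin n, j ≤ (l : ℕ) → v l = 0)
  (W : Submodule K (Fin n → K))

/-- r j = dim (W ∩ V_j) -/
noncomputable def r (j : ℕ) : ℕ := Module.finrank K ↥(W ⊓ V j)

include hV

lemma V_mono {j j' : ℕ} (h : j ≤ j') : V j ≤ V j' := by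
  intro v hv
  rw [hV] at hv ⊢
  exact fun l hl => hv l (h.trans hl)

lemma r_mono {j j' : ℕ} (h : j ≤ j') : r V W j ≤ r V W j' :=
  Submodule.finrank_mono (inf_le_inf_left W (V_mono V hV h))

lemma r_zero : r V W 0 = 0 := by
  have h0 : V 0 = ⊥ := by
    rw [eq_bot_iff]; intro v hv; rw [hV] at hv
    rw [Submodule.mem_bot]; funext l; exact hv l (Nat.zero_le _)
  unfold r; rw [h0, inf_bot_eq]; exact finrank_bot K _

lemma r_top (j : ℕ) (hj : n ≤ j) : r V W j = Module.finrank K ↥W := by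
  have h0 : V j = ⊤ := by
    rw [eq_top_iff]; intro v _; rw [hV]; intro l hl
    exact absurd (hj.trans hl) (not_le.mpr l.2)
  unfold r; rw [h0, inf_top_eq]

lemma r_succ_le (j : ℕ) : r V W (j + 1) ≤ r V W j + 1 := by
  by_cases hj : n ≤ j
  · rw [r_top V hV W j hj, r_top V hV W (j + 1) (by omega)]; omega
  · push_neg at hj
    obtain ⟨H, hH⟩ : ∃ H : Submodule K (Fin n → K),
      H = LinearMap.ker (LinearMap.proj (R := K) (φ := fun _ : Fin n => K) ⟨j, hj⟩) := ⟨_, rfl⟩
    have hinf : (W ⊓ V (j + 1)) ⊓ H = W ⊓ V j := by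
      ext v
      simp only [Submodule.mem_inf, hH, LinearMap.mem_ker, LinearMap.proj_apply, hV]
      constructor
      · rintro ⟨⟨hw, h1⟩, h0⟩
        refine ⟨hw, fun l hl => ?_⟩
        rcases Nat.eq_or_lt_of_le hl with h | h
        · have : l = ⟨j, hj⟩ := Fin.ext h.symm
          rw [this]; exact h0
        · exact h1 l h
      · rintro ⟨hw, h1⟩
        exact ⟨⟨hw, fun l hl => h1 l (by omega)⟩, h1 ⟨j, hj⟩ le_rfl⟩
    have hHrank : Module.finrank K ↥H + 1 = n := by
      have h1 := LinearMap.finrank_range_add_finrank_ker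
        (LinearMap.proj (R := K) (φ := fun _ : Fin n => K) ⟨j, hj⟩)
      have h2 : LinearMap.range (LinearMap.proj (R := K) (φ := fun _ : Fin n => K) ⟨j, hj⟩) = ⊤ :=
        LinearMap.range_eq_top.mpr (LinearMap.proj_surjective _)
      rw [h2, finrank_top, Module.finrank_self, Module.finrank_fin_fun, ← hH] at h1
      omega
    have h3 := Submodule.finrank_sup_add_finrank_inf_eq (W ⊓ V (j + 1)) H
    have h4 : Module.finrank K ↥((W ⊓ V (j + 1)) ⊔ H) ≤ n := by
      have := Submodule.finrank_le ((W ⊓ V (j + 1)) ⊔ H)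
      rwa [Module.finrank_fin_fun] at this
    rw [hinf] at h3
    unfold r
    omega

lemma exists_jump (w : Fin n → K) (hw : w ∈ W) (hw0 : w ≠ 0) :
    ∃ j : Fin n, w j ≠ 0 ∧ r V W ((j : ℕ) + 1) = r V W j + 1 := by
  classical
  have hne : (Finset.univ.filter (fun l : Fin n => w l ≠ 0)).Nonempty := by
    by_contra h
    rw [Finset.not_nonempty_iff_eq_empty] at h
    apply hw0; funext l
    show w l = 0
    by_contra hl
    have : l ∈ Finset.univ.filter (fun l : Fin n => w l ≠ 0) := by simp [hl]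
    rw [h] at this; simp at this
  obtain ⟨j, hj⟩ : ∃ j, j = (Finset.univ.filter (fun l : Fin n => w l ≠ 0)).max' hne := ⟨_, rfl⟩
  have hjmem : j ∈ Finset.univ.filter (fun l : Fin n => w l ≠ 0) := hj ▸ Finset.max'_mem _ _
  have hwj : w j ≠ 0 := (Finset.mem_filter.mp hjmem).2
  have hgt : ∀ l : Fin n, j < l → w l = 0 := by
    intro l hl
    by_contra h
    have hmem : l ∈ Finset.univ.filter (fun l : Fin n => w l ≠ 0) := by simp [h]
    have := Finset.le_max' _ l hmem
    rw [← hj] at this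
    exact absurd hl (not_lt.mpr this)
  refine ⟨j, hwj, ?_⟩
  have hlt : W ⊓ V j < W ⊓ V ((j : ℕ) + 1) := by
    refine lt_of_le_of_ne (inf_le_inf_left W (V_mono V hV (Nat.le_succ _))) ?_
    intro heq
    have hmem : w ∈ W ⊓ V ((j : ℕ) + 1) := by
      refine ⟨hw, (hV _ _).mpr fun l hl => hgt l ?_⟩
      exact Fin.lt_def.mpr (by omega)
    rw [← heq] at hmem
    exact hwj ((hV _ _).mp hmem.2 j le_rfl)
  have h1 := Submodule.finrank_lt_finrank_of_lt hlt
  have h2 := r_succ_le V hV W j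
  unfold r at h2 ⊢
  omega

end general

section main
variable (V : ℕ → Submodule K (Fin n → K))
  (hV : ∀ (j : ℕ) (v : Fin n → K), v ∈ V j ↔ ∀ l : Fin n, j ≤ (l : ℕ) → v l = 0)
  (A : Matrix (Fin d) (Fin n) K)

abbrev Wsp (A : Matrix (Fin d) (Fin n) K) : Submodule K (Fin n → K) :=
  Submodule.span K (Set.range fun i : Fin d => A i)

lemma comb_apply (c : Fin d → K) (l : Fin n) : (∑ i, c i • A i) l = ∑ i, c i * A i l := by
  simp [Finset.sum_apply]

lemma vecMul_sub (c : Fin d → K) (J : Fin d → Fin n) (k : Fin d) :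
    (c ᵥ* A.submatrix id J) k = (∑ i, c i • A i) (J k) := by
  rw [comb_apply]; simp [Matrix.vecMul, dotProduct]

include hV in
lemma forward (D : Fin d → ℕ)
    (h : ∀ i : Fin d, (i : ℕ) + 1 ≤ Module.finrank K ↥(Wsp A ⊓ V (D i)))
    (J : Fin d → Fin n) (hJ : StrictMono J) (i₀ : Fin d) (hi₀ : D i₀ ≤ (J i₀ : ℕ)) :
    (A.submatrix id J).det = 0 := by
  classical
  obtain ⟨ψ, hψ⟩ : ∃ ψ : ↥(Wsp A ⊓ V (D i₀)) →ₗ[K] (Fin (i₀ : ℕ) → K),
      ψ = LinearMap.pi (fun k : Fin (i₀ : ℕ) =>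
        (LinearMap.proj (R := K) (φ := fun _ : Fin n => K) (J ⟨k, k.2.trans i₀.2⟩)) ∘ₗ
          (Wsp A ⊓ V (D i₀)).subtype) := ⟨_, rfl⟩
  have hψa : ∀ w k, ψ w k = w.1 (J ⟨k, k.2.trans i₀.2⟩) := fun w k => by rw [hψ]; rfl
  have hlt : Module.finrank K (Fin (i₀ : ℕ) → K) <
      Module.finrank K ↥(Wsp A ⊓ V (D i₀)) := by
    rw [Module.finrank_fin_fun]; exact h i₀
  have hker := LinearMap.ker_ne_bot_of_finrank_lt (f := ψ) hlt
  obtain ⟨w, hwker, hw0⟩ := Submodule.exists_mem_ne_zero_of_ne_bot hker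
  obtain ⟨c, hc⟩ := (Submodule.mem_span_range_iff_exists_fun K).mp w.2.1
  have hc' : ∑ i, c i • A i = w.1 := hc
  have hc0 : c ≠ 0 := by
    rintro rfl
    apply hw0
    apply Subtype.ext
    rw [← hc']; simp
  refine Matrix.exists_vecMul_eq_zero_iff.mp ⟨c, hc0, ?_⟩
  funext k
  rw [vecMul_sub, hc', Pi.zero_apply]
  by_cases hk : (k : ℕ) < i₀
  · have := congrFun (LinearMap.mem_ker.mp hwker) ⟨k, hk⟩
    rw [hψa] at this
    exact this
  · push_neg at hk
    have h1 : J i₀ ≤ J k := hJ.monotone (Fin.le_def.mpr hk)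
    exact (hV _ _).mp w.2.2 (J k) (hi₀.trans (Fin.le_def.mp h1))

include hV in
lemma backward (hA : LinearIndependent K (fun i : Fin d => A i)) (hdn : d ≤ n) (D : Fin d → ℕ)
    (h : ∀ J : Fin d → Fin n, StrictMono J → (∃ i : Fin d, D i < (J i : ℕ) + 1) →
      (A.submatrix id J).det = 0) :
    ∀ i : Fin d, (i : ℕ) + 1 ≤ Module.finrank K ↥(Wsp A ⊓ V (D i)) := by
  classical
  have hrn : r V (Wsp A) n = d := by
    rw [r_top V hV (Wsp A) n le_rfl, finrank_span_eq_card hA, Fintype.card_fin]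
  have hex : ∀ i : Fin d, ∃ j, (i : ℕ) + 1 ≤ r V (Wsp A) (j + 1) := by
    intro i
    refine ⟨n - 1, ?_⟩
    have : n - 1 + 1 = n := by have := i.2; omega
    rw [this, hrn]; exact i.2
  obtain ⟨J₀, hJ₀⟩ : ∃ J₀ : Fin d → ℕ, J₀ = fun i => Nat.find (hex i) := ⟨_, rfl⟩
  have hspec : ∀ i : Fin d, (i : ℕ) + 1 ≤ r V (Wsp A) (J₀ i + 1) := by
    intro i; rw [hJ₀]; exact Nat.find_spec (hex i)
  have hlt : ∀ i : Fin d, J₀ i < n := by
    intro i
    have h1 : J₀ i ≤ n - 1 := by
      rw [hJ₀]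
      refine Nat.find_min' (hex i) ?_
      have : n - 1 + 1 = n := by have := i.2; omega
      rw [this, hrn]; exact i.2
    have := i.2; omega
  have hupper : ∀ i : Fin d, r V (Wsp A) (J₀ i + 1) ≤ (i : ℕ) + 1 := by
    intro i
    rcases Nat.eq_zero_or_pos (J₀ i) with h0 | hpos
    · rw [h0]
      have := r_succ_le V hV (Wsp A) 0
      rw [r_zero V hV (Wsp A)] at this
      omega
    · obtain ⟨j', hj'⟩ : ∃ j', J₀ i = j' + 1 := ⟨J₀ i - 1, by omega⟩
      have hmin : ¬ ((i : ℕ) + 1 ≤ r V (Wsp A) (j' + 1)) := by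
        have : j' < Nat.find (hex i) := by
          have : J₀ i = Nat.find (hex i) := by rw [hJ₀]
          omega
        exact Nat.find_min (hex i) this
      have := r_succ_le V hV (Wsp A) (J₀ i)
      rw [hj'] at this ⊢
      omega
  have hmono : ∀ i i' : Fin d, i < i' → J₀ i < J₀ i' := by
    intro i i' hii'
    by_contra hcon
    push_neg at hcon
    have h1 := r_mono V hV (Wsp A) (show J₀ i' + 1 ≤ J₀ i + 1 by omega)
    have h2 := hupper i
    have h3 := hspec i'
    have : (i : ℕ) < i' := hii'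
    omega
  obtain ⟨J, hJ⟩ : ∃ J : Fin d → Fin n, J = fun i => ⟨J₀ i, hlt i⟩ := ⟨_, rfl⟩
  have hJval : ∀ i, ((J i : Fin n) : ℕ) = J₀ i := fun i => by rw [hJ]
  have hJmono : StrictMono J := by
    intro i i' hii'
    rw [Fin.lt_def, hJval, hJval]
    exact hmono i i' hii'
  have hdet : (A.submatrix id J).det ≠ 0 := by
    intro h0
    obtain ⟨c, hc0, hc⟩ := Matrix.exists_vecMul_eq_zero_iff.mpr h0
    obtain ⟨w, hw⟩ : ∃ w : Fin n → K, w = ∑ i, c i • A i := ⟨_, rfl⟩
    have hwW : w ∈ Wsp A := by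
      rw [hw]
      exact Submodule.sum_mem _ fun i _ =>
        Submodule.smul_mem _ _ (Submodule.subset_span ⟨i, rfl⟩)
    have hw0 : w ≠ 0 := by
      intro hzero
      apply hc0
      funext i
      exact Fintype.linearIndependent_iff.mp hA c (by rw [← hw]; exact hzero) i
    have hwJ : ∀ k, w (J k) = 0 := by
      intro k
      have := congrFun hc k
      rw [vecMul_sub, ← hw] at this
      exact this
    obtain ⟨j, hwj, hjump⟩ := exists_jump V hV (Wsp A) w hwW hw0
    have hjn : (j : ℕ) + 1 ≤ n := j.2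
    have hi : r V (Wsp A) j < d := by
      have := r_mono V hV (Wsp A) hjn
      rw [hrn] at this
      omega
    have hfind : J₀ ⟨r V (Wsp A) j, hi⟩ = j := by
      rw [hJ₀]
      refine (Nat.find_eq_iff _).mpr ⟨?_, fun j' hj' => ?_⟩
      · show r V (Wsp A) j + 1 ≤ r V (Wsp A) ((j : ℕ) + 1)
        omega
      · show ¬ (r V (Wsp A) j + 1 ≤ r V (Wsp A) (j' + 1))
        have := r_mono V hV (Wsp A) (show j' + 1 ≤ (j : ℕ) by omega)
        omega
    have hJj : J ⟨r V (Wsp A) j, hi⟩ = j := Fin.ext (by rw [hJval, hfind])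
    exact hwj (hJj ▸ hwJ _)
  intro i
  have hi : (J i : ℕ) + 1 ≤ D i := by
    by_contra hcon
    push_neg at hcon
    exact hdet (h J hJmono ⟨i, hcon⟩)
  have h1 := r_mono V hV (Wsp A) hi
  have h2 := hspec i
  rw [hJval] at h1
  unfold r at h1 h2
  omega

end main

end S14504aux

/-- Let K be a field, d ≤ n, λ = (λ₁ ≥ ⋯ ≥ λ_d) a non-increasing sequence of natural numbers, d_i = n −
d + i − λ_i, and V_j ⊆ K^n the span of the first j standard basis vectors. For a d × n matrix A over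
K with linearly independent rows spanning the subspace W: one has dim(W ∩ V_{d_i}) ≥ i for every i =
1, …, d if and only if every d × d minor of A taken on strictly increasing columns j₁ < ⋯ < j_d
(1-indexed) with j_i > d_i for some i vanishes. (Indices are 0-based in the formal statement: row i
: Fin d stands for i + 1 and column l : Fin n for l + 1.) -/
theorem result (K : Type u) [Field K] (n d : ℕ)
    (hdn : d ≤ n) (V : ℕ → Submodule K (Fin n → K))
    (hV : ∀ (j : ℕ) (v : Fin n → K), v ∈ V j ↔ ∀ l : Fin n, j ≤ (l : ℕ) → v l = 0)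
    (lam : Fin d → ℕ) (hlam : Antitone lam) (A : Matrix (Fin d) (Fin n) K)
    (hA : LinearIndependent K (fun i : Fin d => A i)) :
    (∀ i : Fin d, (i : ℕ) + 1 ≤
        Module.finrank K ↥(Submodule.span K (Set.range fun i : Fin d => A i) ⊓
          V (n - d + ((i : ℕ) + 1) - lam i))) ↔
      ∀ J : Fin d → Fin n, StrictMono J →
        (∃ i : Fin d, n - d + ((i : ℕ) + 1) - lam i < (J i : ℕ) + 1) →
          (A.submatrix id J).det = 0 := by
  constructor
  · intro h J hJ hex
    obtain ⟨i₀, hi₀⟩ := hex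
    exact S14504aux.forward V hV A (fun i => n - d + ((i : ℕ) + 1) - lam i) h J hJ i₀ (by omega)
  · intro h
    exact S14504aux.backward V hV A hA hdn (fun i => n - d + ((i : ℕ) + 1) - lam i) h

end Groth.Agent.S14504
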