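import Groth.Statements.S1451
import Groth.Agent.Lib.Helper8.UnramDichotomySch

set_option autoImplicit false
universe u
open FlatMor

namespace Groth.Agent.S1451

open AlgebraicGeometry CategoryTheory Limits in
/-- Let Y be integral and f : X → Y locally of finite type; let x be a point such that the local ring of
Y at f x is geometrically unibranch, f is unramified on an open neighbourhood of x, and some
generization of x maps to the generic point of Y. Then f is étale on an open neighbourhood of x. -/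
theorem result {X Y : Scheme.{u}} (f : X ⟶ Y) [IsIntegral Y] [LocallyOfFiniteType f] (x : X)
    (hY : CAlg2.IsGeomUnibranch (Y.presheaf.stalk (f x))) (hsp : ∃ x' : X, x' ⤳ x ∧ f x' = genericPoint ↑Y)
    (hunr : ∃ U : X.Opens, x ∈ U ∧ FormallyUnramified (U.ι ≫ f)) :
    ∃ U : X.Opens, x ∈ U ∧ Etale (U.ι ≫ f) := by
  obtain ⟨x', hx'x, hx'η⟩ := hsp
  obtain ⟨W, V, hW, hV, hVW, hxV, hunr'⟩ :=
    Groth.Agent.Lib.Helper8.EtaleAffineNhd.exists_affine_unramified_appLE f x hunr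
  have hyW : f.base x ∈ W := hVW hxV
  haveI : Nonempty W := ⟨⟨f.base x, hyW⟩⟩
  have hft : (f.appLE W V hVW).hom.FiniteType := f.finiteType_appLE hW hV hVW
  letI algAC : Algebra Γ(Y, W) Γ(X, V) := (f.appLE W V hVW).hom.toAlgebra
  haveI : Algebra.FiniteType Γ(Y, W) Γ(X, V) := hft
  haveI : Algebra.FormallyUnramified Γ(Y, W) Γ(X, V) := hunr'
  letI algA : Algebra Γ(Y, W) (Y.presheaf.stalk (f.base x)) :=
    Y.presheaf.algebra_section_stalk ⟨f.base x, hyW⟩
  haveI := hW.isLocalization_stalk ⟨f.base x, hyW⟩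
  have hcomapx : ∀ (w : X) (hw : w ∈ V),
      ((hV.primeIdealOf ⟨w, hw⟩).asIdeal).under Γ(Y, W) =
        (hW.primeIdealOf ⟨f.base w, hVW hw⟩).asIdeal := by
    intro w hw
    exact congrArg PrimeSpectrum.asIdeal (IsAffineOpen.comap_primeIdealOf_appLE W hW V hV hVW hw)
  haveI : ((hV.primeIdealOf ⟨x, hxV⟩).asIdeal).LiesOver
      (hW.primeIdealOf ⟨f.base x, hyW⟩).asIdeal := ⟨(hcomapx x hxV).symm⟩
  rcases Groth.Agent.Lib.Helper8.UnramDichotomy.etale_or_no_generic_of_unramified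
    (hW.primeIdealOf ⟨f.base x, hyW⟩).asIdeal (hV.primeIdealOf ⟨x, hxV⟩).asIdeal
    (Y.presheaf.stalk (f.base x)) hY with ⟨g, hgQ, hg⟩ | ⟨g, hgQ, hg⟩
  · exact ⟨X.basicOpen g,
      (Groth.Agent.Lib.Helper8.EtaleAffineNhd.mem_basicOpen_iff_notMem_primeIdealOf hV g x hxV).mpr hgQ,
      Groth.Agent.Lib.Helper8.EtaleAffineNhd.etale_basicOpen_ι_comp f W hW V hV hVW g hg⟩
  · exfalso
    have hxg : x ∈ X.basicOpen g :=
      (Groth.Agent.Lib.Helper8.EtaleAffineNhd.mem_basicOpen_iff_notMem_primeIdealOf hV g x hxV).mpr hgQ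
    have hw : x' ∈ X.basicOpen g := hx'x.mem_open (X.basicOpen g).2 hxg
    have hwV : x' ∈ V := X.basicOpen_le g hw
    have hgw : g ∉ (hV.primeIdealOf ⟨x', hwV⟩).asIdeal :=
      (Groth.Agent.Lib.Helper8.EtaleAffineNhd.mem_basicOpen_iff_notMem_primeIdealOf hV g x' hwV).mp hw
    apply hg _ inferInstance hgw
    rw [hcomapx x' hwV]
    have hηW : genericPoint Y ∈ W := hx'η ▸ hVW hwV
    have : (⟨f.base x', hVW hwV⟩ : W) = ⟨genericPoint Y, hηW⟩ := Subtype.ext hx'η
    rw [this, hW.primeIdealOf_genericPoint, genericPoint_eq_bot_of_affine]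
    rfl

end Groth.Agent.S1451
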