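import Groth.Statements.S14511
-- import your own Groth.Agent.* helpers here

set_option autoImplicit false
universe u
open CAlgX

namespace Groth.Agent.S14511

/-- For an exponent vector `a` of total degree at most `r`, the alternating sum of the monomial
`x^a` evaluated at the points `δ_J` is `1` if `a = (1,…,1)` and `0` otherwise. -/
theorem alt_sum_monomial (R : Type u) [CommRing R] (r : ℕ) (a : Fin r →₀ ℕ)
    (ha : (a.sum fun _ e => e) ≤ r) :
    ∑ J : Finset (Fin r), (-1 : R) ^ J.card *
        ∏ i, (if i ∈ J then (-1 : R) else 0) ^ a i =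
      if a = ∑ i : Fin r, Finsupp.single i 1 then 1 else 0 := by
  classical
  have h1 : ∀ J : Finset (Fin r), (-1 : R) ^ J.card *
        ∏ i, (if i ∈ J then (-1 : R) else 0) ^ a i =
      (∏ i ∈ J, (-1 : R) ^ (a i + 1)) * ∏ i ∈ Jᶜ, (0 : R) ^ a i := by
    intro J
    rw [← Finset.prod_mul_prod_compl J (fun i => (if i ∈ J then (-1 : R) else 0) ^ a i)]
    rw [← mul_assoc]
    congr 1
    · rw [← Finset.prod_const, ← Finset.prod_mul_distrib]
      refine Finset.prod_congr rfl ?_
      intro i hi
      rw [if_pos hi, pow_succ, mul_comm]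
    · refine Finset.prod_congr rfl ?_
      intro i hi
      rw [if_neg (Finset.mem_compl.mp hi)]
  rw [Finset.sum_congr rfl (fun J _ => h1 J), ← Fintype.prod_add]
  split_ifs with h
  · subst h
    refine Finset.prod_eq_one ?_
    intro i _
    have : (∑ j : Fin r, Finsupp.single j 1 : Fin r →₀ ℕ) i = 1 := by
      simp [Finsupp.finsetSum_apply, Finsupp.single_apply]
    rw [this]
    norm_num
  · -- some coordinate of `a` is zero
    have hex : ∃ i, a i = 0 := by
      by_contra hne
      push Not at hne
      apply h
      have hsum : (a.sum fun _ e => e) = ∑ i, a i := by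
        rw [Finsupp.sum_fintype]
        intro i; rfl
      have hge : ∀ i, 1 ≤ a i := fun i => Nat.one_le_iff_ne_zero.mpr (hne i)
      have hall : ∀ i, a i = 1 := by
        by_contra hcon
        push Not at hcon
        obtain ⟨i₀, hi₀⟩ := hcon
        have hlt : ∑ i : Fin r, 1 < ∑ i, a i := by
          refine Finset.sum_lt_sum (fun i _ => hge i) ⟨i₀, Finset.mem_univ _, ?_⟩
          exact lt_of_le_of_ne (hge i₀) (Ne.symm hi₀)
        simp at hlt
        omega
      ext i
      simp [Finsupp.finsetSum_apply, Finsupp.single_apply, hall i]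
    obtain ⟨i, hi⟩ := hex
    refine Finset.prod_eq_zero (Finset.mem_univ i) ?_
    rw [hi]
    norm_num

/-- Let R be a commutative ring and P ∈ R[x_1, …, x_r] a polynomial of total degree at most r. Then the
coefficient of the monomial x_1 ⋯ x_r in P equals Σ_J (−1)^{|J|} P(δ_J), the sum over all subsets J
⊆ {1, …, r} (the empty one included), where δ_J is the point with coordinate −1 at the indices in J
and 0 at the others. -/
theorem result (R : Type u) [CommRing R] (r : ℕ)
    (P : MvPolynomial (Fin r) R) (hP : P.totalDegree ≤ r) :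
    MvPolynomial.coeff (∑ i : Fin r, Finsupp.single i 1) P =
      ∑ J : Finset (Fin r), (-1 : R) ^ J.card * MvPolynomial.eval (fun j => if j ∈ J then (-1 : R) else 0) P := by
  classical
  simp_rw [MvPolynomial.eval_eq', Finset.mul_sum]
  rw [Finset.sum_comm]
  have h2 : ∀ d ∈ P.support,
      ∑ J : Finset (Fin r), (-1 : R) ^ J.card *
        (MvPolynomial.coeff d P * ∏ i, (if i ∈ J then (-1 : R) else 0) ^ d i) =
      MvPolynomial.coeff d P * (if d = ∑ i : Fin r, Finsupp.single i 1 then 1 else 0) := by
    intro d hd
    rw [← alt_sum_monomial R r d ((MvPolynomial.le_totalDegree hd).trans hP), Finset.mul_sum]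
    refine Finset.sum_congr rfl ?_
    intro J _
    ring
  rw [Finset.sum_congr rfl h2]
  simp only [mul_ite, mul_one, mul_zero]
  rw [Finset.sum_ite_eq']
  split_ifs with h
  · rfl
  · exact MvPolynomial.notMem_support_iff.mp h

end Groth.Agent.S14511
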