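import Groth.Statements.S14514
-- import your own Groth.Agent.* helpers here
import Mathlib
import Groth.Agent.Lib.Helper12.FibreDim

set_option autoImplicit false
universe u
open CategoryTheory CategoryTheory.Limits AlgebraicGeometry
open Variety

namespace Groth.Agent.S14514

open Groth.Agent.Lib.Helper12 Groth.Agent.Lib.Helper12.SchemeDimFT
  Groth.Agent.Lib.Helper12.FibreRes in
theorem aux (k : Type u) [Field k] {X Y : Scheme.{u}} (q : Y ⟶ Spec (CommRingCat.of k))
    [LocallyOfFiniteType q] [QuasiSeparated q] [IrreducibleSpace Y]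
    (f : X ⟶ Y) [LocallyOfFiniteType f] [QuasiCompact (f ≫ q)] [IsDominant f] :
    ∃ Z : Set X, IsClosed Z ∧ IsIrreducible Z ∧ topologicalKrullDim ↥Z = topologicalKrullDim Y ∧
      Dense (f '' Z) := by
  letI : Y.Over (Spec (CommRingCat.of k)) := ⟨q⟩
  letI : X.Over (Spec (CommRingCat.of k)) := ⟨f ≫ q⟩
  haveI : LocallyOfFiniteType (Y ↘ Spec (CommRingCat.of k)) := ‹LocallyOfFiniteType q›
  haveI : LocallyOfFiniteType (X ↘ Spec (CommRingCat.of k)) :=
    inferInstanceAs (LocallyOfFiniteType (f ≫ q))
  haveI : QuasiCompact f := QuasiCompact.of_comp f q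
  have hηmax : IsMaxPt (genericPoint Y) := by
    intro y hy
    exact (hy.antisymm ((genericPoint_spec Y).specializes (Set.mem_univ y))).eq
  have hcomp : closure ({genericPoint Y} : Set Y) ∈ irreducibleComponents Y :=
    (closure_singleton_mem_irreducibleComponents_iff _).mpr hηmax
  obtain ⟨x0, hx0⟩ := GenImage.exists_preimage_of_generic f (genericPoint Y) hcomp
  letI ovF : (f.fiber (f x0)).Over (Spec (CommRingCat.of (Y.residueField (f x0)))) :=
    ⟨f.fiberToSpecResidueField (f x0)⟩
  haveI : LocallyOfFiniteType ((f.fiber (f x0)) ↘ Spec (CommRingCat.of (Y.residueField (f x0)))) :=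
    locallyOfFiniteType_fiberToSpecResidueField f (f x0)
  obtain ⟨z, -, hz⟩ := exists_isClosed_mem_of_isLocallyClosed (Y.residueField (f x0))
    (f.fiber (f x0)) Set.univ isClosed_univ.isLocallyClosed ⟨f.asFiber x0, trivial⟩
  have htrz := tr_eq_zero_of_isClosed (Y.residueField (f x0)) (f.fiber (f x0)) z hz
  have hadd := tr_fiber_add k q f (f x0) z
  rw [htrz, add_zero] at hadd
  have hfx : f (f.fiberι (f x0) z) = f x0 := by
    have : f.fiberι (f x0) z ∈ Set.range (f.fiberι (f x0)) := ⟨z, rfl⟩
    rw [f.range_fiberι (f x0)] at this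
    exact this
  refine ⟨closure {f.fiberι (f x0) z}, isClosed_closure, isIrreducible_singleton.closure, ?_, ?_⟩
  · rw [topologicalKrullDim_closure_singleton k X, hadd, hx0,
      topologicalKrullDim_eq_of_irreducible k Y (tr k Y (genericPoint Y))
        (tr_spec k Y (genericPoint Y))]
  · have h1 : genericPoint Y ∈ f '' closure {f.fiberι (f x0) z} :=
      ⟨f.fiberι (f x0) z, subset_closure rfl, hfx.trans hx0⟩
    have h2 : closure ({genericPoint Y} : Set Y) ⊆ closure (f '' closure {f.fiberι (f x0) z}) :=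
      closure_mono (Set.singleton_subset_iff.mpr h1)
    rw [(genericPoint_spec Y).def] at h2
    exact dense_iff_closure_eq.mpr (Set.eq_univ_of_univ_subset h2)

/-- Let k be an algebraically closed field and f : X → Y a morphism of algebraic varieties over k (X, Y
reduced, separated and of finite type over k) such that Y is irreducible and the image f(X) is dense
in Y. Then X contains an irreducible closed subset Z with dim Z = dim Y such that f(Z) is dense in
Y. -/
theorem result (k : Type u) [Field k] [IsAlgClosed k]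
    (X Y : Scheme.{u}) [X.Over (Spec (CommRingCat.of k))] [Y.Over (Spec (CommRingCat.of k))]
    [IsReduced X] [IsSeparated (X ↘ (Spec (CommRingCat.of k)))] [LocallyOfFiniteType (X ↘ (Spec (CommRingCat.of k)))] [QuasiCompact (X ↘ (Spec (CommRingCat.of k)))]
    [IsReduced Y] [IsSeparated (Y ↘ (Spec (CommRingCat.of k)))] [LocallyOfFiniteType (Y ↘ (Spec (CommRingCat.of k)))] [QuasiCompact (Y ↘ (Spec (CommRingCat.of k)))] [IrreducibleSpace Y]
    (f : X ⟶ Y) (hf : f ≫ (Y ↘ (Spec (CommRingCat.of k))) = (X ↘ (Spec (CommRingCat.of k)))) [IsDominant f] :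
    ∃ Z : Set X, IsClosed Z ∧ IsIrreducible Z ∧ topologicalKrullDim ↥Z = topologicalKrullDim Y ∧
      Dense (f '' Z) := by
  haveI : QuasiCompact (f ≫ (Y ↘ (Spec (CommRingCat.of k)))) := by
    rw [hf]; infer_instance
  haveI : LocallyOfFiniteType (f ≫ (Y ↘ (Spec (CommRingCat.of k)))) := by
    rw [hf]; infer_instance
  haveI : LocallyOfFiniteType f :=
    locallyOfFiniteType_of_comp f (Y ↘ (Spec (CommRingCat.of k)))
  exact aux k (Y ↘ (Spec (CommRingCat.of k))) f

end Groth.Agent.S14514
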