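import Groth.Statements.S14519
import Groth.Agent.Lib.Helper11.Birat6
import Groth.Agent.S4809
import Groth.Agent.S1182

set_option autoImplicit false
universe u
open CategoryTheory CategoryTheory.Limits AlgebraicGeometry
open Curves

namespace Groth.Agent.S14519

open TopologicalSpace in
/-- In an irreducible Noetherian T0 space of Krull dimension at most one, a proper closed subset is
finite. -/
theorem finite_of_isClosed_of_dim_le_one {T : Type*} [TopologicalSpace T] [T0Space T]
    [NoetherianSpace T] [IrreducibleSpace T]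
    (hdim : topologicalKrullDim T ≤ 1) {Z : Set T} (hZ : IsClosed Z) (hne : Z ≠ Set.univ) :
    Z.Finite := by
  have hdim' : Order.krullDim (IrreducibleCloseds T) ≤ 1 := hdim
  obtain ⟨S, hSf, hSc, hSi, rfl⟩ := NoetherianSpace.exists_finite_set_isClosed_irreducible hZ
  refine Set.Finite.sUnion hSf (fun C hC => ?_)
  apply Set.Subsingleton.finite
  rcases (Order.krullDim_le_one_iff.mp hdim')
    (⟨C, hSi C hC, hSc C hC⟩ : IrreducibleCloseds T) with hmin | hmax
  · have key : ∀ a ∈ C, ∀ b ∈ C, a ⤳ b := by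
      intro a ha b hb
      have hle : (⟨closure {a}, isIrreducible_singleton.closure, isClosed_closure⟩ :
          IrreducibleCloseds T) ≤ ⟨C, hSi C hC, hSc C hC⟩ := fun x hx =>
        (hSc C hC).closure_subset_iff.mpr (Set.singleton_subset_iff.mpr ha) hx
      have h2 := hmin hle
      exact specializes_iff_mem_closure.mpr (h2 hb)
    intro c₁ h₁ c₂ h₂
    exact ((key c₁ h₁ c₂ h₂).antisymm (key c₂ h₂ c₁ h₁)).eq
  · exfalso
    apply hne
    have hle : (⟨C, hSi C hC, hSc C hC⟩ : IrreducibleCloseds T) ≤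
        ⟨Set.univ, IrreducibleSpace.isIrreducible_univ T, isClosed_univ⟩ := fun x _ =>
      Set.mem_univ x
    have h2 := hmax hle
    exact Set.eq_univ_of_univ_subset
      (fun x _ => Set.mem_sUnion.mpr ⟨C, hC, h2 (Set.mem_univ x)⟩)

/-- The local rings of a scheme smooth over a field are integrally closed. -/
theorem isIntegrallyClosed_stalk_of_smooth_over_field (k : Type u) [Field k] (Y : Scheme.{u})
    (s : Y ⟶ Spec (CommRingCat.of k)) [Smooth s] (y : Y) :
    IsIntegrallyClosed (Y.presheaf.stalk y) := by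
  obtain ⟨V, hV, hyV⟩ : ∃ V : Y.Opens, IsAffineOpen V ∧ y ∈ V := by
    obtain ⟨_, ⟨V, hV, rfl⟩, hyV, -⟩ :=
      Y.isBasis_affineOpens.exists_subset_of_mem_open (Set.mem_univ y) isOpen_univ
    exact ⟨V, hV, hyV⟩
  have e : V ≤ s ⁻¹ᵁ ⊤ := fun x _ => Set.mem_univ (s.base x)
  have hsm : RingHom.Smooth (s.appLE ⊤ V e).hom :=
    HasRingHomProperty.appLE @Smooth s inferInstance ⟨⊤, isAffineOpen_top _⟩ ⟨V, hV⟩ e
  let eΓ : Γ(Spec (CommRingCat.of k), ⊤) ≃+* k :=
    (Scheme.ΓSpecIso (CommRingCat.of k)).commRingCatIsoToRingEquiv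
  haveI : IsDomain Γ(Spec (CommRingCat.of k), ⊤) := MulEquiv.isDomain k eΓ.toMulEquiv
  haveI : IsIntegrallyClosed Γ(Spec (CommRingCat.of k), ⊤) :=
    IsIntegrallyClosed.of_equiv eΓ.symm
  letI alg : Algebra Γ(Spec (CommRingCat.of k), ⊤) Γ(Y, V) := (s.appLE ⊤ V e).hom.toAlgebra
  haveI : Algebra.Smooth Γ(Spec (CommRingCat.of k), ⊤) Γ(Y, V) := hsm
  have hnorm : EGA4.IsNormalRing Γ(Y, V) :=
    Groth.Agent.Lib.Helper14.NormalSmoothAsc.isNormalRing_of_smooth_of_isIntegrallyClosed
      Γ(Spec (CommRingCat.of k), ⊤) Γ(Y, V)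
  haveI hpp : (hV.primeIdealOf ⟨y, hyV⟩).asIdeal.IsPrime := (hV.primeIdealOf ⟨y, hyV⟩).isPrime
  obtain ⟨hd, hic⟩ := hnorm (hV.primeIdealOf ⟨y, hyV⟩).asIdeal
  letI := Y.presheaf.algebra_section_stalk (⟨y, hyV⟩ : V)
  haveI := hV.isLocalization_stalk ⟨y, hyV⟩
  let eloc : Localization.AtPrime (hV.primeIdealOf ⟨y, hyV⟩).asIdeal ≃ₐ[Γ(Y, V)]
      Y.presheaf.stalk y :=
    IsLocalization.algEquiv (hV.primeIdealOf ⟨y, hyV⟩).asIdeal.primeCompl _ _
  exact IsIntegrallyClosed.of_equiv eloc.toRingEquiv

/-- Let k be an algebraically closed field and f : X → Y a birational morphism over k between smooth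
curves (X, Y integral, separated, of finite type and smooth over k, of dimension one; f sends the
generic point of X to that of Y and the induced map of function fields K(Y) → K(X) is bijective).
Then f is an open immersion. -/
theorem result (k : Type u) [Field k] [IsAlgClosed k]
    (X Y : Scheme.{u}) [X.Over (Spec (CommRingCat.of k))] [Y.Over (Spec (CommRingCat.of k))]
    [IsIntegral X] [IsSeparated (X ↘ (Spec (CommRingCat.of k)))] [LocallyOfFiniteType (X ↘ (Spec (CommRingCat.of k)))] [QuasiCompact (X ↘ (Spec (CommRingCat.of k)))] [Smooth (X ↘ (Spec (CommRingCat.of k)))] (hdimX : topologicalKrullDim X = 1)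
    [IsIntegral Y] [IsSeparated (Y ↘ (Spec (CommRingCat.of k)))] [LocallyOfFiniteType (Y ↘ (Spec (CommRingCat.of k)))] [QuasiCompact (Y ↘ (Spec (CommRingCat.of k)))] [Smooth (Y ↘ (Spec (CommRingCat.of k)))] (hdimY : topologicalKrullDim Y = 1)
    (f : X ⟶ Y) (hf : f ≫ (Y ↘ (Spec (CommRingCat.of k))) = (X ↘ (Spec (CommRingCat.of k))))
    (e : f (genericPoint X) = genericPoint Y)
    (hbir : Function.Bijective (Y.presheaf.stalkSpecializes (specializes_of_eq e) ≫ f.stalkMap (genericPoint X)).hom) :
    IsOpenImmersion f := by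

  haveI hcomp : IsIso (Y.presheaf.stalkSpecializes (specializes_of_eq e) ≫
      f.stalkMap (genericPoint X)) := (ConcreteCategory.isIso_iff_bijective _).mpr hbir
  haveI hsp : IsIso (Y.presheaf.stalkSpecializes (specializes_of_eq e)) :=
    Groth.Agent.Lib.Helper11.Birat6.isIso_stalkSpecializes_of_eq e _
  have hbiso : IsIso (f.stalkMap (genericPoint X)) :=
    @IsIso.of_isIso_comp_left _ _ _ _ _ _ _ hsp hcomp
  haveI : LocallyOfFiniteType f := by
    haveI : LocallyOfFiniteType (f ≫ (Y ↘ Spec (CommRingCat.of k))) := by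
      rw [hf]; infer_instance
    exact locallyOfFiniteType_of_comp f (Y ↘ Spec (CommRingCat.of k))
  haveI : IsSeparated f := by
    haveI : IsSeparated (f ≫ (Y ↘ Spec (CommRingCat.of k))) := by rw [hf]; infer_instance
    exact IsSeparated.of_comp f (Y ↘ Spec (CommRingCat.of k))
  haveI : QuasiCompact f := by
    haveI : QuasiCompact (f ≫ (Y ↘ Spec (CommRingCat.of k))) := by rw [hf]; infer_instance
    exact QuasiCompact.of_comp f (Y ↘ Spec (CommRingCat.of k))
  haveI : IsLocallyNoetherian X :=
    LocallyOfFiniteType.isLocallyNoetherian (X ↘ Spec (CommRingCat.of k))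
  haveI : CompactSpace X :=
    QuasiCompact.compactSpace_of_compactSpace (X ↘ Spec (CommRingCat.of k))
  haveI : IsNoetherian X := {}
  have hN : ∀ y : Y, IsIntegrallyClosed (Y.presheaf.stalk y) := fun y =>
    isIntegrallyClosed_stalk_of_smooth_over_field k Y (Y ↘ Spec (CommRingCat.of k)) y
  have hfib : ∀ y : Y, (f ⁻¹' {y}).Finite := by
    intro y
    by_cases hy : y = genericPoint Y
    · apply Set.Subsingleton.finite
      intro a ha b hb
      have ha' : f.base a = f.base (genericPoint X) := by
        rw [e, ← hy]; exact ha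
      have hb' : f.base b = f.base (genericPoint X) := by
        rw [e, ← hy]; exact hb
      rw [Groth.Agent.S4809.fibre_generic f hbiso a ha',
        Groth.Agent.S4809.fibre_generic f hbiso b hb']
    · have hZ : IsClosed (f ⁻¹' closure {y}) := isClosed_closure.preimage f.continuous
      have hne : f ⁻¹' closure {y} ≠ Set.univ := by
        intro h
        have hmem : genericPoint X ∈ f ⁻¹' closure {y} := by rw [h]; trivial
        have h1 : y ⤳ genericPoint Y := by
          rw [← e]; exact specializes_iff_mem_closure.mpr hmem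
        have h2 : genericPoint Y ⤳ y := genericPoint_specializes y
        exact hy (h1.antisymm h2).eq
      exact (finite_of_isClosed_of_dim_le_one hdimX.le hZ hne).subset
        (Set.preimage_mono (Set.singleton_subset_iff.mpr (subset_closure rfl)))
  haveI : LocallyQuasiFinite f := LocallyQuasiFinite.of_finite_preimage_singleton f hfib
  exact Groth.Agent.S4809.isOpenImmersion_of_birational hN f hbiso

end Groth.Agent.S14519
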