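import Groth.Statements.S1452
import Mathlib
import Groth.Agent.S1451
import Groth.Agent.Lib.Helper25.EtaleDescent

set_option autoImplicit false
set_option linter.style.haveILetI false
universe u
open FlatMor

namespace Groth.Agent.S1452

open AlgebraicGeometry CategoryTheory Limits in
/-- Let f : X → Y and g : Y → Z with Y integral and the local ring of Y at y = f x geometrically
unibranch; assume g ∘ f is étale on an open neighbourhood of x and some generization of x maps to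
the generic point of Y. Then f is étale on an open neighbourhood of x and g is étale on an open
neighbourhood of y. -/
theorem result {X Y Z : Scheme.{u}} (f : X ⟶ Y) (g : Y ⟶ Z) [IsIntegral Y] (x : X)
    (hY : CAlg2.IsGeomUnibranch (Y.presheaf.stalk (f x))) (het : ∃ U : X.Opens, x ∈ U ∧ Etale (U.ι ≫ f ≫ g))
    (hsp : ∃ x' : X, x' ⤳ x ∧ f x' = genericPoint ↑Y) :
    (∃ U : X.Opens, x ∈ U ∧ Etale (U.ι ≫ f)) ∧ ∃ V : Y.Opens, f x ∈ V ∧ Etale (V.ι ≫ g) := by
  obtain ⟨U, hxU, hU⟩ := het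
  obtain ⟨x', hx'x, hx'⟩ := hsp
  haveI hU' : Etale ((U.ι ≫ f) ≫ g) := by rwa [Category.assoc]
  haveI : LocallyOfFiniteType (U.ι ≫ f) := locallyOfFiniteType_of_comp (U.ι ≫ f) g
  haveI : FormallyUnramified (U.ι ≫ f) := FormallyUnramified.of_comp (U.ι ≫ f) g
  have hx'U : x' ∈ U := hx'x.mem_open U.2 hxU
  obtain ⟨W, hxW, hW⟩ := Groth.Agent.S1451.result (U.ι ≫ f) ⟨x, hxU⟩ hY
    ⟨⟨x', hx'U⟩, (U.ι.isOpenEmbedding.isInducing.specializes_iff).mp hx'x, hx'⟩
    ⟨⊤, trivial, MorphismProperty.comp_mem @FormallyUnramified _ _ inferInstance inferInstance⟩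
  -- first part
  let U₁ : X.Opens := U.ι ''ᵁ W
  have hxU₁ : x ∈ U₁ := ⟨⟨x, hxU⟩, hxW, rfl⟩
  have hι : U₁.ι = (U.ι.isoImage W).inv ≫ W.ι ≫ U.ι := (U.ι.isoImage_inv_ι W).symm
  haveI hE1 : Etale (U₁.ι ≫ f) := by
    rw [hι]; simp only [Category.assoc]
    haveI := hW
    infer_instance
  haveI hE2 : Etale ((U₁.ι ≫ f) ≫ g) := by
    rw [hι]; simp only [Category.assoc]
    haveI : Etale (U.ι ≫ f ≫ g) := hU
    infer_instance
  refine ⟨⟨U₁, hxU₁, hE1⟩, ?_⟩
  -- second part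
  set k₀ := U₁.ι ≫ f with hk₀
  have hopen : IsOpen (Set.range k₀) := k₀.isOpenMap.isOpen_range
  let V : Y.Opens := ⟨Set.range k₀, hopen⟩
  have hfxV : f x ∈ V := ⟨⟨x, hxU₁⟩, rfl⟩
  have hrange : Set.range k₀ ⊆ Set.range V.ι := by
    rw [Scheme.Opens.range_ι]; exact subset_rfl
  let k : (U₁ : Scheme) ⟶ (V : Scheme) := IsOpenImmersion.lift V.ι k₀ hrange
  have hk : k ≫ V.ι = k₀ := IsOpenImmersion.lift_fac _ _ _
  haveI : Etale (k ≫ V.ι) := by rw [hk]; exact hE1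
  haveI : Etale k := Etale.of_comp k V.ι
  haveI : Surjective k := ⟨fun v => by
    obtain ⟨u, hu⟩ := v.2
    refine ⟨u, V.ι.isOpenEmbedding.injective ?_⟩
    rw [← Scheme.Hom.comp_apply, hk]; exact hu⟩
  haveI : Etale (k ≫ (V.ι ≫ g)) := by rw [← Category.assoc, hk]; exact hE2
  exact ⟨V, hfxV, Groth.Agent.Lib.Helper25.EtaleDescent.etale_of_comp k (V.ι ≫ g)⟩

end Groth.Agent.S1452
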