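import Groth.Statements.S14521
import Groth.Agent.Lib.Helper7.IntNumPos
import Groth.Agent.Lib.Helper23.SnapE

set_option autoImplicit false
universe u
open CategoryTheory CategoryTheory.Limits AlgebraicGeometry
open Variety

namespace Groth.Agent.S14521

/-- Let k be an algebraically closed field, X a complete variety over k (reduced and proper over k) of
dimension at most d, L_1, …, L_r line bundles with tensor inverses M_1, …, M_r, and F a coherent
O_X-module whose support has dimension at most r. Let Y_1, …, Y_s be the r-dimensional irreducible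
components of Supp F, with generic points ξ_1, …, ξ_s (given as a finite set s of points: ξ ∈ s iff
ξ ∈ Supp F and the closure of ξ has dimension r), each Y_i with its reduced structure. Then
(L_1⋯L_r; F) = Σ_i length_{O_{X,ξ_i}}(F_{ξ_i}) · (L_1⋯L_r · Y_i), where all intersection numbers are
the alternating Euler-characteristic sums in the M_i (the prelude's FGA.intNum). -/
theorem result (k : Type u) [Field k] [IsAlgClosed k]
    (X : Scheme.{u}) [X.Over (Spec (CommRingCat.of k))] [IsReduced X] [IsProper (X ↘ (Spec (CommRingCat.of k)))] (d : ℕ) (hd : topologicalKrullDim X ≤ d)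
    {r : ℕ} (M : Fin r → X.Modules) (hM : ∀ i, PicF.IsInvertible (M i))
    (F : X.Modules) (hF : Coh.IsCoh F) (hsupp : topologicalKrullDim ↥(CohB1.support F) ≤ r)
    (s : Finset X) (hs : ∀ ξ : X, ξ ∈ s ↔ ξ ∈ CohB1.support F ∧ topologicalKrullDim ↥(closure ({ξ} : Set X)) = r) :
    FGA.intNum k X d M F =
      ∑ ξ ∈ s, ((Module.length (X.presheaf.stalk ξ) (F.presheaf.stalk ξ)).toNat : ℤ) *
        FGA.intNum k X d M (ClSub.quotMod (Scheme.IdealSheafData.vanishingIdeal ⟨closure ({ξ} : Set X), isClosed_closure⟩)) := by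
  haveI : IsNoetherian X := Groth.Agent.Lib.Helper23.HilbP.isNoetherian_of_isProper k X
  have hcl : IsClosed (CohB1.support F) := Groth.Agent.S0020.result X F hF.2
  obtain ⟨Φ, hΦ⟩ := Groth.Agent.Lib.Helper23.Snap.exists_lift (fun M : X.Modules => Coh.IsCoh M)
    (fun G : X.Modules => FGA.intNum k X d M G)
    (fun S hS h1 h2 h3 =>
      Groth.Agent.Lib.Helper7.IntNumPos.intNum_additive k X d hd M hM S hS h1 h2 h3)
  have key := Groth.Agent.Lib.Helper1.K0Dim.key5642 X r F hF hsupp
  have hsub : AddSubgroup.closure {x : KZero.K0sub (fun M : X.Modules => Coh.IsCoh M) |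
      ∃ G : X.Modules, Coh.IsCoh G ∧ topologicalKrullDim (CohB1.support G) < (r : WithBot ℕ∞) ∧
        x = KZero.clSub (fun M : X.Modules => Coh.IsCoh M) G} ≤ Φ.ker := by
    rw [AddSubgroup.closure_le]
    rintro x ⟨G, hG, hGd, rfl⟩
    change Φ _ = 0
    rw [hΦ G hG]
    exact Groth.Agent.Lib.Helper7.SnapFGA.intNum_eq_zero k X d hd M hM G hG hGd
  have h1 : Φ _ = 0 := hsub key
  have hsupp_s : Function.support (Groth.Agent.Lib.Helper1.K0Dim.term r F) ⊆ ↑s := by
    intro ξ hξ
    rw [Finset.mem_coe, hs]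
    constructor
    · by_contra h
      exact hξ (Groth.Agent.Lib.Helper1.K0Dim.term_eq_zero_of_notMem r F ξ h)
    · by_contra h
      exact hξ (Groth.Agent.Lib.Helper1.K0Dim.term_eq_zero_of_dim r F ξ h)
  rw [map_sub, hΦ F hF, finsum_eq_sum_of_support_subset _ hsupp_s, map_sum, sub_eq_zero] at h1
  rw [h1]
  refine Finset.sum_congr rfl fun ξ hξ => ?_
  have hξ' := ((hs ξ).mp hξ).2
  unfold Groth.Agent.Lib.Helper1.K0Dim.term
  rw [if_pos hξ', map_nsmul,
    hΦ _ (Groth.Agent.Lib.Helper1.K0Dim.isCoh_closureStructureSheaf ξ), nsmul_eq_mul]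
  rfl

end Groth.Agent.S14521
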