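import Groth.Statements.S14523
import Groth.Agent.Lib.Helper11.Birat6
import Groth.Agent.S7659

set_option autoImplicit false
universe u
open CategoryTheory CategoryTheory.Limits AlgebraicGeometry
open Variety

namespace Groth.Agent.S14523

/-- Let k be an algebraically closed field and f : X → Y a proper, birational morphism over k of
irreducible varieties (X, Y integral, separated and of finite type over k; f restricts to an
isomorphism over some nonempty open subset of Y), with Y normal (all local rings integrally closed).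
Let U ⊆ Y be the largest open subset over which f is an isomorphism (the domain of f^{-1}). Then
codim_Y(Y ∖ U) ≥ 2: for every point y of Y whose local ring has Krull dimension at most one, f
restricts to an isomorphism over some open neighbourhood of y. -/
theorem result (k : Type u) [Field k] [IsAlgClosed k]
    (X Y : Scheme.{u}) [X.Over (Spec (CommRingCat.of k))] [Y.Over (Spec (CommRingCat.of k))]
    [IsIntegral X] [IsSeparated (X ↘ (Spec (CommRingCat.of k)))] [LocallyOfFiniteType (X ↘ (Spec (CommRingCat.of k)))] [QuasiCompact (X ↘ (Spec (CommRingCat.of k)))]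
    [IsIntegral Y] [IsSeparated (Y ↘ (Spec (CommRingCat.of k)))] [LocallyOfFiniteType (Y ↘ (Spec (CommRingCat.of k)))] [QuasiCompact (Y ↘ (Spec (CommRingCat.of k)))] (hY : ∀ y : Y, IsIntegrallyClosed (Y.presheaf.stalk y))
    (f : X ⟶ Y) (hf : f ≫ (Y ↘ (Spec (CommRingCat.of k))) = (X ↘ (Spec (CommRingCat.of k)))) [IsProper f]
    (hbir : ∃ V : Y.Opens, (V : Set Y).Nonempty ∧ IsIso (f ∣_ V))
    (y : Y) (hy : ringKrullDim (Y.presheaf.stalk y) ≤ 1) :
    ∃ V : Y.Opens, y ∈ V ∧ IsIso (f ∣_ V) := by

  obtain ⟨W, hW, hfW⟩ := hbir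
  obtain ⟨hgen, hbiso⟩ :=
    Groth.Agent.Lib.Helper11.Birat6.birational_of_isIso_morphismRestrict f W hW hfW
  have hYfin : (irreducibleComponents ↥Y).Finite := by
    rw [irreducibleComponents_eq_singleton]; exact Set.finite_singleton _
  haveI : IsLocallyNoetherian (Spec (CommRingCat.of k)) := inferInstance
  haveI : IsLocallyNoetherian Y :=
    LocallyOfFiniteType.isLocallyNoetherian (Y ↘ (Spec (CommRingCat.of k)))
  haveI := hY y
  haveI : ValuationRing (Y.presheaf.stalk y) :=
    Groth.Agent.Lib.Helper11.Birat6.valuationRing_of_dim_le_one _ hy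
  obtain ⟨x, hxy, hiso⟩ :=
    Groth.Agent.Lib.Helper11.Birat6.exists_isIso_stalkMap_of_valuationRing f hgen hbiso y
  obtain ⟨U, hxU, hU⟩ := Groth.Agent.S7659.result f hYfin x hiso
  haveI := hU
  haveI : Nonempty U := ⟨⟨x, hxU⟩⟩
  refine ⟨(U.ι ≫ f).opensRange, ?_, Groth.Agent.S1655.isIso_morphismRestrict_opensRange f U⟩
  rw [← hxy]
  exact ⟨⟨x, hxU⟩, rfl⟩

end Groth.Agent.S14523
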