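import Groth.Statements.S14525
import Groth.Agent.Lib.Helper7.SurfRows
import Groth.Agent.Lib.Helper7.SurfGrow
import Groth.Agent.Lib.Helper3.QProj

set_option autoImplicit false
universe u
open CategoryTheory CategoryTheory.Limits AlgebraicGeometry
open Surf

namespace Groth.Agent.S14525

/-- Let k be an algebraically closed field, X a smooth projective surface over k (integral, smooth over
k, of dimension two, with a closed immersion over k into some projective space), L an invertible
O_X-module with tensor inverse L' such that (L·L) > 0, and M an ample invertible module with tensor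
inverse M'; intersection numbers are the alternating Euler-characteristic sums in the inverses (the
prelude's FGA.intNum, so (L·L) is computed in L', L' and (L·M) in L', M'). Then (L·M) ≠ 0; if (L·M)
> 0 there is c > 0 with dim_k H^0(X, L^{⊗m}) > c·m² for all large m, and if (L·M) < 0 the same holds
for L' in place of L. -/
theorem result (k : Type u) [Field k] [IsAlgClosed k]
    (X : Scheme.{u}) [X.Over (Spec (CommRingCat.of k))] [IsIntegral X] [Smooth (X ↘ (Spec (CommRingCat.of k)))] (hdim : topologicalKrullDim X = 2)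
    (hprojX : ∃ (N : ℕ) (ι : X ⟶ CohB1.ProjSpace N k), IsClosedImmersion ι ∧ ι ≫ CohB1.ProjSpace.toSpec N k = (X ↘ (Spec (CommRingCat.of k))))
    (L L' : X.Modules) (hL : PicF.IsInvertible L) (hLL' : ClSub.IsInverseOf L L')
    (hpos : 0 < FGA.intNum k X 2 ![L', L'] (Coh.structureModule X))
    (M M' : X.Modules) (hM : CohB1.IsAmple M) (hMM' : ClSub.IsInverseOf M M') :
    FGA.intNum k X 2 ![L', M'] (Coh.structureModule X) ≠ 0 ∧
    (0 < FGA.intNum k X 2 ![L', M'] (Coh.structureModule X) →
      ∃ c : ℚ, 0 < c ∧ ∃ m₀ : ℕ, ∀ m : ℕ, m₀ ≤ m →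
        c * (m : ℚ) ^ 2 < (Module.finrank k (Coh.HH X (CohB1.tensorPow L m) 0) : ℚ)) ∧
    (FGA.intNum k X 2 ![L', M'] (Coh.structureModule X) < 0 →
      ∃ c : ℚ, 0 < c ∧ ∃ m₀ : ℕ, ∀ m : ℕ, m₀ ≤ m →
        c * (m : ℚ) ^ 2 < (Module.finrank k (Coh.HH X (CohB1.tensorPow L' m) 0) : ℚ)) := by
  haveI : IsProper (X ↘ Spec (CommRingCat.of k)) := by
    obtain ⟨N, ι, hι, hcomp⟩ := hprojX
    haveI := hι
    haveI : IsProper (CohB1.ProjSpace.toSpec N k) :=
      Groth.Agent.Lib.Helper3.QProj.isProper_toSpec k N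
    rw [← hcomp]
    infer_instance
  haveI : IsNoetherian X := Groth.Agent.Lib.Helper23.HilbP.isNoetherian_of_isProper k X
  haveI : CompactSpace X := Groth.Agent.Lib.Helper23.T2.compactSpace_of_isProper k X
  obtain ⟨eL⟩ := hLL'
  obtain ⟨eM⟩ := hMM'
  have hd : topologicalKrullDim X ≤ ((2 : ℕ) : WithBot ℕ∞) := by
    rw [hdim]
    norm_cast
  have hL' : PicF.IsInvertible L' :=
    Groth.Agent.Lib.Helper7.SnapFGA.isInvertible_of_inverse hL ⟨eL⟩
  have hM' : PicF.IsInvertible M' :=
    Groth.Agent.Lib.Helper7.SnapFGA.isInvertible_of_inverse hM.1 ⟨eM⟩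
  have hO := Groth.Agent.Lib.Helper23.T2.isCoh_structureModule X
  have hsuppO : CohB1.support (Coh.structureModule X) = Set.univ :=
    Groth.Agent.Lib.Helper23.HilbP.support_invertible
      (Groth.Agent.Lib.Helper3.InvGen.isInvertible_structureModule X)
  have hdimO2 : topologicalKrullDim (CohB1.support (Coh.structureModule X)) =
      ((2 : ℕ) : WithBot ℕ∞) := by
    rw [hsuppO, (Homeomorph.Set.univ X).isHomeomorph.topologicalKrullDim_eq, hdim]
    norm_cast
  have hMM : 0 < Groth.Agent.Lib.Helper7.SurfIP.ip k X M' M' := by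
    refine Groth.Agent.Lib.Helper7.IntNumPos.intNum_pos k X 2 hd 2 ![M, M] ![M', M'] ?_ ?_ _ hO
      hdimO2
    · intro i
      fin_cases i <;> exact hM
    · intro i
      fin_cases i <;> exact ⟨eM⟩
  refine ⟨?_, ?_, ?_⟩
  · intro h0
    have h := Groth.Agent.Lib.Helper7.SurfRows.hodge_orth k X hdim M hM L' M' hL' hM' hpos h0
    linarith
  · intro h
    exact Groth.Agent.Lib.Helper7.SurfGrow.quad_growth k X hdim L L' hL eL M M' hM eM hpos h
  · intro h
    have h1 : Groth.Agent.Lib.Helper7.SurfIP.ip k X L' L' =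
        Groth.Agent.Lib.Helper7.SurfIP.ip k X L L :=
      Groth.Agent.Lib.Helper7.SurfIP.ip_inv k X hd hL eL hL eL
    have h2 : Groth.Agent.Lib.Helper7.SurfIP.ip k X L' M' =
        - Groth.Agent.Lib.Helper7.SurfIP.ip k X L M' :=
      Groth.Agent.Lib.Helper7.SurfIP.ip_neg_left k X hd hL eL hM'
    have hpos' : 0 < Groth.Agent.Lib.Helper7.SurfIP.ip k X L' L' := hpos
    have hneg' : Groth.Agent.Lib.Helper7.SurfIP.ip k X L' M' < 0 := h
    have h3 : 0 < Groth.Agent.Lib.Helper7.SurfIP.ip k X L L := by linarith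
    have h4 : 0 < Groth.Agent.Lib.Helper7.SurfIP.ip k X L M' := by linarith
    exact Groth.Agent.Lib.Helper7.SurfGrow.quad_growth k X hdim L' L hL'
      (Groth.Agent.Lib.Helper3.InvMonoidal.braid L' L ≪≫ eL) M M' hM eM h3 h4

end Groth.Agent.S14525
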