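import Groth.Statements.S1455
-- import your own Groth.Agent.* helpers here
import Mathlib
import Groth.Agent.Lib.Helper12.FlatSieveApprox

set_option autoImplicit false
universe u
open FlatMor

namespace Groth.Agent.S1455

open AlgebraicGeometry CategoryTheory Limits in
/-- Let f : X → S be of finite presentation with X and S quasi-compact and quasi-separated, and F a
finitely presented quasi-coherent O_X-module. Then there are t ≥ 0 and ideal sheaves I_0 ≤ I_1 ≤ ...
≤ I_t = O_S on S, each of finite type, with I_0 cutting out a thickening of S (its support is all of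
S), such that for each i the pullback of F to the part of X over the locally closed stratum
supp(I_i) ∖ supp(I_{i+1}) is flat over that stratum. -/
theorem result {X S : Scheme.{u}} (f : X ⟶ S) [LocallyOfFinitePresentation f] [QuasiCompact f] [QuasiSeparated f]
    [CompactSpace ↑S] [QuasiSeparatedSpace ↑S] (F : X.Modules) (hq : Coh.IsQCoh F) (hfp : CohB1.IsFP F) :
    ∃ (t : ℕ) (I : Fin (t + 1) → S.IdealSheafData), Monotone I ∧ I (Fin.last t) = ⊤ ∧ ((I 0).support : Set ↑S) = Set.univ ∧
      (∀ i, ∀ U : S.affineOpens, ((I i).ideal U).FG) ∧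
      ∀ i : Fin t, FlatMod.IsFlatOver
        (pullback.snd f (((I i.castSucc).subschemeι ⁻¹ᵁ (I i.succ).support.compl).ι ≫ (I i.castSucc).subschemeι))
        ((Scheme.Modules.pullback (pullback.fst f (((I i.castSucc).subschemeι ⁻¹ᵁ (I i.succ).support.compl).ι ≫ (I i.castSucc).subschemeι))).obj F) := by
  haveI : F.IsQuasicoherent := hq
  haveI : SheafOfModules.IsFinitePresentation (R := X.ringCatSheaf) F := hfp
  obtain ⟨S₁, g, Φ, hS₁, hΦ, hle⟩ :=
    Groth.Agent.Lib.Helper12.FlatSieve.exists_generic_le_flatSieve f F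
  haveI := hS₁
  obtain ⟨t, I, h1, h2, h3, h4, h5⟩ :=
    Groth.Agent.Lib.Helper12.SieveStrat.exists_ideals_of_generic g Φ hΦ
      (Groth.Agent.Lib.Helper12.FlatSieve.flatSieve f (𝟙 X) F) hle
  refine ⟨t, I, h1, h2, h3, h4, fun i => ?_⟩
  exact (Groth.Agent.Lib.Helper12.FlatSieve.flatSieve_id_apply f F _).mp (h5 i)

end Groth.Agent.S1455
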