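import Mathlib
import Groth.Statements.S1458


set_option autoImplicit false
universe u
open FlatMor

namespace Aux1458
open TensorProduct

section Gen
variable {A B : Type u} [CommRing A] [CommRing B] [Algebra A B]
variable {n m : ℕ} (b : Fin n → B) (c : Fin n → Fin n → Fin n → A) (r : Fin m → Fin n → A)

section Test
variable {A' : Type u} [CommRing A'] [Algebra A A']

/-- the element `∑ b_i ⊗ a_i` -/
noncomputable def ee (a : Fin n → A') : B ⊗[A] A' := ∑ i, b i ⊗ₜ[A] a i

/-- the quadratic polynomials -/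
noncomputable def gg (a : Fin n → A') (k : Fin n) : A' :=
  (∑ i, ∑ j, c i j k • (a i * a j)) - a k

lemma ee_sq (hb : ∀ i j, b i * b j = ∑ k, c i j k • b k) (a : Fin n → A') :
    ee b a * ee b a - ee b a = ∑ k, b k ⊗ₜ[A] gg c a k := by
  have h1 : ∀ i j, (b i ⊗ₜ[A] a i) * (b j ⊗ₜ[A] a j) =
      ∑ k, b k ⊗ₜ[A] (c i j k • (a i * a j)) := by
    intro i j
    rw [Algebra.TensorProduct.tmul_mul_tmul, hb, TensorProduct.sum_tmul]
    refine Finset.sum_congr rfl (fun k _ => ?_)
    rw [TensorProduct.smul_tmul]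
  have h2 : ee b a * ee b a = ∑ k, b k ⊗ₜ[A] (∑ i, ∑ j, c i j k • (a i * a j)) := by
    unfold ee
    rw [Finset.sum_mul_sum]
    calc ∑ i, ∑ j, (b i ⊗ₜ[A] a i) * (b j ⊗ₜ[A] a j)
        = ∑ i, ∑ j, ∑ k, b k ⊗ₜ[A] (c i j k • (a i * a j)) := by
          refine Finset.sum_congr rfl (fun i _ => Finset.sum_congr rfl (fun j _ => h1 i j))
      _ = ∑ i, ∑ k, ∑ j, b k ⊗ₜ[A] (c i j k • (a i * a j)) :=
          Finset.sum_congr rfl (fun i _ => Finset.sum_comm)
      _ = ∑ k, ∑ i, ∑ j, b k ⊗ₜ[A] (c i j k • (a i * a j)) := Finset.sum_comm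
      _ = ∑ k, b k ⊗ₜ[A] (∑ i, ∑ j, c i j k • (a i * a j)) := by
          refine Finset.sum_congr rfl (fun k _ => ?_)
          rw [TensorProduct.tmul_sum]
          refine Finset.sum_congr rfl (fun i _ => ?_)
          rw [TensorProduct.tmul_sum]
  rw [h2]
  unfold ee gg
  rw [← Finset.sum_sub_distrib]
  refine Finset.sum_congr rfl (fun k _ => ?_)
  rw [TensorProduct.tmul_sub]

lemma sum_tmul_eq_zero (hr : ∀ l, ∑ k, r l k • b k = 0) (s : Fin m → A') :
    ∑ k, b k ⊗ₜ[A] (∑ l, r l k • s l) = 0 := by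
  have h1 : ∑ k, b k ⊗ₜ[A] (∑ l, r l k • s l) = ∑ k, ∑ l, b k ⊗ₜ[A] (r l k • s l) :=
    Finset.sum_congr rfl (fun k _ => TensorProduct.tmul_sum _ _ _)
  rw [h1, Finset.sum_comm]
  refine Finset.sum_eq_zero (fun l _ => ?_)
  have h2 : ∑ k, b k ⊗ₜ[A] (r l k • s l) = (∑ k, r l k • b k) ⊗ₜ[A] s l := by
    rw [TensorProduct.sum_tmul]
    refine Finset.sum_congr rfl (fun k _ => ?_)
    rw [TensorProduct.smul_tmul]
  rw [h2, hr, TensorProduct.zero_tmul]

lemma exists_rep (hsurj : ∀ x : B, ∃ v : Fin n → A, ∑ k, v k • b k = x) (x : B ⊗[A] A') :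
    ∃ a : Fin n → A', x = ee b a := by
  induction x using TensorProduct.induction_on with
  | zero => exact ⟨0, by unfold ee; simp⟩
  | tmul y a' =>
    obtain ⟨v, rfl⟩ := hsurj y
    refine ⟨fun k => v k • a', ?_⟩
    unfold ee
    rw [TensorProduct.sum_tmul]
    refine Finset.sum_congr rfl (fun k _ => ?_)
    rw [TensorProduct.smul_tmul]
  | add x x' hx hx' =>
    obtain ⟨a, rfl⟩ := hx
    obtain ⟨a', rfl⟩ := hx'
    refine ⟨a + a', ?_⟩
    unfold ee
    rw [← Finset.sum_add_distrib]
    refine Finset.sum_congr rfl (fun k _ => ?_)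
    rw [Pi.add_apply, TensorProduct.tmul_add]

/-- the presentation map -/
noncomputable def piMap : (Fin n → A) →ₗ[A] B := Fintype.linearCombination A b

lemma piMap_apply (v : Fin n → A) : piMap (A := A) b v = ∑ i, v i • b i := rfl

/-- the `k`-th coordinate with values in `A'` -/
noncomputable def ev (k : Fin n) : (Fin n → A) ⊗[A] A' →ₗ[A] A' :=
  (TensorProduct.lid A A').toLinearMap ∘ₗ (LinearMap.proj k : (Fin n → A) →ₗ[A] A).rTensor A'

lemma ev_tmul (k : Fin n) (u : Fin n → A) (x : A') :
    ev (A' := A') k (u ⊗ₜ[A] x) = u k • x := by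
  unfold ev
  rw [LinearMap.comp_apply, LinearMap.rTensor_tmul, LinearEquiv.coe_coe, LinearMap.proj_apply,
    TensorProduct.lid_tmul]

lemma exists_of_sum_tmul_eq_zero (hsurj : ∀ x : B, ∃ v : Fin n → A, ∑ k, v k • b k = x)
    (hker : ∀ v : Fin n → A, ∑ k, v k • b k = 0 → v ∈ Submodule.span A (Set.range r))
    (v : Fin n → A') (hv : ∑ k, b k ⊗ₜ[A] v k = 0) :
    ∃ s : Fin m → A', ∀ k, v k = ∑ l, r l k • s l := by
  have hπ : Function.Surjective (piMap (A := A) b) := fun x => by
    obtain ⟨w, hw⟩ := hsurj x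
    exact ⟨w, hw⟩
  have hex := rTensor_exact A' (LinearMap.exact_subtype_ker_map (piMap (A := A) b)) hπ
  have hz : ((piMap (A := A) b).rTensor A')
      (∑ k, (Pi.single k (1 : A) : Fin n → A) ⊗ₜ[A] v k) = 0 := by
    rw [map_sum, ← hv]
    refine Finset.sum_congr rfl (fun k _ => ?_)
    rw [LinearMap.rTensor_tmul]
    congr 1
    show Fintype.linearCombination A b (Pi.single k 1) = b k
    rw [Fintype.linearCombination_apply_single, one_smul]
  obtain ⟨w, hw⟩ := (hex _).mp hz
  have claim : ∀ w : (LinearMap.ker (piMap (A := A) b)) ⊗[A] A', ∃ s : Fin m → A', ∀ k,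
      ev (A' := A') k (((LinearMap.ker (piMap (A := A) b)).subtype.rTensor A') w) =
        ∑ l, r l k • s l := by
    intro w
    induction w using TensorProduct.induction_on with
    | zero => exact ⟨0, fun k => by simp⟩
    | tmul κ x =>
      have hκ : (κ : Fin n → A) ∈ Submodule.span A (Set.range r) := hker _ (by
        have h := κ.2
        rw [LinearMap.mem_ker] at h
        exact h)
      rw [Submodule.mem_span_range_iff_exists_fun] at hκ
      obtain ⟨dd, hd⟩ := hκ
      refine ⟨fun l => dd l • x, fun k => ?_⟩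
      rw [LinearMap.rTensor_tmul, Submodule.subtype_apply, ev_tmul, ← hd]
      rw [Finset.sum_apply, Finset.sum_smul]
      refine Finset.sum_congr rfl (fun l _ => ?_)
      rw [Pi.smul_apply, smul_eq_mul, mul_comm, mul_smul]
    | add w w' hw hw' =>
      obtain ⟨s, hs⟩ := hw
      obtain ⟨s', hs'⟩ := hw'
      refine ⟨s + s', fun k => ?_⟩
      rw [map_add, map_add, hs, hs', ← Finset.sum_add_distrib]
      refine Finset.sum_congr rfl (fun l _ => ?_)
      rw [Pi.add_apply, smul_add]
  obtain ⟨s, hs⟩ := claim w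
  refine ⟨s, fun k => ?_⟩
  rw [← hs k, hw, map_sum]
  simp_rw [ev_tmul]
  rw [Finset.sum_eq_single k]
  · rw [Pi.single_eq_same, one_smul]
  · intro j _ hjk
    rw [Pi.single_eq_of_ne (Ne.symm hjk), zero_smul]
  · intro h
    exact absurd (Finset.mem_univ k) h

end Test

/-- the relations -/
noncomputable def rho (k : Fin n) : MvPolynomial (Fin n ⊕ Fin m) A :=
  (∑ i, ∑ j, c i j k • (MvPolynomial.X (Sum.inl i) * MvPolynomial.X (Sum.inl j))) -
    MvPolynomial.X (Sum.inl k) - ∑ l, r l k • MvPolynomial.X (Sum.inr l)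

/-- the ideal of relations -/
noncomputable def II : Ideal (MvPolynomial (Fin n ⊕ Fin m) A) := Ideal.span (Set.range (rho c r))

/-- the universal algebra -/
abbrev Au : Type u := MvPolynomial (Fin n ⊕ Fin m) A ⧸ II c r

/-- the universal coordinates -/
noncomputable def tt (i : Fin n) : Au c r :=
  Ideal.Quotient.mkₐ A (II c r) (MvPolynomial.X (Sum.inl i))

/-- the universal multipliers -/
noncomputable def ss (l : Fin m) : Au c r :=
  Ideal.Quotient.mkₐ A (II c r) (MvPolynomial.X (Sum.inr l))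

lemma gg_tt (k : Fin n) : gg c (tt c r) k = ∑ l, r l k • ss c r l := by
  have h : (Ideal.Quotient.mkₐ A (II c r)) (rho c r k) = 0 :=
    Ideal.Quotient.eq_zero_iff_mem.mpr (Ideal.subset_span ⟨k, rfl⟩)
  unfold rho at h
  simp only [map_sub, map_sum, map_smul, map_mul] at h
  unfold gg tt ss
  exact sub_eq_zero.mp h

lemma fp : Algebra.FinitePresentation A (Au c r) :=
  Algebra.FinitePresentation.quotient (Submodule.fg_span (Set.finite_range (rho c r)))

end Gen

theorem main {A B : Type u} [CommRing A] [CommRing B] [Algebra A B] [Module.Finite A B]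
    [Algebra.FinitePresentation A B] :
    ∃ (Au : Type u) (_ : CommRing Au) (_ : Algebra A Au) (eu : B ⊗[A] Au),
      Algebra.FinitePresentation A Au ∧ IsIdempotentElem eu ∧
      ∀ (A' : Type u) [CommRing A'] [Algebra A A'] (e : B ⊗[A] A'), IsIdempotentElem e →
        ∃ φ : Au →ₐ[A] A', Algebra.TensorProduct.map (AlgHom.id A B) φ eu = e := by
  obtain ⟨n, b, hb⟩ := Module.Finite.exists_fin (R := A) (M := B)
  have hsurj : ∀ x : B, ∃ v : Fin n → A, ∑ k, v k • b k = x := by
    intro x
    have hx : x ∈ Submodule.span A (Set.range b) := by rw [hb]; trivial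
    rw [Submodule.mem_span_range_iff_exists_fun] at hx
    exact hx
  haveI : Module.FinitePresentation A B :=
    Module.FinitePresentation.of_finite_of_finitePresentation A B
  have hπ : Function.Surjective (piMap (A := A) b) := fun x => hsurj x
  have hK := Module.FinitePresentation.fg_ker (piMap (A := A) b) hπ
  obtain ⟨m, r, hr⟩ := Submodule.fg_iff_exists_fin_generating_family.mp hK
  have hker : ∀ v : Fin n → A, ∑ k, v k • b k = 0 → v ∈ Submodule.span A (Set.range r) := by
    intro v hv
    rw [hr, LinearMap.mem_ker]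
    exact hv
  have hrel : ∀ l, ∑ k, r l k • b k = 0 := by
    intro l
    have h : r l ∈ LinearMap.ker (piMap (A := A) b) := by
      rw [← hr]; exact Submodule.subset_span ⟨l, rfl⟩
    exact h
  choose c hc using (fun i j => hsurj (b i * b j))
  have hmul : ∀ i j, b i * b j = ∑ k, c i j k • b k := fun i j => (hc i j).symm
  refine ⟨Au c r, inferInstance, inferInstance, ee b (tt c r), fp c r, ?_, ?_⟩
  · have h := ee_sq b c hmul (tt c r)
    have h2 : ∑ k, b k ⊗ₜ[A] gg c (tt c r) k = 0 := by
      have h3 : ∑ k, b k ⊗ₜ[A] gg c (tt c r) k = ∑ k, b k ⊗ₜ[A] (∑ l, r l k • ss c r l) :=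
        Finset.sum_congr rfl (fun k _ => by rw [gg_tt])
      rw [h3]
      exact sum_tmul_eq_zero b r hrel (ss c r)
    rw [h2] at h
    exact sub_eq_zero.mp h
  · intro A' _ _ e he
    obtain ⟨a, rfl⟩ := exists_rep b hsurj e
    have h := ee_sq b c hmul a
    have he' : ee b a * ee b a = ee b a := he
    rw [he', sub_self] at h
    obtain ⟨s, hs⟩ := exists_of_sum_tmul_eq_zero b r hsurj hker (gg c a) h.symm
    have hφ : ∀ x ∈ II c r, (MvPolynomial.aeval (Sum.elim a s) :
        MvPolynomial (Fin n ⊕ Fin m) A →ₐ[A] A') x = 0 := by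
      intro x hx
      have hle : II c r ≤ RingHom.ker (MvPolynomial.aeval (Sum.elim a s) :
          MvPolynomial (Fin n ⊕ Fin m) A →ₐ[A] A') := by
        unfold II
        rw [Ideal.span_le]
        rintro _ ⟨k, rfl⟩
        show (MvPolynomial.aeval (Sum.elim a s)) (rho c r k) = 0
        unfold rho
        simp only [map_sub, map_sum, map_smul, map_mul, MvPolynomial.aeval_X, Sum.elim_inl,
          Sum.elim_inr]
        have := hs k
        unfold gg at this
        rw [this, sub_self]
      exact hle hx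
    refine ⟨Ideal.Quotient.liftₐ (II c r) (MvPolynomial.aeval (Sum.elim a s)) hφ, ?_⟩
    unfold ee
    rw [map_sum]
    refine Finset.sum_congr rfl (fun i _ => ?_)
    rw [Algebra.TensorProduct.map_tmul, AlgHom.id_apply]
    congr 1
    show (Ideal.Quotient.liftₐ (II c r) (MvPolynomial.aeval (Sum.elim a s)) hφ)
      (Ideal.Quotient.mk (II c r) (MvPolynomial.X (Sum.inl i))) = a i
    rw [Ideal.Quotient.liftₐ_apply, Ideal.Quotient.lift_mk]
    show (MvPolynomial.aeval (Sum.elim a s)) (MvPolynomial.X (Sum.inl i)) = a i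
    rw [MvPolynomial.aeval_X, Sum.elim_inl]

end Aux1458

namespace Groth.Agent.S1458

open TensorProduct in
/-- Let A → B be a finite ring map of finite presentation. Then there are a finitely presented A-algebra
A_u and an idempotent e_u of B ⊗_A A_u such that for every A-algebra A' and every idempotent e of B
⊗_A A' there is an A-algebra map A_u → A' whose induced map B ⊗ A_u → B ⊗ A' sends e_u to e. -/
theorem result {A B : Type u} [CommRing A] [CommRing B] [Algebra A B] [Module.Finite A B] [Algebra.FinitePresentation A B] :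
    ∃ (Au : Type u) (_ : CommRing Au) (_ : Algebra A Au) (eu : B ⊗[A] Au), Algebra.FinitePresentation A Au ∧ IsIdempotentElem eu ∧
      ∀ (A' : Type u) [CommRing A'] [Algebra A A'] (e : B ⊗[A] A'), IsIdempotentElem e →
        ∃ φ : Au →ₐ[A] A', Algebra.TensorProduct.map (AlgHom.id A B) φ eu = e := by
  exact Aux1458.main 

end Groth.Agent.S1458
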