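import Groth.Statements.S1459
import Groth.Agent.Lib.Helper14.LCF.SliceSeqBCSch
import Groth.Agent.Lib.Helper14.CMMod.Seq

set_option autoImplicit false
universe u
open FlatMor

namespace Groth.Agent.S1459

open AlgebraicGeometry CategoryTheory Limits in
/-- Let f : X → S be locally of finite presentation and flat at x with image s, and let h_1, …, h_r be
elements of O_{X,x} whose images in O_{X,x} / m_s O_{X,x} form a regular sequence. Then there are an
affine open U ∋ x and sections on U with these germs such that the closed subscheme Z of U they cut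
out is a regular closed immersion whose image contains x, Z → S is flat and locally of finite
presentation, and the base change of Z → U along any S' → S is again a regular closed immersion. -/
theorem result {X S : Scheme.{u}} (f : X ⟶ S) [LocallyOfFinitePresentation f] (x : X)
    (hflat : (f.stalkMap x).hom.Flat) (hs : List ↑(X.presheaf.stalk x))
    (hreg : RingTheory.Sequence.IsRegular (↑(X.presheaf.stalk x) ⧸ Ideal.map (f.stalkMap x).hom (IsLocalRing.maximalIdeal ↑(S.presheaf.stalk (f x))))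
      (hs.map (Ideal.Quotient.mk (Ideal.map (f.stalkMap x).hom (IsLocalRing.maximalIdeal ↑(S.presheaf.stalk (f x))))))) :
    ∃ (U : X.Opens) (hU : IsAffineOpen U) (hx : x ∈ U) (hs' : List Γ(X, U)), hs'.map (X.presheaf.germ U x hx) = hs ∧
      Mor2.IsRegularClosedImmersion (Spec.map (CommRingCat.ofHom (Ideal.Quotient.mk (Ideal.ofList hs'))) ≫ hU.isoSpec.inv) ∧
      x ∈ Set.range ⇑(Spec.map (CommRingCat.ofHom (Ideal.Quotient.mk (Ideal.ofList hs'))) ≫ hU.fromSpec) ∧
      Flat (Spec.map (CommRingCat.ofHom (Ideal.Quotient.mk (Ideal.ofList hs'))) ≫ hU.fromSpec ≫ f) ∧ LocallyOfFinitePresentation (Spec.map (CommRingCat.ofHom (Ideal.Quotient.mk (Ideal.ofList hs'))) ≫ hU.fromSpec ≫ f) ∧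
      ∀ (S' : Scheme.{u}) (g : S' ⟶ S), Mor2.IsRegularClosedImmersion
        (pullback.map (Spec.map (CommRingCat.ofHom (Ideal.Quotient.mk (Ideal.ofList hs'))) ≫ hU.isoSpec.inv ≫ U.ι ≫ f) g (U.ι ≫ f) g (Spec.map (CommRingCat.ofHom (Ideal.Quotient.mk (Ideal.ofList hs'))) ≫ hU.isoSpec.inv) (𝟙 S') (𝟙 S)
          (Category.comp_id _) ((Category.comp_id g).trans (Category.id_comp g).symm)) := by
  set K : Ideal ↑(X.presheaf.stalk x) := Ideal.map (f.stalkMap x).hom
    (IsLocalRing.maximalIdeal ↑(S.presheaf.stalk (f x))) with hK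
  have hw : RingTheory.Sequence.IsWeaklyRegular (↑(X.presheaf.stalk x) ⧸ K) hs :=
    (RingTheory.Sequence.isWeaklyRegular_map_algebraMap_iff (↑(X.presheaf.stalk x) ⧸ K) (↑(X.presheaf.stalk x) ⧸ K) hs).1
      hreg.toIsWeaklyRegular
  have hmemq : ∀ (J : Ideal ↑(X.presheaf.stalk x)) (y : ↑(X.presheaf.stalk x)),
      (Ideal.Quotient.mk K y : ↑(X.presheaf.stalk x) ⧸ K) ∈ (J • (⊤ : Submodule ↑(X.presheaf.stalk x) (↑(X.presheaf.stalk x) ⧸ K))) ↔ y ∈ K ⊔ J := by
    intro J y
    rw [Ideal.smul_top_eq_map, Submodule.restrictScalars_mem]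
    change Ideal.Quotient.mk K y ∈ Ideal.map (Ideal.Quotient.mk K) J ↔ _
    rw [Ideal.mem_quotient_iff_mem_sup, sup_comm]
  have hne : K ⊔ Ideal.ofList hs ≠ ⊤ := by
    intro htop
    apply hreg.top_ne_smul
    rw [RingTheory.Sequence.isWeaklyRegular_iff] at hw
    symm
    rw [eq_top_iff]
    intro y _
    obtain ⟨y, rfl⟩ := Ideal.Quotient.mk_surjective y
    have h1 : (Ideal.Quotient.mk K y : ↑(X.presheaf.stalk x) ⧸ K) ∈
        (Ideal.ofList hs • (⊤ : Submodule ↑(X.presheaf.stalk x) (↑(X.presheaf.stalk x) ⧸ K))) := by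
      rw [hmemq, htop]
      trivial
    have h2 : Ideal.ofList (hs.map (Ideal.Quotient.mk K)) =
        (Ideal.ofList hs).map (Ideal.Quotient.mk K) :=
      Groth.Agent.Lib.Helper14.LCF.ofList_map _ _
    rw [h2]
    rw [Ideal.smul_top_eq_map, Submodule.restrictScalars_mem] at h1
    rw [smul_eq_mul, Ideal.mul_top]
    exact h1
  have hm : ∀ i : Fin hs.length, hs.get i ∈ IsLocalRing.maximalIdeal ↑(X.presheaf.stalk x) := by
    intro i
    refine IsLocalRing.le_maximalIdeal hne (Ideal.mem_sup_right ?_)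
    exact Ideal.subset_span (List.get_mem hs i)
  have hreg' : ∀ (k : Fin hs.length) (w : ↑(X.presheaf.stalk x)),
      hs.get k * w ∈ K ⊔ Ideal.span (hs.get '' {j : Fin hs.length | j < k}) →
      w ∈ K ⊔ Ideal.span (hs.get '' {j : Fin hs.length | j < k}) := by
    intro k w hkw
    rw [Groth.Agent.Lib.Helper14.CMMod.image_get_lt'] at hkw ⊢
    have h2 := (RingTheory.Sequence.isWeaklyRegular_iff _ _).mp hw k k.2
    rw [isSMulRegular_quotient_iff_mem_of_smul_mem] at h2
    have h3 := h2 (Ideal.Quotient.mk K w) (by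
      rw [← List.get_eq_getElem, ← Ideal.Quotient.mk_eq_mk, ← Submodule.Quotient.mk_smul,
        Ideal.Quotient.mk_eq_mk, smul_eq_mul]
      exact (hmemq _ _).2 hkw)
    exact (hmemq _ _).1 h3
  obtain ⟨U, hU, hx, gs', hgerm, h1, h2, h3, h4, h5⟩ :=
    Groth.Agent.Lib.Helper14.LCF.slice_bc f x hflat hs.get hm hreg'
  refine ⟨U, hU, hx, List.ofFn gs', ?_, h1, h2, h3, h4, h5⟩
  rw [List.map_ofFn]
  have : (⇑(ConcreteCategory.hom (X.presheaf.germ U x hx)) ∘ gs') = hs.get := funext hgerm
  rw [this, List.ofFn_get]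

end Groth.Agent.S1459
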