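import Groth.Statements.S14596
import Mathlib
import Groth.Agent.Lib.Helper11.QF1
import Groth.Agent.Lib.Helper15.NoethTop

set_option autoImplicit false
universe u
open CategoryTheory MonoidalCategory CartesianMonoidalCategory MonObj GrpObj AlgebraicGeometry CategoryTheory.Limits
open AlgGrp

namespace Groth.Agent.S14596

/-- Let k be a perfect field, G a k-group scheme of finite type and r₀ : G⁰_red → G the reduced neutral
component of G, i.e. a homomorphism and closed immersion from a reduced k-group scheme whose image
is the connected component of the identity. Then the homogeneous space G/G⁰_red is finite, and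
G⁰_red is the smallest closed subgroup scheme H of G such that G/H is finite: every such H contains
G⁰_red. -/
theorem result (k : Type u) [Field k] [PerfectField k]
    (G G₀ : Over (Spec (CommRingCat.of k))) [GrpObj G] [GrpObj G₀] [LocallyOfFiniteType G.hom] [QuasiCompact G.hom]
    [LocallyOfFiniteType G₀.hom] [QuasiCompact G₀.hom]
    (r₀ : G₀ ⟶ G) [IsMonHom r₀] [IsClosedImmersion r₀.left] [IsReduced G₀.left] (t : ↥((𝟙_ (Over (Spec (CommRingCat.of k)))).left))
    (hr₀ : Set.range ⇑r₀.left.base = connectedComponent ((η[G]).left.base t)) :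
    (∀ (X : Over (Spec (CommRingCat.of k))) (a : AlgGrp.Action G X) (o : 𝟙_ (Over (Spec (CommRingCat.of k))) ⟶ X), AGF.IsQuotient r₀ X a o → IsFinite X.hom) ∧
    ∀ (H : Over (Spec (CommRingCat.of k))) [GrpObj H] (h : H ⟶ G) [IsMonHom h] [IsClosedImmersion h.left]
      (X : Over (Spec (CommRingCat.of k))) (a : AlgGrp.Action G X) (o : 𝟙_ (Over (Spec (CommRingCat.of k))) ⟶ X),
      AGF.IsQuotient h X a o → IsFinite X.hom → ∃ g : G₀ ⟶ H, g ≫ h = r₀ := by
  classical
  haveI hss : Subsingleton ↥(Spec (CommRingCat.of k)) :=
    inferInstanceAs (Subsingleton (PrimeSpectrum k))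
  haveI hcG : CompactSpace ↥G.left := (quasiCompact_iff_compactSpace G.hom).mp inferInstance
  haveI : IsLocallyNoetherian G.left := LocallyOfFiniteType.isLocallyNoetherian G.hom
  haveI : IsNoetherian G.left := { }
  have hopen0 : IsOpen (connectedComponent ((η[G]).left.base t)) :=
    Groth.Agent.Lib.Helper15.NT.isOpen_connectedComponent_of_noetherianSpace _
  have hopen : IsOpen (Set.range r₀.left) := by
    have : Set.range r₀.left = Set.range ⇑r₀.left.base := rfl
    rw [this, hr₀]; exact hopen0
  have he : η[G].left t ∈ Set.range r₀.left := by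
    have : Set.range r₀.left = Set.range ⇑r₀.left.base := rfl
    rw [this, hr₀]; exact mem_connectedComponent
  refine ⟨?_, ?_⟩
  · intro X a o hq
    obtain ⟨hlft, hflat, hsurj, hpb⟩ := hq
    have hfin : Finite ↥X.left :=
      Groth.Agent.Lib.Helper11.QF1.finite_of_isOpen_fibers (a.orbitMap o).left hsurj.surj
        (fun g => Groth.Agent.Lib.Helper11.QF1.isOpen_fiber r₀ (a.orbitMap o) hpb hopen t he g)
    haveI := hlft
    haveI : LocallyQuasiFinite X.hom :=
      LocallyQuasiFinite.of_finite_preimage_singleton _ (fun x => Set.toFinite _)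
    haveI : CompactSpace ↥X.left := Finite.compactSpace
    haveI : QuasiCompact X.hom := (quasiCompact_iff_compactSpace X.hom).mpr inferInstance
    haveI : IsLocallyArtinian (Spec (CommRingCat.of k)) :=
      Scheme.isLocallyArtinianScheme_Spec.mpr (inferInstanceAs (IsArtinianRing k))
    exact IsFinite.of_locallyQuasiFinite X.hom
  · intro H _ h _ _ X a o hq hfinX
    obtain ⟨hlft, hflat, hsurj, hpb⟩ := hq
    haveI := hfinX
    have hdisc : ∀ x : X.left, IsOpen ({x} : Set X.left) := by
      intro x
      obtain ⟨u, hu, hux⟩ := isDiscrete_iff_forall_mem_exists_isOpen.mp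
        (X.hom.isDiscrete_preimage_singleton (X.hom x)) x
        (Set.mem_preimage.mpr (Set.mem_singleton _))
      have hu' : u = {x} := by
        rw [← hux]
        ext z
        simp only [Set.mem_inter_iff, Set.mem_preimage, Set.mem_singleton_iff]
        exact ⟨fun hz => ⟨hz, Subsingleton.elim _ _⟩, fun hz => hz.1⟩
      rw [← hu']; exact hu
    haveI : DiscreteTopology ↥X.left := discreteTopology_iff_isOpen_singleton.mpr hdisc
    have hclopen : IsClopen ((a.orbitMap o).left ⁻¹' {(a.orbitMap o).left (η[G].left t)}) :=
      (isClopen_discrete _).preimage (a.orbitMap o).left.continuous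
    have hsub : Set.range r₀.left ⊆ Set.range h.left := by
      have : Set.range r₀.left = Set.range ⇑r₀.left.base := rfl
      rw [this, hr₀]
      intro g hg
      have h1 : g ∈ (a.orbitMap o).left ⁻¹' {(a.orbitMap o).left (η[G].left t)} :=
        hclopen.connectedComponent_subset (Set.mem_preimage.mpr (Set.mem_singleton _)) hg
      have h2 : (a.orbitMap o).left g = (a.orbitMap o).left (η[G].left t) := h1
      exact Groth.Agent.Lib.Helper11.QF1.mem_range_of_fiber_unit h (a.orbitMap o) hpb t h2.symm
    have hker : h.left.ker ≤ r₀.left.ker := by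
      rw [Groth.Agent.Lib.Helper11.GrpdI.ker_eq_vanishingIdeal_of_isReduced r₀.left,
        ← Scheme.IdealSheafData.le_support_iff_le_vanishingIdeal,
        TopologicalSpace.Closeds.closure_le]
      intro z hz
      exact Scheme.Hom.range_subset_ker_support h.left (hsub hz)
    have hgl : IsClosedImmersion.lift h.left r₀.left hker ≫ h.left = r₀.left :=
      IsClosedImmersion.lift_fac _ _ _
    have hw : IsClosedImmersion.lift h.left r₀.left hker ≫ H.hom = G₀.hom := by
      rw [← Over.w h, ← Category.assoc, hgl, Over.w r₀]
    refine ⟨Over.homMk (IsClosedImmersion.lift h.left r₀.left hker) hw, ?_⟩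
    apply Over.OverMorphism.ext
    show IsClosedImmersion.lift h.left r₀.left hker ≫ h.left = r₀.left
    exact hgl

end Groth.Agent.S14596
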