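import Groth.Statements.S14608
import Mathlib

set_option autoImplicit false
universe u v
open CAlg

namespace Groth.Agent.S14608

open TensorProduct in
theorem local_main.{r, w} {R : Type r} [CommRing R] [IsLocalRing R] {K M I F C : Type w}
    [AddCommGroup K] [Module R K] [AddCommGroup M] [Module R M] [AddCommGroup I] [Module R I]
    [AddCommGroup F] [Module R F] [AddCommGroup C] [Module R C]
    [Module.Finite R I] [Module.Finite R F] [Module.Free R F]
    (i : K →ₗ[R] M) (q : M →ₗ[R] I) (j : I →ₗ[R] F) (π : F →ₗ[R] C)
    (hi : Function.Injective i) (hiq : Function.Exact i q) (hq : Function.Surjective q)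
    (hj : Function.Injective j) (hjπ : Function.Exact j π) (hπ : Function.Surjective π) :
    (Function.Injective (j.lTensor (IsLocalRing.ResidueField R)) → Module.Free R C) ∧
    (Module.Free R C → Function.Injective (j.lTensor (IsLocalRing.ResidueField R)) ∧
      Module.Free R I ∧ Function.Injective (i.lTensor (IsLocalRing.ResidueField R))) := by
  constructor
  · intro h
    exact Module.free_of_lTensor_residueField_injective j π hπ hjπ h
  · intro hC
    haveI := hC
    obtain ⟨s, hs⟩ := Module.projective_lifting_property π LinearMap.id hπ
    have t1 := (Function.Exact.split_tfae hjπ hj hπ).out 0 1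
    obtain ⟨r, hr⟩ := t1.mp ⟨s, hs⟩
    have hjκ : Function.Injective (j.lTensor (IsLocalRing.ResidueField R)) := by
      have h1 : r.lTensor (IsLocalRing.ResidueField R) ∘ₗ
          j.lTensor (IsLocalRing.ResidueField R) = LinearMap.id := by
        rw [← LinearMap.lTensor_comp, hr, LinearMap.lTensor_id]
      exact Function.HasLeftInverse.injective ⟨_, LinearMap.congr_fun h1⟩
    haveI : Module.Projective R I := Module.Projective.of_split j r hr
    haveI : Module.Free R I := Module.free_of_flat_of_isLocalRing
    obtain ⟨s', hs'⟩ := Module.projective_lifting_property q LinearMap.id hq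
    have t2 := (Function.Exact.split_tfae hiq hi hq).out 0 1
    obtain ⟨r', hr'⟩ := t2.mp ⟨s', hs'⟩
    refine ⟨hjκ, inferInstance, ?_⟩
    have h1 : r'.lTensor (IsLocalRing.ResidueField R) ∘ₗ
        i.lTensor (IsLocalRing.ResidueField R) = LinearMap.id := by
      rw [← LinearMap.lTensor_comp, hr', LinearMap.lTensor_id]
    exact Function.HasLeftInverse.injective ⟨_, LinearMap.congr_fun h1⟩

open TensorProduct in
theorem nat_cancel {A : Type u} [CommRing A] (p : Ideal A) [p.IsPrime]
    {X Y : Type v} [AddCommGroup X] [Module A X] [AddCommGroup Y] [Module A Y] (f : X →ₗ[A] Y)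
    (z : p.ResidueField ⊗[Localization.AtPrime p] (Localization.AtPrime p ⊗[A] X)) :
    TensorProduct.AlgebraTensorModule.cancelBaseChange A (Localization.AtPrime p)
      (Localization.AtPrime p) p.ResidueField Y
      ((f.baseChange (Localization.AtPrime p)).lTensor p.ResidueField z) =
    f.lTensor p.ResidueField (TensorProduct.AlgebraTensorModule.cancelBaseChange A
      (Localization.AtPrime p) (Localization.AtPrime p) p.ResidueField X z) := by
  induction z using TensorProduct.induction_on with
  | zero => simp
  | add a b ha hb => simp only [map_add, ha, hb]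
  | tmul x y =>
    induction y using TensorProduct.induction_on with
    | zero => simp
    | add a b ha hb => simp only [TensorProduct.tmul_add, map_add, ha, hb]
    | tmul b c => simp

open TensorProduct in
theorem inj_iff {A : Type u} [CommRing A] (p : Ideal A) [p.IsPrime]
    {X Y : Type v} [AddCommGroup X] [Module A X] [AddCommGroup Y] [Module A Y] (f : X →ₗ[A] Y) :
    Function.Injective ((f.baseChange (Localization.AtPrime p)).lTensor p.ResidueField) ↔
      Function.Injective (f.lTensor p.ResidueField) := by
  let eX := TensorProduct.AlgebraTensorModule.cancelBaseChange A (Localization.AtPrime p)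
      (Localization.AtPrime p) p.ResidueField X
  let eY := TensorProduct.AlgebraTensorModule.cancelBaseChange A (Localization.AtPrime p)
      (Localization.AtPrime p) p.ResidueField Y
  have hnat : ∀ z, eY ((f.baseChange (Localization.AtPrime p)).lTensor p.ResidueField z) =
      f.lTensor p.ResidueField (eX z) := nat_cancel p f
  constructor
  · intro h z₁ z₂ hz
    obtain ⟨w₁, rfl⟩ := eX.surjective z₁
    obtain ⟨w₂, rfl⟩ := eX.surjective z₂
    rw [← hnat, ← hnat] at hz
    rw [h (eY.injective hz)]
  · intro h w₁ w₂ hw
    apply eX.injective
    apply h
    rw [← hnat, ← hnat, hw]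

open TensorProduct in
theorem main_aux {A : Type u} [CommRing A] (p : Ideal A) [p.IsPrime]
    {K M I F C : Type v} [AddCommGroup K] [Module A K] [AddCommGroup M] [Module A M]
    [AddCommGroup I] [Module A I] [AddCommGroup F] [Module A F] [AddCommGroup C] [Module A C]
    [Module.Finite A I] [Module.Finite A F] [Module.Free A F]
    (i : K →ₗ[A] M) (q : M →ₗ[A] I) (j : I →ₗ[A] F) (π : F →ₗ[A] C) (δ : M →ₗ[A] F)
    (hδ : j ∘ₗ q = δ)
    (hi : Function.Injective i) (hiq : Function.Exact i q) (hq : Function.Surjective q)
    (hj : Function.Injective j) (hjπ : Function.Exact j π) (hπ : Function.Surjective π) :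
    [ Function.Exact (i.lTensor p.ResidueField) (δ.lTensor p.ResidueField),
      Function.Exact (i.lTensor p.ResidueField) (δ.lTensor p.ResidueField) ∧
        Function.Injective (i.lTensor p.ResidueField),
      Module.Free (Localization.AtPrime p) (LocalizedModule p.primeCompl C) ].TFAE ∧
    (Function.Exact (i.lTensor p.ResidueField) (δ.lTensor p.ResidueField) →
      Module.Free (Localization.AtPrime p) (LocalizedModule p.primeCompl I)) := by
  subst hδ
  have hiB : Function.Injective (i.baseChange (Localization.AtPrime p)) :=
    Module.Flat.lTensor_preserves_injective_linearMap (M := Localization.AtPrime p) i hi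
  have hjB : Function.Injective (j.baseChange (Localization.AtPrime p)) :=
    Module.Flat.lTensor_preserves_injective_linearMap (M := Localization.AtPrime p) j hj
  have hiqB : Function.Exact (i.baseChange (Localization.AtPrime p))
      (q.baseChange (Localization.AtPrime p)) :=
    lTensor_exact (Localization.AtPrime p) hiq hq
  have hqB : Function.Surjective (q.baseChange (Localization.AtPrime p)) :=
    LinearMap.lTensor_surjective (Localization.AtPrime p) hq
  have hjπB : Function.Exact (j.baseChange (Localization.AtPrime p))
      (π.baseChange (Localization.AtPrime p)) :=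
    lTensor_exact (Localization.AtPrime p) hjπ hπ
  have hπB : Function.Surjective (π.baseChange (Localization.AtPrime p)) :=
    LinearMap.lTensor_surjective (Localization.AtPrime p) hπ
  obtain ⟨hL1, hL2⟩ := local_main (i.baseChange (Localization.AtPrime p))
    (q.baseChange (Localization.AtPrime p)) (j.baseChange (Localization.AtPrime p))
    (π.baseChange (Localization.AtPrime p)) hiB hiqB hqB hjB hjπB hπB
  have hJB := inj_iff p j
  have hIB := inj_iff p i
  have hexκ : Function.Exact (i.lTensor p.ResidueField) (q.lTensor p.ResidueField) :=
    lTensor_exact _ hiq hq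
  have hqκ : Function.Surjective (q.lTensor p.ResidueField) :=
    LinearMap.lTensor_surjective _ hq
  have hδκ : (j ∘ₗ q).lTensor p.ResidueField =
      j.lTensor p.ResidueField ∘ₗ q.lTensor p.ResidueField := LinearMap.lTensor_comp _ _ _
  have hJa : Function.Injective (j.lTensor p.ResidueField) ↔
      Function.Exact (i.lTensor p.ResidueField) ((j ∘ₗ q).lTensor p.ResidueField) := by
    constructor
    · intro hJ x
      rw [hδκ, LinearMap.comp_apply]
      constructor
      · intro h
        have h0 : q.lTensor p.ResidueField x = 0 := hJ (by rw [h, map_zero])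
        exact (hexκ x).1 h0
      · intro h
        rw [(hexκ x).2 h, map_zero]
    · intro ha
      rw [injective_iff_map_eq_zero]
      intro y hy
      obtain ⟨x, rfl⟩ := hqκ y
      have h1 : (j ∘ₗ q).lTensor p.ResidueField x = 0 := by
        rw [hδκ, LinearMap.comp_apply]; exact hy
      obtain ⟨z, rfl⟩ := (ha x).1 h1
      exact hexκ.apply_apply_eq_zero z
  have hfreeC : Module.Free (Localization.AtPrime p) (LocalizedModule p.primeCompl C) ↔
      Module.Free (Localization.AtPrime p) (Localization.AtPrime p ⊗[A] C) :=
    ⟨fun h => Module.Free.of_equiv (LocalizedModule.equivTensorProduct p.primeCompl C),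
     fun h => Module.Free.of_equiv (LocalizedModule.equivTensorProduct p.primeCompl C).symm⟩
  refine ⟨?_, ?_⟩
  · tfae_have 2 → 1 := fun h => h.1
    tfae_have 1 → 3 := fun h => hfreeC.2 (hL1 (hJB.2 (hJa.2 h)))
    tfae_have 3 → 2 := fun h => by
      obtain ⟨h1, _, h3⟩ := hL2 (hfreeC.1 h)
      exact ⟨hJa.1 (hJB.1 h1), hIB.1 h3⟩
    tfae_finish
  · intro h
    obtain ⟨_, h2, _⟩ := hL2 (hL1 (hJB.2 (hJa.2 h)))
    haveI := h2
    exact Module.Free.of_equiv (LocalizedModule.equivTensorProduct p.primeCompl I).symm


open TensorProduct in
/-- Let A be a Noetherian ring, M a finitely generated A-module, F a finitely generated free A-module, δ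
: M → F an A-linear map and p a prime of A with residue field κ(p). The following are equivalent:
(a) the natural map (ker δ) ⊗ κ(p) → ker(δ ⊗ κ(p)) is surjective (its image is the whole kernel);
(b) that map is bijective; (c) (F / im δ) localized at p is a free module over the local ring A_p.
Moreover, if these hold then (im δ) localized at p is free over A_p. (The published statement takes
M to be the cokernel of a map of finitely generated free modules; over a Noetherian ring this is
every finitely generated M, which is what this row takes.) -/
theorem result (A : Type u) [CommRing A] [IsNoetherianRing A]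
    (M : Type v) (F : Type v) [AddCommGroup M] [Module A M] [Module.Finite A M]
    [AddCommGroup F] [Module A F] [Module.Finite A F] [Module.Free A F]
    (δ : M →ₗ[A] F) (p : Ideal A) [p.IsPrime] :
    [ Function.Exact (LinearMap.lTensor p.ResidueField (LinearMap.ker δ).subtype)
        (LinearMap.lTensor p.ResidueField δ),
      Function.Exact (LinearMap.lTensor p.ResidueField (LinearMap.ker δ).subtype)
        (LinearMap.lTensor p.ResidueField δ) ∧
        Function.Injective (LinearMap.lTensor p.ResidueField (LinearMap.ker δ).subtype),
      Module.Free (Localization.AtPrime p)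
        (LocalizedModule p.primeCompl (F ⧸ LinearMap.range δ)) ].TFAE ∧
    (Function.Exact (LinearMap.lTensor p.ResidueField (LinearMap.ker δ).subtype)
        (LinearMap.lTensor p.ResidueField δ) →
      Module.Free (Localization.AtPrime p)
        (LocalizedModule p.primeCompl (LinearMap.range δ))) := by
  exact main_aux p (LinearMap.ker δ).subtype δ.rangeRestrict (LinearMap.range δ).subtype
    (LinearMap.range δ).mkQ δ (LinearMap.ext fun x => rfl) (Submodule.injective_subtype _)
    (by rw [LinearMap.exact_iff, LinearMap.ker_rangeRestrict, Submodule.range_subtype])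
    δ.surjective_rangeRestrict (Submodule.injective_subtype _)
    (LinearMap.exact_subtype_mkQ _) (Submodule.mkQ_surjective _)

end Groth.Agent.S14608
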