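import Groth.Statements.S14610
import Mathlib
import Groth.Agent.Lib.Helper12.FibreRank

set_option autoImplicit false
universe u v
open CAlg

namespace Groth.Agent.S14610

open TensorProduct in
/-- Let A be a reduced Noetherian ring, M a finitely generated A-module, F a finitely generated free
A-module and δ : M → F an A-linear map such that the function p ↦ dim_{κ(p)} ker(δ ⊗ κ(p)) is
locally constant on Spec A. Then M, ker δ and coker δ = F / im δ are projective A-modules, and for
every A-module N the natural map (ker δ) ⊗ N → M ⊗ N is injective with image equal to the kernel of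
δ ⊗ N. -/
theorem result (A : Type u) [CommRing A]
    [IsNoetherianRing A] [IsReduced A] (M : Type v) (F : Type v) [AddCommGroup M] [Module A M]
    [Module.Finite A M] [AddCommGroup F] [Module A F] [Module.Finite A F] [Module.Free A F]
    (δ : M →ₗ[A] F)
    (h : IsLocallyConstant (fun x : PrimeSpectrum A =>
      Module.finrank x.asIdeal.ResidueField
        (LinearMap.ker (δ.baseChange x.asIdeal.ResidueField)))) :
    Module.Projective A M ∧ Module.Projective A (LinearMap.ker δ) ∧
      Module.Projective A (F ⧸ LinearMap.range δ) ∧
      ∀ (N : Type v) [AddCommGroup N] [Module A N],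
        Function.Injective (LinearMap.rTensor N (LinearMap.ker δ).subtype) ∧
        Function.Exact (LinearMap.rTensor N (LinearMap.ker δ).subtype) (LinearMap.rTensor N δ) := by
  classical
  haveI : Module.FinitePresentation A M := Module.finitePresentation_of_finite A M
  haveI : Module.FinitePresentation A (F ⧸ LinearMap.range δ) :=
    Module.finitePresentation_of_finite A _
  have hproj := Groth.Agent.Lib.Helper12.FibreRank.projective_of_add_const M
    (F ⧸ LinearMap.range δ)
    (fun x => Module.finrank x.asIdeal.ResidueField
        (LinearMap.ker (δ.baseChange x.asIdeal.ResidueField)) + Module.finrank A F)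
    (fun p q hq => by
      have := Groth.Agent.Lib.Helper12.FibreRank.eq_of_le_of_isLocallyConstant _ h hq
      exact congrArg (· + Module.finrank A F) this)
    (fun x => by
      haveI : Nontrivial A := ⟨⟨0, 1, fun h01 => x.isPrime.ne_top
        ((Ideal.eq_top_iff_one _).2 (by rw [← h01]; exact zero_mem _))⟩⟩
      have h1 := Groth.Agent.Lib.Helper12.FibreRank.finrank_coker_add x.asIdeal.ResidueField δ
      have h2 := LinearMap.finrank_range_add_finrank_ker (δ.baseChange x.asIdeal.ResidueField)
      have h3 : Module.finrank x.asIdeal.ResidueField (x.asIdeal.ResidueField ⊗[A] F) =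
          Module.finrank A F := Module.finrank_baseChange
      unfold Groth.Agent.Lib.Helper12.FibreRank.fdim
      omega)
  obtain ⟨hM, hC⟩ := hproj
  haveI := hM
  haveI := hC
  obtain ⟨s, hs⟩ := Module.projective_lifting_property (LinearMap.range δ).mkQ LinearMap.id
    (Submodule.mkQ_surjective _)
  have t1 := (Function.Exact.split_tfae (LinearMap.exact_subtype_mkQ (LinearMap.range δ))
    (Submodule.injective_subtype _) (Submodule.mkQ_surjective _)).out 0 1
  obtain ⟨r, hr⟩ := t1.mp ⟨s, hs⟩
  haveI : Module.Projective A (LinearMap.range δ) :=
    Module.Projective.of_split (LinearMap.range δ).subtype r hr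
  have hiq : Function.Exact (LinearMap.ker δ).subtype δ.rangeRestrict := by
    rw [LinearMap.exact_iff, LinearMap.ker_rangeRestrict, Submodule.range_subtype]
  obtain ⟨s', hs'⟩ := Module.projective_lifting_property δ.rangeRestrict LinearMap.id
    δ.surjective_rangeRestrict
  have t2 := (Function.Exact.split_tfae hiq (Submodule.injective_subtype _)
    δ.surjective_rangeRestrict).out 0 1
  obtain ⟨r', hr'⟩ := t2.mp ⟨s', hs'⟩
  haveI : Module.Projective A (LinearMap.ker δ) :=
    Module.Projective.of_split (LinearMap.ker δ).subtype r' hr'
  refine ⟨hM, inferInstance, hC, ?_⟩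
  intro N _ _
  have hinj_i : Function.Injective (LinearMap.rTensor N (LinearMap.ker δ).subtype) := by
    have h1 : r'.rTensor N ∘ₗ (LinearMap.ker δ).subtype.rTensor N = LinearMap.id := by
      rw [← LinearMap.rTensor_comp, hr', LinearMap.rTensor_id]
    exact Function.HasLeftInverse.injective ⟨_, LinearMap.congr_fun h1⟩
  have hinj_j : Function.Injective (LinearMap.rTensor N (LinearMap.range δ).subtype) := by
    have h1 : r.rTensor N ∘ₗ (LinearMap.range δ).subtype.rTensor N = LinearMap.id := by
      rw [← LinearMap.rTensor_comp, hr, LinearMap.rTensor_id]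
    exact Function.HasLeftInverse.injective ⟨_, LinearMap.congr_fun h1⟩
  refine ⟨hinj_i, ?_⟩
  have hex : Function.Exact (LinearMap.rTensor N (LinearMap.ker δ).subtype)
      (LinearMap.rTensor N δ.rangeRestrict) := rTensor_exact N hiq δ.surjective_rangeRestrict
  have hcomp : (LinearMap.range δ).subtype ∘ₗ δ.rangeRestrict = δ := LinearMap.ext fun x => rfl
  have hδ : LinearMap.rTensor N δ = LinearMap.rTensor N (LinearMap.range δ).subtype ∘ₗ
      LinearMap.rTensor N δ.rangeRestrict := by
    rw [← LinearMap.rTensor_comp, hcomp]
  intro x
  rw [hδ, LinearMap.comp_apply]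
  constructor
  · intro hx
    exact (hex x).1 (hinj_j (by rw [hx, map_zero]))
  · intro hx
    rw [(hex x).2 hx, map_zero]

end Groth.Agent.S14610
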