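import Groth.Statements.S14614
import Mathlib.AlgebraicGeometry.Noetherian
import Mathlib.AlgebraicGeometry.Stalk
import Mathlib.AlgebraicGeometry.Morphisms.Flat
import Mathlib.AlgebraicGeometry.Morphisms.UniversallyOpen
import Mathlib.RingTheory.HopkinsLevitzki
import Mathlib.RingTheory.Filtration
-- import your own Groth.Agent.* helpers here

set_option autoImplicit false
universe u
open Mor

namespace Groth.Agent.S14614

open CategoryTheory AlgebraicGeometry IsLocalRing

set_option backward.isDefEq.respectTransparency.types false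

/-- quotient of a noetherian local ring by a power of the maximal ideal -/
theorem quot_pow_facts (R : Type u) [CommRing R] [IsLocalRing R] [IsNoetherianRing R] (n : ℕ) :
    ∃ (_ : IsLocalRing (R ⧸ (maximalIdeal R) ^ (n + 1))),
      IsArtinianRing (R ⧸ (maximalIdeal R) ^ (n + 1)) ∧
      IsLocalHom (Ideal.Quotient.mk ((maximalIdeal R) ^ (n + 1))) := by
  have hne : (maximalIdeal R) ^ (n + 1) ≠ ⊤ := by
    intro h
    have : (maximalIdeal R) ^ (n + 1) ≤ maximalIdeal R := Ideal.pow_le_self (by omega)
    rw [h] at this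
    exact (maximalIdeal.isMaximal R).ne_top (top_le_iff.mp this)
  have hnt : Nontrivial (R ⧸ (maximalIdeal R) ^ (n + 1)) := Ideal.Quotient.nontrivial_iff.mpr hne
  have hloc : IsLocalRing (R ⧸ (maximalIdeal R) ^ (n + 1)) :=
    IsLocalRing.of_surjective' (Ideal.Quotient.mk _) Ideal.Quotient.mk_surjective
  have hlh : IsLocalHom (Ideal.Quotient.mk ((maximalIdeal R) ^ (n + 1))) :=
    IsLocalHom.of_surjective _ Ideal.Quotient.mk_surjective
  refine ⟨hloc, ?_, hlh⟩
  rw [isArtinianRing_iff_isNilpotent_maximalIdeal]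
  refine ⟨n + 1, ?_⟩
  have hle : maximalIdeal (R ⧸ (maximalIdeal R) ^ (n + 1)) ≤
      (maximalIdeal R).map (Ideal.Quotient.mk ((maximalIdeal R) ^ (n + 1))) := by
    intro a ha
    obtain ⟨r, rfl⟩ := Ideal.Quotient.mk_surjective a
    apply Ideal.mem_map_of_mem
    rw [mem_maximalIdeal, mem_nonunits_iff] at ha ⊢
    intro hr
    exact ha (hr.map _)
  rw [Ideal.zero_eq_bot, eq_bot_iff]
  calc maximalIdeal (R ⧸ (maximalIdeal R) ^ (n + 1)) ^ (n + 1)
      ≤ ((maximalIdeal R).map (Ideal.Quotient.mk ((maximalIdeal R) ^ (n + 1)))) ^ (n + 1) :=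
        Ideal.pow_right_mono hle _
    _ = ((maximalIdeal R) ^ (n + 1)).map (Ideal.Quotient.mk ((maximalIdeal R) ^ (n + 1))) :=
        (Ideal.map_pow _ _ _).symm
    _ = ⊥ := Ideal.map_quotient_self _

theorem factA {X : Scheme.{u}} {R : CommRingCat.{u}} [IsLocalRing R] {x : X}
    (q : X.presheaf.stalk x ⟶ R) [IsLocalHom q.hom]
    (G : Spec R ⟶ X) (hG : G = Spec.map q ≫ X.fromSpecStalk x) (U : X.Opens)
    (hU : G (closedPoint R) ∈ U) (hxU : x ∈ U) :
    X.presheaf.germ U _ hU ≫ Scheme.stalkClosedPointTo G = X.presheaf.germ U x hxU ≫ q := by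
  subst hG
  exact Scheme.germ_stalkClosedPointTo_Spec_fromSpecStalk q U hU

theorem closedPoint_eq {X : Scheme.{u}} {R : CommRingCat.{u}} [IsLocalRing R] {x : X}
    (q : X.presheaf.stalk x ⟶ R) [IsLocalHom q.hom] :
    (Spec.map q ≫ X.fromSpecStalk x) (closedPoint R) = x := by
  rw [Scheme.Hom.comp_apply, Spec_closedPoint, Scheme.fromSpecStalk_closedPoint]

theorem germ_transport {Z : Scheme.{u}} (V : Z.Opens) (φ : Γ(Z, V)) (a b : Z) (hab : a = b)
    (ha : a ∈ V) (hb : b ∈ V) (h : Z.presheaf.germ V a ha φ = 0) :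
    Z.presheaf.germ V b hb φ = 0 := by
  subst hab
  exact h

/-- The key step: the kernel of the stalk map is contained in every power of the maximal
ideal. -/
theorem ker_stalkMap_le (S : Scheme.{u}) [IsLocallyNoetherian S]
    {Z : Scheme.{u}} (i : Z ⟶ S) [IsClosedImmersion i]
    (h : ∀ (A : Type u) [CommRing A] [IsArtinianRing A] [IsLocalRing A]
      (g : Spec (CommRingCat.of A) ⟶ S),
      (∃ t : Spec (CommRingCat.of (IsLocalRing.ResidueField A)) ⟶ Z,
          t ≫ i = Spec.map (CommRingCat.ofHom (IsLocalRing.residue A)) ≫ g) →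
        ∃ g' : Spec (CommRingCat.of A) ⟶ Z, g' ≫ i = g)
    (z : Z) (n : ℕ) (x : S.presheaf.stalk (i z)) (hx : (i.stalkMap z).hom x = 0) :
    x ∈ (maximalIdeal (S.presheaf.stalk (i z))) ^ (n + 1) := by
  -- the artinian local ring
  obtain ⟨hloc, hart, hlh⟩ := quot_pow_facts (S.presheaf.stalk (i z)) n
  let A : Type u := (S.presheaf.stalk (i z)) ⧸ (maximalIdeal (S.presheaf.stalk (i z))) ^ (n + 1)
  let q : S.presheaf.stalk (i z) ⟶ CommRingCat.of A :=
    CommRingCat.ofHom (Ideal.Quotient.mk ((maximalIdeal (S.presheaf.stalk (i z))) ^ (n + 1)))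
  have : IsLocalRing A := hloc
  have : IsLocalRing (CommRingCat.of A) := hloc
  have : IsArtinianRing A := hart
  have : IsLocalHom q.hom := hlh
  let g : Spec (CommRingCat.of A) ⟶ S := Spec.map q ≫ S.fromSpecStalk (i z)
  -- the residue field point factors through `Z`
  have hsurj : Function.Surjective (i.stalkMap z).hom := i.stalkMap_surjective z
  have hker : RingHom.ker (i.stalkMap z).hom ≤
      RingHom.ker ((IsLocalRing.residue A).comp q.hom) := by
    intro y hy
    rw [RingHom.mem_ker] at hy ⊢
    have hy' : y ∈ maximalIdeal (S.presheaf.stalk (i z)) := by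
      rw [mem_maximalIdeal, mem_nonunits_iff]
      intro hu
      have := hu.map (i.stalkMap z).hom
      rw [hy] at this
      exact not_isUnit_zero this
    rw [RingHom.comp_apply, IsLocalRing.residue_eq_zero_iff, mem_maximalIdeal, mem_nonunits_iff]
    intro hu
    have hy'' : IsUnit y := (isUnit_map_iff q.hom y).mp hu
    exact hy' hy''
  let ψ : Z.presheaf.stalk z ⟶ CommRingCat.of (IsLocalRing.ResidueField A) :=
    CommRingCat.ofHom (RingHom.liftOfSurjective (i.stalkMap z).hom hsurj
      ⟨(IsLocalRing.residue A).comp q.hom, hker⟩)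
  have hψ : i.stalkMap z ≫ ψ = q ≫ CommRingCat.ofHom (IsLocalRing.residue A) := by
    ext y
    exact RingHom.liftOfSurjective_comp_apply (i.stalkMap z).hom hsurj
      ⟨(IsLocalRing.residue A).comp q.hom, hker⟩ y
  have ht : (Spec.map ψ ≫ Z.fromSpecStalk z) ≫ i =
      Spec.map (CommRingCat.ofHom (IsLocalRing.residue A)) ≫ g := by
    rw [Category.assoc, ← Scheme.SpecMap_stalkMap_fromSpecStalk, ← Spec.map_comp_assoc, hψ,
      Spec.map_comp_assoc]
  obtain ⟨g', hg'⟩ := h A g ⟨Spec.map ψ ≫ Z.fromSpecStalk z, ht⟩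
  -- the closed point goes to `z`
  have hcp : (g' ≫ i) (closedPoint (CommRingCat.of A)) = i z := by
    rw [hg']
    exact closedPoint_eq q
  have hz' : g' (closedPoint (CommRingCat.of A)) = z := by
    apply i.isClosedEmbedding.injective
    exact (Scheme.Hom.comp_apply g' i _).symm.trans hcp
  -- write `x` as a germ
  obtain ⟨U, hU, f, rfl⟩ := S.presheaf.exists_germ_eq x
  have hA := factA q (g' ≫ i) hg' U (by rw [hcp]; exact hU) hU
  rw [Scheme.stalkClosedPointTo_comp] at hA
  have hzU : g' (closedPoint (CommRingCat.of A)) ∈ i ⁻¹ᵁ U := by rw [hz']; exact hU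
  have hB : (i.app U ≫ Z.presheaf.germ (i ⁻¹ᵁ U) (g' (closedPoint (CommRingCat.of A))) hzU) ≫
      Scheme.stalkClosedPointTo g' = S.presheaf.germ U (i z) hU ≫ q := by
    rw [← hA, ← Scheme.Hom.germ_stalkMap i U (g' (closedPoint (CommRingCat.of A))) hzU,
      Category.assoc]
    rfl
  -- the germ of `i^♯ f` vanishes at `z`
  have hgerm : Z.presheaf.germ (i ⁻¹ᵁ U) z hU (i.app U f) = 0 := by
    have := Scheme.Hom.germ_stalkMap i U z hU
    have h2 := ConcreteCategory.congr_hom this f
    rw [ConcreteCategory.comp_apply, ConcreteCategory.comp_apply] at h2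
    rw [← h2]
    exact hx
  have hgerm' : Z.presheaf.germ (i ⁻¹ᵁ U) (g' (closedPoint (CommRingCat.of A)))
      hzU (i.app U f) = 0 :=
    germ_transport _ _ z _ hz'.symm hU _ hgerm
  have h2 : (Scheme.stalkClosedPointTo g')
      (Z.presheaf.germ (i ⁻¹ᵁ U) (g' (closedPoint (CommRingCat.of A))) hzU (i.app U f)) =
      q (S.presheaf.germ U (i z) hU f) := ConcreteCategory.congr_hom hB f
  have hq : q (S.presheaf.germ U (i z) hU f) = 0 := by
    rw [← h2, hgerm', map_zero]
  exact Ideal.Quotient.eq_zero_iff_mem.mp hq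

open CategoryTheory AlgebraicGeometry in
/-- Let S be a locally Noetherian scheme and i : Z → S a closed immersion with the following property:
for every Artinian local ring A with residue field k and every morphism g : Spec A → S, if the
restriction Spec k → Spec A → S of g factors through i then so does g. Then i is also an open
immersion, i.e. the closed subscheme Z is open in S as a subscheme. (The published hypothesis is an
equivalence; its other direction always holds, so this row assumes only the implication.) -/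
theorem result (S : Scheme.{u}) [IsLocallyNoetherian S]
    {Z : Scheme.{u}} (i : Z ⟶ S) [IsClosedImmersion i]
    (h : ∀ (A : Type u) [CommRing A] [IsArtinianRing A] [IsLocalRing A] (g : Spec (CommRingCat.of A) ⟶ S),
      (∃ t : Spec (CommRingCat.of (IsLocalRing.ResidueField A)) ⟶ Z,
          t ≫ i = Spec.map (CommRingCat.ofHom (IsLocalRing.residue A)) ≫ g) →
        ∃ g' : Spec (CommRingCat.of A) ⟶ Z, g' ≫ i = g) :
    IsOpenImmersion i := by
  -- stalk maps are injective
  have hinj : ∀ z : Z, Function.Injective (i.stalkMap z).hom := by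
    intro z
    rw [injective_iff_map_eq_zero]
    intro x hx
    have hmem : x ∈ ⨅ k, (maximalIdeal (S.presheaf.stalk (i z))) ^ k := by
      rw [Ideal.mem_iInf]
      intro k
      rcases k with _ | k
      · simp
      · exact ker_stalkMap_le S i h z k x hx
    rw [Ideal.iInf_pow_eq_bot_of_isLocalRing _ (maximalIdeal.isMaximal _).ne_top] at hmem
    exact hmem
  have hbij : ∀ z : Z, Function.Bijective (i.stalkMap z).hom :=
    fun z => ⟨hinj z, i.stalkMap_surjective z⟩
  have hiso : ∀ z : Z, IsIso (i.stalkMap z) := fun z =>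
    (ConcreteCategory.isIso_iff_bijective _).2 (hbij z)
  have hflat : Flat i := Flat.of_stalkMap i (fun z => RingHom.Flat.of_bijective (hbij z))
  have hlfp : LocallyOfFinitePresentation i :=
    LocallyOfFinitePresentation.iff_locallyOfFiniteType.mpr inferInstance
  have hopen : Topology.IsOpenEmbedding i :=
    .of_isEmbedding_isOpenMap i.isClosedEmbedding.isEmbedding i.isOpenMap
  exact IsOpenImmersion.of_isIso_stalkMap i hopen

end Groth.Agent.S14614
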