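import Groth.Statements.S14615
-- import your own Groth.Agent.* helpers here

set_option autoImplicit false
universe u
open Formal2

namespace Groth.Agent.S14615

/-- the shift operator `(x_n) ↦ (t_n x_{n+1})` on the product -/
def shift (G : ℕ → Type u) [∀ n, AddCommGroup (G n)] (t : ∀ n, G (n + 1) →+ G n) :
    (∀ n, G n) →+ (∀ n, G n) where
  toFun x := fun n => t n (x (n + 1))
  map_zero' := by ext n; simp
  map_add' x y := by ext n; simp

theorem shift_apply (G : ℕ → Type u) [∀ n, AddCommGroup (G n)] (t : ∀ n, G (n + 1) →+ G n)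
    (x : ∀ n, G n) (n : ℕ) : shift G t x n = t n (x (n + 1)) := rfl

theorem iterate_shift_zero (G : ℕ → Type u) [∀ n, AddCommGroup (G n)]
    (t : ∀ n, G (n + 1) →+ G n) (k : ℕ) : (shift G t)^[k] 0 = 0 := by
  induction k with
  | zero => rfl
  | succ k ih => rw [Function.iterate_succ_apply', ih, map_zero]

/-- key vanishing: if the composite `G_j → G_i` vanishes, then `S^k x` vanishes at `i` for
`i + k ≥ j`. -/
theorem iterate_shift_vanish (G : ℕ → Type u) [∀ n, AddCommGroup (G n)]
    (t : ∀ n, G (n + 1) →+ G n) (i j : ℕ)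
    (hj : ∀ x : ∀ n, G n, (∀ n, i ≤ n → n < j → x n = t n (x (n + 1))) → x i = 0)
    (x : ∀ n, G n) (k : ℕ) (hk : j ≤ i + k) : ((shift G t)^[k] x) i = 0 := by
  classical
  let w : ∀ n, G n := fun n => if n ≤ i + k then ((shift G t)^[i + k - n] x) n else 0
  have hw : ∀ n, i ≤ n → n < j → w n = t n (w (n + 1)) := by
    intro n _ hnj
    have h1 : n ≤ i + k := by omega
    have h2 : n + 1 ≤ i + k := by omega
    simp only [w, if_pos h1, if_pos h2]
    have h3 : i + k - n = (i + k - (n + 1)) + 1 := by omega
    rw [h3, Function.iterate_succ_apply', shift_apply]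
  have := hj w hw
  simpa [w] using this

/-- Let … → G_2 → G_1 → G_0 be an inverse system of abelian groups with transition maps t_n : G_{n+1} →
G_n, and suppose that for every i there is j ≥ i such that the composite transition map G_j → G_i is
zero; this is expressed by asking that every sequence (x_n) ∈ ∏ G_n satisfying x_n = t_n(x_{n+1})
for i ≤ n < j has x_i = 0. Then both lim G_n and lim¹ G_n vanish: the map (x_n) ↦ (x_n −
t_n(x_{n+1})) on ∏ G_n, whose kernel is lim and whose cokernel is lim¹, is injective and surjective. -/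
theorem result (G : ℕ → Type u)
    [∀ n, AddCommGroup (G n)] (t : ∀ n, G (n + 1) →+ G n)
    (h : ∀ i : ℕ, ∃ j : ℕ, i ≤ j ∧
      ∀ x : ∀ n, G n, (∀ n, i ≤ n → n < j → x n = t n (x (n + 1))) → x i = 0) :
    Formal2.limZero G t = ⊥ ∧ Function.Surjective (Formal2.towerDiff G t) := by
  constructor
  · rw [eq_bot_iff]
    intro x hx
    rw [AddMonoidHom.mem_ker] at hx
    rw [AddSubgroup.mem_bot]
    have hx' : ∀ n, x n = t n (x (n + 1)) := by
      intro n
      have := congrFun hx n
      simp only [towerDiff, AddMonoidHom.coe_mk, ZeroHom.coe_mk, Pi.zero_apply] at this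
      exact sub_eq_zero.mp this
    ext i
    obtain ⟨j, _, hj⟩ := h i
    exact hj x (fun n _ _ => hx' n)
  · intro y
    choose J hJ1 hJ2 using h
    -- vanishing of `S^k y` at `n` for `k ≥ J n`
    have hvan : ∀ (n k : ℕ), J n ≤ k → ((shift G t)^[k] y) n = 0 := by
      intro n k hk
      exact iterate_shift_vanish G t n (J n) (hJ2 n) y k (by omega)
    -- partial sums are eventually constant
    have hstab : ∀ (n N : ℕ), J n ≤ N →
        ∑ k ∈ Finset.range N, ((shift G t)^[k] y) n =
          ∑ k ∈ Finset.range (J n), ((shift G t)^[k] y) n := by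
      intro n N hN
      induction N, hN using Nat.le_induction with
      | base => rfl
      | succ N hN ih => rw [Finset.sum_range_succ, ih, hvan n N hN, add_zero]
    refine ⟨fun n => ∑ k ∈ Finset.range (J n), ((shift G t)^[k] y) n, ?_⟩
    ext n
    simp only [towerDiff, AddMonoidHom.coe_mk, ZeroHom.coe_mk]
    set N := max (J n) (J (n + 1) + 1) with hN
    have e1 : ∑ k ∈ Finset.range (J n), ((shift G t)^[k] y) n =
        ∑ k ∈ Finset.range N, ((shift G t)^[k] y) n :=
      (hstab n N (le_max_left _ _)).symm
    have e2 : t n (∑ k ∈ Finset.range (J (n + 1)), ((shift G t)^[k] y) (n + 1)) =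
        ∑ k ∈ Finset.range (N - 1), ((shift G t)^[k + 1] y) n := by
      rw [← hstab (n + 1) (N - 1) (by omega), map_sum]
      refine Finset.sum_congr rfl ?_
      intro k _
      rw [Function.iterate_succ_apply', shift_apply]
    have hN1 : N = (N - 1) + 1 := by omega
    rw [e1, e2]
    conv_lhs => rw [hN1, Finset.sum_range_succ']
    simp

end Groth.Agent.S14615
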