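import Groth.Statements.S14617
-- import your own Groth.Agent.* helpers here

set_option autoImplicit false
universe u
open Formal2

namespace Groth.Agent.S14617

section

variable (G' G G'' : ℕ → Type u)
    [∀ n, AddCommGroup (G' n)] [∀ n, AddCommGroup (G n)] [∀ n, AddCommGroup (G'' n)]
    (t' : ∀ n, G' (n + 1) →+ G' n) (t : ∀ n, G (n + 1) →+ G n) (t'' : ∀ n, G'' (n + 1) →+ G'' n)
    (u : ∀ n, G' n →+ G n) (v : ∀ n, G n →+ G'' n)

/-- the product map -/
def prodMap {A B : ℕ → Type u} [∀ n, AddCommGroup (A n)] [∀ n, AddCommGroup (B n)]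
    (f : ∀ n, A n →+ B n) : (∀ n, A n) →+ (∀ n, B n) where
  toFun x := fun n => f n (x n)
  map_zero' := by ext n; simp
  map_add' x y := by ext n; simp

theorem prodMap_apply {A B : ℕ → Type u} [∀ n, AddCommGroup (A n)] [∀ n, AddCommGroup (B n)]
    (f : ∀ n, A n →+ B n) (x : ∀ n, A n) (n : ℕ) : prodMap f x n = f n (x n) := rfl

theorem towerDiff_apply {A : ℕ → Type u} [∀ n, AddCommGroup (A n)]
    (s : ∀ n, A (n + 1) →+ A n) (x : ∀ n, A n) (n : ℕ) :
    towerDiff A s x n = x n - s n (x (n + 1)) := rfl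

/-- compatibility of `towerDiff` with a morphism of towers -/
theorem towerDiff_prodMap {A B : ℕ → Type u} [∀ n, AddCommGroup (A n)] [∀ n, AddCommGroup (B n)]
    (sA : ∀ n, A (n + 1) →+ A n) (sB : ∀ n, B (n + 1) →+ B n)
    (f : ∀ n, A n →+ B n) (hf : ∀ n x, sB n (f (n + 1) x) = f n (sA n x)) (x : ∀ n, A n) :
    towerDiff B sB (prodMap f x) = prodMap f (towerDiff A sA x) := by
  ext n
  simp only [towerDiff_apply, prodMap_apply, map_sub, hf]

end

/-- Let 0 → (G'_n) → (G_n) → (G''_n) → 0 be a short exact sequence of inverse systems of abelian groups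
indexed by ℕ: maps u_n : G'_n → G_n and v_n : G_n → G''_n commuting with the transition maps, with
u_n injective, v_n surjective and ker v_n = im u_n for every n. Writing lim and lim¹ for the kernel
and cokernel of (x_n) ↦ (x_n − t_n(x_{n+1})) on the product, there is an exact sequence 0 → lim G' →
lim G → lim G'' → lim¹ G' → lim¹ G → lim¹ G'' → 0 in which the four outer maps are the ones induced
by u and v on products and the connecting map δ sends a compatible sequence (z_n) to the class of
the unique (w_n) with u_n(w_n) = y_n − t_n(y_{n+1}), for any levelwise lift (y_n) of (z_n). -/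
theorem result (G' G G'' : ℕ → Type u)
    [∀ n, AddCommGroup (G' n)] [∀ n, AddCommGroup (G n)] [∀ n, AddCommGroup (G'' n)]
    (t' : ∀ n, G' (n + 1) →+ G' n) (t : ∀ n, G (n + 1) →+ G n) (t'' : ∀ n, G'' (n + 1) →+ G'' n)
    (u : ∀ n, G' n →+ G n) (v : ∀ n, G n →+ G'' n)
    (hu : ∀ n x, t n (u (n + 1) x) = u n (t' n x)) (hv : ∀ n x, t'' n (v (n + 1) x) = v n (t n x))
    (hinj : ∀ n, Function.Injective (u n)) (hsurj : ∀ n, Function.Surjective (v n))
    (hex : ∀ n, (v n).ker = (u n).range) :
    ∃ (α : Formal2.limZero G' t' →+ Formal2.limZero G t) (β : Formal2.limZero G t →+ Formal2.limZero G'' t'')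
      (δ : Formal2.limZero G'' t'' →+ Formal2.limOne G' t')
      (ε : Formal2.limOne G' t' →+ Formal2.limOne G t) (ζ : Formal2.limOne G t →+ Formal2.limOne G'' t''),
      (∀ (x : Formal2.limZero G' t') (n : ℕ), (α x : ∀ n, G n) n = u n ((x : ∀ n, G' n) n)) ∧
      (∀ (x : Formal2.limZero G t) (n : ℕ), (β x : ∀ n, G'' n) n = v n ((x : ∀ n, G n) n)) ∧
      (∀ (z : Formal2.limZero G'' t'') (y : ∀ n, G n) (w : ∀ n, G' n),
          (∀ n, v n (y n) = (z : ∀ n, G'' n) n) → (∀ n, u n (w n) = Formal2.towerDiff G t y n) →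
            δ z = (QuotientAddGroup.mk w : Formal2.limOne G' t')) ∧
      (∀ y : ∀ n, G' n, ε (QuotientAddGroup.mk y : Formal2.limOne G' t') =
          (QuotientAddGroup.mk (fun n => u n (y n)) : Formal2.limOne G t)) ∧
      (∀ y : ∀ n, G n, ζ (QuotientAddGroup.mk y : Formal2.limOne G t) =
          (QuotientAddGroup.mk (fun n => v n (y n)) : Formal2.limOne G'' t'')) ∧
      Function.Injective α ∧ α.range = β.ker ∧ β.range = δ.ker ∧ δ.range = ε.ker ∧ ε.range = ζ.ker ∧
      Function.Surjective ζ := by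
  classical
  -- notation
  set U : (∀ n, G' n) →+ (∀ n, G n) := prodMap u with hU
  set V : (∀ n, G n) →+ (∀ n, G'' n) := prodMap v with hV
  set D' := towerDiff G' t' with hD'
  set D := towerDiff G t with hD
  set D'' := towerDiff G'' t'' with hD''
  have hDU : ∀ x, D (U x) = U (D' x) := towerDiff_prodMap t' t u hu
  have hDV : ∀ x, D'' (V x) = V (D x) := towerDiff_prodMap t t'' v hv
  have hUinj : Function.Injective U := by
    intro x y hxy
    ext n
    exact hinj n (congrFun hxy n)
  have hVsurj : Function.Surjective V := by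
    intro z
    choose y hy using fun n => hsurj n (z n)
    exact ⟨y, funext hy⟩
  have hVU : ∀ x, V (U x) = 0 := by
    intro x
    ext n
    have : u n (x n) ∈ (v n).ker := by rw [hex n]; exact ⟨x n, rfl⟩
    exact this
  have hker : ∀ y, V y = 0 → ∃ x, U x = y := by
    intro y hy
    have : ∀ n, ∃ a, u n a = y n := by
      intro n
      have h1 : y n ∈ (v n).ker := congrFun hy n
      rw [hex n] at h1
      exact h1
    choose x hx using this
    exact ⟨x, funext hx⟩
  -- α
  let α : Formal2.limZero G' t' →+ Formal2.limZero G t :=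
    (U.comp (AddSubgroup.subtype _)).codRestrict _ (by
      intro x
      rw [AddMonoidHom.mem_ker]
      change D (U x.1) = 0
      rw [hDU]
      have : D' x.1 = 0 := x.2
      rw [this, map_zero])
  have hα : ∀ x : Formal2.limZero G' t', (α x : ∀ n, G n) = U x.1 := fun x => rfl
  -- β
  let β : Formal2.limZero G t →+ Formal2.limZero G'' t'' :=
    (V.comp (AddSubgroup.subtype _)).codRestrict _ (by
      intro x
      rw [AddMonoidHom.mem_ker]
      change D'' (V x.1) = 0
      rw [hDV]
      have : D x.1 = 0 := x.2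
      rw [this, map_zero])
  have hβ : ∀ x : Formal2.limZero G t, (β x : ∀ n, G'' n) = V x.1 := fun x => rfl
  -- ε
  let ε : Formal2.limOne G' t' →+ Formal2.limOne G t :=
    QuotientAddGroup.map _ _ U (by
      rintro _ ⟨x, rfl⟩
      exact ⟨U x, hDU x⟩)
  have hε : ∀ y, ε (QuotientAddGroup.mk y) = QuotientAddGroup.mk (U y) := fun y => rfl
  -- ζ
  let ζ : Formal2.limOne G t →+ Formal2.limOne G'' t'' :=
    QuotientAddGroup.map _ _ V (by
      rintro _ ⟨x, rfl⟩
      exact ⟨V x, hDV x⟩)
  have hζ : ∀ y, ζ (QuotientAddGroup.mk y) = QuotientAddGroup.mk (V y) := fun y => rfl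
  -- δ : choices
  have hlift : ∀ z : Formal2.limZero G'' t'', ∃ y : ∀ n, G n, V y = z.1 := fun z => hVsurj z.1
  choose sy hsy using hlift
  have hw : ∀ z : Formal2.limZero G'' t'', ∃ w : ∀ n, G' n, U w = D (sy z) := by
    intro z
    apply hker
    rw [← hDV, hsy]
    exact z.2
  choose sw hsw using hw
  -- independence
  have hindep : ∀ (z : Formal2.limZero G'' t'') (y : ∀ n, G n) (w : ∀ n, G' n),
      V y = z.1 → U w = D y →
      (QuotientAddGroup.mk (sw z) : Formal2.limOne G' t') = QuotientAddGroup.mk w := by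
    intro z y w hy hwy
    obtain ⟨a, ha⟩ := hker (sy z - y) (by rw [map_sub, hsy, hy, sub_self])
    rw [QuotientAddGroup.eq]
    refine ⟨-a, ?_⟩
    apply hUinj
    rw [← hDU, map_neg U a, ha, map_add U, map_neg U, hsw, hwy, map_neg D, map_sub D]
    abel
  let δ : Formal2.limZero G'' t'' →+ Formal2.limOne G' t' :=
    AddMonoidHom.mk' (fun z => (QuotientAddGroup.mk (sw z) : Formal2.limOne G' t')) (by
      intro z₁ z₂
      have := hindep (z₁ + z₂) (sy z₁ + sy z₂) (sw z₁ + sw z₂)
        (by rw [map_add, hsy, hsy]; rfl) (by rw [map_add, map_add, hsw, hsw])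
      rw [this]
      rfl)
  have hδ : ∀ (z : Formal2.limZero G'' t'') (y : ∀ n, G n) (w : ∀ n, G' n),
      V y = z.1 → U w = D y → δ z = QuotientAddGroup.mk w := hindep
  refine ⟨α, β, δ, ε, ζ, ?_, ?_, ?_, ?_, ?_, ?_, ?_, ?_, ?_, ?_, ?_⟩
  · intro x n; rfl
  · intro x n; rfl
  · intro z y w hy hwy
    exact hδ z y w (funext hy) (funext hwy)
  · intro y; rfl
  · intro y; rfl
  · -- α injective
    intro x y hxy
    apply Subtype.ext
    apply hUinj
    have := congrArg Subtype.val hxy
    exact this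
  · -- range α = ker β
    ext x
    constructor
    · rintro ⟨a, rfl⟩
      rw [AddMonoidHom.mem_ker]
      apply Subtype.ext
      change V (U a.1) = 0
      exact hVU _
    · intro hx
      rw [AddMonoidHom.mem_ker] at hx
      have hx' : V x.1 = 0 := congrArg Subtype.val hx
      obtain ⟨a, ha⟩ := hker x.1 hx'
      have ha' : D' a = 0 := by
        apply hUinj
        rw [← hDU, ha, map_zero]
        exact x.2
      exact ⟨⟨a, ha'⟩, Subtype.ext ha⟩
  · -- range β = ker δ
    ext z
    constructor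
    · rintro ⟨x, rfl⟩
      rw [AddMonoidHom.mem_ker]
      rw [hδ (β x) x.1 0 rfl (by rw [map_zero]; exact x.2.symm)]
      rfl
    · intro hz
      rw [AddMonoidHom.mem_ker] at hz
      have h1 : (QuotientAddGroup.mk (sw z) : Formal2.limOne G' t') = 0 := hz
      rw [QuotientAddGroup.eq_zero_iff] at h1
      obtain ⟨a, ha⟩ := h1
      have hx : D (sy z - U a) = 0 := by
        rw [map_sub, hDU, ha, hsw, sub_self]
      refine ⟨⟨sy z - U a, hx⟩, Subtype.ext ?_⟩
      change V (sy z - U a) = z.1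
      rw [map_sub, hVU, sub_zero, hsy]
  · -- range δ = ker ε
    ext c
    constructor
    · rintro ⟨z, rfl⟩
      rw [AddMonoidHom.mem_ker]
      change ε (QuotientAddGroup.mk (sw z)) = 0
      rw [hε, hsw, QuotientAddGroup.eq_zero_iff]
      exact ⟨sy z, rfl⟩
    · intro hc
      rw [AddMonoidHom.mem_ker] at hc
      obtain ⟨w, rfl⟩ := QuotientAddGroup.mk_surjective c
      rw [hε, QuotientAddGroup.eq_zero_iff] at hc
      obtain ⟨y, hy⟩ := hc
      have hz : D'' (V y) = 0 := by rw [hDV, hy, hVU]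
      refine ⟨⟨V y, hz⟩, ?_⟩
      exact hδ ⟨V y, hz⟩ y w rfl hy.symm
  · -- range ε = ker ζ
    ext c
    constructor
    · rintro ⟨c', rfl⟩
      obtain ⟨w, rfl⟩ := QuotientAddGroup.mk_surjective c'
      rw [AddMonoidHom.mem_ker, hε, hζ, hVU]
      rfl
    · intro hc
      rw [AddMonoidHom.mem_ker] at hc
      obtain ⟨y, rfl⟩ := QuotientAddGroup.mk_surjective c
      rw [hζ, QuotientAddGroup.eq_zero_iff] at hc
      obtain ⟨z'', hz''⟩ := hc
      obtain ⟨y₂, rfl⟩ := hVsurj z''
      obtain ⟨w, hw⟩ := hker (y - D y₂) (by rw [map_sub, ← hDV, hz'', sub_self])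
      refine ⟨QuotientAddGroup.mk w, ?_⟩
      rw [hε, hw, QuotientAddGroup.eq]
      refine ⟨y₂, ?_⟩
      abel
  · -- ζ surjective
    intro c
    obtain ⟨z, rfl⟩ := QuotientAddGroup.mk_surjective c
    obtain ⟨y, rfl⟩ := hVsurj z
    exact ⟨QuotientAddGroup.mk y, rfl⟩

end Groth.Agent.S14617
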