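import Groth.Statements.S14616
import Groth.Agent.S14615
import Groth.Agent.S14617
-- import your own Groth.Agent.* helpers here

set_option autoImplicit false
universe u
open Formal2

namespace Groth.Agent.S14616

open CategoryTheory

section

variable (G : ℕ → Type u) [∀ n, AddCommGroup (G n)] (t : ∀ n, G (n + 1) →+ G n)

/-- the tower as a functor to abelian groups -/
noncomputable abbrev XX : ℕᵒᵖ ⥤ AddCommGrpCat.{u} :=
  Functor.ofOpSequence (X := fun n => AddCommGrpCat.of (G n))
    (fun n => AddCommGrpCat.ofHom (t n))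

/-- the tower as a functor to types -/
noncomputable abbrev FF : ℕᵒᵖ ⥤ Type u := XX G t ⋙ forget AddCommGrpCat

/-- transition map `G j → G n` for `n ≤ j` -/
noncomputable def TT (n j : ℕ) (h : n ≤ j) : G j →+ G n :=
  ((XX G t).map (homOfLE h).op).hom

theorem TT_comp (n j k : ℕ) (h1 : n ≤ j) (h2 : j ≤ k) (x : G k) :
    TT G t n j h1 (TT G t j k h2 x) = TT G t n k (h1.trans h2) x := by
  have : (homOfLE (h1.trans h2)).op = (homOfLE h2).op ≫ (homOfLE h1).op := rfl
  unfold TT
  rw [this, CategoryTheory.Functor.map_comp]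
  rfl

theorem TT_self (n : ℕ) (x : G n) : TT G t n n le_rfl x = x := by
  have : (homOfLE (le_refl n)).op = 𝟙 (Opposite.op n) := rfl
  unfold TT
  rw [this, CategoryTheory.Functor.map_id]
  rfl

theorem TT_succ (n : ℕ) (x : G (n + 1)) : TT G t n (n + 1) (Nat.le_add_right n 1) x = t n x := by
  unfold TT
  rw [Functor.ofOpSequence_map_homOfLE_succ]
  rfl

/-- the eventual image -/
noncomputable def EE (n : ℕ) : AddSubgroup (G n) :=
  ⨅ (j : ℕ) (h : n ≤ j), (TT G t n j h).range

theorem mem_EE (n : ℕ) (x : G n) :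
    x ∈ EE G t n ↔ ∀ (j : ℕ) (h : n ≤ j), ∃ y, TT G t n j h y = x := by
  simp only [EE, AddSubgroup.mem_iInf, AddMonoidHom.mem_range]

theorem map_mem_EE (n : ℕ) (x : G (n + 1)) (hx : x ∈ EE G t (n + 1)) : t n x ∈ EE G t n := by
  rw [mem_EE] at hx ⊢
  intro j hj
  obtain ⟨y, rfl⟩ := hx (j + 1) (by omega)
  refine ⟨TT G t j (j + 1) (by omega) y, ?_⟩
  rw [TT_comp, ← TT_succ, TT_comp]

/-- Mittag-Leffler: the eventual image is attained -/
theorem exists_EE_eq (h : (FF G t).IsMittagLeffler) (n : ℕ) :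
    ∃ (j : ℕ) (hj : n ≤ j), ∀ x, x ∈ EE G t n ↔ ∃ y, TT G t n j hj y = x := by
  obtain ⟨i, f, hf⟩ := h (Opposite.op n)
  have hni : n ≤ i.unop := leOfHom f.unop
  have hfeq : f = (homOfLE hni).op := by
    apply Quiver.Hom.unop_inj
    apply Subsingleton.elim
  refine ⟨i.unop, hni, fun x => ?_⟩
  constructor
  · intro hx
    exact (mem_EE G t n x).1 hx _ hni
  · rintro ⟨y, rfl⟩
    rw [mem_EE]
    intro k hk
    have hmem : (FF G t).map f y ∈ Set.range ((FF G t).map (homOfLE hk).op) :=
      hf (homOfLE hk).op ⟨y, rfl⟩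
    obtain ⟨z, hz⟩ := hmem
    refine ⟨z, ?_⟩
    rw [hfeq] at hz
    exact hz

theorem surj_EE (h : (FF G t).IsMittagLeffler) (n : ℕ) (x : G n) (hx : x ∈ EE G t n) :
    ∃ y ∈ EE G t (n + 1), t n y = x := by
  obtain ⟨j, hj, hE⟩ := exists_EE_eq G t h (n + 1)
  obtain ⟨y, rfl⟩ := (mem_EE G t n x).1 hx j (by omega)
  refine ⟨TT G t (n + 1) j hj y, (hE _).2 ⟨y, rfl⟩, ?_⟩
  rw [← TT_succ, TT_comp]

end

open CategoryTheory in
/-- Let … → G_2 → G_1 → G_0 be an inverse system of abelian groups with transition maps t_n : G_{n+1} →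
G_n which satisfies the Mittag-Leffler condition: for every i there is j ≥ i such that for all k ≥ j
the images of G_k → G_i and G_j → G_i coincide. Then lim¹ G_n = 0, i.e. the map (x_n) ↦ (x_n −
t_n(x_{n+1})) on ∏ G_n is surjective. -/
theorem result (G : ℕ → Type u) [∀ n, AddCommGroup (G n)]
    (t : ∀ n, G (n + 1) →+ G n)
    (h : (Functor.ofOpSequence (X := fun n => AddCommGrpCat.of (G n))
      (fun n => AddCommGrpCat.ofHom (t n)) ⋙ forget AddCommGrpCat).IsMittagLeffler) :
    Function.Surjective (Formal2.towerDiff G t) := by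
  classical
  -- the sub-tower of eventual images and the quotient tower
  let E : ∀ n, AddSubgroup (G n) := EE G t
  let t' : ∀ n, E (n + 1) →+ E n := fun n =>
    ((t n).comp (E (n + 1)).subtype).codRestrict (E n) (fun x => map_mem_EE G t n x.1 x.2)
  let t'' : ∀ n, G (n + 1) ⧸ E (n + 1) →+ G n ⧸ E n := fun n =>
    QuotientAddGroup.map (E (n + 1)) (E n) (t n) (fun x hx => map_mem_EE G t n x hx)
  let u : ∀ n, E n →+ G n := fun n => (E n).subtype
  let v : ∀ n, G n →+ G n ⧸ E n := fun n => QuotientAddGroup.mk' (E n)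
  obtain ⟨α, β, δ, ε, ζ, -, -, -, hε, hζ, -, -, -, -, hεζ, -⟩ :=
    Groth.Agent.S14617.result (fun n => E n) G (fun n => G n ⧸ E n) t' t t'' u v
      (fun n x => rfl) (fun n x => rfl)
      (fun n => Subtype.val_injective) (fun n => QuotientAddGroup.mk'_surjective (E n))
      (fun n => by
        ext x
        simp only [u, v, QuotientAddGroup.ker_mk', AddSubgroup.range_subtype])
  -- lim¹ of the sub-tower vanishes (surjective transition maps)
  have h1 : Function.Surjective (Formal2.towerDiff (fun n => E n) t') := by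
    intro y
    have hs : ∀ n (a : E n), ∃ b : E (n + 1), t' n b = a := by
      intro n a
      obtain ⟨b, hb, hba⟩ := surj_EE G t h n a.1 a.2
      exact ⟨⟨b, hb⟩, Subtype.ext hba⟩
    choose s hs' using hs
    let x : ∀ n, E n := fun n => Nat.rec (motive := fun n => E n) 0 (fun n xn => s n (xn - y n)) n
    refine ⟨x, ?_⟩
    ext n
    have hx : x (n + 1) = s n (x n - y n) := rfl
    simp only [towerDiff, AddMonoidHom.coe_mk, ZeroHom.coe_mk]
    rw [hx, hs']
    simp
  -- lim¹ of the quotient tower vanishes (pro-zero)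
  have h2 : Function.Surjective (Formal2.towerDiff (fun n => G n ⧸ E n) t'') := by
    refine (Groth.Agent.S14615.result (fun n => G n ⧸ E n) t'' ?_).2
    intro i
    obtain ⟨j, hj, hE⟩ := exists_EE_eq G t h i
    refine ⟨j, hj, ?_⟩
    intro x hx
    obtain ⟨g, hg⟩ := QuotientAddGroup.mk_surjective (x j)
    -- downward induction
    have key : ∀ d n (hn : n ≤ j), n + d = j → i ≤ n →
        x n = QuotientAddGroup.mk (TT G t n j hn g) := by
      intro d
      induction d with
      | zero =>
        intro n hn hnd _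
        have : n = j := by omega
        subst this
        rw [TT_self, hg]
      | succ d ih =>
        intro n hn hnd hin
        rw [hx n hin (by omega), ih (n + 1) (by omega) (by omega) (by omega)]
        change (QuotientAddGroup.mk (t n (TT G t (n + 1) j _ g)) : G n ⧸ E n) = _
        rw [← TT_succ, TT_comp]
    rw [key (j - i) i hj (by omega) le_rfl, QuotientAddGroup.eq_zero_iff]
    exact (hE _).2 ⟨g, rfl⟩
  -- conclude
  intro y
  have hy'' : ζ (QuotientAddGroup.mk y) = 0 := by
    rw [hζ]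
    obtain ⟨z, hz⟩ := h2 (fun n => v n (y n))
    rw [QuotientAddGroup.eq_zero_iff]
    exact ⟨z, hz⟩
  have hmem : (QuotientAddGroup.mk y : Formal2.limOne G t) ∈ ε.range := by
    rw [hεζ]
    exact hy''
  obtain ⟨c, hc⟩ := hmem
  obtain ⟨w, rfl⟩ := QuotientAddGroup.mk_surjective c
  obtain ⟨w', rfl⟩ := h1 w
  rw [hε] at hc
  have h0 : (QuotientAddGroup.mk (fun n => u n ((towerDiff (fun n => E n) t') w' n)) :
      Formal2.limOne G t) = 0 := by
    rw [QuotientAddGroup.eq_zero_iff]
    exact ⟨fun n => u n (w' n), rfl⟩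
  rw [h0] at hc
  have := hc.symm
  rw [QuotientAddGroup.eq_zero_iff] at this
  exact this

end Groth.Agent.S14616
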