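import Groth.Statements.S14619
import Groth.Agent.Lib.Helper13.CBCMumford3
import Groth.Agent.Lib.Helper13.CBCMain
import Groth.Agent.Lib.Helper7.LerayNat

set_option autoImplicit false
universe u
open Coherent

namespace Groth.Agent.S14619

open CategoryTheory CategoryTheory.Limits AlgebraicGeometry in
/-- Let A be a Noetherian ring, X a proper scheme over Spec A and F a coherent O_X-module flat over Spec
A. Suppose H^p(X, F) = 0 for all p > d and H^p(X_y, F|X_y) = 0 for every point y of Spec A and every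
p < d'. Then there is a cochain complex L of finitely generated projective A-modules, with L^i = 0
unless d' ≤ i ≤ d and with L = 0 when all H^p(X, F) vanish, such that for every A-algebra B and
every p the cohomology H^p(X ×_A Spec B, ξ^*F) of the pulled-back module is isomorphic to H^p(L ⊗_A
B). Only the existence of these isomorphisms of abelian groups is asserted (no naturality in B). -/
theorem result (A : Type u) [CommRing A] [IsNoetherianRing A] (X : Scheme.{u}) [X.Over (Spec (CommRingCat.of A))]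
    [IsProper (X ↘ Spec (CommRingCat.of A))] (F : X.Modules) (hF : Coh.IsCoh F)
    (hfl : FlatMod.IsFlatOver (X ↘ Spec (CommRingCat.of A)) F) (d' d : ℕ)
    (hd : ∀ p : ℕ, d < p → Subsingleton (Coh.HH X F p))
    (hd' : ∀ (y : ↑(Spec (CommRingCat.of A))) (p : ℕ), p < d' →
      Subsingleton (CohIII.fiberH (X ↘ Spec (CommRingCat.of A)) F y p)) :
    ∃ L : CochainComplex (ModuleCat.{u} A) ℤ,
      (∀ i, Module.Finite A (L.X i) ∧ Module.Projective A (L.X i)) ∧
      (∀ i : ℤ, i < (d' : ℤ) ∨ (d : ℤ) < i → IsZero (L.X i)) ∧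
      ((∀ p : ℕ, Subsingleton (Coh.HH X F p)) → ∀ i, IsZero (L.X i)) ∧
      ∀ (B : Type u) [CommRing B] [Algebra A B] (p : ℕ),
        Nonempty (Coh.HH (pullback (X ↘ Spec (CommRingCat.of A)) (Spec.map (CommRingCat.ofHom (algebraMap A B))))
            ((Scheme.Modules.pullback (pullback.fst (X ↘ Spec (CommRingCat.of A))
              (Spec.map (CommRingCat.ofHom (algebraMap A B))))).obj F) p ≃+
          CohIII.T L (p : ℤ) (ModuleCat.of A B)) := by
  classical
  haveI : F.IsQuasicoherent := hF.1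
  obtain ⟨Q, hQ, ⟨d₀, hd₀⟩, hpos, hν⟩ := Groth.Agent.Lib.Helper13.CBCMain.bridge A X F hF hfl
  have hQ' : ∀ i, Module.Finite A (Q.X i) ∧ Module.Flat A (Q.X i) := fun i =>
    ⟨(hQ i).1, haveI := (hQ i).2; inferInstance⟩
  have hQfl : ∀ i, Module.Flat A (Q.X i) := fun i => (hQ' i).2
  -- `H^n(X, F) ≃ H_{-n}(Q)`
  have hHH : ∀ n : ℕ, Nonempty (Coh.HH X F n ≃ₗ[A] ↑(Q.homology (-(n : ℤ)))) := by
    intro n
    obtain ⟨ν⟩ := hν n
    obtain ⟨ι, hfin, U, hcov, -, hU⟩ := Groth.Agent.Lib.Helper13.CBCCover.exists_cover A X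
    have hU2 := Groth.Agent.Lib.Helper13.CBCBC.affine_prod_of_finset U hU
    obtain ⟨e', he'⟩ := Groth.Agent.Lib.Helper7.LerayNat.cech_nat X U hcov hU n
    exact ⟨((Groth.Agent.Lib.Helper13.CBCUnit.HHunitEquiv A F U n e' he' hU2).symm.trans
      (Groth.Agent.Lib.Helper13.CBCUnit.linEquivOfBridge A F Q n (-(n : ℤ)) ν
        (ModuleCat.of A A))).trans (Groth.Agent.Lib.Helper7.unitHomologyEquiv Q (-(n : ℤ)))⟩
  -- vanishing at the residue fields
  have h2 : ∀ (m : Ideal A) [m.IsMaximal], ∀ p : ℤ, p < (d' : ℤ) →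
      IsZero ((CohIII.TFun Q (-p)).obj (ModuleCat.of A (A ⧸ m))) := by
    intro m hm p hp
    by_cases hneg : p < 0
    · exact hpos (-p) (by omega) _
    · obtain ⟨n, rfl⟩ : ∃ n : ℕ, p = n := ⟨p.toNat, by omega⟩
      obtain ⟨ν⟩ := hν n
      have hn : n < d' := by exact_mod_cast hp
      apply Groth.Agent.Lib.Helper13.CBCMumford.isZero_T_quot_of_dRank_eq_zero Q _
        (fun i => (hQ i).1) m
      rw [← Groth.Agent.Lib.Helper13.CBCRank.fiberRank_eq_dRank A X F n Q ν ⟨m, hm.isPrime⟩]
      haveI := hd' ⟨m, hm.isPrime⟩ n hn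
      unfold CohIII.fiberRank
      exact Module.finrank_zero_of_subsingleton
  -- vanishing of the functors below `d'`
  have hfun : ∀ n : ℕ, n < d' → ∀ M, IsZero ((CohIII.TFun Q (-(n : ℤ))).obj M) := by
    intro n
    induction n with
    | zero =>
      intro h0 M
      exact Groth.Agent.Lib.Helper13.CBCMumford.TFun_isZero_of_quot Q hQ' _
        (fun M => hpos _ (by norm_num) M)
        (fun m _ => h2 m ((0 : ℕ) : ℤ) (by exact_mod_cast h0)) M
    | succ n ih =>
      intro hn M
      refine Groth.Agent.Lib.Helper13.CBCMumford.TFun_isZero_of_quot Q hQ' _ (fun M => ?_)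
        (fun m _ => h2 m ((n + 1 : ℕ) : ℤ) (by exact_mod_cast hn)) M
      have e : (-((n + 1 : ℕ) : ℤ) + 1) = -(n : ℤ) := by push_cast; ring
      rw [e]
      exact ih (by omega) M
  have hTzero : ∀ p : ℤ, p < (d' : ℤ) → ∀ M, IsZero ((CohIII.TFun Q (-p)).obj M) := by
    intro p hp M
    by_cases hneg : p < 0
    · exact hpos (-p) (by omega) _
    · obtain ⟨n, rfl⟩ : ∃ n : ℕ, p = n := ⟨p.toNat, by omega⟩
      exact hfun n (by exact_mod_cast hp) M
  have h1 : ∀ p : ℤ, p < (d' : ℤ) → IsZero (Q.homology (-p)) := by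
    intro p hp
    haveI : Subsingleton ↑(CohIII.T Q (-p) (ModuleCat.of A A)) :=
      ModuleCat.subsingleton_of_isZero (hTzero p hp (ModuleCat.of A A))
    haveI : Subsingleton ↑(Q.homology (-p)) :=
      (Groth.Agent.Lib.Helper7.unitHomologyEquiv Q (-p)).symm.toEquiv.subsingleton
    exact ModuleCat.isZero_of_subsingleton _
  have h3 : ∀ p : ℤ, (d : ℤ) < p → IsZero (Q.homology (-p)) := by
    intro p hp
    obtain ⟨n, rfl⟩ : ∃ n : ℕ, p = n := ⟨p.toNat, by omega⟩
    obtain ⟨l⟩ := hHH n
    haveI := hd n (by exact_mod_cast hp)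
    haveI : Subsingleton ↑(Q.homology (-(n : ℤ))) := l.symm.toEquiv.subsingleton
    exact ModuleCat.isZero_of_subsingleton _
  by_cases hall : ∀ p : ℕ, Subsingleton (Coh.HH X F p)
  · -- everything vanishes: take the zero complex
    have hTA : ∀ q : ℤ, Subsingleton ↑((CohIII.TFun Q q).obj (ModuleCat.of A A)) := by
      intro q
      by_cases hq : 0 < q
      · exact ModuleCat.subsingleton_of_isZero (hpos q hq _)
      · obtain ⟨n, rfl⟩ : ∃ n : ℕ, q = -(n : ℤ) := ⟨(-q).toNat, by omega⟩
        obtain ⟨l⟩ := hHH n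
        haveI := hall n
        haveI : Subsingleton ↑(Q.homology (-(n : ℤ))) := l.symm.toEquiv.subsingleton
        exact (Groth.Agent.Lib.Helper7.unitHomologyEquiv Q (-(n : ℤ))).toEquiv.subsingleton
    have hTM : ∀ (q : ℤ) (M : ModuleCat.{u} A), Subsingleton ↑((CohIII.TFun Q q).obj M) := by
      intro q M
      have hex := Groth.Agent.Lib.Helper7.TFun_exact_upTo_of_flat Q hQfl d₀ hd₀ q
        (fun q' _ => by
          haveI := hTA q'
          haveI := Module.Free.of_subsingleton A ↑((CohIII.TFun Q q').obj (ModuleCat.of A A))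
          infer_instance) q le_rfl
      haveI := hex.2
      haveI := hTA q
      exact (Groth.Agent.Lib.Helper7.TFun_tMap_bijective_of_preservesEpi Q hQfl q M).2.subsingleton
    let Lz : CochainComplex (ModuleCat.{u} A) ℤ :=
      { X := fun _ => ModuleCat.of A PUnit
        d := fun _ _ => 0
        shape := fun _ _ _ => rfl
        d_comp_d' := fun _ _ _ _ _ => comp_zero }
    have hLz : ∀ i, IsZero (Lz.X i) := fun i =>
      ModuleCat.isZero_of_subsingleton (ModuleCat.of A PUnit)
    refine ⟨Lz, fun i => ?_, fun i _ => hLz i, fun _ i => hLz i, fun B _ _ p => ?_⟩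
    · haveI : Subsingleton ↑(Lz.X i) := ModuleCat.subsingleton_of_isZero (hLz i)
      haveI := Module.Free.of_subsingleton A ↑(Lz.X i)
      exact ⟨Module.Finite.of_finite, inferInstance⟩
    · obtain ⟨ν⟩ := hν p
      obtain ⟨e⟩ := Groth.Agent.Lib.Helper13.CBCMumford3.exists_baseChange_equiv A X F Q p ν B
      haveI : Subsingleton ↑(CohIII.T Q (-(p : ℤ)) (ModuleCat.of A B)) :=
        hTM (-(p : ℤ)) (ModuleCat.of A B)
      have hXz : IsZero ((CohIII.tensorObj Lz (ModuleCat.of A B)).X (p : ℤ)) :=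
        Functor.map_isZero (MonoidalCategory.tensorRight (ModuleCat.of A B)) (hLz _)
      have hH : IsZero ((CohIII.tensorObj Lz (ModuleCat.of A B)).homology (p : ℤ)) := by
        rw [← HomologicalComplex.exactAt_iff_isZero_homology]
        exact ((CohIII.tensorObj Lz (ModuleCat.of A B)).sc (p : ℤ)).exact_of_isZero_X₂ hXz
      haveI : Subsingleton ↑(CohIII.T Lz (p : ℤ) (ModuleCat.of A B)) :=
        ModuleCat.subsingleton_of_isZero hH
      haveI : Subsingleton (Coh.HH (pullback (X ↘ Spec (CommRingCat.of A))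
          (Spec.map (CommRingCat.ofHom (algebraMap A B))))
          ((Scheme.Modules.pullback (pullback.fst (X ↘ Spec (CommRingCat.of A))
            (Spec.map (CommRingCat.ofHom (algebraMap A B))))).obj F) p) :=
        e.toEquiv.subsingleton
      exact ⟨{ toFun := fun _ => 0
               invFun := fun _ => 0
               left_inv := fun _ => Subsingleton.elim _ _
               right_inv := fun _ => Subsingleton.elim _ _
               map_add' := fun _ _ => Subsingleton.elim _ _ }⟩
  · obtain ⟨L, hL, hz, hiso⟩ := Groth.Agent.Lib.Helper13.CBCMumford2.mumford_algebra Q hQ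
      ⟨d₀, hd₀⟩ (d' : ℤ) (d : ℤ) h1 h2 h3
    refine ⟨L, hL, hz, fun h => absurd h hall, fun B _ _ p => ?_⟩
    obtain ⟨ν⟩ := hν p
    obtain ⟨e⟩ := Groth.Agent.Lib.Helper13.CBCMumford3.exists_baseChange_equiv A X F Q p ν B
    obtain ⟨i⟩ := hiso (ModuleCat.of A B) (p : ℤ)
    exact ⟨e.trans i.symm.toLinearEquiv.toAddEquiv⟩

end Groth.Agent.S14619
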