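import Groth.Statements.S1462
-- import your own Groth.Agent.* helpers here
import Mathlib
import Groth.Agent.Lib.Helper12.GeomIrrCons
import Groth.Agent.Lib.Helper12.FibreLocusApprox

set_option autoImplicit false
universe u
open FlatMor

namespace Groth.Agent.S1462

open AlgebraicGeometry CategoryTheory Limits in
/-- Let f : X → S be a morphism of finite presentation between affine schemes whose fibres are
geometrically irreducible. Then f is the base change of a morphism of finite type f₀ : X₀ → S₀
between affine schemes with S₀ of finite type over ℤ, where f₀ can be chosen with the same property. -/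
theorem result {X S : Scheme.{u}} (f : X ⟶ S) [IsAffine X] [IsAffine S] [LocallyOfFinitePresentation f] [GeometricallyIrreducible f] :
    ∃ (X₀ S₀ : Scheme.{u}) (f₀ : X₀ ⟶ S₀) (g : S ⟶ S₀) (g' : X ⟶ X₀), IsAffine X₀ ∧ IsAffine S₀ ∧ IsPullback g' f f₀ g ∧
      Algebra.FiniteType ℤ Γ(S₀, ⊤) ∧ LocallyOfFiniteType f₀ ∧ GeometricallyIrreducible f₀ := by
  have hf : Groth.Agent.Lib.Helper12.GeomIrrBasic.GI f = Set.univ :=
    (Groth.Agent.Lib.Helper12.GeomIrrBasic.GI_eq_univ_iff f).2 inferInstance
  obtain ⟨X₀, S₀, f₀, g, g', h1, h2, h3, h4, h5, h6⟩ :=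
    Groth.Agent.Lib.Helper12.FibreLocusApprox.exists_approx
      (fun {X S} f => Groth.Agent.Lib.Helper12.GeomIrrBasic.GI f)
      (fun {X Y X' Y' f g f' g'} hc => Groth.Agent.Lib.Helper12.GeomIrrBasic.GI_pullback hc)
      (fun {X S} _ f _ _ =>
        Groth.Agent.Lib.Helper12.GeomIrrCons.isConstructible_GI_noetherian f)
      f hf
  exact ⟨X₀, S₀, f₀, g, g', h1, h2, h3, h4, h5,
    (Groth.Agent.Lib.Helper12.GeomIrrBasic.GI_eq_univ_iff f₀).1 h6⟩

end Groth.Agent.S1462
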