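import Groth.Statements.S14621
import Mathlib
import Groth.Agent.Lib.Helper21.FiltSheaf

set_option autoImplicit false
open CategoryTheory CategoryTheory.Limits
universe u
open CohSite

namespace Groth.Agent.S14621

/-- Let C be a small category with pullbacks and J a Grothendieck topology on C in which every object is
quasi-compact in the site sense (every covering sieve contains finitely many morphisms which already
generate a covering sieve). Then for every small filtered category I the inclusion of sheaves of
sets on (C, J) into presheaves preserves colimits of shape I: filtered colimits of sheaves are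
computed objectwise. (Only sheaves of sets are stated; the same holds for sheaves of abelian groups
or modules. All pullbacks in C are assumed.) -/
theorem result {C : Type u} [SmallCategory C]
    [HasPullbacks C] (J : GrothendieckTopology C) (hJ : ∀ U : C, ToposFin.IsQCSite J U)
    (I : Type u) [SmallCategory I] [IsFiltered I] :
    PreservesColimitsOfShape I (sheafToPresheaf J (Type u)) := by
  constructor
  intro K
  let P := K ⋙ sheafToPresheaf J (Type u)
  let E : Cocone P := colimit.cocone P
  have hE : IsColimit E := colimit.isColimit P
  have hsheaf : Presieve.IsSheaf J E.pt := by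
    intro U S hS
    obtain ⟨n, V, g, hgS, hg⟩ := hJ U S hS
    have hle : (Sieve.ofArrows V g : Presieve U) ≤ S := by
      rintro _ _ ⟨W, h, _, ⟨k⟩, rfl⟩
      exact S.downward_closed (hgS k) h
    refine Presieve.isSheafFor_subsieve_aux E.pt hle ?_ ?_
    · have := Groth.Agent.Lib.Helper21.FiltSheaf.isSheafFor_ofArrows hE V g hg
      rw [Presieve.isSheafFor_iff_generate] at this
      exact this
    · intro Y f hf
      have h1 : (Sieve.ofArrows V g).pullback f ∈ J Y := J.pullback_stable f hg
      obtain ⟨n', V', g', hg'S, hg'⟩ := hJ Y _ h1
      have h2 : Presieve.IsSeparatedFor E.pt (Sieve.ofArrows V' g' : Presieve Y) := by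
        have := (Groth.Agent.Lib.Helper21.FiltSheaf.isSheafFor_ofArrows hE V' g' hg').isSeparatedFor
        rw [Presieve.isSeparatedFor_iff_generate] at this
        exact this
      refine Groth.Agent.Lib.Helper21.FiltSheaf.isSeparatedFor_of_le ?_ h2
      rintro _ _ ⟨W, h, _, ⟨k⟩, rfl⟩
      exact ((Sieve.ofArrows V g).pullback f).downward_closed (hg'S k) h
  let c₀ : Cocone K :=
    { pt := ⟨E.pt, (isSheaf_iff_isSheaf_of_type J _).2 hsheaf⟩
      ι :=
        { app := fun i => ⟨E.ι.app i⟩
          naturality := by
            intro i j f
            ext : 1
            exact E.ι.naturality f } }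
  have hc₀' : IsColimit ((sheafToPresheaf J (Type u)).mapCocone c₀) :=
    hE.ofIsoColimit (Cocone.ext (Iso.refl _) (fun i => by simp [c₀]))
  have hc₀ : IsColimit c₀ := isColimitOfReflects (sheafToPresheaf J (Type u)) hc₀'
  exact preservesColimit_of_preserves_colimit_cocone hc₀ hc₀'

end Groth.Agent.S14621
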