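import Groth.Statements.S14623
import Mathlib.CategoryTheory.Functor.Derived.Adjunction
import Mathlib.CategoryTheory.Functor.Derived.PointwiseLeftDerived
import Mathlib.CategoryTheory.Localization.Adjunction
import Mathlib.CategoryTheory.Localization.DerivabilityStructure.Derives
-- import your own Groth.Agent.* helpers here

set_option autoImplicit false
open CategoryTheory CategoryTheory.Limits
universe w v u
open CohDer

namespace Groth.Agent.S14623

open CategoryTheory CategoryTheory.Limits in
/-- The adjunction induced on bounded below cochain complexes. -/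
noncomputable def adjP {A B : Type*} [Category A] [Category B] [Preadditive A] [Preadditive B]
    {L : A ⥤ B} {R : B ⥤ A} [L.Additive] [R.Additive] (adj : L ⊣ R) :
    L.mapCochainComplexPlus ⊣ R.mapCochainComplexPlus where
  unit :=
    { app := fun K => ObjectProperty.homMk
        { f := fun n => adj.unit.app (K.obj.X n)
          comm' := fun i j _ => (adj.unit.naturality (K.obj.d i j)).symm }
      naturality := fun K K' φ => by
        apply ObjectProperty.hom_ext
        apply HomologicalComplex.hom_ext
        intro n
        exact adj.unit.naturality (φ.hom.f n) }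
  counit :=
    { app := fun K => ObjectProperty.homMk
        { f := fun n => adj.counit.app (K.obj.X n)
          comm' := fun i j _ => (adj.counit.naturality (K.obj.d i j)).symm }
      naturality := fun K K' φ => by
        apply ObjectProperty.hom_ext
        apply HomologicalComplex.hom_ext
        intro n
        exact adj.counit.naturality (φ.hom.f n) }
  left_triangle_components K := by
    apply ObjectProperty.hom_ext
    apply HomologicalComplex.hom_ext
    intro n
    exact adj.left_triangle_components (K.obj.X n)
  right_triangle_components K := by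
    apply ObjectProperty.hom_ext
    apply HomologicalComplex.hom_ext
    intro n
    exact adj.right_triangle_components (K.obj.X n)


/-- Let A and B be abelian categories with enough injectives, L : A ⥤ B an exact additive functor and R
: B ⥤ A an additive right adjoint of L. Then on bounded below derived categories the functor induced
by L (written as its total right derived functor, L being exact) is left adjoint to the right
derived functor of R; the existence of an adjunction is asserted. -/
theorem result {A B : Type u} [Category.{v} A] [Category.{v} B]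
    [Abelian A] [Abelian B] [HasDerivedCategory.{w} A] [HasDerivedCategory.{w} B]
    [EnoughInjectives A] [EnoughInjectives B] {L : A ⥤ B} {R : B ⥤ A} (adj : L ⊣ R)
    [L.Additive] [R.Additive] [PreservesFiniteLimits L] [PreservesFiniteColimits L] :
    Nonempty (L.rightDerivedFunctorPlus ⊣ R.rightDerivedFunctorPlus) := by
  let WA := (HomologicalComplex.homotopyEquivalences A (ComplexShape.up ℤ)).inverseImage
    (CochainComplex.Plus.ι A)
  let WB := (HomologicalComplex.homotopyEquivalences B (ComplexShape.up ℤ)).inverseImage
    (CochainComplex.Plus.ι B)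
  letI : CatCommSq L.mapCochainComplexPlus (HomotopyCategory.Plus.quotient A)
      (HomotopyCategory.Plus.quotient B) L.mapHomotopyCategoryPlus := ⟨Iso.refl _⟩
  letI : CatCommSq R.mapCochainComplexPlus (HomotopyCategory.Plus.quotient B)
      (HomotopyCategory.Plus.quotient A) R.mapHomotopyCategoryPlus := ⟨Iso.refl _⟩
  let adjK : L.mapHomotopyCategoryPlus ⊣ R.mapHomotopyCategoryPlus :=
    (adjP adj).localization (HomotopyCategory.Plus.quotient A) WA
      (HomotopyCategory.Plus.quotient B) WB _ _
  have hinv : (HomotopyCategory.Plus.quasiIso A).IsInvertedBy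
      (L.mapHomotopyCategoryPlus ⋙ DerivedCategory.Plus.Qh) := by
    intro X Y f hf
    obtain ⟨K, rfl⟩ := HomotopyCategory.Plus.quotient_obj_surjective X
    obtain ⟨K', rfl⟩ := HomotopyCategory.Plus.quotient_obj_surjective Y
    obtain ⟨φ, rfl⟩ := (HomotopyCategory.Plus.quotient A).map_surjective f
    have hφ : QuasiIso φ.hom := by
      have := (HomotopyCategory.Plus.quasiIso_iff _ _).1 hf
      exact (HomotopyCategory.quotient_map_mem_quasiIso_iff φ.hom).1 this
    refine Localization.inverts DerivedCategory.Plus.Qh (HomotopyCategory.Plus.quasiIso B) _ ?_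
    rw [HomotopyCategory.Plus.quasiIso_iff]
    refine (HomotopyCategory.quotient_map_mem_quasiIso_iff
      ((L.mapHomologicalComplex (ComplexShape.up ℤ)).map φ.hom)).2 ?_
    exact HomologicalComplex.quasiIso_map_of_preservesHomology _ _
  haveI : IsIso L.rightDerivedFunctorPlusUnit :=
    Functor.isIso_of_isRightDerivedFunctor_of_inverts _ _ hinv
  let e : DerivedCategory.Plus.Qh ⋙ L.rightDerivedFunctorPlus ≅
      L.mapHomotopyCategoryPlus ⋙ DerivedCategory.Plus.Qh :=
    (asIso L.rightDerivedFunctorPlusUnit).symm
  haveI : L.rightDerivedFunctorPlus.IsLeftDerivedFunctor e.hom (HomotopyCategory.Plus.quasiIso A) :=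
    Functor.isLeftDerivedFunctor_of_inverts _ _ e
  let e' : DerivedCategory.Plus.Qh ⋙ (L.rightDerivedFunctorPlus ⋙ R.rightDerivedFunctorPlus) ≅
      (L.mapHomotopyCategoryPlus ⋙ DerivedCategory.Plus.Qh) ⋙ R.rightDerivedFunctorPlus :=
    (Functor.associator _ _ _).symm ≪≫ Functor.isoWhiskerRight e R.rightDerivedFunctorPlus
  haveI : (L.rightDerivedFunctorPlus ⋙ R.rightDerivedFunctorPlus).IsLeftDerivedFunctor
      ((Functor.associator _ _ _).inv ≫ Functor.whiskerRight e.hom R.rightDerivedFunctorPlus)
      (HomotopyCategory.Plus.quasiIso A) :=
    Functor.isLeftDerivedFunctor_of_inverts (HomotopyCategory.Plus.quasiIso A) _ e'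
  haveI : (R.rightDerivedFunctorPlus ⋙ L.rightDerivedFunctorPlus).IsRightDerivedFunctor
      (Functor.whiskerRight R.rightDerivedFunctorPlusUnit L.rightDerivedFunctorPlus ≫
        (Functor.associator _ _ _).hom) (HomotopyCategory.Plus.quasiIso B) := by
    have hder : (HomotopyCategory.Plus.localizerMorphism B).Derives
        ((R.mapHomotopyCategoryPlus ⋙ DerivedCategory.Plus.Qh) ⋙ L.rightDerivedFunctorPlus) := by
      intro X Y f (hf : IsIso f)
      exact inferInstanceAs (IsIso (((HomotopyCategory.Plus.localizerMorphism B).functor ⋙
        ((R.mapHomotopyCategoryPlus ⋙ DerivedCategory.Plus.Qh) ⋙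
          L.rightDerivedFunctorPlus)).map f))
    apply hder.isRightDerivedFunctor_of_isIso
    intro X₁
    simp only [NatTrans.comp_app, Functor.whiskerRight_app, Functor.associator_hom_app,
      Category.comp_id]
    haveI : IsIso (R.rightDerivedFunctorPlusUnit.app
        ((HomotopyCategory.Plus.localizerMorphism B).functor.obj X₁)) :=
      inferInstanceAs (IsIso (R.rightDerivedFunctorPlusUnit.app
        ((InjectiveObject.ι B).mapHomotopyCategoryPlus.obj X₁)))
    infer_instance
  exact ⟨adjK.derived (HomotopyCategory.Plus.quasiIso A) (HomotopyCategory.Plus.quasiIso B)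
    e.hom R.rightDerivedFunctorPlusUnit⟩

end Groth.Agent.S14623
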