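import Groth.Statements.S14625
import Mathlib
import Groth.Agent.S13507

set_option autoImplicit false
open CategoryTheory AlgebraicGeometry
universe u
open EtBase

namespace Groth.Agent.S14625

lemma exists_root_cyclotomic (A : Type u) [CommRing A]
    (hA : EtCoh.IsStrictlyHenselianLocalRing A) (n : ℕ) (hn : 1 ≤ n) (hu : IsUnit (n : A)) :
    ∃ ζ : A, Polynomial.aeval ζ (Polynomial.cyclotomic n ℤ) = 0 := by
  obtain ⟨hH, hsep⟩ := hA
  haveI := hH
  haveI := hsep
  have hnk : ((n : ℕ) : IsLocalRing.ResidueField A) ≠ 0 := by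
    have h := hu.map (IsLocalRing.residue A)
    rw [map_natCast] at h
    exact h.ne_zero
  haveI : NeZero ((n : ℕ) : IsLocalRing.ResidueField A) := ⟨hnk⟩
  have hsepP := Polynomial.separable_cyclotomic n (IsLocalRing.ResidueField A)
  have hdeg : (Polynomial.cyclotomic n (IsLocalRing.ResidueField A)).degree ≠ 0 := by
    rw [Polynomial.degree_cyclotomic]
    have := Nat.totient_pos.mpr (show 0 < n by omega)
    exact_mod_cast this.ne'
  obtain ⟨z₀, hz₀⟩ := IsSepClosed.exists_root _ hdeg hsepP
  obtain ⟨a₀, ha₀⟩ := IsLocalRing.residue_surjective z₀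
  have hmap : (Polynomial.cyclotomic n A).map (IsLocalRing.residue A) =
      Polynomial.cyclotomic n (IsLocalRing.ResidueField A) := Polynomial.map_cyclotomic n _
  have h1 : (Polynomial.cyclotomic n A).eval a₀ ∈ IsLocalRing.maximalIdeal A := by
    rw [← IsLocalRing.residue_eq_zero_iff, ← Polynomial.eval_map_apply, hmap, ha₀]
    exact hz₀
  have h2 : IsUnit ((Polynomial.cyclotomic n A).derivative.eval a₀) := by
    rw [← IsLocalRing.residue_ne_zero_iff_isUnit, ← Polynomial.eval_map_apply,
      ← Polynomial.derivative_map, hmap, ha₀]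
    have := hsepP.eval₂_derivative_ne_zero (RingHom.id _) (x := z₀)
      (by rw [Polynomial.eval₂_id]; exact hz₀)
    rwa [Polynomial.eval₂_id] at this
  obtain ⟨a, ha, -⟩ := HenselianLocalRing.is_henselian _ (Polynomial.cyclotomic.monic n A) a₀ h1 h2
  refine ⟨a, ?_⟩
  rw [Polynomial.aeval_def, algebraMap_int_eq, ← Polynomial.eval_map, Polynomial.map_cyclotomic_int]
  exact ha

/-- Let A be a strictly henselian local ring, n ≥ 1 an integer invertible in A, and X a scheme over Spec
A. Then the étale sheaf μ_n of n-th roots of unity on X is isomorphic to the constant sheaf with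
value ℤ/n. Only the existence of an isomorphism is asserted; it depends on the choice of a primitive
n-th root of unity in A. -/
theorem result (A : Type u) [CommRing A]
    (hA : EtCoh.IsStrictlyHenselianLocalRing A) (n : ℕ) (hn : 1 ≤ n) (hu : IsUnit (n : A))
    (X : Scheme.{u}) (f : X ⟶ Spec (CommRingCat.of A)) :
    Nonempty (EtCoh.mu X n ≅ EtCoh.const X (ZMod n)) := by
  obtain ⟨ζA, hζA⟩ := exists_root_cyclotomic A hA n hn hu
  obtain ⟨φ, -⟩ : ∃ φ : A →+* Γ(X, ⊤), φ = ((Scheme.ΓSpecIso (CommRingCat.of A)).inv ≫ f.appTop).hom :=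
    ⟨_, rfl⟩
  exact Groth.Agent.S13507.result X n hn (by have := hu.map φ; rwa [map_natCast] at this) (φ ζA)
    (by rw [Groth.Agent.S13507.aeval_map_int, hζA, map_zero])

end Groth.Agent.S14625
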