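import Groth.Statements.S14629
import Groth.Agent.Lib.Helper11.LiftInvC

set_option autoImplicit false
open CategoryTheory CategoryTheory.Limits AlgebraicGeometry
universe u
open PicF

namespace Groth.Agent.S14629

theorem iso_of_cl_eq {Y : Scheme.{u}} {L L' : Y.Modules} (h : PicF.cl L = PicF.cl L') :
    Nonempty (L ≅ L') := by
  have h' := Quot.eqvGen_exact h
  clear h
  induction h' with
  | rel _ _ hr => exact hr
  | refl _ => exact ⟨Iso.refl _⟩
  | symm _ _ _ ih => exact ⟨ih.some.symm⟩
  | trans _ _ _ _ _ ih1 ih2 => exact ⟨ih1.some ≪≫ ih2.some⟩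

/-- Let X be a scheme and I a quasi-coherent ideal sheaf of square zero defining the closed subscheme i
: X₀ → X, and suppose H¹(X, I) = 0 for the ideal regarded as an O_X-module (Zariski cohomology).
Then two invertible O_X-modules with isomorphic pullbacks to X₀ are isomorphic: restriction of
Picard groups along i is injective. (The published statement allows a nilpotent ideal with the same
hypothesis on I alone; its proof treats the square-zero case, which is what is stated.) -/
theorem result (X : Scheme.{u}) (I : X.IdealSheafData)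
    (hI : I * I = ⊥) (h1 : Subsingleton (Coh.HH X (ClSub.idealMod I) 1))
    (c d : PicF.Cl X) (hc : PicF.IsInvertibleCl c) (hd : PicF.IsInvertibleCl d)
    (h : PicF.pullCl I.subschemeι c = PicF.pullCl I.subschemeι d) : c = d := by

  obtain ⟨L, rfl, hL⟩ := hc
  obtain ⟨L', rfl, hL'⟩ := hd
  have hI2 : I ^ 2 = ⊥ := by rw [pow_two]; exact hI
  obtain ⟨e⟩ := iso_of_cl_eq h
  obtain ⟨Linv, hLinv, ⟨eL⟩⟩ := Groth.Agent.Lib.Helper23.Inverse.exists_isInverseOf hL
  have hN : PicF.IsInvertible (CohB1.tensorMod L' Linv) :=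
    Groth.Agent.Lib.Helper3.InvTensor.isInvertible_tensorMod hL' hLinv
  obtain ⟨N', _, ⟨eN⟩⟩ := Groth.Agent.Lib.Helper23.Inverse.exists_isInverseOf hN
  let τ : (Scheme.Modules.pullback I.subschemeι).obj (CohB1.tensorMod L' Linv) ≅
      Coh.structureModule I.subscheme :=
    Groth.Agent.Lib.Helper3.PbTensor.pbTensorIso I.subschemeι L' Linv hL' hLinv ≪≫
      Groth.Agent.Lib.Helper3.InvMonoidal.tensorMapIso e.symm (Iso.refl _) ≪≫
      (Groth.Agent.Lib.Helper3.PbTensor.pbTensorIso I.subschemeι L Linv hL hLinv).symm ≪≫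
      (Scheme.Modules.pullback I.subschemeι).mapIso eL ≪≫
      Groth.Agent.Lib.Helper3.PbBasic.pbUnit I.subschemeι
  obtain ⟨φ⟩ := Groth.Agent.Lib.Helper11.LiftInvC.nonempty_iso_unit_of_HH_ideal I
    (CohB1.tensorMod L' Linv) N' hN eN τ hI2 h1
  haveI := Groth.Agent.Lib.Helper7.TwFun.isEquivalence_twR Linv L
    (Groth.Agent.Lib.Helper3.InvMonoidal.braid Linv L ≪≫ eL)
  let ψ : (Groth.Agent.Lib.Helper7.TwFun.twR Linv).obj L ≅
      (Groth.Agent.Lib.Helper7.TwFun.twR Linv).obj L' := eL ≪≫ φ
  exact Quot.sound ⟨(Groth.Agent.Lib.Helper7.TwFun.twR Linv).preimageIso ψ⟩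

end Groth.Agent.S14629
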