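import Groth.Statements.S14639
import Mathlib.Tactic
import Mathlib.RingTheory.AdjoinRoot
import Mathlib.RingTheory.Nilpotent.Basic

set_option autoImplicit false
universe u
open Polynomial
open AlgGrp

namespace Groth.Agent.S14639

/-- the truncated polynomial ring -/
abbrev TR (k : Type u) [Field k] (N : ℕ) := AdjoinRoot ((Polynomial.X : Polynomial k) ^ (N + 1))

/-- the class of the variable -/
noncomputable abbrev uu (k : Type u) [Field k] (N : ℕ) : TR k N :=
  AdjoinRoot.root ((Polynomial.X : Polynomial k) ^ (N + 1))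

theorem root_pow_eq_zero (k : Type u) [Field k] (N : ℕ) : (uu k N) ^ (N + 1) = 0 := by
  unfold uu
  rw [← AdjoinRoot.mk_X, ← map_pow, AdjoinRoot.mk_self]

theorem decomp (k : Type u) [Field k] (N : ℕ) (w : TR k N) :
    ∃ (c : k) (w' : TR k N), w = algebraMap k (TR k N) c + uu k N * w' := by
  induction w using AdjoinRoot.induction_on with | ih p
  refine ⟨p.coeff 0, AdjoinRoot.mk _ p.divX, ?_⟩
  conv_lhs => rw [← Polynomial.divX_mul_X_add p]
  rw [map_add, map_mul, AdjoinRoot.mk_X, AdjoinRoot.mk_C, AdjoinRoot.algebraMap_eq]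
  ring

/-- `x = c u^m + u^(m+1) w` with `c ≠ 0` -/
def ExactOrd (k : Type u) [Field k] (N m : ℕ) (x : TR k N) : Prop :=
  ∃ c : k, c ≠ 0 ∧ ∃ w : TR k N,
    x = algebraMap k (TR k N) c * (uu k N) ^ m + (uu k N) ^ (m + 1) * w

theorem step (k : Type u) [Field k] [CharZero k] (N : ℕ) (σ : TR k N →ₐ[k] TR k N)
    (hσ : σ (uu k N) * (1 + uu k N) = uu k N) (m : ℕ) (hm : 1 ≤ m) (x : TR k N)
    (hx : ExactOrd k N m x) : ExactOrd k N (m + 1) (σ x - x) := by
  obtain ⟨c, hc, w, rfl⟩ := hx
  set u := uu k N with hu
  set v := σ u with hvdef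
  have hv : v = u * (1 - v) := by linear_combination hσ
  have hpow : ∀ j : ℕ, ∃ q : TR k N, (1 - v) ^ j = 1 - (j : TR k N) * v + v ^ 2 * q := by
    intro j
    induction j with
    | zero => exact ⟨0, by simp⟩
    | succ j ih =>
      obtain ⟨q, hq⟩ := ih
      refine ⟨(j : TR k N) + q - v * q, ?_⟩
      rw [pow_succ, hq]
      push_cast
      ring
  obtain ⟨q, hq⟩ := hpow m
  obtain ⟨q', hq'⟩ := hpow (m + 1)
  obtain ⟨w0, w', hw⟩ := decomp k N w
  have hσw : σ w = w + u * ((1 - v) * σ w' - w') := by
    rw [hw, map_add, map_mul, AlgHom.commutes, ← hvdef]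
    linear_combination (σ w') * hv
  have e1 : v ^ m = u ^ m * (1 - v) ^ m := by rw [← mul_pow, ← hv]
  have e2 : v ^ (m + 1) = u ^ (m + 1) * (1 - v) ^ (m + 1) := by rw [← mul_pow, ← hv]
  refine ⟨-(m : k) * c, ?_, ?_⟩
  · have : (m : k) ≠ 0 := by
      have : m ≠ 0 := by omega
      exact_mod_cast this
    exact mul_ne_zero (neg_ne_zero.mpr this) hc
  · set w2 := (1 - v) * σ w' - w' with hw2
    refine ⟨(m : TR k N) * algebraMap k (TR k N) c * (1 - v)
        + algebraMap k (TR k N) c * (1 - v) ^ 2 * q + w2
        + (-((m : TR k N) + 1) * (1 - v) + u * (1 - v) ^ 2 * q') * (w + u * w2), ?_⟩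
    simp only [map_add, map_mul, map_pow, AlgHom.commutes, map_neg, map_natCast]
    rw [← hvdef, hσw, e1, e2, hq, hq']
    push_cast
    linear_combination
      (-(m : TR k N) * algebraMap k (TR k N) c * (u ^ m - u ^ (m + 1))
        + algebraMap k (TR k N) c * q * u ^ m * (v + u * (1 - v))
        - ((m : TR k N) + 1) * u ^ (m + 1) * (w + u * w2)
        + u ^ (m + 1) * q' * (w + u * w2) * (v + u * (1 - v))) * hv

/-- Classification of the subalgebras of a truncated polynomial ring that are stable under the unipotent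
substitutions, which is the algebraic step behind the classification of curves almost homogeneous
under the additive group in characteristic zero. Let k be a field of characteristic zero, N ≥ 0 and
R = k[u]/(u^(N+1)). The additive group acts on R through the substitutions u ↦ u/(1 + a u), a in k.
If A is a k-subalgebra of R stable under all these substitutions (stated for every k-algebra
endomorphism σ of R with σ(u)(1 + a u) = u for some a in k), then there is an integer n with 1 ≤ n ≤
N + 1 such that A = k ⊕ (u^n): as a k-subspace, A is the span of 1 plus the ideal generated by u^n.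
(In positive characteristic p and for N ≥ p + 1, the subalgebra generated by u^p is stable and not
of this form.) -/
theorem result (k : Type u) [Field k] [CharZero k]
    (N : ℕ) (A : Subalgebra k (AdjoinRoot ((Polynomial.X : Polynomial k) ^ (N + 1))))
    (hA : ∀ (a : k) (σ : AdjoinRoot ((Polynomial.X : Polynomial k) ^ (N + 1)) →ₐ[k] AdjoinRoot ((Polynomial.X : Polynomial k) ^ (N + 1))),
      σ (AdjoinRoot.root ((Polynomial.X : Polynomial k) ^ (N + 1))) * (1 + algebraMap k (AdjoinRoot ((Polynomial.X : Polynomial k) ^ (N + 1))) a * AdjoinRoot.root ((Polynomial.X : Polynomial k) ^ (N + 1))) = AdjoinRoot.root ((Polynomial.X : Polynomial k) ^ (N + 1)) →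
        A.map σ ≤ A) :
    ∃ n : ℕ, 1 ≤ n ∧ n ≤ N + 1 ∧
      Subalgebra.toSubmodule A =
        Submodule.span k {1} ⊔ (Ideal.span {AdjoinRoot.root ((Polynomial.X : Polynomial k) ^ (N + 1)) ^ n}).restrictScalars k := by
  classical
  set u : TR k N := uu k N with hu
  have hu0 : u ^ (N + 1) = 0 := root_pow_eq_zero k N
  -- the substitution u ↦ u / (1 + u)
  have hunit : IsUnit (1 + u) := by
    have : IsNilpotent u := ⟨N + 1, hu0⟩
    exact this.isUnit_one_add
  obtain ⟨t, ht⟩ := hunit.exists_right_inv
  have hv0 : (u * t) ^ (N + 1) = 0 := by rw [mul_pow, hu0, zero_mul]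
  let σ : TR k N →ₐ[k] TR k N :=
    AdjoinRoot.liftAlgHom _ (Algebra.ofId k (TR k N)) (u * t) (by
      rw [Polynomial.eval₂_X_pow]; exact hv0)
  have hσu : σ u = u * t := AdjoinRoot.liftAlgHom_root _ _ _ _
  have hσ' : σ u * (1 + u) = u := by
    rw [hσu]; linear_combination u * ht
  have hσ : σ u * (1 + algebraMap k (TR k N) 1 * u) = u := by
    rw [map_one, one_mul]; exact hσ'
  have hstab : ∀ x ∈ A, σ x ∈ A := fun x hx =>
    hA 1 σ hσ (Subalgebra.mem_map.mpr ⟨x, hx, rfl⟩)
  let P : ℕ → Prop := fun m =>
    Subalgebra.toSubmodule A ≤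
      Submodule.span k {1} ⊔ (Ideal.span {u ^ m}).restrictScalars k
  have hP1 : P 1 := by
    intro x _
    obtain ⟨c, w, rfl⟩ := decomp k N x
    refine Submodule.add_mem _ (Submodule.mem_sup_left ?_) (Submodule.mem_sup_right ?_)
    · exact Submodule.mem_span_singleton.mpr ⟨c, by rw [Algebra.smul_def, mul_one]⟩
    · rw [Submodule.restrictScalars_mem, Ideal.mem_span_singleton']
      exact ⟨w, by rw [pow_one, mul_comm]⟩
  set n := Nat.findGreatest P (N + 1) with hn
  have hn1 : 1 ≤ n := Nat.le_findGreatest (by omega) hP1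
  have hPn : P n := Nat.findGreatest_spec (m := 1) (by omega) hP1
  have hn_le : n ≤ N + 1 := Nat.findGreatest_le _
  -- elements of each exact order
  have hex : ∀ j, n ≤ j → j ≤ N → ∃ x ∈ A, ExactOrd k N j x := by
    intro j hnj
    induction j, hnj using Nat.le_induction with
    | base =>
      intro hnN
      have hnot : ¬ P (n + 1) := Nat.findGreatest_is_greatest (lt_add_one n) (by omega)
      obtain ⟨x, hxA, hxn⟩ := SetLike.not_le_iff_exists.mp hnot
      have hx' := hPn hxA
      obtain ⟨y, hy, z, hz, rfl⟩ := Submodule.mem_sup.mp hx'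
      obtain ⟨c0, rfl⟩ := Submodule.mem_span_singleton.mp hy
      rw [Submodule.restrictScalars_mem, Ideal.mem_span_singleton'] at hz
      obtain ⟨w, rfl⟩ := hz
      obtain ⟨c, w', rfl⟩ := decomp k N w
      refine ⟨(algebraMap k (TR k N) c + u * w') * u ^ n, ?_, c, ?_, w', by ring⟩
      · have e : (algebraMap k (TR k N) c + u * w') * u ^ n =
            (c0 • (1 : TR k N) + (algebraMap k (TR k N) c + u * w') * u ^ n) - c0 • 1 := by ring
        rw [e]
        exact A.sub_mem hxA (A.smul_mem A.one_mem c0)
      · rintro rfl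
        apply hxn
        refine Submodule.add_mem _ (Submodule.mem_sup_left hy) (Submodule.mem_sup_right ?_)
        rw [Submodule.restrictScalars_mem, Ideal.mem_span_singleton']
        exact ⟨w', by rw [map_zero]; ring⟩
    | succ j hnj ih =>
      intro hjN
      obtain ⟨x, hxA, hx⟩ := ih (by omega)
      exact ⟨σ x - x, A.sub_mem (hstab x hxA) hxA, step k N σ hσ' j (by omega) x hx⟩
  -- the ideals (u^j), j ≥ n, are contained in A
  have hI : ∀ d j, j + d = N + 1 → n ≤ j →
      (Ideal.span {u ^ j}).restrictScalars k ≤ Subalgebra.toSubmodule A := by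
    intro d
    induction d with
    | zero =>
      intro j hj _
      have : j = N + 1 := by omega
      subst this
      rw [hu0]
      intro y hy
      rw [Submodule.restrictScalars_mem, Ideal.mem_span_singleton'] at hy
      obtain ⟨w, rfl⟩ := hy
      rw [mul_zero]
      exact Submodule.zero_mem _
    | succ d ih =>
      intro j hj hnj
      have hIH := ih (j + 1) (by omega) (by omega)
      obtain ⟨x, hxA, c, hc, w, hxe⟩ := hex j hnj (by omega)
      have h1 : u ^ (j + 1) * w ∈ A := by
        apply hIH
        rw [Submodule.restrictScalars_mem, Ideal.mem_span_singleton']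
        exact ⟨w, mul_comm _ _⟩
      have h2 : algebraMap k (TR k N) c * u ^ j ∈ A := by
        have := A.sub_mem hxA h1
        rwa [hxe, add_sub_cancel_right] at this
      have h3 : u ^ j ∈ A := by
        have e : u ^ j = c⁻¹ • (algebraMap k (TR k N) c * u ^ j) := by
          rw [Algebra.smul_def, ← mul_assoc, ← map_mul, inv_mul_cancel₀ hc, map_one, one_mul]
        rw [e]
        exact A.smul_mem h2 _
      intro y hy
      rw [Submodule.restrictScalars_mem, Ideal.mem_span_singleton'] at hy
      obtain ⟨w2, rfl⟩ := hy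
      obtain ⟨c2, w3, rfl⟩ := decomp k N w2
      have h4 : u ^ (j + 1) * w3 ∈ A := by
        apply hIH
        rw [Submodule.restrictScalars_mem, Ideal.mem_span_singleton']
        exact ⟨w3, mul_comm _ _⟩
      have e : (algebraMap k (TR k N) c2 + u * w3) * u ^ j = c2 • u ^ j + u ^ (j + 1) * w3 := by
        rw [Algebra.smul_def]; ring
      rw [e]
      exact A.add_mem (A.smul_mem h3 _) h4
  refine ⟨n, hn1, hn_le, le_antisymm hPn (sup_le ?_ (hI (N + 1 - n) n (by omega) le_rfl))⟩
  rw [Submodule.span_le, Set.singleton_subset_iff]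
  exact A.one_mem

end Groth.Agent.S14639
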