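import Groth.Statements.S1464
-- import your own Groth.Agent.* helpers here
import Mathlib
import Groth.Agent.S1460
import Groth.Agent.S1333
import Groth.Agent.Lib.Helper12.FibreDimBC
import Groth.Agent.Lib.Helper12.FpLimit
import Groth.Agent.Lib.Helper12.LimProCons

set_option autoImplicit false
universe u
open FlatMor

namespace Groth.Agent.S1464
open AlgebraicGeometry CategoryTheory Limits Groth.Agent.Lib.Helper12 Topology
set_option backward.isDefEq.respectTransparency false

open AlgebraicGeometry CategoryTheory Limits in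
/-- Let f : X → S be a morphism of finite presentation between affine schemes all of whose fibres have
dimension d. Then f is the base change of a morphism of finite type f₀ : X₀ → S₀ between affine
schemes with S₀ of finite type over ℤ, where f₀ can be chosen with the same property. -/
theorem result {X S : Scheme.{u}} (f : X ⟶ S) [IsAffine X] [IsAffine S] [LocallyOfFinitePresentation f] (d : ℕ) (hd : ∀ s : S, topologicalKrullDim ↑(f.fiber s) = d) :
    ∃ (X₀ S₀ : Scheme.{u}) (f₀ : X₀ ⟶ S₀) (g : S ⟶ S₀) (g' : X ⟶ X₀), IsAffine X₀ ∧ IsAffine S₀ ∧ IsPullback g' f f₀ g ∧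
      Algebra.FiniteType ℤ Γ(S₀, ⊤) ∧ LocallyOfFiniteType f₀ ∧ ∀ s₀ : S₀, topologicalKrullDim ↑(f₀.fiber s₀) = d := by
  classical
  obtain ⟨X₀, S₀, f₀, g, g', hX₀, hS₀, hpb, hft, hlft⟩ := Groth.Agent.S1460.result f
  haveI := hX₀
  haveI := hS₀
  haveI := hlft
  haveI : IsNoetherianRing Γ(S₀, ⊤) := Algebra.FiniteType.isNoetherianRing ℤ _
  haveI : IsLocallyNoetherian S₀ := isLocallyNoetherian_of_isOpenImmersion S₀.isoSpec.hom
  haveI : LocallyOfFinitePresentation f₀ := inferInstance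
  -- the bad locus in `S₀`
  let E₀ : Set S₀ := {s₀ | topologicalKrullDim (f₀.fiber s₀) = d}ᶜ
  have hE₀ : IsConstructible E₀ :=
    (Groth.Agent.S1333.result f₀ (d : WithBot ℕ∞)).isConstructible.compl
  have hgE : ∀ s : S, g s ∉ E₀ := by
    intro s hs
    apply hs
    show topologicalKrullDim (f₀.fiber (g s)) = d
    rw [← FibreDimBC.dim_fiber_of_isPullback f₀ g g' f hpb s]
    exact hd s
  -- `S` as a limit of affine schemes of finite presentation over `S₀`
  obtain ⟨J, _, _, 𝔇, τ, π, hπ, hAff, hLFP, hπτ⟩ := FpLimit.exists_limit_of_ringHom g.appTop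
  haveI := hAff
  let c : Cone 𝔇 := Cone.mk _ π
  let c' : Cone 𝔇 := c.extend S.isoSpec.hom
  have hc' : IsLimit c' := IsLimit.extendIso (s := c) S.isoSpec.hom hπ
  let τ' : ∀ j, 𝔇.obj j ⟶ S₀ := fun j => τ.app j ≫ S₀.isoSpec.inv
  have hτ' : ∀ j, c'.π.app j ≫ τ' j = g := by
    intro j
    show (S.isoSpec.hom ≫ π.app j) ≫ τ.app j ≫ S₀.isoSpec.inv = g
    rw [Category.assoc, reassoc_of% hπτ j, Scheme.isoSpec_inv_naturality, Iso.hom_inv_id_assoc]
  have hτnat : ∀ {i j : J} (m : i ⟶ j), 𝔇.map m ≫ τ' j = τ' i := by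
    intro i j m
    show 𝔇.map m ≫ τ.app j ≫ S₀.isoSpec.inv = τ.app i ≫ S₀.isoSpec.inv
    have := τ.naturality m
    simp only [Functor.const_obj_obj, Functor.const_obj_map, Category.comp_id] at this
    rw [reassoc_of% this]
  obtain ⟨j₀⟩ : Nonempty J := IsCofiltered.nonempty
  let K : Set (𝔇.obj j₀) := (τ' j₀) ⁻¹' E₀
  have hK : ProCons.IsProConstructible K :=
    LimProCons.isProConstructible_of_isConstructible ((τ' j₀).isConstructible_preimage hE₀)
  have hempty : (⇑(c'.π.app j₀) ⁻¹' K : Set c'.pt) = ∅ := by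
    rw [Set.eq_empty_iff_forall_notMem]
    intro s hs
    have h1 : (τ' j₀) (c'.π.app j₀ s) ∈ E₀ := hs
    rw [← Scheme.Hom.comp_apply, hτ' j₀] at h1
    exact hgE s h1
  obtain ⟨j, φ, hj⟩ := LimProCons.exists_preimage_eq_empty_of_isProConstructible 𝔇 c' hc' j₀ K hK
    hempty
  have hjE : ∀ z : 𝔇.obj j, topologicalKrullDim (f₀.fiber (τ' j z)) = d := by
    intro z
    by_contra hz
    have h1 : z ∈ (⇑(𝔇.map φ) ⁻¹' K : Set (𝔇.obj j)) := by
      show (τ' j₀) (𝔇.map φ z) ∈ E₀
      rw [← Scheme.Hom.comp_apply, hτnat φ]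
      exact hz
    rw [hj] at h1
    exact h1
  -- the new model
  have hw : g' ≫ f₀ = (f ≫ c'.π.app j) ≫ τ' j := by
    rw [Category.assoc, hτ' j]
    exact hpb.w
  refine ⟨pullback f₀ (τ' j), 𝔇.obj j, pullback.snd f₀ (τ' j), c'.π.app j,
    pullback.lift g' (f ≫ c'.π.app j) hw, inferInstance, inferInstance, ?_, ?_, inferInstance, ?_⟩
  · refine IsPullback.of_right ?_ (pullback.lift_snd _ _ _) (IsPullback.of_hasPullback f₀ (τ' j))
    rw [pullback.lift_fst, hτ' j]
    exact hpb
  · haveI : LocallyOfFinitePresentation (τ' j) := by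
      haveI := hLFP j
      show LocallyOfFinitePresentation (τ.app j ≫ S₀.isoSpec.inv)
      infer_instance
    have h1 : (τ' j).appTop.hom.FiniteType :=
      (HasRingHomProperty.iff_of_isAffine (P := @LocallyOfFiniteType)).mp inferInstance
    have h2 : (algebraMap ℤ Γ(S₀, ⊤)).FiniteType := RingHom.finiteType_algebraMap.mpr hft
    have h3 := h1.comp h2
    have h4 : (τ' j).appTop.hom.comp (algebraMap ℤ Γ(S₀, ⊤)) = algebraMap ℤ Γ(𝔇.obj j, ⊤) :=
      RingHom.ext_int _ _
    rw [h4] at h3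
    exact RingHom.finiteType_algebraMap.mp h3
  · intro s₁
    rw [FibreDimBC.dim_fiber_of_isPullback f₀ (τ' j) (pullback.fst _ _) (pullback.snd _ _)
      (IsPullback.of_hasPullback f₀ (τ' j)) s₁]
    exact hjE s₁

end Groth.Agent.S1464
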