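import Groth.Statements.S14641
import Groth.Agent.Lib.Helper22.ActionPts

set_option autoImplicit false
universe u
open CategoryTheory MonoidalCategory CartesianMonoidalCategory MonObj GrpObj AlgebraicGeometry CategoryTheory.Limits
open AlgGrp
open Groth.Agent.Lib.Helper22

namespace Groth.Agent.S14641

/-- Over a field k, let G be a k-group scheme of finite type, i : H → G a closed subgroup scheme, and
(Q, o) the quotient G/H: a k-scheme with a G-action and a rational point o exhibiting it as the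
quotient (orbit map flat and surjective, G × H ≅ G ×_Q G). Let n : N → G be a closed subgroup scheme
which is the kernel of the action of G on Q, i.e. for every k-scheme T, a T-point g of G factors
through N exactly when g acts as the identity on Q_T (on all points of Q over T-schemes). Then N is
normal in G and contained in H, and N is the largest such subgroup: every closed subgroup scheme N'
of G which is normal in G and factors through H factors through N. -/
theorem result (k : Type u) [Field k]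
    (G H Q N : Over (Spec (CommRingCat.of k))) [GrpObj G] [LocallyOfFiniteType G.hom] [QuasiCompact G.hom]
    [GrpObj H] (i : H ⟶ G) [IsMonHom i] [IsClosedImmersion i.left]
    (a : AlgGrp.Action G Q) (o : 𝟙_ (Over (Spec (CommRingCat.of k))) ⟶ Q) (hQ : AGF.IsQuotient i Q a o)
    [GrpObj N] (n : N ⟶ G) [IsMonHom n] [IsClosedImmersion n.left]
    (hN : ∀ (T : Over (Spec (CommRingCat.of k))) (g : T ⟶ G),
      (∃ m : T ⟶ N, m ≫ n = g) ↔
        ∀ (T' : Over (Spec (CommRingCat.of k))) (s : T' ⟶ T) (x : T' ⟶ Q),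
          CartesianMonoidalCategory.lift (s ≫ g) x ≫ a.act = x) :
    AlgGrp.IsNormalHom n ∧ (∃ f : N ⟶ H, f ≫ i = n) ∧
      ∀ (N' : Over (Spec (CommRingCat.of k))) [GrpObj N'] (n' : N' ⟶ G) [IsMonHom n'] [IsClosedImmersion n'.left],
        AlgGrp.IsNormalHom n' → (∃ f : N' ⟶ H, f ≫ i = n') → ∃ f' : N' ⟶ N, f' ≫ n = n' := by
  obtain ⟨hlft, hflat, hsurj, hpb⟩ := hQ
  -- H fixes o
  have hfix : ∀ (T : Over (Spec (CommRingCat.of k))) (h : T ⟶ H),
      smul a (h ≫ i) (toUnit T ≫ o) = toUnit T ≫ o := by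
    intro T h
    have := congrArg (fun t => lift (1 : T ⟶ G) h ≫ t) hpb.w
    simp only [← Category.assoc, lift_fst, lift_whiskerLeft] at this
    rw [comp_orbitMap, pt_one_smul] at this
    have e : lift (1 : T ⟶ G) (h ≫ i) ≫ μ[G] = h ≫ i := by
      rw [← Hom.mul_def, _root_.one_mul]
    rw [e, comp_orbitMap] at this
    exact this.symm
  refine ⟨?_, ?_, ?_⟩
  · -- normality
    intro T g m
    have hm := (hN T (m ≫ n)).mp ⟨m, rfl⟩
    obtain ⟨n', hn'⟩ := (hN T (g * (m ≫ n) * g⁻¹)).mpr (by
      intro T' s x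
      show smul a (s ≫ (g * (m ≫ n) * g⁻¹)) x = x
      rw [MonObj.comp_mul, MonObj.comp_mul, pt_mul_smul, pt_mul_smul, GrpObj.comp_inv]
      have h1 : smul a (s ≫ m ≫ n) (smul a (s ≫ g)⁻¹ x) = smul a (s ≫ g)⁻¹ x :=
        hm T' s (smul a (s ≫ g)⁻¹ x)
      rw [h1, pt_smul_inv_smul])
    exact ⟨n', hn'.symm⟩
  · -- N ⊆ H
    have h1 : (1 : N ⟶ G) ≫ a.orbitMap o = n ≫ a.orbitMap o := by
      rw [comp_orbitMap, comp_orbitMap, pt_one_smul]
      have := (hN N n).mp ⟨𝟙 N, Category.id_comp n⟩ N (𝟙 N) (toUnit N ≫ o)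
      rw [Category.id_comp] at this
      exact this.symm
    let l := hpb.lift 1 n h1
    have hl1 : l ≫ fst G H = 1 := hpb.lift_fst _ _ _
    have hl2 : l ≫ (G ◁ i) ≫ μ[G] = n := hpb.lift_snd _ _ _
    refine ⟨l ≫ snd G H, ?_⟩
    have hl : l = lift (1 : N ⟶ G) (l ≫ snd G H) := by
      rw [← hl1]
      exact (lift_comp_fst_snd l).symm
    rw [hl, ← Category.assoc, lift_whiskerLeft, ← Hom.mul_def, _root_.one_mul] at hl2
    exact hl2
  · -- maximality
    intro N' _ n' _ _ hnorm hf
    obtain ⟨f, hf⟩ := hf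
    apply (hN N' n').mpr
    intro T' s x
    have : Flat (a.orbitMap o).left := hflat
    have : Surjective (a.orbitMap o).left := hsurj
    obtain ⟨T'', p, y, hp, hy⟩ := exists_local_lift (a.orbitMap o) x
    rw [← cancel_epi p]
    show p ≫ smul a (s ≫ n') x = p ≫ x
    rw [comp_smul, ← hy, comp_orbitMap]
    obtain ⟨m', hm'⟩ := hnorm T'' y⁻¹ (p ≫ s)
    have e : p ≫ s ≫ n' = y * (m' ≫ n') * y⁻¹ := by
      rw [← hm', Category.assoc]
      group
    rw [e, pt_mul_smul, pt_mul_smul, pt_inv_smul_smul]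
    congr 1
    rw [← hf, ← Category.assoc]
    exact hfix T'' (m' ≫ f)

end Groth.Agent.S14641
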