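import Groth.Statements.S14643
import Groth.Agent.Lib.Helper22.ActionDesc
import Mathlib.AlgebraicGeometry.Noetherian

set_option autoImplicit false
universe u
open CategoryTheory MonoidalCategory CartesianMonoidalCategory MonObj GrpObj AlgebraicGeometry CategoryTheory.Limits
open AlgGrp
open Groth.Agent.Lib.Helper22

namespace Groth.Agent.S14643

/-- Over a field k, let G be a smooth k-group scheme of finite type acting on a variety X (a separated,
geometrically integral k-scheme of finite type). Let n : N → G be the kernel of the action: a closed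
subgroup scheme such that, for every k-scheme T, a T-point of G factors through N exactly when it
acts as the identity on all points of X over T-schemes. Let π : G → Q be a homomorphism onto a
k-group scheme of finite type which is flat and surjective with kernel N (the quotient G/N). Then
there is a unique action of Q on X inducing the given one along π; this action of Q is faithful (a
T-point of Q acting as the identity on all points of X over T-schemes is the unit); and X is
homogeneous under G (surjective graph morphism (g, x) ↦ (x, g·x)) if and only if it is homogeneous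
under Q, and almost homogeneous under G (dominant graph morphism) if and only if it is almost
homogeneous under Q. -/
theorem result (k : Type u) [Field k]
    (G N Q X : Over (Spec (CommRingCat.of k))) [GrpObj G] [Smooth G.hom] [QuasiCompact G.hom]
    [IsSeparated X.hom] [LocallyOfFiniteType X.hom] [QuasiCompact X.hom] [GeometricallyIntegral X.hom] (a : AlgGrp.Action G X)
    [GrpObj N] (n : N ⟶ G) [IsMonHom n] [IsClosedImmersion n.left]
    (hN : ∀ (T : Over (Spec (CommRingCat.of k))) (g : T ⟶ G),
      (∃ m : T ⟶ N, m ≫ n = g) ↔
        ∀ (T' : Over (Spec (CommRingCat.of k))) (s : T' ⟶ T) (x : T' ⟶ X), CartesianMonoidalCategory.lift (s ≫ g) x ≫ a.act = x)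
    [GrpObj Q] [LocallyOfFiniteType Q.hom] [QuasiCompact Q.hom] (π : G ⟶ Q) [IsMonHom π] [Flat π.left] [Surjective π.left]
    (hker : AlgGrp.IsKernel n π) :
    (∃! b : AlgGrp.Action Q X, (π ▷ X) ≫ b.act = a.act) ∧
    ∀ b : AlgGrp.Action Q X, (π ▷ X) ≫ b.act = a.act →
      (∀ (T : Over (Spec (CommRingCat.of k))) (q : T ⟶ Q),
        (∀ (T' : Over (Spec (CommRingCat.of k))) (s : T' ⟶ T) (x : T' ⟶ X), CartesianMonoidalCategory.lift (s ≫ q) x ≫ b.act = x) → q = 1) ∧
      (Surjective (CartesianMonoidalCategory.lift (CartesianMonoidalCategory.snd G X) a.act).left ↔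
        Surjective (CartesianMonoidalCategory.lift (CartesianMonoidalCategory.snd Q X) b.act).left) ∧
      (IsDominant (CartesianMonoidalCategory.lift (CartesianMonoidalCategory.snd G X) a.act).left ↔
        IsDominant (CartesianMonoidalCategory.lift (CartesianMonoidalCategory.snd Q X) b.act).left) := by
  have hLN : IsLocallyNoetherian Q.left := LocallyOfFiniteType.isLocallyNoetherian Q.hom
  have hqc : QuasiCompact π.left := by
    have : QuasiCompact (π.left ≫ Q.hom) := by rw [Over.w]; infer_instance
    exact QuasiCompact.of_comp π.left Q.hom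
  have h1 : QuasiCompact (π ▷ X).left :=
    whiskerRight_left_of (P := @QuasiCompact) (fun _ => inferInstance) X π hqc
  have h2 : Flat (π ▷ X).left :=
    whiskerRight_left_of (P := @Flat) (fun _ => inferInstance) X π inferInstance
  have h3 : Surjective (π ▷ X).left :=
    whiskerRight_left_of (P := @Surjective) (fun _ => inferInstance) X π inferInstance
  have hepi : Epi (π ▷ X) := epi_of_flat_of_surjective_left _
  have htriv : ∀ (T : Over (Spec (CommRingCat.of k))) (m : T ⟶ N) (x : T ⟶ X),
      smul a (m ≫ n) x = x := by
    intro T m x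
    have := (hN T (m ≫ n)).mp ⟨m, rfl⟩ T (𝟙 T) x
    rwa [Category.id_comp] at this
  obtain ⟨b₀, hb₀⟩ := exists_action_desc π a n hker htriv
  refine ⟨⟨b₀, hb₀, fun b' hb' =>
    action_ext _ _ ((cancel_epi (π ▷ X)).mp (hb'.trans hb₀.symm))⟩, ?_⟩
  intro b hb
  refine ⟨?_, ?_, ?_⟩
  · -- faithfulness
    intro T q hq
    obtain ⟨T', p, g, hp, hg⟩ := exists_local_lift π q
    have hex : ∃ m : T' ⟶ N, m ≫ n = g := by
      apply (hN T' g).mpr
      intro T'' s x
      have h5 := hq T'' (s ≫ p) x
      rw [Category.assoc, ← hg, ← Category.assoc] at h5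
      exact (smul_comp_hom π a b.act hb (s ≫ g) x).symm.trans h5
    obtain ⟨m, rfl⟩ := hex
    rw [← cancel_epi p, ← hg, Category.assoc, hker.w, MonObj.comp_one, Hom.one_def,
      ← Category.assoc]
    congr 1
    exact toUnit_unique _ _
  · have hgraph : lift (snd G X) a.act = (π ▷ X) ≫ lift (snd Q X) b.act := by
      rw [comp_lift, whiskerRight_snd, hb]
    rw [hgraph, Over.comp_left]
    exact Surjective.comp_iff _ _
  · have hgraph : lift (snd G X) a.act = (π ▷ X) ≫ lift (snd Q X) b.act := by
      rw [comp_lift, whiskerRight_snd, hb]
    rw [hgraph, Over.comp_left]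
    exact IsDominant.comp_iff _ _

end Groth.Agent.S14643
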