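import Groth.Statements.S14645
import Groth.Agent.Lib.Helper11.Jac1
import Groth.Agent.Lib.Helper11.KPts

set_option autoImplicit false
universe u
open CategoryTheory MonoidalCategory CartesianMonoidalCategory MonObj GrpObj AlgebraicGeometry CategoryTheory.Limits
open AlgGrp

namespace Groth.Agent.S14645

/-- Over a field k with algebraic closure K, let G be a smooth k-group scheme of finite type acting on a
variety X (a separated, geometrically integral k-scheme of finite type). Then X is homogeneous under
G, i.e. the graph morphism G × X → X × X, (g, x) ↦ (x, g·x), is surjective, if and only if the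
abstract group G(K) of K-points over k acts transitively on the set X(K): for all K-points x, y of X
there is a K-point g of G with g · x = y. -/
theorem result (k : Type u) [Field k]
    (G X : Over (Spec (CommRingCat.of k))) [GrpObj G] [Smooth G.hom] [QuasiCompact G.hom]
    [IsSeparated X.hom] [LocallyOfFiniteType X.hom] [QuasiCompact X.hom] [GeometricallyIntegral X.hom] (a : AlgGrp.Action G X)
    (K : Type u) [Field K] [Algebra k K] [IsAlgClosure k K] :
    Surjective (CartesianMonoidalCategory.lift (CartesianMonoidalCategory.snd G X) a.act).left ↔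
      ∀ x y : Over.mk (Spec.map (CommRingCat.ofHom (algebraMap k K))) ⟶ X, ∃ g : Over.mk (Spec.map (CommRingCat.ofHom (algebraMap k K))) ⟶ G, CartesianMonoidalCategory.lift g x ≫ a.act = y := by

  let TK : Over (Spec (CommRingCat.of k)) :=
    Over.mk (Spec.map (CommRingCat.ofHom (algebraMap k K)))
  let Ψ : G ⊗ X ⟶ X ⊗ X :=
    CartesianMonoidalCategory.lift (CartesianMonoidalCategory.snd G X) a.act
  have hΨ1 : Ψ ≫ fst X X = snd G X := lift_fst _ _
  have hΨ2 : Ψ ≫ snd X X = a.act := lift_snd _ _
  haveI : IsAlgClosed K := IsAlgClosure.isAlgClosed k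
  haveI : LocallyOfFiniteType (G ⊗ X).hom := by
    show LocallyOfFiniteType (Limits.pullback.fst G.hom X.hom ≫ G.hom)
    infer_instance
  haveI : QuasiCompact (G ⊗ X).hom := by
    show QuasiCompact (Limits.pullback.fst G.hom X.hom ≫ G.hom)
    infer_instance
  haveI : LocallyOfFiniteType (X ⊗ X).hom := by
    show LocallyOfFiniteType (Limits.pullback.fst X.hom X.hom ≫ X.hom)
    infer_instance
  haveI : IsSeparated (X ⊗ X).hom := by
    show IsSeparated (Limits.pullback.fst X.hom X.hom ≫ X.hom)
    infer_instance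
  haveI : LocallyOfFiniteType Ψ.left := by
    haveI : LocallyOfFiniteType (Ψ.left ≫ (X ⊗ X).hom) := by rw [Over.w Ψ]; infer_instance
    exact locallyOfFiniteType_of_comp Ψ.left (X ⊗ X).hom
  haveI : QuasiCompact Ψ.left := by
    haveI : QuasiCompact (Ψ.left ≫ (X ⊗ X).hom) := by rw [Over.w Ψ]; infer_instance
    exact QuasiCompact.of_comp Ψ.left (X ⊗ X).hom
  show Surjective Ψ.left ↔ _
  constructor
  · intro hsurj x y
    let pK : Spec (CommRingCat.of K) ⟶ (X ⊗ X).left := (lift x y : TK ⟶ X ⊗ X).left
    let F : Over (Spec (CommRingCat.of K)) := Over.mk (Limits.pullback.snd Ψ.left pK)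
    haveI : LocallyOfFiniteType F.hom := by
      show LocallyOfFiniteType (Limits.pullback.snd Ψ.left pK)
      infer_instance
    haveI : Nonempty ↥F.left := by
      let t₀ : Spec (CommRingCat.of K) := IsLocalRing.closedPoint K
      obtain ⟨w, hw⟩ := hsurj.surj (pK t₀)
      obtain ⟨v, -, -⟩ := Scheme.Pullback.exists_preimage_pullback (f := Ψ.left) (g := pK) w t₀ hw
      exact ⟨v⟩
    haveI : JacobsonSpace F.left := LocallyOfFiniteType.jacobsonSpace F.hom
    obtain ⟨c, hc⟩ : (closedPoints F.left).Nonempty := by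
      by_contra hemp
      rw [Set.not_nonempty_iff_eq_empty] at hemp
      have h2 := closure_closedPoints (X := F.left)
      rw [hemp, closure_empty] at h2
      exact Set.empty_ne_univ h2
    obtain ⟨σ, hσ, -⟩ := Groth.Agent.Lib.Helper11.KPts.exists_point_of_isClosed K K F.hom c hc
    have hσ' : σ ≫ Limits.pullback.snd Ψ.left pK = 𝟙 _ := by
      have e : σ ≫ Limits.pullback.snd Ψ.left pK =
          Spec.map (CommRingCat.ofHom (algebraMap K K)) := hσ
      rw [e]
      have : algebraMap K K = RingHom.id K := rfl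
      rw [this]
      exact Spec.map_id _
    let q : Spec (CommRingCat.of K) ⟶ (G ⊗ X).left := σ ≫ Limits.pullback.fst Ψ.left pK
    have hq : q ≫ Ψ.left = pK := by
      show (σ ≫ Limits.pullback.fst Ψ.left pK) ≫ Ψ.left = pK
      rw [Category.assoc, Limits.pullback.condition, ← Category.assoc, hσ', Category.id_comp]
    let q' : TK ⟶ G ⊗ X := Over.homMk q (by
      rw [← Over.w Ψ, ← Category.assoc, hq]
      exact Over.w (lift x y : TK ⟶ X ⊗ X))
    have hq' : q' ≫ Ψ = lift x y := by
      apply Over.OverMorphism.ext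
      exact hq
    have h1 : q' ≫ snd G X = x := by
      rw [← hΨ1, ← Category.assoc, hq', lift_fst]
    have h2 : q' ≫ a.act = y := by
      rw [← hΨ2, ← Category.assoc, hq', lift_snd]
    refine ⟨q' ≫ fst G X, ?_⟩
    have h3 : lift (q' ≫ fst G X) x = q' := by
      apply CartesianMonoidalCategory.hom_ext
      · rw [lift_fst]
      · rw [lift_snd, h1]
    rw [h3, h2]
  · intro htr
    haveI : JacobsonSpace (X ⊗ X).left := LocallyOfFiniteType.jacobsonSpace (X ⊗ X).hom
    haveI : LocallyOfFinitePresentation Ψ.left := by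
      haveI : IsLocallyNoetherian (X ⊗ X).left :=
        LocallyOfFiniteType.isLocallyNoetherian (X ⊗ X).hom
      infer_instance
    refine Groth.Agent.Lib.Helper11.Jac1.surjective_of_closedPoints Ψ.left ?_
    intro z hz
    obtain ⟨p, hp1, hp2⟩ :=
      Groth.Agent.Lib.Helper11.KPts.exists_point_of_isClosed k K (X ⊗ X).hom z hz
    let p' : TK ⟶ X ⊗ X := Over.homMk p hp1
    obtain ⟨g, hg⟩ := htr (p' ≫ fst X X) (p' ≫ snd X X)
    have e1 : lift g (p' ≫ fst X X) ≫ Ψ = p' := by
      apply CartesianMonoidalCategory.hom_ext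
      · rw [Category.assoc, hΨ1, lift_snd]
      · rw [Category.assoc, hΨ2, hg]
    let t₀ : Spec (CommRingCat.of K) := IsLocalRing.closedPoint K
    refine ⟨(lift g (p' ≫ fst X X) : TK ⟶ G ⊗ X).left t₀, ?_⟩
    rw [← Scheme.Hom.comp_apply, ← Over.comp_left, e1]
    exact hp2 t₀

end Groth.Agent.S14645
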