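import Groth.Statements.S14654
import Mathlib
import Groth.Agent.Lib.Helper26.HomogAtPrimeNormal

set_option autoImplicit false
universe u
open FiltBl

namespace Groth.Agent.S14654

open AlgebraicGeometry Groth.Agent.Lib.Helper26.HomogAtPrime


open AlgebraicGeometry in
/-- Let A be a Noetherian ℕ-graded commutative ring which is normal, i.e. every localization of A at a
prime ideal is an integrally closed domain. Then the scheme Proj A is normal: every local ring of
Proj A is an integrally closed domain. -/
theorem result (A : Type u) [CommRing A] [IsNoetherianRing A]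
    (𝒜 : ℕ → AddSubgroup A) [GradedRing 𝒜]
    (hA : ∀ (p : Ideal A) [p.IsPrime], IsDomain (Localization.AtPrime p) ∧
      IsIntegrallyClosed (Localization.AtPrime p))
    (x : Proj 𝒜) :
    IsDomain ((Proj 𝒜).presheaf.stalk x) ∧ IsIntegrallyClosed ((Proj 𝒜).presheaf.stalk x) := by
  haveI hpp : x.asHomogeneousIdeal.toIdeal.IsPrime := x.isPrime
  obtain ⟨hdom, hic⟩ := hA x.asHomogeneousIdeal.toIdeal
  haveI := hdom
  haveI := hic
  haveI hOd := isDomain_atPrime 𝒜 x.asHomogeneousIdeal.toIdeal
  haveI hOi := isIntegrallyClosed_atPrime 𝒜 x.asHomogeneousIdeal.toIdeal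
  let e : (Proj 𝒜).presheaf.stalk x ≃+*
      HomogeneousLocalization.AtPrime 𝒜 x.asHomogeneousIdeal.toIdeal :=
    (Proj.stalkIso 𝒜 x).commRingCatIsoToRingEquiv
  exact ⟨MulEquiv.isDomain _ e.toMulEquiv, IsIntegrallyClosed.of_equiv e.symm⟩

end Groth.Agent.S14654
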