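import Groth.Statements.S14655
import Mathlib
import Groth.Agent.Lib.Helper26.HomogAtPrimeCM
import Groth.Agent.Lib.Helper22.CMGlue

set_option autoImplicit false
universe u
open FiltBl

namespace Groth.Agent.S14655

open AlgebraicGeometry Groth.Agent.Lib.Helper26.HomogAtPrime


open AlgebraicGeometry in
/-- Let A be a Noetherian ℕ-graded commutative ring which is a Cohen–Macaulay ring. Then the scheme Proj
A is Cohen–Macaulay: every local ring of Proj A is a Cohen–Macaulay local ring. -/
theorem result (A : Type u) [CommRing A]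
    (𝒜 : ℕ → AddSubgroup A) [GradedRing 𝒜] [LocCoh.IsCohenMacaulayRing A] (x : Proj 𝒜) :
    LocCoh.IsCohenMacaulayLocalRing ((Proj 𝒜).presheaf.stalk x) := by
  haveI : IsNoetherianRing A := inferInstance
  have h := x.not_irrelevant_le
  rw [HomogeneousIdeal.irrelevant_le] at h
  push Not at h
  obtain ⟨d, hd, hle⟩ := h
  obtain ⟨f, hf, hfx⟩ := SetLike.not_le_iff_exists.1 hle
  haveI hpp : x.asHomogeneousIdeal.toIdeal.IsPrime := x.isPrime
  haveI hCM : LocCoh.IsCohenMacaulayLocalRing
      (Localization.AtPrime x.asHomogeneousIdeal.toIdeal) :=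
    LocCoh.IsCohenMacaulayRing.isCohenMacaulayLocalRing_localization _
  have hO := isCohenMacaulayLocalRing_atPrime 𝒜 x.asHomogeneousIdeal.toIdeal
    x.asHomogeneousIdeal.isHomogeneous hd hf hfx
  let e : HomogeneousLocalization.AtPrime 𝒜 x.asHomogeneousIdeal.toIdeal ≃+*
      (Proj 𝒜).presheaf.stalk x := (Proj.stalkIso 𝒜 x).commRingCatIsoToRingEquiv.symm
  exact @Groth.Agent.Lib.Helper22.CMG.isCMLocalRing_of_ringEquiv _ _ _ _ hO e

end Groth.Agent.S14655
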