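import Groth.Statements.S14656
import Mathlib
import Groth.Agent.Lib.Helper26.HomogAtPrimeS1
import Groth.Agent.Lib.Helper4.Sk

set_option autoImplicit false
universe u
open FiltBl

namespace Groth.Agent.S14656

open AlgebraicGeometry Groth.Agent.Lib.Helper26.HomogAtPrime Groth.Agent.Lib.Helper4

lemma annihilator_self_q (R : Type u) [CommRing R] : Module.annihilator R R = ⊥ := by
  rw [eq_bot_iff]
  intro x hx
  rw [Module.mem_annihilator] at hx
  have h1 := hx 1
  rw [smul_eq_mul, mul_one] at h1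
  rw [Ideal.mem_bot]
  exact h1


open AlgebraicGeometry in
/-- Let A be a Noetherian ℕ-graded commutative ring satisfying Serre's condition (S_1) (every
localization A_p has depth at least min(1, dim A_p)). Then every local ring of the scheme Proj A
satisfies (S_1). -/
theorem result (A : Type u) [CommRing A] [IsNoetherianRing A]
    (𝒜 : ℕ → AddSubgroup A) [GradedRing 𝒜] (hA : LocCoh.HasSk 1 A A) (x : Proj 𝒜) :
    LocCoh.HasSk 1 ((Proj 𝒜).presheaf.stalk x) ((Proj 𝒜).presheaf.stalk x) := by
  have h := x.not_irrelevant_le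
  rw [HomogeneousIdeal.irrelevant_le] at h
  push Not at h
  obtain ⟨d, hd, hle⟩ := h
  obtain ⟨f, hf, hfx⟩ := SetLike.not_le_iff_exists.1 hle
  haveI hpp : x.asHomogeneousIdeal.toIdeal.IsPrime := x.isPrime
  have hA' : ∀ P ∈ associatedPrimes A A, P ∈ minimalPrimes A := by
    have h1 := (noEmbedded_iff_hasS1 (R := A) (M := A)).mpr hA
    rw [annihilator_self_q] at h1
    exact h1
  have hO := noEmbedded_atPrime 𝒜 x.asHomogeneousIdeal.toIdeal hd hf hfx hA'
  haveI hON := isNoetherianRing_atPrime 𝒜 x.asHomogeneousIdeal.toIdeal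
  let e : (Proj 𝒜).presheaf.stalk x ≃+*
      HomogeneousLocalization.AtPrime 𝒜 x.asHomogeneousIdeal.toIdeal :=
    (Proj.stalkIso 𝒜 x).commRingCatIsoToRingEquiv
  haveI : IsNoetherianRing ((Proj 𝒜).presheaf.stalk x) :=
    isNoetherianRing_of_ringEquiv _ e.symm
  have hS := noEmbedded_of_ringEquiv e hO
  apply (noEmbedded_iff_hasS1 (R := (Proj 𝒜).presheaf.stalk x)
    (M := (Proj 𝒜).presheaf.stalk x)).mp
  rw [annihilator_self_q]
  exact hS

end Groth.Agent.S14656
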