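import Groth.Statements.S14659
import Groth.Agent.Lib.Helper27.GrUnitD

set_option autoImplicit false
universe u
open FiltBl

namespace Groth.Agent.S14659

/-- Let R be a Noetherian ℤ-graded commutative ring which is regular (every localization at a prime is a
regular local ring), whose degree-0 subring R_0 is a local ring, with R_1 ≠ 0 and with a homogeneous
unit in some positive degree; let N be the least positive degree in which R has a unit and t ∈ R_N a
unit (so that R_N = t · R_0). Then C = R/(t − 1)R is a regular local ring. -/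
theorem result (R : Type u) [CommRing R]
    [IsNoetherianRing R] (𝒜 : ℤ → AddSubgroup R) [GradedRing 𝒜]
    (hreg : ∀ (p : Ideal R) [p.IsPrime], IsRegularLocalRing (Localization.AtPrime p))
    [IsLocalRing (GrLC.deg0 𝒜)] (h1 : ∃ x ∈ 𝒜 1, x ≠ 0) (N : ℕ) (hN : 0 < N) (t : R)
    (ht : t ∈ 𝒜 (N : ℤ)) (htu : IsUnit t)
    (hmin : ∀ (n : ℤ), 0 < n → n < (N : ℤ) → ∀ s ∈ 𝒜 n, ¬ IsUnit s) :
    IsRegularLocalRing (R ⧸ Ideal.span {t - 1}) := by
  obtain ⟨u, rfl⟩ := htu
  have hm : ∀ (i j : ℤ), 0 < i → 0 < j → i + j = (N : ℤ) → ∀ a ∈ 𝒜 i, ∀ b ∈ 𝒜 j,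
      ∃ c : SetLike.GradeZero.subring 𝒜,
        c ∈ IsLocalRing.maximalIdeal (SetLike.GradeZero.subring 𝒜) ∧ a * b = (c : R) * u := by
    intro i j hi hj hij a ha b hb
    have hab : a * b ∈ 𝒜 (N : ℤ) := by
      have := SetLike.mul_mem_graded ha hb
      rwa [hij] at this
    have hc : ((u⁻¹ : Rˣ) : R) * (a * b) ∈ 𝒜 0 := by
      have := SetLike.mul_mem_graded
        (Groth.Agent.Lib.Helper27.GrUnit.unit_inv_mem 𝒜 u ht) hab
      rwa [neg_add_cancel] at this
    refine ⟨⟨((u⁻¹ : Rˣ) : R) * (a * b), hc⟩, ?_, ?_⟩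
    · by_contra hnot
      have hunit : IsUnit (⟨((u⁻¹ : Rˣ) : R) * (a * b), hc⟩ : SetLike.GradeZero.subring 𝒜) := by
        by_contra h
        exact hnot ((IsLocalRing.mem_maximalIdeal _).2 h)
      have h1 : IsUnit (((u⁻¹ : Rˣ) : R) * (a * b)) :=
        hunit.map (SetLike.GradeZero.subring 𝒜).subtype
      have h2 : IsUnit (a * b) := by
        have := (u.isUnit).mul h1
        rwa [← mul_assoc, Units.mul_inv, one_mul] at this
      have h3 : IsUnit a := isUnit_of_mul_isUnit_left h2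
      exact hmin i hi (by linarith) a ha h3
    · change a * b = ((u⁻¹ : Rˣ) : R) * (a * b) * u
      rw [mul_comm _ (u : R), ← mul_assoc, Units.mul_inv, one_mul]
  exact Groth.Agent.Lib.Helper27.GrUnit.isRegularLocalRing_quot 𝒜 ht hN hm
    (fun p _ => hreg p)

end Groth.Agent.S14659
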