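import Groth.Statements.S14670
import Mathlib
import Groth.Agent.S2599
import Groth.Agent.S5764
import Groth.Agent.Lib.Helper26.RegularNormal
import Groth.Agent.Lib.Helper9.RegLocal

set_option autoImplicit false
universe u
open CAlg

namespace Groth.Agent.S14670

/-- Let R be a regular local ring and S an integral domain containing R as a subring over which it is a
finitely generated module, such that the localization of S at each of its maximal ideals is a
Cohen–Macaulay local ring. Then S is a flat R-module. (The published statement does not require S to
be a domain; in that generality it fails — for a discrete valuation ring R with residue field κ the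
ring R × κ contains R diagonally, is finite over R with Cohen–Macaulay localizations, and is not
flat — and the printed argument needs every maximal ideal of S to have height dim R, which holds
when S is a domain by going down.) -/
theorem result (R S : Type u) [CommRing R] [CommRing S]
    [IsRegularLocalRing R] [IsDomain S] [Algebra R S] [Module.Finite R S]
    (hinj : Function.Injective (algebraMap R S))
    (hCM : ∀ (q : Ideal S) [q.IsMaximal], LocCoh.IsCohenMacaulayLocalRing (Localization.AtPrime q)) :
    Module.Flat R S := by
  classical
  haveI : IsLocalRing R := inferInstance
  haveI : IsNoetherianRing R := inferInstance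
  haveI : IsDomain R := Groth.Agent.Lib.Helper9.RegLocal.isDomain_of_isRegularLocalRing R
  haveI : IsIntegrallyClosed R :=
    Groth.Agent.Lib.Helper26.RegularNormal.isIntegrallyClosed_of_isRegularLocalRing R
  haveI : Algebra.IsIntegral R S := Algebra.IsIntegral.of_finite R S
  haveI : IsNoetherianRing S := IsNoetherianRing.of_finite R S
  apply Module.flat_of_isLocalized_maximal S S (fun P => Localization.AtPrime P)
    (fun P => Algebra.linearMap S _)
  intro q hq
  haveI : IsNoetherianRing (Localization.AtPrime q) :=
    IsLocalization.isNoetherianRing q.primeCompl _ inferInstance
  have hcomap : q.comap (algebraMap R S) = IsLocalRing.maximalIdeal R :=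
    IsLocalRing.eq_maximalIdeal (Ideal.isMaximal_comap_of_isIntegral_of_isMaximal q)
  haveI : IsLocalHom (algebraMap R (Localization.AtPrime q)) := by
    constructor
    intro r hr
    rw [IsScalarTower.algebraMap_apply R S (Localization.AtPrime q)] at hr
    have h1 : algebraMap R S r ∈ q.primeCompl :=
      (IsLocalization.AtPrime.isUnit_to_map_iff (Localization.AtPrime q) q _).1 hr
    by_contra hnu
    have h2 : r ∈ IsLocalRing.maximalIdeal R := (IsLocalRing.mem_maximalIdeal r).2 hnu
    rw [← hcomap] at h2
    exact h1 h2
  have hCMq : LocCoh.IsCohenMacaulayModule (Localization.AtPrime q) (Localization.AtPrime q) :=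
    (hCM q).supportDim_eq_depth
  refine Groth.Agent.S2599.result R (Localization.AtPrime q) (Localization.AtPrime q) hCMq ?_
  rw [Module.supportDim_self_eq_ringKrullDim, Groth.Agent.S5764.result R S hinj q]
  have h0 : Module.supportDim (Localization.AtPrime q)
      (EGA4.FibMod R (Localization.AtPrime q) (Localization.AtPrime q)) = 0 := by
    have hsupp : Module.support (Localization.AtPrime q)
        (EGA4.FibMod R (Localization.AtPrime q) (Localization.AtPrime q)) =
        {IsLocalRing.closedPoint (Localization.AtPrime q)} := by
      show Module.support _ (_ ⧸ (EGA4.mB R (Localization.AtPrime q) •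
        (⊤ : Submodule (Localization.AtPrime q) (Localization.AtPrime q)))) = _
      rw [Module.support_quotient]
      ext P
      simp only [Set.mem_inter_iff, PrimeSpectrum.mem_zeroLocus, Set.mem_singleton_iff]
      constructor
      · rintro ⟨-, hP⟩
        haveI : (P.asIdeal.comap (algebraMap S (Localization.AtPrime q))).IsPrime :=
          Ideal.comap_isPrime _ _
        have hle1 : IsLocalRing.maximalIdeal R ≤
            (P.asIdeal.comap (algebraMap S (Localization.AtPrime q))).comap (algebraMap R S) := by
          intro r hr
          rw [Ideal.mem_comap, Ideal.mem_comap,
            ← IsScalarTower.algebraMap_apply R S (Localization.AtPrime q)]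
          exact hP (Ideal.mem_map_of_mem _ hr)
        have hprime : ((P.asIdeal.comap (algebraMap S (Localization.AtPrime q))).comap
            (algebraMap R S)).IsPrime := Ideal.comap_isPrime _ _
        have heq1 : (P.asIdeal.comap (algebraMap S (Localization.AtPrime q))).comap
            (algebraMap R S) = IsLocalRing.maximalIdeal R :=
          ((IsLocalRing.maximalIdeal.isMaximal R).eq_of_le hprime.ne_top hle1).symm
        have hmax : (P.asIdeal.comap (algebraMap S (Localization.AtPrime q))).IsMaximal := by
          apply Ideal.isMaximal_of_isIntegral_of_isMaximal_comap (R := R)
          rw [heq1]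
          exact IsLocalRing.maximalIdeal.isMaximal R
        have hle2 : P.asIdeal.comap (algebraMap S (Localization.AtPrime q)) ≤ q := by
          intro s hs
          by_contra hsq
          have hu : IsUnit (algebraMap S (Localization.AtPrime q) s) :=
            (IsLocalization.AtPrime.isUnit_to_map_iff (Localization.AtPrime q) q s).2 hsq
          exact P.2.ne_top (Ideal.eq_top_of_isUnit_mem _ (Ideal.mem_comap.1 hs) hu)
        have heq2 : P.asIdeal.comap (algebraMap S (Localization.AtPrime q)) = q :=
          hmax.eq_of_le hq.ne_top hle2
        have heq3 : P.asIdeal = IsLocalRing.maximalIdeal (Localization.AtPrime q) := by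
          rw [← IsLocalization.map_under q.primeCompl (Localization.AtPrime q) P.asIdeal]
          show Ideal.map _ (P.asIdeal.comap (algebraMap S (Localization.AtPrime q))) = _
          rw [heq2, Localization.AtPrime.map_eq_maximalIdeal]
        exact PrimeSpectrum.ext heq3
      · rintro rfl
        refine ⟨?_, ?_⟩
        · rw [Module.support_of_algebra]
          intro x hx
          rw [SetLike.mem_coe, RingHom.mem_ker, Algebra.algebraMap_self, RingHom.id_apply] at hx
          rw [hx]
          exact zero_mem _
        · have h2 : (IsLocalRing.maximalIdeal R).map (algebraMap R (Localization.AtPrime q)) ≤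
              IsLocalRing.maximalIdeal (Localization.AtPrime q) :=
            ((IsLocalRing.local_hom_TFAE (algebraMap R (Localization.AtPrime q))).out 0 2).1
              ‹IsLocalHom (algebraMap R (Localization.AtPrime q))›
          exact h2
    rw [Module.supportDim, hsupp]
    exact Order.krullDim_eq_zero
  rw [h0, add_zero]

end Groth.Agent.S14670
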