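import Groth.Statements.S14677
import Mathlib.RingTheory.AdicCompletion.AsTensorProduct
import Mathlib.RingTheory.AdicCompletion.Exactness
import Mathlib.Tactic

set_option autoImplicit false
universe u
open CAlg

namespace Groth.Agent.S14677

open TensorProduct in
/-- Let A be a Noetherian commutative ring, I and J ideals of A and M a finitely generated A-module.
Then the map of I-adic completions induced by the inclusion of the submodule JM into M is injective
with image exactly J·M̂, where M̂ is the I-adic completion of M; that is, the completion of JM is J
times the completion of M. (The published statement does not say that A is Noetherian; its proof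
uses exactness of completion on finitely generated modules, which needs it, so this row assumes A
Noetherian.) -/
theorem result (A : Type u) [CommRing A] [IsNoetherianRing A] (I J : Ideal A)
    (M : Type u) [AddCommGroup M] [Module A M] [Module.Finite A M] :
    Function.Injective (AdicCompletion.map I (J • (⊤ : Submodule A M)).subtype) ∧
      LinearMap.range (AdicCompletion.map I (J • (⊤ : Submodule A M)).subtype) =
        (J.map (algebraMap A (AdicCompletion I A))) • (⊤ : Submodule (AdicCompletion I A) (AdicCompletion I M)) := by
  have : IsNoetherian A M := isNoetherian_of_isNoetherianRing_of_finite A M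
  refine ⟨AdicCompletion.map_injective I (Submodule.subtype_injective _), ?_⟩
  have hsurjM := AdicCompletion.ofTensorProduct_surjective_of_finite I M
  have hsurjJM := AdicCompletion.ofTensorProduct_surjective_of_finite I ↥(J • (⊤ : Submodule A M))
  apply le_antisymm
  · rintro _ ⟨y, rfl⟩
    obtain ⟨t, rfl⟩ := hsurjJM y
    induction t using TensorProduct.induction_on with
    | zero => simp
    | tmul a z =>
      rw [AdicCompletion.ofTensorProduct_tmul, map_smul, AdicCompletion.map_of]
      apply Submodule.smul_mem
      have hz : (z : M) ∈ J • (⊤ : Submodule A M) := z.2
      show AdicCompletion.of I M (z : M) ∈ _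
      refine Submodule.smul_induction_on hz ?_ ?_
      · intro j hj m hm
        rw [map_smul, ← algebraMap_smul (AdicCompletion I A) j]
        exact Submodule.smul_mem_smul (Ideal.mem_map_of_mem _ hj) Submodule.mem_top
      · intro x y hx hy
        rw [map_add]; exact Submodule.add_mem _ hx hy
    | add x y hx hy => rw [map_add, map_add]; exact Submodule.add_mem _ hx hy
  · have step1 : ∀ j ∈ J, ∀ x : AdicCompletion I M, (algebraMap A (AdicCompletion I A) j) • x ∈
        LinearMap.range (AdicCompletion.map I (J • (⊤ : Submodule A M)).subtype) := by
      intro j hj x
      obtain ⟨t, rfl⟩ := hsurjM x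
      induction t using TensorProduct.induction_on with
      | zero => simp
      | tmul a m =>
        refine ⟨a • AdicCompletion.of I _ ⟨j • m, Submodule.smul_mem_smul hj Submodule.mem_top⟩, ?_⟩
        rw [map_smul, AdicCompletion.map_of, AdicCompletion.ofTensorProduct_tmul]
        simp only [Submodule.subtype_apply]
        rw [map_smul, smul_comm, algebraMap_smul]
      | add x y hx hy => rw [map_add, smul_add]; exact Submodule.add_mem _ hx hy
    refine Submodule.smul_le.mpr (fun r hr x hx => ?_)
    clear hsurjM hsurjJM hx
    revert x
    induction hr using Submodule.span_induction with
    | mem r hr =>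
      obtain ⟨j, hj, rfl⟩ := hr
      exact step1 j hj
    | zero => intro x; simp
    | add r s _ _ hr hs => intro x; rw [add_smul]; exact Submodule.add_mem _ (hr x) (hs x)
    | smul a r _ hr => intro x; rw [smul_eq_mul, mul_smul]; exact Submodule.smul_mem _ _ (hr x)

end Groth.Agent.S14677
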