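import Groth.Statements.S14678
import Mathlib

set_option autoImplicit false
universe u
open CategoryTheory CategoryTheory.Limits AlgebraicGeometry
open EtBase

namespace Groth.Agent.S14678

set_option backward.isDefEq.respectTransparency.types false

/-- every element of the residue field is a quotient of evaluations of sections over an affine
open neighbourhood -/
private theorem exists_evaluation_div {S : Scheme.{u}} {U : S.Opens} (hU : IsAffineOpen U)
    (s : ↥S) (hs : s ∈ U) (k : S.residueField s) :
    ∃ a a' : Γ(S, U), (S.evaluation U s hs).hom a' ≠ 0 ∧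
      (S.evaluation U s hs).hom a' * k = (S.evaluation U s hs).hom a := by
  obtain ⟨y, rfl⟩ := IsLocalRing.residue_surjective k
  let : Algebra Γ(S, U) (S.presheaf.stalk s) :=
    TopCat.Presheaf.algebra_section_stalk S.presheaf ⟨s, hs⟩
  have hloc := hU.isLocalization_stalk ⟨s, hs⟩
  obtain ⟨⟨a, a'⟩, h⟩ := IsLocalization.surj (hU.primeIdealOf ⟨s, hs⟩).asIdeal.primeCompl y
  have hunit : IsUnit (algebraMap Γ(S, U) (S.presheaf.stalk s) a') :=
    IsLocalization.map_units _ a'
  refine ⟨a, a', ?_, ?_⟩
  · have : IsUnit (IsLocalRing.residue (S.presheaf.stalk s)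
        (algebraMap Γ(S, U) (S.presheaf.stalk s) a')) := hunit.map _
    exact this.ne_zero
  · have := congrArg (IsLocalRing.residue (S.presheaf.stalk s)) h
    rw [map_mul] at this
    rw [mul_comm]
    exact this

/-- Let S be a scheme, s a point of S and ℓ a finite field extension of the residue field κ(s). Then,
fppf-locally around s, ℓ occurs as a residue field: there are an affine scheme U', a flat morphism b
: U' ⟶ S locally of finite presentation (so with open image containing s) and a morphism t : Spec ℓ
⟶ U' over the canonical morphism Spec ℓ ⟶ Spec κ(s) ⟶ S which is a preimmersion, i.e. the inclusion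
of a point s' of U' above s together with an identification of κ(s') with ℓ over κ(s); such a point
is closed in its fibre over s. (The published statement gives an affine open neighbourhood U of s
and an fppf morphism U' ⟶ U; this row asks only for a flat, locally finitely presented U' ⟶ S, whose
open image then contains s.) -/
theorem result (S : Scheme.{u}) (s : ↥S)
    (ℓ : Type u) [Field ℓ] [Algebra (S.residueField s) ℓ] [Module.Finite (S.residueField s) ℓ] :
    ∃ (U' : Scheme.{u}) (b : U' ⟶ S) (t : Spec (CommRingCat.of ℓ) ⟶ U'),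
      IsAffine U' ∧ Flat b ∧ LocallyOfFinitePresentation b ∧ IsPreimmersion t ∧
        t ≫ b = Spec.map (CommRingCat.ofHom (algebraMap (S.residueField s) ℓ)) ≫ S.fromSpecResidueField s := by
  obtain ⟨U, hU, hsU, -⟩ := exists_isAffineOpen_mem_and_subset (x := s) (U := ⊤) trivial
  obtain ⟨G, hG⟩ := (Module.Finite.fg_top : (⊤ : Submodule (S.residueField s) ℓ).FG)
  let ev := S.evaluation U s hsU
  let ψ : Γ(S, U) →+* ℓ := (algebraMap (S.residueField s) ℓ).comp ev.hom
  let φ : MvPolynomial ↥G Γ(S, U) →+* ℓ := MvPolynomial.eval₂Hom ψ (fun i => (i : ℓ))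
  let c : Γ(S, U) ⟶ CommRingCat.of (MvPolynomial ↥G Γ(S, U)) :=
    CommRingCat.ofHom (algebraMap Γ(S, U) (MvPolynomial ↥G Γ(S, U)))
  have hφc : c ≫ CommRingCat.ofHom φ = ev ≫ CommRingCat.ofHom (algebraMap (S.residueField s) ℓ) := by
    ext a
    simp [c, φ, ψ, MvPolynomial.algebraMap_eq]
    rfl
  have hflat : Flat (Spec.map c) := by
    rw [HasRingHomProperty.Spec_iff (P := @Flat)]
    simp only [c, CommRingCat.hom_ofHom]
    rw [RingHom.flat_algebraMap_iff]
    infer_instance
  have hfp : LocallyOfFinitePresentation (Spec.map c) := by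
    rw [HasRingHomProperty.Spec_iff (P := @LocallyOfFinitePresentation)]
    simp only [c, CommRingCat.hom_ofHom]
    rw [RingHom.finitePresentation_algebraMap]
    infer_instance
  -- the fraction property
  have hfrac : ∀ x : ℓ, ∃ r q : MvPolynomial ↥G Γ(S, U), φ q ≠ 0 ∧ φ q * x = φ r := by
    intro x
    have hx : x ∈ Submodule.span (S.residueField s) (G : Set ℓ) := by rw [hG]; trivial
    induction hx using Submodule.span_induction with
    | mem g hg =>
      refine ⟨MvPolynomial.X ⟨g, hg⟩, 1, by simp, ?_⟩
      simp [φ]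
    | zero => exact ⟨0, 1, by simp, by simp⟩
    | add x y _ _ hx hy =>
      obtain ⟨r1, q1, h1, e1⟩ := hx
      obtain ⟨r2, q2, h2, e2⟩ := hy
      refine ⟨r1 * q2 + r2 * q1, q1 * q2, by rw [map_mul]; exact mul_ne_zero h1 h2, ?_⟩
      rw [map_add, map_mul, map_mul, map_mul, ← e1, ← e2]
      ring
    | smul k x _ hx =>
      obtain ⟨r, q, h1, e1⟩ := hx
      obtain ⟨a, a', ha', ha⟩ := exists_evaluation_div hU s hsU k
      refine ⟨MvPolynomial.C a * r, MvPolynomial.C a' * q, ?_, ?_⟩
      · rw [map_mul]
        refine mul_ne_zero ?_ h1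
        simp only [φ, MvPolynomial.coe_eval₂Hom, MvPolynomial.eval₂_C, ψ, RingHom.comp_apply]
        exact (map_ne_zero _).mpr ha'
      · rw [map_mul, map_mul, ← e1]
        simp only [φ, MvPolynomial.coe_eval₂Hom, MvPolynomial.eval₂_C, ψ, RingHom.comp_apply]
        rw [← ha, map_mul, Algebra.smul_def]
        ring
  have hpre : IsPreimmersion (Spec.map (CommRingCat.ofHom φ)) := by
    apply IsPreimmersion.mk_SpecMap
    · exact Topology.IsEmbedding.of_subsingleton _
    · apply RingHom.surjectiveOnStalks_of_exists_div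
      intro x
      obtain ⟨r, q, h1, e1⟩ := hfrac x
      exact ⟨r, q, (isUnit_iff_ne_zero.mpr h1), e1⟩
  refine ⟨Spec (CommRingCat.of (MvPolynomial ↥G Γ(S, U))), Spec.map c ≫ hU.fromSpec,
    Spec.map (CommRingCat.ofHom φ), inferInstance, inferInstance, inferInstance, hpre, ?_⟩
  rw [← Category.assoc, ← Spec.map_comp, hφc, Spec.map_comp, Category.assoc]
  congr 1
  rw [Scheme.fromSpecResidueField, ← hU.fromSpecStalk_eq_fromSpecStalk hsU,
    IsAffineOpen.fromSpecStalk, ← Category.assoc, ← Spec.map_comp]
  rfl

end Groth.Agent.S14678
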