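import Groth.Statements.S14680
import Mathlib.RingTheory.AdicCompletion.Exactness
import Mathlib.RingTheory.Nakayama
import Mathlib.Tactic

set_option autoImplicit false
universe u
open CAlg

namespace Groth.Agent.S14680

private theorem subsingleton_of_forall (A : Type u) [CommRing A] (N : Type u) [AddCommGroup N]
    [Module A N] [Module.Finite A N]
    (h : ∀ (m : Ideal A) [m.IsMaximal], Subsingleton (AdicCompletion m N)) : Subsingleton N := by
  by_contra hN
  rw [not_subsingleton_iff_nontrivial] at hN
  have hann : Module.annihilator A N ≠ ⊤ := by
    intro htop
    obtain ⟨x, hx⟩ := exists_ne (0 : N)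
    have : (1 : A) ∈ Module.annihilator A N := htop ▸ Submodule.mem_top
    rw [Module.mem_annihilator] at this
    exact hx (by simpa using this x)
  obtain ⟨m, hm, hle⟩ := Ideal.exists_le_maximal _ hann
  have := hm
  have hsub := h m
  have hq : Subsingleton (N ⧸ (m ^ 1 • ⊤ : Submodule A N)) :=
    (AdicCompletion.eval_surjective m N 1).subsingleton
  have htop : (m • ⊤ : Submodule A N) = ⊤ := by
    rw [pow_one] at hq
    exact Submodule.Quotient.subsingleton_iff.mp hq
  obtain ⟨r, hr1, hr⟩ := Submodule.exists_sub_one_mem_and_smul_eq_zero_of_fg_of_le_smul m
    (⊤ : Submodule A N) Module.Finite.fg_top (by rw [htop])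
  have hrm : r ∈ m := hle (by
    rw [Module.mem_annihilator]; intro n; exact hr n Submodule.mem_top)
  have : (1 : A) ∈ m := by
    have := m.sub_mem hrm hr1
    simpa using this
  exact hm.ne_top ((Ideal.eq_top_iff_one m).mpr this)

/-- Let A be a Noetherian commutative ring and f : M' → M, g : M → M'' linear maps between finitely
generated A-modules. Then the sequence 0 → M' → M → M'' → 0 is exact — f injective, the image of f
equal to the kernel of g, g surjective — if and only if for every maximal ideal m of A the sequence
of m-adic completions 0 → M'^ → M^ → M''^ → 0 (maps induced by f and g) is exact in the same sense. -/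
theorem result (A : Type u) [CommRing A] [IsNoetherianRing A]
    (M' M M'' : Type u) [AddCommGroup M'] [Module A M'] [AddCommGroup M] [Module A M] [AddCommGroup M''] [Module A M'']
    [Module.Finite A M'] [Module.Finite A M] [Module.Finite A M''] (f : M' →ₗ[A] M) (g : M →ₗ[A] M'') :
    (Function.Injective f ∧ Function.Exact f g ∧ Function.Surjective g) ↔
      ∀ (m : Ideal A) [m.IsMaximal],
        Function.Injective (AdicCompletion.map m f) ∧ Function.Exact (AdicCompletion.map m f) (AdicCompletion.map m g) ∧
          Function.Surjective (AdicCompletion.map m g) := by
  constructor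
  · rintro ⟨hf, hfg, hg⟩ m _
    exact ⟨AdicCompletion.map_injective m hf, AdicCompletion.map_exact hf hfg hg,
      AdicCompletion.map_surjective m hg⟩
  · intro h
    have : IsNoetherian A M' := isNoetherian_of_isNoetherianRing_of_finite A M'
    have : IsNoetherian A M := isNoetherian_of_isNoetherianRing_of_finite A M
    have : IsNoetherian A M'' := isNoetherian_of_isNoetherianRing_of_finite A M''
    -- injectivity of f
    have hf : Function.Injective f := by
      have : Subsingleton (LinearMap.ker f) := by
        apply subsingleton_of_forall A
        intro m _
        refine ⟨fun y z => ?_⟩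
        have hinj : Function.Injective (AdicCompletion.map m (LinearMap.ker f).subtype) :=
          AdicCompletion.map_injective m (Submodule.subtype_injective _)
        apply hinj
        apply (h m).1
        rw [AdicCompletion.map_comp_apply, AdicCompletion.map_comp_apply]
        have : f ∘ₗ (LinearMap.ker f).subtype = 0 := by
          ext x; exact x.2
        rw [this, AdicCompletion.map_zero]; rfl
      rw [← LinearMap.ker_eq_bot]
      exact Submodule.eq_bot_of_subsingleton
    -- surjectivity of g
    have hg : Function.Surjective g := by
      have : Subsingleton (M'' ⧸ LinearMap.range g) := by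
        apply subsingleton_of_forall A
        intro m _
        have hz : ∀ y : AdicCompletion m (M'' ⧸ LinearMap.range g), y = 0 := by
          intro y
          obtain ⟨x, rfl⟩ := AdicCompletion.map_surjective m
            (Submodule.mkQ_surjective (LinearMap.range g)) y
          obtain ⟨z, rfl⟩ := (h m).2.2 x
          rw [AdicCompletion.map_comp_apply]
          have : (LinearMap.range g).mkQ ∘ₗ g = 0 := by
            ext x; simp
          rw [this, AdicCompletion.map_zero]; rfl
        exact ⟨fun y z => (hz y).trans (hz z).symm⟩
      rw [← LinearMap.range_eq_top]
      exact Submodule.Quotient.subsingleton_iff.mp this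
    -- g ∘ f = 0
    have hgf : g ∘ₗ f = 0 := by
      have : Subsingleton (LinearMap.range (g ∘ₗ f)) := by
        apply subsingleton_of_forall A
        intro m _
        have hz : ∀ y : AdicCompletion m (LinearMap.range (g ∘ₗ f)), y = 0 := by
          intro y
          have hinj : Function.Injective (AdicCompletion.map m (LinearMap.range (g ∘ₗ f)).subtype) :=
            AdicCompletion.map_injective m (Submodule.subtype_injective _)
          apply hinj
          obtain ⟨x, rfl⟩ := AdicCompletion.map_surjective m
            (LinearMap.surjective_rangeRestrict (g ∘ₗ f)) y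
          have e2 : (LinearMap.range (g ∘ₗ f)).subtype ∘ₗ (g ∘ₗ f).rangeRestrict = g ∘ₗ f := by
            ext x; rfl
          rw [AdicCompletion.map_comp_apply, e2,
            ← AdicCompletion.map_comp_apply, (h m).2.1.apply_apply_eq_zero, map_zero]
        exact ⟨fun y z => (hz y).trans (hz z).symm⟩
      rw [← LinearMap.range_eq_bot]
      exact Submodule.eq_bot_of_subsingleton
    have hle : LinearMap.range f ≤ LinearMap.ker g := by
      rintro _ ⟨x, rfl⟩
      exact LinearMap.congr_fun hgf x
    refine ⟨hf, ?_, hg⟩
    -- exactness in the middle
    set gbar : (M ⧸ LinearMap.range f) →ₗ[A] M'' := (LinearMap.range f).liftQ g hle with hgbar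
    have hK : Subsingleton (LinearMap.ker gbar) := by
      apply subsingleton_of_forall A
      intro m _
      have hz : ∀ y : AdicCompletion m (LinearMap.ker gbar), y = 0 := by
        intro y
        have hinj : Function.Injective (AdicCompletion.map m (LinearMap.ker gbar).subtype) :=
          AdicCompletion.map_injective m (Submodule.subtype_injective _)
        apply hinj
        rw [map_zero]
        obtain ⟨w, hw⟩ := AdicCompletion.map_surjective m
          (Submodule.mkQ_surjective (LinearMap.range f))
          (AdicCompletion.map m (LinearMap.ker gbar).subtype y)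
        have hgw : AdicCompletion.map m g w = 0 := by
          have e1 : g = gbar ∘ₗ (LinearMap.range f).mkQ := by
            ext x; simp [hgbar]
          rw [e1, ← AdicCompletion.map_comp_apply, hw, AdicCompletion.map_comp_apply]
          have : gbar ∘ₗ (LinearMap.ker gbar).subtype = 0 := by
            ext x; exact x.2
          rw [this, AdicCompletion.map_zero]; rfl
        obtain ⟨x, rfl⟩ := ((h m).2.1 w).mp hgw
        rw [← hw, AdicCompletion.map_comp_apply]
        have : (LinearMap.range f).mkQ ∘ₗ f = 0 := by
          ext x; simp
        rw [this, AdicCompletion.map_zero]; rfl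
      exact ⟨fun y z => (hz y).trans (hz z).symm⟩
    intro x
    constructor
    · intro hx
      have hmem : (LinearMap.range f).mkQ x ∈ LinearMap.ker gbar := by
        rw [LinearMap.mem_ker]; simpa [hgbar] using hx
      have := Subsingleton.elim (⟨_, hmem⟩ : LinearMap.ker gbar) 0
      have h0 : (LinearMap.range f).mkQ x = 0 := congrArg Subtype.val this
      rw [Submodule.mkQ_apply, Submodule.Quotient.mk_eq_zero] at h0
      exact h0
    · rintro ⟨y, rfl⟩
      exact LinearMap.congr_fun hgf y

end Groth.Agent.S14680
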