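import Groth.Statements.S1469
import Groth.Agent.Lib.Helper14.NormalSmoothAsc

set_option autoImplicit false
universe u
open FlatMor

namespace Groth.Agent.S1469

theorem isNormalRing_of_field (k : Type u) [Field k] : EGA4.IsNormalRing k := by
  intro p hp
  have hM : p.primeCompl ≤ nonZeroDivisors k := by
    intro x hx
    have hx0 : x ≠ 0 := fun h => hx (h ▸ p.zero_mem)
    exact mem_nonZeroDivisors_of_ne_zero hx0
  exact ⟨IsLocalization.isDomain_localization hM,
    isIntegrallyClosed_of_isLocalization _ p.primeCompl hM⟩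

open TensorProduct in
theorem isNormalHom_of_smooth (R S : Type u) [CommRing R] [CommRing S] [Algebra R S]
    [Algebra.Smooth R S] : EGA4.IsNormalHom R S := by
  refine ⟨inferInstance, fun p hp => ?_⟩
  haveI : Algebra.Smooth p.ResidueField (p.Fiber S) := inferInstance
  intro k' _ _ _
  haveI : Algebra.Smooth k' (k' ⊗[p.ResidueField] (p.Fiber S)) := inferInstance
  exact Groth.Agent.Lib.Helper14.NormalSmoothAsc.isNormalRing_of_smooth k' _ (isNormalRing_of_field k')

open AlgebraicGeometry CategoryTheory Limits in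
/-- A smooth morphism is normal; concretely, for affine opens U ⊆ f⁻¹(V) the ring map O_Y(V) → O_X(U) is
flat with geometrically normal fibre rings. -/
theorem result {X Y : Scheme.{u}} (f : X ⟶ Y) [Smooth f] (U : X.Opens) (V : Y.Opens) (hU : IsAffineOpen U) (hV : IsAffineOpen V) (hUV : U ≤ f ⁻¹ᵁ V) :
    letI := (f.appLE V U hUV).hom.toAlgebra
    EGA4.IsNormalHom Γ(Y, V) Γ(X, U) := by

  letI := (f.appLE V U hUV).hom.toAlgebra
  have h : (f.appLE V U hUV).hom.Smooth :=
    HasRingHomProperty.appLE (P := @Smooth) f inferInstance ⟨V, hV⟩ ⟨U, hU⟩ hUV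
  haveI : Algebra.Smooth Γ(Y, V) Γ(X, U) := RingHom.smooth_algebraMap.mp h
  exact isNormalHom_of_smooth _ _

end Groth.Agent.S1469
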