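import Groth.Statements.S14693
import Mathlib.AlgebraicGeometry.Pullbacks
import Mathlib.CategoryTheory.Limits.Constructions.Over.Connected

set_option autoImplicit false
universe u
open CategoryTheory AlgebraicGeometry
open SekSuwa
open CategoryTheory.Limits MonObj CartesianMonoidalCategory

namespace Groth.Agent.S14693

/-- For any commutative ring R, λ ∈ R and N such that λ is a non-zero-divisor and λ^N divides (1 + λX)^N
− 1 in R[X] with quotient P_{λ,N}, the closed subgroup scheme G_{λ,N} = Spec R[T]/(P_{λ,N}(T)) of
the affine R-group G^(λ) = Spec R[T, 1/(1+λT)] (group law s + t + λst) is the kernel of the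
homomorphism ψ_{λ,N} : G^(λ) → G^(λ^N), T ↦ P_{λ,N}(T): the square with sides the inclusion G_{λ,N}
→ G^(λ), ψ_{λ,N}, the unit section of G^(λ^N) and G_{λ,N} → Spec R is cartesian. (The published
text, over a discrete valuation ring and with N = p^n, introduces G_{λ,n} as the kernel of the
isogeny ψ_{λ,n}; this row is that assertion for every N, including the degenerate N = 0 where ψ is
trivial and G_{λ,0} = G^(λ).) -/
theorem result (R : Type u) [CommRing R] (lam : R) (N : ℕ) (h : SekSuwa.DivCond lam N) :
    AlgGrp.IsKernel (SekSuwa.incl R lam N h) (SekSuwa.psi R lam N h) := by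
  unfold AlgGrp.IsKernel
  let f : CommRingCat.of (A R (lam ^ N)) ⟶ CommRingCat.of (A R lam) :=
    CommRingCat.ofHom (psiHom R lam N h : A R (lam ^ N) →+* A R lam)
  let g : CommRingCat.of (A R (lam ^ N)) ⟶ CommRingCat.of R :=
    CommRingCat.ofHom (Bialgebra.counitAlgHom R (A R (lam ^ N)) : A R (lam ^ N) →+* R)
  let inl : CommRingCat.of (A R lam) ⟶ CommRingCat.of (AK R lam N h) :=
    CommRingCat.ofHom (AK.mkHom R lam N h : A R lam →+* AK R lam N h)
  let inr : CommRingCat.of R ⟶ CommRingCat.of (AK R lam N h) :=
    CommRingCat.ofHom (algebraMap R (AK R lam N h))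
  have hcomp : ∀ a : A R (lam ^ N), AK.mkHom R lam N h (psiHom R lam N h a) =
      algebraMap R (AK R lam N h) (Bialgebra.counitAlgHom R (A R (lam ^ N)) a) := by
    intro a
    have := congrArg (fun φ : A R (lam ^ N) →ₐc[R] AK R lam N h => φ a) (mkHom_comp_psiHom R lam N h)
    exact this
  have hw : f ≫ inl = g ≫ inr := by
    ext a
    exact hcomp a
  have hker : ∀ (s : PushoutCocone f g), ∀ a ∈ kerIdeal lam N h, s.inl.hom a = 0 := by
    intro s a ha
    have hle : kerIdeal lam N h ≤ RingHom.ker s.inl.hom := by
      rw [kerIdeal, Ideal.span_le, Set.singleton_subset_iff]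
      show s.inl.hom (kerGen lam N h) = 0
      have e1 : kerGen lam N h = psiHom R lam N h A.t := (psiHom_t R lam N h).symm
      have e2 := congrArg (fun φ => φ.hom (A.t : A R (lam ^ N))) s.condition
      simp only [CommRingCat.hom_comp, RingHom.comp_apply] at e2
      rw [e1]
      refine e2.trans ?_
      show s.inr.hom (Bialgebra.counitAlgHom R (A R (lam ^ N)) A.t) = 0
      have : Bialgebra.counitAlgHom R (A R (lam ^ N)) A.t = 0 := A.counit_t
      rw [this, map_zero]
    exact hle ha
  have hpo : IsPushout f g inl inr := by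
    refine ⟨⟨hw⟩, ⟨PushoutCocone.IsColimit.mk _
      (fun s => CommRingCat.ofHom (Ideal.Quotient.lift (kerIdeal lam N h) s.inl.hom (hker s)))
      (fun s => ?_) (fun s => ?_) (fun s m hm1 hm2 => ?_)⟩⟩
    · -- inl ≫ desc = s.inl
      ext a
      rfl
    · -- inr ≫ desc = s.inr
      ext r
      show Ideal.Quotient.lift (kerIdeal lam N h) s.inl.hom (hker s)
        (algebraMap R (AK R lam N h) r) = s.inr.hom r
      have e2 := congrArg (fun φ => φ.hom (algebraMap R (A R (lam ^ N)) r)) s.condition
      simp only [CommRingCat.hom_comp, RingHom.comp_apply] at e2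
      have e3 : f.hom (algebraMap R (A R (lam ^ N)) r) = algebraMap R (A R lam) r :=
        AlgHomClass.commutes (psiHom R lam N h) r
      have e4 : g.hom (algebraMap R (A R (lam ^ N)) r) = r :=
        (Bialgebra.counitAlgHom R (A R (lam ^ N))).commutes r
      rw [e3, e4] at e2
      rw [← e2]
      rfl
    · -- uniqueness
      ext x
      obtain ⟨a, rfl⟩ := Ideal.Quotient.mk_surjective x
      have := congrArg (fun φ => φ.hom a) hm1
      exact this
  have hpb := isPullback_SpecMap_of_isPushout f g inl inr hpo
  exact IsPullback.of_map_of_faithful (F := Over.forget _) hpb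

end Groth.Agent.S14693
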