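import Groth.Statements.S14694
import Mathlib

set_option autoImplicit false
universe u
open CategoryTheory AlgebraicGeometry
open SekSuwa

namespace Groth.Agent.S14694

open Polynomial in
theorem coeff_rhs (R : Type u) [CommRing R] (lam : R) (N k : ℕ) :
    ((1 + Polynomial.C lam * Polynomial.X : R[X]) ^ N).coeff k = (N.choose k : R) * lam ^ k := by
  have : (1 + Polynomial.C lam * Polynomial.X : R[X]) ^ N =
      ((1 + Polynomial.X : R[X]) ^ N).comp (Polynomial.C lam * Polynomial.X) := by
    simp
  rw [this, Polynomial.comp_C_mul_X_coeff, Polynomial.coeff_one_add_X_pow]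

open Polynomial in
theorem psiPoly_coeff (R : Type u) [CommRing R] (lam : R) (N : ℕ) (hN : 0 < N)
    (h : SekSuwa.DivCond lam N) :
    (psiPoly lam N h).coeff N = 1 ∧ ∀ k, N < k → (psiPoly lam N h).coeff k = 0 := by
  have hspec := psiPoly_spec h
  have hc : ∀ k, lam ^ N * (psiPoly lam N h).coeff k =
      (N.choose k : R) * lam ^ k - (1 : R[X]).coeff k := by
    intro k
    have := congrArg (fun p => Polynomial.coeff p k) hspec
    simp only [Polynomial.coeff_C_mul, Polynomial.coeff_sub] at this
    rw [this, coeff_rhs]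
  constructor
  · have := hc N
    rw [Nat.choose_self, Nat.cast_one, one_mul, Polynomial.coeff_one,
      if_neg (by omega : ¬ N = 0), sub_zero] at this
    exact cancel_nzd h.pow_nzd (this.trans (mul_one _).symm)
  · intro k hk
    have := hc k
    rw [Nat.choose_eq_zero_of_lt hk, Nat.cast_zero, zero_mul, Polynomial.coeff_one,
      if_neg (by omega : ¬ k = 0), sub_zero] at this
    exact cancel_nzd h.pow_nzd (this.trans (mul_zero _).symm)

theorem psiPoly_monic (R : Type u) [CommRing R] (lam : R) (N : ℕ) (hN : 0 < N)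
    (h : SekSuwa.DivCond lam N) : (psiPoly lam N h).Monic := by
  obtain ⟨h1, h2⟩ := psiPoly_coeff R lam N hN h
  exact Polynomial.monic_of_natDegree_le_of_coeff_eq_one N
    (Polynomial.natDegree_le_iff_coeff_eq_zero.mpr h2) h1

theorem psiPoly_natDegree (R : Type u) [CommRing R] [Nontrivial R] (lam : R) (N : ℕ) (hN : 0 < N)
    (h : SekSuwa.DivCond lam N) : (psiPoly lam N h).natDegree = N := by
  obtain ⟨h1, h2⟩ := psiPoly_coeff R lam N hN h
  exact Polynomial.natDegree_eq_of_le_of_coeff_ne_zero
    (Polynomial.natDegree_le_iff_coeff_eq_zero.mpr h2) (by rw [h1]; exact one_ne_zero)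

/-- in `AK`, `inv = (1 + λ t)^(N-1)` -/
theorem AK_inv_eq (R : Type u) [CommRing R] (lam : R) (N : ℕ) (hN : 0 < N)
    (h : SekSuwa.DivCond lam N) :
    (AK.inv : AK R lam N h) = (1 + lam • (AK.t : AK R lam N h)) ^ (N - 1) := by
  have e1 : (1 + lam • (AK.t : AK R lam N h)) * AK.inv = 1 := by
    have := congrArg (AK.mkHom R lam N h) (A.u_mul_inv (R := R) (lam := lam))
    rw [map_mul, map_one, A.u, map_add, map_one, map_smul] at this
    exact this
  have e2 : (1 + lam • (AK.t : AK R lam N h)) ^ N = 1 := AK.u_pow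
  have e3 : (1 + lam • (AK.t : AK R lam N h)) ^ N =
      (1 + lam • (AK.t : AK R lam N h)) ^ (N - 1) * (1 + lam • (AK.t : AK R lam N h)) := by
    rw [← pow_succ]; congr 1; omega
  calc (AK.inv : AK R lam N h) = (1 + lam • (AK.t : AK R lam N h)) ^ N * AK.inv := by
        rw [e2, one_mul]
    _ = (1 + lam • (AK.t : AK R lam N h)) ^ (N - 1) *
          ((1 + lam • (AK.t : AK R lam N h)) * AK.inv) := by rw [e3, mul_assoc]
    _ = _ := by rw [e1, mul_one]

/-- the coordinate ring of `G_{λ,N}` is `R[T]/(P)` -/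
noncomputable def equivAdjoinRoot (R : Type u) [CommRing R] (lam : R) (N : ℕ) (hN : 0 < N)
    (h : SekSuwa.DivCond lam N) : AK R lam N h ≃ₐ[R] AdjoinRoot (psiPoly lam N h) := by
  have hroot : (1 + lam • AdjoinRoot.root (psiPoly lam N h)) ^ N = 1 := by
    have := aeval_psiPoly h (AdjoinRoot.root (psiPoly lam N h))
    rw [AdjoinRoot.aeval_eq, AdjoinRoot.mk_self, mul_zero] at this
    rw [Algebra.smul_def]
    exact (sub_eq_zero.mp this.symm)
  have hrel : (1 + lam • AdjoinRoot.root (psiPoly lam N h)) *
      (1 + lam • AdjoinRoot.root (psiPoly lam N h)) ^ (N - 1) = 1 := by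
    rw [← pow_succ', show N - 1 + 1 = N by omega, hroot]
  let φ₀ : A R lam →ₐ[R] AdjoinRoot (psiPoly lam N h) :=
    A.lift R lam (AdjoinRoot.root (psiPoly lam N h))
      ((1 + lam • AdjoinRoot.root (psiPoly lam N h)) ^ (N - 1)) hrel
  have hφ₀ : ∀ a ∈ kerIdeal lam N h, φ₀ a = 0 := by
    intro a ha
    obtain ⟨d, rfl⟩ := Ideal.mem_span_singleton'.mp ha
    rw [map_mul, kerGen, ← Polynomial.aeval_algHom_apply]
    have : φ₀ A.t = AdjoinRoot.root (psiPoly lam N h) := A.lift_t _ _ hrel
    rw [this, AdjoinRoot.aeval_eq, AdjoinRoot.mk_self, mul_zero]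
  let φ : AK R lam N h →ₐ[R] AdjoinRoot (psiPoly lam N h) :=
    Ideal.Quotient.liftₐ (kerIdeal lam N h) φ₀ hφ₀
  let ψ : AdjoinRoot (psiPoly lam N h) →ₐ[R] AK R lam N h :=
    AdjoinRoot.liftAlgHom (psiPoly lam N h) (Algebra.ofId R (AK R lam N h)) AK.t (by
      have := AK.aeval_t (R := R) (lam := lam) (N := N) (h := h)
      rwa [Polynomial.aeval_def] at this)
  have hφt : φ AK.t = AdjoinRoot.root (psiPoly lam N h) := A.lift_t _ _ hrel
  have hφinv : φ AK.inv = (1 + lam • AdjoinRoot.root (psiPoly lam N h)) ^ (N - 1) :=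
    A.lift_inv _ _ hrel
  have hψ : ψ (AdjoinRoot.root (psiPoly lam N h)) = AK.t := AdjoinRoot.liftAlgHom_root _ _ _ _
  refine AlgEquiv.ofAlgHom φ ψ ?_ ?_
  · apply AdjoinRoot.algHom_ext
    rw [AlgHom.comp_apply, hψ, hφt]
    rfl
  · apply AK.algHom_ext
    · rw [AlgHom.comp_apply, hφt, hψ]; rfl
    · rw [AlgHom.comp_apply, hφinv, map_pow, map_add, map_one, map_smul, hψ]
      exact (AK_inv_eq R lam N hN h).symm

/-- For any commutative ring R, λ ∈ R and N ≥ 1 such that λ is a non-zero-divisor and λ^N divides (1 +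
λX)^N − 1 in R[X] with quotient P_{λ,N}, the R-group scheme G_{λ,N}, defined as the closed subscheme
of the affine R-group G^(λ) = Spec R[T, 1/(1+λT)] cut out by P_{λ,N}(T), is finite locally free of
degree N over Spec R (its coordinate ring is R[T]/(P_{λ,N}(T)) with P_{λ,N} monic of degree N). (The
published text states this over a discrete valuation ring with N = p^n: G_{λ,n} is a commutative
finite flat group scheme of rank p^n.) -/
theorem result (R : Type u) [CommRing R] (lam : R) (N : ℕ) (hN : 0 < N) (h : SekSuwa.DivCond lam N) :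
    Mor2.IsFinLocFreeOfDeg N (SekSuwa.GK R lam N h).hom := by
  have hmonic := psiPoly_monic R lam N hN h
  let e := equivAdjoinRoot R lam N hN h
  let pb := AdjoinRoot.powerBasis' hmonic
  have hfree0 : Module.Free R (AdjoinRoot (psiPoly lam N h)) := Module.Free.of_basis pb.basis
  have hfin0 : Module.Finite R (AdjoinRoot (psiPoly lam N h)) := Module.Finite.of_basis pb.basis
  have hfree : Module.Free R (AK R lam N h) := Module.Free.of_equiv e.symm.toLinearEquiv
  have hfin : Module.Finite R (AK R lam N h) := Module.Finite.equiv e.symm.toLinearEquiv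
  have hflat : Module.Flat R (AK R lam N h) := inferInstance
  have hfp : Algebra.FinitePresentation R (AK R lam N h) := by
    have : Module.FinitePresentation R (AK R lam N h) := Module.finitePresentation_of_projective R _
    infer_instance
  have hhom : (SekSuwa.GK R lam N h).hom =
      Spec.map (CommRingCat.ofHom (algebraMap R (AK R lam N h))) := rfl
  refine ⟨⟨?_, ?_, ?_⟩, ?_⟩
  · change IsFinite (Spec.map (CommRingCat.ofHom (algebraMap R (AK R lam N h))))
    rw [IsFinite.SpecMap_iff]
    simpa [RingHom.finite_algebraMap] using hfin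
  · change Flat (Spec.map (CommRingCat.ofHom (algebraMap R (AK R lam N h))))
    rw [Flat.SpecMap_iff]
    simpa [RingHom.flat_algebraMap_iff] using hflat
  · change LocallyOfFinitePresentation (Spec.map (CommRingCat.ofHom (algebraMap R (AK R lam N h))))
    rw [LocallyOfFinitePresentation.SpecMap_iff]
    simpa [RingHom.finitePresentation_algebraMap] using hfp
  · intro y
    rcases subsingleton_or_nontrivial R with hR | hR
    · exact (PrimeSpectrum.instIsEmptyOfSubsingleton.false y).elim
    · change Scheme.Hom.finrank (Spec.map (CommRingCat.ofHom (algebraMap R (AK R lam N h)))) y = N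
      rw [Scheme.Hom.finrank_SpecMap_algebraMap R (AK R lam N h) y,
        Module.rankAtStalk_eq_finrank_of_free]
      show Module.finrank R (AK R lam N h) = N
      rw [LinearEquiv.finrank_eq e.toLinearEquiv, Module.finrank_eq_card_basis pb.basis,
        Fintype.card_fin, AdjoinRoot.powerBasis'_dim, psiPoly_natDegree R lam N hN h]

end Groth.Agent.S14694
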