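import Groth.Statements.S1471
import Groth.Agent.Lib.Helper3.Reduced

set_option autoImplicit false
universe u
open FlatMor

namespace Groth.Agent.S1471

open AlgebraicGeometry CategoryTheory Limits in
/-- Let f : X → Y and η a generic point of an irreducible component of Y. Then the fibre over η of the
composite X_red → X → Y is reduced; since it is a closed subscheme of X_η with the same underlying
set, this says (X_η)_red = (X_red)_η. -/
theorem result {X Y : Scheme.{u}} (f : X ⟶ Y) (η : Y) (W : Set ↑Y) (hW : W ∈ irreducibleComponents ↑Y) (hη : IsGenericPoint η W) :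
    IsReduced ((X.nilradical.subschemeι ≫ f).fiber η) := by
  have hred : IsReduced X.nilradical.subscheme := Groth.Agent.Lib.Helper3.isReduced_nilradical_subscheme X
  have hflat : Flat (Y.fromSpecStalk η) := Groth.Agent.Lib.Helper3.flat_fromSpecStalk Y η
  have hW' : IsReduced (pullback (X.nilradical.subschemeι ≫ f) (Y.fromSpecStalk η)) :=
    Groth.Agent.Lib.Helper3.isReduced_of_flat_of_surjectiveOnStalks
      (pullback.fst (X.nilradical.subschemeι ≫ f) (Y.fromSpecStalk η))
  have hsub : Subsingleton (Spec (Y.presheaf.stalk η)) :=
    Groth.Agent.Lib.Helper3.subsingleton_spec_stalk_of_isGenericPoint Y η W hW hη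
  have hcl : IsClosedImmersion (Spec.map (Y.residue η)) :=
    IsClosedImmersion.spec_of_surjective _ (Y.residue_surjective η)
  have hsurj : Surjective (Spec.map (Y.residue η)) :=
    ⟨fun p => ⟨(default : Spec (Y.residueField η)), Subsingleton.elim _ _⟩⟩
  have hiso : IsIso (pullback.fst (pullback.snd (X.nilradical.subschemeι ≫ f) (Y.fromSpecStalk η))
      (Spec.map (Y.residue η))) := isIso_of_isClosedImmersion_of_surjective _
  change IsReduced (pullback (X.nilradical.subschemeι ≫ f) (Spec.map (Y.residue η) ≫ Y.fromSpecStalk η))
  exact isReduced_of_isOpenImmersion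
    ((pullbackLeftPullbackSndIso (X.nilradical.subschemeι ≫ f) (Y.fromSpecStalk η)
      (Spec.map (Y.residue η))).inv ≫ pullback.fst _ _)

end Groth.Agent.S1471
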