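import Groth.Statements.S14727
import Mathlib

set_option autoImplicit false
universe u
open ValPrufer

namespace Groth.Agent.S14727

variable {R : Type u} [CommRing R]

/-- π-regularity modulo `J` when all primes over `J` are maximal -/
theorem exists_pow_mul_mem (J : Ideal R)
    (hJ : ∀ p : Ideal R, p.IsPrime → J ≤ p → p.IsMaximal) (s : R) :
    ∃ (n : ℕ) (t : R), s ^ n * (1 - s * t) ∈ J := by
  by_contra h
  push Not at h
  let T : Submonoid R :=
    { carrier := {x | ∃ (n : ℕ) (t : R), x = s ^ n * (1 - s * t)}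
      one_mem' := ⟨0, 0, by ring⟩
      mul_mem' := by
        rintro _ _ ⟨n, t, rfl⟩ ⟨n', t', rfl⟩
        exact ⟨n + n', t + t' - s * t * t', by ring⟩ }
  have hdisj : Disjoint (J : Set R) (T : Set R) := by
    rw [Set.disjoint_left]
    rintro x hxJ ⟨n, t, rfl⟩
    exact h n t hxJ
  obtain ⟨p, hp, hle, hpT⟩ := Ideal.exists_le_prime_disjoint J T hdisj
  have hmax := hJ p hp hle
  have hs : s ∉ p := fun hsp => Set.disjoint_left.mp hpT hsp ⟨1, 0, by ring⟩
  obtain ⟨y, i, hi, hyi⟩ := hmax.exists_inv hs
  exact Set.disjoint_left.mp hpT hi ⟨0, y, by linear_combination hyi⟩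

theorem mem_smul_top_iff (J : Ideal R) (m : Ideal R) [m.IsPrime] (y : Localization.AtPrime m) :
    y ∈ (J • ⊤ : Submodule R (Localization.AtPrime m)) ↔
      ∃ u : R, u ∉ m ∧ ∃ a ∈ J, u • y = algebraMap R (Localization.AtPrime m) a := by
  constructor
  · intro hy
    refine Submodule.smul_induction_on hy ?_ ?_
    · intro j hj z _
      obtain ⟨r, s, rfl⟩ := IsLocalization.exists_mk'_eq m.primeCompl z
      refine ⟨s, s.2, j * r, J.mul_mem_right _ hj, ?_⟩
      calc (s : R) • j • IsLocalization.mk' (Localization.AtPrime m) r s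
          = j • ((s : R) • IsLocalization.mk' (Localization.AtPrime m) r s) := smul_comm _ _ _
        _ = j • algebraMap R (Localization.AtPrime m) r := by
            rw [Algebra.smul_def (s : R), IsLocalization.mk'_spec']
        _ = algebraMap R (Localization.AtPrime m) (j * r) := by
            rw [Algebra.smul_def, map_mul]
    · rintro y1 y2 ⟨u1, hu1, a1, ha1, e1⟩ ⟨u2, hu2, a2, ha2, e2⟩
      refine ⟨u1 * u2, fun h => (Ideal.IsPrime.mem_or_mem ‹_› h).elim hu1 hu2,
        u2 * a1 + u1 * a2, J.add_mem (J.mul_mem_left _ ha1) (J.mul_mem_left _ ha2), ?_⟩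
      rw [smul_add, mul_comm u1 u2, mul_smul, e1, mul_comm u2 u1, mul_smul, e2, map_add, map_mul,
        map_mul, Algebra.smul_def, Algebra.smul_def]
  · rintro ⟨u, hu, a, ha, e⟩
    have hunit : IsUnit (algebraMap R (Localization.AtPrime m) u) :=
      IsLocalization.map_units _ (⟨u, hu⟩ : m.primeCompl)
    have : y = a • (↑hunit.unit⁻¹ : Localization.AtPrime m) := by
      rw [Algebra.smul_def] at e ⊢
      rw [← e, mul_comm (algebraMap _ _ u) y, mul_assoc, IsUnit.mul_val_inv, mul_one]
    rw [this]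
    exact Submodule.smul_mem_smul ha Submodule.mem_top

theorem level_inj (I : Ideal R) (n : ℕ) (x : R)
    (hx : ∀ m : MaximalSpectrum R, I ≤ m.asIdeal →
      algebraMap R (Localization.AtPrime m.asIdeal) x ∈
        (I ^ n • ⊤ : Submodule R (Localization.AtPrime m.asIdeal))) : x ∈ I ^ n := by
  by_contra hxJ
  set C : Ideal R := ((I ^ n : Ideal R) : Submodule R R).colon ({x} : Set R) with hC
  have hCne : C ≠ ⊤ := by
    intro htop
    have : (1 : R) ∈ C := htop ▸ Submodule.mem_top
    rw [hC, Submodule.mem_colon_singleton, one_smul] at this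
    exact hxJ this
  obtain ⟨m, hm, hCm⟩ := Ideal.exists_le_maximal C hCne
  have hJC : I ^ n ≤ C := by
    intro r hr
    rw [hC, Submodule.mem_colon_singleton]
    exact Ideal.mul_mem_right _ _ hr
  have hIm : I ≤ m := by
    have := hm.isPrime
    exact Ideal.IsPrime.le_of_pow_le (hJC.trans hCm)
  have := hm.isPrime
  obtain ⟨u, hu, a, ha, e⟩ := (mem_smul_top_iff (I ^ n) m _).mp (hx ⟨m, hm⟩ hIm)
  rw [Algebra.smul_def, ← map_mul] at e
  obtain ⟨t, ht⟩ := (IsLocalization.eq_iff_exists m.primeCompl (Localization.AtPrime m)).mp e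
  have hmem : (t : R) * u ∈ C := by
    rw [hC, Submodule.mem_colon_singleton, smul_eq_mul, mul_assoc, ht]
    exact Ideal.mul_mem_left _ _ ha
  exact (Ideal.IsPrime.mem_or_mem ‹_› (hCm hmem)).elim t.2 hu

theorem level_surj_one (I : Ideal R)
    (hI : ∀ (p : Ideal R), p.IsPrime → I ≤ p → p.IsMaximal) (n : ℕ) (m : Ideal R) [m.IsPrime]
    (y : Localization.AtPrime m) :
    ∃ x : R, algebraMap R (Localization.AtPrime m) x - y ∈
      (I ^ n • ⊤ : Submodule R (Localization.AtPrime m)) := by
  have hJ : ∀ p : Ideal R, p.IsPrime → I ^ n ≤ p → p.IsMaximal := fun p hp hle =>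
    hI p hp (Ideal.IsPrime.le_of_pow_le hle)
  obtain ⟨r, s, rfl⟩ := IsLocalization.exists_mk'_eq m.primeCompl y
  obtain ⟨k, t, hkt⟩ := exists_pow_mul_mem (I ^ n) hJ (s : R)
  refine ⟨t * r, (mem_smul_top_iff _ _ _).mpr ⟨(s : R) ^ k * s, ?_, -((s : R) ^ k * (1 - s * t) * r),
    (I ^ n).neg_mem (Ideal.mul_mem_right _ _ hkt), ?_⟩⟩
  · intro h
    rcases Ideal.IsPrime.mem_or_mem ‹_› h with h | h
    · exact s.2 (Ideal.IsPrime.mem_of_pow_mem ‹_› _ h)
    · exact s.2 h
  · have hspec : algebraMap R (Localization.AtPrime m) (s : R) *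
        IsLocalization.mk' (Localization.AtPrime m) r s = algebraMap R (Localization.AtPrime m) r :=
      IsLocalization.mk'_spec' _ _ _
    rw [Algebra.smul_def]
    simp only [map_mul, map_sub, map_neg, map_pow, map_one]
    linear_combination (-(algebraMap R (Localization.AtPrime m) (s : R)) ^ k) * hspec

/-- the kernel ideals -/
def K (I : Ideal R) (n : ℕ) (m : Ideal R) [m.IsPrime] : Ideal R :=
  Submodule.comap (Algebra.linearMap R (Localization.AtPrime m))
    (I ^ n • ⊤ : Submodule R (Localization.AtPrime m))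

theorem mem_K (I : Ideal R) (n : ℕ) (m : Ideal R) [m.IsPrime] (x : R) :
    x ∈ K I n m ↔ algebraMap R (Localization.AtPrime m) x ∈
      (I ^ n • ⊤ : Submodule R (Localization.AtPrime m)) := Iff.rfl

theorem K_le_imp_eq (I : Ideal R)
    (hI : ∀ (p : Ideal R), p.IsPrime → I ≤ p → p.IsMaximal) (n : ℕ) (m m'' : Ideal R)
    (hm : m.IsMaximal) [m.IsPrime] (hm'' : m''.IsMaximal) (hle : K I n m ≤ m'') : m = m'' := by
  by_contra hne
  have hJ : ∀ p : Ideal R, p.IsPrime → I ^ n ≤ p → p.IsMaximal := fun p hp hle =>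
    hI p hp (Ideal.IsPrime.le_of_pow_le hle)
  have : ¬ m ≤ m'' := fun h => hne (hm.eq_of_le hm''.ne_top h)
  obtain ⟨s, hsm, hsm''⟩ := SetLike.not_le_iff_exists.mp this
  obtain ⟨k, t, hkt⟩ := exists_pow_mul_mem (I ^ n) hJ s
  have hu : 1 - s * t ∉ m := by
    intro h
    have : (1 : R) ∈ m := by
      have := m.add_mem h (m.mul_mem_right t hsm)
      simpa using this
    exact hm.ne_top ((Ideal.eq_top_iff_one m).mpr this)
  have hsk : s ^ k ∈ K I n m := by
    rw [mem_K, mem_smul_top_iff]
    refine ⟨1 - s * t, hu, s ^ k * (1 - s * t), hkt, ?_⟩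
    rw [Algebra.smul_def, ← map_mul, mul_comm]
  have := hm''.isPrime
  exact hsm'' (Ideal.IsPrime.mem_of_pow_mem ‹_› _ (hle hsk))

theorem level_surj (hR : Finite (MaximalSpectrum R)) (I : Ideal R)
    (hI : ∀ (p : Ideal R), p.IsPrime → I ≤ p → p.IsMaximal) (n : ℕ)
    (y : ∀ m : {m : MaximalSpectrum R // I ≤ m.asIdeal}, Localization.AtPrime m.1.asIdeal) :
    ∃ x : R, ∀ m : {m : MaximalSpectrum R // I ≤ m.asIdeal},
      algebraMap R (Localization.AtPrime m.1.asIdeal) x - y m ∈
        (I ^ n • ⊤ : Submodule R (Localization.AtPrime m.1.asIdeal)) := by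
  choose x0 hx0 using fun m : {m : MaximalSpectrum R // I ≤ m.asIdeal} =>
    level_surj_one I hI n m.1.asIdeal (y m)
  have hcop : Pairwise (Function.onFun IsCoprime
      (fun m : {m : MaximalSpectrum R // I ≤ m.asIdeal} => K I n m.1.asIdeal)) := by
    intro m m' hmm'
    show IsCoprime (K I n m.1.asIdeal) (K I n m'.1.asIdeal)
    rw [Ideal.isCoprime_iff_sup_eq]
    by_contra hne
    obtain ⟨m'', hm'', hle⟩ := Ideal.exists_le_maximal _ hne
    have e1 := K_le_imp_eq I hI n m.1.asIdeal m'' m.1.isMaximal hm'' (le_sup_left.trans hle)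
    have e2 := K_le_imp_eq I hI n m'.1.asIdeal m'' m'.1.isMaximal hm'' (le_sup_right.trans hle)
    exact hmm' (Subtype.ext (MaximalSpectrum.ext (e1.trans e2.symm)))
  obtain ⟨q, hq⟩ := Ideal.quotientInfToPiQuotient_surj hcop
    (fun m => Ideal.Quotient.mk _ (x0 m))
  obtain ⟨x, rfl⟩ := Ideal.Quotient.mk_surjective q
  refine ⟨x, fun m => ?_⟩
  have h1 : x - x0 m ∈ K I n m.1.asIdeal := by
    have := congrFun hq m
    rw [Ideal.quotientInfToPiQuotient_mk] at this
    exact Ideal.Quotient.eq.mp this
  have h2 := (mem_K I n m.1.asIdeal _).mp h1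
  have : algebraMap R (Localization.AtPrime m.1.asIdeal) x - y m =
      algebraMap R (Localization.AtPrime m.1.asIdeal) (x - x0 m) +
        (algebraMap R (Localization.AtPrime m.1.asIdeal) (x0 m) - y m) := by
    rw [map_sub]; ring
  rw [this]
  exact Submodule.add_mem _ h2 (hx0 m)

/-- Let R be a semilocal ring (finitely many maximal ideals) and I an ideal of R of co-height zero, i.e.
every prime ideal containing I is maximal. Then the canonical map from the I-adic completion of R to
the product, over the maximal ideals m ⊇ I, of the I-adic completions of the local rings R_m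
(equivalently their IR_m-adic completions) is bijective; it is the continuous ring isomorphism of
the source, stated here as bijectivity of the canonical map of completed modules. -/
theorem result
    (R : Type u) [CommRing R] (hR : Finite (MaximalSpectrum R)) (I : Ideal R)
    (hI : ∀ (p : Ideal R), p.IsPrime → I ≤ p → p.IsMaximal) :
    Function.Bijective (LinearMap.pi (fun m : {m : MaximalSpectrum R // I ≤ m.asIdeal} =>
      AdicCompletion.map I (Algebra.linearMap R (Localization.AtPrime m.1.asIdeal)))) := by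
  have hsmul : ∀ (n : ℕ) (x : R), x ∈ (I ^ n • ⊤ : Submodule R R) ↔ x ∈ I ^ n := by
    intro n x
    rw [smul_eq_mul, Ideal.mul_top]
  constructor
  · rw [injective_iff_map_eq_zero]
    intro x hx
    apply AdicCompletion.ext
    intro n
    obtain ⟨r, hr⟩ := Submodule.Quotient.mk_surjective _ (x.val n)
    rw [AdicCompletion.val_zero_apply, ← hr, Submodule.Quotient.mk_eq_zero, hsmul]
    apply level_inj I n r
    intro m hm
    have h1 := congrFun hx ⟨m, hm⟩
    have h2 := congrArg (fun z => z.val n) h1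
    simp only [LinearMap.pi_apply, AdicCompletion.map_val_apply, Pi.zero_apply,
      AdicCompletion.val_zero_apply] at h2
    rw [← hr, LinearMap.reduceModIdeal_apply, Submodule.Quotient.mk_eq_zero] at h2
    exact h2
  · intro y
    -- representatives
    choose yr hyr using fun (n : ℕ) (m : {m : MaximalSpectrum R // I ≤ m.asIdeal}) =>
      Submodule.Quotient.mk_surjective _ ((y m).val n)
    choose x hx using fun n => level_surj hR I hI n (yr n)
    have hcompat : ∀ {k n : ℕ} (hkn : k ≤ n),
        AdicCompletion.transitionMap I R hkn (Submodule.Quotient.mk (x n)) =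
          Submodule.Quotient.mk (x k) := by
      intro k n hkn
      show Submodule.Quotient.mk (x n) = Submodule.Quotient.mk (x k)
      rw [Submodule.Quotient.eq, hsmul]
      apply level_inj I k
      intro m hm
      -- alg (x n) ≡ yr n m mod I^n, hence mod I^k; yr n m ≡ yr k m mod I^k; alg (x k) ≡ yr k m
      have h1 := hx n ⟨m, hm⟩
      have h2 := hx k ⟨m, hm⟩
      have h3 : yr n ⟨m, hm⟩ - yr k ⟨m, hm⟩ ∈
          (I ^ k • ⊤ : Submodule R (Localization.AtPrime m.asIdeal)) := by
        rw [← Submodule.Quotient.eq, hyr k ⟨m, hm⟩,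
          ← AdicCompletion.transitionMap_comp_eval_apply I _ hkn (y ⟨m, hm⟩), ← hyr n ⟨m, hm⟩]
        rfl
      have h1' : algebraMap R (Localization.AtPrime m.asIdeal) (x n) - yr n ⟨m, hm⟩ ∈
          (I ^ k • ⊤ : Submodule R (Localization.AtPrime m.asIdeal)) :=
        Submodule.smul_mono_left (Ideal.pow_le_pow_right hkn) h1
      have : algebraMap R (Localization.AtPrime m.asIdeal) (x n - x k) =
          (algebraMap R (Localization.AtPrime m.asIdeal) (x n) - yr n ⟨m, hm⟩) +
            (yr n ⟨m, hm⟩ - yr k ⟨m, hm⟩) -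
            (algebraMap R (Localization.AtPrime m.asIdeal) (x k) - yr k ⟨m, hm⟩) := by
        rw [map_sub]; ring
      rw [this]
      exact Submodule.sub_mem _ (Submodule.add_mem _ h1' h3) h2
    refine ⟨⟨fun n => Submodule.Quotient.mk (x n), fun hkn => hcompat hkn⟩, ?_⟩
    funext m
    apply AdicCompletion.ext
    intro n
    simp only [LinearMap.pi_apply, AdicCompletion.map_val_apply]
    show (Algebra.linearMap R (Localization.AtPrime m.1.asIdeal)).reduceModIdeal (I ^ n)
      (Submodule.Quotient.mk (x n)) = (y m).val n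
    rw [LinearMap.reduceModIdeal_apply, ← hyr n m, Submodule.Quotient.eq]
    exact hx n m

end Groth.Agent.S14727
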