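import Groth.Statements.S14731
import Mathlib

set_option autoImplicit false
universe u
open ValPrufer

namespace Groth.Agent.S14731

/-- In characteristic zero, every field K generated as a field by a finite set is the fraction field of
a subring A of K of finite type and smooth over the integers. -/
theorem result
    (K : Type u) [Field K] [CharZero K] (s : Finset K)
    (hs : Subfield.closure (↑s : Set K) = ⊤) :
    ∃ A : Subring K, Algebra.FiniteType ℤ A ∧ Algebra.Smooth ℤ A ∧ IsFractionRing A K := by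
  classical
  let A₀ : Subalgebra ℤ K := Algebra.adjoin ℤ (↑s : Set K)
  have hmem : ∀ y : K, y ∈ Subring.closure (↑s : Set K) → y ∈ A₀ := by
    intro y hy
    change y ∈ Algebra.adjoin ℤ (↑s : Set K)
    rw [Algebra.adjoin_int]
    exact hy
  haveI hft : Algebra.FiniteType ℤ A₀ :=
    (Subalgebra.fg_iff_finiteType _).mp (Subalgebra.fg_adjoin_finset s)
  haveI hfp : Algebra.FinitePresentation ℤ A₀ := Algebra.FinitePresentation.of_finiteType.mp hft
  haveI : FaithfulSMul A₀ K :=
    (faithfulSMul_iff_algebraMap_injective A₀ K).mpr Subtype.val_injective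
  haveI hfrac : IsFractionRing A₀ K := by
    refine IsFractionRing.of_field (surj := fun z => ?_)
    have hz : z ∈ Subfield.closure (↑s : Set K) := by
      rw [hs]
      trivial
    obtain ⟨y, hy, w, hw, rfl⟩ := Subfield.mem_closure_iff.mp hz
    exact ⟨⟨y, hmem y hy⟩, ⟨w, hmem w hw⟩, rfl⟩
  haveI : Algebra.EssFiniteType A₀ K :=
    Algebra.EssFiniteType.of_isLocalization K (nonZeroDivisors A₀)
  haveI : Algebra.EssFiniteType ℤ K := Algebra.EssFiniteType.comp ℤ A₀ K
  haveI : Algebra.EssFiniteType ℚ K := Algebra.EssFiniteType.of_comp ℤ ℚ K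
  haveI : Algebra.FormallySmooth ℚ K := inferInstance
  haveI : Algebra.FormallyEtale ℤ ℚ := Algebra.FormallyEtale.of_isLocalization (nonZeroDivisors ℤ)
  haveI : Algebra.FormallySmooth ℤ K := Algebra.FormallySmooth.comp ℤ ℚ K
  haveI : (⊥ : Ideal A₀).IsPrime := Ideal.bot_prime
  have hcompl : (⊥ : Ideal A₀).primeCompl = nonZeroDivisors A₀ := by
    ext x
    simp [Ideal.primeCompl, mem_nonZeroDivisors_iff_ne_zero]
  haveI : IsLocalization (⊥ : Ideal A₀).primeCompl K := by
    rw [hcompl]
    infer_instance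
  let e : K ≃ₐ[A₀] Localization.AtPrime (⊥ : Ideal A₀) :=
    IsLocalization.algEquiv (⊥ : Ideal A₀).primeCompl K _
  haveI : Algebra.IsSmoothAt ℤ (⊥ : Ideal A₀) :=
    Algebra.FormallySmooth.of_equiv
      (AlgEquiv.ofRingEquiv (f := e.toRingEquiv) (fun n => by simp))
  obtain ⟨g, hg, hsm⟩ := Algebra.IsSmoothAt.exists_notMem_smooth ℤ (⊥ : Ideal A₀)
  have hg0 : g ≠ 0 := fun h0 => hg (by rw [h0]; exact Ideal.zero_mem _)
  have hgK : algebraMap A₀ K g ≠ 0 := by
    rw [Ne, map_eq_zero_iff _ (IsFractionRing.injective A₀ K)]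
    exact hg0
  have hgu : IsUnit (algebraMap A₀ K g) := hgK.isUnit
  let φ : Localization.Away g →+* K := IsLocalization.Away.lift g hgu
  have hφ : ∀ a : A₀, φ (algebraMap A₀ (Localization.Away g) a) = algebraMap A₀ K a :=
    fun a => IsLocalization.Away.lift_eq g hgu a
  have hφinj : Function.Injective φ := by
    rw [injective_iff_map_eq_zero]
    intro b hb
    obtain ⟨a, t, rfl⟩ := IsLocalization.exists_mk'_eq (Submonoid.powers g) b
    have h1 := congrArg φ (IsLocalization.mk'_spec (Localization.Away g) a t)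
    rw [map_mul, hb, zero_mul, hφ] at h1
    have ha : a = 0 := (IsFractionRing.injective A₀ K) (by rw [← h1, map_zero])
    rw [ha, IsLocalization.mk'_zero]
  let eA : Localization.Away g ≃+* φ.range :=
    RingEquiv.ofBijective φ.rangeRestrict
      ⟨fun x y hxy => hφinj (congrArg Subtype.val hxy), φ.rangeRestrict_surjective⟩
  let eA' : Localization.Away g ≃ₐ[ℤ] φ.range :=
    AlgEquiv.ofRingEquiv (f := eA) (fun n => by simp)
  refine ⟨φ.range, ?_, ?_, ?_⟩
  · haveI : Algebra.FiniteType ℤ (Localization.Away g) :=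
      Algebra.FiniteType.trans hft
        (IsLocalization.finiteType_of_monoid_fg (Submonoid.powers g) _)
    exact Algebra.FiniteType.equiv inferInstance eA'
  · exact Algebra.Smooth.of_equiv eA'
  · haveI : FaithfulSMul φ.range K :=
      (faithfulSMul_iff_algebraMap_injective φ.range K).mpr Subtype.val_injective
    refine IsFractionRing.of_field (surj := fun z => ?_)
    obtain ⟨y, w, hw, rfl⟩ := IsFractionRing.div_surjective (A := A₀) z
    exact ⟨⟨algebraMap A₀ K y, algebraMap A₀ _ y, hφ y⟩,
      ⟨algebraMap A₀ K w, algebraMap A₀ _ w, hφ w⟩, rfl⟩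

end Groth.Agent.S14731
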