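import Groth.Statements.S14732
import Mathlib

set_option autoImplicit false
universe u
open ValPrufer

namespace Groth.Agent.S14732

/-- In characteristic p > 0, a field K that is finitely generated over its prime subfield F (a field
with p elements) is the fraction field of an integral scheme smooth over F; concretely, there is an
F-subalgebra A of K, of finite type and smooth over F, whose fraction field is K. -/
theorem result
    (K : Type u) [Field K] (p : ℕ) [Fact p.Prime] [CharP K p] (s : Finset K)
    (hs : Subfield.closure (↑s : Set K) = ⊤) :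
    ∃ A : Subalgebra (⊥ : Subfield K) K, Algebra.FiniteType (⊥ : Subfield K) A ∧
      Algebra.Smooth (⊥ : Subfield K) A ∧ IsFractionRing A K := by
  classical
  haveI : CharP (⊥ : Subfield K) p :=
    RingHom.charP (algebraMap (⊥ : Subfield K) K) (algebraMap (⊥ : Subfield K) K).injective p
  haveI : ExpChar (⊥ : Subfield K) p := ExpChar.prime Fact.out
  have hfix : ∀ x ∈ (⊥ : Subfield K), x ^ p = x := fun x hx =>
    (bot_le : (⊥ : Subfield K) ≤ RingHom.eqLocusField (frobenius K p) (RingHom.id K)) hx
  haveI : PerfectRing (⊥ : Subfield K) p :=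
    PerfectRing.ofSurjective _ p
      (fun x => ⟨x, Subtype.ext (by simpa [frobenius_def] using hfix x x.2)⟩)
  haveI : PerfectField (⊥ : Subfield K) := PerfectRing.toPerfectField _ p
  let A₀ : Subalgebra (⊥ : Subfield K) K := Algebra.adjoin (⊥ : Subfield K) (↑s : Set K)
  have hmem : ∀ y : K, y ∈ Subring.closure (↑s : Set K) → y ∈ A₀ := by
    intro y hy
    have hle : Subring.closure (↑s : Set K) ≤ A₀.toSubring :=
      Subring.closure_le.mpr Algebra.subset_adjoin
    exact hle hy
  haveI hft : Algebra.FiniteType (⊥ : Subfield K) A₀ :=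
    (Subalgebra.fg_iff_finiteType _).mp (Subalgebra.fg_adjoin_finset s)
  haveI hfp : Algebra.FinitePresentation (⊥ : Subfield K) A₀ :=
    Algebra.FinitePresentation.of_finiteType.mp hft
  haveI : FaithfulSMul A₀ K :=
    (faithfulSMul_iff_algebraMap_injective A₀ K).mpr Subtype.val_injective
  haveI hfrac : IsFractionRing A₀ K := by
    refine IsFractionRing.of_field (surj := fun z => ?_)
    have hz : z ∈ Subfield.closure (↑s : Set K) := by
      rw [hs]
      trivial
    obtain ⟨y, hy, w, hw, rfl⟩ := Subfield.mem_closure_iff.mp hz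
    exact ⟨⟨y, hmem y hy⟩, ⟨w, hmem w hw⟩, rfl⟩
  haveI : Algebra.EssFiniteType A₀ K :=
    Algebra.EssFiniteType.of_isLocalization K (nonZeroDivisors A₀)
  haveI : Algebra.EssFiniteType (⊥ : Subfield K) K :=
    Algebra.EssFiniteType.comp (⊥ : Subfield K) A₀ K
  haveI : Algebra.FormallySmooth (⊥ : Subfield K) K := inferInstance
  haveI : (⊥ : Ideal A₀).IsPrime := Ideal.bot_prime
  have hcompl : (⊥ : Ideal A₀).primeCompl = nonZeroDivisors A₀ := by
    ext x
    simp [Ideal.primeCompl, mem_nonZeroDivisors_iff_ne_zero]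
  haveI : IsLocalization (⊥ : Ideal A₀).primeCompl K := by
    rw [hcompl]
    infer_instance
  let e : K ≃ₐ[A₀] Localization.AtPrime (⊥ : Ideal A₀) :=
    IsLocalization.algEquiv (⊥ : Ideal A₀).primeCompl K _
  haveI : Algebra.IsSmoothAt (⊥ : Subfield K) (⊥ : Ideal A₀) :=
    Algebra.FormallySmooth.of_equiv (e.restrictScalars (⊥ : Subfield K))
  obtain ⟨g, hg, hsm⟩ := Algebra.IsSmoothAt.exists_notMem_smooth (⊥ : Subfield K) (⊥ : Ideal A₀)
  have hg0 : g ≠ 0 := fun h0 => hg (by rw [h0]; exact Ideal.zero_mem _)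
  have hgK : algebraMap A₀ K g ≠ 0 := by
    rw [Ne, map_eq_zero_iff _ (IsFractionRing.injective A₀ K)]
    exact hg0
  have hunits : ∀ y : Submonoid.powers g,
      IsUnit ((IsScalarTower.toAlgHom (⊥ : Subfield K) A₀ K) y) := by
    rintro ⟨_, n, rfl⟩
    simp only [IsScalarTower.coe_toAlgHom', map_pow]
    exact (hgK.isUnit).pow n
  let φ : Localization.Away g →ₐ[(⊥ : Subfield K)] K :=
    IsLocalization.liftAlgHom (M := Submonoid.powers g)
      (f := IsScalarTower.toAlgHom (⊥ : Subfield K) A₀ K) hunits
  have hφ : ∀ a : A₀, φ (algebraMap A₀ (Localization.Away g) a) = algebraMap A₀ K a := by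
    intro a
    simp [φ]
  have hφinj : Function.Injective φ := by
    rw [injective_iff_map_eq_zero]
    intro b hb
    obtain ⟨a, t, rfl⟩ := IsLocalization.exists_mk'_eq (Submonoid.powers g) b
    have h1 := congrArg φ (IsLocalization.mk'_spec (Localization.Away g) a t)
    rw [map_mul, hb, zero_mul, hφ] at h1
    have ha : a = 0 := (IsFractionRing.injective A₀ K) (by rw [← h1, map_zero])
    rw [ha, IsLocalization.mk'_zero]
  let eA : Localization.Away g ≃ₐ[(⊥ : Subfield K)] φ.range := AlgEquiv.ofInjective φ hφinj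
  refine ⟨φ.range, ?_, ?_, ?_⟩
  · haveI : Algebra.FiniteType (⊥ : Subfield K) (Localization.Away g) :=
      Algebra.FiniteType.trans hft
        (IsLocalization.finiteType_of_monoid_fg (Submonoid.powers g) _)
    exact Algebra.FiniteType.equiv inferInstance eA
  · exact Algebra.Smooth.of_equiv eA
  · haveI : FaithfulSMul φ.range K :=
      (faithfulSMul_iff_algebraMap_injective φ.range K).mpr Subtype.val_injective
    refine IsFractionRing.of_field (surj := fun z => ?_)
    obtain ⟨y, w, hw, rfl⟩ := IsFractionRing.div_surjective (A := A₀) z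
    exact ⟨⟨algebraMap A₀ K y, algebraMap A₀ _ y, hφ y⟩,
      ⟨algebraMap A₀ K w, algebraMap A₀ _ w, hφ w⟩, rfl⟩

end Groth.Agent.S14732
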