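import Groth.Statements.S14733
-- import your own Groth.Agent.* helpers here
import Mathlib
import Groth.Agent.Lib.Helper12.ValDimSch
import Groth.Agent.Lib.Helper12.ChevalleyCor
import Groth.Agent.Lib.Helper12.ClosedSub
import Groth.Agent.Lib.Helper12.FibreMax

set_option autoImplicit false
open CategoryTheory AlgebraicGeometry
universe u
open ValPrufer

namespace Groth.Agent.S14733

open Groth.Agent.Lib.Helper12 Groth.Agent.Lib.Helper12.SchemeDimFT
  Groth.Agent.Lib.Helper12.SchemeDimIneq Groth.Agent.Lib.Helper12.ValDim

/-- The stalk of `Spec R` at a point is a valuation domain when `R` is Prüfer. -/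
theorem stalk_valuation (R : Type u) [CommRing R] [IsDomain R]
    (hR : ∀ (p : Ideal R) [p.IsPrime], ValuationRing (Localization.AtPrime p))
    (γ : Spec (CommRingCat.of R)) :
    IsDomain ((Spec (CommRingCat.of R)).presheaf.stalk γ) ∧
      ValuationRing ((Spec (CommRingCat.of R)).presheaf.stalk γ) := by
  letI : Algebra R ((Spec.structureSheaf R).presheaf.stalk γ) := StructureSheaf.stalkAlgebra R γ
  haveI : IsLocalization.AtPrime ((Spec.structureSheaf R).presheaf.stalk γ) γ.asIdeal :=
    StructureSheaf.IsLocalization.to_stalk R γ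
  let e : Localization.AtPrime γ.asIdeal ≃ₐ[R] ((Spec.structureSheaf R).presheaf.stalk γ) :=
    IsLocalization.algEquiv γ.asIdeal.primeCompl _ _
  haveI := hR γ.asIdeal
  have hd : IsDomain ((Spec.structureSheaf R).presheaf.stalk γ) :=
    e.symm.toMulEquiv.isDomain
  refine ⟨hd, ?_⟩
  haveI := hd
  exact Function.Surjective.valuationRing (f := e.toRingEquiv.toRingHom) e.surjective


/-- Let R be a Prüfer domain (an integral domain whose localisations at primes are valuation rings), X
an irreducible scheme and f : X ⟶ Spec R a dominant morphism of finite type. If the fibre of f over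
a point γ of Spec R is nonempty, then it has the same dimension as the fibre over the generic point. -/
theorem result
    (R : Type u) [CommRing R] [IsDomain R]
    (hR : ∀ (p : Ideal R) [p.IsPrime], ValuationRing (Localization.AtPrime p))
    (X : Scheme.{u}) [IrreducibleSpace X] (f : X ⟶ Spec (CommRingCat.of R))
    [LocallyOfFiniteType f] [QuasiCompact f] [IsDominant f] (γ : Spec (CommRingCat.of R))
    (h0 : Nonempty ↥(f.fiber γ)) :
    topologicalKrullDim ↥(f.fiber γ) =
      topologicalKrullDim ↥(f.fiber (genericPoint (Spec (CommRingCat.of R)))) := by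
  classical
  have hξ : f.base (genericPoint X) = genericPoint (Spec (CommRingCat.of R)) :=
    ChevalleyCor.map_genericPoint f
  rw [← hξ]
  obtain ⟨x₀⟩ := h0
  apply le_antisymm
  · rw [ChevalleyCor.dim_fiber_le_iff]
    intro x hx
    obtain ⟨z, hz1, hz2, hz3⟩ := ClosedSub.exists_generization_trn_eq_fibreDimAt f x
    refine hz3.trans ?_
    obtain ⟨hd, hv⟩ := stalk_valuation R hR (f z)
    have h1 : trn f z ≤ trn f (genericPoint X) :=
      trn_le_of_valuationRing_stalk f z (genericPoint X) (genericPoint_specializes z)
    have h2 := FibreMax.trn_le_fibreDimAt_of_specializes f (genericPoint X) (genericPoint X) rfl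
      specializes_rfl
    have h3 := (ChevalleyCor.dim_fiber_le_iff f (f.base (genericPoint X)) _).mp le_rfl
      (genericPoint X) rfl
    refine le_trans ?_ (h2.trans h3)
    exact_mod_cast h1
  · have h1 := ChevalleyCor.dim_generic_fiber_le_fibreDimAt f (f.fiberι γ x₀)
    refine h1.trans ?_
    refine (ChevalleyCor.dim_fiber_le_iff f γ _).mp le_rfl _ ?_
    have h3 : f.fiberι γ x₀ ∈ Set.range (f.fiberι γ) := ⟨x₀, rfl⟩
    rw [Scheme.Hom.range_fiberι] at h3
    exact h3

end Groth.Agent.S14733
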