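import Groth.Statements.S14734
-- import your own Groth.Agent.* helpers here
import Mathlib
import Groth.Agent.Lib.Helper12.ValDim5

set_option autoImplicit false
universe u
open ValPrufer

namespace Groth.Agent.S14734

/-- Let R be a Prüfer domain (an integral domain whose localisations at primes are valuation rings) of
finite Krull dimension and S an R-algebra of finite type. Then S, and every localisation T of S at a
multiplicative subset, is catenary and of finite Krull dimension. (The published statement is for a
scheme X of finite type over R and the spectrum of any semilocalisation of X; catenarity is local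
and finiteness of dimension is checked on a finite affine cover, so this row states the affine case
together with arbitrary localisations.) -/
theorem result
    (R : Type u) [CommRing R] [IsDomain R]
    (hR : ∀ (p : Ideal R) [p.IsPrime], ValuationRing (Localization.AtPrime p))
    (hdim : ringKrullDim R < ⊤)
    (S : Type u) [CommRing S] [Algebra R S] [Algebra.FiniteType R S]
    (M : Submonoid S) (T : Type u) [CommRing T] [Algebra S T] [IsLocalization M T] :
    CAlg.IsCatenary S ∧ ringKrullDim S < ⊤ ∧ CAlg.IsCatenary T ∧ ringKrullDim T < ⊤ := by
  have hδ := Groth.Agent.Lib.Helper12.ValDim.isDimFun_delta (S := S) hR hdim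
  obtain ⟨a, b, hab⟩ := Groth.Agent.Lib.Helper12.ValDim.exists_delta_bounds (R := R) (S := S) hdim
  have hδT := hδ.localization M T
  refine ⟨hδ.isCatenary, hδ.dim_lt_top a b (fun x => hab x.asIdeal), hδT.isCatenary,
    hδT.dim_lt_top a b (fun x => ?_)⟩
  exact hab (PrimeSpectrum.comap (algebraMap S T) x).asIdeal

end Groth.Agent.S14734
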