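import Groth.Statements.S14738
-- import your own Groth.Agent.* helpers here
import Mathlib
import Groth.Agent.Lib.Helper22.PruferFinite

set_option autoImplicit false
universe u
open ValPrufer

namespace Groth.Agent.S14738

/-- Let R be a semilocal Prüfer domain (an integral domain with finitely many maximal ideals whose
localisations at primes are valuation rings) of finite Krull dimension, and m a maximal ideal of R.
Then there is a ∈ R with V(a) = {m}, i.e. m is the only prime ideal containing a, and there is b ∉ m
such that R[1/b] is the localisation R_m (every element outside m becomes invertible after inverting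
b); consequently the spectra of the local rings R_m form a Zariski open covering of Spec R. (The
published remark assumes positive Krull dimension to construct a; for R a field the assertions hold
with a = 0 and b = 1. It also takes b to be the product of the elements a_n chosen in the same way
for the other maximal ideals n; that choice fails as soon as a non-maximal prime lies in another
maximal ideal but not in m, e.g. for the intersection of two independent rank-two valuation rings of
a field, so this row asserts only that some such b exists.) -/
theorem result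
    (R : Type u) [CommRing R] [IsDomain R]
    (hR : ∀ (p : Ideal R) [p.IsPrime], ValuationRing (Localization.AtPrime p))
    (hfin : Finite (MaximalSpectrum R)) (hdim : ringKrullDim R < ⊤)
    (m : Ideal R) [m.IsMaximal] :
    (∃ a : R, ∀ (p : Ideal R), p.IsPrime → (a ∈ p ↔ p = m)) ∧
      ∃ b : R, b ∉ m ∧ IsLocalization.AtPrime (Localization.Away b) m := by
  classical
  have hfinite := Groth.Agent.Lib.Helper22.finite_primeSpectrum_of_semilocal_prufer R hR hfin hdim
  cases nonempty_fintype (PrimeSpectrum R)
  have hmp : m.IsPrime := Ideal.IsMaximal.isPrime ‹_›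
  constructor
  · -- prime avoidance
    let s : Finset (PrimeSpectrum R) := Finset.univ.filter fun p => p.asIdeal ≠ m
    have hnot : ¬ ((m : Set R) ⊆ ⋃ p ∈ (↑s : Set (PrimeSpectrum R)), (p.asIdeal : Set R)) := by
      intro hsub
      obtain ⟨p, hp, hmp'⟩ := (Ideal.subset_union_prime (s := s) (f := fun p => p.asIdeal)
        (Classical.arbitrary _) (Classical.arbitrary _) (fun p _ _ _ => p.isPrime)).mp hsub
      have hp' : p.asIdeal ≠ m := by simpa [s] using hp
      exact hp' (Ideal.IsMaximal.eq_of_le ‹m.IsMaximal› p.isPrime.ne_top hmp').symm
    obtain ⟨a, ham, ha⟩ := Set.not_subset.mp hnot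
    refine ⟨a, fun p hp => ⟨fun hap => ?_, fun h => h ▸ ham⟩⟩
    by_contra hne
    apply ha
    simp only [Set.mem_iUnion]
    exact ⟨⟨p, hp⟩, by simpa [s] using hne, hap⟩
  · let T : Finset (PrimeSpectrum R) := Finset.univ.filter fun p => ¬ p.asIdeal ≤ m
    have hnot : ¬ (T.inf fun p => p.asIdeal) ≤ m := by
      intro hle
      obtain ⟨p, hp, hpm⟩ := (Ideal.IsPrime.inf_le' hmp).mp hle
      have : ¬ p.asIdeal ≤ m := by simpa [T] using hp
      exact this hpm
    obtain ⟨b, hbT, hbm⟩ := SetLike.not_le_iff_exists.mp hnot
    have hb : ∀ q : Ideal R, q.IsPrime → b ∉ q → q ≤ m := by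
      intro q hq hbq
      by_contra hqm
      apply hbq
      have hmem : (⟨q, hq⟩ : PrimeSpectrum R) ∈ T := by simpa [T] using hqm
      have := (Finset.inf_le hmem : (T.inf fun p => p.asIdeal) ≤ q)
      exact this hbT
    refine ⟨b, hbm, ?_⟩
    have hle : Submonoid.powers b ≤ m.primeCompl := by
      rw [Submonoid.powers_le]
      exact hbm
    refine IsLocalization.of_le (Submonoid.powers b) m.primeCompl hle ?_
    intro r hr
    by_contra hunit
    obtain ⟨M', hM', hrM'⟩ := exists_max_ideal_of_mem_nonunits (mem_nonunits_iff.mpr hunit)
    have hq : (M'.comap (algebraMap R (Localization.Away b))).IsPrime :=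
      Ideal.comap_isPrime _ _
    have hbq : b ∉ M'.comap (algebraMap R (Localization.Away b)) := by
      intro hb'
      have hu : IsUnit (algebraMap R (Localization.Away b) b) :=
        IsLocalization.Away.algebraMap_isUnit b
      exact hM'.ne_top (Ideal.eq_top_of_isUnit_mem _ (Ideal.mem_comap.mp hb') hu)
    exact hr (hb _ hq hbq (Ideal.mem_comap.mpr hrM'))

end Groth.Agent.S14738
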