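import Groth.Statements.S14769
-- import your own Groth.Agent.* helpers here
import Mathlib
import Groth.Agent.Lib.Helper22.Subtr

set_option autoImplicit false
universe u
open CategoryTheory CategoryTheory.Limits AlgebraicGeometry
open Subtr

namespace Groth.Agent.S14769

/-- Let f : X ⟶ Y be any morphism of schemes. Then every base change of f has the lifting property for
ordered pairs of points if and only if, for every valuation ring V and morphism g : Spec V ⟶ Y,
there are a valuation ring V', a morphism a : Spec V' ⟶ X and a surjective morphism b : Spec V' ⟶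
Spec V with a ≫ f = b ≫ g. (The published statement assumes f universally submersive for the
constructible topologies and concludes universal subtrusiveness; for quasi-compact f the two agree.) -/
theorem result {X Y : Scheme.{u}} (f : X ⟶ Y) :
    Subtr.UnivSSubtrusive f ↔
      ∀ (V : Type u) [CommRing V] [IsDomain V] [ValuationRing V] (g : Spec (CommRingCat.of V) ⟶ Y),
        ∃ (V' : Type u) (_ : CommRing V') (_ : IsDomain V') (_ : ValuationRing V')
          (a : Spec (CommRingCat.of V') ⟶ X) (b : Spec (CommRingCat.of V') ⟶ Spec (CommRingCat.of V)),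
          Surjective b ∧ a ≫ f = b ≫ g := by
  constructor
  · intro hf V _ _ _ g
    have hsub : Subtr.IsSSubtrusive (pullback.snd f g) :=
      hf _ _ _ (IsPullback.of_hasPullback f g).flip
    have hspec : Groth.Agent.Lib.Helper22.SubtrLib.genPt V ⤳
        Groth.Agent.Lib.Helper22.SubtrLib.clPt V :=
      IsLocalRing.specializes_closedPoint (R := V) _
    obtain ⟨w, w', hww, hw, hw'⟩ := hsub hspec
    obtain ⟨V', i1, i2, i3, g', hcl, hgen⟩ :=
      Groth.Agent.Lib.Helper22.SubtrLib.exists_valuationRing_of_specializes hww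
    refine ⟨V', i1, i2, i3, g' ≫ pullback.fst f g, g' ≫ pullback.snd f g, ?_, ?_⟩
    · apply Groth.Agent.Lib.Helper22.SubtrLib.surjective_of_clPt_genPt
      · rw [Scheme.Hom.comp_apply, hcl, hw]
      · rw [Scheme.Hom.comp_apply, hgen, hw']
    · rw [Category.assoc, Category.assoc, pullback.condition]
  · intro H X' Y' i₁ i₂ f' h y y' hyy
    obtain ⟨V, _, _, _, g₀, hcl, hgen⟩ :=
      Groth.Agent.Lib.Helper22.SubtrLib.exists_valuationRing_of_specializes hyy
    obtain ⟨V', _, _, _, a, b, hb, hab⟩ := H V (g₀ ≫ i₂)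
    let t : Spec (CommRingCat.of V') ⟶ X' :=
      h.lift (b ≫ g₀) a (by rw [Category.assoc, hab])
    have ht : t ≫ f' = b ≫ g₀ := h.lift_fst _ _ _
    obtain ⟨t1, ht1⟩ := hb.surj (Groth.Agent.Lib.Helper22.SubtrLib.clPt V)
    obtain ⟨t0, ht0⟩ := hb.surj (Groth.Agent.Lib.Helper22.SubtrLib.genPt V)
    have hf1 : f' (t t1) = y := by
      rw [← Scheme.Hom.comp_apply, ht, Scheme.Hom.comp_apply, ht1, hcl]
    have hf0 : f' (t t0) = y' := by
      rw [← Scheme.Hom.comp_apply, ht, Scheme.Hom.comp_apply, ht0, hgen]
    rcases Std.Total.total (r := (· ≤ ·)) (t0 : PrimeSpectrum V').asIdeal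
      (t1 : PrimeSpectrum V').asIdeal with hle | hle
    · have hs : t0 ⤳ t1 := (PrimeSpectrum.le_iff_specializes (t0 : PrimeSpectrum V') t1).mp hle
      exact ⟨t t1, t t0, hs.map t.continuous, hf1, hf0⟩
    · have hs : t1 ⤳ t0 := (PrimeSpectrum.le_iff_specializes (t1 : PrimeSpectrum V') t0).mp hle
      have h1 : b t1 ⤳ b t0 := hs.map b.continuous
      rw [ht1, ht0] at h1
      have h2 : Groth.Agent.Lib.Helper22.SubtrLib.genPt V ⤳
          Groth.Agent.Lib.Helper22.SubtrLib.clPt V :=
        IsLocalRing.specializes_closedPoint (R := V) _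
      have h3 : Groth.Agent.Lib.Helper22.SubtrLib.clPt V =
          Groth.Agent.Lib.Helper22.SubtrLib.genPt V := (h1.antisymm h2).eq
      have hy : y = y' := by rw [← hcl, ← hgen, h3]
      exact ⟨t t1, t t1, specializes_rfl, hf1, hy ▸ hf1⟩

end Groth.Agent.S14769
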