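import Groth.Statements.S14783
-- import your own Groth.Agent.* helpers here
import Mathlib
import Groth.Agent.S14767
import Groth.Agent.S19530

set_option autoImplicit false
universe u
open CategoryTheory CategoryTheory.Limits AlgebraicGeometry
open Subtr

namespace Groth.Agent.S14783

open Topology TopologicalSpace

set_option backward.isDefEq.respectTransparency false

/-- pro-constructible subsets of a scheme are retrocompact -/
lemma isRetrocompact_of_isProConstructible {X : Scheme.{u}} {P : Set X}
    (hP : ProCons.IsProConstructible P) : IsRetrocompact P := by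
  intro U hUc hUo
  obtain ⟨s, hs, hsU⟩ :=
    isCompact_and_isOpen_iff_finite_and_eq_biUnion_affineOpens.mp ⟨hUc, hUo⟩
  have h1 : P ∩ U = ⋃ i ∈ s, (i : X.Opens).ι '' ((i : X.Opens).ι ⁻¹' P) := by
    rw [hsU]
    ext x
    simp only [Set.mem_inter_iff, Set.mem_iUnion, Set.mem_image, Set.mem_preimage, exists_prop]
    constructor
    · rintro ⟨hxP, i, hi, hxi⟩
      exact ⟨i, hi, ⟨x, hxi⟩, hxP, rfl⟩
    · rintro ⟨i, hi, p, hp, rfl⟩
      exact ⟨hp, i, hi, p.2⟩
  rw [h1]
  refine hs.isCompact_biUnion fun i _ => ?_
  haveI : IsAffine ((i : X.Opens) : Scheme.{u}) := i.2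
  have h2 := Groth.Agent.Lib.Helper26.ProConsTop.isProConstructible_iff.mp hP i.1 i.2
  exact (Groth.Agent.Lib.Helper11.SpecSp.isCompact_of_isClosed_cons h2).image
    (i : X.Opens).ι.continuous

/-- locally closed retrocompact subsets of a scheme are pro-constructible -/
lemma isProConstructible_of_isLocallyClosed {X : Scheme.{u}} {E : Set X}
    (hlc : IsLocallyClosed E) (hrc : IsRetrocompact E) : ProCons.IsProConstructible E := by
  obtain ⟨O, Z, hO, hZ, rfl⟩ := hlc
  rw [Groth.Agent.Lib.Helper26.ProConsTop.isProConstructible_iff]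
  intro U hU
  haveI : IsAffine (U : Scheme.{u}) := hU
  have hc : IsCompact (U.ι ⁻¹' (O ∩ Z)) := by
    have := hrc hU.isCompact U.2
    have h3 : U.ι ⁻¹' (O ∩ Z) = U.ι ⁻¹' (O ∩ Z ∩ U) := by
      ext p
      simp only [Set.mem_preimage, Set.mem_inter_iff, SetLike.mem_coe]
      exact ⟨fun h => ⟨h, p.2⟩, fun h => h.1⟩
    rw [h3, U.ι.isOpenEmbedding.isInducing.isCompact_preimage_iff]
    · exact this
    · rw [Scheme.Opens.range_ι]; exact Set.inter_subset_right
  have hOo : IsOpen (U.ι ⁻¹' O) := hO.preimage U.ι.continuous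
  obtain ⟨W, hWc, hWo, hKW, hWO⟩ := PrespectralSpace.exists_isCompact_and_isOpen_between hc hOo
    (Set.preimage_mono Set.inter_subset_left)
  have heq : U.ι ⁻¹' (O ∩ Z) = W ∩ U.ι ⁻¹' Z := by
    apply subset_antisymm
    · intro p hp
      exact ⟨hKW hp, hp.2⟩
    · rintro p ⟨hpW, hpZ⟩
      exact ⟨hWO hpW, hpZ⟩
  rw [heq]
  exact @IsClosed.inter _ _ _ (constructibleTopology _)
    (Groth.Agent.Lib.Lead.isClosed_constructibleTopology_of_isOpen_isCompact hWo hWc)
    (Groth.Agent.Lib.Lead.isClosed_constructibleTopology_of_isClosed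
      (hZ.preimage U.ι.continuous))

/-- Let f : S' ⟶ S be a quasi-compact morphism of schemes every base change of which has the lifting
property for ordered pairs of points, and E ⊆ S any subset. For E to be both locally closed and
retrocompact it is necessary and sufficient that f⁻¹(E) be both. -/
theorem result {S' S : Scheme.{u}} (f : S' ⟶ S)
    [QuasiCompact f] (hf : Subtr.UnivSSubtrusive f) (E : Set S) :
    (IsLocallyClosed E ∧ IsRetrocompact E) ↔
      (IsLocallyClosed (f ⁻¹' E) ∧ IsRetrocompact (f ⁻¹' E)) := by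
  have hss : Subtr.IsSSubtrusive f := MorphismProperty.universally_le _ _ hf
  have hsurj : Function.Surjective f := fun y => by
    obtain ⟨x, x', -, hx, -⟩ := hss (specializes_rfl : y ⤳ y)
    exact ⟨x, hx⟩
  constructor
  · rintro ⟨hlc, hrc⟩
    exact ⟨hlc.preimage f.continuous, isRetrocompact_of_isProConstructible
      (Groth.Agent.Lib.Helper26.ProConsSch.isProConstructible_preimage f
        (isProConstructible_of_isLocallyClosed hlc hrc))⟩
  · rintro ⟨hlc', hrc'⟩
    have hE' : ProCons.IsProConstructible (f ⁻¹' E) :=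
      isProConstructible_of_isLocallyClosed hlc' hrc'
    have hE : ProCons.IsProConstructible E := by
      have := Groth.Agent.S3398.result f _ hE'
      rwa [Set.image_preimage_eq E hsurj] at this
    refine ⟨?_, isRetrocompact_of_isProConstructible hE⟩
    -- the coborder
    have hT'' : IsClosed (closure (f ⁻¹' E) \ (f ⁻¹' E)) :=
      isOpen_compl_iff.mp hlc'.isOpen_coborder
    have hTeq : closure E \ E = f '' (closure (f ⁻¹' E) \ (f ⁻¹' E)) := by
      apply subset_antisymm
      · rintro t ⟨htc, htE⟩
        obtain ⟨e, he, het⟩ :=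
          Groth.Agent.Lib.Helper26.ProConsSch.exists_specializes_of_mem_closure hE htc
        obtain ⟨t', e', hsp, ht', he'⟩ := hss het
        refine ⟨t', ⟨?_, ?_⟩, ht'⟩
        · exact hsp.mem_closed isClosed_closure (subset_closure (by simpa [he'] using he))
        · simpa [ht'] using htE
      · rintro _ ⟨s', ⟨hs'c, hs'E⟩, rfl⟩
        refine ⟨?_, hs'E⟩
        have := image_closure_subset_closure_image f.continuous (Set.mem_image_of_mem f hs'c)
        rwa [Set.image_preimage_eq E hsurj] at this
    have hstable : StableUnderSpecialization (f '' (closure (f ⁻¹' E) \ (f ⁻¹' E))) := by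
      rw [← hTeq]
      rintro t y hty ⟨htc, htE⟩
      refine ⟨hty.mem_closed isClosed_closure htc, fun hyE => htE ?_⟩
      obtain ⟨e, he, het⟩ :=
        Groth.Agent.Lib.Helper26.ProConsSch.exists_specializes_of_mem_closure hE htc
      -- lift the chain e ⤳ t ⤳ y
      obtain ⟨x, hx, hfx⟩ := Groth.Agent.S19530.result f hf 2 ![e, t, y] (by
        intro i j hij
        fin_cases i <;> fin_cases j <;> first
          | exact specializes_rfl
          | exact het
          | exact hty
          | exact het.trans hty
          | (exfalso; revert hij; decide))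
      obtain ⟨O', Z', hO', hZ', hOZ⟩ := hlc'
      have h0 : x 0 ∈ f ⁻¹' E := by
        have := hfx 0; simp at this
        show f (x 0) ∈ E; rw [this]; exact he
      have h2 : x 2 ∈ f ⁻¹' E := by
        have := hfx 2; simp at this
        show f (x 2) ∈ E; rw [this]; exact hyE
      have h1 : x 1 ∈ f ⁻¹' E := by
        rw [hOZ] at h0 h2 ⊢
        exact ⟨(hx 1 2 (by decide)).mem_open hO' h2.1, (hx 0 1 (by decide)).mem_closed hZ' h0.2⟩
      have := hfx 1; simp at this
      rw [← this]; exact h1
    have hTcl : IsClosed (closure E \ E) := by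
      rw [hTeq]
      exact Groth.Agent.S14767.isClosed_image_of_stable f _ hT'' hstable
    exact isLocallyClosed_iff_isOpen_coborder.mpr hTcl.isOpen_compl

end Groth.Agent.S14783
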