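import Groth.Statements.S3399
import Groth.Agent.Lib.Helper26.ProConsTop

set_option autoImplicit false
open CategoryTheory AlgebraicGeometry
universe u
open EGA41

namespace Groth.Agent.S3399

open Groth.Agent.Lib.Helper26.ProConsTop TopologicalSpace

/-- Let f : X' ⟶ X be a morphism locally of finite presentation and E' an ind-constructible subset of
X'. Then f(E') is ind-constructible in X; in particular f(X') is ind-constructible. -/
theorem result {X' X : Scheme.{u}} (f : X' ⟶ X)
    [LocallyOfFinitePresentation f] (E' : Set X') (hE' : ProCons.IsIndConstructible E') :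
    ProCons.IsIndConstructible (f.base '' E') := by
  classical
  rw [isIndConstructible_iff]
  intro W hW
  haveI : IsAffine (W : Scheme.{u}) := hW
  let ι := {V : X'.Opens // IsAffineOpen V ∧ V ≤ f ⁻¹ᵁ W}
  have key : W.ι.base ⁻¹' (f.base '' E') =
      ⋃ V : ι, (f.resLE W V.1 V.2.2).base '' (V.1.ι.base ⁻¹' E') := by
    ext w
    simp only [Set.mem_preimage, Set.mem_image, Set.mem_iUnion]
    constructor
    · rintro ⟨e, heE, hew⟩
      have hemem : e ∈ (f ⁻¹ᵁ W : X'.Opens) := by
        show f.base e ∈ W
        rw [hew]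
        exact w.2
      obtain ⟨V, hV, heV, hVW⟩ := exists_isAffineOpen_mem_le X' e _ hemem
      refine ⟨⟨V, hV, hVW⟩, ⟨e, heV⟩, heE, ?_⟩
      apply W.ι.isOpenEmbedding.injective
      have := congrArg (fun g => g.base ⟨e, heV⟩) (Scheme.Hom.resLE_comp_ι f hVW)
      simp only [Scheme.Hom.comp_base, TopCat.hom_comp, ContinuousMap.comp_apply] at this
      rw [this]
      exact hew
    · rintro ⟨V, v, hvE, rfl⟩
      refine ⟨V.1.ι.base v, hvE, ?_⟩
      have := congrArg (fun g => g.base v) (Scheme.Hom.resLE_comp_ι f V.2.2)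
      simp only [Scheme.Hom.comp_base, TopCat.hom_comp, ContinuousMap.comp_apply] at this
      exact this.symm
  rw [key]
  refine @isOpen_iUnion _ _ (constructibleTopology (W : Scheme.{u})) _ ?_
  intro V
  haveI : IsAffine (V.1 : Scheme.{u}) := V.2.1
  haveI : LocallyOfFinitePresentation (f.resLE W V.1 V.2.2) :=
    IsZariskiLocalAtSource.resLE (P := @LocallyOfFinitePresentation) V.2.2 inferInstance
  obtain ⟨S, hS, hES⟩ := exists_family_of_isOpen_cons (isIndConstructible_iff.mp hE' V.1 V.2.1)
  rw [hES, Set.sUnion_eq_biUnion, Set.image_iUnion₂]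
  refine @isOpen_biUnion _ _ (constructibleTopology (W : Scheme.{u})) _ _ ?_
  intro T hT
  exact isOpen_cons_of_isConstructible ((f.resLE W V.1 V.2.2).isConstructible_image (hS T hT))

end Groth.Agent.S3399
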