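import Groth.Statements.S14784
-- import your own Groth.Agent.* helpers here
import Mathlib
import Groth.Agent.S14767
import Groth.Agent.S19530
import Groth.Agent.S3399

set_option autoImplicit false
universe u
open CategoryTheory CategoryTheory.Limits AlgebraicGeometry
open Subtr

namespace Groth.Agent.S14784

open Topology TopologicalSpace

set_option backward.isDefEq.respectTransparency false

/-- descent of local closedness along a quasi-compact universally S-subtrusive morphism, given a
pro-constructible set `P` between `E` and the largest set whose preimage lies in the closure of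
`f⁻¹(E)` -/
lemma isLocallyClosed_of_preimage {S' S : Scheme.{u}} (f : S' ⟶ S) [QuasiCompact f]
    (hf : Subtr.UnivSSubtrusive f) (E P : Set S) (hP : ProCons.IsProConstructible P)
    (hEP : E ⊆ P) (hPZ : f ⁻¹' P ⊆ closure (f ⁻¹' E)) (hlc' : IsLocallyClosed (f ⁻¹' E)) :
    IsLocallyClosed E := by
  have hss : Subtr.IsSSubtrusive f := MorphismProperty.universally_le _ _ hf
  have hsurj : Function.Surjective f := fun y => by
    obtain ⟨x, x', -, hx, -⟩ := hss (specializes_rfl : y ⤳ y)
    exact ⟨x, hx⟩
  have hcl : closure (f ⁻¹' E) ⊆ f ⁻¹' (closure E) :=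
    closure_minimal (Set.preimage_mono subset_closure) (isClosed_closure.preimage f.continuous)
  have hPE : P ⊆ closure E := by
    intro s hs
    obtain ⟨s', rfl⟩ := hsurj s
    exact hcl (hPZ hs)
  have hex : ∀ t ∈ closure E, ∃ p ∈ P, p ⤳ t := fun t ht =>
    Groth.Agent.Lib.Helper26.ProConsSch.exists_specializes_of_mem_closure hP
      (closure_mono hEP ht)
  have hT'' : IsClosed (closure (f ⁻¹' E) \ (f ⁻¹' E)) :=
    isOpen_compl_iff.mp hlc'.isOpen_coborder
  have hTeq : closure E \ E = f '' (closure (f ⁻¹' E) \ (f ⁻¹' E)) := by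
    apply subset_antisymm
    · rintro t ⟨htc, htE⟩
      obtain ⟨e, he, het⟩ := hex t htc
      obtain ⟨t', e', hsp, ht', he'⟩ := hss het
      refine ⟨t', ⟨?_, ?_⟩, ht'⟩
      · exact hsp.mem_closed isClosed_closure (hPZ (by simpa [he'] using he))
      · simpa [ht'] using htE
    · rintro _ ⟨s', ⟨hs'c, hs'E⟩, rfl⟩
      exact ⟨hcl hs'c, hs'E⟩
  have hstable : StableUnderSpecialization (f '' (closure (f ⁻¹' E) \ (f ⁻¹' E))) := by
    rw [← hTeq]
    rintro t y hty ⟨htc, htE⟩
    refine ⟨hty.mem_closed isClosed_closure htc, fun hyE => htE ?_⟩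
    obtain ⟨e, he, het⟩ := hex t htc
    obtain ⟨x, hx, hfx⟩ := Groth.Agent.S19530.result f hf 2 ![e, t, y] (by
      intro i j hij
      fin_cases i <;> fin_cases j <;> first
        | exact specializes_rfl
        | exact het
        | exact hty
        | exact het.trans hty
        | (exfalso; revert hij; decide))
    obtain ⟨O', Z', hO', hZ', hOZ⟩ := hlc'
    have h0 : x 0 ∈ Z' := by
      have := hfx 0; simp at this
      have h0' : x 0 ∈ closure (f ⁻¹' E) := hPZ (by show f (x 0) ∈ P; rw [this]; exact he)
      exact closure_minimal (hOZ ▸ Set.inter_subset_right) hZ' h0'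
    have h2 : x 2 ∈ f ⁻¹' E := by
      have := hfx 2; simp at this
      show f (x 2) ∈ E; rw [this]; exact hyE
    have h1 : x 1 ∈ f ⁻¹' E := by
      rw [hOZ] at h2 ⊢
      exact ⟨(hx 1 2 (by decide)).mem_open hO' h2.1, (hx 0 1 (by decide)).mem_closed hZ' h0⟩
    have := hfx 1; simp at this
    rw [← this]; exact h1
  have hTcl : IsClosed (closure E \ E) := by
    rw [hTeq]
    exact Groth.Agent.S14767.isClosed_image_of_stable f _ hT'' hstable
  exact isLocallyClosed_iff_isOpen_coborder.mpr hTcl.isOpen_compl

/-- Let f : S' ⟶ S be a morphism of schemes of finite presentation every base change of which has the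
lifting property for ordered pairs of points, and E ⊆ S a subset. Then E is locally closed if and
only if f⁻¹(E) is locally closed. (The published statement is for algebraic spaces; this row is the
case of schemes.) -/
theorem result {S' S : Scheme.{u}} (f : S' ⟶ S)
    [LocallyOfFinitePresentation f] [QuasiCompact f] [QuasiSeparated f]
    (hf : Subtr.UnivSSubtrusive f) (E : Set S) :
    IsLocallyClosed E ↔ IsLocallyClosed (f ⁻¹' E) := by
  refine ⟨fun h => h.preimage f.continuous, fun hlc' => ?_⟩
  refine isLocallyClosed_of_preimage f hf E (f '' (closure (f ⁻¹' E))ᶜ)ᶜ ?_ ?_ ?_ hlc'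
  · exact Groth.Agent.Lib.Helper26.ProConsSch.isProConstructible_compl
      (Groth.Agent.S3399.result f _
        (Groth.Agent.Lib.Helper12.ProConsBasic.isIndConstructible_of_isOpen
          isClosed_closure.isOpen_compl))
  · rintro e he ⟨u', hu', rfl⟩
    exact hu' (subset_closure he)
  · intro s' hs'
    by_contra hcon
    exact hs' ⟨s', hcon, rfl⟩

end Groth.Agent.S14784
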