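import Groth.Statements.S14788
import Groth.Agent.Lib.Helper26.ProConsSch

set_option autoImplicit false
universe u
open CategoryTheory CategoryTheory.Limits AlgebraicGeometry
open Subtr

namespace Groth.Agent.S14788

open Groth.Agent.Lib.Helper26.ProConsSch Groth.Agent.Lib.Helper26.ProConsTop

/-- (i) ⇔ (iv): a morphism of schemes f : X ⟶ Y has the lifting property for ordered pairs of points if
and only if, for every pro-constructible subset Z ⊆ Y, the image under f of the closure of f⁻¹(Z) is
the closure of Z. (In the published item (iv) the right-hand side is printed as Z itself; the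
closure is meant, as the case of a non-closed point shows and as the proof uses.) -/
theorem result {X Y : Scheme.{u}} (f : X ⟶ Y) :
    Subtr.IsSSubtrusive f ↔
      ∀ Z : Set Y, ProCons.IsProConstructible Z → f '' closure (f ⁻¹' Z) = closure Z := by
  constructor
  · intro hf Z hZ
    apply Set.Subset.antisymm
    · rintro _ ⟨x, hx, rfl⟩
      have := image_closure_subset_closure_image f.base.hom.continuous (Set.mem_image_of_mem _ hx)
      exact closure_mono (Set.image_preimage_subset _ _) this
    · intro y hy
      obtain ⟨z, hzZ, hz⟩ := exists_specializes_of_mem_closure hZ hy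
      obtain ⟨x, x', hxx', rfl, hx'⟩ := hf hz
      refine ⟨x, ?_, rfl⟩
      exact closure_mono (Set.singleton_subset_iff.mpr
        (show x' ∈ f.base ⁻¹' Z from by rw [Set.mem_preimage]; exact hx' ▸ hzZ)) hxx'.mem_closure
  · intro h y y' hy
    have hpro : ProCons.IsProConstructible ({y'} : Set Y) := by
      rw [isProConstructible_iff]
      intro U hU
      haveI : IsAffine (U : Scheme.{u}) := hU
      haveI := Groth.Agent.Lib.Helper11.SpecSp.t2Space_constructibleTopology (U : Scheme.{u})
      by_cases hy'U : y' ∈ U
      · have : U.ι.base ⁻¹' {y'} = {(⟨y', hy'U⟩ : (U : Scheme.{u}))} := by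
          ext p
          simp only [Set.mem_preimage, Set.mem_singleton_iff]
          constructor
          · intro hp
            exact U.ι.isOpenEmbedding.injective hp
          · rintro rfl
            rfl
        rw [this]
        exact @isClosed_singleton _ (constructibleTopology (U : Scheme.{u})) _ _
      · have : U.ι.base ⁻¹' {y'} = ∅ := by
          ext p
          simp only [Set.mem_preimage, Set.mem_singleton_iff, Set.mem_empty_iff_false, iff_false]
          rintro rfl
          exact hy'U p.2
        rw [this]
        exact @isClosed_empty _ (constructibleTopology (U : Scheme.{u}))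
    have hy_mem : y ∈ f.base '' closure (f.base ⁻¹' {y'}) := by
      rw [h _ hpro]
      exact hy.mem_closure
    obtain ⟨x, hx, rfl⟩ := hy_mem
    obtain ⟨x', hx', hxx'⟩ := exists_specializes_of_mem_closure
      (isProConstructible_preimage f hpro) hx
    exact ⟨x, x', hxx', rfl, hx'⟩

end Groth.Agent.S14788
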