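import Groth.Statements.S14789
-- import your own Groth.Agent.* helpers here
import Mathlib
import Groth.Agent.Lib.Helper22.Subtr

set_option autoImplicit false
universe u
open CategoryTheory CategoryTheory.Limits AlgebraicGeometry
open Subtr

namespace Groth.Agent.S14789

/-- Let f : X ⟶ Y be a morphism of schemes with the lifting property for ordered pairs of points, and U
⊆ Y a subset containing every maximal point of Y (every point all of whose generizations are equal
to it). Then the closure of f⁻¹(U) maps onto Y. -/
theorem result {X Y : Scheme.{u}} (f : X ⟶ Y)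
    (hf : Subtr.IsSSubtrusive f) (U : Set Y) (hU : ∀ y : Y, (∀ y' : Y, y' ⤳ y → y' = y) → y ∈ U) :
    f '' closure (f ⁻¹' U) = Set.univ := by
  rw [Set.eq_univ_iff_forall]
  intro y
  obtain ⟨y', hy'y, hmax⟩ := Groth.Agent.Lib.Helper22.SubtrLib.exists_maximal_generization y
  obtain ⟨x, x', hxx, hx, hx'⟩ := hf hy'y
  refine ⟨x, ?_, hx⟩
  have hx'U : x' ∈ f ⁻¹' U := by
    change f x' ∈ U
    rw [hx']
    exact hU y' hmax
  exact closure_mono (Set.singleton_subset_iff.mpr hx'U) (specializes_iff_mem_closure.mp hxx)

end Groth.Agent.S14789
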