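import Groth.Statements.S14790
-- import your own Groth.Agent.* helpers here
import Mathlib
import Groth.Agent.Lib.Helper12.StratQBC
import Groth.Agent.Lib.Helper12.StalkLim
import Groth.Agent.Lib.Helper12.FieldPoint
import Groth.Agent.Lib.Helper12.GenericPts

set_option autoImplicit false
universe u
open CategoryTheory CategoryTheory.Limits AlgebraicGeometry
open Subtr

namespace Groth.Agent.S14790

/-- Take a scheme Y that is reduced, quasi-compact and quasi-separated, whose set of maximal points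
(points with no proper generization) is quasi-compact, and f : X ⟶ Y a morphism of finite
presentation. Then there is a dense quasi-compact open subset U ⊆ Y over which f is flat. -/
theorem result {X Y : Scheme.{u}} [IsReduced Y]
    [CompactSpace Y] [QuasiSeparatedSpace Y]
    (hgen : IsCompact {y : Y | ∀ y' : Y, y' ⤳ y → y' = y})
    (f : X ⟶ Y) [LocallyOfFinitePresentation f] [QuasiCompact f] [QuasiSeparated f] :
    ∃ U : Y.Opens, Dense (U : Set Y) ∧ IsCompact (U : Set Y) ∧ Flat (f ∣_ U) := by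
  classical
  have key : ∀ η : Y, (∀ y' : Y, y' ⤳ η → y' = η) →
      ∃ W : Y.Opens, η ∈ W ∧ IsCompact (W : Set Y) ∧ Flat (f ∣_ W) := by
    intro η hη
    haveI hsub : Subsingleton (Spec (Y.presheaf.stalk η)) :=
      ⟨fun p q => (Groth.Agent.Lib.Helper12.FieldPoint.eq_closedPoint_of_maximal η hη p).trans
        (Groth.Agent.Lib.Helper12.FieldPoint.eq_closedPoint_of_maximal η hη q).symm⟩
    haveI : Ring.KrullDimLE 0 (Y.presheaf.stalk η) := by
      rw [Ring.krullDimLE_zero_iff]
      intro I hI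
      have h1 : (⟨I, hI⟩ : Spec (Y.presheaf.stalk η)) =
          IsLocalRing.closedPoint (Y.presheaf.stalk η) := hsub.elim _ _
      have h2 := congrArg PrimeSpectrum.asIdeal h1
      simp only [IsLocalRing.closedPoint] at h2
      rw [h2]
      infer_instance
    have hfield : IsField (Y.presheaf.stalk η) := Ring.KrullDimLE.isField_of_isReduced
    haveI : IsDomain (Y.presheaf.stalk η) := hfield.isDomain
    haveI : IsIntegral (Spec (Y.presheaf.stalk η)) := inferInstance
    let W₀ : Groth.Agent.Lib.Helper12.StalkLim.AffNhd Y η := Classical.arbitrary _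
    have H : Groth.Agent.Lib.Helper12.ConsMorGen.HasQBC @Flat f (𝟙 Y)
        ((Groth.Agent.Lib.Helper12.StalkLim.cone Y η).π.app W₀ ≫
          (Groth.Agent.Lib.Helper12.StalkLim.toBase Y η (𝟙 Y)).app W₀) := by
      rw [Groth.Agent.Lib.Helper12.StratQBC.hasQBC_id_iff]
      show Flat (pullback.snd f ((Groth.Agent.Lib.Helper12.StalkLim.cone Y η).π.app W₀ ≫
          (Groth.Agent.Lib.Helper12.StalkLim.toBase Y η (𝟙 Y)).app W₀ :
            Spec (Y.presheaf.stalk η) ⟶ Y))
      infer_instance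
    obtain ⟨W, hW⟩ := Groth.Agent.Lib.Helper12.ConsMorGen.HasQBC.exists_stage
      Groth.Agent.Lib.Helper12.StratQBC.descendsLim_flat f (𝟙 Y)
      (Groth.Agent.Lib.Helper12.StalkLim.diag Y η)
      (Groth.Agent.Lib.Helper12.StalkLim.toBase Y η (𝟙 Y))
      (Groth.Agent.Lib.Helper12.StalkLim.cone Y η)
      (Groth.Agent.Lib.Helper12.StalkLim.isLimitCone Y η) W₀ H
    refine ⟨W.U, W.mem, W.isAffineOpen.isCompact, ?_⟩
    have hY : IsPullback W.U.ι (𝟙 (W.U : Scheme.{u})) (𝟙 Y) (W.U.ι ≫ 𝟙 Y) :=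
      IsPullback.of_vert_isIso ⟨by simp⟩
    exact (Groth.Agent.Lib.Helper12.ConsMorGen.HasQBC.iff_of_isPullback hY
      (isPullback_morphismRestrict f W.U).flip).mp hW
  choose W hW1 hW2 hW3 using key
  obtain ⟨t, ht⟩ := hgen.elim_finite_subcover
    (fun η : {η : Y // ∀ y' : Y, y' ⤳ η → y' = η} => (W η.1 η.2 : Set Y))
    (fun η => (W η.1 η.2).isOpen)
    (fun η hη => Set.mem_iUnion.mpr ⟨⟨η, hη⟩, hW1 η hη⟩)
  let U : Y.Opens := ⨆ η ∈ t, W η.1 η.2
  have hUset : (U : Set Y) = ⋃ η ∈ t, (W η.1 η.2 : Set Y) := by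
    simp [U]
  refine ⟨U, ?_, ?_, ?_⟩
  · intro y
    obtain ⟨ξ, hξ1, hξ2⟩ := Groth.Agent.Lib.Helper12.exists_generic_specializes y
    have hξmax : ∀ y' : Y, y' ⤳ ξ → y' = ξ := fun y' hy' =>
      Groth.Agent.Lib.Helper12.eq_of_specializes_of_mem_irreducibleComponents hξ1 hy'
    have hξU : ξ ∈ (U : Set Y) := by
      rw [hUset]
      exact ht hξmax
    exact closure_mono (Set.singleton_subset_iff.mpr hξU) hξ2.mem_closure
  · rw [hUset]
    exact t.isCompact_biUnion (fun η _ => hW2 η.1 η.2)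
  · rw [Flat.iff_flat_stalkMap]
    intro x
    have hx : f x.1 ∈ (U : Set Y) := x.2
    rw [hUset] at hx
    simp only [Set.mem_iUnion, SetLike.mem_coe, exists_prop] at hx
    obtain ⟨η, hηt, hxη⟩ := hx
    have h1 := (Flat.iff_flat_stalkMap (f ∣_ W η.1 η.2)).mp (hW3 η.1 η.2) ⟨x.1, hxη⟩
    have e1 := morphismRestrictStalkMap f (W η.1 η.2) ⟨x.1, hxη⟩
    have e2 := morphismRestrictStalkMap f U x
    exact (RingHom.Flat.respectsIso.arrow_mk_iso_iff e2).mpr
      ((RingHom.Flat.respectsIso.arrow_mk_iso_iff e1).mp h1)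

end Groth.Agent.S14790
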