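import Groth.Statements.S14795
import Groth.Agent.Lib.Helper11.UHWeak

set_option autoImplicit false
universe u
open CategoryTheory CategoryTheory.Limits AlgebraicGeometry
open Subtr

namespace Groth.Agent.S14795

open Groth.Agent.Lib.Helper11.UHRing

/-- Let A ⊆ B be an integral ring extension and C ⊆ B the weak subintegral closure of A in B, that is
the largest A-subalgebra C of B such that Spec C ⟶ Spec A is a universal homeomorphism (C is
characterised here by that maximality). Then b ∈ B lies in C if and only if b ⊗ 1 − 1 ⊗ b is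
nilpotent in B ⊗_A B (b ⊗ 1 = 1 ⊗ b in the reduction of B ⊗_A B). -/
theorem result {A B : Type u} [CommRing A] [CommRing B]
    [Algebra A B] (hinj : Function.Injective (algebraMap A B)) [Algebra.IsIntegral A B]
    (C : Subalgebra A B) (hC : FlatMor.IsUnivHomeo (Spec.map (CommRingCat.ofHom (algebraMap A C))))
    (hmax : ∀ D : Subalgebra A B, FlatMor.IsUnivHomeo (Spec.map (CommRingCat.ofHom (algebraMap A D))) → D ≤ C) (b : B) :
    b ∈ C ↔ IsNilpotent (b ⊗ₜ[A] (1 : B) - (1 : B) ⊗ₜ[A] b) := by
  have hker : RingHom.ker (algebraMap A B) ≤ nilradical A := by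
    rw [(RingHom.injective_iff_ker_eq_bot _).mp hinj]
    exact bot_le
  have hC' : UH (algebraMap A C) := (isUnivHomeo_SpecMap_iff _).mp hC
  have h1 : C ≤ wnSub A B := le_wnSub_of_UH C hC'
  have h2 : wnSub A B ≤ C := hmax _ ((isUnivHomeo_SpecMap_iff _).mpr (UH_wnSub hker))
  rw [← mem_wnSub_iff_isNilpotent]
  exact ⟨fun h => h1 h, fun h => h2 h⟩

end Groth.Agent.S14795
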