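import Groth.Statements.S14805
import Mathlib
import Groth.Agent.Lib.Helper25.CompLat
open Groth.Agent.Lib.Helper25.CompLat

set_option autoImplicit false
open Finset
open CompLat

namespace Groth.Agent.S14805

/-- Let n ≥ 1 and let D, D' : ℤⁿ → ℤⁿ be given by diagonal matrices with nonzero diagonal entries (rank
n), A : ℤⁿ → ℤⁿ an integer matrix of rank n - 1, S : ℤⁿ → ℤ the sum of the coordinates and Δ : ℤ →
ℤⁿ the diagonal embedding; assume S D A = 0 and A D' Δ = 0, and let d > 0 with dℤ = im(S D), i.e. d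
is the greatest common divisor of the diagonal entries of D. Then #(ker(S D)/im A) · |det D| = d ·
#(ker S/im(D A)). -/
theorem result (n : ℕ) (hn : 0 < n) (δ δ' : Fin n → ℤ) (hδ : ∀ i, δ i ≠ 0) (hδ' : ∀ i, δ' i ≠ 0)
    (A : Matrix (Fin n) (Fin n) ℤ) (hA : A.rank = n - 1)
    (hSDA : (∑ i : Fin n, (LinearMap.proj i : (Fin n → ℤ) →ₗ[ℤ] ℤ)) ∘ₗ
        (Matrix.mulVecLin (Matrix.diagonal δ)) ∘ₗ (Matrix.mulVecLin A) = 0)
    (hADΔ : (Matrix.mulVecLin A) ∘ₗ (Matrix.mulVecLin (Matrix.diagonal δ')) ∘ₗ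
        (LinearMap.pi fun _ : Fin n => (LinearMap.id : ℤ →ₗ[ℤ] ℤ)) = 0) :
    (Nat.card (LinearMap.ker ((∑ i : Fin n, (LinearMap.proj i : (Fin n → ℤ) →ₗ[ℤ] ℤ)) ∘ₗ (Matrix.mulVecLin (Matrix.diagonal δ))) ⧸
          (LinearMap.range (Matrix.mulVecLin A)).comap (LinearMap.ker ((∑ i : Fin n, (LinearMap.proj i : (Fin n → ℤ) →ₗ[ℤ] ℤ)) ∘ₗ (Matrix.mulVecLin (Matrix.diagonal δ)))).subtype) : ℤ) * |∏ i, δ i| =
      (univ.gcd δ) * Nat.card (LinearMap.ker (∑ i : Fin n, (LinearMap.proj i : (Fin n → ℤ) →ₗ[ℤ] ℤ)) ⧸ (LinearMap.range ((Matrix.mulVecLin (Matrix.diagonal δ)) ∘ₗ (Matrix.mulVecLin A))).comap (LinearMap.ker (∑ i : Fin n, (LinearMap.proj i : (Fin n → ℤ) →ₗ[ℤ] ℤ))).subtype) := by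
  classical
  have hI : (LinearMap.range (Matrix.mulVecLin A)).toAddSubgroup ≤ ((Sa n).comp (Da δ)).ker := by
    rintro _ ⟨x, rfl⟩
    exact LinearMap.congr_fun hSDA x
  have key := index_identity hn δ hδ _ hI
  rw [card_quot_eq_relIndex, card_quot_eq_relIndex]
  have e3 : (LinearMap.range ((Matrix.mulVecLin (Matrix.diagonal δ)) ∘ₗ
      (Matrix.mulVecLin A))).toAddSubgroup
      = (LinearMap.range (Matrix.mulVecLin A)).toAddSubgroup.map (Da δ) := by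
    ext y
    simp only [Submodule.mem_toAddSubgroup, LinearMap.mem_range, AddSubgroup.mem_map]
    constructor
    · rintro ⟨x, rfl⟩; exact ⟨_, ⟨x, rfl⟩, rfl⟩
    · rintro ⟨_, ⟨x, rfl⟩, rfl⟩; exact ⟨x, rfl⟩
  rw [e3]
  have g1 : (univ.gcd δ : ℤ) = ((univ.gcd δ).natAbs : ℤ) :=
    (Int.natAbs_of_nonneg Int.finsetGcd_nonneg).symm
  rw [g1, ← Int.natCast_natAbs (∏ i, δ i)]
  exact_mod_cast key

end Groth.Agent.S14805
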