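import Groth.Statements.S14806
import Mathlib
import Groth.Agent.Lib.Helper25.CompLat
import Groth.Agent.S14805
open Groth.Agent.Lib.Helper25.CompLat

set_option autoImplicit false
open Finset
open CompLat

namespace Groth.Agent.S14806

/-- Let n ≥ 1, let D, D' : ℤⁿ → ℤⁿ be given by diagonal matrices with nonzero diagonal entries, A : ℤⁿ →
ℤⁿ an integer matrix of rank n - 1, S : ℤⁿ → ℤ the sum of the coordinates and Δ : ℤ → ℤⁿ the
diagonal embedding, with S D A = 0 and A D' Δ = 0; let d, d' be the greatest common divisors of the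
diagonal entries of D and of D' (dℤ = im(S D), d'ℤ = im(S D')). Then #(ker(S D)/im A) · |det D| ·
|det D'| = d d' · #(ker S/im(D A D')). -/
theorem result (n : ℕ) (hn : 0 < n) (δ δ' : Fin n → ℤ) (hδ : ∀ i, δ i ≠ 0) (hδ' : ∀ i, δ' i ≠ 0)
    (A : Matrix (Fin n) (Fin n) ℤ) (hA : A.rank = n - 1)
    (hSDA : (∑ i : Fin n, (LinearMap.proj i : (Fin n → ℤ) →ₗ[ℤ] ℤ)) ∘ₗ
        (Matrix.mulVecLin (Matrix.diagonal δ)) ∘ₗ (Matrix.mulVecLin A) = 0)
    (hADΔ : (Matrix.mulVecLin A) ∘ₗ (Matrix.mulVecLin (Matrix.diagonal δ')) ∘ₗ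
        (LinearMap.pi fun _ : Fin n => (LinearMap.id : ℤ →ₗ[ℤ] ℤ)) = 0) :
    (Nat.card (LinearMap.ker ((∑ i : Fin n, (LinearMap.proj i : (Fin n → ℤ) →ₗ[ℤ] ℤ)) ∘ₗ (Matrix.mulVecLin (Matrix.diagonal δ))) ⧸
          (LinearMap.range (Matrix.mulVecLin A)).comap (LinearMap.ker ((∑ i : Fin n, (LinearMap.proj i : (Fin n → ℤ) →ₗ[ℤ] ℤ)) ∘ₗ (Matrix.mulVecLin (Matrix.diagonal δ)))).subtype) : ℤ) * |∏ i, δ i| * |∏ i, δ' i| =
      (univ.gcd δ) * (univ.gcd δ') * Nat.card (LinearMap.ker (∑ i : Fin n, (LinearMap.proj i : (Fin n → ℤ) →ₗ[ℤ] ℤ)) ⧸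
          (LinearMap.range ((Matrix.mulVecLin (Matrix.diagonal δ)) ∘ₗ (Matrix.mulVecLin A) ∘ₗ (Matrix.mulVecLin (Matrix.diagonal δ')))).comap (LinearMap.ker (∑ i : Fin n, (LinearMap.proj i : (Fin n → ℤ) →ₗ[ℤ] ℤ))).subtype) := by
  classical
  have R1 := Groth.Agent.S14805.result n hn δ δ' hδ hδ' A hA hSDA hADΔ
  have hAδ' : A.mulVecLin δ' = 0 := by
    have h1 : (Matrix.mulVecLin (Matrix.diagonal δ'))
        ((LinearMap.pi fun _ : Fin n => (LinearMap.id : ℤ →ₗ[ℤ] ℤ)) 1) = δ' := by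
      funext i; rw [DL_apply]; simp
    have h2 := LinearMap.congr_fun hADΔ 1
    simp only [LinearMap.comp_apply] at h2
    rw [h1] at h2; exact h2
  have hK : ((Da δ).comp A.mulVecLin.toAddMonoidHom).range ≤ (Sa n).ker := by
    rintro _ ⟨x, rfl⟩
    exact LinearMap.congr_fun hSDA x
  have R2 := twisted_index hn δ δ' hδ hδ' A hA hAδ' _ hK
  have e2 : (LinearMap.range ((Matrix.mulVecLin (Matrix.diagonal δ)) ∘ₗ
      (Matrix.mulVecLin A))).toAddSubgroup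
      = ((Da δ).comp A.mulVecLin.toAddMonoidHom).range := by
    ext y
    simp only [Submodule.mem_toAddSubgroup, LinearMap.mem_range, AddMonoidHom.mem_range]
    rfl
  have e3 : (LinearMap.range ((Matrix.mulVecLin (Matrix.diagonal δ)) ∘ₗ
      (Matrix.mulVecLin A) ∘ₗ (Matrix.mulVecLin (Matrix.diagonal δ')))).toAddSubgroup
      = (Da δ').range.map ((Da δ).comp A.mulVecLin.toAddMonoidHom) := by
    ext y
    simp only [Submodule.mem_toAddSubgroup, LinearMap.mem_range, AddSubgroup.mem_map,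
      AddMonoidHom.mem_range]
    constructor
    · rintro ⟨x, rfl⟩; exact ⟨_, ⟨x, rfl⟩, rfl⟩
    · rintro ⟨_, ⟨x, rfl⟩, rfl⟩; exact ⟨x, rfl⟩
  rw [card_quot_eq_relIndex] at R1 ⊢
  rw [card_quot_eq_relIndex] at R1 ⊢
  rw [e2] at R1
  rw [e3]
  have g1 : (univ.gcd δ' : ℤ) = ((univ.gcd δ').natAbs : ℤ) :=
    (Int.natAbs_of_nonneg Int.finsetGcd_nonneg).symm
  have R2' : ((((Da δ').range).map ((Da δ).comp A.mulVecLin.toAddMonoidHom)).relIndex
      (Sa n).ker : ℤ) * univ.gcd δ' = |∏ i, δ' i| *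
      (((Da δ).comp A.mulVecLin.toAddMonoidHom).range.relIndex (Sa n).ker : ℤ) := by
    rw [g1, ← Int.natCast_natAbs (∏ i, δ' i)]
    exact_mod_cast R2
  have e1 : (LinearMap.ker (∑ i : Fin n, (LinearMap.proj i : (Fin n → ℤ) →ₗ[ℤ] ℤ))).toAddSubgroup
      = (Sa n).ker := rfl
  rw [e1] at R1 ⊢
  linear_combination |∏ i, δ' i| * R1 - univ.gcd δ * R2'

end Groth.Agent.S14806
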