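import Groth.Statements.S1481
-- import your own Groth.Agent.* helpers here
import Mathlib
import Groth.Agent.Lib.Helper12.ValBase

set_option autoImplicit false
universe u
open FlatMor

namespace Groth.Agent.S1481

open AlgebraicGeometry CategoryTheory Limits Topology

set_option backward.isDefEq.respectTransparency false

/-- fibres (as subspaces) of morphisms of schemes are quasi-sober -/
lemma quasiSober_fibre {X T : Scheme.{u}} (h : X ⟶ T) (p : T) : QuasiSober ↑(h ⁻¹' {p}) :=
  (h.fiberHomeo p).symm.isClosedEmbedding.quasiSober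

lemma quasiSober_inter_fibre {X T : Scheme.{u}} (h : X ⟶ T) (p : T) (W : Set X) (hW : IsClosed W) :
    QuasiSober ↑(W ∩ h ⁻¹' {p}) := by
  haveI := quasiSober_fibre h p
  exact QuasiSober.inter_of_isClosed_of_quasiSober_right W hW

/-- in a quasi-sober subspace, every point is a specialization of the generic point of an
irreducible component -/
lemma exists_generic_component {α : Type*} [TopologicalSpace α] (Z : Set α) [QuasiSober ↑Z]
    (z : α) (hz : z ∈ Z) :
    ∃ (p : α) (hp : p ∈ Z), p ⤳ z ∧ ∃ C ∈ irreducibleComponents ↑Z,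
      IsGenericPoint (⟨p, hp⟩ : ↑Z) C := by
  obtain ⟨p, hp⟩ := QuasiSober.sober (isIrreducible_irreducibleComponent (x := (⟨z, hz⟩ : ↑Z)))
    isClosed_irreducibleComponent
  refine ⟨p.1, p.2, ?_, irreducibleComponent (⟨z, hz⟩ : ↑Z),
    irreducibleComponent_mem_irreducibleComponents _, hp⟩
  have h1 : p ⤳ (⟨z, hz⟩ : ↑Z) := (isGenericPoint_iff_specializes.mp hp _).mpr mem_irreducibleComponent
  exact h1.map continuous_subtype_val

/-- a generization (inside the subspace) of the generic point of an irreducible component is that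
generic point -/
lemma eq_of_specializes_generic {α : Type*} [TopologicalSpace α] [T0Space α] (Z : Set α)
    (x w : α) (hx : x ∈ Z) (hw : w ∈ Z) (hwx : w ⤳ x)
    (hgen : ∃ C ∈ irreducibleComponents ↑Z, IsGenericPoint (⟨x, hx⟩ : ↑Z) C) : w = x := by
  obtain ⟨C, hC, hxC⟩ := hgen
  have h1 : (⟨w, hw⟩ : ↑Z) ⤳ (⟨x, hx⟩ : ↑Z) := by
    exact Topology.IsInducing.subtypeVal.specializes_iff.mp hwx
  -- closure of w is irreducible closed containing C
  have hsub : C ⊆ closure {(⟨w, hw⟩ : ↑Z)} := by
    rw [← hxC.def]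
    exact closure_minimal (Set.singleton_subset_iff.mpr h1.mem_closure) isClosed_closure
  have hirr : IsIrreducible (closure {(⟨w, hw⟩ : ↑Z)}) := isIrreducible_singleton.closure
  have heq : closure {(⟨w, hw⟩ : ↑Z)} ⊆ C := hC.2 hirr hsub
  have h2 : (⟨x, hx⟩ : ↑Z) ⤳ (⟨w, hw⟩ : ↑Z) := by
    rw [specializes_iff_mem_closure, hxC.def]
    exact heq (subset_closure rfl)
  have h3 : x ⤳ w := h2.map continuous_subtype_val
  exact (hwx.antisymm h3).eq


open AlgebraicGeometry CategoryTheory Limits in
/-- Let f : X → S, y a point of X with image t, Y the closure of y, s a point of S and x a point of Y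
over s which is generic in an irreducible component of the fibre of Y over s (fibres as subspaces).
Then there are a valuation ring R and a morphism g : Spec R → S sending the generic point to t and
the closed point to s, such that, writing X' for the base change with projections g' : X' → X and f'
: X' → Spec R, there is a point y' of X' over the generic point with g' y' = y which is generic in
an irreducible component of the generic fibre of g'⁻¹(Y), and a point x' in the closure of y' over
the closed point with g' x' = x which is generic in an irreducible component of the special fibre of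
the closure of y'. -/
theorem result {X S : Scheme.{u}} (f : X ⟶ S) (y : X) (s : S) (x : X)
    (hx : x ∈ closure ({y} : Set ↑X)) (hxs : f x = s)
    (hgen : ∃ C ∈ irreducibleComponents ↑(closure ({y} : Set ↑X) ∩ f ⁻¹' {s}), IsGenericPoint (⟨x, hx, hxs⟩ : ↑(closure ({y} : Set ↑X) ∩ f ⁻¹' {s})) C) :
    ∃ (R : Type u) (_ : CommRing R) (_ : IsDomain R) (_ : ValuationRing R) (g : Spec (CommRingCat.of R) ⟶ S),
      g (⊥ : PrimeSpectrum R) = f y ∧ g (IsLocalRing.closedPoint R) = s ∧
      ∃ (y' : ↑(pullback f g)) (hy't : pullback.snd f g y' = (⊥ : PrimeSpectrum R)) (hy'Y : pullback.fst f g y' ∈ closure ({y} : Set ↑X)),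
        pullback.fst f g y' = y ∧
        (∃ C ∈ irreducibleComponents ↑((pullback.fst f g) ⁻¹' closure ({y} : Set ↑X) ∩ (pullback.snd f g) ⁻¹' {(⊥ : PrimeSpectrum R)}),
          IsGenericPoint (⟨y', hy'Y, hy't⟩ : ↑((pullback.fst f g) ⁻¹' closure ({y} : Set ↑X) ∩ (pullback.snd f g) ⁻¹' {(⊥ : PrimeSpectrum R)})) C) ∧
        ∃ (x' : ↑(pullback f g)) (hx' : x' ∈ closure ({y'} : Set ↑(pullback f g))) (hx's : pullback.snd f g x' = IsLocalRing.closedPoint R),
          pullback.fst f g x' = x ∧
          ∃ C ∈ irreducibleComponents ↑(closure ({y'} : Set ↑(pullback f g)) ∩ (pullback.snd f g) ⁻¹' {IsLocalRing.closedPoint R}),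
            IsGenericPoint (⟨x', hx', hx's⟩ : ↑(closure ({y'} : Set ↑(pullback f g)) ∩ (pullback.snd f g) ⁻¹' {IsLocalRing.closedPoint R})) C := by
  classical
  obtain ⟨R, iR1, iR2, iR3, φ, η, hφc, hφη, hηgen, -⟩ :=
    Groth.Agent.Lib.Helper12.ValBase.exists_valuationRing_spec X x y
      (specializes_iff_mem_closure.mpr hx)
  have hη : η = (⊥ : PrimeSpectrum R) := by
    have h1 : η ⤳ (⊥ : PrimeSpectrum R) := hηgen _
    have h2 : (⊥ : PrimeSpectrum R) ⤳ η :=
      (PrimeSpectrum.le_iff_specializes (R := R) ⊥ η).mp bot_le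
    exact (h1.antisymm h2).eq
  rw [hη] at hφη
  let g : Spec (CommRingCat.of R) ⟶ S := φ ≫ f
  have hg1 : g (⊥ : PrimeSpectrum R) = f y := by
    show f (φ (⊥ : PrimeSpectrum R)) = f y
    rw [hφη]
  have hg2 : g (IsLocalRing.closedPoint R) = s := by
    show f (φ (IsLocalRing.closedPoint R)) = s
    rw [hφc, hxs]
  refine ⟨R, iR1, iR2, iR3, g, hg1, hg2, ?_⟩
  let σ : Spec (CommRingCat.of R) ⟶ pullback f g := pullback.lift φ (𝟙 _) (by rw [Category.id_comp])
  have hσ1 : σ ≫ pullback.fst f g = φ := pullback.lift_fst _ _ _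
  have hσ2 : σ ≫ pullback.snd f g = 𝟙 _ := pullback.lift_snd _ _ _
  have hσ1' : ∀ t, pullback.fst f g (σ t) = φ t := fun t => by
    rw [← Scheme.Hom.comp_apply, hσ1]
  have hσ2' : ∀ t, pullback.snd f g (σ t) = t := fun t => by
    rw [← Scheme.Hom.comp_apply, hσ2]; rfl
  have hcomm : ∀ z : ↑(pullback f g), f (pullback.fst f g z) = g (pullback.snd f g z) := fun z => by
    rw [← Scheme.Hom.comp_apply, ← Scheme.Hom.comp_apply, pullback.condition]
  -- the generic fibre
  have hclY : IsClosed ((pullback.fst f g) ⁻¹' closure ({y} : Set ↑X)) :=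
    isClosed_closure.preimage (pullback.fst f g).continuous
  haveI := quasiSober_inter_fibre (pullback.snd f g) (⊥ : PrimeSpectrum R) _ hclY
  have hyG : σ (⊥ : PrimeSpectrum R) ∈ (pullback.fst f g) ⁻¹' closure ({y} : Set ↑X) ∩
      (pullback.snd f g) ⁻¹' {(⊥ : PrimeSpectrum R)} := by
    refine ⟨?_, hσ2' _⟩
    show pullback.fst f g (σ _) ∈ closure {y}
    rw [hσ1', hφη]
    exact subset_closure rfl
  obtain ⟨y', hy', hy'sp, hy'gen⟩ := exists_generic_component _ _ hyG
  have hy'y : pullback.fst f g y' = y := by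
    have h1 : pullback.fst f g y' ⤳ y := by
      have := hy'sp.map (pullback.fst f g).continuous
      rwa [hσ1', hφη] at this
    have h2 : y ⤳ pullback.fst f g y' := specializes_iff_mem_closure.mpr hy'.1
    exact (h1.antisymm h2).eq
  refine ⟨y', hy'.2, hy'.1, hy'y, hy'gen, ?_⟩
  -- the special fibre
  haveI := quasiSober_inter_fibre (pullback.snd f g) (IsLocalRing.closedPoint R)
    (closure ({y'} : Set ↑(pullback f g))) isClosed_closure
  have hxH : σ (IsLocalRing.closedPoint R) ∈ closure ({y'} : Set ↑(pullback f g)) ∩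
      (pullback.snd f g) ⁻¹' {IsLocalRing.closedPoint R} := by
    refine ⟨?_, hσ2' _⟩
    have h1 : (⊥ : PrimeSpectrum R) ⤳ IsLocalRing.closedPoint R :=
      (PrimeSpectrum.le_iff_specializes (R := R) ⊥ _).mp bot_le
    have h2 : σ (⊥ : PrimeSpectrum R) ⤳ σ (IsLocalRing.closedPoint R) := h1.map σ.continuous
    exact (hy'sp.trans h2).mem_closure
  obtain ⟨x', hx', hx'sp, hx'gen⟩ := exists_generic_component _ _ hxH
  have hx'x : pullback.fst f g x' = x := by
    have h1 : pullback.fst f g x' ⤳ x := by
      have := hx'sp.map (pullback.fst f g).continuous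
      rwa [hσ1', hφc] at this
    have hmem : pullback.fst f g x' ∈ closure ({y} : Set ↑X) ∩ f ⁻¹' {s} := by
      constructor
      · have h2 : y' ⤳ x' := specializes_iff_mem_closure.mpr hx'.1
        have h3 := h2.map (pullback.fst f g).continuous
        rw [hy'y] at h3
        exact h3.mem_closure
      · show f (pullback.fst f g x') = s
        rw [hcomm, show pullback.snd f g x' = IsLocalRing.closedPoint R from hx'.2, hg2]
    exact eq_of_specializes_generic (closure ({y} : Set ↑X) ∩ f ⁻¹' {s}) x _ ⟨hx, hxs⟩ hmem h1 hgen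
  exact ⟨x', hx'.1, hx'.2, hx'x, hx'gen⟩

end Groth.Agent.S1481
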