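import Groth.Statements.S9716
import Mathlib
import Groth.Agent.Lib.Helper17.FinLocFreeSec
import Groth.Agent.Lib.Helper3.QCPush
import Groth.Agent.Lib.Helper3.QCOpen
import Groth.Agent.Lib.Helper3.LocFreeCrit

set_option autoImplicit false
universe u
open CategoryTheory AlgebraicGeometry
open Mor

namespace Groth.Agent.S9716

open Groth.Agent.Lib.Helper3 Groth.Agent.Lib.Helper17

theorem forward {X S : Scheme.{u}} (f : X ⟶ S) (hA : IsAffineHom f)
    (hF : FlatMod.IsFinLocFree
      ((Scheme.Modules.pushforward f).obj (Coh.structureModule X))) :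
    Mor2.IsFinLocFree f := by
  have key : ∀ V : S.Opens, IsAffineOpen V →
      (f.app V).hom.Finite ∧ (f.app V).hom.Flat ∧ (f.app V).hom.FinitePresentation := by
    intro V hV
    letI alg : Algebra Γ(S, V) Γ(X, f ⁻¹ᵁ V) := (f.app V).hom.toAlgebra
    let e : Γ((Scheme.Modules.pushforward f).obj (Coh.structureModule X), V) ≃ₗ[Γ(S, V)]
        Γ(X, f ⁻¹ᵁ V) :=
      { toFun := fun m => m
        invFun := fun m => m
        map_add' := fun _ _ => rfl
        map_smul' := fun _ _ => rfl
        left_inv := fun _ => rfl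
        right_inv := fun _ => rfl }
    obtain ⟨hfin, hproj⟩ := LocFreeCrit.finite_projective_sections hF hV
    haveI h1 : Module.Finite Γ(S, V) Γ(X, f ⁻¹ᵁ V) := Module.Finite.equiv e
    haveI h2 : Module.Projective Γ(S, V) Γ(X, f ⁻¹ᵁ V) := Module.Projective.of_equiv e
    haveI h3 : Module.FinitePresentation Γ(S, V) Γ(X, f ⁻¹ᵁ V) :=
      Module.finitePresentation_of_projective _ _
    haveI h4 : Module.Flat Γ(S, V) Γ(X, f ⁻¹ᵁ V) := inferInstance
    haveI h5 : Algebra.FinitePresentation Γ(S, V) Γ(X, f ⁻¹ᵁ V) := inferInstance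
    exact ⟨h1, h4, h5⟩
  refine ⟨?_, ?_, ?_⟩
  · exact { toIsAffineHom := hA, finite_app := fun V hV => (key V hV).1 }
  · rw [HasRingHomProperty.iff_exists_appLE (P := @Flat)
      (RingHom.Flat.stableUnderComposition.stableUnderCompositionWithLocalizationAway
        RingHom.Flat.holdsForLocalizationAway).left]
    intro x
    obtain ⟨V, hV, hxV⟩ := QCProps.exists_affine_nbhd (f x)
    refine ⟨⟨V, hV⟩, ⟨f ⁻¹ᵁ V, hV.preimage f⟩, hxV, le_rfl, ?_⟩
    have h := (key V hV).2.1
    rw [Scheme.Hom.app_eq_appLE] at h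
    exact h
  · rw [HasRingHomProperty.iff_exists_appLE (P := @LocallyOfFinitePresentation)
      (RingHom.finitePresentation_stableUnderComposition.stableUnderCompositionWithLocalizationAway
        RingHom.finitePresentation_holdsForLocalizationAway).left]
    intro x
    obtain ⟨V, hV, hxV⟩ := QCProps.exists_affine_nbhd (f x)
    refine ⟨⟨V, hV⟩, ⟨f ⁻¹ᵁ V, hV.preimage f⟩, hxV, le_rfl, ?_⟩
    have h := (key V hV).2.2
    rw [Scheme.Hom.app_eq_appLE] at h
    exact h

theorem backward {X S : Scheme.{u}} (f : X ⟶ S) (h : Mor2.IsFinLocFree f) :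
    IsAffineHom f ∧ FlatMod.IsFinLocFree
      ((Scheme.Modules.pushforward f).obj (Coh.structureModule X)) := by
  obtain ⟨hfin, hflat, hfp⟩ := h
  haveI := hfin
  haveI := hflat
  haveI := hfp
  refine ⟨inferInstance, ?_⟩
  haveI : ((Scheme.Modules.pushforward f).obj (Coh.structureModule X)).IsQuasicoherent :=
    QCSec.isQuasicoherent_pushforward f _
  apply FinLocFreeSec.isFinLocFree_of_sections
  intro V hV
  letI alg : Algebra Γ(S, V) Γ(X, f ⁻¹ᵁ V) := (f.app V).hom.toAlgebra
  let e : Γ((Scheme.Modules.pushforward f).obj (Coh.structureModule X), V) ≃ₗ[Γ(S, V)]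
      Γ(X, f ⁻¹ᵁ V) :=
    { toFun := fun m => m
      invFun := fun m => m
      map_add' := fun _ _ => rfl
      map_smul' := fun _ _ => rfl
      left_inv := fun _ => rfl
      right_inv := fun _ => rfl }
  haveI h1 : Module.Finite Γ(S, V) Γ(X, f ⁻¹ᵁ V) := f.finite_app V hV
  haveI h2 : Algebra.FinitePresentation Γ(S, V) Γ(X, f ⁻¹ᵁ V) := by
    have h1 := f.finitePresentation_appLE hV (hV.preimage f) le_rfl
    rw [← Scheme.Hom.app_eq_appLE] at h1
    exact h1
  haveI h3 : Module.Flat Γ(S, V) Γ(X, f ⁻¹ᵁ V) := by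
    have h1 := f.flat_appLE hV (hV.preimage f) le_rfl
    rw [← Scheme.Hom.app_eq_appLE] at h1
    exact h1
  haveI h4 : Module.FinitePresentation Γ(S, V) Γ(X, f ⁻¹ᵁ V) :=
    Module.FinitePresentation.of_finite_of_finitePresentation _ _
  haveI h5 : Module.Projective Γ(S, V) Γ(X, f ⁻¹ᵁ V) :=
    Module.Flat.projective_of_finitePresentation
  exact ⟨Module.FinitePresentation.of_equiv e.symm, Module.Projective.of_equiv e.symm⟩

/-- (1) ⇔ (2): a morphism f : X ⟶ S is affine with direct image f_*O_X a finite locally free O_S-module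
(locally on S isomorphic to a finite direct sum of copies of the structure sheaf, of possibly
varying rank) if and only if f is finite, flat and locally of finite presentation. -/
theorem result {X S : Scheme.{u}} (f : X ⟶ S) :
    (IsAffineHom f ∧ FlatMod.IsFinLocFree ((Scheme.Modules.pushforward f).obj (Coh.structureModule X))) ↔
      Mor2.IsFinLocFree f := by
  exact ⟨fun h => forward f h.1 h.2, backward f⟩

end Groth.Agent.S9716
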