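import Groth.Statements.S14818
import Groth.Agent.Lib.Helper3.RelNorm
import Groth.Agent.S9716
import Groth.Agent.Lib.Helper16.Norm.FreeNorm

set_option autoImplicit false
universe u
open CategoryTheory CategoryTheory.Limits AlgebraicGeometry
open PicF

namespace Groth.Agent.S14818

open Groth.Agent.Lib.Helper3 Groth.Agent.Lib.Helper3.RelNorm Groth.Agent.Lib.Helper3.QCSec
  Groth.Agent.Lib.Helper3.InvGen Groth.Agent.Lib.Helper3.InvTensor Groth.Agent.Lib.Helper3.InvMonoidal
  Groth.Agent.Lib.Helper3.PbBasic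

/-- Let X be a connected locally Noetherian scheme, f : X' → X a finite locally free morphism of
constant degree d (a finite flat covering of X of degree d) and L an invertible O_X-module whose
pullback f^*L is isomorphic to O_{X'}. Then L^{⊗d} ≅ O_X; in particular L has finite order in Pic(X)
dividing the degree of f. -/
theorem result (X X' : Scheme.{u})
    [IsLocallyNoetherian X] [ConnectedSpace X] (f : X' ⟶ X) (d : ℕ) (hf : Mor2.IsFinLocFreeOfDeg d f)
    (L : X.Modules) (hL : PicF.IsInvertible L)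
    (htriv : Nonempty ((Scheme.Modules.pullback f).obj L ≅ Coh.structureModule X')) :
    Nonempty (CohB1.tensorPow L d ≅ Coh.structureModule X) := by
  obtain ⟨θ⟩ := htriv
  obtain ⟨hflf, hd⟩ := hf
  obtain ⟨hfin, hflat, hfp⟩ := hflf
  haveI := hfin
  haveI := hflat
  haveI := hfp
  have hfree := (Groth.Agent.S9716.backward f ⟨hfin, hflat, hfp⟩).2
  have hcov : ∀ x : X, ∃ c : Chart f L, x ∈ c.U ∧ c.r = d := by
    intro x
    obtain ⟨U, r, e, hxU, he⟩ := exists_isRelBasis_of_isFinLocFree f hfree x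
    obtain ⟨U₂, ℓ, hxU₂, hℓ⟩ := exists_isGen hL x
    obtain ⟨W, hW, hxW, hsub⟩ := exists_isAffineOpen_mem_and_subset
      (show x ∈ U ⊓ U₂ from ⟨hxU, hxU₂⟩)
    have hWU : W ≤ U := fun z hz => (hsub hz).1
    have hWU₂ : W ≤ U₂ := fun z hz => (hsub hz).2
    refine ⟨⟨W, res L hWU₂ ℓ, hℓ.mono _, r, _, he.mono f hWU⟩, hxW, ?_⟩
    show r = d
    letI := algW f W
    let b := he.basis f W hWU
    have hgood : H16FNorm.Good f W := ⟨hW, Module.Free.of_basis b, Module.Finite.of_basis b⟩
    haveI : Nonempty W := ⟨⟨x, hxW⟩⟩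
    haveI : Nontrivial Γ(X, W) := inferInstance
    have h1 := H16FNorm.finrank_eq f hd hgood
    have h2 : Module.finrank Γ(X, W) Γ(X', f ⁻¹ᵁ W) = r := by
      rw [Module.finrank_eq_card_basis b, Fintype.card_fin]
    exact h2.symm.trans h1
  have hcov' : ∀ x : X, ∃ c : Chart f L, x ∈ c.U := fun x => by
    obtain ⟨c, hc, -⟩ := hcov x
    exact ⟨c, hc⟩
  let s' : Coh.structureModule X' ⟶ CohB1.tensorPow ((Scheme.Modules.pullback f).obj L) 1 :=
    θ.inv ≫ (powOne _).hom
  have hs'top : CohB1.genLocus _ s' = ⊤ := by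
    have h1 : s' = 𝟙 _ ≫ (θ.inv ≫ (powOne _).hom) := (Category.id_comp _).symm
    rw [h1, genLocus_comp_iso, genLocus_id]
  obtain ⟨s, hs⟩ := exists_normSec (m := 1) s' hcov' d
  have hstop : CohB1.genLocus _ s = ⊤ := by
    apply top_le_iff.mp
    intro x _
    obtain ⟨c, hxc, hcr⟩ := hcov x
    exact mem_genLocus_of_chart hs c hcr (by rw [hs'top]; exact le_top) hxc
  have hgen : IsGen _ ⊤ (sec s ⊤) := isGen_sec_of_le s (by rw [hstop])
  haveI : IsIso s := by
    rw [Scheme.Modules.Hom.isIso_iff_isIso_app]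
    intro V
    rw [ConcreteCategory.isIso_iff_bijective, bijective_app_iff]
    have := hgen V le_top
    rwa [res_sec] at this
  exact ⟨(powCast L (one_mul d)).symm ≪≫ (asIso s).symm⟩

end Groth.Agent.S14818
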