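import Groth.Statements.S14833
-- import your own Groth.Agent.* helpers here
import Mathlib
import Groth.Agent.Lib.Helper22.OmegaGen
import Groth.Agent.Lib.Helper22.OmegaGen2
import Groth.Agent.Lib.Helper3.QCProps
import Groth.Agent.Lib.Helper3.Reduced

set_option autoImplicit false
universe u
open CategoryTheory CategoryTheory.Limits AlgebraicGeometry
open OmegaSh

namespace Groth.Agent.S14833

/-- Let k be a field and f : X → Z a surjective k-morphism between integral proper k-schemes, where X is
geometrically normal (its base change to an algebraic closure of k has integrally closed local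
domains), Z is smooth over k, and the generic fibre of f is geometrically reduced over the function
field of Z (equivalently K(Z) ⊆ K(X) is separable). Let d_Z : O_Z → Ω_Z and d_X : O_X → Ω_X be
universal k-derivations (sheaves of Kähler differentials over k) and c : f^*Ω_Z → Ω_X the O_X-linear
map compatible with them. Then for every open subscheme U ⊆ X which is smooth over k, the
restriction of c to U is a monomorphism of O_U-modules; in particular c is injective on the smooth
locus of X. -/
theorem result (k : Type u) [Field k]
    (X Z : Scheme.{u}) [X.Over (Spec (CommRingCat.of k))] [Z.Over (Spec (CommRingCat.of k))]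
    [IsProper (X ↘ Spec (CommRingCat.of k))] [IsProper (Z ↘ Spec (CommRingCat.of k))] [IsIntegral X] [IsIntegral Z]
    [Smooth (Z ↘ Spec (CommRingCat.of k))]
    (hgn : ∀ (K : Type u) [Field K] [Algebra k K] [IsAlgClosure k K],
      Pi1.IsNormalScheme (pullback (X ↘ Spec (CommRingCat.of k)) (Spec.map (CommRingCat.ofHom (algebraMap k K)))))
    (f : X ⟶ Z) [Surjective f] (hf : f ≫ (Z ↘ Spec (CommRingCat.of k)) = X ↘ Spec (CommRingCat.of k))
    (hsep : GeometricallyReduced (pullback.snd f (Z.fromSpecResidueField (genericPoint ↥Z))))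
    (ΩZ : Z.Modules) (dZ : OmegaSh.Der (Z ↘ Spec (CommRingCat.of k)) ΩZ) (hdZ : OmegaSh.IsUniversal dZ)
    (ΩX : X.Modules) (dX : OmegaSh.Der (X ↘ Spec (CommRingCat.of k)) ΩX) (hdX : OmegaSh.IsUniversal dX)
    (c : (Scheme.Modules.pullback f).obj ΩZ ⟶ ΩX) (hc : OmegaSh.IsDiffCompat f dZ dX c)
    (U : X.Opens) (hU : Smooth (U.ι ≫ (X ↘ Spec (CommRingCat.of k)))) :
    Mono ((Scheme.Modules.restrictFunctor U.ι).map c) := by
  have main : ∀ (pX : X ⟶ Spec (CommRingCat.of k)) (pZ : Z ⟶ Spec (CommRingCat.of k)) [Smooth pZ]
      [LocallyOfFiniteType pX] (hf : f ≫ pZ = pX)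
      (dZ : OmegaSh.Der pZ ΩZ) (_ : OmegaSh.IsUniversal dZ) (dX : OmegaSh.Der pX ΩX)
      (_ : OmegaSh.IsUniversal dX) (_ : OmegaSh.IsDiffCompat f dZ dX c), Mono c := by
    intro pX pZ _ _ hf dZ hdZ dX hdX hc
    subst hf
    haveI : LocallyOfFiniteType f := locallyOfFiniteType_of_comp f pZ
    apply Groth.Agent.Lib.Helper22.OmegaGen.mono_of_generic_formallySmooth pZ f dZ hdZ dX hdX c hc
    haveI hres : IsIso (Z.residue (genericPoint Z)) :=
      (ConcreteCategory.isIso_iff_bijective _).mpr
        (Groth.Agent.Lib.Helper22.OmegaGen2.residue_genericPoint_bijective Z)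
    haveI : Flat (Z.fromSpecResidueField (genericPoint Z)) := by
      have h0 : Z.fromSpecResidueField (genericPoint Z) =
          Spec.map (Z.residue (genericPoint Z)) ≫ Z.fromSpecStalk (genericPoint Z) := rfl
      rw [h0]
      haveI := Groth.Agent.Lib.Helper3.flat_fromSpecStalk Z (genericPoint Z)
      infer_instance
    have hξ : f (genericPoint X) = genericPoint Z := by
      have h1 := (genericPoint_spec X).image f.continuous
      have h2 : closure (f '' (Set.univ : Set X)) = Set.univ := by
        rw [Set.image_univ]
        exact f.surjective.denseRange.closure_range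
      rw [h2] at h1
      exact h1.eq (genericPoint_spec Z)
    obtain ⟨w, hw1, hw2⟩ := Scheme.Pullback.exists_preimage_pullback (f := f)
      (g := Z.fromSpecResidueField (genericPoint Z)) (genericPoint X)
      (IsLocalRing.closedPoint _) (by rw [hξ, Scheme.fromSpecResidueField_apply])
    have key := Groth.Agent.Lib.Helper22.OmegaGen2.formallySmooth_stalkMap_fst f
      (Z.residueField (genericPoint Z)) (Z.fromSpecResidueField (genericPoint Z)) hsep w
      (by rw [hw1]; exact Field.toIsField X.functionField)
    rw [hw1] at key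
    exact key
  have hmono : Mono c := main _ _ hf dZ hdZ dX hdX hc
  rw [Groth.Agent.Lib.Helper3.QCProps.mono_iff_app_injective]
  intro W
  exact (Groth.Agent.Lib.Helper3.QCProps.mono_iff_app_injective c).mp hmono (U.ι ''ᵁ W)

end Groth.Agent.S14833
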