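import Groth.Statements.S14837
import Groth.Agent.Lib.Helper5.PushEdgeInj
import Groth.Agent.Lib.Helper7.PushLinear
import Groth.Agent.Lib.Lead.HomExt5
import Groth.Agent.Lib.Helper23.T2L
import Groth.Agent.S0002

set_option autoImplicit false
universe u
open CategoryTheory CategoryTheory.Limits AlgebraicGeometry
open Coh

namespace Groth.Agent.S14837

section
open CategoryTheory CategoryTheory.Limits AlgebraicGeometry TopologicalSpace Opposite
open CategoryTheory.Abelian
open Groth.Agent.Lib.Helper13.PushEdge Groth.Agent.Lib.Helper13.SerreCrit1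

variable {X Y : Scheme.{u}} (f : X ⟶ Y)

/-- the edge map commutes with multiplication by global functions of the base. -/
theorem pushEdge_smulAb (G : X.Modules) (p : ℕ) (a : Coh.Γtop Y)
    (x : Coh.HH Y ((Scheme.Modules.pushforward f).obj G) p) :
    CohPull.pushEdge f G p
        (Sheaf.H.map (Coh.smulAb ((Scheme.Modules.pushforward f).obj G) a) p x) =
      Sheaf.H.map (Coh.smulAb G (f.appTop.hom a)) p (CohPull.pushEdge f G p x) := by
  rw [Groth.Agent.Lib.Helper7.PushLinear.smulAb_push f G a,
    Groth.Agent.Lib.Lead.HomExt.smulAb_eq_map_mulHom G (f.appTop.hom a)]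
  rw [pushEdge_eq, pushEdge_eq]
  exact EE_nat f.base (kap f G) (kap f G)
    ((TT Y).map ((Scheme.Modules.pushforward f).map
      (Groth.Agent.Lib.Lead.HomExt.mulHom (X := X) (f.appTop.hom a) G)))
    ((TT X).map (Groth.Agent.Lib.Lead.HomExt.mulHom (X := X) (f.appTop.hom a) G))
    (kap_nat f _) p x

theorem isIso_toPush (hfib : ∀ V : Y.Opens, IsIso (f.app V)) :
    IsIso (SheafOfModules.unitToPushforwardObjUnit f.toRingCatSheafHom) := by
  rw [← isIso_iff_of_reflects_iso _ (SheafOfModules.toSheaf.{u} Y.ringCatSheaf),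
    ← isIso_iff_of_reflects_iso _ (sheafToPresheaf _ AddCommGrpCat.{u})]
  haveI : ∀ U, IsIso (((sheafToPresheaf _ AddCommGrpCat.{u}).map
      ((SheafOfModules.toSheaf.{u} Y.ringCatSheaf).map
        (SheafOfModules.unitToPushforwardObjUnit f.toRingCatSheafHom))).app U) := fun U => by
    haveI := hfib U.unop
    exact inferInstanceAs (IsIso ((forget₂ RingCat AddCommGrpCat).map
      ((forget₂ CommRingCat RingCat).map (f.app U.unop))))
  exact NatIso.isIso_of_isIso_app _

lemma toGlobal_comp' (A : Type u) [CommRing A] [X.Over (Spec (CommRingCat.of A))]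
    [Y.Over (Spec (CommRingCat.of A))]
    (hXS : X ↘ Spec (CommRingCat.of A) = f ≫ (Y ↘ Spec (CommRingCat.of A))) (c : A) :
    Coh.toGlobal (X ↘ Spec (CommRingCat.of A)) c =
      f.appTop.hom (Coh.toGlobal (Y ↘ Spec (CommRingCat.of A)) c) := by
  unfold Coh.toGlobal
  rw [hXS, Scheme.Hom.comp_appTop]
  rfl

end

/-- Let k be a field and f : X → Y a k-morphism between proper k-schemes which is a fibration (Γ(V, O_Y)
→ Γ(f⁻¹V, O_X) bijective for every open V ⊆ Y). Then H^1(Y, O_Y) injects naturally into H^1(X, O_X)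
(edge map of the Leray spectral sequence); stated here as the inequality dim_k H^1(Y, O_Y) ≤ dim_k
H^1(X, O_X) of finite dimensions. -/
theorem result (k : Type u) [Field k] (X Y : Scheme.{u})
    [X.Over (Spec (CommRingCat.of k))] [Y.Over (Spec (CommRingCat.of k))] [IsProper (X ↘ Spec (CommRingCat.of k))] [IsProper (Y ↘ Spec (CommRingCat.of k))]
    (f : X ⟶ Y) (hf : f ≫ (Y ↘ Spec (CommRingCat.of k)) = X ↘ Spec (CommRingCat.of k)) (hfib : ∀ V : Y.Opens, IsIso (f.app V)) :
    Module.finrank k (Coh.HH Y (Coh.structureModule Y) 1) ≤ Module.finrank k (Coh.HH X (Coh.structureModule X) 1) := by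
  classical
  -- the isomorphism `O_Y ≅ f_* O_X`
  have hu : IsIso (SheafOfModules.unitToPushforwardObjUnit f.toRingCatSheafHom) :=
    isIso_toPush f hfib
  let u : Coh.structureModule Y ⟶ (Scheme.Modules.pushforward f).obj (Coh.structureModule X) :=
    SheafOfModules.unitToPushforwardObjUnit f.toRingCatSheafHom
  have hu' : IsIso u := hu
  -- the `k`-linear injection
  let φ₁ : Coh.HH Y (Coh.structureModule Y) 1 →ₗ[k]
      Coh.HH Y ((Scheme.Modules.pushforward f).obj (Coh.structureModule X)) 1 :=
    Canon.HHlin k u 1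
  have hφ₁ : Function.Injective φ₁ := by
    intro x y hxy
    have hid : (Groth.Agent.Lib.Helper13.SerreCrit1.TT Y).map u ≫
        (Groth.Agent.Lib.Helper13.SerreCrit1.TT Y).map (inv u) = 𝟙 _ := by
      rw [← CategoryTheory.Functor.map_comp, IsIso.hom_inv_id, CategoryTheory.Functor.map_id]
    have hback : ∀ z : Coh.HH Y (Coh.structureModule Y) 1,
        Sheaf.H.map ((Groth.Agent.Lib.Helper13.SerreCrit1.TT Y).map (inv u)) 1
          (Sheaf.H.map ((Groth.Agent.Lib.Helper13.SerreCrit1.TT Y).map u) 1 z) = z := by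
      intro z
      rw [← Sheaf.H.map_comp_apply, hid, Sheaf.H.map_id_apply]
    have h := congrArg (Sheaf.H.map ((Groth.Agent.Lib.Helper13.SerreCrit1.TT Y).map (inv u)) 1) hxy
    exact (hback x).symm.trans (h.trans (hback y))
  let φ₂ : Coh.HH Y ((Scheme.Modules.pushforward f).obj (Coh.structureModule X)) 1 →ₗ[k]
      Coh.HH X (Coh.structureModule X) 1 :=
    { toFun := CohPull.pushEdge f (Coh.structureModule X) 1
      map_add' := map_add _
      map_smul' := fun c x => by
        change CohPull.pushEdge f (Coh.structureModule X) 1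
            (Sheaf.H.map (Coh.smulAb _ (Coh.toGlobal (Y ↘ Spec (CommRingCat.of k)) c)) 1 x) =
          Sheaf.H.map (Coh.smulAb _ (Coh.toGlobal (X ↘ Spec (CommRingCat.of k)) c)) 1
            (CohPull.pushEdge f (Coh.structureModule X) 1 x)
        rw [toGlobal_comp' f k hf.symm c]
        exact pushEdge_smulAb f _ 1 _ x }
  have hφ₂ : Function.Injective φ₂ :=
    Groth.Agent.Lib.Helper5.PushEdgeInj.injective_pushEdge_one f (Coh.structureModule X)
  have hfin : Module.Finite k (Coh.HH X (Coh.structureModule X) 1) :=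
    Groth.Agent.S0002.result k X (Coh.structureModule X)
      (Groth.Agent.Lib.Helper23.T2.isCoh_structureModule X) 1
  exact LinearMap.finrank_le_finrank_of_injective (f := φ₂ ∘ₗ φ₁) (hφ₂.comp hφ₁)

end Groth.Agent.S14837
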