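import Groth.Statements.S14839
import Groth.Agent.Lib.Helper19.Coalg3

set_option autoImplicit false
universe u v
open HopfRep

namespace Groth.Agent.S14839

open TensorProduct in
/-- Over a field K, every simple coalgebra is finite-dimensional. Here a subcoalgebra of C is a subspace
B whose comultiplication lands in the image of B ⊗ B in C ⊗ C, and C is simple when it is nonzero
and its only subcoalgebras are 0 and C. -/
theorem result {K : Type u} {C : Type v} [Field K] [AddCommGroup C]
    [Module K C] [Coalgebra K C] [Nontrivial C]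
    (hsimple : ∀ B : Submodule K C,
      (∀ b ∈ B, CoalgebraStruct.comul (R := K) b ∈ LinearMap.range (TensorProduct.map B.subtype B.subtype)) →
        B = ⊥ ∨ B = ⊤) :
    Module.Finite K C := by
  classical
  obtain ⟨c, hc⟩ := exists_ne (0 : C)
  let G : Submodule K C := Groth.Agent.Lib.Helper19.Reynolds.gen (K := K) (C := C) (V := C) c
  have hG : HopfRep.IsSubcomod (k := K) (A := C) G :=
    Groth.Agent.Lib.Helper19.Reynolds.isSubcomod_gen c
  haveI : FiniteDimensional K G := Groth.Agent.Lib.Helper19.Reynolds.finiteDimensional_gen c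
  have hsub : Groth.Agent.Lib.Helper19.Coalg.IsSubcoalg
      (Groth.Agent.Lib.Helper19.Coalg.cfS (C := C) (V := C) G) :=
    Groth.Agent.Lib.Helper19.Coalg.isSubcoalg_cfS G hG
  have hcG : c ∈ Groth.Agent.Lib.Helper19.Coalg.cfS (C := C) (V := C) G :=
    Groth.Agent.Lib.Helper19.Coalg.le_cfS_regular G
      (Groth.Agent.Lib.Helper19.Reynolds.mem_gen c)
  rcases hsimple _ hsub with h | h
  · rw [h, Submodule.mem_bot] at hcG
    exact absurd hcG hc
  · have hfd : FiniteDimensional K (Groth.Agent.Lib.Helper19.Coalg.cfS (C := C) (V := C) G) :=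
      Groth.Agent.Lib.Helper19.Coalg.finiteDimensional_cfS G
    rw [h] at hfd
    exact Module.Finite.equiv (Submodule.topEquiv : (⊤ : Submodule K C) ≃ₗ[K] C)

end Groth.Agent.S14839
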