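import Groth.Statements.S1484
import Mathlib.FieldTheory.AlgebraicClosure
import Mathlib.RingTheory.Ideal.Operations

set_option autoImplicit false
universe u
open FlatMor

namespace Groth.Agent.S1484

theorem step1 {R : Type u} [CommRing R] {r : ℕ} (p : Fin r → Ideal R) [∀ i, (p i).IsPrime]
    (hp : ∀ i j, i ≠ j → ¬ p i ≤ p j) (J : Ideal R) (hJ : ∀ i, ¬ J ≤ p i) :
    ∀ i, ∃ x ∈ J, (∀ j, j ≠ i → x ∈ p j) ∧ x ∉ p i := by
  classical
  intro i
  set P : Ideal R := ∏ j ∈ Finset.univ.erase i, p j with hP
  have hnot : ¬ (J * P ≤ p i) := by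
    intro hle
    rcases (Ideal.IsPrime.mul_le inferInstance).mp hle with h | h
    · exact hJ i h
    · obtain ⟨j, hj, hji⟩ := (Ideal.IsPrime.prod_le inferInstance).mp h
      exact hp j i (Finset.ne_of_mem_erase hj) hji
  obtain ⟨x, hx, hxi⟩ : ∃ x ∈ J * P, x ∉ p i := by
    by_contra hcon
    push Not at hcon
    exact hnot hcon
  have hxJ : x ∈ J := (Ideal.mul_le_left : J * P ≤ J) hx
  have hxP : x ∈ P := (Ideal.mul_le_right : J * P ≤ P) hx
  refine ⟨x, hxJ, ?_, hxi⟩
  intro j hj
  have hmem : j ∈ Finset.univ.erase i := Finset.mem_erase.mpr ⟨hj, Finset.mem_univ j⟩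
  have h1 : P ≤ (Finset.univ.erase i).inf p := Ideal.prod_le_inf
  have h2 : (Finset.univ.erase i).inf p ≤ p j := Finset.inf_le hmem
  exact h2 (h1 hxP)

/-- Let R be a ring, p_1, …, p_r primes of R none of which is contained in another, k_i ⊆ κ(p_i)
subfields over which κ(p_i) is not algebraic, and J an ideal of R contained in none of the p_i. Then
some x ∈ J has image in κ(p_i) transcendental over k_i for every i. -/
theorem result {R : Type u} [CommRing R] {r : ℕ} (p : Fin r → Ideal R) [∀ i, (p i).IsPrime]
    (hp : ∀ i j, i ≠ j → ¬ p i ≤ p j) (k : ∀ i, Subfield (p i).ResidueField)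
    (hk : ∀ i, ¬ Algebra.IsAlgebraic ↥(k i) (p i).ResidueField) (J : Ideal R) (hJ : ∀ i, ¬ J ≤ p i) :
    ∃ x ∈ J, ∀ i, Transcendental ↥(k i) (algebraMap R (p i).ResidueField x) := by
  classical
  have h1 := step1 p hp J hJ
  -- Step 2: an element of `R` with transcendental image
  have h2 : ∀ i, ∃ a : R, Transcendental ↥(k i) (algebraMap R (p i).ResidueField a) := by
    intro i
    by_contra hcon
    push Not at hcon
    apply hk i
    refine ⟨fun z => ?_⟩
    have hall : ∀ a : R, algebraMap R (p i).ResidueField a ∈ algebraicClosure ↥(k i) (p i).ResidueField := by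
      intro a
      rw [mem_algebraicClosure_iff]
      exact not_not.mp (hcon a)
    obtain ⟨a, b, -, rfl⟩ := IsFractionRing.div_surjective (A := R ⧸ p i) z
    obtain ⟨a, rfl⟩ := Ideal.Quotient.mk_surjective a
    obtain ⟨b, rfl⟩ := Ideal.Quotient.mk_surjective b
    rw [← mem_algebraicClosure_iff]
    have ha := hall a
    have hb := hall b
    rw [IsScalarTower.algebraMap_apply R (R ⧸ p i) (p i).ResidueField] at ha hb
    exact div_mem ha hb
  choose x hxJ hxp hxi using h1
  choose a ha using h2
  -- Step 3
  let y : Fin r → R := fun i =>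
    if Transcendental ↥(k i) (algebraMap R (p i).ResidueField (x i)) then x i else x i * a i
  have hyJ : ∀ i, y i ∈ J := by
    intro i
    simp only [y]
    split_ifs
    · exact hxJ i
    · exact J.mul_mem_right _ (hxJ i)
  have hyp : ∀ i j, j ≠ i → y i ∈ p j := by
    intro i j hj
    simp only [y]
    split_ifs
    · exact hxp i j hj
    · exact (p j).mul_mem_right _ (hxp i j hj)
  have hyt : ∀ i, Transcendental ↥(k i) (algebraMap R (p i).ResidueField (y i)) := by
    intro i
    simp only [y]
    split_ifs with h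
    · exact h
    · rw [map_mul]
      intro halg
      apply ha i
      have hx0 : algebraMap R (p i).ResidueField (x i) ≠ 0 := by
        rw [Ne, Ideal.algebraMap_residueField_eq_zero]
        exact hxi i
      have hxa : IsAlgebraic ↥(k i) (algebraMap R (p i).ResidueField (x i)) := not_not.mp h
      rw [← mem_algebraicClosure_iff] at hxa halg ⊢
      have := mul_mem (inv_mem hxa) halg
      rwa [inv_mul_cancel_left₀ hx0] at this
  refine ⟨∑ i, y i, J.sum_mem fun i _ => hyJ i, fun i => ?_⟩
  rw [map_sum, Finset.sum_eq_single i]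
  · exact hyt i
  · intro j _ hj
    rw [Ideal.algebraMap_residueField_eq_zero]
    exact hyp j i (Ne.symm hj)
  · intro h
    exact absurd (Finset.mem_univ i) h

end Groth.Agent.S1484
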