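import Groth.Statements.S14840
import Groth.Agent.Lib.Helper11.RFP4

set_option autoImplicit false
open CategoryTheory MonoidalCategory CartesianMonoidalCategory AlgebraicGeometry
universe u
open AlgGrp

namespace Groth.Agent.S14840

open Groth.Agent.Lib.Helper11 in
theorem locProj {S : Scheme.{u}} (G : Over S)
    (hfree : ∀ s : S, ∃ U : S.affineOpens, s ∈ (U : S.Opens) ∧
      @Module.Free Γ(S, U) Γ(G.left, G.hom ⁻¹ᵁ U) _ _ (G.hom.app U).hom.toAlgebra.toModule) :
    RFP4.LocProj G := by
  intro s
  obtain ⟨U, hsU, hf⟩ := hfree s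
  letI := (G.hom.app U).hom.toAlgebra
  exact ⟨U.1, U.2, hsU, Module.Projective.of_free⟩

/-- Let G be a group scheme over a scheme S, affine over S and with structure sheaf locally free over
O_S (each point of S has an affine open neighbourhood U such that the sections of O_G over the
preimage of U form a free module over the sections of O_S over U), acting on an S-scheme Y which is
separated over S. Then the subfunctor of G-fixed points of Y is a closed subfunctor: there are an
S-scheme Z and a closed immersion i : Z → Y over S such that a T-valued point y of Y factors through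
i exactly when it is fixed, i.e. g · y = y for every S-scheme T' over T and every T'-valued point g
of G. -/
theorem result
    {S : Scheme.{u}} (G Y : Over S) [GrpObj G] (a : AlgGrp.Action G Y)
    [IsAffineHom G.hom] [IsSeparated Y.hom]
    (hfree : ∀ s : S, ∃ U : S.affineOpens, s ∈ (U : S.Opens) ∧
      @Module.Free Γ(S, U) Γ(G.left, G.hom ⁻¹ᵁ U) _ _ (G.hom.app U).hom.toAlgebra.toModule) :
    ∃ (Z : Over S) (i : Z ⟶ Y), IsClosedImmersion i.left ∧
      ∀ (T : Over S) (y : T ⟶ Y),
        (∀ (T' : Over S) (t : T' ⟶ T) (g : T' ⟶ G), lift g (t ≫ y) ≫ a.act = t ≫ y) ↔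
          ∃ z : T ⟶ Z, z ≫ i = y := by
  obtain ⟨Z, i, hi, H⟩ := Groth.Agent.Lib.Helper11.RFP4.over_eq_sep G Y Y (locProj G hfree)
    a.act (snd G Y)
  refine ⟨Z, i, hi, fun T y => ?_⟩
  rw [H T y]
  exact Groth.Agent.Lib.Helper11.RFP4.fixed_iff a.act y

end Groth.Agent.S14840
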