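-- S14846 (lead)
import Groth.Statements.S14846
import Mathlib

set_option autoImplicit false
set_option linter.style.haveILetI false
universe u v w
open Brauer

namespace Groth.Agent.S14846

open TensorProduct

section Aux

variable {K : Type u} {L : Type v} [Field K] [Field L] [Algebra K L]
  {A : Type w} [Ring A] [Algebra K A]

/-- `γ ⊗ id`. -/
noncomputable def Φ (γ : L ≃ₐ[K] L) : L ⊗[K] A →ₐ[K] L ⊗[K] A :=
  Algebra.TensorProduct.map (γ : L →ₐ[K] L) (AlgHom.id K A)

theorem Φ_tmul (γ : L ≃ₐ[K] L) (l : L) (a : A) : Φ γ (l ⊗ₜ[K] a) = γ l ⊗ₜ[K] a := by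
  unfold Φ
  rw [Algebra.TensorProduct.map_tmul]
  rfl

theorem Φ_mul (γ δ : L ≃ₐ[K] L) (x : L ⊗[K] A) : Φ γ (Φ δ x) = Φ (γ * δ) x := by
  induction x using TensorProduct.induction_on with
  | zero => simp only [map_zero]
  | tmul l a =>
    rw [Φ_tmul, Φ_tmul, Φ_tmul]
    rfl
  | add x y hx hy => simp only [map_add, hx, hy]

theorem Φ_one (x : L ⊗[K] A) : Φ (1 : L ≃ₐ[K] L) x = x := by
  induction x using TensorProduct.induction_on with
  | zero => simp only [map_zero]
  | tmul l a =>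
    rw [Φ_tmul]
    rfl
  | add x y hx hy => simp only [map_add, hx, hy]

theorem Φ_inv_Φ (γ : L ≃ₐ[K] L) (x : L ⊗[K] A) : Φ γ⁻¹ (Φ γ x) = x := by
  rw [Φ_mul, inv_mul_cancel, Φ_one]

theorem Φ_Φ_inv (γ : L ≃ₐ[K] L) (x : L ⊗[K] A) : Φ γ (Φ γ⁻¹ x) = x := by
  rw [Φ_mul, mul_inv_cancel, Φ_one]

variable {ι : Type*} (b : Module.Basis ι K A)

/-- The induced `L`-basis of `L ⊗ A`. -/
noncomputable abbrev BB : Module.Basis ι L (L ⊗[K] A) := Algebra.TensorProduct.basis L b

theorem repr_Φ (γ : L ≃ₐ[K] L) (x : L ⊗[K] A) (i : ι) :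
    (BB (L := L) b).repr (Φ γ x) i = γ ((BB (L := L) b).repr x i) := by
  induction x using TensorProduct.induction_on with
  | zero => simp only [map_zero, Finsupp.zero_apply]
  | tmul l a =>
    simp only [Φ_tmul, Algebra.TensorProduct.basis_repr_tmul, Finsupp.smul_apply,
      Finsupp.mapRange_apply, smul_eq_mul, map_mul, AlgEquiv.commutes]
  | add x y hx hy => simp only [map_add, Finsupp.add_apply, hx, hy]

theorem one_mem_of_stable [IsGalois K L] [IsSimpleRing A] (b : Module.Basis ι K A)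
    (M : TwoSidedIdeal (L ⊗[K] A))
    (hstab : ∀ (γ : L ≃ₐ[K] L) (x : L ⊗[K] A), x ∈ M → Φ γ x ∈ M)
    (hne : M ≠ ⊥) : (1 : L ⊗[K] A) ∈ M := by
  classical
  have hsmul : ∀ (l : L) (x : L ⊗[K] A), x ∈ M → l • x ∈ M := by
    intro l x hx
    rw [Algebra.smul_def]
    exact M.mul_mem_left _ _ hx
  have hex : ∃ n, ∃ x ∈ M, x ≠ 0 ∧ ((BB (L := L) b).repr x).support.card = n := by
    obtain ⟨x, hx, hx0⟩ : ∃ x ∈ M, x ≠ 0 := by
      by_contra h
      push_neg at h
      apply hne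
      rw [eq_bot_iff]
      intro x hx
      rw [TwoSidedIdeal.mem_bot]
      exact h x hx
    exact ⟨_, x, hx, hx0, rfl⟩
  obtain ⟨x, hxM, hx0, hxn⟩ := Nat.find_spec hex
  have hmin : ∀ z ∈ M, ((BB (L := L) b).repr z).support.card < Nat.find hex → z = 0 := by
    intro z hz hlt
    by_contra hz0
    exact Nat.find_min hex hlt ⟨z, hz, hz0, rfl⟩
  have hsupp : ((BB (L := L) b).repr x).support.Nonempty := by
    rw [Finsupp.support_nonempty_iff]
    intro h
    exact hx0 ((BB (L := L) b).repr.map_eq_zero_iff.1 h)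
  obtain ⟨i₀, hi₀⟩ := hsupp
  have hc : (BB (L := L) b).repr x i₀ ≠ 0 := Finsupp.mem_support_iff.1 hi₀
  obtain ⟨x', hx'⟩ : ∃ x' : L ⊗[K] A, x' = ((BB (L := L) b).repr x i₀)⁻¹ • x := ⟨_, rfl⟩
  have hx'M : x' ∈ M := by rw [hx']; exact hsmul _ _ hxM
  have hrepr' : ∀ i, (BB (L := L) b).repr x' i =
      ((BB (L := L) b).repr x i₀)⁻¹ * (BB (L := L) b).repr x i := by
    intro i
    rw [hx', map_smul, Finsupp.smul_apply, smul_eq_mul]
  have h1 : (BB (L := L) b).repr x' i₀ = 1 := by rw [hrepr', inv_mul_cancel₀ hc]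
  have hfix : ∀ (γ : L ≃ₐ[K] L) i, γ ((BB (L := L) b).repr x' i) = (BB (L := L) b).repr x' i := by
    intro γ i
    have hz : Φ γ x' - x' ∈ M := M.sub_mem (hstab γ x' hx'M) hx'M
    have hzrepr : ∀ j, (BB (L := L) b).repr (Φ γ x' - x') j =
        γ ((BB (L := L) b).repr x' j) - (BB (L := L) b).repr x' j := by
      intro j
      rw [map_sub, Finsupp.sub_apply, repr_Φ]
    have hsub : ((BB (L := L) b).repr (Φ γ x' - x')).support ⊆
        ((BB (L := L) b).repr x).support.erase i₀ := by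
      intro j hj
      rw [Finsupp.mem_support_iff, hzrepr] at hj
      rw [Finset.mem_erase, Finsupp.mem_support_iff]
      constructor
      · rintro rfl
        apply hj
        rw [h1, map_one, sub_self]
      · intro h0
        apply hj
        rw [hrepr', h0, mul_zero, map_zero, sub_self]
    have hcard : ((BB (L := L) b).repr (Φ γ x' - x')).support.card < Nat.find hex := by
      calc ((BB (L := L) b).repr (Φ γ x' - x')).support.card
          ≤ (((BB (L := L) b).repr x).support.erase i₀).card := Finset.card_le_card hsub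
        _ < ((BB (L := L) b).repr x).support.card := Finset.card_erase_lt_of_mem hi₀
        _ = Nat.find hex := hxn
    have hz0 := hmin _ hz hcard
    have h5 := hzrepr i
    rw [hz0, map_zero, Finsupp.zero_apply] at h5
    exact sub_eq_zero.1 h5.symm
  have hK : ∀ i, ∃ c : K, algebraMap K L c = (BB (L := L) b).repr x' i := fun i =>
    (InfiniteGalois.mem_range_algebraMap_iff_fixed ((BB (L := L) b).repr x' i)).2
      (fun γ => hfix γ i)
  choose c hcK using hK
  have hcsupp : ∀ i, c i ≠ 0 → i ∈ ((BB (L := L) b).repr x').support := by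
    intro i hci
    rw [Finsupp.mem_support_iff, ← hcK i]
    exact (_root_.map_ne_zero _).2 hci
  obtain ⟨g, hg⟩ : ∃ g : ι →₀ K, ∀ i, g i = c i :=
    ⟨Finsupp.onFinset _ c hcsupp, fun i => Finsupp.onFinset_apply⟩
  obtain ⟨a₀, ha₀⟩ : ∃ a₀ : A, b.repr a₀ = g := ⟨b.repr.symm g, b.repr.apply_symm_apply g⟩
  have hx'eq : x' = (1 : L) ⊗ₜ[K] a₀ := by
    apply (BB (L := L) b).repr.injective
    ext i
    rw [Algebra.TensorProduct.basis_repr_tmul, one_smul, Finsupp.mapRange_apply, ha₀, hg, hcK]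
  have hx'0 : x' ≠ 0 := by
    intro h
    rw [h, map_zero, Finsupp.zero_apply] at h1
    exact zero_ne_one h1
  have ha₀0 : a₀ ≠ 0 := by
    rintro rfl
    rw [TensorProduct.tmul_zero] at hx'eq
    exact hx'0 hx'eq
  have hmem : a₀ ∈ TwoSidedIdeal.comap (Algebra.TensorProduct.includeRight : A →ₐ[K] L ⊗[K] A) M := by
    rw [TwoSidedIdeal.mem_comap, Algebra.TensorProduct.includeRight_apply, ← hx'eq]
    exact hx'M
  have htop : TwoSidedIdeal.comap (Algebra.TensorProduct.includeRight : A →ₐ[K] L ⊗[K] A) M = ⊤ := by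
    rcases eq_bot_or_eq_top
      (TwoSidedIdeal.comap (Algebra.TensorProduct.includeRight : A →ₐ[K] L ⊗[K] A) M) with h | h
    · rw [h, TwoSidedIdeal.mem_bot] at hmem
      exact absurd hmem ha₀0
    · exact h
  have h1mem : (1 : A) ∈
      TwoSidedIdeal.comap (Algebra.TensorProduct.includeRight : A →ₐ[K] L ⊗[K] A) M := by
    rw [htop]
    exact TwoSidedIdeal.mem_top _
  rw [TwoSidedIdeal.mem_comap, map_one] at h1mem
  exact h1mem

end Aux


open TensorProduct in
/-- Let L/K be a Galois extension with group Γ = Aut_K(L), and A a K-algebra which is a simple ring. If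
L ⊗_K A is semisimple, then Γ, acting on L ⊗_K A through the first tensor factor, permutes its
simple components, i.e. its minimal nonzero two-sided ideals, transitively: any minimal two-sided
ideal is carried onto any other by some γ ⊗ id. -/
theorem result
    {K : Type u} {L : Type v} [Field K] [Field L] [Algebra K L] [IsGalois K L]
    {A : Type w} [Ring A] [Algebra K A] [IsSimpleRing A]
    [IsSemisimpleRing (L ⊗[K] A)]
    (I J : TwoSidedIdeal (L ⊗[K] A)) (hI : IsAtom I) (hJ : IsAtom J) :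
    ∃ γ : L ≃ₐ[K] L, (J : Set (L ⊗[K] A)) =
      Algebra.TensorProduct.map (γ : L →ₐ[K] L) (AlgHom.id K A) '' (I : Set (L ⊗[K] A)) := by
  classical
  by_contra hcon
  push_neg at hcon
  -- the right annihilator of `J`
  obtain ⟨N, hN⟩ : ∃ N : TwoSidedIdeal (L ⊗[K] A), ∀ s, s ∈ N ↔ ∀ x ∈ J, x * s = 0 := by
    refine ⟨TwoSidedIdeal.mk' {s | ∀ x ∈ J, x * s = 0}
      (fun x _ => mul_zero x)
      (fun {s t} hs ht x hx => by rw [mul_add, hs x hx, ht x hx, add_zero])
      (fun {s} hs x hx => by rw [mul_neg, hs x hx, neg_zero])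
      (fun {t s} hs x hx => by rw [← mul_assoc, hs (x * t) (J.mul_mem_right _ _ hx)])
      (fun {s t} hs x hx => by rw [← mul_assoc, hs x hx, zero_mul]), fun s => ?_⟩
    rw [TwoSidedIdeal.mem_mk']
    rfl
  have hIN : ∀ (γ : L ≃ₐ[K] L) (s : L ⊗[K] A), s ∈ I → Φ γ s ∈ N := by
    intro γ s hs
    rw [hN]
    intro x hx
    by_contra hne
    apply hcon γ
    -- the ideal `Iγ`
    have hmemJ : x * Φ γ s ∈ J := J.mul_mem_right _ _ hx
    have hmemI : x * Φ γ s ∈ TwoSidedIdeal.comap (Φ γ⁻¹) I := by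
      apply TwoSidedIdeal.mul_mem_left
      rw [TwoSidedIdeal.mem_comap, Φ_inv_Φ]
      exact hs
    have hinf : J ⊓ TwoSidedIdeal.comap (Φ γ⁻¹) I = J := by
      rcases hJ.le_iff.1 (inf_le_left : J ⊓ TwoSidedIdeal.comap (Φ γ⁻¹) I ≤ J) with h | h
      · exfalso
        have h3 : x * Φ γ s ∈ J ⊓ TwoSidedIdeal.comap (Φ γ⁻¹) I :=
          (TwoSidedIdeal.mem_inf _).2 ⟨hmemJ, hmemI⟩
        rw [h, TwoSidedIdeal.mem_bot] at h3
        exact hne h3
      · exact h
    have hJle : ∀ y, y ∈ J → Φ γ⁻¹ y ∈ I := by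
      intro y hy
      have h3 : y ∈ J ⊓ TwoSidedIdeal.comap (Φ γ⁻¹) I := by rw [hinf]; exact hy
      exact (TwoSidedIdeal.mem_comap _).1 ((TwoSidedIdeal.mem_inf _).1 h3).2
    -- `comap (Φ γ) J ≤ I`, nonzero, hence equal to `I`
    have hle : TwoSidedIdeal.comap (Φ γ) J ≤ I := by
      intro z hz
      rw [TwoSidedIdeal.mem_comap] at hz
      have := hJle _ hz
      rwa [Φ_inv_Φ] at this
    have hne' : TwoSidedIdeal.comap (Φ γ) J ≠ ⊥ := by
      intro h
      apply hJ.1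
      rw [eq_bot_iff]
      intro y hy
      have h3 : Φ γ⁻¹ y ∈ TwoSidedIdeal.comap (Φ γ) J := by
        rw [TwoSidedIdeal.mem_comap, Φ_Φ_inv]
        exact hy
      rw [h, TwoSidedIdeal.mem_bot] at h3
      rw [TwoSidedIdeal.mem_bot]
      have h4 := congrArg (Φ γ) h3
      rwa [Φ_Φ_inv, map_zero] at h4
    have heq : TwoSidedIdeal.comap (Φ γ) J = I := by
      rcases hI.le_iff.1 hle with h | h
      · exact absurd h hne'
      · exact h
    ext y
    constructor
    · intro hy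
      refine ⟨Φ γ⁻¹ y, hJle y hy, ?_⟩
      exact Φ_Φ_inv γ y
    · rintro ⟨z, hz, rfl⟩
      have hz' : z ∈ TwoSidedIdeal.comap (Φ γ) J := by rw [heq]; exact hz
      exact (TwoSidedIdeal.mem_comap _).1 hz'
  -- the Γ-stable ideal
  have hstab : ∀ (γ : L ≃ₐ[K] L) (x : L ⊗[K] A), x ∈ (⨅ δ : L ≃ₐ[K] L, TwoSidedIdeal.comap (Φ δ) N) →
      Φ γ x ∈ (⨅ δ : L ≃ₐ[K] L, TwoSidedIdeal.comap (Φ δ) N) := by
    intro γ x hx
    rw [TwoSidedIdeal.mem_iInf] at hx ⊢
    intro δ
    rw [TwoSidedIdeal.mem_comap, Φ_mul]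
    exact (TwoSidedIdeal.mem_comap _).1 (hx (δ * γ))
  have hIle : I ≤ ⨅ δ : L ≃ₐ[K] L, TwoSidedIdeal.comap (Φ δ) N := by
    intro s hs
    rw [TwoSidedIdeal.mem_iInf]
    intro δ
    rw [TwoSidedIdeal.mem_comap]
    exact hIN δ s hs
  have hne : (⨅ δ : L ≃ₐ[K] L, TwoSidedIdeal.comap (Φ δ) N) ≠ ⊥ := by
    intro h
    rw [h, le_bot_iff] at hIle
    exact hI.1 hIle
  have h1 := one_mem_of_stable (Module.Basis.ofVectorSpace K A) _ hstab hne
  rw [TwoSidedIdeal.mem_iInf] at h1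
  have h2 := (TwoSidedIdeal.mem_comap _).1 (h1 1)
  rw [map_one, hN] at h2
  apply hJ.1
  rw [eq_bot_iff]
  intro y hy
  rw [TwoSidedIdeal.mem_bot]
  have := h2 y hy
  rwa [mul_one] at this

end Groth.Agent.S14846
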