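import Groth.Statements.S14848
-- import your own Groth.Agent.* helpers here
import Mathlib

set_option autoImplicit false
universe u v
open McKay

namespace Groth.Agent.S14848

/-- Let K be a field of characteristic zero, L an extension field of K and ξ ∈ L a primitive n-th root
of unity (n ≥ 1) with ξ + ξ⁻¹ ∈ K, say ξ + ξ⁻¹ = 2c with c ∈ K (the character of the natural
two-dimensional representation of the cyclic group of order n takes values in K). Then the cyclic
group of order n is realisable over K as a subgroup of SL(2, K): there is an element of SL(2, K) of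
order n. -/
theorem result {K : Type u} {L : Type v} [Field K] [Field L]
    [CharZero K] [Algebra K L] (n : ℕ) (hn : 1 ≤ n) (ξ : L) (hξ : IsPrimitiveRoot ξ n) (c : K)
    (hc : algebraMap K L (2 * c) = ξ + ξ⁻¹) :
    ∃ M : Matrix.SpecialLinearGroup (Fin 2) K, orderOf M = n := by
  classical
  rcases (by omega : n = 1 ∨ n = 2 ∨ 3 ≤ n) with rfl | rfl | hn3
  · exact ⟨1, orderOf_one⟩
  · refine ⟨-1, ?_⟩
    have h2 : (2 : K) ≠ 0 := two_ne_zero
    apply orderOf_eq_prime
    · simp
    · intro h
      have := congrArg (fun A : Matrix.SpecialLinearGroup (Fin 2) K => (A : Matrix (Fin 2) (Fin 2) K) 0 0) h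
      simp only [Matrix.SpecialLinearGroup.coe_neg, Matrix.SpecialLinearGroup.coe_one,
        Matrix.neg_apply, Matrix.one_apply_eq] at this
      apply h2
      linear_combination -this
  · have hn0 : 0 < n := by omega
    have hξ0 : ξ ≠ 0 := hξ.ne_zero (by omega)
    have hξ2 : ξ ^ 2 ≠ 1 := hξ.pow_ne_one_of_pos_of_lt (by norm_num) (by omega)
    let M : Matrix.SpecialLinearGroup (Fin 2) K :=
      ⟨!![0, -1; 1, 2 * c], by simp [Matrix.det_fin_two]⟩
    let ML : Matrix (Fin 2) (Fin 2) L := !![0, -1; 1, ξ + ξ⁻¹]
    let P : Matrix (Fin 2) (Fin 2) L := !![1, 1; -ξ, -ξ⁻¹]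
    let D : ℕ → Matrix (Fin 2) (Fin 2) L := fun j => !![ξ ^ j, 0; 0, ξ⁻¹ ^ j]
    have hML : (algebraMap K L).mapMatrix (M : Matrix (Fin 2) (Fin 2) K) = ML := by
      ext i j
      fin_cases i <;> fin_cases j <;> simp [M, ML, ← hc]
    have hMP : ML * P = P * D 1 := by
      ext i j
      fin_cases i <;> fin_cases j <;> simp [ML, P, D, Matrix.mul_apply, Fin.sum_univ_two] <;>
        field_simp <;> ring
    have hDD : ∀ j, D j * D 1 = D (j + 1) := by
      intro j
      ext a b
      fin_cases a <;> fin_cases b <;> simp [D, Matrix.mul_apply, Fin.sum_univ_two, pow_succ, mul_comm]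
    have hconj : ∀ j, ML ^ j * P = P * D j := by
      intro j
      induction j with
      | zero =>
        have : D 0 = 1 := by
          ext a b
          fin_cases a <;> fin_cases b <;> simp [D]
        rw [pow_zero, one_mul, this, mul_one]
      | succ j ih =>
        rw [pow_succ, mul_assoc, hMP, ← mul_assoc, ih, mul_assoc, hDD]
    have hPdet : IsUnit P.det := by
      rw [isUnit_iff_ne_zero]
      simp only [P, Matrix.det_fin_two_of]
      intro h
      apply hξ2
      have h' : ξ = ξ⁻¹ := by linear_combination h
      calc ξ ^ 2 = ξ * ξ := pow_two ξ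
        _ = ξ * ξ⁻¹ := by rw [← h']
        _ = 1 := mul_inv_cancel₀ hξ0
    have hkey : ∀ j, ML ^ j = 1 ↔ ξ ^ j = 1 := by
      intro j
      constructor
      · intro h
        have h1 := hconj j
        rw [h, one_mul] at h1
        have h2 : D j = 1 := by
          have := congrArg (fun A => P⁻¹ * A) h1
          simp only [← mul_assoc, Matrix.nonsing_inv_mul P hPdet, one_mul] at this
          exact this.symm
        have := congrArg (fun A : Matrix (Fin 2) (Fin 2) L => A 0 0) h2
        simpa [D] using this
      · intro h
        have hD : D j = 1 := by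
          ext a b
          fin_cases a <;> fin_cases b <;> simp [D, h, inv_pow]
        have h1 := hconj j
        rw [hD, mul_one] at h1
        have := congrArg (fun A => A * P⁻¹) h1
        simp only [mul_assoc, Matrix.mul_nonsing_inv P hPdet, mul_one] at this
        exact this
    refine ⟨M, ?_⟩
    rw [hξ.eq_orderOf, orderOf_eq_orderOf_iff]
    intro j
    rw [← hkey j, ← hML, ← map_pow]
    constructor
    · intro h
      rw [← Matrix.SpecialLinearGroup.coe_pow, h, Matrix.SpecialLinearGroup.coe_one, map_one]
    · intro h
      apply Subtype.ext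
      rw [Matrix.SpecialLinearGroup.coe_pow, Matrix.SpecialLinearGroup.coe_one]
      have hinj : Function.Injective ((algebraMap K L).mapMatrix (m := Fin 2)) :=
        Matrix.map_injective (FaithfulSMul.algebraMap_injective K L)
      apply hinj
      rw [h, map_one]

end Groth.Agent.S14848
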