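import Mathlib
import Groth.Statements.S14849


set_option autoImplicit false
universe u v
open McKay

namespace Aux14849
open Polynomial Matrix


section grp
variable {G : Type*} [Group G]

theorem hom_of_rel (n : ℕ) (hn : 2 ≤ n) (M N : G)
    (hM2n : M ^ (2 * n) = 1) (hMn : M ^ n = N * N)
    (hord : ∀ k : ℕ, M ^ k = 1 → 2 * n ∣ k) (hMNM : M * N * M = N) :
    ∃ f : QuaternionGroup n →* G, Function.Injective f := by
  haveI : NeZero (2 * n) := ⟨by omega⟩
  have hMN : M * N = N * M⁻¹ := by rw [eq_mul_inv_iff_mul_eq]; exact hMNM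
  have hconj : ∀ k : ℕ, M ^ k * N = N * (M ^ k)⁻¹ := by
    intro k
    induction k with
    | zero => simp
    | succ k ih =>
      calc M ^ (k + 1) * N = M ^ k * (M * N) := by rw [pow_succ, mul_assoc]
        _ = (M ^ k * N) * M⁻¹ := by rw [hMN, mul_assoc]
        _ = N * ((M ^ k)⁻¹ * M⁻¹) := by rw [ih, mul_assoc]
        _ = N * (M ^ (k + 1))⁻¹ := by rw [← _root_.mul_inv_rev, ← pow_succ']
  let g : ZMod (2 * n) → G := fun i => M ^ i.val
  have g_add : ∀ i j, g (i + j) = g i * g j := by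
    intro i j
    show M ^ (i + j).val = M ^ i.val * M ^ j.val
    rw [ZMod.val_add, ← pow_add, ← pow_eq_pow_mod _ hM2n]
  have g_sub : ∀ i j, g (j - i) = (g i)⁻¹ * g j := by
    intro i j
    rw [eq_inv_mul_iff_mul_eq, ← g_add]
    congr 1
    ring
  have g_n : g (n : ZMod (2 * n)) = N * N := by
    show M ^ ((n : ℕ) : ZMod (2 * n)).val = N * N
    rw [ZMod.val_natCast, Nat.mod_eq_of_lt (by omega), hMn]
  have g_conj : ∀ i, g i * N = N * (g i)⁻¹ := fun i => hconj _
  let F : QuaternionGroup n → G := fun x => match x with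
    | .a i => g i
    | .xa i => N * g i
  have F_mul : ∀ x y, F (x * y) = F x * F y := by
    rintro (i | i) (j | j)
    · show F (QuaternionGroup.a i * QuaternionGroup.a j) = g i * g j
      rw [QuaternionGroup.a_mul_a]
      exact g_add i j
    · show F (QuaternionGroup.a i * QuaternionGroup.xa j) = g i * (N * g j)
      rw [QuaternionGroup.a_mul_xa]
      show N * g (j - i) = g i * (N * g j)
      rw [g_sub, ← mul_assoc (g i), g_conj, mul_assoc]
    · show F (QuaternionGroup.xa i * QuaternionGroup.a j) = N * g i * g j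
      rw [QuaternionGroup.xa_mul_a]
      show N * g (i + j) = N * g i * g j
      rw [g_add, mul_assoc]
    · show F (QuaternionGroup.xa i * QuaternionGroup.xa j) = N * g i * (N * g j)
      rw [QuaternionGroup.xa_mul_xa]
      show g ((n : ZMod (2 * n)) + j - i) = N * g i * (N * g j)
      rw [add_sub_assoc, g_add, g_n, g_sub, mul_assoc N (g i), ← mul_assoc (g i), g_conj]
      simp only [mul_assoc]
  refine ⟨MonoidHom.mk' F F_mul, ?_⟩
  rw [injective_iff_map_eq_one]
  rintro (i | i) hx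
  · have h1 : M ^ i.val = 1 := hx
    have h2 := hord _ h1
    have h3 : i.val < 2 * n := ZMod.val_lt i
    have h4 : i.val = 0 := Nat.eq_zero_of_dvd_of_lt h2 h3
    have h5 : i = 0 := (ZMod.val_eq_zero i).mp h4
    rw [h5, QuaternionGroup.one_def]
  · exfalso
    have h1 : N * M ^ i.val = 1 := hx
    have hN : N = (M ^ i.val)⁻¹ := eq_inv_of_mul_eq_one_left h1
    have hcomm : Commute M N := by
      rw [hN]; exact ((Commute.refl M).pow_right _).inv_right
    have hMM : M ^ 2 = 1 := by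
      rw [pow_two]
      apply mul_left_cancel (a := N)
      rw [← mul_assoc, ← hcomm.eq, hMNM, mul_one]
    have h2 := hord 2 hMM
    have h3 := Nat.le_of_dvd (by norm_num) h2
    omega

end grp

variable {K : Type u} {L : Type v} [Field K] [Field L] [Algebra K L]

/-- the quadratic `X² - 2cX + 1` -/
noncomputable def q (c : K) : K[X] := X ^ 2 - (C (2 * c) * X - 1)

lemma lin_degree (c : K) : (C (2 * c) * X - 1 : K[X]).degree < 2 := by
  refine (degree_sub_le _ _).trans_lt (max_lt (lt_of_le_of_lt (degree_C_mul_X_le _) ?_) ?_)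
  · exact_mod_cast (by norm_num : (1:ℕ) < 2)
  · rw [degree_one]; exact_mod_cast (by norm_num : (0:ℕ) < 2)

lemma q_monic (c : K) : (q c).Monic := monic_X_pow_sub (lin_degree c)

lemma q_degree (c : K) : (q c).degree = 2 := by
  unfold q
  rw [degree_sub_eq_left_of_degree_lt, degree_X_pow]; · rfl
  rw [degree_X_pow]; exact lin_degree c

def M0 (c : K) : Matrix (Fin 2) (Fin 2) K := !![0, 1; -1, 2 * c]

def N0 (c x y : K) : Matrix (Fin 2) (Fin 2) K :=
  !![x - c * y, y; y + 2 * c * (x - c * y), -(x - c * y)]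

lemma det_M0 (c : K) : (M0 c).det = 1 := by
  simp [M0, Matrix.det_fin_two]

lemma det_N0 (c x y : K) (hxy : x ^ 2 - (c ^ 2 - 1) * y ^ 2 = -1) : (N0 c x y).det = 1 := by
  rw [N0, Matrix.det_fin_two_of]
  linear_combination (-1 : K) * hxy

lemma N0_sq (c x y : K) (hxy : x ^ 2 - (c ^ 2 - 1) * y ^ 2 = -1) :
    N0 c x y * N0 c x y = -1 := by
  ext i j
  fin_cases i <;> fin_cases j <;>
    simp [N0, Matrix.mul_apply, Fin.sum_univ_two] <;>
    first | ring1 | linear_combination hxy

lemma M0_N0_M0 (c x y : K) : M0 c * N0 c x y * M0 c = N0 c x y := by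
  ext i j
  fin_cases i <;> fin_cases j <;>
    simp [M0, N0, Matrix.mul_apply, Fin.sum_univ_two] <;> ring1

lemma aeval_M0_q (c : K) : aeval (M0 c) (q c) = 0 := by
  simp only [q, map_sub, map_pow, map_mul, aeval_X, aeval_C, map_one]
  ext i j
  fin_cases i <;> fin_cases j <;>
    simp [M0, pow_two, Matrix.mul_apply, Fin.sum_univ_two, Matrix.algebraMap_matrix_apply] <;>
    ring1

lemma aeval_xi_q (c : K) (ξ : L) (hξ0 : ξ ≠ 0) (hc : algebraMap K L (2 * c) = ξ + ξ⁻¹) :
    aeval ξ (q c) = 0 := by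
  have : aeval ξ (q c) = ξ ^ 2 - (algebraMap K L (2 * c) * ξ - 1) := by
    simp only [q, map_sub, map_pow, map_mul, aeval_X, aeval_C, map_one]
  rw [this, hc]
  have h : ξ⁻¹ * ξ = 1 := inv_mul_cancel₀ hξ0
  linear_combination (-1 : L) * h

lemma aeval_xi_inv_q (c : K) (ξ : L) (hξ0 : ξ ≠ 0) (hc : algebraMap K L (2 * c) = ξ + ξ⁻¹) :
    aeval ξ⁻¹ (q c) = 0 := by
  have : aeval ξ⁻¹ (q c) = ξ⁻¹ ^ 2 - (algebraMap K L (2 * c) * ξ⁻¹ - 1) := by
    simp only [q, map_sub, map_pow, map_mul, aeval_X, aeval_C, map_one]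
  rw [this, hc]
  have h : ξ * ξ⁻¹ = 1 := mul_inv_cancel₀ hξ0
  linear_combination (-1 : L) * h

/-- remainder form -/
lemma rem_form (c : K) (P : K[X]) : ∃ (d : K[X]) (u w : K), P = q c * d + (C u * X + C w) := by
  have hdiv := modByMonic_add_div P (q c)
  have hlt := degree_modByMonic_lt P (q_monic c)
  rw [q_degree] at hlt
  have hdeg : (P %ₘ q c).degree ≤ 1 := by
    rw [degree_le_iff_coeff_zero]
    intro m hm
    apply (degree_lt_iff_coeff_zero _ 2).mp hlt
    have : (1:ℕ) < m := by exact_mod_cast hm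
    omega
  have hform := eq_X_add_C_of_degree_le_one hdeg
  refine ⟨P /ₘ q c, (P %ₘ q c).coeff 1, (P %ₘ q c).coeff 0, ?_⟩
  rw [← hform, add_comm]; exact hdiv.symm

lemma xi_to_M (c : K) (ξ : L) (hξ0 : ξ ≠ 0) (hc : algebraMap K L (2 * c) = ξ + ξ⁻¹)
    (hne : ξ ≠ ξ⁻¹) (P : K[X]) (h1 : aeval ξ P = 0) (h2 : aeval ξ⁻¹ P = 0) :
    aeval (M0 c) P = 0 := by
  obtain ⟨d, u, w, hP⟩ := rem_form c P
  have e1 : algebraMap K L u * ξ + algebraMap K L w = 0 := by
    have := h1
    rw [hP] at this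
    simpa [aeval_xi_q c ξ hξ0 hc] using this
  have e2 : algebraMap K L u * ξ⁻¹ + algebraMap K L w = 0 := by
    have := h2
    rw [hP] at this
    simpa [aeval_xi_inv_q c ξ hξ0 hc] using this
  have hu : algebraMap K L u = 0 := by
    have h3 : algebraMap K L u * (ξ - ξ⁻¹) = 0 := by linear_combination e1 - e2
    rcases mul_eq_zero.mp h3 with h | h
    · exact h
    · exact absurd (sub_eq_zero.mp h) hne
  have hw : algebraMap K L w = 0 := by rw [hu, zero_mul, zero_add] at e1; exact e1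
  have hu' : u = 0 := (map_eq_zero _).mp hu
  have hw' : w = 0 := (map_eq_zero _).mp hw
  rw [hP, hu', hw']
  simp [aeval_M0_q]

lemma M_to_xi (c : K) (ξ : L) (hξ0 : ξ ≠ 0) (hc : algebraMap K L (2 * c) = ξ + ξ⁻¹)
    (P : K[X]) (h : aeval (M0 c) P = 0) : aeval ξ P = 0 := by
  obtain ⟨d, u, w, hP⟩ := rem_form c P
  rw [hP] at h
  simp only [map_add, map_mul, aeval_M0_q, zero_mul, zero_add, aeval_C, aeval_X] at h
  have h01 := congrFun (congrFun h 0) 1
  have h00 := congrFun (congrFun h 0) 0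
  simp [M0, Matrix.algebraMap_matrix_apply, Matrix.mul_apply, Fin.sum_univ_two] at h01 h00
  rw [hP, h01, h00]
  simp [aeval_xi_q c ξ hξ0 hc]

theorem main (n : ℕ) (hn : 2 ≤ n) (ξ : L)
    (hξ : IsPrimitiveRoot ξ (2 * n)) (c : K) (hc : algebraMap K L (2 * c) = ξ + ξ⁻¹)
    (hsol : ∃ x y : K, x ^ 2 - (c ^ 2 - 1) * y ^ 2 = -1) :
    ∃ f : QuaternionGroup n →* Matrix.SpecialLinearGroup (Fin 2) K, Function.Injective f := by
  obtain ⟨x, y, hxy⟩ := hsol
  have hn0 : 2 * n ≠ 0 := by omega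
  have hξ0 : ξ ≠ 0 := hξ.ne_zero hn0
  have hξ2n : ξ ^ (2 * n) = 1 := hξ.pow_eq_one
  have hξn : ξ ^ n = -1 := by
    have h1 : ξ ^ n * ξ ^ n = 1 := by rw [← pow_add, ← two_mul]; exact hξ2n
    rcases mul_self_eq_one_iff.mp h1 with h | h
    · exfalso
      have h2 := hξ.dvd_of_pow_eq_one _ h
      have h3 := Nat.le_of_dvd (by omega) h2
      omega
    · exact h
  have hne : ξ ≠ ξ⁻¹ := by
    intro h
    have h2 : ξ ^ 2 = 1 := by
      rw [pow_two]; nth_rewrite 2 [h]; exact mul_inv_cancel₀ hξ0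
    have h3 := hξ.dvd_of_pow_eq_one _ h2
    have h4 := Nat.le_of_dvd (by norm_num) h3
    omega
  let M : Matrix.SpecialLinearGroup (Fin 2) K := ⟨M0 c, det_M0 c⟩
  let N : Matrix.SpecialLinearGroup (Fin 2) K := ⟨N0 c x y, det_N0 c x y hxy⟩
  refine hom_of_rel n hn M N ?_ ?_ ?_ ?_
  · apply Subtype.ext
    rw [Matrix.SpecialLinearGroup.coe_pow, Matrix.SpecialLinearGroup.coe_one]
    show M0 c ^ (2 * n) = 1
    have h := xi_to_M c ξ hξ0 hc hne (X ^ (2 * n) - 1) (by simp [hξ2n]) (by simp [hξ2n])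
    simpa [sub_eq_zero] using h
  · apply Subtype.ext
    rw [Matrix.SpecialLinearGroup.coe_pow, Matrix.SpecialLinearGroup.coe_mul]
    show M0 c ^ n = N0 c x y * N0 c x y
    rw [N0_sq c x y hxy]
    have h := xi_to_M c ξ hξ0 hc hne (X ^ n + 1) (by simp [hξn]) (by simp [hξn])
    exact eq_neg_of_add_eq_zero_left (by simpa using h)
  · intro k hk
    have h0 := congrArg Subtype.val hk
    rw [Matrix.SpecialLinearGroup.coe_pow, Matrix.SpecialLinearGroup.coe_one] at h0
    have h1 : M0 c ^ k = 1 := h0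
    have h2 : aeval (M0 c) (X ^ k - 1 : K[X]) = 0 := by simp [h1]
    have h3 := M_to_xi c ξ hξ0 hc _ h2
    have h4 : ξ ^ k = 1 := by simpa [sub_eq_zero] using h3
    exact hξ.dvd_of_pow_eq_one k h4
  · apply Subtype.ext
    rw [Matrix.SpecialLinearGroup.coe_mul, Matrix.SpecialLinearGroup.coe_mul]
    exact M0_N0_M0 c x y

end Aux14849
namespace Groth.Agent.S14849

/-- Let K be a field of characteristic zero, L an extension field of K, n ≥ 2, and ξ ∈ L a primitive
2n-th root of unity with ξ + ξ⁻¹ = 2c for some c ∈ K. If the Hilbert symbol of -1 and c² - 1 over K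
equals 1, i.e. x² - (c² - 1) y² = -1 has a solution in K, then the binary dihedral group of order 4n
(generators σ, τ with τ² = σⁿ = (τσ)²) is isomorphic to a subgroup of SL(2, K). (The published
statement is an equivalence; this row is the direction realising the group from a solution of the
conic.) -/
theorem result {K : Type u} {L : Type v}
    [Field K] [Field L] [CharZero K] [Algebra K L] (n : ℕ) (hn : 2 ≤ n) (ξ : L)
    (hξ : IsPrimitiveRoot ξ (2 * n)) (c : K) (hc : algebraMap K L (2 * c) = ξ + ξ⁻¹)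
    (hsol : ∃ x y : K, x ^ 2 - (c ^ 2 - 1) * y ^ 2 = -1) :
    ∃ f : QuaternionGroup n →* Matrix.SpecialLinearGroup (Fin 2) K, Function.Injective f := by
  exact Aux14849.main n hn ξ hξ c hc hsol

end Groth.Agent.S14849
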