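import Groth.Statements.S14851
import Groth.Agent.Lib.Helper19.Coalg3

set_option autoImplicit false
universe u v w w'
open HopfRep

namespace Groth.Agent.S14851

open Groth.Agent.Lib.Helper19.Reynolds Groth.Agent.Lib.Helper28.ComodHom Groth.Agent.Lib.Helper19.Coalg

open TensorProduct in
/-- The map E ↦ C(E) from isomorphism classes of simple comodules to simple subcoalgebras is injective,
that is: over a field K, two simple right comodules E, E' over a coalgebra C with the same
coefficient space D (the least subspace D' of C such that the coaction lands in E ⊗ D', resp. E' ⊗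
D') are isomorphic as comodules. (The published statement is made for a cosemisimple coalgebra and
for left comodules; the printed argument for this part uses neither restriction.) -/
theorem result {K : Type u} {C : Type v} [Field K]
    [AddCommGroup C] [Module K C] [Coalgebra K C]
    {E : Type w} [AddCommGroup E] [Module K E] [HopfRep.Comod K C E]
    {E' : Type w'} [AddCommGroup E'] [Module K E'] [HopfRep.Comod K C E']
    (hE : HopfRep.IsSimpleComod K C E) (hE' : HopfRep.IsSimpleComod K C E') (D : Submodule K C)
    (hD : IsLeast {D' : Submodule K C |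
      ∀ e : E, HopfRep.Comod.coact (k := K) (A := C) e ∈ LinearMap.range (LinearMap.lTensor E D'.subtype)} D)
    (hD' : IsLeast {D' : Submodule K C |
      ∀ e : E', HopfRep.Comod.coact (k := K) (A := C) e ∈ LinearMap.range (LinearMap.lTensor E' D'.subtype)} D) :
    ∃ e : E ≃ₗ[K] E', Hoch.IsComodHom C e.toLinearMap := by
  have hDE : cfS (C := C) (⊤ : Submodule K E) = D := (hD.unique isLeast_cfS_top).symm
  have hDE' : cfS (C := C) (⊤ : Submodule K E') = D := (hD'.unique isLeast_cfS_top).symm
  haveI := hE.1
  obtain ⟨e₀, he₀⟩ := exists_ne (0 : E)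
  obtain ⟨φ₀, hφ₀⟩ := exists_apply_ne_zero (K := K) he₀
  have hf0 : cfm (C := C) φ₀ ≠ 0 := by
    intro h
    apply hφ₀
    rw [← counit_cfm (C := C) φ₀ e₀, h, LinearMap.zero_apply, map_zero]
  have hf := isComodHom_cfm (C := C) φ₀
  have hat := isAtom_toOp_range hE _ hf hf0
  have hle0 : LinearMap.range (cfm (C := C) φ₀) ≤
      ⨆ φ' : E' →ₗ[K] K, LinearMap.range (cfm (C := C) φ') := by
    have h1 : LinearMap.range (cfm (C := C) φ₀) ≤ cfS (C := C) (⊤ : Submodule K E) := by
      rw [← Submodule.map_top]
      exact le_iSup (fun φ : E →ₗ[K] K => (⊤ : Submodule K E).map (cfm (C := C) φ)) φ₀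
    rw [hDE, ← hDE'] at h1
    unfold cfS at h1
    simpa only [Submodule.map_top] using h1
  have hle : toOp (LinearMap.range (cfm (C := C) φ₀)) (isSubcomod_range _ hf) ≤
      ⨆ φ' : E' →ₗ[K] K, toOp (LinearMap.range (cfm (C := C) φ'))
        (isSubcomod_range _ (isComodHom_cfm φ')) := by
    apply le_iSup_toOp
    rw [toOp_restrictScalars]
    exact hle0
  have hT : ∀ φ' : E' →ₗ[K] K, toOp (LinearMap.range (cfm (C := C) φ'))
      (isSubcomod_range _ (isComodHom_cfm φ')) = ⊥ ∨
      IsAtom (toOp (LinearMap.range (cfm (C := C) φ')) (isSubcomod_range _ (isComodHom_cfm φ'))) := by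
    intro φ'
    by_cases h : cfm (C := C) φ' = 0
    · left
      exact toOp_eq_bot _ (by rw [h, LinearMap.range_zero])
    · right
      exact isAtom_toOp_range hE' _ (isComodHom_cfm φ') h
  obtain ⟨φ', hφ'at, ⟨e⟩⟩ := exists_equiv_of_le_iSup _ hat _ hT hle
  have hg0 : cfm (C := C) φ' ≠ 0 := by
    intro h
    exact hφ'at.1 (toOp_eq_bot _ (by rw [h, LinearMap.range_zero]))
  exact exists_comodIso_of_linearEquiv_toOp_range _ hf (injective_of_isSimpleComod hE _ hf hf0) _
    (isComodHom_cfm φ') (injective_of_isSimpleComod hE' _ (isComodHom_cfm φ') hg0) e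

end Groth.Agent.S14851
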