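import Groth.Statements.S14852
import Groth.Agent.Lib.Helper19.Coalg3

set_option autoImplicit false
universe u v w w'
open HopfRep

namespace Groth.Agent.S14852

open Groth.Agent.Lib.Helper19.Reynolds Groth.Agent.Lib.Helper28.ComodHom Groth.Agent.Lib.Helper19.Coalg

open TensorProduct in
/-- Over a field K, let C be a cosemisimple coalgebra and D₁ ≠ D₂ simple subcoalgebras of C. If V is a
right C-comodule whose coaction lands in V ⊗ D₁ and W one whose coaction lands in W ⊗ D₂, then the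
only comodule map V → W is zero. Here a subcoalgebra of C is a subspace B whose comultiplication
lands in the image of B ⊗ B, and a simple subcoalgebra is a nonzero subcoalgebra D whose only
subcoalgebras contained in D are 0 and D; cosemisimple means C is the internal direct sum of a
family of simple subcoalgebras. (The published statement is for quasi-coherent G-sheaves on a scheme
with trivial action of G = Spec C; this row is the statement on spaces of sections to which its
proof reduces.) -/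
theorem result {K : Type u} {C : Type v} [Field K]
    [AddCommGroup C] [Module K C] [Coalgebra K C]
    (hC : ∃ (ι : Type v) (D : ι → Submodule K C), iSupIndep D ∧ iSup D = ⊤ ∧ ∀ i,
        D i ≠ ⊥ ∧ (∀ b ∈ (D i), CoalgebraStruct.comul (R := K) b ∈ LinearMap.range (TensorProduct.map (D i).subtype (D i).subtype)) ∧
        ∀ B : Submodule K C, B ≤ D i → (∀ b ∈ B, CoalgebraStruct.comul (R := K) b ∈ LinearMap.range (TensorProduct.map B.subtype B.subtype)) → B = ⊥ ∨ B = D i)
    (D₁ D₂ : Submodule K C) (hne : D₁ ≠ D₂)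
    (h₁ : D₁ ≠ ⊥ ∧ (∀ b ∈ D₁, CoalgebraStruct.comul (R := K) b ∈ LinearMap.range (TensorProduct.map D₁.subtype D₁.subtype)) ∧ ∀ B : Submodule K C, B ≤ D₁ → (∀ b ∈ B, CoalgebraStruct.comul (R := K) b ∈ LinearMap.range (TensorProduct.map B.subtype B.subtype)) → B = ⊥ ∨ B = D₁)
    (h₂ : D₂ ≠ ⊥ ∧ (∀ b ∈ D₂, CoalgebraStruct.comul (R := K) b ∈ LinearMap.range (TensorProduct.map D₂.subtype D₂.subtype)) ∧ ∀ B : Submodule K C, B ≤ D₂ → (∀ b ∈ B, CoalgebraStruct.comul (R := K) b ∈ LinearMap.range (TensorProduct.map B.subtype B.subtype)) → B = ⊥ ∨ B = D₂)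
    {V : Type w} [AddCommGroup V] [Module K V] [HopfRep.Comod K C V]
    {W : Type w'} [AddCommGroup W] [Module K W] [HopfRep.Comod K C W]
    (hV : ∀ v : V, HopfRep.Comod.coact (k := K) (A := C) v ∈ LinearMap.range (LinearMap.lTensor V D₁.subtype))
    (hW : ∀ w : W, HopfRep.Comod.coact (k := K) (A := C) w ∈ LinearMap.range (LinearMap.lTensor W D₂.subtype))
    (φ : V →ₗ[K] W) (hφ : Hoch.IsComodHom C φ) : φ = 0 := by
  have hV' : cfS (C := C) (⊤ : Submodule K V) ≤ D₁ := (isLeast_cfS_top).2 hV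
  have hW' : cfS (C := C) (⊤ : Submodule K W) ≤ D₂ := (isLeast_cfS_top).2 hW
  have hinf : D₁ ⊓ D₂ = ⊥ := by
    rcases h₁.2.2 (D₁ ⊓ D₂) inf_le_left (isSubcoalg_inf h₁.2.1 h₂.2.1) with h | h
    · exact h
    · exfalso
      have hle : D₁ ≤ D₂ := inf_eq_left.mp h
      rcases h₂.2.2 D₁ hle h₁.2.1 with h' | h'
      · exact h₁.1 h'
      · exact hne h'
  apply LinearMap.ext
  intro v
  rw [LinearMap.zero_apply]
  apply eq_of_forall_apply_eq (K := K)
  intro ψ
  rw [map_zero, ← counit_cfm (C := C) ψ (φ v)]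
  have h1 : cfm (C := C) ψ (φ v) ∈ D₂ := hW' (cfm_mem_cfS ⊤ ψ Submodule.mem_top)
  have h2 : cfm (C := C) ψ (φ v) ∈ D₁ := by
    rw [cfm_comp_of_isComodHom φ hφ]
    exact hV' (cfm_mem_cfS ⊤ _ Submodule.mem_top)
  have h3 : cfm (C := C) ψ (φ v) ∈ D₁ ⊓ D₂ := ⟨h2, h1⟩
  rw [hinf, Submodule.mem_bot] at h3
  rw [h3, map_zero]

end Groth.Agent.S14852
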