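import Groth.Statements.S14857
-- import your own Groth.Agent.* helpers here
import Mathlib
import Groth.Agent.Lib.Helper22.WittBasic

set_option autoImplicit false
open CAlg

namespace Groth.Agent.S14857

/-- For a prime p, the Teichmüller representative [p^p] of the element p^p of the p-adic integers is
divisible by p in the ring of p-typical Witt vectors W(ℤ_p). -/
theorem result (p : ℕ) [Fact p.Prime] :
    (p : WittVector p ℤ_[p]) ∣ WittVector.teichmuller p ((p : ℤ_[p]) ^ p) := by
  have hp2 : 2 ≤ p := (Fact.out : p.Prime).two_le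
  obtain ⟨q, hq⟩ := Groth.Agent.Lib.Helper22.Witt.exists_eq_teichmuller_add_verschiebung
    (p := p) ((p : WittVector p ℤ_[p]))
  have hc0 : (p : WittVector p ℤ_[p]).coeff 0 = (p : ℤ_[p]) := by
    have := map_natCast (WittVector.constantCoeff (p := p) (R := ℤ_[p])) p
    rwa [WittVector.constantCoeff_apply] at this
  rw [hc0] at hq
  set t := WittVector.teichmuller p (p : ℤ_[p]) with ht
  set v := WittVector.verschiebung q with hv
  rw [map_pow]
  have h1 : (p : WittVector p ℤ_[p]) ∣ t ^ p - (-v) ^ p := by
    have := sub_dvd_pow_sub_pow t (-v) p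
    have e : t - -v = (p : WittVector p ℤ_[p]) := by rw [hq]; ring
    rwa [e] at this
  have h2 : (p : WittVector p ℤ_[p]) ∣ (-v) ^ p := by
    rw [neg_pow]
    exact Dvd.dvd.mul_left (Groth.Agent.Lib.Helper22.Witt.p_dvd_verschiebung_pow q hp2) _
  have := dvd_add h1 h2
  rwa [sub_add_cancel] at this

end Groth.Agent.S14857
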