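import Groth.Statements.S14858
import Mathlib
import Groth.Agent.Lib.Helper10.WittAdic
import Groth.Agent.Lib.Helper10.AdicIdem

set_option autoImplicit false
universe u v
open Disp

namespace Groth.Agent.S14858

/-- Let p be a prime and R a commutative ring which is complete and separated for the p-adic topology;
write W = W(R) for the p-typical Witt vectors and I for the ideal of W generated by the image of the
Verschiebung. Let P be a finitely generated projective W-module and Q a submodule of P which admits
a complement modulo I·P, that is a submodule C with Q + C = P and Q ∩ C = I·P (equivalently I·P ⊆ Q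
and the graded pieces P/Q and Q/I·P of the filtration I·P ⊆ Q ⊆ P are finitely generated projective
R-modules). Then there is a direct sum decomposition P = L ⊕ T by submodules with Q = L + I·T, so
that together with any Frobenius-semilinear operators F and V⁻¹ satisfying the remaining axioms the
pair (P, Q) underlies a 3n-display. -/
theorem result (p : ℕ) [Fact p.Prime] (R : Type u) [CommRing R]
    [IsAdicComplete (Ideal.span {(p : R)}) R]
    (P : Type v) [AddCommGroup P] [Module (WittVector p R) P]
    [Module.Finite (WittVector p R) P] [Module.Projective (WittVector p R) P]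
    (Q : Submodule (WittVector p R) P)
    (hQ : ∃ C : Submodule (WittVector p R) P,
      Q ⊔ C = ⊤ ∧ Q ⊓ C = W4c1extbt610.IV p R • (⊤ : Submodule (WittVector p R) P)) :
    ∃ L T : Submodule (WittVector p R) P, IsCompl L T ∧ Q = L ⊔ W4c1extbt610.IV p R • T := by
  have hI : W4c1extbt610.IV p R = H10Witt.II p R := by
    apply le_antisymm
    · unfold W4c1extbt610.IV
      rw [Ideal.span_le]
      rintro _ ⟨w, rfl⟩
      exact H10Witt.verschiebung_mem w
    · intro x hx
      obtain ⟨y, rfl⟩ := H10Witt.exists_verschiebung_of_mem hx
      exact W4c1extbt610.verschiebung_mem_IV p R y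
  haveI : IsAdicComplete (W4c1extbt610.IV p R) (WittVector p R) := by
    rw [hI]; exact H10Witt.isAdicComplete_II
  obtain ⟨C, h1, h2⟩ := hQ
  exact H10Adic.exists_normal_decomposition (W4c1extbt610.IV p R) P Q C h1 h2

end Groth.Agent.S14858
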