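import Groth.Statements.S14859
-- import your own Groth.Agent.* helpers here
import Mathlib

set_option autoImplicit false
universe u v w
open Disp

namespace Groth.Agent.S14859

/-- Let p be a prime, R a commutative ring with p-typical Witt vectors W = W(R), and (P, Q, F, V⁻¹) a
3n-display over R with a normal decomposition P = L ⊕ T, Q = L + I_R·T. Then V⁻¹ ⊕ F : L ⊕ T → P is
a Frobenius-linear isomorphism; stated here in the case where L and T are free with bases (l_i) and
(t_j): the family consisting of the V⁻¹(l_i) and the F(t_j) is a basis of the W-module P, i.e. it is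
linearly independent over W and spans P. -/
theorem result (p : ℕ) [Fact p.Prime] (R : Type u) [CommRing R]
    (P : Type v) [AddCommGroup P] [Module (WittVector p R) P] (D : W4c1extbt610.Display3n p R P)
    (L T : Submodule (WittVector p R) P) (hLT : IsCompl L T)
    (hQ : D.Q = L ⊔ W4c1extbt610.IV p R • T) (hLQ : L ≤ D.Q)
    (ιL ιT : Type w) (bL : Module.Basis ιL (WittVector p R) L) (bT : Module.Basis ιT (WittVector p R) T) :
    LinearIndependent (WittVector p R)
        (Sum.elim (fun i : ιL => D.Vinv ⟨(bL i : P), hLQ (bL i).2⟩) (fun j : ιT => D.F (bT j : P))) ∧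
      Submodule.span (WittVector p R)
        (Set.range (Sum.elim (fun i : ιL => D.Vinv ⟨(bL i : P), hLQ (bL i).2⟩) (fun j : ιT => D.F (bT j : P)))) = ⊤ := by
  classical
  set W := WittVector p R with hW
  let v : ιL ⊕ ιT → P :=
    Sum.elim (fun i : ιL => D.Vinv ⟨(bL i : P), hLQ (bL i).2⟩) (fun j : ιT => D.F (bT j : P))
  set S : Submodule W P := Submodule.span W (Set.range v) with hS
  -- F t ∈ S for t ∈ T
  have hFT : ∀ t ∈ T, D.F t ∈ S := by
    have hle : T ≤ S.comap D.F := by
      have hspan : T = Submodule.span W (Set.range fun j : ιT => (bT j : P)) := by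
        have := bT.span_eq
        have h2 := congrArg (Submodule.map T.subtype) this
        rw [Submodule.map_span, Submodule.map_top, Submodule.range_subtype, ← Set.range_comp] at h2
        exact h2.symm
      rw [hspan, Submodule.span_le]
      rintro _ ⟨j, rfl⟩
      exact Submodule.subset_span ⟨Sum.inr j, rfl⟩
    exact fun t ht => hle ht
  -- the set of q ∈ Q with Vinv q ∈ S
  let Qsub : Submodule W P := Submodule.map D.Q.subtype (S.comap D.Vinv)
  have hQsub : ∀ x : P, x ∈ Qsub ↔ ∃ h : x ∈ D.Q, D.Vinv ⟨x, h⟩ ∈ S := by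
    intro x
    constructor
    · rintro ⟨q, hq, rfl⟩
      exact ⟨q.2, hq⟩
    · rintro ⟨h, hx⟩
      exact ⟨⟨x, h⟩, hx, rfl⟩
  have hLsub : L ≤ Qsub := by
    have hspan : L = Submodule.span W (Set.range fun i : ιL => (bL i : P)) := by
      have := bL.span_eq
      have h2 := congrArg (Submodule.map L.subtype) this
      rw [Submodule.map_span, Submodule.map_top, Submodule.range_subtype, ← Set.range_comp] at h2
      exact h2.symm
    rw [hspan, Submodule.span_le]
    rintro _ ⟨i, rfl⟩
    exact (hQsub _).mpr ⟨hLQ (bL i).2, Submodule.subset_span ⟨Sum.inl i, rfl⟩⟩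
  have hTsub : W4c1extbt610.IV p R • T ≤ Qsub := by
    rw [Submodule.smul_le]
    intro r hr t ht
    have hideal : W4c1extbt610.IV p R ≤ Qsub.comap (LinearMap.toSpanSingleton W P t) := by
      unfold W4c1extbt610.IV
      rw [Ideal.span_le]
      rintro _ ⟨w, rfl⟩
      change LinearMap.toSpanSingleton W P t (WittVector.verschiebung w) ∈ Qsub
      rw [LinearMap.toSpanSingleton_apply, hQsub]
      refine ⟨D.IV_smul_le (Submodule.smul_mem_smul (W4c1extbt610.verschiebung_mem_IV p R w)
        Submodule.mem_top), ?_⟩
      rw [D.Vinv_verschiebung_smul]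
      exact S.smul_mem w (hFT t ht)
    have := hideal hr
    change LinearMap.toSpanSingleton W P t r ∈ Qsub at this
    rwa [LinearMap.toSpanSingleton_apply] at this
  have hQle : D.Q ≤ Qsub := by
    rw [hQ]
    exact sup_le hLsub hTsub
  have hspanS : S = ⊤ := by
    rw [eq_top_iff, ← D.span_range_Vinv, Submodule.span_le]
    rintro _ ⟨q, rfl⟩
    obtain ⟨h, hx⟩ := (hQsub _).mp (hQle q.2)
    exact hx
  refine ⟨?_, hspanS⟩
  -- linear independence via a surjective endomorphism
  have : Module.Finite W P := D.finite
  let b : Module.Basis (ιL ⊕ ιT) W P :=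
    (bL.prod bT).map (Submodule.prodEquivOfIsCompl L T hLT)
  let Φ : P →ₗ[W] P := b.constr W v
  have hΦb : ∀ x, Φ (b x) = v x := fun x => b.constr_basis W v x
  have hsurj : Function.Surjective Φ := by
    rw [← LinearMap.range_eq_top, b.constr_range]
    exact hspanS
  have hinj : Function.Injective Φ := OrzechProperty.injective_of_surjective_endomorphism Φ hsurj
  have hli : LinearIndependent W (Φ ∘ b) :=
    b.linearIndependent.map' Φ (LinearMap.ker_eq_bot.mpr hinj)
  have hveq : v = Φ ∘ b := by
    funext x; exact (hΦb x).symm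
  change LinearIndependent W v
  rw [hveq]
  exact hli

end Groth.Agent.S14859
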