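import Groth.Statements.S1486
import Mathlib
import Groth.Agent.Lib.Helper1.FSmoothHom
import Groth.Agent.Lib.Helper1.UnivThick
import Groth.Agent.Lib.Helper25.FSmoothGlue

set_option autoImplicit false
set_option linter.style.haveILetI false
universe u
open FlatMor

namespace Groth.Agent.S1486

open AlgebraicGeometry CategoryTheory Limits in
/-- (1) ⇔ (3): a morphism f : X → Y is formally smooth (lifting against first order thickenings of
affine schemes, rings in the same universe) if and only if for all affine opens U ⊆ f⁻¹(V) the ring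
map O_Y(V) → O_X(U) is formally smooth. -/
theorem result {X Y : Scheme.{u}} (f : X ⟶ Y) :
    MoreMor.IsFormallySmoothHom f ↔ ∀ (U : X.Opens) (V : Y.Opens) (hU : IsAffineOpen U) (hV : IsAffineOpen V) (hUV : U ≤ f ⁻¹ᵁ V),
      letI := (f.appLE V U hUV).hom.toAlgebra
      Algebra.FormallySmooth Γ(Y, V) Γ(X, U) := by
  constructor
  · intro hf U V hU hV hUV
    exact Groth.Agent.Lib.Helper1.FSmoothHom.formallySmooth_appLE f hf hU hV hUV
  · intro H A _ I hI a b hsq
    let ψ : CommRingCat.of A ⟶ CommRingCat.of (A ⧸ I) := CommRingCat.ofHom (Ideal.Quotient.mk I)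
    have hψs : Function.Surjective ψ.hom := Ideal.Quotient.mk_surjective
    have hψk : RingHom.ker ψ.hom ^ 2 = ⊥ := by
      change RingHom.ker (Ideal.Quotient.mk I) ^ 2 = ⊥
      rw [Ideal.mk_ker, hI]
    have hi := Groth.Agent.Lib.Helper1.UnivThick.isFirstOrderThickening_SpecMap ψ hψs hψk
    obtain ⟨l, hl₁, hl₂⟩ :=
      Groth.Agent.Lib.Helper25.FSmoothGlue.exists_lift_of_locallyFormallySmooth f
        (fun U V hU hV hUV => H U V hU hV hUV) (Spec.map ψ) hi b a hsq.symm
    exact ⟨l, hl₂, hl₁⟩

end Groth.Agent.S1486
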