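import Groth.Statements.S14864
-- import your own Groth.Agent.* helpers here
import Mathlib
import Groth.Agent.Lib.Helper22.WittBasic

set_option autoImplicit false
universe u
open CAlg

namespace Groth.Agent.S14864

/-- Let p be a prime and R a commutative ring in which p is nilpotent; write W = W(R) for the p-typical
Witt vectors, I ⊆ W for the kernel of the projection onto the zeroth component, and I_n ⊆ W for the
kernel of the truncation W → W_n(R). The p-adic topology on W equals its I-adic topology — every
power of the ideal pW contains some power of I and every power of I contains some power of pW — and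
this common topology is finer than the V-adic one: every I_n contains some power of pW. -/
theorem result (p : ℕ) [Fact p.Prime] (R : Type u) [CommRing R]
    (hp : IsNilpotent (p : R)) :
    (∀ n : ℕ, ∃ m : ℕ, (RingHom.ker (WittVector.constantCoeff : WittVector p R →+* R)) ^ m ≤ Ideal.span {(p : WittVector p R)} ^ n) ∧
      (∀ n : ℕ, ∃ m : ℕ, Ideal.span {(p : WittVector p R)} ^ m ≤ (RingHom.ker (WittVector.constantCoeff : WittVector p R →+* R)) ^ n) ∧
        ∀ n : ℕ, ∃ m : ℕ, Ideal.span {(p : WittVector p R)} ^ m ≤ RingHom.ker (WittVector.truncate (p := p) (R := R) n) := by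
  classical
  obtain ⟨N, hN⟩ := hp
  set I := RingHom.ker (WittVector.constantCoeff : WittVector p R →+* R) with hI
  set P := Ideal.span {(p : WittVector p R)} with hP
  have hmemI : ∀ x : WittVector p R, x ∈ I ↔ x.coeff 0 = 0 := fun x => by
    rw [hI, RingHom.mem_ker, WittVector.constantCoeff_apply]
  -- elements of I are Verschiebungen
  have hV : ∀ x ∈ I, ∃ y : WittVector p R, x = WittVector.verschiebung y := by
    intro x hx
    have h0 : ∀ i < 1, x.coeff i = 0 := by
      intro i hi
      obtain rfl : i = 0 := by omega
      exact (hmemI x).mp hx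
    have := WittVector.eq_iterate_verschiebung h0
    exact ⟨_, this⟩
  have hVI : ∀ y : WittVector p R, WittVector.verschiebung y ∈ I := fun y => by
    rw [hmemI]; exact WittVector.verschiebung_coeff_zero y
  have hpN : (p : WittVector p R) ^ N ∈ I := by
    rw [hI, RingHom.mem_ker, map_pow, map_natCast, hN]
  -- I * I ≤ P * I
  have hII : I * I ≤ P * I := by
    rw [Ideal.mul_le]
    intro a ha b hb
    obtain ⟨a', rfl⟩ := hV a ha
    obtain ⟨b', rfl⟩ := hV b hb
    rw [Groth.Agent.Lib.Helper22.Witt.verschiebung_mul_verschiebung]
    exact Ideal.mul_mem_mul (Ideal.mem_span_singleton_self _) (hVI _)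
  have hpow : ∀ n : ℕ, I ^ (n + 1) ≤ P ^ n * I := by
    intro n
    induction n with
    | zero => simp
    | succ n ih =>
      calc I ^ (n + 1 + 1) = I ^ (n + 1) * I := pow_succ _ _
        _ ≤ (P ^ n * I) * I := Ideal.mul_mono_left ih
        _ = P ^ n * (I * I) := mul_assoc _ _ _
        _ ≤ P ^ n * (P * I) := Ideal.mul_mono_right hII
        _ = P ^ (n + 1) * I := by rw [← mul_assoc, ← pow_succ]
  refine ⟨fun n => ⟨n + 1, (hpow n).trans Ideal.mul_le_left⟩, fun n => ⟨N * n, ?_⟩, fun n => ⟨N * n, ?_⟩⟩
  · rw [pow_mul]
    apply Ideal.pow_right_mono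
    rw [hP, Ideal.span_singleton_pow, Ideal.span_singleton_le_iff_mem]
    exact hpN
  · rw [hP, Ideal.span_singleton_pow, Ideal.span_singleton_le_iff_mem]
    -- frobenius fixes powers of p
    have hF : ∀ k : ℕ, (WittVector.frobenius (p := p) (R := R))^[k] ((p : WittVector p R) ^ N) =
        (p : WittVector p R) ^ N := by
      intro k
      induction k with
      | zero => rfl
      | succ k ih => rw [Function.iterate_succ_apply', ih, map_pow, map_natCast]
    induction n with
    | zero =>
      rw [WittVector.mem_ker_truncate]
      intro i hi; omega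
    | succ n ih =>
      rw [WittVector.mem_ker_truncate] at ih ⊢
      have hx := WittVector.eq_iterate_verschiebung ih
      set w := ((p : WittVector p R) ^ (N * n)).shift n with hw
      have e : (p : WittVector p R) ^ (N * (n + 1)) =
          (WittVector.verschiebung (p := p) (R := R))^[n] (w * (p : WittVector p R) ^ N) := by
        rw [mul_add, mul_one, pow_add, hx, WittVector.iterate_verschiebung_mul_left, hF]
      rw [e]
      intro i hi
      rcases Nat.lt_or_ge i n with h1 | h1
      · exact WittVector.iterate_verschiebung_coeff_eq_zero _ h1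
      · obtain rfl : i = 0 + n := by omega
        rw [WittVector.iterate_verschiebung_coeff]
        have := map_mul (WittVector.constantCoeff (p := p) (R := R)) w ((p : WittVector p R) ^ N)
        rw [WittVector.constantCoeff_apply] at this
        rw [this, (RingHom.mem_ker).mp hpN, mul_zero]

end Groth.Agent.S14864
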