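import Groth.Statements.S14869
-- import your own Groth.Agent.* helpers here
import Mathlib

set_option autoImplicit false
universe u v w
open CAlg

namespace Groth.Agent.S14869

open TensorProduct in
/-- Let S → R be a surjective homomorphism of commutative rings, let π : P_1 → P_2 be a surjective
homomorphism of S-modules with P_2 projective, and let π̄ : R ⊗_S P_1 → R ⊗_S P_2 be its base
change. Then every R-linear section σ̄ of π̄ lifts to a section of π: there is an S-linear map σ :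
P_2 → P_1 with π ∘ σ = id whose base change R ⊗_S σ is σ̄. -/
theorem result (S R : Type u) [CommRing S] [CommRing R] [Algebra S R]
    (hSR : Function.Surjective (algebraMap S R))
    (P₁ : Type v) [AddCommGroup P₁] [Module S P₁]
    (P₂ : Type w) [AddCommGroup P₂] [Module S P₂] [Module.Projective S P₂]
    (π : P₁ →ₗ[S] P₂) (hπ : Function.Surjective π)
    (σ' : R ⊗[S] P₂ →ₗ[R] R ⊗[S] P₁) (hσ' : (π.baseChange R).comp σ' = LinearMap.id) :
    ∃ σ : P₂ →ₗ[S] P₁, π.comp σ = LinearMap.id ∧ σ.baseChange R = σ' := by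
  classical
  -- every element of R ⊗ K is a pure tensor 1 ⊗ k
  have hpure : ∀ (K : Submodule S P₁) (w : R ⊗[S] K), ∃ k : K, w = (1 : R) ⊗ₜ[S] k := by
    intro K w
    induction w using TensorProduct.induction_on with
    | zero => exact ⟨0, by simp⟩
    | tmul r k =>
      obtain ⟨s, rfl⟩ := hSR r
      refine ⟨s • k, ?_⟩
      rw [Algebra.algebraMap_eq_smul_one, TensorProduct.smul_tmul]
    | add a b ha hb =>
      obtain ⟨k, rfl⟩ := ha
      obtain ⟨k', rfl⟩ := hb
      exact ⟨k + k', by rw [TensorProduct.tmul_add]⟩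
  let Θ : P₁ →ₗ[S] P₂ × (R ⊗[S] P₁) := π.prod (TensorProduct.mk S R P₁ 1)
  let G : P₂ →ₗ[S] P₂ × (R ⊗[S] P₁) :=
    LinearMap.id.prod ((σ'.restrictScalars S).comp (TensorProduct.mk S R P₂ 1))
  have hΘ : ∀ x : P₁, Θ x = (π x, (1 : R) ⊗ₜ[S] x) := fun x => rfl
  have hG : ∀ y : P₂, G y = (y, σ' ((1 : R) ⊗ₜ[S] y)) := fun y => rfl
  have hπσ : ∀ z : R ⊗[S] P₂, (π.baseChange R) (σ' z) = z := fun z => by
    have := congrArg (fun φ : R ⊗[S] P₂ →ₗ[R] R ⊗[S] P₂ => φ z) hσ'
    simpa using this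
  have hexact : Function.Exact (LinearMap.lTensor R (LinearMap.ker π).subtype)
      (LinearMap.lTensor R π) :=
    lTensor_exact R (LinearMap.exact_subtype_ker_map π) hπ
  have hrange : ∀ y : P₂, G y ∈ LinearMap.range Θ := by
    intro y
    obtain ⟨x₀, hx₀⟩ := hπ y
    have hz : (LinearMap.lTensor R π) (σ' ((1 : R) ⊗ₜ[S] y) - (1 : R) ⊗ₜ[S] x₀) = 0 := by
      rw [map_sub, LinearMap.lTensor_tmul, hx₀]
      have := hπσ ((1 : R) ⊗ₜ[S] y)
      rw [LinearMap.baseChange_eq_ltensor] at this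
      rw [this, sub_self]
    obtain ⟨w, hw⟩ := (hexact _).mp hz
    obtain ⟨k, rfl⟩ := hpure _ w
    rw [LinearMap.lTensor_tmul] at hw
    refine ⟨x₀ + (k : P₁), ?_⟩
    rw [hΘ, hG]
    have hk : π (k : P₁) = 0 := k.2
    rw [Submodule.subtype_apply] at hw
    rw [map_add, hk, add_zero, hx₀, TensorProduct.tmul_add, hw]
    congr 1
    abel
  obtain ⟨h, hh⟩ := Module.projective_lifting_property Θ.rangeRestrict
    (G.codRestrict (LinearMap.range Θ) hrange) Θ.surjective_rangeRestrict
  have hh' : ∀ y : P₂, Θ (h y) = G y := fun y => by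
    have := congrArg (fun φ : P₂ →ₗ[S] LinearMap.range Θ => ((φ y : LinearMap.range Θ) : P₂ × (R ⊗[S] P₁))) hh
    simpa using this
  refine ⟨h, ?_, ?_⟩
  · ext y
    have := congrArg Prod.fst (hh' y)
    rw [hΘ, hG] at this
    exact this
  · apply TensorProduct.AlgebraTensorModule.ext
    intro r y
    have := congrArg Prod.snd (hh' y)
    rw [hΘ, hG] at this
    simp only at this
    rw [LinearMap.baseChange_tmul]
    have e1 : r ⊗ₜ[S] h y = r • ((1 : R) ⊗ₜ[S] h y) := by
      rw [TensorProduct.smul_tmul', smul_eq_mul, mul_one]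
    have e2 : r ⊗ₜ[S] y = r • ((1 : R) ⊗ₜ[S] y) := by
      rw [TensorProduct.smul_tmul', smul_eq_mul, mul_one]
    rw [e1, e2, map_smul, this]

end Groth.Agent.S14869
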