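import Groth.Statements.S14871
-- import your own Groth.Agent.* helpers here
import Mathlib

set_option autoImplicit false
universe u v
open PLie

namespace Groth.Agent.S14871

/-- Let `L` be a finite-dimensional Lie algebra over a field of characteristic `p` equipped with a
`p`-mapping `φ`. Then the solvable radical of `L` is stable under `φ` (it is a `p`-subalgebra). -/
theorem result
    (k : Type u) [Field k] (p : ℕ) [Fact p.Prime] [CharP k p]
    (L : Type v) [LieRing L] [LieAlgebra k L] [Module.Finite k L]
    (φ : PLie.PMap k p L) (x : L) (hx : x ∈ LieAlgebra.radical k L) :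
    φ x ∈ LieAlgebra.radical k L := by
  classical
  set Rad := LieAlgebra.radical k L with hRad
  have hp : p ≠ 0 := (Fact.out : p.Prime).ne_zero
  -- bracket with φ x lands in the radical
  have hbr : ∀ y : L, ⁅y, φ x⁆ ∈ Rad := by
    intro y
    rw [← lie_skew, ← LieAlgebra.ad_apply (R := k), φ.ad_map]
    obtain ⟨q, rfl⟩ : ∃ q, p = q + 1 := ⟨p - 1, by omega⟩
    rw [pow_succ', Module.End.mul_apply, LieAlgebra.ad_apply]
    exact Rad.neg_mem (lie_mem_left k L Rad x _ hx)
  -- every bracket with an element of Rad + k φ x lands in Rad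
  have hmem : ∀ (y m : L), m ∈ (Rad : Submodule k L) ⊔ Submodule.span k {φ x} → ⁅y, m⁆ ∈ Rad := by
    intro y m hm
    obtain ⟨r, hr, s, hs, rfl⟩ := Submodule.mem_sup.mp hm
    obtain ⟨c, rfl⟩ := Submodule.mem_span_singleton.mp hs
    rw [lie_add, lie_smul]
    exact Rad.add_mem (lie_mem_right k L Rad y r hr) (Rad.smul_mem c (hbr y))
  let I : LieIdeal k L :=
    { ((Rad : Submodule k L) ⊔ Submodule.span k {φ x}) with
      lie_mem := fun {y m} hm => by
        have := hmem y m hm
        exact Submodule.mem_sup_left this }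
  have hI1 : LieAlgebra.derivedSeriesOfIdeal k L 1 I ≤ Rad := by
    rw [LieAlgebra.derivedSeriesOfIdeal_succ, LieAlgebra.derivedSeriesOfIdeal_zero,
      LieSubmodule.lie_le_iff]
    intro a _ m hm
    exact hmem a m hm
  have hsolv : LieAlgebra.IsSolvable I := by
    obtain ⟨n, hn⟩ := (LieAlgebra.isSolvable_iff (R := k) (L := Rad)).mp inferInstance
    rw [LieIdeal.derivedSeries_eq_bot_iff] at hn
    apply LieAlgebra.IsSolvable.mk (R := k) (k := n + 1)
    rw [LieIdeal.derivedSeries_eq_bot_iff, LieAlgebra.derivedSeriesOfIdeal_add, eq_bot_iff, ← hn]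
    exact LieAlgebra.derivedSeriesOfIdeal_mono hI1 n
  have hle : I ≤ Rad := (LieAlgebra.LieIdeal.solvable_iff_le_radical k L I).mp hsolv
  apply hle
  change φ x ∈ (Rad : Submodule k L) ⊔ Submodule.span k {φ x}
  exact Submodule.mem_sup_right (Submodule.mem_span_singleton_self _)

end Groth.Agent.S14871
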