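import Groth.Statements.S14872
-- import your own Groth.Agent.* helpers here
import Mathlib

set_option autoImplicit false
universe u v
open PLie

namespace Groth.Agent.S14872

/-- Let `L` be a finite-dimensional Lie algebra over a field of characteristic `p` equipped with a
`p`-mapping `φ`, and let `N` be its nilradical, i.e. the ideal of `L` that is nilpotent as a Lie
ring and contains every ideal of `L` nilpotent as a Lie ring. Then `N` is stable under `φ` (it is a
`p`-subalgebra). (The nilradical is given here through its characterising property; it is not the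
largest submodule on which `L` acts nilpotently.) -/
theorem result
    (k : Type u) [Field k] (p : ℕ) [Fact p.Prime] [CharP k p]
    (L : Type v) [LieRing L] [LieAlgebra k L] [Module.Finite k L]
    (φ : PLie.PMap k p L) (N : LieIdeal k L) (hN : LieRing.IsNilpotent N)
    (hmax : ∀ I : LieIdeal k L, LieRing.IsNilpotent I → I ≤ N)
    (x : L) (hx : x ∈ N) : φ x ∈ N := by
  classical
  have hp : p ≠ 0 := (Fact.out : p.Prime).ne_zero
  -- restriction of ad to an ideal
  have hres : ∀ (J : LieIdeal k L) (z : J) (m : ℕ) (y : J),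
      (((LieAlgebra.ad k J z) ^ m) y : L) = ((LieAlgebra.ad k L (z : L)) ^ m) (y : L) := by
    intro J z m
    induction m with
    | zero => intro y; simp
    | succ m ih =>
      intro y
      rw [pow_succ', Module.End.mul_apply, LieAlgebra.ad_apply, pow_succ', Module.End.mul_apply,
        LieAlgebra.ad_apply, ← ih]
      rfl
  -- step 1: ad_L a is nilpotent for a ∈ N
  have hadN : ∀ a : N, IsNilpotent (LieModule.toEnd k N L a) := by
    obtain ⟨m, hm⟩ := LieAlgebra.nilpotent_ad_of_nilpotent_algebra k N
    intro a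
    refine ⟨m + 1, ?_⟩
    ext y
    have hy : ⁅(a : L), y⁆ ∈ N := lie_mem_left k L N a y a.2
    have e : (LieModule.toEnd k N L a) = LieAlgebra.ad k L (a : L) := by
      ext y; rfl
    rw [e, pow_succ, Module.End.mul_apply, LieAlgebra.ad_apply]
    have := hres N a m ⟨⁅(a : L), y⁆, hy⟩
    rw [hm a] at this
    simpa using this.symm
  -- step 2: N acts nilpotently on L
  have hnilNL : LieModule.IsNilpotent N L := (LieModule.isNilpotent_iff_forall (R := k)).mpr hadN
  obtain ⟨m, hm⟩ := (LieModule.isNilpotent_iff k N L).mp hnilNL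
  -- the filtration T j
  set T := fun j => LieModule.lowerCentralSeries k N L j with hT
  have hTstep : ∀ (j : ℕ) (a : L), a ∈ N → ∀ y ∈ T j, ⁅a, y⁆ ∈ T (j + 1) := by
    intro j a ha y hy
    simp only [hT, LieModule.lowerCentralSeries_succ]
    exact LieSubmodule.lie_mem_lie (x := (⟨a, ha⟩ : N)) (LieSubmodule.mem_top _) hy
  have hTstable : ∀ (j : ℕ) (a : L), a ∈ N → ∀ y ∈ T j, ⁅a, y⁆ ∈ T j := by
    intro j a ha y hy
    exact (T j).lie_mem (x := (⟨a, ha⟩ : N)) hy
  have hTpow : ∀ (j : ℕ) (a : L), a ∈ N → ∀ (q : ℕ), ∀ y ∈ T j,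
      ((LieAlgebra.ad k L a) ^ q) y ∈ T j := by
    intro j a ha q
    induction q with
    | zero => intro y hy; simpa using hy
    | succ q ih =>
      intro y hy
      rw [pow_succ', Module.End.mul_apply, LieAlgebra.ad_apply]
      exact hTstable j a ha _ (ih y hy)
  -- step 4: elements of N + k φ x are ad-nilpotent on L
  have hadz : ∀ (n : L) (c : k), n ∈ N → ∀ (j : ℕ), ∀ y ∈ T j,
      (LieAlgebra.ad k L (n + c • φ x)) y ∈ T (j + 1) := by
    intro n c hn j y hy
    rw [map_add, map_smul, LinearMap.add_apply, LinearMap.smul_apply, φ.ad_map]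
    refine (T (j + 1)).add_mem (hTstep j n hn y hy) ((T (j + 1)).smul_mem c ?_)
    obtain ⟨q, rfl⟩ : ∃ q, p = q + 1 := ⟨p - 1, by omega⟩
    rw [pow_succ', Module.End.mul_apply, LieAlgebra.ad_apply]
    exact hTstep j x hx _ (hTpow j x hx q y hy)
  have hadz' : ∀ (n : L) (c : k), n ∈ N → ∀ (j : ℕ) (y : L),
      ((LieAlgebra.ad k L (n + c • φ x)) ^ j) y ∈ T j := by
    intro n c hn j
    induction j with
    | zero => intro y; simp [hT]
    | succ j ih =>
      intro y
      rw [pow_succ', Module.End.mul_apply]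
      exact hadz n c hn j _ (ih y)
  -- step 5: the ideal I
  have hbr : ∀ y : L, ⁅y, φ x⁆ ∈ N := by
    intro y
    rw [← lie_skew, ← LieAlgebra.ad_apply (R := k), φ.ad_map]
    obtain ⟨q, rfl⟩ : ∃ q, p = q + 1 := ⟨p - 1, by omega⟩
    rw [pow_succ', Module.End.mul_apply, LieAlgebra.ad_apply]
    exact N.neg_mem (lie_mem_left k L N x _ hx)
  have hmem : ∀ (y w : L), w ∈ (N : Submodule k L) ⊔ Submodule.span k {φ x} → ⁅y, w⁆ ∈ N := by
    intro y w hw
    obtain ⟨r, hr, s, hs, rfl⟩ := Submodule.mem_sup.mp hw
    obtain ⟨c, rfl⟩ := Submodule.mem_span_singleton.mp hs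
    rw [lie_add, lie_smul]
    exact N.add_mem (lie_mem_right k L N y r hr) (N.smul_mem c (hbr y))
  let I : LieIdeal k L :=
    { ((N : Submodule k L) ⊔ Submodule.span k {φ x}) with
      lie_mem := fun {y w} hw => Submodule.mem_sup_left (hmem y w hw) }
  have hInil : LieRing.IsNilpotent I := by
    rw [LieAlgebra.isNilpotent_iff_forall (R := k)]
    intro z
    have hz : (z : L) ∈ (N : Submodule k L) ⊔ Submodule.span k {φ x} := z.2
    obtain ⟨n, hn, s, hs, hzeq⟩ := Submodule.mem_sup.mp hz
    obtain ⟨c, rfl⟩ := Submodule.mem_span_singleton.mp hs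
    refine ⟨m, ?_⟩
    ext y
    rw [hres I z m y, ← hzeq]
    have := hadz' n c hn m (y : L)
    simp only [hT] at this
    rw [hm] at this
    simpa using this
  have hle : I ≤ N := hmax I hInil
  apply hle
  change φ x ∈ (N : Submodule k L) ⊔ Submodule.span k {φ x}
  exact Submodule.mem_sup_right (Submodule.mem_span_singleton_self _)

end Groth.Agent.S14872
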