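import Groth.Statements.S14874
-- import your own Groth.Agent.* helpers here
import Mathlib
import Groth.Agent.S14872
import Groth.Agent.S14873

set_option autoImplicit false
universe u v
open PLie

namespace Groth.Agent.S14874

/-- Let `L` be a finite-dimensional Lie algebra over a field of characteristic `p` equipped with a
`p`-mapping `φ`. Let `N` be the nilradical of `L` (the ideal nilpotent as a Lie ring that contains
every such ideal) and `P` its `p`-radical (the largest ideal stable under `φ` all of whose elements
are `p`-nilpotent). Then `N = P` if and only if the centre of `L` is contained in `P`. -/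
theorem result
    (k : Type u) [Field k] (p : ℕ) [Fact p.Prime] [CharP k p]
    (L : Type v) [LieRing L] [LieAlgebra k L] [Module.Finite k L]
    (φ : PLie.PMap k p L)
    (N : LieIdeal k L) (hN : LieRing.IsNilpotent N)
    (hNmax : ∀ I : LieIdeal k L, LieRing.IsNilpotent I → I ≤ N)
    (P : LieIdeal k L) (hPsub : ∀ x ∈ P, φ x ∈ P) (hPnil : ∀ x ∈ P, PLie.IsPNilpotent φ x)
    (hPmax : ∀ J : LieIdeal k L, (∀ x ∈ J, φ x ∈ J) → (∀ x ∈ J, PLie.IsPNilpotent φ x) → J ≤ P) :
    N = P ↔ LieAlgebra.center k L ≤ P := by
  classical
  have hp : p ≠ 0 := (Fact.out : p.Prime).ne_zero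
  have hPN : P ≤ N := hNmax P (Groth.Agent.S14873.result k p L φ P hPsub hPnil)
  constructor
  · intro h
    rw [← h]
    apply hNmax
    infer_instance
  · intro hc
    refine le_antisymm ?_ hPN
    apply hPmax N
    · intro x hx
      exact Groth.Agent.S14872.result k p L φ N hN hNmax x hx
    · intro x hx
      -- ad x is nilpotent on L
      have hres : ∀ (z : N) (m : ℕ) (y : N),
          (((LieAlgebra.ad k N z) ^ m) y : L) = ((LieAlgebra.ad k L (z : L)) ^ m) (y : L) := by
        intro z m
        induction m with
        | zero => intro y; simp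
        | succ m ih =>
          intro y
          rw [pow_succ', Module.End.mul_apply, LieAlgebra.ad_apply, pow_succ', Module.End.mul_apply,
            LieAlgebra.ad_apply, ← ih]
          rfl
      obtain ⟨m, hm⟩ := LieAlgebra.nilpotent_ad_of_nilpotent_algebra k N
      have hadx : (LieAlgebra.ad k L x) ^ (m + 1) = 0 := by
        ext y
        have hy : ⁅x, y⁆ ∈ N := lie_mem_left k L N x y hx
        rw [pow_succ, Module.End.mul_apply, LieAlgebra.ad_apply]
        have := hres ⟨x, hx⟩ m ⟨⁅x, y⁆, hy⟩
        rw [hm] at this
        simpa using this.symm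
      have hiter : ∀ (n : ℕ) (x : L), LieAlgebra.ad k L (φ.toFun^[n] x) = LieAlgebra.ad k L x ^ (p ^ n) := by
        intro n x
        induction n with
        | zero => simp
        | succ n ih =>
          rw [Function.iterate_succ_apply', φ.ad_map, ih, ← pow_mul, pow_succ]
      -- choose j with p^j ≥ m+1
      have hp2 : 1 < p := (Fact.out : p.Prime).one_lt
      obtain ⟨j, hj⟩ : ∃ j, m + 1 ≤ p ^ j := ⟨m + 1, (Nat.lt_pow_self hp2).le⟩
      have hcen : φ.toFun^[j] x ∈ LieAlgebra.center k L := by
        rw [LieModule.mem_maxTrivSubmodule]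
        intro y
        rw [← lie_skew, neg_eq_zero, ← LieAlgebra.ad_apply (R := k), hiter,
          pow_eq_zero_of_le hj hadx]
        simp
      obtain ⟨i, hi⟩ := hPnil _ (hc hcen)
      exact ⟨i + j, by rw [Function.iterate_add_apply]; exact hi⟩

end Groth.Agent.S14874
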