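import Groth.Statements.S14875
-- import your own Groth.Agent.* helpers here
import Mathlib

set_option autoImplicit false
universe u v
open PLie

namespace Groth.Agent.S14875

/-- Let `L` be a finite-dimensional Lie algebra over a field of characteristic `p` equipped with a
`p`-mapping `φ`, whose Killing form is non-degenerate. Let `U` and `H` be Lie subalgebras of `L`
such that `H` is the normaliser of `U`, `U` is the set of elements of `H` that lie in the solvable
radical of `H` and are `p`-nilpotent, and the orthogonal of `U` for the Killing form is closed under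
the bracket. Then `U` is the orthogonal of `H` for the Killing form. (The published statement is for
the Lie algebra of a reductive group over a field of characteristic `p` with its canonical
`p`-structure; this row states it for any finite-dimensional Lie algebra with a `p`-mapping.) -/
theorem result
    (k : Type u) [Field k] (p : ℕ) [Fact p.Prime] [CharP k p]
    (L : Type v) [LieRing L] [LieAlgebra k L] [Module.Finite k L]
    (φ : PLie.PMap k p L) (hκ : (killingForm k L).Nondegenerate)
    (U H : LieSubalgebra k L) (hH : H = U.normalizer)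
    (hU : ∀ x : L, x ∈ U ↔ ∃ hx : x ∈ H, (⟨x, hx⟩ : ↥H) ∈ LieAlgebra.radical k ↥H ∧ PLie.IsPNilpotent φ x)
    (hperp : ∀ a b : L, (∀ y ∈ U, killingForm k L a y = 0) → (∀ y ∈ U, killingForm k L b y = 0) →
      ∀ y ∈ U, killingForm k L ⁅a, b⁆ y = 0) :
    ∀ x : L, x ∈ U ↔ ∀ h ∈ H, killingForm k L h x = 0 := by
  classical
  have hiter : ∀ (n : ℕ) (x : L), LieAlgebra.ad k L (φ.toFun^[n] x) = LieAlgebra.ad k L x ^ (p ^ n) := by
    intro n x
    induction n with
    | zero => simp
    | succ n ih =>
      rw [Function.iterate_succ_apply', φ.ad_map, ih, ← pow_mul, pow_succ]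
  have hUH : ∀ x ∈ U, x ∈ H := fun x hx => ((hU x).mp hx).1
  have hnorm : ∀ h ∈ H, ∀ u ∈ U, ⁅h, u⁆ ∈ U := by
    intro h hh u hu
    rw [hH] at hh
    exact (LieSubalgebra.mem_normalizer_iff U h).mp hh u hu
  -- Engel: U acts nilpotently on L
  have hnilU : LieModule.IsNilpotent U L := by
    rw [LieModule.isNilpotent_iff_forall (R := k)]
    intro u
    obtain ⟨_, _, n, hn⟩ := (hU (u : L)).mp u.2
    refine ⟨p ^ n, ?_⟩
    rw [LieSubalgebra.toEnd_eq, ← LieAlgebra.ad, ← hiter, hn]
    simp
  obtain ⟨m, hm⟩ := (LieModule.isNilpotent_iff k U L).mp hnilU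
  set S := fun j => LieModule.lowerCentralSeries k U L j with hS
  -- the filtration is stable under H
  have hstab : ∀ (j : ℕ), ∀ h ∈ H, ∀ t ∈ S j, ⁅h, t⁆ ∈ S j := by
    intro j
    induction j with
    | zero => intro h _ t _; simp [hS]
    | succ j ih =>
      intro h hh t ht
      simp only [hS, LieModule.lowerCentralSeries_succ] at ht ⊢
      rw [← LieSubmodule.mem_toSubmodule, LieSubmodule.lieIdeal_oper_eq_linear_span'] at ht ⊢
      refine Submodule.span_induction ?_ ?_ ?_ ?_ ht
      · rintro _ ⟨u, _, n, hn, rfl⟩
        rw [LieSubalgebra.coe_bracket_of_module, leibniz_lie]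
        refine Submodule.add_mem _ (Submodule.subset_span ?_) (Submodule.subset_span ?_)
        · exact ⟨⟨⁅h, (u : L)⁆, hnorm h hh u u.2⟩, LieSubmodule.mem_top _, n, hn, rfl⟩
        · exact ⟨u, LieSubmodule.mem_top _, ⁅h, n⁆, ih h hh n hn, rfl⟩
      · simp
      · intro a b _ _ ha hb
        rw [lie_add]; exact Submodule.add_mem _ ha hb
      · intro c a _ ha
        rw [lie_smul]; exact Submodule.smul_mem _ c ha
  have hstep : ∀ (j : ℕ), ∀ x ∈ U, ∀ t ∈ S j, ⁅x, t⁆ ∈ S (j + 1) := by
    intro j x hx t ht
    simp only [hS, LieModule.lowerCentralSeries_succ]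
    exact LieSubmodule.lie_mem_lie (x := (⟨x, hx⟩ : U)) (LieSubmodule.mem_top _) ht
  -- (A): H is orthogonal to U
  have hA : ∀ h ∈ H, ∀ x ∈ U, killingForm k L h x = 0 := by
    intro h hh x hx
    rw [killingForm_apply_apply]
    have hpow : ∀ (j : ℕ) (y : L), ((LieAlgebra.ad k L h ∘ₗ LieAlgebra.ad k L x) ^ j) y ∈ S j := by
      intro j
      induction j with
      | zero => intro y; simp [hS]
      | succ j ih =>
        intro y
        rw [pow_succ', Module.End.mul_apply, LinearMap.comp_apply, LieAlgebra.ad_apply,
          LieAlgebra.ad_apply]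
        exact hstab (j + 1) h hh _ (hstep j x hx _ (ih y))
    have hnil : IsNilpotent (LieAlgebra.ad k L h ∘ₗ LieAlgebra.ad k L x) := by
      refine ⟨m, ?_⟩
      ext y
      have := hpow m y
      simp only [hS] at this
      rw [hm] at this
      simpa using this
    exact (LinearMap.isNilpotent_trace_of_isNilpotent hnil).eq_zero
  -- formal part
  have hsymm : ∀ a b : L, killingForm k L a b = killingForm k L b a :=
    fun a b => LieModule.traceForm_comm k L L a b
  have hrefl : (killingForm k L).IsRefl := by
    intro a b hab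
    rw [hsymm]; exact hab
  have hdouble := LinearMap.BilinForm.orthogonal_orthogonal hκ hrefl (U : Submodule k L)
  -- membership in the double orthogonal
  have hmemUU : ∀ z : L, (∀ a : L, (∀ y ∈ U, killingForm k L a y = 0) → killingForm k L a z = 0) → z ∈ U := by
    intro z hz
    have : z ∈ (killingForm k L).orthogonal ((killingForm k L).orthogonal (U : Submodule k L)) := by
      rw [LinearMap.BilinForm.mem_orthogonal_iff]
      intro a ha
      rw [LinearMap.BilinForm.mem_orthogonal_iff] at ha
      apply hz a
      intro y hy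
      rw [hsymm]
      exact ha y hy
    rw [hdouble] at this
    exact this
  -- U^⊥ ⊆ H
  have hMH : ∀ a : L, (∀ y ∈ U, killingForm k L a y = 0) → a ∈ H := by
    intro a ha
    rw [hH, LieSubalgebra.mem_normalizer_iff]
    intro u hu
    apply hmemUU
    intro a' ha'
    -- κ(a', ⁅a,u⁆) = κ(⁅a',a⁆, u)
    have := LieModule.traceForm_apply_lie_apply k L L a' a u
    rw [killingForm, ← this]
    exact hperp a' a ha' ha u hu
  intro x
  constructor
  · intro hx h hh
    exact hA h hh x hx
  · intro hx
    apply hmemUU
    intro a ha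
    exact hx a (hMH a ha)

end Groth.Agent.S14875
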