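import Groth.Statements.S14879
import Mathlib
import Groth.Agent.Lib.Helper25.LaplaceSum

set_option autoImplicit false
universe u
open Finset
open AlgGrp

namespace Groth.Agent.S14879

open Finset Equiv

section aux

variable {p r : ℕ}

theorem fin_cases_add (x : Fin (p + r)) :
    (∃ i : Fin p, x = Fin.castAdd r i) ∨ (∃ j : Fin r, x = Fin.natAdd p j) := by
  by_cases h : x.val < p
  · left; exact ⟨⟨x.val, h⟩, Fin.ext rfl⟩
  · right
    refine ⟨⟨x.val - p, by omega⟩, Fin.ext ?_⟩
    simp only [Fin.natAdd_mk]
    omega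

/-- The row map: first the elements of `A` in increasing order, then those of `B`. -/
noncomputable def rho (A B : Finset (Fin (p + r))) (hA : A.card = p) (hB : B.card = r) :
    Fin (p + r) → Fin (p + r) :=
  Fin.addCases (fun i => A.orderEmbOfFin hA i) (fun j => B.orderEmbOfFin hB j)

variable (A B : Finset (Fin (p + r))) (hA : A.card = p) (hB : B.card = r)

theorem rho_left (i : Fin p) : rho A B hA hB (Fin.castAdd r i) = A.orderEmbOfFin hA i := by
  unfold rho; rw [Fin.addCases_left]

theorem rho_right (j : Fin r) : rho A B hA hB (Fin.natAdd p j) = B.orderEmbOfFin hB j := by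
  unfold rho; rw [Fin.addCases_right]

theorem exists_orderEmb_eq {s : ℕ} (C : Finset (Fin (p + r))) (hC : C.card = s) {x : Fin (p + r)}
    (hx : x ∈ C) : ∃ i, C.orderEmbOfFin hC i = x := by
  have h := Finset.range_orderEmbOfFin C hC
  have hx' : x ∈ Set.range (C.orderEmbOfFin hC) := by rw [h]; exact hx
  exact hx'

theorem castAdd_ne_natAdd (i : Fin p) (j : Fin r) : Fin.castAdd r i ≠ Fin.natAdd p j := by
  intro h
  have := congrArg Fin.val h
  simp only [Fin.val_castAdd, Fin.val_natAdd] at this
  omega

theorem lhs_eq {k : Type*} [Field k] (M : Matrix (Fin (p + r)) (Fin (p + r)) k) :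
    ∑ π : Equiv.Perm (Fin (p + r)), (((Equiv.Perm.sign π : ℤˣ) : ℤ) : k) *
      ((M * π.permMatrix k).submatrix (A.orderEmbOfFin hA) (Fin.castAdd r)).det *
      ((M * π.permMatrix k).submatrix (B.orderEmbOfFin hB) (Fin.natAdd p)).det =
    ((p.factorial * r.factorial : ℕ) : k) * (M.submatrix (rho A B hA hB) id).det := by
  rw [← Groth.Agent.Helper25.LaplaceSum.sum_sign_blocks_fin p r (M.submatrix (rho A B hA hB) id)]
  rw [← Equiv.sum_comp (Equiv.inv (Perm (Fin (p + r))))]
  apply Finset.sum_congr rfl
  intro π _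
  rw [Equiv.inv_apply, Perm.sign_inv]
  have hmul : M * (π⁻¹).permMatrix k = M.submatrix id π := by
    rw [show Perm.permMatrix k π⁻¹ = (toPEquiv π⁻¹).toMatrix from rfl,
      PEquiv.mul_toMatrix_toPEquiv]
    rfl
  rw [hmul]
  congr 2
  · congr 1
    ext i j
    simp [rho_left]
  · ext i j
    simp [rho_right]

theorem det_rho_eq_zero {k : Type*} [Field k] (M : Matrix (Fin (p + r)) (Fin (p + r)) k)
    (h : B ≠ Aᶜ) : (M.submatrix (rho A B hA hB) id).det = 0 := by
  have hx : ∃ x, x ∈ A ∧ x ∈ B := by
    by_contra hcon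
    push Not at hcon
    apply h
    apply Finset.eq_of_subset_of_card_le
    · intro y hy
      rw [Finset.mem_compl]
      exact fun hyA => hcon y hyA hy
    · rw [Finset.card_compl, Fintype.card_fin, hA, hB]
      omega
  obtain ⟨x, hxA, hxB⟩ := hx
  obtain ⟨i, hi⟩ := exists_orderEmb_eq A hA hxA
  obtain ⟨j, hj⟩ := exists_orderEmb_eq B hB hxB
  apply Matrix.det_zero_of_row_eq (castAdd_ne_natAdd i j)
  ext c
  simp [rho_left, rho_right, hi, hj]

theorem rho_injective (h : B = Aᶜ) : Function.Injective (rho A B hA hB) := by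
  have hdisj : ∀ (i : Fin p) (j : Fin r), A.orderEmbOfFin hA i ≠ B.orderEmbOfFin hB j := by
    intro i j hij
    have h1 : A.orderEmbOfFin hA i ∈ A := Finset.orderEmbOfFin_mem A hA i
    have h2 : B.orderEmbOfFin hB j ∈ B := Finset.orderEmbOfFin_mem B hB j
    have hsub : ∀ y ∈ B, y ∈ Aᶜ := fun y hy => h ▸ hy
    have h3 := hsub _ h2
    rw [Finset.mem_compl, ← hij] at h3
    exact h3 h1
  intro x y hxy
  rcases fin_cases_add x with ⟨i, rfl⟩ | ⟨i, rfl⟩ <;> rcases fin_cases_add y with ⟨j, rfl⟩ | ⟨j, rfl⟩
  · rw [rho_left, rho_left] at hxy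
    rw [(A.orderEmbOfFin hA).injective hxy]
  · rw [rho_left, rho_right] at hxy
    exact absurd hxy (hdisj i j)
  · rw [rho_right, rho_left] at hxy
    exact absurd hxy.symm (hdisj j i)
  · rw [rho_right, rho_right] at hxy
    rw [(B.orderEmbOfFin hB).injective hxy]

theorem sign_rho (h : B = Aᶜ) (σ : Perm (Fin (p + r))) (hσ : ∀ x, σ x = rho A B hA hB x) :
    ((Perm.sign σ : ℤˣ) : ℤ) = (-1) ^ ((A ×ˢ Aᶜ).filter (fun ab => ab.2 < ab.1)).card := by
  classical
  rw [Perm.sign_eq_prod_prod_Iio, Finset.prod_sigma', Finset.prod_ite]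
  simp only [Finset.prod_const_one, one_mul, Finset.prod_const, Units.val_pow_eq_pow_val,
    Units.val_neg, Units.val_one]
  congr 1
  apply Finset.card_bij (fun x _ => (σ x.2, σ x.1))
  · intro x hx
    rw [Finset.mem_filter, Finset.mem_sigma, Finset.mem_Iio] at hx
    obtain ⟨⟨-, hlt⟩, hnot⟩ := hx
    have hne : σ x.2 ≠ σ x.1 := fun he => (ne_of_lt hlt) (σ.injective he)
    have hgt : σ x.1 < σ x.2 := lt_of_le_of_ne (not_lt.1 hnot) (Ne.symm hne)
    rw [Finset.mem_filter, Finset.mem_product]
    rcases fin_cases_add x.2 with ⟨i, hi⟩ | ⟨i, hi⟩ <;>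
      rcases fin_cases_add x.1 with ⟨j, hj⟩ | ⟨j, hj⟩
    · exfalso
      rw [hσ, hσ, hi, hj, rho_left, rho_left] at hgt
      rw [hi, hj] at hlt
      have : i < j := by
        have := Fin.lt_def.1 hlt
        simp only [Fin.val_castAdd] at this
        exact Fin.lt_def.2 this
      exact absurd ((A.orderEmbOfFin hA).strictMono this) (not_lt.2 hgt.le)
    · refine ⟨⟨?_, ?_⟩, hgt⟩
      · show σ x.2 ∈ A
        rw [hσ, hi, rho_left]
        exact Finset.orderEmbOfFin_mem A hA i
      · show σ x.1 ∈ Aᶜ
        rw [hσ, hj, rho_right, ← h]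
        exact Finset.orderEmbOfFin_mem B hB j
    · exfalso
      rw [hi, hj] at hlt
      have := Fin.lt_def.1 hlt
      simp only [Fin.val_castAdd, Fin.val_natAdd] at this
      omega
    · exfalso
      rw [hσ, hσ, hi, hj, rho_right, rho_right] at hgt
      rw [hi, hj] at hlt
      have : i < j := by
        have := Fin.lt_def.1 hlt
        simp only [Fin.val_natAdd] at this
        exact Fin.lt_def.2 (by omega)
      exact absurd ((B.orderEmbOfFin hB).strictMono this) (not_lt.2 hgt.le)
  · intro x hx y hy hxy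
    have h1 : σ x.2 = σ y.2 := congrArg Prod.fst hxy
    have h2 : σ x.1 = σ y.1 := congrArg Prod.snd hxy
    have e1 := σ.injective h1
    have e2 := σ.injective h2
    cases x; cases y
    simp only at e1 e2
    subst e1 e2
    rfl
  · intro ab hab
    rw [Finset.mem_filter, Finset.mem_product] at hab
    obtain ⟨⟨haA, hbA⟩, hlt⟩ := hab
    rw [← h] at hbA
    obtain ⟨i, hi⟩ := exists_orderEmb_eq A hA haA
    obtain ⟨j, hj⟩ := exists_orderEmb_eq B hB hbA
    refine ⟨⟨Fin.natAdd p j, Fin.castAdd r i⟩, ?_, ?_⟩
    · rw [Finset.mem_filter, Finset.mem_sigma, Finset.mem_Iio]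
      refine ⟨⟨Finset.mem_univ _, ?_⟩, ?_⟩
      · rw [Fin.lt_def]
        simp only [Fin.val_castAdd, Fin.val_natAdd]
        omega
      · show ¬ σ (Fin.castAdd r i) < σ (Fin.natAdd p j)
        rw [hσ, hσ, rho_left, rho_right, hi, hj]
        exact not_lt.2 hlt.le
    · show (σ (Fin.castAdd r i), σ (Fin.natAdd p j)) = ab
      rw [hσ, hσ, rho_left, rho_right, hi, hj]

end aux


/-- Let k be a field of characteristic zero, n = p + r with p, r ≥ 1, M an n × n matrix over k, A a set
of p row indices and B a set of r row indices, both listed increasingly. For a permutation π of the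
indices, with permutation matrix P_π, let Y_A(M·P_π) be the minor of M·P_π on the rows A and the
first p columns, and Z_B(M·P_π) the minor on the rows B and the last r columns. Then the sum over
all π of sign(π)·Y_A(M·P_π)·Z_B(M·P_π) equals p!·r!·(−1)^N·det M when B is the complement of A,
where N is the number of pairs (a, b) with a in A, b outside A and b < a, and equals 0 otherwise.
Taking det M = 1 this says that the pairing (f, h) ↦ Σ_π sign(π) f(π) h(π) between the spans of the
left p-minors and of the right r-minors is invariant under left translation by matrices of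
determinant one and pairs Y_A with the signed complementary minor to p!·r!. (The published statement
asserts that the two families of minors are dual bases for this pairing, that is, the value 1 in
place of p!·r!; the p!·r! permutations preserving the two column blocks each contribute the same
signed term, so this row carries that factor, which is 1 only for n = 2.) -/
theorem result (k : Type u) [Field k] [CharZero k]
    (p r : ℕ) (hp : 1 ≤ p) (hr : 1 ≤ r) (M : Matrix (Fin (p + r)) (Fin (p + r)) k)
    (A : Finset (Fin (p + r))) (hA : A.card = p) (B : Finset (Fin (p + r))) (hB : B.card = r) :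
    ∑ π : Equiv.Perm (Fin (p + r)), (((Equiv.Perm.sign π : ℤˣ) : ℤ) : k) *
      ((M * π.permMatrix k).submatrix (A.orderEmbOfFin hA) (Fin.castAdd r)).det *
      ((M * π.permMatrix k).submatrix (B.orderEmbOfFin hB) (Fin.natAdd p)).det =
    if B = Aᶜ then ((p.factorial * r.factorial : ℕ) : k) *
      (-1 : k) ^ ((A ×ˢ Aᶜ).filter (fun ab => ab.2 < ab.1)).card * M.det else 0 := by
  classical
  rw [lhs_eq A B hA hB M]
  by_cases h : B = Aᶜ
  · rw [if_pos h]
    have hinj := rho_injective A B hA hB h
    obtain ⟨σ, hσ⟩ : ∃ σ : Equiv.Perm (Fin (p + r)), ∀ x, σ x = rho A B hA hB x :=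
      ⟨Equiv.ofBijective _ hinj.bijective_of_finite, fun x => rfl⟩
    have hsub : M.submatrix (rho A B hA hB) id = M.submatrix σ id := by
      ext i j
      simp [hσ]
    rw [hsub, Matrix.det_permute, sign_rho A B hA hB h σ hσ]
    push_cast
    ring
  · rw [if_neg h, det_rho_eq_zero A B hA hB M h, mul_zero]

end Groth.Agent.S14879
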