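import Groth.Statements.S14885
import Mathlib

set_option autoImplicit false
universe u v
open CategoryTheory TopologicalSpace Opposite AlgebraicGeometry Topology
open AlgGrp

namespace Groth.Agent.S14885

section helpers
universe w

lemma exists_lift_ringHom {A B C : Type*} [CommRing A] [CommRing B] [CommRing C]
    (ι : A →+* B) (hι : Function.Injective ι) (θ : C →+* B) (h : ∀ c, θ c ∈ Set.range ι) :
    ∃ ρ : C →+* A, ∀ c, ι (ρ c) = θ c := by
  choose ρ₀ hρ₀ using h
  refine ⟨{ toFun := ρ₀, map_one' := ?_, map_mul' := ?_, map_zero' := ?_, map_add' := ?_ }, hρ₀⟩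
  · apply hι; rw [hρ₀, map_one, map_one]
  · intro a b; apply hι; rw [hρ₀, map_mul, map_mul, hρ₀, hρ₀]
  · apply hι; rw [hρ₀, map_zero, map_zero]
  · intro a b; apply hι; rw [hρ₀, map_add, map_add, hρ₀, hρ₀]

lemma map_map_eq_map {X : TopCat.{w}} (P : TopCat.Presheaf CommRingCat.{u} X)
    {A B C : (Opens X)ᵒᵖ} (m1 : A ⟶ B) (m2 : B ⟶ C) (m : A ⟶ C)
    (x : P.obj A) : P.map m2 (P.map m1 x) = P.map m x := by
  have h1 : P.map m2 (P.map m1 x) = P.map (m1 ≫ m2) x := by
    rw [CategoryTheory.Functor.map_comp, ConcreteCategory.comp_apply]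
  rw [h1, Subsingleton.elim (m1 ≫ m2) m]

lemma map_map_eq {X : TopCat.{w}} (P : TopCat.Presheaf CommRingCat.{u} X)
    {A B B' C : (Opens X)ᵒᵖ} (m1 : A ⟶ B) (m2 : B ⟶ C) (m1' : A ⟶ B') (m2' : B' ⟶ C)
    (x : P.obj A) : P.map m2 (P.map m1 x) = P.map m2' (P.map m1' x) := by
  rw [map_map_eq_map P m1 m2 (m1' ≫ m2'), CategoryTheory.Functor.map_comp, ConcreteCategory.comp_apply]

lemma map_map_eq_self {X : TopCat.{w}} (P : TopCat.Presheaf CommRingCat.{u} X)
    {A B : (Opens X)ᵒᵖ} (m1 : A ⟶ B) (m2 : B ⟶ A)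
    (x : P.obj A) : P.map m2 (P.map m1 x) = x := by
  rw [map_map_eq_map P m1 m2 (𝟙 A), CategoryTheory.Functor.map_id]
  rfl

end helpers


/-- Let a group Γ act on a ringed space X (a topological space with a sheaf of rings) by automorphisms
τ_g, and let π : X → Y be a Γ-invariant morphism of ringed spaces which exhibits Y as the quotient
ringed space X/Γ: the underlying continuous map of π is a topological quotient map whose fibres are
exactly the Γ-orbits, and for every open subset V of Y the ring map O_Y(V) → O_X(π⁻¹V) is injective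
with image the sections s satisfying τ_g^♯(s) = s for all g. Then (Y, π) is a categorical quotient
for the action in the category of ringed spaces: every morphism of ringed spaces f : X → Z with f ∘
τ_g = f for all g (as morphisms of ringed spaces) factors uniquely as f = f̄ ∘ π. -/
theorem result (X Y : SheafedSpace CommRingCat.{u}) (Γ : Type v) [Group Γ]
    (τ : Γ →* Aut X) (π : X ⟶ Y) (hτ : ∀ g : Γ, (τ g).hom ≫ π = π)
    (h1 : IsQuotientMap π.hom.base)
    (h2 : ∀ x x' : X, π.hom.base x = π.hom.base x' ↔ ∃ g : Γ, (τ g).hom.hom.base x = x')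
    (h3 : ∀ V : Opens Y, Function.Injective (π.hom.c.app (op V)) ∧
      Set.range (π.hom.c.app (op V)) =
        {s | ∀ g : Γ, (τ g).hom.hom.c.app (op ((Opens.map π.hom.base).obj V)) s =
          X.presheaf.map (eqToHom (congrArg (fun f : X ⟶ Y => op ((Opens.map f.hom.base).obj V)) (hτ g).symm)) s})
    (Z : SheafedSpace CommRingCat.{u}) (f : X ⟶ Z) (hf : ∀ g : Γ, (τ g).hom ≫ f = f) :
    ∃! fbar : Y ⟶ Z, π ≫ fbar = f := by
  classical
  have hfac : Function.FactorsThrough f.hom.base.hom π.hom.base.hom := by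
    intro x x' hxx'
    obtain ⟨g, rfl⟩ := (h2 x x').mp hxx'
    have := congrArg (fun k : X ⟶ Z => k.hom.base x) (hf g)
    exact this.symm
  let bC : C(Y, Z) := Topology.IsQuotientMap.lift (f := π.hom.base.hom) h1 f.hom.base.hom hfac
  let b : (Y : TopCat) ⟶ (Z : TopCat) := TopCat.ofHom bC
  have hb : π.hom.base ≫ b = f.hom.base := by
    ext x
    exact congrFun (congrArg DFunLike.coe
      (Topology.IsQuotientMap.lift_comp (f := π.hom.base.hom) h1 f.hom.base.hom hfac)) x
  have hopen : ∀ W : Opens Z, (Opens.map f.hom.base).obj W =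
      (Opens.map π.hom.base).obj ((Opens.map b).obj W) := by
    intro W
    rw [← hb]; rfl
  -- invariance
  have hinv : ∀ (W : Opens Z) (s : Z.presheaf.obj (op W)) (g : Γ),
      (τ g).hom.hom.c.app (op ((Opens.map π.hom.base).obj ((Opens.map b).obj W)))
        (X.presheaf.map (eqToHom (congrArg op (hopen W))) (f.hom.c.app (op W) s)) =
      X.presheaf.map (eqToHom (congrArg (fun k : X ⟶ Y =>
        op ((Opens.map k.hom.base).obj ((Opens.map b).obj W))) (hτ g).symm))
        (X.presheaf.map (eqToHom (congrArg op (hopen W))) (f.hom.c.app (op W) s)) := by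
    intro W s g
    have key1 := PresheafedSpace.congr_app (congrArg InducedCategory.Hom.hom (hf g)) (op W)
    obtain ⟨e1, he1⟩ : ∃ e1 : op ((Opens.map f.hom.base).obj W) =
        op ((Opens.map (τ g).hom.hom.base).obj ((Opens.map f.hom.base).obj W)),
        (τ g).hom.hom.c.app (op ((Opens.map f.hom.base).obj W)) (f.hom.c.app (op W) s) =
          X.presheaf.map (eqToHom e1) (f.hom.c.app (op W) s) :=
      ⟨_, ConcreteCategory.congr_hom key1 s⟩
    rw [NatTrans.naturality_apply, he1]
    show X.presheaf.map _ (X.presheaf.map _ _) = X.presheaf.map _ (X.presheaf.map _ _)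
    exact map_map_eq X.presheaf _ _ _ _ _
  have hlift : ∀ W : Opens Z, ∃ ρ : Z.presheaf.obj (op W) →+*
      Y.presheaf.obj (op ((Opens.map b).obj W)),
      ∀ s, π.hom.c.app (op ((Opens.map b).obj W)) (ρ s) =
        X.presheaf.map (eqToHom (congrArg op (hopen W))) (f.hom.c.app (op W) s) := by
    intro W
    refine exists_lift_ringHom (π.hom.c.app (op ((Opens.map b).obj W))).hom (h3 _).1
      ((X.presheaf.map (eqToHom (congrArg op (hopen W)))).hom.comp (f.hom.c.app (op W)).hom) ?_
    intro s
    exact (Set.ext_iff.mp (h3 ((Opens.map b).obj W)).2 _).mpr (fun g => hinv W s g)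
  choose ρ hρ using hlift
  have hρnat : ∀ (W W' : Opens Z) (i : W' ⟶ W) (s : Z.presheaf.obj (op W)),
      ρ W' (Z.presheaf.map i.op s) = Y.presheaf.map ((Opens.map b).map i).op (ρ W s) := by
    intro W W' i s
    apply (h3 ((Opens.map b).obj W')).1
    rw [hρ W', NatTrans.naturality_apply π.hom.c ((Opens.map b).map i).op (ρ W s), hρ W,
      NatTrans.naturality_apply f.hom.c i.op s]
    show X.presheaf.map _ (X.presheaf.map _ _) = X.presheaf.map _ (X.presheaf.map _ _)
    exact map_map_eq X.presheaf _ _ _ _ _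
  let cbar : Z.presheaf ⟶ b _* Y.presheaf :=
    { app := fun W => CommRingCat.ofHom (ρ W.unop)
      naturality := by
        intro W W' i
        ext s
        exact hρnat W.unop W'.unop i.unop s }
  let fbar : Y ⟶ Z := InducedCategory.homMk ⟨b, cbar⟩
  have hcomp : π ≫ fbar = f := by
    refine SheafedSpace.ext _ _ hb ?_
    ext W s
    show X.presheaf.map _ (π.hom.c.app (op ((Opens.map b).obj W)) (ρ W s)) = f.hom.c.app (op W) s
    rw [hρ W s]
    exact map_map_eq_self X.presheaf _ _ _
  refine ⟨fbar, hcomp, ?_⟩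
  intro fbar' hfbar'
  have hbase : fbar'.hom.base = b := by
    have h4 : π.hom.base ≫ fbar'.hom.base = π.hom.base ≫ b := by
      rw [hb]; exact congrArg (fun k : X ⟶ Z => k.hom.base) hfbar'
    haveI : Epi π.hom.base := (TopCat.epi_iff_surjective _).mpr h1.surjective
    exact (cancel_epi π.hom.base).mp h4
  refine SheafedSpace.ext _ _ hbase ?_
  ext W s
  show Y.presheaf.map _ (fbar'.hom.c.app (op W) s) = ρ W s
  apply (h3 ((Opens.map b).obj W)).1
  rw [hρ W s, NatTrans.naturality_apply π.hom.c]
  have key1 := PresheafedSpace.congr_app (congrArg InducedCategory.Hom.hom hfbar') (op W)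
  obtain ⟨e1, he1⟩ : ∃ e1 : op ((Opens.map f.hom.base).obj W) =
      op ((Opens.map π.hom.base).obj ((Opens.map fbar'.hom.base).obj W)),
      π.hom.c.app (op ((Opens.map fbar'.hom.base).obj W)) (fbar'.hom.c.app (op W) s) =
        X.presheaf.map (eqToHom e1) (f.hom.c.app (op W) s) :=
    ⟨_, ConcreteCategory.congr_hom key1 s⟩
  show X.presheaf.map _ (π.hom.c.app (op ((Opens.map fbar'.hom.base).obj W))
    (fbar'.hom.c.app (op W) s)) = _
  rw [he1]
  exact map_map_eq_map X.presheaf _ _ _ _

end Groth.Agent.S14885
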