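import Groth.Statements.S14887
-- import your own Groth.Agent.* helpers here
import Mathlib
import Groth.Agent.Lib.Helper12.ValStalk
import Groth.Agent.Lib.Helper12.ValDimSch
import Groth.Agent.Lib.Helper12.ChevalleyCor
import Groth.Agent.Lib.Helper12.ClosedSub
import Groth.Agent.Lib.Helper12.FibreMax

set_option autoImplicit false
universe u
open CategoryTheory AlgebraicGeometry
open FlatMor

namespace Groth.Agent.S14887

open Groth.Agent.Lib.Helper12 Groth.Agent.Lib.Helper12.SchemeDimFT
  Groth.Agent.Lib.Helper12.SchemeDimIneq Groth.Agent.Lib.Helper12.ValDim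
  Groth.Agent.Lib.Helper12.ValStalk


/-- Let R be a valuation ring and let φ : X → Spec R be flat and locally of finite presentation. Call x
∈ X fibre-generic when it is the generic point of an irreducible component of its fibre, i.e. no
point y ≠ x with φ y = φ x specializes to x. Then every generization of a fibre-generic point is
fibre-generic. (The published statement allows an arbitrary base scheme and takes φ finitely
presented. Over a two-dimensional base it fails: for the affine line over the affine plane with
coordinates a, b, the closed point u = a/b of the generic fibre specializes to the generic point of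
the fibre over a = b = 0, and the chain-lifting step of the published proof does not hold in that
generality. This row takes the base to be the spectrum of a valuation ring, the case in which the
result is applied to relative curves, and assumes only local finite presentation, the property being
local on X.) -/
theorem result
    (R : Type u) [CommRing R] [IsDomain R] [ValuationRing R] {X : Scheme.{u}}
    (φ : X ⟶ Spec (CommRingCat.of R)) [Flat φ] [LocallyOfFinitePresentation φ]
    (x x' : X) (hgen : x' ⤳ x) (hx : ∀ y : X, y ⤳ x → φ y = φ x → y = x) :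
    ∀ y : X, y ⤳ x' → φ y = φ x' → y = x' := by
  intro y hy1 hy2
  by_contra hne
  haveI : LocallyOfFiniteType φ := inferInstance
  -- Step A: `trn φ y ≤ trn φ x`
  have hyx : y ⤳ x := hy1.trans hgen
  obtain ⟨x₀, hx₀⟩ := ClosedSub.exists_clSubι_eq X y x hyx
  have h1 := ChevalleyCor.dim_generic_fiber_le_fibreDimAt (ClosedSub.clSubι X y ≫ φ) x₀
  rw [SchemeDimIneq.dim_generic_fiber_eq_trn (ClosedSub.clSubι X y ≫ φ)] at h1
  obtain ⟨z, hz1, hz2, hz3⟩ :=
    ClosedSub.exists_generization_trn_eq_fibreDimAt (ClosedSub.clSubι X y ≫ φ) x₀
  have hzx : z = x₀ := by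
    apply (ClosedSub.clSubι X y).isEmbedding.injective
    rw [hx₀]
    apply hx
    · rw [← hx₀]; exact hz2.map (ClosedSub.clSubι X y).continuous
    · rw [← hx₀]; exact hz1
  rw [hzx] at hz3
  have h2 : trn (ClosedSub.clSubι X y ≫ φ) (genericPoint _) ≤
      trn (ClosedSub.clSubι X y ≫ φ) x₀ := by exact_mod_cast h1.trans hz3
  rw [ClosedSub.trn_comp_preimmersion, ClosedSub.trn_comp_preimmersion,
    ClosedSub.clSubι_genericPoint, hx₀] at h2
  -- Step B: `trn φ x ≤ trn φ x'`
  obtain ⟨hd, hv⟩ := stalk_valuation' R (φ x)
  have h3 : trn φ x ≤ trn φ x' := trn_le_of_valuationRing_stalk φ x x' hgen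
  -- Step C
  have h4 := FibreMax.trn_lt_of_specializes φ x' y hy2 hy1 hne
  exact absurd (h2.trans h3) (not_le.mpr h4)

end Groth.Agent.S14887
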