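import Groth.Statements.S14892
-- import your own Groth.Agent.* helpers here
import Mathlib
import Groth.Agent.Lib.Helper12.ValDim5
import Groth.Agent.Lib.Helper12.PrimeFieldTrdeg
import Groth.Agent.Lib.Helper12.DedekindPruefer

set_option autoImplicit false
universe u
open CAlg

namespace Groth.Agent.S14892

open Groth.Agent.Lib.Helper12.ValDim Groth.Agent.Lib.Helper12.DedekindPruefer
  Groth.Agent.Lib.Helper12.PrimeFieldTrdeg


/-- If the field K has finite transcendence degree d over its prime subfield, then every valuation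
subring of K has height (Krull dimension) at most d + 1. -/
theorem result
    (K : Type u) [Field K] (A : ValuationSubring K) (d : ℕ)
    (hd : Algebra.trdeg (⊥ : Subfield K) K = d) :
    ringKrullDim A ≤ ((d + 1 : ℕ) : WithBot ℕ∞) := by
  classical
  have hℤ : ∀ (p : Ideal ℤ) [p.IsPrime], ValuationRing (Localization.AtPrime p) :=
    fun p _ => valuationRing_atPrime_of_dedekind ℤ p
  have hdim1 : ringKrullDim ℤ = 1 := IsPrincipalIdealRing.ringKrullDim_eq_one ℤ Int.not_isField
  -- the base ring: a copy of `ℤ` in the universe of `K`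
  haveI : IsDomain (ULift.{u} ℤ) := (ULift.ringEquiv (R := ℤ)).toMulEquiv.isDomain
  have hsurj : Function.Surjective (Int.castRingHom (ULift.{u} ℤ)) := by
    intro r
    refine ⟨r.down, ?_⟩
    apply ULift.down_injective
    simp
  have hR₀ : ∀ (p : Ideal (ULift.{u} ℤ)) [p.IsPrime], ValuationRing (Localization.AtPrime p) :=
    fun p _ => pruefer_of_surjective hℤ (Int.castRingHom (ULift.{u} ℤ)) hsurj p
  have hdim2 : ringKrullDim (ULift.{u} ℤ) = 1 := by
    rw [ringKrullDim_eq_of_ringEquiv (ULift.ringEquiv (R := ℤ)), hdim1]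
  have hdimR₀ : ringKrullDim (ULift.{u} ℤ) < ⊤ := by
    rw [hdim2]
    exact WithBot.coe_lt_coe.mpr (ENat.coe_lt_top 1)
  letI : Algebra (ULift.{u} ℤ) A := ULift.algebra' ℤ A
  unfold ringKrullDim Order.krullDim
  refine iSup_le fun l => ?_
  have hx : ∀ i : Fin l.length, ∃ x : A, x ∈ (l i.succ).asIdeal ∧ x ∉ (l i.castSucc).asIdeal :=
    fun i => SetLike.exists_of_lt (l.step i)
  choose x hx1 hx2 using hx
  let s : Finset A := Finset.univ.image x
  let S : Subalgebra (ULift.{u} ℤ) A := Algebra.adjoin (ULift.{u} ℤ) (s : Set A)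
  haveI : Algebra.FiniteType (ULift.{u} ℤ) S :=
    (Subalgebra.fg_iff_finiteType S).mp (Subalgebra.fg_adjoin_finset s)
  have hxS : ∀ i, x i ∈ S := fun i =>
    Algebra.subset_adjoin (Finset.mem_coe.mpr (Finset.mem_image_of_mem x (Finset.mem_univ i)))
  let c : PrimeSpectrum A → PrimeSpectrum S := PrimeSpectrum.comap (algebraMap S A)
  have hstep : ∀ i : Fin l.length, c (l i.castSucc) < c (l i.succ) := by
    intro i
    have hle : c (l i.castSucc) ≤ c (l i.succ) := Ideal.comap_mono (l.step i).le
    refine lt_of_le_of_ne hle ?_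
    intro h
    have h1 : (⟨x i, hxS i⟩ : S) ∈ (c (l i.succ)).asIdeal := hx1 i
    rw [← h] at h1
    exact hx2 i h1
  let L : LTSeries (PrimeSpectrum S) :=
    { length := l.length
      toFun := fun i => c (l i)
      step := hstep }
  have hδ := isDimFun_delta (R := ULift.{u} ℤ) (S := S) hR₀ hdimR₀
  have hlen := hδ.length_le L
  -- bounds
  have hlow : ∀ (P : Ideal S) [P.IsPrime], (-1 : ℤ) ≤ delta (ULift.{u} ℤ) P := by
    intro P _
    unfold delta
    have h2 := Ideal.height_le_ringKrullDim_of_isPrime (I := P.under (ULift.{u} ℤ))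
    rw [hdim2] at h2
    obtain ⟨m, hm⟩ := ENat.ne_top_iff_exists.mp
      (height_ne_top_of_dim hdimR₀ (P.under (ULift.{u} ℤ)))
    rw [← hm] at h2 ⊢
    have h2' : m ≤ 1 := by exact_mod_cast h2
    simp only [ENat.toNat_coe]
    omega
  let j : S →+* K := (algebraMap A K).comp (algebraMap S A)
  have hj : Function.Injective j :=
    (Subtype.val_injective).comp (Subtype.val_injective)
  have hbot : delta (ULift.{u} ℤ) (⊥ : Ideal S) ≤ d := by
    unfold delta
    have h1 := trdeg_bot_le (R₀ := ULift.{u} ℤ) hsurj j hj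
    rw [hd] at h1
    obtain ⟨a, ha⟩ := exists_trdeg_under_eq (R := ULift.{u} ℤ) (⊥ : Ideal S)
    rw [ha] at h1 ⊢
    have h1' : a ≤ d := by exact_mod_cast h1
    rw [Cardinal.toNat_natCast]
    omega
  have hup : ∀ (P : Ideal S) [P.IsPrime], delta (ULift.{u} ℤ) P ≤ d := by
    intro P _
    by_cases h : P = ⊥
    · subst h; exact hbot
    · have hlt : (⊥ : Ideal S) < P := bot_lt_iff_ne_bot.mpr h
      exact (delta_lt hR₀ hdimR₀ ⊥ P hlt).le.trans hbot
  have h1 := hup L.head.asIdeal
  have h2 := hlow L.last.asIdeal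
  have h3 : l.length ≤ d + 1 := by
    have : (L.length : ℤ) = l.length := rfl
    omega
  exact_mod_cast h3

end Groth.Agent.S14892
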