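import Groth.Statements.S14893
import Groth.Agent.Lib.Helper27.PDim4
open Groth.Agent.Lib.Helper27

set_option autoImplicit false
universe u
open CAlg

namespace Groth.Agent.S14893

/-- Every valuation ring R is a filtered union of subrings which are valuation rings with finite
spectrum (finite height): there is a nonempty directed index type and a monotone family of such
subrings of R whose supremum is R. -/
theorem result
    (R : Type u) [CommRing R] [IsDomain R] [ValuationRing R] :
    ∃ (ι : Type u) (_ : Preorder ι) (_ : IsDirected ι (fun a b ↦ a ≤ b)) (_ : Nonempty ι)
      (F : ι → Subring R), Monotone F ∧ (⨆ i, F i) = ⊤ ∧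
        ∀ i, ValuationRing (F i) ∧ Finite (PrimeSpectrum (F i)) := by
  exact PDim.valuationRing_directed_union R

end Groth.Agent.S14893
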