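import Groth.Statements.S14901
-- import your own Groth.Agent.* helpers here
import Mathlib
import Groth.Agent.Lib.Helper12.FlatDim
import Groth.Agent.Lib.Helper12.JacLocalDim
import Groth.Agent.Lib.Helper12.GenericImageSch

set_option autoImplicit false
universe u
open MovLem

namespace Groth.Agent.S14901
open Groth.Agent.Lib.Helper12 Groth.Agent.Lib.Helper12.SchemeDimFT
  Groth.Agent.Lib.Helper12.SchemeDimIneq Groth.Agent.Lib.Helper12.Equidim
  Groth.Agent.Lib.Helper12.FlatDim


open AlgebraicGeometry CategoryTheory in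
/-- Let k be a field, let S and X be separated k-schemes of finite type that are locally equidimensional
(all irreducible components passing through a given point have the same dimension), let f : S → X be
a k-morphism and Z ⊆ X a closed subset. Let d be the dimension of the image f(S), as a subspace of
X. If every point s of S with f(s) ∈ Z satisfies dim O_{S,s} ≥ d + 1 (equivalently: the closed
subset f⁻¹(Z) of S has local codimension at least d + 1 at each of its points), then f⁻¹(Z) is
empty. -/
theorem result (k : Type u) [Field k] (S X : Scheme.{u})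
    (pS : S ⟶ Spec (CommRingCat.of k)) (pX : X ⟶ Spec (CommRingCat.of k))
    [IsSeparated pS] [LocallyOfFiniteType pS] [QuasiCompact pS]
    [IsSeparated pX] [LocallyOfFiniteType pX] [QuasiCompact pX]
    (hS : ∀ (s : S) (A B : Set S), A ∈ irreducibleComponents (S : Type u) → B ∈ irreducibleComponents (S : Type u) →
      s ∈ A → s ∈ B → topologicalKrullDim A = topologicalKrullDim B)
    (hX : ∀ (x : X) (A B : Set X), A ∈ irreducibleComponents (X : Type u) → B ∈ irreducibleComponents (X : Type u) →
      x ∈ A → x ∈ B → topologicalKrullDim A = topologicalKrullDim B)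
    (f : S ⟶ X) (hf : f ≫ pX = pS) (Z : Set X) (hZ : IsClosed Z)
    (h : ∀ s : S, f.base s ∈ Z →
      topologicalKrullDim (Set.range f.base) + 1 ≤ ringKrullDim (S.presheaf.stalk s)) :
    f.base ⁻¹' Z = ∅ := by
  subst hf
  haveI : LocallyOfFiniteType f := locallyOfFiniteType_of_comp f pX
  letI : X.Over (Spec (CommRingCat.of k)) := ⟨pX⟩
  letI : S.Over (Spec (CommRingCat.of k)) := ⟨f ≫ pX⟩
  haveI : LocallyOfFiniteType (X ↘ Spec (CommRingCat.of k)) := ‹LocallyOfFiniteType pX›
  haveI : LocallyOfFiniteType (S ↘ Spec (CommRingCat.of k)) :=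
    inferInstanceAs (LocallyOfFiniteType (f ≫ pX))
  by_contra hne
  obtain ⟨s, hs⟩ := Set.nonempty_iff_ne_empty.mpr hne
  obtain ⟨s', hs'Z, hs'max, -⟩ := JacLocalDim.exists_max_in_closed (f.base ⁻¹' Z)
    (hZ.preimage f.continuous) s hs
  have hfibmax : ∀ w : S, w ⤳ s' → f w = f s' → w = s' := fun w hw hfw =>
    hs'max w (by show f w ∈ Z; rw [hfw]; exact hs'Z) hw
  have hh := h s' hs'Z
  obtain ⟨N, hN⟩ := exists_ringKrullDim_stalk_eq k S s'
  rw [hN] at hh
  have hco : Order.coheight s' = (N : ℕ∞) := by
    have := ringKrullDim_stalk_eq_coheight s'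
    rw [hN] at this
    exact_mod_cast this.symm
  obtain ⟨l, hl0, hlen⟩ := Order.exists_series_of_coheight_eq_coe s' hco
  have hξs : l.last ⤳ s' := by rw [← hl0]; exact l.head_le_last
  have h1 := DimFun.delta_head_add_length_le (isDimFun_tr k S) l
  simp only at h1
  rw [hl0, hlen] at h1
  have h2 := trn_le_of_fibre_max f s' l.last hξs hfibmax
  obtain ⟨a, ha⟩ := exists_trn_eq f l.last
  obtain ⟨b, hb⟩ := exists_trn_eq f s'
  rw [ha, hb] at h2
  have h2' : a ≤ b := by exact_mod_cast h2
  have hadd1 := tr_eq_add_trn k pX f l.last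
  have hadd2 := tr_eq_add_trn k pX f s'
  rw [ha] at hadd1
  rw [hb] at hadd2
  have hadd1' : tr k S l.last = tr k X (f l.last) + a := by exact_mod_cast hadd1
  have hadd2' : tr k S s' = tr k X (f s') + b := by exact_mod_cast hadd2
  have hNm : N ≤ tr k X (f l.last) := by omega
  -- the dimension of the image
  obtain ⟨V, hV1, hV2⟩ := GenericImage.exists_open_inter_closure_subset_image f l.last
  have hsub : (V : Set X) ∩ closure {f l.last} ⊆ Set.range f.base := by
    rintro y ⟨hy1, hy2⟩
    obtain ⟨x, -, hx⟩ := hV2 y hy1 (specializes_iff_mem_closure.mpr hy2)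
    exact ⟨x, hx⟩
  have hlc : IsLocallyClosed ((V : Set X) ∩ closure {f l.last}) :=
    ⟨V, closure {f l.last}, V.2, isClosed_closure, rfl⟩
  have h3 := le_topologicalKrullDim_of_isLocallyClosed k X _ hlc (f l.last)
    ⟨hV1, subset_closure rfl⟩
  have h4 : topologicalKrullDim ↥((V : Set X) ∩ closure {f l.last}) ≤
      topologicalKrullDim ↥(Set.range f.base) :=
    (Topology.IsEmbedding.inclusion hsub).isInducing.topologicalKrullDim_le
  have h5 : ((tr k X (f l.last) : ℕ) : WithBot ℕ∞) + 1 ≤ (N : WithBot ℕ∞) :=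
    (add_le_add_left (h3.trans h4) 1).trans hh
  have h6 : tr k X (f l.last) + 1 ≤ N := by exact_mod_cast h5
  omega

end Groth.Agent.S14901
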