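-- Statement S1491.
import Groth.Statements.S1491
import Mathlib
import Groth.Agent.Lib.Helper1.KRegIdeal9

set_option autoImplicit false
set_option linter.style.haveILetI false
universe u
attribute [local instance] HasDerivedCategory.standard
open FlatMor

namespace Groth.Agent.S1491

open AlgebraicGeometry CategoryTheory Limits in
/-- Let f : X → Y and g : Y → Z be local complete intersection morphisms, in the affine-local sense that
all ring maps between affine opens are local complete intersection homomorphisms. Then f ≫ g is a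
local complete intersection morphism. -/
theorem result {X Y Z : Scheme.{u}} (f : X ⟶ Y) (g : Y ⟶ Z)
    (hf : (∀ (U : X.Opens) (V : Y.Opens) (hU : IsAffineOpen U) (hV : IsAffineOpen V) (hUV : U ≤ f ⁻¹ᵁ V),
        letI := (f.appLE V U hUV).hom.toAlgebra
        LCI.IsLCI Γ(Y, V) Γ(X, U)))
    (hg : (∀ (U : Y.Opens) (V : Z.Opens) (hU : IsAffineOpen U) (hV : IsAffineOpen V) (hUV : U ≤ g ⁻¹ᵁ V),
        letI := (g.appLE V U hUV).hom.toAlgebra
        LCI.IsLCI Γ(Z, V) Γ(Y, U))) :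
    (∀ (U : X.Opens) (V : Z.Opens) (hU : IsAffineOpen U) (hV : IsAffineOpen V) (hUV : U ≤ (f ≫ g) ⁻¹ᵁ V),
        letI := ((f ≫ g).appLE V U hUV).hom.toAlgebra
        LCI.IsLCI Γ(Z, V) Γ(X, U)) := by
  intro U V hU hV hUV
  letI algAB : Algebra Γ(Z, V) Γ(X, U) := ((f ≫ g).appLE V U hUV).hom.toAlgebra
  change LCI.IsLCI Γ(Z, V) Γ(X, U)
  let s : Set Γ(X, U) := {u | ∃ W : Y.Opens, IsAffineOpen W ∧ W ≤ g ⁻¹ᵁ V ∧ X.basicOpen u ≤ f ⁻¹ᵁ W}
  have hs : Ideal.span s = ⊤ := by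
    rw [← hU.self_le_iSup_basicOpen_iff]
    intro x hx
    have hy : f x ∈ g ⁻¹ᵁ V := hUV hx
    obtain ⟨W, hWaff, hyW, hWV⟩ := (TopologicalSpace.Opens.isBasis_iff_nbhd.mp Y.isBasis_affineOpens) hy
    have hxV' : x ∈ U ⊓ f ⁻¹ᵁ W := ⟨hx, hyW⟩
    obtain ⟨u, hu1, hu2⟩ := hU.exists_basicOpen_le (V := U ⊓ f ⁻¹ᵁ W) ⟨x, hxV'⟩ hx
    have hus : u ∈ s := ⟨W, hWaff, hWV, hu1.trans inf_le_right⟩
    exact TopologicalSpace.Opens.mem_iSup.mpr ⟨⟨u, hus⟩, hu2⟩
  apply Groth.Agent.Lib.Helper1.KRegIdeal.isLCI_of_span_eq_top Γ(Z, V) Γ(X, U) s hs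
  rintro u ⟨W, hWaff, hWV, hD⟩
  have hDU : X.basicOpen u ≤ U := X.basicOpen_le u
  have hDV : X.basicOpen u ≤ (f ≫ g) ⁻¹ᵁ V := hDU.trans hUV
  letI algA : Algebra Γ(Z, V) Γ(X, X.basicOpen u) := ((f ≫ g).appLE V (X.basicOpen u) hDV).hom.toAlgebra
  haveI tow : IsScalarTower Γ(Z, V) Γ(X, U) Γ(X, X.basicOpen u) := by
    apply IsScalarTower.of_algebraMap_eq
    intro a
    have := congrArg (fun φ => φ.hom a)
      (Scheme.Hom.appLE_map (f ≫ g) hUV (homOfLE hDU).op)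
    exact this.symm
  haveI loc : IsLocalization.Away u Γ(X, X.basicOpen u) := hU.isLocalization_basicOpen u
  refine ⟨Γ(X, X.basicOpen u), inferInstance, inferInstance, algA, tow, loc, ?_⟩
  letI algAW : Algebra Γ(Z, V) Γ(Y, W) := (g.appLE V W hWV).hom.toAlgebra
  letI algWD : Algebra Γ(Y, W) Γ(X, X.basicOpen u) := (f.appLE W (X.basicOpen u) hD).hom.toAlgebra
  haveI tow2 : IsScalarTower Γ(Z, V) Γ(Y, W) Γ(X, X.basicOpen u) := by
    apply IsScalarTower.of_algebraMap_eq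
    intro a
    have := congrArg (fun φ => φ.hom a)
      (Scheme.Hom.appLE_comp_appLE f g V W (X.basicOpen u) hWV hD)
    exact this.symm
  exact Groth.Agent.Lib.Helper1.KRegIdeal.isLCI_comp Γ(Z, V) Γ(Y, W) Γ(X, X.basicOpen u)
    (hg W V hWaff hV hWV) (hf (X.basicOpen u) W (hU.basicOpen u) hWaff hD)

end Groth.Agent.S1491
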