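-- Statement S14933.
import Groth.Statements.S14933
import Mathlib
import Groth.Agent.Lib.Helper1.DerPb
import Groth.Agent.Lib.Helper1.DerBase
set_option linter.style.haveILetI false

set_option autoImplicit false
universe u
open CategoryTheory CategoryTheory.Limits AlgebraicGeometry
open Variety

namespace Groth.Agent.S14933

open TopologicalSpace Opposite
open Groth.Agent.Lib.Helper1

theorem app_pow {X B : Scheme.{u}} {g : X ⟶ B} {M : X.Modules} (D : OmegaSh.Der g M) (U : X.Opens)
    (x : Γ(X, U)) (n : ℕ) :
    D.app U (x ^ (n + 1)) = ((n + 1 : ℕ) : Γ(X, U)) • x ^ n • D.app U x := by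
  induction n with
  | zero => simp
  | succ n ih =>
    have e : x ^ (n + 1 + 1) = x ^ (n + 1) * x := pow_succ _ _
    rw [e, DerPb.app_mul, ih]
    simp only [← mul_smul, ← add_smul]
    congr 1
    push_cast
    ring

/-- Let p be a prime, S a scheme of characteristic p (p is zero in the structure sheaf) and f : X → S a
morphism of schemes, with relative Frobenius F_{X/S} : X → X^(p) = X ×_{S,F_S} S over S. Then the
sheaf of differentials of X over S is also the sheaf of differentials of X over X^(p): if Ω is an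
O_X-module and d : O_X → Ω a universal S-derivation, then d kills every section coming from X^(p),
i.e. there is a derivation O_X → Ω relative to F_{X/S} with the same values as d, and that
derivation is universal among derivations relative to F_{X/S}. -/
theorem result (p : ℕ) [Fact p.Prime]
    {X S : Scheme.{u}} [FrobSch.IsCharP S p] (f : X ⟶ S)
    (Ω : X.Modules) (d : OmegaSh.Der f Ω) (hd : OmegaSh.IsUniversal d) :
    ∃ d' : OmegaSh.Der (FrobSch.relFrob f p) Ω,
      (∀ (U : X.Opens) (s : Γ(X, U)), d'.app U s = d.app U s) ∧ OmegaSh.IsUniversal d' := by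
  haveI : FrobSch.IsCharP X p := FrobSch.IsCharP.of_hom f p
  have hZ : IsPullback (pullback.fst f (FrobSch.frob S p)) (pullback.snd f (FrobSch.frob S p)) f
      (FrobSch.frob S p) := IsPullback.of_hasPullback _ _
  let D₀ : OmegaSh.Der f Ω := d.postcomp (0 : Ω ⟶ Ω).val
  have hD₀ : ∀ (U : X.Opens) (s : Γ(X, U)), D₀.app U s = 0 := fun U s => rfl
  -- `d` kills `p`-th powers
  have hfrob : ∀ (ψ : X ⟶ X) (_ : ψ = FrobSch.frob X p) (U : X.Opens) (r : Γ(X, U)),
      d.app (ψ ⁻¹ᵁ U) (ψ.app U r) = 0 := by
    intro ψ hψ U r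
    subst hψ
    change d.app U (r ^ p) = 0
    obtain ⟨n, hn⟩ : ∃ n, p = n + 1 := ⟨p - 1, (Nat.succ_pred_eq_of_pos (Fact.out : p.Prime).pos).symm⟩
    rw [hn, app_pow, ← hn, FrobSch.natCast_eq_zero_app X p U, zero_smul]
  have hbase : ∀ (ψ : X ⟶ S) (_ : ψ = f) (U : S.Opens) (r : Γ(S, U)),
      d.app (ψ ⁻¹ᵁ U) (ψ.app U r) = 0 := by
    intro ψ hψ U r
    subst hψ
    exact d.d_app (X := op U) r
  have key : ∀ (V : (FrobSch.frobTwist f p).Opens) (c : Γ(FrobSch.frobTwist f p, V)),
      d.app ((FrobSch.relFrob f p) ⁻¹ᵁ V) ((FrobSch.relFrob f p).app V c) = 0 := by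
    intro V c
    have := DerPb.eq_on_pullback (FrobSch.relFrob f p) hZ d D₀ ?_ ?_ V c
    · rw [this, hD₀]
    · intro U r
      rw [hD₀]
      exact hfrob (FrobSch.relFrob f p ≫ pullback.fst f (FrobSch.frob S p))
        (FrobSch.relFrob_fst f p) U r
    · intro U r
      rw [hD₀]
      exact hbase (FrobSch.relFrob f p ≫ pullback.snd f (FrobSch.frob S p))
        (FrobSch.relFrob_snd f p) U r
  let d' : OmegaSh.Der (FrobSch.relFrob f p) Ω :=
    { d := fun {W} => d.d (X := W)
      d_mul := fun a b => d.d_mul a b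
      d_map := fun i s => d.d_map i s
      d_app := fun {W} c => key W.unop c }
  refine ⟨d', fun U s => rfl, ?_⟩
  intro F D
  obtain ⟨α, hα, hαu⟩ := hd F (DerBase.congr (FrobSch.relFrob_snd f p)
    (DerBase.compRight (FrobSch.relFrob f p) (pullback.snd f (FrobSch.frob S p)) D))
  have hval : ∀ (W : X.Opens) (s : Γ(X, W)), (DerBase.congr (FrobSch.relFrob_snd f p)
      (DerBase.compRight (FrobSch.relFrob f p) (pullback.snd f (FrobSch.frob S p)) D)).app W s =
      D.app W s := fun W s => by
    rw [DerBase.congr_app, DerBase.compRight_app]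
  refine ⟨α, ?_, ?_⟩
  · apply PresheafOfModules.Derivation.ext
    funext W
    ext s
    exact (congr($(PresheafOfModules.Derivation.congr_d hα (X := W) s))).trans (hval W.unop s)
  · intro β hβ
    apply hαu
    apply PresheafOfModules.Derivation.ext
    funext W
    ext s
    exact (congr($(PresheafOfModules.Derivation.congr_d hβ (X := W) s))).trans (hval W.unop s).symm

end Groth.Agent.S14933
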