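import Groth.Statements.S14956
import Groth.Agent.Lib.Lead.AzumayaFibre2
import Groth.Agent.Lib.Helper6.FibSquare
import Groth.Agent.S14952
import Groth.Agent.S14954

set_option autoImplicit false
universe u
open TensorProduct
open Brauer

namespace Groth.Agent.S14956

/-- Let B' = B ×_A A' be a fibre product of commutative rings with A' → A surjective and D' a B'-algebra
(associative, unital, not necessarily commutative). Then D' is an Azumaya algebra over B' if and
only if B ⊗_{B'} D' is an Azumaya algebra over B and A' ⊗_{B'} D' is an Azumaya algebra over A'.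
(The published statement is for a quasi-coherent algebra on the pushout scheme Y of a closed
immersion and an affine morphism; this row is the case of an affine Y. Azumaya is taken in the
finite-projective-faithful sense.) -/
theorem result (B' B A' A : Type u) [CommRing B'] [CommRing B] [CommRing A'] [CommRing A]
    [Algebra B' B] [Algebra B' A'] [Algebra B A] [Algebra A' A] [Algebra B' A] [IsScalarTower B' B A] [IsScalarTower B' A' A]
    (hsq : EtMil.IsFibreSquare B' B A' A)
    (D' : Type u) [Ring D'] [Algebra B' D'] :
    IsAzumaya B' D' ↔ IsAzumaya B (B ⊗[B'] D') ∧ IsAzumaya A' (A' ⊗[B'] D') := by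
  constructor
  · intro h
    haveI := h
    exact ⟨Groth.Agent.S19588.result B' B D', Groth.Agent.S19588.result B' A' D'⟩
  · rintro ⟨hB, hA'⟩
    haveI := hB
    haveI := hA'
    haveI : Module.FinitePresentation B (B ⊗[B'] D') := Module.finitePresentation_of_projective B _
    haveI : Module.FinitePresentation A' (A' ⊗[B'] D') :=
      Module.finitePresentation_of_projective A' _
    haveI : Module.Flat B' D' := Groth.Agent.S14952.result B' B A' A hsq D'
    haveI : Module.FinitePresentation B' D' := Groth.Agent.S14954.result B' B A' A hsq D'
    haveI : Module.Projective B' D' := Module.Flat.projective_of_finitePresentation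
    apply Groth.Agent.Lib.Lead.AzumayaFibre2.isAzumaya_of_fibres B' D'
    intro p' _
    have hcomm : ∀ r : B', algebraMap B A (algebraMap B' B r) =
        algebraMap A' A (algebraMap B' A' r) := fun r => by
      rw [← IsScalarTower.algebraMap_apply B' B A, ← IsScalarTower.algebraMap_apply B' A' A]
    have hfs : Groth.Agent.Lib.Helper6.FibSquare.IsFibSq (algebraMap B' B) (algebraMap B' A')
        (algebraMap B A) (algebraMap A' A) :=
      { comm := hcomm
        exists_of_eq := fun b a' h => (hsq.2 b a' h).exists
        inj := fun r r' h1 h2 =>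
          (hsq.2 _ _ (hcomm r)).unique ⟨rfl, rfl⟩ ⟨h1.symm, h2.symm⟩
        surj := hsq.1 }
    rcases hfs.prime_cases p' with ⟨q, hq, hqp⟩ | ⟨q, κ, hq, hqp, -, -⟩
    · haveI := hq
      haveI : IsAzumaya q.ResidueField (q.ResidueField ⊗[B] (B ⊗[B'] D')) :=
        Groth.Agent.S19588.result B q.ResidueField (B ⊗[B'] D')
      haveI : IsAzumaya q.ResidueField (q.ResidueField ⊗[B'] D') :=
        IsAzumaya.of_AlgEquiv q.ResidueField _ _
          (Groth.Agent.Lib.Lead.Index.cancelBaseChange' B' B q.ResidueField q.ResidueField D')
      have hker : RingHom.ker (algebraMap B' q.ResidueField) = p' := by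
        rw [IsScalarTower.algebraMap_eq B' B q.ResidueField, ← RingHom.comap_ker,
          Ideal.ker_algebraMap_residueField, hqp]
      exact Groth.Agent.Lib.Lead.AzumayaFibre2.csa_fibre_of_field B' D' p' q.ResidueField hker
    · haveI := hq
      haveI : IsAzumaya q.ResidueField (q.ResidueField ⊗[A'] (A' ⊗[B'] D')) :=
        Groth.Agent.S19588.result A' q.ResidueField (A' ⊗[B'] D')
      haveI : IsAzumaya q.ResidueField (q.ResidueField ⊗[B'] D') :=
        IsAzumaya.of_AlgEquiv q.ResidueField _ _
          (Groth.Agent.Lib.Lead.Index.cancelBaseChange' B' A' q.ResidueField q.ResidueField D')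
      have hker : RingHom.ker (algebraMap B' q.ResidueField) = p' := by
        rw [IsScalarTower.algebraMap_eq B' A' q.ResidueField, ← RingHom.comap_ker,
          Ideal.ker_algebraMap_residueField, hqp]
      exact Groth.Agent.Lib.Lead.AzumayaFibre2.csa_fibre_of_field B' D' p' q.ResidueField hker


end Groth.Agent.S14956
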