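import Groth.Statements.S1496
import Groth.Agent.Lib.Helper3.QProj

set_option autoImplicit false
universe u
attribute [local instance] HasDerivedCategory.standard
open FlatMor

namespace Groth.Agent.S1496

open Groth.Agent.Lib.Helper3 QProj in

open AlgebraicGeometry CategoryTheory Limits in
/-- Let S be a scheme carrying an ample invertible sheaf and f : X → S a morphism. Then f is a closed
immersion into some projective space over S (f factors as a closed immersion X → Pⁿ_S followed by
the projection Pⁿ_S → S, for some n) if and only if f is proper and X carries an ample invertible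
sheaf; and the latter holds if and only if f is proper and some O_X-module is ample relative to f. -/
theorem result {X S : Scheme.{u}} (hS : ∃ N : S.Modules, CohB1.IsAmple N) (f : X ⟶ S) :
    ((∃ (n : ℕ) (i : X ⟶ CohB1.ProjSpaceOver n S), IsClosedImmersion i ∧ i ≫ pullback.snd (CohB1.ProjSpace.toSpec n (ULift.{u} ℤ)) (specULiftZIsTerminal.from S) = f) ↔
      (IsProper f ∧ ∃ L : X.Modules, CohB1.IsAmple L)) ∧
    ((IsProper f ∧ ∃ L : X.Modules, CohB1.IsAmple L) ↔ (IsProper f ∧ ∃ L : X.Modules, RelAmple.IsRelAmple f L)) := by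
  refine ⟨⟨?_, ?_⟩, ⟨?_, ?_⟩⟩
  · rintro ⟨n, i, hi, hcomp⟩
    have h : RelProj.IsHProjective f := ⟨n, i, hi, hcomp⟩
    obtain ⟨hq, hp⟩ := (isHProjective_iff f).mp h
    exact ⟨hp, exists_isAmple_of_isQuasiProjective f hS
      (isQuasiProjective_of_isHQuasiProjective f hq)⟩
  · rintro ⟨hp, L, hL⟩
    haveI := hp
    obtain ⟨n, i, hi, hcomp⟩ := (isHProjective_iff f).mpr
      ⟨isHQuasiProjective_of_isAmple f hL, hp⟩
    exact ⟨n, i, hi, hcomp⟩
  · rintro ⟨hp, L, hL⟩
    haveI := hp
    exact ⟨hp, L, isRelAmple_of_isAmple f hL⟩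
  · rintro ⟨hp, L, hL⟩
    haveI := hp
    exact ⟨hp, exists_isAmple_of_isQuasiProjective f hS ⟨inferInstance, inferInstance, L, hL⟩⟩

end Groth.Agent.S1496
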