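import Groth.Statements.S14965
import Groth.Agent.Lib.Lead.MilnorGlue
import Groth.Agent.S14956

set_option autoImplicit false
universe u
open TensorProduct
open Brauer

namespace Groth.Agent.S14965

/-- Let B' = B ×_A A' be a fibre product of commutative rings with A' → A surjective, N an Azumaya
B-algebra, M' an Azumaya A'-algebra and φ : A ⊗_B N ≅ A ⊗_{A'} M' an isomorphism of A-algebras. If a
B'-algebra D' with B'-algebra homomorphisms π₁ : D' → N and π₂ : D' → M' is the glued algebra N ×_φ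
M', in the sense that (π₁, π₂) is injective with image the pairs (n, m') satisfying φ(1 ⊗ n) = 1 ⊗
m', then D' is an Azumaya B'-algebra. (The published statement is for Azumaya algebras on the
pushout scheme of a closed immersion and an affine morphism, glued as u_*B' ×_{h_*} f_*A; this row
is the case of an affine pushout.) -/
theorem result (B' B A' A : Type u) [CommRing B'] [CommRing B] [CommRing A'] [CommRing A]
    [Algebra B' B] [Algebra B' A'] [Algebra B A] [Algebra A' A] [Algebra B' A] [IsScalarTower B' B A] [IsScalarTower B' A' A]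
    (hsq : EtMil.IsFibreSquare B' B A' A)
    (N : Type u) [Ring N] [Algebra B N] [Algebra B' N] [IsScalarTower B' B N] [IsAzumaya B N]
    (M' : Type u) [Ring M'] [Algebra A' M'] [Algebra B' M'] [IsScalarTower B' A' M'] [IsAzumaya A' M']
    (φ : A ⊗[B] N ≃ₐ[A] A ⊗[A'] M')
    (D' : Type u) [Ring D'] [Algebra B' D'] (π₁ : D' →ₐ[B'] N) (π₂ : D' →ₐ[B'] M')
    (hinj : ∀ d : D', π₁ d = 0 → π₂ d = 0 → d = 0)
    (himg : ∀ (n : N) (m' : M'), φ ((1 : A) ⊗ₜ[B] n) = (1 : A) ⊗ₜ[A'] m' ↔ ∃ d : D', π₁ d = n ∧ π₂ d = m') :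
    IsAzumaya B' D' := by
  have hinj' : ∀ x : D', π₁.toLinearMap x = 0 → π₂.toLinearMap x = 0 → x = 0 := hinj
  have himg' : ∀ (n : N) (m' : M'),
      φ.toLinearEquiv ((1 : A) ⊗ₜ[B] n) = (1 : A) ⊗ₜ[A'] m' ↔
        ∃ x : D', π₁.toLinearMap x = n ∧ π₂.toLinearMap x = m' := himg
  have b1 : Function.Bijective (LinearMap.liftBaseChange B π₁.toLinearMap) :=
    ⟨Groth.Agent.Lib.Lead.MilnorGlue.liftFst_injective hsq _ _ φ.toLinearEquiv hinj' himg',
      Groth.Agent.Lib.Lead.MilnorGlue.liftFst_surjective hsq _ _ φ.toLinearEquiv himg'⟩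
  have b2 : Function.Bijective (LinearMap.liftBaseChange A' π₂.toLinearMap) :=
    ⟨Groth.Agent.Lib.Lead.MilnorGlue.liftSnd_injective hsq _ _ φ.toLinearEquiv hinj' himg',
      Groth.Agent.Lib.Lead.MilnorGlue.liftSnd_surjective hsq _ _ φ.toLinearEquiv himg'⟩
  obtain ⟨f₁, hf₁def⟩ : ∃ f : B ⊗[B'] D' →ₐ[B] N, f = Algebra.TensorProduct.lift (Algebra.ofId B N) π₁
      (fun b d => Algebra.commutes b (π₁ d)) := ⟨_, rfl⟩
  obtain ⟨f₂, hf₂def⟩ : ∃ f : A' ⊗[B'] D' →ₐ[A'] M', f = Algebra.TensorProduct.lift (Algebra.ofId A' M') π₂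
      (fun b d => Algebra.commutes b (π₂ d)) := ⟨_, rfl⟩
  have hf₁ : ∀ z, f₁ z = LinearMap.liftBaseChange B π₁.toLinearMap z := by
    intro z
    induction z using TensorProduct.induction_on with
    | zero => rw [map_zero, map_zero]
    | tmul b d =>
      rw [hf₁def, Algebra.TensorProduct.lift_tmul, LinearMap.liftBaseChange_tmul, Algebra.ofId_apply,
        Algebra.smul_def]
      rfl
    | add x y hx hy => rw [map_add, map_add, hx, hy]
  have hf₂ : ∀ z, f₂ z = LinearMap.liftBaseChange A' π₂.toLinearMap z := by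
    intro z
    induction z using TensorProduct.induction_on with
    | zero => rw [map_zero, map_zero]
    | tmul b d =>
      rw [hf₂def, Algebra.TensorProduct.lift_tmul, LinearMap.liftBaseChange_tmul, Algebra.ofId_apply,
        Algebra.smul_def]
      rfl
    | add x y hx hy => rw [map_add, map_add, hx, hy]
  have hb1 : Function.Bijective f₁ := by
    have h : (f₁ : B ⊗[B'] D' → N) = LinearMap.liftBaseChange B π₁.toLinearMap := funext hf₁
    rw [h]; exact b1
  have hb2 : Function.Bijective f₂ := by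
    have h : (f₂ : A' ⊗[B'] D' → M') = LinearMap.liftBaseChange A' π₂.toLinearMap := funext hf₂
    rw [h]; exact b2
  have az1 : IsAzumaya B (B ⊗[B'] D') :=
    IsAzumaya.of_AlgEquiv B N (B ⊗[B'] D') (AlgEquiv.ofBijective f₁ hb1).symm
  have az2 : IsAzumaya A' (A' ⊗[B'] D') :=
    IsAzumaya.of_AlgEquiv A' M' (A' ⊗[B'] D') (AlgEquiv.ofBijective f₂ hb2).symm
  exact (Groth.Agent.S14956.result B' B A' A hsq D').2 ⟨az1, az2⟩

end Groth.Agent.S14965
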