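import Groth.Statements.S14966
-- import your own Groth.Agent.* helpers here
import Mathlib

set_option autoImplicit false
universe u
open EtAlg

namespace Groth.Agent.S14966

/-- Let A → A' be an injective homomorphism of commutative rings and let I ⊆ A be the conductor, i.e.
the annihilator of the A-module A'/A. Then the conductor square formed by A → A/I, A → A', A/I →
A'/IA' and A' → A'/IA' is a fibre product square of rings with A' → A'/IA' surjective: A = A/I
×_{A'/IA'} A'. (The published Lemma is for the conductor square of a finite modification of schemes;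
this row is the underlying statement for one injective ring map, which needs no finiteness.) -/
theorem result (A A' : Type u) [CommRing A] [CommRing A'] [Algebra A A']
    (hinj : Function.Injective (algebraMap A A')) :
    EtMil.IsFibreSquare A (A ⧸ Module.annihilator A (A' ⧸ LinearMap.range (Algebra.linearMap A A'))) A'
      (A' ⧸ Ideal.map (algebraMap A A') (Module.annihilator A (A' ⧸ LinearMap.range (Algebra.linearMap A A')))) := by
  set I := Module.annihilator A (A' ⧸ LinearMap.range (Algebra.linearMap A A')) with hIdef
  -- membership in I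
  have hI_iff : ∀ c : A, c ∈ I ↔ ∀ a' : A', c • a' ∈ LinearMap.range (Algebra.linearMap A A') := by
    intro c
    rw [hIdef, Module.mem_annihilator]
    constructor
    · intro h a'
      have := h (Submodule.Quotient.mk a')
      rw [← Submodule.Quotient.mk_smul, Submodule.Quotient.mk_eq_zero] at this
      exact this
    · intro h q
      obtain ⟨a', rfl⟩ := Submodule.Quotient.mk_surjective _ q
      rw [← Submodule.Quotient.mk_smul, Submodule.Quotient.mk_eq_zero]
      exact h a'
  -- IA' ⊆ algebraMap I
  have hmap : ∀ x ∈ Ideal.map (algebraMap A A') I, ∃ c ∈ I, algebraMap A A' c = x := by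
    intro x hx
    refine Submodule.span_induction ?_ ?_ ?_ ?_ hx
    · rintro _ ⟨i, hi, rfl⟩
      exact ⟨i, hi, rfl⟩
    · exact ⟨0, I.zero_mem, map_zero _⟩
    · rintro y z _ _ ⟨c, hc, rfl⟩ ⟨d, hd, rfl⟩
      exact ⟨c + d, I.add_mem hc hd, map_add _ _ _⟩
    · rintro a' y _ ⟨c, hc, rfl⟩
      obtain ⟨e, he⟩ := (hI_iff c).mp hc a'
      refine ⟨e, ?_, ?_⟩
      · rw [hI_iff]
        intro a''
        have := (hI_iff c).mp hc (a' * a'')
        obtain ⟨g, hg⟩ := this
        refine ⟨g, ?_⟩
        rw [hg]
        change _ = e • a''
        rw [Algebra.smul_def, Algebra.smul_def]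
        change algebraMap A A' e = _ at he
        rw [he, Algebra.smul_def]
        ring
      · change algebraMap A A' e = _ at he
        rw [he, Algebra.smul_def, smul_eq_mul, mul_comm]
  refine ⟨Ideal.Quotient.mk_surjective, ?_⟩
  intro b a' hba
  obtain ⟨a₀, rfl⟩ := Ideal.Quotient.mk_surjective b
  have h1 : algebraMap A A' a₀ - a' ∈ Ideal.map (algebraMap A A') I := by
    rw [← Ideal.Quotient.eq]
    exact hba
  obtain ⟨c, hc, hc'⟩ := hmap _ h1
  refine ⟨a₀ - c, ⟨?_, ?_⟩, ?_⟩
  · change Ideal.Quotient.mk I (a₀ - c) = Ideal.Quotient.mk I a₀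
    rw [Ideal.Quotient.eq]
    simpa using I.neg_mem hc
  · rw [map_sub, hc']; ring
  · rintro y ⟨_, hy⟩
    apply hinj
    rw [hy, map_sub, hc']; ring

end Groth.Agent.S14966
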