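import Groth.Statements.S14984
-- import your own Groth.Agent.* helpers here
import Mathlib

set_option autoImplicit false
universe u v w
open HopfRep

namespace Groth.Agent.S14984

/-- Let `R` be a commutative ring, `A` a commutative Hopf algebra over `R`, flat as an `R`-module, `B` a
commutative `R`-algebra with a coaction of `A` that is an algebra map (an action of `G = Spec A` on
`X = Spec B`), and `C = B^A` the ring of invariants. If the action base-changed along `R → C` — the
`C`-Hopf algebra `C ⊗ A` coacting on `C ⊗ B` — is tame, i.e. there is a `C`-linear comodule map `β :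
C ⊗ A → C ⊗ B` (regular coaction on the source, base-changed coaction on the target) with `β 1 = 1`,
then the original action is tame: there is an `R`-linear comodule map `α : A → B` with `α 1 = 1`.
(The converse is the case `S = C` of stability of tameness under base change. The published lemma
also lists, as a third equivalent condition, tameness of the action of `C ⊗ A` on `B` itself over
`C`; that condition is not stated here.) -/
theorem result
    (R : Type u) (A : Type v) (B : Type w)
    [CommRing R] [CommRing A] [HopfAlgebra R A] [Module.Flat R A]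
    [CommRing B] [Algebra R B] [HopfRep.Comod R A B] [GLin.IsCoactAlg R A B]
    (h : ∃ β : TensorProduct R ↥(GLin.invariants R A B) A →ₗ[↥(GLin.invariants R A B)]
        TensorProduct R ↥(GLin.invariants R A B) B,
      @Hoch.IsComodHom ↥(GLin.invariants R A B) _ (TensorProduct R ↥(GLin.invariants R A B) A) _ _ _
        (TensorProduct R ↥(GLin.invariants R A B) A) _ _
        (HopfRep.Comod.regular ↥(GLin.invariants R A B) (TensorProduct R ↥(GLin.invariants R A B) A))
        (TensorProduct R ↥(GLin.invariants R A B) B) _ _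
        (CoactBr.Comod.baseChange R ↥(GLin.invariants R A B) A B) β ∧ β 1 = 1) :
    ∃ α : A →ₗ[R] B, Hoch.IsComodHom A α ∧ α 1 = 1 := by
  obtain ⟨β, hβ, hβ1⟩ := h
  -- multiplication C ⊗ B → B
  let μ : TensorProduct R ↥(GLin.invariants R A B) B →ₐ[R] B := Algebra.TensorProduct.productMap (GLin.invariants R A B).val (AlgHom.id R B)
  have hμ : ∀ (c : ↥(GLin.invariants R A B)) (b : B), μ (c ⊗ₜ[R] b) = (c : B) * b := fun c b => by
    simp [μ, Algebra.TensorProduct.productMap_apply_tmul]
  let α : A →ₗ[R] B := μ.toLinearMap ∘ₗ (β.restrictScalars R) ∘ₗ (TensorProduct.mk R ↥(GLin.invariants R A B) A 1)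
  have hα : ∀ a, α a = μ (β ((1 : ↥(GLin.invariants R A B)) ⊗ₜ[R] a)) := fun a => rfl
  let Φ : TensorProduct ↥(GLin.invariants R A B) (TensorProduct R ↥(GLin.invariants R A B) B) (TensorProduct R ↥(GLin.invariants R A B) A) →ₗ[R] TensorProduct R B A :=
    (μ.toLinearMap.rTensor A) ∘ₗ
      ((TensorProduct.AlgebraTensorModule.cancelBaseChange R ↥(GLin.invariants R A B) ↥(GLin.invariants R A B) (TensorProduct R ↥(GLin.invariants R A B) B) A).restrictScalars R).toLinearMap
  have hΦ : ∀ (x : TensorProduct R ↥(GLin.invariants R A B) B) (c : ↥(GLin.invariants R A B)) (a : A),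
      Φ (x ⊗ₜ[↥(GLin.invariants R A B)] (c ⊗ₜ[R] a)) = μ (c • x) ⊗ₜ[R] a := fun x c a => by
    simp [Φ]
  -- identity (1)
  have h1 : ∀ z : TensorProduct R ↥(GLin.invariants R A B) B,
      HopfRep.Comod.coact (k := R) (A := A) (μ z) = Φ ((CoactBr.Comod.baseChange R ↥(GLin.invariants R A B) A B).coact z) := by
    intro z
    induction z using TensorProduct.induction_on with
    | zero => simp
    | tmul c b =>
      rw [hμ, GLin.IsCoactAlg.coact_mul, CoactBr.baseChange_coact_tmul]
      have hc : HopfRep.Comod.coact (k := R) (A := A) (c : B) = (c : B) ⊗ₜ[R] (1 : A) := c.2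
      rw [hc]
      induction (HopfRep.Comod.coact (k := R) (A := A) b) using TensorProduct.induction_on with
      | zero => simp
      | tmul b₀ b₁ =>
        change _ = Φ (((1 : ↥(GLin.invariants R A B)) ⊗ₜ[R] b₀) ⊗ₜ[↥(GLin.invariants R A B)] (c ⊗ₜ[R] b₁))
        rw [hΦ, TensorProduct.smul_tmul', hμ, Algebra.TensorProduct.tmul_mul_tmul, one_mul,
          smul_eq_mul, mul_one]
      | add x y hx hy =>
        rw [mul_add, TensorProduct.tmul_add, map_add, map_add, hx, hy]
    | add x y hx hy => rw [map_add, map_add, map_add, map_add, hx, hy]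
  -- identity (2)
  have h2 : ∀ a : A, (CoactBr.Comod.baseChange R ↥(GLin.invariants R A B) A B).coact (β ((1 : ↥(GLin.invariants R A B)) ⊗ₜ[R] a)) =
      (β.rTensor (TensorProduct R ↥(GLin.invariants R A B) A)) (CoalgebraStruct.comul (R := ↥(GLin.invariants R A B)) ((1 : ↥(GLin.invariants R A B)) ⊗ₜ[R] a)) := by
    intro a
    exact LinearMap.congr_fun hβ ((1 : ↥(GLin.invariants R A B)) ⊗ₜ[R] a)
  refine ⟨α, ?_, ?_⟩
  · unfold Hoch.IsComodHom
    ext a
    simp only [LinearMap.comp_apply]
    rw [hα, h1, h2]
    change Φ ((β.rTensor (TensorProduct R ↥(GLin.invariants R A B) A))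
      (TensorProduct.AlgebraTensorModule.tensorTensorTensorComm R ↥(GLin.invariants R A B) R ↥(GLin.invariants R A B) ↥(GLin.invariants R A B) ↥(GLin.invariants R A B) A A
        (((1 : ↥(GLin.invariants R A B)) ⊗ₜ[↥(GLin.invariants R A B)] (1 : ↥(GLin.invariants R A B))) ⊗ₜ[R] CoalgebraStruct.comul (R := R) (A := A) a))) =
      (α.rTensor A) (CoalgebraStruct.comul (R := R) (A := A) a)
    induction (CoalgebraStruct.comul (R := R) (A := A) a) using TensorProduct.induction_on with
    | zero => simp
    | tmul a₁ a₂ =>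
      change Φ (β ((1 : ↥(GLin.invariants R A B)) ⊗ₜ[R] a₁) ⊗ₜ[↥(GLin.invariants R A B)] ((1 : ↥(GLin.invariants R A B)) ⊗ₜ[R] a₂)) = α a₁ ⊗ₜ[R] a₂
      rw [hΦ, one_smul, hα]
    | add x y hx hy =>
      rw [TensorProduct.tmul_add, map_add, map_add, map_add, map_add, hx, hy]
  · rw [hα]
    have : ((1 : ↥(GLin.invariants R A B)) ⊗ₜ[R] (1 : A)) = (1 : TensorProduct R ↥(GLin.invariants R A B) A) := rfl
    rw [this, hβ1]
    exact map_one μ

end Groth.Agent.S14984
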