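import Groth.Statements.S14988
import Groth.Agent.Lib.Helper2.Mon.PerfTensor
import Groth.Agent.Lib.Helper17.LocFreeOps
import Groth.Agent.Lib.Helper13.ModSiteFlat

set_option autoImplicit false
universe u
open CategoryTheory CategoryTheory.Limits AlgebraicGeometry
open ResProp

namespace Groth.Agent.S14988

/-- `W ⊗ f^*(-)` as a functor -/
noncomputable abbrev GG {X Y : Scheme.{u}} (f : X ⟶ Y) (W : X.Modules) : Y.Modules ⥤ X.Modules :=
  Scheme.Modules.pullback f ⋙ (DCoh.tensorBi (X := X)).obj W

instance preservesColimits_GG {X Y : Scheme.{u}} (f : X ⟶ Y) (W : X.Modules) :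
    PreservesColimitsOfSize.{u, u} (GG f W) := by
  haveI : PreservesColimitsOfSize.{u, u} (Scheme.Modules.pullback f) :=
    (Scheme.Modules.pullbackPushforwardAdjunction f).leftAdjoint_preservesColimits
  haveI : PreservesColimitsOfSize.{u, u} ((DCoh.tensorBi (X := X)).obj W) :=
    Groth.Agent.Lib.Helper13.ModSiteFlat.preservesColimitsOfSize_obj X.sheaf W
  exact comp_preservesColimits _ _

instance preservesFiniteColimits_GG {X Y : Scheme.{u}} (f : X ⟶ Y) (W : X.Modules) :
    PreservesFiniteColimits (GG f W) :=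
  PreservesColimitsOfSize.preservesFiniteColimits.{u, u} _


/-- In the case of schemes, let f : X ⟶ Y be a morphism of quasi-compact quasi-separated schemes. If
every quasi-coherent module on Y is a quotient of a direct sum of finite locally free modules (Y has
the resolution property) and some family (W_i) of finite locally free modules on X is f-generating,
i.e. every quasi-coherent module on X is a quotient of a direct sum of modules W_i ⊗ f^*N with N
quasi-coherent on Y, then every quasi-coherent module on X is a quotient of a direct sum of finite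
locally free modules (X has the resolution property). (The published statement is for quasi-compact
quasi-separated morphisms of algebraic stacks and assumes the family universally f-generating; this
row is the case of schemes and assumes the family only f-generating, which is what the argument
uses.) -/
theorem result {X Y : Scheme.{u}}
    [CompactSpace X] [QuasiSeparatedSpace X] [CompactSpace Y] [QuasiSeparatedSpace Y] (f : X ⟶ Y)
    (hY : ∀ N : Y.Modules, Coh.IsQCoh N →
      ∃ (κ : Type u) (V : κ → Y.Modules) (π : (∐ V) ⟶ N), (∀ k, FlatMod.IsFinLocFree (V k)) ∧ Epi π)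
    {ι : Type u} (W : ι → X.Modules) (hW : ∀ i, FlatMod.IsFinLocFree (W i))
    (hf : ∀ M : X.Modules, Coh.IsQCoh M →
      ∃ (κ : Type u) (j : κ → ι) (N : κ → Y.Modules)
        (π : (∐ fun k => CohB1.tensorMod (W (j k)) ((Scheme.Modules.pullback f).obj (N k))) ⟶ M),
        (∀ k, Coh.IsQCoh (N k)) ∧ Epi π) :
    ∀ M : X.Modules, Coh.IsQCoh M →
      ∃ (κ : Type u) (E : κ → X.Modules) (π : (∐ E) ⟶ M), (∀ k, FlatMod.IsFinLocFree (E k)) ∧ Epi π := by
  intro M hM
  obtain ⟨κ, j, N, π, hN, hπ⟩ := hf M hM
  change (∐ fun k => (GG f (W (j k))).obj (N k)) ⟶ M at π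
  choose κ' V π' hV hπ' using fun k => hY (N k) (hN k)
  refine ⟨Σ k : κ, κ' k, fun p => (GG f (W (j p.1))).obj (V p.1 p.2), ?_⟩
  let e : ∀ p : (Σ k : κ, κ' k), (GG f (W (j p.1))).obj (V p.1 p.2) ⟶ M := fun p =>
    (GG f (W (j p.1))).map (Sigma.ι (V p.1) p.2 ≫ π' p.1) ≫
      Sigma.ι (fun k => (GG f (W (j k))).obj (N k)) p.1 ≫ π
  refine ⟨Sigma.desc e, ?_, ?_⟩
  · intro p
    exact Groth.Agent.Lib.Helper2.Mon.isFinLocFree_tensor _ _ (hW _)
      (Groth.Agent.Lib.Helper17.LocFreeOps.isFinLocFree_pullback f _ (hV p.1 p.2))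
  · constructor
    intro T g₁ g₂ h
    haveI : Epi π := hπ
    refine (cancel_epi π).1 ?_
    refine Sigma.hom_ext _ _ (fun k => ?_)
    haveI : Epi (π' k) := hπ' k
    haveI : Epi ((GG f (W (j k))).map (π' k)) := inferInstance
    refine (cancel_epi ((GG f (W (j k))).map (π' k))).1 ?_
    refine (cancel_epi (sigmaComparison (GG f (W (j k))) (V k))).1 ?_
    refine Sigma.hom_ext _ _ (fun l => ?_)
    have h' := congrArg (fun t => Sigma.ι (fun p : (Σ k : κ, κ' k) => (GG f (W (j p.1))).obj (V p.1 p.2))
      (⟨k, l⟩ : Σ k : κ, κ' k) ≫ t) h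
    simp only [Sigma.ι_desc_assoc] at h'
    calc Sigma.ι (fun l => (GG f (W (j k))).obj (V k l)) l ≫ sigmaComparison (GG f (W (j k))) (V k) ≫
          (GG f (W (j k))).map (π' k) ≫ Sigma.ι (fun k => (GG f (W (j k))).obj (N k)) k ≫ π ≫ g₁
        = ((GG f (W (j k))).map (Sigma.ι (V k) l ≫ π' k) ≫
            Sigma.ι (fun k => (GG f (W (j k))).obj (N k)) k ≫ π) ≫ g₁ := by
          rw [ι_comp_sigmaComparison_assoc, Functor.map_comp]; simp only [Category.assoc]
      _ = ((GG f (W (j k))).map (Sigma.ι (V k) l ≫ π' k) ≫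
            Sigma.ι (fun k => (GG f (W (j k))).obj (N k)) k ≫ π) ≫ g₂ := h'
      _ = _ := by
          rw [ι_comp_sigmaComparison_assoc, Functor.map_comp]; simp only [Category.assoc]

end Groth.Agent.S14988
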