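import Groth.Statements.S7184
import Groth.Agent.Lib.Helper3.AmpleQA

set_option autoImplicit false
universe u
open FlatMor

namespace Groth.Agent.S7184

open AlgebraicGeometry CategoryTheory Limits TopologicalSpace Groth.Agent.Lib.Helper3 InvGen InvTensor InvAmple in
/-- a scheme covered by quasi-separated opens of the form `X_s` (for varying invertible modules)
is quasi-separated -/
theorem quasiSeparatedSpace_of_secLocus_family_cover7184 {X : Scheme.{u}}
    (h : ∀ x : X, ∃ (L : X.Modules), PicF.IsInvertible L ∧ ∃ W ∈ SecLocus L, x ∈ W ∧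
      IsQuasiSeparated (W : Set X)) :
    QuasiSeparatedSpace X := by
  rw [quasiSeparatedSpace_iff_forall_affineOpens]
  intro U U'
  choose L hL W hWsec hxW hqs using h
  obtain ⟨t, -, ht⟩ := U.2.isCompact.elim_nhds_subcover (fun x => (W x : Set X))
    (fun x _ => (W x).2.mem_nhds (hxW x))
  have heq : ((U : Set X) ∩ (U' : Set X)) =
      ⋃ x ∈ t, ((U.1 ⊓ W x : X.Opens) : Set X) ∩ ((U'.1 ⊓ W x : X.Opens) : Set X) := by
    ext y
    simp only [Opens.coe_inf, Set.mem_inter_iff, SetLike.mem_coe, Set.mem_iUnion, exists_prop]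
    constructor
    · rintro ⟨hyU, hyU'⟩
      obtain ⟨x, hx, hyx⟩ := Set.mem_iUnion₂.mp (ht hyU)
      exact ⟨x, hx, ⟨hyU, hyx⟩, ⟨hyU', hyx⟩⟩
    · rintro ⟨x, -, ⟨hyU, -⟩, ⟨hyU', -⟩⟩
      exact ⟨hyU, hyU'⟩
  rw [heq]
  apply t.finite_toSet.isCompact_biUnion
  intro x _
  have h1 : ∀ (A : X.Opens), IsAffineOpen A →
      IsCompact ((A ⊓ W x : X.Opens) : Set X) := by
    intro A hA
    obtain ⟨n, s, hs⟩ := hWsec x
    rw [hs, inf_comm]
    exact (isAffineOpen_genLocus_inf (isInvertible_tensorPow (hL x) (n + 1)) s hA).isCompact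
  exact hqs x _ _ (fun y hy => hy.2) (U.1 ⊓ W x).2 (h1 U.1 U.2)
    (fun y hy => hy.2) (U'.1 ⊓ W x).2 (h1 U'.1 U'.2)

open AlgebraicGeometry CategoryTheory Limits TopologicalSpace Groth.Agent.Lib.Helper3 InvGen InvTensor InvAmple PbBasic
  PbAmple in
theorem hasAmpleFamily_of_isQuasiAffine7184 {X Y : Scheme.{u}} (f : X ⟶ Y)
    (hf : Mor2.IsQuasiAffine f) (hY : MoreMor.HasAmpleFamily Y) : MoreMor.HasAmpleFamily X := by
  obtain ⟨hYc, hY⟩ := hY
  haveI := hYc
  haveI := hf.1
  haveI : CompactSpace X := QuasiCompact.compactSpace_of_compactSpace f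
  have key : ∀ x : X, ∃ (L : X.Modules), PicF.IsInvertible L ∧ ∃ W ∈ SecLocus L, x ∈ W ∧
      (W : Scheme.{u}).IsQuasiAffine := by
    intro x
    obtain ⟨L, n, s, hL, hn, hxs, haff⟩ := hY (f x)
    exact ⟨_, isInvertible_pullback f hL, _, secLocus_pullback f hL (secLocus_of_pos hn s), hxs,
      hf.2 _ haff⟩
  haveI : QuasiSeparatedSpace X := by
    apply quasiSeparatedSpace_of_secLocus_family_cover7184
    intro x
    obtain ⟨L, hL, W, hW, hxW, hqa⟩ := key x
    exact ⟨L, hL, W, hW, hxW, (isQuasiSeparated_iff_quasiSeparatedSpace _ W.2).mpr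
      (inferInstanceAs (QuasiSeparatedSpace ↥(W : Scheme.{u})))⟩
  refine ⟨inferInstance, fun x => ?_⟩
  obtain ⟨L, hL, W, hW, hxW, hqa⟩ := key x
  obtain ⟨_, ⟨r, hr, rfl⟩, hxr, -⟩ := Opens.isBasis_iff_nbhd.mp
    (Scheme.IsQuasiAffine.isBasis_basicOpen (W : Scheme.{u}))
    (show (⟨x, hxW⟩ : ↥(W : Scheme.{u})) ∈ (⊤ : (W : Scheme.{u}).Opens) from trivial)
  have himg : W.ι ''ᵁ ((W : Scheme.{u}).basicOpen r) = X.basicOpen (W.topIso.hom r) := by
    have h1 := Scheme.Opens.ι_image_basicOpen_topIso_inv W (W.topIso.hom r)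
    have h2 : W.topIso.inv (W.topIso.hom r) = r := by
      change (W.topIso.hom ≫ W.topIso.inv) r = r
      rw [Iso.hom_inv_id]; rfl
    rw [h2] at h1
    exact h1
  obtain ⟨n', s', hs'⟩ := secLocus_basicOpen hL hW (W.topIso.hom r)
  refine ⟨L, n' + 1, s', hL, Nat.succ_pos _, ?_, ?_⟩
  · rw [← hs', ← himg]
    exact ⟨⟨x, hxW⟩, hxr, rfl⟩
  · rw [← hs', ← himg]
    exact hr.image_of_isOpenImmersion W.ι

open AlgebraicGeometry CategoryTheory Limits in

open AlgebraicGeometry CategoryTheory Limits in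
/-- If f : X → Y is affine or quasi-affine and Y has an ample family of invertible modules, then X has
an ample family of invertible modules. -/
theorem result {X Y : Scheme.{u}} (f : X ⟶ Y) (hf : IsAffineHom f ∨ Mor2.IsQuasiAffine f)
    (hY : MoreMor.HasAmpleFamily Y) : MoreMor.HasAmpleFamily X := by
  apply hasAmpleFamily_of_isQuasiAffine7184 f _ hY
  rcases hf with hf | hf
  · haveI := hf
    refine ⟨inferInstance, fun V hV => ?_⟩
    haveI : IsAffine ((f ⁻¹ᵁ V : X.Opens) : Scheme.{u}) := hV.preimage f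
    infer_instance
  · exact hf

end Groth.Agent.S7184
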