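import Groth.Statements.S1499
import Groth.Agent.Lib.Helper3.TwistAmple
import Groth.Agent.S7184

set_option autoImplicit false
universe u
attribute [local instance] HasDerivedCategory.standard
open FlatMor

namespace Groth.Agent.S1499

open AlgebraicGeometry CategoryTheory Limits TopologicalSpace Groth.Agent.Lib.Helper3 InvGen InvTensor InvAmple InvMonoidal PbBasic PbAmple AmpleMisc RelAmpleLib TwistAmple in

open AlgebraicGeometry CategoryTheory Limits in
/-- Let f : X → Y with Y having an ample family of invertible modules, and suppose some O_X-module is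
ample relative to f. Then X has an ample family of invertible modules. -/
theorem result {X Y : Scheme.{u}} (f : X ⟶ Y)
    (hY : MoreMor.HasAmpleFamily Y) (L : X.Modules) (hL : RelAmple.IsRelAmple f L) :
    MoreMor.HasAmpleFamily X := by
  obtain ⟨hYc, hY⟩ := hY
  haveI := hYc
  haveI := hL.1
  haveI : CompactSpace X := QuasiCompact.compactSpace_of_compactSpace f
  have hLi := isInvertible_of_isRelAmple f hL
  haveI : QuasiSeparatedSpace X := by
    apply Groth.Agent.S7184.quasiSeparatedSpace_of_secLocus_family_cover7184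
    intro x
    obtain ⟨K, n, s, hK, hn, hys, haff⟩ := hY (f x)
    exact ⟨_, isInvertible_pullback f hK, _, secLocus_pullback f hK (secLocus_of_pos hn s), hys,
      isQuasiSeparated_of_isAmple_restrict _ (hL.2 ⟨_, haff⟩)⟩
  refine ⟨inferInstance, fun x => ?_⟩
  obtain ⟨K, n, s, hK, hn, hys, haff⟩ := hY (f x)
  have hNi := isInvertible_pullback f (isInvertible_tensorPow hK n)
  have hgl := genLocus_pullHom f (isInvertible_tensorPow hK n) s
  have hA0 : CohB1.IsAmple (L.restrict (f ⁻¹ᵁ CohB1.genLocus _ s).ι) := hL.2 ⟨_, haff⟩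
  rw [← hgl] at hA0
  obtain ⟨W, hxW, hWa, -, a, ha, b₀, hb⟩ := exists_section_twist_locus hLi hNi (pullHom f s) hA0 x
    (by rw [hgl]; exact hys)
  obtain ⟨σ, hσ⟩ := hb b₀ le_rfl
  refine ⟨_, 1, σ ≫ (powOne _).hom,
    isInvertible_tensorMod (isInvertible_tensorPow hLi a) (isInvertible_tensorPow hNi b₀), le_rfl,
    ?_, ?_⟩
  · rw [genLocus_comp_iso, hσ]; exact hxW
  · rw [genLocus_comp_iso, hσ]; exact hWa

end Groth.Agent.S1499
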