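import Groth.Statements.S14994
import Mathlib

set_option autoImplicit false
universe u
open CAlg

namespace Groth.Agent.S14994

theorem exists_dual_ne_zero_of_not_mem_torsion (A : Type u) [CommRing A] [IsDomain A]
    (Q : Type u) [AddCommGroup Q] [Module A Q] [Module.Finite A Q] (q : Q)
    (hq : q ∉ Submodule.torsion A Q) : ∃ g : Q →ₗ[A] A, g q ≠ 0 := by
  have hfq : LocalizedModule.mkLinearMap (nonZeroDivisors A) Q q ≠ 0 := by
    intro h0
    rw [IsLocalizedModule.eq_zero_iff (nonZeroDivisors A)] at h0
    obtain ⟨s, hs⟩ := h0
    exact hq ((Submodule.mem_torsion_iff q).mpr ⟨s, hs⟩)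
  obtain ⟨φ, hφ⟩ : ∃ φ : Module.Dual (FractionRing A) (LocalizedModule (nonZeroDivisors A) Q),
      φ (LocalizedModule.mkLinearMap (nonZeroDivisors A) Q q) ≠ 0 :=
    Module.Projective.exists_dual_ne_zero (FractionRing A) hfq
  obtain ⟨lam, hlam⟩ : ∃ lam : Q →ₗ[A] FractionRing A,
      ∀ x, lam x = φ (LocalizedModule.mkLinearMap (nonZeroDivisors A) Q x) :=
    ⟨(φ.restrictScalars A).comp (LocalizedModule.mkLinearMap (nonZeroDivisors A) Q), fun x => rfl⟩
  obtain ⟨n, s, hs⟩ := Module.Finite.exists_fin (R := A) (M := Q)
  obtain ⟨b, hb⟩ := IsLocalization.exist_integer_multiples_of_finite (nonZeroDivisors A)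
    (fun i : Fin n => lam (s i))
  have hP : (⊤ : Submodule A Q) ≤
      (LinearMap.range (Algebra.linearMap A (FractionRing A))).comap ((b : A) • lam) := by
    rw [← hs, Submodule.span_le]
    rintro _ ⟨i, rfl⟩
    obtain ⟨r, hr⟩ := hb i
    exact ⟨r, hr⟩
  have hex : ∀ x : Q, ∃ r : A, algebraMap A (FractionRing A) r = (b : A) • lam x := fun x => by
    obtain ⟨r, hr⟩ := hP (Submodule.mem_top : x ∈ ⊤)
    exact ⟨r, hr⟩
  choose g₀ hg₀ using hex
  have hinj := IsFractionRing.injective A (FractionRing A)
  refine ⟨{ toFun := g₀
            map_add' := fun x y => hinj (by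
              rw [map_add, hg₀, hg₀, hg₀, map_add, smul_add])
            map_smul' := fun c x => hinj (by
              simp only [RingHom.id_apply, smul_eq_mul, map_mul, hg₀, map_smul, Algebra.smul_def]
              ring) }, fun h0 => ?_⟩
  have h1 := hg₀ q
  have h0' : g₀ q = 0 := h0
  rw [h0', map_zero, hlam, Algebra.smul_def] at h1
  rcases mul_eq_zero.mp h1.symm with h2 | h2
  · exact (nonZeroDivisors.ne_zero b.2) (hinj (by rw [h2, map_zero]))
  · exact hφ h2

/-- Let A be a Noetherian integrally closed domain, M a finitely generated torsion-free A-module, N a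
submodule of M and ι : M → M** the canonical map to the double dual. Write N** → M** for the double
dual of the inclusion N → M. Then every m ∈ M whose image ι(m) lies in the image of N** is a torsion
element modulo N: some nonzero a ∈ A satisfies a·m ∈ N. In other words the preimage of N** under ι
is contained in the saturation of N in M (the preimage of the torsion submodule of M/N), and the two
coincide when M/N is torsion-free. (The published statement asserts equality of the preimage with
the saturation for every N; for N = xA inside M = A = k[x] the saturation is all of M while N** has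
image xA = N under the identification M** = M, so only the inclusion stated here holds, and it is
the inclusion later used, for saturated N, where the two sides agree.) -/
theorem result (A : Type u) [CommRing A] [IsDomain A]
    [IsNoetherianRing A] [IsIntegrallyClosed A]
    (M : Type u) [AddCommGroup M] [Module A M] [Module.Finite A M] [NoZeroSMulDivisors A M]
    (N : Submodule A M) :
    (LinearMap.range N.subtype.dualMap.dualMap).comap (Module.Dual.eval A M) ≤
      (Submodule.torsion A (M ⧸ N)).comap N.mkQ := by
  intro m hm
  rw [Submodule.mem_comap] at hm ⊢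
  obtain ⟨φ, hφ⟩ := hm
  by_contra hcon
  obtain ⟨g, hg⟩ := exists_dual_ne_zero_of_not_mem_torsion A (M ⧸ N) (N.mkQ m) hcon
  apply hg
  have h1 : (Module.Dual.eval A M m) (g.comp N.mkQ) = g (N.mkQ m) := rfl
  have h2 : N.subtype.dualMap (g.comp N.mkQ) = 0 := by
    ext x
    show g (N.mkQ (N.subtype x)) = 0
    rw [Submodule.subtype_apply, Submodule.mkQ_apply, (Submodule.Quotient.mk_eq_zero N).mpr x.2,
      map_zero]
  rw [← h1, ← hφ]
  show φ (N.subtype.dualMap (g.comp N.mkQ)) = 0
  rw [h2, map_zero]

end Groth.Agent.S14994
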