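import Groth.Statements.S14997
import Mathlib

set_option autoImplicit false
open HilbPol

namespace Groth.Agent.S14997

namespace S14997aux
open Polynomial

/-- α_i(R) = i! * coeff_i R -/
noncomputable def al (R : ℚ[X]) (i : ℕ) : ℚ := R.coeff i * (i.factorial : ℚ)

lemma coeff_comp_sub (R : ℚ[X]) (a : ℚ) (N : ℕ) (hN : R.natDegree < N) (i : ℕ) :
    (R.comp (X - C a)).coeff i =
      ∑ t ∈ Finset.range N, ((t + i).choose i : ℚ) * R.coeff (t + i) * (-a) ^ t := by
  have h1 : R.comp (X - C a) = taylor (-a) R := by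
    rw [taylor_apply, C_neg, sub_eq_add_neg]
  rw [h1, taylor_coeff]
  have hdeg : (hasseDeriv i R).natDegree < N :=
    lt_of_le_of_lt ((natDegree_hasseDeriv_le R i).trans (Nat.sub_le _ _)) hN
  rw [eval_eq_sum_range' hdeg]
  refine Finset.sum_congr rfl fun t _ => ?_
  rw [hasseDeriv_coeff]

lemma al_diff (R : ℚ[X]) (a : ℚ) (d : ℕ) (hd : R.natDegree = d) (i : ℕ) :
    al (R - R.comp (X - C a)) i =
      ∑ s ∈ Finset.range d,
        (-1 : ℚ) ^ s * a ^ (s + 1) / ((s + 1).factorial : ℚ) * al R (s + 1 + i) := by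
  unfold al
  rw [coeff_sub, coeff_comp_sub R a (d + 1) (by omega) i, Finset.sum_range_succ']
  simp only [zero_add, Nat.choose_self, Nat.cast_one, one_mul, pow_zero, mul_one]
  rw [sub_add_cancel_right, neg_mul, Finset.sum_mul, ← Finset.sum_neg_distrib]
  refine Finset.sum_congr rfl fun s _ => ?_
  have hch : ((s + 1 + i).choose i : ℚ) * ((s + 1).factorial : ℚ) * (i.factorial : ℚ) =
      ((s + 1 + i).factorial : ℚ) := by
    exact_mod_cast Nat.add_choose_mul_factorial_mul_factorial (s + 1) i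
  have hf : ((s + 1).factorial : ℚ) ≠ 0 := by positivity
  rw [← hch, neg_pow]
  field_simp
  ring

lemma al_zero_of_lt (R : ℚ[X]) {m : ℕ} (h : R.natDegree < m) : al R m = 0 := by
  unfold al; rw [coeff_eq_zero_of_natDegree_lt h, zero_mul]

lemma al_top_ne (R : ℚ[X]) (h0 : R ≠ 0) : al R R.natDegree ≠ 0 := by
  unfold al
  refine mul_ne_zero ?_ (by positivity)
  rwa [coeff_natDegree, Ne, leadingCoeff_eq_zero]

lemma al_diff_top (R : ℚ[X]) (a : ℚ) (d : ℕ) (hd : R.natDegree = d) (hd1 : 1 ≤ d) :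
    al (R - R.comp (X - C a)) (d - 1) = a * al R d := by
  rw [al_diff R a d hd, Finset.sum_eq_single 0]
  · rw [show 0 + 1 + (d - 1) = d by omega]; simp
  · intro s _ hs; rw [al_zero_of_lt R (by omega), mul_zero]
  · intro h; exact absurd (Finset.mem_range.mpr (by omega)) h

lemma qform (R : ℚ[X]) (a : ℚ) (ha : a ≠ 0) (d : ℕ) (hd : R.natDegree = d) (h0 : R ≠ 0)
    (j : ℕ) (hj : j + 2 ≤ d) :
    al (R - R.comp (X - C a)) (d - 1 - 1 - j) / al (R - R.comp (X - C a)) (d - 1) =
      ∑ s ∈ Finset.range (j + 1), ((-1 : ℚ) ^ s * a ^ s / ((s + 1).factorial : ℚ)) *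
          (al R (d - 1 - (j - s)) / al R d)
        + (-1 : ℚ) ^ (j + 1) * a ^ (j + 1) / ((j + 2).factorial : ℚ) := by
  have hαd : al R d ≠ 0 := hd ▸ al_top_ne R h0
  rw [al_diff_top R a d hd (by omega), al_diff R a d hd]
  have hsplit : ∑ s ∈ Finset.range d, (-1 : ℚ) ^ s * a ^ (s + 1) / ((s + 1).factorial : ℚ) *
        al R (s + 1 + (d - 1 - 1 - j))
      = ∑ s ∈ Finset.range (j + 2), (-1 : ℚ) ^ s * a ^ (s + 1) / ((s + 1).factorial : ℚ) *
        al R (s + 1 + (d - 1 - 1 - j)) := by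
    symm
    apply Finset.sum_subset
    · intro s hs; rw [Finset.mem_range] at hs ⊢; omega
    · intro s hs hs'
      rw [Finset.mem_range] at hs hs'
      rw [al_zero_of_lt R (by omega), mul_zero]
  rw [hsplit, Finset.sum_range_succ, add_div, Finset.sum_div]
  congr 1
  · refine Finset.sum_congr rfl fun s hs => ?_
    rw [Finset.mem_range] at hs
    rw [show s + 1 + (d - 1 - 1 - j) = d - 1 - (j - s) by omega]
    have hf : ((s + 1).factorial : ℚ) ≠ 0 := by positivity
    field_simp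
    ring
  · rw [show j + 1 + 1 + (d - 1 - 1 - j) = d by omega]
    have hf : ((j + 2).factorial : ℚ) ≠ 0 := by positivity
    field_simp
    ring

lemma lex_key (ℓ : ℕ) (c e : ℕ → ℚ) (hc : c 0 = 1) (p p' q q' : ℕ → ℚ)
    (hq : ∀ j < ℓ, q j = ∑ s ∈ Finset.range (j + 1), c s * p (j - s) + e j)
    (hq' : ∀ j < ℓ, q' j = ∑ s ∈ Finset.range (j + 1), c s * p' (j - s) + e j) :
    ∀ j < ℓ, (∀ i < j, p i = p' i) → q j - q' j = p j - p' j := by
  intro j hj h
  rw [hq j hj, hq' j hj, Finset.sum_range_succ', Finset.sum_range_succ']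
  have : ∑ s ∈ Finset.range j, c (s + 1) * p (j - (s + 1)) =
      ∑ s ∈ Finset.range j, c (s + 1) * p' (j - (s + 1)) :=
    Finset.sum_congr rfl fun s hs => by
      rw [h (j - (s + 1)) (by rw [Finset.mem_range] at hs; omega)]
  rw [this, hc]; simp only [Nat.sub_zero]; ring

lemma lex_lt (ℓ : ℕ) (p p' q q' : ℕ → ℚ)
    (key : ∀ j < ℓ, (∀ i < j, p i = p' i) → q j - q' j = p j - p' j)
    (h : toLex (fun j : Fin ℓ => p j) < toLex (fun j : Fin ℓ => p' j)) :
    toLex (fun j : Fin ℓ => q j) < toLex (fun j : Fin ℓ => q' j) := by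
  obtain ⟨i, hi, hlt⟩ := h
  have hpre : ∀ j : ℕ, j < (i : ℕ) → p j = p' j := fun j hj =>
    hi ⟨j, hj.trans i.2⟩ (Fin.lt_def.mpr hj)
  refine ⟨i, fun j hj => ?_, ?_⟩
  · have hj' : (j : ℕ) < i := hj
    have h1 := key j j.2 (fun i' hi' => hpre i' (hi'.trans hj'))
    have h2 := hpre j hj'
    show q j = q' j
    linarith
  · have h1 := key i i.2 hpre
    show q i < q' i
    have hlt' : p i < p' i := hlt
    linarith

lemma lex_iff (ℓ : ℕ) (p p' q q' : ℕ → ℚ)
    (key : ∀ j < ℓ, (∀ i < j, p i = p' i) → q j - q' j = p j - p' j)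
    (key' : ∀ j < ℓ, (∀ i < j, p' i = p i) → q' j - q j = p' j - p j) :
    toLex (fun j : Fin ℓ => p j) ≤ toLex (fun j : Fin ℓ => p' j) ↔
      toLex (fun j : Fin ℓ => q j) ≤ toLex (fun j : Fin ℓ => q' j) := by
  constructor
  · intro h
    rcases lt_or_eq_of_le h with h | h
    · exact (lex_lt ℓ p p' q q' key h).le
    · have heq : ∀ j : Fin ℓ, p j = p' j := fun j => congrFun (toLex.injective h) j
      refine le_of_eq ?_
      congr 1; funext j
      have h1 := key j j.2 (fun i hi => heq ⟨i, hi.trans j.2⟩)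
      have h2 := heq j
      linarith
  · intro h
    by_contra hcon
    have hlt := lex_lt ℓ p' p q' q key' (not_le.mp hcon)
    exact absurd h (not_le.mpr hlt)

end S14997aux

open Polynomial in
/-- Let d and ℓ be natural numbers with ℓ + 1 ≤ d, let a be a nonzero rational number and let P, Q be
polynomials with rational coefficients, both of degree exactly d. For a polynomial R of degree e
write R(m) = Σ_i α_i(R) m^i / i! (so α_i(R) = i! · coeff_i(R)) and let r_ℓ(R) ∈ ℚ^ℓ be the vector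
(α_{e−1}(R)/α_e(R), …, α_{e−ℓ}(R)/α_e(R)) of the ℓ coefficients after the leading one of the reduced
polynomial R/α_e(R), ordered lexicographically. The polynomials P(m) − P(m − a) and Q(m) − Q(m − a)
have degree d − 1, and r_ℓ(P) ≤ r_ℓ(Q) lexicographically if and only if r_ℓ(P(m) − P(m − a)) ≤
r_ℓ(Q(m) − Q(m − a)) lexicographically (hence the same with strict inequalities, by exchanging P and
Q). When P and Q are the Hilbert polynomials of pure d-dimensional coherent sheaves E → F on a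
polarized projective scheme and D is a hypersurface section of degree a containing no associated
point of E or F, the Hilbert polynomials of E|_D and F|_D are P(m) − P(m − a) and Q(m) − Q(m − a),
and the two sides are the comparisons of the ℓ-truncated reduced Hilbert polynomials p_ℓ(E) ≥ p_ℓ(F)
and p_ℓ(E|_D) ≥ p_ℓ(F|_D). (The published statement is phrased for the sheaves; this row is the
statement about their Hilbert polynomials that the displayed coefficient formula yields.) -/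
theorem result (d ℓ : ℕ) (hℓ : ℓ + 1 ≤ d) (a : ℚ) (ha : a ≠ 0)
    (P Q : ℚ[X]) (hP : P.natDegree = d) (hQ : Q.natDegree = d) (hP0 : P ≠ 0) (hQ0 : Q ≠ 0) :
    toLex (fun j : Fin ℓ => ((P).coeff (d - 1 - (j : ℕ)) * (Nat.factorial (d - 1 - (j : ℕ)) : ℚ)) / ((P).coeff (d) * (Nat.factorial (d) : ℚ))) ≤ toLex (fun j : Fin ℓ => ((Q).coeff (d - 1 - (j : ℕ)) * (Nat.factorial (d - 1 - (j : ℕ)) : ℚ)) / ((Q).coeff (d) * (Nat.factorial (d) : ℚ))) ↔
      toLex (fun j : Fin ℓ => ((P - P.comp (X - C a)).coeff ((d - 1) - 1 - (j : ℕ)) * (Nat.factorial ((d - 1) - 1 - (j : ℕ)) : ℚ)) / ((P - P.comp (X - C a)).coeff ((d - 1)) * (Nat.factorial ((d - 1)) : ℚ))) ≤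
        toLex (fun j : Fin ℓ => ((Q - Q.comp (X - C a)).coeff ((d - 1) - 1 - (j : ℕ)) * (Nat.factorial ((d - 1) - 1 - (j : ℕ)) : ℚ)) / ((Q - Q.comp (X - C a)).coeff ((d - 1)) * (Nat.factorial ((d - 1)) : ℚ))) := by
  have hc : (fun s : ℕ => (-1 : ℚ) ^ s * a ^ s / ((s + 1).factorial : ℚ)) 0 = 1 := by simp
  have key := S14997aux.lex_key ℓ (fun s : ℕ => (-1 : ℚ) ^ s * a ^ s / ((s + 1).factorial : ℚ))
    (fun j : ℕ => (-1 : ℚ) ^ (j + 1) * a ^ (j + 1) / ((j + 2).factorial : ℚ)) hc
    (fun j => S14997aux.al P (d - 1 - j) / S14997aux.al P d)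
    (fun j => S14997aux.al Q (d - 1 - j) / S14997aux.al Q d)
    (fun j => S14997aux.al (P - P.comp (X - C a)) (d - 1 - 1 - j) /
      S14997aux.al (P - P.comp (X - C a)) (d - 1))
    (fun j => S14997aux.al (Q - Q.comp (X - C a)) (d - 1 - 1 - j) /
      S14997aux.al (Q - Q.comp (X - C a)) (d - 1))
    (fun j hj => S14997aux.qform P a ha d hP hP0 j (by omega))
    (fun j hj => S14997aux.qform Q a ha d hQ hQ0 j (by omega))
  have key' := S14997aux.lex_key ℓ (fun s : ℕ => (-1 : ℚ) ^ s * a ^ s / ((s + 1).factorial : ℚ))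
    (fun j : ℕ => (-1 : ℚ) ^ (j + 1) * a ^ (j + 1) / ((j + 2).factorial : ℚ)) hc
    (fun j => S14997aux.al Q (d - 1 - j) / S14997aux.al Q d)
    (fun j => S14997aux.al P (d - 1 - j) / S14997aux.al P d)
    (fun j => S14997aux.al (Q - Q.comp (X - C a)) (d - 1 - 1 - j) /
      S14997aux.al (Q - Q.comp (X - C a)) (d - 1))
    (fun j => S14997aux.al (P - P.comp (X - C a)) (d - 1 - 1 - j) /
      S14997aux.al (P - P.comp (X - C a)) (d - 1))
    (fun j hj => S14997aux.qform Q a ha d hQ hQ0 j (by omega))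
    (fun j hj => S14997aux.qform P a ha d hP hP0 j (by omega))
  exact S14997aux.lex_iff ℓ _ _ _ _ key key'

end Groth.Agent.S14997
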