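import Groth.Statements.S1500
import Groth.Agent.Lib.Helper3.TwistAmple
import Groth.Agent.S7184
import Groth.Agent.Lib.Helper26.CartierSec


set_option autoImplicit false
universe u
open FlatMor

namespace Groth.Agent.S1500

open AlgebraicGeometry CategoryTheory Limits TopologicalSpace Groth.Agent.Lib.Helper3 InvGen InvTensor InvAmple InvMonoidal PbBasic PbAmple AmpleMisc RelAmpleLib TwistAmple in

open AlgebraicGeometry CategoryTheory Limits in
/-- Let D_1, …, D_m be effective Cartier divisors on X (ideal sheaves locally generated by a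
nonzerodivisor) with empty common support, and L_1, …, L_m invertible O_X-modules with L_i ample on
the open complement of D_i. Then X has an ample family of invertible modules. -/
theorem result {X : Scheme.{u}} {m : ℕ} (D : Fin m → X.IdealSheafData)
    (hD : ∀ i, BlowUp.IsEffCartierIdeal (D i)) (hcap : ⋂ i, ((D i).support : Set ↑X) = ∅)
    (L : Fin m → X.Modules) (hL : ∀ i, PicF.IsInvertible (L i)) (hamp : ∀ i, CohB1.IsAmple ((L i).restrict (Scheme.Opens.ι (D i).support.compl))) :
    MoreMor.HasAmpleFamily X := by
  choose M g hM hloc using fun i =>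
    Groth.Agent.Lib.Helper26.CartierSec.exists_section_of_effCartier (D i) (hD i)
  have hU : ∀ i, CohB1.genLocus (M i) (g i) = (D i).support.compl := by
    intro i
    ext z
    rw [SetLike.mem_coe, hloc i z]
    rfl
  have hamp' : ∀ i, CohB1.IsAmple ((L i).restrict (CohB1.genLocus (M i) (g i)).ι) := by
    intro i
    rw [hU i]
    exact hamp i
  have hcov : ∀ x : X, ∃ i, x ∈ CohB1.genLocus (M i) (g i) := by
    intro x
    by_contra hne
    push_neg at hne
    have hx : x ∈ ⋂ i, ((D i).support : Set X) := by
      rw [Set.mem_iInter]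
      intro i
      by_contra hx
      exact hne i ((hloc i x).mpr hx)
    rw [hcap] at hx
    exact hx
  haveI : CompactSpace X := by
    constructor
    have huniv : (Set.univ : Set X) =
        ⋃ i, ((CohB1.genLocus (M i) (g i) : X.Opens) : Set X) := by
      ext x
      simp only [Set.mem_univ, Set.mem_iUnion, SetLike.mem_coe, true_iff]
      exact hcov x
    rw [huniv]
    apply isCompact_iUnion
    intro i
    haveI : CompactSpace ↥(CohB1.genLocus (M i) (g i)) := (hamp' i).2.1
    exact isCompact_iff_compactSpace.mpr this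
  haveI : QuasiSeparatedSpace X := by
    apply Groth.Agent.S7184.quasiSeparatedSpace_of_secLocus_family_cover7184
    intro x
    obtain ⟨i, hi⟩ := hcov x
    exact ⟨M i, hM i, CohB1.genLocus (M i) (g i),
      ⟨0, g i ≫ (powOne (M i)).hom, (genLocus_comp_iso _ _).symm⟩, hi,
      isQuasiSeparated_of_isAmple_restrict _ (hamp' i)⟩
  refine ⟨inferInstance, fun x => ?_⟩
  obtain ⟨i, hi⟩ := hcov x
  obtain ⟨W, hxW, hWa, -, a, ha, b₀, hb⟩ :=
    exists_section_twist_locus (hL i) (hM i) (g i) (hamp' i) x hi
  obtain ⟨σ, hσ⟩ := hb b₀ le_rfl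
  refine ⟨_, 1, σ ≫ (powOne _).hom,
    isInvertible_tensorMod (isInvertible_tensorPow (hL i) a) (isInvertible_tensorPow (hM i) b₀),
    le_rfl, ?_, ?_⟩
  · rw [genLocus_comp_iso, hσ]
    exact hxW
  · rw [genLocus_comp_iso, hσ]
    exact hWa

end Groth.Agent.S1500
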