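import Groth.Statements.S15003
import Mathlib
import Groth.Agent.S1450
import Groth.Agent.S9812
import Groth.Agent.Lib.Helper26.RegularNormal

set_option autoImplicit false
universe u
open CategoryTheory CategoryTheory.Limits AlgebraicGeometry
open Harb

namespace Groth.Agent.S15003

open TopologicalSpace

theorem card_fiber_eq_finrank {A B : Type u} [CommRing A] [IsDomain A] [CommRing B] [Algebra A B]
    [Module.Finite A B] [Module.Flat A B] [Algebra.Etale A B] (m : Ideal A) [hm : m.IsPrime]
    [IsSepClosed m.ResidueField] :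
    Nat.card (PrimeSpectrum.comap (algebraMap A B) ⁻¹' {⟨m, hm⟩}) = Module.finrank A B := by
  rw [Nat.card_congr (PrimeSpectrum.preimageEquivFiber A B ⟨m, hm⟩)]
  have h1 : Module.finrank m.ResidueField (m.Fiber B) = Module.finrank A B :=
    Ideal.finrank_fiber_eq_finrank m
  rw [← h1]
  haveI : Algebra.Etale m.ResidueField (m.Fiber B) := inferInstance
  haveI : Module.Finite m.ResidueField (m.Fiber B) := inferInstance
  haveI : IsArtinianRing (m.Fiber B) := isArtinian_of_tower m.ResidueField inferInstance
  letI : Fintype (PrimeSpectrum (m.Fiber B)) := Fintype.ofFinite _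
  let e := Algebra.FormallyEtale.equivPiOfIsSepClosed m.ResidueField (m.Fiber B)
  rw [e.toLinearEquiv.finrank_eq, Module.finrank_fintype_fun_eq_card, Nat.card_eq_fintype_card]

/-- Let k be an algebraically closed field and let π : Y → X be a finite, surjective and unramified
k-morphism of smooth varieties over k (X and Y integral, separated and of finite type over k with
all local rings regular) which sends the generic point of Y to the generic point of X, so that the
function field k(X) embeds in k(Y). Then for every closed point p of X the fibre π⁻¹(p) consists of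
exactly deg π points, where deg π = [k(Y) : k(X)] is the degree of that field extension. -/
theorem result (k : Type u) [Field k] [IsAlgClosed k]
    (X Y : Scheme.{u}) [X.Over (Spec (CommRingCat.of k))] [Y.Over (Spec (CommRingCat.of k))]
    [IsIntegral X] [IsIntegral Y]
    [IsSeparated (X ↘ (Spec (CommRingCat.of k)))] [LocallyOfFiniteType (X ↘ (Spec (CommRingCat.of k)))]
    [QuasiCompact (X ↘ (Spec (CommRingCat.of k)))]
    [IsSeparated (Y ↘ (Spec (CommRingCat.of k)))] [LocallyOfFiniteType (Y ↘ (Spec (CommRingCat.of k)))]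
    [QuasiCompact (Y ↘ (Spec (CommRingCat.of k)))]
    (hregX : ∀ x : X, IsRegularLocalRing (X.presheaf.stalk x))
    (hregY : ∀ y : Y, IsRegularLocalRing (Y.presheaf.stalk y))
    (π : Y ⟶ X) (hπ : π ≫ (X ↘ (Spec (CommRingCat.of k))) = (Y ↘ (Spec (CommRingCat.of k))))
    [AlgebraicGeometry.IsFinite π] [AlgebraicGeometry.Surjective π] [AlgebraicGeometry.FormallyUnramified π]
    (e : π.base (genericPoint Y) = genericPoint X) (p : X) (hp : IsClosed ({p} : Set X)) :
    Nat.card {q : Y // π.base q = p} =
      Models.homDegree (X.presheaf.stalkSpecializes (specializes_of_eq e) ≫ π.stalkMap (genericPoint Y)).hom := by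
  have hgu : ∀ x : X, CAlg2.IsGeomUnibranch (X.presheaf.stalk x) := fun x => by
    haveI := hregX x
    haveI : IsIntegrallyClosed (X.presheaf.stalk x) :=
      Groth.Agent.Lib.Helper26.RegularNormal.isIntegrallyClosed_of_isRegularLocalRing _
    exact Groth.Agent.S9812.result _
  have het : Etale π := (Groth.Agent.S1450.result π hgu ⟨genericPoint Y, e⟩).1
  obtain ⟨_, ⟨U, hU, rfl⟩, hpU, -⟩ := (X.isBasis_affineOpens).exists_subset_of_mem_open
    (Set.mem_univ p) isOpen_univ
  have hV : IsAffineOpen (π ⁻¹ᵁ U) := hU.preimage π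
  set V := π ⁻¹ᵁ U with hVdef
  haveI : Nonempty U := ⟨⟨p, hpU⟩⟩
  obtain ⟨q0, hq0⟩ := (inferInstance : AlgebraicGeometry.Surjective π).surj p
  haveI : Nonempty V := ⟨⟨q0, by show π.base q0 ∈ U; rw [hq0]; exact hpU⟩⟩
  let A := Γ(X, U)
  let B := Γ(Y, V)
  let φ : A →+* B := (π.app U).hom
  letI : Algebra A B := φ.toAlgebra
  have hfin : φ.Finite := IsFinite.finite_app π U hU
  haveI : Module.Finite A B := hfin
  have hetale : RingHom.Etale φ := by
    have := HasRingHomProperty.appLE @Etale π het ⟨U, hU⟩ ⟨V, hV⟩ le_rfl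
    rwa [Scheme.Hom.appLE_eq_app] at this
  haveI : Algebra.Etale A B := hetale
  haveI : Module.Flat A B := inferInstance
  let 𝔭 : PrimeSpectrum A := hU.primeIdealOf ⟨p, hpU⟩
  have h𝔭 : hU.fromSpec 𝔭 = p := hU.fromSpec_primeIdealOf ⟨p, hpU⟩
  have hcomm : Spec.map (π.app U) ≫ hU.fromSpec = hV.fromSpec ≫ π := by
    have := IsAffineOpen.SpecMap_appLE_fromSpec π hU hV le_rfl
    rwa [Scheme.Hom.appLE_eq_app] at this
  have hcommpt : ∀ 𝔮 : PrimeSpectrum B, π (hV.fromSpec 𝔮) = hU.fromSpec (PrimeSpectrum.comap φ 𝔮) := by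
    intro 𝔮
    have := congrArg (fun f : Spec B ⟶ X => f.base 𝔮) hcomm
    exact this.symm
  have hcard : Nat.card {q : Y // π.base q = p} = Nat.card (PrimeSpectrum.comap φ ⁻¹' {𝔭}) := by
    symm
    refine Nat.card_congr (Equiv.ofBijective (fun 𝔮 => ⟨hV.fromSpec 𝔮.1, ?_⟩) ⟨?_, ?_⟩)
    · have h2 : PrimeSpectrum.comap φ 𝔮.1 = 𝔭 := 𝔮.2
      have := hcommpt 𝔮.1
      rw [h2, h𝔭] at this
      exact this
    · intro a b hab
      have := congrArg Subtype.val hab
      exact Subtype.ext (hV.fromSpec.isOpenEmbedding.injective this)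
    · rintro ⟨q, hq⟩
      have hqV : q ∈ V := by show π.base q ∈ U; rw [hq]; exact hpU
      refine ⟨⟨hV.primeIdealOf ⟨q, hqV⟩, ?_⟩, Subtype.ext (hV.fromSpec_primeIdealOf ⟨q, hqV⟩)⟩
      apply hU.fromSpec.isOpenEmbedding.injective
      rw [← hcommpt, hV.fromSpec_primeIdealOf, h𝔭]
      exact hq
  have hmax : 𝔭.asIdeal.IsMaximal := by
    rw [← PrimeSpectrum.isClosed_singleton_iff_isMaximal]
    have : ({𝔭} : Set (PrimeSpectrum A)) = hU.fromSpec ⁻¹' {p} := by
      ext z
      simp only [Set.mem_singleton_iff]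
      constructor
      · rintro rfl; exact h𝔭
      · intro hz; exact hU.fromSpec.isOpenEmbedding.injective (hz.trans h𝔭.symm)
    rw [this]
    exact hp.preimage hU.fromSpec.continuous
  let s := X ↘ Spec (CommRingCat.of k)
  let ψ0 : k →+* A := (s.appLE ⊤ U le_top).hom.comp (Scheme.ΓSpecIso (CommRingCat.of k)).inv.hom
  have hft : ψ0.FiniteType := by
    refine RingHom.FiniteType.comp ?_ ?_
    · exact LocallyOfFiniteType.finiteType_appLE s (isAffineOpen_top _) hU le_top
    · exact RingHom.FiniteType.of_surjective _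
        (ConcreteCategory.bijective_of_isIso (Scheme.ΓSpecIso (CommRingCat.of k)).inv).surjective
  letI : Algebra k A := ψ0.toAlgebra
  haveI : Algebra.FiniteType k A := hft
  letI : Field (A ⧸ 𝔭.asIdeal) := Ideal.Quotient.field _
  haveI : Module.Finite k (A ⧸ 𝔭.asIdeal) := finite_of_finite_type_of_isJacobsonRing k _
  have hbij : Function.Bijective (algebraMap k (A ⧸ 𝔭.asIdeal)) :=
    IsAlgClosed.algebraMap_bijective_of_isIntegral
  let e1 : k ≃+* (A ⧸ 𝔭.asIdeal) := RingEquiv.ofBijective _ hbij
  let e2 : (A ⧸ 𝔭.asIdeal) ≃+* 𝔭.asIdeal.ResidueField :=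
    RingEquiv.ofBijective _ 𝔭.asIdeal.bijective_algebraMap_quotient_residueField
  haveI : IsAlgClosed 𝔭.asIdeal.ResidueField := IsAlgClosed.of_ringEquiv k _ (e1.trans e2)
  have hcount : Nat.card (PrimeSpectrum.comap φ ⁻¹' {𝔭}) = Module.finrank A B := by
    haveI := 𝔭.isPrime
    exact card_fiber_eq_finrank 𝔭.asIdeal
  let ψ : X.functionField →+* Y.functionField :=
    (X.presheaf.stalkSpecializes (specializes_of_eq e) ≫ π.stalkMap (genericPoint Y)).hom
  have hcompat : X.germToFunctionField U ≫
      (X.presheaf.stalkSpecializes (specializes_of_eq e) ≫ π.stalkMap (genericPoint Y)) =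
      π.app U ≫ Y.germToFunctionField V := by
    simp only [Scheme.germToFunctionField]
    rw [TopCat.Presheaf.germ_stalkSpecializes_assoc, Scheme.Hom.germ_stalkMap]
  letI : Algebra X.functionField Y.functionField := ψ.toAlgebra
  letI : Algebra A Y.functionField := ((algebraMap B Y.functionField).comp φ).toAlgebra
  haveI : IsScalarTower A B Y.functionField := IsScalarTower.of_algebraMap_eq (fun _ => rfl)
  haveI : IsScalarTower A X.functionField Y.functionField :=
    IsScalarTower.of_algebraMap_eq (fun a => (ConcreteCategory.congr_hom hcompat a).symm)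
  haveI := functionField_isFractionRing_of_isAffineOpen X U hU
  haveI := functionField_isFractionRing_of_isAffineOpen Y V hV
  have key : Module.finrank X.functionField Y.functionField = Module.finrank A B :=
    IsFractionRing.finrank_eq A X.functionField B Y.functionField
  rw [hcard]
  exact hcount.trans key.symm

end Groth.Agent.S15003
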