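import Groth.Statements.S15004
-- import your own Groth.Agent.* helpers here
import Mathlib

set_option autoImplicit false
universe u v
open Harb

namespace Groth.Agent.S15004

/-- Let C be a finite family of d curves, recorded as an incidence relation between a type of points and
a finite index type, such that any two distinct curves of the family meet in exactly h points; for a
point p write r_p for the number of curves of the family through p. Then for every curve C_i of the
family, Σ_{p ∈ C_i} (r_p − 1) = h (d − 1), the sum being finitely supported. (The published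
statement is for a transversal arrangement of curves on a geometrically ruled surface with invariant
e, all numerically equivalent to a C₀ + b f, where any two of the curves meet transversally in h =
2ab − a²e points; only this common pairwise intersection count enters the proof, and this row states
the identity for an abstract incidence relation.) -/
theorem result (P : Type u) (ι : Type v) [Fintype ι]
    (inc : P → ι → Prop) (h : ℕ)
    (hfin : ∀ i j : ι, i ≠ j → {p : P | inc p i ∧ inc p j}.Finite)
    (hcount : ∀ i j : ι, i ≠ j → {p : P | inc p i ∧ inc p j}.ncard = h) (i : ι) :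
    ∑ᶠ p ∈ {p : P | inc p i}, (Nat.card {j : ι // inc p j} - 1) = h * (Fintype.card ι - 1) := by
  classical
  set U : Set P := ⋃ j : ι, ⋃ (_ : i ≠ j), {p : P | inc p i ∧ inc p j} with hU
  have hUfin : U.Finite :=
    Set.finite_iUnion fun j => Set.finite_iUnion fun hij => hfin i j hij
  have hUmem : ∀ p, p ∈ U ↔ inc p i ∧ ∃ j, i ≠ j ∧ inc p j := by
    intro p
    simp only [hU, Set.mem_iUnion, Set.mem_ofPred_eq]
    constructor
    · rintro ⟨j, hij, hpi, hpj⟩; exact ⟨hpi, j, hij, hpj⟩
    · rintro ⟨hpi, j, hij, hpj⟩; exact ⟨j, hij, hpi, hpj⟩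
  -- r_p - 1 as a count
  have hr : ∀ p, inc p i → Nat.card {j : ι // inc p j} - 1 =
      ((Finset.univ.erase i).filter (fun j => inc p j)).card := by
    intro p hpi
    rw [Nat.card_eq_fintype_card, Fintype.card_subtype]
    have : (Finset.univ.filter (fun j => inc p j)) =
        insert i ((Finset.univ.erase i).filter (fun j => inc p j)) := by
      ext j
      simp only [Finset.mem_filter, Finset.mem_univ, true_and, Finset.mem_insert, Finset.mem_erase,
        ne_eq]
      constructor
      · intro hj
        by_cases hji : j = i
        · exact Or.inl hji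
        · exact Or.inr ⟨⟨hji, trivial⟩, hj⟩
      · rintro (rfl | ⟨_, hj⟩)
        · exact hpi
        · exact hj
    rw [this, Finset.card_insert_of_notMem (by simp)]
    omega
  have hsupp : {p : P | inc p i} ∩ Function.support (fun p => Nat.card {j : ι // inc p j} - 1) =
      ↑hUfin.toFinset ∩ Function.support (fun p => Nat.card {j : ι // inc p j} - 1) := by
    ext p
    simp only [Set.mem_inter_iff, Set.mem_ofPred_eq, Function.mem_support, ne_eq,
      Set.Finite.coe_toFinset]
    constructor
    · rintro ⟨hpi, hne⟩
      refine ⟨?_, hne⟩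
      rw [hUmem]
      refine ⟨hpi, ?_⟩
      rw [hr p hpi] at hne
      obtain ⟨j, hj⟩ := Finset.card_pos.mp (Nat.pos_of_ne_zero hne)
      simp only [Finset.mem_filter, Finset.mem_erase, Finset.mem_univ, and_true] at hj
      exact ⟨j, fun h => hj.1 h.symm, hj.2⟩
    · rintro ⟨hpU, hne⟩
      exact ⟨((hUmem p).mp hpU).1, hne⟩
  rw [finsum_mem_eq_sum_of_inter_support_eq _ hsupp]
  have h1 : ∑ p ∈ hUfin.toFinset, (Nat.card {j : ι // inc p j} - 1) =
      ∑ p ∈ hUfin.toFinset, ∑ j ∈ Finset.univ.erase i, (if inc p j then 1 else 0) := by
    apply Finset.sum_congr rfl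
    intro p hp
    rw [Set.Finite.mem_toFinset, hUmem] at hp
    rw [hr p hp.1, Finset.card_filter]
  rw [h1, Finset.sum_comm]
  have h2 : ∀ j ∈ Finset.univ.erase i, ∑ p ∈ hUfin.toFinset, (if inc p j then 1 else 0) = h := by
    intro j hj
    have hij : i ≠ j := fun h => (Finset.mem_erase.mp hj).1 h.symm
    rw [← Finset.card_filter, ← hcount i j hij, Set.ncard_eq_toFinset_card _ (hfin i j hij)]
    congr 1
    ext p
    simp only [Finset.mem_filter, Set.Finite.mem_toFinset, Set.mem_ofPred_eq, hUmem]
    constructor
    · rintro ⟨⟨hpi, _⟩, hpj⟩; exact ⟨hpi, hpj⟩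
    · rintro ⟨hpi, hpj⟩; exact ⟨⟨hpi, j, hij, hpj⟩, hpj⟩
  rw [Finset.sum_congr rfl h2, Finset.sum_const, Finset.card_erase_of_mem (Finset.mem_univ i),
    Finset.card_univ, smul_eq_mul, mul_comm]

end Groth.Agent.S15004
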