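import Groth.Statements.S15005
-- import your own Groth.Agent.* helpers here
import Mathlib

set_option autoImplicit false
universe u v
open Harb

namespace Groth.Agent.S15005

/-- Let C be a finite family of d curves, recorded as an incidence relation between a type of points and
a finite index type, such that any two distinct curves of the family meet in exactly h points; let
t_k be the number of k-fold points (points lying on exactly k curves of the family). Then f₂ − f₁ =
Σ_{k ≥ 2} k(k − 1) t_k equals h d(d − 1), where f_i = Σ_{k ≥ 2} k^i t_k. (The published statement is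
for a transversal arrangement of curves on a geometrically ruled surface with invariant e, all
numerically equivalent to a C₀ + b f, where any two of the curves meet transversally in h = 2ab −
a²e points; only this common pairwise intersection count enters the proof, and this row states the
identity for an abstract incidence relation.) -/
theorem result (P : Type u) (ι : Type v) [Fintype ι]
    (inc : P → ι → Prop) (h : ℕ)
    (hfin : ∀ i j : ι, i ≠ j → {p : P | inc p i ∧ inc p j}.Finite)
    (hcount : ∀ i j : ι, i ≠ j → {p : P | inc p i ∧ inc p j}.ncard = h) :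
    ∑ k ∈ Finset.Icc 2 (Fintype.card ι), k * (k - 1) * Nat.card {p : P // Nat.card {j : ι // inc p j} = k} =
      h * (Fintype.card ι * (Fintype.card ι - 1)) := by
  classical
  set r : P → ℕ := fun p => Nat.card {j : ι // inc p j} with hr_def
  have hr : ∀ p, r p = (Finset.univ.filter (fun j => inc p j)).card := by
    intro p
    simp only [hr_def]
    rw [Nat.card_eq_fintype_card, Fintype.card_subtype]
  have hrle : ∀ p, r p ≤ Fintype.card ι := fun p => by
    rw [hr]; exact Finset.card_le_univ _
  have hmult_iff : ∀ p : P, 2 ≤ r p ↔ ∃ i j : ι, i ≠ j ∧ inc p i ∧ inc p j := by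
    intro p
    simp only [hr_def]
    rw [Nat.card_eq_fintype_card]
    change 1 < Fintype.card {j : ι // inc p j} ↔ _
    rw [Fintype.one_lt_card_iff]
    constructor
    · rintro ⟨a, b, hab⟩
      exact ⟨a.1, b.1, fun h => hab (Subtype.ext h), a.2, b.2⟩
    · rintro ⟨i, j, hij, hi, hj⟩
      exact ⟨⟨i, hi⟩, ⟨j, hj⟩, fun h => hij (congrArg Subtype.val h)⟩
  set Mult : Set P := {p : P | 2 ≤ r p} with hMult
  have hMfin : Mult.Finite := by
    have : Mult ⊆ ⋃ i : ι, ⋃ j : ι, ⋃ (_ : i ≠ j), {p : P | inc p i ∧ inc p j} := by
      intro p hp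
      obtain ⟨i, j, hij, hi, hj⟩ := (hmult_iff p).mp hp
      simp only [Set.mem_iUnion]
      exact ⟨i, j, hij, hi, hj⟩
    refine Set.Finite.subset ?_ this
    exact Set.finite_iUnion fun i => Set.finite_iUnion fun j => Set.finite_iUnion fun hij =>
      hfin i j hij
  set M : Finset P := hMfin.toFinset with hM
  have hMmem : ∀ p, p ∈ M ↔ 2 ≤ r p := fun p => by rw [hM, Set.Finite.mem_toFinset]; rfl
  -- Step A
  have hA : ∀ k ∈ Finset.Icc 2 (Fintype.card ι),
      Nat.card {p : P // Nat.card {j : ι // inc p j} = k} = (M.filter (fun p => r p = k)).card := by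
    intro k hk
    have hk2 : 2 ≤ k := (Finset.mem_Icc.mp hk).1
    have hsub : {p : P | r p = k} ⊆ Mult := fun p hp => by
      change 2 ≤ r p; rw [hp]; exact hk2
    have hfin' : {p : P | r p = k}.Finite := hMfin.subset hsub
    have : Nat.card {p : P // Nat.card {j : ι // inc p j} = k} = {p : P | r p = k}.ncard := rfl
    rw [this, Set.ncard_eq_toFinset_card _ hfin']
    congr 1
    ext p
    simp only [Set.Finite.mem_toFinset, Set.mem_ofPred_eq, Finset.mem_filter, hMmem]
    constructor
    · intro hp; exact ⟨by rw [hp]; exact hk2, hp⟩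
    · exact fun hp => hp.2
  rw [Finset.sum_congr rfl (fun k hk => by rw [hA k hk])]
  have hB : ∑ k ∈ Finset.Icc 2 (Fintype.card ι), k * (k - 1) * (M.filter (fun p => r p = k)).card =
      ∑ p ∈ M, r p * (r p - 1) := by
    rw [← Finset.sum_fiberwise_of_maps_to (s := M) (t := Finset.Icc 2 (Fintype.card ι)) (g := r)
      (fun p hp => Finset.mem_Icc.mpr ⟨(hMmem p).mp hp, hrle p⟩)]
    apply Finset.sum_congr rfl
    intro k _
    rw [Finset.card_eq_sum_ones, Finset.mul_sum]
    apply Finset.sum_congr rfl
    intro p hp
    rw [(Finset.mem_filter.mp hp).2, mul_one]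
  rw [hB]
  -- Step B
  have hC : ∀ p, r p * (r p - 1) =
      ∑ ij ∈ (Finset.univ : Finset ι).offDiag, (if inc p ij.1 ∧ inc p ij.2 then 1 else 0) := by
    intro p
    rw [← Finset.card_filter, hr p, Nat.mul_sub_one, ← Finset.offDiag_card]
    congr 1
    ext ⟨i, j⟩
    simp only [Finset.mem_offDiag, Finset.mem_filter, Finset.mem_univ, true_and, ne_eq]
    tauto
  rw [Finset.sum_congr rfl (fun p _ => hC p), Finset.sum_comm]
  have hD : ∀ ij ∈ (Finset.univ : Finset ι).offDiag,
      ∑ p ∈ M, (if inc p ij.1 ∧ inc p ij.2 then 1 else 0) = h := by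
    rintro ⟨i, j⟩ hij
    have hij' : i ≠ j := (Finset.mem_offDiag.mp hij).2.2
    rw [← Finset.card_filter, ← hcount i j hij', Set.ncard_eq_toFinset_card _ (hfin i j hij')]
    congr 1
    ext p
    simp only [Finset.mem_filter, Set.Finite.mem_toFinset, Set.mem_ofPred_eq, hMmem]
    constructor
    · exact fun hp => hp.2
    · intro hp; exact ⟨(hmult_iff p).mpr ⟨i, j, hij', hp.1, hp.2⟩, hp⟩
  rw [Finset.sum_congr rfl hD, Finset.sum_const, Finset.offDiag_card, Finset.card_univ, smul_eq_mul,
    Nat.mul_sub_one, mul_comm]

end Groth.Agent.S15005
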