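import Groth.Statements.S15006
-- import your own Groth.Agent.* helpers here
import Mathlib

set_option autoImplicit false
universe u v
open Harb

namespace Groth.Agent.S15006

/-- Let C be a finite family of d ≥ 2 curves, recorded as an incidence relation between a type of points
and a finite index type, such that any two distinct curves of the family meet in exactly h ≥ 1
points and no point lies on every curve of the family. Then f₀ ≥ d: the number of multiple points
(points lying on at least two of the curves) is at least the number of curves. (The published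
statement is for a transversal arrangement of d ≥ 4 curves on a geometrically ruled surface with
invariant e ≥ 4, all numerically equivalent to a C₀ + b f with a ≥ 1 and b ≥ ae and with no point
common to all of them, satisfying in addition either a ≥ 2, or a = 1 with some four of the curves
having no point in common, where any two of the curves meet transversally in h = 2ab − a²e ≥ 1
points; only d ≥ 2, h ≥ 1 and the absence of a common point enter the proof, and this row states the
bound for an abstract incidence relation.) -/
theorem result (P : Type u) (ι : Type v) [Fintype ι]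
    (inc : P → ι → Prop) (h : ℕ) (hh : 0 < h) (hd : 2 ≤ Fintype.card ι)
    (hfin : ∀ i j : ι, i ≠ j → {p : P | inc p i ∧ inc p j}.Finite)
    (hcount : ∀ i j : ι, i ≠ j → {p : P | inc p i ∧ inc p j}.ncard = h)
    (hnone : ∀ p : P, ∃ i : ι, ¬ inc p i) :
    Fintype.card ι ≤ Nat.card {p : P // 2 ≤ Nat.card {j : ι // inc p j}} := by
  classical
  set r : P → ℕ := fun p => Nat.card {j : ι // inc p j} with hr_def
  have hmult_iff : ∀ p : P, 2 ≤ r p ↔ ∃ i j : ι, i ≠ j ∧ inc p i ∧ inc p j := by
    intro p
    simp only [hr_def]
    rw [Nat.card_eq_fintype_card]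
    change 1 < Fintype.card {j : ι // inc p j} ↔ _
    rw [Fintype.one_lt_card_iff]
    constructor
    · rintro ⟨a, b, hab⟩
      exact ⟨a.1, b.1, fun h => hab (Subtype.ext h), a.2, b.2⟩
    · rintro ⟨i, j, hij, hi, hj⟩
      exact ⟨⟨i, hi⟩, ⟨j, hj⟩, fun h => hij (congrArg Subtype.val h)⟩
  set Mult : Set P := {p : P | 2 ≤ r p} with hMult
  have hMfin : Mult.Finite := by
    have : Mult ⊆ ⋃ i : ι, ⋃ j : ι, ⋃ (_ : i ≠ j), {p : P | inc p i ∧ inc p j} := by
      intro p hp
      obtain ⟨i, j, hij, hi, hj⟩ := (hmult_iff p).mp hp
      simp only [Set.mem_iUnion]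
      exact ⟨i, j, hij, hi, hj⟩
    refine Set.Finite.subset ?_ this
    exact Set.finite_iUnion fun i => Set.finite_iUnion fun j => Set.finite_iUnion fun hij =>
      hfin i j hij
  set M : Finset P := hMfin.toFinset with hM
  have hMmem : ∀ p, p ∈ M ↔ 2 ≤ r p := fun p => by rw [hM, Set.Finite.mem_toFinset]; rfl
  have hgoal : Nat.card {p : P // 2 ≤ Nat.card {j : ι // inc p j}} = M.card := by
    have : Nat.card {p : P // 2 ≤ Nat.card {j : ι // inc p j}} = Mult.ncard := rfl
    rw [this, Set.ncard_eq_toFinset_card _ hMfin]
  rw [hgoal]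
  -- pairwise intersections as finsets
  have hpair : ∀ i j, i ≠ j → (M.filter (fun p => inc p i ∧ inc p j)).card = h := by
    intro i j hij
    rw [← hcount i j hij, Set.ncard_eq_toFinset_card _ (hfin i j hij)]
    congr 1
    ext p
    simp only [Finset.mem_filter, Set.Finite.mem_toFinset, Set.mem_ofPred_eq, hMmem]
    constructor
    · exact fun hp => hp.2
    · intro hp; exact ⟨(hmult_iff p).mpr ⟨i, j, hij, hp.1, hp.2⟩, hp⟩
  set s : ι → ℕ := fun i => (M.filter (fun p => inc p i)).card with hs_def
  -- s i > h
  have hs : ∀ i, h < s i := by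
    intro i
    obtain ⟨j, hji⟩ := Fintype.exists_ne_of_one_lt_card (by omega : 1 < Fintype.card ι) i
    have hsub : ∀ k, k ≠ i → M.filter (fun p => inc p i ∧ inc p k) ⊆ M.filter (fun p => inc p i) := by
      intro k _ p hp
      rw [Finset.mem_filter] at hp ⊢
      exact ⟨hp.1, hp.2.1⟩
    have hle : h ≤ s i := by
      rw [← hpair i j hji.symm]
      exact Finset.card_le_card (hsub j hji)
    rcases Nat.lt_or_ge h (s i) with hlt | hge
    · exact hlt
    · exfalso
      have heq : s i = h := le_antisymm hge hle
      have hall : ∀ k, k ≠ i → M.filter (fun p => inc p i ∧ inc p k) = M.filter (fun p => inc p i) := by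
        intro k hk
        apply Finset.eq_of_subset_of_card_le (hsub k hk)
        rw [hpair i k hk.symm]
        exact heq.le
      have hne : (M.filter (fun p => inc p i)).Nonempty := by
        rw [← Finset.card_pos]; change 0 < s i; omega
      obtain ⟨p, hp⟩ := hne
      obtain ⟨k, hk⟩ := hnone p
      have hki : k ≠ i := by
        rintro rfl; exact hk (Finset.mem_filter.mp hp).2
      rw [← hall k hki] at hp
      exact hk (Finset.mem_filter.mp hp).2.2
  -- vectors
  let v : ι → (↥M → ℚ) := fun i p => if inc (p : P) i then 1 else 0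
  have hG : ∀ i j, ∑ p : ↥M, v i p * v j p =
      ((M.filter (fun p => inc p i ∧ inc p j)).card : ℚ) := by
    intro i j
    rw [Finset.sum_coe_sort M (fun p => (if inc p i then (1 : ℚ) else 0) * (if inc p j then 1 else 0))]
    rw [Finset.card_filter, Nat.cast_sum]
    apply Finset.sum_congr rfl
    intro p _
    by_cases h1 : inc p i <;> by_cases h2 : inc p j <;> simp [h1, h2]
  have hGij : ∀ i j, i ≠ j → ∑ p : ↥M, v i p * v j p = (h : ℚ) := by
    intro i j hij; rw [hG, hpair i j hij]
  have hGii : ∀ i, ∑ p : ↥M, v i p * v i p = (s i : ℚ) := by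
    intro i; rw [hG]; simp only [and_self, hs_def]
  have hli : LinearIndependent ℚ v := by
    rw [Fintype.linearIndependent_iff]
    intro c hc
    set σ : ℚ := ∑ j, c j with hσ
    have hE : ∀ i, c i * ((s i : ℚ) - h) + h * σ = 0 := by
      intro i
      have h1 : ∑ p : ↥M, v i p * (∑ j, c j • v j) p = 0 := by rw [hc]; simp
      have h2 : ∑ p : ↥M, v i p * (∑ j, c j • v j) p = ∑ j, c j * ∑ p : ↥M, v i p * v j p := by
        simp only [Finset.sum_apply, Pi.smul_apply, smul_eq_mul, Finset.mul_sum]
        rw [Finset.sum_comm]
        apply Finset.sum_congr rfl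
        intro j _
        apply Finset.sum_congr rfl
        intro p _
        ring
      rw [h2] at h1
      have h3 : ∑ j, c j * ∑ p : ↥M, v i p * v j p =
          ∑ j, (c j * h + (if j = i then c i * ((s i : ℚ) - h) else 0)) := by
        apply Finset.sum_congr rfl
        intro j _
        by_cases hji : j = i
        · subst hji
          rw [hGii, if_pos rfl]; ring
        · rw [hGij i j (Ne.symm hji), if_neg hji, add_zero]
      rw [h3, Finset.sum_add_distrib, Finset.sum_ite_eq' Finset.univ i, if_pos (Finset.mem_univ i),
        ← Finset.sum_mul] at h1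
      linarith
    have hsum : ∑ i, (c i ^ 2 * ((s i : ℚ) - h)) + h * σ ^ 2 = 0 := by
      have : ∑ i, c i * (c i * ((s i : ℚ) - h) + h * σ) = 0 := by
        apply Finset.sum_eq_zero
        intro i _
        rw [hE i, mul_zero]
      have h2 : ∑ i, c i * (c i * ((s i : ℚ) - h) + h * σ) =
          ∑ i, (c i ^ 2 * ((s i : ℚ) - h)) + h * σ ^ 2 := by
        simp only [mul_add, Finset.sum_add_distrib]
        congr 1
        · apply Finset.sum_congr rfl; intro i _; ring
        · rw [← Finset.sum_mul, ← hσ]; ring
      rw [← h2]; exact this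
    have hpos : ∀ i, 0 ≤ c i ^ 2 * ((s i : ℚ) - h) := by
      intro i
      apply mul_nonneg (sq_nonneg _)
      have := hs i
      have : (h : ℚ) < s i := by exact_mod_cast this
      linarith
    have hσ2 : 0 ≤ (h : ℚ) * σ ^ 2 := mul_nonneg (Nat.cast_nonneg _) (sq_nonneg _)
    have hsum0 : ∑ i, (c i ^ 2 * ((s i : ℚ) - h)) = 0 := by
      have := Finset.sum_nonneg (fun i (_ : i ∈ Finset.univ) => hpos i)
      linarith
    intro i
    have := (Finset.sum_eq_zero_iff_of_nonneg (fun i _ => hpos i)).mp hsum0 i (Finset.mem_univ i)
    have hsi : (0 : ℚ) < (s i : ℚ) - h := by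
      have := hs i
      have : (h : ℚ) < s i := by exact_mod_cast this
      linarith
    rcases mul_eq_zero.mp this with h1 | h1
    · exact pow_eq_zero_iff (two_ne_zero) |>.mp h1
    · linarith
  have := hli.fintype_card_le_finrank
  rw [Module.finrank_fintype_fun_eq_card, Fintype.card_coe] at this
  exact this

end Groth.Agent.S15006
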