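import Groth.Statements.S15007
-- import your own Groth.Agent.* helpers here
import Mathlib

set_option autoImplicit false
universe u v
open Harb

namespace Groth.Agent.S15007

/-- Let C be a finite family of d ≥ 2 curves, recorded as an incidence relation between a type of points
and a finite index type, such that any two distinct curves of the family meet in exactly h ≥ 1
points and no point lies on every curve of the family. Then f₀ ≥ h + 2: the number of multiple
points (points lying on at least two of the curves) is at least h + 2. (The published claim reads f₀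
≥ 2ab − a²e + 2 for a transversal arrangement of d ≥ 4 curves on a geometrically ruled surface with
invariant e ≥ 4, all numerically equivalent to a C₀ + b f with a ≥ 1 and b ≥ ae and with no point
common to all of them, satisfying in addition either a ≥ 2, or a = 1 with some four of the curves
having no point in common, where any two of the curves meet transversally in h = 2ab − a²e ≥ 1
points; only d ≥ 2, h ≥ 1 and the absence of a common point enter the proof, and this row states the
bound for an abstract incidence relation.) -/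
theorem result (P : Type u) (ι : Type v) [Fintype ι]
    (inc : P → ι → Prop) (h : ℕ) (hh : 0 < h) (hd : 2 ≤ Fintype.card ι)
    (hfin : ∀ i j : ι, i ≠ j → {p : P | inc p i ∧ inc p j}.Finite)
    (hcount : ∀ i j : ι, i ≠ j → {p : P | inc p i ∧ inc p j}.ncard = h)
    (hnone : ∀ p : P, ∃ i : ι, ¬ inc p i) :
    h + 2 ≤ Nat.card {p : P // 2 ≤ Nat.card {j : ι // inc p j}} := by
  classical
  have hmult_iff : ∀ p : P, 2 ≤ Nat.card {j : ι // inc p j} ↔
      ∃ i j : ι, i ≠ j ∧ inc p i ∧ inc p j := by
    intro p
    rw [Nat.card_eq_fintype_card]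
    change 1 < Fintype.card {j : ι // inc p j} ↔ _
    rw [Fintype.one_lt_card_iff]
    constructor
    · rintro ⟨a, b, hab⟩
      exact ⟨a.1, b.1, fun h => hab (Subtype.ext h), a.2, b.2⟩
    · rintro ⟨i, j, hij, hi, hj⟩
      exact ⟨⟨i, hi⟩, ⟨j, hj⟩, fun h => hij (congrArg Subtype.val h)⟩
  set Mult : Set P := {p : P | 2 ≤ Nat.card {j : ι // inc p j}} with hMult
  have hMfin : Mult.Finite := by
    have : Mult ⊆ ⋃ i : ι, ⋃ j : ι, ⋃ (_ : i ≠ j), {p : P | inc p i ∧ inc p j} := by
      intro p hp
      obtain ⟨i, j, hij, hi, hj⟩ := (hmult_iff p).mp hp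
      simp only [Set.mem_iUnion]
      exact ⟨i, j, hij, hi, hj⟩
    refine Set.Finite.subset ?_ this
    exact Set.finite_iUnion fun i => Set.finite_iUnion fun j => Set.finite_iUnion fun hij =>
      hfin i j hij
  have hgoal : Nat.card {p : P // 2 ≤ Nat.card {j : ι // inc p j}} = Mult.ncard := rfl
  rw [hgoal]
  -- two distinct curves
  obtain ⟨i₁, i₂, h12⟩ := Fintype.one_lt_card_iff.mp (by omega : 1 < Fintype.card ι)
  set T : Set P := {p : P | inc p i₁ ∧ inc p i₂} with hT
  have hTfin : T.Finite := hfin i₁ i₂ h12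
  have hTcard : T.ncard = h := hcount i₁ i₂ h12
  have hTne : T.Nonempty := by
    rw [← Set.ncard_pos hTfin, hTcard]; exact hh
  obtain ⟨t, ht⟩ := hTne
  obtain ⟨k, hk⟩ := hnone t
  have hk1 : k ≠ i₁ := by rintro rfl; exact hk ht.1
  have hk2 : k ≠ i₂ := by rintro rfl; exact hk ht.2
  -- points off T
  have hoff : ∀ i : ι, k ≠ i → inc t i → ∃ x, inc x k ∧ inc x i ∧ x ∉ T := by
    intro i hki hti
    by_contra hcon
    push Not at hcon
    have hsub : {p : P | inc p k ∧ inc p i} ⊆ T := fun x hx => hcon x hx.1 hx.2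
    have heq : {p : P | inc p k ∧ inc p i} = T :=
      Set.eq_of_subset_of_ncard_le hsub (by rw [hTcard, hcount k i hki]) hTfin
    have : t ∈ {p : P | inc p k ∧ inc p i} := by rw [heq]; exact ht
    exact hk this.1
  obtain ⟨x₁, hx₁k, hx₁i, hx₁T⟩ := hoff i₁ hk1 ht.1
  obtain ⟨x₂, hx₂k, hx₂i, hx₂T⟩ := hoff i₂ hk2 ht.2
  have hx12 : x₁ ≠ x₂ := by
    rintro rfl
    exact hx₁T ⟨hx₁i, hx₂i⟩
  have hsub : T ∪ {x₁, x₂} ⊆ Mult := by
    intro p hp
    rcases hp with hp | hp
    · exact (hmult_iff p).mpr ⟨i₁, i₂, h12, hp.1, hp.2⟩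
    · rcases hp with rfl | hp
      · exact (hmult_iff _).mpr ⟨k, i₁, hk1, hx₁k, hx₁i⟩
      · rw [Set.mem_singleton_iff] at hp
        subst hp
        exact (hmult_iff _).mpr ⟨k, i₂, hk2, hx₂k, hx₂i⟩
  have hdisj : Disjoint T {x₁, x₂} := by
    rw [Set.disjoint_left]
    intro p hp hp2
    rcases hp2 with rfl | hp2
    · exact hx₁T hp
    · rw [Set.mem_singleton_iff] at hp2; subst hp2; exact hx₂T hp
  have hcard : (T ∪ {x₁, x₂}).ncard = h + 2 := by
    rw [Set.ncard_union_eq hdisj hTfin (Set.toFinite _), hTcard, Set.ncard_pair hx12]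
  rw [← hcard]
  exact Set.ncard_le_ncard hsub hMfin

end Groth.Agent.S15007
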