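import Groth.Statements.S15010
import Mathlib

set_option autoImplicit false
universe u
open TFCurv

namespace Groth.Agent.S15010


theorem lin_eq {O K : Type u} [CommRing O] [IsDomain O] [Field K] [Algebra O K]
    [IsFractionRing O K] {n : ℕ} (M N : Submodule O (Fin n → K)) (ψ : ↥M →ₗ[O] ↥N)
    (he : ∀ i : Fin n, (Pi.single i (1 : K) : Fin n → K) ∈ M) (x : ↥M) (j : Fin n) :
    ((ψ x : ↥N) : Fin n → K) j =
      ∑ i, ((ψ ⟨Pi.single i 1, he i⟩ : ↥N) : Fin n → K) j * (x : Fin n → K) i := by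
  classical
  obtain ⟨s, hs⟩ := IsLocalization.exist_integer_multiples (nonZeroDivisors O)
    (Finset.univ : Finset (Fin n)) (fun i => (x : Fin n → K) i)
  have hs' : ∀ i, ∃ p : O, algebraMap O K p = (s : O) • (x : Fin n → K) i :=
    fun i => hs i (Finset.mem_univ i)
  choose p hp using hs'
  have hsx : (s : O) • x = ∑ i, p i • (⟨Pi.single i 1, he i⟩ : ↥M) := by
    apply Subtype.ext
    funext j
    simp only [Submodule.coe_smul, Submodule.coe_sum, Finset.sum_apply, Pi.smul_apply,
      Pi.single_apply, smul_ite, smul_zero, Finset.sum_ite_eq, Finset.mem_univ, if_true]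
    rw [← hp j, Algebra.algebraMap_eq_smul_one]
  have h1 := congrArg (fun y : ↥N => (y : Fin n → K) j) (congrArg ψ hsx)
  simp only [map_smul, map_sum, Submodule.coe_smul, Submodule.coe_sum, Pi.smul_apply,
    Finset.sum_apply] at h1
  have hs0 : algebraMap O K (s : O) ≠ 0 :=
    (map_ne_zero_iff _ (IsFractionRing.injective O K)).mpr (nonZeroDivisors.ne_zero s.2)
  apply mul_left_cancel₀ hs0
  rw [← Algebra.smul_def, h1, Finset.mul_sum]
  refine Finset.sum_congr rfl (fun i _ => ?_)
  rw [Algebra.smul_def, hp i, Algebra.smul_def]; ring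

/-- Let O be a one-dimensional Noetherian local domain with algebraically closed residue field whose
integral closure O~ in its fraction field K is a finite O-module. If M and N are O-submodules of K^n
with O^n ⊆ M ⊆ O~^n and O^n ⊆ N ⊆ O~^n, then every O-linear isomorphism M → N is the restriction of
x ↦ A·x for an invertible n × n matrix A with entries in O~. -/
theorem result (O : Type u) [CommRing O] [IsDomain O] [IsNoetherianRing O] [IsLocalRing O] (hdim : ringKrullDim O = 1) [IsAlgClosed (IsLocalRing.ResidueField O)] (K : Type u) [Field K] [Algebra O K] [IsFractionRing O K] (hfin : Module.Finite O ↥(integralClosure O K)) (n : ℕ) (M N : Submodule O (Fin n → K)) (hM1 : Submodule.pi Set.univ (fun _ : Fin n => (1 : Submodule O K)) ≤ M) (hM2 : M ≤ Submodule.pi Set.univ (fun _ : Fin n => (Subalgebra.toSubmodule (integralClosure O K)))) (hN1 : Submodule.pi Set.univ (fun _ : Fin n => (1 : Submodule O K)) ≤ N) (hN2 : N ≤ Submodule.pi Set.univ (fun _ : Fin n => (Subalgebra.toSubmodule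 (integralClosure O K)))) (φ : ↥M ≃ₗ[O] ↥N) : ∃ A : Matrix (Fin n) (Fin n) ↥(integralClosure O K), IsUnit A ∧ ∀ x : ↥M, ((φ x : ↥N) : Fin n → K) = (A.map (algebraMap ↥(integralClosure O K) K)).mulVec (x : Fin n → K) := by
  classical
  have he : ∀ i : Fin n, (Pi.single i (1 : K) : Fin n → K) ∈
      Submodule.pi Set.univ (fun _ : Fin n => (1 : Submodule O K)) := by
    intro i
    rw [Submodule.mem_pi]
    intro j _
    rw [Pi.single_apply]
    split_ifs
    · exact Submodule.mem_one.mpr ⟨1, map_one _⟩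
    · exact Submodule.zero_mem _
  obtain ⟨A, hA⟩ : ∃ A : Matrix (Fin n) (Fin n) ↥(integralClosure O K), ∀ j i,
      ((A j i : ↥(integralClosure O K)) : K) =
        ((φ ⟨Pi.single i 1, hM1 (he i)⟩ : ↥N) : Fin n → K) j :=
    ⟨Matrix.of fun j i => ⟨((φ ⟨Pi.single i 1, hM1 (he i)⟩ : ↥N) : Fin n → K) j,
      hN2 (φ ⟨Pi.single i 1, hM1 (he i)⟩).2 j (Set.mem_univ j)⟩, fun j i => rfl⟩
  obtain ⟨B, hB⟩ : ∃ B : Matrix (Fin n) (Fin n) ↥(integralClosure O K), ∀ j i,
      ((B j i : ↥(integralClosure O K)) : K) =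
        ((φ.symm ⟨Pi.single i 1, hN1 (he i)⟩ : ↥M) : Fin n → K) j :=
    ⟨Matrix.of fun j i => ⟨((φ.symm ⟨Pi.single i 1, hN1 (he i)⟩ : ↥M) : Fin n → K) j,
      hM2 (φ.symm ⟨Pi.single i 1, hN1 (he i)⟩).2 j (Set.mem_univ j)⟩, fun j i => rfl⟩
  have hAx : ∀ (x : ↥M) (j : Fin n), ((φ x : ↥N) : Fin n → K) j =
      ∑ i, ((A j i : ↥(integralClosure O K)) : K) * (x : Fin n → K) i := by
    intro x j
    refine (lin_eq M N (φ : ↥M →ₗ[O] ↥N) (fun i => hM1 (he i)) x j).trans ?_
    refine Finset.sum_congr rfl (fun i _ => ?_)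
    rw [hA]; rfl
  have hAB : A * B = 1 := by
    apply Matrix.ext
    intro j l
    apply Subtype.ext
    rw [Matrix.mul_apply]
    have h := hAx (φ.symm ⟨Pi.single l 1, hN1 (he l)⟩) j
    rw [φ.apply_symm_apply] at h
    have h2 : (((∑ i, A j i * B i l : ↥(integralClosure O K))) : K) =
        ∑ i, ((A j i : ↥(integralClosure O K)) : K) *
          ((φ.symm ⟨Pi.single l 1, hN1 (he l)⟩ : ↥M) : Fin n → K) i := by
      push_cast
      refine Finset.sum_congr rfl (fun i _ => ?_)
      rw [hB]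
    rw [h2, ← h]
    show (Pi.single l (1 : K) : Fin n → K) j =
      (((1 : Matrix (Fin n) (Fin n) ↥(integralClosure O K)) j l : ↥(integralClosure O K)) : K)
    rw [Pi.single_apply, Matrix.one_apply]
    split_ifs <;> rfl
  have hBA : B * A = 1 := mul_eq_one_comm.mp hAB
  refine ⟨A, ⟨⟨A, B, hAB, hBA⟩, rfl⟩, fun x => ?_⟩
  funext j
  rw [hAx x j]
  show _ = ∑ i, (A.map (algebraMap ↥(integralClosure O K) K)) j i * (x : Fin n → K) i
  rfl

end Groth.Agent.S15010
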