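import Groth.Statements.S15013
-- import your own Groth.Agent.* helpers here
import Mathlib
import Groth.Agent.Lib.Helper22.TFCurv5
import Groth.Agent.Lib.Helper4.LC3

set_option autoImplicit false
universe u
open CategoryTheory
open TFCurv

namespace Groth.Agent.S15013

/-- Let O be a one-dimensional Noetherian local domain with algebraically closed residue field whose
integral closure O~ in its fraction field K is a finite O-module, and let w be a canonical ideal of
O, taken here as a nonzero finitely generated O-submodule of K whose injective dimension as an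
O-module is at most one. Then Ext^i_O(M, w) vanishes for all i ≥ 1 and every finitely generated
torsion-free O-module M. -/
theorem result (O : Type u) [CommRing O] [IsDomain O] [IsNoetherianRing O] [IsLocalRing O] (hdim : ringKrullDim O = 1) [IsAlgClosed (IsLocalRing.ResidueField O)] (K : Type u) [Field K] [Algebra O K] [IsFractionRing O K] (hfin : Module.Finite O ↥(integralClosure O K)) (ω : Submodule O K) (hω0 : ω ≠ ⊥) (hωfg : ω.FG) (hωinj : HasInjectiveDimensionLT (ModuleCat.of O ↥ω) 2) (M : Type u) [AddCommGroup M] [Module O M] [Module.Finite O M] [NoZeroSMulDivisors O M] (i : ℕ) (hi : 1 ≤ i) : Subsingleton (Abelian.Ext (ModuleCat.of O M) (ModuleCat.of O ↥ω) i) := by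
  haveI := hωinj
  rcases Nat.lt_or_ge i 2 with h | h
  · have hi1 : i = 1 := by omega
    subst hi1
    obtain ⟨n, f, hf⟩ := Groth.Agent.Lib.Helper22.TFCurv5.exists_injective_to_free O M
    have hex : Function.Exact f (LinearMap.range f).mkQ := by
      rw [LinearMap.exact_iff, Submodule.ker_mkQ]
    have hT := Groth.Agent.Lib.Helper4.LC.sesOf_shortExact f (LinearMap.range f).mkQ hex hf
      (Submodule.mkQ_surjective _)
    refine subsingleton_of_forall_eq 0 (fun x => ?_)
    have h2 : Subsingleton (Abelian.Ext
        (Groth.Agent.Lib.Helper4.LC.sesOf f (LinearMap.range f).mkQ hex).X₃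
        (ModuleCat.of O ↥ω) 2) :=
      HasInjectiveDimensionLT.subsingleton _ 2 2 le_rfl _
    haveI hproj : Projective (ModuleCat.of O (Fin n → O)) :=
      (IsProjective.iff_projective (R := O) (Fin n → O)).1 inferInstance
    obtain ⟨w, hw⟩ := Abelian.Ext.contravariant_sequence_exact₁ hT (ModuleCat.of O ↥ω) x
      (show 1 + 1 = 2 from rfl) (@Subsingleton.elim _ h2 _ _)
    rw [← hw, Abelian.Ext.eq_zero_of_projective w, Abelian.Ext.comp_zero]
  · exact HasInjectiveDimensionLT.subsingleton _ 2 i h _

end Groth.Agent.S15013
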