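import Groth.Statements.S15015
-- import your own Groth.Agent.* helpers here
import Mathlib
import Groth.Agent.Lib.Helper22.PSAlg

set_option autoImplicit false
universe u
open TFCurv

namespace Groth.Agent.S15015

/-- Let k be an algebraically closed field and A ≠ k[[t]] a k-subalgebra of k[[t]] that is closed in the
t-adic topology, over which k[[t]] is a finite module, and such that every power series is carried
into A by multiplication with some nonzero element of A (so k[[t]] lies in the fraction field of A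
and is its normalisation, as for the complete local ring of a unibranch curve singularity), and let
Γ ⊆ ℕ be the set of t-orders of the nonzero elements of A (its value semigroup). Then ℕ ∖ Γ is
finite and the k-dimension of k[[t]]/A equals the number of gaps of Γ. -/
theorem result (k : Type u) [Field k] [IsAlgClosed k] (A : Subalgebra k (PowerSeries k)) (hA : Module.Finite ↥A (PowerSeries k)) (hcl : ∀ f : PowerSeries k, (∀ n : ℕ, ∃ g ∈ A, (n : ℕ∞) ≤ PowerSeries.order (f - g)) → f ∈ A) (hsing : A ≠ ⊤) (hbir : ∀ f : PowerSeries k, ∃ a ∈ A, a ≠ 0 ∧ a * f ∈ A) (Γ : Set ℕ) (hΓ : ∀ n : ℕ, n ∈ Γ ↔ ∃ f ∈ A, PowerSeries.order f = n) : Γᶜ.Finite ∧ Module.finrank k (PowerSeries k ⧸ Subalgebra.toSubmodule A) = Γᶜ.ncard := by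
  classical
  -- Step 1: a common denominator
  have hden : ∃ a₀ ∈ A, a₀ ≠ 0 ∧ ∀ f : PowerSeries k, a₀ * f ∈ A := by
    obtain ⟨T, hT⟩ := hA.fg_top
    choose d hdA hd0 hdf using hbir
    refine ⟨∏ h ∈ T, d h, Subalgebra.prod_mem _ (fun h _ => hdA h),
      Finset.prod_ne_zero_iff.mpr (fun h _ => hd0 h), ?_⟩
    intro f
    have hf : f ∈ Submodule.span ↥A (T : Set (PowerSeries k)) := by rw [hT]; trivial
    induction hf using Submodule.span_induction with
    | mem x hx =>
      rw [← Finset.mul_prod_erase T d hx, mul_assoc, mul_comm (∏ h ∈ T.erase x, d h) x,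
        ← mul_assoc]
      exact A.mul_mem (hdf x) (Subalgebra.prod_mem _ (fun h _ => hdA h))
    | zero => rw [mul_zero]; exact A.zero_mem
    | add x y _ _ hx hy => rw [mul_add]; exact A.add_mem hx hy
    | smul b x _ hx =>
      have : (∏ h ∈ T, d h) * (b • x) = (b : PowerSeries k) * ((∏ h ∈ T, d h) * x) := by
        rw [Subalgebra.smul_def]; ring
      rw [this]
      exact A.mul_mem b.2 hx
  obtain ⟨a₀, ha₀A, ha₀0, ha₀⟩ := hden
  obtain ⟨c, hcm⟩ : ∃ m : ℕ, PowerSeries.order a₀ = m :=
    ⟨_, (PowerSeries.coe_toNat_order ha₀0).symm⟩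
  have hc : ∀ n, c ≤ n → n ∈ Γ := by
    intro n hn
    rw [hΓ]
    refine ⟨a₀ * PowerSeries.X ^ (n - c), ha₀ _, ?_⟩
    rw [PowerSeries.order_mul, PowerSeries.order_X_pow, hcm]
    norm_cast; omega
  have hfin : Γᶜ.Finite := by
    apply (Set.finite_lt_nat c).subset
    intro n hn
    by_contra h
    exact hn (hc n (by simpa using h))
  refine ⟨hfin, ?_⟩
  letI : Fintype ↥(Γᶜ) := hfin.fintype
  -- the map
  let v : ↥(Γᶜ) → PowerSeries k := fun g => PowerSeries.X ^ (g : ℕ)
  let ψ : (↥(Γᶜ) → k) →ₗ[k] PowerSeries k := Fintype.linearCombination k v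
  have hψ : ∀ l : ↥(Γᶜ) → k, ψ l = ∑ g, l g • v g := fun l => Fintype.linearCombination_apply k v l
  have hcoeff : ∀ (l : ↥(Γᶜ) → k) (n : ℕ),
      PowerSeries.coeff n (ψ l) = if h : n ∈ Γᶜ then l ⟨n, h⟩ else 0 := by
    intro l n
    rw [hψ, map_sum]
    simp only [v, PowerSeries.coeff_smul, PowerSeries.coeff_X_pow, smul_eq_mul, mul_ite, mul_one,
      mul_zero]
    split_ifs with h
    · rw [Finset.sum_eq_single ⟨n, h⟩]
      · simp
      · intro b _ hb
        rw [if_neg]
        intro h2; apply hb; exact Subtype.ext h2.symm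
      · intro h2; exact absurd (Finset.mem_univ _) h2
    · apply Finset.sum_eq_zero
      intro b _
      rw [if_neg]
      intro h2; apply h; rw [h2]; exact b.2
  let φ : (↥(Γᶜ) → k) →ₗ[k] (PowerSeries k ⧸ Subalgebra.toSubmodule A) :=
    (Subalgebra.toSubmodule A).mkQ ∘ₗ ψ
  have hinj : Function.Injective φ := by
    rw [← LinearMap.ker_eq_bot, eq_bot_iff]
    intro l hl
    rw [LinearMap.mem_ker, LinearMap.comp_apply, Submodule.mkQ_apply,
      Submodule.Quotient.mk_eq_zero] at hl
    have hmem : ψ l ∈ A := hl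
    rw [Submodule.mem_bot]
    by_contra hne
    have hψ0 : ψ l ≠ 0 := by
      intro h0
      apply hne
      funext g
      have := hcoeff l g
      rw [h0, map_zero, dif_pos g.2] at this
      exact this.symm
    have h1 := PowerSeries.coeff_order hψ0
    rw [hcoeff] at h1
    split_ifs at h1 with h2
    · apply h2
      rw [hΓ]
      exact ⟨ψ l, hmem, (PowerSeries.coe_toNat_order hψ0).symm⟩
    · exact h1 rfl
  have hsurj : Function.Surjective φ := by
    intro q
    obtain ⟨h, rfl⟩ := Submodule.Quotient.mk_surjective _ q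
    let W : Submodule k (PowerSeries k) := Subalgebra.toSubmodule A ⊔ LinearMap.range ψ
    have hWord : ∀ n : ℕ, ∃ a ∈ W, PowerSeries.order a = n := by
      intro n
      by_cases hn : n ∈ Γ
      · obtain ⟨a, ha, han⟩ := (hΓ n).mp hn
        exact ⟨a, Submodule.mem_sup_left ha, han⟩
      · refine ⟨PowerSeries.X ^ n, Submodule.mem_sup_right ⟨Pi.single ⟨n, hn⟩ 1, ?_⟩,
          PowerSeries.order_X_pow n⟩
        rw [hψ, Finset.sum_eq_single ⟨n, hn⟩]
        · simp [v]
        · intro b _ hb; rw [Pi.single_eq_of_ne hb, zero_smul]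
        · intro h2; exact absurd (Finset.mem_univ _) h2
    have happrox : ∀ n : ℕ, ∃ w ∈ W, (n : ℕ∞) ≤ PowerSeries.order (h - w) := by
      intro n
      induction n with
      | zero => exact ⟨0, W.zero_mem, by simp⟩
      | succ n ih =>
        obtain ⟨w, hw, hwn⟩ := ih
        obtain ⟨a, ha, han⟩ := hWord n
        exact Groth.Agent.Lib.Helper22.PSAlg.approx_step W h w a hw ha n han hwn
    obtain ⟨w, hw, hwc⟩ := happrox c
    have hrest : h - w ∈ Subalgebra.toSubmodule A :=
      Groth.Agent.Lib.Helper22.PSAlg.mem_of_le_order (Subalgebra.toSubmodule A)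
        (fun f hf => hcl f hf) c
        (fun n hn => by
          obtain ⟨a, ha, han⟩ := (hΓ n).mp (hc n hn)
          exact ⟨a, ha, han⟩) (h - w) hwc
    obtain ⟨a, ha, y, ⟨l, rfl⟩, hay⟩ := Submodule.mem_sup.mp hw
    refine ⟨l, ?_⟩
    rw [LinearMap.comp_apply, Submodule.mkQ_apply, Submodule.Quotient.eq]
    have : ψ l - h = -((h - w) + a) := by rw [← hay]; ring
    rw [this]
    exact Submodule.neg_mem _ (Submodule.add_mem _ hrest ha)
  have e : (↥(Γᶜ) → k) ≃ₗ[k] (PowerSeries k ⧸ Subalgebra.toSubmodule A) :=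
    LinearEquiv.ofBijective φ ⟨hinj, hsurj⟩
  rw [← e.finrank_eq, Module.finrank_fintype_fun_eq_card, ← Nat.card_eq_fintype_card]
  rfl

end Groth.Agent.S15015
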