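import Groth.Statements.S15017
-- import your own Groth.Agent.* helpers here
import Mathlib

set_option autoImplicit false
open TFCurv

namespace Groth.Agent.S15017

/-- Let Γ be a numerical semigroup (a submonoid of (ℕ, +) with finite complement), Γ ≠ ℕ, with conductor
c (every n ≥ c lies in Γ, c − 1 does not). If Γ is symmetric (for x < c, x is a gap exactly when c −
1 − x ∈ Γ) and has multiplicity greater than 2 (neither 1 nor 2 lies in Γ), then Γ is generated by
its elements smaller than c: every minimal generator of Γ is less than the conductor. -/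
theorem result (Γ : AddSubmonoid ℕ) (c : ℕ) (hc : ∀ n : ℕ, c ≤ n → n ∈ Γ) (hc0 : c ≠ 0) (hc1 : c - 1 ∉ Γ) (hsymm : ∀ x : ℕ, x < c → (x ∉ Γ ↔ c - 1 - x ∈ Γ)) (he : (1 : ℕ) ∉ Γ ∧ (2 : ℕ) ∉ Γ) : AddSubmonoid.closure {γ : ℕ | γ ∈ Γ ∧ γ < c} = Γ := by
  classical
  have hcΓ : c ∈ Γ := hc c le_rfl
  have hex : ∃ γ, γ ∈ Γ ∧ γ ≠ 0 := ⟨c, hcΓ, hc0⟩
  set e := Nat.find hex with he_def
  have heΓ : e ∈ Γ := (Nat.find_spec hex).1
  have he0 : e ≠ 0 := (Nat.find_spec hex).2
  have hemin : ∀ γ, γ ∈ Γ → γ ≠ 0 → e ≤ γ := fun γ h1 h2 => Nat.find_min' hex ⟨h1, h2⟩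
  have he3 : 3 ≤ e := by
    rcases Nat.lt_or_ge e 3 with h | h
    · exfalso
      interval_cases e
      · exact he0 rfl
      · exact he.1 heΓ
      · exact he.2 heΓ
    · exact h
  have hec : e < c := by
    have hle : e ≤ c := hemin c hcΓ hc0
    rcases Nat.lt_or_ge e c with h | h
    · exact h
    · exfalso
      have hec' : e = c := le_antisymm hle h
      have h1c : 1 < c := by omega
      have h2 : c - 1 - 1 ∈ Γ := (hsymm 1 h1c).mp he.1
      by_cases h3 : c - 1 - 1 = 0
      · omega
      · have := hemin _ h2 h3; omega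
  have hmul : ∀ k : ℕ, k * e ∈ Γ := fun k => by
    have := Γ.nsmul_mem heΓ k
    rwa [smul_eq_mul] at this
  -- w : smallest element of Γ not a multiple of e
  have hexw : ∃ γ, γ ∈ Γ ∧ ¬ e ∣ γ := by
    by_cases h : e ∣ c
    · refine ⟨c + 1, hc _ (by omega), ?_⟩
      intro h2
      have : e ∣ 1 := (Nat.dvd_add_right h).mp h2
      have := Nat.le_of_dvd one_pos this
      omega
    · exact ⟨c, hcΓ, h⟩
  set w := Nat.find hexw with hw_def
  have hwΓ : w ∈ Γ := (Nat.find_spec hexw).1
  have hwe : ¬ e ∣ w := (Nat.find_spec hexw).2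
  have hwmin : ∀ γ, γ ∈ Γ → ¬ e ∣ γ → w ≤ γ := fun γ h1 h2 => Nat.find_min' hexw ⟨h1, h2⟩
  have hwc : w ≤ c + 1 := by
    by_cases h : e ∣ c
    · apply hwmin (c + 1) (hc _ (by omega))
      intro h2
      have : e ∣ 1 := (Nat.dvd_add_right h).mp h2
      have := Nat.le_of_dvd one_pos this
      omega
    · exact le_trans (hwmin c hcΓ h) (Nat.le_succ _)
  have hw0 : w ≠ 0 := by rintro h; rw [h] at hwe; exact hwe (dvd_zero _)
  have hwe' : e < w := by
    have := hemin w hwΓ hw0
    rcases Nat.lt_or_ge e w with h | h
    · exact h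
    · exfalso; have : w = e := le_antisymm h this
      rw [this] at hwe; exact hwe dvd_rfl
  have hwsub : w - e ∉ Γ := by
    intro h
    have h2 : ¬ e ∣ w - e := by
      intro h3
      apply hwe
      have := (Nat.dvd_add_right (dvd_refl e)).mpr h3
      have h4 : e + (w - e) = w := by omega
      rwa [h4] at this
    have := hwmin _ h h2
    omega
  apply le_antisymm
  · rw [AddSubmonoid.closure_le]
    rintro γ ⟨hγ, _⟩
    exact hγ
  · intro n hn
    induction n using Nat.strong_induction_on with
    | _ n ih =>
      rcases Nat.lt_or_ge n c with hnc | hnc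
      · exact AddSubmonoid.subset_closure ⟨hn, hnc⟩
      · have heC : e ∈ AddSubmonoid.closure {γ : ℕ | γ ∈ Γ ∧ γ < c} :=
          AddSubmonoid.subset_closure ⟨heΓ, hec⟩
        by_cases hne : n - e ∈ Γ
        · have := ih (n - e) (by omega) hne
          have h2 := AddSubmonoid.add_mem _ this heC
          have h3 : n - e + e = n := by omega
          rwa [h3] at h2
        · -- n - e is a gap; so n = c - 1 + e
          have hg : n - e < c := by
            by_contra h
            exact hne (hc _ (by omega))
          have h1 : c - 1 - (n - e) ∈ Γ := (hsymm _ hg).mp hne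
          have h2 : c - 1 - (n - e) = 0 := by
            by_contra h3
            have := hemin _ h1 h3
            omega
          have hn_eq : n = c - 1 + e := by omega
          -- n - w ∈ Γ
          have hnw : n - w ∈ Γ := by
            by_contra h3
            have hlt : n - w < c := by
              by_contra h4
              exact h3 (hc _ (by omega))
            have h5 : c - 1 - (n - w) ∈ Γ := (hsymm _ hlt).mp h3
            have h6 : c - 1 - (n - w) = w - e := by omega
            rw [h6] at h5
            exact hwsub h5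
          have hA := ih w (by omega) hwΓ
          have hB := ih (n - w) (by omega) hnw
          have h7 := AddSubmonoid.add_mem _ hA hB
          have h8 : w + (n - w) = n := by omega
          rwa [h8] at h7

end Groth.Agent.S15017
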