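import Groth.Statements.S15018
-- import your own Groth.Agent.* helpers here
import Mathlib

set_option autoImplicit false
open TFCurv

namespace Groth.Agent.S15018

/-- Let Γ be a numerical semigroup (a submonoid of (ℕ, +) with finite complement), Γ ≠ ℕ, with conductor
c (every n ≥ c lies in Γ, c − 1 does not). Then Γ is symmetric (for x < c, x is a gap exactly when c
− 1 − x ∈ Γ) if and only if there is exactly one gap n of Γ such that Γ ∪ {n} is again stable under
adding elements of Γ, i.e. n + γ ∈ Γ for every nonzero γ ∈ Γ. -/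
theorem result (Γ : AddSubmonoid ℕ) (c : ℕ) (hc : ∀ n : ℕ, c ≤ n → n ∈ Γ) (hc0 : c ≠ 0) (hc1 : c - 1 ∉ Γ) : (∀ x : ℕ, x < c → (x ∉ Γ ↔ c - 1 - x ∈ Γ)) ↔ ∃! n : ℕ, n ∉ Γ ∧ ∀ γ : ℕ, γ ∈ Γ → γ ≠ 0 → n + γ ∈ Γ := by
  have hFgap : ∀ γ : ℕ, γ ∈ Γ → γ ≠ 0 → c - 1 + γ ∈ Γ := fun γ hγ hγ0 => hc _ (by omega)
  constructor
  · intro hsymm
    refine ⟨c - 1, ⟨hc1, hFgap⟩, ?_⟩
    rintro n ⟨hn, hnΓ⟩
    have hnc : n < c := by
      by_contra h
      exact hn (hc n (by omega))
    have h1 : c - 1 - n ∈ Γ := (hsymm n hnc).mp hn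
    by_contra hne
    have h2 := hnΓ (c - 1 - n) h1 (by omega)
    have : n + (c - 1 - n) = c - 1 := by omega
    rw [this] at h2
    exact hc1 h2
  · rintro ⟨n₀, ⟨hn₀, hn₀Γ⟩, huniq⟩
    have hn₀' : n₀ = c - 1 := (huniq (c - 1) ⟨hc1, hFgap⟩).symm
    -- downward induction
    have key : ∀ k x : ℕ, c - x ≤ k → x < c → x ∉ Γ → c - 1 - x ∈ Γ := by
      intro k
      induction k with
      | zero => intro x hk hx; omega
      | succ k ih =>
        intro x hk hx hxΓ
        by_cases hPF : ∀ γ : ℕ, γ ∈ Γ → γ ≠ 0 → x + γ ∈ Γ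
        · have : x = n₀ := huniq x ⟨hxΓ, hPF⟩
          rw [this, hn₀', Nat.sub_self]
          exact Γ.zero_mem
        · push Not at hPF
          obtain ⟨γ, hγ, hγ0, hxγ⟩ := hPF
          have hlt : x + γ < c := by
            by_contra h
            exact hxγ (hc _ (by omega))
          have := ih (x + γ) (by omega) hlt hxγ
          have h2 := Γ.add_mem this hγ
          have : c - 1 - (x + γ) + γ = c - 1 - x := by omega
          rwa [this] at h2
    intro x hx
    constructor
    · exact key (c - x) x le_rfl hx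
    · intro h1 h2
      have := Γ.add_mem h2 h1
      have h3 : x + (c - 1 - x) = c - 1 := by omega
      rw [h3] at this
      exact hc1 this

end Groth.Agent.S15018
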