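import Groth.Statements.S15019
-- import your own Groth.Agent.* helpers here
import Mathlib

set_option autoImplicit false
open TFCurv

namespace Groth.Agent.S15019

/-- Let Γ be a numerical semigroup (a submonoid of (ℕ, +) with finite complement), Γ ≠ ℕ, with conductor
c (every n ≥ c lies in Γ, c − 1 does not), let e be its multiplicity (the least nonzero element of
Γ), and let S ⊆ ℕ be a Γ-module in normal form: 0 ∈ S and γ + s ∈ S for all γ ∈ Γ, s ∈ S. Then the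
set of gaps n of S with S ∪ {n} again a Γ-module (n + γ ∈ S for every nonzero γ ∈ Γ) has at most e −
1 elements, and so does the set of nonzero s ∈ S with S ∖ {s} again a Γ-module (s − γ ∉ S for every
nonzero γ ∈ Γ with γ ≤ s). -/
theorem result (Γ : AddSubmonoid ℕ) (c : ℕ) (hc : ∀ n : ℕ, c ≤ n → n ∈ Γ) (hc0 : c ≠ 0) (hc1 : c - 1 ∉ Γ) (e : ℕ) (he : e ∈ Γ) (he0 : e ≠ 0) (hemin : ∀ γ : ℕ, γ ∈ Γ → γ ≠ 0 → e ≤ γ) (S : Set ℕ) (hS0 : (0 : ℕ) ∈ S) (hS : ∀ γ : ℕ, γ ∈ Γ → ∀ s : ℕ, s ∈ S → γ + s ∈ S) : {n : ℕ | n ∉ S ∧ ∀ γ : ℕ, γ ∈ Γ → γ ≠ 0 → n + γ ∈ S}.encard ≤ ((e - 1 : ℕ) : ℕ∞) ∧ {s : ℕ | s ∈ S ∧ s ≠ 0 ∧ ∀ γ : ℕ, γ ∈ Γ → γ ≠ 0 → γ ≤ s → s - γ ∉ S}.encard ≤ ((e - 1 : ℕ) : ℕ∞) := by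
  have he_pos : 0 < e := Nat.pos_of_ne_zero he0
  have hmul : ∀ k : ℕ, k * e ∈ Γ := fun k => by
    have := Γ.nsmul_mem he k
    rwa [smul_eq_mul] at this
  have hIoo : (Set.Ioo 0 e).encard = ((e - 1 : ℕ) : ℕ∞) := by
    rw [← Finset.coe_Ioo, Set.encard_coe_eq_coe_finsetCard, Nat.card_Ioo]
    simp
  constructor
  · rw [← hIoo]
    have hle : ∀ n n' : ℕ, n ∈ {n : ℕ | n ∉ S ∧ ∀ γ : ℕ, γ ∈ Γ → γ ≠ 0 → n + γ ∈ S} →
        n' ∈ {n : ℕ | n ∉ S ∧ ∀ γ : ℕ, γ ∈ Γ → γ ≠ 0 → n + γ ∈ S} → n % e = n' % e → n ≤ n' →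
        n = n' := by
      rintro n n' ⟨hn, hnΓ⟩ ⟨hn', _⟩ hmod hle
      by_contra hne
      have hlt : n < n' := lt_of_le_of_ne hle hne
      have hdiv : e ∣ n' - n := (Nat.modEq_iff_dvd' hle).mp hmod
      obtain ⟨k, hk⟩ := hdiv
      have hk0 : k ≠ 0 := by rintro rfl; omega
      have := hnΓ (k * e) (hmul k) (Nat.mul_ne_zero hk0 he0)
      have h2 : n + k * e = n' := by rw [mul_comm]; omega
      rw [h2] at this
      exact hn' this
    apply Set.encard_le_encard_of_injOn (f := fun n => n % e)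
    · rintro n ⟨hn, hnΓ⟩
      refine ⟨?_, Nat.mod_lt _ he_pos⟩
      by_contra h0
      have h0' : n % e = 0 := by
        simp only at h0; omega
      have := hS ((n / e) * e) (hmul _) 0 hS0
      have h2 : n / e * e + 0 = n := by
        have := Nat.div_add_mod n e
        rw [h0', mul_comm] at this; omega
      rw [h2] at this
      exact hn this
    · intro n hn n' hn' hmod
      simp only at hmod
      rcases le_total n n' with h | h
      · exact hle n n' hn hn' hmod h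
      · exact (hle n' n hn' hn hmod.symm h).symm
  · rw [← hIoo]
    have hle : ∀ s s' : ℕ,
        s ∈ {s : ℕ | s ∈ S ∧ s ≠ 0 ∧ ∀ γ : ℕ, γ ∈ Γ → γ ≠ 0 → γ ≤ s → s - γ ∉ S} →
        s' ∈ {s : ℕ | s ∈ S ∧ s ≠ 0 ∧ ∀ γ : ℕ, γ ∈ Γ → γ ≠ 0 → γ ≤ s → s - γ ∉ S} →
        s % e = s' % e → s ≤ s' → s = s' := by
      rintro s s' ⟨hs, _, _⟩ ⟨_, _, hs'Γ⟩ hmod hle
      by_contra hne
      have hlt : s < s' := lt_of_le_of_ne hle hne
      have hdiv : e ∣ s' - s := (Nat.modEq_iff_dvd' hle).mp hmod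
      obtain ⟨k, hk⟩ := hdiv
      have hk0 : k ≠ 0 := by rintro rfl; omega
      have hke : k * e = s' - s := by rw [mul_comm]; exact hk.symm
      have := hs'Γ (k * e) (hmul k) (Nat.mul_ne_zero hk0 he0) (by omega)
      have h2 : s' - k * e = s := by omega
      rw [h2] at this
      exact this hs
    apply Set.encard_le_encard_of_injOn (f := fun n => n % e)
    · rintro s ⟨hs, hs0, hsΓ⟩
      refine ⟨?_, Nat.mod_lt _ he_pos⟩
      by_contra h0
      have h0' : s % e = 0 := by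
        simp only at h0; omega
      have h2 : s / e * e = s := by
        have := Nat.div_add_mod s e
        rw [h0', mul_comm] at this; omega
      have := hsΓ (s / e * e) (hmul _) (by rw [h2]; exact hs0) (by rw [h2])
      rw [h2, Nat.sub_self] at this
      exact this hS0
    · intro s hs s' hs' hmod
      simp only at hmod
      rcases le_total s s' with h | h
      · exact hle s s' hs hs' hmod h
      · exact (hle s' s hs' hs hmod.symm h).symm

end Groth.Agent.S15019
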