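import Groth.Statements.S15028
-- import your own Groth.Agent.* helpers here
import Groth.Agent.Lib.Helper23.Twist

set_option autoImplicit false
universe u
open CategoryTheory CategoryTheory.Limits AlgebraicGeometry
open TFCurv

namespace Groth.Agent.S15028

open Groth.Agent.Lib.Helper23.Twist Groth.Agent.Lib.Helper23.Sat Groth.Agent.Lib.Helper23.Curve
open Groth.Agent.Lib.Helper23.T2 Groth.Agent.Lib.Helper3.FreeBasis Groth.Agent.Lib.Helper3.QCSec
open Groth.Agent.Lib.Helper3.InvGen Groth.Agent.Lib.Helper3

/-- Let X be an integral proper curve (integral, proper, of dimension one) over an algebraically closed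
field k, and let f : E → F be a monomorphism of coherent torsion-free O_X-modules which is
generically an isomorphism (the stalk of its cokernel at the generic point vanishes), with E of rank
n at the generic point. Then deg E ≤ deg F, degrees being taken as modules of rank n (Euler
characteristic minus n times that of O_X), and equality holds if and only if f is an isomorphism.
(The published statement covers in the same words bundles with parabolic structure and a weight α <
1; only the case without parabolic structure is stated here.) -/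
theorem result (k : Type u) [Field k] [IsAlgClosed k] (X : Scheme.{u}) [X.Over (Spec (CommRingCat.of k))] [IsIntegral X] [IsProper (X ↘ Spec (CommRingCat.of k))] (hdim : topologicalKrullDim X = 1) (E F : X.Modules) (hEc : Coh.IsCoh E) (hFc : Coh.IsCoh F) (hEt : TorSh.IsTorsionFree E) (hFt : TorSh.IsTorsionFree F) (n : ℕ) (hn : Module.finrank (X.presheaf.stalk (genericPoint X)) (E.presheaf.stalk (genericPoint X)) = n) (f : E ⟶ F) [Mono f] (hgen : Subsingleton ((cokernel f).presheaf.stalk (genericPoint X))) : Curv2.deg k X E n ≤ Curv2.deg k X F n ∧ (Curv2.deg k X E n = Curv2.deg k X F n ↔ IsIso f) := by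
  classical
  haveI := isNoetherian_of_isProper k X
  have hd1 : topologicalKrullDim X ≤ 1 := hdim.le
  have hQc : Coh.IsCoh (cokernel f) := (Groth.Agent.S9514.result X hEc hFc f).2
  obtain ⟨V, s, e, hVne, hb⟩ := exists_isBasis_generic hQc
  have hηV : genericPoint X ∈ V := by
    obtain ⟨x, hx⟩ := hVne
    exact ((genericPoint_spec X).specializes (Set.mem_univ x)).mem_open V.2 hx
  -- the basis is empty
  have hs : s = 0 := by
    by_contra hs0
    have hpos : 0 < s := Nat.pos_of_ne_zero hs0
    have hg : TopCat.Presheaf.germ (cokernel f).presheaf V (genericPoint X) hηV (e ⟨0, hpos⟩) =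
        TopCat.Presheaf.germ (cokernel f).presheaf V (genericPoint X) hηV 0 :=
      Subsingleton.elim _ _
    obtain ⟨W, hxW, iU, iV, hW⟩ := TopCat.Presheaf.germ_eq (cokernel f).presheaf
      (genericPoint X) hηV hηV (e ⟨0, hpos⟩) 0 hg
    have h0 : (cokernel f).presheaf.map iV.op (0 : Γ(cokernel f, V)) = 0 := map_zero _
    rw [h0] at hW
    have hWV : W ≤ V := leOfHom iU
    have hres : res (cokernel f) hWV (e ⟨0, hpos⟩) = 0 := hW
    have hbW := (hb W hWV).1
    have h1 : (fun a : Fin s → Γ(X, W) => ∑ i, a i • res (cokernel f) hWV (e i))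
        (fun i => if i = ⟨0, hpos⟩ then 1 else 0) =
        (fun a : Fin s → Γ(X, W) => ∑ i, a i • res (cokernel f) hWV (e i)) 0 := by
      simp only [Pi.zero_apply, zero_smul, Finset.sum_const_zero]
      rw [Finset.sum_eq_single (⟨0, hpos⟩ : Fin s)]
      · simp [hres]
      · intro j _ hj; simp [hj]
      · intro h; exact absurd (Finset.mem_univ _) h
    have h2 := congrFun (hbW h1) ⟨0, hpos⟩
    simp only [if_true, Pi.zero_apply] at h2
    -- `1 = 0` in `Γ(X, W)` with `W` nonempty
    haveI : Nonempty W := ⟨⟨genericPoint X, hxW⟩⟩
    haveI : Nontrivial Γ(X, W) := by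
      have : Nonempty ((W : X.Opens) : Scheme.{u}) := ‹Nonempty W›
      exact (inferInstance : Nontrivial Γ(X, W))
    exact one_ne_zero h2
  subst hs
  have hvan : VanishesOn (cokernel f) V := by
    intro V' hV' t
    obtain ⟨a, ha⟩ := (hb V' hV').2 t
    rw [← ha]
    simp
  have hfl : IsFlq (cokernel f) := isFlq_of_vanishesOn k X hd1 (cokernel f) V hVne hvan
  have hadd := euler_cokernel k f hEc hFc
  have hnn := euler_nonneg_of_isFlq k X (cokernel f) hQc hfl
  have hdiff : Curv2.deg k X F n = Curv2.deg k X E n + Curv2.euler k X (cokernel f) := by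
    unfold Curv2.deg; linarith
  refine ⟨by linarith, ⟨fun heq => ?_, fun hiso => ?_⟩⟩
  · have h0 : Curv2.euler k X (cokernel f) = 0 := by linarith
    have hz := isZero_of_isFlq_of_euler_eq_zero k X (cokernel f) hQc hfl h0
    haveI : Epi f := Preadditive.epi_of_isZero_cokernel f hz
    exact isIso_of_mono_of_epi f
  · haveI := hiso
    have h1 := euler_eq_of_iso k (asIso f) hEc
    unfold Curv2.deg
    have h2 : Curv2.euler k X E = Curv2.euler k X F := h1
    linarith

end Groth.Agent.S15028
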