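import Groth.Statements.S1503
import Groth.Agent.Lib.Helper18.DRNoeth

set_option autoImplicit false
universe u
attribute [local instance] HasDerivedCategory.standard
open FlatMor

namespace Groth.Agent.S1503

open AlgebraicGeometry CategoryTheory Limits in
/-- Let f : X → S with S locally Noetherian. Then f is pseudo-coherent (affine-locally: pseudo-coherent
ring maps) if and only if f is locally of finite type. -/
theorem result {X S : Scheme.{u}} (f : X ⟶ S) [IsLocallyNoetherian S] :
    MoreMor.IsPseudoCoherentMor f ↔ LocallyOfFiniteType f := by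
  constructor
  · intro h
    rw [AlgebraicGeometry.HasRingHomProperty.iff_appLE (P := @AlgebraicGeometry.LocallyOfFiniteType)]
    intro U V e
    obtain ⟨n, φ, hφ, -⟩ := h V.1 U.1 V.2 U.2 e
    letI := (f.appLE U.1 V.1 e).hom.toAlgebra
    have h1 : Algebra.FiniteType Γ(S, U.1) Γ(X, V.1) :=
      Algebra.FiniteType.of_surjective φ hφ
    exact h1
  · intro h U V hU hV hUV
    letI := (f.appLE V U hUV).hom.toAlgebra
    have hft : RingHom.FiniteType (f.appLE V U hUV).hom :=
      AlgebraicGeometry.HasRingHomProperty.appLE (P := @AlgebraicGeometry.LocallyOfFiniteType) f h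
        ⟨V, hV⟩ ⟨U, hU⟩ hUV
    have hft' : Algebra.FiniteType Γ(S, V) Γ(X, U) := hft
    obtain ⟨n, φ, hφ⟩ := Algebra.FiniteType.iff_quotient_mvPolynomial''.mp hft'
    refine ⟨n, φ, hφ, ?_⟩
    letI := φ.toRingHom.toAlgebra
    haveI : IsNoetherianRing Γ(S, V) :=
      AlgebraicGeometry.IsLocallyNoetherian.component_noetherian ⟨V, hV⟩
    haveI : Module.Finite (MvPolynomial (Fin n) Γ(S, V)) Γ(X, U) :=
      Module.Finite.of_surjective (Algebra.linearMap (MvPolynomial (Fin n) Γ(S, V)) Γ(X, U)) hφ
    exact Groth.Agent.Lib.Helper18.DR.isPseudoCoherentModule'_of_finite_noetherian _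

end Groth.Agent.S1503
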