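import Groth.Statements.S15034
import Groth.Agent.Lib.Helper27.PSClosed
open Groth.Agent.Lib.Helper27

set_option autoImplicit false
universe u
open TFCurv

namespace Groth.Agent.S15034

/-- Let k be an algebraically closed field and A ≠ k[[t]] a k-subalgebra of k[[t]] that is closed in the
t-adic topology and over which k[[t]] is a finite module (as for the complete local ring of a
unibranch curve singularity inside its normalisation), and let Γ ⊆ ℕ be the set of t-orders of the
nonzero elements of A (its value semigroup). Let M, N be finitely generated A-submodules of k[[t]]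
containing 1 (rank-one torsion-free modules in normal form), with value sets Γ(M), Γ(N) (orders of
their nonzero elements); the A-linear maps M → N are the multiplications by power series u with uM ⊆
N. Then the order of every such nonzero u satisfies n + Γ(M) ⊆ Γ(N), and although the set of these
orders can be smaller than S = {n | n + Γ(M) ⊆ Γ(N)}, the two sets have the same conductor: for
every c', all integers n ≥ c' are orders of multipliers exactly when all n ≥ c' lie in S. -/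
theorem result (k : Type u) [Field k] [IsAlgClosed k] (A : Subalgebra k (PowerSeries k)) (hA : Module.Finite ↥A (PowerSeries k)) (hcl : ∀ f : PowerSeries k, (∀ n : ℕ, ∃ g ∈ A, (n : ℕ∞) ≤ PowerSeries.order (f - g)) → f ∈ A) (hsing : A ≠ ⊤) (Γ : Set ℕ) (hΓ : ∀ n : ℕ, n ∈ Γ ↔ ∃ f ∈ A, PowerSeries.order f = n) (M N : Submodule ↥A (PowerSeries k)) (hMfg : M.FG) (hNfg : N.FG) (hM1 : (1 : PowerSeries k) ∈ M) (hN1 : (1 : PowerSeries k) ∈ N) (ΓM ΓN : Set ℕ) (hΓM : ∀ n : ℕ, n ∈ ΓM ↔ ∃ f ∈ M, PowerSeries.order f = n) (hΓN : ∀ n : ℕ, n ∈ ΓN ↔ ∃ f ∈ N, PowerSeries.order f = n) : (∀ n : ℕ, (∃ u : PowerSeries k, PowerSeries.order u = n ∧ ∀ m ∈ M, u * m ∈ N) → ∀ a ∈ ΓM, n + a ∈ ΓN) ∧ ∀ c' : ℕ, (∀ n : ℕ, c' ≤ n → ∃ u : PowerSeries k, PowerSeries.order u = n ∧ ∀ m ∈ M, u * m ∈ N) ↔ (∀ n : ℕ, c' ≤ n → ∀ a ∈ ΓM, n + a ∈ ΓN) := by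
  haveI : Module.Finite ↥A (PowerSeries k) := hA
  have part1 : ∀ n : ℕ, (∃ u : PowerSeries k, PowerSeries.order u = n ∧ ∀ m ∈ M, u * m ∈ N) →
      ∀ a ∈ ΓM, n + a ∈ ΓN := by
    rintro n ⟨u, hun, hu⟩ a ha
    obtain ⟨m, hm, hma⟩ := (hΓM a).mp ha
    refine (hΓN _).mpr ⟨u * m, hu m hm, ?_⟩
    rw [PowerSeries.order_mul, hun, hma]
    push_cast
    rfl
  refine ⟨part1, fun c' => ⟨fun h n hn => part1 n (h n hn), fun h n hn => ?_⟩⟩
  have h0 : (0 : ℕ) ∈ ΓM := (hΓM 0).mpr ⟨1, hM1, by simp⟩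
  have hc : ∀ n : ℕ, c' ≤ n → ∃ a ∈ N, PowerSeries.order a = n := by
    intro n hn
    have := h n hn 0 h0
    rw [add_zero] at this
    exact (hΓN n).mp this
  refine ⟨PowerSeries.X ^ n, PowerSeries.order_X_pow n, fun m _ => ?_⟩
  apply PSClosed.mem_of_le_order A N c' hc
  calc (c' : ℕ∞) ≤ n := by exact_mod_cast hn
    _ = PowerSeries.order ((PowerSeries.X : PowerSeries k) ^ n) := (PowerSeries.order_X_pow n).symm
    _ ≤ PowerSeries.order ((PowerSeries.X : PowerSeries k) ^ n) + PowerSeries.order m :=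
        le_self_add
    _ = PowerSeries.order (PowerSeries.X ^ n * m) := (PowerSeries.order_mul _ _).symm

end Groth.Agent.S15034
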