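import Groth.Statements.S15036
import Mathlib

set_option autoImplicit false
open TFCurv

namespace Groth.Agent.S15036

/-- Let Γ be a numerical semigroup (a submonoid of (ℕ, +) with finite complement), Γ ≠ ℕ, with conductor
c (every n ≥ c lies in Γ, c − 1 does not); let S ⊆ ℕ be a Γ-module in normal form (0 ∈ S, γ + s ∈ S
for γ ∈ Γ, s ∈ S) with conductor c(S) (all n ≥ c(S) in S, c(S) − 1 ∉ S), and let s be a gap of S
such that S ∪ {s} is again a Γ-module. Enumerate S increasingly as s_0 < s_1 < ⋯ and put τ_i(S) =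
s_i + ℓ(S), where ℓ counts the gaps of Γ filled; since ℓ(S ∪ {s}) = ℓ(S) + 1, the termwise
comparison τ(S) ≤ τ(S ∪ {s}) says that the i-th element of S is at most one more than the i-th
element of S ∪ {s} for every i. This holds if and only if s = c(S) − 1, the largest gap of S. -/
theorem result (Γ : AddSubmonoid ℕ) (c : ℕ) (hc : ∀ n : ℕ, c ≤ n → n ∈ Γ) (hc0 : c ≠ 0) (hc1 : c - 1 ∉ Γ) (S : Set ℕ) (hS0 : (0 : ℕ) ∈ S) (hS : ∀ γ : ℕ, γ ∈ Γ → ∀ s : ℕ, s ∈ S → γ + s ∈ S) (cS : ℕ) (hcS : ∀ n : ℕ, cS ≤ n → n ∈ S) (hcS0 : cS ≠ 0) (hcS1 : cS - 1 ∉ S) (s : ℕ) (hs : s ∉ S) (hs' : ∀ γ : ℕ, γ ∈ Γ → γ ≠ 0 → s + γ ∈ S) : (∀ i : ℕ, Nat.nth (fun m => m ∈ S) i ≤ Nat.nth (fun m => m ∈ insert s S) i + 1) ↔ s + 1 = cS := by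
  classical
  have hT : ∀ n, (n ∈ insert s S) ↔ (n = s ∨ n ∈ S) := fun n => Set.mem_insert_iff
  have hcount : ∀ n, Nat.count (fun m => m ∈ insert s S) n =
      Nat.count (fun m => m ∈ S) n + (if s < n then 1 else 0) := by
    intro n
    induction n with
    | zero => simp
    | succ n ih =>
      rw [Nat.count_succ, Nat.count_succ, ih]
      by_cases h1 : n = s
      · have h2 : n ∉ S := by rw [h1]; exact hs
        have h3 : n ∈ insert s S := (hT n).mpr (Or.inl h1)
        rw [if_pos h3, if_neg h2]
        have h4 : ¬ (s < n) := by omega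
        have h5 : s < n + 1 := by omega
        rw [if_neg h4, if_pos h5]
      · by_cases h2 : n ∈ S
        · have h3 : n ∈ insert s S := (hT n).mpr (Or.inr h2)
          rw [if_pos h3, if_pos h2]
          by_cases h4 : s < n
          · rw [if_pos h4, if_pos (by omega : s < n + 1)]
          · rw [if_neg h4, if_neg (by omega : ¬ s < n + 1)]
        · have h3 : n ∉ insert s S := fun h => ((hT n).mp h).elim h1 h2
          rw [if_neg h3, if_neg h2]
          by_cases h4 : s < n
          · rw [if_pos h4, if_pos (by omega : s < n + 1)]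
          · rw [if_neg h4, if_neg (by omega : ¬ s < n + 1)]
  have hSinf : (setOf (fun m => m ∈ S)).Infinite :=
    (Set.Ici_infinite cS).mono (fun n hn => hcS n hn)
  have hTinf : (setOf (fun m => m ∈ insert s S)).Infinite :=
    hSinf.mono (fun n hn => Set.mem_insert_of_mem _ hn)
  constructor
  · intro h
    by_contra hne
    have hslt : s < cS := by
      by_contra hge
      exact hs (hcS s (not_lt.mp hge))
    obtain ⟨g, hg⟩ : ∃ g, cS = g + 1 := ⟨cS - 1, by omega⟩
    have hsg : s < g := by omega
    have hgS : g ∉ S := by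
      have := hcS1
      rwa [hg, Nat.add_sub_cancel] at this
    have hcT : Nat.count (fun m => m ∈ insert s S) g = Nat.count (fun m => m ∈ S) g + 1 := by
      rw [hcount g, if_pos hsg]
    have hlt : Nat.nth (fun m => m ∈ insert s S) (Nat.count (fun m => m ∈ S) g) < g :=
      Nat.nth_lt_of_lt_count (by rw [hcT]; exact Nat.lt_succ_self _)
    have hcS' : Nat.count (fun m => m ∈ S) (g + 1) = Nat.count (fun m => m ∈ S) g := by
      rw [Nat.count_succ, if_neg hgS, add_zero]
    have hnth : Nat.nth (fun m => m ∈ S) (Nat.count (fun m => m ∈ S) g) = g + 1 := by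
      rw [← hcS']
      exact Nat.nth_count (p := fun m => m ∈ S) (hcS (g + 1) (by omega))
    have := h (Nat.count (fun m => m ∈ S) g)
    omega
  · intro hsc i
    have hmT : Nat.nth (fun m => m ∈ insert s S) i ∈ insert s S :=
      Nat.nth_mem_of_infinite hTinf i
    have hci : Nat.count (fun m => m ∈ insert s S) (Nat.nth (fun m => m ∈ insert s S) i) = i :=
      Nat.count_nth_of_infinite hTinf i
    obtain ⟨m, hm⟩ : ∃ m, m = Nat.nth (fun m => m ∈ insert s S) i := ⟨_, rfl⟩
    rw [← hm] at hmT hci ⊢
    by_cases hms : m < s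
    · have hmS : m ∈ S := ((hT m).mp hmT).resolve_left (by omega)
      have hc : Nat.count (fun m => m ∈ S) m = i := by
        have := hcount m
        rw [if_neg (by omega : ¬ s < m), add_zero, hci] at this
        exact this.symm
      have := Nat.nth_count (p := fun m => m ∈ S) hmS
      rw [hc] at this
      omega
    · have hm1 : m + 1 ∈ S := hcS _ (by omega)
      have hcT1 : Nat.count (fun m => m ∈ insert s S) (m + 1) = i + 1 := by
        rw [Nat.count_succ, if_pos hmT, hci]
      have hc : Nat.count (fun m => m ∈ S) (m + 1) = i := by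
        have := hcount (m + 1)
        rw [if_pos (by omega : s < m + 1), hcT1] at this
        omega
      have := Nat.nth_count (p := fun m => m ∈ S) hm1
      rw [hc] at this
      omega

end Groth.Agent.S15036
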