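import Groth.Statements.S15037
import Mathlib

set_option autoImplicit false
open TFCurv

namespace Groth.Agent.S15037


theorem nth_facts (S : Set ℕ) (cS : ℕ) (hcS : ∀ n : ℕ, cS ≤ n → n ∈ S)
    (hcS1 : cS = 0 ∨ cS - 1 ∉ S) :
    (∀ i, Nat.nth (fun m => m ∈ S) i ≤ i + Sᶜ.ncard) ∧
    (∀ i, (S ∩ Set.Iio cS).ncard ≤ i → Nat.nth (fun m => m ∈ S) i = i + Sᶜ.ncard) ∧
    (∀ i, i < (S ∩ Set.Iio cS).ncard → Nat.nth (fun m => m ∈ S) i + 1 ≤ i + Sᶜ.ncard) := by
  classical
  have ha : ∀ n, Nat.count (fun m => m ∈ S) n + Nat.count (fun m => m ∉ S) n = n := by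
    intro n
    induction n with
    | zero => simp
    | succ n ih =>
      rw [Nat.count_succ, Nat.count_succ]
      by_cases h : n ∈ S
      · rw [if_pos h, if_neg (not_not.mpr h)]; omega
      · rw [if_neg h, if_pos h]; omega
  have hb : Sᶜ.ncard = Nat.count (fun m => m ∉ S) cS := by
    have : Sᶜ = ↑((Finset.range cS).filter (fun m => m ∉ S)) := by
      ext m
      simp only [Set.mem_compl_iff, Finset.coe_filter, Finset.mem_range, Set.mem_setOf_eq]
      constructor
      · intro h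
        refine ⟨?_, h⟩
        by_contra hlt
        exact h (hcS m (not_lt.mp hlt))
      · exact fun h => h.2
    rw [this, Set.ncard_coe_finset, Nat.count_eq_card_filter_range]
  have hc : (S ∩ Set.Iio cS).ncard = Nat.count (fun m => m ∈ S) cS := by
    have : S ∩ Set.Iio cS = ↑((Finset.range cS).filter (fun m => m ∈ S)) := by
      ext m
      simp only [Set.mem_inter_iff, Set.mem_Iio, Finset.coe_filter, Finset.mem_range,
        Set.mem_setOf_eq]
      exact and_comm
    rw [this, Set.ncard_coe_finset, Nat.count_eq_card_filter_range]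
  have hd : ∀ k, Nat.count (fun m => m ∉ S) (cS + k) = Nat.count (fun m => m ∉ S) cS := by
    intro k
    induction k with
    | zero => rfl
    | succ k ih =>
      rw [← Nat.add_assoc, Nat.count_succ,
        if_neg (not_not.mpr (hcS _ (Nat.le_add_right _ _))), add_zero]
      exact ih
  have hmono : Monotone (Nat.count (fun m => m ∉ S)) := Nat.count_monotone _
  have hle : ∀ n, Nat.count (fun m => m ∉ S) n ≤ Nat.count (fun m => m ∉ S) cS := by
    intro n
    rcases le_total n cS with h | h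
    · exact hmono h
    · obtain ⟨k, rfl⟩ := Nat.exists_eq_add_of_le h
      exact le_of_eq (hd k)
  have he : ∀ n, n < cS →
      Nat.count (fun m => m ∉ S) n < Nat.count (fun m => m ∉ S) cS := by
    intro n hn
    have hc0 : cS ≠ 0 := by omega
    have hg : cS - 1 ∉ S := hcS1.resolve_left hc0
    have h1 : Nat.count (fun m => m ∉ S) n ≤ Nat.count (fun m => m ∉ S) (cS - 1) :=
      hmono (by omega)
    have h2 : Nat.count (fun m => m ∉ S) (cS - 1 + 1) =
        Nat.count (fun m => m ∉ S) (cS - 1) + 1 := by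
      rw [Nat.count_succ, if_pos hg]
    rw [Nat.sub_add_cancel (by omega : 1 ≤ cS)] at h2
    omega
  have hSinf : (setOf (fun m => m ∈ S)).Infinite :=
    (Set.Ici_infinite cS).mono (fun n hn => hcS n hn)
  have hn : ∀ i, Nat.nth (fun m => m ∈ S) i =
      i + Nat.count (fun m => m ∉ S) (Nat.nth (fun m => m ∈ S) i) := by
    intro i
    have h1 := ha (Nat.nth (fun m => m ∈ S) i)
    rw [Nat.count_nth_of_infinite hSinf i] at h1
    omega
  refine ⟨fun i => ?_, fun i hi => ?_, fun i hi => ?_⟩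
  · have := hn i
    have := hle (Nat.nth (fun m => m ∈ S) i)
    omega
  · have h1 := hn i
    have hge : cS ≤ Nat.nth (fun m => m ∈ S) i := by
      by_contra hlt
      push_neg at hlt
      have hmem : Nat.nth (fun m => m ∈ S) i ∈ S := Nat.nth_mem_of_infinite hSinf i
      have h2 : Nat.count (fun m => m ∈ S) (Nat.nth (fun m => m ∈ S) i + 1) = i + 1 := by
        rw [Nat.count_succ, if_pos hmem, Nat.count_nth_of_infinite hSinf i]
      have h3 : Nat.count (fun m => m ∈ S) (Nat.nth (fun m => m ∈ S) i + 1) ≤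
          Nat.count (fun m => m ∈ S) cS := Nat.count_monotone _ (by omega)
      rw [hc] at hi
      omega
    obtain ⟨k, hk⟩ := Nat.exists_eq_add_of_le hge
    have := hd k
    rw [← hk] at this
    omega
  · rw [hc] at hi
    have hlt : Nat.nth (fun m => m ∈ S) i < cS := Nat.nth_lt_of_lt_count hi
    have := he _ hlt
    have := hn i
    omega

/-- Let Γ be a numerical semigroup (a submonoid of (ℕ, +) with finite complement), Γ ≠ ℕ, with conductor
c (every n ≥ c lies in Γ, c − 1 does not); let S and S' ⊆ ℕ be Γ-modules in normal form with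
conductors c(S), c(S'), let δ(S), δ(S') be their numbers of gaps and r(S), r(S') their numbers of
elements below the conductor, and enumerate them increasingly as s_i, s'_i (i ≥ 0). With τ_i(S) =
s_i + ℓ(S) and ℓ(S) = δ(Γ) − δ(S), the termwise order τ(S) ≤ τ(S') reads s_i + δ(S') ≤ s'_i + δ(S)
for all i. It holds if and only if r(S') ≤ r(S) and s_i + δ(S') ≤ s'_i + δ(S) for all i < r(S')
(beyond r(S) the entries τ_i(S) = i + δ(Γ) are the largest possible). -/
theorem result (Γ : AddSubmonoid ℕ) (c : ℕ) (hc : ∀ n : ℕ, c ≤ n → n ∈ Γ) (hc0 : c ≠ 0) (hc1 : c - 1 ∉ Γ) (S : Set ℕ) (hS0 : (0 : ℕ) ∈ S) (hS : ∀ γ : ℕ, γ ∈ Γ → ∀ s : ℕ, s ∈ S → γ + s ∈ S) (cS : ℕ) (hcS : ∀ n : ℕ, cS ≤ n → n ∈ S) (hcS1 : cS = 0 ∨ cS - 1 ∉ S) (S' : Set ℕ) (hS'0 : (0 : ℕ) ∈ S') (hS' : ∀ γ : ℕ, γ ∈ Γ → ∀ s : ℕ, s ∈ S' → γ + s ∈ S') (cS' : ℕ) (hcS' : ∀ n : ℕ, cS' ≤ n → n ∈ S') (hcS'1 : cS' = 0 ∨ cS' - 1 ∉ S') : (∀ i : ℕ, Nat.nth (fun m => m ∈ S) i + S'ᶜ.ncard ≤ Nat.nth (fun m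 => m ∈ S') i + Sᶜ.ncard) ↔ ((S' ∩ Set.Iio cS').ncard ≤ (S ∩ Set.Iio cS).ncard ∧ ∀ i : ℕ, i < (S' ∩ Set.Iio cS').ncard → Nat.nth (fun m => m ∈ S) i + S'ᶜ.ncard ≤ Nat.nth (fun m => m ∈ S') i + Sᶜ.ncard) := by
  obtain ⟨a1, a2, a3⟩ := nth_facts S cS hcS hcS1
  obtain ⟨b1, b2, b3⟩ := nth_facts S' cS' hcS' hcS'1
  constructor
  · intro h
    refine ⟨?_, fun i _ => h i⟩
    by_contra hlt
    push_neg at hlt
    have h1 := a2 ((S' ∩ Set.Iio cS').ncard - 1) (by omega)
    have h2 := b3 ((S' ∩ Set.Iio cS').ncard - 1) (by omega)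
    have h3 := h ((S' ∩ Set.Iio cS').ncard - 1)
    omega
  · rintro ⟨hr, h⟩ i
    by_cases hi : i < (S' ∩ Set.Iio cS').ncard
    · exact h i hi
    · have h1 := b2 i (by omega)
      have h2 := a1 i
      omega

end Groth.Agent.S15037
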