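import Groth.Statements.S15038
import Mathlib

set_option autoImplicit false
open TFCurv

namespace Groth.Agent.S15038

/-- Let Γ be a numerical semigroup (a submonoid of (ℕ, +) with finite complement), Γ ≠ ℕ, with conductor
c (every n ≥ c lies in Γ, c − 1 does not). If Γ is symmetric (for x < c, x is a gap exactly when c −
1 − x ∈ Γ) and its multiplicity e, the least nonzero element of Γ, is greater than 2, then Γ is
generated as an additive monoid by at most e − 1 elements. -/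
theorem result (Γ : AddSubmonoid ℕ) (c : ℕ) (hc : ∀ n : ℕ, c ≤ n → n ∈ Γ) (hc0 : c ≠ 0) (hc1 : c - 1 ∉ Γ) (hsymm : ∀ x : ℕ, x < c → (x ∉ Γ ↔ c - 1 - x ∈ Γ)) (e : ℕ) (he : e ∈ Γ) (he0 : e ≠ 0) (hemin : ∀ γ : ℕ, γ ∈ Γ → γ ≠ 0 → e ≤ γ) (he2 : 2 < e) : ∃ G : Finset ℕ, G.card ≤ e - 1 ∧ AddSubmonoid.closure (↑G : Set ℕ) = Γ := by
  classical
  have hepos : 0 < e := Nat.pos_of_ne_zero he0
  have hmul : ∀ k : ℕ, k * e ∈ Γ := fun k => by
    rw [← smul_eq_mul]; exact AddSubmonoid.nsmul_mem Γ he k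
  have hex : ∀ i : ℕ, ∃ γ, γ ∈ Γ ∧ γ % e = i % e := fun i =>
    ⟨i + c * e, hc _ (le_trans (Nat.le_mul_of_pos_right c hepos) (Nat.le_add_left _ _)),
      Nat.add_mul_mod_self_right _ _ _⟩
  obtain ⟨w, hwΓ, hwmod, hwmin⟩ : ∃ w : ℕ → ℕ, (∀ i, w i ∈ Γ) ∧ (∀ i, w i % e = i % e) ∧
      (∀ i γ, γ ∈ Γ → γ % e = i % e → w i ≤ γ) :=
    ⟨fun i => Nat.find (hex i), fun i => (Nat.find_spec (hex i)).1,
      fun i => (Nat.find_spec (hex i)).2, fun i γ h1 h2 => Nat.find_min' (hex i) ⟨h1, h2⟩⟩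
  have hwcongr : ∀ i j, i % e = j % e → w i = w j := fun i j h =>
    le_antisymm (hwmin i (w j) (hwΓ j) ((hwmod j).trans h.symm))
      (hwmin j (w i) (hwΓ i) ((hwmod i).trans h))
  have hdecomp : ∀ γ ∈ Γ, ∃ k, γ = w γ + k * e := by
    intro γ hγ
    have h1 := hwmin γ γ hγ rfl
    have h2 := hwmod γ
    refine ⟨(γ - w γ) / e, ?_⟩
    have h3 : (γ - w γ) % e = 0 := Nat.sub_mod_eq_zero_of_mod_eq h2.symm
    have h4 := Nat.div_add_mod (γ - w γ) e
    rw [h3, add_zero] at h4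
    rw [mul_comm, h4]; omega
  have hwF : w (c - 1) = c - 1 + e := by
    have hle : w (c - 1) ≤ c - 1 + e := hwmin _ _ (hc _ (by omega)) (Nat.add_mod_right _ _)
    have h3 : (c - 1 + e - w (c - 1)) % e = 0 :=
      Nat.sub_mod_eq_zero_of_mod_eq (by rw [Nat.add_mod_right]; exact (hwmod _).symm)
    obtain ⟨q, hq⟩ := Nat.dvd_of_mod_eq_zero h3
    rcases Nat.eq_zero_or_pos q with rfl | hqpos
    · rw [mul_zero] at hq; omega
    · exfalso
      apply hc1
      obtain ⟨q', rfl⟩ : ∃ q', q = q' + 1 := ⟨q - 1, by omega⟩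
      have h5 : e * (q' + 1) = q' * e + e := by ring
      rw [h5] at hq
      have h6 : c - 1 = w (c - 1) + q' * e := by omega
      rw [h6]; exact Γ.add_mem (hwΓ _) (hmul _)
  have hF0 : (c - 1) % e ≠ 0 := by
    intro h
    apply hc1
    obtain ⟨q, hq⟩ := Nat.dvd_of_mod_eq_zero h
    rw [hq, mul_comm]; exact hmul q
  obtain ⟨i₁, hi₁e, hi₁0, hi₁F⟩ : ∃ i₁, i₁ < e ∧ i₁ ≠ 0 ∧ i₁ ≠ (c - 1) % e := by
    by_cases h : (c - 1) % e = 1
    · exact ⟨2, he2, by norm_num, by omega⟩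
    · exact ⟨1, by omega, by norm_num, fun h' => h h'.symm⟩
  have hw1mod : w i₁ % e = i₁ := by rw [hwmod, Nat.mod_eq_of_lt hi₁e]
  have hw1ne : w i₁ ≠ 0 := by
    intro h; rw [h, Nat.zero_mod] at hw1mod; exact hi₁0 hw1mod.symm
  have hw1ge : e ≤ w i₁ := hemin _ (hwΓ _) hw1ne
  have hxnot : w i₁ - e ∉ Γ := by
    intro h
    have := hwmin i₁ (w i₁ - e) h (by rw [← Nat.mod_eq_sub_mod hw1ge, hwmod])
    omega
  have hxc : w i₁ - e < c := by
    by_contra h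
    exact hxnot (hc _ (not_lt.mp h))
  have hy : c - 1 - (w i₁ - e) ∈ Γ := (hsymm _ hxc).mp hxnot
  have hsum : (c - 1 - (w i₁ - e)) + w i₁ = c - 1 + e := by omega
  have hyne : (c - 1 - (w i₁ - e)) % e ≠ (c - 1) % e := by
    intro h
    have h1 : (c - 1 - (w i₁ - e) + w i₁) ≡ (c - 1 - (w i₁ - e)) + 0 [MOD e] := by
      rw [hsum, add_zero]
      show (c - 1 + e) % e = _
      rw [Nat.add_mod_right]; exact h.symm
    have h2 := Nat.ModEq.add_left_cancel' _ h1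
    have h3 : w i₁ % e = 0 % e := h2
    rw [hw1mod, Nat.zero_mod] at h3
    exact hi₁0 h3
  obtain ⟨G, hG⟩ : ∃ G : Finset ℕ, G = insert e
      (Finset.image w (((Finset.range e).erase 0).erase ((c - 1) % e))) := ⟨_, rfl⟩
  have hGcard : G.card ≤ e - 1 := by
    rw [hG]
    refine (Finset.card_insert_le _ _).trans ?_
    have h1 := Finset.card_image_le (s := ((Finset.range e).erase 0).erase ((c - 1) % e))
      (f := w)
    have hm1 : (c - 1) % e ∈ (Finset.range e).erase 0 :=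
      Finset.mem_erase.mpr ⟨hF0, Finset.mem_range.mpr (Nat.mod_lt _ hepos)⟩
    have hm2 : 0 ∈ Finset.range e := Finset.mem_range.mpr hepos
    have h2 : (((Finset.range e).erase 0).erase ((c - 1) % e)).card = e - 1 - 1 := by
      rw [Finset.card_erase_of_mem hm1, Finset.card_erase_of_mem hm2, Finset.card_range]
    omega
  have hsub : ∀ g ∈ G, g ∈ Γ := by
    intro g hg
    rw [hG, Finset.mem_insert, Finset.mem_image] at hg
    rcases hg with rfl | ⟨i, _, rfl⟩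
    · exact he
    · exact hwΓ i
  have heC : ∀ k : ℕ, k * e ∈ AddSubmonoid.closure (↑G : Set ℕ) := fun k => by
    rw [← smul_eq_mul]
    refine AddSubmonoid.nsmul_mem _ (AddSubmonoid.subset_closure ?_) k
    rw [hG, Finset.mem_coe]; exact Finset.mem_insert_self _ _
  have hwC : ∀ i, i < e → i ≠ 0 → i ≠ (c - 1) % e →
      w i ∈ AddSubmonoid.closure (↑G : Set ℕ) := by
    intro i h1 h2 h3
    apply AddSubmonoid.subset_closure
    rw [hG, Finset.mem_coe, Finset.mem_insert]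
    right
    exact Finset.mem_image.mpr ⟨i, Finset.mem_erase.mpr ⟨h3, Finset.mem_erase.mpr
      ⟨h2, Finset.mem_range.mpr h1⟩⟩, rfl⟩
  have hw0 : w 0 = 0 := Nat.le_zero.mp (hwmin 0 0 Γ.zero_mem rfl)
  have hC1 : ∀ γ ∈ Γ, γ % e ≠ (c - 1) % e → γ ∈ AddSubmonoid.closure (↑G : Set ℕ) := by
    intro γ hγ hne
    obtain ⟨k, hk⟩ := hdecomp γ hγ
    rw [hk]
    refine AddSubmonoid.add_mem _ ?_ (heC k)
    rw [hwcongr γ (γ % e) (Nat.mod_mod _ _).symm]
    by_cases h0 : γ % e = 0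
    · rw [h0, hw0]; exact AddSubmonoid.zero_mem _
    · exact hwC _ (Nat.mod_lt _ hepos) h0 hne
  refine ⟨G, hGcard, le_antisymm ((AddSubmonoid.closure_le).mpr
    (fun g hg => hsub g (Finset.mem_coe.mp hg))) ?_⟩
  intro γ hγ
  by_cases hne : γ % e = (c - 1) % e
  · obtain ⟨k, hk⟩ := hdecomp γ hγ
    rw [hk, hwcongr γ (c - 1) hne, hwF, ← hsum]
    exact AddSubmonoid.add_mem _ (AddSubmonoid.add_mem _ (hC1 _ hy hyne)
      (hC1 _ (hwΓ i₁) (by rw [hw1mod]; exact hi₁F))) (heC k)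
  · exact hC1 γ hγ hne

end Groth.Agent.S15038
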