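import Groth.Statements.S15047
-- import your own Groth.Agent.* helpers here
import Mathlib
import Groth.Agent.S1156

set_option autoImplicit false
universe u
open TensorProduct
open Desc

namespace Groth.Agent.S15047

/-- Let A → A' be a faithfully flat homomorphism of commutative rings and M, N any A-modules. An
A'-linear map f : A' ⊗_A M → A' ⊗_A N whose two base changes to A' ⊗_A A' (along a ↦ a ⊗ 1 and a ↦ 1
⊗ a) coincide is the base change of a unique A-linear map h : M → N. Since (A' ⊗_A A') ⊗_A M is
generated over A' ⊗_A A' by the elements 1 ⊗ m, the agreement of the two base changes is stated on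
these generators: for every m, the two images of f (1 ⊗ m) in (A' ⊗_A A') ⊗_A N agree. Equivalently,
the sequence Hom_A(M, N) → Hom_{A'}(A' ⊗ M, A' ⊗ N) ⇉ Hom_{A' ⊗ A'}(A' ⊗ A' ⊗ M, A' ⊗ A' ⊗ N) is an
equalizer diagram. -/
theorem result (A A' : Type u) [CommRing A] [CommRing A'] [Algebra A A']
    [Module.FaithfullyFlat A A'] (M N : Type u) [AddCommGroup M] [Module A M] [AddCommGroup N] [Module A N]
    (f : A' ⊗[A] M →ₗ[A'] A' ⊗[A] N)
    (hf : ∀ m : M,
      LinearMap.rTensor N (Algebra.TensorProduct.includeLeft : A' →ₐ[A] A' ⊗[A] A').toLinearMap (f (1 ⊗ₜ[A] m)) =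
        LinearMap.rTensor N (Algebra.TensorProduct.includeRight : A' →ₐ[A] A' ⊗[A] A').toLinearMap (f (1 ⊗ₜ[A] m))) :
    ∃! h : M →ₗ[A] N, h.baseChange A' = f := by
  classical
  have hinj : Function.Injective (TensorProduct.mk A A' N 1) :=
    Module.FaithfullyFlat.tensorProduct_mk_injective (A := A) (B := A') N
  have hL : ∀ y : A' ⊗[A] N, (TensorProduct.assoc A A' A' N)
      (LinearMap.rTensor N (Algebra.TensorProduct.includeLeft : A' →ₐ[A] A' ⊗[A] A').toLinearMap y) =
      LinearMap.lTensor A' (TensorProduct.mk A A' N 1) y := by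
    intro y
    induction y using TensorProduct.induction_on with
    | zero => simp
    | tmul a n => simp
    | add y z hy hz => rw [map_add, map_add, map_add, hy, hz]
  have hR : ∀ y : A' ⊗[A] N, (TensorProduct.assoc A A' A' N)
      (LinearMap.rTensor N (Algebra.TensorProduct.includeRight : A' →ₐ[A] A' ⊗[A] A').toLinearMap y) =
      TensorProduct.mk A A' (A' ⊗[A] N) 1 y := by
    intro y
    induction y using TensorProduct.induction_on with
    | zero => simp
    | tmul a n => simp
    | add y z hy hz => rw [map_add, map_add, map_add, hy, hz]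
  have key : ∀ m : M, ∃ n : N, TensorProduct.mk A A' N 1 n = f (1 ⊗ₜ[A] m) := by
    intro m
    have h := congrArg (TensorProduct.assoc A A' A' N) (hf m)
    rw [hL, hR] at h
    exact Groth.Agent.S1156.result A A' N (f (1 ⊗ₜ[A] m)) h.symm
  choose h hh using key
  let h' : M →ₗ[A] N :=
    { toFun := h
      map_add' := fun x y => by
        apply hinj
        rw [map_add, hh, hh, hh, TensorProduct.tmul_add, map_add]
      map_smul' := fun c x => by
        apply hinj
        rw [RingHom.id_apply, map_smul, hh, hh, TensorProduct.tmul_smul,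
          ← algebraMap_smul A' c ((1 : A') ⊗ₜ[A] x), map_smul, algebraMap_smul] }
  refine ⟨h', ?_, ?_⟩
  · apply TensorProduct.AlgebraTensorModule.ext
    intro a m
    rw [LinearMap.baseChange_tmul]
    have : a ⊗ₜ[A] m = a • ((1 : A') ⊗ₜ[A] m) := by
      rw [TensorProduct.smul_tmul', smul_eq_mul, mul_one]
    rw [this, map_smul, ← hh m, TensorProduct.mk_apply, TensorProduct.smul_tmul', smul_eq_mul, mul_one]
    rfl
  · intro g hg
    ext m
    apply hinj
    change _ = TensorProduct.mk A A' N 1 (h m)
    rw [hh, ← hg, TensorProduct.mk_apply, LinearMap.baseChange_tmul]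

end Groth.Agent.S15047
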