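import Groth.Statements.S15049
-- import your own Groth.Agent.* helpers here
import Mathlib
import Groth.Agent.Lib.Helper22.LTSubst
open Groth.Agent.Lib.Helper22.PSApprox Groth.Agent.Lib.Helper22.LTCore Groth.Agent.Lib.Helper22.LTSubst

set_option autoImplicit false
universe u
open LubinTate

namespace Groth.Agent.S15049

/-- Let O be a discrete valuation ring with finite residue field of cardinality q, π a uniformizer of O,
and f = πT + T^q ∈ O[[T]]. Then there is a one-dimensional commutative formal group law F(X,Y) over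
O for which f is an endomorphism, f(F(X,Y)) = F(f(X), f(Y)); and F is the unique power series in
O[[X,Y]] with zero constant term and linear part X + Y satisfying this identity. (The published
statement is for the ring of integers of a finite extension of ℚ_p or of 𝔽_q((X)); completeness is
not used and any discrete valuation ring with finite residue field is allowed here.) -/
theorem result (O : Type u) [CommRing O] [IsDomain O] [IsDiscreteValuationRing O]
    [Finite (IsLocalRing.ResidueField O)] (π : O) (hπ : Irreducible π) (f : PowerSeries O)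
    (hf : f = π • PowerSeries.X + PowerSeries.X ^ Nat.card (IsLocalRing.ResidueField O)) :
    ∃ F : FormalGroup O, F.IsComm ∧
      PowerSeries.subst F.toPowerSeries f =
        MvPowerSeries.subst (fun i : Fin 2 => PowerSeries.subst (MvPowerSeries.X i : MvPowerSeries (Fin 2) O) f) F.toPowerSeries ∧
      ∀ G : MvPowerSeries (Fin 2) O, G.constantCoeff = 0 → G.coeff (Finsupp.single 0 1) = 1 →
        G.coeff (Finsupp.single 1 1) = 1 →
        PowerSeries.subst G f =
        MvPowerSeries.subst (fun i : Fin 2 => PowerSeries.subst (MvPowerSeries.X i : MvPowerSeries (Fin 2) O) f) G →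
        G = F.toPowerSeries := by
  classical
  have hmax : IsLocalRing.maximalIdeal O = Ideal.span {π} := hπ.maximalIdeal_eq
  have hmem : π ∈ IsLocalRing.maximalIdeal O := by
    rw [hmax]; exact Ideal.mem_span_singleton_self π
  have hπ0 : π ≠ 0 := hπ.ne_zero
  have hfl : f = ltf π (Nat.card (IsLocalRing.ResidueField O)) := hf
  have hq2 := two_le_card (O := O)
  have hf0 : (ltf π (Nat.card (IsLocalRing.ResidueField O))).constantCoeff = 0 :=
    ltf_const π _ (by omega)
  obtain ⟨F, hF0, hF1, hFc⟩ := LT_comm_exists (σ := Fin 2) π hmax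
    ((MvPowerSeries.X 0 : MvPowerSeries (Fin 2) O) + MvPowerSeries.X 1) (by simp)
  have hl0 : MvPowerSeries.coeff (Finsupp.single 0 1) F = 1 := by
    rw [hF1 0]; simp [MvPowerSeries.coeff_index_single_X]
  have hl1 : MvPowerSeries.coeff (Finsupp.single 1 1) F = 1 := by
    rw [hF1 1]; simp [MvPowerSeries.coeff_index_single_X]
  -- associativity
  have hassoc : F.subst ![F.subst ![(MvPowerSeries.X 0 : MvPowerSeries (Fin 3) O),
        MvPowerSeries.X 1], MvPowerSeries.X 2] =
      F.subst ![(MvPowerSeries.X 0 : MvPowerSeries (Fin 3) O),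
        F.subst ![(MvPowerSeries.X 1 : MvPowerSeries (Fin 3) O), MvPowerSeries.X 2]] := by
    have hv : ∀ (u v : MvPowerSeries (Fin 3) O), MvPowerSeries.constantCoeff u = 0 →
        MvPowerSeries.constantCoeff v = 0 →
        ∀ i, MvPowerSeries.constantCoeff ((![u, v] : Fin 2 → MvPowerSeries (Fin 3) O) i) = 0 := by
      intro u v hu hv i; fin_cases i
      · exact hu
      · exact hv
    have hvc : ∀ (u v : MvPowerSeries (Fin 3) O),
        Comm (ltf π (Nat.card (IsLocalRing.ResidueField O))) u →
        Comm (ltf π (Nat.card (IsLocalRing.ResidueField O))) v →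
        ∀ i, Comm (ltf π (Nat.card (IsLocalRing.ResidueField O)))
          ((![u, v] : Fin 2 → MvPowerSeries (Fin 3) O) i) := by
      intro u v hu hv i; fin_cases i
      · exact hu
      · exact hv
    have hsub0 : ∀ (u v : MvPowerSeries (Fin 3) O), MvPowerSeries.constantCoeff u = 0 →
        MvPowerSeries.constantCoeff v = 0 →
        MvPowerSeries.constantCoeff (F.subst (![u, v] : Fin 2 → MvPowerSeries (Fin 3) O)) = 0 :=
      fun u v hu hv' => MvPowerSeries.constantCoeff_subst_eq_zero
        (MvPowerSeries.hasSubst_of_constantCoeff_zero (hv u v hu hv')) (hv u v hu hv') hF0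
    have hsubc : ∀ (u v : MvPowerSeries (Fin 3) O), MvPowerSeries.constantCoeff u = 0 →
        MvPowerSeries.constantCoeff v = 0 →
        Comm (ltf π (Nat.card (IsLocalRing.ResidueField O))) u →
        Comm (ltf π (Nat.card (IsLocalRing.ResidueField O))) v →
        Comm (ltf π (Nat.card (IsLocalRing.ResidueField O)))
          (F.subst (![u, v] : Fin 2 → MvPowerSeries (Fin 3) O)) :=
      fun u v hu hv' hcu hcv => comm_subst (σ := Fin 2) (τ := Fin 3) _ hf0 hF0 hFc
        (hv u v hu hv') (hvc u v hcu hcv)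
    have hXc : ∀ i : Fin 3, Comm (ltf π (Nat.card (IsLocalRing.ResidueField O)))
        (MvPowerSeries.X i : MvPowerSeries (Fin 3) O) := fun i => comm_X _ hf0 i
    have hX0 : ∀ i : Fin 3, MvPowerSeries.constantCoeff
        (MvPowerSeries.X i : MvPowerSeries (Fin 3) O) = 0 := fun i => by simp
    refine LT_comm_unique (σ := Fin 3) π hmem hπ0 _ _ ?_ ?_ ?_ ?_ ?_
    · exact hsub0 _ _ (hX0 0) (hsub0 _ _ (hX0 1) (hX0 2))
    · exact hsub0 _ _ (hsub0 _ _ (hX0 0) (hX0 1)) (hX0 2)
    · intro i
      rw [coeff_single_subst_two (hv _ _ (hsub0 _ _ (hX0 0) (hX0 1)) (hX0 2)) _ _ (by simp),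
        coeff_single_subst_two (hv _ _ (hX0 0) (hsub0 _ _ (hX0 1) (hX0 2))) _ _ (by simp)]
      simp only [Matrix.cons_val_zero, Matrix.cons_val_one, Matrix.cons_val_fin_one]
      rw [coeff_single_subst_two (hv _ _ (hX0 0) (hX0 1)) _ _ (by simp),
        coeff_single_subst_two (hv _ _ (hX0 1) (hX0 2)) _ _ (by simp), hl0, hl1]
      simp only [Matrix.cons_val_zero, Matrix.cons_val_one, Matrix.cons_val_fin_one]
      ring
    · exact hsubc _ _ (hX0 0) (hsub0 _ _ (hX0 1) (hX0 2)) (hXc 0)
        (hsubc _ _ (hX0 1) (hX0 2) (hXc 1) (hXc 2))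
    · exact hsubc _ _ (hsub0 _ _ (hX0 0) (hX0 1)) (hX0 2)
        (hsubc _ _ (hX0 0) (hX0 1) (hXc 0) (hXc 1)) (hXc 2)
  -- commutativity
  have hcomm : F = F.subst ![(MvPowerSeries.X 1 : MvPowerSeries (Fin 2) O), MvPowerSeries.X 0] := by
    have ha0 : ∀ i, MvPowerSeries.constantCoeff ((![(MvPowerSeries.X 1 :
        MvPowerSeries (Fin 2) O), MvPowerSeries.X 0] : Fin 2 → MvPowerSeries (Fin 2) O) i) = 0 := by
      intro i; fin_cases i <;> simp
    symm
    refine LT_comm_unique (σ := Fin 2) π hmem hπ0 _ _ hF0 ?_ ?_ hFc ?_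
    · exact MvPowerSeries.constantCoeff_subst_eq_zero
        (MvPowerSeries.hasSubst_of_constantCoeff_zero ha0) ha0 hF0
    · intro i
      rw [coeff_single_subst_two ha0 _ _ (by simp), hl0, hl1, hF1 i]
      simp only [Matrix.cons_val_zero, Matrix.cons_val_one, Matrix.cons_val_fin_one, map_add]
      ring
    · refine comm_subst (σ := Fin 2) (τ := Fin 2) _ hf0 hF0 hFc ha0 ?_
      intro i; fin_cases i
      · exact comm_X _ hf0 1
      · exact comm_X _ hf0 0
  refine ⟨⟨F, hF0, hl0, hl1, hassoc⟩, ⟨hcomm⟩, ?_, ?_⟩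
  · rw [hfl]; exact hFc
  · intro G hG0 hG1 hG2 hGc
    rw [hfl] at hGc
    refine LT_comm_unique (σ := Fin 2) π hmem hπ0 F G hF0 hG0 ?_ hFc hGc
    intro i; fin_cases i
    · exact hG1.trans hl0.symm
    · exact hG2.trans hl1.symm

end Groth.Agent.S15049
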