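import Groth.Statements.S15050
-- import your own Groth.Agent.* helpers here
import Mathlib
import Groth.Agent.Lib.Helper22.LTSubst
open Groth.Agent.Lib.Helper22.PSApprox Groth.Agent.Lib.Helper22.LTCore Groth.Agent.Lib.Helper22.LTSubst

set_option autoImplicit false
universe u
open LubinTate

namespace Groth.Agent.S15050

/-- Let O be a discrete valuation ring with finite residue field of cardinality q, π a uniformizer of O,
and f = πT + T^q ∈ O[[T]]. For every α ∈ O there is a unique power series g = [α] ∈ O[[T]] with zero
constant term and linear coefficient α which commutes with f under substitution, g(f(T)) = f(g(T)).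
(The published statement is for the ring of integers of a finite extension of ℚ_p or of 𝔽_q((X));
completeness is not used and any discrete valuation ring with finite residue field is allowed here.) -/
theorem result (O : Type u) [CommRing O] [IsDomain O] [IsDiscreteValuationRing O]
    [Finite (IsLocalRing.ResidueField O)] (π : O) (hπ : Irreducible π) (f : PowerSeries O)
    (hf : f = π • PowerSeries.X + PowerSeries.X ^ Nat.card (IsLocalRing.ResidueField O)) (α : O) :
    ∃! g : PowerSeries O, g.constantCoeff = 0 ∧ g.coeff 1 = α ∧
      PowerSeries.subst g f = PowerSeries.subst f g := by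
  classical
  have hmax : IsLocalRing.maximalIdeal O = Ideal.span {π} := hπ.maximalIdeal_eq
  have hmem : π ∈ IsLocalRing.maximalIdeal O := by
    rw [hmax]; exact Ideal.mem_span_singleton_self π
  have hπ0 : π ≠ 0 := hπ.ne_zero
  have hfl : f = ltf π (Nat.card (IsLocalRing.ResidueField O)) := hf
  have hcoe : ∀ g : PowerSeries O, PowerSeries.coeff 1 g =
      MvPowerSeries.coeff (Finsupp.single () 1) g := fun g => rfl
  have hX0 : MvPowerSeries.constantCoeff (α • (PowerSeries.X : PowerSeries O)) = 0 := by
    change PowerSeries.constantCoeff (α • (PowerSeries.X : PowerSeries O)) = 0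
    simp
  obtain ⟨g, hg0, hg1, hgc⟩ := LT_comm_exists (σ := Unit) π hmax
    (α • (PowerSeries.X : PowerSeries O)) hX0
  have hg1' : PowerSeries.coeff 1 g = α := by
    rw [hcoe, hg1 (), ← hcoe]
    simp
  refine ⟨g, ⟨hg0, hg1', ?_⟩, ?_⟩
  · rw [hfl]; exact (comm_iff_one _ g).mp hgc
  · rintro g' ⟨hg0', hg1'', hgc'⟩
    refine LT_comm_unique (σ := Unit) π hmem hπ0 g g' hg0 hg0' ?_ hgc ?_
    · intro i
      rw [← hcoe, ← hcoe, hg1', hg1'']
    · rw [hfl] at hgc'
      exact (comm_iff_one _ g').mpr hgc'

end Groth.Agent.S15050
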