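import Groth.Statements.S15051
-- import your own Groth.Agent.* helpers here
import Mathlib
import Groth.Agent.Lib.Helper22.LTSubst
open Groth.Agent.Lib.Helper22.PSApprox Groth.Agent.Lib.Helper22.LTCore Groth.Agent.Lib.Helper22.LTSubst

set_option autoImplicit false
universe u
open LubinTate

namespace Groth.Agent.S15051

/-- Let O be a discrete valuation ring with finite residue field of cardinality q, π a uniformizer of O,
and f = πT + T^q ∈ O[[T]]; let F be a one-dimensional formal group law over O for which f is an
endomorphism, f(F(X,Y)) = F(f(X), f(Y)), and g ∈ O[[T]] a power series with zero constant term which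
commutes with f, g(f(T)) = f(g(T)). Then g is an endomorphism of F, that is g(F(X,Y)) = F(g(X),
g(Y)); so α ↦ [α] maps O into the endomorphisms of the Lubin–Tate formal group. (The published
statement is for the ring of integers of a finite extension of ℚ_p or of 𝔽_q((X)); completeness is
not used and any discrete valuation ring with finite residue field is allowed here.) -/
theorem result (O : Type u) [CommRing O] [IsDomain O] [IsDiscreteValuationRing O]
    [Finite (IsLocalRing.ResidueField O)] (π : O) (hπ : Irreducible π) (f : PowerSeries O)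
    (hf : f = π • PowerSeries.X + PowerSeries.X ^ Nat.card (IsLocalRing.ResidueField O))
    (F : FormalGroup O)
    (hF : PowerSeries.subst F.toPowerSeries f =
        MvPowerSeries.subst (fun i : Fin 2 => PowerSeries.subst (MvPowerSeries.X i : MvPowerSeries (Fin 2) O) f) F.toPowerSeries)
    (g : PowerSeries O) (hg0 : g.constantCoeff = 0)
    (hgf : PowerSeries.subst g f = PowerSeries.subst f g) :
    PowerSeries.subst F.toPowerSeries g =
      MvPowerSeries.subst (fun i : Fin 2 => PowerSeries.subst (MvPowerSeries.X i : MvPowerSeries (Fin 2) O) g)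
        F.toPowerSeries := by
  classical
  have hmax : IsLocalRing.maximalIdeal O = Ideal.span {π} := hπ.maximalIdeal_eq
  have hmem : π ∈ IsLocalRing.maximalIdeal O := by
    rw [hmax]; exact Ideal.mem_span_singleton_self π
  have hπ0 : π ≠ 0 := hπ.ne_zero
  have hfl : f = ltf π (Nat.card (IsLocalRing.ResidueField O)) := hf
  have hq2 := two_le_card (O := O)
  have hf0 : (ltf π (Nat.card (IsLocalRing.ResidueField O))).constantCoeff = 0 :=
    ltf_const π _ (by omega)
  rw [hfl] at hF hgf
  have hcg := (comm_iff_one _ g).mpr hgf
  have hcF : Comm (ltf π (Nat.card (IsLocalRing.ResidueField O))) F.toPowerSeries := hF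
  have hX0 : ∀ i : Fin 2, MvPowerSeries.constantCoeff
      (PowerSeries.subst (MvPowerSeries.X i : MvPowerSeries (Fin 2) O) g) = 0 := fun i =>
    PowerSeries.constantCoeff_subst_eq_zero (by simp) g hg0
  refine LT_comm_unique (σ := Fin 2) π hmem hπ0 _ _ ?_ ?_ ?_ ?_ ?_
  · exact MvPowerSeries.constantCoeff_subst_eq_zero
      (MvPowerSeries.hasSubst_of_constantCoeff_zero hX0) hX0 F.zero_constantCoeff
  · exact PowerSeries.constantCoeff_subst_eq_zero F.zero_constantCoeff g hg0
  · intro i
    rw [coeff_single_psubst F.zero_constantCoeff g _ (by simp),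
      coeff_single_subst_two hX0 _ _ (by simp), F.lin_coeff_X, F.lin_coeff_Y,
      coeff_single_psubst (by simp) g _ (by simp), coeff_single_psubst (by simp) g _ (by simp)]
    fin_cases i
    · simp [MvPowerSeries.coeff_index_single_X, F.lin_coeff_X]
    · simp [MvPowerSeries.coeff_index_single_X, F.lin_coeff_Y]
  · refine comm_subst (σ := Fin 2) (τ := Fin 2) _ hf0 F.zero_constantCoeff hcF hX0 ?_
    intro i
    exact comm_subst (σ := Unit) (τ := Fin 2) _ hf0 hg0 hcg
      (a := fun _ => (MvPowerSeries.X i : MvPowerSeries (Fin 2) O)) (fun _ => by simp)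
      (fun _ => comm_X _ hf0 i)
  · exact comm_subst (σ := Unit) (τ := Fin 2) _ hf0 hg0 hcg (a := fun _ => F.toPowerSeries)
      (fun _ => F.zero_constantCoeff) (fun _ => hcF)

end Groth.Agent.S15051
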