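import Groth.Statements.S15052
-- import your own Groth.Agent.* helpers here
import Mathlib
import Groth.Agent.Lib.Helper22.LTLog
open Groth.Agent.Lib.Helper22.PSApprox Groth.Agent.Lib.Helper22.LTCore Groth.Agent.Lib.Helper22.LTSubst Groth.Agent.Lib.Helper22.LTLog

set_option autoImplicit false
universe u
open LubinTate

namespace Groth.Agent.S15052

/-- Let O be a discrete valuation ring with finite residue field of cardinality q, π a uniformizer of O,
and f = πT + T^q ∈ O[[T]]; let K be the fraction field of O and F a one-dimensional formal group law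
over O for which f is an endomorphism, f(F(X,Y)) = F(f(X), f(Y)). Then there is a unique power
series ℓ ∈ K[[T]] with zero constant term and linear coefficient 1 such that ℓ(f(T)) = π·ℓ(T); this
logarithm is a homomorphism to the additive formal group, ℓ(F(T,S)) = ℓ(T) + ℓ(S), and it is
O-linear in the sense that ℓ(g(T)) = α·ℓ(T) for every α ∈ O and every series g ∈ O[[T]] with zero
constant term and linear coefficient α commuting with f. (The published statement is for the ring of
integers of a finite extension of ℚ_p; completeness is not used and any discrete valuation ring with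
finite residue field is allowed here.) -/
theorem result (O : Type u) [CommRing O] [IsDomain O] [IsDiscreteValuationRing O]
    [Finite (IsLocalRing.ResidueField O)] (K : Type u) [Field K] [Algebra O K] [IsFractionRing O K]
    (π : O) (hπ : Irreducible π) (f : PowerSeries O)
    (hf : f = π • PowerSeries.X + PowerSeries.X ^ Nat.card (IsLocalRing.ResidueField O))
    (F : FormalGroup O)
    (hF : PowerSeries.subst F.toPowerSeries f =
        MvPowerSeries.subst (fun i : Fin 2 => PowerSeries.subst (MvPowerSeries.X i : MvPowerSeries (Fin 2) O) f) F.toPowerSeries) :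
    ∃ ℓ : PowerSeries K, (ℓ.constantCoeff = 0 ∧ ℓ.coeff 1 = 1 ∧
      PowerSeries.subst (PowerSeries.map (algebraMap O K) f) ℓ = algebraMap O K π • ℓ) ∧
      (∀ ℓ' : PowerSeries K, ℓ'.constantCoeff = 0 → ℓ'.coeff 1 = 1 →
        PowerSeries.subst (PowerSeries.map (algebraMap O K) f) ℓ' = algebraMap O K π • ℓ' → ℓ' = ℓ) ∧
      PowerSeries.subst ((F.toPowerSeries).map (algebraMap O K)) ℓ =
        PowerSeries.subst (MvPowerSeries.X (0 : Fin 2) : MvPowerSeries (Fin 2) K) ℓ +
          PowerSeries.subst (MvPowerSeries.X (1 : Fin 2) : MvPowerSeries (Fin 2) K) ℓ ∧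
      (∀ (α : O) (g : PowerSeries O), g.constantCoeff = 0 → g.coeff 1 = α →
        PowerSeries.subst g f = PowerSeries.subst f g →
        PowerSeries.subst (PowerSeries.map (algebraMap O K) g) ℓ = algebraMap O K α • ℓ) := by
  classical
  have hfl : f = ltf π (Nat.card (IsLocalRing.ResidueField O)) := hf
  have hq2 := two_le_card (O := O)
  set q := Nat.card (IsLocalRing.ResidueField O) with hqdef
  have hq1 : 1 ≤ q := by omega
  set πK : K := algebraMap O K π with hπK
  have hinj : Function.Injective (algebraMap O K) := IsFractionRing.injective O K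
  have hf0 : (ltf π q).constantCoeff = 0 := ltf_const π _ hq1
  have hfK0 : (ltf πK q).constantCoeff = 0 := ltf_const πK _ hq1
  have hmapf : PowerSeries.map (algebraMap O K) f = ltf πK q := by
    rw [hfl]
    unfold ltf
    rw [map_add, map_pow, PowerSeries.map_X, PowerSeries.smul_eq_C_mul, map_mul, PowerSeries.map_C,
      PowerSeries.map_X, ← PowerSeries.smul_eq_C_mul]
  rw [hmapf]
  -- π^m ≠ π
  have hne : ∀ m, 2 ≤ m → πK ^ m - πK ≠ 0 := by
    intro m hm h
    have h1 : algebraMap O K (π ^ m) = algebraMap O K π := by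
      rw [map_pow]; exact sub_eq_zero.mp h
    have h2 : π ^ m = π := hinj h1
    have h3 : π * (π ^ (m - 1) - 1) = 0 := by
      rw [mul_sub, mul_one, ← pow_succ', Nat.sub_add_cancel (by omega), h2, sub_self]
    rcases mul_eq_zero.mp h3 with h4 | h4
    · exact hπ.ne_zero h4
    · exact hπ.not_isUnit (IsUnit.of_pow_eq_one (sub_eq_zero.mp h4) (by omega))
  have hu1 : ∀ m, 2 ≤ m → IsUnit (πK ^ m - πK) := fun m hm => (hne m hm).isUnit
  have hu2 : ∀ m, 2 ≤ m → ∀ c, (πK ^ m - πK) * c = 0 → c = 0 := fun m hm c hc =>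
    (mul_eq_zero.mp hc).resolve_left (hne m hm)
  have hcoe : ∀ g : PowerSeries K, PowerSeries.coeff 1 g =
      MvPowerSeries.coeff (Finsupp.single () 1) g := fun g => rfl
  have hX0 : MvPowerSeries.constantCoeff ((PowerSeries.X : PowerSeries K)) = 0 := by
    change PowerSeries.constantCoeff (PowerSeries.X : PowerSeries K) = 0
    simp
  obtain ⟨ℓ, hℓ2, hℓL⟩ : ∃ ℓ : PowerSeries K, OrdGE 2 ((ℓ : MvPowerSeries Unit K) -
      (PowerSeries.X : PowerSeries K)) ∧ Lam πK q (ℓ : MvPowerSeries Unit K) = 0 :=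
    log_exists (σ := Unit) πK q hq2 hu1 (PowerSeries.X : PowerSeries K) (ordGE_one_iff.mpr hX0)
  rw [ordGE_two_iff] at hℓ2
  have hℓ0 : ℓ.constantCoeff = 0 := by
    have := hℓ2.1
    rw [map_sub, hX0, sub_zero] at this
    exact this
  have hℓ1 : ℓ.coeff 1 = 1 := by
    have := hℓ2.2 ()
    rw [map_sub, sub_eq_zero, ← hcoe, ← hcoe] at this
    rw [this]; simp
  have hℓeq : PowerSeries.subst (ltf πK q) ℓ = πK • ℓ := (lam_iff_one πK q ℓ).mp hℓL
  have hcFK : Comm (ltf πK q) (MvPowerSeries.map (algebraMap O K) F.toPowerSeries) := by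
    have h1 : Comm (ltf π q) F.toPowerSeries := by rw [← hfl]; exact hF
    have := Comm.map (algebraMap O K) hf0 F.zero_constantCoeff h1
    rwa [← hfl, hmapf] at this
  have hFK0 : MvPowerSeries.constantCoeff (MvPowerSeries.map (algebraMap O K) F.toPowerSeries)
      = 0 := by
    rw [MvPowerSeries.constantCoeff_map, F.zero_constantCoeff, map_zero]
  refine ⟨ℓ, ⟨hℓ0, hℓ1, hℓeq⟩, ?_, ?_, ?_⟩
  · intro ℓ' h0' h1' heq'
    refine log_unique (σ := Unit) πK q hq2 hu2 ℓ ℓ' hℓ0 h0' ?_ hℓL ((lam_iff_one πK q ℓ').mpr heq')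
    intro i
    rw [← hcoe, ← hcoe, h1', hℓ1]
  · have hXi0 : ∀ i : Fin 2, MvPowerSeries.constantCoeff
        (MvPowerSeries.X i : MvPowerSeries (Fin 2) K) = 0 := fun i => by simp
    have hA : ∀ i : Fin 2, Lam πK q (PowerSeries.subst
        (MvPowerSeries.X i : MvPowerSeries (Fin 2) K) ℓ) = 0 := fun i =>
      lam_psubst πK q hq1 ℓ hℓeq _ (hXi0 i) (comm_X _ hfK0 i)
    refine log_unique (σ := Fin 2) πK q hq2 hu2 _ _ ?_ ?_ ?_ ?_ ?_
    · rw [map_add, PowerSeries.constantCoeff_subst_eq_zero (hXi0 0) ℓ hℓ0,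
        PowerSeries.constantCoeff_subst_eq_zero (hXi0 1) ℓ hℓ0, add_zero]
    · exact PowerSeries.constantCoeff_subst_eq_zero hFK0 ℓ hℓ0
    · intro i
      rw [coeff_single_psubst hFK0 ℓ _ (by simp), map_add,
        coeff_single_psubst (hXi0 0) ℓ _ (by simp), coeff_single_psubst (hXi0 1) ℓ _ (by simp),
        hℓ1, MvPowerSeries.coeff_map]
      fin_cases i
      · simp [MvPowerSeries.coeff_index_single_X, F.lin_coeff_X]
      · simp [MvPowerSeries.coeff_index_single_X, F.lin_coeff_Y]
    · rw [Lam_add πK q hq1, hA 0, hA 1, add_zero]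
    · exact lam_psubst πK q hq1 ℓ hℓeq _ hFK0 hcFK
  · intro α g hg0 hg1 hgf
    have hgK0 : MvPowerSeries.constantCoeff (PowerSeries.map (algebraMap O K) g) = 0 := by
      change PowerSeries.constantCoeff (PowerSeries.map (algebraMap O K) g) = 0
      rw [← PowerSeries.coeff_zero_eq_constantCoeff_apply, PowerSeries.coeff_map,
        PowerSeries.coeff_zero_eq_constantCoeff_apply, hg0, map_zero]
    have hcg : Comm (ltf π q) (g : MvPowerSeries Unit O) := by
      rw [← hfl]; exact (comm_iff_one _ g).mpr hgf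
    have hcgK : Comm (ltf πK q) (PowerSeries.map (algebraMap O K) g : MvPowerSeries Unit K) := by
      have := Comm.map (σ := Unit) (algebraMap O K) hf0 hg0 hcg
      rwa [← hfl, hmapf] at this
    refine log_unique (σ := Unit) πK q hq2 hu2 _ _ ?_ ?_ ?_ ?_ ?_
    · change PowerSeries.constantCoeff (algebraMap O K α • ℓ) = 0
      simp [hℓ0]
    · exact PowerSeries.constantCoeff_subst_eq_zero hgK0 ℓ hℓ0
    · intro i
      rw [coeff_single_psubst hgK0 ℓ _ (by simp), hℓ1, ← hcoe, ← hcoe, PowerSeries.coeff_map, hg1]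
      simp [hℓ1, Algebra.smul_def]
    · rw [Lam_smul πK q hq1, hℓL, smul_zero]
    · exact lam_psubst πK q hq1 ℓ hℓeq _ hgK0 hcgK

end Groth.Agent.S15052
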