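import Groth.Statements.S15058
-- import your own Groth.Agent.* helpers here
import Mathlib
import Groth.Agent.Lib.Helper22.PSApprox
open Groth.Agent.Lib.Helper22.PSApprox MvPowerSeries

set_option autoImplicit false
universe u
open FmlGrp

namespace Groth.Agent.S15058

/-- Let R be a commutative ring and F(X,Y) ∈ R[[X,Y]] a one-dimensional formal group law (zero constant
term, linear part X + Y, associative). Then there is a power series g(X) ∈ R[[X]] with zero constant
term which is a two-sided inverse for F, F(X, g(X)) = 0 = F(g(X), X), and it is unique: every power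
series with zero constant term which is a right inverse or a left inverse equals g. (The published
text proves this for formal group laws of any finite dimension with coefficients in a complete
Noetherian local ring; the argument is a formal degree-by-degree construction, and this row states
the one-dimensional case over an arbitrary commutative ring.) -/
theorem result (R : Type u) [CommRing R] (F : FormalGroup R) :
    ∃ g : PowerSeries R, g.constantCoeff = 0 ∧
      F.toPowerSeries.subst ![PowerSeries.X, g] = (0 : PowerSeries R) ∧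
      F.toPowerSeries.subst ![g, PowerSeries.X] = (0 : PowerSeries R) ∧
      ∀ k : PowerSeries R, k.constantCoeff = 0 →
        (F.toPowerSeries.subst ![PowerSeries.X, k] = (0 : PowerSeries R) ∨
          F.toPowerSeries.subst ![k, PowerSeries.X] = (0 : PowerSeries R)) → k = g := by
  classical
  have hlin0 := F.lin_coeff_X
  have hlin1 := F.lin_coeff_Y
  have hF0 : OrdGE 1 F.toPowerSeries := ordGE_one_iff.mpr F.zero_constantCoeff
  have hX : OrdGE 1 (PowerSeries.X : PowerSeries R) := ordGE_one_iff.mpr (by
    change PowerSeries.constantCoeff (PowerSeries.X : PowerSeries R) = 0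
    simp)
  -- right inverse
  have hR : ∃ g : PowerSeries R, OrdGE 1 g ∧
      F.toPowerSeries.subst ![PowerSeries.X, g] = (0 : PowerSeries R) := by
    have hvec : ∀ g : PowerSeries R, OrdGE 1 g → ∀ i, OrdGE 1 ((![PowerSeries.X, g] :
        Fin 2 → MvPowerSeries Unit R) i) := by
      intro g hg i
      fin_cases i
      · exact hX
      · exact hg
    suffices h : ∃ g : MvPowerSeries Unit R, OrdGE 1 (g - 0) ∧
        F.toPowerSeries.subst (![PowerSeries.X, g] : Fin 2 → MvPowerSeries Unit R) = 0 by
      obtain ⟨g, hg1, hg2⟩ := h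
      exact ⟨g, by simpa using hg1, hg2⟩
    refine succ_approx (τ := Unit) (R := R)
      (fun g => F.toPowerSeries.subst (![PowerSeries.X, g] : Fin 2 → MvPowerSeries Unit R))
      (fun _ => 1) 1 le_rfl ?_ ?_ 0 (OrdGE.zero 1) ?_
    · intro g D hg m hm hD e he
      have hsplit : (![PowerSeries.X, g + D] : Fin 2 → MvPowerSeries Unit R) =
          ![PowerSeries.X, g] + ![0, D] := by
        ext i : 1
        fin_cases i <;> simp
      have hb : ∀ i, OrdGE m ((![0, D] : Fin 2 → MvPowerSeries Unit R) i) := by
        intro i
        fin_cases i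
        · exact OrdGE.zero m
        · exact hD
      show coeff e (F.toPowerSeries.subst (![PowerSeries.X, g + D] :
        Fin 2 → MvPowerSeries Unit R)) = _
      rw [hsplit, coeff_subst_add hm (hvec g hg) hb F.toPowerSeries e he, Fin.sum_univ_two]
      simp [hlin0, hlin1]
    · intro g hg m hm hΨ e he
      exact ⟨-coeff e (F.toPowerSeries.subst (![PowerSeries.X, g] :
        Fin 2 → MvPowerSeries Unit R)), by simp⟩
    · exact OrdGE.subst (hvec 0 (OrdGE.zero 1)) hF0
  -- left inverse
  have hL : ∃ g : PowerSeries R, OrdGE 1 g ∧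
      F.toPowerSeries.subst ![g, PowerSeries.X] = (0 : PowerSeries R) := by
    have hvec : ∀ g : PowerSeries R, OrdGE 1 g → ∀ i, OrdGE 1 ((![g, PowerSeries.X] :
        Fin 2 → MvPowerSeries Unit R) i) := by
      intro g hg i
      fin_cases i
      · exact hg
      · exact hX
    suffices h : ∃ g : MvPowerSeries Unit R, OrdGE 1 (g - 0) ∧
        F.toPowerSeries.subst (![g, PowerSeries.X] : Fin 2 → MvPowerSeries Unit R) = 0 by
      obtain ⟨g, hg1, hg2⟩ := h
      exact ⟨g, by simpa using hg1, hg2⟩
    refine succ_approx (τ := Unit) (R := R)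
      (fun g => F.toPowerSeries.subst (![g, PowerSeries.X] : Fin 2 → MvPowerSeries Unit R))
      (fun _ => 1) 1 le_rfl ?_ ?_ 0 (OrdGE.zero 1) ?_
    · intro g D hg m hm hD e he
      have hsplit : (![g + D, PowerSeries.X] : Fin 2 → MvPowerSeries Unit R) =
          ![g, PowerSeries.X] + ![D, 0] := by
        ext i : 1
        fin_cases i <;> simp
      have hb : ∀ i, OrdGE m ((![D, 0] : Fin 2 → MvPowerSeries Unit R) i) := by
        intro i
        fin_cases i
        · exact hD
        · exact OrdGE.zero m
      show coeff e (F.toPowerSeries.subst (![g + D, PowerSeries.X] :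
        Fin 2 → MvPowerSeries Unit R)) = _
      rw [hsplit, coeff_subst_add hm (hvec g hg) hb F.toPowerSeries e he, Fin.sum_univ_two]
      simp [hlin0, hlin1]
    · intro g hg m hm hΨ e he
      exact ⟨-coeff e (F.toPowerSeries.subst (![g, PowerSeries.X] :
        Fin 2 → MvPowerSeries Unit R)), by simp⟩
    · exact OrdGE.subst (hvec 0 (OrdGE.zero 1)) hF0
  obtain ⟨g, hg1, hg2⟩ := hR
  obtain ⟨g', hg1', hg2'⟩ := hL
  have hsub : ∀ k : PowerSeries R, k.constantCoeff = 0 → PowerSeries.HasSubst k := fun k hk =>
    PowerSeries.HasSubst.of_constantCoeff_zero' hk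
  have hg0 : g.constantCoeff = 0 := ordGE_one_iff.mp hg1
  have hg0' : g'.constantCoeff = 0 := ordGE_one_iff.mp hg1'
  have hXs : PowerSeries.HasSubst (PowerSeries.X : PowerSeries R) := hsub _ (by simp)
  -- right inverses are equal to g'
  have huniqR : ∀ k : PowerSeries R, k.constantCoeff = 0 →
      F.toPowerSeries.subst ![PowerSeries.X, k] = (0 : PowerSeries R) → k = g' := by
    intro k hk0 hk
    have h1 := F.assoc' (σ := Unit) (hsub g' hg0') hXs (hsub k hk0)
    rw [hg2', hk] at h1
    rw [F.zero_add (hsub k hk0), F.add_zero (hsub g' hg0')] at h1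
    exact h1
  have huniqL : ∀ k : PowerSeries R, k.constantCoeff = 0 →
      F.toPowerSeries.subst ![k, PowerSeries.X] = (0 : PowerSeries R) → k = g := by
    intro k hk0 hk
    have h1 := F.assoc' (σ := Unit) (hsub k hk0) hXs (hsub g hg0)
    rw [hg2, hk] at h1
    rw [F.zero_add (hsub g hg0), F.add_zero (hsub k hk0)] at h1
    exact h1.symm
  have hgg : g = g' := huniqR g hg0 hg2
  refine ⟨g, hg0, hg2, by rw [hgg]; exact hg2', ?_⟩
  intro k hk0 hk
  rcases hk with hk | hk
  · rw [hgg]; exact huniqR k hk0 hk
  · exact huniqL k hk0 hk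

end Groth.Agent.S15058
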