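import Groth.Statements.S15060
-- import your own Groth.Agent.* helpers here
import Mathlib
import Groth.Agent.Lib.Helper22.LTSubst
open Groth.Agent.Lib.Helper22.PSApprox Groth.Agent.Lib.Helper22.LTCore Groth.Agent.Lib.Helper22.LTSubst

set_option autoImplicit false
universe u
open LubinTate

namespace Groth.Agent.S15060

/-- Let O be a discrete valuation ring with finite residue field of cardinality q, π a uniformizer of O,
f = πT + T^q ∈ O[[T]], and F a one-dimensional formal group law over O for which f is an
endomorphism, f(F(X,Y)) = F(f(X), f(Y)). For α ∈ O write [α] for a power series with zero constant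
term and linear coefficient α commuting with f (it is unique). Then for all α, β ∈ O and all such
series [α], [β], [αβ], [α+β] one has [α]([β](T)) = [αβ](T) and F([α](T), [β](T)) = [α+β](T): the map
α ↦ [α] is a ring homomorphism from O to the endomorphisms of F with their formal-group addition and
composition. (The published statement is for the ring of integers of a finite extension of ℚ_p or of
𝔽_q((X)); completeness is not used and any discrete valuation ring with finite residue field is
allowed here.) -/
theorem result (O : Type u) [CommRing O] [IsDomain O] [IsDiscreteValuationRing O]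
    [Finite (IsLocalRing.ResidueField O)] (π : O) (hπ : Irreducible π) (f : PowerSeries O)
    (hf : f = π • PowerSeries.X + PowerSeries.X ^ Nat.card (IsLocalRing.ResidueField O))
    (F : FormalGroup O)
    (hF : PowerSeries.subst F.toPowerSeries f =
        MvPowerSeries.subst (fun i : Fin 2 => PowerSeries.subst (MvPowerSeries.X i : MvPowerSeries (Fin 2) O) f)
          F.toPowerSeries)
    (α β : O) (gα gβ gαβ gs : PowerSeries O)
    (hα0 : gα.constantCoeff = 0) (hα1 : gα.coeff 1 = α) (hαf : PowerSeries.subst gα f = PowerSeries.subst f gα)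
    (hβ0 : gβ.constantCoeff = 0) (hβ1 : gβ.coeff 1 = β) (hβf : PowerSeries.subst gβ f = PowerSeries.subst f gβ)
    (hαβ0 : gαβ.constantCoeff = 0) (hαβ1 : gαβ.coeff 1 = α * β)
    (hαβf : PowerSeries.subst gαβ f = PowerSeries.subst f gαβ)
    (hs0 : gs.constantCoeff = 0) (hs1 : gs.coeff 1 = α + β) (hsf : PowerSeries.subst gs f = PowerSeries.subst f gs) :
    PowerSeries.subst gβ gα = gαβ ∧ F.toPowerSeries.subst ![gα, gβ] = gs := by
  classical
  have hmax : IsLocalRing.maximalIdeal O = Ideal.span {π} := hπ.maximalIdeal_eq
  have hmem : π ∈ IsLocalRing.maximalIdeal O := by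
    rw [hmax]; exact Ideal.mem_span_singleton_self π
  have hπ0 : π ≠ 0 := hπ.ne_zero
  have hfl : f = ltf π (Nat.card (IsLocalRing.ResidueField O)) := hf
  have hq2 := two_le_card (O := O)
  have hf0 : (ltf π (Nat.card (IsLocalRing.ResidueField O))).constantCoeff = 0 :=
    ltf_const π _ (by omega)
  rw [hfl] at hF hαf hβf hαβf hsf
  have hcoe : ∀ g : PowerSeries O, PowerSeries.coeff 1 g =
      MvPowerSeries.coeff (Finsupp.single () 1) g := fun g => rfl
  have hcα := (comm_iff_one _ gα).mpr hαf
  have hcβ := (comm_iff_one _ gβ).mpr hβf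
  have hcαβ := (comm_iff_one _ gαβ).mpr hαβf
  have hcs := (comm_iff_one _ gs).mpr hsf
  have hcF : Comm (ltf π (Nat.card (IsLocalRing.ResidueField O))) F.toPowerSeries := hF
  constructor
  · refine LT_comm_unique (σ := Unit) π hmem hπ0 gαβ (PowerSeries.subst gβ gα) hαβ0
      (PowerSeries.constantCoeff_subst_eq_zero hβ0 gα hα0) ?_ hcαβ ?_
    · intro i
      rw [coeff_single_psubst hβ0 gα _ (by simp), ← hcoe, ← hcoe, hα1, hβ1, hαβ1]
    · exact comm_subst (σ := Unit) (τ := Unit) _ hf0 hα0 hcα (a := fun _ => gβ)
        (fun _ => hβ0) (fun _ => hcβ)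
  · have ha0 : ∀ i, MvPowerSeries.constantCoeff ((![gα, gβ] : Fin 2 → MvPowerSeries Unit O) i)
        = 0 := by
      intro i; fin_cases i
      · exact hα0
      · exact hβ0
    refine LT_comm_unique (σ := Unit) π hmem hπ0 gs
      (F.toPowerSeries.subst (![gα, gβ] : Fin 2 → MvPowerSeries Unit O)) hs0
      (MvPowerSeries.constantCoeff_subst_eq_zero
        (MvPowerSeries.hasSubst_of_constantCoeff_zero ha0) ha0 F.zero_constantCoeff) ?_ hcs ?_
    · intro i
      rw [coeff_single_subst_two ha0 _ _ (by simp), F.lin_coeff_X, F.lin_coeff_Y, ← hcoe]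
      show 1 * PowerSeries.coeff 1 gα + 1 * PowerSeries.coeff 1 gβ = PowerSeries.coeff 1 gs
      rw [hα1, hβ1, hs1]; ring
    · refine comm_subst (σ := Fin 2) (τ := Unit) _ hf0 F.zero_constantCoeff hcF ha0 ?_
      intro i; fin_cases i
      · exact hcα
      · exact hcβ

end Groth.Agent.S15060
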