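import Groth.Statements.S15061
import Groth.Agent.Lib.Helper19.ConnEt4

set_option autoImplicit false
universe u
open scoped TensorProduct
open Hopf

namespace Groth.Agent.S15061

/-- Let R be a henselian Noetherian local ring and A a commutative Hopf algebra over R which is finite
and flat as an R-module (a finite flat R-group G = Spec A, not assumed commutative); let e ∈ A be an
idempotent with ε(e) = 1 such that A/(1 − e) is a local ring, so that G⁰ = Spec A/(1 − e) is the
connected component of the unit section, and let B ⊆ A be the subalgebra of functions invariant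
under right translation by G⁰: the equaliser of a ↦ (id ⊗ π)(Δ a) and a ↦ a ⊗ 1 into A ⊗_R A/(1 −
e). Then B is a sub-Hopf-algebra of A (comultiplication and antipode preserve it), B is finite étale
over R, A is faithfully flat over B, and the ideal of A generated by the elements of B killed by the
counit is exactly (1 − e). In other words G^ét := Spec B is a finite étale R-group, G → G^ét is a
faithfully flat homomorphism, and its kernel is G⁰: the sequence 1 → G⁰ → G → G^ét → 1 is exact. -/
theorem result (R : Type u) [CommRing R] [HenselianLocalRing R] [IsNoetherianRing R]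
    (A : Type u) [CommRing A] [HopfAlgebra R A] [Module.Finite R A] [Module.Flat R A]
    (e : A) (he : IsIdempotentElem e) (hε : Bialgebra.counitAlgHom R A e = 1)
    [IsLocalRing (A ⧸ Ideal.span ({1 - e} : Set A))] :
    SGA3.IsHopfSubalgebra R A
        (AlgHom.equalizer
          ((Algebra.TensorProduct.map (AlgHom.id R A) (Ideal.Quotient.mkₐ R (Ideal.span ({1 - e} : Set A)))).comp
            (Bialgebra.comulAlgHom R A))
          (Algebra.TensorProduct.includeLeft : A →ₐ[R] A ⊗[R] (A ⧸ Ideal.span ({1 - e} : Set A)))) ∧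
      Algebra.Etale R ↥(AlgHom.equalizer
          ((Algebra.TensorProduct.map (AlgHom.id R A) (Ideal.Quotient.mkₐ R (Ideal.span ({1 - e} : Set A)))).comp
            (Bialgebra.comulAlgHom R A))
          (Algebra.TensorProduct.includeLeft : A →ₐ[R] A ⊗[R] (A ⧸ Ideal.span ({1 - e} : Set A)))) ∧
      Module.FaithfullyFlat ↥(AlgHom.equalizer
          ((Algebra.TensorProduct.map (AlgHom.id R A) (Ideal.Quotient.mkₐ R (Ideal.span ({1 - e} : Set A)))).comp
            (Bialgebra.comulAlgHom R A))
          (Algebra.TensorProduct.includeLeft : A →ₐ[R] A ⊗[R] (A ⧸ Ideal.span ({1 - e} : Set A)))) A ∧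
      SGA3.augIdealSpan R A
        (AlgHom.equalizer
          ((Algebra.TensorProduct.map (AlgHom.id R A) (Ideal.Quotient.mkₐ R (Ideal.span ({1 - e} : Set A)))).comp
            (Bialgebra.comulAlgHom R A))
          (Algebra.TensorProduct.includeLeft : A →ₐ[R] A ⊗[R] (A ⧸ Ideal.span ({1 - e} : Set A)))) =
        Ideal.span ({1 - e} : Set A) := by
  haveI : Module.Free R A := Module.free_of_flat_of_isLocalRing
  haveI hJ : (Ideal.span ({1 - e} : Set A)).IsHopfIdeal R :=
    Groth.Agent.Lib.Helper19.ConnEt.isHopfIdeal e he hε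
  haveI : Module.Projective R (A ⧸ Ideal.span ({1 - e} : Set A)) :=
    Groth.Agent.Lib.Helper19.ConnEt.projective_quot e he
  obtain ⟨hfin, hproj, -⟩ := Groth.Agent.Lib.Helper19.KT.quot_main (R := R)
    (Ideal.span ({1 - e} : Set A))
  obtain ⟨hBfin, hBproj⟩ := Groth.Agent.Lib.Helper19.KT.quot_coinv (R := R)
    (Ideal.span ({1 - e} : Set A))
  obtain ⟨lam, hlam⟩ := Groth.Agent.Lib.Helper19.ConnEt.quot_split (R := R)
    (Ideal.span ({1 - e} : Set A))
  haveI := hfin
  haveI := hproj
  haveI := hBfin
  haveI := hBproj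
  have hleft := fun b hb => Groth.Agent.Lib.Helper19.ConnEt.lamL_eq_of_mem e he hε (b := b) hb
  have hcl := fun b hb => Groth.Agent.Lib.Helper19.ConnEt.comul_mem_range
    (Ideal.span ({1 - e} : Set A)) hleft lam hlam (b := b) hb
  have hS := fun b hb => Groth.Agent.Lib.Helper19.ConnEt.antipode_mem e he hε (b := b) hb
  have heB := Groth.Agent.Lib.Helper19.ConnEt.e_mem e he hε
  show SGA3.IsHopfSubalgebra R A
      (Groth.Agent.Lib.Helper19.KT.coinv
        (Groth.Agent.Lib.Helper19.KT.rhoQ (R := R) (Ideal.span ({1 - e} : Set A)))) ∧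
    Algebra.Etale R ↥(Groth.Agent.Lib.Helper19.KT.coinv
        (Groth.Agent.Lib.Helper19.KT.rhoQ (R := R) (Ideal.span ({1 - e} : Set A)))) ∧
    Module.FaithfullyFlat ↥(Groth.Agent.Lib.Helper19.KT.coinv
        (Groth.Agent.Lib.Helper19.KT.rhoQ (R := R) (Ideal.span ({1 - e} : Set A)))) A ∧
    SGA3.augIdealSpan R A (Groth.Agent.Lib.Helper19.KT.coinv
        (Groth.Agent.Lib.Helper19.KT.rhoQ (R := R) (Ideal.span ({1 - e} : Set A)))) =
      Ideal.span ({1 - e} : Set A)
  refine ⟨⟨hcl, hS⟩, ?_, ?_, Groth.Agent.Lib.Helper19.ConnEt.augIdealSpan_eq e he hε⟩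
  · haveI := Groth.Agent.Lib.Helper19.ConnEt.formallyUnramified_coinv e he hε hcl hS hleft heB
      lam hlam
    haveI : Module.FinitePresentation R ↥(Groth.Agent.Lib.Helper19.KT.coinv
        (Groth.Agent.Lib.Helper19.KT.rhoQ (R := R) (Ideal.span ({1 - e} : Set A)))) :=
      Module.finitePresentation_of_projective R _
    exact Algebra.Etale.of_formallyUnramified_of_flat
  · exact Groth.Agent.Lib.Helper19.ConnEt.faithfullyFlat_of_finite Subtype.val_injective

end Groth.Agent.S15061
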