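import Groth.Statements.S15062
import Groth.Agent.Lib.Helper26.HopfUnitComp
import Groth.Agent.Lib.Helper26.PairHensConstr

set_option autoImplicit false
universe u
open scoped TensorProduct
open Hopf

namespace Groth.Agent.S15062

/-- Let R be a henselian Noetherian local ring and A a commutative Hopf algebra over R which is finite
and flat as an R-module (a finite flat R-group G = Spec A, not assumed commutative); let e ∈ A be an
idempotent with ε(e) = 1 such that A/(1 − e) is a local ring, so that G⁰ = Spec A/(1 − e) is the
connected component of the unit section, and let B ⊆ A be the subalgebra of functions invariant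
under right translation by G⁰: the equaliser of a ↦ (id ⊗ π)(Δ a) and a ↦ a ⊗ 1 into A ⊗_R A/(1 − e)
(so Spec B = G^ét). Then: (2) for every commutative Hopf algebra C over R which is finite étale over
R (a finite étale R-group H) and every bialgebra homomorphism φ : C → A (a homomorphism G → H), the
image of φ lies in B — the homomorphism factors (necessarily uniquely, A being faithfully flat over
B) through G → G^ét; (3) for every commutative Hopf algebra D over R which is finite and flat over R
and a local ring (a connected finite flat R-group H) and every bialgebra homomorphism ψ : A → D (a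
homomorphism H → G), ψ(e) = 1, i.e. ψ kills the ideal (1 − e) and the homomorphism factors
(uniquely) through G⁰ → G. -/
theorem result (R : Type u) [CommRing R] [HenselianLocalRing R] [IsNoetherianRing R]
    (A : Type u) [CommRing A] [HopfAlgebra R A] [Module.Finite R A] [Module.Flat R A]
    (e : A) (he : IsIdempotentElem e) (hε : Bialgebra.counitAlgHom R A e = 1)
    [IsLocalRing (A ⧸ Ideal.span ({1 - e} : Set A))] :
    (∀ (C : Type u) [CommRing C] [HopfAlgebra R C] [Module.Finite R C] [Algebra.Etale R C] (φ : C →ₐc[R] A) (c : C),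
        φ c ∈ (AlgHom.equalizer
          ((Algebra.TensorProduct.map (AlgHom.id R A) (Ideal.Quotient.mkₐ R (Ideal.span ({1 - e} : Set A)))).comp
            (Bialgebra.comulAlgHom R A))
          (Algebra.TensorProduct.includeLeft : A →ₐ[R] A ⊗[R] (A ⧸ Ideal.span ({1 - e} : Set A))))) ∧
      ∀ (D : Type u) [CommRing D] [HopfAlgebra R D] [Module.Finite R D] [Module.Flat R D] [IsLocalRing D]
        (ψ : A →ₐc[R] D), ψ e = 1 := by
  haveI : Algebra.IsIntegral R (A ⧸ Ideal.span ({1 - e} : Set A)) :=
    Algebra.IsIntegral.of_finite R _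
  constructor
  · intro C _ _ _ _ φ c
    rw [AlgHom.mem_equalizer]
    -- the composite `C → A → A⁰` factors through the counit
    have hψ : (Ideal.Quotient.mkₐ R (Ideal.span ({1 - e} : Set A))).comp (φ : C →ₐ[R] A) =
        (Algebra.ofId R (A ⧸ Ideal.span ({1 - e} : Set A))).comp (Bialgebra.counitAlgHom R C) := by
      apply Groth.Agent.Lib.Helper26.PairHensConstr.algHom_eq_of_sub_mem_jacobson
        (IsLocalRing.maximalIdeal (A ⧸ Ideal.span ({1 - e} : Set A)))
        (le_of_eq (IsLocalRing.jacobson_eq_maximalIdeal ⊥ bot_ne_top).symm)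
      intro s
      have h1 := Groth.Agent.Lib.Helper26.HopfUnitComp.sub_mem_maximalIdeal_of_retraction
        (Groth.Agent.Lib.Helper26.HopfUnitComp.counitBar R A e hε)
        (Ideal.Quotient.mk (Ideal.span ({1 - e} : Set A)) (φ s))
      have h2 : Groth.Agent.Lib.Helper26.HopfUnitComp.counitBar R A e hε
          (Ideal.Quotient.mk (Ideal.span ({1 - e} : Set A)) (φ s)) =
          Bialgebra.counitAlgHom R C s := by
        rw [Groth.Agent.Lib.Helper26.HopfUnitComp.counitBar_mk]
        exact CoalgHomClass.counit_comp_apply φ s
      rw [h2] at h1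
      exact h1
    let 𝓡 := Coalgebra.Repr.arbitrary R c
    have h3 : Bialgebra.comulAlgHom R A (φ c) =
        ∑ i ∈ 𝓡.index, φ (𝓡.left i) ⊗ₜ[R] φ (𝓡.right i) := by
      have := CoalgHomClass.map_comp_comul_apply φ c
      rw [← 𝓡.eq, map_sum] at this
      simp only [TensorProduct.map_tmul] at this
      exact this.symm
    rw [AlgHom.comp_apply, h3, map_sum]
    have h4 : ∀ i ∈ 𝓡.index, (Algebra.TensorProduct.map (AlgHom.id R A)
        (Ideal.Quotient.mkₐ R (Ideal.span ({1 - e} : Set A)))) (φ (𝓡.left i) ⊗ₜ[R] φ (𝓡.right i)) =
        (φ (Coalgebra.counit (R := R) (𝓡.right i) • 𝓡.left i)) ⊗ₜ[R] 1 := by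
      intro i _
      rw [Algebra.TensorProduct.map_tmul, AlgHom.id_apply]
      have := DFunLike.congr_fun hψ (𝓡.right i)
      simp only [AlgHom.comp_apply] at this
      have h5 : (Ideal.Quotient.mkₐ R (Ideal.span ({1 - e} : Set A))) (φ (𝓡.right i)) =
          Coalgebra.counit (R := R) (𝓡.right i) • (1 : A ⧸ Ideal.span ({1 - e} : Set A)) := by
        rw [← Algebra.algebraMap_eq_smul_one]
        exact this
      rw [h5, TensorProduct.tmul_smul, map_smul, TensorProduct.smul_tmul']
    rw [Finset.sum_congr rfl h4, ← TensorProduct.sum_tmul, ← map_sum]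
    have h6 : ∑ i ∈ 𝓡.index, Coalgebra.counit (R := R) (𝓡.right i) • 𝓡.left i = c := by
      have := Coalgebra.sum_tmul_counit_eq 𝓡
      have h7 := congrArg (TensorProduct.lift ((LinearMap.lsmul R C).flip)) this
      simp only [map_sum, TensorProduct.lift.tmul, LinearMap.flip_apply, LinearMap.lsmul_apply,
        one_smul] at h7
      exact h7
    rw [h6]
    rfl
  · intro D _ _ _ _ _ ψ
    rcases Groth.Agent.Lib.Helper26.HopfUnitComp.eq_zero_or_eq_one_of_isIdempotentElem
      (he.map ψ) with h | h
    · exfalso
      have h1 := CoalgHomClass.counit_comp_apply ψ e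
      rw [h, map_zero] at h1
      have h2 : Coalgebra.counit (R := R) e = 1 := hε
      rw [h2] at h1
      exact zero_ne_one h1
    · exact h

end Groth.Agent.S15062
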