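import Groth.Statements.S15077
import Mathlib
import Groth.Agent.Lib.Helper17.WeilFinB
import Groth.Agent.Lib.Helper3.QProj

set_option autoImplicit false
universe u
open CategoryTheory CategoryTheory.Limits AlgebraicGeometry
open OrdSurf

namespace Groth.Agent.S15077

open Groth.Agent.Lib.Helper13.ClMon Groth.Agent.Lib.Helper17.WeilFinB

theorem cl_aux {M : Type*} [CommMonoid M] {a b : M} (ha : a * a = 1) (hb : b * b = 1) :
    (a * b) * a = b ∧ (a * b) * b = a ∧ a * (a * b) = b ∧ b * (a * b) = a ∧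
      (a * b) * (a * b) = 1 := by
  refine ⟨?_, ?_, ?_, ?_, ?_⟩
  · calc (a * b) * a = (a * a) * b := by ac_rfl
      _ = b := by rw [ha, _root_.one_mul]
  · calc (a * b) * b = a * (b * b) := by ac_rfl
      _ = a := by rw [hb, _root_.mul_one]
  · calc a * (a * b) = (a * a) * b := by ac_rfl
      _ = b := by rw [ha, _root_.one_mul]
  · calc b * (a * b) = a * (b * b) := by ac_rfl
      _ = a := by rw [hb, _root_.mul_one]
  · calc (a * b) * (a * b) = (a * a) * (b * b) := by ac_rfl
      _ = 1 := by rw [ha, hb, _root_.one_mul]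

/-- Let k be an algebraically closed field of characteristic zero and X a smooth projective surface over
k (an integral k-scheme, smooth over k, of dimension two, admitting a closed immersion over k into
some projective space P^n_k). Let I and J be invertible O_X-modules that are two-torsion, I ⊗ I ≅
O_X and J ⊗ J ≅ O_X, let K = I ⊗ J, and let F = O_X ⊕ I ⊕ J ⊕ K (so that O_X, I, J, K form a Klein
four-group of classes in Pic X when I, J, K are nontrivial and distinct). Then for every invertible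
O_X-module L, the O_X-modules F ⊗ L and F are isomorphic if and only if L is isomorphic to one of
O_X, I, J, K. (The published statement is for the abelian surface E_1 × E_2, with I and J pulled
back from two-torsion line bundles on the two elliptic curves and F the underlying module of the
quaternion algebra built from them; this row is stated on any smooth projective surface for any
two-torsion invertible I and J.) -/
theorem result (k : Type u) [Field k] [IsAlgClosed k] [CharZero k]
    (X : Scheme.{u}) [X.Over (Spec (CommRingCat.of k))] [IsIntegral X]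
    [Smooth (X ↘ Spec (CommRingCat.of k))] (hdim : topologicalKrullDim X = 2)
    (hproj : ∃ (n : ℕ) (ι : X ⟶ CohB1.ProjSpace n k), IsClosedImmersion ι ∧
      ι ≫ CohB1.ProjSpace.toSpec n k = X ↘ Spec (CommRingCat.of k))
    (I J : X.Modules) (hI : PicF.IsInvertible I) (hJ : PicF.IsInvertible J)
    (hI2 : Nonempty (CohB1.tensorMod I I ≅ Coh.structureModule X))
    (hJ2 : Nonempty (CohB1.tensorMod J J ≅ Coh.structureModule X))
    (L : X.Modules) (hL : PicF.IsInvertible L) :
    Nonempty (CohB1.tensorMod (Coh.structureModule X ⊞ I ⊞ J ⊞ CohB1.tensorMod I J) L ≅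
        Coh.structureModule X ⊞ I ⊞ J ⊞ CohB1.tensorMod I J) ↔
      (Nonempty (L ≅ Coh.structureModule X) ∨ Nonempty (L ≅ I) ∨ Nonempty (L ≅ J) ∨
        Nonempty (L ≅ CohB1.tensorMod I J))  := by
  classical
  obtain ⟨n, ι, hι, hcomp⟩ := hproj
  haveI : IsProper (X ↘ Spec (CommRingCat.of k)) := by
    rw [← hcomp]
    haveI := hι
    haveI := Groth.Agent.Lib.Helper3.QProj.isProper_toSpec k n
    infer_instance
  have hO : PicF.IsInvertible (Coh.structureModule X) :=
    Groth.Agent.Lib.Helper3.InvGen.isInvertible_structureModule X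
  obtain ⟨K, hKdef⟩ : ∃ K : X.Modules, K = CohB1.tensorMod I J := ⟨_, rfl⟩
  rw [← hKdef]
  have hK : PicF.IsInvertible K := by
    rw [hKdef]; exact Groth.Agent.Lib.Helper3.InvTensor.isInvertible_tensorMod hI hJ
  have cK : PicF.cl K = PicF.cl I * PicF.cl J := by rw [hKdef, cl_mul]
  have cI : PicF.cl I * PicF.cl I = 1 := by
    rw [cl_mul, one_def, cl_eq_iff]; exact hI2
  have cJ : PicF.cl J * PicF.cl J = 1 := by
    rw [cl_mul, one_def, cl_eq_iff]; exact hJ2
  obtain ⟨c1, c2, c3, c4, c5⟩ := cl_aux cI cJ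
  constructor
  · rintro ⟨e⟩
    have hM : PicF.IsInvertible (CohB1.tensorMod (Coh.structureModule X) L) :=
      Groth.Agent.Lib.Helper3.InvTensor.isInvertible_tensorMod hO hL
    obtain ⟨i, r, hir⟩ := tw_retract (Coh.structureModule X) (I ⊞ (J ⊞ K)) L
    have lM := localEnd_of_isInvertible k hM
    have lO := localEnd_of_isInvertible k hO
    have lI := localEnd_of_isInvertible k hI
    have lJ := localEnd_of_isInvertible k hJ
    have lK := localEnd_of_isInvertible k hK
    have u : CohB1.tensorMod (Coh.structureModule X) L ≅ L :=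
      Groth.Agent.Lib.Helper3.InvMonoidal.unitorL L
    have h0 : (i ≫ e.hom) ≫ (e.inv ≫ r) = 𝟙 _ := by
      rw [Category.assoc, Iso.hom_inv_id_assoc, hir]
    rcases exchange lM lO (i ≫ e.hom) (e.inv ≫ r) h0 with ⟨⟨a⟩⟩ | ⟨i1, r1, h1⟩
    · left; exact ⟨u.symm ≪≫ a⟩
    rcases exchange lM lI i1 r1 h1 with ⟨⟨a⟩⟩ | ⟨i2, r2, h2⟩
    · right; left; exact ⟨u.symm ≪≫ a⟩
    rcases exchange lM lJ i2 r2 h2 with ⟨⟨a⟩⟩ | ⟨i3, r3, h3⟩
    · right; right; left; exact ⟨u.symm ≪≫ a⟩
    · obtain ⟨a⟩ := iso_of_retract lM lK i3 r3 h3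
      right; right; right; exact ⟨u.symm ≪≫ a⟩
  · intro h
    have key : ∀ M : X.Modules, Nonempty (L ≅ M) →
        Nonempty ((CohB1.tensorMod (Coh.structureModule X) M ⊞ (CohB1.tensorMod I M ⊞
          (CohB1.tensorMod J M ⊞ CohB1.tensorMod K M)) : X.Modules) ≅
          (Coh.structureModule X ⊞ I ⊞ J ⊞ K)) →
        Nonempty (CohB1.tensorMod (Coh.structureModule X ⊞ I ⊞ J ⊞ K) L ≅
          (Coh.structureModule X ⊞ I ⊞ J ⊞ K)) := by
      rintro M ⟨e⟩ ⟨φ⟩
      exact ⟨Groth.Agent.Lib.Helper3.InvMonoidal.tensorMapIso (Iso.refl _) e ≪≫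
        twQuad (Coh.structureModule X) I J K M ≪≫ φ⟩
    rcases h with h | h | h | h
    · obtain ⟨e⟩ := h
      exact ⟨Groth.Agent.Lib.Helper3.InvMonoidal.tensorMapIso (Iso.refl _) e ≪≫
        SecTwist.unitorR _⟩
    · apply key I h
      have a1 : CohB1.tensorMod (Coh.structureModule X) I ≅ I :=
        Groth.Agent.Lib.Helper3.InvMonoidal.unitorL I
      obtain ⟨a2⟩ := hI2
      obtain ⟨a3⟩ : Nonempty (CohB1.tensorMod J I ≅ K) := by
        rw [hKdef]; exact ⟨Groth.Agent.Lib.Helper3.InvMonoidal.braid J I⟩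
      obtain ⟨a4⟩ : Nonempty (CohB1.tensorMod K I ≅ J) := by
        rw [← cl_eq_iff, ← cl_mul, cK]; exact c1
      exact ⟨quadIso a1 a2 a3 a4 ≪≫ perm1 I (Coh.structureModule X) K J⟩
    · apply key J h
      have a1 : CohB1.tensorMod (Coh.structureModule X) J ≅ J :=
        Groth.Agent.Lib.Helper3.InvMonoidal.unitorL J
      obtain ⟨a2⟩ : Nonempty (CohB1.tensorMod I J ≅ K) := by rw [hKdef]; exact ⟨Iso.refl _⟩
      obtain ⟨a3⟩ := hJ2
      obtain ⟨a4⟩ : Nonempty (CohB1.tensorMod K J ≅ I) := by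
        rw [← cl_eq_iff, ← cl_mul, cK]; exact c2
      exact ⟨quadIso a1 a2 a3 a4 ≪≫ perm2 J K (Coh.structureModule X) I⟩
    · apply key K h
      have a1 : CohB1.tensorMod (Coh.structureModule X) K ≅ K :=
        Groth.Agent.Lib.Helper3.InvMonoidal.unitorL K
      obtain ⟨a2⟩ : Nonempty (CohB1.tensorMod I K ≅ J) := by
        rw [← cl_eq_iff, ← cl_mul, cK]; exact c3
      obtain ⟨a3⟩ : Nonempty (CohB1.tensorMod J K ≅ I) := by
        rw [← cl_eq_iff, ← cl_mul, cK]; exact c4
      obtain ⟨a4⟩ : Nonempty (CohB1.tensorMod K K ≅ Coh.structureModule X) := by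
        rw [← cl_eq_iff, ← cl_mul, cK, ← one_def]; exact c5
      exact ⟨quadIso a1 a2 a3 a4 ≪≫ perm3 K J I (Coh.structureModule X)⟩

end Groth.Agent.S15077
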