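import Groth.Statements.S15081
import Mathlib
import Groth.Agent.Lib.Helper15.Shuffle

set_option autoImplicit false
open W4c2movlemaddchow

namespace Groth.Agent.S15081

/-- Let r, s, t ≥ 1. For an (r, s+t)-shuffle τ' of r+s+t letters and an (s, t)-shuffle σ' of the last
s+t letters, the composite τ' ∘ (id × σ'), where id × σ' fixes the first r letters and acts as σ' on
the last s+t, is an (r, s, t)-shuffle, and (τ', σ') ↦ τ' ∘ (id × σ') is a bijection from such pairs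
onto the set of all (r, s, t)-shuffles. (Shuffles are permutations monotone on each consecutive
block; composites apply the right-hand factor first.) -/
theorem result (r s t : ℕ) (hr : 1 ≤ r) (hs : 1 ≤ s) (ht : 1 ≤ t) :
    Set.BijOn
      (fun p : Equiv.Perm (Fin (r + s + t)) × Equiv.Perm (Fin (s + t)) =>
        p.1 * W4c2movlemaddchow.extLeft r s t p.2)
      ({τ | W4c2movlemaddchow.IsShuffle₂ r (s + t) ((finCongr (Nat.add_assoc r s t)).permCongr τ)} ×ˢ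
        {σ | W4c2movlemaddchow.IsShuffle₂ s t σ})
      {ν | W4c2movlemaddchow.IsShuffle₃ r s t ν} := by
  refine ⟨?_, ?_, ?_⟩
  · rintro ⟨τ, σ⟩ ⟨hτ, hσ⟩
    exact Helper15.Shuffle.mapsTo_left r s t τ σ hτ hσ
  · rintro ⟨τ₁, σ₁⟩ ⟨hτ₁, hσ₁⟩ ⟨τ₂, σ₂⟩ ⟨hτ₂, hσ₂⟩ h
    obtain ⟨h1, h2⟩ := Helper15.Shuffle.injOn_left r s t τ₁ τ₂ σ₁ σ₂ hτ₁ hτ₂ h
    exact Prod.ext h1 h2
  · intro ν hν
    obtain ⟨τ, σ, h1, h2, h3⟩ := Helper15.Shuffle.surjOn_left r s t ν hν
    exact ⟨(τ, σ), ⟨h1, h2⟩, h3⟩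

end Groth.Agent.S15081
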