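import Groth.Statements.S15082
import Mathlib
import Groth.Agent.Lib.Helper15.Shuffle
import Groth.Agent.S15080
import Groth.Agent.S15081

set_option autoImplicit false
open W4c2movlemaddchow

namespace Groth.Agent.S15082

/-- Let r, s, t ≥ 1. In the group ring ℤ[S_{r+s+t}] the element Σ_ν sgn(ν) ν, summed over all (r, s,
t)-shuffles ν, equals Σ_τ Σ_σ sgn(τ) sgn(σ) τ ∘ (σ × id), summed over (r+s, t)-shuffles τ and (r,
s)-shuffles σ of the first r+s letters, and also equals Σ_{τ'} Σ_{σ'} sgn(τ') sgn(σ') τ' ∘ (id ×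
σ'), summed over (r, s+t)-shuffles τ' and (s, t)-shuffles σ' of the last s+t letters. (Shuffles are
permutations monotone on each consecutive block; composites apply the right-hand factor first.) -/
theorem result (r s t : ℕ) (hr : 1 ≤ r) (hs : 1 ≤ s) (ht : 1 ≤ t) :
    ((∑ ν ∈ Finset.univ.filter (W4c2movlemaddchow.IsShuffle₃ r s t),
        MonoidAlgebra.single ν (((Equiv.Perm.sign ν : ℤˣ) : ℤ)) :
          MonoidAlgebra ℤ (Equiv.Perm (Fin (r + s + t)))) =
      ∑ τ ∈ Finset.univ.filter (W4c2movlemaddchow.IsShuffle₂ (r + s) t),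
        ∑ σ ∈ Finset.univ.filter (W4c2movlemaddchow.IsShuffle₂ r s),
          MonoidAlgebra.single (τ * W4c2movlemaddchow.extRight (r + s) t σ)
            (((Equiv.Perm.sign τ : ℤˣ) : ℤ) * ((Equiv.Perm.sign σ : ℤˣ) : ℤ))) ∧
    ((∑ ν ∈ Finset.univ.filter (W4c2movlemaddchow.IsShuffle₃ r s t),
        MonoidAlgebra.single ν (((Equiv.Perm.sign ν : ℤˣ) : ℤ)) :
          MonoidAlgebra ℤ (Equiv.Perm (Fin (r + s + t)))) =
      ∑ τ ∈ Finset.univ.filter (fun τ : Equiv.Perm (Fin (r + s + t)) =>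
          W4c2movlemaddchow.IsShuffle₂ r (s + t) ((finCongr (Nat.add_assoc r s t)).permCongr τ)),
        ∑ σ ∈ Finset.univ.filter (W4c2movlemaddchow.IsShuffle₂ s t),
          MonoidAlgebra.single (τ * W4c2movlemaddchow.extLeft r s t σ)
            (((Equiv.Perm.sign τ : ℤˣ) : ℤ) * ((Equiv.Perm.sign σ : ℤˣ) : ℤ))) := by
  have hcoe3 : ((Finset.univ.filter (W4c2movlemaddchow.IsShuffle₃ r s t) :
      Finset (Equiv.Perm (Fin (r + s + t)))) : Set _) =
      {ν | W4c2movlemaddchow.IsShuffle₃ r s t ν} := by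
    ext x; simp
  constructor
  · have hcoe : ((Finset.univ.filter (W4c2movlemaddchow.IsShuffle₂ (r + s) t) ×ˢ
        Finset.univ.filter (W4c2movlemaddchow.IsShuffle₂ r s) : Finset _) : Set _) =
        {τ | W4c2movlemaddchow.IsShuffle₂ (r + s) t τ} ×ˢ
          {σ | W4c2movlemaddchow.IsShuffle₂ r s σ} := by
      ext ⟨a, b⟩; simp
    have hb := Groth.Agent.S15080.result r s t hr hs ht
    rw [← hcoe, ← hcoe3] at hb
    rw [← Finset.sum_product']
    refine (Finset.sum_nbij
      (fun p : Equiv.Perm (Fin (r + s + t)) × Equiv.Perm (Fin (r + s)) =>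
        p.1 * W4c2movlemaddchow.extRight (r + s) t p.2)
      (fun a ha => Finset.mem_coe.mp (hb.mapsTo (Finset.mem_coe.mpr ha)))
      hb.injOn hb.surjOn ?_).symm
    rintro ⟨τ, σ⟩ -
    simp only [Equiv.Perm.sign_mul, Helper15.Shuffle.sign_extRight, Units.val_mul]
  · have hcoe : ((Finset.univ.filter (fun τ : Equiv.Perm (Fin (r + s + t)) =>
          W4c2movlemaddchow.IsShuffle₂ r (s + t)
            ((finCongr (Nat.add_assoc r s t)).permCongr τ)) ×ˢ
        Finset.univ.filter (W4c2movlemaddchow.IsShuffle₂ s t) : Finset _) : Set _) =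
        {τ | W4c2movlemaddchow.IsShuffle₂ r (s + t)
            ((finCongr (Nat.add_assoc r s t)).permCongr τ)} ×ˢ
          {σ | W4c2movlemaddchow.IsShuffle₂ s t σ} := by
      ext ⟨a, b⟩; simp
    have hb := Groth.Agent.S15081.result r s t hr hs ht
    rw [← hcoe, ← hcoe3] at hb
    rw [← Finset.sum_product']
    refine (Finset.sum_nbij
      (fun p : Equiv.Perm (Fin (r + s + t)) × Equiv.Perm (Fin (s + t)) =>
        p.1 * W4c2movlemaddchow.extLeft r s t p.2)
      (fun a ha => Finset.mem_coe.mp (hb.mapsTo (Finset.mem_coe.mpr ha)))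
      hb.injOn hb.surjOn ?_).symm
    rintro ⟨τ, σ⟩ -
    simp only [Equiv.Perm.sign_mul, Helper15.Shuffle.sign_extLeft, Units.val_mul]

end Groth.Agent.S15082
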