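import Groth.Statements.S15084
import Mathlib
import Groth.Agent.Lib.Helper6.UFDCartier

set_option autoImplicit false
universe u
open MovLem

namespace Groth.Agent.S15084

/-- Let A be a Noetherian integrally closed domain with fraction field K, let B be a domain with
fraction field L, and let A → B be an injective ring homomorphism, with K → L the induced map of
fraction fields, such that Spec B → Spec A is surjective (every prime ideal of A is the contraction
of a prime ideal of B). If a ∈ K is such that its image in L lies in B, then a ∈ A. (The published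
statement: for a surjective morphism f : Y → X of normal integral separated schemes of finite type
over a perfect field and a Cartier divisor D on X, if f^*D is effective then D is effective; a
Cartier divisor is locally the divisor of a nonzero rational function a, effectivity of div(a) on a
normal scheme means that a is a regular function, and this row is that local statement, which is
what the published proof establishes.) -/
theorem result
    (A B K L : Type u) [CommRing A] [IsDomain A] [IsNoetherianRing A] [IsIntegrallyClosed A]
    [CommRing B] [IsDomain B] [Field K] [Field L]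
    [Algebra A B] [Algebra A K] [IsFractionRing A K] [Algebra B L] [IsFractionRing B L]
    [Algebra K L] [Algebra A L] [IsScalarTower A K L] [IsScalarTower A B L]
    (hinj : Function.Injective (algebraMap A B))
    (hsurj : ∀ p : Ideal A, p.IsPrime → ∃ q : Ideal B, q.IsPrime ∧ q.comap (algebraMap A B) = p)
    (a : K) (ha : algebraMap K L a ∈ (algebraMap B L).range) :
    a ∈ (algebraMap A K).range := by
  classical
  obtain ⟨x, y, hy, rfl⟩ := IsFractionRing.div_surjective (A := A) a
  have hy0 : y ≠ 0 := nonZeroDivisors.ne_zero hy
  have hyK : algebraMap A K y ≠ 0 :=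
    (map_ne_zero_iff _ (IsFractionRing.injective A K)).mpr hy0
  obtain ⟨β, hβ⟩ := ha
  set J : Ideal A := Submodule.comap (LinearMap.mulLeft A x) (Ideal.span {y}) with hJdef
  have hmemJ : ∀ c, c ∈ J ↔ x * c ∈ Ideal.span {y} := fun c => Iff.rfl
  by_cases hJ : J = ⊤
  · have h1 : (1 : A) ∈ J := by rw [hJ]; exact Submodule.mem_top
    rw [hmemJ, mul_one, Ideal.mem_span_singleton'] at h1
    obtain ⟨a₀, ha₀⟩ := h1
    refine ⟨a₀, ?_⟩
    rw [← ha₀, map_mul, mul_div_assoc, div_self hyK, mul_one]
  exfalso
  haveI : Nontrivial (A ⧸ J) := Ideal.Quotient.nontrivial_iff.mpr hJ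
  obtain ⟨p, hp⟩ := associatedPrimes.nonempty A (A ⧸ J)
  obtain ⟨hpprime, cbar, hpc⟩ := isAssociatedPrime_iff.mp (AssociatedPrimes.mem_iff.mp hp)
  obtain ⟨c, rfl⟩ := Ideal.Quotient.mk_surjective cbar
  set b : A := x * c with hb
  have hmemp : ∀ r, r ∈ p ↔ r * b ∈ Ideal.span {y} := by
    intro r
    rw [hpc, Groth.Agent.Lib.Helper6.UFDCartier.mem_colon_mk, hmemJ, hb]
    have : x * (r * c) = r * (x * c) := by ring
    rw [this]
  set θ : K := algebraMap A K b / algebraMap A K y with hθ
  -- multiplication by θ sends p into A
  have hF : ∀ r ∈ p, ∃ t : A, algebraMap A K r * θ = algebraMap A K t := by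
    intro r hr
    obtain ⟨t, ht⟩ := Ideal.mem_span_singleton'.mp ((hmemp r).mp hr)
    refine ⟨t, ?_⟩
    rw [hθ, ← mul_div_assoc, ← map_mul, ← ht, map_mul, mul_div_assoc, div_self hyK, mul_one]
  have hyp : y ∈ p := (hmemp y).mpr (Ideal.mem_span_singleton'.mpr ⟨b, by ring⟩)
  by_cases hcase : ∀ r ∈ p, ∀ t : A, algebraMap A K r * θ = algebraMap A K t → t ∈ p
  · -- θ is integral over A
    have hint : IsIntegral A θ := by
      refine isIntegral_of_smul_mem_submodule (R := A) (A := K) (M := K)
        (Submodule.map (Algebra.linearMap A K) p) ?_ ?_ θ ?_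
      · intro hbot
        have hmem : algebraMap A K y ∈ Submodule.map (Algebra.linearMap A K) p :=
          Submodule.mem_map_of_mem hyp
        rw [hbot, Submodule.mem_bot] at hmem
        exact hyK hmem
      · exact (IsNoetherian.noetherian p).map _
      · rintro n ⟨r, hr, rfl⟩
        obtain ⟨t, ht⟩ := hF r hr
        refine ⟨t, hcase r hr t ht, ?_⟩
        rw [smul_eq_mul, mul_comm]
        exact ht.symm
    obtain ⟨t₀, ht₀⟩ := IsIntegrallyClosed.isIntegral_iff.mp hint
    have hbt : b = t₀ * y := by
      apply IsFractionRing.injective A K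
      have h3 : algebraMap A K (t₀ * y) = θ * algebraMap A K y := by rw [map_mul, ht₀]
      rw [h3, hθ, div_mul_cancel₀ _ hyK]
    have h1p : (1 : A) ∈ p := (hmemp 1).mpr (by
      rw [one_mul]
      exact Ideal.mem_span_singleton'.mpr ⟨t₀, hbt.symm⟩)
    exact hpprime.ne_top ((Ideal.eq_top_iff_one p).mpr h1p)
  · push Not at hcase
    obtain ⟨r, hr, t, hrt, htp⟩ := hcase
    obtain ⟨q, hq, hqp⟩ := hsurj p hpprime
    -- θ maps to an element of B
    have hθL : algebraMap K L θ = algebraMap B L (algebraMap A B c * β) := by
      have hθ' : θ = algebraMap A K c * (algebraMap A K x / algebraMap A K y) := by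
        rw [hθ, hb, map_mul]
        ring
      rw [hθ', map_mul, map_mul, hβ, ← IsScalarTower.algebraMap_apply A K L,
        IsScalarTower.algebraMap_apply A B L]
    have hL : algebraMap B L (algebraMap A B r * (algebraMap A B c * β)) =
        algebraMap B L (algebraMap A B t) := by
      rw [map_mul, ← hθL, ← IsScalarTower.algebraMap_apply A B L,
        ← IsScalarTower.algebraMap_apply A B L, IsScalarTower.algebraMap_apply A K L,
        IsScalarTower.algebraMap_apply A K L t, ← map_mul, hrt]
    have hB := IsFractionRing.injective B L hL
    have hrq : algebraMap A B r ∈ q := by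
      have : r ∈ q.comap (algebraMap A B) := by rw [hqp]; exact hr
      exact this
    have htq : algebraMap A B t ∈ q := by
      rw [← hB]
      exact q.mul_mem_right _ hrq
    apply htp
    rw [← hqp]
    exact htq

end Groth.Agent.S15084
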