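import Groth.Statements.S15115
import Groth.Agent.Lib.Helper19.Reynolds2

set_option autoImplicit false
universe u
open HopfRep

namespace Groth.Agent.S15115

open TensorProduct in
/-- Let k be an algebraically closed field, H a finite-dimensional commutative Hopf algebra over k all
of whose finite-dimensional comodules are semisimple (a finite linearly reductive group scheme G
over k), A a commutative k-algebra, and M an A-module with an H-coaction that is A-linear (G acts on
M by A-module maps, A carrying the trivial action). Let A' be a commutative A-algebra and N = A' ⊗_A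
M its base change, exhibited by an A-linear map φ : M → N, with the induced coaction: A'-linear and
compatible with φ. Then invariants commute with this base change: writing M^G for the A-submodule of
coinvariant elements of M, the natural map A' ⊗_A M^G → N, a' ⊗ m ↦ a' φ(m), is injective and its
image is exactly the set of coinvariant elements of N. (The published statement is the isomorphism
ρ^* π_* F → π'_* σ^* F for a tame Deligne–Mumford stack with coarse moduli space π and any base
change ρ of the coarse space; this row is the statement about invariants to which its proof reduces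
it, for modules that need not be finitely generated.) -/
theorem result (k : Type u) [Field k] [IsAlgClosed k]
    (H : Type u) [CommRing H] [HopfAlgebra k H] [Module.Finite k H] (hred : HopfRep.IsLinearlyReductive k H)
    (A : Type u) [CommRing A] [Algebra k A]
    (M : Type u) [AddCommGroup M] [Module k M] [Module A M] [IsScalarTower k A M] [HopfRep.Comod k H M]
    (hlin : ∀ (a : A) (m : M), HopfRep.Comod.coact (k := k) (A := H) (a • m) = a • HopfRep.Comod.coact (k := k) (A := H) m)
    (A' : Type u) [CommRing A'] [Algebra k A'] [Algebra A A'] [IsScalarTower k A A']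
    (N : Type u) [AddCommGroup N] [Module k N] [Module A N] [Module A' N]
    [IsScalarTower k A N] [IsScalarTower A A' N] [IsScalarTower k A' N] [HopfRep.Comod k H N]
    (φ : M →ₗ[A] N) (hφ : IsBaseChange A' φ)
    (hcomp : ∀ m : M, HopfRep.Comod.coact (k := k) (A := H) (φ m) =
      LinearMap.rTensor H (φ.restrictScalars k) (HopfRep.Comod.coact (k := k) (A := H) m))
    (hlinN : ∀ (a' : A') (n : N), HopfRep.Comod.coact (k := k) (A := H) (a' • n) = a' • HopfRep.Comod.coact (k := k) (A := H) n)
    (P : Submodule A M) (hP : (P : Set M) = (HopfRep.fixedPts k H M : Set M)) :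
    Function.Injective (TensorProduct.lift (((Algebra.lsmul A A N : A' →ₐ[A] Module.End A N).toLinearMap).compl₂ (φ ∘ₗ P.subtype))) ∧
      Set.range (TensorProduct.lift (((Algebra.lsmul A A N : A' →ₐ[A] Module.End A N).toLinearMap).compl₂ (φ ∘ₗ P.subtype))) =
        (HopfRep.fixedPts k H N : Set N) := by
  classical
  have hssM : IsSemisimpleModule (Groth.Agent.Lib.Helper19.Reynolds.opAlg k H M) M :=
    Groth.Agent.Lib.Helper19.Reynolds.isSemisimpleModule_opAlg (V := M) hred
  have hssN : IsSemisimpleModule (Groth.Agent.Lib.Helper19.Reynolds.opAlg k H N) N :=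
    Groth.Agent.Lib.Helper19.Reynolds.isSemisimpleModule_opAlg (V := N) hred
  obtain ⟨EM, CM, hCM, hM1, hM2, hM3, hM4, hMc⟩ :=
    Groth.Agent.Lib.Helper19.Reynolds.exists_reynolds hssM
  obtain ⟨EN, CN, hCN, hN1, hN2, hN3, hN4, hNc⟩ :=
    Groth.Agent.Lib.Helper19.Reynolds.exists_reynolds hssN
  have hsliceA : ∀ (f : H →ₗ[k] k) (a : A) (t : M ⊗[k] H),
      Groth.Agent.Lib.Helper19.Reynolds.slice f (a • t) =
        a • Groth.Agent.Lib.Helper19.Reynolds.slice f t := by
    intro f a t
    induction t using TensorProduct.induction_on with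
    | zero => simp
    | tmul m h =>
      rw [TensorProduct.smul_tmul', Groth.Agent.Lib.Helper19.Reynolds.slice_tmul,
        Groth.Agent.Lib.Helper19.Reynolds.slice_tmul, smul_comm]
    | add x y hx hy => rw [smul_add, map_add, map_add, hx, hy, smul_add]
  have hsliceA' : ∀ (f : H →ₗ[k] k) (a : A') (t : N ⊗[k] H),
      Groth.Agent.Lib.Helper19.Reynolds.slice f (a • t) =
        a • Groth.Agent.Lib.Helper19.Reynolds.slice f t := by
    intro f a t
    induction t using TensorProduct.induction_on with
    | zero => simp
    | tmul m h =>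
      rw [TensorProduct.smul_tmul', Groth.Agent.Lib.Helper19.Reynolds.slice_tmul,
        Groth.Agent.Lib.Helper19.Reynolds.slice_tmul, smul_comm]
    | add x y hx hy => rw [smul_add, map_add, map_add, hx, hy, smul_add]
  have hEMA : ∀ (a : A) (m : M), EM (a • m) = a • EM m := by
    intro a m
    let ψ : M →ₗ[k] M :=
      { toFun := fun x => a • x
        map_add' := smul_add a
        map_smul' := fun c x => smul_comm a c x }
    have h := Groth.Agent.Lib.Helper19.Reynolds.reynolds_natural hssM EM CM hCM hM1 hM3 EM hM1 hM2
      hMc ψ (fun f v => by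
        show a • Groth.Agent.Lib.Helper19.Reynolds.opT k H M f v =
          Groth.Agent.Lib.Helper19.Reynolds.opT k H M f (a • v)
        rw [Groth.Agent.Lib.Helper19.Reynolds.opT_apply,
          Groth.Agent.Lib.Helper19.Reynolds.opT_apply, hlin, hsliceA]) m
    exact h.symm
  have hENA : ∀ (a : A') (n : N), EN (a • n) = a • EN n := by
    intro a n
    let ψ : N →ₗ[k] N :=
      { toFun := fun x => a • x
        map_add' := smul_add a
        map_smul' := fun c x => smul_comm a c x }
    have h := Groth.Agent.Lib.Helper19.Reynolds.reynolds_natural hssN EN CN hCN hN1 hN3 EN hN1 hN2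
      hNc ψ (fun f v => by
        show a • Groth.Agent.Lib.Helper19.Reynolds.opT k H N f v =
          Groth.Agent.Lib.Helper19.Reynolds.opT k H N f (a • v)
        rw [Groth.Agent.Lib.Helper19.Reynolds.opT_apply,
          Groth.Agent.Lib.Helper19.Reynolds.opT_apply, hlinN, hsliceA']) n
    exact h.symm
  have hφE : ∀ m : M, φ (EM m) = EN (φ m) := by
    intro m
    exact Groth.Agent.Lib.Helper19.Reynolds.reynolds_natural hssM EM CM hCM hM1 hM3 EN hN1 hN2
      hNc (φ.restrictScalars k) (fun f v => by
        show φ (Groth.Agent.Lib.Helper19.Reynolds.opT k H M f v) =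
          Groth.Agent.Lib.Helper19.Reynolds.opT k H N f (φ v)
        rw [Groth.Agent.Lib.Helper19.Reynolds.opT_apply,
          Groth.Agent.Lib.Helper19.Reynolds.opT_apply, hcomp,
          Groth.Agent.Lib.Helper19.Reynolds.slice_rTensor]
        rfl) m
  have hPmem : ∀ m : M, m ∈ P ↔ m ∈ HopfRep.fixedPts k H M := fun m => by
    rw [← SetLike.mem_coe, hP, SetLike.mem_coe]
  let r : M →ₗ[A] P :=
    { toFun := fun m => ⟨EM m, (hPmem _).mpr (hM1 m)⟩
      map_add' := fun x y => Subtype.ext (EM.map_add x y)
      map_smul' := fun a x => Subtype.ext (hEMA a x) }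
  have hr : r ∘ₗ P.subtype = LinearMap.id :=
    LinearMap.ext fun p => Subtype.ext (hM2 _ ((hPmem _).mp p.2))
  let T' : A' ⊗[A] P →ₗ[A'] N := hφ.equiv.toLinearMap ∘ₗ (P.subtype.baseChange A')
  have hT'tmul : ∀ (a' : A') (p : P), T' (a' ⊗ₜ[A] p) = a' • φ (p : M) := by
    intro a' p
    show hφ.equiv ((P.subtype.baseChange A') (a' ⊗ₜ[A] p)) = a' • φ (p : M)
    rw [LinearMap.baseChange_tmul, IsBaseChange.equiv_tmul]
    rfl
  have hT : ∀ x, TensorProduct.lift (((Algebra.lsmul A A N : A' →ₐ[A] Module.End A N).toLinearMap).compl₂
      (φ ∘ₗ P.subtype)) x = T' x := by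
    intro x
    induction x using TensorProduct.induction_on with
    | zero => rw [map_zero, map_zero]
    | tmul a' p =>
      rw [hT'tmul]
      rfl
    | add x y hx hy => rw [map_add, map_add, hx, hy]
  have hinj : Function.Injective T' := by
    have h1 : Function.LeftInverse (r.baseChange A') (P.subtype.baseChange A') := by
      intro x
      rw [← LinearMap.comp_apply, ← LinearMap.baseChange_comp, hr, LinearMap.baseChange_id]
      rfl
    intro x y hxy
    apply h1.injective
    apply hφ.equiv.injective
    exact hxy
  have hfix : ∀ x, T' x ∈ HopfRep.fixedPts k H N := by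
    intro x
    induction x using TensorProduct.induction_on with
    | zero => rw [map_zero]; exact Submodule.zero_mem _
    | tmul a' p =>
      rw [hT'tmul]
      show HopfRep.Comod.coact (k := k) (A := H) (a' • φ (p : M)) = (a' • φ (p : M)) ⊗ₜ[k] (1 : H)
      have hp : HopfRep.Comod.coact (k := k) (A := H) (p : M) = (p : M) ⊗ₜ[k] (1 : H) :=
        (hPmem _).mp p.2
      rw [hlinN, hcomp, hp, LinearMap.rTensor_tmul, TensorProduct.smul_tmul']
      rfl
    | add x y hx hy => rw [map_add]; exact Submodule.add_mem _ hx hy
  have hsurj : ∀ n : N, ∃ x, T' x = EN n := by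
    intro n
    refine hφ.inductionOn n (fun n => ∃ x, T' x = EN n) ⟨0, by rw [map_zero, map_zero]⟩ ?_ ?_ ?_
    · intro m
      refine ⟨(1 : A') ⊗ₜ[A] r m, ?_⟩
      rw [hT'tmul, one_smul, ← hφE]
      rfl
    · rintro s n ⟨x, hx⟩
      exact ⟨s • x, by rw [map_smul, hx, hENA]⟩
    · rintro n₁ n₂ ⟨x, hx⟩ ⟨y, hy⟩
      exact ⟨x + y, by rw [map_add, hx, hy, map_add]⟩
  refine ⟨?_, ?_⟩
  · intro x y hxy
    rw [hT, hT] at hxy
    exact hinj hxy
  · ext n
    constructor
    · rintro ⟨x, rfl⟩
      rw [hT]
      exact hfix x
    · intro hn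
      obtain ⟨x, hx⟩ := hsurj n
      rw [hN2 n hn] at hx
      exact ⟨x, (hT x).trans hx⟩

end Groth.Agent.S15115
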