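import Groth.Statements.S15116
-- import your own Groth.Agent.* helpers here
import Mathlib

set_option autoImplicit false
universe u v
open NRGIT

namespace Groth.Agent.S15116

/-- Let k be a characteristic-zero field and A a commutative k-algebra, graded by the integers with all
pieces of positive degree zero, and D a k-derivation of A that raises degrees by a fixed positive
integer l. If no maximal ideal of A contains both every piece of negative degree and the image of D,
then there is f with D f = 1. (The published statement is for an affine variety with an action of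
the semidirect product of the additive and multiplicative groups, the multiplicative group acting on
the coordinate ring with non-positive weights and on the Lie algebra of the additive group with
positive weight: the derivation is a generator of that Lie algebra, the maximal ideals containing
the pieces of negative degree are the limit points under the multiplicative group, and a limit point
has trivial additive stabiliser exactly when the image of D is not contained in its ideal; this row
keeps only this algebraic content, for any such graded algebra. The first assertion of the published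
lemma, that every point has a limit in the variety under the multiplicative group as t → 0, is not
part of this row.) -/
theorem result (k : Type u) [Field k] [CharZero k]
    (A : Type v) [CommRing A] [Algebra k A] (𝒜 : ℤ → Submodule k A) [GradedAlgebra 𝒜]
    (hpos : ∀ i : ℤ, 0 < i → 𝒜 i = ⊥)
    (D : Derivation k A A) (l : ℤ) (hl : 0 < l)
    (hD : ∀ (i : ℤ) (a : A), a ∈ 𝒜 i → D a ∈ 𝒜 (i + l))
    (hfree : ∀ m : Ideal A, m.IsMaximal → (∀ i : ℤ, i < 0 → (𝒜 i : Set A) ⊆ m) → ∃ a : A, D a ∉ m) :
    ∃ f : A, D f = 1 := by
  classical
  -- degree zero component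
  let π₀ : A → A := fun a => (DirectSum.decompose 𝒜 a 0 : A)
  have hπ₀add : ∀ a b, π₀ (a + b) = π₀ a + π₀ b := fun a b => by
    simp only [π₀, DirectSum.decompose_add, DirectSum.add_apply, Submodule.coe_add]
  have hπ₀zero : π₀ 0 = 0 := by
    simp only [π₀, DirectSum.decompose_zero, DirectSum.zero_apply, Submodule.coe_zero]
  have hπ₀sum : ∀ (s : Finset ℤ) (g : ℤ → A), π₀ (∑ i ∈ s, g i) = ∑ i ∈ s, π₀ (g i) := by
    intro s g
    induction s using Finset.induction_on with
    | empty => simp [hπ₀zero]
    | insert i s hi ih => rw [Finset.sum_insert hi, Finset.sum_insert hi, hπ₀add, ih]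
  -- π₀ (a * n) for n homogeneous of degree e
  have hπ₀mul : ∀ (a n : A) (e : ℤ), n ∈ 𝒜 e →
      π₀ (a * n) = (DirectSum.decompose 𝒜 a (-e) : A) * n := by
    intro a n e hn
    have := DirectSum.coe_decompose_mul_add_of_right_mem 𝒜 (i := -e) (a := a) hn
    rw [neg_add_cancel] at this
    exact this
  have hposmem : ∀ (i : ℤ) (a : A), 0 < i → a ∈ 𝒜 i → a = 0 := by
    intro i a hi ha
    rw [hpos i hi] at ha
    exact (Submodule.mem_bot k).mp ha
  -- the ideal J is everything
  let S : Set A := {s | ∃ i : ℤ, i < 0 ∧ s ∈ 𝒜 i} ∪ Set.range D
  have hJ : Ideal.span S = ⊤ := by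
    by_contra hne
    obtain ⟨m, hm, hle⟩ := Ideal.exists_le_maximal _ hne
    obtain ⟨a, ha⟩ := hfree m hm (fun i hi s hs =>
      hle (Ideal.subset_span (Or.inl ⟨i, hi, hs⟩)))
    exact ha (hle (Ideal.subset_span (Or.inr ⟨a, rfl⟩)))
  have h1 : (1 : A) ∈ Ideal.span S := by rw [hJ]; trivial
  -- induction
  have key : ∀ x ∈ Ideal.span S, ∀ a : A, ∃ f : A, D f = π₀ (a * x) := by
    intro x hx
    induction hx using Submodule.span_induction with
    | mem s hs =>
      intro a
      rcases hs with ⟨e, he, hse⟩ | ⟨c, rfl⟩
      · refine ⟨0, ?_⟩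
        rw [map_zero, hπ₀mul a s e hse,
          hposmem (-e) _ (by omega) (SetLike.coe_mem _), zero_mul]
      · -- s = D c
        have hc : ∑ i ∈ (DirectSum.decompose 𝒜 c).support, (DirectSum.decompose 𝒜 c i : A) = c :=
          DirectSum.sum_support_decompose 𝒜 c
        set T := (DirectSum.decompose 𝒜 c).support with hT
        refine ⟨∑ i ∈ T, if i < 0 then
          (DirectSum.decompose 𝒜 a (-(i + l)) : A) * (DirectSum.decompose 𝒜 c i : A) else 0, ?_⟩
        have hDc : D c = ∑ i ∈ T, D (DirectSum.decompose 𝒜 c i : A) := by
          conv_lhs => rw [← hc]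
          rw [map_sum]
        rw [hDc, Finset.mul_sum, hπ₀sum, map_sum]
        apply Finset.sum_congr rfl
        intro i _
        have hci : (DirectSum.decompose 𝒜 c i : A) ∈ 𝒜 i := SetLike.coe_mem _
        have hDci : D (DirectSum.decompose 𝒜 c i : A) ∈ 𝒜 (i + l) := hD i _ hci
        rw [hπ₀mul a _ (i + l) hDci]
        split_ifs with hi
        · rw [Derivation.leibniz, smul_eq_mul, smul_eq_mul]
          have hb : (DirectSum.decompose 𝒜 a (-(i + l)) : A) ∈ 𝒜 (-(i + l)) := SetLike.coe_mem _
          have hDb : D (DirectSum.decompose 𝒜 a (-(i + l)) : A) = 0 := by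
            apply hposmem (-(i + l) + l) _ (by omega)
            exact hD _ _ hb
          rw [hDb, mul_zero, add_zero]
        · rw [map_zero, hposmem (i + l) _ (by omega) hDci, mul_zero]
    | zero =>
      intro a
      exact ⟨0, by rw [map_zero, mul_zero, hπ₀zero]⟩
    | add x y _ _ hx hy =>
      intro a
      obtain ⟨f, hf⟩ := hx a
      obtain ⟨g, hg⟩ := hy a
      exact ⟨f + g, by rw [map_add, hf, hg, mul_add, hπ₀add]⟩
    | smul b x _ hx =>
      intro a
      obtain ⟨f, hf⟩ := hx (a * b)
      exact ⟨f, by rw [hf, smul_eq_mul, mul_assoc]⟩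
  obtain ⟨f, hf⟩ := key 1 h1 1
  refine ⟨f, ?_⟩
  rw [hf, mul_one]
  exact DirectSum.decompose_of_mem_same 𝒜 (SetLike.GradedOne.one_mem)

end Groth.Agent.S15116
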