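import Groth.Statements.S15117
-- import your own Groth.Agent.* helpers here
import Mathlib

set_option autoImplicit false
universe u v w
open TensorProduct
open NRGIT

namespace Groth.Agent.S15117

/-- Let k be a field, π : A → B a map of commutative bialgebras over k, W a right A-comodule and V ⊆ W a
subcomodule all of whose elements are coinvariant for the B-coaction induced through π. Then the
coaction of every v ∈ V lies in V ⊗ A' ⊆ W ⊗ A, where A' ⊆ A is the set of elements a with (π ⊗
id)(Δ a) = 1 ⊗ a, i.e. coinvariant for the coaction of B on A through π on the left factor; the row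
states membership in the span of the pure tensors w ⊗ a with w ∈ V and a ∈ A'. (The published
statement is for a linear algebraic group H over an algebraically closed field of characteristic
zero, a normal subgroup N and an H-stable space V of N-invariant sections of a linearised line
bundle, with the coaction landing in O(H)^N ⊗ V, where O(H)^N is the ring of functions on H
invariant under N acting by right multiplication; this row is the comodule form, for any bialgebra
map over a field, where normality of N is not needed.) -/
theorem result (k : Type u) [Field k]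
    (A B : Type v) [CommRing A] [CommRing B] [Bialgebra k A] [Bialgebra k B] (π : A →ₐc[k] B)
    (W : Type w) [AddCommGroup W] [Module k W] [HopfRep.Comod k A W]
    (V : Submodule k W) (hV : HopfRep.IsSubcomod (k := k) (A := A) V)
    (hfix : ∀ v ∈ V, (π.toLinearMap.lTensor W) (HopfRep.Comod.coact (k := k) (A := A) v) = v ⊗ₜ[k] (1 : B))
    (v : W) (hv : v ∈ V) :
    HopfRep.Comod.coact (k := k) (A := A) v ∈
      Submodule.span k {x : W ⊗[k] A | ∃ w ∈ V, ∃ a : A,
        (π.toLinearMap.rTensor A) (Coalgebra.comul (R := k) a) = (1 : B) ⊗ₜ[k] a ∧ x = w ⊗ₜ[k] a} := by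
  classical
  -- notation
  let ρ : W →ₗ[k] W ⊗[k] A := HopfRep.Comod.coact (k := k) (A := A)
  let Δ : A →ₗ[k] A ⊗[k] A := CoalgebraStruct.comul (R := k) (A := A)
  let φ₁ : A →ₗ[k] B ⊗[k] A := (π.toLinearMap.rTensor A) ∘ₗ Δ
  let φ₂ : A →ₗ[k] B ⊗[k] A := TensorProduct.mk k B A 1
  -- naturality of the associator
  have hnat : ∀ (x : W ⊗[k] A) (a : A),
      ((π.toLinearMap.rTensor A).lTensor W) (TensorProduct.assoc k W A A (x ⊗ₜ[k] a)) =
        TensorProduct.assoc k W B A (((π.toLinearMap.lTensor W) x) ⊗ₜ[k] a) := by
    intro x a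
    induction x using TensorProduct.induction_on with
    | zero => simp
    | tmul w a' => simp
    | add x y hx hy => simp only [TensorProduct.add_tmul, map_add, hx, hy]
  -- the two maps agree on V ⊗ A
  have hL : ∀ y : V ⊗[k] A,
      ((π.toLinearMap.rTensor A).lTensor W) (TensorProduct.assoc k W A A
        ((ρ.rTensor A) ((V.subtype.rTensor A) y))) = (φ₂.lTensor W) ((V.subtype.rTensor A) y) := by
    intro y
    induction y using TensorProduct.induction_on with
    | zero => simp
    | tmul v' a =>
      rw [LinearMap.rTensor_tmul, LinearMap.rTensor_tmul, hnat, LinearMap.lTensor_tmul]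
      have := hfix (v' : W) v'.2
      show TensorProduct.assoc k W B A (((π.toLinearMap.lTensor W) (ρ (v' : W))) ⊗ₜ[k] a) = _
      rw [this, TensorProduct.assoc_tmul]
      rfl
    | add x y hx hy => simp only [map_add, hx, hy]
  obtain ⟨y, hy⟩ := hV v hv
  have hy' : (V.subtype.rTensor A) y = ρ v := hy
  -- coassociativity
  have hco : TensorProduct.assoc k W A A ((ρ.rTensor A) (ρ v)) = (Δ.lTensor W) (ρ v) := by
    have := LinearMap.congr_fun (HopfRep.Comod.coassoc (k := k) (A := A) (V := W)) v
    exact this
  have h12 : (φ₁.lTensor W) (ρ v) = (φ₂.lTensor W) (ρ v) := by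
    have h := hL y
    rw [hy', hco] at h
    rw [← h]
    show ((π.toLinearMap.rTensor A ∘ₗ Δ).lTensor W) (ρ v) = _
    rw [LinearMap.lTensor_comp]
    rfl
  -- pull back to V ⊗ (B ⊗ A)
  have hinj : Function.Injective (V.subtype.rTensor (B ⊗[k] A)) :=
    Module.Flat.rTensor_preserves_injective_linearMap V.subtype V.injective_subtype
  have h0 : ((φ₁ - φ₂).lTensor V) y = 0 := by
    apply hinj
    rw [map_zero, ← LinearMap.comp_apply, LinearMap.rTensor_comp_lTensor,
      ← LinearMap.lTensor_comp_rTensor, LinearMap.comp_apply, hy', LinearMap.lTensor_sub,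
      LinearMap.sub_apply, h12, sub_self]
  -- expand y in a basis of V
  let b := Module.Free.chooseBasis k V
  obtain ⟨c, hc⟩ := TensorProduct.eq_repr_basis_left b y
  have hc0 : c.mapRange (φ₁ - φ₂) (map_zero _) = 0 := by
    apply TensorProduct.sum_tmul_basis_left_eq_zero b
    rw [Finsupp.sum_mapRange_index (by intro i; exact TensorProduct.tmul_zero _ _)]
    rw [← hc, Finsupp.sum, map_sum] at h0
    simpa [Finsupp.sum, TensorProduct.tmul_sub] using h0
  have hkey : ∀ i, (π.toLinearMap.rTensor A) (Coalgebra.comul (R := k) (c i)) = (1 : B) ⊗ₜ[k] c i := by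
    intro i
    have := DFunLike.congr_fun hc0 i
    rw [Finsupp.mapRange_apply, Finsupp.zero_apply, LinearMap.sub_apply, sub_eq_zero] at this
    exact this
  show ρ v ∈ _
  rw [← hy', ← hc, Finsupp.sum, map_sum]
  apply Submodule.sum_mem
  intro i _
  apply Submodule.subset_span
  exact ⟨(b i : W), (b i).2, c i, hkey i, rfl⟩

end Groth.Agent.S15117
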