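import Groth.Statements.S15121
-- import your own Groth.Agent.* helpers here
import Mathlib

set_option autoImplicit false
universe u v w
open InvQ

namespace Groth.Agent.S15121

/-- Let k be a field of characteristic zero and A a commutative k-algebra graded by a finitely generated
free abelian group Λ (the character group of a torus acting on Spec A) whose grading monoid is
positive: if the pieces of degrees w and −w are both non-zero then w = 0. Let δ be a locally
nilpotent k-derivation of A (an action of the additive group) that is homogeneous of degree d, with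
the piece of degree d equal to zero (the graded condition on the Lie algebra weight). Suppose that
no maximal ideal of A contains both all graded pieces of non-zero degree and the image of δ (every
torus-fixed closed point has trivial stabiliser under the additive group). Then δ has a homogeneous
slice: some s of degree −d with δ s = 1. (The published statement is for the coordinate ring of an
affine variety over an algebraically closed field of characteristic zero and concludes moreover that
the quotient map by the additive group is a trivial principal bundle, which follows from the slice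
by a standard argument not restated here; this row keeps the algebraic content, for any such graded
algebra.) -/
theorem result
    (k : Type u) [Field k] [CharZero k]
    (A : Type v) [CommRing A] [Algebra k A]
    (Λ : Type w) [AddCommGroup Λ] [DecidableEq Λ] [Module.Free ℤ Λ] [Module.Finite ℤ Λ]
    (𝒜 : Λ → Submodule k A) [GradedAlgebra 𝒜]
    (hpos : ∀ w : Λ, 𝒜 w ≠ ⊥ → 𝒜 (-w) ≠ ⊥ → w = 0)
    (δ : Derivation k A A) (hnil : ∀ a : A, ∃ n : ℕ, ((δ : A →ₗ[k] A) ^ n) a = 0)
    (d : Λ) (hhom : ∀ (w : Λ) (a : A), a ∈ 𝒜 w → δ a ∈ 𝒜 (w + d)) (hd : 𝒜 d = ⊥)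
    (hfix : ∀ m : Ideal A, m.IsMaximal → (∀ w : Λ, w ≠ 0 → (𝒜 w : Set A) ⊆ m) → ¬ (Set.range δ ⊆ m)) :
    ∃ s ∈ 𝒜 (-d), δ s = 1 := by
  classical
  let π₀ : A → A := fun a => (DirectSum.decompose 𝒜 a 0 : A)
  have hπ₀add : ∀ a b, π₀ (a + b) = π₀ a + π₀ b := fun a b => by
    simp only [π₀, DirectSum.decompose_add, DirectSum.add_apply, Submodule.coe_add]
  have hπ₀zero : π₀ 0 = 0 := by
    simp only [π₀, DirectSum.decompose_zero, DirectSum.zero_apply, Submodule.coe_zero]
  have hπ₀sum : ∀ (s : Finset Λ) (g : Λ → A), π₀ (∑ i ∈ s, g i) = ∑ i ∈ s, π₀ (g i) := by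
    intro s g
    induction s using Finset.induction_on with
    | empty => simp [hπ₀zero]
    | insert i s hi ih => rw [Finset.sum_insert hi, Finset.sum_insert hi, hπ₀add, ih]
  have hπ₀mul : ∀ (a n : A) (e : Λ), n ∈ 𝒜 e →
      π₀ (a * n) = (DirectSum.decompose 𝒜 a (-e) : A) * n := by
    intro a n e hn
    have := DirectSum.coe_decompose_mul_add_of_right_mem 𝒜 (i := -e) (a := a) hn
    rw [neg_add_cancel] at this
    exact this
  -- products of opposite nonzero degrees vanish
  have hopp : ∀ (w : Λ) (x y : A), w ≠ 0 → x ∈ 𝒜 (-w) → y ∈ 𝒜 w → x * y = 0 := by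
    intro w x y hw hx hy
    by_cases h1 : 𝒜 w = ⊥
    · rw [h1] at hy
      rw [(Submodule.mem_bot k).mp hy, mul_zero]
    · by_cases h2 : 𝒜 (-w) = ⊥
      · rw [h2] at hx
        rw [(Submodule.mem_bot k).mp hx, zero_mul]
      · exact absurd (hpos w h1 h2) hw
  let S : Set A := {s | ∃ w : Λ, w ≠ 0 ∧ s ∈ 𝒜 w} ∪ Set.range δ
  have hJ : Ideal.span S = ⊤ := by
    by_contra hne
    obtain ⟨m, hm, hle⟩ := Ideal.exists_le_maximal _ hne
    apply hfix m hm (fun w hw s hs => hle (Ideal.subset_span (Or.inl ⟨w, hw, hs⟩)))
    rintro _ ⟨a, rfl⟩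
    exact hle (Ideal.subset_span (Or.inr ⟨a, rfl⟩))
  have h1 : (1 : A) ∈ Ideal.span S := by rw [hJ]; trivial
  have key : ∀ x ∈ Ideal.span S, ∀ a : A, ∃ f ∈ 𝒜 (-d), δ f = π₀ (a * x) := by
    intro x hx
    induction hx using Submodule.span_induction with
    | mem s hs =>
      intro a
      rcases hs with ⟨e, he, hse⟩ | ⟨c, rfl⟩
      · refine ⟨0, Submodule.zero_mem _, ?_⟩
        rw [map_zero, hπ₀mul a s e hse, hopp e _ _ he (SetLike.coe_mem _) hse]
      · have hc : ∑ i ∈ (DirectSum.decompose 𝒜 c).support, (DirectSum.decompose 𝒜 c i : A) = c :=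
          DirectSum.sum_support_decompose 𝒜 c
        set T := (DirectSum.decompose 𝒜 c).support with hT
        refine ⟨∑ i ∈ T, if i + d = 0 then
          (DirectSum.decompose 𝒜 a 0 : A) * (DirectSum.decompose 𝒜 c i : A) else 0, ?_, ?_⟩
        · apply Submodule.sum_mem
          intro i _
          split_ifs with hi
          · have hid : i = -d := eq_neg_of_add_eq_zero_left hi
            have h0 : (DirectSum.decompose 𝒜 a 0 : A) ∈ 𝒜 0 := SetLike.coe_mem _
            have hci : (DirectSum.decompose 𝒜 c i : A) ∈ 𝒜 i := SetLike.coe_mem _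
            have := SetLike.GradedMul.mul_mem h0 hci
            rw [zero_add] at this
            rw [← hid]
            exact this
          · exact Submodule.zero_mem _
        · have hDc : δ c = ∑ i ∈ T, δ (DirectSum.decompose 𝒜 c i : A) := by
            conv_lhs => rw [← hc]
            rw [map_sum]
          rw [hDc, Finset.mul_sum, hπ₀sum, map_sum]
          apply Finset.sum_congr rfl
          intro i _
          have hci : (DirectSum.decompose 𝒜 c i : A) ∈ 𝒜 i := SetLike.coe_mem _
          have hDci : δ (DirectSum.decompose 𝒜 c i : A) ∈ 𝒜 (i + d) := hhom i _ hci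
          rw [hπ₀mul a _ (i + d) hDci]
          split_ifs with hi
          · rw [hi, neg_zero, Derivation.leibniz, smul_eq_mul, smul_eq_mul]
            have hb : (DirectSum.decompose 𝒜 a 0 : A) ∈ 𝒜 0 := SetLike.coe_mem _
            have hDb : δ (DirectSum.decompose 𝒜 a 0 : A) = 0 := by
              have := hhom 0 _ hb
              rw [zero_add, hd] at this
              exact (Submodule.mem_bot k).mp this
            rw [hDb, mul_zero, add_zero]
          · rw [map_zero, hopp (i + d) _ _ hi (SetLike.coe_mem _) hDci]
    | zero =>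
      intro a
      exact ⟨0, Submodule.zero_mem _, by rw [map_zero, mul_zero, hπ₀zero]⟩
    | add x y _ _ hx hy =>
      intro a
      obtain ⟨f, hfm, hf⟩ := hx a
      obtain ⟨g, hgm, hg⟩ := hy a
      exact ⟨f + g, Submodule.add_mem _ hfm hgm, by rw [map_add, hf, hg, mul_add, hπ₀add]⟩
    | smul b x _ hx =>
      intro a
      obtain ⟨f, hfm, hf⟩ := hx (a * b)
      exact ⟨f, hfm, by rw [hf, smul_eq_mul, mul_assoc]⟩
  obtain ⟨f, hfm, hf⟩ := key 1 h1 1
  refine ⟨f, hfm, ?_⟩
  rw [hf, mul_one]
  exact DirectSum.decompose_of_mem_same 𝒜 (SetLike.GradedOne.one_mem)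

end Groth.Agent.S15121
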