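import Groth.Statements.S15122
-- import your own Groth.Agent.* helpers here
import Mathlib

set_option autoImplicit false
universe u v w
open GIT

namespace Groth.Agent.S15122

/-- Let R be a commutative ring, A a commutative R-algebra graded by the natural numbers, σ a
homogeneous element of degree zero, and B the localisation of A away from σ, equipped with a grading
by the natural numbers for which the localisation map ι : A → B is a graded ring homomorphism (such
a grading is necessarily the one induced from A). Then the homogeneous ideal of B generated by the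
image of the irrelevant ideal of A is the whole irrelevant ideal of B; in other words the induced
rational map from Proj B to Proj A is defined everywhere. (The published statement also assumes σ a
non-zero-divisor, which this step does not use, and goes on to conclude that Proj B → Proj A is an
open immersion onto the basic open set of σ.) -/
theorem result
    (R : Type u) (A : Type v) (B : Type w) [CommRing R] [CommRing A] [CommRing B] [Algebra R A] [Algebra R B]
    [Algebra A B] [IsScalarTower R A B]
    (𝒜 : ℕ → Submodule R A) [GradedAlgebra 𝒜] (ℬ : ℕ → Submodule R B) [GradedAlgebra ℬ]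
    (σ : A) (hσ0 : σ ∈ 𝒜 0) [IsLocalization.Away σ B]
    (ι : 𝒜 →+*ᵍ ℬ) (hι : ∀ a : A, ι a = algebraMap A B a) :
    (HomogeneousIdeal.irrelevant 𝒜).map ι = HomogeneousIdeal.irrelevant ℬ := by
  classical
  apply HomogeneousIdeal.toIdeal_injective
  rw [HomogeneousIdeal.toIdeal_map]
  apply le_antisymm
  · rw [Ideal.map_le_iff_le_comap, HomogeneousIdeal.toIdeal_irrelevant_le]
    intro i hi x hx
    have hx' : x ∈ 𝒜 i := hx
    change ι x ∈ (HomogeneousIdeal.irrelevant ℬ).toIdeal
    exact HomogeneousIdeal.mem_irrelevant_of_mem ℬ hi (ι.map_mem hx')
  · rw [HomogeneousIdeal.toIdeal_irrelevant_le]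
    intro n hn b hb
    have hb' : b ∈ ℬ n := hb
    change b ∈ Ideal.map ι (HomogeneousIdeal.irrelevant 𝒜).toIdeal
    obtain ⟨⟨a, s⟩, has⟩ := IsLocalization.surj (Submonoid.powers σ) b
    obtain ⟨m, hm⟩ := s.2
    simp only at has
    -- b * ι (σ^m) = ι a
    have hσm : (s : A) ∈ 𝒜 0 := by
      rw [← hm]
      have := SetLike.pow_mem_graded m hσ0
      simpa using this
    have h1 : b * algebraMap A B s ∈ ℬ n := by
      have h2 : algebraMap A B s ∈ ℬ 0 := by rw [← hι]; exact ι.map_mem hσm
      have := SetLike.GradedMul.mul_mem hb' h2
      rwa [add_zero] at this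
    have h3 : b * algebraMap A B s = ι (DirectSum.decompose 𝒜 a n : A) := by
      rw [← DirectSum.decompose_of_mem_same ℬ h1, has, ← hι a, ι.map_directSumDecompose]
    have hunit : IsUnit (algebraMap A B s) := IsLocalization.map_units B s
    obtain ⟨u, hu⟩ := hunit
    have h4 : b = ι (DirectSum.decompose 𝒜 a n : A) * ↑u⁻¹ := by
      rw [← h3, ← hu, mul_assoc, Units.mul_inv, mul_one]
    rw [h4]
    apply Ideal.mul_mem_right
    apply Ideal.mem_map_of_mem
    exact HomogeneousIdeal.mem_irrelevant_of_mem 𝒜 hn (SetLike.coe_mem _)

end Groth.Agent.S15122
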