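import Groth.Statements.S15123
-- import your own Groth.Agent.* helpers here
import Mathlib
import Groth.Agent.Lib.Helper22.TorusWt

set_option autoImplicit false
universe u v w
open InvQ

namespace Groth.Agent.S15123

/-- Let k be an algebraically closed field of characteristic zero, Λ a finitely generated free abelian
group and k[Λ] its group algebra, the coordinate Hopf algebra of the torus with character group Λ.
Let R be a reduced finitely generated commutative k-algebra with a multiplicative coaction of k[Λ]
(an action of the torus on the affine variety Spec R), and suppose the grading monoid is positive: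
if R has a non-zero eigenvector of weight w and one of weight −w then w = 0. Then for every k-point
x of Spec R, the orbit of x is closed if and only if x is a fixed point. (The published statement
also asserts that the fixed-point subvariety is affine and is a good quotient for the action; only
the description of the closed orbits is stated here.) -/
theorem result
    (k : Type u) [Field k] [IsAlgClosed k] [CharZero k]
    (Λ : Type v) [AddCommGroup Λ] [Module.Free ℤ Λ] [Module.Finite ℤ Λ]
    (R : Type w) [CommRing R] [Algebra k R] [Algebra.FiniteType k R] [IsReduced R]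
    [HopfRep.Comod k (AddMonoidAlgebra k Λ) R] [GLin.IsCoactAlg k (AddMonoidAlgebra k Λ) R]
    (hpos : ∀ w : Λ, HopfRep.eigenspace k (AddMonoidAlgebra k Λ) R (AddMonoidAlgebra.single w 1) ≠ ⊥ →
      HopfRep.eigenspace k (AddMonoidAlgebra k Λ) R (AddMonoidAlgebra.single (-w) 1) ≠ ⊥ → w = 0)
    (x : R →ₐ[k] k) :
    GLin.IsClosedOrbit k (AddMonoidAlgebra k Λ) x ↔ GLin.IsFixedPt k (AddMonoidAlgebra k Λ) x := by
  classical
  constructor
  · -- closed orbit ⇒ fixed point
    intro hclosed
    by_contra hnf
    -- Step 1: a homogeneous function of non-zero weight not vanishing at x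
    have hex : ∃ w : Λ, w ≠ 0 ∧ ∃ g : R,
        g ∈ HopfRep.eigenspace k (AddMonoidAlgebra k Λ) R (AddMonoidAlgebra.single w 1) ∧ x g ≠ 0 := by
      by_contra hcon
      push Not at hcon
      apply hnf
      apply AlgHom.ext
      intro f
      apply AddMonoidAlgebra.ext
      apply Finsupp.ext
      intro w
      rw [Groth.Agent.Lib.Helper22.TorusWt.coeff_orbitHom]
      show _ = (algebraMap k (AddMonoidAlgebra k Λ) (x f)).coeff w
      rw [show algebraMap k (AddMonoidAlgebra k Λ) (x f) = AddMonoidAlgebra.single (0 : Λ) (x f) from rfl,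
        AddMonoidAlgebra.coeff_single, Finsupp.single_apply]
      by_cases hw : w = 0
      · subst hw
        rw [if_pos rfl]
        have hf := Groth.Agent.Lib.Helper22.TorusWt.sum_proj (k := k) (Λ := Λ) f
        conv_rhs => rw [hf]
        rw [Finsupp.sum, map_sum, Finset.sum_eq_single (0 : Λ)]
        · rw [Groth.Agent.Lib.Helper22.TorusWt.comps_apply]
        · intro v _ hv
          rw [Groth.Agent.Lib.Helper22.TorusWt.comps_apply]
          exact hcon v hv _ (Groth.Agent.Lib.Helper22.TorusWt.proj_mem_eigenspace v f)
        · intro h0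
          rw [Finsupp.notMem_support_iff] at h0
          rw [h0, map_zero]
      · rw [if_neg (Ne.symm hw)]
        exact hcon w hw _ (Groth.Agent.Lib.Helper22.TorusWt.proj_mem_eigenspace w f)
    obtain ⟨w, hw, g, hgw, hxg⟩ := hex
    -- Step 2: the limit point y = x ∘ proj 0
    let y : R →ₐ[k] k := AlgHom.ofLinearMap
      (x.toLinearMap ∘ₗ Groth.Agent.Lib.Helper22.TorusWt.proj k (0 : Λ))
      (by
        show x (Groth.Agent.Lib.Helper22.TorusWt.proj k (0 : Λ) (1 : R)) = 1
        rw [Groth.Agent.Lib.Helper22.TorusWt.proj_self_of_mem 0 _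
          Groth.Agent.Lib.Helper22.TorusWt.one_mem_eigenspace, map_one])
      (by
        intro f f'
        show x (Groth.Agent.Lib.Helper22.TorusWt.proj k (0 : Λ) (f * f')) =
          x (Groth.Agent.Lib.Helper22.TorusWt.proj k (0 : Λ) f) *
            x (Groth.Agent.Lib.Helper22.TorusWt.proj k (0 : Λ) f')
        rw [Groth.Agent.Lib.Helper22.TorusWt.proj_zero_mul hpos, map_mul])
    have hy : ∀ f : R, y f = x (Groth.Agent.Lib.Helper22.TorusWt.proj k (0 : Λ) f) := fun f => rfl
    -- Step 3
    have hker : RingHom.ker (GLin.orbitHom k (AddMonoidAlgebra k Λ) x).toRingHom ≤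
        RingHom.ker y.toRingHom := by
      intro f hf
      rw [RingHom.mem_ker] at hf ⊢
      show y f = 0
      rw [hy, ← Groth.Agent.Lib.Helper22.TorusWt.coeff_orbitHom]
      have hf' : GLin.orbitHom k (AddMonoidAlgebra k Λ) x f = 0 := hf
      rw [hf']
      rfl
    -- Step 4
    have hmem : (⟨RingHom.ker y.toRingHom, RingHom.ker_isPrime _⟩ : PrimeSpectrum R) ∈
        Set.range (PrimeSpectrum.comap (GLin.orbitHom k (AddMonoidAlgebra k Λ) x).toRingHom) := by
      have hc : IsClosed (Set.range
          (PrimeSpectrum.comap (GLin.orbitHom k (AddMonoidAlgebra k Λ) x).toRingHom)) := hclosed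
      rw [← hc.closure_eq, PrimeSpectrum.closure_range_comap, PrimeSpectrum.mem_zeroLocus]
      exact hker
    obtain ⟨q, hq⟩ := hmem
    -- Step 5
    have hgy : g ∈ RingHom.ker y.toRingHom := by
      rw [RingHom.mem_ker]
      show y g = 0
      rw [hy, Groth.Agent.Lib.Helper22.TorusWt.proj_of_mem_of_ne 0 w g hgw hw, map_zero]
    have hgq : GLin.orbitHom k (AddMonoidAlgebra k Λ) x g ∈ q.asIdeal := by
      have h1 : g ∈ (PrimeSpectrum.comap (GLin.orbitHom k (AddMonoidAlgebra k Λ) x).toRingHom q).asIdeal := by
        rw [hq]; exact hgy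
      exact h1
    have hφg : GLin.orbitHom k (AddMonoidAlgebra k Λ) x g = AddMonoidAlgebra.single w (x g) := by
      apply AddMonoidAlgebra.ext
      apply Finsupp.ext
      intro u
      rw [Groth.Agent.Lib.Helper22.TorusWt.coeff_orbitHom, AddMonoidAlgebra.coeff_single,
        Finsupp.single_apply, Groth.Agent.Lib.Helper22.TorusWt.proj_of_mem u w g hgw]
      split_ifs
      · rfl
      · exact map_zero x
    have hone : (1 : AddMonoidAlgebra k Λ) ∈ q.asIdeal := by
      have h2 := q.asIdeal.mul_mem_left (AddMonoidAlgebra.single (-w) (x g)⁻¹) hgq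
      rw [hφg, AddMonoidAlgebra.single_mul_single, neg_add_cancel, inv_mul_cancel₀ hxg] at h2
      rw [AddMonoidAlgebra.one_def]
      exact h2
    exact q.2.ne_top ((Ideal.eq_top_iff_one _).mpr hone)
  · -- fixed point ⇒ closed orbit
    intro hfix
    have hx : (RingHom.ker x.toRingHom).IsMaximal :=
      RingHom.ker_isMaximal_of_surjective x.toRingHom (fun c => ⟨algebraMap k R c, by simp⟩)
    have hsub : Set.range (PrimeSpectrum.comap (GLin.orbitHom k (AddMonoidAlgebra k Λ) x).toRingHom) ⊆
        {(⟨RingHom.ker x.toRingHom, hx.isPrime⟩ : PrimeSpectrum R)} := by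
      rintro _ ⟨q, rfl⟩
      rw [Set.mem_singleton_iff]
      apply PrimeSpectrum.ext
      ext f
      show GLin.orbitHom k (AddMonoidAlgebra k Λ) x f ∈ q.asIdeal ↔ x f = 0
      have hf : GLin.orbitHom k (AddMonoidAlgebra k Λ) x f = algebraMap k (AddMonoidAlgebra k Λ) (x f) := by
        have h := hfix
        unfold GLin.IsFixedPt at h
        rw [h]
        rfl
      rw [hf]
      constructor
      · intro h
        by_contra hne
        apply q.2.ne_top
        rw [Ideal.eq_top_iff_one]
        have h2 := q.asIdeal.mul_mem_left (algebraMap k (AddMonoidAlgebra k Λ) (x f)⁻¹) h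
        rw [← map_mul, inv_mul_cancel₀ hne, map_one] at h2
        exact h2
      · intro h
        rw [h, map_zero]
        exact q.asIdeal.zero_mem
    show IsClosed _
    rcases Set.subset_singleton_iff_eq.mp hsub with h | h
    · rw [h]; exact isClosed_empty
    · rw [h, PrimeSpectrum.isClosed_singleton_iff_isMaximal]
      exact hx

end Groth.Agent.S15123
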