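import Groth.Statements.S15124
-- import your own Groth.Agent.* helpers here
import Mathlib
import Groth.Agent.Lib.Helper22.TorusWt

set_option autoImplicit false
universe u v w
open InvQ

namespace Groth.Agent.S15124

/-- Let k be an algebraically closed field of characteristic zero, Λ a finitely generated free abelian
group with group algebra k[Λ] (the coordinate Hopf algebra of a torus T), and R a reduced finitely
generated commutative k-algebra with a multiplicative coaction of k[Λ] (an action of T on the affine
variety X = Spec R) whose grading monoid is positive: if R has non-zero eigenvectors of weights w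
and −w then w = 0. Let I be the ideal of R generated by all eigenvectors of non-zero weight (the
ideal of the fixed-point subscheme X^T). Then the composite of the inclusion of the ring of
invariants R^T into R with the projection R → R/I is bijective: the fixed-point subscheme maps
isomorphically onto the affine quotient Spec R^T. (The published statement phrases this as: X^T is
affine and X → X^T is a good quotient; the good-quotient property itself is not restated here.) -/
theorem result
    (k : Type u) [Field k] [IsAlgClosed k] [CharZero k]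
    (Λ : Type v) [AddCommGroup Λ] [Module.Free ℤ Λ] [Module.Finite ℤ Λ]
    (R : Type w) [CommRing R] [Algebra k R] [Algebra.FiniteType k R] [IsReduced R]
    [HopfRep.Comod k (AddMonoidAlgebra k Λ) R] [GLin.IsCoactAlg k (AddMonoidAlgebra k Λ) R]
    (hpos : ∀ w : Λ, HopfRep.eigenspace k (AddMonoidAlgebra k Λ) R (AddMonoidAlgebra.single w 1) ≠ ⊥ →
      HopfRep.eigenspace k (AddMonoidAlgebra k Λ) R (AddMonoidAlgebra.single (-w) 1) ≠ ⊥ → w = 0) :
    Function.Bijective
      ((Ideal.Quotient.mkₐ k (Ideal.span {f : R | ∃ w : Λ, w ≠ 0 ∧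
          f ∈ HopfRep.eigenspace k (AddMonoidAlgebra k Λ) R (AddMonoidAlgebra.single w 1)})).comp
        (GLin.invariants k (AddMonoidAlgebra k Λ) R).val) := by
  classical
  have hkill : ∀ x ∈ Ideal.span {f : R | ∃ w : Λ, w ≠ 0 ∧
      f ∈ HopfRep.eigenspace k (AddMonoidAlgebra k Λ) R (AddMonoidAlgebra.single w 1)},
      ∀ r : R, Groth.Agent.Lib.Helper22.TorusWt.proj k (0 : Λ) (r * x) = 0 := by
    intro x hx
    induction hx using Submodule.span_induction with
    | mem x hx =>
      obtain ⟨w, hw, hxw⟩ := hx
      intro r
      exact Groth.Agent.Lib.Helper22.TorusWt.proj_zero_mul_of_mem hpos hw r x hxw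
    | zero => intro r; rw [mul_zero, map_zero]
    | add x y _ _ hx hy => intro r; rw [mul_add, map_add, hx, hy, add_zero]
    | smul a x _ hx => intro r; rw [smul_eq_mul, ← mul_assoc]; exact hx (r * a)
  constructor
  · rw [injective_iff_map_eq_zero]
    intro f hf
    have hfI : (f : R) ∈ Ideal.span {f : R | ∃ w : Λ, w ≠ 0 ∧
        f ∈ HopfRep.eigenspace k (AddMonoidAlgebra k Λ) R (AddMonoidAlgebra.single w 1)} :=
      Ideal.Quotient.eq_zero_iff_mem.mp hf
    have h0 := hkill _ hfI 1
    rw [one_mul] at h0
    have hfe : (f : R) ∈ HopfRep.eigenspace k (AddMonoidAlgebra k Λ) R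
        (AddMonoidAlgebra.single (0 : Λ) (1 : k)) := by
      have h := f.2
      show HopfRep.Comod.coact (k := k) (A := AddMonoidAlgebra k Λ) (f : R) = _
      rw [← AddMonoidAlgebra.one_def]
      exact h
    rw [Groth.Agent.Lib.Helper22.TorusWt.proj_self_of_mem 0 _ hfe] at h0
    exact Subtype.ext h0
  · intro y
    obtain ⟨f, rfl⟩ := Ideal.Quotient.mk_surjective y
    refine ⟨⟨Groth.Agent.Lib.Helper22.TorusWt.proj k (0 : Λ) f, ?_⟩, ?_⟩
    · show HopfRep.Comod.coact (k := k) (A := AddMonoidAlgebra k Λ)
        (Groth.Agent.Lib.Helper22.TorusWt.proj k (0 : Λ) f) = _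
      rw [AddMonoidAlgebra.one_def]
      exact Groth.Agent.Lib.Helper22.TorusWt.coact_proj 0 f
    · show Ideal.Quotient.mk _ (Groth.Agent.Lib.Helper22.TorusWt.proj k (0 : Λ) f) =
        Ideal.Quotient.mk _ f
      rw [Ideal.Quotient.eq]
      have hf := Groth.Agent.Lib.Helper22.TorusWt.sum_proj (k := k) (Λ := Λ) f
      have hs : (Groth.Agent.Lib.Helper22.TorusWt.comps k Λ f).support ⊆
          insert (0 : Λ) (Groth.Agent.Lib.Helper22.TorusWt.comps k Λ f).support :=
        Finset.subset_insert _ _
      rw [Finsupp.sum_of_support_subset _ hs _ (fun _ _ => rfl),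
        ← Finset.add_sum_erase _ _ (Finset.mem_insert_self _ _),
        Groth.Agent.Lib.Helper22.TorusWt.comps_apply] at hf
      have h2 : f - Groth.Agent.Lib.Helper22.TorusWt.proj k (0 : Λ) f =
          ∑ w ∈ (insert (0 : Λ) (Groth.Agent.Lib.Helper22.TorusWt.comps k Λ f).support).erase 0,
            (Groth.Agent.Lib.Helper22.TorusWt.comps k Λ f) w := by
        rw [sub_eq_iff_eq_add']
        exact hf
      rw [← neg_sub, h2]
      apply neg_mem
      apply Ideal.sum_mem
      intro w hw
      apply Ideal.subset_span
      refine ⟨w, (Finset.mem_erase.mp hw).1, ?_⟩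
      rw [Groth.Agent.Lib.Helper22.TorusWt.comps_apply]
      exact Groth.Agent.Lib.Helper22.TorusWt.proj_mem_eigenspace w f

end Groth.Agent.S15124
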