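import Groth.Statements.S15130
-- import your own Groth.Agent.* helpers here
import Mathlib
import Groth.Agent.Lib.Helper22.ArtinFlat

set_option autoImplicit false
universe u v
open CAlg

namespace Groth.Agent.S15130

/-- Let A be an Artinian local ring with residue field k and P → Q → R → M → 0 a complex of A-modules
with P, Q, R flat which is exact at R and at M. If the reduced complex k ⊗ P → k ⊗ Q → k ⊗ R is
exact (the rest of the reduced sequence is then automatically exact), then M is flat and the
original complex is exact at Q as well. (The published statement is for local Artinian algebras over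
an algebraically closed field of characteristic zero having that field as residue field; this row
allows any Artinian local ring.) -/
theorem result
    (A : Type u) [CommRing A] [IsLocalRing A] [IsArtinianRing A]
    (P Q R M : Type v) [AddCommGroup P] [Module A P] [AddCommGroup Q] [Module A Q]
    [AddCommGroup R] [Module A R] [AddCommGroup M] [Module A M]
    [Module.Flat A P] [Module.Flat A Q] [Module.Flat A R]
    (f : P →ₗ[A] Q) (g : Q →ₗ[A] R) (h : R →ₗ[A] M)
    (hfg : g ∘ₗ f = 0) (hgh : Function.Exact g h) (hh : Function.Surjective h)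
    (hred : Function.Exact (f.lTensor (IsLocalRing.ResidueField A)) (g.lTensor (IsLocalRing.ResidueField A))) :
    Module.Flat A M ∧ Function.Exact f g := by
  classical
  let k := IsLocalRing.ResidueField A
  let Z : Submodule A R := LinearMap.range g
  let g' : Q →ₗ[A] Z := g.rangeRestrict
  have hg' : Function.Surjective g' := LinearMap.surjective_rangeRestrict g
  have hιg' : Z.subtype ∘ₗ g' = g := by ext q; rfl
  have hg'f : g' ∘ₗ f = 0 := by
    ext p
    have := LinearMap.congr_fun hfg p
    simpa [g'] using this
  -- Step 1
  have h1 : Function.Injective (Z.subtype.lTensor k) := by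
    rw [injective_iff_map_eq_zero]
    intro x hx
    obtain ⟨q, rfl⟩ := LinearMap.lTensor_surjective k hg' x
    have hq : (g.lTensor k) q = 0 := by
      rw [← hιg', LinearMap.lTensor_comp, LinearMap.comp_apply]; exact hx
    obtain ⟨p, rfl⟩ := (hred q).mp hq
    rw [← LinearMap.comp_apply, ← LinearMap.lTensor_comp, hg'f, LinearMap.lTensor_zero,
      LinearMap.zero_apply]
  -- Step 2
  have hexZ : Function.Exact Z.subtype h := by
    intro r
    rw [hgh r]
    constructor
    · rintro ⟨q, rfl⟩; exact ⟨⟨g q, ⟨q, rfl⟩⟩, rfl⟩
    · rintro ⟨⟨_, ⟨q, rfl⟩⟩, rfl⟩; exact ⟨q, rfl⟩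
  have hMflat : Module.Flat A M := by
    apply Groth.Agent.Lib.Helper22.ArtinFlat.flat_of_exact_of_quotient_injective Z.subtype h hh hexZ
    intro I
    exact Groth.Agent.Lib.Helper22.ArtinFlat.lTensor_injective_of_residue Z.subtype h1 (A ⧸ I)
  have hZflat : Module.Flat A Z :=
    Groth.Agent.Lib.Helper22.ArtinFlat.flat_of_exact_of_flat_of_flat Z.subtype h
      Z.injective_subtype hh hexZ
  refine ⟨hMflat, ?_⟩
  -- Step 3
  let W : Submodule A Q := LinearMap.ker g'
  have hexW : Function.Exact W.subtype g' := LinearMap.exact_subtype_ker_map g'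
  have hWinj : Function.Injective (W.subtype.lTensor k) :=
    LinearMap.lTensor_injective_of_exact_of_flat g' hg' W.subtype W.injective_subtype hexW _
  -- Step 4
  have hfW : ∀ p, f p ∈ W := fun p => by
    rw [LinearMap.mem_ker]
    exact LinearMap.congr_fun hg'f p
  let f' : P →ₗ[A] W := f.codRestrict W hfW
  have hjf' : W.subtype ∘ₗ f' = f := LinearMap.subtype_comp_codRestrict f W hfW
  have hgj : g ∘ₗ W.subtype = 0 := by
    ext w
    have hw : g' (w : Q) = 0 := w.2
    have h2 : (Z.subtype (g' (w : Q)) : R) = 0 := by rw [hw]; rfl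
    exact h2
  have hsurj : Function.Surjective (f'.lTensor k) := by
    intro w
    have h0 : (g.lTensor k) ((W.subtype.lTensor k) w) = 0 := by
      rw [← LinearMap.comp_apply, ← LinearMap.lTensor_comp, hgj, LinearMap.lTensor_zero,
        LinearMap.zero_apply]
    obtain ⟨p, hp⟩ := (hred _).mp h0
    refine ⟨p, ?_⟩
    apply hWinj
    rw [← LinearMap.comp_apply, ← LinearMap.lTensor_comp, hjf']
    exact hp
  -- Step 5
  have hf'surj : Function.Surjective f' :=
    Groth.Agent.Lib.Helper22.ArtinFlat.surjective_of_residue f' hsurj
  intro q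
  constructor
  · intro hq
    have hqW : q ∈ W := by
      rw [LinearMap.mem_ker]
      apply Subtype.ext
      simpa [g'] using hq
    obtain ⟨p, hp⟩ := hf'surj ⟨q, hqW⟩
    exact ⟨p, by have := congrArg Subtype.val hp; simpa [f'] using this⟩
  · rintro ⟨p, rfl⟩
    exact LinearMap.congr_fun hfg p

end Groth.Agent.S15130
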