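import Groth.Statements.S15131
-- import your own Groth.Agent.* helpers here
import Mathlib
import Groth.Agent.Lib.Helper22.ArtFunH

set_option autoImplicit false
universe u v
open CategoryTheory
open ArtFun

namespace Groth.Agent.S15131

/-- Let k be a field and F a functor on local Artinian k-algebras with residue field k with F(k) a
single point, satisfying (H1) (the comparison map of A₁ ×_A A₂ is surjective when A₂ → A is a small
extension) and (H2) (it is bijective when A = k and A₂ = k[ε]). If the tangent space F(k[ε]) is a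
single point then F is the one-point functor: every F(A) has exactly one element. (The converse is
clear.) -/
theorem result
    {k : Type u} [Field k] (F : ArtFun.Art k k ⥤ Type v)
    (h0 : ArtFun.H0 F) (h1 : ArtFun.Hbar F) (h2 : ArtFun.Heps F)
    (ht : Subsingleton (ArtFun.TangentSpace F)) (A : ArtFun.Art k k) :
    Nonempty (F.obj A) ∧ Subsingleton (F.obj A) := by
  classical
  -- nonemptiness: push the point of `F(k)` along the structure map `k → A`
  have hne : Nonempty (F.obj A) := by
    obtain ⟨x0⟩ := h0.1
    have hcomp : A.res.comp (Algebra.ofId k A) = (ArtFun.Art.base k k).res :=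
      AlgHom.ext fun c => by
        show A.res (algebraMap k A c) = c
        rw [AlgHom.commutes]; rfl
    exact ⟨F.map (ArtFun.Art.homMk (A := ArtFun.Art.base k k) (B := A) (Algebra.ofId k A) hcomp) x0⟩
  refine ⟨hne, ?_⟩
  -- injectivity of `F.map f` for all surjective `f`
  have hinj : ∀ ⦃A B : ArtFun.Art k k⦄ (f : B ⟶ A), Function.Surjective f →
      Function.Injective (F.map f) := by
    apply Groth.Agent.Lib.Helper19.ArtFunBasic.surjective_induction
      (P := fun A B f => Function.Injective (F.map f))
    · intro A B e he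
      exact (Groth.Agent.Lib.Helper22.ArtFunH.bijective_map_of_isIso e).1
    · intro A B p hp y y' hyy'
      obtain ⟨t, htt⟩ := hp.2.2.1
      have ht' : RingHom.ker p.toAlgHom = Ideal.span {t} := htt
      obtain ⟨P, p₁, p₂, hP⟩ := Groth.Agent.Lib.Helper19.ArtFunLength.exists_isFibreProd p p hp.1
      obtain ⟨g, -, hg⟩ := Groth.Agent.Lib.Helper22.ArtFunH.exists_toDual p hp t ht' p₁ p₂ hP
      obtain ⟨δ, hδ1, hδ2⟩ := Groth.Agent.Lib.Helper22.ArtFunH.exists_diag hP
      obtain ⟨z, hz⟩ := h1 p₁ p₂ p p hP hp ⟨(y, y'), hyy'⟩
      have hz1 : F.map p₁ z = y := congrArg (fun w => w.1.1) hz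
      have hz2 : F.map p₂ z = y' := congrArg (fun w => w.1.2) hz
      have hzz : z = F.map δ y := by
        apply (h2 p₁ g hg).1
        apply ArtFun.FibProd.ext
        · show F.map p₁ z = F.map p₁ (F.map δ y)
          rw [← Groth.Agent.Lib.Helper22.ArtFunH.map_comp_apply, hδ1,
            Groth.Agent.Lib.Helper22.ArtFunH.map_id_apply, hz1]
        · exact @Subsingleton.elim _ ht _ _
      rw [← hz2, hzz, ← Groth.Agent.Lib.Helper22.ArtFunH.map_comp_apply, hδ2,
        Groth.Agent.Lib.Helper22.ArtFunH.map_id_apply]
    · intro A B C p q hp hq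
      intro y y' hyy'
      rw [Groth.Agent.Lib.Helper22.ArtFunH.map_comp_apply,
        Groth.Agent.Lib.Helper22.ArtFunH.map_comp_apply] at hyy'
      exact hp (hq hyy')
  have hA := hinj (ArtFun.Art.toBase A) A.res_surjective
  exact ⟨fun a b => hA (@Subsingleton.elim _ h0.2 _ _)⟩

end Groth.Agent.S15131
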