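import Groth.Statements.S15133
-- import your own Groth.Agent.* helpers here
import Mathlib
import Groth.Agent.Lib.Helper22.ArtinFlat2

set_option autoImplicit false
universe u
open CategoryTheory
open CAlg

namespace Groth.Agent.S15133

/-- Let A be an Artinian local ring with residue field k, n ≥ 1, and 0 → I → P₀ → P₁ → ⋯ → Pₙ a complex
of A-modules with P₀, …, Pₙ flat whose reduction 0 → k ⊗ I → k ⊗ P₀ → ⋯ → k ⊗ Pₙ is exact. Then I
and coker(Pₙ₋₁ → Pₙ) are flat. The complex is written as a cochain complex C indexed by ℕ with C⁰ =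
I and Cⁱ⁺¹ = Pᵢ; its terms in degrees above n + 1 play no role. (The published statement adds that I
maps onto the kernel of k ⊗ P₀ → k ⊗ P₁, which is already part of the exactness hypothesis, and is
for local Artinian algebras over an algebraically closed field of characteristic zero having that
field as residue field; this row allows any Artinian local ring.) -/
theorem result
    (A : Type u) [CommRing A] [IsLocalRing A] [IsArtinianRing A] (n : ℕ) (hn : 0 < n)
    (C : CochainComplex (ModuleCat.{u} A) ℕ)
    (hflat : ∀ i, i ≤ n → Module.Flat A (C.X (i + 1)))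
    (hred : ∀ j, j ≤ n →
      (((MonoidalCategory.tensorLeft (ModuleCat.of A (IsLocalRing.ResidueField A))).mapHomologicalComplex
        (ComplexShape.up ℕ)).obj C).ExactAt j) :
    Module.Flat A (C.X 0) ∧ Module.Flat A (C.X (n + 1) ⧸ LinearMap.range (C.d n (n + 1)).hom) := by
  classical
  have hd : ∀ i : ℕ, (C.d (i + 1) (i + 2)).hom ∘ₗ (C.d i (i + 1)).hom = 0 := by
    intro i
    have h := C.d_comp_d i (i + 1) (i + 2)
    have h' := congrArg ModuleCat.Hom.hom h
    exact h'
  have hex : ∀ j : ℕ, j + 1 ≤ n →
      Function.Exact ((C.d j (j + 1)).hom.lTensor (IsLocalRing.ResidueField A))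
        ((C.d (j + 1) (j + 2)).hom.lTensor (IsLocalRing.ResidueField A)) := by
    intro j hj
    have h := hred (j + 1) hj
    rw [HomologicalComplex.exactAt_iff' _ j (j + 1) (j + 2) (by simp) (by simp)] at h
    rw [ShortComplex.ShortExact.moduleCat_exact_iff_function_exact] at h
    exact h
  have hinj : Function.Injective ((C.d 0 1).hom.lTensor (IsLocalRing.ResidueField A)) := by
    have h := hred 0 (Nat.zero_le _)
    rw [HomologicalComplex.exactAt_iff' _ 0 0 1 (by simp) (by simp)] at h
    rw [ShortComplex.ShortExact.moduleCat_exact_iff_function_exact] at h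
    rw [injective_iff_map_eq_zero]
    intro x hx
    obtain ⟨y, hy⟩ := (h x).mp hx
    rw [← hy]
    have h0 := HomologicalComplex.shape
      (((MonoidalCategory.tensorLeft (ModuleCat.of A (IsLocalRing.ResidueField A))).mapHomologicalComplex
        (ComplexShape.up ℕ)).obj C) 0 0 (by simp)
    show ((((MonoidalCategory.tensorLeft (ModuleCat.of A (IsLocalRing.ResidueField A))).mapHomologicalComplex
        (ComplexShape.up ℕ)).obj C).d 0 0).hom y = 0
    rw [h0]
    rfl
  have hf1 : Module.Flat A (C.X 1) := hflat 0 (Nat.zero_le _)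
  have hf2 : Module.Flat A (C.X 2) := hflat 1 hn
  refine ⟨?_, ?_⟩
  · exact Groth.Agent.Lib.Helper22.ArtinFlat.flat_of_reduction_exact (C.d 0 1).hom (C.d 1 2).hom
      (hd 0) hinj (hex 0 hn)
  · obtain ⟨m, rfl⟩ : ∃ m, n = m + 1 := ⟨n - 1, by omega⟩
    have hfa : Module.Flat A (C.X (m + 1)) := hflat m (by omega)
    have hfb : Module.Flat A (C.X (m + 1 + 1)) := hflat (m + 1) le_rfl
    exact (Groth.Agent.Lib.Helper22.ArtinFlat.flat_coker_and_exact (C.d m (m + 1)).hom
      (C.d (m + 1) (m + 1 + 1)).hom (LinearMap.range (C.d (m + 1) (m + 1 + 1)).hom).mkQ (hd m)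
      (by
        intro r
        rw [Submodule.mkQ_apply, Submodule.Quotient.mk_eq_zero]
        exact Iff.rfl)
      (Submodule.mkQ_surjective _) (hex m le_rfl)).1

end Groth.Agent.S15133
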