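import Groth.Statements.S15134
-- import your own Groth.Agent.* helpers here
import Mathlib
import Groth.Agent.Lib.Helper22.ArtFunH

set_option autoImplicit false
universe u v
open CategoryTheory
open ArtFun

namespace Groth.Agent.S15134

/-- Let k be a field and F a functor on local Artinian k-algebras with residue field k with F(k) a
point. If F satisfies (H2') — the comparison map F(A₁ ×_k A₂) → F(A₁) × F(A₂) is bijective for every
pair of objects — then F satisfies condition (L): for every small extension f : B → A with kernel J,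
writing P = B ×_k B, Q = A ×_k A, r : P → Q for the map induced by f, and C = P/K with K the ideal
of P consisting of the pairs (b, b) with b ∈ J, every element of F(Q) whose two images in F(A) agree
lifts along F(C) → F(Q). Here P and Q are pinned as fibre products over k, K is described through
the two projections, and the two inequalities on K (it lies in the maximal ideal of P and is killed
by r), which always hold, are taken as hypotheses so that the quotient object and the factored map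
can be named. -/
theorem result
    {k : Type u} [Field k] (F : ArtFun.Art k k ⥤ Type v) (h0 : ArtFun.H0 F)
    (h2' : ∀ ⦃P A' A'' : ArtFun.Art k k⦄ (p' : P ⟶ A') (p'' : P ⟶ A'')
      (h : ArtFun.Art.IsFibreProd p' p'' (ArtFun.Art.toBase A') (ArtFun.Art.toBase A'')),
      Function.Bijective (ArtFun.cmp F h))
    ⦃B A : ArtFun.Art k k⦄ (f : B ⟶ A) (hf : ArtFun.Art.IsSmallExt f)
    ⦃P : ArtFun.Art k k⦄ (p₁ p₂ : P ⟶ B)
    (hP : ArtFun.Art.IsFibreProd p₁ p₂ (ArtFun.Art.toBase B) (ArtFun.Art.toBase B))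
    ⦃Q : ArtFun.Art k k⦄ (q₁ q₂ : Q ⟶ A)
    (hQ : ArtFun.Art.IsFibreProd q₁ q₂ (ArtFun.Art.toBase A) (ArtFun.Art.toBase A))
    (r : P ⟶ Q) (hr₁ : r ≫ q₁ = p₁ ≫ f) (hr₂ : r ≫ q₂ = p₂ ≫ f)
    (hK : Ideal.span {z : P | p₁ z = p₂ z ∧ f (p₁ z) = 0} ≤ IsLocalRing.maximalIdeal P)
    (hKr : Ideal.span {z : P | p₁ z = p₂ z ∧ f (p₁ z) = 0} ≤ RingHom.ker r.toAlgHom)
    (y : F.obj Q) (hy : F.map q₁ y = F.map q₂ y) :
    ∃ z : F.obj (ArtFun.Art.quot P (Ideal.span {z : P | p₁ z = p₂ z ∧ f (p₁ z) = 0}) hK),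
      F.map (ArtFun.Art.quotFactor hK r hKr) z = y := by
  classical
  have hfs : Function.Surjective f := hf.1
  -- the diagonal of B
  obtain ⟨δ, hδ1, hδ2⟩ := Groth.Agent.Lib.Helper22.ArtFunH.exists_diag hP
  set K : Ideal P := Ideal.span {z : P | p₁ z = p₂ z ∧ f (p₁ z) = 0} with hKdef
  -- the map B → P → P/K kills ker f
  have hδ1' : ∀ b : B, p₁ (δ b) = b := fun b => congrArg (fun g : B ⟶ B => g b) hδ1
  have hδ2' : ∀ b : B, p₂ (δ b) = b := fun b => congrArg (fun g : B ⟶ B => g b) hδ2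
  have hker : RingHom.ker f.toAlgHom ≤ RingHom.ker (δ ≫ ArtFun.Art.quotMk P K hK).toAlgHom := by
    intro b hb
    rw [RingHom.mem_ker]
    show ArtFun.Art.quotMk P K hK (δ b) = 0
    rw [Groth.Agent.Lib.Helper19.ArtFunBasic.quotMk_eq_zero_iff]
    apply Ideal.subset_span
    refine ⟨?_, ?_⟩
    · rw [hδ1', hδ2']
    · rw [hδ1']; exact hb
  obtain ⟨s, hs⟩ := Groth.Agent.Lib.Helper22.ArtFunH.exists_factor f hfs
    (δ ≫ ArtFun.Art.quotMk P K hK) hker
  have hs' : ∀ b : B, s (f b) = ArtFun.Art.quotMk P K hK (δ b) :=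
    fun b => congrArg (fun g : B ⟶ ArtFun.Art.quot P K hK => g b) hs
  -- the diagonal of A
  set Δ : A ⟶ Q := s ≫ ArtFun.Art.quotFactor hK r hKr with hΔ
  have hr₁' : ∀ z : P, q₁ (r z) = f (p₁ z) := fun z => congrArg (fun g : P ⟶ A => g z) hr₁
  have hr₂' : ∀ z : P, q₂ (r z) = f (p₂ z) := fun z => congrArg (fun g : P ⟶ A => g z) hr₂
  have hΔ1 : Δ ≫ q₁ = 𝟙 A := by
    apply ArtFun.Art.hom_ext
    apply AlgHom.ext
    intro a
    obtain ⟨b, rfl⟩ := hfs a
    show q₁ (ArtFun.Art.quotFactor hK r hKr (s (f b))) = f b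
    rw [hs', Groth.Agent.Lib.Helper19.ArtFunBasic.quotFactor_quotMk, hr₁', hδ1']
  have hΔ2 : Δ ≫ q₂ = 𝟙 A := by
    apply ArtFun.Art.hom_ext
    apply AlgHom.ext
    intro a
    obtain ⟨b, rfl⟩ := hfs a
    show q₂ (ArtFun.Art.quotFactor hK r hKr (s (f b))) = f b
    rw [hs', Groth.Agent.Lib.Helper19.ArtFunBasic.quotFactor_quotMk, hr₂', hδ2']
  refine ⟨F.map s (F.map q₁ y), ?_⟩
  rw [← Groth.Agent.Lib.Helper22.ArtFunH.map_comp_apply]
  apply (h2' q₁ q₂ hQ).1
  apply ArtFun.FibProd.ext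
  · show F.map q₁ (F.map Δ (F.map q₁ y)) = F.map q₁ y
    rw [← Groth.Agent.Lib.Helper22.ArtFunH.map_comp_apply, hΔ1,
      Groth.Agent.Lib.Helper22.ArtFunH.map_id_apply]
  · show F.map q₂ (F.map Δ (F.map q₁ y)) = F.map q₂ y
    rw [← Groth.Agent.Lib.Helper22.ArtFunH.map_comp_apply, hΔ2,
      Groth.Agent.Lib.Helper22.ArtFunH.map_id_apply, hy]

end Groth.Agent.S15134
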