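import Groth.Statements.S7168
import Mathlib
import Groth.Agent.Lib.Helper18.DRPC3
import Groth.Agent.S6935

set_option autoImplicit false
universe u
attribute [local instance] HasDerivedCategory.standard
open FlatMor

namespace Groth.Agent.S7168


namespace H7168
open AlgebraicGeometry CategoryTheory

theorem fp_of_pc (A B : Type u) [CommRing A] [CommRing B] [Algebra A B]
    (h : MoreMor.IsPseudoCoherentHom A B) : Algebra.FinitePresentation A B := by
  obtain ⟨n, φ, hφ, hpc⟩ := h
  letI := φ.toRingHom.toAlgebra
  have h1 : DRing.IsPseudoCoherentModule (MvPolynomial (Fin n) A) (-1) B :=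
    Groth.Agent.Lib.Helper18.DR.isPseudoCoherent_of_isPseudoCoherent' hpc (-1)
  have h2 : Module.FinitePresentation (MvPolynomial (Fin n) A) B :=
    (Groth.Agent.S6935.result (MvPolynomial (Fin n) A) B).2.mp h1
  have hker : (RingHom.ker φ.toRingHom).FG := by
    have hsurj : Function.Surjective (Algebra.linearMap (MvPolynomial (Fin n) A) B) := hφ
    have := Module.FinitePresentation.fg_ker (Algebra.linearMap (MvPolynomial (Fin n) A) B) hsurj
    have hEq : RingHom.ker φ.toRingHom =
        LinearMap.ker (Algebra.linearMap (MvPolynomial (Fin n) A) B) := by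
      ext x
      simp only [RingHom.mem_ker, LinearMap.mem_ker, Algebra.linearMap_apply]
      rfl
    rw [hEq]; exact this
  exact Algebra.FinitePresentation.of_surjective hφ hker

end H7168

open AlgebraicGeometry CategoryTheory Limits in
/-- A pseudo-coherent morphism of schemes is locally of finite presentation. -/
theorem result {X S : Scheme.{u}} (f : X ⟶ S) (hf : MoreMor.IsPseudoCoherentMor f) :
    LocallyOfFinitePresentation f := by
  rw [HasRingHomProperty.iff_appLE (P := @LocallyOfFinitePresentation)]
  intro V U e
  have h1 := hf U.1 V.1 U.2 V.2 e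
  letI := (f.appLE V.1 U.1 e).hom.toAlgebra
  exact H7168.fp_of_pc _ _ h1

end Groth.Agent.S7168
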