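import Groth.Statements.S15148
import Mathlib
import Groth.Agent.Lib.Helper15.HilbZ
import Groth.Agent.S15147

set_option autoImplicit false
universe u
open HilbZeta

namespace Groth.Agent.S15148

/-- Let k be a field, s a natural number and R a k-subalgebra of the product of s copies of the power
series ring k[[x]], of finite codimension δ over k and local with residue field k (all components of
an element of R have the same constant term); write v_i for the x-adic order of the i-th component
of an s-tuple, and let c = (c_1, …, c_s) be the conductor exponents, so that an s-tuple f satisfies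
f·g ∈ R for every s-tuple g exactly when v_i(f) ≥ c_i for all i (over an algebraically closed field
such an R is precisely the completed local ring of a reduced curve singularity having s branches
sitting inside its normalisation, δ is its delta invariant and the conductor ideal is generated by
the x_i^{c_i}), and put C = c_1 + ⋯ + c_s. Let I be an ideal of R of finite colength d with
branch-length vector a (for every i the ideal of k[[x]] generated by the i-th components of the
elements of I is (x^{a_i})). Then −δ ≤ d − Σ a_i ≤ C − δ, and the second inequality is strict when R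
is not the whole product (the singularity is not smooth). (The published statement is over an
algebraically closed field; this row allows any field.) -/
theorem result (k : Type u) [Field k] (s : ℕ)
    (R : Subalgebra k (Fin s → PowerSeries k))
    (hfin : Module.Finite k ((Fin s → PowerSeries k) ⧸ Subalgebra.toSubmodule R))
    (hloc : ∀ f ∈ R, ∀ i j : Fin s, PowerSeries.constantCoeff (f i) = PowerSeries.constantCoeff (f j))
    (c : Fin s → ℕ)
    (hc : ∀ f : Fin s → PowerSeries k,
      (∀ g : Fin s → PowerSeries k, g * f ∈ R) ↔ ∀ i, ((c i : ℕ) : ℕ∞) ≤ (f i).order)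
    (I : Ideal ↥R) (hI : Module.Finite k (↥R ⧸ I)) (a : Fin s → ℕ)
    (ha : (∀ i : Fin s, Ideal.map ((Pi.evalAlgHom k (fun _ : Fin s => PowerSeries k) i).comp R.val) I = Ideal.span {PowerSeries.X ^ (a i)})) :
    (∑ i, a i) ≤ Module.finrank k (↥R ⧸ I) + Module.finrank k ((Fin s → PowerSeries k) ⧸ Subalgebra.toSubmodule R) ∧
    Module.finrank k (↥R ⧸ I) + Module.finrank k ((Fin s → PowerSeries k) ⧸ Subalgebra.toSubmodule R) ≤ (∑ i, a i) + ∑ i, c i ∧
    (R ≠ ⊤ → Module.finrank k (↥R ⧸ I) + Module.finrank k ((Fin s → PowerSeries k) ⧸ Subalgebra.toSubmodule R) < (∑ i, a i) + ∑ i, c i) := by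
  classical
  obtain ⟨hup, hlow⟩ := Groth.Agent.S15147.result k s R hfin hloc c hc I hI a ha
  haveI := hI
  obtain ⟨hVfin, hVr⟩ := Groth.Agent.Lib.Helper15.HilbZ.finrank_img R hfin I
  haveI := hVfin
  obtain ⟨hFa_fin, hFa⟩ := Groth.Agent.Lib.Helper15.HilbZ.finrank_quot_ker_trunc (k := k) a
  obtain ⟨hFac_fin, hFac⟩ :=
    Groth.Agent.Lib.Helper15.HilbZ.finrank_quot_ker_trunc (k := k) (fun i => a i + c i)
  haveI := hFa_fin
  haveI := hFac_fin
  have hle1 : Groth.Agent.Lib.Helper15.HilbZ.img R I ≤
      LinearMap.ker (Groth.Agent.Lib.Helper15.HilbZ.trunc (k := k) a) := by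
    intro x hx
    obtain ⟨f, hf, rfl⟩ := (Groth.Agent.Lib.Helper15.HilbZ.mem_img R I x).1 hx
    rw [Groth.Agent.Lib.Helper15.HilbZ.mem_ker_trunc]
    exact hlow f hf
  have hle2 : LinearMap.ker (Groth.Agent.Lib.Helper15.HilbZ.trunc (k := k)
      (fun i => a i + c i)) ≤ Groth.Agent.Lib.Helper15.HilbZ.img R I := by
    intro g hg
    rw [Groth.Agent.Lib.Helper15.HilbZ.mem_ker_trunc] at hg
    obtain ⟨hgR, hgI⟩ := hup g hg
    exact (Groth.Agent.Lib.Helper15.HilbZ.mem_img R I g).2 ⟨⟨g, hgR⟩, hgI, rfl⟩
  obtain ⟨h1, -⟩ := Groth.Agent.Lib.Helper15.HilbZ.finrank_quot_le hle1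
  obtain ⟨h2, h3⟩ := Groth.Agent.Lib.Helper15.HilbZ.finrank_quot_le hle2
  rw [hFa, hVr] at h1
  rw [hFac, hVr] at h2 h3
  simp only [Finset.sum_add_distrib] at h2 h3
  refine ⟨h1, h2, fun hR => h3 ?_⟩
  intro heq
  apply hR
  have hc0 : ∀ i, c i = 0 := by
    intro i
    have hle : Ideal.map ((Pi.evalAlgHom k (fun _ : Fin s => PowerSeries k) i).comp R.val) I ≤
        Ideal.span {(PowerSeries.X : PowerSeries k) ^ (a i + c i)} := by
      rw [Ideal.map_le_iff_le_comap]
      intro f hf
      rw [Ideal.mem_comap, Ideal.mem_span_singleton]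
      apply Groth.Agent.Lib.Helper22.PSDiv.X_pow_dvd_of_le_order
      have hmem : (f : Fin s → PowerSeries k) ∈ Groth.Agent.Lib.Helper15.HilbZ.img R I :=
        (Groth.Agent.Lib.Helper15.HilbZ.mem_img R I _).2 ⟨f, hf, rfl⟩
      rw [← heq, Groth.Agent.Lib.Helper15.HilbZ.mem_ker_trunc] at hmem
      exact hmem i
    rw [ha i, Ideal.span_singleton_le_span_singleton] at hle
    have h5 := Groth.Agent.Lib.Helper22.PSDiv.le_order_of_X_pow_dvd _ _ hle
    rw [PowerSeries.order_X_pow] at h5
    have h6 : a i + c i ≤ a i := by exact_mod_cast h5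
    omega
  rw [Algebra.eq_top_iff]
  intro g
  have h := (hc 1).2 (fun i => by simp [hc0 i]) g
  rwa [mul_one] at h

end Groth.Agent.S15148
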