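import Groth.Statements.S15149
import Mathlib
import Groth.Agent.Lib.Helper15.HilbZ

set_option autoImplicit false
universe u
open HilbZeta

namespace Groth.Agent.S15149

/-- Let k be a field, s a natural number and R a k-subalgebra of the product of s copies of the power
series ring k[[x]], of finite codimension δ over k and local with residue field k (all components of
an element of R have the same constant term); write v_i for the x-adic order of the i-th component
of an s-tuple, and let c = (c_1, …, c_s) be the conductor exponents, so that an s-tuple f satisfies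
f·g ∈ R for every s-tuple g exactly when v_i(f) ≥ c_i for all i (over an algebraically closed field
such an R is precisely the completed local ring of a reduced curve singularity having s branches
sitting inside its normalisation, δ is its delta invariant and the conductor ideal is generated by
the x_i^{c_i}). Fix a branch j, a colength d and a branch-length vector a = (a_1, …, a_s) with a_j ≥
c_j, and let ξ be the s-tuple with x in the j-th place and 1 elsewhere. Call an ideal I of R of type
(d, a) when it has colength d and, for every i, the ideal of k[[x]] generated by the i-th components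
of its elements is (x^{a_i}). Then multiplication by ξ is a bijection from the ideals of type (d, a)
onto the ideals of type (d + 1, a + e_j), where a + e_j is a with its j-th entry raised by one: for
every ideal I of type (d, a) the set ξ·I is (the image of) an ideal of type (d + 1, a + e_j), and
every ideal of type (d + 1, a + e_j) is ξ·I for some ideal I of type (d, a). (The published
statement is the equality, in the Grothendieck ring of varieties, of the classes of the two
corresponding branch-length strata of the punctual Hilbert scheme; this row states the bijection on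
ideals underlying it, which is what the argument establishes; the published statement is over an
algebraically closed field, and this row allows any field.) -/
theorem result (k : Type u) [Field k] (s : ℕ)
    (R : Subalgebra k (Fin s → PowerSeries k))
    (hfin : Module.Finite k ((Fin s → PowerSeries k) ⧸ Subalgebra.toSubmodule R))
    (hloc : ∀ f ∈ R, ∀ i j : Fin s, PowerSeries.constantCoeff (f i) = PowerSeries.constantCoeff (f j))
    (c : Fin s → ℕ)
    (hc : ∀ f : Fin s → PowerSeries k,
      (∀ g : Fin s → PowerSeries k, g * f ∈ R) ↔ ∀ i, ((c i : ℕ) : ℕ∞) ≤ (f i).order)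
    (j : Fin s) (d : ℕ) (a : Fin s → ℕ) (hj : c j ≤ a j) :
    (∀ I ∈ {I : Ideal ↥R | Module.Finite k (↥R ⧸ I) ∧ Module.finrank k (↥R ⧸ I) = d ∧ (∀ i : Fin s, Ideal.map ((Pi.evalAlgHom k (fun _ : Fin s => PowerSeries k) i).comp R.val) I = Ideal.span {PowerSeries.X ^ (a i)})},
      ∃ J ∈ {I : Ideal ↥R | Module.Finite k (↥R ⧸ I) ∧ Module.finrank k (↥R ⧸ I) = d + 1 ∧ (∀ i : Fin s, Ideal.map ((Pi.evalAlgHom k (fun _ : Fin s => PowerSeries k) i).comp R.val) I = Ideal.span {PowerSeries.X ^ ((Function.update a j (a j + 1)) i)})},
        (Subtype.val '' (J : Set ↥R)) = (fun f => Pi.mulSingle j PowerSeries.X * f) '' (Subtype.val '' (I : Set ↥R))) ∧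
    (∀ J ∈ {I : Ideal ↥R | Module.Finite k (↥R ⧸ I) ∧ Module.finrank k (↥R ⧸ I) = d + 1 ∧ (∀ i : Fin s, Ideal.map ((Pi.evalAlgHom k (fun _ : Fin s => PowerSeries k) i).comp R.val) I = Ideal.span {PowerSeries.X ^ ((Function.update a j (a j + 1)) i)})},
      ∃ I ∈ {I : Ideal ↥R | Module.Finite k (↥R ⧸ I) ∧ Module.finrank k (↥R ⧸ I) = d ∧ (∀ i : Fin s, Ideal.map ((Pi.evalAlgHom k (fun _ : Fin s => PowerSeries k) i).comp R.val) I = Ideal.span {PowerSeries.X ^ (a i)})},
        (Subtype.val '' (J : Set ↥R)) = (fun f => Pi.mulSingle j PowerSeries.X * f) '' (Subtype.val '' (I : Set ↥R))) := by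
  classical
  constructor
  · intro I hI
    obtain ⟨hIfin, hId, hIa⟩ := hI
    have hJI := Groth.Agent.Lib.Helper15.HilbZ.mulIdeal_spec R c hc j a hj I (hIa j)
    haveI := hIfin
    obtain ⟨hJfin, hJd⟩ := Groth.Agent.Lib.Helper15.HilbZ.colength_mul R hfin j I
      (Groth.Agent.Lib.Helper15.HilbZ.mulIdeal R j I) hJI
    refine ⟨Groth.Agent.Lib.Helper15.HilbZ.mulIdeal R j I,
      And.intro hJfin (And.intro (by rw [hJd, hId]) ?_), hJI⟩
    intro i
    rw [Groth.Agent.Lib.Helper15.HilbZ.map_eval_eq R j I _ hJI i, hIa i,
      Ideal.span_singleton_mul_span_singleton]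
    by_cases hi : i = j
    · subst hi; rw [Pi.mulSingle_eq_same, Function.update_self, pow_succ']
    · rw [Pi.mulSingle_eq_of_ne hi, Function.update_of_ne hi, one_mul]
  · intro J hJ
    obtain ⟨hJfin, hJd, hJa⟩ := hJ
    have hJaj := hJa j
    rw [Function.update_self] at hJaj
    have hJI := Groth.Agent.Lib.Helper15.HilbZ.divIdeal_spec R c hc j a hj J hJaj
    haveI := hJfin
    haveI hIfin := Groth.Agent.Lib.Helper15.HilbZ.colength_div R hfin j
      (Groth.Agent.Lib.Helper15.HilbZ.divIdeal R j J) J hJI
    obtain ⟨-, hd⟩ := Groth.Agent.Lib.Helper15.HilbZ.colength_mul R hfin j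
      (Groth.Agent.Lib.Helper15.HilbZ.divIdeal R j J) J hJI
    refine ⟨Groth.Agent.Lib.Helper15.HilbZ.divIdeal R j J,
      And.intro hIfin (And.intro (by omega) ?_), hJI⟩
    intro i
    have h := Groth.Agent.Lib.Helper15.HilbZ.map_eval_eq R j
      (Groth.Agent.Lib.Helper15.HilbZ.divIdeal R j J) J hJI i
    rw [hJa i] at h
    by_cases hi : i = j
    · subst hi
      rw [Pi.mulSingle_eq_same, Function.update_self, pow_succ',
        ← Ideal.span_singleton_mul_span_singleton] at h
      exact ((Ideal.span_singleton_mul_right_inj PowerSeries.X_ne_zero).1 h).symm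
    · rw [Pi.mulSingle_eq_of_ne hi, Function.update_of_ne hi, Ideal.span_singleton_one,
        Ideal.top_mul] at h
      exact h.symm

end Groth.Agent.S15149
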