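import Groth.Statements.S15150
-- import your own Groth.Agent.* helpers here
import Mathlib
import Groth.Agent.Lib.Helper22.NilFibre

set_option autoImplicit false
universe u
open HilbZeta

namespace Groth.Agent.S15150

/-- Let A be a reduced commutative ring, S an A-algebra together with an A-algebra homomorphism π : S →
A (a section of Spec S → Spec A), with kernel m, and I an ideal of S such that S/I is a finite
projective A-module of constant rank d and m is contained in the radical of I (the finite flat
subscheme Spec S/I of degree d lies, as a set, on the section). Then m^d ⊆ I: the subscheme lies in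
the (d−1)-st infinitesimal neighbourhood of the section. (The published statement is for a closed
subscheme, flat and proper of degree d over a Noetherian base, of a family of reduced curve
singularities with a section, with no reducedness assumption on the base; over the dual numbers k[ε]
the ideal (x − ε) of k[ε][x] has quotient free of rank one and radical containing x but does not
contain x, so the base is taken reduced here, and the statement is given in its affine form, to
which the argument reduces at once; the curve hypotheses play no role and are dropped; the condition
that Spec S/I lies set-theoretically on the section, which the published argument deduces from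
properness of Z inside the germ, is a hypothesis here.) -/
theorem result (A : Type u) [CommRing A] [IsReduced A]
    (S : Type u) [CommRing S] [Algebra A S] (π : S →ₐ[A] A) (I : Ideal S) (d : ℕ)
    [Module.Finite A (S ⧸ I)] [Module.Projective A (S ⧸ I)]
    (hrank : ∀ p : PrimeSpectrum A, Module.rankAtStalk (R := A) (S ⧸ I) p = d)
    (hsupp : RingHom.ker π ≤ I.radical) :
    RingHom.ker π ^ d ≤ I := by
  classical
  intro x hx
  rw [← Ideal.Quotient.eq_zero_iff_mem]
  apply Groth.Agent.Lib.Helper22.NilFibre.eq_zero_of_forall_residueField_tmul_eq_zero (A := A)
  intro p hp
  have hfin : Module.finrank p.ResidueField (TensorProduct A p.ResidueField (S ⧸ I)) = d := by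
    rw [← hrank ⟨p, hp⟩, Module.rankAtStalk_eq]
  let θ : S →+* TensorProduct A p.ResidueField (S ⧸ I) :=
    (Algebra.TensorProduct.includeRight : (S ⧸ I) →ₐ[A] TensorProduct A p.ResidueField (S ⧸ I)).toRingHom.comp
      (Ideal.Quotient.mk I)
  have hθ : ∀ s, θ s = (1 : p.ResidueField) ⊗ₜ[A] (Ideal.Quotient.mk I s) := fun s => rfl
  have hn : Ideal.map θ (RingHom.ker π) ≤ nilradical (TensorProduct A p.ResidueField (S ⧸ I)) := by
    rw [Ideal.map_le_iff_le_comap]
    intro y hy
    obtain ⟨k, hk⟩ := hsupp hy
    rw [Ideal.mem_comap, mem_nilradical]
    refine ⟨k, ?_⟩
    rw [← map_pow, hθ, Ideal.Quotient.eq_zero_iff_mem.mpr hk, TensorProduct.tmul_zero]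
  have hpow := Groth.Agent.Lib.Helper22.NilFibre.pow_finrank_eq_bot_of_le_nilradical
    (K := p.ResidueField) _ hn
  rw [hfin] at hpow
  have hx' : θ x ∈ Ideal.map θ (RingHom.ker π) ^ d := by
    rw [← Ideal.map_pow]
    exact Ideal.mem_map_of_mem θ hx
  rw [hpow, Ideal.mem_bot] at hx'
  exact hx'

end Groth.Agent.S15150
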