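import Groth.Statements.S15151
import Mathlib

set_option autoImplicit false
universe u
open CategoryTheory AlgebraicGeometry
open HilbZeta

namespace Groth.Agent.S15151

/-- Let k be a field, and let f : X → Y and g : Y → Spec k[t] be morphisms of schemes with f
quasi-compact and with zero kernel ideal sheaf (Y is the scheme-theoretic image of f), such that the
composite X → Spec k[t] is flat. Then g is flat; in particular a k[t]-subalgebra of a flat
k[t]-algebra is flat. (The published statement has no quasi-compactness hypothesis on f and is over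
an algebraically closed field; this row assumes f quasi-compact and allows any field.) -/
theorem result (k : Type u) [Field k]
    (X Y : Scheme.{u}) (f : X ⟶ Y) (g : Y ⟶ Spec (CommRingCat.of (Polynomial k)))
    [QuasiCompact f] (hker : f.ker = ⊥) [Flat (f ≫ g)] : Flat g := by
  haveI : IsSchemeTheoreticallyDominant f := ⟨hker⟩
  refine HasRingHomProperty.of_iSup_eq_top (P := @Flat) (fun V : Y.affineOpens => V)
    (iSup_affineOpens_eq_top Y) ?_
  intro V
  let R0 : CommRingCat.{u} := CommRingCat.of (Polynomial k)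
  let ψ : R0 ⟶ Γ(Spec R0, ⊤) := (Scheme.ΓSpecIso R0).inv
  rw [← RingHom.Flat.respectsIso.cancel_left_isIso ψ]
  set χ : Polynomial k →+* Γ(Y, V.1) := (g.appLE ⊤ V.1 le_top).hom.comp ψ.hom with hχ
  letI : Algebra (Polynomial k) Γ(Y, V.1) := χ.toAlgebra
  show Module.Flat (Polynomial k) Γ(Y, V.1)
  rw [Module.Flat.flat_iff_torsion_eq_bot_of_isBezout, eq_bot_iff]
  intro b hb
  obtain ⟨a, ha⟩ := (Submodule.mem_torsion_iff b).mp hb
  have hab : χ a * b = 0 := ha
  rw [Submodule.mem_bot]
  apply f.app_injective V.1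
  rw [map_zero]
  refine X.IsSheaf.section_ext fun x hx ↦ ?_
  obtain ⟨_, ⟨W, hW, rfl⟩, hxW, hWV : W ≤ f ⁻¹ᵁ V.1⟩ :=
    X.isBasis_affineOpens.exists_subset_of_mem_open hx (f ⁻¹ᵁ V.1).isOpen
  refine ⟨W, hWV, hxW, ?_⟩
  rw [map_zero]
  have e1 : X.presheaf.map (homOfLE hWV).op (f.app V.1 b) = f.appLE V.1 W hWV b := by
    rw [Scheme.Hom.appLE]; rfl
  rw [e1]
  have hflat : (((f ≫ g).appLE ⊤ W le_top).hom.comp ψ.hom).Flat := by
    rw [RingHom.Flat.respectsIso.cancel_left_isIso ψ]
    exact Scheme.Hom.flat_appLE (f ≫ g) (isAffineOpen_top _) hW le_top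
  set χ' : Polynomial k →+* Γ(X, W) := ((f ≫ g).appLE ⊤ W le_top).hom.comp ψ.hom with hχ'
  letI : Algebra (Polynomial k) Γ(X, W) := χ'.toAlgebra
  haveI hfl : Module.Flat (Polynomial k) Γ(X, W) := hflat
  have htors := Module.Flat.torsion_eq_bot (R := Polynomial k) (M := Γ(X, W))
  have hmem : f.appLE V.1 W hWV b ∈ Submodule.torsion (Polynomial k) Γ(X, W) := by
    rw [Submodule.mem_torsion_iff]
    refine ⟨a, ?_⟩
    show χ' a * f.appLE V.1 W hWV b = 0
    have hcomp : χ' a = f.appLE V.1 W hWV (χ a) := by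
      have := Scheme.Hom.appLE_comp_appLE f g ⊤ V.1 W le_top hWV
      have h2 := congrArg (fun t => t.hom (ψ.hom a)) this
      exact h2.symm
    rw [hcomp, ← map_mul, hab, map_zero]
  rw [htors] at hmem
  exact (Submodule.mem_bot _).mp hmem

end Groth.Agent.S15151
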