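import Groth.Statements.S15153
import Groth.Agent.Lib.Helper27.FibDim
open Groth.Agent.Lib.Helper27

set_option autoImplicit false
universe u
open TensorProduct
open HilbZeta

namespace Groth.Agent.S15153

/-- Let A be a Noetherian commutative ring, S a commutative A-algebra and Q an S-module which is finite
and flat as an A-module. For a prime p of A with residue field κ(p), multiplication by an element of
S induces a κ(p)-linear endomorphism of the fibre κ(p) ⊗_A Q; let φ(p) be the κ(p)-dimension of the
span of these endomorphisms, which is the colength of the annihilator of the fibre module κ(p) ⊗_A Q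
in the fibre algebra κ(p) ⊗_A S (the length of the smallest subscheme of the fibre carrying it).
Then p ↦ φ(p) is a constructible function: for every n the primes with φ(p) = n form a constructible
subset of Spec A. (The published statement is for a coherent sheaf, flat and finite over a
Noetherian base, on a family of reduced curve singularities with a section, and its function of the
base point is this colength; the curve hypotheses play no role and the row is the affine form over
any Noetherian ring.) -/
theorem result (A : Type u) [CommRing A] [IsNoetherianRing A]
    (S : Type u) [CommRing S] [Algebra A S]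
    (Q : Type u) [AddCommGroup Q] [Module A Q] [Module S Q] [IsScalarTower A S Q]
    [Module.Finite A Q] [Module.Flat A Q] (n : ℕ) :
    Topology.IsConstructible {p : PrimeSpectrum A |
      Module.finrank p.asIdeal.ResidueField
        (Submodule.span p.asIdeal.ResidueField
          (Set.range fun s : S =>
            LinearMap.baseChange p.asIdeal.ResidueField (DistribSMul.toLinearMap A Q s))) = n} := by
  classical
  obtain ⟨t, q, hq⟩ := Module.Finite.exists_fin (R := A) (M := Q)
  set U : Submodule A (Fin t → Q) :=
    Submodule.span A (Set.range fun s : S => (fun i => s • q i : Fin t → Q)) with hU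
  have key : ∀ p : PrimeSpectrum A,
      Module.finrank p.asIdeal.ResidueField
        (Submodule.span p.asIdeal.ResidueField
          (Set.range fun s : S =>
            LinearMap.baseChange p.asIdeal.ResidueField (DistribSMul.toLinearMap A Q s)))
      + Module.finrank p.asIdeal.ResidueField (p.asIdeal.ResidueField ⊗[A] ((Fin t → Q) ⧸ U))
      = Module.finrank p.asIdeal.ResidueField (p.asIdeal.ResidueField ⊗[A] (Fin t → Q)) := by
    intro p
    rw [FibDim.finrank_span_eq p.asIdeal.ResidueField S Q q hq]
    exact FibDim.finrank_baseChange_add p.asIdeal.ResidueField U
  obtain ⟨B, hB⟩ := FibDim.exists_bound (A := A) (Fin t → Q)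
  have hset : {p : PrimeSpectrum A |
      Module.finrank p.asIdeal.ResidueField
        (Submodule.span p.asIdeal.ResidueField
          (Set.range fun s : S =>
            LinearMap.baseChange p.asIdeal.ResidueField (DistribSMul.toLinearMap A Q s))) = n}
      = ⋃ b ∈ (↑(Finset.range (B + 1)) : Set ℕ),
        ({p : PrimeSpectrum A | Module.finrank p.asIdeal.ResidueField
            (p.asIdeal.ResidueField ⊗[A] ((Fin t → Q) ⧸ U)) = b} ∩
         {p : PrimeSpectrum A | Module.finrank p.asIdeal.ResidueField
            (p.asIdeal.ResidueField ⊗[A] (Fin t → Q)) = b + n}) := by
    ext p
    simp only [Set.mem_setOf_eq, Set.mem_iUnion, Set.mem_inter_iff, Finset.coe_range,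
      Set.mem_Iio, exists_prop]
    constructor
    · intro h
      refine ⟨_, ?_, rfl, ?_⟩
      · have h1 := key p
        have h2 := hB p
        omega
      · have h1 := key p
        omega
    · rintro ⟨b, -, hb1, hb2⟩
      have h1 := key p
      omega
  rw [hset]
  exact Topology.IsConstructible.biUnion (Finset.finite_toSet _) fun b _ =>
    (FibDim.isConstructible_fibreDim_eq _ b).inter (FibDim.isConstructible_fibreDim_eq _ (b + n))

end Groth.Agent.S15153
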