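import Groth.Statements.S15162
-- import your own Groth.Agent.* helpers here
import Mathlib

set_option autoImplicit false
open Matrix
open BddFin

namespace Groth.Agent.S15162

/-- Let Γ be a finite subgroup of GL_2(ℤ) acting on ℤ² by matrix multiplication. If every element of Γ
has a non-zero fixed vector in ℤ², then there is a non-zero vector of ℤ² fixed by all of Γ. -/
theorem result
    (Γ : Subgroup (Matrix.GeneralLinearGroup (Fin 2) ℤ)) [Finite Γ]
    (h : ∀ γ ∈ Γ, ∃ v : Fin 2 → ℤ, v ≠ 0 ∧ (γ : Matrix (Fin 2) (Fin 2) ℤ) *ᵥ v = v) :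
    ∃ v : Fin 2 → ℤ, v ≠ 0 ∧ ∀ γ ∈ Γ, (γ : Matrix (Fin 2) (Fin 2) ℤ) *ᵥ v = v := by
  classical
  -- (i) an element of Γ with determinant one is the identity
  have hone : ∀ γ ∈ Γ, (γ : Matrix (Fin 2) (Fin 2) ℤ).det = 1 → γ = 1 := by
    intro γ hγ hdet
    obtain ⟨v, hv0, hv⟩ := h γ hγ
    set M : Matrix (Fin 2) (Fin 2) ℤ := (γ : Matrix (Fin 2) (Fin 2) ℤ) with hM
    have hN : (M - 1).det = 0 := by
      rw [← Matrix.exists_mulVec_eq_zero_iff]
      exact ⟨v, hv0, by rw [Matrix.sub_mulVec, hv, Matrix.one_mulVec, sub_self]⟩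
    rw [Matrix.det_fin_two] at hN hdet
    simp only [Matrix.sub_apply, Matrix.one_apply_eq, Matrix.one_apply_ne, ne_eq,
      Fin.reduceEq, not_false_eq_true, sub_zero, Fin.isValue] at hN
    have htr : M 0 0 + M 1 1 = 2 := by linarith
    have hN2 : (M - 1) * (M - 1) = 0 := by
      ext i j
      fin_cases i <;> fin_cases j
      · simp only [Matrix.mul_apply, Fin.sum_univ_two, Matrix.sub_apply, Matrix.one_apply_eq,
          Matrix.one_apply_ne, ne_eq, Fin.reduceEq, not_false_eq_true, sub_zero, Fin.isValue,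
          Matrix.zero_apply, Fin.zero_eta, Fin.mk_one]
        linear_combination (-1 : ℤ) * hN + (M 0 0 - 1) * htr
      · simp only [Matrix.mul_apply, Fin.sum_univ_two, Matrix.sub_apply, Matrix.one_apply_eq,
          Matrix.one_apply_ne, ne_eq, Fin.reduceEq, not_false_eq_true, sub_zero, Fin.isValue,
          Matrix.zero_apply, Fin.zero_eta, Fin.mk_one]
        linear_combination (M 0 1) * htr
      · simp only [Matrix.mul_apply, Fin.sum_univ_two, Matrix.sub_apply, Matrix.one_apply_eq,
          Matrix.one_apply_ne, ne_eq, Fin.reduceEq, not_false_eq_true, sub_zero, Fin.isValue,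
          Matrix.zero_apply, Fin.zero_eta, Fin.mk_one]
        linear_combination (M 1 0) * htr
      · simp only [Matrix.mul_apply, Fin.sum_univ_two, Matrix.sub_apply, Matrix.one_apply_eq,
          Matrix.one_apply_ne, ne_eq, Fin.reduceEq, not_false_eq_true, sub_zero, Fin.isValue,
          Matrix.zero_apply, Fin.zero_eta, Fin.mk_one]
        linear_combination (-1 : ℤ) * hN + (M 1 1 - 1) * htr
    have hpow : ∀ k : ℕ, M ^ k = 1 + (k : ℤ) • (M - 1) := by
      intro k
      induction k with
      | zero => simp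
      | succ k ih =>
        have hM1 : M ^ k * M = M ^ k * (1 + (M - 1)) := by
          congr 1
          abel
        rw [pow_succ, hM1, ih]
        simp only [add_mul, mul_add, one_mul, mul_one, Matrix.smul_mul, hN2, smul_zero, add_zero]
        push_cast
        rw [add_smul, one_smul]
        abel
    have hcard : 0 < Nat.card Γ := Nat.card_pos
    have h1 : (⟨γ, hγ⟩ : Γ) ^ Nat.card Γ = 1 := pow_card_eq_one'
    have h2 : γ ^ Nat.card Γ = 1 := by
      have h5 := congrArg Subtype.val h1
      rw [SubmonoidClass.coe_pow] at h5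
      exact h5
    have h3 : M ^ Nat.card Γ = 1 := by
      have := congrArg (fun u : Matrix.GeneralLinearGroup (Fin 2) ℤ => (u : Matrix (Fin 2) (Fin 2) ℤ)) h2
      simpa using this
    rw [hpow] at h3
    have h4 : ((Nat.card Γ : ℕ) : ℤ) • (M - 1) = 0 := by
      have := congrArg (fun X => X - 1) h3
      simpa using this
    have h5 : M - 1 = 0 := by
      rcases smul_eq_zero.mp h4 with h | h
      · exact absurd (by exact_mod_cast h) hcard.ne'
      · exact h
    apply Units.ext
    show M = 1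
    exact sub_eq_zero.mp h5
  have hdetpm : ∀ γ : Matrix.GeneralLinearGroup (Fin 2) ℤ,
      (γ : Matrix (Fin 2) (Fin 2) ℤ).det = 1 ∨ (γ : Matrix (Fin 2) (Fin 2) ℤ).det = -1 := by
    intro γ
    have hu : IsUnit (γ : Matrix (Fin 2) (Fin 2) ℤ).det :=
      (Matrix.isUnit_iff_isUnit_det _).mp γ.isUnit
    exact Int.isUnit_iff.mp hu
  by_cases hall : ∀ γ ∈ Γ, γ = 1
  · refine ⟨![1, 0], ?_, ?_⟩
    · intro h0
      have := congrFun h0 0
      simp at this
    · intro γ hγ
      rw [hall γ hγ]
      simp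
  · push Not at hall
    obtain ⟨γ₀, hγ₀, hne⟩ := hall
    obtain ⟨v₀, hv0, hv⟩ := h γ₀ hγ₀
    refine ⟨v₀, hv0, ?_⟩
    intro γ hγ
    by_cases hγ1 : γ = 1
    · rw [hγ1]; simp
    · have hd0 : (γ₀ : Matrix (Fin 2) (Fin 2) ℤ).det = -1 := by
        rcases hdetpm γ₀ with h' | h'
        · exact absurd (hone γ₀ hγ₀ h') hne
        · exact h'
      have hd1 : (γ : Matrix (Fin 2) (Fin 2) ℤ).det = -1 := by
        rcases hdetpm γ with h' | h'
        · exact absurd (hone γ hγ h') hγ1
        · exact h'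
      have hprod : γ * γ₀⁻¹ = 1 := by
        apply hone _ (Γ.mul_mem hγ (Γ.inv_mem hγ₀))
        have e1 : ((γ * γ₀⁻¹ : Matrix.GeneralLinearGroup (Fin 2) ℤ) : Matrix (Fin 2) (Fin 2) ℤ) * (γ₀ : Matrix (Fin 2) (Fin 2) ℤ) =
            (γ : Matrix (Fin 2) (Fin 2) ℤ) := by
          have : (γ * γ₀⁻¹) * γ₀ = γ := by group
          have := congrArg (fun u : Matrix.GeneralLinearGroup (Fin 2) ℤ => (u : Matrix (Fin 2) (Fin 2) ℤ)) this
          simpa using this
        have e2 := congrArg Matrix.det e1
        rw [Matrix.det_mul, hd0, hd1] at e2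
        linarith
      have : γ = γ₀ := by
        have := congrArg (fun u => u * γ₀) hprod
        simpa using this
      rw [this]
      exact hv

end Groth.Agent.S15162
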