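import Groth.Statements.S15163
import Mathlib
import Groth.Agent.S15162

set_option autoImplicit false
open Matrix
open BddFin

namespace Groth.Agent.S15163


namespace S15163aux
open Matrix

theorem ch2 (M : Matrix (Fin 2) (Fin 2) ℤ) :
    M * M = M.trace • M - M.det • (1 : Matrix (Fin 2) (Fin 2) ℤ) := by
  ext i j
  rw [Matrix.sub_apply, Matrix.smul_apply, Matrix.smul_apply, Matrix.mul_apply, Fin.sum_univ_two,
    Matrix.trace_fin_two, Matrix.det_fin_two, smul_eq_mul, smul_eq_mul]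
  fin_cases i <;> fin_cases j <;> simp <;> ring

theorem det_sub_one (M : Matrix (Fin 2) (Fin 2) ℤ) : (M - 1).det = M.det - M.trace + 1 := by
  simp [Matrix.det_fin_two, Matrix.trace_fin_two]; ring

theorem trace_rec (M : Matrix (Fin 2) (Fin 2) ℤ) (k : ℕ) :
    (M ^ (k + 2)).trace = M.trace * (M ^ (k + 1)).trace - M.det * (M ^ k).trace := by
  have h : M ^ (k + 2) = M.trace • M ^ (k + 1) - M.det • M ^ k := by
    rw [pow_add, pow_two, ch2, mul_sub, Matrix.mul_smul, Matrix.mul_smul, mul_one, ← pow_succ]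
  rw [h, Matrix.trace_sub, Matrix.trace_smul, Matrix.trace_smul, smul_eq_mul, smul_eq_mul]

theorem abs_trace_le_two (M : Matrix (Fin 2) (Fin 2) ℤ) (hdet : M.det = 1) (n : ℕ) (hn : 0 < n)
    (hM : M ^ n = 1) : |M.trace| ≤ 2 := by
  by_contra hcon
  have h3 : 3 ≤ |M.trace| := by omega
  have h2 : |((2 : ℕ) : ℤ)| = 2 := by norm_num
  have key : ∀ k : ℕ, 2 ≤ |(M ^ k).trace| ∧ |(M ^ k).trace| < |(M ^ (k + 1)).trace| := by
    intro k
    induction k with
    | zero =>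
      simp only [pow_zero, zero_add, pow_one, Matrix.trace_one, Fintype.card_fin]
      rw [h2]
      constructor
      · exact le_refl _
      · omega
    | succ k ih =>
      obtain ⟨ih1, ih2⟩ := ih
      refine ⟨le_trans ih1 ih2.le, ?_⟩
      rw [show k + 1 + 1 = k + 2 from rfl, trace_rec, hdet, one_mul]
      have h4 : |M.trace * (M ^ (k + 1)).trace| - |(M ^ k).trace| ≤
          |M.trace * (M ^ (k + 1)).trace - (M ^ k).trace| := abs_sub_abs_le_abs_sub _ _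
      rw [abs_mul] at h4
      have h5 : 3 * |(M ^ (k + 1)).trace| ≤ |M.trace| * |(M ^ (k + 1)).trace| :=
        mul_le_mul_of_nonneg_right h3 (abs_nonneg _)
      linarith [abs_nonneg ((M ^ (k + 1)).trace)]
  obtain ⟨m, rfl⟩ := Nat.exists_eq_succ_of_ne_zero hn.ne'
  have hk := key m
  rw [show m + 1 = m.succ from rfl, hM, Matrix.trace_one, Fintype.card_fin, h2] at hk
  omega

theorem det_sub_one_abs_le (M : Matrix (Fin 2) (Fin 2) ℤ) (hu : IsUnit M.det) (n : ℕ)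
    (hn : 0 < n) (hM : M ^ n = 1) : |(M - 1).det| ≤ 4 := by
  rw [det_sub_one]
  rcases Int.isUnit_iff.mp hu with h1 | h1
  · have := abs_trace_le_two M h1 n hn hM
    rw [h1]
    rw [abs_le] at this ⊢
    constructor <;> linarith [this.1, this.2]
  · have hdet2 : (M * M).det = 1 := by rw [Matrix.det_mul, h1]; norm_num
    have hpow : (M * M) ^ n = 1 := by
      rw [← pow_two, ← pow_mul, mul_comm, pow_mul, hM, one_pow]
    have h2 := abs_trace_le_two (M * M) hdet2 n hn hpow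
    have htr : (M * M).trace = M.trace * M.trace + 2 := by
      rw [ch2, Matrix.trace_sub, Matrix.trace_smul, Matrix.trace_smul, Matrix.trace_one, h1,
        Fintype.card_fin, smul_eq_mul, smul_eq_mul]
      push_cast
      ring
    rw [htr] at h2
    have ht : M.trace = 0 := by
      have h3 : M.trace * M.trace ≤ 0 := by linarith [(abs_le.mp h2).2]
      exact mul_self_eq_zero.mp (le_antisymm h3 (mul_self_nonneg _))
    rw [h1, ht]; norm_num

theorem main (Γ : Subgroup (Matrix.GeneralLinearGroup (Fin 2) ℤ)) [Finite Γ] (d : ℕ) (hd : 6 < d)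
    (w : Fin 2 → ZMod d) (hw : ∀ m : ℕ, 0 < m → m < d → m • w ≠ 0)
    (hfix : ∀ γ ∈ Γ, ((γ : Matrix (Fin 2) (Fin 2) ℤ).map (Int.castRingHom (ZMod d))) *ᵥ w = w) :
    ∃ v : Fin 2 → ℤ, v ≠ 0 ∧ ∀ γ ∈ Γ, (γ : Matrix (Fin 2) (Fin 2) ℤ) *ᵥ v = v := by
  apply Groth.Agent.S15162.result Γ
  intro γ hγ
  haveI : NeZero d := ⟨by omega⟩
  obtain ⟨n, hn, hpow⟩ := (isOfFinOrder_of_finite (⟨γ, hγ⟩ : Γ)).exists_pow_eq_one
  have hpow' : γ ^ n = 1 := by
    have := congrArg (Subtype.val) hpow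
    simpa using this
  have hMn : (γ : Matrix (Fin 2) (Fin 2) ℤ) ^ n = 1 := by
    have := congrArg (fun g : Matrix.GeneralLinearGroup (Fin 2) ℤ =>
      (g : Matrix (Fin 2) (Fin 2) ℤ)) hpow'
    simpa using this
  have hu : IsUnit (γ : Matrix (Fin 2) (Fin 2) ℤ).det :=
    (Matrix.isUnit_iff_isUnit_det _).mp ⟨γ, rfl⟩
  have hD4 := det_sub_one_abs_le _ hu n hn hMn
  have hmap : ((γ : Matrix (Fin 2) (Fin 2) ℤ) - 1).map (Int.castRingHom (ZMod d)) =
      (γ : Matrix (Fin 2) (Fin 2) ℤ).map (Int.castRingHom (ZMod d)) - 1 := by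
    rw [← RingHom.mapMatrix_apply, map_sub, map_one, RingHom.mapMatrix_apply]
  have hDw : ((((γ : Matrix (Fin 2) (Fin 2) ℤ) - 1).det : ℤ) : ZMod d) • w = 0 := by
    have h1 : (((γ : Matrix (Fin 2) (Fin 2) ℤ) - 1).map (Int.castRingHom (ZMod d))) *ᵥ w = 0 := by
      rw [hmap, Matrix.sub_mulVec, Matrix.one_mulVec, hfix γ hγ, sub_self]
    have h2 := congrArg (fun u =>
      (((γ : Matrix (Fin 2) (Fin 2) ℤ) - 1).map (Int.castRingHom (ZMod d))).adjugate *ᵥ u) h1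
    simp only [Matrix.mulVec_mulVec, Matrix.adjugate_mul, Matrix.mulVec_zero, Matrix.smul_mulVec,
      Matrix.one_mulVec] at h2
    have h3 : (((γ : Matrix (Fin 2) (Fin 2) ℤ) - 1).map (Int.castRingHom (ZMod d))).det =
        ((((γ : Matrix (Fin 2) (Fin 2) ℤ) - 1).det : ℤ) : ZMod d) := by
      rw [← RingHom.mapMatrix_apply, ← RingHom.map_det]; simp
    rw [h3] at h2
    exact h2
  have hdvd : (d : ℤ) ∣ ((γ : Matrix (Fin 2) (Fin 2) ℤ) - 1).det := by
    rw [← ZMod.intCast_zmod_eq_zero_iff_dvd]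
    by_contra hne
    have hpos : 0 < ((((γ : Matrix (Fin 2) (Fin 2) ℤ) - 1).det : ℤ) : ZMod d).val :=
      (ZMod.val_pos).mpr hne
    have hlt := ZMod.val_lt ((((γ : Matrix (Fin 2) (Fin 2) ℤ) - 1).det : ℤ) : ZMod d)
    apply hw _ hpos hlt
    rw [← Nat.cast_smul_eq_nsmul (ZMod d), ZMod.natCast_zmod_val]
    exact hDw
  have hD0 : ((γ : Matrix (Fin 2) (Fin 2) ℤ) - 1).det = 0 :=
    Int.eq_zero_of_abs_lt_dvd hdvd (lt_of_le_of_lt hD4 (by exact_mod_cast (by omega : 4 < d)))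
  obtain ⟨v, hv0, hv⟩ := Matrix.exists_mulVec_eq_zero_iff.mpr hD0
  refine ⟨v, hv0, ?_⟩
  rw [Matrix.sub_mulVec, Matrix.one_mulVec, sub_eq_zero] at hv
  exact hv

end S15163aux

/-- Let Γ be a finite subgroup of GL_2(ℤ) and d > 6 an integer. Suppose some vector w of (ℤ/dℤ)², with
m·w ≠ 0 for all 0 < m < d, is fixed by the reduction modulo d of every element of Γ. Then some
non-zero vector of ℤ² is fixed by all of Γ. -/
theorem result
    (Γ : Subgroup (Matrix.GeneralLinearGroup (Fin 2) ℤ)) [Finite Γ] (d : ℕ) (hd : 6 < d)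
    (w : Fin 2 → ZMod d) (hw : ∀ m : ℕ, 0 < m → m < d → m • w ≠ 0)
    (hfix : ∀ γ ∈ Γ, ((γ : Matrix (Fin 2) (Fin 2) ℤ).map (Int.castRingHom (ZMod d))) *ᵥ w = w) :
    ∃ v : Fin 2 → ℤ, v ≠ 0 ∧ ∀ γ ∈ Γ, (γ : Matrix (Fin 2) (Fin 2) ℤ) *ᵥ v = v := by
  exact S15163aux.main Γ d hd w hw hfix

end Groth.Agent.S15163
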