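import Groth.Statements.S15164
-- import your own Groth.Agent.* helpers here
import Mathlib

set_option autoImplicit false
universe u v
open BddFin

namespace Groth.Agent.S15164

/-- Let K be a field of characteristic p > 2, V a finite-dimensional K-vector space and q a quadratic
form on V that does not represent zero (q x = 0 only for x = 0). Then the group of K-linear
automorphisms of V preserving q has no element of order p: if g preserves q and g ^ p = 1 then g =
1. (Non-degeneracy of q, also assumed in the published statement, follows from anisotropy since 2 is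
invertible, so it is not repeated here.) -/
theorem result
    (K : Type u) [Field K] (p : ℕ) [Fact p.Prime] [CharP K p] (hp : p ≠ 2)
    (V : Type v) [AddCommGroup V] [Module K V] [FiniteDimensional K V]
    (q : QuadraticForm K V) (hq : q.Anisotropic)
    (g : V ≃ₗ[K] V) (hg : ∀ x : V, q (g x) = q x) (hgp : g ^ p = 1) : g = 1 := by
  classical
  -- the endomorphism N = g - 1 is nilpotent
  let N : Module.End K V := (g : V →ₗ[K] V) - 1
  have hpoly : ((Polynomial.X : Polynomial K) - 1) ^ p = Polynomial.X ^ p - 1 := by
    rw [sub_pow_char, one_pow]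
  have hNp : N ^ p = 0 := by
    have h1 : Polynomial.aeval (g : Module.End K V) (((Polynomial.X : Polynomial K) - 1) ^ p) = N ^ p := by
      simp [N]
    rw [← h1, hpoly]
    have h2 : (g : Module.End K V) ^ p = 1 := by
      have h3 := map_pow (LinearEquiv.automorphismGroup.toLinearMapMonoidHom (R := K) (M := V)) g p
      rw [hgp, map_one] at h3
      exact h3.symm
    simp [h2]
  by_contra hg1
  have hN0 : N ≠ 0 := by
    intro h
    apply hg1
    ext x
    have := LinearMap.congr_fun h x
    simp only [N, LinearMap.sub_apply, LinearMap.zero_apply, Module.End.one_apply, sub_eq_zero] at this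
    exact this
  -- the least n with N ^ n = 0
  have hex : ∃ n : ℕ, N ^ n = 0 := ⟨p, hNp⟩
  set n := Nat.find hex with hn
  have hn0 : N ^ n = 0 := Nat.find_spec hex
  have hn2 : 2 ≤ n := by
    by_contra hlt
    push Not at hlt
    interval_cases n
    · rw [pow_zero] at hn0
      apply hN0
      rw [← mul_one N, hn0, mul_zero]
    · rw [pow_one] at hn0
      exact hN0 hn0
  have hmin : N ^ (n - 1) ≠ 0 := Nat.find_min hex (by omega)
  obtain ⟨u, hu⟩ : ∃ u : V, (N ^ (n - 1)) u ≠ 0 := by
    by_contra hcon
    push Not at hcon
    exact hmin (LinearMap.ext hcon)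
  set w := (N ^ (n - 1)) u with hw
  have hNw : N w = 0 := by
    have : N ((N ^ (n - 1)) u) = (N ^ n) u := by
      rw [show n = (n - 1) + 1 from by omega, pow_succ']
      rfl
    rw [hw, this, hn0]
    rfl
  have hgw : g w = w := by
    have : N w = g w - w := rfl
    rw [this, sub_eq_zero] at hNw
    exact hNw
  obtain ⟨u', hu'⟩ : ∃ u' : V, w = g u' - u' := by
    refine ⟨(N ^ (n - 2)) u, ?_⟩
    have : (N ^ (n - 1)) u = N ((N ^ (n - 2)) u) := by
      rw [show n - 1 = (n - 2) + 1 from by omega, pow_succ']
      rfl
    rw [hw, this]
    rfl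
  -- polar form computation
  have hpolar : ∀ x y : V, QuadraticMap.polar q (g x) (g y) = QuadraticMap.polar q x y := by
    intro x y
    unfold QuadraticMap.polar
    rw [← map_add, hg, hg, hg]
  have h1 : QuadraticMap.polar q w w = 0 := by
    have this : QuadraticMap.polar q (g u') w = QuadraticMap.polar q u' w := by
      conv_lhs => rw [← hgw]
      exact hpolar u' w
    have e : QuadraticMap.polar q w w = QuadraticMap.polar q (g u' - u') w := by rw [← hu']
    rw [e, QuadraticMap.polar_sub_left, this, sub_self]
  have h2 : QuadraticMap.polar q w w = 2 * q w := by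
    rw [QuadraticMap.polar_self]
    simp
  have h2K : (2 : K) ≠ 0 := by
    intro h
    have h3 : ((2 : ℕ) : K) = 0 := by exact_mod_cast h
    rw [CharP.cast_eq_zero_iff K p] at h3
    have hp2 := (Nat.prime_dvd_prime_iff_eq (Fact.out : p.Prime) Nat.prime_two).mp h3
    exact hp hp2
  have hqw : q w = 0 := by
    rw [h2] at h1
    rcases mul_eq_zero.mp h1 with h | h
    · exact absurd h h2K
    · exact h
  exact hu (hq w hqw)

end Groth.Agent.S15164
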