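import Groth.Statements.S15165
-- import your own Groth.Agent.* helpers here
import Mathlib
import Groth.Agent.Lib.Helper22.Diag
import Groth.Agent.S15164

set_option autoImplicit false
universe u v
open Polynomial
open BddFin

namespace Groth.Agent.S15165

/-- Let K be a field of characteristic different from 2 such that K contains all roots of unity (for
every n ≥ 1 the polynomial X^n − 1 splits into linear factors over K), V a finite-dimensional
K-vector space and q a quadratic form on V that does not represent zero. If a K-linear automorphism
g of V preserves q and has finite order (g ^ d = 1 for some d ≥ 1), then g ^ 2 = 1. (The published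
statement also covers perfect fields of characteristic 2; this row is the case of characteristic ≠
2.) -/
theorem result
    (K : Type u) [Field K] (hK : ∀ n : ℕ, 0 < n → (X ^ n - 1 : K[X]).Splits) (h2 : (2 : K) ≠ 0)
    (V : Type v) [AddCommGroup V] [Module K V] [FiniteDimensional K V]
    (q : QuadraticForm K V) (hq : q.Anisotropic)
    (g : V ≃ₗ[K] V) (hg : ∀ x : V, q (g x) = q x) (d : ℕ) (hd : 0 < d) (hgd : g ^ d = 1) :
    g ^ 2 = 1 := by
  classical
  -- powers of isometries are isometries
  have hpow : ∀ (h : V ≃ₗ[K] V), (∀ x, q (h x) = q x) → ∀ (n : ℕ) (x : V), q ((h ^ n) x) = q x := by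
    intro h hh n
    induction n with
    | zero => intro x; rfl
    | succ n ih =>
      intro x
      rw [pow_succ, LinearEquiv.mul_apply, ih, hh]
  -- Step A: reduce to an exponent invertible in K
  obtain ⟨m, hm0, hmK, hgm⟩ : ∃ m : ℕ, 0 < m ∧ (m : K) ≠ 0 ∧ g ^ m = 1 := by
    obtain ⟨p, hp⟩ := CharP.exists K
    rcases CharP.char_is_prime_or_zero K p with hpp | hp0
    · haveI : Fact p.Prime := ⟨hpp⟩
      have hp2 : p ≠ 2 := by
        rintro rfl
        apply h2
        have : ((2 : ℕ) : K) = 0 := CharP.cast_eq_zero K 2
        exact_mod_cast this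
      obtain ⟨e, m, hpm, hdm⟩ := Nat.exists_eq_pow_mul_and_not_dvd hd.ne' p hpp.ne_one
      have hkey : ∀ (e : ℕ) (h : V ≃ₗ[K] V), (∀ x, q (h x) = q x) → h ^ (p ^ e) = 1 → h = 1 := by
        intro e
        induction e with
        | zero => intro h _ hh; simpa using hh
        | succ e ih =>
          intro h hh hhe
          apply ih h hh
          apply Groth.Agent.S15164.result K p hp2 V q hq (h ^ (p ^ e)) (hpow h hh (p ^ e))
          rw [← pow_mul, ← pow_succ]
          exact hhe
      refine ⟨m, ?_, ?_, ?_⟩
      · rcases Nat.eq_zero_or_pos m with h | h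
        · rw [h, mul_zero] at hdm; omega
        · exact h
      · intro h
        exact hpm ((CharP.cast_eq_zero_iff K p m).mp h)
      · apply hkey e (g ^ m) (hpow g hg m)
        rw [← pow_mul, mul_comm, ← hdm]
        exact hgd
    · subst hp0
      haveI : CharZero K := CharP.charP_to_charZero K
      exact ⟨d, hd, Nat.cast_ne_zero.mpr hd.ne', hgd⟩
  -- Step B: diagonalisability
  have hsplit : (Polynomial.X ^ m - 1 : Polynomial K).Splits := hK m hm0
  have hsep : (Polynomial.X ^ m - 1 : Polynomial K).Separable := by
    have := Polynomial.separable_X_pow_sub_C (1 : K) hmK one_ne_zero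
    rwa [map_one] at this
  have hgm' : (g : Module.End K V) ^ m = 1 := by
    have h3 := map_pow (LinearEquiv.automorphismGroup.toLinearMapMonoidHom (R := K) (M := V)) g m
    rw [hgm, map_one] at h3
    exact h3.symm
  have haev : Polynomial.aeval (g : Module.End K V) (Polynomial.X ^ m - 1 : Polynomial K) = 0 := by
    simp [hgm']
  have htop := Groth.Agent.Lib.Helper22.Diag.iSup_eigenspace_eq_top_of_aeval_eq_zero
    (g : Module.End K V) _ hsplit hsep haev
  -- Step C
  have hall : ∀ x : V, g (g x) = x := by
    intro x
    have hx : x ∈ ⨆ μ : K, Module.End.eigenspace (g : Module.End K V) μ := by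
      rw [htop]; exact Submodule.mem_top
    induction hx using Submodule.iSup_induction' with
    | mem μ x hx =>
      have hgx : g x = μ • x := Module.End.mem_eigenspace_iff.mp hx
      by_cases hx0 : x = 0
      · rw [hx0, map_zero, map_zero]
      · have hqx : q x ≠ 0 := fun h => hx0 (hq x h)
        have h1 : q x = (μ * μ) * q x := by
          conv_lhs => rw [← hg x, hgx, QuadraticMap.map_smul]
          rfl
        have h3 : μ * μ = 1 := by
          have h4 : (μ * μ - 1) * q x = 0 := by rw [sub_mul, one_mul, ← h1, sub_self]
          rcases mul_eq_zero.mp h4 with h | h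
          · exact sub_eq_zero.mp h
          · exact absurd h hqx
        rw [hgx, map_smul, hgx, smul_smul, h3, one_smul]
    | zero => rw [map_zero, map_zero]
    | add x y _ _ hx hy => rw [map_add, map_add, hx, hy]
  ext x
  rw [pow_two, LinearEquiv.mul_apply]
  exact hall x

end Groth.Agent.S15165
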