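import Groth.Statements.S15166
-- import your own Groth.Agent.* helpers here
import Mathlib
import Groth.Agent.Lib.Helper22.Diag
import Groth.Agent.S15165

set_option autoImplicit false
universe u v
open Polynomial
open BddFin

namespace Groth.Agent.S15166

/-- Let K be a field of characteristic different from 2 such that K contains all roots of unity (for
every n ≥ 1 the polynomial X^n − 1 splits into linear factors over K), V a finite-dimensional
K-vector space and q a quadratic form on V that does not represent zero. Then every finite subgroup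
of the group of K-linear automorphisms of V preserving q is abelian and has order at most 2 ^ (dim
V). (The published statement also covers perfect fields of characteristic 2; this row is the case of
characteristic ≠ 2.) -/
theorem result
    (K : Type u) [Field K] (hK : ∀ n : ℕ, 0 < n → (X ^ n - 1 : K[X]).Splits) (h2 : (2 : K) ≠ 0)
    (V : Type v) [AddCommGroup V] [Module K V] [FiniteDimensional K V]
    (q : QuadraticForm K V) (hq : q.Anisotropic)
    (G : Subgroup (V ≃ₗ[K] V)) [Finite G] (hG : ∀ g ∈ G, ∀ x : V, q (g x) = q x) :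
    (∀ g ∈ G, ∀ h ∈ G, g * h = h * g) ∧ Nat.card G ≤ 2 ^ Module.finrank K V := by
  classical
  have hsq : ∀ g ∈ G, g ^ 2 = 1 := by
    intro g hgG
    have hcard : 0 < Nat.card G := Nat.card_pos
    have h1 : (⟨g, hgG⟩ : G) ^ Nat.card G = 1 := pow_card_eq_one'
    have h2' : g ^ Nat.card G = 1 := by
      have h5 := congrArg Subtype.val h1
      rw [SubmonoidClass.coe_pow] at h5
      exact h5
    exact Groth.Agent.S15165.result K hK h2 V q hq g (hG g hgG) (Nat.card G) hcard h2'
  have hcomm : ∀ g ∈ G, ∀ h ∈ G, g * h = h * g := by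
    intro g hg h hh
    have h1 := hsq g hg
    have h2' := hsq h hh
    have h3 := hsq (g * h) (G.mul_mem hg hh)
    calc g * h = g * ((g * h) * (g * h)) * h := by rw [← pow_two, h3, mul_one]
      _ = (g * g) * (h * g) * (h * h) := by simp only [mul_assoc]
      _ = h * g := by rw [← pow_two, ← pow_two, h1, h2', one_mul, mul_one]
  refine ⟨hcomm, ?_⟩
  -- the commuting family of endomorphisms
  let f : ↥G → Module.End K V := fun i => ((i : V ≃ₗ[K] V) : V →ₗ[K] V)
  have hfsq : ∀ i : ↥G, f i * f i = 1 := by
    intro i
    have := hsq i.1 i.2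
    apply LinearMap.ext
    intro x
    have h4 := LinearEquiv.congr_fun this x
    rw [pow_two, LinearEquiv.mul_apply] at h4
    exact h4
  have hfcomm : Pairwise fun i j : ↥G => Commute (f i) (f j) := by
    intro i j _
    show f i * f j = f j * f i
    apply LinearMap.ext
    intro x
    have := LinearEquiv.congr_fun (hcomm i.1 i.2 j.1 j.2) x
    exact this
  have hsplit : (Polynomial.X ^ 2 - 1 : Polynomial K).Splits := hK 2 (by norm_num)
  have hsep : (Polynomial.X ^ 2 - 1 : Polynomial K).Separable := by
    have := Polynomial.separable_X_pow_sub_C (1 : K) (n := 2) (by exact_mod_cast h2) one_ne_zero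
    rwa [map_one] at this
  have haev : ∀ i : ↥G, Polynomial.aeval (f i) (Polynomial.X ^ 2 - 1 : Polynomial K) = 0 := by
    intro i
    simp [pow_two, hfsq i]
  have hss : ∀ i : ↥G, (f i).IsSemisimple := fun i =>
    Module.End.isSemisimple_of_squarefree_aeval_eq_zero hsep.squarefree (haev i)
  have hgen : ∀ (i : ↥G) (μ : K), (f i).maxGenEigenspace μ = (f i).eigenspace μ := fun i μ =>
    (Module.End.isFinitelySemisimple_iff_isSemisimple.mpr (hss i)).maxGenEigenspace_eq_eigenspace μ
  have htop1 : ∀ i : ↥G, ⨆ μ, (f i).maxGenEigenspace μ = ⊤ := by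
    intro i
    simp_rw [hgen i]
    exact Groth.Agent.Lib.Helper22.Diag.iSup_eigenspace_eq_top_of_aeval_eq_zero (f i) _ hsplit hsep
      (haev i)
  have htop := Module.End.iSup_iInf_maxGenEigenspace_eq_top_of_iSup_maxGenEigenspace_eq_top_of_commute
    f hfcomm htop1
  have hind : iSupIndep fun χ : ↥G → K => ⨅ i, (f i).maxGenEigenspace (χ i) := by
    apply Module.End.independent_iInf_maxGenEigenspace_of_forall_mapsTo
    intro i j φ
    apply Module.End.mapsTo_maxGenEigenspace_of_comm
    rcases eq_or_ne j i with rfl | hij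
    · exact Commute.refl _
    · exact hfcomm hij
  let _inst : Fintype {χ : ↥G → K // (⨅ i, (f i).maxGenEigenspace (χ i)) ≠ ⊥} :=
    hind.fintypeNeBotOfFiniteDimensional
  have hS := hind.subtype_ne_bot_le_finrank
  -- eigenvalue action
  have hact : ∀ (χ : ↥G → K) (x : V), x ∈ ⨅ i, (f i).maxGenEigenspace (χ i) →
      ∀ i : ↥G, (i : V ≃ₗ[K] V) x = χ i • x := by
    intro χ x hx i
    have hxi : x ∈ (f i).maxGenEigenspace (χ i) := (Submodule.mem_iInf _).mp hx i
    rw [hgen i] at hxi
    exact Module.End.mem_eigenspace_iff.mp hxi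
  have hpm : ∀ (χ : ↥G → K) (x : V), x ≠ 0 → x ∈ ⨅ i, (f i).maxGenEigenspace (χ i) →
      ∀ i : ↥G, χ i = 1 ∨ χ i = -1 := by
    intro χ x hx0 hx i
    have h1 := hact χ x hx i
    have h4 : f i (f i x) = x := by
      have := LinearMap.congr_fun (hfsq i) x
      exact this
    have h5 : f i x = χ i • x := h1
    rw [h5, map_smul, h5, smul_smul] at h4
    have h6 : (χ i * χ i - 1) • x = 0 := by rw [sub_smul, h4, one_smul, sub_self]
    rcases smul_eq_zero.mp h6 with h | h
    · have h7 : (χ i - 1) * (χ i + 1) = 0 := by rw [← h]; ring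
      rcases mul_eq_zero.mp h7 with h8 | h8
      · left; exact sub_eq_zero.mp h8
      · right; exact eq_neg_of_add_eq_zero_left h8
    · exact absurd h hx0
  -- the injection into sign vectors
  let Φ : ↥G → ({χ : ↥G → K // (⨅ i, (f i).maxGenEigenspace (χ i)) ≠ ⊥} → Bool) :=
    fun g χ => decide (χ.1 g = 1)
  have hΦ : Function.Injective Φ := by
    intro g h hgh
    apply Subtype.ext
    apply LinearEquiv.ext
    intro x
    have hx : x ∈ ⨆ χ : ↥G → K, ⨅ i, (f i).maxGenEigenspace (χ i) := by
      rw [htop]; exact Submodule.mem_top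
    induction hx using Submodule.iSup_induction' with
    | mem χ x hx =>
      by_cases hx0 : x = 0
      · rw [hx0, map_zero, map_zero]
      · have hne : (⨅ i, (f i).maxGenEigenspace (χ i)) ≠ ⊥ := by
          intro hbot
          rw [hbot, Submodule.mem_bot] at hx
          exact hx0 hx
        have hΦχ := congrFun hgh ⟨χ, hne⟩
        have hΦχ' : decide (χ g = 1) = decide (χ h = 1) := hΦχ
        have hiff : χ g = 1 ↔ χ h = 1 := by simpa using hΦχ'
        have hne1 : (1 : K) ≠ -1 := by
          intro h'
          apply h2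
          have : (1 : K) + 1 = 0 := by nth_rewrite 2 [h']; ring
          rw [← this]; norm_num
        have hχ : χ g = χ h := by
          rcases hpm χ x hx0 hx g with h1 | h1 <;> rcases hpm χ x hx0 hx h with h3 | h3
          · rw [h1, h3]
          · exact absurd (hiff.mp h1) (by rw [h3]; exact fun h' => hne1 h'.symm)
          · exact absurd (hiff.mpr h3) (by rw [h1]; exact fun h' => hne1 h'.symm)
          · rw [h1, h3]
        rw [hact χ x hx g, hact χ x hx h, hχ]
    | zero => rw [map_zero, map_zero]
    | add x y _ _ hx hy => rw [map_add, map_add, hx, hy]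
  calc Nat.card G ≤ Nat.card ({χ : ↥G → K // (⨅ i, (f i).maxGenEigenspace (χ i)) ≠ ⊥} → Bool) :=
        Nat.card_le_card_of_injective Φ hΦ
    _ = 2 ^ Fintype.card {χ : ↥G → K // (⨅ i, (f i).maxGenEigenspace (χ i)) ≠ ⊥} := by
        rw [Nat.card_eq_fintype_card, Fintype.card_fun, Fintype.card_bool]
    _ ≤ 2 ^ Module.finrank K V := Nat.pow_le_pow_right (by norm_num) hS

end Groth.Agent.S15166
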