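import Groth.Statements.S15167
import Groth.Agent.Lib.Lead.TorsionMinpoly

set_option autoImplicit false
universe u v
open Polynomial
open BddFin

namespace Groth.Agent.S15167

/-- Let K be a field such that K contains all roots of unity (for every n ≥ 1 the polynomial X^n − 1
splits into linear factors over K), A a central simple K-algebra of dimension n ^ 2, and x an
invertible element of A some power x ^ m (m ≥ 1) of which lies in K. Then there are a positive
integer r dividing n and elements a_i of K such that the minimal polynomial of x over K is the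
product of the polynomials X ^ r − a_i. -/
theorem result
    (K : Type u) [Field K] (hK : ∀ n : ℕ, 0 < n → (X ^ n - 1 : K[X]).Splits)
    (A : Type v) [Ring A] [Algebra K A] [Algebra.IsCentral K A] [IsSimpleRing A] [FiniteDimensional K A]
    (n : ℕ) (hn : Module.finrank K A = n ^ 2)
    (x : A) (hx : IsUnit x) (hxm : ∃ m : ℕ, 0 < m ∧ x ^ m ∈ (algebraMap K A).range) :
    ∃ r : ℕ, 0 < r ∧ r ∣ n ∧ ∃ s : Multiset K, minpoly K x = (s.map fun a : K => X ^ r - C a).prod := by
  classical
  obtain ⟨m, hm, hmem⟩ := hxm
  obtain ⟨c, hc⟩ := RingHom.mem_range.1 hmem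
  have hc0 : c ≠ 0 := by
    rintro rfl
    rw [map_zero] at hc
    have h1 := hx.pow m
    rw [← hc] at h1
    exact not_isUnit_zero h1
  obtain ⟨t, ht0, hT⟩ := Groth.Agent.Lib.Lead.TorsionMinpoly.exists_kummer_degree K hK c hc0 m hm
  have hxint : IsIntegral K x := Algebra.IsIntegral.isIntegral x
  have hμd : minpoly K x ∣ X ^ m - C c := by
    apply minpoly.dvd
    rw [map_sub, map_pow, Polynomial.aeval_X, Polynomial.aeval_C, hc, sub_self]
  obtain ⟨P, hPm, hPdeg, hPq⟩ :=
    Groth.Agent.Lib.Lead.TorsionMinpoly.exists_redCharpoly K A n hn x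
  have hdeg_t : ∀ q : K[X], Irreducible q → q ∣ minpoly K x → q.natDegree = t := by
    intro q hq hqd
    obtain ⟨b, hb⟩ := hT q hq (dvd_trans hqd hμd)
    have h1 : (q * C q.leadingCoeff⁻¹).natDegree = q.natDegree :=
      Polynomial.natDegree_mul_C (inv_ne_zero (Polynomial.leadingCoeff_ne_zero.2 hq.ne_zero))
    rw [← h1, hb, Polynomial.natDegree_X_pow_sub_C]
  have hall : ∀ n' : ℕ, ∀ h : K[X], h.natDegree = n' → h ∣ P → t ∣ n' := by
    intro n'
    induction n' using Nat.strong_induction_on with
    | _ n' ih =>
      intro h hn' hh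
      rcases Nat.eq_zero_or_pos n' with rfl | hpos
      · exact dvd_zero _
      · have hh0 : h ≠ 0 := by
          rintro rfl
          exact hPm.ne_zero (zero_dvd_iff.1 hh)
        have hnu : ¬ IsUnit h := fun hu => by
          have := Polynomial.natDegree_eq_zero_of_isUnit hu
          omega
        obtain ⟨p, hp, ⟨q, hq⟩⟩ := WfDvdMonoid.exists_irreducible_factor hnu hh0
        have hq0 : q ≠ 0 := by
          rintro rfl
          exact hh0 (by rw [hq, mul_zero])
        have hdeg : h.natDegree = p.natDegree + q.natDegree := by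
          rw [hq, Polynomial.natDegree_mul hp.ne_zero hq0]
        have h1 : p.natDegree = t := hdeg_t p hp (hPq p hp (dvd_trans ⟨q, hq⟩ hh))
        have h2 : t ∣ q.natDegree :=
          ih q.natDegree (by omega) q rfl (dvd_trans ⟨p, by rw [hq, mul_comm]⟩ hh)
        rw [← hn', hdeg, h1]
        exact dvd_add dvd_rfl h2
  have htn : t ∣ n := hall n P hPdeg dvd_rfl
  refine ⟨t, ht0, htn, ?_⟩
  have hμ0 : minpoly K x ≠ 0 := minpoly.ne_zero hxint
  have hμm : (minpoly K x).Monic := minpoly.monic hxint
  have h1 := UniqueFactorizationMonoid.prod_normalizedFactors_eq hμ0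
  rw [hμm.normalize_eq_self] at h1
  have hmap : (UniqueFactorizationMonoid.normalizedFactors (minpoly K x)).map
      (fun q : K[X] => X ^ t - C (- q.coeff 0)) =
      UniqueFactorizationMonoid.normalizedFactors (minpoly K x) := by
    conv_rhs => rw [← Multiset.map_id (UniqueFactorizationMonoid.normalizedFactors (minpoly K x))]
    refine Multiset.map_congr rfl (fun q hq => ?_)
    have hqirr := UniqueFactorizationMonoid.irreducible_of_normalized_factor q hq
    have hqd := UniqueFactorizationMonoid.dvd_of_mem_normalizedFactors hq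
    have hqn := UniqueFactorizationMonoid.normalize_normalized_factor q hq
    have hqm : q.Monic := (Polynomial.normalize_eq_self_iff_monic hqirr.ne_zero).1 hqn
    obtain ⟨b, hb⟩ := hT q hqirr (dvd_trans hqd hμd)
    rw [hqm.leadingCoeff, inv_one, C_1, mul_one] at hb
    have h2 : q.coeff 0 = - b := by
      rw [hb]
      simp [Polynomial.coeff_X_pow, ht0.ne]
    rw [h2, neg_neg, id, hb]
  refine ⟨(UniqueFactorizationMonoid.normalizedFactors (minpoly K x)).map
    (fun q => - q.coeff 0), ?_⟩
  rw [Multiset.map_map]
  have h3 : ((fun a : K => (X : K[X]) ^ t - C a) ∘ fun q : K[X] => - q.coeff 0) =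
      fun q : K[X] => X ^ t - C (- q.coeff 0) := rfl
  rw [h3, hmap, h1]

end Groth.Agent.S15167
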