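-- S15168 (lead)
import Groth.Statements.S15168
import Mathlib
import Groth.Agent.Lib.Lead.Centralizer
import Groth.Agent.Lib.Lead.SubDivision

set_option autoImplicit false
set_option linter.style.haveILetI false
set_option linter.style.haveILetI false
universe u v
open Polynomial
open BddFin

namespace Groth.Agent.S15168

/-- Let K be a field such that K contains all roots of unity (for every n ≥ 1 the polynomial X^n − 1
splits into linear factors over K), A a central division algebra of dimension n ^ 2 over K, and x an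
element of A some power x ^ m (m ≥ 1) of which lies in K. Then x ^ n lies in K; that is, the order
of the class of x in the quotient of the unit group of A by that of K divides n. -/
theorem result
    (K : Type u) [Field K] (hK : ∀ n : ℕ, 0 < n → (X ^ n - 1 : K[X]).Splits)
    (A : Type v) [DivisionRing A] [Algebra K A] [Algebra.IsCentral K A] [FiniteDimensional K A]
    (n : ℕ) (hn : Module.finrank K A = n ^ 2)
    (x : A) (hxm : ∃ m : ℕ, 0 < m ∧ x ^ m ∈ (algebraMap K A).range) :
    x ^ n ∈ (algebraMap K A).range := by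
  classical
  obtain ⟨m, hm, hcm⟩ := hxm
  obtain ⟨c, hc⟩ := RingHom.mem_range.1 hcm
  have hnpos : 0 < n := by
    rcases Nat.eq_zero_or_pos n with h0 | h0
    · exfalso
      have h1 : 0 < Module.finrank K A := Module.finrank_pos
      rw [hn, h0] at h1
      simp at h1
    · exact h0
  by_cases hx0 : x = 0
  · refine RingHom.mem_range.2 ⟨0, ?_⟩
    rw [hx0, map_zero, zero_pow hnpos.ne']
  have hint : IsIntegral K x := Algebra.IsIntegral.isIntegral x
  have hirr : Irreducible (minpoly K x) := minpoly.irreducible hint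
  have hmonic : (minpoly K x).Monic := minpoly.monic hint
  obtain ⟨p, hp⟩ : ∃ p : K[X], p = minpoly K x := ⟨_, rfl⟩
  rw [← hp] at hirr hmonic
  obtain ⟨d, hd⟩ : ∃ d : ℕ, d = p.natDegree := ⟨_, rfl⟩
  have hdpos : 0 < d := by rw [hd, hp]; exact minpoly.natDegree_pos hint
  have hc0 : c ≠ 0 := by
    intro h
    rw [h, map_zero] at hc
    exact hx0 ((pow_eq_zero_iff hm.ne').1 hc.symm)
  have hpdvd : p ∣ X ^ m - C c := by
    rw [hp]
    apply minpoly.dvd
    simp [← hc]
  -- the algebraic closure
  have hsplit : (p.map (algebraMap K (AlgebraicClosure K))).Splits := IsAlgClosed.splits _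
  have hmonic' : (p.map (algebraMap K (AlgebraicClosure K))).Monic := hmonic.map _
  have hdeg' : (p.map (algebraMap K (AlgebraicClosure K))).natDegree = d := by
    rw [hd]; exact hmonic.natDegree_map _
  have hcard : (p.map (algebraMap K (AlgebraicClosure K))).roots.card = d := by
    rw [← hdeg', hsplit.natDegree_eq_card_roots]
  obtain ⟨y₀, hy₀⟩ : ∃ y, y ∈ (p.map (algebraMap K (AlgebraicClosure K))).roots :=
    Multiset.card_pos_iff_exists_mem.1 (by rw [hcard]; exact hdpos)
  have hroot_pow : ∀ y ∈ (p.map (algebraMap K (AlgebraicClosure K))).roots,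
      y ^ m = algebraMap K (AlgebraicClosure K) c := by
    intro y hy
    have h1 : eval y (p.map (algebraMap K (AlgebraicClosure K))) = 0 :=
      (mem_roots hmonic'.ne_zero).1 hy
    obtain ⟨q, hq⟩ := hpdvd
    have h2 : eval y ((X ^ m - C c : K[X]).map (algebraMap K (AlgebraicClosure K))) = 0 := by
      rw [hq, Polynomial.map_mul, eval_mul, h1, zero_mul]
    have h3 : eval y ((X ^ m - C c : K[X]).map (algebraMap K (AlgebraicClosure K))) =
        y ^ m - algebraMap K (AlgebraicClosure K) c := by simp
    rw [h3, sub_eq_zero] at h2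
    exact h2
  have hic0 : algebraMap K (AlgebraicClosure K) c ≠ 0 := (_root_.map_ne_zero _).2 hc0
  have hy₀0 : y₀ ≠ 0 := by
    intro h
    have := hroot_pow y₀ hy₀
    rw [h, zero_pow hm.ne'] at this
    exact hic0 this.symm
  have hne1 : (X ^ m - 1 : K[X]) ≠ 0 := by
    have := X_pow_sub_C_ne_zero hm (1 : K)
    rwa [C_1] at this
  have hratio : ∀ y ∈ (p.map (algebraMap K (AlgebraicClosure K))).roots,
      ∃ z : K, y = algebraMap K (AlgebraicClosure K) z * y₀ := by
    intro y hy
    have h1 : (y / y₀) ^ m = 1 := by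
      rw [div_pow, hroot_pow y hy, hroot_pow y₀ hy₀, div_self hic0]
    have h2 : ((X ^ m - 1 : K[X]).map (algebraMap K (AlgebraicClosure K))).IsRoot (y / y₀) := by
      rw [IsRoot.def]
      simp [h1]
    obtain ⟨z, hz⟩ := (hK m hm).mem_range_of_isRoot hne1 h2
    refine ⟨z, ?_⟩
    rw [hz, div_mul_cancel₀ _ hy₀0]
  have hprod : ∀ S : Multiset (AlgebraicClosure K),
      (∀ y ∈ S, ∃ z : K, y = algebraMap K (AlgebraicClosure K) z * y₀) →
      ∃ Z : K, S.prod = algebraMap K (AlgebraicClosure K) Z * y₀ ^ (Multiset.card S) := by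
    intro S
    induction S using Multiset.induction_on with
    | empty => intro _; exact ⟨1, by simp⟩
    | cons a S ih =>
      intro h
      obtain ⟨z, hz⟩ := h a (Multiset.mem_cons_self a S)
      obtain ⟨Z, hZ⟩ := ih (fun y hy => h y (Multiset.mem_cons_of_mem hy))
      refine ⟨z * Z, ?_⟩
      rw [Multiset.prod_cons, Multiset.card_cons, hZ, map_mul, pow_succ]
      rw [hz]
      ring
  obtain ⟨Z, hZ⟩ := hprod _ hratio
  rw [hcard] at hZ
  have hZ0 : Z ≠ 0 := by
    intro h
    rw [h, map_zero, zero_mul, Multiset.prod_eq_zero_iff] at hZ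
    have := hroot_pow 0 hZ
    rw [zero_pow hm.ne'] at this
    exact hic0 this.symm
  have hcoeff : algebraMap K (AlgebraicClosure K) (p.coeff 0) =
      (-1) ^ d * (algebraMap K (AlgebraicClosure K) Z * y₀ ^ d) := by
    have := hsplit.coeff_zero_eq_prod_roots_of_monic hmonic'
    rw [coeff_map, hdeg', hZ] at this
    exact this
  have hsq : ((-1 : AlgebraicClosure K) ^ d) * ((-1) ^ d) = 1 := by
    rw [← mul_pow]; simp
  have hib : algebraMap K (AlgebraicClosure K) ((-1) ^ d * p.coeff 0 / Z) = y₀ ^ d := by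
    have hZ' : algebraMap K (AlgebraicClosure K) Z ≠ 0 := (_root_.map_ne_zero _).2 hZ0
    rw [map_div₀, map_mul, map_pow, map_neg, map_one, hcoeff, ← mul_assoc, hsq, one_mul,
      mul_div_cancel_left₀ _ hZ']
  obtain ⟨b, hb⟩ : ∃ b : K, b = (-1) ^ d * p.coeff 0 / Z := ⟨_, rfl⟩
  rw [← hb] at hib
  have hpy : aeval y₀ p = 0 := by
    rw [aeval_def, eval₂_eq_eval_map]
    exact (mem_roots hmonic'.ne_zero).1 hy₀
  have hpmin : p = minpoly K y₀ := minpoly.eq_of_irreducible_of_monic hirr hpy hmonic
  have hpdvd2 : p ∣ X ^ d - C b := by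
    rw [hpmin]
    apply minpoly.dvd
    simp [hib]
  have hxd : algebraMap K A b = x ^ d := by
    obtain ⟨q, hq⟩ := hpdvd2
    have h1 : aeval x (X ^ d - C b : K[X]) = 0 := by
      rw [hq, map_mul, hp, minpoly.aeval, zero_mul]
    simp only [map_sub, map_pow, aeval_X, aeval_C] at h1
    exact (sub_eq_zero.1 h1).symm
  -- d ∣ n
  obtain ⟨M, hM⟩ : ∃ M : Subalgebra K A, M = Algebra.adjoin K {x} := ⟨_, rfl⟩
  have hMcomm : ∀ a ∈ M, ∀ b ∈ M, a * b = b * a := by
    intro a ha b hb
    rw [hM] at ha hb
    have hs : ∀ a ∈ ({x} : Set A), ∀ b ∈ ({x} : Set A), a * b = b * a := by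
      intro a ha b hb
      rw [Set.mem_singleton_iff] at ha hb
      rw [ha, hb]
    haveI := Algebra.isMulCommutative_adjoin K hs
    exact congrArg Subtype.val (mul_comm' (⟨a, ha⟩ : Algebra.adjoin K {x}) ⟨b, hb⟩)
  haveI : FiniteDimensional K M :=
    Module.Finite.of_injective M.val.toLinearMap Subtype.val_injective
  have hxM : x ∈ M := by rw [hM]; exact Algebra.self_mem_adjoin_singleton K x
  have hmin_eq : minpoly K x = minpoly K (⟨x, hxM⟩ : M) :=
    minpoly.algHom_eq M.val Subtype.val_injective ⟨x, hxM⟩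
  haveI : IsSimpleRing M := Groth.Agent.Lib.Lead.SubDivision.isSimpleRing_subalgebra M
  have hmul := Groth.Agent.Lib.Lead.CSA.finrank_eq_mul_centralizer M
  have hMC : M ≤ Subalgebra.centralizer K (M : Set A) := fun a ha =>
    (Subalgebra.mem_centralizer_iff K).2 (fun b hb => hMcomm b hb a ha)
  haveI : FiniteDimensional K (Subalgebra.centralizer K (M : Set A)) :=
    Module.Finite.of_injective (Subalgebra.centralizer K (M : Set A)).val.toLinearMap
      Subtype.val_injective
  let algM : Algebra K M := inferInstance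
  letI fM : Field M := Groth.Agent.Lib.Lead.SubDivision.fieldSub M hMcomm
  have hdf : d ∣ Module.finrank K M := by
    rw [hd, hp, hmin_eq]
    exact minpoly.degree_dvd (Algebra.IsIntegral.isIntegral _)
  letI modMC : Module M (Subalgebra.centralizer K (M : Set A)) :=
    Module.compHom _ (Subalgebra.inclusion hMC).toRingHom
  haveI : IsScalarTower K M (Subalgebra.centralizer K (M : Set A)) := ⟨fun k a c => by
    show (Subalgebra.inclusion hMC (k • a)) * c = k • ((Subalgebra.inclusion hMC a) * c)
    rw [map_smul, smul_mul_assoc]⟩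
  have htower : Module.finrank K M * Module.finrank M (Subalgebra.centralizer K (M : Set A)) =
      Module.finrank K (Subalgebra.centralizer K (M : Set A)) :=
    Module.finrank_mul_finrank K M (Subalgebra.centralizer K (M : Set A))
  have hsqdvd : (Module.finrank K M) ^ 2 ∣ n ^ 2 :=
    ⟨Module.finrank M (Subalgebra.centralizer K (M : Set A)), by
      rw [← hn, hmul, ← htower]; ring⟩
  have hfn : Module.finrank K M ∣ n := (Nat.pow_dvd_pow_iff two_ne_zero).1 hsqdvd
  obtain ⟨e, he⟩ := hdf.trans hfn
  refine RingHom.mem_range.2 ⟨b ^ e, ?_⟩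
  rw [map_pow, hxd, ← pow_mul, ← he]

end Groth.Agent.S15168
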