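-- S15169 (lead)
import Groth.Statements.S15169
import Mathlib
import Groth.Agent.Lib.Lead.Centralizer
import Groth.Agent.Lib.Lead.SubDivision

set_option autoImplicit false
set_option linter.style.haveILetI false
universe u v
open BddFin

namespace Groth.Agent.S15169

/-- (1) ⇒ (2): let K be a field with char K = p > 0 and A a central division K-algebra with dim_K A = p
^ 2. If some element of A is not separable over K, then there are v, u in A with v ^ p and u ^ p in
K and v * u - u * v = 1 which generate A as a K-algebra. -/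
theorem result
    (K : Type u) [Field K] (p : ℕ) [Fact p.Prime] [CharP K p]
    (A : Type v) [DivisionRing A] [Algebra K A] [Algebra.IsCentral K A] [FiniteDimensional K A]
    (hA : Module.finrank K A = p ^ 2) (h : ∃ v : A, ¬ IsSeparable K v) :
    ∃ v u : A, v ^ p ∈ (algebraMap K A).range ∧ u ^ p ∈ (algebraMap K A).range ∧ v * u - u * v = 1 ∧
      Algebra.adjoin K {v, u} = ⊤ := by
  classical
  open Polynomial in
  have hp : p.Prime := Fact.out
  obtain ⟨v, hvsep⟩ := h
  haveI : CharP A p := charP_of_injective_algebraMap (algebraMap K A).injective p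
  have hint : IsIntegral K v := Algebra.IsIntegral.isIntegral v
  have hirr : Irreducible (minpoly K v) := minpoly.irreducible hint
  -- bound on commutative subalgebras
  have hbound : ∀ M : Subalgebra K A, (∀ x ∈ M, ∀ y ∈ M, x * y = y * x) →
      Module.finrank K M ≤ p := by
    intro M hMcomm
    haveI : FiniteDimensional K M :=
      Module.Finite.of_injective M.val.toLinearMap Subtype.val_injective
    haveI : IsSimpleRing M := Groth.Agent.Lib.Lead.SubDivision.isSimpleRing_subalgebra M
    have hmul := Groth.Agent.Lib.Lead.CSA.finrank_eq_mul_centralizer M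
    have hMC : M ≤ Subalgebra.centralizer K (M : Set A) := fun x hx =>
      (Subalgebra.mem_centralizer_iff K).2 (fun y hy => hMcomm y hy x hx)
    have hle3 : Module.finrank K M ≤
        Module.finrank K (Subalgebra.centralizer K (M : Set A)) := by
      have h := Submodule.finrank_mono
        (show Subalgebra.toSubmodule M ≤ Subalgebra.toSubmodule
          (Subalgebra.centralizer K (M : Set A)) from hMC)
      rwa [Subalgebra.finrank_toSubmodule, Subalgebra.finrank_toSubmodule] at h
    by_contra hlt
    push_neg at hlt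
    have h := Nat.mul_lt_mul'' hlt (lt_of_lt_of_le hlt hle3)
    rw [← hmul, hA, sq] at h
    exact lt_irrefl _ h
  -- the subalgebra generated by v
  let M₀ : Subalgebra K A := Algebra.adjoin K {v}
  have hvM₀ : v ∈ M₀ := Algebra.self_mem_adjoin_singleton K v
  have hM₀comm : ∀ x ∈ M₀, ∀ y ∈ M₀, x * y = y * x := by
    intro x hx y hy
    have hs : ∀ a ∈ ({v} : Set A), ∀ b ∈ ({v} : Set A), a * b = b * a := by
      intro a ha b hb
      rw [Set.mem_singleton_iff] at ha hb
      rw [ha, hb]
    haveI := Algebra.isMulCommutative_adjoin K hs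
    exact congrArg Subtype.val (mul_comm' (⟨x, hx⟩ : Algebra.adjoin K {v}) ⟨y, hy⟩)
  haveI : FiniteDimensional K M₀ :=
    Module.Finite.of_injective M₀.val.toLinearMap Subtype.val_injective
  have hmin_eq : minpoly K v = minpoly K (⟨v, hvM₀⟩ : M₀) :=
    minpoly.algHom_eq M₀.val Subtype.val_injective ⟨v, hvM₀⟩
  have hM₀ge : (minpoly K v).natDegree ≤ Module.finrank K M₀ := by
    rw [hmin_eq]; exact minpoly.natDegree_le _
  have hdeg_le : (minpoly K v).natDegree ≤ p := hM₀ge.trans (hbound M₀ hM₀comm)
  -- inseparable => minpoly = X^p + b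
  obtain ⟨g, hg, hgf⟩ : ∃ g : Polynomial K, Irreducible g ∧
      Polynomial.expand K p g = minpoly K v := by
    rcases Polynomial.separable_or p hirr with hs | ⟨_, hg⟩
    · exact absurd hs hvsep
    · exact hg
  have hdeg : (minpoly K v).natDegree = g.natDegree * p := by
    rw [← hgf, Polynomial.natDegree_expand]
  have hg1 : g.natDegree = 1 := by
    have hgpos : 0 < g.natDegree := hg.natDegree_pos
    have h1 : g.natDegree * p ≤ 1 * p := by rw [← hdeg, one_mul]; exact hdeg_le
    have h2 := Nat.le_of_mul_le_mul_right h1 hp.pos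
    omega
  have hdegp : (minpoly K v).natDegree = p := by rw [hdeg, hg1, one_mul]
  have hgmonic : g.Monic := by
    have h1 : (Polynomial.expand K p g).Monic := by rw [hgf]; exact minpoly.monic hint
    exact (Polynomial.monic_expand_iff hp.pos).1 h1
  obtain ⟨b, hgX⟩ : ∃ b : K, g = Polynomial.X + Polynomial.C b :=
    ⟨_, hgmonic.eq_X_add_C hg1⟩
  subst hgX
  have hvp : v ^ p = algebraMap K A (-b) := by
    have h0 : Polynomial.aeval v (minpoly K v) = 0 := minpoly.aeval K v
    rw [← hgf] at h0
    simp only [map_add, Polynomial.expand_X, Polynomial.expand_C, Polynomial.aeval_X_pow,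
      Polynomial.aeval_C] at h0
    rw [map_neg]
    exact eq_neg_of_add_eq_zero_left h0
  have hvK : ∀ r : K, algebraMap K A r ≠ v := by
    intro r hr
    have h1 : minpoly K v = Polynomial.X - Polynomial.C r := by
      rw [← hr]; exact minpoly.eq_X_sub_C_of_algebraMap_inj r (algebraMap K A).injective
    have h2 : (minpoly K v).natDegree = 1 := by rw [h1, Polynomial.natDegree_X_sub_C]
    rw [hdegp] at h2
    exact hp.one_lt.ne' h2
  -- the inner derivation of v
  let L : Module.End K A := LinearMap.mulLeft K v
  let R : Module.End K A := LinearMap.mulRight K v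
  let δ : Module.End K A := L - R
  have hδ : ∀ x, δ x = v * x - x * v := fun x => rfl
  haveI : CharP (Module.End K A) p :=
    charP_of_injective_algebraMap (algebraMap K (Module.End K A)).injective p
  have hLR : Commute L R := by
    rw [commute_iff_eq]
    ext x
    simp [L, R, mul_assoc]
  have hLp : ∀ (n : ℕ) (x : A), (L ^ n) x = v ^ n * x := by
    intro n
    induction n with
    | zero => intro x; simp
    | succ n ih =>
      intro x
      rw [pow_succ', Module.End.mul_apply, ih]
      show v * (v ^ n * x) = v ^ (n + 1) * x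
      rw [pow_succ', mul_assoc]
  have hRp : ∀ (n : ℕ) (x : A), (R ^ n) x = x * v ^ n := by
    intro n
    induction n with
    | zero => intro x; simp
    | succ n ih =>
      intro x
      rw [pow_succ', Module.End.mul_apply, ih]
      show x * v ^ n * v = x * v ^ (n + 1)
      rw [pow_succ, mul_assoc]
  have hδp : δ ^ p = 0 := by
    have h1 : δ ^ p = L ^ p - R ^ p := sub_pow_char_of_commute p hLR
    rw [h1]
    ext x
    rw [LinearMap.sub_apply, hLp, hRp, hvp, LinearMap.zero_apply, Algebra.commutes, sub_self]
  have hex : ∃ x, δ x ≠ 0 := by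
    by_contra hcon
    push_neg at hcon
    have hvc : v ∈ Subalgebra.center K A := Subalgebra.mem_center_iff.2 (fun y => by
      have h1 := hcon y
      rw [hδ, sub_eq_zero] at h1
      exact h1.symm)
    rw [Algebra.IsCentral.center_eq_bot K A] at hvc
    obtain ⟨r, hr⟩ := Algebra.mem_bot.1 hvc
    exact hvK r hr
  obtain ⟨x, hx⟩ := hex
  have hfind : ∃ n : ℕ, (δ ^ n) x = 0 := ⟨p, by rw [hδp]; rfl⟩
  have hn0 : Nat.find hfind ≠ 0 := by
    intro h0
    have h1 := Nat.find_spec hfind
    rw [h0, pow_zero] at h1
    have hx0 : x = 0 := h1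
    apply hx
    rw [hx0, map_zero]
  have hn1 : Nat.find hfind ≠ 1 := by
    intro h0
    have h1 := Nat.find_spec hfind
    rw [h0, pow_one] at h1
    exact hx h1
  obtain ⟨m, hm⟩ : ∃ m, Nat.find hfind = m + 2 := ⟨Nat.find hfind - 2, by omega⟩
  have hc1 : δ ((δ ^ m) x) ≠ 0 := by
    have h1 := Nat.find_min hfind (m := m + 1) (by omega)
    rwa [pow_succ', Module.End.mul_apply] at h1
  have hc2 : δ (δ ((δ ^ m) x)) = 0 := by
    have h1 := Nat.find_spec hfind
    rw [hm, pow_succ', Module.End.mul_apply, pow_succ', Module.End.mul_apply] at h1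
    exact h1
  have hcomm : Commute v (δ ((δ ^ m) x)) := by
    have h1 := hc2
    rw [hδ, sub_eq_zero] at h1
    exact h1
  have hcomm' : v * (δ ((δ ^ m) x))⁻¹ = (δ ((δ ^ m) x))⁻¹ * v := hcomm.inv_right₀.eq
  obtain ⟨u, hu⟩ : ∃ u : A, u = (δ ^ m) x * (δ ((δ ^ m) x))⁻¹ := ⟨_, rfl⟩
  have hvu : v * u - u * v = 1 := by
    rw [hu, mul_assoc ((δ ^ m) x), ← hcomm', ← mul_assoc, ← mul_assoc, ← sub_mul,
      ← hδ ((δ ^ m) x)]
    exact mul_inv_cancel₀ hc1
  have hpow : ∀ n : ℕ, v * u ^ (n + 1) - u ^ (n + 1) * v = ((n + 1 : ℕ) : A) * u ^ n := by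
    intro n
    induction n with
    | zero => simp [hvu]
    | succ n ih =>
      have e1 : v * u ^ (n + 1 + 1) - u ^ (n + 1 + 1) * v =
          (v * u ^ (n + 1) - u ^ (n + 1) * v) * u + u ^ (n + 1) * (v * u - u * v) := by
        rw [pow_succ u (n + 1)]
        generalize u ^ (n + 1) = z
        noncomm_ring
      rw [e1, ih, hvu, mul_one, mul_assoc, ← pow_succ, Nat.cast_succ (n + 1), add_mul, one_mul]
  have hup_comm : v * u ^ p = u ^ p * v := by
    obtain ⟨q, hq⟩ : ∃ q, p = q + 1 := ⟨p - 1, by have := hp.pos; omega⟩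
    have h1 := hpow q
    rw [← hq, CharP.cast_eq_zero A p, zero_mul, sub_eq_zero] at h1
    exact h1
  -- generation
  obtain ⟨B, hB⟩ : ∃ B : Subalgebra K A, B = Algebra.adjoin K {v, u} := ⟨_, rfl⟩
  have hvB : v ∈ B := by rw [hB]; exact Algebra.subset_adjoin (by simp)
  have huB : u ∈ B := by rw [hB]; exact Algebra.subset_adjoin (by simp)
  have hM₀B : M₀ ≤ B := by
    rw [hB]
    exact Algebra.adjoin_mono (Set.singleton_subset_iff.2 (Set.mem_insert _ _))
  haveI : FiniteDimensional K B :=
    Module.Finite.of_injective B.val.toLinearMap Subtype.val_injective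
  have hdvd : Module.finrank K B ∣ p ^ 2 := by
    letI dB : DivisionRing B := Groth.Agent.Lib.Lead.SubDivision.divisionRingSub B
    have htower : Module.finrank K B * Module.finrank B A = Module.finrank K A :=
      Module.finrank_mul_finrank K B A
    exact ⟨_, by rw [← hA, ← htower]⟩
  obtain ⟨i, hi, hfi⟩ := (Nat.dvd_prime_pow hp).1 hdvd
  have hBtop : B = ⊤ := by
    interval_cases i
    · exfalso
      rw [pow_zero] at hfi
      have h1 : B = ⊥ := Subalgebra.finrank_eq_one_iff.1 hfi
      rw [h1] at hvB
      obtain ⟨r, hr⟩ := Algebra.mem_bot.1 hvB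
      exact hvK r hr
    · exfalso
      rw [pow_one] at hfi
      have hle : Module.finrank K M₀ ≤ Module.finrank K B := by
        have h := Submodule.finrank_mono
          (show Subalgebra.toSubmodule M₀ ≤ Subalgebra.toSubmodule B from hM₀B)
        rwa [Subalgebra.finrank_toSubmodule, Subalgebra.finrank_toSubmodule] at h
      have h1 : Module.finrank K M₀ = Module.finrank K B :=
        le_antisymm hle (by rw [hfi, ← hdegp]; exact hM₀ge)
      have h2 : M₀ = B := by
        apply Subalgebra.toSubmodule_injective
        apply Submodule.eq_of_le_of_finrank_eq (fun x hx => hM₀B hx)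
        rw [Subalgebra.finrank_toSubmodule, Subalgebra.finrank_toSubmodule, h1]
      have h3 := hM₀comm v hvM₀ u (h2 ▸ huB)
      rw [h3, sub_self] at hvu
      exact zero_ne_one hvu
    · apply Subalgebra.toSubmodule_injective
      rw [Algebra.top_toSubmodule]
      apply Submodule.eq_top_of_finrank_eq
      rw [Subalgebra.finrank_toSubmodule, hfi, hA]
  have hupK : u ^ p ∈ (algebraMap K A).range := by
    have hcen : u ^ p ∈ Subalgebra.center K A := by
      rw [Subalgebra.mem_center_iff]
      intro d
      have hle : B ≤ Subalgebra.centralizer K ({u ^ p} : Set A) := by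
        rw [hB]
        apply Algebra.adjoin_le
        intro z hz
        rw [SetLike.mem_coe, Subalgebra.mem_centralizer_iff]
        intro g hg
        rw [Set.mem_singleton_iff] at hg
        rw [hg]
        rcases hz with rfl | hz
        · exact hup_comm.symm
        · rw [Set.mem_singleton_iff] at hz
          rw [hz, ← pow_succ, ← pow_succ']
      have hd : d ∈ Subalgebra.centralizer K ({u ^ p} : Set A) := by
        rw [hBtop] at hle
        exact hle Algebra.mem_top
      exact ((Subalgebra.mem_centralizer_iff K).1 hd (u ^ p) rfl).symm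
    rw [Algebra.IsCentral.center_eq_bot K A] at hcen
    obtain ⟨r, hr⟩ := Algebra.mem_bot.1 hcen
    exact ⟨r, hr⟩
  exact ⟨v, u, ⟨_, hvp.symm⟩, hupK, hvu, hB ▸ hBtop⟩

end Groth.Agent.S15169
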