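import Groth.Statements.S1517
import Mathlib.RingTheory.SimpleRing.Congr
import Mathlib.RingTheory.Ideal.Span

set_option autoImplicit false
universe u
open Brauer

namespace Groth.Agent.S1517

/-- Let A be a ring with no nontrivial two-sided ideals and M a nonzero right ideal, viewed as a right
A-module with endomorphism ring A'. Then every A'-linear endomorphism of M is right multiplication
by exactly one element of A; that is, the natural map from A to the bicommutant of M is a bijection. -/
theorem result (A : Type u) [Ring A] [IsSimpleRing A]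
    (M : Submodule Aᵐᵒᵖ A) (hM : M ≠ ⊥)
    (g : Module.End (Module.End Aᵐᵒᵖ M) M) :
    ∃! a : A, ∀ m : M, (g m : A) = (m : A) * a := by
  -- right ideal property
  have hmul : ∀ (m : A) (b : A), m ∈ M → m * b ∈ M := by
    intro m b hm
    have := M.smul_mem (MulOpposite.op b) hm
    simpa using this
  -- right multiplication as a map `M → M`
  let Rm : A → M → M := fun b m => ⟨(m : A) * b, hmul _ _ m.2⟩
  -- left multiplication endomorphisms
  let L : M → Module.End Aᵐᵒᵖ M := fun x =>
    { toFun := fun m => ⟨(x : A) * (m : A), hmul _ _ x.2⟩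
      map_add' := by intros; ext; simp [mul_add]
      map_smul' := by intro r m; ext; simp [mul_assoc] }
  have hL : ∀ x m : M, (g (Rm (m : A) x) : A) = (x : A) * (g m : A) := by
    intro x m
    have h1 := g.map_smul (L x) m
    have h2 := congrArg Subtype.val h1
    simpa [L, Rm] using h2
  -- the two-sided ideal generated by `M`
  let I : Ideal A := Ideal.span (M : Set A)
  have hI2 : I.IsTwoSided := ⟨fun {a} b ha => by
    induction ha using Submodule.span_induction with
    | mem x hx => exact Ideal.subset_span (hmul x b hx)
    | zero => simp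
    | add x y _ _ hx hy => rw [add_mul]; exact I.add_mem hx hy
    | smul r x _ hx => rw [smul_eq_mul, mul_assoc]; exact I.mul_mem_left r hx⟩
  have hI : I = ⊤ := by
    rcases (isSimpleRing_iff_isTwoSided_imp.mp ‹_›).2 I hI2 with h | h
    · exfalso
      apply hM
      rw [eq_bot_iff]
      intro x hx
      have : x ∈ I := Ideal.subset_span hx
      rw [h] at this
      simpa using this
    · exact h
  have h1 : (1 : A) ∈ I := by rw [hI]; trivial
  have key : ∀ b ∈ I, ∃ c : A, ∀ m : M, (g (Rm b m) : A) = (m : A) * c := by
    intro b hb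
    induction hb using Submodule.span_induction with
    | mem x hx => exact ⟨(g ⟨x, hx⟩ : A), fun m => hL m ⟨x, hx⟩⟩
    | zero =>
      refine ⟨0, fun m => ?_⟩
      have : Rm 0 m = 0 := by ext; simp [Rm]
      rw [this, map_zero]; simp
    | add x y _ _ hx hy =>
      obtain ⟨c1, h1⟩ := hx
      obtain ⟨c2, h2⟩ := hy
      refine ⟨c1 + c2, fun m => ?_⟩
      have : Rm (x + y) m = Rm x m + Rm y m := by ext; simp [Rm, mul_add]
      rw [this, map_add, Submodule.coe_add, h1 m, h2 m, mul_add]
    | smul r x _ hx =>
      obtain ⟨c, hc⟩ := hx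
      refine ⟨r * c, fun m => ?_⟩
      have : Rm (r • x) m = Rm x (Rm r m) := by ext; simp [Rm, mul_assoc]
      rw [this, hc (Rm r m)]
      simp [Rm, mul_assoc]
  obtain ⟨a, ha⟩ := key 1 h1
  refine ⟨a, fun m => ?_, ?_⟩
  · have : Rm 1 m = m := by ext; simp [Rm]
    rw [← ha m, this]
  · intro a' ha'
    have hz : ∀ b ∈ I, b * (a' - a) = 0 := by
      intro b hb
      induction hb using Submodule.span_induction with
      | mem x hx =>
        have e1 := ha' ⟨x, hx⟩
        have e2 := ha ⟨x, hx⟩
        have : Rm 1 ⟨x, hx⟩ = ⟨x, hx⟩ := by ext; simp [Rm]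
        rw [this] at e2
        rw [mul_sub, ← e1, ← e2, sub_self]
      | zero => simp
      | add x y _ _ hx hy => rw [add_mul, hx, hy, add_zero]
      | smul r x _ hx => rw [smul_eq_mul, mul_assoc, hx, mul_zero]
    have := hz 1 h1
    rw [one_mul, sub_eq_zero] at this
    exact this

end Groth.Agent.S1517
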