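-- S15170 (lead)
import Groth.Statements.S15170
import Mathlib
import Groth.Agent.Lib.Lead.Centralizer
import Groth.Agent.Lib.Lead.SubDivision

set_option autoImplicit false
set_option linter.style.haveILetI false
universe u v
open BddFin

namespace Groth.Agent.S15170

/-- (2) ⇒ (3): let K be a field with char K = p > 0 and A a central division K-algebra with dim_K A = p
^ 2. If v, u in A satisfy v ^ p ∈ K, u ^ p ∈ K and v * u - u * v = 1, then some Galois extension L
of K with [L : K] = p admits a K-algebra embedding into A (so A has a Galois subfield of degree p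
over K). -/
theorem result
    (K : Type u) [Field K] (p : ℕ) [Fact p.Prime] [CharP K p]
    (A : Type v) [DivisionRing A] [Algebra K A] [Algebra.IsCentral K A] [FiniteDimensional K A]
    (hA : Module.finrank K A = p ^ 2) (v u : A) (hv : v ^ p ∈ (algebraMap K A).range)
    (hu : u ^ p ∈ (algebraMap K A).range) (hvu : v * u - u * v = 1) :
    ∃ (L : Type v) (_ : Field L) (_ : Algebra K L), IsGalois K L ∧ Module.finrank K L = p ∧
      Nonempty (L →ₐ[K] A) := by
  classical
  have hp : p.Prime := Fact.out
  have hv0 : v ≠ 0 := by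
    rintro rfl
    simp at hvu
  set t : A := u * v with ht
  have hconj : v * t * v⁻¹ = t + 1 := by
    rw [ht, ← mul_assoc, mul_assoc (v * u) v v⁻¹, mul_inv_cancel₀ hv0, mul_one, ← hvu]
    abel
  let c : A ≃ₐ[K] A :=
    { toFun := fun x => v * x * v⁻¹
      invFun := fun x => v⁻¹ * x * v
      left_inv := fun x => by
        simp only [mul_assoc, inv_mul_cancel₀ hv0, mul_one, inv_mul_cancel_left₀ hv0]
      right_inv := fun x => by
        simp only [mul_assoc, mul_inv_cancel₀ hv0, mul_one, mul_inv_cancel_left₀ hv0]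
      map_mul' := fun x y => by
        simp only [mul_assoc, inv_mul_cancel_left₀ hv0]
      map_add' := fun x y => by rw [mul_add, add_mul]
      commutes' := fun r => by
        rw [← Algebra.commutes r v, mul_assoc, mul_inv_cancel₀ hv0, mul_one] }
  have hc : ∀ x, c x = v * x * v⁻¹ := fun x => rfl
  let M : Subalgebra K A := Algebra.adjoin K {t}
  have htM : t ∈ M := Algebra.self_mem_adjoin_singleton K t
  have hMcomm : ∀ x ∈ M, ∀ y ∈ M, x * y = y * x := by
    intro x hx y hy
    have hs : ∀ a ∈ ({t} : Set A), ∀ b ∈ ({t} : Set A), a * b = b * a := by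
      intro a ha b hb
      rw [Set.mem_singleton_iff] at ha hb
      rw [ha, hb]
    haveI := Algebra.isMulCommutative_adjoin K hs
    exact congrArg Subtype.val (mul_comm' (⟨x, hx⟩ : Algebra.adjoin K {t}) ⟨y, hy⟩)
  have hmap : M.map (c : A →ₐ[K] A) = M := by
    show (Algebra.adjoin K {t}).map (c : A →ₐ[K] A) = Algebra.adjoin K {t}
    rw [AlgHom.map_adjoin_singleton]
    have hct : (c : A →ₐ[K] A) t = t + 1 := by
      show c t = t + 1
      rw [hc, hconj]
    rw [hct]
    apply le_antisymm
    · exact Algebra.adjoin_le (Set.singleton_subset_iff.2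
        (Subalgebra.add_mem _ (Algebra.self_mem_adjoin_singleton K t) (Subalgebra.one_mem _)))
    · apply Algebra.adjoin_le
      rw [Set.singleton_subset_iff]
      have h : (t + 1) - 1 ∈ Algebra.adjoin K {t + 1} :=
        Subalgebra.sub_mem _ (Algebra.self_mem_adjoin_singleton K (t + 1)) (Subalgebra.one_mem _)
      simpa using h
  let σ : M ≃ₐ[K] M := (c.subalgebraMap M).trans (Subalgebra.equivOfEq _ _ hmap)
  have hσ : ∀ x : M, ((σ x : M) : A) = v * (x : A) * v⁻¹ := fun x => rfl
  haveI : FiniteDimensional K M :=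
    Module.Finite.of_injective M.val.toLinearMap Subtype.val_injective
  let algM : Algebra K M := inferInstance
  letI fM : Field M := Groth.Agent.Lib.Lead.SubDivision.fieldSub M hMcomm
  have hσ1 : σ ≠ 1 := by
    intro h
    have h1 := congrArg (fun τ : M ≃ₐ[K] M => ((τ ⟨t, htM⟩ : M) : A)) h
    simp only [hσ, AlgEquiv.one_apply] at h1
    rw [hconj] at h1
    exact one_ne_zero (α := A) (by simpa using h1)
  obtain ⟨a, ha⟩ := hv
  have ha0 : algebraMap K A a ≠ 0 := by rw [ha]; exact pow_ne_zero p hv0
  have hσpow : ∀ (n : ℕ) (x : M), (((σ ^ n) x : M) : A) = v ^ n * (x : A) * (v⁻¹) ^ n := by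
    intro n
    induction n with
    | zero => intro x; simp
    | succ n ih =>
      intro x
      rw [pow_succ', AlgEquiv.mul_apply, hσ, ih, pow_succ' v n, pow_succ (v⁻¹) n]
      simp only [mul_assoc]
  have hσp : σ ^ p = 1 := by
    apply AlgEquiv.ext
    intro x
    apply Subtype.ext
    rw [hσpow, AlgEquiv.one_apply, inv_pow, ← ha, Algebra.commutes a (x : A), mul_assoc,
      mul_inv_cancel₀ ha0, mul_one]
  have hord : orderOf σ = p := orderOf_eq_prime hσp hσ1
  have hle1 : p ≤ Nat.card (M ≃ₐ[K] M) := by
    have h := orderOf_dvd_natCard σ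
    rw [hord] at h
    exact Nat.le_of_dvd Nat.card_pos h
  have hle2 : Nat.card (M ≃ₐ[K] M) ≤ Module.finrank K M := by
    rw [Nat.card_eq_fintype_card]
    exact AlgEquiv.card_le
  haveI : IsSimpleRing M := Groth.Agent.Lib.Lead.SubDivision.isSimpleRing_subalgebra M
  have hmul := Groth.Agent.Lib.Lead.CSA.finrank_eq_mul_centralizer M
  have hMC : M ≤ Subalgebra.centralizer K (M : Set A) := fun x hx =>
    (Subalgebra.mem_centralizer_iff K).2 (fun y hy => hMcomm y hy x hx)
  have hle3 : Module.finrank K M ≤ Module.finrank K (Subalgebra.centralizer K (M : Set A)) := by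
    have h := Submodule.finrank_mono
      (show Subalgebra.toSubmodule M ≤ Subalgebra.toSubmodule
        (Subalgebra.centralizer K (M : Set A)) from hMC)
    rwa [Subalgebra.finrank_toSubmodule, Subalgebra.finrank_toSubmodule] at h
  have hle4 : Module.finrank K M ≤ p := by
    by_contra hlt
    push_neg at hlt
    have h := Nat.mul_lt_mul'' hlt (lt_of_lt_of_le hlt hle3)
    rw [← hmul, hA, sq] at h
    exact lt_irrefl _ h
  have hfin : Module.finrank K M = p := le_antisymm hle4 (hle1.trans hle2)
  have hcard : Nat.card (M ≃ₐ[K] M) = Module.finrank K M :=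
    le_antisymm hle2 (by rw [hfin]; exact hle1)
  exact ⟨M, fM, algM, IsGalois.of_card_aut_eq_finrank K M hcard, hfin, ⟨M.val⟩⟩

end Groth.Agent.S15170
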