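-- S15171 (lead)
import Groth.Statements.S15171
import Groth.Agent.Lib.Lead.Centralizer

set_option autoImplicit false
set_option linter.style.haveILetI false
universe u v w
open BddFin

namespace Groth.Agent.S15171

/-- (3) ⇒ (1): let K be a field with char K = p > 0 and A a central division K-algebra with dim_K A = p
^ 2. If some Galois extension L of K with [L : K] = p admits a K-algebra embedding into A, then some
element of A is not separable over K. -/
theorem result
    (K : Type u) [Field K] (p : ℕ) [Fact p.Prime] [CharP K p]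
    (A : Type v) [DivisionRing A] [Algebra K A] [Algebra.IsCentral K A] [FiniteDimensional K A]
    (hA : Module.finrank K A = p ^ 2) (L : Type w) [Field L] [Algebra K L] [IsGalois K L]
    (hL : Module.finrank K L = p) (ι : L →ₐ[K] A) :
    ∃ v : A, ¬ IsSeparable K v := by
  classical
  open Polynomial Groth.Agent.Lib.Lead in
  have hp : p.Prime := Fact.out
  haveI : FiniteDimensional K L := Module.finite_of_finrank_pos (by rw [hL]; exact hp.pos)
  have hcard : Nat.card (L ≃ₐ[K] L) = p := by rw [IsGalois.card_aut_eq_finrank, hL]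
  haveI : Finite (L ≃ₐ[K] L) := Nat.finite_of_card_ne_zero (by rw [hcard]; exact hp.ne_zero)
  haveI : Nontrivial (L ≃ₐ[K] L) :=
    Finite.one_lt_card_iff_nontrivial.1 (by rw [hcard]; exact hp.one_lt)
  obtain ⟨σ, hσ⟩ := exists_ne (1 : L ≃ₐ[K] L)
  obtain ⟨u, hu⟩ := Groth.Agent.Lib.Lead.CSA.skolem_noether (k := K)
    (ι.comp (σ : L →ₐ[K] L)) ι
  have hu' : ∀ l : L, ι (σ l) = (u : A) * ι l * ((u⁻¹ : Aˣ) : A) := fun l => hu l
  have hinj : Function.Injective ι := (ι : L →+* A).injective
  have hpow : ∀ (n : ℕ) (l : L),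
      ι ((σ ^ n) l) = ((u ^ n : Aˣ) : A) * ι l * (((u ^ n)⁻¹ : Aˣ) : A) := by
    intro n
    induction n with
    | zero => intro l; simp
    | succ n ih =>
      intro l
      rw [pow_succ', AlgEquiv.mul_apply, hu', ih, pow_succ' u n]
      simp only [mul_inv_rev, Units.val_mul, mul_assoc]
  have hσp : σ ^ p = 1 := by rw [← hcard]; exact pow_card_eq_one'
  have hcomm : ∀ l : L, ((u ^ p : Aˣ) : A) * ι l = ι l * ((u ^ p : Aˣ) : A) := by
    intro l
    have h := hpow p l
    rw [hσp, AlgEquiv.one_apply] at h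
    calc ((u ^ p : Aˣ) : A) * ι l
        = ((u ^ p : Aˣ) : A) * ι l * ((((u ^ p)⁻¹ : Aˣ) : A) * ((u ^ p : Aˣ) : A)) := by
          rw [Units.inv_mul, mul_one]
      _ = (((u ^ p : Aˣ) : A) * ι l * (((u ^ p)⁻¹ : Aˣ) : A)) * ((u ^ p : Aˣ) : A) := by
          simp only [mul_assoc]
      _ = ι l * ((u ^ p : Aˣ) : A) := by rw [← h]
  let B : Subalgebra K A := ι.range
  let eB : L ≃ₐ[K] B := AlgEquiv.ofInjective ι hinj
  haveI : IsSimpleRing B := IsSimpleRing.of_ringEquiv eB.toRingEquiv inferInstance
  have hB : Module.finrank K B = p := by rw [← LinearEquiv.finrank_eq eB.toLinearEquiv, hL]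
  have hmul := Groth.Agent.Lib.Lead.CSA.finrank_eq_mul_centralizer B
  have hC : Module.finrank K (Subalgebra.centralizer K (B : Set A)) = p := by
    rw [hA, hB, sq] at hmul
    exact (Nat.eq_of_mul_eq_mul_left hp.pos hmul).symm
  have hBC : B ≤ Subalgebra.centralizer K (B : Set A) := by
    intro x hx
    rw [Subalgebra.mem_centralizer_iff]
    intro y hy
    obtain ⟨l, rfl⟩ := (AlgHom.mem_range ι).1 hx
    obtain ⟨l', rfl⟩ := (AlgHom.mem_range ι).1 hy
    rw [← map_mul, ← map_mul, mul_comm]
  have hCB : Subalgebra.centralizer K (B : Set A) = B := by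
    symm
    apply Subalgebra.toSubmodule_injective
    apply Submodule.eq_of_le_of_finrank_eq (fun x hx => hBC hx)
    rw [Subalgebra.finrank_toSubmodule, Subalgebra.finrank_toSubmodule, hB, hC]
  have hup : ((u ^ p : Aˣ) : A) ∈ B := by
    rw [← hCB, Subalgebra.mem_centralizer_iff]
    intro y hy
    obtain ⟨l, rfl⟩ := (AlgHom.mem_range ι).1 hy
    exact (hcomm l).symm
  obtain ⟨l₀, hl₀⟩ := (AlgHom.mem_range ι).1 hup
  have hfix : σ l₀ = l₀ := by
    apply hinj
    have h3 : u * u ^ p * u⁻¹ = u ^ p := by rw [← pow_succ', pow_succ, mul_inv_cancel_right]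
    rw [hu', hl₀, ← Units.val_mul, ← Units.val_mul, h3]
  have hl₀K : l₀ ∈ Set.range (algebraMap K L) := by
    rw [IsGalois.mem_range_algebraMap_iff_fixed]
    intro τ
    have htop : Subgroup.zpowers σ = ⊤ := zpowers_eq_top_of_prime_card hcard hσ
    have hτ : τ ∈ Subgroup.zpowers σ := by rw [htop]; exact Subgroup.mem_top τ
    have hstab : Subgroup.zpowers σ ≤ MulAction.stabilizer (L ≃ₐ[K] L) l₀ := by
      rw [Subgroup.zpowers_le]
      exact hfix
    exact hstab hτ
  obtain ⟨c, hc⟩ := hl₀K
  have hupc : (u : A) ^ p = algebraMap K A c := by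
    rw [← Units.val_pow_eq_pow_val, ← hl₀, ← hc, AlgHom.commutes]
  have huK : ∀ r : K, algebraMap K A r ≠ (u : A) := by
    intro r hr
    apply hσ
    ext l
    apply hinj
    rw [AlgEquiv.one_apply]
    calc ι (σ l) = (u : A) * ι l * ((u⁻¹ : Aˣ) : A) := hu' l
      _ = ι l * (u : A) * ((u⁻¹ : Aˣ) : A) := by rw [← hr, Algebra.commutes]
      _ = ι l := by rw [mul_assoc, Units.mul_inv, mul_one]
  refine ⟨(u : A), ?_⟩
  intro hsep
  haveI : CharP A p := charP_of_injective_algebraMap (algebraMap K A).injective p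
  by_cases hroot : ∃ β : K, β ^ p = c
  · obtain ⟨β, hβ⟩ := hroot
    have hcm : Commute (u : A) (algebraMap K A β) := (Algebra.commutes β (u : A)).symm
    have h0 : ((u : A) - algebraMap K A β) ^ p = 0 := by
      rw [sub_pow_char_of_commute p hcm, hupc, ← map_pow, hβ, sub_self]
    have h1 : (u : A) - algebraMap K A β = 0 := (pow_eq_zero_iff hp.ne_zero).1 h0
    exact huK β (sub_eq_zero.1 h1).symm
  · push_neg at hroot
    have hirr : Irreducible (Polynomial.X ^ p - Polynomial.C c : Polynomial K) :=
      X_pow_sub_C_irreducible_of_prime hp hroot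
    have hmin : (Polynomial.X ^ p - Polynomial.C c : Polynomial K) = minpoly K (u : A) := by
      apply minpoly.eq_of_irreducible_of_monic hirr
      · simp [hupc]
      · exact Polynomial.monic_X_pow_sub_C c hp.ne_zero
    have hsep' : (Polynomial.X ^ p - Polynomial.C c : Polynomial K).Separable := by
      rw [hmin]; exact hsep
    rw [Polynomial.separable_def] at hsep'
    have hder : Polynomial.derivative (Polynomial.X ^ p - Polynomial.C c : Polynomial K) = 0 := by
      rw [Polynomial.derivative_sub, Polynomial.derivative_C, Polynomial.derivative_X_pow, sub_zero,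
        CharP.cast_eq_zero K p, Polynomial.C_0, zero_mul]
    rw [hder, isCoprime_zero_right] at hsep'
    exact hirr.not_isUnit hsep'

end Groth.Agent.S15171
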