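import Groth.Statements.S15172
-- import your own Groth.Agent.* helpers here
import Mathlib

set_option autoImplicit false
universe u v
open Polynomial
open BddFin

namespace Groth.Agent.S15172

/-- Let L be a field of characteristic p > 0 and s a finite subset of L containing 0 and closed under
addition (a finite additive subgroup). Then the polynomial f = ∏_{a ∈ s} (X - a) is additive: f (x +
y) = f x + f y for all x, y in any commutative L-algebra (equivalently, as an identity of
polynomials in two variables). -/
theorem result
    (L : Type u) [Field L] (p : ℕ) [Fact p.Prime] [CharP L p] (s : Finset L) (h0 : (0 : L) ∈ s)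
    (hadd : ∀ a ∈ s, ∀ b ∈ s, a + b ∈ s) (R : Type v) [CommRing R] [Algebra L R] (x y : R) :
    aeval (x + y) (∏ a ∈ s, (X - C a)) = aeval x (∏ a ∈ s, (X - C a)) + aeval y (∏ a ∈ s, (X - C a)) := by
  classical
  -- closure of `s` under subtraction
  have hnsmul : ∀ (n : ℕ), ∀ a ∈ s, n • a ∈ s := by
    intro n
    induction n with
    | zero => intro a _; rw [zero_smul]; exact h0
    | succ n ih => intro a ha; rw [succ_nsmul]; exact hadd _ (ih a ha) _ ha
  have hneg : ∀ a ∈ s, -a ∈ s := by
    intro a ha
    have h1 : (p - 1) • a + a = 0 := by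
      rw [← succ_nsmul, Nat.sub_add_cancel (Fact.out : p.Prime).one_le, nsmul_eq_mul,
        CharP.cast_eq_zero L p, zero_mul]
    rw [← eq_neg_of_add_eq_zero_left h1]
    exact hnsmul _ a ha
  have hsub : ∀ a ∈ s, ∀ b ∈ s, b - a ∈ s := by
    intro a ha b hb
    rw [sub_eq_add_neg]
    exact hadd b hb _ (hneg a ha)
  -- the universal identity over B = L[Y], in B[T]
  let f : L[X] := ∏ a ∈ s, (X - C a)
  let G : L[X][X] := ∏ a ∈ s, (X + C (X : L[X]) - C (C a)) - ∏ a ∈ s, (X - C (C a)) - C f
  have hG : G = 0 := by
    apply Polynomial.eq_zero_of_degree_lt_of_eval_finset_eq_zero (s.map ⟨C, C_injective⟩)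
    · -- degree bound
      rw [Finset.card_map]
      have hcard : 0 < s.card := Finset.card_pos.mpr ⟨0, h0⟩
      have hm1 : (∏ a ∈ s, (X + C (X : L[X]) - C (C a)) : L[X][X]).Monic := by
        apply monic_prod_of_monic
        intro a _
        have : (X + C (X : L[X]) - C (C a) : L[X][X]) = X + C ((X : L[X]) - C a) := by
          rw [C_sub]; ring
        rw [this]
        exact monic_X_add_C _
      have hm2 : (∏ a ∈ s, (X - C (C a)) : L[X][X]).Monic :=
        monic_prod_of_monic _ _ (fun a _ => monic_X_sub_C _)
      have hd1 : (∏ a ∈ s, (X + C (X : L[X]) - C (C a)) : L[X][X]).degree = s.card := by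
        rw [degree_eq_natDegree hm1.ne_zero, natDegree_prod_of_monic]
        · congr 1
          rw [Finset.card_eq_sum_ones]
          apply Finset.sum_congr rfl
          intro a _
          have : (X + C (X : L[X]) - C (C a) : L[X][X]) = X + C ((X : L[X]) - C a) := by
            rw [C_sub]; ring
          rw [this, natDegree_X_add_C]
        · intro a _
          have : (X + C (X : L[X]) - C (C a) : L[X][X]) = X + C ((X : L[X]) - C a) := by
            rw [C_sub]; ring
          rw [this]
          exact monic_X_add_C _
      have hd2 : (∏ a ∈ s, (X - C (C a)) : L[X][X]).degree = s.card := by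
        rw [degree_eq_natDegree hm2.ne_zero, natDegree_prod_of_monic _ _ (fun a _ => monic_X_sub_C _)]
        congr 1
        rw [Finset.card_eq_sum_ones]
        apply Finset.sum_congr rfl
        intro a _
        rw [natDegree_X_sub_C]
      have h1 : (∏ a ∈ s, (X + C (X : L[X]) - C (C a)) - ∏ a ∈ s, (X - C (C a)) : L[X][X]).degree <
          s.card := by
        have := degree_sub_lt (hd1.trans hd2.symm) hm1.ne_zero (hm1.leadingCoeff.trans hm2.leadingCoeff.symm)
        rwa [hd1] at this
      have h2 : (C f : L[X][X]).degree < s.card :=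
        lt_of_le_of_lt degree_C_le (by exact_mod_cast hcard)
      exact lt_of_le_of_lt (degree_sub_le _ _) (max_lt h1 h2)
    · -- vanishing at the points of s
      intro b hb
      obtain ⟨a, ha, rfl⟩ := Finset.mem_map.mp hb
      show eval (C a) G = 0
      simp only [G, eval_sub, eval_prod, eval_add, eval_X, eval_C]
      have hz : ∏ b ∈ s, ((C a : L[X]) - C b) = 0 :=
        Finset.prod_eq_zero ha (sub_self _)
      have hre : ∏ b ∈ s, ((C a : L[X]) + X - C b) = f := by
        show _ = ∏ b ∈ s, (X - C b)
        apply Finset.prod_nbij' (fun b => b - a) (fun b => b + a)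
        · intro b hb; exact hsub a ha b hb
        · intro b hb; exact hadd b hb a ha
        · intro b _; simp
        · intro b _; simp
        · intro b _
          rw [C_sub]; ring
      rw [hz, hre, sub_zero, sub_self]
  -- specialise
  let ψ : L[X] →ₐ[L] R := aeval y
  let φ : L[X][X] →ₐ[L] R := aevalTower ψ x
  have hφX : φ X = x := aevalTower_X ψ x
  have hφC : ∀ b : L[X], φ (C b) = ψ b := fun b => aevalTower_C ψ x b
  have hψX : ψ X = y := aeval_X y
  have hψC : ∀ a : L, ψ (C a) = algebraMap L R a := fun a => aeval_C y a
  have hev : ∀ z : R, aeval z (∏ a ∈ s, (X - C a)) = ∏ a ∈ s, (z - algebraMap L R a) := by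
    intro z
    rw [map_prod]
    apply Finset.prod_congr rfl
    intro a _
    rw [map_sub, aeval_X, aeval_C]
  have h := congrArg φ hG
  simp only [G, map_sub, map_prod, map_add, hφX, hφC, hψX, hψC, map_zero] at h
  rw [hev, hev, hev]
  have h3 : ψ f = ∏ a ∈ s, (y - algebraMap L R a) := hev y
  rw [h3] at h
  rw [sub_sub, sub_eq_zero] at h
  exact h

end Groth.Agent.S15172
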