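import Groth.Statements.S15173
import Mathlib

set_option autoImplicit false
universe u v
open Polynomial
open BddFin

namespace Groth.Agent.S15173

lemma relIndex_ker_comap {G G' : Type*} [Group G] [Group G'] (f : G →* G')
    (hf : Function.Surjective f) (T : Subgroup G') :
    f.ker.relIndex (T.comap f) = Nat.card T := by
  rw [← MonoidHom.comap_bot, Subgroup.relIndex_comap, Subgroup.map_comap_eq_self_of_surjective hf,
    Subgroup.relIndex_bot_left]

/-- Let K be a field of characteristic p > 0 such that K contains all roots of unity (for every n ≥ 1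
the polynomial X^n − 1 splits into linear factors over K), and A a finite-dimensional central
division algebra over K. If A contains an element w not in K with w ^ p in K, then the quotient of
the unit group of A by that of K has unbounded finite subgroups: for every N there is a subgroup H
of the units of A containing the units of K as a subgroup of finite index greater than N. (The
published statement assumes only that some element of A is inseparable over K and passes at once to
a purely inseparable subfield of degree p; this row assumes an element generating such a subfield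
directly, which is what the rest of the printed argument uses.) -/
theorem result
    (K : Type u) [Field K] (p : ℕ) [Fact p.Prime] [CharP K p] (hK : ∀ n : ℕ, 0 < n → (X ^ n - 1 : K[X]).Splits)
    (A : Type v) [DivisionRing A] [Algebra K A] [Algebra.IsCentral K A] [FiniteDimensional K A]
    (w : A) (hw : w ^ p ∈ (algebraMap K A).range) (hwK : w ∉ (algebraMap K A).range) (N : ℕ) :
    ∃ H : Subgroup Aˣ, (Units.map (algebraMap K A : K →* A)).range ≤ H ∧
      N < ((Units.map (algebraMap K A : K →* A)).range).relIndex H := by
  classical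
  have hp : p.Prime := Fact.out
  haveI : CharP A p := charP_of_injective_algebraMap (algebraMap K A).injective p
  obtain ⟨a, ha⟩ := RingHom.mem_range.mp hw
  -- linear independence of 1, w
  have hlin : ∀ α β : K, α • (1 : A) + β • w = 0 → α = 0 ∧ β = 0 := by
    intro α β h
    by_cases hβ : β = 0
    · subst hβ
      rw [zero_smul, add_zero] at h
      rcases smul_eq_zero.mp h with h | h
      · exact ⟨h, rfl⟩
      · exact absurd h one_ne_zero
    · exfalso
      apply hwK
      refine ⟨-(β⁻¹ * α), ?_⟩
      have h1 : β • w = -(α • (1 : A)) := eq_neg_of_add_eq_zero_right h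
      have h2 : w = β⁻¹ • (β • w) := by rw [smul_smul, inv_mul_cancel₀ hβ, one_smul]
      rw [h2, h1, Algebra.algebraMap_eq_smul_one, smul_neg, smul_smul, neg_smul]
  have hne : ∀ c : K, (1 : A) + c • w ≠ 0 := by
    intro c h
    have := hlin 1 c (by rwa [one_smul])
    exact one_ne_zero this.1
  -- K infinite
  have hKinf : Infinite K := by
    by_contra hfin
    rw [not_infinite_iff_finite] at hfin
    haveI : ExpChar K p := ExpChar.prime hp
    obtain ⟨b, hb⟩ := surjective_frobenius K p a
    apply hwK
    refine ⟨b, ?_⟩
    have h0 : (w - algebraMap K A b) ^ p = 0 := by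
      rw [sub_pow_char_of_commute p (Algebra.commute_algebraMap_right b w), ← ha, ← map_pow,
        ← frobenius_def, hb, sub_self]
    exact (sub_eq_zero.mp ((pow_eq_zero_iff hp.ne_zero).mp h0)).symm
  obtain ⟨S, hScard⟩ := Infinite.exists_subset_card_eq K (N + 1)
  -- the units
  let uu : K → Aˣ := fun c => Units.mk0 (1 + c • w) (hne c)
  have huu : ∀ c, ((uu c : Aˣ) : A) = 1 + c • w := fun c => rfl
  have hcomm : ∀ c d, uu c * uu d = uu d * uu c := by
    intro c d
    apply Units.ext
    rw [Units.val_mul, Units.val_mul, huu, huu]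
    have : Commute ((1 : A) + c • w) (1 + d • w) :=
      (Commute.one_left _).add_left
        (((Commute.one_right w).add_right ((Commute.refl w).smul_right d)).smul_left c)
    exact this.eq
  set Z : Subgroup Aˣ := (Units.map (algebraMap K A : K →* A)).range with hZ
  have hZmem : ∀ x : Aˣ, x ∈ Z ↔ ∃ k : K, algebraMap K A k = (x : A) := by
    intro x
    constructor
    · rintro ⟨k, rfl⟩
      exact ⟨(k : K), rfl⟩
    · rintro ⟨k, hk⟩
      have hk0 : k ≠ 0 := by
        rintro rfl
        rw [map_zero] at hk
        exact x.ne_zero hk.symm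
      exact ⟨Units.mk0 k hk0, Units.ext hk⟩
  haveI hZn : Z.Normal := by
    constructor
    intro z hz g
    obtain ⟨k, hk⟩ := (hZmem z).mp hz
    have : g * z * g⁻¹ = z := by
      apply Units.ext
      rw [Units.val_mul, Units.val_mul, ← hk, ← Algebra.commutes k (g : A), mul_assoc,
        Units.mul_inv, mul_one]
    rw [this]; exact hz
  let π : Aˣ →* Aˣ ⧸ Z := QuotientGroup.mk' Z
  have hπ : Function.Surjective π := QuotientGroup.mk'_surjective Z
  have hπ1 : ∀ x : Aˣ, π x = 1 ↔ x ∈ Z := fun x => QuotientGroup.eq_one_iff x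
  have hkerπ : π.ker = Z := QuotientGroup.ker_mk' Z
  have hpow : ∀ c, (uu c) ^ p ∈ Z := by
    intro c
    rw [hZmem]
    refine ⟨1 + c ^ p * a, ?_⟩
    rw [Units.val_pow_eq_pow_val, huu, add_pow_char_of_commute p (Commute.one_left _), one_pow,
      _root_.smul_pow, ← ha, Algebra.smul_def, map_add, map_one, map_mul]
  let gen : Set (Aˣ ⧸ Z) := (fun c => π (uu c)) '' (S : Set K)
  have hgencomm : ∀ x ∈ gen, ∀ y ∈ gen, x * y = y * x := by
    rintro _ ⟨c, -, rfl⟩ _ ⟨d, -, rfl⟩
    show π (uu c) * π (uu d) = π (uu d) * π (uu c)
    rw [← map_mul, ← map_mul, hcomm]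
  let T : Subgroup (Aˣ ⧸ Z) := Subgroup.closure gen
  have hTfg : Group.FG T :=
    (Group.fg_iff_subgroup_fg T).mpr ⟨S.image (fun c => π (uu c)), by rw [Finset.coe_image]⟩
  letI instT : CommGroup T := Subgroup.closureCommGroupOfComm hgencomm
  have hTp : ∀ g : Aˣ ⧸ Z, g ∈ T → g ^ p = 1 := by
    intro g hg
    refine Subgroup.closure_induction (p := fun x _ => x ^ p = 1) ?_ ?_ ?_ ?_ hg
    · rintro _ ⟨c, -, rfl⟩
      show (π (uu c)) ^ p = 1
      rw [← map_pow, hπ1]
      exact hpow c
    · exact one_pow _
    · intro x y hx hy hxp hyp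
      have hxy : x * y = y * x := by
        have := mul_comm (⟨x, hx⟩ : T) ⟨y, hy⟩
        exact Subtype.ext_iff.mp this
      rw [(show Commute x y from hxy).mul_pow, hxp, hyp, one_mul]
    · intro x _ hxp
      rw [inv_pow, hxp, inv_one]
  haveI hTfin : Finite T := by
    haveI : Group.FG T := hTfg
    refine CommGroup.finite_of_fg_isMulTorsion T (fun g => isOfFinOrder_iff_pow_eq_one.mpr
      ⟨p, hp.pos, ?_⟩)
    apply Subtype.ext
    exact hTp g.1 g.2
  have hinj : Function.Injective
      (fun c : S => (⟨π (uu c.1), Subgroup.subset_closure ⟨c.1, c.2, rfl⟩⟩ : T)) := by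
    intro c d hcd
    have h1 : π (uu c.1) = π (uu d.1) := Subtype.ext_iff.mp hcd
    have h2 : (uu c.1)⁻¹ * uu d.1 ∈ Z := QuotientGroup.eq.mp h1
    obtain ⟨k, hk⟩ := (hZmem _).mp h2
    have h3 : (uu d.1 : A) = (uu c.1 : A) * algebraMap K A k := by
      rw [hk, Units.val_mul, ← mul_assoc, Units.mul_inv, one_mul]
    rw [huu, huu] at h3
    have h4 : (1 - k) • (1 : A) + (d.1 - k * c.1) • w = 0 := by
      have hmul : (1 + c.1 • w) * algebraMap K A k = k • (1 : A) + (k * c.1) • w := by
        rw [← Algebra.commutes, ← Algebra.smul_def, smul_add, smul_smul]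
      rw [hmul] at h3
      rw [sub_smul, sub_smul, one_smul]
      have := sub_eq_zero.mpr h3
      rw [← this]; abel
    obtain ⟨h5, h6⟩ := hlin _ _ h4
    have hk1 : k = 1 := (sub_eq_zero.mp h5).symm
    have hdc : d.1 = c.1 := by
      rw [sub_eq_zero] at h6
      rw [h6, hk1, one_mul]
    exact Subtype.ext hdc.symm
  have hcard : N + 1 ≤ Nat.card T := by
    have := Nat.card_le_card_of_injective _ hinj
    rwa [Nat.card_eq_fintype_card, Fintype.card_coe, hScard] at this
  refine ⟨T.comap π, ?_, ?_⟩
  · intro z hz
    show π z ∈ T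
    rw [(hπ1 z).mpr hz]; exact one_mem _
  · have h1 : Z.relIndex (T.comap π) = Nat.card T := by
      have := relIndex_ker_comap π hπ T
      rwa [hkerπ] at this
    rw [h1]; omega

end Groth.Agent.S15173
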