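import Groth.Statements.S15177
import Groth.Agent.Lib.Helper19.Unip3

set_option autoImplicit false
universe u v
open BddFin

namespace Groth.Agent.S15177

/-- Let K be a field and Γ a unipotent linear algebraic group over K, given here by its coordinate Hopf
algebra A (a finitely generated, formally smooth commutative Hopf algebra over K all of whose
non-zero finite-dimensional comodules have a non-zero fixed vector). Then the group Γ(K) of K-points
(K-algebra maps A → K under convolution) has no non-trivial element of finite order coprime to the
characteristic of K: an element of finite order whose order is non-zero in K is the identity. -/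
theorem result
    (K : Type u) [Field K] (A : Type v) [CommRing A] [HopfAlgebra K A] [Algebra.FiniteType K A]
    [Algebra.FormallySmooth K A] (hU : HopfRep.IsUnipotent K A)
    (g : WithConv (A →ₐ[K] K)) (hg : IsOfFinOrder g) (hcop : ((orderOf g : ℕ) : K) ≠ 0) : g = 1 := by
  have hut := Groth.Agent.Lib.Helper19.Unip.utSpan_eq_top_of_isUnipotent hU
  have hpow : g ^ orderOf g = 1 := pow_orderOf_eq_one g
  apply Groth.Agent.Lib.Helper19.Unip.eq_of_evM_eq hut
  intro n M hM
  rw [Groth.Agent.Lib.Helper19.Unip.evM_one hM]
  apply Groth.Agent.Lib.Helper19.Unip.ut_eq_one_of_pow _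
    (Groth.Agent.Lib.Helper19.Unip.evM_lower g hM) (Groth.Agent.Lib.Helper19.Unip.evM_diag g hM)
    (orderOf g) hcop
  rw [← Groth.Agent.Lib.Helper19.Unip.evM_pow g hM, hpow, Groth.Agent.Lib.Helper19.Unip.evM_one hM]

end Groth.Agent.S15177
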