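import Groth.Statements.S15183
import Mathlib

set_option autoImplicit false
universe u v
open Polynomial
open BddFin

namespace Groth.Agent.S15183

theorem exists_primitiveRoot (K : Type u) [Field K]
    (hK : ∀ n : ℕ, 0 < n → (X ^ n - 1 : K[X]).Splits)
    (d : ℕ) (hd : 0 < d) (hdK : (d : K) ≠ 0) : ∃ ζ : K, IsPrimitiveRoot ζ d := by
  haveI : NeZero (d : K) := ⟨hdK⟩
  have h0 : (X ^ d - 1 : K[X]) ≠ 0 := by
    have := X_pow_sub_C_ne_zero hd (1 : K)
    simpa using this
  have hsp : (cyclotomic d K).Splits := (hK d hd).of_dvd h0 (cyclotomic.dvd_X_pow_sub_one d K)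
  obtain ⟨ζ, hζ⟩ := hsp.exists_eval_eq_zero (degree_cyclotomic_pos d K hd).ne'
  exact ⟨ζ, isRoot_cyclotomic_iff.mp hζ⟩

/-- Let K be a field such that K contains all roots of unity (for every n ≥ 1 the polynomial X^n − 1
splits into linear factors over K), and A a finite-dimensional central simple K-algebra which is not
a division algebra (some non-zero element is not a unit). Then the quotient of the unit group of A
by that of K has elements of every finite order invertible in K: for every d ≥ 1 with d ≠ 0 in K
there is a unit x of A with x ^ d in K and x ^ k not in K for 0 < k < d. (The published assertion is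
phrased for the automorphism group of the Severi–Brauer variety of A, which is isomorphic to the
units of A modulo those of K; this row is the algebra-side statement its proof establishes.) -/
theorem result
    (K : Type u) [Field K] (hK : ∀ n : ℕ, 0 < n → (X ^ n - 1 : K[X]).Splits)
    (A : Type v) [Ring A] [Algebra K A] [Algebra.IsCentral K A] [IsSimpleRing A] [FiniteDimensional K A]
    (hA : ∃ y : A, y ≠ 0 ∧ ¬ IsUnit y) (d : ℕ) (hd : 0 < d) (hdK : (d : K) ≠ 0) :
    ∃ x : A, IsUnit x ∧ x ^ d ∈ (algebraMap K A).range ∧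
      ∀ k : ℕ, 0 < k → k < d → x ^ k ∉ (algebraMap K A).range := by
  classical
  obtain ⟨ζ, hζ⟩ := exists_primitiveRoot K hK d hd hdK
  haveI : IsArtinianRing A := IsArtinianRing.of_finite K A
  obtain ⟨n, hn, D, _, _, _, ⟨e⟩⟩ := IsSimpleRing.exists_algEquiv_matrix_divisionRing_finite K A
  have hn2 : 2 ≤ n := by
    by_contra hlt
    have hn1 : n = 1 := by
      have := hn.out
      omega
    subst hn1
    obtain ⟨y, hy0, hyu⟩ := hA
    apply hyu
    have hM0 : e y ≠ 0 := fun h => hy0 ((map_eq_zero_iff e e.injective).1 h)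
    have h00 : e y 0 0 ≠ 0 := by
      intro h
      apply hM0
      ext i j
      rw [Subsingleton.elim i 0, Subsingleton.elim j 0, h]
      rfl
    have hu : IsUnit (e y) := by
      refine ⟨⟨e y, Matrix.of fun _ _ => (e y 0 0)⁻¹, ?_, ?_⟩, rfl⟩
      · ext i j
        rw [Subsingleton.elim i 0, Subsingleton.elim j 0]
        simp [Matrix.mul_apply, h00]
      · ext i j
        rw [Subsingleton.elim i 0, Subsingleton.elim j 0]
        simp [Matrix.mul_apply, h00]
    have := hu.map e.symm
    simpa using this
  let i0 : Fin n := ⟨0, by omega⟩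
  let i1 : Fin n := ⟨1, by omega⟩
  have h01 : i1 ≠ i0 := by simp [i0, i1, Fin.ext_iff]
  let v : Fin n → D := fun i => if i = i0 then algebraMap K D ζ else 1
  let w : Fin n → D := fun i => if i = i0 then algebraMap K D ζ⁻¹ else 1
  have hζ0 : ζ ≠ 0 := hζ.ne_zero hd.ne'
  have hvw : ∀ i, v i * w i = 1 := by
    intro i
    by_cases h : i = i0 <;> simp [v, w, h, ← map_mul, hζ0]
  have hwv : ∀ i, w i * v i = 1 := by
    intro i
    by_cases h : i = i0 <;> simp [v, w, h, ← map_mul, hζ0]
  have hpow : ∀ k : ℕ, (e.symm (Matrix.diagonal v)) ^ k =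
      e.symm (Matrix.diagonal fun i => (v i) ^ k) := by
    intro k
    rw [← map_pow, Matrix.diagonal_pow]
    rfl
  have hinj : Function.Injective (algebraMap K D) := (algebraMap K D).injective
  refine ⟨e.symm (Matrix.diagonal v), ?_, ?_, ?_⟩
  · apply IsUnit.map e.symm
    refine ⟨⟨Matrix.diagonal v, Matrix.diagonal w, ?_, ?_⟩, rfl⟩
    · rw [Matrix.diagonal_mul_diagonal]
      simp only [hvw]
      exact Matrix.diagonal_one
    · rw [Matrix.diagonal_mul_diagonal]
      simp only [hwv]
      exact Matrix.diagonal_one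
  · rw [hpow]
    have h1 : (fun i => (v i) ^ d) = fun _ => (1 : D) := by
      funext i
      by_cases h : i = i0
      · simp only [v, h, if_true]
        rw [← map_pow, hζ.pow_eq_one, map_one]
      · simp only [v, h, if_false, one_pow]
    rw [h1, Matrix.diagonal_one, map_one]
    exact ⟨1, map_one _⟩
  · intro k hk0 hkd hmem
    obtain ⟨c, hc⟩ := hmem
    rw [hpow] at hc
    have hc' : algebraMap K (Matrix (Fin n) (Fin n) D) c = Matrix.diagonal fun i => (v i) ^ k := by
      have := congrArg e hc
      rw [AlgEquiv.commutes, AlgEquiv.apply_symm_apply] at this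
      exact this
    have e1 := congrFun (congrFun hc' i1) i1
    have e0 := congrFun (congrFun hc' i0) i0
    rw [Matrix.algebraMap_matrix_apply, if_pos rfl, Matrix.diagonal_apply_eq] at e1 e0
    simp only [v, h01, if_false, one_pow] at e1
    simp only [v, if_true] at e0
    rw [e1, ← map_pow] at e0
    have hζk : ζ ^ k = 1 := hinj (by rw [← e0, map_one])
    have hdvd : d ∣ k := (hζ.pow_eq_one_iff_dvd k).1 hζk
    have := Nat.le_of_dvd hk0 hdvd
    omega

end Groth.Agent.S15183
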