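-- S15185 (lead)
import Groth.Statements.S15185
import Mathlib
import Groth.Agent.Lib.Lead.RootsUnityDiv

set_option autoImplicit false
set_option linter.style.haveILetI false
universe u v
open Polynomial
open BddFin

namespace Groth.Agent.S15185

/-- Let K be a field of characteristic p > 0 such that K contains all roots of unity (for every n ≥ 1
the polynomial X^n − 1 splits into linear factors over K), A a central division algebra of dimension
n ^ 2 over K, and write n = n' · p ^ m with n' prime to p; let N be the reduced norm of A. Consider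
the kernel of the homomorphism from the units of A modulo those of K to Kˣ/(Kˣ)^(p^m) induced by N.
Every element of finite order of that kernel has order dividing n': if x ≠ 0 in A has x ^ r in K for
some r ≥ 1 and N x is a (p ^ m)-th power of a non-zero element of K, then x ^ n' lies in K. -/
theorem result
    (K : Type u) [Field K] (p : ℕ) [Fact p.Prime] [CharP K p] (hK : ∀ n : ℕ, 0 < n → (X ^ n - 1 : K[X]).Splits)
    (A : Type v) [DivisionRing A] [Algebra K A] [Algebra.IsCentral K A] [FiniteDimensional K A]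
    (n n' m : ℕ) (hA : Module.finrank K A = n ^ 2) (hn : n = n' * p ^ m) (hn' : ¬ p ∣ n')
    (N : A →* K) (hN : CSAGal.IsRedNorm K A N)
    (x : A) (hx : x ≠ 0) (hxr : ∃ r : ℕ, 0 < r ∧ x ^ r ∈ (algebraMap K A).range)
    (hNx : ∃ b : K, b ≠ 0 ∧ N x = b ^ (p ^ m)) :
    x ^ n' ∈ (algebraMap K A).range := by
  classical
  have hp : p.Prime := Fact.out
  obtain ⟨d, a, hdpos, hdn, hmin, hxd⟩ :=
    Groth.Agent.Lib.Lead.RootsUnityDiv.minpoly_eq K hK A n hA x hx hxr
  obtain ⟨b, hb0, hNb⟩ := hNx
  obtain ⟨E, fE, aE, finE, ν, φ, hφ⟩ := hN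
  have ha0 : a ≠ 0 := by
    intro h
    rw [h, map_zero] at hxd
    exact hx ((pow_eq_zero_iff hdpos.ne').1 hxd.symm)
  -- ν = n
  have hν : ν = n := by
    have h1 : Module.finrank E (TensorProduct K E A) = Module.finrank K A :=
      Module.finrank_baseChange
    have h2 : Module.finrank E (TensorProduct K E A) =
        Module.finrank E (Matrix (Fin ν) (Fin ν) E) := LinearEquiv.finrank_eq φ.toLinearEquiv
    simp only [Module.finrank_matrix, Fintype.card_fin, Module.finrank_self, mul_one] at h2
    have h3 : ν * ν = n * n := by rw [← h2, h1, hA, sq]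
    exact Nat.mul_self_inj.1 h3
  -- key computation
  have h3 : TensorProduct.tmul K (1 : E) (algebraMap K A a) =
      (algebraMap K E a) • (1 : TensorProduct K E A) := by
    rw [Algebra.algebraMap_eq_smul_one, TensorProduct.tmul_smul, algebraMap_smul]
    rfl
  have hdet : algebraMap K E (N x) ^ d = algebraMap K E a ^ ν := by
    calc algebraMap K E (N x) ^ d = (Matrix.det (φ (TensorProduct.tmul K (1 : E) x))) ^ d := by
          rw [hφ x]
      _ = Matrix.det (φ (TensorProduct.tmul K (1 : E) (x ^ d))) := by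
          rw [← Matrix.det_pow, ← map_pow, Algebra.TensorProduct.tmul_pow, one_pow]
      _ = Matrix.det ((algebraMap K E a) • (1 : Matrix (Fin ν) (Fin ν) E)) := by
          rw [← hxd, h3, map_smul, map_one]
      _ = algebraMap K E a ^ ν := by
          rw [Matrix.det_smul, Matrix.det_one, Fintype.card_fin, mul_one]
  have hNK : N x ^ d = a ^ ν := by
    apply (algebraMap K E).injective
    rw [map_pow, map_pow]
    exact hdet
  have hkey : b ^ d = a ^ n' := by
    haveI : ExpChar K p := ExpChar.prime hp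
    apply iterateFrobenius_inj K p m
    rw [iterateFrobenius_def, iterateFrobenius_def]
    calc (b ^ d) ^ p ^ m = (b ^ p ^ m) ^ d := by rw [← pow_mul, ← pow_mul, mul_comm]
      _ = N x ^ d := by rw [hNb]
      _ = a ^ ν := hNK
      _ = (a ^ n') ^ p ^ m := by rw [hν, hn, pow_mul]
  haveI : CharP A p := charP_of_injective_algebraMap (algebraMap K A).injective p
  have hpd : ¬ p ∣ d := by
    rintro ⟨d₁, hd₁⟩
    have hd₁pos : 0 < d₁ := by
      rcases Nat.eq_zero_or_pos d₁ with h | h
      · rw [h, mul_zero] at hd₁; omega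
      · exact h
    have hcop : Nat.Coprime n' p := ((Nat.Prime.coprime_iff_not_dvd hp).2 hn').symm
    obtain ⟨u, -, hu⟩ := Nat.exists_mul_mod_eq_one_of_coprime hcop hp.one_lt
    have hnu : n' * u = p * (n' * u / p) + 1 := by
      have := Nat.div_add_mod (n' * u) p
      rw [hu] at this
      exact this.symm
    obtain ⟨v, hv⟩ : ∃ v : ℕ, v = n' * u / p := ⟨_, rfl⟩
    rw [← hv] at hnu
    have h4 : a * (a ^ v) ^ p = ((b ^ d₁) ^ u) ^ p := by
      calc a * (a ^ v) ^ p = a ^ (p * v + 1) := by rw [pow_succ, pow_mul', mul_comm]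
        _ = (a ^ n') ^ u := by rw [← hnu, pow_mul]
        _ = (b ^ d) ^ u := by rw [hkey]
        _ = ((b ^ d₁) ^ u) ^ p := by
            rw [hd₁, ← pow_mul, ← pow_mul, ← pow_mul]
            congr 1
            ring
    have hav : (a ^ v) ^ p ≠ 0 := pow_ne_zero _ (pow_ne_zero _ ha0)
    obtain ⟨α, hα⟩ : ∃ α : K, a = α ^ p :=
      ⟨(b ^ d₁) ^ u / a ^ v, by rw [div_pow]; exact eq_div_of_mul_eq hav h4⟩
    have h5 : (x ^ d₁ - algebraMap K A α) ^ p = 0 := by
      rw [sub_pow_char_of_commute p (Algebra.commute_algebraMap_right α (x ^ d₁)), ← pow_mul,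
        mul_comm d₁ p, ← hd₁, ← map_pow, ← hα, hxd, sub_self]
    have h6 : x ^ d₁ = algebraMap K A α := sub_eq_zero.1 ((pow_eq_zero_iff hp.ne_zero).1 h5)
    have h7 : minpoly K x ∣ X ^ d₁ - C α := by
      apply minpoly.dvd
      simp [h6]
    have h8 := Polynomial.natDegree_le_of_dvd h7 (X_pow_sub_C_ne_zero hd₁pos α)
    rw [hmin, natDegree_X_pow_sub_C, natDegree_X_pow_sub_C] at h8
    have h9 := Nat.mul_le_mul_right d₁ hp.two_le
    omega
  have hcopd : Nat.Coprime d (p ^ m) :=
    Nat.Coprime.pow_right m ((Nat.Prime.coprime_iff_not_dvd hp).2 hpd).symm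
  have hdn' : d ∣ n' := hcopd.dvd_of_dvd_mul_right (hn ▸ hdn)
  obtain ⟨e, he⟩ := hdn'
  refine RingHom.mem_range.2 ⟨a ^ e, ?_⟩
  rw [map_pow, hxd, ← pow_mul, ← he]

end Groth.Agent.S15185
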