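import Groth.Statements.S15218
-- import your own Groth.Agent.* helpers here
import Groth.Agent.Lib.Helper23.HilbPN

set_option autoImplicit false
open CategoryTheory CategoryTheory.Limits AlgebraicGeometry Polynomial
universe u
open ShStab

namespace Groth.Agent.S15218

/-- Let X be a scheme proper over a field k with an ample invertible sheaf L, all Hilbert polynomials
being taken with respect to L, and let d ≥ 1. For an O_X-module E the following are equivalent: (i)
E is stable of dimension d in the sense of Gieseker, i.e. coherent, nonzero, pure of dimension d,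
with reduced Hilbert polynomial p(F) < p(E) for every nonzero proper coherent submodule F; (ii) E is
ℓ-stable of dimension d for ℓ = d, i.e. coherent, nonzero, pure of dimension d, and p_d(F) < p_d(E)
for the reduced d-truncated Hilbert polynomials of every coherent submodule F whose multiplicity
satisfies 0 < α_d(F) < α_d(E). (The published remark is made for coherent sheaves on a connected
smooth projective variety with a very ample polarisation and records no argument; this row states
the equivalence for X proper over any field with L ample.) -/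
theorem result (k : Type u) [Field k] (X : Scheme.{u})
    [X.Over (Spec (CommRingCat.of k))] [IsProper (X ↘ Spec (CommRingCat.of k))]
    (L : X.Modules) (hL : CohB1.IsAmple L) (d : ℕ) (hd : 1 ≤ d) (E : X.Modules) :
    ShStab.IsStable k X L E d ↔ ShStab.IsEllStable k X L E d d := by
  classical
  haveI := Groth.Agent.Lib.Helper23.HilbP.isNoetherian_of_isProper k X
  constructor
  · rintro ⟨hE, h0, hp, hSS⟩
    refine ⟨hE, h0, hp, ?_⟩
    intro F ι hι hF pF pE hpF hpE haF hlt
    haveI := hι
    have hF0 : ¬ IsZero F := fun hz => by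
      have : pF = 0 := Groth.Agent.Lib.Helper23.HilbP.isHilbPoly_unique k hpF
        (Groth.Agent.Lib.Helper23.HilbP.isHilbPoly_zero k hz)
      rw [this, Groth.Agent.Lib.Helper23.HilbP.alpha_zero] at haF
      exact lt_irrefl _ haF
    have hiso : ¬ IsIso ι := fun hiso => by
      have : pF = pE := Groth.Agent.Lib.Helper23.HilbP.isHilbPoly_unique k
        (Groth.Agent.Lib.Helper23.HilbP.isHilbPoly_of_iso k (asIso ι) hpF) hpE
      rw [this] at hlt
      exact lt_irrefl _ hlt
    have h1 := hSS F ι hι hF hF0 hiso pF pE hpF hpE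
    have hdF := Groth.Agent.Lib.Helper23.HilbP.natDegree_le_of_pure k hL hp ι hF hF0 hpF
    have hdE := Groth.Agent.Lib.Helper23.HilbP.natDegree_le_of_pure k hL hp (𝟙 E) hE h0 hpE
    rw [Groth.Agent.Lib.Helper23.HilbP.topPart_self d pF hdF,
      Groth.Agent.Lib.Helper23.HilbP.topPart_self d pE hdE]
    exact h1
  · rintro ⟨hE, h0, hp, hEll⟩
    refine ⟨hE, h0, hp, ?_⟩
    intro F ι hι hF hF0 hiso pF pE hpF hpE
    haveI := hι
    have hdF := Groth.Agent.Lib.Helper23.HilbP.natDegree_le_of_pure k hL hp ι hF hF0 hpF
    have hdE := Groth.Agent.Lib.Helper23.HilbP.natDegree_le_of_pure k hL hp (𝟙 E) hE h0 hpE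
    have haF := Groth.Agent.Lib.Helper23.HilbP.alpha_pos_of_pure k hL hp ι hF hF0 hpF
    have hC : Coh.IsCoh (cokernel ι) := Groth.Agent.Lib.Helper17.DevBasic.isCoh_cokernel ι hF.1 hE
    have hpC := Groth.Agent.Lib.Helper23.HilbP.isHilbPoly_X₃ k hL.1 _
      (Groth.Agent.Lib.Helper17.DevKey.shortExact_of_mono ι) hF hE hC hpF hpE
    have hdimE : topologicalKrullDim (CohB1.support E) = (d : WithBot ℕ∞) :=
      hp E (𝟙 E) inferInstance hE h0
    have hdimC : topologicalKrullDim (CohB1.support (cokernel ι)) ≤ (d : WithBot ℕ∞) := by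
      rw [← hdimE]
      exact Groth.Agent.Lib.Helper23.HilbP.topologicalKrullDim_mono
        (Groth.Agent.Lib.Helper17.DevBasic.support_subset_of_epi (cokernel.π ι))
    have haC := Groth.Agent.Lib.Helper23.HilbP.alpha_nonneg_of_dim_le k hL _ hC hpC d hdimC
    rw [Groth.Agent.Lib.Helper23.HilbP.alpha_sub] at haC
    rcases (sub_nonneg.1 haC).lt_or_eq with hlt | heq
    · have := hEll F ι hι hF pF pE hpF hpE haF hlt
      rwa [Groth.Agent.Lib.Helper23.HilbP.topPart_self d pF hdF,
        Groth.Agent.Lib.Helper23.HilbP.topPart_self d pE hdE] at this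
    · have hC0 : ¬ IsZero (cokernel ι) := by
        intro hz
        haveI : Epi ι := Preadditive.epi_of_cokernel_zero (hz.eq_of_tgt _ _)
        exact hiso (isIso_of_mono_of_epi ι)
      obtain ⟨N, hN⟩ := Groth.Agent.Lib.Helper23.HilbP.eventually_pos k X hL _ hC hC0
      rw [Groth.Agent.Lib.Helper23.HilbP.redLT_iff]
      refine ⟨N, fun m hm => ?_⟩
      have h1 : (0 : ℚ) < (pE - pF).eval (m : ℚ) := by
        rw [← hpC m]; exact_mod_cast hN m hm
      rw [eval_sub] at h1
      rw [← heq]
      nlinarith

end Groth.Agent.S15218
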