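import Groth.Statements.S15222
-- import your own Groth.Agent.* helpers here
import Groth.Agent.Lib.Helper23.HilbPN

set_option autoImplicit false
open CategoryTheory CategoryTheory.Limits AlgebraicGeometry Polynomial
universe u
open ShStab

namespace Groth.Agent.S15222

/-- Let X be a scheme proper over a field k with an ample invertible sheaf L, all Hilbert polynomials
being taken with respect to L, and let 1 ≤ ℓ ≤ d. If an O_X-module E is semistable of dimension d in
the sense of Gieseker (coherent, nonzero, pure of dimension d, with reduced Hilbert polynomial p(F)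
≤ p(E) for every nonzero proper coherent submodule F), then E is ℓ-semistable of dimension d: for
every coherent submodule F whose multiplicity satisfies 0 < α_d(F) < α_d(E), the reduced ℓ-truncated
Hilbert polynomials (the coefficients α_{d-1}/α_d, …, α_{d-ℓ}/α_d, compared lexicographically)
satisfy p_ℓ(F) ≤ p_ℓ(E). (The published text records the case ℓ = d − 1, for sheaves on a connected
smooth projective variety with a very ample polarisation; this row states the implication for every
1 ≤ ℓ ≤ d, for X proper over any field with L ample.) -/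
theorem result (k : Type u) [Field k] (X : Scheme.{u})
    [X.Over (Spec (CommRingCat.of k))] [IsProper (X ↘ Spec (CommRingCat.of k))]
    (L : X.Modules) (hL : CohB1.IsAmple L) (d ℓ : ℕ) (hℓ : 1 ≤ ℓ) (hℓd : ℓ ≤ d) (E : X.Modules)
    (hE : ShStab.IsSemistable k X L E d) : ShStab.IsEllSemistable k X L E d ℓ := by
  classical
  haveI := Groth.Agent.Lib.Helper23.HilbP.isNoetherian_of_isProper k X
  obtain ⟨hEc, h0, hp, hSS⟩ := hE
  refine ⟨hEc, h0, hp, ?_⟩
  intro F ι hι hF pF pE hpF hpE haF hlt
  haveI := hι
  have hF0 : ¬ IsZero F := fun hz => by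
    have : pF = 0 := Groth.Agent.Lib.Helper23.HilbP.isHilbPoly_unique k hpF
      (Groth.Agent.Lib.Helper23.HilbP.isHilbPoly_zero k hz)
    rw [this, Groth.Agent.Lib.Helper23.HilbP.alpha_zero] at haF
    exact lt_irrefl _ haF
  have hiso : ¬ IsIso ι := fun hiso => by
    have : pF = pE := Groth.Agent.Lib.Helper23.HilbP.isHilbPoly_unique k
      (Groth.Agent.Lib.Helper23.HilbP.isHilbPoly_of_iso k (asIso ι) hpF) hpE
    rw [this] at hlt
    exact lt_irrefl _ hlt
  have h1 := hSS F ι hι hF hF0 hiso pF pE hpF hpE
  have hdF := Groth.Agent.Lib.Helper23.HilbP.natDegree_le_of_pure k hL hp ι hF hF0 hpF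
  have hdE := Groth.Agent.Lib.Helper23.HilbP.natDegree_le_of_pure k hL hp (𝟙 E) hEc h0 hpE
  obtain ⟨N, hN⟩ := (Groth.Agent.Lib.Helper23.HilbP.redLE_iff _ _ _).1 h1
  -- the difference polynomial
  have hDdeg : (StabCat.alpha d pF • pE - StabCat.alpha d pE • pF).natDegree ≤ d := by
    refine (natDegree_sub_le _ _).trans (max_le ?_ ?_)
    · exact (natDegree_smul_le _ _).trans hdE
    · exact (natDegree_smul_le _ _).trans hdF
  obtain ⟨N', hN'⟩ := Groth.Agent.Lib.Helper23.HilbP.topPart_eventually_nonneg ℓ d
    (StabCat.alpha d pF • pE - StabCat.alpha d pE • pF) hDdeg N (fun m hm => by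
      have := hN m hm
      simp only [eval_sub, eval_smul, smul_eq_mul]
      linarith)
  rw [Groth.Agent.Lib.Helper23.HilbP.redLE_iff]
  refine ⟨N', fun m hm => ?_⟩
  have := hN' m hm
  rw [Groth.Agent.Lib.Helper23.HilbP.topPart_sub, Groth.Agent.Lib.Helper23.HilbP.topPart_smul,
    Groth.Agent.Lib.Helper23.HilbP.topPart_smul] at this
  simp only [eval_sub, eval_smul, smul_eq_mul] at this
  rw [Groth.Agent.Lib.Helper23.HilbP.alpha_topPart, Groth.Agent.Lib.Helper23.HilbP.alpha_topPart]
  linarith

end Groth.Agent.S15222
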