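import Groth.Statements.S15224
-- import your own Groth.Agent.* helpers here
import Mathlib

set_option autoImplicit false
open Finset
open W4c2rk2extmaps

namespace Groth.Agent.S15224

/-- In a commutative ℚ-algebra R let y be an element and put c_k = y^k / k! for every k. Then for k ≥ 2,
Σ_{i=1}^{k-1} (-1)^(i-1) c_i c_(k-i) + (-1)^(k-1) c_k = c_k. (The published statement concerns the
Chern classes of a specific vector bundle on a Jacobian, which are of the form c_k = (4θ)^k / k!;
the printed argument establishes the identity for every sequence of this form in a commutative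
ℚ-algebra, which is the form stated here.) -/
theorem result (R : Type*) [CommRing R] [Algebra ℚ R] (y : R)
    (c : ℕ → R) (hc : ∀ k : ℕ, c k = ((Nat.factorial k : ℚ)⁻¹) • y ^ k)
    (k : ℕ) (hk : 2 ≤ k) :
    (∑ i ∈ Finset.Ico 1 k, (-1 : R) ^ (i - 1) * c i * c (k - i)) + (-1 : R) ^ (k - 1) * c k = c k := by
  have hk0 : k ≠ 0 := by omega
  -- rewrite everything in terms of binomial coefficients
  have key : ∀ i ∈ Finset.range (k + 1), c i * c (k - i) = ((Nat.choose k i : ℚ) * (Nat.factorial k : ℚ)⁻¹) • y ^ k := by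
    intro i hi
    have hik : i ≤ k := by
      have := Finset.mem_range.mp hi
      omega
    rw [hc i, hc (k - i)]
    rw [smul_mul_smul_comm, ← pow_add, Nat.add_sub_cancel' hik]
    congr 1
    have h1 : (Nat.choose k i : ℚ) = (Nat.factorial k : ℚ) / ((Nat.factorial i : ℚ) * (Nat.factorial (k - i) : ℚ)) :=
      Nat.cast_choose ℚ hik
    rw [h1]
    have hkf : (Nat.factorial k : ℚ) ≠ 0 := by exact_mod_cast Nat.factorial_ne_zero k
    have hif : (Nat.factorial i : ℚ) ≠ 0 := by exact_mod_cast Nat.factorial_ne_zero i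
    have hkif : (Nat.factorial (k - i) : ℚ) ≠ 0 := by exact_mod_cast Nat.factorial_ne_zero (k - i)
    field_simp
  have hc0 : c 0 = 1 := by
    rw [hc 0]; simp
  -- alternating sum of binomial coefficients
  have halt : ∑ i ∈ Finset.range (k + 1), ((-1 : ℚ) ^ i * (Nat.choose k i : ℚ)) = 0 := by
    have := Int.alternating_sum_range_choose_of_ne hk0
    have h2 : ((∑ i ∈ Finset.range (k + 1), ((-1 : ℤ) ^ i * (Nat.choose k i : ℤ)) : ℤ) : ℚ) = 0 := by
      rw [this]; simp
    push_cast at h2
    exact h2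
  -- the full alternating sum of c i * c (k - i) vanishes
  have hfull : ∑ i ∈ Finset.range (k + 1), (-1 : R) ^ i * (c i * c (k - i)) = 0 := by
    have : ∀ i ∈ Finset.range (k + 1), (-1 : R) ^ i * (c i * c (k - i)) =
        (((-1 : ℚ) ^ i * (Nat.choose k i : ℚ)) * (Nat.factorial k : ℚ)⁻¹) • y ^ k := by
      intro i hi
      rw [key i hi, mul_assoc ((-1 : ℚ) ^ i), mul_smul ((-1 : ℚ) ^ i), Algebra.smul_def ((-1 : ℚ) ^ i)]
      simp
    rw [Finset.sum_congr rfl this, ← Finset.sum_smul, ← Finset.sum_mul, halt]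
    simp
  -- split off i = 0 and i = k
  rw [Finset.range_eq_Ico] at hfull
  rw [Finset.sum_Ico_succ_top (Nat.zero_le k)] at hfull
  rw [Finset.sum_eq_sum_Ico_succ_bot (by omega : 0 < k)] at hfull
  simp only [pow_zero, one_mul, Nat.sub_zero, Nat.sub_self, hc0, mul_one, zero_add] at hfull
  have hneg : ∀ i ∈ Finset.Ico 1 k, (-1 : R) ^ (i - 1) * c i * c (k - i) = - ((-1 : R) ^ i * (c i * c (k - i))) := by
    intro i hi
    have hi1 : 1 ≤ i := (Finset.mem_Ico.mp hi).1
    obtain ⟨j, rfl⟩ : ∃ j, i = j + 1 := ⟨i - 1, by omega⟩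
    simp only [Nat.add_sub_cancel, pow_succ]
    ring
  rw [Finset.sum_congr rfl hneg, Finset.sum_neg_distrib]
  have hk1 : (-1 : R) ^ (k - 1) = - (-1 : R) ^ k := by
    obtain ⟨j, rfl⟩ : ∃ j, k = j + 1 := ⟨k - 1, by omega⟩
    simp only [Nat.add_sub_cancel, pow_succ]
    ring
  rw [hk1]
  linear_combination (-1 : R) * hfull

end Groth.Agent.S15224
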