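import Groth.Statements.S15229
-- import your own Groth.Agent.* helpers here
import Mathlib
import Groth.Agent.S15224

set_option autoImplicit false
open Finset
open W4c2rk2extmaps

namespace Groth.Agent.S15229

/-- In a commutative ℚ-algebra R let θ, η be elements and g a natural number, and put c_k = (4θ)^k / k!.
Suppose θ^(g+1) = 0 and that η satisfies the relation η^(g+1) = Σ_{i=1}^{g+1} (-1)^(i-1) c_i
η^(g+1-i). Then η^(g+k) θ^(g-k) = c_k η^g θ^(g-k) for every 1 ≤ k ≤ g. (The published statement
concerns the first Chern class η of the tautological line bundle on a projective bundle P(U) over a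
g-dimensional Jacobian, with c_k the Chern classes of U, which are (4θ)^k / k!; there θ^(g+1)
vanishes for dimension reasons and the displayed relation is the projective-bundle relation, and the
printed argument derives the identity from exactly these three inputs, which is the form stated
here.) -/
theorem result (R : Type*) [CommRing R] [Algebra ℚ R]
    (θ η : R) (g : ℕ) (c : ℕ → R) (hc : ∀ k : ℕ, c k = ((Nat.factorial k : ℚ)⁻¹) • ((4 : R) * θ) ^ k)
    (hθ : θ ^ (g + 1) = 0)
    (hrel : η ^ (g + 1) = ∑ i ∈ Finset.Ico 1 (g + 2), (-1 : R) ^ (i - 1) * c i * η ^ (g + 1 - i))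
    (k : ℕ) (hk1 : 1 ≤ k) (hkg : k ≤ g) :
    η ^ (g + k) * θ ^ (g - k) = c k * η ^ g * θ ^ (g - k) := by
  -- coefficients
  set a : ℕ → R := fun i => ((Nat.factorial i : ℚ)⁻¹) • (4 : R) ^ i with ha
  have hc' : ∀ i, c i = a i * θ ^ i := by
    intro i
    rw [hc i, ha, mul_pow, smul_mul_assoc]
  -- vanishing of high powers
  have hθ' : ∀ n, g + 1 ≤ n → θ ^ n = 0 := by
    intro n hn
    obtain ⟨m, rfl⟩ := Nat.exists_eq_add_of_le hn
    rw [pow_add, hθ, zero_mul]
  -- main claim by strong induction
  have main : ∀ k : ℕ, 1 ≤ k → k ≤ g → η ^ (g + k) * θ ^ (g - k) = c k * η ^ g * θ ^ (g - k) := by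
    intro k
    induction k using Nat.strong_induction_on with
    | _ k ih =>
      intro hk1 hkg
      have e1 : η ^ (g + k) = η ^ (k - 1) * η ^ (g + 1) := by
        rw [← pow_add]; congr 1; omega
      rw [e1, hrel, Finset.mul_sum, Finset.sum_mul]
      rw [← Finset.sum_Ico_consecutive _ (by omega : 1 ≤ k + 1) (by omega : k + 1 ≤ g + 2)]
      -- the tail vanishes
      have htail : ∑ i ∈ Finset.Ico (k + 1) (g + 2),
          η ^ (k - 1) * ((-1 : R) ^ (i - 1) * c i * η ^ (g + 1 - i)) * θ ^ (g - k) = 0 := by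
        apply Finset.sum_eq_zero
        intro i hi
        have hik : k + 1 ≤ i := (Finset.mem_Ico.mp hi).1
        have : c i * θ ^ (g - k) = 0 := by
          rw [hc' i, mul_assoc, ← pow_add, hθ' _ (by omega), mul_zero]
        calc η ^ (k - 1) * ((-1 : R) ^ (i - 1) * c i * η ^ (g + 1 - i)) * θ ^ (g - k)
            = η ^ (k - 1) * (-1 : R) ^ (i - 1) * η ^ (g + 1 - i) * (c i * θ ^ (g - k)) := by ring
          _ = 0 := by rw [this, mul_zero]
      rw [htail, add_zero, Finset.sum_Ico_succ_top hk1]
      -- the middle terms via the induction hypothesis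
      have hmid : ∀ i ∈ Finset.Ico 1 k,
          η ^ (k - 1) * ((-1 : R) ^ (i - 1) * c i * η ^ (g + 1 - i)) * θ ^ (g - k) =
            ((-1 : R) ^ (i - 1) * c i * c (k - i)) * η ^ g * θ ^ (g - k) := by
        intro i hi
        obtain ⟨hi1, hik⟩ := Finset.mem_Ico.mp hi
        have ihi := ih (k - i) (by omega) (by omega) (by omega)
        have e2 : η ^ (k - 1) * η ^ (g + 1 - i) = η ^ (g + (k - i)) := by
          rw [← pow_add]; congr 1; omega
        have e3 : θ ^ i * θ ^ (g - k) = θ ^ (g - (k - i)) := by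
          rw [← pow_add]; congr 1; omega
        calc η ^ (k - 1) * ((-1 : R) ^ (i - 1) * c i * η ^ (g + 1 - i)) * θ ^ (g - k)
            = (-1 : R) ^ (i - 1) * a i * ((η ^ (k - 1) * η ^ (g + 1 - i)) * (θ ^ i * θ ^ (g - k))) := by
              rw [hc' i]; ring
          _ = (-1 : R) ^ (i - 1) * a i * (c (k - i) * η ^ g * (θ ^ i * θ ^ (g - k))) := by
              rw [e2, e3, ihi]
          _ = ((-1 : R) ^ (i - 1) * c i * c (k - i)) * η ^ g * θ ^ (g - k) := by
              rw [hc' i]; ring
      rw [Finset.sum_congr rfl hmid]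
      have e4 : η ^ (k - 1) * η ^ (g + 1 - k) = η ^ g := by
        rw [← pow_add]; congr 1; omega
      have hlast : η ^ (k - 1) * ((-1 : R) ^ (k - 1) * c k * η ^ (g + 1 - k)) * θ ^ (g - k) =
          ((-1 : R) ^ (k - 1) * c k) * η ^ g * θ ^ (g - k) := by
        calc η ^ (k - 1) * ((-1 : R) ^ (k - 1) * c k * η ^ (g + 1 - k)) * θ ^ (g - k)
            = ((-1 : R) ^ (k - 1) * c k) * (η ^ (k - 1) * η ^ (g + 1 - k)) * θ ^ (g - k) := by ring
          _ = _ := by rw [e4]
      rw [hlast, ← Finset.sum_mul, ← Finset.sum_mul, ← add_mul, ← add_mul]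
      congr 2
      rcases Nat.lt_or_ge k 2 with h | h
      · have : k = 1 := by omega
        subst this
        simp
      · exact Groth.Agent.S15224.result R (4 * θ) c hc k h
  exact main k hk1 hkg

end Groth.Agent.S15229
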