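import Groth.Statements.S1523
-- import your own Groth.Agent.* helpers here
import Groth.Agent.Lib.Helper23.GenDiv2

set_option autoImplicit false
universe u
open CategoryTheory CategoryTheory.Limits AlgebraicGeometry
open Variety

namespace Groth.Agent.S1523

/-- On a proper curve over an algebraically closed field there is an invertible module whose H^0 is
one-dimensional and whose H^1 vanishes, and an invertible module whose H^0 and H^1 both vanish. -/
theorem result (k : Type u) [Field k] [IsAlgClosed k] (X : Scheme.{u}) [X.Over (Spec (CommRingCat.of k))]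
    [IsIntegral X] [IsProper (X ↘ (Spec (CommRingCat.of k)))] (hdim : topologicalKrullDim X = 1) :
    (∃ L : X.Modules, PicF.IsInvertible L ∧ Module.finrank k (Coh.HH X L 0) = 1 ∧ Subsingleton (Coh.HH X L 1)) ∧
    (∃ N : X.Modules, PicF.IsInvertible N ∧ Subsingleton (Coh.HH X N 0) ∧ Subsingleton (Coh.HH X N 1)) := by
  open Groth.Agent.Lib.Helper23.Curve Groth.Agent.Lib.Helper23.T2 in
  haveI := isNoetherian_of_isProper k X
  have h0 := Groth.Agent.Lib.Helper23.GenDiv.h0_one k X
  constructor
  · obtain ⟨M, hM, hdM, h1M⟩ :=
      Groth.Agent.Lib.Helper23.GenDiv.exists_invertible_deg_h1_zero'' k X hdim (Curv2.genus k X)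
        (by linarith)
    refine ⟨M, hM, ?_, h1M⟩
    have hrr := riemann_roch k hdim.le h0 hM
    have e1 : Module.finrank k (Coh.HH X M 1) = 0 := Module.finrank_zero_of_subsingleton
    rw [e1, hdM] at hrr
    push_cast at hrr
    have : (Module.finrank k (Coh.HH X M 0) : ℤ) = 1 := by linarith
    exact_mod_cast this
  · obtain ⟨M, hM, hdM, h1M⟩ :=
      Groth.Agent.Lib.Helper23.GenDiv.exists_invertible_deg_h1_zero'' k X hdim
        ((Curv2.genus k X : ℤ) - 1) le_rfl
    refine ⟨M, hM, ?_, h1M⟩
    have hrr := riemann_roch k hdim.le h0 hM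
    have e1 : Module.finrank k (Coh.HH X M 1) = 0 := Module.finrank_zero_of_subsingleton
    rw [e1, hdM] at hrr
    push_cast at hrr
    haveI : Module.Finite k (Coh.HH X M 0) := finite_HH k M (isCoh_of_isInvertible hM) 0
    have : Module.finrank k (Coh.HH X M 0) = 0 := by
      have : (Module.finrank k (Coh.HH X M 0) : ℤ) = 0 := by linarith
      exact_mod_cast this
    exact Module.finrank_zero_iff.mp this

end Groth.Agent.S1523
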