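import Groth.Statements.S15233
-- import your own Groth.Agent.* helpers here
import Mathlib

set_option autoImplicit false
universe u
open CategoryTheory CategoryTheory.Limits Opposite
open CohSite

namespace Groth.Agent.S15233

/-- Let C be a small category with a Grothendieck topology J, and let B be a class of objects forming a
prebasis: for every object V and every covering sieve S of V, the arrows of S whose domain lies in B
generate a covering sieve of V. If F is a presheaf of abelian groups on C such that F(U) = 0 for
every object U in B, then the sheafification of F is zero. -/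
theorem result {C : Type u} [SmallCategory C] (J : GrothendieckTopology C)
    (B : ObjectProperty C)
    (hB : ∀ (V : C) (S : Sieve V), S ∈ J V →
      Sieve.generate (fun (U : C) => {g : U ⟶ V | S.arrows g ∧ B U}) ∈ J V)
    (F : Cᵒᵖ ⥤ AddCommGrpCat.{u}) (hF : ∀ U : C, B U → IsZero (F.obj (op U))) :
    IsZero ((presheafToSheaf J AddCommGrpCat.{u}).obj F) := by
  -- every morphism from F to a sheaf vanishes
  have key : ∀ (G : Sheaf J AddCommGrpCat.{u}) (φ : F ⟶ G.obj), φ = 0 := by
    intro G φ
    ext V x
    have hsep := G.isSeparated (J := J)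
    apply hsep V.unop _ (hB V.unop ⊤ (J.top_mem _))
    intro Y f hf
    obtain ⟨U, h, g, ⟨-, hU⟩, rfl⟩ := hf
    have h0 : F.map g.op x = 0 := by
      have := hF U hU
      exact (AddCommGrpCat.isZero_iff_subsingleton.mp this).elim _ _  
    have hnat := congrArg (fun ψ => ψ x) (congrArg (fun ψ => ψ.hom) (φ.naturality g.op))
    simp only [op_comp, Functor.map_comp] at hnat ⊢
    have hnat' : (G.obj.map g.op).hom ((φ.app V).hom x) = 0 := by
      have : (φ.app (op U)).hom ((F.map g.op).hom x) = (G.obj.map g.op).hom ((φ.app V).hom x) := hnat
      rw [← this]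
      have h0' : (F.map g.op).hom x = 0 := h0
      rw [h0', map_zero]
    have e1 : (ConcreteCategory.hom (G.obj.map g.op ≫ G.obj.map h.op)) ((AddCommGrpCat.Hom.hom (φ.app V)) x)
        = (G.obj.map h.op).hom ((G.obj.map g.op).hom ((φ.app V).hom x)) := rfl
    rw [e1, hnat', map_zero]
    simp
  rw [IsZero.iff_id_eq_zero]
  apply ((sheafificationAdjunction J AddCommGrpCat.{u}).homEquiv F _).injective
  rw [key _ ((sheafificationAdjunction J AddCommGrpCat.{u}).homEquiv F _ (𝟙 _)),
    key _ ((sheafificationAdjunction J AddCommGrpCat.{u}).homEquiv F _ 0)]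

end Groth.Agent.S15233
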