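import Groth.Statements.S15235
-- import your own Groth.Agent.* helpers here
import Mathlib

set_option autoImplicit false
universe u
open CategoryTheory Opposite
open HomAlg3

namespace Groth.Agent.S15235

/-- transition map of a `ℕᵒᵖ`-indexed system of types -/
abbrev tr (F : ℕᵒᵖ ⥤ Type u) {a b : ℕ} (h : a ≤ b) : F.obj (op b) → F.obj (op a) :=
  F.map (homOfLE h).op

lemma tr_self (F : ℕᵒᵖ ⥤ Type u) (a : ℕ) (x : F.obj (op a)) : tr F (le_refl a) x = x := by
  have : (homOfLE (le_refl a)).op = 𝟙 (op a) := Subsingleton.elim _ _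
  simp [tr, this]

lemma tr_tr (F : ℕᵒᵖ ⥤ Type u) {a b c : ℕ} (h : a ≤ b) (h' : b ≤ c) (x : F.obj (op c)) :
    tr F h (tr F h' x) = tr F (h.trans h') x := by
  have : (homOfLE (h.trans h')).op = (homOfLE h').op ≫ (homOfLE h).op := Subsingleton.elim _ _
  simp [tr, this]

lemma map_eq_tr (F : ℕᵒᵖ ⥤ Type u) {i j : ℕᵒᵖ} (f : i ⟶ j) :
    ∃ h : j.unop ≤ i.unop, F.map f = tr F h := by
  refine ⟨leOfHom f.unop, ?_⟩
  have : f = (homOfLE (leOfHom f.unop)).op := Subsingleton.elim _ _
  conv_lhs => rw [this]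

lemma tr_surj (F : ℕᵒᵖ ⥤ Type u) (j₀ : ℕ)
    (hs : ∀ j : ℕ, j₀ ≤ j → Function.Surjective (tr F (Nat.le_succ j)))
    {a b : ℕ} (ha : j₀ ≤ a) (h : a ≤ b) : Function.Surjective (tr F h) := by
  induction b, h using Nat.le_induction with
  | base => intro x; exact ⟨x, tr_self F a x⟩
  | succ b hab ih =>
    intro x
    obtain ⟨y, hy⟩ := ih x
    obtain ⟨z, hz⟩ := hs b (ha.trans hab) y
    refine ⟨z, ?_⟩
    rw [← tr_tr F hab (Nat.le_succ b), hz, hy]

lemma tr_inj (F : ℕᵒᵖ ⥤ Type u) (j₀ : ℕ)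
    (hs : ∀ j : ℕ, j₀ ≤ j → Function.Injective (tr F (Nat.le_succ j)))
    {a b : ℕ} (ha : j₀ ≤ a) (h : a ≤ b) : Function.Injective (tr F h) := by
  induction b, h using Nat.le_induction with
  | base => intro x y hxy; rwa [tr_self, tr_self] at hxy
  | succ b hab ih =>
    intro x y hxy
    rw [← tr_tr F hab (Nat.le_succ b), ← tr_tr F hab (Nat.le_succ b)] at hxy
    exact hs b (ha.trans hab) (ih hxy)

/-- the recursively chosen lifts -/
noncomputable def lift (F : ℕᵒᵖ ⥤ Type u) (j₀ : ℕ)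
    (r : ∀ n : ℕ, F.obj (op n) → F.obj (op (n + 1))) (x : F.obj (op j₀)) :
    ∀ k : ℕ, F.obj (op (j₀ + k))
  | 0 => x
  | (k + 1) => r (j₀ + k) (lift F j₀ r x k)

lemma lift_compat (F : ℕᵒᵖ ⥤ Type u) (j₀ : ℕ)
    (r : ∀ n : ℕ, F.obj (op n) → F.obj (op (n + 1)))
    (hr : ∀ n : ℕ, j₀ ≤ n → ∀ y, tr F (Nat.le_succ n) (r n y) = y)
    (x : F.obj (op j₀)) {a b : ℕ} (h : a ≤ b) :
    tr F (Nat.add_le_add_left h j₀) (lift F j₀ r x b) = lift F j₀ r x a := by
  induction b, h using Nat.le_induction with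
  | base => exact tr_self F _ _
  | succ b hab ih =>
    rw [← tr_tr F (Nat.add_le_add_left hab j₀) (Nat.le_succ (j₀ + b))]
    have : tr F (Nat.le_succ (j₀ + b)) (lift F j₀ r x (b + 1)) = lift F j₀ r x b :=
      hr (j₀ + b) (Nat.le_add_right _ _) _
    rw [this, ih]

lemma eval_surj (F : ℕᵒᵖ ⥤ Type u) (j₀ : ℕ)
    (hs : ∀ j : ℕ, j₀ ≤ j → Function.Surjective (tr F (Nat.le_succ j)))
    (hne : ∀ n : ℕ, F.obj (op n) → F.obj (op (n + 1))) :
    Function.Surjective (fun s : F.sections => s.1 (op j₀)) := by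
  classical
  intro x
  let r : ∀ n : ℕ, F.obj (op n) → F.obj (op (n + 1)) := fun n =>
    if h : j₀ ≤ n then Function.surjInv (hs n h) else hne n
  have hr : ∀ n : ℕ, j₀ ≤ n → ∀ y, tr F (Nat.le_succ n) (r n y) = y := by
    intro n hn y
    simp only [r, dif_pos hn]
    exact Function.surjInv_eq (hs n hn) y
  refine ⟨⟨fun j => tr F (Nat.le_add_left j.unop j₀) (lift F j₀ r x j.unop), ?_⟩, ?_⟩
  · intro i j f
    obtain ⟨h, hf⟩ := map_eq_tr F f
    rw [hf]
    dsimp only
    rw [tr_tr, ← lift_compat F j₀ r hr x h, tr_tr]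
  · dsimp only
    have := lift_compat F j₀ r hr x (Nat.zero_le j₀)
    rw [← tr_tr F (le_refl j₀) (Nat.add_le_add_left (Nat.zero_le j₀) j₀), this]
    exact tr_self F _ _

/-- Let (G_j) be an inverse system of abelian groups indexed by the natural numbers, with transition
maps G_{j+1} → G_j, and let j₀ be a natural number such that the transition map G_{j+1} → G_j is
surjective for every j ≥ j₀. Then: (a) the system satisfies the Mittag-Leffler condition; (b) the
evaluation map from the inverse limit (realised as the set of compatible families) to G_{j₀} is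
surjective; (c) if in addition the transition maps G_{j+1} → G_j are injective for every j ≥ j₀,
that evaluation map is bijective. (The published statement indexes the system by the negative
integers and assumes j₀ ≥ 1; this row indexes it by the natural numbers and allows j₀ = 0, which
changes nothing.) -/
theorem result (G : ℕᵒᵖ ⥤ AddCommGrpCat.{u})
    (j₀ : ℕ) (hs : ∀ j : ℕ, j₀ ≤ j → Function.Surjective (G.map (homOfLE (Nat.le_succ j)).op).hom) :
    (G ⋙ forget AddCommGrpCat.{u}).IsMittagLeffler ∧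
      Function.Surjective (fun s : (G ⋙ forget AddCommGrpCat.{u}).sections => s.1 (op j₀)) ∧
      ((∀ j : ℕ, j₀ ≤ j → Function.Injective (G.map (homOfLE (Nat.le_succ j)).op).hom) →
        Function.Bijective (fun s : (G ⋙ forget AddCommGrpCat.{u}).sections => s.1 (op j₀))) := by
  set F := G ⋙ forget AddCommGrpCat.{u} with hF
  have hs' : ∀ j : ℕ, j₀ ≤ j → Function.Surjective (tr F (Nat.le_succ j)) := fun j hj => hs j hj
  refine ⟨?_, ?_, ?_⟩
  · -- Mittag-Leffler
    intro j
    refine ⟨op (max j.unop j₀), (homOfLE (le_max_left j.unop j₀)).op, ?_⟩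
    intro k g
    obtain ⟨hg, hgeq⟩ := map_eq_tr F g
    rw [hgeq]
    rcases le_total k.unop (max j.unop j₀) with hk | hk
    · -- f factors through g
      rintro _ ⟨x, rfl⟩
      refine ⟨tr F hk x, ?_⟩
      rw [tr_tr]
    · -- g factors through f and the extra map is surjective
      rintro _ ⟨x, rfl⟩
      obtain ⟨y, hy⟩ := tr_surj F j₀ hs' (le_max_right j.unop j₀) hk x
      refine ⟨y, ?_⟩
      rw [← hy]
      show _ = tr F _ (tr F hk y)
      rw [tr_tr]
  · exact eval_surj F j₀ hs' (fun n _ => (0 : G.obj (op (n + 1))))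
  · intro hi
    have hi' : ∀ j : ℕ, j₀ ≤ j → Function.Injective (tr F (Nat.le_succ j)) := fun j hj => hi j hj
    refine ⟨?_, eval_surj F j₀ hs' (fun n _ => (0 : G.obj (op (n + 1))))⟩
    intro s t hst
    apply Subtype.ext
    funext j
    dsimp only at hst
    rcases le_total j.unop j₀ with hj | hj
    · have h1 := s.2 (homOfLE hj).op
      have h2 := t.2 (homOfLE hj).op
      rw [← h1, ← h2, hst]
    · have h1 := s.2 (show op j.unop ⟶ op j₀ from (homOfLE hj).op)
      have h2 := t.2 (show op j.unop ⟶ op j₀ from (homOfLE hj).op)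
      have := tr_inj F j₀ hi' (le_refl j₀) hj
      apply this
      show F.map (homOfLE hj).op (s.1 (op j.unop)) = F.map (homOfLE hj).op (t.1 (op j.unop))
      rw [h1, h2, hst]

end Groth.Agent.S15235
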