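-- Statement S15237.
import Groth.Statements.S15237
import Mathlib
import Groth.Agent.Lib.Helper1.UncountNSS

set_option autoImplicit false
open CategoryTheory AlgebraicGeometry
universe u
open Variety

namespace Groth.Agent.S15237

/-- Let k be an uncountable field and X an irreducible k-scheme of finite type. Then the closed points
of X are not covered by countably many closed subsets of X different from X: for every sequence Z₀,
Z₁, … of closed subsets of X with Zₙ ≠ X for all n there is a closed point of X lying in no Zₙ. (The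
published statement is for an irreducible quasi-projective variety and says that the variety is not
a countable union of closed subsets different from it, a variety being read through its closed
points; with the generic point of the scheme that assertion would be immediate, so this row asks for
a closed point, and it assumes only finite type over k.) -/
theorem result (k : Type u) [Field k] [Uncountable k]
    (X : Scheme.{u}) (sX : X ⟶ Spec (CommRingCat.of k)) [IrreducibleSpace X]
    [LocallyOfFiniteType sX] [QuasiCompact sX]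
    (Z : ℕ → TopologicalSpace.Closeds X) (hZ : ∀ n, (Z n : Set X) ≠ Set.univ) :
    ∃ x : X, IsClosed ({x} : Set X) ∧ ∀ n, x ∉ Z n := by
  classical
  obtain ⟨x₀⟩ : Nonempty X := inferInstance
  obtain ⟨_, ⟨U, hU, rfl⟩, hx₀U, -⟩ :=
    X.isBasis_affineOpens.exists_subset_of_mem_open (Set.mem_univ x₀) isOpen_univ
  let φ : CommRingCat.of k ⟶ Γ(X, U) :=
    (Scheme.ΓSpecIso (CommRingCat.of k)).inv ≫ sX.appLE ⊤ U le_top
  have hφ : φ.hom.FiniteType := by
    have h1 := HasRingHomProperty.appLE (P := @LocallyOfFiniteType) sX inferInstance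
      ⟨⊤, isAffineOpen_top _⟩ ⟨U, hU⟩ le_top
    exact (RingHom.finiteType_respectsIso.cancel_left_isIso _ _).2 h1
  algebraize [φ.hom]
  have hdense : Dense (U : Set X) := U.isOpen.dense ⟨x₀, hx₀U⟩
  have hex : ∀ n, ∃ f : Γ(X, U), (∀ x ∈ X.basicOpen f, x ∉ Z n) ∧
      ((X.basicOpen f : X.Opens) : Set X).Nonempty := by
    intro n
    have hne : ((Z n : Set X)ᶜ).Nonempty := Set.nonempty_compl.2 (hZ n)
    obtain ⟨x, hxZ, hxU⟩ := hdense.inter_open_nonempty _ (Z n).isClosed.isOpen_compl hne
    let V : X.Opens := ⟨(Z n : Set X)ᶜ, (Z n).isClosed.isOpen_compl⟩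
    obtain ⟨f, hfV, hxf⟩ := hU.exists_basicOpen_le (V := V) ⟨x, hxZ⟩ hxU
    exact ⟨f, fun y hy => hfV hy, ⟨x, hxf⟩⟩
  choose f hfZ hfne using hex
  have hM : ∀ m ∈ Submonoid.closure (Set.range f),
      ((X.basicOpen m : X.Opens) : Set X).Nonempty := by
    intro m hm
    induction hm using Submonoid.closure_induction with
    | mem x hx => obtain ⟨n, rfl⟩ := hx; exact hfne n
    | one => rw [Scheme.basicOpen_of_isUnit _ isUnit_one]; exact ⟨x₀, hx₀U⟩
    | mul x y hx hy ihx ihy =>
      rw [Scheme.basicOpen_mul]
      exact nonempty_preirreducible_inter (X.basicOpen x).isOpen (X.basicOpen y).isOpen ihx ihy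
  have h0 : (0 : Γ(X, U)) ∉ Submonoid.closure (Set.range f) := by
    intro h
    have := hM 0 h
    rw [Scheme.basicOpen_zero] at this
    exact Set.not_nonempty_empty this
  obtain ⟨𝔪, h𝔪, hf𝔪⟩ :=
    Groth.Agent.Lib.Helper1.UncountNSS.exists_maximal_not_mem k Γ(X, U) f h0
  let p : Spec Γ(X, U) := ⟨𝔪, h𝔪.isPrime⟩
  refine ⟨hU.fromSpec p, ?_, fun n hn => ?_⟩
  · have : JacobsonSpace X := LocallyOfFiniteType.jacobsonSpace sX
    have hemb : Topology.IsOpenEmbedding hU.fromSpec := hU.fromSpec.isOpenEmbedding
    have h1 := hemb.preimage_closedPoints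
    have hp : p ∈ closedPoints (Spec Γ(X, U)) :=
      (PrimeSpectrum.isClosed_singleton_iff_isMaximal p).2 h𝔪
    rw [← h1] at hp
    exact hp
  · have h1 : hU.fromSpec p ∈ X.basicOpen (f n) := by
      have h2 := hU.fromSpec_preimage_basicOpen (f n)
      change p ∈ hU.fromSpec ⁻¹ᵁ X.basicOpen (f n)
      rw [h2]
      exact hf𝔪 n
    exact hfZ n _ h1 hn

end Groth.Agent.S15237
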