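-- Statement S15245.
import Groth.Statements.S15245
import Mathlib
import Groth.Agent.Lib.Helper1.WeylInv

set_option autoImplicit false
universe u
open CategoryTheory AlgebraicGeometry
open RedSub

namespace Groth.Agent.S15245

/-- Let Φ be a finite reduced root system (a reduced root pairing over ℤ on a finite index set) with a
base b, w an element of its Weyl group, given as the product of the reflections along a word l and
acting on the roots, and γ a positive root. Writing ℓ(u) for the number of positive roots a with
u(a) negative, one has ℓ(w) < ℓ(σ_γ w) if and only if w⁻¹(γ) is positive. (Here the length is taken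
as the number of inverted positive roots.) -/
theorem result {idx M N : Type}
    [AddCommGroup M] [AddCommGroup N] [Finite idx]
    (P : RootPairing idx ℤ M N) [P.IsReduced] (b : P.Base) (l : List idx) (c : idx)
    (hc : c ∈ RedSub.posRoots P b) :
    Set.ncard {a : idx | a ∈ RedSub.posRoots P b ∧ RedSub.wordPerm P l a ∈ RedSub.negRoots P b} <
        Set.ncard {a : idx | a ∈ RedSub.posRoots P b ∧
          (P.reflectionPerm c * RedSub.wordPerm P l) a ∈ RedSub.negRoots P b} ↔
      (RedSub.wordPerm P l)⁻¹ c ∈ RedSub.posRoots P b := by
  classical
  have hlin := Groth.Agent.Lib.Helper1.WeylInv.lin_wordPerm P l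
  constructor
  · intro hlt
    by_contra hnp
    -- w⁻¹ c is negative
    have hneg : -P.root ((RedSub.wordPerm P l)⁻¹ c) ∈
        AddSubmonoid.closure (P.root '' (b.support : Set idx)) := by
      rcases b.root_mem_or_neg_mem ((RedSub.wordPerm P l)⁻¹ c) with h | h
      · exact absurd h hnp
      · exact h
    have hlin' := Groth.Agent.Lib.Helper1.WeylInv.lin_reflection_mul P c hlin
    have hpos : (P.reflectionPerm c * RedSub.wordPerm P l)⁻¹ c ∈ RedSub.posRoots P b := by
      obtain ⟨W, hW⟩ := hlin
      have hW' : ∀ x, P.root ((RedSub.wordPerm P l)⁻¹ x) = W.symm (P.root x) := by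
        intro x
        rw [AddEquiv.eq_symm_apply, ← hW]
        simp
      change P.root ((P.reflectionPerm c * RedSub.wordPerm P l)⁻¹ c) ∈
        AddSubmonoid.closure (P.root '' (b.support : Set idx))
      rw [mul_inv_rev, Equiv.Perm.mul_apply, P.reflectionPerm_inv, hW',
        Groth.Agent.Lib.Helper1.WeylInv.root_refl, P.pairing_same]
      have : P.root c - (2 : ℤ) • P.root c = -P.root c := by rw [two_smul]; abel
      rw [this, map_neg, ← hW']
      exact hneg
    have key := Groth.Agent.Lib.Helper1.WeylInv.ncard_lt P b hlin' c hc hpos
    have e : P.reflectionPerm c * (P.reflectionPerm c * RedSub.wordPerm P l) =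
        RedSub.wordPerm P l := by
      rw [← mul_assoc, ← sq, P.reflectionPerm_sq, one_mul]
    rw [e] at key
    exact absurd hlt (not_lt.2 key.le)
  · intro h
    exact Groth.Agent.Lib.Helper1.WeylInv.ncard_lt P b hlin c hc h

end Groth.Agent.S15245
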