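import Groth.Statements.S15250
import Groth.Agent.Lib.Helper28.AlgSt.ChartOver
import Groth.Agent.Lib.Helper28.AlgSt.SpaceStack
import Groth.Agent.Lib.Helper10.AlgStDiagConv

set_option autoImplicit false
open CategoryTheory AlgebraicGeometry
universe u
open AlgSt

namespace Groth.Agent.S15250

/-- For algebraic stacks: let S be a scheme and f : 𝒳 → 𝒴 a 1-morphism of stacks in groupoids over the
category of schemes over S. If 𝒴 is an algebraic stack and for every scheme U over S and every
1-morphism g : U → 𝒴 the 2-fibre product U ×_𝒴 𝒳 is an algebraic stack, then 𝒳 is an algebraic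
stack. All stacks here are for the étale topology on schemes over S; an algebraic stack is a stack
in groupoids whose diagonal is representable by algebraic spaces and which has a smooth surjective
atlas from a scheme. (The published statement asks the fibre-product condition only for affine
schemes U and uses algebraic stacks whose diagonal is moreover separated and quasi-compact; this row
asks the condition for every scheme U over S and uses algebraic stacks with no condition on the
diagonal beyond representability by algebraic spaces.) -/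
theorem result {S : Scheme.{u}} {𝒳 𝒴 : AlgSt.Cat S}
    (h𝒳 : Stk.IsStack (QuotSh.J Scheme.etalePrecoverage S) 𝒳)
    (h𝒴 : AlgSt.IsAlgStack Scheme.etalePrecoverage 𝒴) (f : 𝒳 ⥤ᵇ 𝒴)
    (hf : ∀ (U : Over S) (g : FibCat.overCat U ⥤ᵇ 𝒴),
      AlgSt.IsAlgStack Scheme.etalePrecoverage (FibCat.fp g f)) :
    AlgSt.IsAlgStack Scheme.etalePrecoverage 𝒳 := by
  have hX := h𝒳.1
  have hY := h𝒴.isStack.1
  have hΔf : AlgSt.RepByAlgSp1 (FibCat.diag f) := by
    apply Groth.Agent.Lib.Helper28.AlgSt.Key.repByAlgSp1_of_with ⊤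
    rw [Groth.Agent.Lib.Helper10.AlgStRep.repByAlgSpWith_diag_iff_baseChange ⊤ hX hY f]
    intro T y
    apply Groth.Agent.Lib.Helper28.AlgSt.Key.repByAlgSpWith_top
    exact Groth.Agent.Lib.Helper28.AlgSt.FpStack.repByAlgSp1_diag_of_diag_toSelf
      (hf T y).isStack.1 (Groth.Agent.Lib.Helper10.Fib.isFibGrpd_overForget T) (hf T y).diag
      (Groth.Agent.Lib.Helper28.AlgSt.SpaceStack.isAlgStack_of_repByAlgSp
        (Groth.Agent.Lib.Helper28.AlgSt.DiagRep.repByAlgSp_overCat T)).diag _
  refine ⟨h𝒳, ?_, ?_⟩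
  · exact Groth.Agent.Lib.Helper28.AlgSt.FpStack.repByAlgSp1_diag_toSelf_of_diag hX hY h𝒴.diag f hΔf
  · obtain ⟨V, y, hy1, hy2⟩ := h𝒴.atlas
    obtain ⟨W, x, hx1, hx2⟩ := (hf V y).atlas
    have hO := Groth.Agent.Lib.Helper10.Fib.isFibGrpd_overForget W
    have hfp := (hf V y).isStack.1
    exact ⟨W, BasedFunctor.comp x (FibCat.fpSnd y f),
      Groth.Agent.Lib.Helper28.AlgSt.PropInst.repByAlgSpWith_comp_smooth hO hfp x _ hx1
        (Groth.Agent.Lib.Helper10.AlgStRep.repByAlgSpWith_fpSnd _ y f hy1),
      Groth.Agent.Lib.Helper28.AlgSt.PropInst.repByAlgSpWith_comp_surjective hO hfp x _ hx2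
        (Groth.Agent.Lib.Helper10.AlgStRep.repByAlgSpWith_fpSnd _ y f hy2)⟩

end Groth.Agent.S15250
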