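import Groth.Statements.S15251
import Groth.Agent.S15250
import Groth.Agent.Lib.Helper16.AlgSt.CancelCover

set_option autoImplicit false
open CategoryTheory AlgebraicGeometry
universe u
open AlgSt

namespace Groth.Agent.S15251

/-- Let S be a scheme and f : 𝒳 → 𝒴 a 1-morphism of stacks in groupoids over the category of schemes
over S. If 𝒴 is a Deligne–Mumford stack and for every scheme U over S and every 1-morphism g : U → 𝒴
the 2-fibre product U ×_𝒴 𝒳 is a Deligne–Mumford stack, then 𝒳 is a Deligne–Mumford stack. All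
stacks here are for the étale topology on schemes over S; an algebraic stack is a stack in groupoids
whose diagonal is representable by algebraic spaces and which has a smooth surjective atlas from a
scheme, and a Deligne–Mumford stack is an algebraic stack with an étale surjective atlas from a
scheme. (The published statement asks the fibre-product condition only for affine schemes U and uses
Deligne–Mumford stacks whose diagonal is moreover separated and quasi-compact; this row asks the
condition for every scheme U over S and uses Deligne–Mumford stacks with no condition on the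
diagonal beyond representability by algebraic spaces.) -/
theorem result {S : Scheme.{u}} {𝒳 𝒴 : AlgSt.Cat S}
    (h𝒳 : Stk.IsStack (QuotSh.J Scheme.etalePrecoverage S) 𝒳)
    (h𝒴 : AlgSt.IsDM Scheme.etalePrecoverage 𝒴) (f : 𝒳 ⥤ᵇ 𝒴)
    (hf : ∀ (U : Over S) (g : FibCat.overCat U ⥤ᵇ 𝒴),
      AlgSt.IsDM Scheme.etalePrecoverage (FibCat.fp g f)) :
    AlgSt.IsDM Scheme.etalePrecoverage 𝒳 := by
  have hX := h𝒳.1
  refine ⟨Groth.Agent.S15250.result h𝒳 h𝒴.1 f (fun U g => (hf U g).1), ?_⟩
  obtain ⟨V, y, hy1, hy2⟩ := h𝒴.2
  obtain ⟨W, x, hx1, hx2⟩ := (hf V y).2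
  have hO := Groth.Agent.Lib.Helper10.Fib.isFibGrpd_overForget W
  have hfp := (hf V y).1.isStack.1
  have hco : Groth.Agent.Lib.Helper28.AlgSt.PropInst.CO (S := S) AlgSp.IsEtaleMor := by
    intro X Y Z _ _ _ a b ha hb U φ hφ
    rw [← CategoryTheory.Category.assoc]
    exact hb _ (ha φ hφ)
  exact ⟨W, BasedFunctor.comp x (FibCat.fpSnd y f),
    Groth.Agent.Lib.Helper28.AlgSt.Comp.repByAlgSpWith_comp hO hfp _
      Groth.Agent.Lib.Helper16.AlgStDC.bc_isEtaleMor hco
      Groth.Agent.Lib.Helper16.AlgStDC.loc_isEtaleMor x _ hx1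
      (Groth.Agent.Lib.Helper10.AlgStRep.repByAlgSpWith_fpSnd _ y f hy1),
    Groth.Agent.Lib.Helper28.AlgSt.PropInst.repByAlgSpWith_comp_surjective hO hfp x _ hx2
      (Groth.Agent.Lib.Helper10.AlgStRep.repByAlgSpWith_fpSnd _ y f hy2)⟩

end Groth.Agent.S15251
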