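import Groth.Statements.S15252
import Groth.Agent.S14372
import Groth.Agent.Lib.Lead.LinForms

set_option autoImplicit false
open Fano

namespace Groth.Agent.S15252

open MvPolynomial Module Groth.Agent.Lib.Lead.LineP Groth.Agent.Lib.Lead.LinForms

noncomputable def μL (α β : ℂ) : (Fin 3 → ℂ) →ₗ[ℂ] ℂ :=
  LinearMap.proj 0 - α • LinearMap.proj 1 - β • LinearMap.proj 2

theorem μL_apply (α β : ℂ) (c : Fin 3 → ℂ) : μL α β c = c 0 - α * c 1 - β * c 2 := by
  simp [μL]


/-- Let X be a smooth cubic hypersurface in projective 4-space over ℂ and let L₁, L₂ be two distinct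
lines on X which meet. Then there is a finite set G of points of L₁ such that every line on X
meeting both L₁ and L₂ passes through a point of G. Here X is given by a cubic form f in five
variables satisfying the Jacobian smoothness condition at every nonzero zero, a line on X is a
2-dimensional subspace of ℂ^5 on which f vanishes, two lines meet when the subspaces intersect
non-trivially, and a point of L₁ is a 1-dimensional subspace of it. (The published statement also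
covers two disjoint lines; this row assumes that L₁ and L₂ meet.) -/
theorem result
    (f : MvPolynomial (Fin 5) ℂ) (hf : f.IsHomogeneous 3)
    (hsm : ∀ u : Fin 5 → ℂ, u ≠ 0 → MvPolynomial.eval u f = 0 →
      ∃ i : Fin 5, MvPolynomial.eval u (MvPolynomial.pderiv i f) ≠ 0)
    (L₁ L₂ : Submodule ℂ (Fin 5 → ℂ)) (h₁ : Module.finrank ℂ ↥L₁ = 2) (h₂ : Module.finrank ℂ ↥L₂ = 2)
    (hf₁ : ∀ u ∈ L₁, MvPolynomial.eval u f = 0) (hf₂ : ∀ u ∈ L₂, MvPolynomial.eval u f = 0)
    (hne : L₁ ≠ L₂) (hmeet : L₁ ⊓ L₂ ≠ ⊥) :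
    ∃ G : Set (Submodule ℂ (Fin 5 → ℂ)), G.Finite ∧ (∀ g ∈ G, Module.finrank ℂ ↥g = 1 ∧ g ≤ L₁) ∧
      ∀ L : Submodule ℂ (Fin 5 → ℂ), Module.finrank ℂ ↥L = 2 → (∀ u ∈ L, MvPolynomial.eval u f = 0) →
        L ⊓ L₁ ≠ ⊥ → L ⊓ L₂ ≠ ⊥ → ∃ g ∈ G, g ≤ L := by
  classical
  obtain ⟨e₀, he₀mem, he₀⟩ := Submodule.exists_mem_ne_zero_of_ne_bot hmeet
  have he₀1 : e₀ ∈ L₁ := (Submodule.mem_inf.mp he₀mem).1
  have he₀2 : e₀ ∈ L₂ := (Submodule.mem_inf.mp he₀mem).2
  have hex : ∀ L : Submodule ℂ (Fin 5 → ℂ), finrank ℂ ↥L = 2 → e₀ ∈ L →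
      ∃ e ∈ L, e ∉ Submodule.span ℂ {e₀} ∧ Submodule.span ℂ ({e₀, e} : Set (Fin 5 → ℂ)) = L := by
    intro L hL he
    have hle : Submodule.span ℂ {e₀} ≤ L := (Submodule.span_singleton_le_iff_mem _ _).mpr he
    have hne' : Submodule.span ℂ {e₀} ≠ L := by
      intro h
      have := finrank_span_singleton (K := ℂ) he₀
      rw [h] at this
      omega
    obtain ⟨e, heL, hen⟩ := SetLike.exists_of_lt (lt_of_le_of_ne hle hne')
    refine ⟨e, heL, hen, ?_⟩
    apply Submodule.eq_of_le_of_finrank_eq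
    · rw [Submodule.span_le]
      intro y hy
      rcases hy with rfl | hy
      · exact he
      · rw [Set.mem_singleton_iff] at hy
        rw [hy]
        exact heL
    · rw [finrank_span_pair he₀ hen, hL]
  obtain ⟨e₁, he₁L, he₁n, hspan₁⟩ := hex L₁ h₁ he₀1
  obtain ⟨e₂, he₂L, he₂n, hspan₂⟩ := hex L₂ h₂ he₀2
  -- the pulled back cubic
  let g : Fin 5 → MvPolynomial (Fin 3) ℂ :=
    fun i => C (e₀ i) * X 0 + C (e₁ i) * X 1 + C (e₂ i) * X 2
  have hg : ∀ i, (g i).IsHomogeneous 1 := fun i =>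
    ((isHomogeneous_C_mul_X _ _).add (isHomogeneous_C_mul_X _ _)).add (isHomogeneous_C_mul_X _ _)
  obtain ⟨F, hFdef⟩ : ∃ F : MvPolynomial (Fin 3) ℂ, F = aeval g f := ⟨_, rfl⟩
  have hFh : F.IsHomogeneous 3 := by
    have := hf.aeval g hg
    rw [one_mul] at this
    rw [hFdef]
    exact this
  have hFev : ∀ c : Fin 3 → ℂ, eval c F = eval (c 0 • e₀ + c 1 • e₁ + c 2 • e₂) f := by
    intro c
    have hfun : (fun i => eval c (g i)) = c 0 • e₀ + c 1 • e₁ + c 2 • e₂ := by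
      funext i
      simp only [g, map_add, map_mul, eval_C, eval_X, Pi.add_apply, Pi.smul_apply, smul_eq_mul]
      ring
    rw [hFdef, Groth.Agent.S14372.eval_aeval', hfun]
  -- the plane spanned by the two lines
  have hU3 : finrank ℂ ↥(L₁ ⊔ L₂) = 3 := by
    have h := Submodule.finrank_sup_add_finrank_inf_eq L₁ L₂
    have h0 : finrank ℂ ↥(L₁ ⊓ L₂) ≠ 0 := fun h0 => hmeet (Submodule.finrank_eq_zero.mp h0)
    have hle : finrank ℂ ↥(L₁ ⊓ L₂) ≤ 2 := by
      have := Submodule.finrank_mono (inf_le_left : L₁ ⊓ L₂ ≤ L₁)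
      omega
    have h2 : finrank ℂ ↥(L₁ ⊓ L₂) ≠ 2 := by
      intro h2
      have e1 : L₁ ⊓ L₂ = L₁ := Submodule.eq_of_le_of_finrank_eq inf_le_left (by rw [h2, h₁])
      have e2 : L₁ ⊓ L₂ = L₂ := Submodule.eq_of_le_of_finrank_eq inf_le_right (by rw [h2, h₂])
      exact hne (e1.symm.trans e2)
    omega
  have hUmem : ∀ u ∈ L₁ ⊔ L₂, ∃ c : Fin 3 → ℂ, u = c 0 • e₀ + c 1 • e₁ + c 2 • e₂ := by
    intro u hu
    obtain ⟨u₁, hu₁, u₂, hu₂, rfl⟩ := Submodule.mem_sup.mp hu
    rw [← hspan₁] at hu₁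
    rw [← hspan₂] at hu₂
    obtain ⟨a, b, rfl⟩ := Submodule.mem_span_pair.mp hu₁
    obtain ⟨a', b', rfl⟩ := Submodule.mem_span_pair.mp hu₂
    refine ⟨![a + a', b, b'], ?_⟩
    show a • e₀ + b • e₁ + (a' • e₀ + b' • e₂) = (a + a') • e₀ + b • e₁ + b' • e₂
    module
  -- the parameter set of residual lines
  obtain ⟨A, hAdef⟩ : ∃ A : Set (ℂ × ℂ), A = {ab : ℂ × ℂ | ∀ c : Fin 3 → ℂ,
      c 0 = ab.1 * c 1 + ab.2 * c 2 → eval c F = 0} := ⟨_, rfl⟩
  have hA : A.Subsingleton := by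
    intro ab hab ab' hab'
    rw [hAdef] at hab hab'
    by_contra hne'
    have hF0 : F = 0 := by
      refine cubic_eq_zero_of_four_lines F hFh
        (LinearMap.proj 2 : (Fin 3 → ℂ) →ₗ[ℂ] ℂ) (LinearMap.proj 1 : (Fin 3 → ℂ) →ₗ[ℂ] ℂ)
        (μL ab.1 ab.2) (μL ab'.1 ab'.2) ?_ ?_ ?_ ?_ ?_ ?_ ?_ ?_ ?_ ?_ ?_
      · intro h
        have h' := LinearMap.congr_fun h ![0, 0, 1]
        have h'' : (1 : ℂ) = 0 := h'
        exact one_ne_zero h''
      · refine ⟨![0, 1, 0], rfl, ?_⟩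
        show (1 : ℂ) ≠ 0
        exact one_ne_zero
      · refine ⟨![1, 0, 0], rfl, ?_⟩
        rw [μL_apply]
        show (1 : ℂ) - ab.1 * 0 - ab.2 * 0 ≠ 0
        norm_num
      · refine ⟨![1, 0, 0], rfl, ?_⟩
        rw [μL_apply]
        show (1 : ℂ) - ab'.1 * 0 - ab'.2 * 0 ≠ 0
        norm_num
      · refine ⟨![1, 0, 0], rfl, ?_⟩
        rw [μL_apply]
        show (1 : ℂ) - ab.1 * 0 - ab.2 * 0 ≠ 0
        norm_num
      · refine ⟨![1, 0, 0], rfl, ?_⟩
        rw [μL_apply]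
        show (1 : ℂ) - ab'.1 * 0 - ab'.2 * 0 ≠ 0
        norm_num
      · by_cases hα : ab.1 = ab'.1
        · have hβ : ab.2 ≠ ab'.2 := fun h => hne' (Prod.ext hα h)
          refine ⟨![ab.2, 0, 1], ?_, ?_⟩
          · rw [μL_apply]
            show ab.2 - ab.1 * 0 - ab.2 * 1 = 0
            ring
          · rw [μL_apply]
            show ab.2 - ab'.1 * 0 - ab'.2 * 1 ≠ 0
            intro h
            apply hβ
            linear_combination h
        · refine ⟨![ab.1, 1, 0], ?_, ?_⟩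
          · rw [μL_apply]
            show ab.1 - ab.1 * 1 - ab.2 * 0 = 0
            ring
          · rw [μL_apply]
            show ab.1 - ab'.1 * 1 - ab'.2 * 0 ≠ 0
            intro h
            apply hα
            linear_combination h
      · intro x hx
        have hx' : x 2 = 0 := hx
        rw [hFev, hx', zero_smul, add_zero]
        exact hf₁ _ (L₁.add_mem (L₁.smul_mem _ he₀1) (L₁.smul_mem _ he₁L))
      · intro x hx
        have hx' : x 1 = 0 := hx
        rw [hFev, hx', zero_smul, add_zero]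
        exact hf₂ _ (L₂.add_mem (L₂.smul_mem _ he₀2) (L₂.smul_mem _ he₂L))
      · intro x hx
        rw [μL_apply] at hx
        exact hab x (by linear_combination hx)
      · intro x hx
        rw [μL_apply] at hx
        exact hab' x (by linear_combination hx)
    have hUvan : ∀ u ∈ L₁ ⊔ L₂, eval u f = 0 := by
      intro u hu
      obtain ⟨c, rfl⟩ := hUmem u hu
      rw [← hFev, hF0, map_zero]
    have h6 := Groth.Agent.S14372.result ℂ 4 3 (by norm_num) f hf (L₁ ⊔ L₂) hUvan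
      (fun u hu hu0 => hsm u hu0 (hUvan u hu))
    rw [hU3] at h6
    omega
  refine ⟨insert (Submodule.span ℂ {e₀})
    ((fun ab : ℂ × ℂ => Submodule.span ℂ {ab.1 • e₀ + e₁}) '' A), (hA.finite.image _).insert _,
    ?_, ?_⟩
  · rintro g' (rfl | ⟨ab, _, rfl⟩)
    · exact ⟨finrank_span_singleton he₀, (Submodule.span_singleton_le_iff_mem _ _).mpr he₀1⟩
    · have hu : ab.1 • e₀ + e₁ ≠ 0 := by
        intro h
        apply he₁n
        have : e₁ = -(ab.1 • e₀) := eq_neg_of_add_eq_zero_right h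
        rw [this]
        exact Submodule.neg_mem _ (Submodule.smul_mem _ _ (Submodule.mem_span_singleton_self e₀))
      exact ⟨finrank_span_singleton hu, (Submodule.span_singleton_le_iff_mem _ _).mpr
        (L₁.add_mem (L₁.smul_mem _ he₀1) he₁L)⟩
  · intro L hL2 hLf hL1 hL2'
    by_cases he : e₀ ∈ L
    · exact ⟨Submodule.span ℂ {e₀}, Set.mem_insert _ _,
        (Submodule.span_singleton_le_iff_mem _ _).mpr he⟩
    · obtain ⟨a, ha, ha0⟩ := Submodule.exists_mem_ne_zero_of_ne_bot hL1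
      obtain ⟨b, hb, hb0⟩ := Submodule.exists_mem_ne_zero_of_ne_bot hL2'
      have haL : a ∈ L := (Submodule.mem_inf.mp ha).1
      have haL₁ : a ∈ L₁ := (Submodule.mem_inf.mp ha).2
      have hbL : b ∈ L := (Submodule.mem_inf.mp hb).1
      have hbL₂ : b ∈ L₂ := (Submodule.mem_inf.mp hb).2
      rw [← hspan₁] at haL₁
      rw [← hspan₂] at hbL₂
      obtain ⟨a₀, a₁, haeq⟩ := Submodule.mem_span_pair.mp haL₁
      obtain ⟨b₀, b₂, hbeq⟩ := Submodule.mem_span_pair.mp hbL₂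
      have key : ∀ (t₀ t₁ : ℂ) (e v : Fin 5 → ℂ), t₀ • e₀ + t₁ • e = v → v ∈ L → v ≠ 0 →
          (t₁⁻¹ * t₀) • e₀ + e ∈ L := by
        intro t₀ t₁ e v hv hvL hv0
        have ht₁ : t₁ ≠ 0 := by
          rintro rfl
          rw [zero_smul, add_zero] at hv
          have ht₀ : t₀ ≠ 0 := by
            rintro rfl
            rw [zero_smul] at hv
            exact hv0 hv.symm
          apply he
          have : e₀ = t₀⁻¹ • v := by
            rw [← hv, smul_smul, inv_mul_cancel₀ ht₀, one_smul]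
          rw [this]
          exact L.smul_mem _ hvL
        have h := L.smul_mem t₁⁻¹ hvL
        rwa [← hv, smul_add, smul_smul, smul_smul, inv_mul_cancel₀ ht₁, one_smul] at h
      have hu := key a₀ a₁ e₁ a haeq haL ha0
      have hv := key b₀ b₂ e₂ b hbeq hbL hb0
      have hmem : ((a₁⁻¹ * a₀, b₂⁻¹ * b₀) : ℂ × ℂ) ∈ A := by
        rw [hAdef]
        intro c hc
        rw [hFev]
        apply hLf
        have hc' : c 0 = (a₁⁻¹ * a₀) * c 1 + (b₂⁻¹ * b₀) * c 2 := hc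
        have : c 0 • e₀ + c 1 • e₁ + c 2 • e₂
            = c 1 • ((a₁⁻¹ * a₀) • e₀ + e₁) + c 2 • ((b₂⁻¹ * b₀) • e₀ + e₂) := by
          rw [hc']
          module
        rw [this]
        exact L.add_mem (L.smul_mem _ hu) (L.smul_mem _ hv)
      exact ⟨Submodule.span ℂ {(a₁⁻¹ * a₀) • e₀ + e₁},
        Set.mem_insert_of_mem _ ⟨(a₁⁻¹ * a₀, b₂⁻¹ * b₀), hmem, rfl⟩,
        (Submodule.span_singleton_le_iff_mem _ _).mpr hu⟩

end Groth.Agent.S15252
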