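import Groth.Statements.S1527
import Groth.Agent.Lib.Helper13.ZeroDimSupp
import Groth.Agent.Lib.Helper3.GlobGen
import Groth.Agent.Lib.Lead.ZeroDimPts

set_option autoImplicit false
universe u
open CategoryTheory CategoryTheory.Limits AlgebraicGeometry
open Variety

namespace Groth.Agent.S1527

/-- On a proper scheme over a field, a coherent module whose support has dimension at most zero is
globally generated (a quotient of a free module). -/
theorem result (k : Type u) [Field k] (X : Scheme.{u}) [X.Over (Spec (CommRingCat.of k))] [IsProper (X ↘ (Spec (CommRingCat.of k)))]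
    (F : X.Modules) (hF : Coh.IsCoh F) (hsupp : topologicalKrullDim (CohB1.support F) ≤ 0) :
    Curv2.IsGloballyGenerated F := by
  haveI : IsLocallyNoetherian X :=
    LocallyOfFiniteType.isLocallyNoetherian (X ↘ (Spec (CommRingCat.of k)))
  have hcl : IsClosed (CohB1.support F) := Groth.Agent.S0020.result X F hF.2
  have h0 : ∀ x ∈ CohB1.support F, IsClosed ({x} : Set X) := fun x hx =>
    Groth.Agent.Lib.Lead.ZeroDimPts.isClosed_singleton_of_dim_le_zero hcl hsupp hx
  haveI : F.IsQuasicoherent := hF.1
  refine Groth.Agent.Lib.Helper3.GlobGen.isGloballyGenerated_of_span F (I := Γ(F, ⊤))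
    (fun s => s) ?_
  intro x
  obtain ⟨_, ⟨U, hU, rfl⟩, hxU, -⟩ :=
    X.isBasis_affineOpens.exists_subset_of_mem_open (Set.mem_univ x) isOpen_univ
  refine ⟨U, hU, hxU, ?_⟩
  rw [eq_top_iff]
  intro s _
  have hsub : ∀ W : TopologicalSpace.Opens X, Disjoint (W : Set X) (CohB1.support F) →
      Subsingleton ((Coh.toAb F).1.obj (Opposite.op W)) := by
    intro W hW
    have : Subsingleton Γ(F, W) := by
      apply Groth.Agent.Lib.Helper3.QCOpen.subsingleton_sections_of_stalks
      intro x hx
      by_contra hn
      exact (Set.disjoint_left.mp hW) hx hn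
    exact this
  obtain ⟨t, ht⟩ := Groth.Agent.Lib.Helper13.ZeroDimSupp.exists_extension (Coh.toAb F)
    (CohB1.support F)
    (Groth.Agent.Lib.Helper13.ZeroDimSupp.isClosed_of_subset_support X F hF h0) hsub U s
  exact Submodule.subset_span ⟨t, ht⟩

end Groth.Agent.S1527
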