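import Groth.Statements.S15285
-- import your own Groth.Agent.* helpers here
import Mathlib

set_option autoImplicit false
universe v v' u u'
open PicCat

namespace Groth.Agent.S15285

section
open CategoryTheory MonoidalCategory

variable {C : Type u} [Category.{v} C]

/-- conjugating a bijection by isomorphisms gives a bijection -/
lemma bij_conj {A : Type*} {X Y X' Y' : C} (g : A → (X ⟶ Y)) (hg : Function.Bijective g)
    (a : X' ⟶ X) (b : Y ⟶ Y') [IsIso a] [IsIso b] :
    Function.Bijective (fun φ : A => a ≫ g φ ≫ b) := by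
  constructor
  · intro φ ψ h
    apply hg.1
    have h' : a ≫ g φ ≫ b = a ≫ g ψ ≫ b := h
    rw [cancel_epi, cancel_mono] at h'
    exact h'
  · intro y
    obtain ⟨φ, hφ⟩ := hg.2 (inv a ≫ y ≫ inv b)
    refine ⟨φ, ?_⟩
    show a ≫ g φ ≫ b = y
    rw [hφ]
    simp

/-- the map `End(𝟙) → End(X)`, `φ ↦ ρ⁻¹ ≫ X ◁ φ ≫ ρ` is bijective when `X ⊗ -` is an equivalence -/
lemma endMap_bijective [MonoidalCategory C] (X : C) (hX : (tensorLeft X).IsEquivalence) :
    Function.Bijective (fun φ : 𝟙_ C ⟶ 𝟙_ C => (ρ_ X).inv ≫ X ◁ φ ≫ (ρ_ X).hom) := by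
  have hbij : Function.Bijective (fun φ : 𝟙_ C ⟶ 𝟙_ C => X ◁ φ) := by
    constructor
    · intro φ ψ h
      exact (tensorLeft X).map_injective h
    · intro a
      obtain ⟨φ, hφ⟩ := (tensorLeft X).map_surjective a
      exact ⟨φ, hφ⟩
  exact bij_conj _ hbij _ _

end

open CategoryTheory MonoidalCategory in
/-- Let C and D be Picard categories (monoidal groupoids in which tensoring on either side with any
object is an equivalence of categories) and F : C ⥤ D a lax monoidal functor. If F induces a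
bijection on isomorphism classes of objects (it is essentially surjective, and F X ≅ F Y only when X
≅ Y) and a bijection on endomorphisms of the unit object, then F is an equivalence of categories. -/
theorem result
    {C : Type u} [Category.{v} C] [MonoidalCategory C] [IsGroupoid C]
    {D : Type u'} [Category.{v'} D] [MonoidalCategory D] [IsGroupoid D]
    (hC : ∀ X : C, (tensorLeft X).IsEquivalence ∧ (tensorRight X).IsEquivalence)
    (hD : ∀ X : D, (tensorLeft X).IsEquivalence ∧ (tensorRight X).IsEquivalence)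
    (F : C ⥤ D) [F.LaxMonoidal] [F.EssSurj]
    (h0 : ∀ X Y : C, Nonempty (F.obj X ≅ F.obj Y) → Nonempty (X ≅ Y))
    (h1 : Function.Bijective (fun φ : 𝟙_ C ⟶ 𝟙_ C => F.map φ)) :
    F.IsEquivalence := by
  -- F on End X is bijective
  have hEnd : ∀ X : C, Function.Bijective (fun a : X ⟶ X => F.map a) := by
    intro X
    have hc := endMap_bijective X (hC X).1
    have : IsIso (Functor.LaxMonoidal.μ F X (𝟙_ C)) := IsGroupoid.all_isIso _
    have e : ∀ φ : 𝟙_ C ⟶ 𝟙_ C, F.map ((ρ_ X).inv ≫ X ◁ φ ≫ (ρ_ X).hom) =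
        (F.map (ρ_ X).inv ≫ inv (Functor.LaxMonoidal.μ F X (𝟙_ C))) ≫ (F.obj X ◁ F.map φ) ≫
          (Functor.LaxMonoidal.μ F X (𝟙_ C) ≫ F.map (ρ_ X).hom) := by
      intro φ
      simp only [Functor.map_comp, Category.assoc]
      congr 1
      rw [IsIso.eq_inv_comp, ← Category.assoc, ← Category.assoc, Functor.LaxMonoidal.μ_natural_right]
    have hbij2 : Function.Bijective (fun ψ : F.obj (𝟙_ C) ⟶ F.obj (𝟙_ C) => F.obj X ◁ ψ) := by
      constructor
      · intro φ ψ h
        have := (hD (F.obj X)).1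
        exact (tensorLeft (F.obj X)).map_injective h
      · intro a
        have := (hD (F.obj X)).1
        obtain ⟨φ, hφ⟩ := (tensorLeft (F.obj X)).map_surjective a
        exact ⟨φ, hφ⟩
    have hcomp : Function.Bijective (fun φ : 𝟙_ C ⟶ 𝟙_ C => F.map ((ρ_ X).inv ≫ X ◁ φ ≫ (ρ_ X).hom)) := by
      have := bij_conj (fun φ : 𝟙_ C ⟶ 𝟙_ C => F.obj X ◁ F.map φ) (hbij2.comp h1)
        (F.map (ρ_ X).inv ≫ inv (Functor.LaxMonoidal.μ F X (𝟙_ C)))
        (Functor.LaxMonoidal.μ F X (𝟙_ C) ≫ F.map (ρ_ X).hom)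
      convert this using 2
      exact e _
    exact (Function.Bijective.of_comp_iff (fun a : X ⟶ X => F.map a) hc).mp hcomp
  have hfaithful : F.Faithful := by
    constructor
    intro X Y f g hfg
    have : IsIso g := IsGroupoid.all_isIso _
    have h1' : F.map (f ≫ inv g) = F.map (𝟙 X) := by
      rw [Functor.map_comp, hfg, ← Functor.map_comp]; simp
    have := (hEnd X).1 h1'
    rw [← cancel_mono (inv g), this]; simp
  have hfull : F.Full := by
    constructor
    intro X Y h
    have : IsIso h := IsGroupoid.all_isIso _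
    obtain ⟨e⟩ := h0 X Y ⟨asIso h⟩
    obtain ⟨a, ha⟩ := (hEnd X).2 (h ≫ inv (F.map e.hom))
    refine ⟨a ≫ e.hom, ?_⟩
    have ha' : F.map a = h ≫ inv (F.map e.hom) := ha
    rw [Functor.map_comp, ha']; simp
  exact { faithful := hfaithful, full := hfull, essSurj := inferInstance }

end Groth.Agent.S15285
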