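import Groth.Statements.S1529
import Mathlib.AlgebraicGeometry.Artinian
import Mathlib.AlgebraicGeometry.Morphisms.QuasiFinite

set_option autoImplicit false
universe u
open CategoryTheory CategoryTheory.Limits AlgebraicGeometry
open Variety

namespace Groth.Agent.S1529

/-- A scheme of finite type over a field whose underlying topological space has Krull dimension at most
zero is affine, and its structure morphism is finite. -/
theorem result (k : Type u) [Field k] (X : Scheme.{u}) [X.Over (Spec (CommRingCat.of k))]
    [LocallyOfFiniteType (X ↘ (Spec (CommRingCat.of k)))] [QuasiCompact (X ↘ (Spec (CommRingCat.of k)))]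
    (hdim : topologicalKrullDim X ≤ 0) :
    IsAffine X ∧ IsFinite (X ↘ (Spec (CommRingCat.of k))) := by
  have hN : IsLocallyNoetherian X :=
    LocallyOfFiniteType.isLocallyNoetherian (X ↘ (Spec (CommRingCat.of k)))
  have hA : IsLocallyArtinian X := IsLocallyArtinian.of_topologicalKrullDim_le_zero hdim
  have hC : CompactSpace X := QuasiCompact.compactSpace_of_compactSpace (X ↘ (Spec (CommRingCat.of k)))
  have hAS : IsArtinianScheme X := { }
  have hfin : Finite X := inferInstance
  have hqf : LocallyQuasiFinite (X ↘ (Spec (CommRingCat.of k))) :=
    LocallyQuasiFinite.of_finite_preimage_singleton _ fun _ => Set.toFinite _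
  have hF : IsFinite (X ↘ (Spec (CommRingCat.of k))) := IsFinite.of_locallyQuasiFinite _
  exact ⟨isAffine_of_isAffineHom (X ↘ (Spec (CommRingCat.of k))), hF⟩

end Groth.Agent.S1529
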