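import Groth.Statements.S15297
-- import your own Groth.Agent.* helpers here
import Mathlib
import Groth.Agent.Lib.Helper23.DeRham

set_option autoImplicit false
universe u
open DeRham

namespace Groth.Agent.S15297

open exteriorPower in
/-- Let R → A be a ring map and d a de Rham differential of the Kähler differentials of A over R. Then
each d from p-forms to (p+1)-forms, an R-linear map between A-modules, is a differential operator of
order at most 1 relative to R → A: every commutator of d with multiplication by an element of A is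
A-linear. -/
theorem result (R A : Type u) [CommRing R] [CommRing A] [Algebra R A]
    (d : ∀ p : ℕ, ↥(⋀[A]^p (Ω[A⁄R])) →ₗ[R] ↥(⋀[A]^(p + 1) (Ω[A⁄R])))
    (hd : DeRham.IsDiff (KaehlerDifferential.D R A) d) (p : ℕ) :
    Diff16.IsDiffOpLE R A ↥(⋀[A]^p (Ω[A⁄R])) ↥(⋀[A]^(p + 1) (Ω[A⁄R])) 1 (d p) := by
  intro b a m
  have hC : ∀ x : ↥(⋀[A]^p (Ω[A⁄R])),
      Diff16.commutator R A ↥(⋀[A]^p (Ω[A⁄R])) ↥(⋀[A]^(p + 1) (Ω[A⁄R])) (d p) b x =
        d p (b • x) - b • d p x := by
    intro x
    simp [Diff16.commutator]
  rw [hC, hC]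
  refine Groth.Agent.Lib.Helper23.DeRhamAux.gen_induction (KaehlerDifferential.D R A)
    (Groth.Agent.Lib.Helper23.DeRhamAux.kaehler_span R A) p
    (fun m => d p (b • a • m) - b • d p (a • m) = a • (d p (b • m) - b • d p m)) ?_ ?_ ?_ m
  · simp
  · intro x y hx hy
    have e1 : d p (b • a • (x + y)) - b • d p (a • (x + y)) =
        (d p (b • a • x) - b • d p (a • x)) + (d p (b • a • y) - b • d p (a • y)) := by
      simp only [smul_add, map_add]; abel
    have e2 : a • (d p (b • (x + y)) - b • d p (x + y)) =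
        a • (d p (b • x) - b • d p x) + a • (d p (b • y) - b • d p y) := by
      simp only [smul_add, map_add, smul_sub]; abel
    rw [e1, e2, hx, hy]
  · intro b₀ b'
    rw [Groth.Agent.Lib.Helper23.DeRhamAux.smul_gen _ p a b₀ b',
      Groth.Agent.Lib.Helper23.DeRhamAux.rule_comm_gen _ d hd.1,
      Groth.Agent.Lib.Helper23.DeRhamAux.rule_comm_gen _ d hd.1, mul_smul]

end Groth.Agent.S15297
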