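import Groth.Statements.S15308
import Groth.Agent.Lib.Helper5.DRTermZero
import Groth.Agent.Lib.Helper5.StupidDev
import Groth.Agent.Lib.Helper5.ClosedCechSS

set_option autoImplicit false
universe u
open DeRhamSh

namespace Groth.Agent.S15308

open CategoryTheory AlgebraicGeometry TopologicalSpace in
/-- Let k be a field of characteristic zero and U a smooth k-scheme of finite type of dimension at most
n whose cohomological dimension is less than r, in the sense that H^q(U, F) vanishes for every
quasi-coherent O_U-module F and every q ≥ r. Then the algebraic de Rham cohomology H^i_dR(U/k), the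
hypercohomology of the de Rham complex of U over k, vanishes for all i ≥ n + r. (The published
statement is the Lefschetz-type comparison H^i(X) → H^i(Y) for a proper X of dimension n with X − Y
smooth of cohomological dimension less than r; this row is the first step of its proof, the
vanishing on the smooth open part, stated for any de Rham complex of U over k and with the
conclusion as vanishing of an additive group.) -/
theorem result (k : Type u) [Field k] [CharZero k] (X : Scheme.{u})
    (f : X ⟶ Spec (CommRingCat.of k)) [QuasiCompact f] [QuasiSeparated f] [Smooth f]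
    (n : ℕ) (hn : topologicalKrullDim ↥X ≤ n) (r : ℕ)
    (hcd : ∀ (F : X.Modules), Coh.IsQCoh F → ∀ q : ℕ, r ≤ q → Subsingleton (Coh.HH X F q))
    (D : DeRhamSh.OmegaCx f)
    [HasDerivedCategory.{u} (Sheaf (Opens.grothendieckTopology ↥X) AddCommGrpCat.{u})]
    (i : ℤ) (hi : (n : ℤ) + r ≤ i) :
    Subsingleton (DeRhamSh.HdR D i) := by
  classical
  haveI qΩ : (Omega.sheaf f).IsQuasicoherent :=
    Groth.Agent.Lib.Helper17.PbStalk.isQuasicoherent_pullback
      (Limits.pullback.diagonal f) (ClSub.idealMod (Limits.pullback.diagonal f).ker)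
  have hqc : ∀ p, (D.term p).IsQuasicoherent := fun p =>
    Groth.Agent.Lib.Helper17.ExtPowCoh.isQuasicoherent_of_isExtPow (D.isExtPow p)
  have hz : ∀ j : ℤ, ((n + 1 : ℕ) : ℤ) ≤ j → Limits.IsZero (D.KZ.X j) := by
    intro j hj
    obtain ⟨p, rfl⟩ : ∃ p : ℕ, j = (p : ℤ) := ⟨j.toNat, by omega⟩
    exact Limits.IsZero.of_iso
      (Groth.Agent.Lib.Helper5.DRTermZero.isZero_term f D n hn p (by exact_mod_cast hj))
      (D.K.extendXIso ComplexShape.embeddingUpNat rfl)
  have hneg : ∀ j : ℤ, j < 0 → Limits.IsZero (D.KZ.X j) := fun j hj =>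
    D.K.isZero_extend_X ComplexShape.embeddingUpNat j (fun p hp => by
      have : (p : ℤ) = j := hp
      omega)
  have hac : ∀ (j : ℤ) (q' : ℕ), r ≤ q' → Subsingleton (CohTop.HU (D.KZ.X j) q' ⊤) := by
    intro j q' hq'
    by_cases hj : ∃ p : ℕ, ComplexShape.embeddingUpNat.f p = j
    · obtain ⟨p, rfl⟩ := hj
      have e1 : D.KZ.X (ComplexShape.embeddingUpNat.f p) ≅ Coh.toAb (D.term p) :=
        (D.K.extendXIso ComplexShape.embeddingUpNat rfl) ≪≫ D.iso p
      have h1 : Subsingleton (CohTop.H (X := X.toTopCat) (Coh.toAb (D.term p)) q') :=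
        hcd (D.term p) (hqc p) q' hq'
      have h2 : Subsingleton (CohTop.HU (X := X.toTopCat) (Coh.toAb (D.term p)) q' ⊤) :=
        (Groth.Agent.Lib.Helper5.ClosedCechSS.H'TopIso (X := X.toTopCat) (Coh.toAb (D.term p))
          q').addCommGroupIsoToAddEquiv.toEquiv.subsingleton_congr.2 h1
      exact Groth.Agent.Lib.Helper5.StupidDev.subsingleton_ext_of_iso e1 q' h2
    · have hz0 : Limits.IsZero (D.KZ.X j) :=
        D.K.isZero_extend_X ComplexShape.embeddingUpNat j (fun p hp => hj ⟨p, hp⟩)
      exact Groth.Agent.Lib.Helper5.StupidDev.subsingleton_ext_of_isZero hz0 q'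
  exact Groth.Agent.Lib.Helper5.StupidDev.subsingleton_HDU_of_bounded ⊤ r
    (n + 1) D.KZ hz hneg hac i (by push_cast; omega)

end Groth.Agent.S15308
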