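-- Statement S15742.
import Groth.Statements.S15742
import Mathlib
import Groth.Agent.Lib.Helper1.OmSect2

set_option autoImplicit false
universe u
open CategoryTheory AlgebraicGeometry
open Mor

namespace Groth.Agent.S15742

/-- For a commutative ring `A` and a commutative `A`-algebra `B`, the canonical map from the module of
Kähler differentials `Ω[B⁄A]` to the global sections of the sheaf of relative differentials of `Spec
B ⟶ Spec A`, semilinear along the identification of `B` with the ring of global functions on `Spec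
B` and sending `D b` to `d_{X/Y}` of the global function `b`, is bijective. -/
theorem result (A B : Type u) [CommRing A] [CommRing B] [Algebra A B] :
    Function.Bijective (OmAff.toSpec A B) := by
  let f := Spec.map (CommRingCat.ofHom (algebraMap A B))
  let eB := Scheme.ΓSpecIso (CommRingCat.of B)
  let eA := Scheme.ΓSpecIso (CommRingCat.of A)
  have hinv : ∀ s : Γ(Spec (CommRingCat.of B), ⊤), OmAff.toΓ B (eB.hom s) = s :=
    fun s => congr($(eB.hom_inv_id) s)
  have hhom : ∀ b : B, eB.hom (OmAff.toΓ B b) = b := fun b => congr($(eB.inv_hom_id) b)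
  letI : Module Γ(Spec (CommRingCat.of B), ⊤) Ω[B⁄A] := Module.compHom _ eB.hom.hom
  have hsm : ∀ (s : Γ(Spec (CommRingCat.of B), ⊤)) (ω : Ω[B⁄A]), s • ω = (eB.hom s : B) • ω :=
    fun _ _ => rfl
  let D : Γ(Spec (CommRingCat.of B), ⊤) →+ Ω[B⁄A] :=
    AddMonoidHom.mk' (fun s => KaehlerDifferential.D A B (eB.hom s)) (fun a b => by
      rw [map_add, map_add])
  have hD : ∀ s, D s = KaehlerDifferential.D A B (eB.hom s) := fun _ => rfl
  have hU : IsAffineOpen (⊤ : (Spec (CommRingCat.of B)).Opens) := isAffineOpen_top _
  have hV : IsAffineOpen (⊤ : (Spec (CommRingCat.of A)).Opens) := isAffineOpen_top _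
  have h : (⊤ : (Spec (CommRingCat.of B)).Opens) ≤ f ⁻¹ᵁ ⊤ := le_of_eq rfl
  let t : Ω[B⁄A] →ₗ[Γ(Spec (CommRingCat.of B), ⊤)] Γ(Omega.sheaf f, ⊤) :=
    { toFun := OmAff.toSpec A B
      map_add' := map_add _
      map_smul' := fun s ω => by
        rw [hsm, LinearMap.map_smulₛₗ, hinv]
        rfl }
  have := Groth.Agent.Lib.Helper1.OmSect.bijective_of_der f hU hV h Ω[B⁄A] D ?_ ?_ ?_ t ?_
  · exact this
  · intro a b
    rw [hD, hD, hD, map_mul, Derivation.leibniz, hsm, hsm]
  · intro a
    rw [hD]
    have h1 : eB.hom (f.appLE ⊤ ⊤ h a) = algebraMap A B (eA.hom a) := by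
      have h2 := congr($(Scheme.ΓSpecIso_naturality (CommRingCat.ofHom (algebraMap A B))) a)
      refine Eq.trans ?_ h2
      rfl
    rw [h1, Derivation.map_algebraMap]
  · rw [eq_top_iff]
    intro x hxtop
    clear hxtop
    have hx : x ∈ Submodule.span B (Set.range (KaehlerDifferential.D A B)) := by
      rw [KaehlerDifferential.span_range_derivation]; trivial
    induction hx using Submodule.span_induction with
    | mem y hy =>
      obtain ⟨b, rfl⟩ := hy
      apply Submodule.subset_span
      exact ⟨OmAff.toΓ B b, by rw [hD, hhom]⟩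
    | zero => exact Submodule.zero_mem _
    | add y z _ _ hy hz => exact Submodule.add_mem _ hy hz
    | smul b y _ hy =>
      have : b • y = (OmAff.toΓ B b) • y := by rw [hsm, hhom]
      rw [this]
      exact Submodule.smul_mem _ _ hy
  · intro s
    change OmAff.toSpec A B (KaehlerDifferential.D A B (eB.hom s)) = _
    rw [OmAff.toSpec_D, hinv]

end Groth.Agent.S15742
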