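import Groth.Statements.S15527
import Groth.Agent.Lib.Helper5.MapExtend
import Groth.Agent.Lib.Helper5.ExtSemi
import Groth.Agent.Lib.Helper5.AcycHDU
import Groth.Agent.S15742
import Groth.Agent.Lib.Helper17.ExtPowCoh
import Groth.Agent.Lib.Helper17.PbStalk
import Groth.Agent.Lib.Helper13.AffineVanish
import Groth.Agent.Lib.Helper23.DeRham

set_option autoImplicit false
universe u
open DeRhamSh

namespace Groth.Agent.S15527

section
open CategoryTheory CategoryTheory.Limits AlgebraicGeometry TopologicalSpace Opposite exteriorPower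
open Groth.Agent.Lib.Helper5

variable (R A : Type u) [CommRing R] [CommRing A] [Algebra R A]

/-- `A ≃+* Γ(Spec A, ⊤)`. -/
noncomputable def σΓ : A ≃+* Γ(Spec (CommRingCat.of A), ⊤) :=
  (Scheme.ΓSpecIso (CommRingCat.of A)).symm.commRingCatIsoToRingEquiv

lemma σΓ_apply (a : A) : σΓ A a = OmAff.toΓ A a := rfl

/-- the morphism `Spec A ⟶ Spec R`. -/
noncomputable abbrev fRA : Spec (CommRingCat.of A) ⟶ Spec (CommRingCat.of R) :=
  Spec.map (CommRingCat.ofHom (algebraMap R A))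

/-- `Ω[A⁄R] ≃+ Γ(Spec A, Ω)`. -/
noncomputable def eΩ : Ω[A⁄R] ≃+ Γ(Omega.sheaf (fRA R A), ⊤) :=
  AddEquiv.ofBijective (OmAff.toSpec R A).toAddMonoidHom (Groth.Agent.S15742.result R A)

lemma eΩ_smul (a : A) (m : Ω[A⁄R]) : eΩ R A (a • m) = σΓ A a • eΩ R A m :=
  (OmAff.toSpec R A).map_smulₛₗ a m

lemma eΩ_D (b : A) :
    eΩ R A (KaehlerDifferential.D R A b) = (OmegaSh.dOmega (fRA R A)).app ⊤ (σΓ A b) :=
  OmAff.toSpec_D R A b

/-- the induced equivalence of exterior powers. -/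
noncomputable def θ (p : ℕ) :
    ↥(⋀[A]^p (Ω[A⁄R])) ≃+
      ↥(⋀[Γ(Spec (CommRingCat.of A), ⊤)]^p Γ(Omega.sheaf (fRA R A), ⊤)) :=
  Classical.choose (ExtSemi.exists_extEquiv (σΓ A) (eΩ R A) (eΩ_smul R A) p)

lemma θ_smul (p : ℕ) (a : A) (x : ↥(⋀[A]^p (Ω[A⁄R]))) :
    θ R A p (a • x) = σΓ A a • θ R A p x :=
  (Classical.choose_spec (ExtSemi.exists_extEquiv (σΓ A) (eΩ R A) (eΩ_smul R A) p)).1 a x

lemma θ_ιMulti (p : ℕ) (m : Fin p → Ω[A⁄R]) :
    θ R A p (ιMulti A p m) = ιMulti _ p (fun i => eΩ R A (m i)) :=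
  (Classical.choose_spec (ExtSemi.exists_extEquiv (σΓ A) (eΩ R A) (eΩ_smul R A) p)).2 m

/-- the affine open `⊤` of `Spec A`. -/
noncomputable abbrev U₀ : (Spec (CommRingCat.of A)).affineOpens := ⟨⊤, isAffineOpen_top _⟩

variable {R A} (D : DeRhamSh.OmegaCx (fRA R A))

/-- sections of an isomorphism of abelian sheaves. -/
noncomputable def secEquiv {C : Type u} [SmallCategory C] {J : GrothendieckTopology C}
    {F G : Sheaf J AddCommGrpCat.{u}} (e : F ≅ G) (U : Cᵒᵖ) : F.obj.obj U ≃+ G.obj.obj U :=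
  ((sheafToPresheaf J AddCommGrpCat.{u} ⋙ (evaluation _ _).obj U).mapIso e).addCommGroupIsoToAddEquiv

lemma secEquiv_apply {C : Type u} [SmallCategory C] {J : GrothendieckTopology C}
    {F G : Sheaf J AddCommGrpCat.{u}} (e : F ≅ G) (U : Cᵒᵖ) (x : F.obj.obj U) :
    secEquiv e U x = e.hom.hom.app U x := rfl

lemma secEquiv_symm_apply {C : Type u} [SmallCategory C] {J : GrothendieckTopology C}
    {F G : Sheaf J AddCommGrpCat.{u}} (e : F ≅ G) (U : Cᵒᵖ) (x : G.obj.obj U) :
    (secEquiv e U).symm x = e.inv.hom.app U x := rfl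

/-- sections of `K^p` are sections of `term p`. -/
noncomputable def isoΓ (p : ℕ) :
    ((D.K.X p).obj.obj (op ⊤) : AddCommGrpCat.{u}) ≃+ Γ(D.term p, (U₀ A).1) :=
  secEquiv (D.iso p) (op ⊤)

/-- forms to sections of the complex. -/
noncomputable def τ (p : ℕ) :
    ↥(⋀[A]^p (Ω[A⁄R])) ≃+ ((D.K.X p).obj.obj (op ⊤) : AddCommGrpCat.{u}) :=
  (θ R A p).trans ((D.loc p (U₀ A)).symm.toAddEquiv.trans (isoΓ D p).symm)

lemma τ_apply (p : ℕ) (y : ↥(⋀[A]^p (Ω[A⁄R]))) :
    τ D p y = (D.iso p).inv.hom.app (op ⊤) ((D.loc p (U₀ A)).symm (θ R A p y)) := rfl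


variable (d : ∀ p : ℕ, ↥(⋀[A]^p (Ω[A⁄R])) →ₗ[R] ↥(⋀[A]^(p + 1) (Ω[A⁄R])))
  (hd : DeRham.IsDiff (KaehlerDifferential.D R A) d)

include hd in
lemma τ_d (p : ℕ) (y : ↥(⋀[A]^p (Ω[A⁄R]))) :
    (D.K.d p (p + 1)).hom.app (op ⊤) (τ D p y) = τ D (p + 1) (d p y) := by
  refine Groth.Agent.Lib.Helper23.DeRhamAux.gen_induction (KaehlerDifferential.D R A)
    (Groth.Agent.Lib.Helper23.DeRhamAux.kaehler_span R A) p
    (fun y => (D.K.d p (p + 1)).hom.app (op ⊤) (τ D p y) = τ D (p + 1) (d p y)) ?_ ?_ ?_ y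
  · simp only [map_zero]
  · intro x y hx hy
    simp only [map_add, hx, hy]
  · intro b₀ b
    rw [hd.1 p b₀ b, τ_apply, τ_apply]
    have h1 : θ R A p (DeRham.gen (KaehlerDifferential.D R A) p b₀ b) =
        σΓ A b₀ • ιMulti _ p (fun i => (OmegaSh.dOmega (fRA R A)).app ⊤ (σΓ A (b i))) := by
      unfold DeRham.gen
      rw [θ_smul, θ_ιMulti]
      congr 2
      funext i
      exact eΩ_D R A (b i)
    have h2 : θ R A (p + 1) (ιMulti A (p + 1) (Fin.cons (KaehlerDifferential.D R A b₀)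
          (fun i => KaehlerDifferential.D R A (b i)))) =
        ιMulti _ (p + 1) (Fin.cons ((OmegaSh.dOmega (fRA R A)).app ⊤ (σΓ A b₀))
          (fun i => (OmegaSh.dOmega (fRA R A)).app ⊤ (σΓ A (b i)))) := by
      rw [θ_ιMulti]
      congr 1
      funext i
      refine Fin.cases ?_ (fun j => ?_) i
      · simp only [Fin.cons_zero]
        exact eΩ_D R A b₀
      · simp only [Fin.cons_succ]
        exact eΩ_D R A (b j)
    rw [h1, h2]
    exact D.rule p (U₀ A) (σΓ A b₀) (fun i => σΓ A (b i))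

/-- the ring-level de Rham complex is the complex of global sections. -/
noncomputable def cxIso :
    ((forget₂ (ModuleCat.{u} R) AddCommGrpCat.{u}).mapHomologicalComplex (ComplexShape.up ℕ)).obj
        (DeRham.cx hd) ≅
      ((AcycSect.ΓV (⊤ : Opens ↥(Spec (CommRingCat.of A)))).mapHomologicalComplex
        (ComplexShape.up ℕ)).obj D.K :=
  HomologicalComplex.Hom.isoOfComponents (fun p => (τ D p).toAddCommGrpIso) (by
    rintro i j (rfl : i + 1 = j)
    apply AddCommGrpCat.hom_ext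
    apply AddMonoidHom.ext
    intro y
    have hcx : (DeRham.cx hd).d i (i + 1) = ModuleCat.ofHom (d i) := by
      exact CochainComplex.of_d (fun p => ModuleCat.of R ↥(⋀[A]^p (Ω[A⁄R])))
        (fun p => ModuleCat.ofHom (d p)) i
    change (D.K.d i (i + 1)).hom.app (op ⊤) (τ D i y) =
      τ D (i + 1) (((forget₂ (ModuleCat.{u} R) AddCommGrpCat.{u}).map
        ((DeRham.cx hd).d i (i + 1))).hom y)
    rw [hcx]
    exact τ_d D d hd i y)

lemma subsingleton_ext_of_iso {C : Type*} [Category C] [Abelian C] [HasExt C] {T F G : C}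
    (e : F ≅ G) (n : ℕ) (h : Subsingleton (Abelian.Ext T G n)) :
    Subsingleton (Abelian.Ext T F n) :=
  ⟨fun x y => by
    have hx : ∀ z : Abelian.Ext T F n,
        z = (z.comp (Abelian.Ext.mk₀ e.hom) (add_zero n)).comp (Abelian.Ext.mk₀ e.inv)
          (add_zero n) := by
      intro z
      rw [Abelian.Ext.comp_assoc_of_third_deg_zero, Abelian.Ext.mk₀_comp_mk₀, e.hom_inv_id,
        Abelian.Ext.comp_mk₀_id]
    rw [hx x, hx y, Subsingleton.elim (x.comp (Abelian.Ext.mk₀ e.hom) (add_zero n))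
      (y.comp (Abelian.Ext.mk₀ e.hom) (add_zero n))]⟩

lemma subsingleton_ext_of_isZero {C : Type*} [Category C] [Abelian C] [HasExt C] {T F : C}
    (hF : IsZero F) (n : ℕ) : Subsingleton (Abelian.Ext T F n) :=
  ⟨fun x y => by
    have hx : ∀ z : Abelian.Ext T F n, z = 0 := by
      intro z
      rw [← Abelian.Ext.comp_mk₀_id z, hF.eq_of_src (𝟙 F) 0, Abelian.Ext.mk₀_zero,
        Abelian.Ext.comp_zero]
    rw [hx x, hx y]⟩

end

open CategoryTheory AlgebraicGeometry exteriorPower in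
/-- For a ring map R → A with X = Spec A → S = Spec R, a de Rham complex D of the sheaf of differentials
of X → S and a de Rham differential d of the Kähler differentials of A over R, the de Rham
cohomology group H^n(X, D) = H^n_dR(X/S) is isomorphic, as an additive group, to the n-th cohomology
of the ring-level de Rham complex (⋀^• Ω_{A/R}, d), for every n ≥ 0. (Existence of an additive
isomorphism only: the published statement is a canonical identification, and it also identifies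
RΓ(X, Ω^•_{X/S}) with Ω^•_{A/R} in D(R), which is not stated here.) -/
theorem result (R A : Type u) [CommRing R] [CommRing A] [Algebra R A]
    (D : DeRhamSh.OmegaCx (Spec.map (CommRingCat.ofHom (algebraMap R A))))
    [HasDerivedCategory.{u} (Sheaf (Opens.grothendieckTopology ↥(Spec (CommRingCat.of A))) AddCommGrpCat.{u})]
    (d : ∀ p : ℕ, ↥(⋀[A]^p (Ω[A⁄R])) →ₗ[R] ↥(⋀[A]^(p + 1) (Ω[A⁄R])))
    (hd : DeRham.IsDiff (KaehlerDifferential.D R A) d) (n : ℕ) :
    Nonempty (DeRhamSh.HdR D (n : ℤ) ≃+ ↑(DeRham.H hd n)) := by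
  classical
  haveI qΩ : (Omega.sheaf (fRA R A)).IsQuasicoherent :=
    Groth.Agent.Lib.Helper17.PbStalk.isQuasicoherent_pullback (Limits.pullback.diagonal (fRA R A))
      (ClSub.idealMod (Limits.pullback.diagonal (fRA R A)).ker)
  have hq : ∀ p, (D.term p).IsQuasicoherent := fun p =>
    Groth.Agent.Lib.Helper17.ExtPowCoh.isQuasicoherent_of_isExtPow (D.isExtPow p)
  have hac : ∀ (i : ℤ) (q : ℕ), Subsingleton (CohTop.HU (D.KZ.X i) (q + 1) ⊤) := by
    intro i q
    by_cases hi : ∃ p : ℕ, ComplexShape.embeddingUpNat.f p = i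
    · obtain ⟨p, rfl⟩ := hi
      have e1 : D.KZ.X (ComplexShape.embeddingUpNat.f p) ≅ Coh.toAb (D.term p) :=
        (D.K.extendXIso ComplexShape.embeddingUpNat rfl) ≪≫ D.iso p
      haveI := hq p
      have h := Groth.Agent.Lib.Helper13.AffineVanish.subsingleton_HU_of_isAffineOpen (D.term p)
        (isAffineOpen_top (Spec (CommRingCat.of A))) q
      exact subsingleton_ext_of_iso e1 (q + 1) h
    · have hz : Limits.IsZero (D.KZ.X i) :=
        D.K.isZero_extend_X ComplexShape.embeddingUpNat i (fun p hp => hi ⟨p, hp⟩)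
      exact subsingleton_ext_of_isZero hz (q + 1)
  have hneg : ∀ i : ℤ, i < 0 → Limits.IsZero (D.KZ.X i) := fun i hi =>
    D.K.isZero_extend_X ComplexShape.embeddingUpNat i (fun p hp => by
      have : (p : ℤ) = i := hp
      omega)
  obtain ⟨E1⟩ := Groth.Agent.Lib.Helper5.AcycHDU.nonempty_sectH_equiv_HDU D.KZ 0 hneg ⊤ hac (n : ℤ)
  let G := forget₂ (ModuleCat.{u} R) AddCommGrpCat.{u}
  let h1 := (HomologicalComplex.homologyFunctor _ _ (n : ℤ)).mapIso
    (Groth.Agent.Lib.Helper5.MapExtend.mapExtendIso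
      (Groth.Agent.Lib.Helper5.AcycSect.ΓV (⊤ : TopologicalSpace.Opens ↥(Spec (CommRingCat.of A))))
      D.K ComplexShape.embeddingUpNat)
  let h2 := HomologicalComplex.extendHomologyIso
    (((Groth.Agent.Lib.Helper5.AcycSect.ΓV
      (⊤ : TopologicalSpace.Opens ↥(Spec (CommRingCat.of A)))).mapHomologicalComplex
        (ComplexShape.up ℕ)).obj D.K) ComplexShape.embeddingUpNat (j := n) (j' := (n : ℤ)) rfl
  let h3 := (HomologicalComplex.homologyFunctor _ _ n).mapIso (cxIso D d hd).symm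
  let h4 : ((G.mapHomologicalComplex (ComplexShape.up ℕ)).obj (DeRham.cx hd)).homology n ≅
      G.obj ((DeRham.cx hd).homology n) := ((DeRham.cx hd).sc n).mapHomologyIso G
  exact ⟨E1.symm.trans ((h1 ≪≫ h2 ≪≫ h3 ≪≫ h4).addCommGroupIsoToAddEquiv)⟩

end Groth.Agent.S15527
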