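import Groth.Statements.S15309
import Groth.Agent.S15527
import Groth.Agent.S5019
import Groth.Agent.S5005
import Groth.Agent.Lib.Helper24.ShrinkA

set_option autoImplicit false
universe u
open DeRhamSh

namespace Groth.Agent.S15309

section
open CategoryTheory CategoryTheory.Limits AlgebraicGeometry TopologicalSpace Opposite exteriorPower

/-- an exterior power of a free module above its rank vanishes. -/
lemma subsingleton_extPow_of_basis {B M : Type*} [CommRing B] [AddCommGroup M] [Module B M] {r : ℕ}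
    (b : Module.Basis (Fin r) B M) (p : ℕ) (hp : r < p) : Subsingleton ↥(⋀[B]^p M) := by
  haveI hE : IsEmpty (Set.powersetCard (Fin r) p) := ⟨fun s => by
    have h1 : (s : Finset (Fin r)).card = p := s.2
    have h2 := Finset.card_le_univ (s : Finset (Fin r))
    rw [Fintype.card_fin] at h2
    omega⟩
  exact (b.exteriorPower p).repr.toEquiv.subsingleton

lemma fibreDimAt_le_dim {X Y : Scheme.{u}} (f : X ⟶ Y) (x : X) :
    FlatMor.fibreDimAt f x ≤ topologicalKrullDim X :=
  (Groth.Agent.Lib.Helper24.Shrink.localDim_le_top _).trans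
    (f.fiberι _).isEmbedding.toIsInducing.topologicalKrullDim_le

open Groth.Agent.Lib.Helper3.FreeBasis Groth.Agent.Lib.Helper3.SecLoc in
/-- local bases of the differentials of a smooth morphism on affine opens, of rank the fibre
dimension (the proof of `S5019`, stopping at the basis). -/
theorem exists_affine_basis {X Y : Scheme.{u}} (f : X ⟶ Y) [Smooth f]
    (Ω' : X.Modules) (d : OmegaSh.Der f Ω') (hd : OmegaSh.IsUniversal d) (x : ↥X) :
    ∃ (W : X.Opens) (_ : IsAffineOpen W) (n : ℕ), x ∈ W ∧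
      Nonempty (Module.Basis (Fin n) Γ(X, W) Γ(Ω', W)) ∧
      FlatMor.fibreDimAt f x = (n : WithBot ℕ∞) := by
  obtain ⟨V, hV, W, hW, hxW, e, hss⟩ := Smooth.exists_isStandardSmooth f x
  letI := (f.appLE V W e).hom.toAlgebra
  have hss' : Algebra.IsStandardSmooth Γ(Y, V) Γ(X, W) := hss
  obtain ⟨n, hn⟩ : ∃ n, Algebra.IsStandardSmoothOfRelativeDimension n Γ(Y, V) Γ(X, W) := by
    obtain ⟨ι, σ, h1, h2, ⟨P⟩⟩ := hss'
    exact ⟨P.dimension, ⟨ι, σ, h1, h2, P, rfl⟩⟩
  have hn' : (f.appLE V W e).hom.IsStandardSmoothOfRelativeDimension n := hn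
  have hdim : FlatMor.fibreDimAt f x = (n : WithBot ℕ∞) := by
    have hsm : SmoothOfRelativeDimension n (W.ι ≫ f) := by
      have h1 : W.ι ≫ f = hW.isoSpec.hom ≫ Spec.map (f.appLE V W e) ≫ hV.fromSpec := by
        rw [IsAffineOpen.SpecMap_appLE_fromSpec f hV hW e, ← Category.assoc,
          IsAffineOpen.isoSpec_hom_fromSpec]
      haveI := Groth.Agent.Lib.Helper22.SmoothRelDim.smoothOfRelativeDimension_SpecMap n
        (f.appLE V W e) hn'
      rw [h1]
      have : SmoothOfRelativeDimension (0 + (n + 0))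
          (hW.isoSpec.hom ≫ Spec.map (f.appLE V W e) ≫ hV.fromSpec) := inferInstance
      simpa using this
    have := Groth.Agent.Lib.Helper12.Equidim.fibreDimAt_comp_openImmersion W.ι f ⟨x, hxW⟩
    rw [Groth.Agent.Lib.Helper22.SmoothRelDim.fibreDimAt_eq n (W.ι ≫ f) ⟨x, hxW⟩] at this
    exact this.symm
  haveI : Nontrivial Γ(X, W) := (X.presheaf.germ W x hxW).hom.domain_nontrivial
  have hrank : Module.rank Γ(X, W) Ω[Γ(X, W)⁄Γ(Y, V)] = n :=
    Algebra.IsStandardSmoothOfRelativeDimension.rank_kaehlerDifferential n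
  haveI : Module.Free Γ(X, W) Ω[Γ(X, W)⁄Γ(Y, V)] := inferInstance
  haveI : Algebra.FiniteType Γ(Y, V) Γ(X, W) := f.finiteType_appLE hV hW e
  haveI : Module.Finite Γ(X, W) Ω[Γ(X, W)⁄Γ(Y, V)] := inferInstance
  have hfin : Module.finrank Γ(X, W) Ω[Γ(X, W)⁄Γ(Y, V)] = n :=
    Module.finrank_eq_of_rank_eq hrank
  let b0 : Module.Basis (Fin n) Γ(X, W) Ω[Γ(X, W)⁄Γ(Y, V)] :=
    Module.finBasisOfFinrankEq _ _ hfin
  let b : Module.Basis (Fin n) Γ(X, W) Γ(Ω', W) :=
    b0.map (Groth.Agent.Lib.Helper1.DerFin.sectEquiv f d hW hV e hd)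
  exact ⟨W, hW, n, hxW, ⟨b⟩, hdim⟩

/-- the high terms of a de Rham complex of a smooth morphism have no global sections. -/
theorem subsingleton_term_top {X Y : Scheme.{u}} (f : X ⟶ Y) [QuasiSeparated f] [Smooth f]
    (D : DeRhamSh.OmegaCx f) (n : ℕ) (hn : topologicalKrullDim ↥X ≤ n) (p : ℕ) (hp : n < p) :
    Subsingleton Γ(D.term p, ⊤) := by
  have hd := Groth.Agent.S5005.result f
  have key : ∀ x : ↥X, ∃ W : X.Opens, x ∈ W ∧ Subsingleton Γ(D.term p, W) := by
    intro x
    obtain ⟨W, hW, r, hxW, ⟨b⟩, hdim⟩ := exists_affine_basis f (Omega.sheaf f) (OmegaSh.dOmega f) hd x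
    refine ⟨W, hxW, ?_⟩
    have hr : r ≤ n := by
      have h1 : ((r : ℕ∞) : WithBot ℕ∞) ≤ ((n : ℕ∞) : WithBot ℕ∞) := by
        have := (fibreDimAt_le_dim f x).trans hn
        rw [hdim] at this
        exact_mod_cast this
      exact_mod_cast h1
    haveI := subsingleton_extPow_of_basis b p (lt_of_le_of_lt hr hp)
    exact (D.loc p ⟨W, hW⟩).toEquiv.subsingleton
  choose W hxW hW using key
  refine ⟨fun s t => ?_⟩
  let Ms : TopCat.Sheaf Ab X := ⟨(D.term p).presheaf, (D.term p).isSheaf⟩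
  refine Ms.eq_of_locally_eq' (fun x : ↥X => W x) ⊤ (fun x => homOfLE le_top) ?_ s t
    (fun x => ?_)
  · intro x _
    exact TopologicalSpace.Opens.mem_iSup.mpr ⟨x, hxW x⟩
  · haveI := hW x
    exact Subsingleton.elim (α := Γ(D.term p, W x)) _ _

end

open CategoryTheory AlgebraicGeometry TopologicalSpace in
/-- Let k be a field of characteristic zero and X a smooth affine k-scheme of finite type of dimension
at most n. Then the algebraic de Rham cohomology H^i_dR(X/k), the hypercohomology of the de Rham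
complex of X over k, vanishes for every i > n. (The published statement gives vanishing above n + 1
for an arbitrary affine scheme of dimension n of finite type over k, possibly singular, whose de
Rham cohomology is defined through a smooth embedding; for smooth X the sharper bound n holds, and
that case is stated here, for any de Rham complex of X over k.) -/
theorem result (k : Type u) [Field k] [CharZero k] (X : Scheme.{u})
    (f : X ⟶ Spec (CommRingCat.of k)) [IsAffine X] [QuasiSeparated f] [Smooth f]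
    (n : ℕ) (hn : topologicalKrullDim ↥X ≤ n)
    (D : DeRhamSh.OmegaCx f)
    [HasDerivedCategory.{u} (Sheaf (Opens.grothendieckTopology ↥X) AddCommGrpCat.{u})]
    (i : ℤ) (hi : (n : ℤ) < i) :
    Subsingleton (DeRhamSh.HdR D i) := by
  classical
  haveI qΩ : (Omega.sheaf f).IsQuasicoherent :=
    Groth.Agent.Lib.Helper17.PbStalk.isQuasicoherent_pullback
      (Limits.pullback.diagonal f) (ClSub.idealMod (Limits.pullback.diagonal f).ker)
  have hq : ∀ p, (D.term p).IsQuasicoherent := fun p =>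
    Groth.Agent.Lib.Helper17.ExtPowCoh.isQuasicoherent_of_isExtPow (D.isExtPow p)
  have hac : ∀ (i : ℤ) (q : ℕ), Subsingleton (CohTop.HU (D.KZ.X i) (q + 1) ⊤) := by
    intro i q
    by_cases hi : ∃ p : ℕ, ComplexShape.embeddingUpNat.f p = i
    · obtain ⟨p, rfl⟩ := hi
      have e1 : D.KZ.X (ComplexShape.embeddingUpNat.f p) ≅ Coh.toAb (D.term p) :=
        (D.K.extendXIso ComplexShape.embeddingUpNat rfl) ≪≫ D.iso p
      haveI := hq p
      have h := Groth.Agent.Lib.Helper13.AffineVanish.subsingleton_HU_of_isAffineOpen (D.term p)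
        (isAffineOpen_top X) q
      exact Groth.Agent.S15527.subsingleton_ext_of_iso e1 (q + 1) h
    · have hz : Limits.IsZero (D.KZ.X i) :=
        D.K.isZero_extend_X ComplexShape.embeddingUpNat i (fun p hp => hi ⟨p, hp⟩)
      exact Groth.Agent.S15527.subsingleton_ext_of_isZero hz (q + 1)
  have hnegz : ∀ i : ℤ, i < 0 → Limits.IsZero (D.KZ.X i) := fun i hi =>
    D.K.isZero_extend_X ComplexShape.embeddingUpNat i (fun p hp => by
      have : (p : ℤ) = i := hp
      omega)
  obtain ⟨E1⟩ := Groth.Agent.Lib.Helper5.AcycHDU.nonempty_sectH_equiv_HDU D.KZ 0 hnegz ⊤ hac i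
  obtain ⟨p, rfl⟩ : ∃ p : ℕ, i = ((p : ℕ) : ℤ) := ⟨i.toNat, by omega⟩
  have hp : n < p := by exact_mod_cast hi
  haveI hsub := subsingleton_term_top f D n hn p hp
  have e1 : D.KZ.X ((p : ℕ) : ℤ) ≅ Coh.toAb (D.term p) :=
    (D.K.extendXIso ComplexShape.embeddingUpNat rfl) ≪≫ D.iso p
  have hz : Limits.IsZero (((CohCx.sectCx (Opens.grothendieckTopology ↥X) ⊤).obj D.KZ).X
      ((p : ℕ) : ℤ)) := by
    refine Limits.IsZero.of_iso ?_
      ((Groth.Agent.Lib.Helper5.AcycSect.ΓV (⊤ : Opens ↥X)).mapIso e1)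
    haveI : Subsingleton ↑((Groth.Agent.Lib.Helper5.AcycSect.ΓV (⊤ : Opens ↥X)).obj
        (Coh.toAb (D.term p))) := hsub
    exact AddCommGrpCat.isZero_of_subsingleton _
  have hE : ((CohCx.sectCx (Opens.grothendieckTopology ↥X) ⊤).obj D.KZ).ExactAt ((p : ℕ) : ℤ) :=
    ShortComplex.exact_of_isZero_X₂ _ hz
  haveI : Subsingleton ↑(((CohCx.sectCx (Opens.grothendieckTopology ↥X) ⊤).obj D.KZ).homology
      ((p : ℕ) : ℤ)) :=
    AddCommGrpCat.subsingleton_of_isZero hE.isZero_homology
  exact E1.symm.toEquiv.subsingleton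

end Groth.Agent.S15309
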