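import Groth.Statements.S15310
import Groth.Agent.Lib.Helper5.DRTermZero
import Groth.Agent.Lib.Helper5.StupidDev
import Groth.Agent.Lib.Helper5.ClosedCechSS
import Groth.Agent.S0469

set_option autoImplicit false
universe u
open DeRhamSh

namespace Groth.Agent.S15310

open CategoryTheory AlgebraicGeometry TopologicalSpace in
/-- Let k be a field of characteristic zero and Y a smooth k-scheme of finite type of dimension at most
n. Then the algebraic de Rham cohomology H^q_dR(Y/k), the hypercohomology of the de Rham complex of
Y over k, vanishes for every q > 2n. (The published statement covers every Y of finite type over k,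
possibly singular, with de Rham cohomology defined through the completion of a smooth embedding, and
also de Rham homology, and states the vanishing for q < 0 as well; this row is the smooth case for
cohomology in degrees above 2n, for any de Rham complex of Y over k.) -/
theorem result (k : Type u) [Field k] [CharZero k] (X : Scheme.{u})
    (f : X ⟶ Spec (CommRingCat.of k)) [QuasiCompact f] [QuasiSeparated f] [Smooth f]
    (n : ℕ) (hn : topologicalKrullDim ↥X ≤ n)
    (D : DeRhamSh.OmegaCx f)
    [HasDerivedCategory.{u} (Sheaf (Opens.grothendieckTopology ↥X) AddCommGrpCat.{u})]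
    (q : ℤ) (hq : 2 * (n : ℤ) < q) :
    Subsingleton (DeRhamSh.HdR D q) := by
  classical
  haveI : CompactSpace ↥X := QuasiCompact.compactSpace_of_compactSpace f
  haveI : QuasiSeparatedSpace ↥X := quasiSeparatedSpace_of_quasiSeparated f
  have hsp : SpectralSpace ↥X := {}
  haveI hsp' : SpectralSpace ↑X.toTopCat := hsp
  have hz : ∀ j : ℤ, ((n + 1 : ℕ) : ℤ) ≤ j → Limits.IsZero (D.KZ.X j) := by
    intro j hj
    obtain ⟨p, rfl⟩ : ∃ p : ℕ, j = (p : ℤ) := ⟨j.toNat, by omega⟩
    exact Limits.IsZero.of_iso
      (Groth.Agent.Lib.Helper5.DRTermZero.isZero_term f D n hn p (by exact_mod_cast hj))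
      (D.K.extendXIso ComplexShape.embeddingUpNat rfl)
  have hneg : ∀ j : ℤ, j < 0 → Limits.IsZero (D.KZ.X j) := fun j hj =>
    D.K.isZero_extend_X ComplexShape.embeddingUpNat j (fun p hp => by
      have : (p : ℤ) = j := hp
      omega)
  have hac : ∀ (j : ℤ) (q' : ℕ), n + 1 ≤ q' → Subsingleton (CohTop.HU (D.KZ.X j) q' ⊤) := by
    intro j q' hq'
    have h1 : Subsingleton (CohTop.H (X := X.toTopCat) (D.KZ.X j) q') :=
      Groth.Agent.S0469.result (X := X.toTopCat) n hn (D.KZ.X j) q' (by omega)
    exact (Groth.Agent.Lib.Helper5.ClosedCechSS.H'TopIso (X := X.toTopCat) (D.KZ.X j)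
      q').addCommGroupIsoToAddEquiv.toEquiv.subsingleton_congr.2 h1
  exact Groth.Agent.Lib.Helper5.StupidDev.subsingleton_HDU_of_bounded ⊤ (n + 1)
    (n + 1) D.KZ hz hneg hac q (by push_cast; omega)

end Groth.Agent.S15310
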