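import Groth.Statements.S15311
import Groth.Agent.S15527
import Groth.Agent.S7778
import Groth.Agent.S15299

set_option autoImplicit false
universe u
open DeRhamSh

namespace Groth.Agent.S15311

section
open CategoryTheory AlgebraicGeometry exteriorPower

variable {R A : Type u} [CommRing R] [CommRing A] [Algebra R A]
  (dE : ExteriorAlgebra A (Ω[A⁄R]) →ₗ[R] ExteriorAlgebra A (Ω[A⁄R]))
  (h0 : ∀ a : A, dE (algebraMap A (ExteriorAlgebra A (Ω[A⁄R])) a) =
    ExteriorAlgebra.ι A (KaehlerDifferential.D R A a))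
  (hdeg : ∀ (p : ℕ) (x : ExteriorAlgebra A (Ω[A⁄R])), x ∈ ⋀[A]^p (Ω[A⁄R]) →
    dE x ∈ ⋀[A]^(p + 1) (Ω[A⁄R]))
  (hder : ∀ (p : ℕ) (x y : ExteriorAlgebra A (Ω[A⁄R])), x ∈ ⋀[A]^p (Ω[A⁄R]) →
    dE (x * y) = dE x * y + (-1) ^ p * x * dE y)
  (hdd : ∀ x : ExteriorAlgebra A (Ω[A⁄R]), dE (dE x) = 0)

/-- the degreewise differential. -/
noncomputable def dDeg (p : ℕ) : ↥(⋀[A]^p (Ω[A⁄R])) →ₗ[R] ↥(⋀[A]^(p + 1) (Ω[A⁄R])) where
  toFun x := ⟨dE x.1, hdeg p x.1 x.2⟩
  map_add' x y := by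
    apply Subtype.ext
    change dE ((x + y : ↥(⋀[A]^p (Ω[A⁄R]))) : ExteriorAlgebra A (Ω[A⁄R])) = dE x.1 + dE y.1
    rw [Submodule.coe_add, map_add]
  map_smul' c x := by
    apply Subtype.ext
    change dE ((c • x : ↥(⋀[A]^p (Ω[A⁄R]))) : ExteriorAlgebra A (Ω[A⁄R])) = c • dE x.1
    rw [Submodule.coe_smul_of_tower, map_smul]

lemma dDeg_coe (p : ℕ) (x : ↥(⋀[A]^p (Ω[A⁄R]))) :
    ((dDeg dE hdeg p x : ↥(⋀[A]^(p + 1) (Ω[A⁄R]))) : ExteriorAlgebra A (Ω[A⁄R])) = dE x.1 := rfl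

include h0 hdd in
lemma dE_ι_D (b : A) : dE (ExteriorAlgebra.ι A (KaehlerDifferential.D R A b)) = 0 := by
  rw [← h0, hdd]

lemma ι_mem_one (m : Ω[A⁄R]) : ExteriorAlgebra.ι A m ∈ ⋀[A]^1 (Ω[A⁄R]) := by
  change _ ∈ LinearMap.range (ExteriorAlgebra.ι A) ^ 1
  rw [pow_one]
  exact LinearMap.mem_range_self _ _

lemma algebraMap_mem_zero (a : A) :
    algebraMap A (ExteriorAlgebra A (Ω[A⁄R])) a ∈ ⋀[A]^0 (Ω[A⁄R]) := by
  change _ ∈ LinearMap.range (ExteriorAlgebra.ι A) ^ 0
  rw [pow_zero]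
  exact Submodule.algebraMap_mem a

include h0 hder hdd in
lemma dE_ιMulti_D (p : ℕ) (b : Fin p → A) :
    dE (ExteriorAlgebra.ιMulti A p (fun i => KaehlerDifferential.D R A (b i))) = 0 := by
  induction p with
  | zero =>
    rw [ExteriorAlgebra.ιMulti_zero_apply, ← map_one (algebraMap A (ExteriorAlgebra A (Ω[A⁄R]))),
      h0, Derivation.map_one_eq_zero, map_zero]
  | succ p ih =>
    rw [ExteriorAlgebra.ιMulti_succ_apply, hder 1 _ _ (ι_mem_one _), dE_ι_D dE h0 hdd, zero_mul,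
      zero_add]
    have : Matrix.vecTail (fun i => KaehlerDifferential.D R A (b i)) =
        fun i => KaehlerDifferential.D R A (b (Fin.succ i)) := rfl
    rw [this, ih, mul_zero]

include h0 hder hdd in
lemma dDeg_rule : DeRham.IsRule (KaehlerDifferential.D R A) (dDeg dE hdeg) := by
  intro p b₀ b
  apply Subtype.ext
  rw [dDeg_coe, exteriorPower.ιMulti_apply_coe]
  unfold DeRham.gen
  rw [Submodule.coe_smul, exteriorPower.ιMulti_apply_coe, Algebra.smul_def,
    hder 0 _ _ (algebraMap_mem_zero _), h0, dE_ιMulti_D dE h0 hder hdd, mul_zero, add_zero,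
    ExteriorAlgebra.ιMulti_succ_apply]
  rfl

include h0 hder hdd in
lemma dDeg_isDiff : DeRham.IsDiff (KaehlerDifferential.D R A) (dDeg dE hdeg) :=
  ⟨dDeg_rule dE h0 hdeg hder hdd, fun p => LinearMap.ext fun x => Subtype.ext (hdd x.1)⟩

end

section
open CategoryTheory AlgebraicGeometry exteriorPower
variable {R A : Type u} [CommRing R] [CommRing A] [Algebra R A]
  {d : ∀ p : ℕ, ↥(⋀[A]^p (Ω[A⁄R])) →ₗ[R] ↥(⋀[A]^(p + 1) (Ω[A⁄R]))}
  (hd : DeRham.IsDiff (KaehlerDifferential.D R A) d)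

lemma cx_d (p : ℕ) : (DeRham.cx hd).d p (p + 1) = ModuleCat.ofHom (d p) :=
  CochainComplex.of_d (fun p => ModuleCat.of R ↥(⋀[A]^p (Ω[A⁄R]))) (fun p => ModuleCat.ofHom (d p)) p

lemma subsingleton_H_succ (p : ℕ)
    (hex : ∀ x : ↥(⋀[A]^(p + 1) (Ω[A⁄R])), d (p + 1) x = 0 → ∃ y, d p y = x) :
    Subsingleton ↑(DeRham.H hd (p + 1)) := by
  have hE : (DeRham.cx hd).ExactAt (p + 1) := by
    rw [HomologicalComplex.exactAt_iff' _ p (p + 1) (p + 1 + 1) (CochainComplex.prev_nat_succ p)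
      (CochainComplex.next ℕ (p + 1)), ShortComplex.moduleCat_exact_iff]
    intro x hx
    change ((DeRham.cx hd).d (p + 1) (p + 1 + 1)) x = 0 at hx
    rw [cx_d] at hx
    obtain ⟨y, hy⟩ := hex x hx
    refine ⟨y, ?_⟩
    change ((DeRham.cx hd).d p (p + 1)) y = x
    rw [cx_d]
    exact hy
  exact ModuleCat.subsingleton_of_isZero hE.isZero_homology

lemma nonempty_H_zero_equiv {K : Type u} [AddCommGroup K] (e : ↥(LinearMap.ker (d 0)) ≃+ K) :
    Nonempty (↑(DeRham.H hd 0) ≃+ K) := by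
  have h00 : (DeRham.cx hd).d 0 0 = 0 := (DeRham.cx hd).shape _ _ (by simp)
  let e1 : (DeRham.cx hd).cycles 0 ≅ (DeRham.cx hd).homology 0 :=
    (DeRham.cx hd).isoHomologyπ 0 0 CochainComplex.prev_nat_zero h00
  have hk := (DeRham.cx hd).cyclesIsKernel 0 1 (by simp)
  let e2 : (DeRham.cx hd).cycles 0 ≅ ModuleCat.of R (LinearMap.ker ((DeRham.cx hd).d 0 1).hom) :=
    Limits.IsLimit.conePointUniqueUpToIso hk (ModuleCat.kernelIsLimit ((DeRham.cx hd).d 0 1))
  have hker : LinearMap.ker ((DeRham.cx hd).d 0 1).hom = LinearMap.ker (d 0) := by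
    rw [cx_d]
    rfl
  let e3 : ↥(LinearMap.ker ((DeRham.cx hd).d 0 1).hom) ≃ₗ[R] ↥(LinearMap.ker (d 0)) :=
    LinearEquiv.ofEq _ _ hker
  let e4 : ↑((DeRham.cx hd).homology 0) ≃ₗ[R] ↥(LinearMap.ker ((DeRham.cx hd).d 0 1).hom) :=
    (e1.symm ≪≫ e2).toLinearEquiv
  exact ⟨(e4.toAddEquiv.trans e3.toAddEquiv).trans e⟩

end

section
open CategoryTheory AlgebraicGeometry exteriorPower
variable {k : Type u} [Field k] {n : ℕ}
  (dE : ExteriorAlgebra (MvPolynomial (Fin n) k) (Ω[MvPolynomial (Fin n) k⁄k]) →ₗ[k]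
    ExteriorAlgebra (MvPolynomial (Fin n) k) (Ω[MvPolynomial (Fin n) k⁄k]))
  (h0 : ∀ a : MvPolynomial (Fin n) k, dE (algebraMap (MvPolynomial (Fin n) k)
    (ExteriorAlgebra (MvPolynomial (Fin n) k) (Ω[MvPolynomial (Fin n) k⁄k])) a) =
    ExteriorAlgebra.ι (MvPolynomial (Fin n) k) (KaehlerDifferential.D k (MvPolynomial (Fin n) k) a))
  (hdeg : ∀ (p : ℕ) (x : ExteriorAlgebra (MvPolynomial (Fin n) k) (Ω[MvPolynomial (Fin n) k⁄k])),
    x ∈ ⋀[MvPolynomial (Fin n) k]^p (Ω[MvPolynomial (Fin n) k⁄k]) →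
    dE x ∈ ⋀[MvPolynomial (Fin n) k]^(p + 1) (Ω[MvPolynomial (Fin n) k⁄k]))

lemma coe_eq_algebraMap_zeroEquiv {A M : Type*} [CommRing A] [AddCommGroup M] [Module A M]
    (y : ↥(⋀[A]^0 M)) :
    (y : ExteriorAlgebra A M) = algebraMap A (ExteriorAlgebra A M) (zeroEquiv A M y) := by
  obtain ⟨r, rfl⟩ := (zeroEquiv A M).symm.surjective y
  rw [LinearEquiv.apply_symm_apply, zeroEquiv_symm_apply, Submodule.coe_smul,
    exteriorPower.ιMulti_apply_coe, ExteriorAlgebra.ιMulti_zero_apply, Algebra.smul_def, mul_one]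

include h0 in
lemma nonempty_kerEquiv
    (hC : ∀ a : MvPolynomial (Fin n) k, dE (algebraMap (MvPolynomial (Fin n) k)
      (ExteriorAlgebra (MvPolynomial (Fin n) k) (Ω[MvPolynomial (Fin n) k⁄k])) a) = 0 →
      ∃ c : k, a = MvPolynomial.C c) :
    Nonempty (↥(LinearMap.ker (dDeg dE hdeg 0)) ≃+ k) := by
  have hmem : ∀ c : k, (zeroEquiv (MvPolynomial (Fin n) k) (Ω[MvPolynomial (Fin n) k⁄k])).symm
      (MvPolynomial.C c) ∈ LinearMap.ker (dDeg dE hdeg 0) := by
    intro c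
    rw [LinearMap.mem_ker]
    apply Subtype.ext
    rw [dDeg_coe, coe_eq_algebraMap_zeroEquiv, LinearEquiv.apply_symm_apply, h0]
    have : KaehlerDifferential.D k (MvPolynomial (Fin n) k) (MvPolynomial.C c) = 0 :=
      (KaehlerDifferential.D k (MvPolynomial (Fin n) k)).map_algebraMap c
    rw [this, map_zero]
    rfl
  have hconst : ∀ x : ↥(LinearMap.ker (dDeg dE hdeg 0)),
      ∃ c : k, zeroEquiv (MvPolynomial (Fin n) k) (Ω[MvPolynomial (Fin n) k⁄k]) x.1 =
        MvPolynomial.C c := by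
    intro x
    apply hC
    have hx := congrArg Subtype.val (LinearMap.mem_ker.1 x.2)
    rw [dDeg_coe, coe_eq_algebraMap_zeroEquiv] at hx
    exact hx
  refine ⟨{ toFun := fun x => MvPolynomial.coeff 0
              (zeroEquiv (MvPolynomial (Fin n) k) (Ω[MvPolynomial (Fin n) k⁄k]) x.1)
            invFun := fun c => ⟨_, hmem c⟩
            left_inv := ?_
            right_inv := ?_
            map_add' := ?_ }⟩
  · intro x
    obtain ⟨c, hc⟩ := hconst x
    apply Subtype.ext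
    change (zeroEquiv _ _).symm (MvPolynomial.C (MvPolynomial.coeff 0 (zeroEquiv _ _ x.1))) = x.1
    rw [hc, MvPolynomial.coeff_zero_C, ← hc, LinearEquiv.symm_apply_apply]
  · intro c
    change MvPolynomial.coeff 0 (zeroEquiv _ _ ((zeroEquiv _ _).symm (MvPolynomial.C c))) = c
    rw [LinearEquiv.apply_symm_apply, MvPolynomial.coeff_zero_C]
  · intro x y
    change MvPolynomial.coeff 0 (zeroEquiv _ _ ((x + y : ↥(LinearMap.ker (dDeg dE hdeg 0))) :
      ↥(⋀[MvPolynomial (Fin n) k]^0 (Ω[MvPolynomial (Fin n) k⁄k])))) = _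
    rw [Submodule.coe_add, map_add, MvPolynomial.coeff_add]

end

open CategoryTheory AlgebraicGeometry TopologicalSpace in
/-- Let k be a field of characteristic zero and n ≥ 0. Then the algebraic de Rham cohomology of affine
n-space Spec k[x_1, …, x_n] over k, the hypercohomology of its de Rham complex, vanishes in every
degree i ≠ 0, and in degree 0 it is additively isomorphic to k (existence of an additive
isomorphism; the identification of H^0 with the constants is canonical). (The published computation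
also gives the de Rham homology of affine space; this row is the cohomology statement, for any de
Rham complex of affine n-space over k.) -/
theorem result (k : Type u) [Field k] [CharZero k] (n : ℕ)
    [QuasiSeparated (Spec.map (CommRingCat.ofHom (algebraMap k (MvPolynomial (Fin n) k))))]
    (D : DeRhamSh.OmegaCx (Spec.map (CommRingCat.ofHom (algebraMap k (MvPolynomial (Fin n) k)))))
    [HasDerivedCategory.{u} (Sheaf (Opens.grothendieckTopology ↥(Spec (CommRingCat.of (MvPolynomial (Fin n) k)))) AddCommGrpCat.{u})] :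
    (∀ i : ℤ, i ≠ 0 → Subsingleton (DeRhamSh.HdR D i)) ∧ Nonempty (DeRhamSh.HdR D 0 ≃+ k) := by
  classical
  obtain ⟨dE, ⟨h0, hdeg, hder, hdd⟩, -⟩ := Groth.Agent.S7778.result k (MvPolynomial (Fin n) k)
  obtain ⟨hC, hP⟩ := Groth.Agent.S15299.result k n dE h0 hdeg hder hdd
  have hd := dDeg_isDiff dE h0 hdeg hder hdd
  have hsucc : ∀ p : ℕ, Subsingleton (DeRhamSh.HdR D ((p + 1 : ℕ) : ℤ)) := by
    intro p
    obtain ⟨E⟩ := Groth.Agent.S15527.result k (MvPolynomial (Fin n) k) D (dDeg dE hdeg) hd (p + 1)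
    haveI := subsingleton_H_succ hd p (by
      intro x hx
      obtain ⟨θ, hθ, hθx⟩ := hP p x.1 x.2 (congrArg Subtype.val hx)
      exact ⟨⟨θ, hθ⟩, Subtype.ext hθx⟩)
    exact E.toEquiv.subsingleton
  refine ⟨?_, ?_⟩
  · intro i hi
    rcases lt_trichotomy i 0 with hneg | h0' | hpos
    · -- negative degrees
      haveI qΩ : (Omega.sheaf (Groth.Agent.S15527.fRA k (MvPolynomial (Fin n) k))).IsQuasicoherent :=
        Groth.Agent.Lib.Helper17.PbStalk.isQuasicoherent_pullback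
          (Limits.pullback.diagonal (Groth.Agent.S15527.fRA k (MvPolynomial (Fin n) k)))
          (ClSub.idealMod (Limits.pullback.diagonal
            (Groth.Agent.S15527.fRA k (MvPolynomial (Fin n) k))).ker)
      have hq : ∀ p, (D.term p).IsQuasicoherent := fun p =>
        Groth.Agent.Lib.Helper17.ExtPowCoh.isQuasicoherent_of_isExtPow (D.isExtPow p)
      have hac : ∀ (i : ℤ) (q : ℕ), Subsingleton (CohTop.HU (D.KZ.X i) (q + 1) ⊤) := by
        intro i q
        by_cases hi : ∃ p : ℕ, ComplexShape.embeddingUpNat.f p = i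
        · obtain ⟨p, rfl⟩ := hi
          have e1 : D.KZ.X (ComplexShape.embeddingUpNat.f p) ≅ Coh.toAb (D.term p) :=
            (D.K.extendXIso ComplexShape.embeddingUpNat rfl) ≪≫ D.iso p
          haveI := hq p
          have h := Groth.Agent.Lib.Helper13.AffineVanish.subsingleton_HU_of_isAffineOpen (D.term p)
            (isAffineOpen_top (Spec (CommRingCat.of (MvPolynomial (Fin n) k)))) q
          exact Groth.Agent.S15527.subsingleton_ext_of_iso e1 (q + 1) h
        · have hz : Limits.IsZero (D.KZ.X i) :=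
            D.K.isZero_extend_X ComplexShape.embeddingUpNat i (fun p hp => hi ⟨p, hp⟩)
          exact Groth.Agent.S15527.subsingleton_ext_of_isZero hz (q + 1)
      have hnegz : ∀ i : ℤ, i < 0 → Limits.IsZero (D.KZ.X i) := fun i hi =>
        D.K.isZero_extend_X ComplexShape.embeddingUpNat i (fun p hp => by
          have : (p : ℤ) = i := hp
          omega)
      obtain ⟨E1⟩ := Groth.Agent.Lib.Helper5.AcycHDU.nonempty_sectH_equiv_HDU D.KZ 0 hnegz ⊤ hac i
      have hz : Limits.IsZero (((CohCx.sectCx (Opens.grothendieckTopology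
          ↥(Spec (CommRingCat.of (MvPolynomial (Fin n) k)))) ⊤).obj D.KZ).X i) :=
        (Groth.Agent.Lib.Helper5.AcycSect.ΓV
          (⊤ : Opens ↥(Spec (CommRingCat.of (MvPolynomial (Fin n) k))))).map_isZero (hnegz i hneg)
      have hE : ((CohCx.sectCx (Opens.grothendieckTopology
          ↥(Spec (CommRingCat.of (MvPolynomial (Fin n) k)))) ⊤).obj D.KZ).ExactAt i :=
        ShortComplex.exact_of_isZero_X₂ _ hz
      haveI : Subsingleton ↑(((CohCx.sectCx (Opens.grothendieckTopology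
          ↥(Spec (CommRingCat.of (MvPolynomial (Fin n) k)))) ⊤).obj D.KZ).homology i) :=
        AddCommGrpCat.subsingleton_of_isZero hE.isZero_homology
      exact E1.symm.toEquiv.subsingleton
    · exact absurd h0' hi
    · obtain ⟨p, rfl⟩ : ∃ p : ℕ, i = ((p + 1 : ℕ) : ℤ) := ⟨(i - 1).toNat, by omega⟩
      exact hsucc p
  · obtain ⟨E⟩ := Groth.Agent.S15527.result k (MvPolynomial (Fin n) k) D (dDeg dE hdeg) hd 0
    obtain ⟨e⟩ := nonempty_kerEquiv dE h0 hdeg hC
    obtain ⟨E'⟩ := nonempty_H_zero_equiv hd e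
    exact ⟨E.trans E'⟩

end Groth.Agent.S15311
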