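import Groth.Statements.S15315
-- import your own Groth.Agent.* helpers here
import Mathlib

set_option autoImplicit false
universe u
open ArLef

namespace Groth.Agent.S15315

/-- For a Noetherian commutative ring A, elements a, b with a a non-zero-divisor on A/(b), and an ideal
I, one has length(A/(aI + bA)) = length(A/(a, b)) + length(A/(I + bA)) as extended natural numbers;
in particular when two of the three quotients have finite length so does the third. -/
theorem result (A : Type u) [CommRing A] [IsNoetherianRing A] (a b : A) (I : Ideal A)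
    (ha : IsSMulRegular (A ⧸ Ideal.span ({b} : Set A)) a) :
    Module.length A (A ⧸ (Ideal.span {a} * I ⊔ Ideal.span {b})) =
      Module.length A (A ⧸ Ideal.span ({a, b} : Set A)) + Module.length A (A ⧸ (I ⊔ Ideal.span {b})) := by
  set J₁ : Ideal A := I ⊔ Ideal.span {b} with hJ₁
  set J₂ : Ideal A := Ideal.span {a} * I ⊔ Ideal.span {b} with hJ₂
  set J₃ : Ideal A := Ideal.span ({a, b} : Set A) with hJ₃
  have hb₂ : b ∈ J₂ := Ideal.mem_sup_right (Ideal.mem_span_singleton_self b)
  have h12 : J₁ ≤ Submodule.comap (LinearMap.lsmul A A a) J₂ := by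
    intro x hx
    obtain ⟨i, hi, z, hz, rfl⟩ := Submodule.mem_sup.mp hx
    obtain ⟨c, rfl⟩ := Ideal.mem_span_singleton'.mp hz
    show a • (i + c * b) ∈ J₂
    have : a • (i + c * b) = a * i + (a * c) * b := by simp [smul_eq_mul]; ring
    rw [this]
    exact J₂.add_mem (Ideal.mem_sup_left (Ideal.mul_mem_mul (Ideal.mem_span_singleton_self a) hi))
      (J₂.mul_mem_left _ hb₂)
  have h23 : J₂ ≤ Submodule.comap (LinearMap.id : A →ₗ[A] A) J₃ := by
    intro x hx
    obtain ⟨y, hy, z, hz, rfl⟩ := Submodule.mem_sup.mp hx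
    obtain ⟨i, hi, rfl⟩ := Ideal.mem_span_singleton_mul.mp hy
    obtain ⟨c, rfl⟩ := Ideal.mem_span_singleton'.mp hz
    show a * i + c * b ∈ J₃
    exact Ideal.mem_span_pair.mpr ⟨i, c, by ring⟩
  let f : (A ⧸ J₁) →ₗ[A] (A ⧸ J₂) := Submodule.mapQ J₁ J₂ (LinearMap.lsmul A A a) h12
  let g : (A ⧸ J₂) →ₗ[A] (A ⧸ J₃) := Submodule.mapQ J₂ J₃ LinearMap.id h23
  have hf : Function.Injective f := by
    rw [← LinearMap.ker_eq_bot, LinearMap.ker_eq_bot']
    intro x hx
    obtain ⟨x, rfl⟩ := Submodule.Quotient.mk_surjective _ x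
    have h1 : a * x ∈ J₂ := by
      have : f (Submodule.Quotient.mk x) = Submodule.Quotient.mk (a • x) := rfl
      rw [this, Submodule.Quotient.mk_eq_zero] at hx
      exact hx
    obtain ⟨y, hy, z, hz, hyz⟩ := Submodule.mem_sup.mp h1
    obtain ⟨i, hi, rfl⟩ := Ideal.mem_span_singleton_mul.mp hy
    have h2 : a * (x - i) ∈ Ideal.span ({b} : Set A) := by
      have : a * (x - i) = z := by rw [mul_sub, ← hyz]; ring
      rw [this]; exact hz
    have h3 : (Ideal.Quotient.mk (Ideal.span ({b} : Set A)) (x - i)) = 0 := by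
      apply ha
      show a • (Ideal.Quotient.mk (Ideal.span ({b} : Set A)) (x - i)) = a • 0
      rw [smul_zero]
      have : a • (Ideal.Quotient.mk (Ideal.span ({b} : Set A)) (x - i)) =
          Ideal.Quotient.mk (Ideal.span ({b} : Set A)) (a * (x - i)) := rfl
      rw [this]
      exact Ideal.Quotient.eq_zero_iff_mem.mpr h2
    have h4 : x - i ∈ Ideal.span ({b} : Set A) := Ideal.Quotient.eq_zero_iff_mem.mp h3
    rw [Submodule.Quotient.mk_eq_zero]
    have : x = i + (x - i) := by ring
    rw [this]
    exact J₁.add_mem (Ideal.mem_sup_left hi) (Ideal.mem_sup_right h4)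
  have hg : Function.Surjective g := by
    intro y
    obtain ⟨y, rfl⟩ := Submodule.Quotient.mk_surjective _ y
    exact ⟨Submodule.Quotient.mk y, rfl⟩
  have H : Function.Exact f g := by
    intro y
    obtain ⟨y, rfl⟩ := Submodule.Quotient.mk_surjective _ y
    have hgy : g (Submodule.Quotient.mk y) = Submodule.Quotient.mk y := rfl
    rw [hgy, Submodule.Quotient.mk_eq_zero]
    constructor
    · intro hy
      obtain ⟨c, e, rfl⟩ := Ideal.mem_span_pair.mp hy
      refine ⟨Submodule.Quotient.mk c, ?_⟩
      have : f (Submodule.Quotient.mk c) = Submodule.Quotient.mk (a • c) := rfl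
      rw [this, Submodule.Quotient.eq]
      have : a • c - (c * a + e * b) = (-e) * b := by simp [smul_eq_mul]; ring
      rw [this]
      exact J₂.mul_mem_left _ hb₂
    · rintro ⟨x, hx⟩
      obtain ⟨x, rfl⟩ := Submodule.Quotient.mk_surjective _ x
      have : f (Submodule.Quotient.mk x) = Submodule.Quotient.mk (a • x) := rfl
      rw [this, Submodule.Quotient.eq] at hx
      have h5 : a • x - y ∈ J₃ := h23 hx
      have h6 : a • x ∈ J₃ := by
        rw [smul_eq_mul]
        exact Ideal.mem_span_pair.mpr ⟨x, 0, by ring⟩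
      have : y = a • x - (a • x - y) := by ring
      rw [this]
      exact J₃.sub_mem h6 h5
  rw [Module.length_eq_add_of_exact f g hf hg H, add_comm]

end Groth.Agent.S15315
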