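import Groth.Statements.S15316
import Groth.Agent.Lib.Lead.NodeB

set_option autoImplicit false
universe u
open ArLef ArLef.NodeAlg

namespace Groth.Agent.S15316

open Groth.Agent.Lib.Lead.NodeB

section work

variable {B : Type u} [CommRing B] [IsDomain B] [IsDiscreteValuationRing B] (π : B)
  (hπ : Irreducible π)

local notation "NN" => ArLef.NodeAlg B π
local notation "𝔱" => ArLef.NodeAlg.t π
local notation "𝔢" => ArLef.NodeAlg.e π
local notation "ι" => algebraMap B (ArLef.NodeAlg B π)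

include hπ

theorem main (σ : NN ≃+* NN) (hσ : Associated (σ (ι π)) (ι π)) :
    (∃ α β : (NN)ˣ, σ 𝔱 = (α : NN) * 𝔱 ∧ σ 𝔢 = (β : NN) * 𝔢) ∨
      (∃ α β : (NN)ˣ, σ 𝔱 = (α : NN) * 𝔢 ∧ σ 𝔢 = (β : NN) * 𝔱) := by
  have hte := t_mul_e π
  have hpt := prime_t π hπ
  have hpe := prime_e π hπ
  have hT : Prime (σ 𝔱) := (MulEquiv.prime_iff σ).mpr hpt
  have hE : Prime (σ 𝔢) := (MulEquiv.prime_iff σ).mpr hpe
  obtain ⟨u, hu⟩ := hσ
  have hprod : σ 𝔱 * σ 𝔢 * u = 𝔱 * 𝔢 := by rw [← map_mul, hte]; exact hu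
  have hTdvd : σ 𝔱 ∣ 𝔱 * 𝔢 := ⟨σ 𝔢 * u, by rw [← hprod]; ring⟩
  have hEdvd : σ 𝔢 ∣ 𝔱 * 𝔢 := ⟨σ 𝔱 * u, by rw [← hprod]; ring⟩
  have treg := t_regular π hπ
  have ereg := e_regular π hπ
  rcases hT.dvd_or_dvd hTdvd with h1 | h1
  · obtain ⟨w, hw⟩ := assoc_of_prime_dvd hT hpt treg h1
    rcases hE.dvd_or_dvd hEdvd with h2 | h2
    · exfalso
      obtain ⟨w', hw'⟩ := assoc_of_prime_dvd hE hpt treg h2
      have h3 : 𝔱 * ((w : NN) * w' * u * 𝔱 - 𝔢) = 0 := by
        rw [hw, hw'] at hprod; linear_combination hprod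
      have h4 := sub_eq_zero.mp (treg _ h3)
      exact t_not_dvd_e π hπ ⟨(w : NN) * w' * u, by rw [← h4]; ring⟩
    · obtain ⟨w', hw'⟩ := assoc_of_prime_dvd hE hpe ereg h2
      exact Or.inl ⟨w, w', hw, hw'⟩
  · obtain ⟨w, hw⟩ := assoc_of_prime_dvd hT hpe ereg h1
    rcases hE.dvd_or_dvd hEdvd with h2 | h2
    · obtain ⟨w', hw'⟩ := assoc_of_prime_dvd hE hpt treg h2
      exact Or.inr ⟨w, w', hw, hw'⟩
    · exfalso
      obtain ⟨w', hw'⟩ := assoc_of_prime_dvd hE hpe ereg h2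
      have h3 : 𝔢 * ((w : NN) * w' * u * 𝔢 - 𝔱) = 0 := by
        rw [hw, hw'] at hprod; linear_combination hprod
      have h4 := sub_eq_zero.mp (ereg _ h3)
      exact e_not_dvd_t π hπ ⟨(w : NN) * w' * u, by rw [← h4]; ring⟩

end work

/-- Let B be a discrete valuation ring with uniformizer π and N = B[[t, e]]/(te - π) the complete local
ring of a semi-stable arithmetic surface at a singular point of the closed fibre. A ring
automorphism σ of N with σ(π) associated to π (for instance a B-algebra automorphism, or one lying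
over an automorphism of B) either stabilizes the two branches, σ(t) = α t and σ(e) = β e for units
α, β, or switches them, σ(t) = α e and σ(e) = β t for units α, β. (The published setting has B
complete with algebraically closed residue field and σ linear over B or over an automorphism of B;
the argument uses only that σ(π) generates (π).) -/
theorem result (B : Type u) [CommRing B] [IsDomain B] [IsDiscreteValuationRing B] (π : B) (hπ : Irreducible π)
    (σ : ArLef.NodeAlg B π ≃+* ArLef.NodeAlg B π)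
    (hσ : Associated (σ (algebraMap B (ArLef.NodeAlg B π) π)) (algebraMap B (ArLef.NodeAlg B π) π)) :
    (∃ α β : (ArLef.NodeAlg B π)ˣ, σ (ArLef.NodeAlg.t π) = (α : ArLef.NodeAlg B π) * ArLef.NodeAlg.t π ∧ σ (ArLef.NodeAlg.e π) = (β : ArLef.NodeAlg B π) * ArLef.NodeAlg.e π) ∨
      (∃ α β : (ArLef.NodeAlg B π)ˣ, σ (ArLef.NodeAlg.t π) = (α : ArLef.NodeAlg B π) * ArLef.NodeAlg.e π ∧ σ (ArLef.NodeAlg.e π) = (β : ArLef.NodeAlg B π) * ArLef.NodeAlg.t π) := by
  exact main π hπ σ hσ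

end Groth.Agent.S15316
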