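import Groth.Statements.S15317
import Groth.Agent.Lib.Lead.NodeB

set_option autoImplicit false
universe u
open ArLef ArLef.NodeAlg

namespace Groth.Agent.S15317

open Groth.Agent.Lib.Lead.NodeB

section work

variable {B : Type u} [CommRing B] [IsDomain B] [IsDiscreteValuationRing B] (π : B)
  (hπ : Irreducible π)

local notation "NN" => ArLef.NodeAlg B π
local notation "𝔱" => ArLef.NodeAlg.t π
local notation "𝔢" => ArLef.NodeAlg.e π
local notation "ι" => algebraMap B (ArLef.NodeAlg B π)

include hπ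

theorem main (σ : NN ≃ₐ[B] NN) (hσ : σ ≠ AlgEquiv.refl)
    (ht : Associated (σ 𝔱) 𝔱) (he : Associated (σ 𝔢) 𝔢) :
    ∃ g : NN, g ≠ 0 ∧ ArLef.fixIdeal σ = Ideal.span {g} * Ideal.span ({𝔱, 𝔢} : Set NN) := by
  obtain ⟨α, hT⟩ : ∃ α : (NN)ˣ, σ 𝔱 = (α : NN) * 𝔱 := by
    obtain ⟨u, hu⟩ := ht
    exact ⟨u⁻¹, ((Units.eq_mul_inv_iff_mul_eq u).mpr hu).trans (mul_comm _ _)⟩
  obtain ⟨β, hE⟩ : ∃ β : (NN)ˣ, σ 𝔢 = (β : NN) * 𝔢 := by
    obtain ⟨u, hu⟩ := he
    exact ⟨u⁻¹, ((Units.eq_mul_inv_iff_mul_eq u).mpr hu).trans (mul_comm _ _)⟩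
  have hte := t_mul_e π
  have hαβ : (α : NN) * β = 1 := by
    have h1 : ι π * ((α : NN) * β - 1) = 0 := by
      have h2 : σ 𝔱 * σ 𝔢 = ι π := by rw [← map_mul, hte, σ.commutes]
      rw [hT, hE, ← hte] at h2
      rw [← hte]
      linear_combination h2
    exact sub_eq_zero.mp (pi_regular π hπ _ h1)
  have hF : ArLef.fixIdeal σ = Ideal.span {((α : NN) - 1) * 𝔱, ((β : NN) - 1) * 𝔢} := by
    apply le_antisymm
    · apply fixIdeal_le π hπ σ
      · intro c; rw [σ.commutes, sub_self]; exact Ideal.zero_mem _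
      · have : σ 𝔱 - 𝔱 = ((α : NN) - 1) * 𝔱 := by rw [hT]; ring
        rw [this]; exact Ideal.subset_span (by simp)
      · have : σ 𝔢 - 𝔢 = ((β : NN) - 1) * 𝔢 := by rw [hE]; ring
        rw [this]; exact Ideal.subset_span (by simp)
    · rw [Ideal.span_le]
      intro x hx
      simp only [Set.mem_insert_iff, Set.mem_singleton_iff] at hx
      rcases hx with rfl | rfl
      · have : ((α : NN) - 1) * 𝔱 = σ 𝔱 - 𝔱 := by rw [hT]; ring
        rw [this]; exact mem_fixIdeal σ _
      · have : ((β : NN) - 1) * 𝔢 = σ 𝔢 - 𝔢 := by rw [hE]; ring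
        rw [this]; exact mem_fixIdeal σ _
  have hb : (β : NN) - 1 = -(β : NN) * ((α : NN) - 1) := by linear_combination hαβ
  refine ⟨(α : NN) - 1, ?_, ?_⟩
  · intro hg
    apply hσ
    have hbot : ArLef.fixIdeal σ = ⊥ := by
      rw [hF, hb, hg, mul_zero, zero_mul, zero_mul]
      simp
    apply AlgEquiv.ext
    intro r
    have h1 := mem_fixIdeal σ r
    rw [hbot, Ideal.mem_bot] at h1
    exact sub_eq_zero.mp h1
  · rw [hF]
    apply le_antisymm
    · rw [Ideal.span_le]
      intro x hx
      simp only [Set.mem_insert_iff, Set.mem_singleton_iff] at hx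
      rcases hx with rfl | rfl
      · exact Ideal.mul_mem_mul (Ideal.mem_span_singleton_self _) (Ideal.subset_span (by simp))
      · rw [hb]
        have : -(β : NN) * ((α : NN) - 1) * 𝔢 = -(β : NN) * (((α : NN) - 1) * 𝔢) := by ring
        rw [this]
        exact Ideal.mul_mem_left _ _
          (Ideal.mul_mem_mul (Ideal.mem_span_singleton_self _) (Ideal.subset_span (by simp)))
    · rw [Ideal.mul_le]
      intro r hr s hs
      obtain ⟨r', rfl⟩ := Ideal.mem_span_singleton'.mp hr
      obtain ⟨s1, s2, rfl⟩ := Ideal.mem_span_pair.mp hs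
      have hge : ((α : NN) - 1) * 𝔢 = -(α : NN) * (((β : NN) - 1) * 𝔢) := by
        rw [hb]; linear_combination (-(((α : NN) - 1) * 𝔢)) * hαβ
      have : r' * ((α : NN) - 1) * (s1 * 𝔱 + s2 * 𝔢) =
          (r' * s1) * (((α : NN) - 1) * 𝔱) + (r' * s2) * (((α : NN) - 1) * 𝔢) := by ring
      rw [this, hge]
      exact Ideal.add_mem _ (Ideal.mul_mem_left _ _ (Ideal.subset_span (by simp)))
        (Ideal.mul_mem_left _ _ (Ideal.mul_mem_left _ _ (Ideal.subset_span (by simp))))

end work

/-- Let B be a discrete valuation ring with uniformizer π, N = B[[t, e]]/(te - π), and σ a non-trivial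
B-algebra automorphism of N stabilizing both branches of the closed fibre (σ(t) associated to t,
σ(e) associated to e). Then the fixed-point ideal of σ, generated by all σ(r) - r, is g·(t, e) for a
non-zero g: the divisorial part of the fixed locus is cut out by g and its residual part is the
reduced closed point, of multiplicity one. (Stated in the complete local ring, where the published
argument takes place; the published setting has B complete with algebraically closed residue field.) -/
theorem result (B : Type u) [CommRing B] [IsDomain B] [IsDiscreteValuationRing B] (π : B) (hπ : Irreducible π)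
    (σ : ArLef.NodeAlg B π ≃ₐ[B] ArLef.NodeAlg B π) (hσ : σ ≠ AlgEquiv.refl)
    (ht : Associated (σ (ArLef.NodeAlg.t π)) (ArLef.NodeAlg.t π))
    (he : Associated (σ (ArLef.NodeAlg.e π)) (ArLef.NodeAlg.e π)) :
    ∃ g : ArLef.NodeAlg B π, g ≠ 0 ∧
      ArLef.fixIdeal σ = Ideal.span {g} * Ideal.span ({ArLef.NodeAlg.t π, ArLef.NodeAlg.e π} : Set (ArLef.NodeAlg B π)) := by
  exact main π hπ σ hσ ht he

end Groth.Agent.S15317
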