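import Groth.Statements.S15318
import Groth.Agent.Lib.Lead.NodeB

set_option autoImplicit false
universe u
open ArLef ArLef.NodeAlg

namespace Groth.Agent.S15318

open Groth.Agent.Lib.Lead.NodeB

section work

variable {B : Type u} [CommRing B] [IsDomain B] [IsDiscreteValuationRing B] (π : B)
  (hπ : Irreducible π)

local notation "NN" => ArLef.NodeAlg B π
local notation "𝔱" => ArLef.NodeAlg.t π
local notation "𝔢" => ArLef.NodeAlg.e π
local notation "ι" => algebraMap B (ArLef.NodeAlg B π)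

include hπ

theorem main (σ : NN ≃ₐ[B] NN)
    (ht : Associated (σ 𝔱) 𝔢) (he : Associated (σ 𝔢) 𝔱) :
    ∃ h : NN, ArLef.fixIdeal σ = Ideal.span {h} ∧
      h ∉ (Ideal.span ({𝔱, 𝔢} : Set NN)) ^ 2 ∧
      IsSMulRegular (NN ⧸ Ideal.span ({h} : Set NN)) π := by
  obtain ⟨α, hT⟩ : ∃ α : (NN)ˣ, σ 𝔱 = (α : NN) * 𝔢 := by
    obtain ⟨u, hu⟩ := ht
    exact ⟨u⁻¹, ((Units.eq_mul_inv_iff_mul_eq u).mpr hu).trans (mul_comm _ _)⟩
  obtain ⟨β, hE⟩ : ∃ β : (NN)ˣ, σ 𝔢 = (β : NN) * 𝔱 := by
    obtain ⟨u, hu⟩ := he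
    exact ⟨u⁻¹, ((Units.eq_mul_inv_iff_mul_eq u).mpr hu).trans (mul_comm _ _)⟩
  have hte := t_mul_e π
  have hpt := prime_t π hπ
  have hpe := prime_e π hπ
  have treg := t_regular π hπ
  have ereg := e_regular π hπ
  have hαβ : (α : NN) * β = 1 := by
    have h1 : ι π * ((α : NN) * β - 1) = 0 := by
      have h2 : σ 𝔱 * σ 𝔢 = ι π := by rw [← map_mul, hte, σ.commutes]
      rw [hT, hE, ← hte] at h2
      rw [← hte]
      linear_combination h2
    exact sub_eq_zero.mp (pi_regular π hπ _ h1)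
  have hth : ¬ 𝔱 ∣ (α : NN) * 𝔢 - 𝔱 := by
    intro hd
    have h1 : 𝔱 ∣ (α : NN) * 𝔢 := by
      have := dvd_add hd (dvd_refl 𝔱)
      rwa [sub_add_cancel] at this
    rcases hpt.dvd_or_dvd h1 with h2 | h2
    · exact hpt.not_isUnit (isUnit_of_dvd_unit h2 α.isUnit)
    · exact t_not_dvd_e π hπ h2
  have heh : ¬ 𝔢 ∣ (α : NN) * 𝔢 - 𝔱 := by
    intro hd
    have h1 : 𝔢 ∣ 𝔱 := by
      have := dvd_sub (Dvd.intro_left (α : NN) rfl : 𝔢 ∣ (α : NN) * 𝔢) hd
      rwa [sub_sub_cancel] at this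
    exact e_not_dvd_t π hπ h1
  refine ⟨(α : NN) * 𝔢 - 𝔱, ?_, ?_, ?_⟩
  · apply le_antisymm
    · apply fixIdeal_le π hπ σ
      · intro c; rw [σ.commutes, sub_self]; exact Ideal.zero_mem _
      · rw [hT]; exact Ideal.mem_span_singleton_self _
      · have : σ 𝔢 - 𝔢 = -(β : NN) * ((α : NN) * 𝔢 - 𝔱) := by
          rw [hE]; linear_combination 𝔢 * hαβ
        rw [this]; exact Ideal.mul_mem_left _ _ (Ideal.mem_span_singleton_self _)
    · rw [Ideal.span_le, Set.singleton_subset_iff]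
      have : (α : NN) * 𝔢 - 𝔱 = σ 𝔱 - 𝔱 := by rw [hT]
      rw [this]; exact mem_fixIdeal σ _
  · intro hmem
    rw [pow_two] at hmem
    have hFG : (Ideal.span ({𝔱, 𝔢} : Set NN)).FG := IsNoetherian.noetherian _
    have hle : Ideal.span ({𝔱, 𝔢} : Set NN) ≤
        Ideal.span {𝔢} ⊔ Ideal.span ({𝔱, 𝔢} : Set NN) • Ideal.span ({𝔱, 𝔢} : Set NN) := by
      rw [Ideal.span_le]
      intro x hx
      simp only [Set.mem_insert_iff, Set.mem_singleton_iff] at hx
      rcases hx with rfl | rfl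
      · have h1 : (α : NN) * 𝔢 + (-1) * ((α : NN) * 𝔢 - 𝔱) ∈
            Ideal.span {𝔢} ⊔ Ideal.span ({𝔱, 𝔢} : Set NN) • Ideal.span ({𝔱, 𝔢} : Set NN) :=
          Submodule.add_mem _
            (Submodule.mem_sup_left (Ideal.mul_mem_left _ _ (Ideal.mem_span_singleton_self _)))
            (Submodule.mem_sup_right (Ideal.mul_mem_left _ _ hmem))
        have h2 : (α : NN) * 𝔢 + (-1) * ((α : NN) * 𝔢 - 𝔱) = 𝔱 := by ring
        rw [h2] at h1; exact h1
      · exact Submodule.mem_sup_left (Ideal.mem_span_singleton_self _)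
    have h3 := Submodule.le_of_le_smul_of_le_jacobson_bot hFG (span_te_le_jacobson π hπ) hle
    have h4 : 𝔱 ∈ Ideal.span ({𝔢} : Set NN) := h3 (Ideal.subset_span (by simp))
    exact e_not_dvd_t π hπ (Ideal.mem_span_singleton.mp h4)
  · have core : ∀ x : NN, ι π * x ∈ Ideal.span ({(α : NN) * 𝔢 - 𝔱} : Set NN) →
        x ∈ Ideal.span ({(α : NN) * 𝔢 - 𝔱} : Set NN) := by
      intro x hx
      obtain ⟨y, hy⟩ := Ideal.mem_span_singleton'.mp hx
      have h1 : 𝔱 ∣ y * ((α : NN) * 𝔢 - 𝔱) := ⟨𝔢 * x, by rw [hy, ← hte]; ring⟩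
      rcases hpt.dvd_or_dvd h1 with h2 | h2
      swap
      · exact absurd h2 hth
      obtain ⟨y1, rfl⟩ := h2
      have h3 : 𝔢 * x = y1 * ((α : NN) * 𝔢 - 𝔱) := by
        apply cancel_of_regular treg
        rw [← hte] at hy
        linear_combination (-1 : NN) * hy
      have h4 : 𝔢 ∣ y1 * ((α : NN) * 𝔢 - 𝔱) := ⟨x, h3.symm⟩
      rcases hpe.dvd_or_dvd h4 with h5 | h5
      swap
      · exact absurd h5 heh
      obtain ⟨y2, rfl⟩ := h5
      have h6 : x = y2 * ((α : NN) * 𝔢 - 𝔱) := by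
        apply cancel_of_regular ereg
        rw [h3]; ring
      rw [h6]; exact Ideal.mul_mem_left _ _ (Ideal.mem_span_singleton_self _)
    have key : ∀ x : NN, π • (Ideal.Quotient.mk (Ideal.span ({(α : NN) * 𝔢 - 𝔱} : Set NN)) x) =
        Ideal.Quotient.mk _ (ι π * x) := by
      intro x
      have h0 : π • x = ι π * x := Algebra.smul_def π x
      rw [← h0]; rfl
    intro z1 z2 hz
    obtain ⟨x1, rfl⟩ := Ideal.Quotient.mk_surjective z1
    obtain ⟨x2, rfl⟩ := Ideal.Quotient.mk_surjective z2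
    have hz' : Ideal.Quotient.mk (Ideal.span ({(α : NN) * 𝔢 - 𝔱} : Set NN)) (ι π * x1) =
        Ideal.Quotient.mk _ (ι π * x2) := by
      rw [← key, ← key]; exact hz
    rw [Ideal.Quotient.eq] at hz' ⊢
    apply core
    rw [mul_sub]; exact hz'

end work

/-- Let B be a discrete valuation ring with uniformizer π, N = B[[t, e]]/(te - π), and σ a B-algebra
automorphism of N switching the two branches of the closed fibre (σ(t) associated to e, σ(e)
associated to t). Then the fixed-point ideal of σ is principal, generated by an element h of order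
one (h is not in (t, e)²), and π is a non-zero-divisor modulo h: the fixed locus is a horizontal
regular divisor through the point with empty residual part. (Stated in the complete local ring,
where the published argument takes place; the published setting has B complete with algebraically
closed residue field.) -/
theorem result (B : Type u) [CommRing B] [IsDomain B] [IsDiscreteValuationRing B] (π : B) (hπ : Irreducible π)
    (σ : ArLef.NodeAlg B π ≃ₐ[B] ArLef.NodeAlg B π)
    (ht : Associated (σ (ArLef.NodeAlg.t π)) (ArLef.NodeAlg.e π))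
    (he : Associated (σ (ArLef.NodeAlg.e π)) (ArLef.NodeAlg.t π)) :
    ∃ h : ArLef.NodeAlg B π, ArLef.fixIdeal σ = Ideal.span {h} ∧
      h ∉ (Ideal.span ({ArLef.NodeAlg.t π, ArLef.NodeAlg.e π} : Set (ArLef.NodeAlg B π))) ^ 2 ∧
      IsSMulRegular (ArLef.NodeAlg B π ⧸ Ideal.span ({h} : Set (ArLef.NodeAlg B π))) π := by
  exact main π hπ σ ht he

end Groth.Agent.S15318
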