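import Groth.Statements.S15319
import Groth.Agent.Lib.Lead.NodeB

set_option autoImplicit false
universe u
open ArLef ArLef.NodeAlg

namespace Groth.Agent.S15319

/-- Let B be a discrete valuation ring with uniformizer π, N = B[[t, e]]/(te - π) the complete local
ring of a semi-stable arithmetic surface over B at a singular point of the closed fibre, and σ a
ring automorphism of N sending π to π + γ π^j with γ a unit of B and j ≥ 1 (σ lies over an
automorphism τ of B with v(τ(π) - π) = j). Then the fixed-point ideal of σ is not contained in (π^j)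
= (t^j e^j): the two branches through the point cannot both occur with multiplicity j in the
divisorial part of the fixed locus. (The published setting has B complete with algebraically closed
residue field.) -/
theorem result (B : Type u) [CommRing B] [IsDomain B] [IsDiscreteValuationRing B] (π : B) (hπ : Irreducible π)
    (j : ℕ) (hj : 1 ≤ j) (γ : B) (hγ : IsUnit γ)
    (σ : ArLef.NodeAlg B π ≃+* ArLef.NodeAlg B π)
    (hσ : σ (algebraMap B (ArLef.NodeAlg B π) π) = algebraMap B (ArLef.NodeAlg B π) (π + γ * π ^ j)) :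
    ¬ ArLef.fixIdeal σ ≤ Ideal.span ({algebraMap B (ArLef.NodeAlg B π) (π ^ j)} : Set (ArLef.NodeAlg B π)) := by
  intro hle
  have hp := Lib.Lead.NodeB.pow_regular (Lib.Lead.NodeB.pi_regular π hπ) j
  have h1 := hle (Lib.Lead.NodeB.mem_fixIdeal σ (ArLef.NodeAlg.t π))
  have h2 := hle (Lib.Lead.NodeB.mem_fixIdeal σ (ArLef.NodeAlg.e π))
  obtain ⟨u, hu⟩ := Ideal.mem_span_singleton'.mp h1
  obtain ⟨v, hv⟩ := Ideal.mem_span_singleton'.mp h2
  rw [map_pow] at hu hv
  have hte := Lib.Lead.NodeB.t_mul_e π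
  have h3 : σ (ArLef.NodeAlg.t π) * σ (ArLef.NodeAlg.e π) =
      algebraMap B (ArLef.NodeAlg B π) π +
        algebraMap B (ArLef.NodeAlg B π) γ * algebraMap B (ArLef.NodeAlg B π) π ^ j := by
    rw [← map_mul, hte, hσ, map_add, map_mul, map_pow]
  have h4 : algebraMap B (ArLef.NodeAlg B π) π ^ j *
      (ArLef.NodeAlg.t π * v + ArLef.NodeAlg.e π * u +
        u * v * algebraMap B (ArLef.NodeAlg B π) π ^ j - algebraMap B (ArLef.NodeAlg B π) γ) = 0 := by
    have e1 : σ (ArLef.NodeAlg.t π) = ArLef.NodeAlg.t π + u * algebraMap B (ArLef.NodeAlg B π) π ^ j := by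
      rw [hu]; ring
    have e2 : σ (ArLef.NodeAlg.e π) = ArLef.NodeAlg.e π + v * algebraMap B (ArLef.NodeAlg B π) π ^ j := by
      rw [hv]; ring
    rw [e1, e2] at h3
    linear_combination h3 - hte
  have h5 := hp _ h4
  have h6 : algebraMap B (ArLef.NodeAlg B π) γ = ArLef.NodeAlg.t π * v + ArLef.NodeAlg.e π * u +
      u * v * algebraMap B (ArLef.NodeAlg B π) π ^ j := (sub_eq_zero.mp h5).symm
  have h7 : algebraMap B (ArLef.NodeAlg B π) γ ∈
      Ideal.span {ArLef.NodeAlg.t π, ArLef.NodeAlg.e π} := by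
    rw [h6]
    refine Ideal.add_mem _ (Ideal.add_mem _ ?_ ?_) ?_
    · exact Ideal.mul_mem_right _ _ (Ideal.subset_span (by simp))
    · exact Ideal.mul_mem_right _ _ (Ideal.subset_span (by simp))
    · obtain ⟨j', rfl⟩ : ∃ j', j = j' + 1 := ⟨j - 1, by omega⟩
      rw [pow_succ, ← hte]
      refine Ideal.mul_mem_left _ _ (Ideal.mul_mem_left _ _ ?_)
      exact Ideal.mul_mem_right _ _ (Ideal.subset_span (by simp))
  exact Lib.Lead.NodeB.not_isUnit_of_mem π hπ h7 (hγ.map _)

end Groth.Agent.S15319
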