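import Groth.Statements.S15320
import Groth.Agent.Lib.Lead.NodeB

set_option autoImplicit false
universe u
open ArLef ArLef.NodeAlg

namespace Groth.Agent.S15320

open Groth.Agent.Lib.Lead.NodeB

section work

variable {B : Type u} [CommRing B] [IsDomain B] [IsDiscreteValuationRing B] (π : B)
  (hπ : Irreducible π)

local notation "NN" => ArLef.NodeAlg B π
local notation "𝔱" => ArLef.NodeAlg.t π
local notation "𝔢" => ArLef.NodeAlg.e π
local notation "ι" => algebraMap B (ArLef.NodeAlg B π)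

include hπ

theorem main (j : ℕ) (hj : 1 ≤ j) (γ : B) (hγ : IsUnit γ) (σ : NN ≃+* NN)
    (hσB : ∀ b : B, σ (ι b) - ι b ∈ Ideal.span ({ι (π ^ j)} : Set NN))
    (hσπ : σ (ι π) = ι (π + γ * π ^ j))
    (ht : Associated (σ 𝔱) 𝔢) (he : Associated (σ 𝔢) 𝔱) :
    (∀ g : NN, ArLef.fixIdeal σ ≤ Ideal.span ({g} : Set NN) → IsUnit g) ∧
      Module.length NN (NN ⧸ ArLef.fixIdeal σ) = ((2 * j - 1 : ℕ) : ℕ∞) := by
  obtain ⟨α, hT⟩ : ∃ α : (NN)ˣ, σ 𝔱 = (α : NN) * 𝔢 := by
    obtain ⟨u, hu⟩ := ht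
    exact ⟨u⁻¹, ((Units.eq_mul_inv_iff_mul_eq u).mpr hu).trans (mul_comm _ _)⟩
  obtain ⟨β, hE⟩ : ∃ β : (NN)ˣ, σ 𝔢 = (β : NN) * 𝔱 := by
    obtain ⟨u, hu⟩ := he
    exact ⟨u⁻¹, ((Units.eq_mul_inv_iff_mul_eq u).mpr hu).trans (mul_comm _ _)⟩
  obtain ⟨j', rfl⟩ : ∃ j', j = j' + 1 := ⟨j - 1, by omega⟩
  have hte := t_mul_e π
  have hpe := prime_e π hπ
  have ereg := e_regular π hπ
  have hγu : IsUnit (ι γ) := hγ.map _
  have hαβ : (α : NN) * β = 1 + ι γ * ι π ^ j' := by
    have h1 : ι π * ((α : NN) * β - (1 + ι γ * ι π ^ j')) = 0 := by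
      have h2 : σ 𝔱 * σ 𝔢 = ι π + ι γ * ι π ^ (j' + 1) := by
        rw [← map_mul, hte, hσπ, map_add, map_mul, map_pow]
      rw [hT, hE] at h2
      have h3 : (α : NN) * 𝔢 * ((β : NN) * 𝔱) = (𝔱 * 𝔢) * ((α : NN) * β) := by ring
      rw [h3, hte, pow_succ] at h2
      linear_combination h2
    exact sub_eq_zero.mp (pi_regular π hπ _ h1)
  have heh : ¬ 𝔢 ∣ (α : NN) * 𝔢 - 𝔱 := by
    intro hd
    have h1 : 𝔢 ∣ 𝔱 := by
      have := dvd_sub (Dvd.intro_left (α : NN) rfl : 𝔢 ∣ (α : NN) * 𝔢) hd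
      rwa [sub_sub_cancel] at this
    exact e_not_dvd_t π hπ h1
  obtain ⟨d, hd⟩ := sub_dvd_pow_sub_pow 𝔱 ((α : NN) * 𝔢) j'
  have hQ : ι π ^ j' * 𝔢 = (α : NN) ^ j' * 𝔢 ^ (2 * j' + 1) -
      ((α : NN) * 𝔢 - 𝔱) * (d * 𝔢 ^ (j' + 1)) := by
    rw [← hte]; linear_combination (𝔢 ^ j' * 𝔢) * hd
  have hQJ : ι π ^ j' * 𝔢 ∈ Ideal.span ({(α : NN) * 𝔢 - 𝔱} : Set NN) ⊔
      Ideal.span ({𝔢 ^ (2 * j' + 1)} : Set NN) := by
    rw [hQ]
    exact Submodule.sub_mem _
      (Submodule.mem_sup_right (Ideal.mul_mem_left _ _ (Ideal.mem_span_singleton_self _)))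
      (Submodule.mem_sup_left (Ideal.mul_mem_right _ _ (Ideal.mem_span_singleton_self _)))
  have hE' : σ 𝔢 - 𝔢 = -(β : NN) * ((α : NN) * 𝔢 - 𝔱) + ι γ * (ι π ^ j' * 𝔢) := by
    rw [hE]; linear_combination 𝔢 * hαβ
  have hF : ArLef.fixIdeal σ = Ideal.span ({(α : NN) * 𝔢 - 𝔱} : Set NN) ⊔
      Ideal.span ({𝔢 ^ (2 * j' + 1)} : Set NN) := by
    apply le_antisymm
    · apply fixIdeal_le π hπ σ
      · intro c
        obtain ⟨w, hw⟩ := Ideal.mem_span_singleton'.mp (hσB c)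
        have h1 : w * ι (π ^ (j' + 1)) = (w * 𝔱) * (ι π ^ j' * 𝔢) := by
          rw [map_pow, pow_succ, ← hte]; ring
        rw [← hw, h1]
        exact Ideal.mul_mem_left _ _ hQJ
      · rw [hT]; exact Submodule.mem_sup_left (Ideal.mem_span_singleton_self _)
      · rw [hE']
        exact Submodule.add_mem _
          (Submodule.mem_sup_left (Ideal.mul_mem_left _ _ (Ideal.mem_span_singleton_self _)))
          (Ideal.mul_mem_left _ _ hQJ)
    · have h1 : (α : NN) * 𝔢 - 𝔱 ∈ ArLef.fixIdeal σ := by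
        have : (α : NN) * 𝔢 - 𝔱 = σ 𝔱 - 𝔱 := by rw [hT]
        rw [this]; exact mem_fixIdeal σ _
      have h2 : ι π ^ j' * 𝔢 ∈ ArLef.fixIdeal σ := by
        have h3 : ι γ * (ι π ^ j' * 𝔢) = (σ 𝔢 - 𝔢) + (β : NN) * ((α : NN) * 𝔢 - 𝔱) := by
          rw [hE']; ring
        have h4 : ι γ * (ι π ^ j' * 𝔢) ∈ ArLef.fixIdeal σ := by
          rw [h3]
          exact Ideal.add_mem _ (mem_fixIdeal σ _) (Ideal.mul_mem_left _ _ h1)
        exact (Ideal.unit_mul_mem_iff_mem _ hγu).mp h4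
      have h5 : (α : NN) ^ j' * 𝔢 ^ (2 * j' + 1) ∈ ArLef.fixIdeal σ := by
        have : (α : NN) ^ j' * 𝔢 ^ (2 * j' + 1) =
            ι π ^ j' * 𝔢 + ((α : NN) * 𝔢 - 𝔱) * (d * 𝔢 ^ (j' + 1)) := by rw [hQ]; ring
        rw [this]
        exact Ideal.add_mem _ h2 (Ideal.mul_mem_right _ _ h1)
      have h6 : 𝔢 ^ (2 * j' + 1) ∈ ArLef.fixIdeal σ :=
        (Ideal.unit_mul_mem_iff_mem _ (α.isUnit.pow j')).mp h5
      refine sup_le ?_ ?_
      · rw [Ideal.span_le, Set.singleton_subset_iff]; exact h1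
      · rw [Ideal.span_le, Set.singleton_subset_iff]; exact h6
  constructor
  · intro g hg
    rw [hF] at hg
    have h1 : (α : NN) * 𝔢 - 𝔱 ∈ Ideal.span ({g} : Set NN) :=
      hg (Submodule.mem_sup_left (Ideal.mem_span_singleton_self _))
    have h2 : 𝔢 ^ (2 * j' + 1) ∈ Ideal.span ({g} : Set NN) :=
      hg (Submodule.mem_sup_right (Ideal.mem_span_singleton_self _))
    rw [Ideal.mem_span_singleton] at h1 h2
    rcases isUnit_or_dvd_of_dvd_pow hpe ereg _ h2 with hu | hd'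
    · exact hu
    · exact absurd (dvd_trans hd' h1) heh
  · have hy : ∀ w, 𝔢 * w ∈ Ideal.span ({(α : NN) * 𝔢 - 𝔱} : Set NN) →
        w ∈ Ideal.span ({(α : NN) * 𝔢 - 𝔱} : Set NN) := by
      intro w hw
      obtain ⟨c, hc⟩ := Ideal.mem_span_singleton'.mp hw
      have h1 : 𝔢 ∣ c * ((α : NN) * 𝔢 - 𝔱) := ⟨w, hc⟩
      rcases hpe.dvd_or_dvd h1 with h2 | h2
      swap
      · exact absurd h2 heh
      obtain ⟨c', rfl⟩ := h2
      have h3 : w = c' * ((α : NN) * 𝔢 - 𝔱) := by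
        apply cancel_of_regular ereg
        rw [← hc]; ring
      rw [h3]; exact Ideal.mul_mem_left _ _ (Ideal.mem_span_singleton_self _)
    have hsup : Ideal.span ({(α : NN) * 𝔢 - 𝔱} : Set NN) ⊔ Ideal.span ({𝔢} : Set NN) =
        Ideal.span ({𝔱, 𝔢} : Set NN) := by
      apply le_antisymm
      · refine sup_le ?_ ?_
        · rw [Ideal.span_le, Set.singleton_subset_iff]
          exact Ideal.sub_mem _ (Ideal.mul_mem_left _ _ (Ideal.subset_span (by simp)))
            (Ideal.subset_span (by simp))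
        · rw [Ideal.span_le, Set.singleton_subset_iff]; exact Ideal.subset_span (by simp)
      · rw [Ideal.span_le]
        intro x hx
        simp only [Set.mem_insert_iff, Set.mem_singleton_iff] at hx
        rcases hx with rfl | rfl
        · have h1 : (α : NN) * 𝔢 - ((α : NN) * 𝔢 - 𝔱) ∈
              Ideal.span ({(α : NN) * 𝔢 - 𝔱} : Set NN) ⊔ Ideal.span ({𝔢} : Set NN) :=
            Submodule.sub_mem _
              (Submodule.mem_sup_right (Ideal.mul_mem_left _ _ (Ideal.mem_span_singleton_self _)))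
              (Submodule.mem_sup_left (Ideal.mem_span_singleton_self _))
          rw [sub_sub_cancel] at h1; exact h1
        · exact Submodule.mem_sup_right (Ideal.mem_span_singleton_self _)
    have hnum : 2 * (j' + 1) - 1 = 2 * j' + 1 := by omega
    rw [hF, length_sup_pow _ 𝔢 hy (2 * j' + 1), hsup, length_quot_span_te π hπ, mul_one, hnum]

end work

/-- Let B be a discrete valuation ring with uniformizer π, N = B[[t, e]]/(te - π) the complete local
ring of a semi-stable arithmetic surface over B at a singular point x of the closed fibre, and σ a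
ring automorphism of N over an automorphism τ of B with v(τ(π) - π) = j ≥ 1, that is σ(π) = π + γ
π^j with γ a unit of B, and with σ(b) - b ∈ π^j N for every b ∈ B (automatic when B is totally
ramified over the fixed ring of τ, as in the published setting, where the residue field is
algebraically closed). If σ switches the two branches through x (σ(t) associated to e and σ(e) to
t), then the fixed-point ideal I of σ is contained in no proper principal ideal (x is not on the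
divisorial part of the fixed locus) and N/I has length 2j - 1 (the multiplicity of x in the residual
fixed-point scheme). -/
theorem result (B : Type u) [CommRing B] [IsDomain B] [IsDiscreteValuationRing B] (π : B) (hπ : Irreducible π)
    (j : ℕ) (hj : 1 ≤ j) (γ : B) (hγ : IsUnit γ)
    (σ : ArLef.NodeAlg B π ≃+* ArLef.NodeAlg B π)
    (hσB : ∀ b : B, σ (algebraMap B (ArLef.NodeAlg B π) b) - algebraMap B (ArLef.NodeAlg B π) b ∈
      Ideal.span ({algebraMap B (ArLef.NodeAlg B π) (π ^ j)} : Set (ArLef.NodeAlg B π)))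
    (hσπ : σ (algebraMap B (ArLef.NodeAlg B π) π) = algebraMap B (ArLef.NodeAlg B π) (π + γ * π ^ j))
    (ht : Associated (σ (ArLef.NodeAlg.t π)) (ArLef.NodeAlg.e π)) (he : Associated (σ (ArLef.NodeAlg.e π)) (ArLef.NodeAlg.t π)) :
    (∀ g : ArLef.NodeAlg B π, ArLef.fixIdeal σ ≤ Ideal.span ({g} : Set (ArLef.NodeAlg B π)) → IsUnit g) ∧
      Module.length (ArLef.NodeAlg B π) (ArLef.NodeAlg B π ⧸ ArLef.fixIdeal σ) = ((2 * j - 1 : ℕ) : ℕ∞) := by
  exact main π hπ j hj γ hγ σ hσB hσπ ht he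

end Groth.Agent.S15320
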