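import Groth.Statements.S15321
import Groth.Agent.Lib.Lead.PowSerFix

set_option autoImplicit false
universe u
open ArLef

namespace Groth.Agent.S15321

/-- In the case of a smooth point with the closed fibre outside the divisorial part, let B be a discrete
valuation ring with uniformizer π and residue field k, B[[t]] the complete local ring of a
semi-stable arithmetic surface over B at a point x where the closed fibre is smooth, and σ a ring
automorphism of B[[t]] over an automorphism τ of B with v(τ(π) - π) = j ≥ 1, that is σ(π) = π + γ
π^j with γ a unit, and σ(b) - b ∈ π^j B[[t]] for all b ∈ B (automatic for B totally ramified over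
the fixed ring of τ, as in the published setting). If π does not divide f = σ(t) - t (the closed
fibre is not in the divisorial part of the fixed locus near x), then the length of B[[t]] modulo the
fixed-point ideal of σ is j m, where m, the length of k[[t]]/(f mod π), is the multiplicity of x as
a fixed point of σ on the closed fibre. -/
theorem result (B : Type u) [CommRing B] [IsDomain B] [IsDiscreteValuationRing B] (π : B) (hπ : Irreducible π)
    (j : ℕ) (hj : 1 ≤ j) (γ : B) (hγ : IsUnit γ)
    (σ : PowerSeries B ≃+* PowerSeries B)
    (hσB : ∀ b : B, σ (algebraMap B (PowerSeries B) b) - algebraMap B (PowerSeries B) b ∈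
      Ideal.span ({algebraMap B (PowerSeries B) (π ^ j)} : Set (PowerSeries B)))
    (hσπ : σ (algebraMap B (PowerSeries B) π) = algebraMap B (PowerSeries B) (π + γ * π ^ j))
    (h0 : ¬ (algebraMap B (PowerSeries B) π ∣ σ PowerSeries.X - PowerSeries.X)) :
    Module.length (PowerSeries B) (PowerSeries B ⧸ ArLef.fixIdeal σ) =
      (j : ℕ∞) * Module.length (PowerSeries (IsLocalRing.ResidueField B)) (PowerSeries (IsLocalRing.ResidueField B) ⧸
        Ideal.span ({PowerSeries.map (IsLocalRing.residue B) (σ PowerSeries.X - PowerSeries.X)} : Set (PowerSeries (IsLocalRing.ResidueField B)))) := by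
  have hσB' : ∀ b : B, σ (PowerSeries.C b) - PowerSeries.C b ∈
      Ideal.span {(PowerSeries.C π ^ j : PowerSeries B)} := by
    intro b
    have h := hσB b
    rwa [Lib.Lead.PowSerFix.algebraMap_eq_C, Lib.Lead.PowSerFix.algebraMap_eq_C, map_pow] at h
  have hσπ' : σ (PowerSeries.C π) = PowerSeries.C (π + γ * π ^ j) := by
    rw [← Lib.Lead.PowSerFix.algebraMap_eq_C, ← Lib.Lead.PowSerFix.algebraMap_eq_C]; exact hσπ
  have h0' : ¬ PowerSeries.C π ∣ σ PowerSeries.X - PowerSeries.X := by
    rwa [Lib.Lead.PowSerFix.algebraMap_eq_C] at h0
  rw [Lib.Lead.PowSerFix.fixIdeal_eq π j γ hγ σ hσB' hσπ']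
  exact Lib.Lead.PowSerFix.length_Ipf' π hπ _ h0' j

end Groth.Agent.S15321
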