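import Groth.Statements.S15323
import Groth.Agent.Lib.Lead.NodeLen

set_option autoImplicit false
universe u
open ArLef ArLef.NodeAlg

namespace Groth.Agent.S15323

open Groth.Agent.Lib.Lead.NodeB

section work

variable {B : Type u} [CommRing B] [IsDomain B] [IsDiscreteValuationRing B] (π : B)
  (hπ : Irreducible π)

local notation "NN" => ArLef.NodeAlg B π
local notation "𝔱" => ArLef.NodeAlg.t π
local notation "𝔢" => ArLef.NodeAlg.e π
local notation "ι" => algebraMap B (ArLef.NodeAlg B π)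

include hπ

theorem main (j : ℕ) (hj : 1 ≤ j) (γ : B) (hγ : IsUnit γ) (σ : NN ≃+* NN)
    (hσB : ∀ b : B, σ (ι b) - ι b ∈ Ideal.span ({ι (π ^ j)} : Set NN))
    (hσπ : σ (ι π) = ι (π + γ * π ^ j))
    (α β : (NN)ˣ) (ht : σ 𝔱 = (α : NN) * 𝔱) (he : σ 𝔢 = (β : NN) * 𝔢)
    (htb : ¬ (𝔱 ∣ (β : NN) - 1)) (hea : ¬ (𝔢 ∣ (α : NN) - 1)) :
    Module.length NN (NN ⧸ ArLef.fixIdeal σ) =
      (j : ℕ∞) * (Module.length NN (NN ⧸ Ideal.span ({𝔱, (β : NN) - 1} : Set NN)) +
        Module.length NN (NN ⧸ Ideal.span ({𝔢, (α : NN) - 1} : Set NN))) + 1 := by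
  obtain ⟨j', rfl⟩ : ∃ j', j = j' + 1 := ⟨j - 1, by omega⟩
  have hte := t_mul_e π
  have treg := t_regular π hπ
  have ereg := e_regular π hπ
  have hγu : IsUnit (ι γ) := hγ.map _
  have hαβ : (α : NN) * β = 1 + ι γ * ι π ^ j' := by
    have h1 : ι π * ((α : NN) * β - (1 + ι γ * ι π ^ j')) = 0 := by
      have h2 : σ 𝔱 * σ 𝔢 = ι π + ι γ * ι π ^ (j' + 1) := by
        rw [← map_mul, hte, hσπ, map_add, map_mul, map_pow]
      rw [ht, he] at h2
      have h3 : (α : NN) * 𝔱 * ((β : NN) * 𝔢) = (𝔱 * 𝔢) * ((α : NN) * β) := by ring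
      rw [h3, hte, pow_succ] at h2
      linear_combination h2
    exact sub_eq_zero.mp (pi_regular π hπ _ h1)
  have hpiF : ι γ * ι (π ^ (j' + 1)) ∈ ArLef.fixIdeal σ := by
    have h1 : ι γ * ι (π ^ (j' + 1)) = σ (ι π) - ι π := by
      rw [hσπ, map_add, map_mul]; ring
    rw [h1]; exact mem_fixIdeal σ _
  have hpiF' : ι (π ^ (j' + 1)) ∈ ArLef.fixIdeal σ := (Ideal.unit_mul_mem_iff_mem _ hγu).mp hpiF
  have hpow : ι (π ^ (j' + 1)) = 𝔱 ^ (j' + 1) * 𝔢 ^ (j' + 1) := by
    rw [map_pow, ← hte, mul_pow]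
  have hF : ArLef.fixIdeal σ = Ideal.span ({𝔱 ^ (j' + 1) * 𝔢 ^ (j' + 1), 𝔱 * ((α : NN) - 1),
      𝔢 * ((β : NN) - 1)} : Set NN) := by
    apply le_antisymm
    · apply fixIdeal_le π hπ σ
      · intro c
        obtain ⟨w, hw⟩ := Ideal.mem_span_singleton'.mp (hσB c)
        rw [← hw, hpow]
        exact Ideal.mul_mem_left _ _ (Ideal.subset_span (by simp))
      · have : σ 𝔱 - 𝔱 = 𝔱 * ((α : NN) - 1) := by rw [ht]; ring
        rw [this]; exact Ideal.subset_span (by simp)
      · have : σ 𝔢 - 𝔢 = 𝔢 * ((β : NN) - 1) := by rw [he]; ring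
        rw [this]; exact Ideal.subset_span (by simp)
    · rw [Ideal.span_le]
      intro x hx
      simp only [Set.mem_insert_iff, Set.mem_singleton_iff] at hx
      rcases hx with rfl | rfl | rfl
      · rw [← hpow]; exact hpiF'
      · have : 𝔱 * ((α : NN) - 1) = σ 𝔱 - 𝔱 := by rw [ht]; ring
        rw [this]; exact mem_fixIdeal σ _
      · have : 𝔢 * ((β : NN) - 1) = σ 𝔢 - 𝔢 := by rw [he]; ring
        rw [this]; exact mem_fixIdeal σ _
  have hrel : ((β : NN) - 1) * α = ι γ * 𝔱 ^ j' * 𝔢 ^ j' - ((α : NN) - 1) := by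
    rw [← hte, mul_pow] at hαβ
    linear_combination hαβ
  rw [hF, length_G π hπ j' j' ((α : NN) - 1) ((β : NN) - 1) α (ι γ) α.isUnit hrel htb hea]
  ring

end work

/-- In the cases where the branches through the point do not lie in the divisorial part of the fixed
locus, let B be a discrete valuation ring with uniformizer π, N = B[[t, e]]/(te - π) the complete
local ring of a semi-stable arithmetic surface over B at a singular point x of the closed fibre, and
σ a ring automorphism of N with σ(π) = π + γ π^j (γ a unit of B, j ≥ 1) and σ(b) - b ∈ π^j N for all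
b ∈ B (σ lies over an automorphism τ of B with v(τ(π) - π) = j, B totally ramified over the fixed
ring as in the published setting). Suppose σ fixes the branches, σ(t) = α t and σ(e) = β e with
units α, β, and that t does not divide β - 1 and e does not divide α - 1. Then the length of N
modulo the fixed-point ideal of σ (the multiplicity of x in the residual fixed-point scheme) is j
(s₁ + s₂) + 1, where s₁ = length N/(t, β - 1) and s₂ = length N/(e, α - 1) are the fixed-point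
multiplicities of σ at x along the two branches, each lowered by one. -/
theorem result (B : Type u) [CommRing B] [IsDomain B] [IsDiscreteValuationRing B] (π : B) (hπ : Irreducible π)
    (j : ℕ) (hj : 1 ≤ j) (γ : B) (hγ : IsUnit γ)
    (σ : ArLef.NodeAlg B π ≃+* ArLef.NodeAlg B π)
    (hσB : ∀ b : B, σ (algebraMap B (ArLef.NodeAlg B π) b) - algebraMap B (ArLef.NodeAlg B π) b ∈
      Ideal.span ({algebraMap B (ArLef.NodeAlg B π) (π ^ j)} : Set (ArLef.NodeAlg B π)))
    (hσπ : σ (algebraMap B (ArLef.NodeAlg B π) π) = algebraMap B (ArLef.NodeAlg B π) (π + γ * π ^ j))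
    (α β : (ArLef.NodeAlg B π)ˣ) (ht : σ (ArLef.NodeAlg.t π) = (α : ArLef.NodeAlg B π) * ArLef.NodeAlg.t π) (he : σ (ArLef.NodeAlg.e π) = (β : ArLef.NodeAlg B π) * ArLef.NodeAlg.e π)
    (htb : ¬ (ArLef.NodeAlg.t π ∣ (β : ArLef.NodeAlg B π) - 1)) (hea : ¬ (ArLef.NodeAlg.e π ∣ (α : ArLef.NodeAlg B π) - 1)) :
    Module.length (ArLef.NodeAlg B π) (ArLef.NodeAlg B π ⧸ ArLef.fixIdeal σ) =
      (j : ℕ∞) * (Module.length (ArLef.NodeAlg B π) (ArLef.NodeAlg B π ⧸ Ideal.span ({ArLef.NodeAlg.t π, (β : ArLef.NodeAlg B π) - 1} : Set (ArLef.NodeAlg B π))) +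
        Module.length (ArLef.NodeAlg B π) (ArLef.NodeAlg B π ⧸ Ideal.span ({ArLef.NodeAlg.e π, (α : ArLef.NodeAlg B π) - 1} : Set (ArLef.NodeAlg B π)))) + 1 := by
  exact main π hπ j hj γ hγ σ hσB hσπ α β ht he htb hea

end Groth.Agent.S15323
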